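import Groth.Statements.S14698
import Mathlib
import Groth.Agent.Lib.Helper6Stein
import Groth.Agent.Lib.Helper16GoingDownSch
import Groth.Agent.Lib.Helper23ZarConnB3
import Groth.Agent.Lib.Helper23ZarConnB4
import Groth.Agent.Lib.Helper27ProjSpaceFibres
import Groth.Agent.Lib.Helper4VarDim6
import Groth.Agent.S7899
-- import your own Groth.Agent.* helpers here

set_option autoImplicit false
set_option linter.style.haveILetI false
set_option linter.unusedSectionVars false
universe u
open CategoryTheory CategoryTheory.Limits AlgebraicGeometry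
open Resolve

namespace Groth.Agent.S14698

theorem isIso_app_congr {X Y : Scheme.{u}} (f : X ⟶ Y) {V₁ V₂ : Y.Opens} (h : V₁ = V₂)
    (h1 : IsIso (f.app V₁)) : IsIso (f.app V₂) := by
  subst h; exact h1

theorem isIso_app_of_le_of_isIso_restrict {X Y : Scheme.{u}} (f : X ⟶ Y) (U : Y.Opens)
    [IsIso (f ∣_ U)] (V : Y.Opens) (hV : V ≤ U) : IsIso (f.app V) := by
  have h1 : IsIso ((f ∣_ U).app (U.ι ⁻¹ᵁ V)) := inferInstance
  rw [morphismRestrict_app] at h1
  haveI := h1
  haveI : IsIso (X.presheaf.map (eqToHom (image_morphismRestrict_preimage f U (U.ι ⁻¹ᵁ V))).op) :=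
    inferInstance
  have h2 : IsIso (f.app (U.ι ''ᵁ U.ι ⁻¹ᵁ V)) :=
    @IsIso.of_isIso_comp_right _ _ _ _ _ _ _ this h1
  refine isIso_app_congr f ?_ h2
  rw [Scheme.Hom.image_preimage_eq_opensRange_inf, Scheme.Opens.opensRange_ι]
  exact inf_eq_right.2 hV

theorem bijective_app_of_birational {X Y : Scheme.{u}} [IsIntegral X] [IsIntegral Y]
    [IsLocallyNoetherian X] (φ : Y ⟶ X) [IsProper φ]
    (hnorm : ∀ x : X, IsIntegrallyClosed (X.presheaf.stalk x))
    (U : X.Opens) (hU : (U : Set X).Nonempty) [IsIso (φ ∣_ U)]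
    (V : X.Opens) (hV : IsAffineOpen V) (hVne : (V : Set X).Nonempty) :
    Function.Bijective (φ.app V) := by
  -- W = V ⊓ U
  have hWne : ((V ⊓ U : X.Opens) : Set X).Nonempty :=
    nonempty_preirreducible_inter V.isOpen U.isOpen hVne hU
  set W : X.Opens := V ⊓ U with hW
  haveI : Nonempty V := hVne.to_subtype
  haveI : Nonempty W := hWne.to_subtype
  have hWU : W ≤ U := inf_le_right
  have hWV : W ≤ V := inf_le_left
  haveI hisoW : IsIso (φ.app W) := isIso_app_of_le_of_isIso_restrict φ U W hWU
  have hbijW : Function.Bijective (φ.app W) := ConcreteCategory.bijective_of_isIso _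
  -- preimage of W nonempty
  have hpre : ((φ ⁻¹ᵁ W : Y.Opens) : Set Y).Nonempty := by
    obtain ⟨w, hw⟩ := hWne
    obtain ⟨y, hy⟩ := (ConcreteCategory.bijective_of_isIso (φ ∣_ U).base).2 ⟨w, hWU hw⟩
    refine ⟨y.1, ?_⟩
    change φ y.1 ∈ W
    have : φ y.1 = w := (morphismRestrict_base_coe φ U y).symm.trans (congrArg Subtype.val hy)
    rw [this]; exact hw
  haveI : Nonempty (φ ⁻¹ᵁ W : Y.Opens) := hpre.to_subtype
  have hnat : φ.app V ≫ Y.presheaf.map (homOfLE (φ.preimage_mono hWV)).op =
      X.presheaf.map (homOfLE hWV).op ≫ φ.app W := (φ.naturality (homOfLE hWV).op).symm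
  have hinjX : Function.Injective (X.presheaf.map (homOfLE hWV).op) :=
    map_injective_of_isIntegral X (homOfLE hWV)
  have hinjY : Function.Injective (Y.presheaf.map (homOfLE (φ.preimage_mono hWV)).op) :=
    map_injective_of_isIntegral Y (homOfLE (φ.preimage_mono hWV))
  constructor
  · -- injective
    intro a b hab
    apply hinjX
    apply hbijW.1
    have := congrArg (fun z => (Y.presheaf.map (homOfLE (φ.preimage_mono hWV)).op) z) hab
    have e : ∀ z, (φ.app W) ((X.presheaf.map (homOfLE hWV).op) z) =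
        (Y.presheaf.map (homOfLE (φ.preimage_mono hWV)).op) ((φ.app V) z) := by
      intro z
      have := congrArg (fun f => f.hom z) hnat
      exact this.symm
    rw [e, e]; exact this
  · intro b
    have e : ∀ z, (φ.app W) ((X.presheaf.map (homOfLE hWV).op) z) =
        (Y.presheaf.map (homOfLE (φ.preimage_mono hWV)).op) ((φ.app V) z) := by
      intro z
      have := congrArg (fun f => f.hom z) hnat
      exact this.symm
    have ecomp : (φ.app W).hom.comp (X.presheaf.map (homOfLE hWV).op).hom =
        (Y.presheaf.map (homOfLE (φ.preimage_mono hWV)).op).hom.comp (φ.app V).hom := by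
      ext z; exact e z
    have hfin : (φ.app V).hom.Finite := Groth.Agent.Lib.Helper6.Stein.finite_app_of_isProper φ V hV
    obtain ⟨p, hpm, hp0⟩ := hfin.to_isIntegral b
    obtain ⟨c, hc⟩ := hbijW.2 ((Y.presheaf.map (homOfLE (φ.preimage_mono hWV)).op) b)
    have hc0 : Polynomial.eval₂ (X.presheaf.map (homOfLE hWV).op).hom c p = 0 := by
      apply hbijW.1
      change (φ.app W).hom _ = (φ.app W).hom _
      rw [map_zero, Polynomial.hom_eval₂, ecomp]
      change Polynomial.eval₂ _ ((φ.app W) c) p = 0
      rw [hc]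
      change Polynomial.eval₂ _ ((Y.presheaf.map (homOfLE (φ.preimage_mono hWV)).op).hom b) p = 0
      rw [← Polynomial.hom_eval₂, hp0, map_zero]
    haveI : IsDomain Γ(X, V) := IsIntegral.component_integral V
    haveI : IsIntegrallyClosed Γ(X, V) :=
      Groth.Agent.Lib.Helper16GoingDownSch.isIntegrallyClosed_sections hnorm V hV
    haveI : IsFractionRing Γ(X, V) X.functionField := functionField_isFractionRing_of_isAffineOpen X V hV
    have hgerm : (X.germToFunctionField V).hom =
        (X.germToFunctionField W).hom.comp (X.presheaf.map (homOfLE hWV).op).hom := by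
      ext z
      exact (TopCat.Presheaf.germ_res_apply X.presheaf (homOfLE hWV) _ _ z).symm
    have hκ : IsIntegral Γ(X, V) ((X.germToFunctionField W) c) := by
      refine ⟨p, hpm, ?_⟩
      change Polynomial.eval₂ (X.germToFunctionField V).hom _ p = 0
      rw [hgerm]
      change Polynomial.eval₂ _ ((X.germToFunctionField W).hom c) p = 0
      rw [← Polynomial.hom_eval₂, hc0, map_zero]
    obtain ⟨a, ha⟩ := IsIntegrallyClosed.isIntegral_iff.1 hκ
    refine ⟨a, ?_⟩
    apply hinjY
    rw [← e]
    have hac : (X.presheaf.map (homOfLE hWV).op) a = c := by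
      apply X.germToFunctionField_injective W
      have h1 := congrArg (fun f => f a) hgerm
      exact h1.symm.trans ha
    rw [hac, hc]

theorem isIso_app_of_birational {X Y : Scheme.{u}} [IsIntegral X] [IsIntegral Y]
    [IsLocallyNoetherian X] (φ : Y ⟶ X) [IsProper φ]
    (hnorm : ∀ x : X, IsIntegrallyClosed (X.presheaf.stalk x))
    (U : X.Opens) (hU : (U : Set X).Nonempty) [IsIso (φ ∣_ U)] :
    ∀ V : X.Opens, IsIso (φ.app V) := by
  refine Groth.Agent.Lib.Helper23.ZarConnB3.isIso_app_of_basis φ
    (fun V : X.affineOpens => V.1) ?_ ?_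
  · have := X.isBasis_affineOpens
    rwa [← Subtype.range_coe (s := X.affineOpens)] at this
  · intro V
    by_cases hne : ((V.1 : X.Opens) : Set X).Nonempty
    · exact (ConcreteCategory.isIso_iff_bijective _).2
        (bijective_app_of_birational φ hnorm U hU V.1 V.2 hne)
    · have hbot : V.1 = ⊥ := by
        ext z
        simp only [TopologicalSpace.Opens.coe_bot, Set.mem_empty_iff_false, iff_false]
        exact fun hz => hne ⟨z, hz⟩
      refine isIso_app_congr φ hbot.symm ?_
      have h1 : φ ⁻¹ᵁ (⊥ : X.Opens) = ⊥ := rfl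
      haveI : Subsingleton Γ(Y, φ ⁻¹ᵁ (⊥ : X.Opens)) := by rw [h1]; infer_instance
      exact (ConcreteCategory.isIso_iff_bijective _).2
        ⟨fun a b _ => Subsingleton.elim _ _, fun b => ⟨0, Subsingleton.elim _ _⟩⟩

theorem isIso_restrict_of_finite_fibre {X Y : Scheme.{u}} (φ : Y ⟶ X) [IsProper φ]
    (hO : ∀ V : X.Opens, IsIso (φ.app V)) (x : X) (hfin : (φ ⁻¹' {x}).Finite) :
    ∃ V : X.Opens, x ∈ V ∧ IsIso (φ ∣_ V) := by
  obtain ⟨V, hxV, hfinV⟩ := exists_isFinite_morphismRestrict_of_finite_preimage_singleton φ x hfin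
  refine ⟨V, hxV, ?_⟩
  haveI : IsAffineHom (φ ∣_ V) := inferInstance
  refine IsZariskiLocalAtTarget.of_iSup_eq_top (P := MorphismProperty.isomorphisms Scheme)
    (fun W : (V : Scheme.{u}).affineOpens => W.1) (iSup_affineOpens_eq_top _) ?_
  intro W
  change IsIso ((φ ∣_ V) ∣_ W.1)
  rw [isIso_morphismRestrict_iff_isIso_app (φ ∣_ V) W.2, morphismRestrict_app]
  have h1 : IsIso (φ.app (V.ι ''ᵁ W.1)) := hO _
  have h2 : ∀ {A B : Y.Opens} (h : A = B), IsIso (Y.presheaf.map (eqToHom h).op) := by
    intro A B h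
    subst h
    simp only [eqToHom_refl, op_id, CategoryTheory.Functor.map_id]
    infer_instance
  exact IsIso.comp_isIso' h1 (h2 _)

theorem isClosed_singleton_of_mem_finite_closed {α : Type*} [TopologicalSpace α] [JacobsonSpace α]
    (T : Set α) (hT : IsClosed T) (hfin : T.Finite) (x : α) (hx : x ∈ T) :
    IsClosed ({x} : Set α) := by
  have h1 := closure_inter_closedPoints hT
  have h2 : IsClosed (T ∩ closedPoints α) := by
    rw [← (T ∩ closedPoints α).biUnion_of_singleton]
    exact (hfin.subset Set.inter_subset_left).isClosed_biUnion fun t ht => ht.2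
  rw [h2.closure_eq] at h1
  have : x ∈ T ∩ closedPoints α := by rw [h1]; exact hx
  exact this.2

theorem eq_univ_of_singleton_mem_irreducibleComponents {F : Type*} [TopologicalSpace F]
    [TopologicalSpace.NoetherianSpace F] [PreconnectedSpace F] (z : F)
    (hz : ({z} : Set F) ∈ irreducibleComponents F) : ({z} : Set F) = Set.univ := by
  have hfin : (irreducibleComponents F).Finite :=
    TopologicalSpace.NoetherianSpace.finite_irreducibleComponents
  set W : Set F := ⋃₀ (irreducibleComponents F \ {{z}}) with hW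
  have hWcl : IsClosed W := by
    rw [hW, Set.sUnion_eq_biUnion]
    exact (hfin.subset Set.sdiff_subset).isClosed_biUnion
      fun t ht => isClosed_of_mem_irreducibleComponents t ht.1
  have hcover : (Set.univ : Set F) ⊆ {z} ∪ W := by
    intro t _
    have : t ∈ ⋃₀ irreducibleComponents F := by rw [sUnion_irreducibleComponents]; trivial
    obtain ⟨Z₂, hZ₂, ht⟩ := this
    by_cases h : Z₂ = {z}
    · left; rw [h] at ht; exact ht
    · right; exact ⟨Z₂, ⟨hZ₂, h⟩, ht⟩
  have hdisj : z ∉ W := by
    rintro ⟨Z₂, ⟨hZ₂, hne⟩, hzZ₂⟩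
    apply hne
    have hsub : ({z} : Set F) ⊆ Z₂ := Set.singleton_subset_iff.2 hzZ₂
    exact (hz.eq_of_subset hZ₂.1 hsub).symm
  by_contra hne
  have hWne : W.Nonempty := by
    by_contra hW0
    rw [Set.not_nonempty_iff_eq_empty] at hW0
    apply hne
    rw [hW0, Set.union_empty] at hcover
    exact Set.eq_univ_of_univ_subset hcover
  obtain ⟨t, -, ht1, ht2⟩ := isPreconnected_closed_iff.1 (isPreconnected_univ (α := F)) {z} W
    (isClosed_of_mem_irreducibleComponents _ hz) hWcl hcover
    ⟨z, Set.mem_univ _, rfl⟩ (by rw [Set.univ_inter]; exact hWne)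
  rw [Set.mem_singleton_iff] at ht1
  exact hdisj (ht1 ▸ ht2)

open Groth.Agent.Lib.Helper4.VarDim in

/-- Let k be an algebraically closed field and X an integral normal scheme of dimension two admitting a
closed immersion into some P^n_k over k. Let φ : Y → X be a k-morphism from an integral scheme Y of
dimension two with all local rings regular, itself admitting a closed immersion into some P^m_k over
k, which restricts to an isomorphism over an open subset U of X with finite complement. Then for
every point x of X at which the local ring is not regular, the fibre φ⁻¹(x) (with the topology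
induced from Y) is nonempty and every irreducible component of it has dimension one: such a
desingularization is a monoidal model. (The published statement takes φ an isomorphism exactly over
the complement of the singular points; this row allows any open U with finite complement over which
φ is an isomorphism.) -/
theorem result (k : Type u) [Field k] [IsAlgClosed k] (X : Scheme.{u}) [X.Over (Spec (CommRingCat.of k))]
    [IsIntegral X] (hdim : topologicalKrullDim X = 2)
    (hproj : ∃ (n : ℕ) (ι : X ⟶ CohB1.ProjSpace n k), IsClosedImmersion ι ∧ ι ≫ CohB1.ProjSpace.toSpec n k = (X ↘ (Spec (CommRingCat.of k))))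
    (hnorm : Pi1.IsNormalScheme X) (U : X.Opens) (hU : ((U : Set X)ᶜ).Finite)
    (Y : Scheme.{u}) (φ : Y ⟶ X) [IsIntegral Y] (hdimY : topologicalKrullDim Y = 2)
    (hregY : ∀ y : Y, IsRegularLocalRing (Y.presheaf.stalk y))
    (hprojY : ∃ (n : ℕ) (ι : Y ⟶ CohB1.ProjSpace n k), IsClosedImmersion ι ∧ ι ≫ CohB1.ProjSpace.toSpec n k = φ ≫ (X ↘ (Spec (CommRingCat.of k))))
    (hisoY : IsIso (φ ∣_ U))
    (x : X) (hx : ¬ IsRegularLocalRing (X.presheaf.stalk x)) :
    (φ.base ⁻¹' ({x} : Set X)).Nonempty ∧
      ∀ Z ∈ irreducibleComponents ↥(φ.base ⁻¹' ({x} : Set X)), topologicalKrullDim ↥Z = 1 := by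
  obtain ⟨n, ι, hι, hιc⟩ := hproj
  obtain ⟨m, ιY, hιY, hιYc⟩ := hprojY
  haveI : IsProper (CohB1.ProjSpace.toSpec n k) :=
    Groth.Agent.Lib.Helper27ProjSpaceFibres.isProper_projSpace_toSpec n k
  haveI : IsProper (CohB1.ProjSpace.toSpec m k) :=
    Groth.Agent.Lib.Helper27ProjSpaceFibres.isProper_projSpace_toSpec m k
  haveI hXp : IsProper (X ↘ Spec (CommRingCat.of k)) := by rw [← hιc]; infer_instance
  letI : Y.Over (Spec (CommRingCat.of k)) := ⟨φ ≫ (X ↘ Spec (CommRingCat.of k))⟩
  haveI hYp : IsProper (Y ↘ Spec (CommRingCat.of k)) := by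
    change IsProper (φ ≫ (X ↘ Spec (CommRingCat.of k)))
    rw [← hιYc]; infer_instance
  haveI : IsProper (φ ≫ (X ↘ Spec (CommRingCat.of k))) := hYp
  haveI : IsProper φ := IsProper.of_comp φ (X ↘ Spec (CommRingCat.of k))
  haveI : LocallyOfFiniteType (X ↘ Spec (CommRingCat.of k)) := inferInstance
  haveI : LocallyOfFiniteType (Y ↘ Spec (CommRingCat.of k)) := inferInstance
  haveI : IsLocallyNoetherian X :=
    LocallyOfFiniteType.isLocallyNoetherian (X ↘ Spec (CommRingCat.of k))
  haveI : IsLocallyNoetherian Y :=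
    LocallyOfFiniteType.isLocallyNoetherian (Y ↘ Spec (CommRingCat.of k))
  haveI : CompactSpace Y := QuasiCompact.compactSpace_of_compactSpace (Y ↘ Spec (CommRingCat.of k))
  haveI : IsNoetherian Y := {}
  haveI : JacobsonSpace X := LocallyOfFiniteType.jacobsonSpace (X ↘ Spec (CommRingCat.of k))
  -- trdeg of generic points
  have hgenX : trdegNat k X (genericPoint X) = 2 := by
    have h1 := topologicalKrullDim_closure_singleton k X (genericPoint X)
    have h2 : closure ({genericPoint X} : Set X) = Set.univ := (genericPoint_spec X).def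
    rw [h2, topologicalKrullDim_univ_eq, hdim] at h1
    exact_mod_cast h1.symm
  have hgenY : trdegNat k Y (genericPoint Y) = 2 := by
    have h1 := topologicalKrullDim_closure_singleton k Y (genericPoint Y)
    have h2 : closure ({genericPoint Y} : Set Y) = Set.univ := (genericPoint_spec Y).def
    rw [h2, topologicalKrullDim_univ_eq, hdimY] at h1
    exact_mod_cast h1.symm
  have hUne : (U : Set X).Nonempty := by
    by_contra h
    rw [Set.not_nonempty_iff_eq_empty] at h
    have hcl : IsClosed ({genericPoint X} : Set X) :=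
      isClosed_singleton_of_mem_finite_closed (U : Set X)ᶜ U.isOpen.isClosed_compl hU _
        (by rw [h]; exact Set.notMem_empty _)
    have h0 := trdeg_eq_zero_of_isClosed k X _ hcl
    have h1 := trdegNat_eq_of_trdeg_eq k X _ 0 (by rw [h0]; simp)
    omega
  have hxU : x ∉ U := by
    intro hxU
    obtain ⟨y, hy⟩ := (ConcreteCategory.bijective_of_isIso (φ ∣_ U).base).2 ⟨x, hxU⟩
    have hyx : φ y.1 = x := (morphismRestrict_base_coe φ U y).symm.trans (congrArg Subtype.val hy)
    haveI := Groth.Agent.S7899.isIso_stalkMap_of_isIso_restrict φ U y.1 (hyx ▸ hxU)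
    have e : X.presheaf.stalk (φ y.1) ≃+* Y.presheaf.stalk y.1 :=
      (asIso (φ.stalkMap y.1)).commRingCatIsoToRingEquiv
    haveI := hregY y.1
    have : IsRegularLocalRing (X.presheaf.stalk (φ y.1)) := IsRegularLocalRing.of_ringEquiv e.symm
    rw [hyx] at this
    exact hx this
  have hxcl : IsClosed ({x} : Set X) :=
    isClosed_singleton_of_mem_finite_closed _ U.isOpen.isClosed_compl hU x hxU
  have hO : ∀ V : X.Opens, IsIso (φ.app V) :=
    isIso_app_of_birational φ (fun x => (hnorm x).2) U hUne
  have hconn := Groth.Agent.Lib.Helper23.ZarConnB4.isConnected_preimage_singleton φ hO x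
  refine ⟨hconn.nonempty, ?_⟩
  intro Z hZ
  have hFcl : IsClosed (φ.base ⁻¹' ({x} : Set X)) := hxcl.preimage φ.continuous
  haveI : ConnectedSpace ↥(φ.base ⁻¹' ({x} : Set X)) := isConnected_iff_connectedSpace.1 hconn
  haveI : TopologicalSpace.NoetherianSpace Y := inferInstance
  haveI : TopologicalSpace.NoetherianSpace ↥(φ.base ⁻¹' ({x} : Set X)) := inferInstance
  have hZcl : IsClosed Z := isClosed_of_mem_irreducibleComponents Z hZ
  have hZirr : IsIrreducible Z := hZ.1
  set Z' : Set Y := Subtype.val '' Z with hZ'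
  have hZ'cl : IsClosed Z' := hFcl.isClosedMap_subtype_val _ hZcl
  have hZ'irr : IsIrreducible Z' := hZirr.image _ continuous_subtype_val.continuousOn
  obtain ⟨ζ, hζ⟩ := QuasiSober.sober hZ'irr hZ'cl
  have hζZ' : ζ ∈ Z' := hζ.mem
  obtain ⟨z₀, hz₀Z, hz₀⟩ := hζZ'
  have hφζ : φ ζ = x := by rw [← hz₀]; exact z₀.2
  have hdimZ : topologicalKrullDim ↥Z = ((trdegNat k Y ζ : ℕ) : WithBot ℕ∞) := by
    rw [← topologicalKrullDim_closure_singleton k Y ζ, hζ.def]
    exact IsHomeomorph.topologicalKrullDim_eq _
      (Topology.IsEmbedding.subtypeVal.homeomorphImage Z).isHomeomorph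
  have hζne : genericPoint Y ≠ ζ := by
    intro h
    apply hxU
    have := Groth.Agent.S7899.genericPoint_mem_preimage φ U hUne
    rw [h, hφζ] at this; exact this
  have hlt := trdegNat_lt_of_specializes k Y (genericPoint Y) ζ (genericPoint_specializes ζ) hζne
  rw [hgenY] at hlt
  have hne0 : trdegNat k Y ζ ≠ 0 := by
    intro h0
    have hcl : Z' = {ζ} := by
      rw [← hζ.def]
      apply Set.Subset.antisymm
      · intro t ht
        by_contra hne
        have := trdegNat_lt_of_specializes k Y ζ t (specializes_iff_mem_closure.2 ht)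
          (fun h => hne (h ▸ rfl))
        omega
      · exact Set.singleton_subset_iff.2 (subset_closure rfl)
    have hZeq : Z = {z₀} := by
      ext t
      constructor
      · intro ht
        have : t.1 ∈ Z' := ⟨t, ht, rfl⟩
        rw [hcl] at this
        exact Subtype.ext (this.trans hz₀.symm)
      · rintro rfl; exact hz₀Z
    rw [hZeq] at hZ
    have huniv := eq_univ_of_singleton_mem_irreducibleComponents z₀ hZ
    have hfin : (φ ⁻¹' {x}).Finite := by
      refine (Set.finite_singleton ζ).subset ?_
      intro t ht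
      have : (⟨t, ht⟩ : ↥(φ.base ⁻¹' ({x} : Set X))) ∈ ({z₀} : Set _) := by rw [huniv]; trivial
      rw [Set.mem_singleton_iff] at this
      rw [Set.mem_singleton_iff, ← hz₀, ← this]
    obtain ⟨V, hxV, hisoV⟩ := isIso_restrict_of_finite_fibre φ hO x hfin
    haveI := hisoV
    haveI := Groth.Agent.S7899.isIso_stalkMap_of_isIso_restrict φ V ζ (hφζ ▸ hxV)
    have e : X.presheaf.stalk (φ ζ) ≃+* Y.presheaf.stalk ζ :=
      (asIso (φ.stalkMap ζ)).commRingCatIsoToRingEquiv
    haveI := hregY ζ
    have : IsRegularLocalRing (X.presheaf.stalk (φ ζ)) := IsRegularLocalRing.of_ringEquiv e.symm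
    rw [hφζ] at this
    exact hx this
  rw [hdimZ]
  have h1 : trdegNat k Y ζ = 1 := by omega
  rw [h1]; rfl

end Groth.Agent.S14698
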