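import Groth.Statements.S14708
import Groth.Agent.Lib.Helper22ExtFunctor

set_option autoImplicit false
universe u
open HRes

namespace Groth.Agent.S14708

open CategoryTheory Abelian Limits AlgebraicGeometry Groth.Agent.Lib.Helper22

theorem pullConst_id (K : Precoverage Scheme.{u}) (S : Scheme.{u}) (M : AddCommGrpCat.{u + 1}) :
    (HRes.pullConst K (𝟙 S) M).inv ≫
      (K.toGrothendieck.overMapPullbackId AddCommGrpCat.{u + 1} S).hom.app
        ((constantSheaf (QuotSh.J K S) AddCommGrpCat.{u + 1}).obj M) = 𝟙 _ := by
  apply Sheaf.hom_ext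
  apply sheafify_hom_ext _ _ _ ((constantSheaf (QuotSh.J K S) AddCommGrpCat.{u + 1}).obj M).property
  have h := (Over.map (𝟙 S)).toSheafify_pullbackSheafificationCompatibility AddCommGrpCat.{u + 1}
    (QuotSh.J K S) (QuotSh.J K S) ((Functor.const (Over S)ᵒᵖ).obj M)
  refine NatTrans.ext (funext fun U => ?_)
  have hU := congrArg (fun t => t.app U) h
  have hnat := (toSheafify (QuotSh.J K S) ((Functor.const (Over S)ᵒᵖ).obj M)).naturality
    ((Over.mapId S).inv.app (Opposite.unop U)).op
  have hid := GrothendieckTopology.overMapPullbackId_hom_app_hom_app K.toGrothendieck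
    AddCommGrpCat.{u + 1} S ((constantSheaf (QuotSh.J K S) AddCommGrpCat.{u + 1}).obj M) U
  change (toSheafify _ _).app U ≫ ((pullConst K (𝟙 S) M).inv.hom.app U ≫
    ((K.toGrothendieck.overMapPullbackId AddCommGrpCat.{u + 1} S).hom.app
      ((constantSheaf (QuotSh.J K S) AddCommGrpCat.{u + 1}).obj M)).hom.app U) =
    (toSheafify _ _).app U ≫ 𝟙 _
  rw [hid, Category.comp_id]
  rw [← Category.assoc]
  refine (congrArg (· ≫ _) hU).trans ?_
  refine hnat.symm.trans ?_
  exact Category.id_comp _

open CategoryTheory AlgebraicGeometry in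
/-- Let S be a scheme, K a precoverage on schemes with its big site over S, F an abelian sheaf on that
site and n ≥ 0. For every class x ∈ H^n(S, F), restricting x along the identity of S and then
applying the map induced on cohomology by the canonical isomorphism (𝟙_S)⁻¹ F ≅ F gives back x; this
is the identity law of the presheaf U ↦ H^n(U, F) given by the restriction maps. The statement is
asserted for every precoverage K; it has no hypothesis depending on K. -/
theorem result (K : Precoverage Scheme.{u}) (S : Scheme.{u})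
    (F : BigSite.Ab K S) (n : ℕ) (x : BigSite.H K S F n) :
    Sheaf.H.map ((K.toGrothendieck.overMapPullbackId AddCommGrpCat.{u + 1} S).hom.app F) n
      (HRes.pull K (𝟙 S) F n x) = x := by
  rw [HRes.pull_apply, Sheaf.H.map_apply, Ext.comp_assoc_of_third_deg_zero,
    mapExactFunctor_natTrans _ (𝟭 _)
      (K.toGrothendieck.overMapPullbackId AddCommGrpCat.{u + 1} S).hom x,
    mapExactFunctor_idFunctor,
    ← Ext.comp_assoc (a₁ := 0) (a₂ := 0) (a₃ := n) (a₁₂ := 0) (a₂₃ := n) (a := n) _ _ _
      (zero_add _) (zero_add _) (by lia),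
    Ext.mk₀_comp_mk₀, pullConst_id, Ext.mk₀_id_comp]

end Groth.Agent.S14708
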