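import Groth.Statements.S14709
import Groth.Agent.Lib.Helper22ExtFunctor

set_option autoImplicit false
universe u
open HRes

namespace Groth.Agent.S14709

open CategoryTheory Abelian Limits AlgebraicGeometry Groth.Agent.Lib.Helper22

theorem pullConst_comp (K : Precoverage Scheme.{u}) {S T T' : Scheme.{u}}
    (f : T ⟶ S) (g : T' ⟶ T) (M : AddCommGrpCat.{u + 1}) :
    (HRes.pullConst K g M).inv ≫
      ((BigSite.pullBig K g AddCommGrpCat.{u + 1}).map (HRes.pullConst K f M).inv ≫
        (K.toGrothendieck.overMapPullbackComp AddCommGrpCat.{u + 1} g f).hom.app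
          ((constantSheaf (QuotSh.J K S) AddCommGrpCat.{u + 1}).obj M)) =
      (HRes.pullConst K (g ≫ f) M).inv := by
  apply Sheaf.hom_ext
  apply sheafify_hom_ext _ _ _
    ((BigSite.pullBig K (g ≫ f) AddCommGrpCat.{u + 1}).obj
      ((constantSheaf (QuotSh.J K S) AddCommGrpCat.{u + 1}).obj M)).property
  have hg := (Over.map g).toSheafify_pullbackSheafificationCompatibility AddCommGrpCat.{u + 1}
    (QuotSh.J K T') (QuotSh.J K T) ((Functor.const (Over T)ᵒᵖ).obj M)
  have hf := (Over.map f).toSheafify_pullbackSheafificationCompatibility AddCommGrpCat.{u + 1}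
    (QuotSh.J K T) (QuotSh.J K S) ((Functor.const (Over S)ᵒᵖ).obj M)
  have hgf := (Over.map (g ≫ f)).toSheafify_pullbackSheafificationCompatibility AddCommGrpCat.{u + 1}
    (QuotSh.J K T') (QuotSh.J K S) ((Functor.const (Over S)ᵒᵖ).obj M)
  refine NatTrans.ext (funext fun U => ?_)
  have hgU := congrArg (fun t => t.app U) hg
  have hfU := congrArg (fun t => t.app (Opposite.op ((Over.map g).obj U.unop))) hf
  have hgfU := congrArg (fun t => t.app U) hgf
  have hnat := (toSheafify (QuotSh.J K S) ((Functor.const (Over S)ᵒᵖ).obj M)).naturality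
    ((Over.mapComp g f).hom.app (Opposite.unop U)).op
  have hc := GrothendieckTopology.overMapPullbackComp_hom_app_hom_app K.toGrothendieck
    AddCommGrpCat.{u + 1} g f ((constantSheaf (QuotSh.J K S) AddCommGrpCat.{u + 1}).obj M) U
  change (toSheafify _ _).app U ≫ ((HRes.pullConst K g M).inv.hom.app U ≫
    ((HRes.pullConst K f M).inv.hom.app (Opposite.op ((Over.map g).obj U.unop)) ≫
    ((K.toGrothendieck.overMapPullbackComp AddCommGrpCat.{u + 1} g f).hom.app
      ((constantSheaf (QuotSh.J K S) AddCommGrpCat.{u + 1}).obj M)).hom.app U)) =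
    (toSheafify _ _).app U ≫ (HRes.pullConst K (g ≫ f) M).inv.hom.app U
  rw [hc]
  refine Eq.trans ?_ hgfU.symm
  refine (Category.assoc _ _ _).symm.trans ?_
  refine (congrArg (· ≫ _) hgU).trans ?_
  change (toSheafify (QuotSh.J K T) ((Functor.const (Over T)ᵒᵖ).obj M)).app
      (Opposite.op ((Over.map g).obj U.unop)) ≫
    ((HRes.pullConst K f M).inv.hom.app (Opposite.op ((Over.map g).obj U.unop)) ≫
      (sheafify (QuotSh.J K S) ((Functor.const (Over S)ᵒᵖ).obj M)).map
        ((Over.mapComp g f).hom.app (Opposite.unop U)).op) =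
    (toSheafify (QuotSh.J K S) ((Functor.const (Over S)ᵒᵖ).obj M)).app
      (Opposite.op ((Over.map (g ≫ f)).obj U.unop))
  refine (Category.assoc _ _ _).symm.trans ?_
  refine (congrArg (· ≫ _) hfU).trans ?_
  refine hnat.symm.trans ?_
  exact Category.id_comp _

open CategoryTheory AlgebraicGeometry in
/-- Let g : T' ⟶ T and f : T ⟶ S be morphisms of schemes, K a precoverage on schemes with its big sites,
F an abelian sheaf on the big site of S and n ≥ 0. For every x ∈ H^n(S, F), the restriction of x
along g ≫ f is the restriction of x along f, restricted further along g, and then carried along the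
map induced on cohomology by the canonical isomorphism g⁻¹(f⁻¹ F) ≅ (g ≫ f)⁻¹ F; this is the
composition law of the presheaf U ↦ H^n(U, F) given by the restriction maps. The statement is
asserted for every precoverage K; it has no hypothesis depending on K. -/
theorem result (K : Precoverage Scheme.{u}) {S T T' : Scheme.{u}}
    (f : T ⟶ S) (g : T' ⟶ T) (F : BigSite.Ab K S) (n : ℕ) (x : BigSite.H K S F n) :
    HRes.pull K (g ≫ f) F n x =
      Sheaf.H.map ((K.toGrothendieck.overMapPullbackComp AddCommGrpCat.{u + 1} g f).hom.app F) n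
        (HRes.pull K g ((BigSite.pullBig K f AddCommGrpCat.{u + 1}).obj F) n (HRes.pull K f F n x)) := by
  rw [HRes.pull_apply, HRes.pull_apply, HRes.pull_apply, Sheaf.H.map_apply,
    Ext.mapExactFunctor_comp, Ext.mapExactFunctor_mk₀]
  have : PreservesFiniteLimits (BigSite.pullBig K f AddCommGrpCat.{u + 1} ⋙
      BigSite.pullBig K g AddCommGrpCat.{u + 1}) := comp_preservesFiniteLimits _ _
  have : PreservesFiniteColimits (BigSite.pullBig K f AddCommGrpCat.{u + 1} ⋙
      BigSite.pullBig K g AddCommGrpCat.{u + 1}) := comp_preservesFiniteColimits _ _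
  rw [← mapExactFunctor_compFunctor (BigSite.pullBig K f AddCommGrpCat.{u + 1})
    (BigSite.pullBig K g AddCommGrpCat.{u + 1}) x,
    Ext.comp_assoc_of_third_deg_zero, Ext.comp_assoc_of_third_deg_zero,
    mapExactFunctor_natTrans _ _
      (K.toGrothendieck.overMapPullbackComp AddCommGrpCat.{u + 1} g f).hom x,
    ← Ext.comp_assoc (a₁ := 0) (a₂ := 0) (a₃ := n) (a₁₂ := 0) (a₂₃ := n) (a := n) _ _ _
      (zero_add _) (zero_add _) (by lia),
    ← Ext.comp_assoc (a₁ := 0) (a₂ := 0) (a₃ := n) (a₁₂ := 0) (a₂₃ := n) (a := n) _ _ _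
      (zero_add _) (zero_add _) (by lia),
    Ext.mk₀_comp_mk₀, Ext.mk₀_comp_mk₀, Category.assoc, pullConst_comp]

end Groth.Agent.S14709
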