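import Groth.Statements.S1471
import Groth.Agent.Lib.Helper6Reduced
import Groth.Agent.Lib.Helper6StalkIso

set_option autoImplicit false
universe u
open FlatMor

namespace Groth.Agent.S1471

open AlgebraicGeometry CategoryTheory Limits in
theorem isReduced_fiber_aux {X' Y : Scheme.{u}} [IsReduced X'] (g : X' ⟶ Y) (η : Y)
    (hgen : ∀ y : Y, y ⤳ η → y = η) : IsReduced (g.fiber η) := by
  -- step 1: X'' = X' ×_Y Spec O_{Y,η} is reduced
  have hX'' : IsReduced (pullback g (Y.fromSpecStalk η)) := by
    have : ∀ z : ↑(pullback g (Y.fromSpecStalk η)),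
        _root_.IsReduced ((pullback g (Y.fromSpecStalk η)).presheaf.stalk z) := by
      intro z
      have hiso := Groth.Agent.Lib.Helper6.isIso_stalkMap_fst_pullback_fromSpecStalk g η z
      let e := (asIso ((pullback.fst g (Y.fromSpecStalk η)).stalkMap z)).commRingCatIsoToRingEquiv
      exact isReduced_of_injective e.symm.toRingHom e.symm.injective
    exact isReduced_of_isReduced_stalk _
  -- step 2: Spec κ(η) ⟶ Spec O_{Y,η} is a surjective closed immersion
  have hsub : ∀ a b : ↑(Spec (Y.presheaf.stalk η)), a = b := by
    intro a b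
    have ha : Y.fromSpecStalk η a ∈ Set.range (Y.fromSpecStalk η) := ⟨a, rfl⟩
    have hb : Y.fromSpecStalk η b ∈ Set.range (Y.fromSpecStalk η) := ⟨b, rfl⟩
    rw [Scheme.range_fromSpecStalk] at ha hb
    have h1 := hgen _ ha
    have h2 := hgen _ hb
    exact (Y.fromSpecStalk η).isEmbedding.injective (h1.trans h2.symm)
  have hsurj : Surjective (Spec.map (Y.residue η)) := by
    refine ⟨fun b => ?_⟩
    obtain ⟨a⟩ : Nonempty ↑(Spec (Y.residueField η)) := inferInstance
    exact ⟨a, hsub _ _⟩
  -- step 3
  have hiso : IsIso (pullback.fst (pullback.snd g (Y.fromSpecStalk η)) (Spec.map (Y.residue η))) :=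
    isIso_of_isClosedImmersion_of_surjective _
  have hP : IsReduced (pullback (pullback.snd g (Y.fromSpecStalk η)) (Spec.map (Y.residue η))) :=
    isReduced_of_isOpenImmersion
      (pullback.fst (pullback.snd g (Y.fromSpecStalk η)) (Spec.map (Y.residue η)))
  change IsReduced (pullback g (Spec.map (Y.residue η) ≫ Y.fromSpecStalk η))
  exact isReduced_of_isOpenImmersion
    (pullbackLeftPullbackSndIso g (Y.fromSpecStalk η) (Spec.map (Y.residue η))).inv

open AlgebraicGeometry CategoryTheory Limits in
/-- Let f : X → Y and η a generic point of an irreducible component of Y. Then the fibre over η of the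
composite X_red → X → Y is reduced; since it is a closed subscheme of X_η with the same underlying
set, this says (X_η)_red = (X_red)_η. -/
theorem result {X Y : Scheme.{u}} (f : X ⟶ Y) (η : Y) (W : Set ↑Y) (hW : W ∈ irreducibleComponents ↑Y) (hη : IsGenericPoint η W) :
    IsReduced ((X.nilradical.subschemeι ≫ f).fiber η) := by
  have hW0 : Maximal IsIrreducible W := hW
  clear hW
  apply isReduced_fiber_aux
  intro y hy
  -- closure {y} is irreducible and contains W
  have hW : W = closure ({η} : Set ↑Y) := hη.def.symm
  have h1 : W ⊆ closure ({y} : Set ↑Y) := by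
    rw [hW]
    exact closure_minimal (Set.singleton_subset_iff.2 hy.mem_closure) isClosed_closure
  have hirr : IsIrreducible (closure ({y} : Set ↑Y)) := isIrreducible_singleton.closure
  have h2 : closure ({y} : Set ↑Y) ⊆ W := hW0.le_of_ge hirr h1
  have h3 : η ⤳ y := by
    rw [specializes_iff_mem_closure, ← hW]
    exact h2 (subset_closure (Set.mem_singleton y))
  exact (hy.antisymm h3).eq

end Groth.Agent.S1471
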