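import Groth.Statements.S1975
import Groth.Agent.Lib.Helper3ValEt
import Groth.Agent.Lib.Helper3ValEt2
import Groth.Agent.Lib.Helper3ValEt3
import Groth.Agent.Lib.Helper3IndEtHz
import Groth.Agent.Lib.Helper3HzFibSep
import Groth.Agent.S0736
import Mathlib

set_option autoImplicit false
universe u
open EtAlg

namespace Groth.Agent.S1975

open Groth.Agent.Lib.Helper3.ValEt TensorProduct

set_option linter.style.haveILetI false
set_option maxHeartbeats 1600000

-- elements of a quasi-finite algebra over a domain are algebraic
theorem isAlgebraic_of_quasiFinite' (A R : Type*) [CommRing A] [IsDomain A] [CommRing R]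
    [Algebra A R] [Algebra.QuasiFinite A R] (y : R) : IsAlgebraic A y := by
  haveI : Module.Finite (FractionRing A) (FractionRing A ⊗[A] R) := Module.Finite.of_quasiFinite
  haveI : Algebra.IsAlgebraic (FractionRing A) (FractionRing A ⊗[A] R) :=
    Algebra.IsAlgebraic.of_finite _ _
  have h1 : IsAlgebraic (FractionRing A) ((1 : FractionRing A) ⊗ₜ[A] y) :=
    Algebra.IsAlgebraic.isAlgebraic _
  rw [← IsFractionRing.isAlgebraic_iff A (FractionRing A) (FractionRing A ⊗[A] R)] at h1
  obtain ⟨p, hp0, hp⟩ := h1
  have h2 : (TensorProduct.mk A (FractionRing A) R 1) (Polynomial.aeval y p) = 0 := by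
    have : (Algebra.TensorProduct.includeRight : R →ₐ[A] FractionRing A ⊗[A] R)
        (Polynomial.aeval y p) = 0 := by
      rw [← Polynomial.aeval_algHom_apply]
      exact hp
    exact this
  haveI hloc : IsLocalizedModule (nonZeroDivisors A) (TensorProduct.mk A (FractionRing A) R 1) :=
    (isLocalizedModule_iff_isBaseChange (nonZeroDivisors A) (FractionRing A) _).mpr
      (TensorProduct.isBaseChange A R (FractionRing A))
  obtain ⟨s, hs⟩ := (IsLocalizedModule.eq_zero_iff (nonZeroDivisors A)
    (TensorProduct.mk A (FractionRing A) R 1)).mp h2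
  refine ⟨Polynomial.C (s : A) * p, mul_ne_zero ?_ hp0, ?_⟩
  · rw [Ne, Polynomial.C_eq_zero]
    exact nonZeroDivisors.coe_ne_zero s
  · rw [map_mul, Polynomial.aeval_C, ← Algebra.smul_def]
    exact hs

/-- Let A be a valuation ring and S a henselization or strict henselization of A. Then S is a valuation
ring, A -> S is injective, and every nonzero element of S is a unit multiple of the image of an
element of A (the value groups agree). -/
theorem result (A S : Type u) [CommRing A] [IsDomain A] [ValuationRing A] [CommRing S]
    [IsLocalRing S] [Algebra A S] [IsLocalHom (algebraMap A S)]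
    (h : Hensel.IsHenselization A S ∨ Hensel.IsStrictHenselization A S) :
    IsDomain S ∧ (∀ _ : IsDomain S, ValuationRing S) ∧ Function.Injective (algebraMap A S) ∧
      ∀ s : S, s ≠ 0 → ∃ (a : A) (u : Sˣ), s = u * algebraMap A S a := by
  have hind : EtPBC.IsIndEtale A S := by
    rcases h with h | h
    · exact Groth.Agent.Lib.Helper3.IndEt.isIndEtale_of_isHenselization A S
    · exact Groth.Agent.Lib.Helper3.IndEt.isIndEtale_of_isStrictHenselization A S
  haveI : Algebra.WeaklyEtale A S := Groth.Agent.S0736.result A S hind
  have halg : ∀ y : S, IsAlgebraic A y := by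
    intro y
    have hex : ∃ (L : Type u) (_ : CommRing L) (_ : Algebra A L)
        (_ : Algebra.EssFiniteType A L) (_ : Algebra.FormallyEtale A L) (f : L →ₐ[A] S),
        ∀ x ∈ ({y} : Finset S), x ∈ f.range := by
      rcases h with h | h
      · exact Groth.Agent.Lib.Helper3.HzP.hz_exhaust A S {y}
      · exact Groth.Agent.Lib.Helper3.HzP.sh_exhaust A S {y}
    obtain ⟨L, _, _, _, _, f, hf⟩ := hex
    obtain ⟨l, rfl⟩ := hf y (by simp)
    exact IsAlgebraic.algHom f (isAlgebraic_of_quasiFinite' A L l)
  haveI hdom : IsDomain S := isDomain_of_local A S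
  haveI hval : ValuationRing S := valuationRing_of_local A S
  exact ⟨hdom, fun _ => hval, algebraMap_injective_of_flat A S,
    fun s hs => weaklyUnramified A S halg s hs⟩

end Groth.Agent.S1975
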