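import Groth.Statements.S14726
import Groth.Agent.Lib.Helper14WEField
import Groth.Agent.Lib.Helper3ValEt
import Groth.Agent.Lib.Helper3ValEt2
import Groth.Agent.Lib.Helper3ValEt3
import Groth.Agent.Lib.Helper3ValGauss
import Groth.Agent.S1975
import Groth.Agent.S7127
import Mathlib

set_option autoImplicit false
universe u
open ValPrufer

namespace Groth.Agent.S14726

open Groth.Agent.Lib.Helper3.ValEt

set_option linter.style.haveILetI false
set_option maxHeartbeats 3200000

/-- Let V be a valuation ring with maximal ideal m, A an integral domain that is a smooth V-algebra, and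
p a prime ideal of A minimal among the primes containing mA (a generic point of the special fibre of
Spec A over V). Then A_p is a valuation ring, V → A_p is an injective local homomorphism, and every
nonzero element of A_p is a unit of A_p times the image of an element of V, so that V → A_p induces
a bijection on value groups. (The published statement takes A faithfully flat and a semilocalisation
of a smooth V-algebra at finitely many primes; the local ring A_p is then a local ring of the smooth
algebra itself at such a prime, and faithful flatness follows from the existence of p, so this row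
states the smooth case, which carries the whole content.) -/
theorem result
    (V : Type u) [CommRing V] [IsDomain V] [ValuationRing V]
    (A : Type u) [CommRing A] [IsDomain A] [Algebra V A] [Algebra.Smooth V A]
    (p : Ideal A) [p.IsPrime]
    (hp : p ∈ ((IsLocalRing.maximalIdeal V).map (algebraMap V A)).minimalPrimes) :
    ValuationRing (Localization.AtPrime p) ∧
      Function.Injective (algebraMap V (Localization.AtPrime p)) ∧
      IsLocalHom (algebraMap V (Localization.AtPrime p)) ∧
      ∀ x : Localization.AtPrime p, x ≠ 0 →
        ∃ (v : V) (w : (Localization.AtPrime p)ˣ), x = algebraMap V (Localization.AtPrime p) v * w := by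
  -- Step 1: standard smooth chart and etale map from a polynomial ring
  haveI : Algebra.IsSmoothAt V p := inferInstance
  obtain ⟨f, hfp, hstd⟩ := Algebra.IsSmoothAt.exists_notMem_isStandardSmooth V p
  have hstd' : (algebraMap V (Localization.Away f)).IsStandardSmooth :=
    RingHom.isStandardSmooth_algebraMap.mpr hstd
  obtain ⟨n, g, hgC, hget⟩ := hstd'.exists_etale_mvPolynomial
  -- Step 2: algebra structures
  have hfu : IsUnit (algebraMap A (Localization.AtPrime p) f) :=
    (IsLocalization.AtPrime.isUnit_to_map_iff (Localization.AtPrime p) p f).mpr hfp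
  obtain ⟨ψ, hψ⟩ : ∃ ψ : Localization.Away f →+* Localization.AtPrime p,
      ψ = IsLocalization.Away.lift f hfu := ⟨_, rfl⟩
  have hψA : ∀ a : A, ψ (algebraMap A (Localization.Away f) a) =
      algebraMap A (Localization.AtPrime p) a := by
    intro a; rw [hψ]; exact IsLocalization.Away.lift_eq f hfu a
  letI algA'R : Algebra (Localization.Away f) (Localization.AtPrime p) := ψ.toAlgebra
  haveI : IsScalarTower A (Localization.Away f) (Localization.AtPrime p) :=
    IsScalarTower.of_algebraMap_eq (fun a => (hψA a).symm)
  haveI : IsLocalization ((p.primeCompl).map (algebraMap A (Localization.Away f)))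
      (Localization.AtPrime p) :=
    IsLocalization.isLocalization_of_submonoid_le (Localization.Away f) (Localization.AtPrime p)
      (Submonoid.powers f) p.primeCompl (by
        rw [Submonoid.powers_le]; exact hfp)
  letI algPA' : Algebra (MvPolynomial (Fin n) V) (Localization.Away f) := g.toAlgebra
  haveI : Algebra.Etale (MvPolynomial (Fin n) V) (Localization.Away f) := hget
  letI algPR : Algebra (MvPolynomial (Fin n) V) (Localization.AtPrime p) := (ψ.comp g).toAlgebra
  haveI : IsScalarTower (MvPolynomial (Fin n) V) (Localization.Away f) (Localization.AtPrime p) :=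
    IsScalarTower.of_algebraMap_eq (fun _ => rfl)
  haveI : Algebra.WeaklyEtale (MvPolynomial (Fin n) V) (Localization.Away f) := inferInstance
  haveI : Algebra.WeaklyEtale (Localization.Away f) (Localization.AtPrime p) :=
    Groth.Agent.Lib.Helper14.WEField.weaklyEtale_of_isLocalization
      ((p.primeCompl).map (algebraMap A (Localization.Away f))) _
  haveI : Algebra.WeaklyEtale (MvPolynomial (Fin n) V) (Localization.AtPrime p) :=
    Algebra.WeaklyEtale.trans _ (Localization.Away f) _
  -- compatibility of V-algebra structures
  have hPV : ∀ v : V, algebraMap (MvPolynomial (Fin n) V) (Localization.AtPrime p)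
      (MvPolynomial.C v) = algebraMap V (Localization.AtPrime p) v := by
    intro v
    show ψ (g (MvPolynomial.C v)) = _
    have : g (MvPolynomial.C v) = algebraMap V (Localization.Away f) v := by
      rw [← hgC]; rfl
    rw [this, IsScalarTower.algebraMap_apply V A (Localization.Away f), hψA,
      ← IsScalarTower.algebraMap_apply V A (Localization.AtPrime p)]
  -- Step 4: the maximal ideal contracts to the extension of the maximal ideal of V
  obtain ⟨mP, hmP⟩ : ∃ mP : Ideal (MvPolynomial (Fin n) V),
      mP = Ideal.map (MvPolynomial.C : V →+* MvPolynomial (Fin n) V) (IsLocalRing.maximalIdeal V) :=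
    ⟨_, rfl⟩
  haveI hmPprime : mP.IsPrime := hmP ▸ isPrime_map_C_maximalIdeal V (Fin n)
  have hmVp : ∀ v ∈ IsLocalRing.maximalIdeal V, algebraMap V A v ∈ p := by
    intro v hv
    exact hp.1.2 (Ideal.mem_map_of_mem _ hv)
  have hle : mP ≤ (IsLocalRing.maximalIdeal (Localization.AtPrime p)).comap
      (algebraMap (MvPolynomial (Fin n) V) (Localization.AtPrime p)) := by
    rw [hmP, Ideal.map_le_iff_le_comap]
    intro v hv
    rw [Ideal.mem_comap, Ideal.mem_comap, hPV, IsScalarTower.algebraMap_apply V A (Localization.AtPrime p),
      IsLocalization.AtPrime.to_map_mem_maximal_iff (Localization.AtPrime p) p]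
    exact hmVp v hv
  have hcomap : (IsLocalRing.maximalIdeal (Localization.AtPrime p)).comap
      (algebraMap (MvPolynomial (Fin n) V) (Localization.AtPrime p)) = mP := by
    haveI : Module.Flat (MvPolynomial (Fin n) V) (Localization.AtPrime p) := inferInstance
    obtain ⟨r, hrle, hrprime, hrlies⟩ := Ideal.exists_ideal_le_liesOver_of_le (p := mP)
      (q := (IsLocalRing.maximalIdeal (Localization.AtPrime p)).under (MvPolynomial (Fin n) V))
      (IsLocalRing.maximalIdeal (Localization.AtPrime p)) hle
    -- the contraction of r to A
    have hr0 : p ≤ r.comap (algebraMap A (Localization.AtPrime p)) := by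
      apply hp.2 ⟨hrprime.comap _, ?_⟩
      · intro a ha
        have : algebraMap A (Localization.AtPrime p) a ∈
            IsLocalRing.maximalIdeal (Localization.AtPrime p) := hrle ha
        rwa [IsLocalization.AtPrime.to_map_mem_maximal_iff (Localization.AtPrime p) p] at this
      · rw [Ideal.map_le_iff_le_comap]
        intro v hv
        rw [Ideal.mem_comap, Ideal.mem_comap, ← IsScalarTower.algebraMap_apply V A, ← hPV]
        have h1 : MvPolynomial.C v ∈ mP := by
          rw [hmP]; exact Ideal.mem_map_of_mem _ hv
        rw [hrlies.over] at h1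
        exact h1
    have hrtop : IsLocalRing.maximalIdeal (Localization.AtPrime p) ≤ r := by
      intro x hx
      obtain ⟨a, s, rfl⟩ := IsLocalization.exists_mk'_eq p.primeCompl x
      rw [IsLocalization.AtPrime.mk'_mem_maximal_iff (Localization.AtPrime p) p] at hx
      rw [IsLocalization.mk'_eq_mul_mk'_one]
      exact Ideal.mul_mem_right _ _ (hr0 hx)
    have hreq : r = IsLocalRing.maximalIdeal (Localization.AtPrime p) := le_antisymm hrle hrtop
    rw [← hreq]
    exact hrlies.over.symm
  subst hmP
  -- Step 5: the Gauss valuation ring
  haveI hWdom : IsDomain (Localization.AtPrime (Ideal.map (MvPolynomial.C : V →+* MvPolynomial (Fin n) V)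
      (IsLocalRing.maximalIdeal V))) := gauss_isDomain V (Fin n)
  haveI hWval : ValuationRing (Localization.AtPrime (Ideal.map
      (MvPolynomial.C : V →+* MvPolynomial (Fin n) V) (IsLocalRing.maximalIdeal V))) :=
    gauss_valuationRing V (Fin n)
  have hunits : ∀ s : (Ideal.map (MvPolynomial.C : V →+* MvPolynomial (Fin n) V)
      (IsLocalRing.maximalIdeal V)).primeCompl,
      IsUnit (algebraMap (MvPolynomial (Fin n) V) (Localization.AtPrime p) s) := by
    intro s
    by_contra hnu
    have h1 : algebraMap (MvPolynomial (Fin n) V) (Localization.AtPrime p) s ∈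
        IsLocalRing.maximalIdeal (Localization.AtPrime p) := by
      rwa [IsLocalRing.mem_maximalIdeal, mem_nonunits_iff]
    have h2 : (s : MvPolynomial (Fin n) V) ∈ (IsLocalRing.maximalIdeal (Localization.AtPrime p)).comap
        (algebraMap (MvPolynomial (Fin n) V) (Localization.AtPrime p)) := h1
    rw [hcomap] at h2
    exact s.2 h2
  obtain ⟨θ, hθ⟩ : ∃ θ : Localization.AtPrime (Ideal.map
      (MvPolynomial.C : V →+* MvPolynomial (Fin n) V) (IsLocalRing.maximalIdeal V)) →+*
      Localization.AtPrime p, θ = IsLocalization.lift hunits := ⟨_, rfl⟩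
  letI algWR : Algebra (Localization.AtPrime (Ideal.map
      (MvPolynomial.C : V →+* MvPolynomial (Fin n) V) (IsLocalRing.maximalIdeal V)))
      (Localization.AtPrime p) := θ.toAlgebra
  haveI : IsScalarTower (MvPolynomial (Fin n) V) (Localization.AtPrime (Ideal.map
      (MvPolynomial.C : V →+* MvPolynomial (Fin n) V) (IsLocalRing.maximalIdeal V)))
      (Localization.AtPrime p) :=
    IsScalarTower.of_algebraMap_eq (fun x => by
      show _ = θ (algebraMap _ _ x)
      rw [hθ, IsLocalization.lift_eq])
  haveI : Algebra.WeaklyEtale (MvPolynomial (Fin n) V) (Localization.AtPrime (Ideal.map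
      (MvPolynomial.C : V →+* MvPolynomial (Fin n) V) (IsLocalRing.maximalIdeal V))) :=
    Groth.Agent.Lib.Helper14.WEField.weaklyEtale_of_isLocalization
      (Ideal.map (MvPolynomial.C : V →+* MvPolynomial (Fin n) V)
        (IsLocalRing.maximalIdeal V)).primeCompl _
  haveI : Algebra.WeaklyEtale (Localization.AtPrime (Ideal.map
      (MvPolynomial.C : V →+* MvPolynomial (Fin n) V) (IsLocalRing.maximalIdeal V)))
      (Localization.AtPrime p) := Groth.Agent.S7127.result (MvPolynomial (Fin n) V) _ _
  haveI hRval : ValuationRing (Localization.AtPrime p) := valuationRing_of_local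
    (Localization.AtPrime (Ideal.map (MvPolynomial.C : V →+* MvPolynomial (Fin n) V)
      (IsLocalRing.maximalIdeal V))) _
  haveI : Algebra.QuasiFinite (MvPolynomial (Fin n) V) (Localization.Away f) := inferInstance
  haveI : Algebra.QuasiFinite (MvPolynomial (Fin n) V) (Localization.AtPrime p) :=
    Algebra.QuasiFinite.of_isLocalization (R := MvPolynomial (Fin n) V) (S := Localization.Away f)
      ((p.primeCompl).map (algebraMap A (Localization.Away f)))
  haveI : Algebra.QuasiFinite (Localization.AtPrime (Ideal.map
      (MvPolynomial.C : V →+* MvPolynomial (Fin n) V) (IsLocalRing.maximalIdeal V)))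
      (Localization.AtPrime p) := Algebra.QuasiFinite.of_restrictScalars (MvPolynomial (Fin n) V) _ _
  haveI : Module.Flat V (Localization.AtPrime p) := Module.Flat.trans V A _
  refine ⟨hRval, algebraMap_injective_of_flat V _, ?_, ?_⟩
  · constructor
    intro v hv
    by_contra hnu
    have h1 : v ∈ IsLocalRing.maximalIdeal V := by
      rwa [IsLocalRing.mem_maximalIdeal, mem_nonunits_iff]
    have h2 := hmVp v h1
    rw [IsScalarTower.algebraMap_apply V A (Localization.AtPrime p)] at hv
    rw [← IsLocalization.AtPrime.to_map_mem_maximal_iff (Localization.AtPrime p) p] at h2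
    exact (IsLocalRing.mem_maximalIdeal _).mp h2 hv
  · intro x hx
    obtain ⟨w, u, hxw⟩ := weaklyUnramified (Localization.AtPrime (Ideal.map
      (MvPolynomial.C : V →+* MvPolynomial (Fin n) V) (IsLocalRing.maximalIdeal V)))
      (Localization.AtPrime p)
      (fun y => Groth.Agent.S1975.isAlgebraic_of_quasiFinite' _ _ y) x hx
    obtain ⟨v, u', hw⟩ := gauss_unit_mul V (Fin n) w
    have hvR : θ (algebraMap V _ v) = algebraMap V (Localization.AtPrime p) v := by
      rw [IsScalarTower.algebraMap_apply V (MvPolynomial (Fin n) V) (Localization.AtPrime _),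
        MvPolynomial.algebraMap_eq, hθ, IsLocalization.lift_eq, hPV]
    refine ⟨v, u * Units.map θ.toMonoidHom u', ?_⟩
    rw [hxw, hw]
    show (u : Localization.AtPrime p) * θ (u' * algebraMap V _ v) = _
    rw [map_mul, hvR]
    simp only [Units.val_mul, Units.coe_map, RingHom.toMonoidHom_eq_coe, MonoidHom.coe_coe]
    ring

end Groth.Agent.S14726
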