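import Groth.Statements.S14727
import Mathlib

set_option autoImplicit false
universe u
open ValPrufer

namespace Groth.Agent.S14727

/-- limit lemma: if all the level-`n` maps are bijective then so is the map on completions. -/
theorem bijective_pi_map_of_levelwise {R : Type*} [CommRing R] (I : Ideal R)
    {M : Type*} [AddCommGroup M] [Module R M] {ι : Type*} (N : ι → Type*)
    [∀ i, AddCommGroup (N i)] [∀ i, Module R (N i)] (f : ∀ i, M →ₗ[R] N i)
    (h : ∀ n : ℕ, Function.Bijective (fun (x : M ⧸ (I ^ n • ⊤ : Submodule R M)) (i : ι) =>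
      (f i).reduceModIdeal (I ^ n) x)) :
    Function.Bijective (LinearMap.pi (fun i : ι => AdicCompletion.map I (f i))) := by
  constructor
  · intro x y hxy
    apply AdicCompletion.ext
    intro n
    apply (h n).1
    funext i
    have := congrArg (fun z => (z i).val n) hxy
    simpa using this
  · intro y
    choose x hx using fun n => (h n).2 (fun i => (y i).val n)
    have hcompat : ∀ {m n : ℕ} (hmn : m ≤ n),
        AdicCompletion.transitionMap I M hmn (x n) = x m := by
      intro m n hmn
      apply (h m).1
      funext i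
      have h1 := congrFun (hx n) i
      have h2 := congrFun (hx m) i
      simp only at h1 h2
      show (f i).reduceModIdeal (I ^ m) (AdicCompletion.transitionMap I M hmn (x n)) =
        (f i).reduceModIdeal (I ^ m) (x m)
      rw [h2]
      have h3 := LinearMap.congr_fun
        (AdicCompletion.transitionMap_comp_reduceModIdeal I (f i) hmn) (x n)
      simp only [LinearMap.coe_comp, Function.comp_apply, LinearMap.coe_restrictScalars] at h3
      rw [← h3, h1]
      exact (y i).2 hmn
    let X : AdicCompletion I M := ⟨x, hcompat⟩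
    refine ⟨X, ?_⟩
    funext i
    apply AdicCompletion.ext
    intro n
    show (AdicCompletion.map I (f i) X).val n = (y i).val n
    exact (AdicCompletion.map_val_apply I (f i) X).trans (congrFun (hx n) i)

theorem algebraMap_mem_smul_top_iff {R : Type*} [CommRing R] (J : Ideal R) (m : Ideal R)
    [m.IsPrime] (z : R) :
    algebraMap R (Localization.AtPrime m) z ∈ (J • ⊤ : Submodule R (Localization.AtPrime m)) ↔
      ∃ s, s ∉ m ∧ s * z ∈ J := by
  rw [Ideal.smul_top_eq_map, Submodule.restrictScalars_mem,
    IsLocalization.mem_map_algebraMap_iff m.primeCompl]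
  constructor
  · rintro ⟨⟨⟨a, ha⟩, ⟨s, hs⟩⟩, h⟩
    simp only at h
    rw [← map_mul] at h
    obtain ⟨⟨t, ht⟩, htz⟩ := (IsLocalization.eq_iff_exists m.primeCompl _).mp h
    simp only at htz
    refine ⟨t * s, fun hmem => (Ideal.IsPrime.mem_or_mem ‹_› hmem).elim ht hs, ?_⟩
    have : t * s * z = t * a := by rw [← htz]; ring
    rw [this]
    exact J.mul_mem_left t ha
  · rintro ⟨s, hs, hsz⟩
    exact ⟨⟨⟨s * z, hsz⟩, ⟨s, hs⟩⟩, by simp only [map_mul]; ring⟩

theorem prime_eq_of_colonLoc_le {R : Type*} [CommRing R] (J : Ideal R)
    (hJ : ∀ p : Ideal R, p.IsPrime → J ≤ p → p.IsMaximal) (m : Ideal R) [m.IsPrime]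
    (P : Ideal R) [P.IsPrime] (hP : ∀ x, (∃ s, s ∉ m ∧ s * x ∈ J) → x ∈ P) : P = m := by
  by_cases hdisj : Disjoint (J : Set R) ((m.primeCompl ⊔ P.primeCompl : Submonoid R) : Set R)
  · obtain ⟨P', hP'prime, hJP', hP'disj⟩ := Ideal.exists_le_prime_disjoint J _ hdisj
    have hP'max := hJ P' hP'prime hJP'
    have h1 : P' ≤ m := by
      intro x hx
      by_contra hxm
      exact Set.disjoint_left.mp hP'disj hx
        ((le_sup_left : m.primeCompl ≤ m.primeCompl ⊔ P.primeCompl) hxm)
    have h2 : P' ≤ P := by
      intro x hx
      by_contra hxm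
      exact Set.disjoint_left.mp hP'disj hx
        ((le_sup_right : P.primeCompl ≤ m.primeCompl ⊔ P.primeCompl) hxm)
    rw [← hP'max.eq_of_le (Ideal.IsPrime.ne_top ‹_›) h1,
      ← hP'max.eq_of_le (Ideal.IsPrime.ne_top ‹_›) h2]
  · exfalso
    rw [Set.not_disjoint_iff] at hdisj
    obtain ⟨j, hjJ, hjS⟩ := hdisj
    obtain ⟨s, hs, x, hx, rfl⟩ := Submonoid.mem_sup.mp hjS
    exact hx (hP x ⟨s, hs, hjJ⟩)

theorem levelwise_bijective (R : Type*) [CommRing R] [Finite (MaximalSpectrum R)] (I : Ideal R)
    (hI : ∀ (p : Ideal R), p.IsPrime → I ≤ p → p.IsMaximal) (n : ℕ) :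
    Function.Bijective (fun (x : R ⧸ (I ^ n • ⊤ : Submodule R R))
      (m : {m : MaximalSpectrum R // I ≤ m.asIdeal}) =>
      (Algebra.linearMap R (Localization.AtPrime m.1.asIdeal)).reduceModIdeal (I ^ n) x) := by
  classical
  constructor
  · -- injectivity
    intro x y hxy
    obtain ⟨x, rfl⟩ := Submodule.Quotient.mk_surjective _ x
    obtain ⟨y, rfl⟩ := Submodule.Quotient.mk_surjective _ y
    rw [Submodule.Quotient.eq]
    have hz : ∀ m : {m : MaximalSpectrum R // I ≤ m.asIdeal},
        ∃ s, s ∉ m.1.asIdeal ∧ s * (x - y) ∈ I ^ n := by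
      intro m
      rw [← algebraMap_mem_smul_top_iff]
      have := congrFun hxy m
      simp only [LinearMap.reduceModIdeal_apply] at this
      rw [Submodule.Quotient.eq] at this
      rw [map_sub]
      exact this
    rw [smul_eq_mul, Ideal.mul_top]
    by_contra hnot
    have hC : (I ^ n).colon ({x - y} : Set R) ≠ ⊤ := by
      intro h
      have h1 : (1 : R) ∈ (I ^ n).colon ({x - y} : Set R) := h ▸ Submodule.mem_top
      rw [Submodule.mem_colon_singleton, one_smul] at h1
      exact hnot h1
    obtain ⟨P, hPmax, hle⟩ := Ideal.exists_le_maximal _ hC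
    have hJP : I ^ n ≤ P := by
      intro j hj
      apply hle
      rw [Submodule.mem_colon_singleton, smul_eq_mul]
      exact Ideal.mul_mem_right _ _ hj
    have hIP : I ≤ P := hPmax.isPrime.le_of_pow_le hJP
    obtain ⟨s, hs, hsz⟩ := hz ⟨⟨P, hPmax⟩, hIP⟩
    apply hs
    apply hle
    rw [Submodule.mem_colon_singleton, smul_eq_mul]
    exact hsz
  · -- surjectivity
    intro y
    by_cases hn : n = 0
    · subst hn
      have hsub : ∀ m : {m : MaximalSpectrum R // I ≤ m.asIdeal},
          Subsingleton (Localization.AtPrime m.1.asIdeal ⧸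
            (I ^ 0 • ⊤ : Submodule R (Localization.AtPrime m.1.asIdeal))) := by
        intro m
        rw [Submodule.Quotient.subsingleton_iff, pow_zero, Ideal.one_eq_top,
          Submodule.top_smul]
      exact ⟨0, funext fun m => (hsub m).elim _ _⟩
    · have hJ : ∀ p : Ideal R, p.IsPrime → I ^ n ≤ p → p.IsMaximal :=
        fun p hp h => hI p hp (hp.le_of_pow_le h)
      let Q : {m : MaximalSpectrum R // I ≤ m.asIdeal} → Ideal R := fun m =>
        Submodule.comap (Algebra.linearMap R (Localization.AtPrime m.1.asIdeal))
          (I ^ n • ⊤ : Submodule R (Localization.AtPrime m.1.asIdeal))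
      have hQ : ∀ m x, x ∈ Q m ↔ ∃ s, s ∉ m.1.asIdeal ∧ s * x ∈ I ^ n :=
        fun m x => algebraMap_mem_smul_top_iff (I ^ n) m.1.asIdeal x
      have hVQ : ∀ (m : {m : MaximalSpectrum R // I ≤ m.asIdeal}) (P : Ideal R), P.IsPrime →
          Q m ≤ P → P = m.1.asIdeal := by
        intro m P hP hle
        exact prime_eq_of_colonLoc_le (I ^ n) hJ m.1.asIdeal P
          (fun x hx => hle ((hQ m x).mpr hx))
      have hcop : Pairwise (Function.onFun IsCoprime Q) := by
        intro m m' hne
        rw [Function.onFun, Ideal.isCoprime_iff_sup_eq]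
        by_contra hsup
        obtain ⟨P, hPmax, hle⟩ := Ideal.exists_le_maximal _ hsup
        have h1 := hVQ m P hPmax.isPrime (le_sup_left.trans hle)
        have h2 := hVQ m' P hPmax.isPrime (le_sup_right.trans hle)
        apply hne
        apply Subtype.ext
        apply MaximalSpectrum.ext
        rw [← h1, ← h2]
      have hrep : ∀ m : {m : MaximalSpectrum R // I ≤ m.asIdeal}, ∃ x : R,
          (Submodule.Quotient.mk (algebraMap R (Localization.AtPrime m.1.asIdeal) x) :
            Localization.AtPrime m.1.asIdeal ⧸
              (I ^ n • ⊤ : Submodule R (Localization.AtPrime m.1.asIdeal))) = y m := by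
        intro m
        obtain ⟨w, hw⟩ := Submodule.Quotient.mk_surjective _ (y m)
        obtain ⟨a, ⟨s, hs⟩, rfl⟩ := IsLocalization.exists_mk'_eq m.1.asIdeal.primeCompl w
        have hsQ : Ideal.span {s} ⊔ Q m = ⊤ := by
          by_contra hne
          obtain ⟨P, hPmax, hle⟩ := Ideal.exists_le_maximal _ hne
          have h1 := hVQ m P hPmax.isPrime (le_sup_right.trans hle)
          exact hs (h1 ▸ (le_sup_left.trans hle) (Ideal.subset_span rfl))
        have h1mem : (1 : R) ∈ Ideal.span {s} ⊔ Q m := hsQ ▸ Submodule.mem_top
        obtain ⟨b', hb', q, hq, hbq⟩ := Submodule.mem_sup.mp h1mem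
        obtain ⟨b, rfl⟩ := Ideal.mem_span_singleton'.mp hb'
        refine ⟨a * b, ?_⟩
        rw [← hw, Submodule.Quotient.eq, Ideal.smul_top_eq_map, Submodule.restrictScalars_mem]
        have hqmem : algebraMap R (Localization.AtPrime m.1.asIdeal) q ∈
            Ideal.map (algebraMap R (Localization.AtPrime m.1.asIdeal)) (I ^ n) := by
          have := hq
          rw [Submodule.mem_comap, Ideal.smul_top_eq_map, Submodule.restrictScalars_mem] at this
          exact this
        have hspec := IsLocalization.mk'_spec (Localization.AtPrime m.1.asIdeal) a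
          (⟨s, hs⟩ : m.1.asIdeal.primeCompl)
        have hq' := congrArg (algebraMap R (Localization.AtPrime m.1.asIdeal)) hbq
        simp only [map_add, map_mul, map_one] at hq'
        have : algebraMap R (Localization.AtPrime m.1.asIdeal) (a * b) -
            IsLocalization.mk' (Localization.AtPrime m.1.asIdeal) a
              (⟨s, hs⟩ : m.1.asIdeal.primeCompl) =
            -(IsLocalization.mk' (Localization.AtPrime m.1.asIdeal) a
              (⟨s, hs⟩ : m.1.asIdeal.primeCompl)) *
              algebraMap R (Localization.AtPrime m.1.asIdeal) q := by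
          simp only [map_mul]
          simp only at hspec
          linear_combination (-(algebraMap R (Localization.AtPrime m.1.asIdeal) b)) * hspec +
            (IsLocalization.mk' (Localization.AtPrime m.1.asIdeal) a
              (⟨s, hs⟩ : m.1.asIdeal.primeCompl)) * hq'
        rw [this]
        exact Ideal.mul_mem_left _ _ hqmem
      choose xr hxr using hrep
      obtain ⟨x, hx⟩ := Ideal.exists_forall_sub_mem_ideal hcop xr
      refine ⟨Submodule.Quotient.mk x, funext fun m => ?_⟩
      rw [← hxr m]
      simp only [LinearMap.reduceModIdeal_apply, Algebra.linearMap_apply]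
      rw [Submodule.Quotient.eq, ← map_sub]
      exact hx m

/-- Let R be a semilocal ring (finitely many maximal ideals) and I an ideal of R of co-height zero, i.e.
every prime ideal containing I is maximal. Then the canonical map from the I-adic completion of R to
the product, over the maximal ideals m ⊇ I, of the I-adic completions of the local rings R_m
(equivalently their IR_m-adic completions) is bijective; it is the continuous ring isomorphism of
the source, stated here as bijectivity of the canonical map of completed modules. -/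
theorem result
    (R : Type u) [CommRing R] (hR : Finite (MaximalSpectrum R)) (I : Ideal R)
    (hI : ∀ (p : Ideal R), p.IsPrime → I ≤ p → p.IsMaximal) :
    Function.Bijective (LinearMap.pi (fun m : {m : MaximalSpectrum R // I ≤ m.asIdeal} =>
      AdicCompletion.map I (Algebra.linearMap R (Localization.AtPrime m.1.asIdeal)))) := by
  have := hR
  exact bijective_pi_map_of_levelwise I
    (fun m : {m : MaximalSpectrum R // I ≤ m.asIdeal} => Localization.AtPrime m.1.asIdeal)
    (fun m => Algebra.linearMap R (Localization.AtPrime m.1.asIdeal))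
    (fun n => levelwise_bijective R I hI n)

end Groth.Agent.S14727
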