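import Groth.Statements.S14730
import Groth.Agent.Lib.LeadVP4
import Groth.Agent.Lib.Helper19ChainTrdeg
import Groth.Agent.Lib.Helper19PruferTransfer

set_option autoImplicit false
universe u
open ValPrufer

namespace Groth.Agent.S14730

/-- Let R be a semilocal Prüfer domain (an integral domain with finitely many maximal ideals whose
localisations at primes are valuation rings). Then R is the increasing union of subrings that are
semilocal Prüfer domains of finite Krull dimension; equivalently, every finite subset of R is
contained in such a subring. -/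
theorem result
    (R : Type u) [CommRing R] [IsDomain R]
    (hR : ∀ (p : Ideal R) [p.IsPrime], ValuationRing (Localization.AtPrime p))
    (hfin : Finite (MaximalSpectrum R)) (s : Finset R) :
    ∃ R' : Subring R, (↑s : Set R) ⊆ R' ∧
      (∀ (p : Ideal R') [p.IsPrime], ValuationRing (Localization.AtPrime p)) ∧
      Finite (MaximalSpectrum R') ∧ ringKrullDim R' < ⊤ := by
  classical
  set L := FractionRing R with hL
  set K0 : Subfield L := Subfield.closure (algebraMap R L '' (s : Set R)) with hK0
  obtain ⟨hB1, hB2, -⟩ := Groth.Agent.Lib.LeadVP.semilocal_prufer_inf_subfield (L := L) hR hfin K0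
  set B : Subring L := (algebraMap R L).range ⊓ K0.toSubring with hB
  set R' : Subring R := K0.toSubring.comap (algebraMap R L) with hR'
  have hinj : Function.Injective (algebraMap R L) := IsFractionRing.injective R L
  have hsR' : (↑s : Set R) ⊆ R' := by
    intro x hx
    show algebraMap R L x ∈ K0
    exact Subfield.subset_closure ⟨x, hx, rfl⟩
  -- the equivalence R' ≃ B
  let φ : R' →+* B := ((algebraMap R L).comp R'.subtype).codRestrict B (by
    intro x
    exact ⟨⟨x.1, rfl⟩, x.2⟩)
  have hφinj : Function.Injective φ := by
    intro x y hxy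
    have : algebraMap R L x.1 = algebraMap R L y.1 := congrArg Subtype.val hxy
    exact Subtype.ext (hinj this)
  have hφsurj : Function.Surjective φ := by
    rintro ⟨b, ⟨r, rfl⟩, hb2⟩
    exact ⟨⟨r, hb2⟩, rfl⟩
  let e : R' ≃+* B := RingEquiv.ofBijective φ ⟨hφinj, hφsurj⟩
  refine ⟨R', hsR', ?_, ?_, ?_⟩
  · intro p _
    exact Groth.Agent.Lib.Helper19PruferTransfer.prufer_of_ringEquiv e hB1 p
  · exact Groth.Agent.Lib.Helper19PruferTransfer.finite_maximalSpectrum_of_ringEquiv e hB2
  · -- Krull dimension
    let s' : Finset R' := s.subtype (· ∈ R')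
    have hs' : ∀ x ∈ s, ∀ hx : x ∈ R', (⟨x, hx⟩ : R') ∈ s' := by
      intro x hx hx'
      exact Finset.mem_subtype.mpr hx
    let ψ : R' →+* L := (algebraMap R L).comp R'.subtype
    have hψinj : Function.Injective ψ := fun x y hxy => Subtype.ext (hinj hxy)
    let AS : Subalgebra (Groth.Agent.Lib.Helper19ChainTrdeg.T R') R' :=
      Algebra.adjoin (Groth.Agent.Lib.Helper19ChainTrdeg.T R') (s' : Set R')
    have hcl : Subring.closure (algebraMap R L '' (s : Set R)) ≤ AS.toSubring.map ψ := by
      rw [Subring.closure_le]
      rintro _ ⟨x, hx, rfl⟩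
      exact ⟨⟨x, hsR' hx⟩, Algebra.subset_adjoin (hs' x hx _), rfl⟩
    have halg : Algebra.IsAlgebraic AS R' := by
      constructor
      intro b
      have hb : algebraMap R L b.1 ∈ K0 := b.2
      rw [hK0, Subfield.mem_closure_iff] at hb
      obtain ⟨y, hy, z, hz, hyz⟩ := hb
      obtain ⟨y', hy', rfl⟩ := hcl hy
      obtain ⟨z', hz', rfl⟩ := hcl hz
      by_cases hz0 : z' = 0
      · have : b = 0 := by
          apply hψinj
          show algebraMap R L b.1 = ψ 0
          rw [← hyz, hz0, map_zero, div_zero]
        rw [this]; exact isAlgebraic_zero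
      · have hψz : ψ z' ≠ 0 := fun h => hz0 (hψinj (by rw [h, map_zero]))
        have hmul : z' * b = y' := by
          apply hψinj
          rw [map_mul]
          show ψ z' * algebraMap R L b.1 = ψ y'
          rw [← hyz, mul_div_cancel₀ _ hψz]
        refine ⟨Polynomial.C (⟨z', hz'⟩ : AS) * Polynomial.X - Polynomial.C (⟨y', hy'⟩ : AS), ?_, ?_⟩
        · intro h
          have h1 := congrArg (fun q => Polynomial.coeff q 1) h
          simp at h1
          exact hz0 (congrArg Subtype.val h1)
        · simp only [map_sub, map_mul, Polynomial.aeval_C, Polynomial.aeval_X]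
          show z' * b - y' = 0
          rw [hmul, sub_self]
    exact Groth.Agent.Lib.Helper19ChainTrdeg.ringKrullDim_lt_top s'

end Groth.Agent.S14730
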