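import Groth.Statements.S14733
import Groth.Agent.Lib.Helper3DomFibDim
import Mathlib

set_option autoImplicit false
open CategoryTheory AlgebraicGeometry
universe u
open ValPrufer

namespace Groth.Agent.S14733

/-- Let R be a Prüfer domain (an integral domain whose localisations at primes are valuation rings), X
an irreducible scheme and f : X ⟶ Spec R a dominant morphism of finite type. If the fibre of f over
a point γ of Spec R is nonempty, then it has the same dimension as the fibre over the generic point. -/
theorem result
    (R : Type u) [CommRing R] [IsDomain R]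
    (hR : ∀ (p : Ideal R) [p.IsPrime], ValuationRing (Localization.AtPrime p))
    (X : Scheme.{u}) [IrreducibleSpace X] (f : X ⟶ Spec (CommRingCat.of R))
    [LocallyOfFiniteType f] [QuasiCompact f] [IsDominant f] (γ : Spec (CommRingCat.of R))
    (h0 : Nonempty ↥(f.fiber γ)) :
    topologicalKrullDim ↥(f.fiber γ) =
      topologicalKrullDim ↥(f.fiber (genericPoint (Spec (CommRingCat.of R)))) := by
  apply le_antisymm
  · exact Groth.Agent.Lib.Helper3.DomFibDim.dim_fiber_le_dim_genericFibre f
      (fun M _ _ h =>
        (Module.Flat.flat_iff_torsion_eq_bot_of_valuationRing_localization_isMaximal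
          (fun P _ => hR P)).mpr h) _
  · obtain ⟨z⟩ := h0
    refine (Groth.Agent.Lib.Helper3.DomFibDim.dim_genericFibre_le_fibreDimAt f
      (f.fiberι _ z)).trans ?_
    rw [Groth.Agent.Lib.Helper3.DimCons.fibreDimAt_fiberι]
    exact Groth.Agent.Lib.Helper7.TopDim.localDim_le_dim _

end Groth.Agent.S14733
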