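import Groth.Statements.S14735
import Groth.Agent.Lib.Helper22PruferDimD2

set_option autoImplicit false
universe u
open ValPrufer

namespace Groth.Agent.S14735

set_option linter.style.haveILetI false
set_option linter.unusedSectionVars false
set_option linter.unusedVariables false

open Groth.Agent.Lib.Helper22.PruferDim

/-- Let R be a Prüfer domain (an integral domain whose localisations at primes are valuation rings) of
finite Krull dimension and S an R-algebra of finite type. For a prime P of S over p = P ∩ R put δ(P)
= trdeg(S/P over R/p) − height(p), an integer. Then for primes P ⊊ Q of S one has δ(Q) < δ(P), and Q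
covers P in the prime spectrum (no prime ideal lies strictly between P and Q) if and only if δ(P) =
δ(Q) + 1. (The published statement is phrased for the points of a scheme of finite type over R, with
the transcendence degree of residue fields and the codimension of the closure of the image point;
this row is the affine case, where these are the transcendence degree of S/P over R/p and the height
of p.) -/
theorem result
    (R : Type u) [CommRing R] [IsDomain R]
    (hR : ∀ (p : Ideal R) [p.IsPrime], ValuationRing (Localization.AtPrime p))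
    (hdim : ringKrullDim R < ⊤)
    (S : Type u) [CommRing S] [Algebra R S] [Algebra.FiniteType R S]
    (P Q : Ideal S) [P.IsPrime] [Q.IsPrime] (hPQ : P < Q) :
    ((Cardinal.toNat (Algebra.trdeg (R ⧸ Q.under R) (S ⧸ Q)) : ℤ) - ((Q.under R).height.toNat : ℤ)
        < (Cardinal.toNat (Algebra.trdeg (R ⧸ P.under R) (S ⧸ P)) : ℤ) - ((P.under R).height.toNat : ℤ)) ∧
      ((⟨P, inferInstance⟩ : PrimeSpectrum S) ⋖ ⟨Q, inferInstance⟩ ↔ (Cardinal.toNat (Algebra.trdeg (R ⧸ P.under R) (S ⧸ P)) : ℤ) - ((P.under R).height.toNat : ℤ)
        = (Cardinal.toNat (Algebra.trdeg (R ⧸ Q.under R) (S ⧸ Q)) : ℤ) - ((Q.under R).height.toNat : ℤ) + 1) := by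
  obtain ⟨tP, tQ, hP, hQ, htP, htQ, hhP, hhQ, hlt, hcov⟩ := step hR hdim P Q hPQ
  rw [htP, htQ, hhP, hhQ]
  simp only [Cardinal.toNat_natCast, ENat.toNat_natCast]
  refine ⟨by omega, ⟨fun h => ?_, fun h => ?_⟩⟩
  · have := hcov (by
      intro Q' hQ' h1 h2
      by_contra hcon
      push Not at hcon
      have hlt1 : (⟨P, inferInstance⟩ : PrimeSpectrum S) < ⟨Q', hQ'⟩ := lt_of_le_of_ne h1 (by
        intro heq
        exact hcon.1 (congrArg PrimeSpectrum.asIdeal heq).symm)
      have hlt2 : (⟨Q', hQ'⟩ : PrimeSpectrum S) < ⟨Q, inferInstance⟩ := lt_of_le_of_ne h2 (by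
        intro heq
        exact hcon.2 (congrArg PrimeSpectrum.asIdeal heq))
      exact h.2 hlt1 hlt2)
    omega
  · refine ⟨hPQ, ?_⟩
    intro c hPc hcQ
    haveI := c.2
    have hPc' : P < c.asIdeal := hPc
    have hcQ' : c.asIdeal < Q := hcQ
    obtain ⟨tP', tc, hP', hc, htP', htc, hhP', hhc, hlt1, -⟩ := step hR hdim P c.asIdeal hPc'
    obtain ⟨tc', tQ', hc', hQ', htc', htQ', hhc', hhQ', hlt2, -⟩ := step hR hdim c.asIdeal Q hcQ'
    have e1 : tP' = tP := by
      have : (tP' : Cardinal) = tP := by rw [← htP', ← htP]
      exact_mod_cast this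
    have e2 : tc' = tc := by
      have : (tc' : Cardinal) = tc := by rw [← htc', ← htc]
      exact_mod_cast this
    have e3 : tQ' = tQ := by
      have : (tQ' : Cardinal) = tQ := by rw [← htQ', ← htQ]
      exact_mod_cast this
    have e4 : hP' = hP := by
      have : (hP' : ℕ∞) = hP := by rw [← hhP', ← hhP]
      exact_mod_cast this
    have e5 : hc' = hc := by
      have : (hc' : ℕ∞) = hc := by rw [← hhc', ← hhc]
      exact_mod_cast this
    have e6 : hQ' = hQ := by
      have : (hQ' : ℕ∞) = hQ := by rw [← hhQ', ← hhQ]
      exact_mod_cast this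
    omega

end Groth.Agent.S14735
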