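import Groth.Statements.S14734
import Groth.Agent.Lib.Helper22PruferDimE
import Groth.Agent.S14735

set_option autoImplicit false
universe u
open ValPrufer

namespace Groth.Agent.S14734

set_option linter.style.haveILetI false
set_option linter.unusedSectionVars false
set_option linter.unusedVariables false

open Groth.Agent.Lib.Helper22.PruferDim

/-- Let R be a Prüfer domain (an integral domain whose localisations at primes are valuation rings) of
finite Krull dimension and S an R-algebra of finite type. Then S, and every localisation T of S at a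
multiplicative subset, is catenary and of finite Krull dimension. (The published statement is for a
scheme X of finite type over R and the spectrum of any semilocalisation of X; catenarity is local
and finiteness of dimension is checked on a finite affine cover, so this row states the affine case
together with arbitrary localisations.) -/
theorem result
    (R : Type u) [CommRing R] [IsDomain R]
    (hR : ∀ (p : Ideal R) [p.IsPrime], ValuationRing (Localization.AtPrime p))
    (hdim : ringKrullDim R < ⊤)
    (S : Type u) [CommRing S] [Algebra R S] [Algebra.FiniteType R S]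
    (M : Submonoid S) (T : Type u) [CommRing T] [Algebra S T] [IsLocalization M T] :
    CAlg.IsCatenary S ∧ ringKrullDim S < ⊤ ∧ CAlg.IsCatenary T ∧ ringKrullDim T < ⊤ := by
  -- the dimension function
  let g : PrimeSpectrum S → ℤ := fun x =>
    (Cardinal.toNat (Algebra.trdeg (R ⧸ x.asIdeal.under R) (S ⧸ x.asIdeal)) : ℤ) -
      ((x.asIdeal.under R).height.toNat : ℤ)
  have ha : ∀ a b : PrimeSpectrum S, a < b → g b < g a := by
    intro a b hab
    haveI := a.2
    haveI := b.2
    exact (Groth.Agent.S14735.result R hR hdim S a.asIdeal b.asIdeal hab).1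
  have hb : ∀ a b : PrimeSpectrum S, a ⋖ b → g a = g b + 1 := by
    intro a b hab
    haveI := a.2
    haveI := b.2
    exact (Groth.Agent.S14735.result R hR hdim S a.asIdeal b.asIdeal hab.1).2.mp hab
  have hcatS : CAlg.IsCatenary S := isCatenary_of_dimFn g ha hb
  obtain ⟨n, hn⟩ := exists_trdeg_bound (R := R) (S := S)
  obtain ⟨d, hd⟩ := exists_height_bound hdim
  have hdimS : ringKrullDim S < ⊤ := by
    refine ringKrullDim_lt_top_of_dimFn g ha (-(d : ℤ)) n ?_ ?_
    · intro a
      haveI := a.2
      have h1 := hd (a.asIdeal.under R)
      have h2 : (a.asIdeal.under R).height.toNat ≤ d := by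
        have := ENat.toNat_le_toNat h1 (ENat.natCast_ne_top d)
        simpa using this
      have h3 : (0 : ℤ) ≤ (Cardinal.toNat (Algebra.trdeg (R ⧸ a.asIdeal.under R) (S ⧸ a.asIdeal)) : ℤ) :=
        Int.natCast_nonneg _
      change -(d : ℤ) ≤ (Cardinal.toNat (Algebra.trdeg (R ⧸ a.asIdeal.under R) (S ⧸ a.asIdeal)) : ℤ) -
        ((a.asIdeal.under R).height.toNat : ℤ)
      omega
    · intro a
      haveI := a.2
      have h1 := hn a.asIdeal
      have h2 : Cardinal.toNat (Algebra.trdeg (R ⧸ a.asIdeal.under R) (S ⧸ a.asIdeal)) ≤ n := by
        have := Cardinal.toNat_le_toNat h1 (Cardinal.natCast_lt_aleph0 (n := n))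
        simpa using this
      change (Cardinal.toNat (Algebra.trdeg (R ⧸ a.asIdeal.under R) (S ⧸ a.asIdeal)) : ℤ) -
        ((a.asIdeal.under R).height.toNat : ℤ) ≤ n
      omega
  refine ⟨hcatS, hdimS, Groth.Agent.Helper13Cat.isCatenary_of_isLocalization S M T hcatS, ?_⟩
  refine lt_of_le_of_lt ?_ hdimS
  let e := Groth.Agent.Helper13Cat.embOfIsEmbedding (algebraMap S T)
    (PrimeSpectrum.localization_comap_isEmbedding T M)
  exact Order.krullDim_le_of_strictMono e e.strictMono

end Groth.Agent.S14734
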