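import Groth.Statements.S14738
import Mathlib

set_option autoImplicit false
universe u
open ValPrufer

namespace Groth.Agent.S14738


theorem total_of_val {R : Type u} [CommRing R] [IsDomain R]
    (hR : ∀ (p : Ideal R) [p.IsPrime], ValuationRing (Localization.AtPrime p))
    (n : Ideal R) [n.IsPrime] (p q : Ideal R) (hp : p.IsPrime) (hq : q.IsPrime)
    (hpn : p ≤ n) (hqn : q ≤ n) : p ≤ q ∨ q ≤ p := by
  haveI := hR n
  have hdp : Disjoint (n.primeCompl : Set R) p := by
    rw [Set.disjoint_left]; intro x hx hxp; exact hx (hpn hxp)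
  have hdq : Disjoint (n.primeCompl : Set R) q := by
    rw [Set.disjoint_left]; intro x hx hxq; exact hx (hqn hxq)
  have e1 := IsLocalization.under_map_of_isPrime_disjoint n.primeCompl (Localization.AtPrime n) hp hdp
  have e2 := IsLocalization.under_map_of_isPrime_disjoint n.primeCompl (Localization.AtPrime n) hq hdq
  rcases (ValuationRing.le_total_ideal (A := Localization.AtPrime n)).total
    (p.map (algebraMap R (Localization.AtPrime n))) (q.map (algebraMap R (Localization.AtPrime n)))
    with h | h
  · left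
    rw [← e1, ← e2]
    exact Ideal.comap_mono h
  · right
    rw [← e1, ← e2]
    exact Ideal.comap_mono h

/-- Let R be a semilocal Prüfer domain (an integral domain with finitely many maximal ideals whose
localisations at primes are valuation rings) of finite Krull dimension, and m a maximal ideal of R.
Then there is a ∈ R with V(a) = {m}, i.e. m is the only prime ideal containing a, and there is b ∉ m
such that R[1/b] is the localisation R_m (every element outside m becomes invertible after inverting
b); consequently the spectra of the local rings R_m form a Zariski open covering of Spec R. (The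
published remark assumes positive Krull dimension to construct a; for R a field the assertions hold
with a = 0 and b = 1. It also takes b to be the product of the elements a_n chosen in the same way
for the other maximal ideals n; that choice fails as soon as a non-maximal prime lies in another
maximal ideal but not in m, e.g. for the intersection of two independent rank-two valuation rings of
a field, so this row asserts only that some such b exists.) -/
theorem result
    (R : Type u) [CommRing R] [IsDomain R]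
    (hR : ∀ (p : Ideal R) [p.IsPrime], ValuationRing (Localization.AtPrime p))
    (hfin : Finite (MaximalSpectrum R)) (hdim : ringKrullDim R < ⊤)
    (m : Ideal R) [m.IsMaximal] :
    (∃ a : R, ∀ (p : Ideal R), p.IsPrime → (a ∈ p ↔ p = m)) ∧
      ∃ b : R, b ∉ m ∧ IsLocalization.AtPrime (Localization.Away b) m := by
  have hm : m.IsMaximal := inferInstance
  classical
  haveI : FiniteRingKrullDim R := by
    rw [finiteRingKrullDim_iff_ne_bot_and_top]
    refine ⟨?_, hdim.ne⟩
    have : (0 : WithBot ℕ∞) ≤ ringKrullDim R := Order.krullDim_nonneg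
    intro h; rw [h] at this; simp at this
  have hwfLT : WellFounded ((· < ·) : PrimeSpectrum R → PrimeSpectrum R → Prop) :=
    SetRel.IsWellFounded.of_finiteDimensional {(a, b) : PrimeSpectrum R × PrimeSpectrum R | a < b}
  have hwfGT : WellFounded ((· > ·) : PrimeSpectrum R → PrimeSpectrum R → Prop) :=
    SetRel.IsWellFounded.inv_of_finiteDimensional
      {(a, b) : PrimeSpectrum R × PrimeSpectrum R | a < b}
  -- finiteness of maximal ideals
  have hmaxfin : {n : Ideal R | n.IsMaximal}.Finite := by
    have : {n : Ideal R | n.IsMaximal} = Set.range (fun x : MaximalSpectrum R => x.asIdeal) := by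
      ext n
      constructor
      · intro hn; exact ⟨⟨n, hn⟩, rfl⟩
      · rintro ⟨x, rfl⟩; exact x.isMaximal
    rw [this]
    exact Set.finite_range _
  constructor
  · -- part a
    let S₁ : Set (Ideal R) := {n | n.IsMaximal ∧ n ≠ m}
    let S₂ : Set (Ideal R) := {p | p.IsPrime ∧ p < m ∧ ∀ q : Ideal R, q.IsPrime → q < m → q ≤ p}
    have hS₁ : S₁.Finite := hmaxfin.subset (fun n hn => hn.1)
    have hS₂ : S₂.Finite := by
      apply Set.Subsingleton.finite
      intro p hp q hq
      exact le_antisymm (hq.2.2 p hp.1 hp.2.1) (hp.2.2 q hq.1 hq.2.1)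
    have hT : (S₁ ∪ S₂).Finite := hS₁.union hS₂
    have hTprime : ∀ i ∈ hT.toFinset, i.IsPrime := by
      intro i hi
      rw [Set.Finite.mem_toFinset] at hi
      rcases hi with hi | hi
      · exact hi.1.isPrime
      · exact hi.1
    have hnot : ¬ ((m : Set R) ⊆ ⋃ i ∈ (hT.toFinset : Set (Ideal R)), (i : Set R)) := by
      intro hsub
      obtain ⟨i, hi, hmi⟩ := (Ideal.subset_union_prime (f := fun i : Ideal R => i) m m
        (fun i hi _ _ => hTprime i hi)).mp hsub
      rw [Set.Finite.mem_toFinset] at hi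
      rcases hi with hi | hi
      · exact hi.2 (hm.eq_of_le hi.1.ne_top hmi).symm
      · exact absurd hi.2.1 (not_lt_of_ge hmi)
    obtain ⟨a, ham, ha⟩ := Set.not_subset.mp hnot
    refine ⟨a, fun p hp => ⟨fun hap => ?_, fun h => h ▸ ham⟩⟩
    have ha' : ∀ i ∈ S₁ ∪ S₂, a ∉ i := by
      intro i hi hai
      apply ha
      simp only [Set.mem_iUnion]
      exact ⟨i, by simpa using hi, hai⟩
    -- p ≤ m
    have hpm : p ≤ m := by
      obtain ⟨n, hn, hpn⟩ := Ideal.exists_le_maximal p hp.ne_top
      by_cases hnm : n = m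
      · exact hnm ▸ hpn
      · exact absurd (hpn hap) (ha' n (Or.inl ⟨hn, hnm⟩))
    by_contra hne
    have hlt : p < m := lt_of_le_of_ne hpm hne
    -- maximal element of primes below m
    obtain ⟨p', hp'mem, hp'max⟩ := hwfGT.has_min {x : PrimeSpectrum R | x.asIdeal < m} ⟨⟨p, hp⟩, hlt⟩
    have hp'S₂ : p'.asIdeal ∈ S₂ := by
      refine ⟨p'.isPrime, hp'mem, fun q hq hqm => ?_⟩
      rcases total_of_val hR m q p'.asIdeal hq p'.isPrime hqm.le (le_of_lt hp'mem) with h | h
      · exact h
      · by_contra hnle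
        have hlt' : p' < ⟨q, hq⟩ := lt_of_le_of_ne h (fun heq => hnle (le_of_eq (congrArg PrimeSpectrum.asIdeal heq).symm))
        exact hp'max ⟨q, hq⟩ hqm hlt'
    exact ha' _ (Or.inr hp'S₂) (hp'S₂.2.2 p hp hlt hap)
  · -- part b
    let Q : Ideal R → Set (Ideal R) := fun n => {q | q.IsPrime ∧ q ≤ n ∧ ¬ q ≤ m}
    let S₃ : Set (Ideal R) := ⋃ n ∈ {n : Ideal R | n.IsMaximal ∧ n ≠ m},
      {q | q ∈ Q n ∧ ∀ q' ∈ Q n, q ≤ q'}
    have hS₃ : S₃.Finite := by
      apply Set.Finite.biUnion (hmaxfin.subset (fun n hn => hn.1))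
      intro n _
      apply Set.Subsingleton.finite
      intro p hp q hq
      exact le_antisymm (hp.2 q hq.1) (hq.2 p hp.1)
    have hnotle : ¬ (hS₃.toFinset.inf (fun i : Ideal R => i) ≤ m) := by
      rw [Ideal.IsPrime.inf_le' hm.isPrime]
      rintro ⟨q, hq, hqm⟩
      rw [Set.Finite.mem_toFinset] at hq
      simp only [S₃, Set.mem_iUnion] at hq
      obtain ⟨n, _, hqQ, _⟩ := hq
      exact hqQ.2.2 hqm
    obtain ⟨b, hbinf, hbm⟩ := SetLike.not_le_iff_exists.mp hnotle
    rw [Submodule.mem_finsetInf] at hbinf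
    have hb : ∀ q : Ideal R, q.IsPrime → ¬ q ≤ m → b ∈ q := by
      intro q hq hqm
      obtain ⟨n, hn, hqn⟩ := Ideal.exists_le_maximal q hq.ne_top
      have hnm : n ≠ m := fun h => hqm (h ▸ hqn)
      haveI := hn.isPrime
      obtain ⟨q₀, hq₀mem, hq₀min⟩ := hwfLT.has_min {x : PrimeSpectrum R | x.asIdeal ∈ Q n}
        ⟨⟨q, hq⟩, ⟨hq, hqn, hqm⟩⟩
      have hq₀ : ∀ q' ∈ Q n, q₀.asIdeal ≤ q' := by
        intro q' hq'
        rcases total_of_val hR n q₀.asIdeal q' q₀.isPrime hq'.1 hq₀mem.2.1 hq'.2.1 with h | h
        · exact h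
        · by_contra hnle
          have hlt' : (⟨q', hq'.1⟩ : PrimeSpectrum R) < q₀ :=
            lt_of_le_of_ne h (fun heq => hnle (le_of_eq (congrArg PrimeSpectrum.asIdeal heq).symm))
          exact hq₀min ⟨q', hq'.1⟩ hq' hlt'
      have hq₀S : q₀.asIdeal ∈ S₃ := by
        simp only [S₃, Set.mem_iUnion]
        exact ⟨n, ⟨hn, hnm⟩, hq₀mem, hq₀⟩
      exact hq₀ q ⟨hq, hqn, hqm⟩ (hbinf _ (by rw [Set.Finite.mem_toFinset]; exact hq₀S))
    refine ⟨b, hbm, ?_⟩
    have hpow : ∀ k : ℕ, b ^ k ∈ m.primeCompl := fun k hk =>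
      hbm (hm.isPrime.mem_of_pow_mem k hk)
    rw [IsLocalization.AtPrime, isLocalization_iff]
    refine ⟨?_, ?_, ?_⟩
    · rintro ⟨s, hs⟩
      by_contra hnu
      obtain ⟨M', hM', hsM'⟩ := exists_max_ideal_of_mem_nonunits hnu
      have hP : (M'.comap (algebraMap R (Localization.Away b))).IsPrime :=
        Ideal.comap_isPrime _ _
      have hbP : b ∉ M'.comap (algebraMap R (Localization.Away b)) := by
        intro hbP
        have hu : IsUnit (algebraMap R (Localization.Away b) b) :=
          IsLocalization.Away.algebraMap_isUnit b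
        exact hM'.ne_top (Ideal.eq_top_of_isUnit_mem _ hbP hu)
      have hPm : M'.comap (algebraMap R (Localization.Away b)) ≤ m := by
        by_contra hnle
        exact hbP (hb _ hP hnle)
      exact hs (hPm hsM')
    · intro z
      obtain ⟨⟨x, ⟨_, k, rfl⟩⟩, hx⟩ := IsLocalization.surj (Submonoid.powers b) z
      exact ⟨⟨x, ⟨b ^ k, hpow k⟩⟩, hx⟩
    · intro x y hxy
      obtain ⟨⟨_, k, rfl⟩, hc⟩ := IsLocalization.exists_of_eq (M := Submonoid.powers b) hxy
      exact ⟨⟨b ^ k, hpow k⟩, hc⟩

end Groth.Agent.S14738
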