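import Groth.Statements.S14739
import Mathlib
import Groth.Agent.S14738

set_option autoImplicit false
universe u
open ValPrufer

namespace Groth.Agent.S14739

open TopologicalSpace

theorem finite_spec (R : Type u) [CommRing R] [IsDomain R]
    (hR : ∀ (p : Ideal R) [p.IsPrime], ValuationRing (Localization.AtPrime p))
    (hfin : Finite (MaximalSpectrum R)) (hdim : ringKrullDim R < ⊤) :
    Finite (PrimeSpectrum R) := by
  classical
  haveI : FiniteRingKrullDim R := by
    rw [finiteRingKrullDim_iff_ne_bot_and_top]
    refine ⟨?_, hdim.ne⟩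
    have : (0 : WithBot ℕ∞) ≤ ringKrullDim R := Order.krullDim_nonneg
    intro h; rw [h] at this; simp at this
  have hwfLT : WellFounded ((· < ·) : PrimeSpectrum R → PrimeSpectrum R → Prop) :=
    SetRel.IsWellFounded.of_finiteDimensional {(a, b) : PrimeSpectrum R × PrimeSpectrum R | a < b}
  have hwfGT : WellFounded ((· > ·) : PrimeSpectrum R → PrimeSpectrum R → Prop) :=
    SetRel.IsWellFounded.inv_of_finiteDimensional
      {(a, b) : PrimeSpectrum R × PrimeSpectrum R | a < b}
  have hfinn : ∀ n : MaximalSpectrum R, {p : PrimeSpectrum R | p.asIdeal ≤ n.asIdeal}.Finite := by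
    intro n
    haveI := n.isMaximal.isPrime
    let L : LinearOrder {p : PrimeSpectrum R // p.asIdeal ≤ n.asIdeal} :=
      { (inferInstance : PartialOrder {p : PrimeSpectrum R // p.asIdeal ≤ n.asIdeal}) with
        le_total := fun a b => Groth.Agent.S14738.total_of_val hR n.asIdeal a.1.asIdeal b.1.asIdeal
          a.1.isPrime b.1.isPrime a.2 b.2
        toDecidableLE := Classical.decRel _ }
    have h1 : @WellFoundedLT {p : PrimeSpectrum R // p.asIdeal ≤ n.asIdeal} L.toLT :=
      ⟨InvImage.wf Subtype.val hwfLT⟩
    have h2 : @WellFoundedGT {p : PrimeSpectrum R // p.asIdeal ≤ n.asIdeal} L.toLT :=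
      ⟨InvImage.wf Subtype.val hwfGT⟩
    have hF : Finite {p : PrimeSpectrum R // p.asIdeal ≤ n.asIdeal} :=
      @Finite.of_wellFoundedLT_wellFoundedGT _ L h1 h2
    exact Set.finite_coe_iff.mp hF
  have huniv : (Set.univ : Set (PrimeSpectrum R)) =
      ⋃ n : MaximalSpectrum R, {p : PrimeSpectrum R | p.asIdeal ≤ n.asIdeal} := by
    ext p
    simp only [Set.mem_univ, Set.mem_iUnion, true_iff]
    obtain ⟨n, hn, hpn⟩ := Ideal.exists_le_maximal p.asIdeal p.isPrime.ne_top
    exact ⟨⟨n, hn⟩, hpn⟩
  rw [← Set.finite_univ_iff, huniv]
  exact Set.finite_iUnion hfinn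

/-- Let R be a semilocal Prüfer domain (an integral domain with finitely many maximal ideals whose
localisations at primes are valuation rings) of finite Krull dimension and S an R-algebra of finite
type. Then Spec S is a Noetherian topological space, and so is Spec T for every localisation T of S.
(The published remark is for a scheme of finite type over R and the spectrum of any
semilocalisation; the affine case with arbitrary localisations is stated.) -/
theorem result
    (R : Type u) [CommRing R] [IsDomain R]
    (hR : ∀ (p : Ideal R) [p.IsPrime], ValuationRing (Localization.AtPrime p))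
    (hfin : Finite (MaximalSpectrum R)) (hdim : ringKrullDim R < ⊤)
    (S : Type u) [CommRing S] [Algebra R S] [Algebra.FiniteType R S]
    (M : Submonoid S) (T : Type u) [CommRing T] [Algebra S T] [IsLocalization M T] :
    TopologicalSpace.NoetherianSpace (PrimeSpectrum S) ∧
      TopologicalSpace.NoetherianSpace (PrimeSpectrum T) := by
  haveI := finite_spec R hR hfin hdim
  have hS : NoetherianSpace (PrimeSpectrum S) := by
    have hfib : ∀ p : PrimeSpectrum R,
        NoetherianSpace (PrimeSpectrum.comap (algebraMap R S) ⁻¹' {p}) := by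
      intro p
      rw [noetherianSpace_iff_of_homeomorph (PrimeSpectrum.preimageHomeomorphFiber R S p)]
      haveI : IsNoetherianRing (p.asIdeal.Fiber S) :=
        Algebra.FiniteType.isNoetherianRing p.asIdeal.ResidueField _
      infer_instance
    have := NoetherianSpace.iUnion (fun p : PrimeSpectrum R =>
      PrimeSpectrum.comap (algebraMap R S) ⁻¹' {p})
    have huniv : (⋃ p : PrimeSpectrum R, PrimeSpectrum.comap (algebraMap R S) ⁻¹' {p}) = Set.univ := by
      ext q
      simp
    rw [huniv] at this
    exact noetherian_univ_iff.mp this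
  refine ⟨hS, ?_⟩
  exact (PrimeSpectrum.localization_comap_isInducing T M).noetherianSpace

end Groth.Agent.S14739
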