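import Groth.Statements.S14741
import Groth.Agent.S0022

set_option autoImplicit false
universe u
open CategoryTheory AlgebraicGeometry
open ValPrufer

namespace Groth.Agent.S14741

/-- Let R be a semilocal Prüfer domain (an integral domain with finitely many maximal ideals whose
localisations at primes are valuation rings) of finite Krull dimension, m ≥ 1, X a closed subscheme
of projective (m-1)-space over R which is flat over R, and F a finitely presented (equivalently,
coherent) O_X-module. Then H^q(X, F) = 0 for all q > m. -/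
theorem result
    (R : Type u) [CommRing R] [IsDomain R]
    (hR : ∀ (p : Ideal R) [p.IsPrime], ValuationRing (Localization.AtPrime p))
    (hfin : Finite (MaximalSpectrum R)) (hdim : ringKrullDim R < ⊤)
    (m : ℕ) (hm : 1 ≤ m) (X : Scheme.{u}) (ι : X ⟶ CohB1.ProjSpace (m - 1) R) [IsClosedImmersion ι]
    [Flat (ι ≫ CohB1.ProjSpace.toSpec (m - 1) R)]
    (F : X.Modules) (hF : CohB1.IsFP F) (q : ℕ) (hq : m < q) :
    Subsingleton (Coh.HH X F q) := by
  haveI hQ : F.IsQuasicoherent :=
    { nonempty_quasicoherentData :=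
        ⟨(SheafOfModules.IsFinitePresentation.exists_quasicoherentData
          (R := X.ringCatSheaf) F).choose⟩ }
  have hX : ∀ j : Fin (m - 1 + 1), (MvPolynomial.X j : MvPolynomial (Fin (m - 1 + 1)) R) ∈
      CohB1.polyGrading (m - 1) R 1 := fun j => MvPolynomial.isHomogeneous_X R j
  haveI hsepP : IsSeparated (Limits.terminal.from (CohB1.ProjSpace (m - 1) R)) := by
    unfold CohB1.ProjSpace
    infer_instance
  haveI hsepX : IsSeparated (Limits.terminal.from X) := by
    have h : Limits.terminal.from X = ι ≫ Limits.terminal.from (CohB1.ProjSpace (m - 1) R) :=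
      Limits.terminal.hom_ext _ _
    rw [h]
    infer_instance
  let U' : Fin (m - 1 + 1) → (CohB1.ProjSpace (m - 1) R).Opens := fun j =>
    Proj.basicOpen (CohB1.polyGrading (m - 1) R) (MvPolynomial.X j)
  have hU' : ∀ j, IsAffineOpen (U' j) := fun j =>
    Proj.isAffineOpen_basicOpen (CohB1.polyGrading (m - 1) R) _ (hX j) Nat.one_pos
  have hcov' : (⨆ j, U' j) = ⊤ :=
    Proj.iSup_basicOpen_eq_top (CohB1.polyGrading (m - 1) R) _
      (Groth.Agent.S0022.irrelevant_le (m - 1) R)
  refine Groth.Agent.Lib.Helper23.AffVanish.subsingleton_HH_of_cover (X := X) (m - 1 + 1)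
    (fun j : Fin (m - 1 + 1) => ι ⁻¹ᵁ (U' j)) ?_ ?_ ?_ F q (by omega)
  · intro j
    exact (hU' j).preimage ι
  · rw [← Scheme.Hom.preimage_iSup ι U', hcov']
    rfl
  · intro V W hV hW
    exact hV.inf hW

end Groth.Agent.S14741
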