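import Groth.Statements.S14743
-- import your own Groth.Agent.* helpers here

set_option autoImplicit false
universe u
open CategoryTheory MonoidalCategory CartesianMonoidalCategory MonObj GrpObj AlgebraicGeometry
open AlgGrp

namespace Groth.Agent.S14743

section Abstract

variable {C : Type*} [Category C] [CartesianMonoidalCategory C]

theorem pt_toUnit {X : C} (x : 𝟙_ C ⟶ X) : x ≫ toUnit X = 𝟙 (𝟙_ C) := toUnit_unique _ _

theorem eta_eq_one {A : C} [GrpObj A] : η[A] = (1 : 𝟙_ C ⟶ A) := by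
  rw [Hom.one_def, toUnit_unique (toUnit (𝟙_ C)) (𝟙 _), Category.id_comp]

theorem split_of_const [BraidedCategory C] {L G B : C} [GrpObj L] [GrpObj G] [GrpObj B]
    [IsCommMonObj G] [IsCommMonObj B]
    (i : L ⟶ G) (π : G ⟶ B) [IsMonHom π]
    (hker : IsPullback i (toUnit L) π η[B])
    (hconst : ∀ f : B ⊗ B ⟶ L, ∃ l : 𝟙_ C ⟶ L, f = toUnit (B ⊗ B) ≫ l)
    (s : B ⟶ G) (hs : s ≫ π = 𝟙 B) :
    ∃ s' : B ⟶ G, IsMonHom s' ∧ s' ≫ π = 𝟙 B := by
  -- the cocycle
  set a : B ⊗ B ⟶ G := μ[B] ≫ s with ha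
  set b : B ⊗ B ⟶ G := fst B B ≫ s with hb
  set d : B ⊗ B ⟶ G := snd B B ≫ s with hd
  have haπ : a ≫ π = fst B B * snd B B := by
    rw [ha, Category.assoc, hs, Category.comp_id, MonObj.mul_eq_mul]
  have hbπ : b ≫ π = fst B B := by rw [hb, Category.assoc, hs, Category.comp_id]
  have hdπ : d ≫ π = snd B B := by rw [hd, Category.assoc, hs, Category.comp_id]
  have hcπ : (a * b⁻¹ * d⁻¹) ≫ π = toUnit (B ⊗ B) ≫ η[B] := by
    rw [MonObj.mul_comp, MonObj.mul_comp, GrpObj.inv_comp, GrpObj.inv_comp, haπ, hbπ, hdπ,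
      ← Hom.one_def]
    rw [mul_comm (fst B B) (snd B B), _root_.mul_inv_cancel_right, _root_.mul_inv_cancel]
  obtain ⟨l, hl⟩ := hconst (hker.lift (a * b⁻¹ * d⁻¹) (toUnit (B ⊗ B)) hcπ)
  have hlift : hker.lift (a * b⁻¹ * d⁻¹) (toUnit (B ⊗ B)) hcπ ≫ i = a * b⁻¹ * d⁻¹ :=
    hker.lift_fst _ _ _
  set p : 𝟙_ C ⟶ G := l ≫ i with hp
  have hP : a * b⁻¹ * d⁻¹ = toUnit (B ⊗ B) ≫ p := by
    rw [← hlift, hl, Category.assoc]
  -- a = P * b * d
  have ha' : a = (toUnit (B ⊗ B) ≫ p) * b * d := by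
    rw [← hP, _root_.mul_assoc (a * b⁻¹) d⁻¹ b, mul_comm d⁻¹ b, ← _root_.mul_assoc,
      _root_.inv_mul_cancel_right, _root_.inv_mul_cancel_right]
  have hpπ : p ≫ π = η[B] := by
    rw [hp, Category.assoc, hker.w, ← Category.assoc, pt_toUnit, Category.id_comp]
  -- relation at the unit
  have h1 : η[B] * η[B] = η[B] := by rw [eta_eq_one, _root_.one_mul]
  have e1 : lift η[B] η[B] ≫ a = η[B] ≫ s := by
    rw [ha, ← Category.assoc, ← Hom.mul_def, h1]
  have e2 : lift η[B] η[B] ≫ b = η[B] ≫ s := by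
    rw [hb, ← Category.assoc, lift_fst]
  have e3 : lift η[B] η[B] ≫ d = η[B] ≫ s := by
    rw [hd, ← Category.assoc, lift_snd]
  have e4 : lift η[B] η[B] ≫ toUnit (B ⊗ B) ≫ p = p := by
    rw [← Category.assoc, toUnit_unique (lift η[B] η[B] ≫ toUnit (B ⊗ B)) (𝟙 _), Category.id_comp]
  have hq : p * (η[B] ≫ s) = 1 := by
    have := congrArg (fun t => lift η[B] η[B] ≫ t) ha'
    beta_reduce at this
    rw [MonObj.comp_mul, MonObj.comp_mul, e1, e2, e3, e4] at this
    exact (right_eq_mul.mp this)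
  refine ⟨(toUnit B ≫ p) * s, ⟨?_, ?_⟩, ?_⟩
  · -- one_hom
    rw [MonObj.comp_mul, ← Category.assoc, pt_toUnit, Category.id_comp, hq, eta_eq_one]
  · -- mul_hom
    have f1 : fst B B ≫ ((toUnit B ≫ p) * s) = (toUnit (B ⊗ B) ≫ p) * b := by
      rw [MonObj.comp_mul, ← Category.assoc, toUnit_unique (fst B B ≫ toUnit B) (toUnit (B ⊗ B))]
    have f2 : snd B B ≫ ((toUnit B ≫ p) * s) = (toUnit (B ⊗ B) ≫ p) * d := by
      rw [MonObj.comp_mul, ← Category.assoc, toUnit_unique (snd B B ≫ toUnit B) (toUnit (B ⊗ B))]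
    rw [MonObj.comp_mul, ← Category.assoc, toUnit_unique (μ[B] ≫ toUnit B) (toUnit (B ⊗ B)),
      ← ha, ha', ← lift_fst_comp_snd_comp, ← Hom.mul_def, f1, f2]
    rw [_root_.mul_assoc, _root_.mul_assoc, mul_left_comm b]
  · rw [MonObj.mul_comp, Category.assoc, hpπ, hs, ← Hom.one_def, _root_.one_mul]

end Abstract

/-- Over an algebraically closed field k let L, G, B be commutative k-group schemes, i : L → G and π : G
→ B homomorphisms with i the kernel of π, and suppose that every k-morphism B × B → L is constant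
(factors through a k-point of L). If π admits a section which is a morphism of k-schemes, then it
admits a section which is a homomorphism, so the extension splits. (The published statement is for
algebraic groups, that is, of finite type over k; finiteness plays no role and is not assumed here.) -/
theorem result (k : Type u) [Field k] [IsAlgClosed k]
    (L G B : Over (Spec (CommRingCat.of k))) [GrpObj L] [GrpObj G] [GrpObj B]
    [IsCommMonObj L] [IsCommMonObj G] [IsCommMonObj B]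
    (i : L ⟶ G) [IsMonHom i] (π : G ⟶ B) [IsMonHom π] (hker : AlgGrp.IsKernel i π)
    (hconst : ∀ f : B ⊗ B ⟶ L, ∃ l : 𝟙_ (Over (Spec (CommRingCat.of k))) ⟶ L, f = toUnit (B ⊗ B) ≫ l)
    (s : B ⟶ G) (hs : s ≫ π = 𝟙 B) :
    ∃ s' : B ⟶ G, IsMonHom s' ∧ s' ≫ π = 𝟙 B := by
  exact split_of_const i π hker hconst s hs

end Groth.Agent.S14743
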