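import Groth.Statements.S14788
import Groth.Agent.Lib.Helper5Closure

set_option autoImplicit false
universe u
open CategoryTheory CategoryTheory.Limits AlgebraicGeometry
open Subtr

namespace Groth.Agent.S14788

/-- (i) ⇔ (iv): a morphism of schemes f : X ⟶ Y has the lifting property for ordered pairs of points if
and only if, for every pro-constructible subset Z ⊆ Y, the image under f of the closure of f⁻¹(Z) is
the closure of Z. (In the published item (iv) the right-hand side is printed as Z itself; the
closure is meant, as the case of a non-closed point shows and as the proof uses.) -/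
theorem result {X Y : Scheme.{u}} (f : X ⟶ Y) :
    Subtr.IsSSubtrusive f ↔
      ∀ Z : Set Y, ProCons.IsProConstructible Z → f '' closure (f ⁻¹' Z) = closure Z := by
  constructor
  · intro hf Z hZ
    apply subset_antisymm
    · exact (image_closure_subset_closure_image f.continuous).trans
        (closure_mono (Set.image_preimage_subset _ _))
    · intro y hy
      obtain ⟨z, hzZ, hz⟩ := Groth.Agent.Lib.Helper5.exists_specializes_of_mem_closure Y Z hZ y hy
      obtain ⟨x, x', hxx', hfx, hfx'⟩ := hf hz
      refine ⟨x, ?_, hfx⟩
      have hmem : x' ∈ f ⁻¹' Z := by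
        show f x' ∈ Z
        rw [hfx']
        exact hzZ
      exact closure_mono (Set.singleton_subset_iff.mpr hmem) hxx'.mem_closure
  · intro h y y' hy
    have hZ := Groth.Agent.Lib.Helper5.isProConstructible_singleton Y y'
    have hyc : y ∈ closure ({y'} : Set Y) := hy.mem_closure
    rw [← h {y'} hZ] at hyc
    obtain ⟨x, hx, hfx⟩ := hyc
    obtain ⟨x', hx'mem, hx'x⟩ := Groth.Agent.Lib.Helper5.exists_specializes_of_mem_closure X
      (f ⁻¹' {y'}) (Groth.Agent.Lib.Helper5.isProConstructible_preimage f {y'} hZ) x hx
    exact ⟨x, x', hx'x, hfx, hx'mem⟩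

end Groth.Agent.S14788
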