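import Groth.Statements.S14789
import Mathlib.AlgebraicGeometry.Properties
import Mathlib.Topology.Sober

set_option autoImplicit false
universe u
open CategoryTheory CategoryTheory.Limits AlgebraicGeometry
open Subtr

namespace Groth.Agent.S14789

/-- In a quasi-sober T0 space every point has a generization which has no proper generization. -/
theorem exists_maximal_generization {α : Type*} [TopologicalSpace α] [QuasiSober α] [T0Space α]
    (y : α) : ∃ y' : α, y' ⤳ y ∧ ∀ y'' : α, y'' ⤳ y' → y'' = y' := by
  have hirr : IsIrreducible (irreducibleComponent y) := isIrreducible_irreducibleComponent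
  have hcl : IsClosed (irreducibleComponent y) := isClosed_irreducibleComponent
  obtain ⟨y', hy'⟩ := QuasiSober.sober hirr hcl
  -- hy' : IsGenericPoint y' (irreducibleComponent y)
  refine ⟨y', ?_, fun y'' h => ?_⟩
  · rw [specializes_iff_mem_closure, hy'.def]
    exact mem_irreducibleComponent
  · have h1 : irreducibleComponent y ⊆ closure {y''} := by
      rw [← hy'.def]
      exact closure_minimal (Set.singleton_subset_iff.2 (specializes_iff_mem_closure.1 h))
        isClosed_closure
    have h2 : closure {y''} = irreducibleComponent y :=
      eq_irreducibleComponent isIrreducible_singleton.closure.isPreirreducible h1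
    have h3 : y' ⤳ y'' := by
      rw [specializes_iff_mem_closure, hy'.def, ← h2]
      exact subset_closure rfl
    exact (h.antisymm h3).eq

/-- Let f : X ⟶ Y be a morphism of schemes with the lifting property for ordered pairs of points, and U
⊆ Y a subset containing every maximal point of Y (every point all of whose generizations are equal
to it). Then the closure of f⁻¹(U) maps onto Y. -/
theorem result {X Y : Scheme.{u}} (f : X ⟶ Y)
    (hf : Subtr.IsSSubtrusive f) (U : Set Y) (hU : ∀ y : Y, (∀ y' : Y, y' ⤳ y → y' = y) → y ∈ U) :
    f '' closure (f ⁻¹' U) = Set.univ := by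
  refine Set.eq_univ_of_forall fun y => ?_
  obtain ⟨y', hy'y, hmax⟩ := exists_maximal_generization y
  obtain ⟨x, x', hx, hfx, hfx'⟩ := hf hy'y
  refine ⟨x, ?_, hfx⟩
  have hx'U : x' ∈ f ⁻¹' U := by
    change f x' ∈ U
    rw [hfx']
    exact hU y' hmax
  exact closure_mono (Set.singleton_subset_iff.2 hx'U) (specializes_iff_mem_closure.1 hx)

end Groth.Agent.S14789
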