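import Groth.Statements.S7291
-- import your own Groth.Agent.* helpers here
import Mathlib
import Groth.Agent.Lib.Helper2ValSpec

set_option autoImplicit false
open CategoryTheory CategoryTheory.Limits AlgebraicGeometry Opposite
universe w u
open HTop

namespace Groth.Agent.S7291

/-- The function on `Z` pulled back from `v ∈ V` along `σ : Z ⟶ Spec V`. -/
noncomputable def ψ {V : CommRingCat.{u}} {Z : Scheme.{u}} (σ : Z ⟶ Spec V) (v : V) : Γ(Z, ⊤) :=
  σ.appTop ((Scheme.ΓSpecIso V).inv v)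

theorem mem_basicOpen_ψ {V : CommRingCat.{u}} {Z : Scheme.{u}} (σ : Z ⟶ Spec V) (v : V) (x : Z) :
    x ∈ Z.basicOpen (ψ σ v) ↔ v ∉ (σ x).asIdeal := by
  have h1 : σ ⁻¹ᵁ (Spec V).basicOpen ((Scheme.ΓSpecIso V).inv v) = Z.basicOpen (ψ σ v) :=
    Scheme.preimage_basicOpen_top σ _
  rw [← h1, basicOpen_eq_of_affine']
  have h2 : (Scheme.ΓSpecIso V).hom ((Scheme.ΓSpecIso V).inv v) = v :=
    Iso.inv_hom_id_apply (C := CommRingCat) _ _
  rw [h2]
  exact Iff.rfl

theorem ψ_comp {V : CommRingCat.{u}} {Z Z' : Scheme.{u}} (p : Z' ⟶ Z) (σ : Z ⟶ Spec V) (v : V) :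
    p.appTop (ψ σ v) = ψ (p ≫ σ) v := by
  simp only [ψ, Scheme.Hom.comp_appTop]
  rfl

theorem mem_basicOpen_iff_toSpecΓ (Z : Scheme.{u}) (a : Γ(Z, ⊤)) (x : Z) :
    x ∈ Z.basicOpen a ↔ a ∉ (Z.toSpecΓ x).asIdeal := by
  rw [← Scheme.toSpecΓ_preimage_basicOpen]
  exact Iff.rfl

/-- Key compactness lemma: pairs `generic ⤳ closed` lift along a cofiltered limit of affine schemes
over the spectrum of a valuation ring as soon as they lift at every stage. -/
theorem exists_pair_limit {I : Type u} [SmallCategory I] [IsCofiltered I]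
    (E : I ⥤ Scheme.{u}) (cE : Cone E) (hcE : IsLimit cE) [∀ i, IsAffine (E.obj i)]
    (V : CommRingCat.{u}) [IsDomain V] [ValuationRing V]
    (σ : ∀ i, E.obj i ⟶ Spec V) (hσ : ∀ {i j : I} (a : i ⟶ j), E.map a ≫ σ j = σ i)
    (τ : cE.pt ⟶ Spec V) (hτ : ∀ i, cE.π.app i ≫ σ i = τ)
    (H : ∀ i, ∃ x' x : E.obj i, x' ⤳ x ∧ σ i x = IsLocalRing.closedPoint V ∧
      σ i x' = (⟨⊥, Ideal.isPrime_bot⟩ : PrimeSpectrum V)) :
    ∃ w' w : cE.pt, w' ⤳ w ∧ τ w = IsLocalRing.closedPoint V ∧
      τ w' = (⟨⊥, Ideal.isPrime_bot⟩ : PrimeSpectrum V) := by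
  classical
  haveI : IsAffine cE.pt := Scheme.isAffine_of_isLimit cE hcE
  have hAff : ∀ {i j : I} (a : i ⟶ j), IsAffineHom (E.map a) := fun a => inferInstance
  set η : PrimeSpectrum V := ⟨⊥, Ideal.isPrime_bot⟩ with hη
  set s : PrimeSpectrum V := IsLocalRing.closedPoint V with hs
  -- Step 1: a point `w` of the limit with all images in the closed sets `T i`.
  let T : ∀ i, Set (E.obj i) := fun i => closure ((σ i) ⁻¹' {η}) ∩ (σ i) ⁻¹' {s}
  have hTc : ∀ i, IsClosed (T i) := fun i =>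
    isClosed_closure.inter ((IsLocalRing.isClosed_singleton_closedPoint V).preimage
      (σ i).continuous)
  have hTne : ∀ i, (T i).Nonempty := by
    intro i
    obtain ⟨x', x, hsp, hx, hx'⟩ := H i
    refine ⟨x, ?_, hx⟩
    exact closure_mono (Set.singleton_subset_iff.mpr (show x' ∈ (σ i) ⁻¹' {η} from hx'))
      (specializes_iff_mem_closure.mp hsp)
  have hTcpt : ∀ i, IsCompact (T i) := fun i => (hTc i).isCompact
  have hmaps : ∀ {i i' : I} (a : i ⟶ i'), Set.MapsTo (E.map a) (T i) (T i') := by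
    intro i i' a x hx
    have hcomp : ∀ y : E.obj i, σ i' (E.map a y) = σ i y := fun y => by
      rw [← Scheme.Hom.comp_apply, hσ a]
    refine ⟨?_, ?_⟩
    · have h1 : E.map a x ∈ (E.map a) '' closure ((σ i) ⁻¹' {η}) := ⟨x, hx.1, rfl⟩
      have h2 := image_closure_subset_closure_image (E.map a).continuous h1
      refine closure_mono ?_ h2
      rintro _ ⟨y, hy, rfl⟩
      show σ i' (E.map a y) ∈ ({η} : Set _)
      rw [hcomp]
      exact hy
    · show σ i' (E.map a x) ∈ ({s} : Set _)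
      rw [hcomp]
      exact hx.2
  obtain ⟨w, hw⟩ := exists_mem_of_isClosed_of_nonempty E cE hcE T hTc hTne hTcpt hmaps
  obtain ⟨i₀⟩ := IsCofiltered.nonempty (C := I)
  have hws : τ w = s := by
    rw [← hτ i₀, Scheme.Hom.comp_apply]
    exact (hw i₀).2
  -- Step 2: the key non-vanishing statement.
  have hstar : ∀ a : Γ(cE.pt, ⊤), w ∈ cE.pt.basicOpen a → ∀ v : V, v ≠ 0 → a * ψ τ v ≠ 0 := by
    intro a hwa v hv h0
    obtain ⟨i, ai, rfl⟩ := exists_appTop_π_eq_of_isAffine_of_isLimit E cE hcE a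
    have hψ : (cE.π.app i).appTop (ψ (σ i) v) = ψ τ v := by
      rw [ψ_comp, hτ i]
    have hb : (cE.π.app i).appTop (ai * ψ (σ i) v) = 0 := by
      rw [map_mul, hψ, h0]
    obtain ⟨j, f, hj⟩ := exists_appTop_map_eq_zero_of_isAffine_of_isLimit E cE hcE i _ hb
    have hψj : (E.map f).appTop (ψ (σ i) v) = ψ (σ j) v := by
      rw [ψ_comp, hσ f]
    have hj' : (E.map f).appTop ai * ψ (σ j) v = 0 := by
      rw [← hψj, ← map_mul]
      exact hj
    have hwj : cE.π.app j w ∈ (E.obj j).basicOpen ((E.map f).appTop ai) := by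
      have e1 : (cE.π.app j).appTop ((E.map f).appTop ai) = (cE.π.app i).appTop ai := by
        rw [← cE.w f, Scheme.Hom.comp_appTop]
        rfl
      have e2 := Scheme.preimage_basicOpen_top (cE.π.app j) ((E.map f).appTop ai)
      rw [e1] at e2
      have : w ∈ (cE.π.app j) ⁻¹ᵁ (E.obj j).basicOpen ((E.map f).appTop ai) := by
        rw [e2]; exact hwa
      exact this
    obtain ⟨x, hx1, hx2⟩ := mem_closure_iff.mp (hw j).1 _
      ((E.obj j).basicOpen ((E.map f).appTop ai)).isOpen hwj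
    have hx3 : x ∈ (E.obj j).basicOpen (ψ (σ j) v) := by
      rw [mem_basicOpen_ψ]
      have : σ j x = η := hx2
      rw [this]
      exact fun h => hv (Ideal.mem_bot.mp h)
    have hx4 : x ∈ (E.obj j).basicOpen ((E.map f).appTop ai * ψ (σ j) v) := by
      rw [Scheme.basicOpen_mul]
      exact ⟨hx1, hx3⟩
    rw [hj', Scheme.basicOpen_zero] at hx4
    exact hx4
  -- Step 3: a prime below `w` lying over the generic point.
  let A := Γ(cE.pt, ⊤)
  let P₀ : PrimeSpectrum A := cE.pt.toSpecΓ w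
  haveI hP₀ : P₀.asIdeal.IsPrime := P₀.isPrime
  let ψhom : V →* A := (τ.appTop.hom.comp (Scheme.ΓSpecIso V).inv.hom : V →+* A)
  have hψhom : ∀ v, ψhom v = ψ τ v := fun v => rfl
  let M : Submonoid A := P₀.asIdeal.primeCompl ⊔ Submonoid.map ψhom (nonZeroDivisors V)
  have hdisj : Disjoint ((⊥ : Ideal A) : Set A) (M : Set A) := by
    rw [Set.disjoint_left]
    intro z hz hzM
    have hz0 : z = 0 := hz
    subst hz0
    obtain ⟨a, ha, b, hb, hab⟩ := Submonoid.mem_sup.mp hzM
    obtain ⟨v, hv, rfl⟩ := hb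
    have hv0 : v ≠ 0 := nonZeroDivisors.ne_zero hv
    have hwa : w ∈ cE.pt.basicOpen a := (mem_basicOpen_iff_toSpecΓ _ _ _).mpr ha
    exact hstar a hwa v hv0 (by rw [← hψhom]; exact hab)
  obtain ⟨q, hq, -, hqM⟩ := Ideal.exists_le_prime_disjoint (⊥ : Ideal A) M hdisj
  haveI : IsIso cE.pt.toSpecΓ := IsAffine.affine
  let Q : ↥(Spec Γ(cE.pt, ⊤)) := (⟨q, hq⟩ : PrimeSpectrum A)
  let w' : cE.pt := (inv cE.pt.toSpecΓ) Q
  have hw' : cE.pt.toSpecΓ w' = Q := by
    show cE.pt.toSpecΓ ((inv cE.pt.toSpecΓ) Q) = Q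
    rw [← Scheme.Hom.comp_apply, IsIso.inv_hom_id]
    rfl
  have hqp : q ≤ P₀.asIdeal := by
    intro a ha
    by_contra hap
    exact Set.disjoint_left.mp hqM ha
      (Submonoid.mem_sup_left (show a ∈ P₀.asIdeal.primeCompl from hap))
  refine ⟨w', w, ?_, hws, ?_⟩
  · have hind : Topology.IsInducing cE.pt.toSpecΓ :=
      (Scheme.Hom.homeomorph cE.pt.toSpecΓ).isInducing
    rw [← hind.specializes_iff, hw']
    have hsp' : (⟨q, hq⟩ : PrimeSpectrum A) ⤳ P₀ := (PrimeSpectrum.le_iff_specializes _ _).mp hqp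
    exact hsp'
  · apply PrimeSpectrum.ext
    show (τ w').asIdeal = ⊥
    rw [eq_bot_iff]
    intro v hv
    by_contra hv0
    have hv0' : v ≠ 0 := fun h => hv0 (by rw [h]; exact Ideal.zero_mem _)
    have h1 : w' ∉ cE.pt.basicOpen (ψ τ v) := by
      rw [mem_basicOpen_ψ]
      exact fun h => h hv
    rw [mem_basicOpen_iff_toSpecΓ, hw'] at h1
    have h2 : ψ τ v ∈ q := not_not.mp h1
    refine Set.disjoint_left.mp hqM h2 (Submonoid.mem_sup_right ?_)
    exact ⟨v, mem_nonZeroDivisors_of_ne_zero hv0', hψhom v⟩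

/-- Let Y be an affine scheme and let X be the limit (as a scheme) of a cofiltered system of affine
schemes X_i over Y. Then the one-member family X over Y is a standard V covering exactly when, for
every i, the one-member family X_i over Y is a standard V covering. -/
theorem result {Y : Scheme.{u}} [IsAffine Y]
    {I : Type u} [SmallCategory I] [IsCofiltered I] (D : I ⥤ Over Y) [∀ i, IsAffine (D.obj i).left]
    (c : Cone D) (hc : IsLimit ((Over.forget Y).mapCone c)) :
    HTop.IsStandardV (PreZeroHypercover.singleton.{w} c.pt.hom) ↔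
      ∀ i, HTop.IsStandardV (PreZeroHypercover.singleton.{w} (D.obj i).hom) := by
  haveI : IsConnected I := IsCofiltered.isConnected I
  haveI hptAff : IsAffine c.pt.left := by
    haveI : ∀ i, IsAffine ((D ⋙ Over.forget Y).obj i) := fun i =>
      (inferInstance : IsAffine (D.obj i).left)
    exact Scheme.isAffine_of_isLimit ((Over.forget Y).mapCone c) hc
  constructor
  · intro h i
    refine ⟨inferInstance, (by change Finite PUnit; infer_instance), fun _ => (inferInstance : IsAffine (D.obj i).left), ?_⟩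
    intro V _ _ g
    obtain ⟨W, hW1, hW2, φ, hext, j, g'₀, hg'₀⟩ := h.lift V g
    obtain ⟨g', hg'e⟩ : ∃ g' : Spec W ⟶ c.pt.left, g' = g'₀ := ⟨g'₀, rfl⟩
    have hg' : g' ≫ c.pt.hom = Spec.map φ ≫ g := by rw [hg'e]; exact hg'₀
    refine ⟨W, hW1, hW2, φ, hext, PUnit.unit, g' ≫ (c.π.app i).left, ?_⟩
    change (g' ≫ (c.π.app i).left) ≫ (D.obj i).hom = Spec.map φ ≫ g
    have e : (c.π.app i).left ≫ (D.obj i).hom = c.pt.hom := Over.w (c.π.app i)
    rw [Category.assoc, e, hg']
  · intro h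
    refine ⟨inferInstance, (by change Finite PUnit; infer_instance), fun _ => hptAff, ?_⟩
    intro V _ _ g
    -- the base-changed limit cone
    have hcO : IsLimit c := isLimitOfReflects (Over.forget Y) hc
    haveI := (Over.mapPullbackAdj g).rightAdjoint_preservesLimits
    have h1 : IsLimit ((Over.pullback g).mapCone c) := isLimitOfPreserves (Over.pullback g) hcO
    have h2 : IsLimit ((Over.forget (Spec V)).mapCone ((Over.pullback g).mapCone c)) :=
      isLimitOfPreserves (Over.forget (Spec V)) h1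
    haveI : ∀ i, IsAffine (((D ⋙ Over.pullback g) ⋙ Over.forget (Spec V)).obj i) := fun i =>
      (inferInstance : IsAffine (pullback (D.obj i).hom g))
    obtain ⟨w', w, hsp, hw, hw'⟩ := exists_pair_limit
      ((D ⋙ Over.pullback g) ⋙ Over.forget (Spec V))
      ((Over.forget (Spec V)).mapCone ((Over.pullback g).mapCone c)) h2 V
      (fun i => ((D ⋙ Over.pullback g).obj i).hom)
      (fun {i j} a => Over.w ((D ⋙ Over.pullback g).map a))
      ((Over.pullback g).obj c.pt).hom
      (fun i => Over.w ((Over.pullback g).map (c.π.app i)))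
      (by
        intro i
        obtain ⟨W, hW1, hW2, φ, ⟨hinj, hloc⟩, j, g'₀, hg'₀⟩ := (h i).lift V g
        obtain ⟨g', hg'e⟩ : ∃ g' : Spec W ⟶ (D.obj i).left, g' = g'₀ := ⟨g'₀, rfl⟩
        have hg' : g' ≫ (D.obj i).hom = Spec.map φ ≫ g := by rw [hg'e]; exact hg'₀
        let l : Spec W ⟶ pullback (D.obj i).hom g := pullback.lift g' (Spec.map φ) hg'
        have hl : l ≫ pullback.snd (D.obj i).hom g = Spec.map φ := pullback.lift_snd _ _ _
        refine ⟨l (⟨⊥, Ideal.isPrime_bot⟩ : PrimeSpectrum W), l (IsLocalRing.closedPoint W),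
          (IsLocalRing.specializes_closedPoint _).map l.continuous, ?_, ?_⟩
        · change (l ≫ pullback.snd (D.obj i).hom g) (IsLocalRing.closedPoint W) = _
          rw [hl]
          exact (IsLocalRing.isLocalHom_iff_comap_closedPoint φ.hom).mp hloc
        · change (l ≫ pullback.snd (D.obj i).hom g) (⟨⊥, Ideal.isPrime_bot⟩ : PrimeSpectrum W) = _
          rw [hl]
          apply PrimeSpectrum.ext
          change Ideal.comap φ.hom ⊥ = ⊥
          rw [← RingHom.ker_eq_comap_bot]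
          exact (RingHom.injective_iff_ker_eq_bot _).mp hinj)
    obtain ⟨W, hW1, hW2, φ, hext, k, hk⟩ :=
      Groth.Agent.Lib.Helper2.ValSpec.exists_ext_of_specializes
        (pullback.snd c.pt.hom g) w' w hsp hw hw'
    refine ⟨W, hW1, hW2, φ, hext, PUnit.unit, k ≫ pullback.fst c.pt.hom g, ?_⟩
    change (k ≫ pullback.fst c.pt.hom g) ≫ c.pt.hom = Spec.map φ ≫ g
    rw [Category.assoc, pullback.condition, ← Category.assoc, hk]

end Groth.Agent.S7291
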