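import Groth.Statements.S14791
-- import your own Groth.Agent.* helpers here
import Mathlib
import Groth.Agent.S7291
import Groth.Agent.Lib.Helper22LimBC

set_option autoImplicit false
universe u
open CategoryTheory CategoryTheory.Limits AlgebraicGeometry
open Subtr

namespace Groth.Agent.S14791

open Groth.Agent.Lib.Helper22.LimBC TopologicalSpace

/-! ## The affine lemma -/

section AFF

variable {J : Type u} [SmallCategory J] [IsCofiltered J]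
  {E G : J ⥤ Scheme.{u}} [∀ j, IsAffine (E.obj j)] [∀ j, IsAffine (G.obj j)]
  {cE : Cone E} (hcE : IsLimit cE) {cG : Cone G} (hcG : IsLimit cG)
  (α : E ⟶ G) (f : cE.pt ⟶ cG.pt)

omit [IsCofiltered J] in
theorem π_map_appTop {F : J ⥤ Scheme.{u}} (cF : Cone F) {l j : J} (a : l ⟶ j)
    (s : Γ(F.obj j, ⊤)) :
    (cF.π.app l).appTop ((F.map a).appTop s) = (cF.π.app j).appTop s := by
  rw [← cF.w a, Scheme.Hom.comp_appTop]
  rfl

omit [IsCofiltered J] [∀ j, IsAffine (E.obj j)] [∀ j, IsAffine (G.obj j)] in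
theorem π_α_appTop (hf : ∀ j, f ≫ cG.π.app j = cE.π.app j ≫ α.app j) (j : J)
    (t : Γ(G.obj j, ⊤)) :
    (cE.π.app j).appTop ((α.app j).appTop t) = f.appTop ((cG.π.app j).appTop t) := by
  rw [← ConcreteCategory.comp_apply, ← ConcreteCategory.comp_apply, ← Scheme.Hom.comp_appTop,
    ← Scheme.Hom.comp_appTop, hf j]

omit [IsCofiltered J] [∀ j, IsAffine (E.obj j)] [∀ j, IsAffine (G.obj j)] in
theorem nat_appTop {l' l : J} (r : l' ⟶ l) (t : Γ(G.obj l, ⊤)) :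
    (E.map r).appTop ((α.app l).appTop t) = (α.app l').appTop ((G.map r).appTop t) := by
  rw [← ConcreteCategory.comp_apply, ← ConcreteCategory.comp_apply, ← Scheme.Hom.comp_appTop,
    ← Scheme.Hom.comp_appTop, α.naturality]

/-- `s` vanishes at every point of the fibre of `α_j` over the image of `y'`. -/
def Van (y' : cG.pt) (j : J) (s : Γ(E.obj j, ⊤)) : Prop :=
  ∀ z : E.obj j, α.app j z = cG.π.app j y' → z ∉ (E.obj j).basicOpen s

omit [IsCofiltered J] [∀ j, IsAffine (E.obj j)] [∀ j, IsAffine (G.obj j)] in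
theorem van_map {y' : cG.pt} {j l : J} (a : l ⟶ j) {s : Γ(E.obj j, ⊤)} (h : Van α y' j s) :
    Van α y' l ((E.map a).appTop s) := by
  intro z hz hzs
  refine h (E.map a z) ?_ ?_
  · have h1 : α.app j (E.map a z) = G.map a (α.app l z) := by
      change (E.map a ≫ α.app j) z = (α.app l ≫ G.map a) z
      rw [α.naturality]
    rw [h1, hz]
    change (cG.π.app l ≫ G.map a) y' = _
    rw [cG.w]
  · rw [← Scheme.preimage_basicOpen_top] at hzs
    exact hzs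

/-- Sections of the limit coming from a stage where they vanish on the fibre over `y'`. -/
def bad (y' : cG.pt) : Ideal Γ(cE.pt, ⊤) where
  carrier := {m | ∃ (j : J) (s : Γ(E.obj j, ⊤)), (cE.π.app j).appTop s = m ∧ Van α y' j s}
  zero_mem' := by
    obtain ⟨j⟩ := IsCofiltered.nonempty (C := J)
    refine ⟨j, 0, map_zero _, ?_⟩
    intro z _ hz
    rw [Scheme.basicOpen_zero] at hz
    exact hz
  add_mem' := by
    rintro m n ⟨j, s, rfl, hs⟩ ⟨k, t, rfl, ht⟩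
    refine ⟨IsCofiltered.min j k, (E.map (IsCofiltered.minToLeft j k)).appTop s +
      (E.map (IsCofiltered.minToRight j k)).appTop t, ?_, ?_⟩
    · rw [map_add, π_map_appTop, π_map_appTop]
    · intro z hz hzs
      have h3 := Scheme.basicOpen_add_le _ _ _ hzs
      rw [← SetLike.mem_coe, Opens.coe_sup] at h3
      rcases h3 with h3 | h3
      · exact van_map α _ hs z hz h3
      · exact van_map α _ ht z hz h3
  smul_mem' := by
    rintro c m ⟨j, s, rfl, hs⟩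
    obtain ⟨k, t, rfl⟩ := exists_appTop_π_eq_of_isAffine_of_isLimit E cE hcE c
    refine ⟨IsCofiltered.min j k, (E.map (IsCofiltered.minToRight j k)).appTop t *
      (E.map (IsCofiltered.minToLeft j k)).appTop s, ?_, ?_⟩
    · rw [map_mul, π_map_appTop, π_map_appTop, smul_eq_mul]
    · intro z hz hzs
      rw [Scheme.basicOpen_mul] at hzs
      exact van_map α _ hs z hz hzs.2

theorem mem_bad (y' : cG.pt) (m : Γ(cE.pt, ⊤)) :
    m ∈ bad hcE α y' ↔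
      ∃ (j : J) (s : Γ(E.obj j, ⊤)), (cE.π.app j).appTop s = m ∧ Van α y' j s := Iff.rfl

include hcG in
theorem map_le_bad (hf : ∀ j, f ≫ cG.π.app j = cE.π.app j ≫ α.app j) (y' : cG.pt) :
    Ideal.map f.appTop.hom (cG.pt.toSpecΓ y').asIdeal ≤ bad hcE α y' := by
  rw [Ideal.map_le_iff_le_comap]
  intro a' ha'
  obtain ⟨j, t, rfl⟩ := exists_appTop_π_eq_of_isAffine_of_isLimit G cG hcG a'
  rw [Ideal.mem_comap, mem_bad]
  refine ⟨j, (α.app j).appTop t, π_α_appTop α f hf j t, ?_⟩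
  intro z hz hzs
  rw [← Scheme.preimage_basicOpen_top] at hzs
  have h1 : α.app j z ∈ (G.obj j).basicOpen t := hzs
  rw [hz] at h1
  have h2 : y' ∈ cG.π.app j ⁻¹ᵁ (G.obj j).basicOpen t := h1
  rw [Scheme.preimage_basicOpen_top, Groth.Agent.S7291.mem_basicOpen_iff_toSpecΓ] at h2
  exact h2 ha'

include hcE hcG in
theorem exists_gen_aff (hf : ∀ j, f ≫ cG.π.app j = cE.π.app j ≫ α.app j) (x : cE.pt)
    (y' : cG.pt)
    (H : ∀ j, cE.π.app j x ∈ closure ((α.app j) ⁻¹' {cG.π.app j y'})) :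
    ∃ x' : cE.pt, x' ⤳ x ∧ f x' = y' := by
  classical
  haveI : IsAffine cE.pt := Scheme.isAffine_of_isLimit cE hcE
  haveI : IsAffine cG.pt := Scheme.isAffine_of_isLimit cG hcG
  let φ : Γ(cG.pt, ⊤) →+* Γ(cE.pt, ⊤) := f.appTop.hom
  let P₀ : PrimeSpectrum Γ(cE.pt, ⊤) := cE.pt.toSpecΓ x
  let p' : PrimeSpectrum Γ(cG.pt, ⊤) := cG.pt.toSpecΓ y'
  haveI hP₀ : P₀.asIdeal.IsPrime := P₀.isPrime
  haveI hp' : p'.asIdeal.IsPrime := p'.isPrime
  let M : Submonoid Γ(cE.pt, ⊤) :=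
    P₀.asIdeal.primeCompl ⊔ Submonoid.map φ p'.asIdeal.primeCompl
  have hdisj : Disjoint ((bad hcE α y' : Ideal Γ(cE.pt, ⊤)) : Set Γ(cE.pt, ⊤))
      (M : Set Γ(cE.pt, ⊤)) := by
    rw [Set.disjoint_left]
    intro m hm hmM
    obtain ⟨b, hb, c, hc, rfl⟩ := Submonoid.mem_sup.mp hmM
    obtain ⟨a, ha, rfl⟩ := hc
    obtain ⟨j, s, hs, vs⟩ := hm
    obtain ⟨k, bk, rfl⟩ := exists_appTop_π_eq_of_isAffine_of_isLimit E cE hcE b
    obtain ⟨k', ak, rfl⟩ := exists_appTop_π_eq_of_isAffine_of_isLimit G cG hcG a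
    obtain ⟨l, u, v, w, -⟩ : ∃ (l : J) (_ : l ⟶ j) (_ : l ⟶ k) (_ : l ⟶ k'), True :=
      ⟨IsCofiltered.min (IsCofiltered.min j k) k',
        IsCofiltered.minToLeft _ _ ≫ IsCofiltered.minToLeft _ _,
        IsCofiltered.minToLeft _ _ ≫ IsCofiltered.minToRight _ _,
        IsCofiltered.minToRight _ _, trivial⟩
    have e1 : (cE.π.app l).appTop ((E.map u).appTop s) = (cE.π.app j).appTop s :=
      π_map_appTop cE u s
    have e2 : (cE.π.app l).appTop ((E.map v).appTop bk) = (cE.π.app k).appTop bk :=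
      π_map_appTop cE v bk
    have e3 : (cE.π.app l).appTop ((α.app l).appTop ((G.map w).appTop ak)) =
        φ ((cG.π.app k').appTop ak) := by
      rw [π_α_appTop α f hf, π_map_appTop]
    have hd : (cE.π.app l).appTop ((E.map u).appTop s -
        (E.map v).appTop bk * (α.app l).appTop ((G.map w).appTop ak)) = 0 := by
      rw [map_sub, map_mul, e1, hs, e2, e3, sub_self]
    obtain ⟨l', r, hr⟩ := exists_appTop_map_eq_zero_of_isAffine_of_isLimit E cE hcE l _ hd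
    rw [map_sub, map_mul, sub_eq_zero, nat_appTop] at hr
    -- the point of the fibre
    have hxb : cE.π.app l' x ∈ (E.obj l').basicOpen ((E.map r).appTop ((E.map v).appTop bk)) := by
      have h1 : x ∈ cE.pt.basicOpen ((cE.π.app k).appTop bk) :=
        (Groth.Agent.S7291.mem_basicOpen_iff_toSpecΓ _ _ _).mpr hb
      rw [← e2, ← π_map_appTop cE r, ← Scheme.preimage_basicOpen_top] at h1
      exact h1
    obtain ⟨z, hz1, hz2⟩ := mem_closure_iff.mp (H l') _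
      ((E.obj l').basicOpen ((E.map r).appTop ((E.map v).appTop bk))).isOpen hxb
    have hz2' : α.app l' z = cG.π.app l' y' := hz2
    have hza : z ∈ (E.obj l').basicOpen
        ((α.app l').appTop ((G.map r).appTop ((G.map w).appTop ak))) := by
      rw [← Scheme.preimage_basicOpen_top]
      change α.app l' z ∈ (G.obj l').basicOpen _
      rw [hz2']
      have h1 : y' ∈ cG.pt.basicOpen ((cG.π.app k').appTop ak) :=
        (Groth.Agent.S7291.mem_basicOpen_iff_toSpecΓ _ _ _).mpr ha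
      rw [← π_map_appTop cG w, ← π_map_appTop cG r, ← Scheme.preimage_basicOpen_top] at h1
      exact h1
    have hzs : z ∈ (E.obj l').basicOpen ((E.map r).appTop ((E.map u).appTop s)) := by
      rw [hr, Scheme.basicOpen_mul]
      exact ⟨hz1, hza⟩
    exact van_map α r (van_map α u vs) z hz2' hzs
  obtain ⟨q, hq, hbq, hqM⟩ := Ideal.exists_le_prime_disjoint (bad hcE α y') M hdisj
  haveI : IsIso cE.pt.toSpecΓ := IsAffine.affine
  haveI : IsIso cG.pt.toSpecΓ := IsAffine.affine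
  let Q : ↥(Spec Γ(cE.pt, ⊤)) := (⟨q, hq⟩ : PrimeSpectrum Γ(cE.pt, ⊤))
  let x' : cE.pt := (inv cE.pt.toSpecΓ) Q
  have hx' : cE.pt.toSpecΓ x' = Q := by
    show cE.pt.toSpecΓ ((inv cE.pt.toSpecΓ) Q) = Q
    rw [← Scheme.Hom.comp_apply, IsIso.inv_hom_id]
    rfl
  have hqp : q ≤ P₀.asIdeal := by
    intro a ha
    by_contra hap
    exact Set.disjoint_left.mp hqM ha
      (Submonoid.mem_sup_left (show a ∈ P₀.asIdeal.primeCompl from hap))
  refine ⟨x', ?_, ?_⟩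
  · have hind : Topology.IsInducing cE.pt.toSpecΓ :=
      (Scheme.Hom.homeomorph cE.pt.toSpecΓ).isInducing
    rw [← hind.specializes_iff, hx']
    have hsp' : (⟨q, hq⟩ : PrimeSpectrum Γ(cE.pt, ⊤)) ⤳ P₀ :=
      (PrimeSpectrum.le_iff_specializes _ _).mp hqp
    exact hsp'
  · have hinj : Function.Injective cG.pt.toSpecΓ :=
      (Scheme.Hom.homeomorph cG.pt.toSpecΓ).injective
    apply hinj
    have h1 : cG.pt.toSpecΓ (f x') = (Spec.map f.appTop) (cE.pt.toSpecΓ x') := by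
      change (f ≫ cG.pt.toSpecΓ) x' = (cE.pt.toSpecΓ ≫ Spec.map f.appTop) x'
      rw [Scheme.toSpecΓ_naturality]
    rw [h1, hx']
    apply PrimeSpectrum.ext
    change Ideal.comap φ q = p'.asIdeal
    apply le_antisymm
    · intro a ha
      by_contra hap
      exact Set.disjoint_left.mp hqM (show φ a ∈ q from ha)
        (Submonoid.mem_sup_right ⟨a, hap, rfl⟩)
    · intro a ha
      exact hbq (map_le_bad hcE hcG α f hf y' (Ideal.mem_map_of_mem φ ha))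

end AFF

/-! ## Reduction of the generization step to the affine lemma -/

section STEP2

variable {J : Type u} [SmallCategory J] [IsCofiltered J]
  {E G : J ⥤ Scheme.{u}} [∀ {i j : J} (a : i ⟶ j), IsAffineHom (E.map a)]
  [∀ {i j : J} (a : i ⟶ j), IsAffineHom (G.map a)]
  {cE : Cone E} (hcE : IsLimit cE) {cG : Cone G} (hcG : IsLimit cG)
  (α : E ⟶ G) (f : cE.pt ⟶ cG.pt)

theorem resLE_of_eq {X Y : Scheme.{u}} {f g : X ⟶ Y} (h : f = g) (U : Y.Opens) (V : X.Opens)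
    (e : V ≤ f ⁻¹ᵁ U) : f.resLE U V e = g.resLE U V (h ▸ e) := by
  subst h; rfl

omit [IsCofiltered J] [∀ {i j : J} (a : i ⟶ j), IsAffineHom (E.map a)]
  [∀ {i j : J} (a : i ⟶ j), IsAffineHom (G.map a)] in
theorem le_pre (j₁ : J) (U₁ : (E.obj j₁).Opens) (V₁ : (G.obj j₁).Opens)
    (hUV : U₁ ≤ α.app j₁ ⁻¹ᵁ V₁) (l : Over j₁) :
    E.map l.hom ⁻¹ᵁ U₁ ≤ α.app l.left ⁻¹ᵁ (G.map l.hom ⁻¹ᵁ V₁) := by
  intro z hz
  change G.map l.hom (α.app l.left z) ∈ V₁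
  have h1 : G.map l.hom (α.app l.left z) = α.app j₁ (E.map l.hom z) := by
    change (α.app l.left ≫ G.map l.hom) z = (E.map l.hom ≫ α.app j₁) z
    rw [α.naturality]
  rw [h1]
  exact hUV hz

omit [IsCofiltered J] [∀ {i j : J} (a : i ⟶ j), IsAffineHom (E.map a)]
  [∀ {i j : J} (a : i ⟶ j), IsAffineHom (G.map a)] in
theorem le_pre_f (hf : ∀ j, f ≫ cG.π.app j = cE.π.app j ≫ α.app j) (j₁ : J)
    (U₁ : (E.obj j₁).Opens) (V₁ : (G.obj j₁).Opens) (hUV : U₁ ≤ α.app j₁ ⁻¹ᵁ V₁) :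
    cE.π.app j₁ ⁻¹ᵁ U₁ ≤ f ⁻¹ᵁ (cG.π.app j₁ ⁻¹ᵁ V₁) := by
  intro z hz
  change cG.π.app j₁ (f z) ∈ V₁
  have h1 : cG.π.app j₁ (f z) = α.app j₁ (cE.π.app j₁ z) := by
    change (f ≫ cG.π.app j₁) z = (cE.π.app j₁ ≫ α.app j₁) z
    rw [hf]
  rw [h1]
  exact hUV hz

/-- The restriction of `α` to the diagrams of opens. -/
noncomputable def αres (j₁ : J) (U₁ : (E.obj j₁).Opens) (V₁ : (G.obj j₁).Opens)
    (hUV : U₁ ≤ α.app j₁ ⁻¹ᵁ V₁) : opensDiagram E j₁ U₁ ⟶ opensDiagram G j₁ V₁ where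
  app l := (α.app l.left).resLE (G.map l.hom ⁻¹ᵁ V₁) (E.map l.hom ⁻¹ᵁ U₁)
    (le_pre α j₁ U₁ V₁ hUV l)
  naturality l k a := by
    change (E.map a.left).resLE _ _ _ ≫ (α.app k.left).resLE _ _ _ =
      (α.app l.left).resLE _ _ _ ≫ (G.map a.left).resLE _ _ _
    rw [Scheme.Hom.resLE_comp_resLE, Scheme.Hom.resLE_comp_resLE]
    exact resLE_of_eq (α.naturality a.left) _ _ _

include hcE hcG in
theorem exists_gen_aux (hf : ∀ j, f ≫ cG.π.app j = cE.π.app j ≫ α.app j) (x : cE.pt)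
    (y' : cG.pt) (hy : y' ⤳ f x)
    (H : ∀ j, cE.π.app j x ∈ closure ((α.app j) ⁻¹' {cG.π.app j y'}))
    (j₁ : J) (U₁ : (E.obj j₁).Opens) (V₁ : (G.obj j₁).Opens)
    (hU₁ : IsAffineOpen U₁) (hV₁ : IsAffineOpen V₁) (hUV : U₁ ≤ α.app j₁ ⁻¹ᵁ V₁)
    (hxU : cE.π.app j₁ x ∈ U₁) (hyV : cG.π.app j₁ (f x) ∈ V₁) :
    ∃ x' : cE.pt, x' ⤳ x ∧ f x' = y' := by
  haveI : ∀ l : Over j₁, IsAffine ((opensDiagram E j₁ U₁).obj l) := fun l =>
    hU₁.preimage (E.map l.hom)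
  haveI : ∀ l : Over j₁, IsAffine ((opensDiagram G j₁ V₁).obj l) := fun l =>
    hV₁.preimage (G.map l.hom)
  have hy'V : y' ∈ cG.π.app j₁ ⁻¹ᵁ V₁ := hy.mem_open (cG.π.app j₁ ⁻¹ᵁ V₁).isOpen hyV
  obtain ⟨x₀, rfl⟩ : x ∈ Set.range (cE.π.app j₁ ⁻¹ᵁ U₁).ι := by
    rw [Scheme.Opens.range_ι]; exact hxU
  obtain ⟨y₀, rfl⟩ : y' ∈ Set.range (cG.π.app j₁ ⁻¹ᵁ V₁).ι := by
    rw [Scheme.Opens.range_ι]; exact hy'V
  have hf' : ∀ l : Over j₁,
      f.resLE (cG.π.app j₁ ⁻¹ᵁ V₁) (cE.π.app j₁ ⁻¹ᵁ U₁) (le_pre_f α f hf j₁ U₁ V₁ hUV) ≫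
        (opensCone G cG j₁ V₁).π.app l =
      (opensCone E cE j₁ U₁).π.app l ≫ (αres α j₁ U₁ V₁ hUV).app l := by
    intro l
    change f.resLE _ _ _ ≫ (cG.π.app l.left).resLE _ _ _ =
      (cE.π.app l.left).resLE _ _ _ ≫ (α.app l.left).resLE _ _ _
    rw [Scheme.Hom.resLE_comp_resLE, Scheme.Hom.resLE_comp_resLE]
    exact resLE_of_eq (hf l.left) _ _ _
  have H' : ∀ l : Over j₁, (opensCone E cE j₁ U₁).π.app l x₀ ∈
      closure (((αres α j₁ U₁ V₁ hUV).app l) ⁻¹' {(opensCone G cG j₁ V₁).π.app l y₀}) := by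
    intro l
    rw [mem_closure_iff]
    intro O hO hpO
    have hopen : IsOpen ((E.map l.hom ⁻¹ᵁ U₁).ι '' O) :=
      (E.map l.hom ⁻¹ᵁ U₁).ι.isOpenEmbedding.isOpenMap O hO
    have hmem : cE.π.app l.left ((cE.π.app j₁ ⁻¹ᵁ U₁).ι x₀) ∈ (E.map l.hom ⁻¹ᵁ U₁).ι '' O := by
      refine ⟨_, hpO, ?_⟩
      change ((cE.π.app l.left).resLE _ _ _ ≫ (E.map l.hom ⁻¹ᵁ U₁).ι) x₀ =
        ((cE.π.app j₁ ⁻¹ᵁ U₁).ι ≫ cE.π.app l.left) x₀
      rw [Scheme.Hom.resLE_comp_ι]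
    obtain ⟨z, ⟨z₀, hz₀, rfl⟩, hz⟩ := mem_closure_iff.mp (H l.left) _ hopen hmem
    refine ⟨z₀, hz₀, ?_⟩
    show (αres α j₁ U₁ V₁ hUV).app l z₀ = (opensCone G cG j₁ V₁).π.app l y₀
    apply (G.map l.hom ⁻¹ᵁ V₁).ι.isOpenEmbedding.injective
    have h1 : (G.map l.hom ⁻¹ᵁ V₁).ι ((αres α j₁ U₁ V₁ hUV).app l z₀) =
        α.app l.left ((E.map l.hom ⁻¹ᵁ U₁).ι z₀) := by
      change ((α.app l.left).resLE _ _ _ ≫ (G.map l.hom ⁻¹ᵁ V₁).ι) z₀ =
        ((E.map l.hom ⁻¹ᵁ U₁).ι ≫ α.app l.left) z₀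
      rw [Scheme.Hom.resLE_comp_ι]
    have h2 : (G.map l.hom ⁻¹ᵁ V₁).ι ((opensCone G cG j₁ V₁).π.app l y₀) =
        cG.π.app l.left ((cG.π.app j₁ ⁻¹ᵁ V₁).ι y₀) := by
      change ((cG.π.app l.left).resLE _ _ _ ≫ (G.map l.hom ⁻¹ᵁ V₁).ι) y₀ =
        ((cG.π.app j₁ ⁻¹ᵁ V₁).ι ≫ cG.π.app l.left) y₀
      rw [Scheme.Hom.resLE_comp_ι]
    rw [h1, h2]
    exact hz
  obtain ⟨x'', hsp, hfx⟩ := exists_gen_aff (isLimitOpensCone E cE hcE j₁ U₁)
    (isLimitOpensCone G cG hcG j₁ V₁) (αres α j₁ U₁ V₁ hUV)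
    (f.resLE (cG.π.app j₁ ⁻¹ᵁ V₁) (cE.π.app j₁ ⁻¹ᵁ U₁) (le_pre_f α f hf j₁ U₁ V₁ hUV))
    hf' x₀ y₀ H'
  refine ⟨(cE.π.app j₁ ⁻¹ᵁ U₁).ι x'', hsp.map (cE.π.app j₁ ⁻¹ᵁ U₁).ι.continuous, ?_⟩
  have h3 : f ((cE.π.app j₁ ⁻¹ᵁ U₁).ι x'') = (cG.π.app j₁ ⁻¹ᵁ V₁).ι
      (f.resLE (cG.π.app j₁ ⁻¹ᵁ V₁) (cE.π.app j₁ ⁻¹ᵁ U₁) (le_pre_f α f hf j₁ U₁ V₁ hUV) x'') := by
    change ((cE.π.app j₁ ⁻¹ᵁ U₁).ι ≫ f) x'' = (f.resLE _ _ _ ≫ (cG.π.app j₁ ⁻¹ᵁ V₁).ι) x''
    rw [Scheme.Hom.resLE_comp_ι]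
  rw [h3]
  exact congrArg (fun p => (cG.π.app j₁ ⁻¹ᵁ V₁).ι p) hfx

include hcE hcG in
theorem exists_gen (hf : ∀ j, f ≫ cG.π.app j = cE.π.app j ≫ α.app j) (x : cE.pt)
    (y' : cG.pt) (hy : y' ⤳ f x)
    (H : ∀ j, cE.π.app j x ∈ closure ((α.app j) ⁻¹' {cG.π.app j y'})) :
    ∃ x' : cE.pt, x' ⤳ x ∧ f x' = y' := by
  classical
  obtain ⟨j₁⟩ := IsCofiltered.nonempty (C := J)
  obtain ⟨_, ⟨V₁, hV₁ : IsAffineOpen V₁, rfl⟩, hyV, -⟩ :=
    (G.obj j₁).isBasis_affineOpens.exists_subset_of_mem_open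
      (Set.mem_univ (cG.π.app j₁ (f x))) isOpen_univ
  have hxα : cE.π.app j₁ x ∈ (α.app j₁ ⁻¹ᵁ V₁ : (E.obj j₁).Opens) := by
    change α.app j₁ (cE.π.app j₁ x) ∈ V₁
    have h1 : α.app j₁ (cE.π.app j₁ x) = cG.π.app j₁ (f x) := by
      change (cE.π.app j₁ ≫ α.app j₁) x = (f ≫ cG.π.app j₁) x
      rw [hf]
    rw [h1]
    exact hyV
  obtain ⟨_, ⟨U₁, hU₁ : IsAffineOpen U₁, rfl⟩, hxU, hUV⟩ :=
    (E.obj j₁).isBasis_affineOpens.exists_subset_of_mem_open hxα (α.app j₁ ⁻¹ᵁ V₁).isOpen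
  exact exists_gen_aux hcE hcG α f hf x y' hy H j₁ U₁ V₁ hU₁ hV₁ hUV hxU hyV

omit [IsCofiltered J] [∀ {i j : J} (a : i ⟶ j), IsAffineHom (E.map a)]
  [∀ {i j : J} (a : i ⟶ j), IsAffineHom (G.map a)] in
theorem mapsTo_C (y' : cG.pt) {k j : J} (c : k ⟶ j) :
    Set.MapsTo (E.map c) (closure ((α.app k) ⁻¹' {cG.π.app k y'}))
      (closure ((α.app j) ⁻¹' {cG.π.app j y'})) := by
  intro z hz
  have h1 : E.map c z ∈ (E.map c) '' closure ((α.app k) ⁻¹' {cG.π.app k y'}) := ⟨z, hz, rfl⟩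
  have h2 := image_closure_subset_closure_image (E.map c).continuous h1
  refine closure_mono ?_ h2
  rintro _ ⟨w, hw, rfl⟩
  show α.app j (E.map c w) = cG.π.app j y'
  have h3 : α.app j (E.map c w) = G.map c (α.app k w) := by
    change (E.map c ≫ α.app j) w = (α.app k ≫ G.map c) w
    rw [α.naturality]
  rw [h3, show α.app k w = cG.π.app k y' from hw]
  change (cG.π.app k ≫ G.map c) y' = _
  rw [cG.w]

include hcE hcG in
theorem core (hqc : QuasiCompact f) (hpb : ∀ j, IsPullback (cE.π.app j) f (α.app j) (cG.π.app j))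
    (hS : ∀ j : J, ∃ (k : J) (_ : k ⟶ j), Subtr.IsSSubtrusive (α.app k)) :
    Subtr.IsSSubtrusive f := by
  classical
  haveI := hqc
  intro y y' hyy
  have hf : ∀ j, f ≫ cG.π.app j = cE.π.app j ≫ α.app j := fun j => (hpb j).w.symm
  have hK : IsCompact (f ⁻¹' {y}) := f.isCompact_preimage_singleton y
  let t : J → Set cE.pt := fun j =>
    (cE.π.app j) ⁻¹' closure ((α.app j) ⁻¹' {cG.π.app j y'})
  have htc : ∀ j, IsClosed (t j) := fun j => isClosed_closure.preimage (cE.π.app j).continuous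
  have hfin : ∀ u : Finset J, ((f ⁻¹' {y}) ∩ ⋂ j ∈ u, t j).Nonempty := by
    intro u
    obtain ⟨l, hl⟩ := IsCofiltered.inf_objs_exists u
    obtain ⟨k, a, hk⟩ := hS l
    have hsp : cG.π.app k y' ⤳ cG.π.app k y := hyy.map (cG.π.app k).continuous
    obtain ⟨xk, xk', hxsp, hxk, hxk'⟩ := hk hsp
    obtain ⟨x, hx1, hx2⟩ := Scheme.exists_preimage_of_isPullback (hpb k) xk y hxk
    refine ⟨x, hx2, ?_⟩
    simp only [Set.mem_iInter]
    intro j hj
    obtain ⟨b⟩ := hl hj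
    show cE.π.app j x ∈ closure ((α.app j) ⁻¹' {cG.π.app j y'})
    have h1 : cE.π.app j x = E.map (a ≫ b) xk := by
      rw [← hx1]
      change _ = (cE.π.app k ≫ E.map (a ≫ b)) x
      rw [cE.w]
    rw [h1]
    apply mapsTo_C α y' (a ≫ b)
    have h2 : xk' ∈ (α.app k) ⁻¹' {cG.π.app k y'} := hxk'
    exact closure_mono (Set.singleton_subset_iff.mpr h2) (specializes_iff_mem_closure.mp hxsp)
  obtain ⟨x, hxK, hxt⟩ := hK.inter_iInter_nonempty t htc hfin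
  have hfx : f x = y := hxK
  have Hx : ∀ j, cE.π.app j x ∈ closure ((α.app j) ⁻¹' {cG.π.app j y'}) := fun j =>
    Set.mem_iInter.mp hxt j
  obtain ⟨x', hsp, hfx'⟩ := exists_gen hcE hcG α f hf x y' (by rw [hfx]; exact hyy) Hx
  exact ⟨x, x', hsp, hfx, hfx'⟩

end STEP2

/-! ## The base change diagrams -/

section final

theorem isSSubtrusive_of_comp {X X' Y : Scheme.{u}} (e : X ⟶ X') (g : X' ⟶ Y)
    (h : Subtr.IsSSubtrusive (e ≫ g)) : Subtr.IsSSubtrusive g := by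
  intro y y' hyy
  obtain ⟨x, x', hsp, hx, hx'⟩ := h hyy
  exact ⟨e x, e x', hsp.map e.continuous, hx, hx'⟩

theorem iso_hom_lift {T S X₀ Y₀ : Scheme.{u}} (f₀ : X₀ ⟶ Y₀) (g₀ : Y₀ ⟶ S) (h : T ⟶ S) :
    (pullbackRightPullbackFstIso g₀ h f₀).hom ≫
      pullback.lift (pullback.fst (f₀ ≫ g₀) h ≫ f₀) (pullback.snd (f₀ ≫ g₀) h)
        (by rw [Category.assoc]; exact pullback.condition) =
      pullback.snd f₀ (pullback.fst g₀ h) := by
  apply pullback.hom_ext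
  · rw [Category.assoc, pullback.lift_fst, ← Category.assoc, pullbackRightPullbackFstIso_hom_fst,
      pullback.condition]
  · rw [Category.assoc, pullback.lift_snd, pullbackRightPullbackFstIso_hom_snd]

variable {I : Type u} [SmallCategory I] (D : I ⥤ Scheme.{u}) (c : Cone D)
  (i₀ : I) {X₀ Y₀ : Scheme.{u}} (f₀ : X₀ ⟶ Y₀) (g₀ : Y₀ ⟶ D.obj i₀)

/-- The natural transformation between the two base change diagrams. -/
noncomputable def αbc : bcDiagram D i₀ (f₀ ≫ g₀) ⟶ bcDiagram D i₀ g₀ where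
  app j := dLift j (dFst D i₀ (f₀ ≫ g₀) j ≫ f₀) (dSnd D i₀ (f₀ ≫ g₀) j)
    (by rw [Category.assoc]; exact d_condition D i₀ (f₀ ≫ g₀) j)
  naturality j k a := by
    apply d_hom_ext
    · rw [Category.assoc, dLift_fst, map_dFst_assoc, Category.assoc, map_dFst, dLift_fst]
    · rw [Category.assoc, dLift_snd, map_dSnd, Category.assoc, map_dSnd, dLift_snd_assoc]

/-- The base change of `f₀` to the limit. -/
noncomputable def fbc : pullback (f₀ ≫ g₀) (c.π.app i₀) ⟶ pullback g₀ (c.π.app i₀) :=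
  pullback.lift (pullback.fst _ _ ≫ f₀) (pullback.snd _ _)
    (by rw [Category.assoc]; exact pullback.condition)

theorem hPE : IsPullback (pullback.fst (f₀ ≫ g₀) (c.π.app i₀)) (pullback.snd (f₀ ≫ g₀) (c.π.app i₀))
    (f₀ ≫ g₀) (c.π.app i₀) := IsPullback.of_hasPullback _ _

theorem hPG : IsPullback (pullback.fst g₀ (c.π.app i₀)) (pullback.snd g₀ (c.π.app i₀))
    g₀ (c.π.app i₀) := IsPullback.of_hasPullback _ _

theorem fbc_bcπ (j : Over i₀) :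
    fbc D c i₀ f₀ g₀ ≫ bcπ i₀ (hPG D c i₀ g₀) j =
      bcπ i₀ (hPE D c i₀ f₀ g₀) j ≫ (αbc D i₀ f₀ g₀).app j := by
  apply d_hom_ext
  · rw [Category.assoc, bcπ_fst, Category.assoc]
    erw [dLift_fst]
    rw [bcπ_fst_assoc]
    exact pullback.lift_fst _ _ _
  · rw [Category.assoc, bcπ_snd, Category.assoc]
    erw [dLift_snd]
    rw [bcπ_snd]
    exact pullback.lift_snd_assoc _ _ _ _

theorem hpb_bc (j : Over i₀) :
    IsPullback (bcπ i₀ (hPE D c i₀ f₀ g₀) j) (fbc D c i₀ f₀ g₀) ((αbc D i₀ f₀ g₀).app j)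
      (bcπ i₀ (hPG D c i₀ g₀) j) := by
  have t : IsPullback (fbc D c i₀ f₀ g₀ ≫ pullback.snd g₀ (c.π.app i₀))
      (bcπ i₀ (hPE D c i₀ f₀ g₀) j) (c.π.app j.left)
      ((αbc D i₀ f₀ g₀).app j ≫ dSnd D i₀ g₀ j) := by
    have e1 : fbc D c i₀ f₀ g₀ ≫ pullback.snd g₀ (c.π.app i₀) =
        pullback.snd (f₀ ≫ g₀) (c.π.app i₀) := pullback.lift_snd _ _ _
    have e2 : (αbc D i₀ f₀ g₀).app j ≫ dSnd D i₀ g₀ j = dSnd D i₀ (f₀ ≫ g₀) j :=
      dLift_snd _ _ _ _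
    rw [e1, e2]
    exact (isPullback_bcπ i₀ (hPE D c i₀ f₀ g₀) j).flip
  exact (IsPullback.of_right t (fbc_bcπ D c i₀ f₀ g₀ j)
    (isPullback_bcπ i₀ (hPG D c i₀ g₀) j).flip).flip

theorem quasiCompact_fbc [QuasiCompact f₀] : QuasiCompact (fbc D c i₀ f₀ g₀) := by
  have t : IsPullback (pullback.fst (f₀ ≫ g₀) (c.π.app i₀))
      (fbc D c i₀ f₀ g₀ ≫ pullback.snd g₀ (c.π.app i₀)) (f₀ ≫ g₀) (c.π.app i₀) := by
    have e1 : fbc D c i₀ f₀ g₀ ≫ pullback.snd g₀ (c.π.app i₀) =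
        pullback.snd (f₀ ≫ g₀) (c.π.app i₀) := pullback.lift_snd _ _ _
    rw [e1]
    exact hPE D c i₀ f₀ g₀
  have p : pullback.fst (f₀ ≫ g₀) (c.π.app i₀) ≫ f₀ =
      fbc D c i₀ f₀ g₀ ≫ pullback.fst g₀ (c.π.app i₀) := (pullback.lift_fst _ _ _).symm
  have sq := IsPullback.of_bot t p (hPG D c i₀ g₀)
  exact MorphismProperty.of_isPullback (P := @QuasiCompact) sq inferInstance

end final

/-- Let S = lim S_i be a cofiltered limit of schemes with affine transition morphisms, Y₀ a scheme over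
a stage S_{i₀}, f₀ : X₀ ⟶ Y₀ a quasi-compact morphism, and write f_i, f for the base changes of f₀
to the stages S_i and to S (realised as second projections of fibre products). If there is a stage
S_{i₁} such that f_i has the lifting property for ordered pairs of points for every stage S_i over
S_{i₁}, then f has it. (The published statement is about subtrusive morphisms and assumes f a
quotient map for the constructible topologies; this row keeps only the lifting property and assumes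
f₀ quasi-compact, which makes the fibres quasi-compact as the filtered-intersection step of the
argument requires.) -/
theorem result {I : Type u} [SmallCategory I] [IsCofiltered I]
    (D : I ⥤ Scheme.{u}) (c : Limits.Cone D) (hc : Limits.IsLimit c)
    [∀ (i j : I) (a : i ⟶ j), IsAffineHom (D.map a)] (i₀ : I)
    {X₀ Y₀ : Scheme.{u}} (f₀ : X₀ ⟶ Y₀) (g₀ : Y₀ ⟶ D.obj i₀) [QuasiCompact f₀]
    (h : ∃ (i₁ : I) (ψ : i₁ ⟶ i₀), ∀ (i : I) (φ : i ⟶ i₁),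
      Subtr.IsSSubtrusive (pullback.snd f₀ (pullback.fst g₀ (D.map (φ ≫ ψ))))) :
    Subtr.IsSSubtrusive (pullback.snd f₀ (pullback.fst g₀ (c.π.app i₀))) := by
  classical
  haveI : ∀ {i j : I} (a : i ⟶ j), IsAffineHom (D.map a) := fun a => inferInstance
  obtain ⟨i₁, ψ, hψ⟩ := h
  have key : Subtr.IsSSubtrusive (fbc D c i₀ f₀ g₀) := by
    refine core (isLimitBcCone i₀ (hPE D c i₀ f₀ g₀) hc) (isLimitBcCone i₀ (hPG D c i₀ g₀) hc)
      (αbc D i₀ f₀ g₀) (fbc D c i₀ f₀ g₀) (quasiCompact_fbc D c i₀ f₀ g₀)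
      (fun j => hpb_bc D c i₀ f₀ g₀ j) ?_
    intro j
    have he : IsCofiltered.eqHom (IsCofiltered.minToLeft j.left i₁ ≫ j.hom)
          (IsCofiltered.minToRight j.left i₁ ≫ ψ) ≫ IsCofiltered.minToLeft j.left i₁ ≫ j.hom =
        IsCofiltered.eqHom (IsCofiltered.minToLeft j.left i₁ ≫ j.hom)
          (IsCofiltered.minToRight j.left i₁ ≫ ψ) ≫ IsCofiltered.minToRight j.left i₁ ≫ ψ :=
      IsCofiltered.eq_condition _ _
    obtain ⟨m, e, u, φ, he'⟩ : ∃ (m : I) (e : m ⟶ IsCofiltered.min j.left i₁)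
        (u : IsCofiltered.min j.left i₁ ⟶ j.left) (φ : IsCofiltered.min j.left i₁ ⟶ i₁),
        e ≫ u ≫ j.hom = e ≫ φ ≫ ψ := ⟨_, _, _, _, he⟩
    refine ⟨Over.mk ((e ≫ φ) ≫ ψ), Over.homMk (e ≫ u) (by
      simp only [Over.mk_hom, Over.mk_left, Category.assoc]; exact he'), ?_⟩
    have h1 := hψ _ (e ≫ φ)
    have h2 := h1
    rw [← iso_hom_lift f₀ g₀ (D.map ((e ≫ φ) ≫ ψ))] at h2
    exact isSSubtrusive_of_comp _ _ h2
  have e := iso_hom_lift f₀ g₀ (c.π.app i₀)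
  have e' : (pullbackRightPullbackFstIso g₀ (c.π.app i₀) f₀).inv ≫
      pullback.snd f₀ (pullback.fst g₀ (c.π.app i₀)) = fbc D c i₀ f₀ g₀ := by
    rw [← e, Iso.inv_hom_id_assoc]
    rfl
  refine isSSubtrusive_of_comp (pullbackRightPullbackFstIso g₀ (c.π.app i₀) f₀).inv _ ?_
  rw [e']
  exact key

end Groth.Agent.S14791
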