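import Groth.Statements.S14808
import Groth.Agent.Lib.Helper20WeakAss
import Groth.Agent.Lib.Helper23GenLocus

set_option autoImplicit false
universe u
open CategoryTheory CategoryTheory.Limits AlgebraicGeometry
open PicF

namespace Groth.Agent.S14808

set_option linter.style.haveILetI false

open Groth.Agent.Lib.Helper23.GenLocus TopologicalSpace Opposite

variable {X : Scheme.{u}}

theorem app_map {F G : X.Modules} (ψ : F ⟶ G) {V U : X.Opens} (i : V ⟶ U) (x : Γ(F, U)) :
    ψ.app V (F.presheaf.map i.op x) = G.presheaf.map i.op (ψ.app U x) := by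
  have h1 := ψ.mapPresheaf.naturality i.op
  exact ConcreteCategory.congr_hom h1 x

section

variable (L : X.Modules) (s : Coh.structureModule X ⟶ L) (t : L ⟶ Coh.structureModule X)

/-- the section `s(1)` over `V`. -/
noncomputable def σ (V : X.Opens) : Γ(L, V) := s.app V (toS V 1)

theorem σ_res {V W : X.Opens} (i : W ⟶ V) : L.presheaf.map i.op (σ L s V) = σ L s W := by
  unfold σ
  rw [← app_map, map_toS, map_one]

theorem s_app (V : X.Opens) (r : Γ(X, V)) : s.app V (toS V r) = r • σ L s V := by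
  unfold σ
  rw [← Scheme.Modules.Hom.app_smul, smul_toS, mul_one]

/-- the function `t(s(1))` over `V`. -/
noncomputable def c (V : X.Opens) : Γ(X, V) := ofS V (t.app V (σ L s V))

theorem c_res {V W : X.Opens} (i : W ⟶ V) : X.presheaf.map i.op (c L s t V) = c L s t W := by
  unfold c
  rw [← σ_res L s i, app_map]
  rfl

theorem t_smul (V : X.Opens) (r : Γ(X, V)) (m : Γ(L, V)) :
    ofS V (t.app V (r • m)) = r * ofS V (t.app V m) := by
  rw [Scheme.Modules.Hom.app_smul]
  rfl

theorem t_res {V W : X.Opens} (i : W ⟶ V) (m : Γ(L, V)) :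
    X.presheaf.map i.op (ofS V (t.app V m)) = ofS W (t.app W (L.presheaf.map i.op m)) := by
  rw [app_map]
  rfl

theorem key_local (W : X.Opens) (g : Γ(L, W))
    (hsurj : Function.Surjective (fun r : Γ(X, W) => r • g)) (m : Γ(L, W)) :
    c L s t W • m = ofS W (t.app W m) • σ L s W := by
  obtain ⟨r, rfl⟩ := hsurj m
  obtain ⟨a, ha⟩ := hsurj (σ L s W)
  simp only [] at ha ⊢
  have hc : c L s t W = a * ofS W (t.app W g) := by
    unfold c
    rw [← ha, t_smul]
  rw [hc, t_smul, ← ha, smul_smul, smul_smul]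
  congr 1
  ring

theorem key (hL : PicF.IsInvertible L) (V : X.Opens) (m : Γ(L, V)) :
    c L s t V • m = ofS V (t.app V m) • σ L s V := by
  refine L.isSheaf.section_ext (U := op V) fun x hx => ?_
  obtain ⟨W₀, g, hxW₀, -, hbij⟩ := Groth.Agent.Lib.Helper20.WeakAss.exists_local_generator' L hL x
  refine ⟨W₀ ⊓ V, inf_le_right, ⟨hxW₀, hx⟩, ?_⟩
  change L.presheaf.map (homOfLE _).op _ = L.presheaf.map (homOfLE _).op _
  rw [Scheme.Modules.map_smul, Scheme.Modules.map_smul, c_res, σ_res, t_res]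
  exact key_local L s t _ (L.presheaf.map (homOfLE inf_le_left).op g) (hbij _ inf_le_left).2 _


theorem inter_nonempty [IsIntegral X] (V W : X.Opens) (hV : (V : Set X).Nonempty)
    (hW : (W : Set X).Nonempty) : ((V ⊓ W : X.Opens) : Set X).Nonempty :=
  nonempty_preirreducible_inter V.isOpen W.isOpen hV hW

/-- sections of an invertible module on an integral scheme restrict injectively to nonempty opens. -/
theorem eq_zero_of_res_eq_zero [IsIntegral X] (hL : PicF.IsInvertible L) {V W : X.Opens} (i : W ⟶ V)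
    (hW : (W : Set X).Nonempty) (m : Γ(L, V)) (h0 : L.presheaf.map i.op m = 0) : m = 0 := by
  refine L.isSheaf.section_ext (U := op V) fun x hx => ?_
  obtain ⟨W₀, g, hxW₀, -, hbij⟩ := Groth.Agent.Lib.Helper20.WeakAss.exists_local_generator' L hL x
  refine ⟨W₀ ⊓ V, inf_le_right, ⟨hxW₀, hx⟩, ?_⟩
  obtain ⟨a, ha⟩ := (hbij (W₀ ⊓ V) inf_le_left).2 (L.presheaf.map (homOfLE inf_le_right).op m)
  simp only [] at ha
  obtain ⟨y, hy⟩ := inter_nonempty (W₀ ⊓ V) W ⟨x, ⟨hxW₀, hx⟩⟩ hW
  have hle : W₀ ⊓ V ⊓ W ≤ W₀ := inf_le_left.trans inf_le_left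
  have h1 : X.presheaf.map (homOfLE (inf_le_left : W₀ ⊓ V ⊓ W ≤ W₀ ⊓ V)).op a = 0 := by
    apply (hbij (W₀ ⊓ V ⊓ W) hle).1
    simp only []
    rw [zero_smul]
    have h2 := congrArg (L.presheaf.map (homOfLE (inf_le_left : W₀ ⊓ V ⊓ W ≤ W₀ ⊓ V)).op) ha
    rw [Scheme.Modules.map_smul, ← ConcreteCategory.comp_apply, ← Functor.map_comp,
      ← ConcreteCategory.comp_apply, ← Functor.map_comp] at h2
    refine h2.trans ?_
    have h3 : (homOfLE (inf_le_right : W₀ ⊓ V ≤ V)).op ≫
        (homOfLE (inf_le_left : W₀ ⊓ V ⊓ W ≤ W₀ ⊓ V)).op =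
        i.op ≫ (homOfLE (inf_le_right : W₀ ⊓ V ⊓ W ≤ W)).op := rfl
    rw [h3, Functor.map_comp, ConcreteCategory.comp_apply, h0, map_zero]
  have h2 : a = 0 := by
    apply germ_injective_of_isIntegral X y hy.1
    rw [map_zero, ← TopCat.Presheaf.germ_res_apply X.presheaf
      (homOfLE (inf_le_left : W₀ ⊓ V ⊓ W ≤ W₀ ⊓ V)) y hy a, h1, map_zero]
  change L.presheaf.map _ m = L.presheaf.map _ 0
  rw [map_zero, ← ha, h2, zero_smul]

/-- a cosection vanishing on a local generator vanishes. -/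
theorem t_eq_zero [IsIntegral X] (W₀ : X.Opens) (g : Γ(L, W₀))
    (hsurj : ∀ (W' : X.Opens) (h : W' ≤ W₀),
      Function.Surjective (fun r : Γ(X, W') => r • L.presheaf.map (homOfLE h).op g))
    (hne : (W₀ : Set X).Nonempty) (h0 : t.app W₀ g = 0) (V : X.Opens) (m : Γ(L, V)) :
    ofS V (t.app V m) = 0 := by
  apply TopCat.Presheaf.section_ext X.sheaf V
  intro x hx
  obtain ⟨y, hy⟩ := inter_nonempty V W₀ ⟨x, hx⟩ hne
  have : ofS V (t.app V m) = 0 := by
    apply germ_injective_of_isIntegral X y hy.1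
    rw [map_zero, ← TopCat.Presheaf.germ_res_apply X.presheaf
      (homOfLE (inf_le_left : V ⊓ W₀ ≤ V)) y hy, t_res]
    obtain ⟨r, hr⟩ := hsurj (V ⊓ W₀) inf_le_right (L.presheaf.map (homOfLE inf_le_left).op m)
    simp only [] at hr
    rw [← hr, t_smul, app_map, h0, map_zero]
    change X.presheaf.germ _ y hy (r * 0) = 0
    rw [mul_zero, map_zero]
  rw [this]

end

/-- Let X be an integral scheme such that Γ(X, O_X) is a field and L an invertible O_X-module. If L has
a nonzero global section (a nonzero morphism O_X → L) and its dual has a nonzero global section (a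
nonzero morphism L → O_X), then L is isomorphic to O_X. -/
theorem result (X : Scheme.{u}) [IsIntegral X]
    (hfield : IsField (Γ(X, ⊤) : Type u)) (L : X.Modules) (hL : PicF.IsInvertible L)
    (s : Coh.structureModule X ⟶ L) (hs : s ≠ 0) (t : L ⟶ Coh.structureModule X) (ht : t ≠ 0) :
    Nonempty (L ≅ Coh.structureModule X) := by
  obtain ⟨x₀⟩ : Nonempty X := inferInstance
  obtain ⟨W₀, g, hxW₀, -, hbij⟩ := Groth.Agent.Lib.Helper20.WeakAss.exists_local_generator' L hL x₀
  have hne : (W₀ : Set X).Nonempty := ⟨x₀, hxW₀⟩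
  haveI : Nonempty W₀ := ⟨⟨x₀, hxW₀⟩⟩
  have hg' : L.presheaf.map (homOfLE (le_refl W₀)).op g = g := by
    rw [show (homOfLE (le_refl W₀)).op = 𝟙 _ from rfl, L.presheaf.map_id]
    rfl
  have hc : c L s t ⊤ ≠ 0 := by
    intro h0
    have h1 : c L s t W₀ = 0 := by
      rw [← c_res L s t (homOfLE (le_top : W₀ ≤ ⊤)), h0, map_zero]
    obtain ⟨a, ha⟩ := (hbij W₀ le_rfl).2 (σ L s W₀)
    simp only [] at ha
    rw [hg'] at ha
    have h2 : c L s t W₀ = a * ofS W₀ (t.app W₀ g) := by
      unfold c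
      rw [← ha, t_smul]
    rw [h1] at h2
    rcases mul_eq_zero.1 h2.symm with h3 | h3
    · apply hs
      have hσ0 : σ L s ⊤ = 0 := by
        apply eq_zero_of_res_eq_zero L hL (homOfLE (le_top : W₀ ≤ ⊤)) hne
        rw [σ_res, ← ha, h3, zero_smul]
      apply Scheme.Modules.hom_ext
      intro V
      ext r
      have h4 : s.app V (toS V (ofS V r)) = 0 := by
        rw [s_app, ← σ_res L s (homOfLE (le_top : V ≤ ⊤)), hσ0, map_zero, smul_zero]
      exact h4
    · apply ht
      apply Scheme.Modules.hom_ext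
      intro V
      ext m
      have h4 := t_eq_zero L t W₀ g (fun W' h => (hbij W' h).2) hne
        (show t.app W₀ g = 0 from h3) V m
      exact h4
  obtain ⟨d, hd⟩ := hfield.mul_inv_cancel hc
  haveI : IsIso s := by
    rw [Scheme.Modules.Hom.isIso_iff_isIso_app]
    intro V
    rw [ConcreteCategory.isIso_iff_bijective]
    set dV : Γ(X, V) := X.presheaf.map (homOfLE (le_top : V ≤ ⊤)).op d with hdV
    have hcd : c L s t V * dV = 1 := by
      rw [← c_res L s t (homOfLE (le_top : V ≤ ⊤)), hdV, ← map_mul, hd, map_one]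
    constructor
    · intro r₁ r₂ h
      have h' : s.app V (toS V (ofS V r₁)) = s.app V (toS V (ofS V r₂)) := h
      rw [s_app, s_app] at h'
      have h2 : ofS V (t.app V (ofS V r₁ • σ L s V)) = ofS V (t.app V (ofS V r₂ • σ L s V)) := by
        rw [h']
      rw [t_smul, t_smul] at h2
      change ofS V r₁ * c L s t V = ofS V r₂ * c L s t V at h2
      have h3 : ofS V r₁ * c L s t V * dV = ofS V r₂ * c L s t V * dV := by rw [h2]
      rw [mul_assoc, mul_assoc, hcd, mul_one, mul_one] at h3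
      exact h3
    · intro m
      refine ⟨toS V (dV * ofS V (t.app V m)), ?_⟩
      change s.app V (toS V (dV * ofS V (t.app V m))) = m
      rw [s_app, mul_smul, ← key L s t hL V m, ← mul_smul, mul_comm, hcd, one_smul]
  exact ⟨(asIso s).symm⟩

end Groth.Agent.S14808
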