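import Groth.Statements.S14809
import Mathlib
import Groth.Agent.Lib.Helper23SecTw6
import Groth.Agent.S14808
-- import your own Groth.Agent.* helpers here

set_option autoImplicit false
universe u
open CategoryTheory CategoryTheory.Limits AlgebraicGeometry
open PicF

namespace Groth.Agent.S14809

open TopologicalSpace Opposite
open Groth.Agent.Lib.Helper23.SecTw Groth.Agent.Lib.Helper23.GenLocus Groth.Agent.Lib.Helper6

/-- multiplication by a section: `M ⟶ N ⊗ M`, `m ↦ σ ⊗ m` -/
theorem exists_mulLeft {X : Scheme.{u}} (N M : X.Modules) (σ : Coh.structureModule X ⟶ N) :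
    ∃ Φ : M ⟶ CohB1.tensorMod N M, ∀ (V : X.Opens) (m : Γ(M, V)), Φ.app V m = tm N M V (sv σ V) m :=
  exists_hom_of_sections M (CohB1.tensorMod N M) (fun V m => tm N M V (sv σ V) m)
    (fun V m m' => tm_add_right N M V _ m m')
    (fun V r m => tm_smul_right N M V r _ m)
    (fun U V h m => by rw [res_tm, res_sv])

theorem eq_zero_of_sv_eq_zero {X : Scheme.{u}} [IsIntegral X] (L : X.Modules) (hL : PicF.IsInvertible L)
    (s : Coh.structureModule X ⟶ L) (W : X.Opens) (hW : (W : Set X).Nonempty) (h : sv s W = 0) : s = 0 := by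
  have h0 : sv s ⊤ = 0 := by
    apply Groth.Agent.S14808.eq_zero_of_res_eq_zero L hL (homOfLE (le_top : W ≤ ⊤)) hW
    exact (res_sv s (le_top : W ≤ ⊤)).trans h
  apply Scheme.Modules.hom_ext
  intro V
  ext r
  have h4 : s.app V (toS V (ofS V r)) = 0 := by
    rw [app_toS, ← res_sv s (le_top : V ≤ ⊤), h0, res_zero, smul_zero]
  exact h4

/-- Let X be an integral scheme such that Γ(X, O_X) is a field and L an invertible O_X-module with a
nonzero global section (a nonzero morphism O_X → L). If some tensor power L^{⊗d} with d ≥ 1 is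
isomorphic to O_X, then L itself is isomorphic to O_X. -/
theorem result (X : Scheme.{u}) [IsIntegral X]
    (hfield : IsField (Γ(X, ⊤) : Type u)) (L : X.Modules) (hL : PicF.IsInvertible L)
    (s : Coh.structureModule X ⟶ L) (hs : s ≠ 0) (d : ℕ) (hd : 0 < d)
    (htriv : Nonempty (CohB1.tensorPow L d ≅ Coh.structureModule X)) :
    Nonempty (L ≅ Coh.structureModule X) := by
  obtain ⟨d', rfl⟩ : ∃ d', d = d' + 1 := ⟨d - 1, by omega⟩
  obtain ⟨ε⟩ := htriv
  obtain ⟨Φ, hΦ⟩ := exists_mulLeft (CohB1.tensorPow L d') L (SecTwist.powHom s d')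
  refine Groth.Agent.S14808.result X hfield L hL s hs (Φ ≫ ε.hom) ?_
  intro h0
  have hΦ0 : Φ = 0 := by
    have : Φ ≫ ε.hom = 0 ≫ ε.hom := by rw [h0, zero_comp]
    exact (cancel_mono ε.hom).1 this
  obtain ⟨x₀⟩ : Nonempty X := inferInstance
  obtain ⟨W, e, hxW, he⟩ := exists_gen L hL x₀
  haveI : Nonempty W := ⟨⟨x₀, hxW⟩⟩
  apply hs
  apply eq_zero_of_sv_eq_zero L hL s W ⟨x₀, hxW⟩
  have h1 : Φ.app W e = coef he le_rfl (sv s W) ^ d' • pw L W e (d' + 1) := by
    rw [hΦ, sv_powHom]
    conv_lhs => rw [sv_eq_coef_smul s he]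
    rw [pw_smul, tm_smul_left]
    rfl
  have h2 : Φ.app W e = 0 := by rw [hΦ0]; rfl
  rw [h2] at h1
  have h3 : coef he le_rfl (sv s W) ^ d' = 0 := by
    have hgen := isGen_pw L W e he (d' + 1)
    apply (hgen W le_rfl).1
    change coef he le_rfl (sv s W) ^ d' • res _ le_rfl (pw L W e (d' + 1)) = (0 : Γ(X, W)) • res _ le_rfl (pw L W e (d' + 1))
    rw [res_self, zero_smul]
    exact h1.symm
  have h4 : coef he le_rfl (sv s W) = 0 := by
    haveI : IsDomain Γ(X, W) := inferInstance
    exact eq_zero_of_pow_eq_zero h3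
  rw [sv_eq_coef_smul s he, h4, zero_smul]

end Groth.Agent.S14809
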