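import Groth.Statements.S1482
import Groth.Agent.Lib.Helper20EtSplitPI

set_option autoImplicit false
universe u
open FlatMor

namespace Groth.Agent.S1482

open AlgebraicGeometry CategoryTheory Limits in
/-- Let f : X → S be locally of finite type, s a point of S and x_1, …, x_n pairwise distinct points
over s at which f is quasi-finite. Then there are an étale morphism g : U → S with a point u over s
and, for each i, finitely many opens V_{i,j} of X_U = X ×_S U, each finite over U and containing
exactly one point v_{i,j} over u, with κ(v_{i,j}) finite purely inseparable over κ(u), the v_{i,j}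
pairwise distinct, v_{i,j} mapping to x_i, and every point of X_U over u mapping to some x_i equal
to one of the v_{i,j}. -/
theorem result {X S : Scheme.{u}} (f : X ⟶ S) [LocallyOfFiniteType f] (s : S) {ι : Type} [Finite ι]
    (x : ι → ↑X) (hinj : Function.Injective x) (hs : ∀ i, f (x i) = s) (hx : ∀ i, f.QuasiFiniteAt (x i)) :
    ∃ (U : Scheme.{u}) (g : U ⟶ S) (u : U), Etale g ∧ g u = s ∧
      ∃ (J : ι → Type) (_ : ∀ i, Finite (J i)) (V : ∀ i, J i → (pullback f g).Opens) (v : ∀ i, J i → ↑(pullback f g)),
        (∀ i j, v i j ∈ V i j ∧ IsFinite ((V i j).ι ≫ pullback.snd f g) ∧ pullback.snd f g (v i j) = u ∧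
          (∀ w : ↑(pullback f g), w ∈ V i j → pullback.snd f g w = u → w = v i j) ∧
          (letI := ((pullback.snd f g).residueFieldMap (v i j)).hom.toAlgebra
           Module.Finite ↑(U.residueField (pullback.snd f g (v i j))) ↑((pullback f g).residueField (v i j)) ∧
           IsPurelyInseparable ↑(U.residueField (pullback.snd f g (v i j))) ↑((pullback f g).residueField (v i j))) ∧
          pullback.fst f g (v i j) = x i) ∧
        (∀ i j i' j', v i j = v i' j' → i = i' ∧ HEq j j') ∧
        (∀ (w : ↑(pullback f g)) (i : ι), pullback.snd f g w = u → pullback.fst f g w = x i → ∃ j, w = v i j) := by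
  obtain ⟨U, g, u, hg, hu, hFfin, H⟩ :=
    Groth.Agent.Lib.Helper20.EtSections.exists_etale_split f s (Set.range x) (Set.finite_range x)
      (by rintro _ ⟨i, rfl⟩; exact ⟨hs i, hx i⟩)
  have hFi : ∀ i, Finite {w : ↥(pullback f g) // pullback.snd f g w = u ∧ pullback.fst f g w = x i} := by
    intro i
    have : Finite {w : ↥(pullback f g) | pullback.snd f g w = u ∧
        pullback.fst f g w ∈ Set.range x} := hFfin.to_subtype
    exact Finite.of_injective (fun w => (⟨w.1, w.2.1, ⟨i, w.2.2.symm⟩⟩ :
      {w : ↥(pullback f g) | pullback.snd f g w = u ∧ pullback.fst f g w ∈ Set.range x}))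
      (fun a b hab => Subtype.ext (congrArg (fun z => z.1) hab))
  let eq : ∀ i, {w : ↥(pullback f g) // pullback.snd f g w = u ∧ pullback.fst f g w = x i} ≃
      Fin (Nat.card {w : ↥(pullback f g) // pullback.snd f g w = u ∧ pullback.fst f g w = x i}) :=
    fun i => Finite.equivFin _
  have hV : ∀ (i : ι) (j : Fin (Nat.card {w : ↥(pullback f g) // pullback.snd f g w = u ∧
      pullback.fst f g w = x i})), ∃ V : (pullback f g).Opens, ((eq i).symm j).1 ∈ V ∧
      IsFinite (V.ι ≫ pullback.snd f g) ∧
      ∀ w' : ↥(pullback f g), w' ∈ V → pullback.snd f g w' = u → w' = ((eq i).symm j).1 :=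
    fun i j => (H ((eq i).symm j).1 ((eq i).symm j).2.1 ⟨i, ((eq i).symm j).2.2.symm⟩).1
  choose V hV1 hV2 hV3 using hV
  refine ⟨U, g, u, hg, hu, fun i => Fin (Nat.card {w : ↥(pullback f g) //
    pullback.snd f g w = u ∧ pullback.fst f g w = x i}), fun i => inferInstance, V,
    fun i j => ((eq i).symm j).1, ?_, ?_, ?_⟩
  · intro i j
    have hw := H ((eq i).symm j).1 ((eq i).symm j).2.1 ⟨i, ((eq i).symm j).2.2.symm⟩
    refine ⟨hV1 i j, hV2 i j, ((eq i).symm j).2.1, hV3 i j, ⟨hw.2.2, ?_⟩, ((eq i).symm j).2.2⟩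
    exact (Groth.Agent.Lib.Helper20.ResFld.pInsep_iff _).mp hw.2.1
  · intro i j i' j' hvv
    have hii : i = i' := by
      apply hinj
      have h1 := ((eq i).symm j).2.2
      have h2 := ((eq i').symm j').2.2
      change ((eq i).symm j).1 = ((eq i').symm j').1 at hvv
      rw [← h1, ← h2, hvv]
    subst hii
    refine ⟨rfl, heq_of_eq ?_⟩
    apply (eq i).symm.injective
    exact Subtype.ext hvv
  · intro w i hwu hwx
    refine ⟨eq i ⟨w, hwu, hwx⟩, ?_⟩
    change w = ((eq i).symm (eq i ⟨w, hwu, hwx⟩)).1
    rw [Equiv.symm_apply_apply]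

end Groth.Agent.S1482
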