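import Groth.Statements.S14825
import Mathlib

set_option autoImplicit false
universe u
open CategoryTheory MonoidalCategory CartesianMonoidalCategory MonObj GrpObj AlgebraicGeometry
open AbVar

namespace Groth.Agent.S14825

open Opposite TopologicalSpace

/-- `H^0(X, M) ≃+ M(X)`, compatible with the action of global functions. -/
noncomputable def hh0Equiv (X : Scheme.{u}) (M : X.Modules) :
    Coh.HH X M 0 ≃+ (Coh.toAb M).obj.obj (op (⊤ : Opens X)) :=
  Sheaf.H.equiv₀ (Coh.toAb M) Limits.isTerminalTop

lemma hh0Equiv_smul (X : Scheme.{u}) (M : X.Modules) (r : Coh.Γtop X) (x : Coh.HH X M 0) :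
    hh0Equiv X M (r • x) = (Coh.smulAb M r).hom.app (op ⊤) (hh0Equiv X M x) := by
  change Sheaf.H.equiv₀ _ _ (Sheaf.H.map (Coh.smulAb M r) 0 x) = _
  rw [← Sheaf.H.equiv₀_naturality]
  rfl

lemma resTop_top (X : Scheme.{u}) (r : Coh.Γtop X) : Coh.resTop X (op ⊤) r = r := by
  change (X.ringCatSheaf.obj.map (𝟙 (op ⊤))).hom r = r
  rw [CategoryTheory.Functor.map_id]
  rfl

/-- `H^0(X, O_X) ≃+ Γ(X, O_X)` as additive groups, with smul ↦ mul -/
noncomputable def hh0Unit (X : Scheme.{u}) : Coh.HH X (Coh.structureModule X) 0 ≃+ Coh.Γtop X :=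
  hh0Equiv X (Coh.structureModule X)

lemma hh0Unit_smul (X : Scheme.{u}) (r : Coh.Γtop X) (x : Coh.HH X (Coh.structureModule X) 0) :
    hh0Unit X (r • x) = r * hh0Unit X x := by
  have h := hh0Equiv_smul X (Coh.structureModule X) r x
  rw [Coh.smulAb_app, resTop_top] at h
  exact h

lemma toGlobal_bijective (k : Type u) [Field k] (X : Scheme.{u}) [X.Over (Spec (CommRingCat.of k))]
    (h0 : Module.finrank k (Coh.HH X (Coh.structureModule X) 0) = 1) :
    Function.Bijective (Coh.toGlobal (X ↘ Spec (CommRingCat.of k))) := by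
  have hnt : Nontrivial (Coh.HH X (Coh.structureModule X) 0) :=
    Module.nontrivial_of_finrank_pos (R := k) (by rw [h0]; exact Nat.one_pos)
  have hnt' : Nontrivial (Coh.Γtop X) := (hh0Unit X).symm.toEquiv.nontrivial
  constructor
  · exact RingHom.injective _
  · intro w
    have nz : (hh0Unit X).symm 1 ≠ 0 := by
      intro h
      have := congrArg (hh0Unit X) h
      rw [AddEquiv.apply_symm_apply, map_zero] at this
      exact one_ne_zero this
    obtain ⟨c, hc⟩ := (finrank_eq_one_iff_of_nonzero' _ nz).mp h0 ((hh0Unit X).symm w)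
    refine ⟨c, ?_⟩
    have h1 : c • (hh0Unit X).symm 1 =
        (Coh.toGlobal (X ↘ Spec (CommRingCat.of k)) c) • (hh0Unit X).symm 1 := rfl
    rw [h1] at hc
    have := congrArg (hh0Unit X) hc
    rw [hh0Unit_smul, AddEquiv.apply_symm_apply, AddEquiv.apply_symm_apply, _root_.mul_one] at this
    exact this

/-- the geometric core: if `p : X ⟶ S` induces a bijection on global sections, has a section
`x₀`, and `a : X ⟶ Y` has all points in one affine open containing... -/
lemma eq_comp_of_appTop_bijective {X S Y : Scheme.{u}} (p : X ⟶ S) (x₀ : S ⟶ X)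
    (hx₀ : x₀ ≫ p = 𝟙 S) (hp : Function.Bijective p.appTop) (a : X ⟶ Y)
    (U : Y.Opens) (hU : IsAffineOpen U) (hrange : Set.range a.base ⊆ U) :
    a = p ≫ x₀ ≫ a := by
  have hU' : IsAffine (U : Scheme.{u}) := hU
  have h1 : Set.range a.base ⊆ Set.range U.ι.base := by
    rw [Scheme.Opens.range_ι]; exact hrange
  have h2 : Set.range (x₀ ≫ a).base ⊆ Set.range U.ι.base := by
    rw [Scheme.Opens.range_ι]
    rintro _ ⟨s, rfl⟩
    exact hrange ⟨x₀.base s, by simp⟩
  set ψ := IsOpenImmersion.lift U.ι a h1 with hψ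
  set ε := IsOpenImmersion.lift U.ι (x₀ ≫ a) h2 with hε
  have hψ' : ψ ≫ U.ι = a := IsOpenImmersion.lift_fac _ _ _
  have hε' : ε ≫ U.ι = x₀ ≫ a := IsOpenImmersion.lift_fac _ _ _
  have h3 : x₀ ≫ ψ = ε := by
    rw [← cancel_mono U.ι, Category.assoc, hψ', hε']
  have hiso : IsIso p.appTop := (ConcreteCategory.isIso_iff_bijective _).mpr hp
  have h4 : p.appTop ≫ x₀.appTop = 𝟙 _ := by
    rw [← Scheme.Hom.comp_appTop, hx₀]; rfl
  have h5 : x₀.appTop ≫ p.appTop = 𝟙 _ := by
    rw [← cancel_epi p.appTop, ← Category.assoc, h4, Category.id_comp, Category.comp_id]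
  have h6 : ψ = p ≫ ε := by
    apply ext_of_isAffine
    rw [Scheme.Hom.comp_appTop, ← h3, Scheme.Hom.comp_appTop, Category.assoc, h5, Category.comp_id]
  rw [← hε', ← Category.assoc, ← h6, hψ']


/-- In the pointed case, let k be a field and X a proper k-scheme with H^0(X, O_X) one-dimensional and a
k-rational point x₀; let alb : X → A be the Albanese morphism (A an abelian variety over k — proper,
geometrically integral group scheme — with alb(x₀) = 0, universal among pointed k-morphisms from X
to abelian varieties, the latter being geometrically reduced, connected, proper group schemes). Then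
X has Albanese dimension zero, i.e. the image of alb is a single point of A (X is connected, so this
says the image is zero-dimensional), if and only if A is the trivial abelian variety, i.e. A → Spec
k is an isomorphism. (The published statement does not assume a rational point (it works with the
Albanese torsor); this row assumes one.) -/
theorem result (k : Type u) [Field k] (X : Scheme.{u}) [X.Over (Spec (CommRingCat.of k))]
    [IsProper (X ↘ Spec (CommRingCat.of k))] (h0 : Module.finrank k (Coh.HH X (Coh.structureModule X) 0) = 1)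
    (x₀ : 𝟙_ (Over (Spec (CommRingCat.of k))) ⟶ Over.mk (X ↘ Spec (CommRingCat.of k)))
    (A : Over (Spec (CommRingCat.of k))) [GrpObj A] [IsProper A.hom] [GeometricallyIntegral A.hom]
    (alb : Over.mk (X ↘ Spec (CommRingCat.of k)) ⟶ A) (halb : x₀ ≫ alb = η[A])
    (huniv : ∀ (B : Over (Spec (CommRingCat.of k))) [GrpObj B] [IsProper B.hom] [GeometricallyReduced B.hom] [ConnectedSpace ↥B.left]
      (g : Over.mk (X ↘ Spec (CommRingCat.of k)) ⟶ B), x₀ ≫ g = η[B] → ∃! h : A ⟶ B, IsMonHom h ∧ alb ≫ h = g) :
    (Set.range alb.left.base).Subsingleton ↔ IsIso A.hom := by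
  have hirr : IrreducibleSpace A.left :=
    GeometricallyIrreducible.irreducibleSpace_of_subsingleton (f := A.hom)
  have hconn : ConnectedSpace A.left := inferInstance
  constructor
  · intro hsub
    have hp : Function.Bijective (X ↘ Spec (CommRingCat.of k)).appTop := by
      have h1 := toGlobal_bijective k X h0
      have h2 : Function.Bijective (Scheme.ΓSpecIso (CommRingCat.of k)).hom :=
        (ConcreteCategory.isIso_iff_bijective _).mp inferInstance
      have h3 : ⇑(X ↘ Spec (CommRingCat.of k)).appTop =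
          ⇑(Coh.toGlobal (X ↘ Spec (CommRingCat.of k))) ∘ ⇑(Scheme.ΓSpecIso (CommRingCat.of k)).hom := by
        funext a
        change _ = (X ↘ Spec (CommRingCat.of k)).appTop.hom
          ((Scheme.ΓSpecIso (CommRingCat.of k)).inv.hom ((Scheme.ΓSpecIso (CommRingCat.of k)).hom.hom a))
        rw [Iso.hom_inv_id_apply]
      rw [h3]
      exact h1.comp h2
    have hx₀ : x₀.left ≫ (X ↘ Spec (CommRingCat.of k)) = 𝟙 (Spec (CommRingCat.of k)) := Over.w x₀
    let pt : Spec (CommRingCat.of k) := IsLocalRing.closedPoint k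
    obtain ⟨_, ⟨U, hU, rfl⟩, ha₀, -⟩ := A.left.isBasis_affineOpens.exists_subset_of_mem_open
      (Set.mem_univ (alb.left.base (x₀.left.base pt))) isOpen_univ
    have hrange : Set.range alb.left.base ⊆ U := by
      rintro _ ⟨x, rfl⟩
      have : alb.left.base x = alb.left.base (x₀.left.base pt) := hsub ⟨x, rfl⟩ ⟨_, rfl⟩
      rw [this]; exact ha₀
    have key := eq_comp_of_appTop_bijective (X ↘ Spec (CommRingCat.of k)) x₀.left hx₀ hp alb.left
      U hU hrange
    have halb' : alb = toUnit _ ≫ η[A] := by
      ext1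
      rw [key, ← Over.comp_left, halb, Over.comp_left]
      congr 1
    obtain ⟨h, -, huniq⟩ := huniv A alb halb
    have e1 : 𝟙 A = h := huniq _ ⟨inferInstance, Category.comp_id _⟩
    have e2 : toUnit A ≫ η[A] = h := huniq _ ⟨inferInstance, by
      rw [← Category.assoc, toUnit_unique (alb ≫ toUnit A) (toUnit _), ← halb']⟩
    have e3 : toUnit A ≫ η[A] = 𝟙 A := e2.trans e1.symm
    have e4 : η[A] ≫ toUnit A = 𝟙 _ := toUnit_unique _ _
    have e5 : (toUnit A).left = A.hom := by
      have := Over.w (toUnit A)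
      exact (Category.comp_id _).symm.trans this
    refine ⟨η[A].left, ?_, ?_⟩
    · rw [← e5, ← Over.comp_left, e3]; rfl
    · rw [← e5, ← Over.comp_left, e4]; rfl
  · intro hiso
    have hinj : Function.Injective A.hom.base := (A.hom.homeomorph).injective
    rintro _ ⟨x, rfl⟩ _ ⟨y, rfl⟩
    apply hinj
    exact Subsingleton.elim _ _

end Groth.Agent.S14825
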