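import Groth.Statements.S14827
-- import your own Groth.Agent.* helpers here

set_option autoImplicit false
universe u
open CategoryTheory MonoidalCategory CartesianMonoidalCategory MonObj GrpObj AlgebraicGeometry
open AbVar

namespace Groth.Agent.S14827

section Abstract

variable {C : Type*} [Category C] [CartesianMonoidalCategory C]

theorem pt_toUnit {X : C} (x : 𝟙_ C ⟶ X) : x ≫ toUnit X = 𝟙 (𝟙_ C) := toUnit_unique _ _

theorem eta_eq_one {A : C} [GrpObj A] : η[A] = (1 : 𝟙_ C ⟶ A) := by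
  rw [Hom.one_def, toUnit_unique (toUnit (𝟙_ C)) (𝟙 _), Category.id_comp]

theorem part1 {X A : C} [GrpObj A] (x₁ : 𝟙_ C ⟶ X) (alb : X ⟶ A) :
    x₁ ≫ (alb * (toUnit X ≫ x₁ ≫ alb)⁻¹) = η[A] := by
  rw [MonObj.comp_mul, GrpObj.comp_inv, ← Category.assoc x₁, pt_toUnit, Category.id_comp,
    _root_.mul_inv_cancel, eta_eq_one]

theorem part2 {X A B : C} [GrpObj A] [GrpObj B] (x₀ x₁ : 𝟙_ C ⟶ X) (alb : X ⟶ A)
    (halb : x₀ ≫ alb = η[A]) (g : X ⟶ B) (hg : x₁ ≫ g = η[B])
    (huniv : ∃! h : A ⟶ B, IsMonHom h ∧ alb ≫ h = g * (toUnit X ≫ x₀ ≫ g)⁻¹) :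
    ∃! h : A ⟶ B, IsMonHom h ∧ (alb * (toUnit X ≫ x₁ ≫ alb)⁻¹) ≫ h = g := by
  obtain ⟨h, ⟨hmon, hh⟩, huniq⟩ := huniv
  refine ⟨h, ⟨hmon, ?_⟩, ?_⟩
  · have h1 : (toUnit X ≫ x₁ ≫ alb) ≫ h = (toUnit X ≫ x₀ ≫ g)⁻¹ := by
      rw [Category.assoc, Category.assoc, hh, MonObj.comp_mul, hg, GrpObj.comp_inv,
        ← Category.assoc x₁, pt_toUnit, Category.id_comp, eta_eq_one, _root_.one_mul, GrpObj.comp_inv]
    rw [MonObj.mul_comp, GrpObj.inv_comp, hh, h1, _root_.inv_inv, _root_.inv_mul_cancel_right]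
  · rintro h' ⟨hmon', hh'⟩
    apply huniq
    refine ⟨hmon', ?_⟩
    have e1 : (alb ≫ h') * ((toUnit X ≫ x₁ ≫ alb) ≫ h')⁻¹ = g := by
      rw [← GrpObj.inv_comp, ← MonObj.mul_comp]; exact hh'
    have e2 : x₁ ≫ alb ≫ h' = (x₀ ≫ g)⁻¹ := by
      have := congrArg (fun t => x₀ ≫ t) hh'
      beta_reduce at this
      rw [MonObj.mul_comp, GrpObj.inv_comp, MonObj.comp_mul, GrpObj.comp_inv,
        ← Category.assoc x₀ alb, halb, eta_eq_one, MonObj.one_comp, _root_.one_mul,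
        Category.assoc, Category.assoc, ← Category.assoc x₀, pt_toUnit, Category.id_comp] at this
      rw [← this, _root_.inv_inv]
    have e3 : (toUnit X ≫ x₁ ≫ alb) ≫ h' = (toUnit X ≫ x₀ ≫ g)⁻¹ := by
      rw [Category.assoc, Category.assoc, e2, GrpObj.comp_inv]
    rw [mul_inv_eq_iff_eq_mul.mp e1, e3]

end Abstract

/-- Over a field k (the published statement is over a base scheme S), let X be a proper k-scheme with
H^0(X, O_X) one-dimensional and a k-rational point x₀, and alb : X → A the Albanese morphism for the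
base point x₀ (A an abelian variety — proper, geometrically integral group scheme — with alb(x₀) =
0, universal among pointed morphisms to geometrically reduced, connected, proper group schemes). For
a second k-rational point x₁ let alb' = alb · (constant map with value alb(x₁))⁻¹, i.e. alb followed
by the translation of A by −alb(x₁). Then alb' is the Albanese morphism of X pointed by x₁: alb'(x₁)
= 0, and every k-morphism g : X → B to an abelian variety B with g(x₁) = 0 equals alb' ≫ h for a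
unique homomorphism h : A → B. -/
theorem result (k : Type u) [Field k] (X : Scheme.{u}) [X.Over (Spec (CommRingCat.of k))]
    [IsProper (X ↘ Spec (CommRingCat.of k))] (h0 : Module.finrank k (Coh.HH X (Coh.structureModule X) 0) = 1)
    (x₀ : 𝟙_ (Over (Spec (CommRingCat.of k))) ⟶ Over.mk (X ↘ Spec (CommRingCat.of k)))
    (A : Over (Spec (CommRingCat.of k))) [GrpObj A] [IsProper A.hom] [GeometricallyIntegral A.hom]
    (alb : Over.mk (X ↘ Spec (CommRingCat.of k)) ⟶ A) (halb : x₀ ≫ alb = η[A])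
    (huniv : ∀ (B : Over (Spec (CommRingCat.of k))) [GrpObj B] [IsProper B.hom] [GeometricallyReduced B.hom] [ConnectedSpace ↥B.left]
      (g : Over.mk (X ↘ Spec (CommRingCat.of k)) ⟶ B), x₀ ≫ g = η[B] → ∃! h : A ⟶ B, IsMonHom h ∧ alb ≫ h = g)
    (x₁ : 𝟙_ (Over (Spec (CommRingCat.of k))) ⟶ Over.mk (X ↘ Spec (CommRingCat.of k))) :
    x₁ ≫ (alb * (toUnit (Over.mk (X ↘ Spec (CommRingCat.of k))) ≫ x₁ ≫ alb)⁻¹) = η[A] ∧
    ∀ (B : Over (Spec (CommRingCat.of k))) [GrpObj B] [IsProper B.hom] [GeometricallyReduced B.hom] [ConnectedSpace ↥B.left]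
      (g : Over.mk (X ↘ Spec (CommRingCat.of k)) ⟶ B), x₁ ≫ g = η[B] →
        ∃! h : A ⟶ B, IsMonHom h ∧ (alb * (toUnit (Over.mk (X ↘ Spec (CommRingCat.of k))) ≫ x₁ ≫ alb)⁻¹) ≫ h = g := by
  refine ⟨part1 x₁ alb, fun B _ _ _ _ g hg => ?_⟩
  refine part2 x₀ x₁ alb halb g hg (huniv B _ ?_)
  rw [MonObj.comp_mul, GrpObj.comp_inv, ← Category.assoc x₀, pt_toUnit, Category.id_comp,
    _root_.mul_inv_cancel, eta_eq_one]

end Groth.Agent.S14827
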