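import Groth.Statements.S14834
import Mathlib

set_option autoImplicit false
universe u
open CategoryTheory MonoidalCategory CartesianMonoidalCategory MonObj GrpObj AlgebraicGeometry
open AbVar

namespace Groth.Agent.S14834

open Limits

/-- two morphisms to a separated target agreeing after precomposition with a scheme-theoretically
dominant morphism agree -/
lemma ext_of_ker_eq_bot {W X Y Z : Scheme.{u}} {f g : X ⟶ Y}
    (s : Y ⟶ Z) [IsSeparated s] (h : f ≫ s = g ≫ s)
    (j : W ⟶ X) (hj : j.ker = ⊥) (hU : j ≫ f = j ≫ g) : f = g := by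
  let X' : Over Z := Over.mk (f ≫ s)
  let Y' : Over Z := Over.mk s
  let U' : Over Z := Over.mk (j ≫ f ≫ s)
  let f' : X' ⟶ Y' := Over.homMk f
  let g' : X' ⟶ Y' := Over.homMk g h.symm
  let j' : U' ⟶ X' := Over.homMk j
  have : IsSeparated Y'.hom := ‹_›
  have hcond : j' ≫ f' = j' ≫ g' := by ext1; exact hU
  have hfac : (equalizer.lift j' hcond).left ≫ (equalizer.ι f' g').left = j := by
    rw [← Over.comp_left, equalizer.lift_ι]; rfl
  have hker : (equalizer.ι f' g').left.ker = ⊥ := by
    rw [eq_bot_iff, ← hj, ← hfac, Scheme.Hom.ker_comp, ← Scheme.IdealSheafData.map_bot]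
    exact Scheme.IdealSheafData.map_mono _ bot_le
  have := IsClosedImmersion.isIso_iff_ker_eq_bot.mpr hker
  rw [← cancel_epi (equalizer.ι f' g').left]
  exact congr($(equalizer.condition f' g').left)

lemma ker_eq_bot_of_app_injective {X Y : Scheme.{u}} (r : X ⟶ Y) [QuasiCompact r]
    (hr : ∀ U : Y.Opens, Function.Injective (r.app U)) : r.ker = ⊥ := by
  refine Scheme.IdealSheafData.ext ?_
  funext U
  rw [Scheme.Hom.ker_apply, Scheme.IdealSheafData.ideal_bot, Pi.bot_apply]
  exact (RingHom.injective_iff_ker_eq_bot _).mp (hr U.1)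


/-- Let k be a field, X a proper k-scheme with H^0(X, O_X) = k (k → Γ(X, O_X) bijective) and a
k-rational point x₀, and alb : X → A the Albanese morphism (A an abelian variety — proper,
geometrically integral group scheme — with alb(x₀) = 0, universal among pointed k-morphisms from X
to geometrically reduced, connected, proper group schemes). Let X → Y → A be a Stein factorisation
of alb: Y proper over k, r : X → Y a k-morphism with O_Y → r_*O_X an isomorphism, s : Y → A finite
with r ≫ s = alb. Then s is the Albanese morphism of Y pointed at r(x₀): for every abelian variety B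
and every k-morphism g : Y → B with g(r(x₀)) = 0 there is a unique homomorphism h : A → B with s ≫ h
= g. (The published statement has no rational point and also identifies the maximal abelian
subschemes of the Picard schemes of the Albanese, of Y and of X by pullback; this row is the pointed
statement about the Albanese of Y only.) -/
theorem result (k : Type u) [Field k] (X Y : Over (Spec (CommRingCat.of k)))
    [IsProper X.hom] [IsProper Y.hom] (h0 : Function.Bijective (X.hom.appTop).hom)
    (x₀ : 𝟙_ (Over (Spec (CommRingCat.of k))) ⟶ X)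
    (A : Over (Spec (CommRingCat.of k))) [GrpObj A] [IsProper A.hom] [GeometricallyIntegral A.hom]
    (alb : X ⟶ A) (halb : x₀ ≫ alb = η[A])
    (huniv : ∀ (B : Over (Spec (CommRingCat.of k))) [GrpObj B] [IsProper B.hom] [GeometricallyReduced B.hom] [ConnectedSpace ↥B.left]
      (g : X ⟶ B), x₀ ≫ g = η[B] → ∃! h : A ⟶ B, IsMonHom h ∧ alb ≫ h = g)
    (r : X ⟶ Y) (hr : ∀ U : Y.left.Opens, IsIso (r.left.app U)) (s : Y ⟶ A) [IsFinite s.left]
    (hrs : r ≫ s = alb)
    (B : Over (Spec (CommRingCat.of k))) [GrpObj B] [IsProper B.hom] [GeometricallyReduced B.hom] [ConnectedSpace ↥B.left]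
    (g : Y ⟶ B) (hg : x₀ ≫ r ≫ g = η[B]) :
    ∃! h : A ⟶ B, IsMonHom h ∧ s ≫ h = g := by
  have hsep : IsSeparated B.hom := inferInstance
  have hprop : IsProper r.left := by
    have : IsProper (r.left ≫ Y.hom) := by rw [Over.w r]; infer_instance
    exact IsProper.of_comp r.left Y.hom
  have hrker : r.left.ker = ⊥ := ker_eq_bot_of_app_injective r.left fun U => by
    have := hr U
    exact ((ConcreteCategory.isIso_iff_bijective (r.left.app U)).mp this).1
  have hepi : ∀ a b : Y ⟶ B, r ≫ a = r ≫ b → a = b := by
    intro a b hab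
    ext1
    refine ext_of_ker_eq_bot B.hom ?_ r.left hrker ?_
    · rw [Over.w a, Over.w b]
    · rw [← Over.comp_left, ← Over.comp_left, hab]
  obtain ⟨h, ⟨hh1, hh2⟩, hh3⟩ := huniv B (r ≫ g) hg
  refine ⟨h, ⟨hh1, ?_⟩, ?_⟩
  · apply hepi
    rw [← hh2, ← hrs, Category.assoc]
  · rintro h' ⟨h'1, h'2⟩
    apply hh3
    refine ⟨h'1, ?_⟩
    rw [← hrs, Category.assoc, h'2]

end Groth.Agent.S14834
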