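import Groth.Statements.S14837
import Groth.Agent.Lib.Helper2LowDegC
import Groth.Agent.Lib.Helper2PicFibC
import Groth.Agent.Lib.Helper2FibH1C
import Groth.Agent.Lib.Helper17QCPush2
import Groth.Agent.S0002

set_option autoImplicit false
universe u
open CategoryTheory CategoryTheory.Limits AlgebraicGeometry
open Coh

namespace Groth.Agent.S14837

/-- Let k be a field and f : X → Y a k-morphism between proper k-schemes which is a fibration (Γ(V, O_Y)
→ Γ(f⁻¹V, O_X) bijective for every open V ⊆ Y). Then H^1(Y, O_Y) injects naturally into H^1(X, O_X)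
(edge map of the Leray spectral sequence); stated here as the inequality dim_k H^1(Y, O_Y) ≤ dim_k
H^1(X, O_X) of finite dimensions. -/
theorem result (k : Type u) [Field k] (X Y : Scheme.{u})
    [X.Over (Spec (CommRingCat.of k))] [Y.Over (Spec (CommRingCat.of k))] [IsProper (X ↘ Spec (CommRingCat.of k))] [IsProper (Y ↘ Spec (CommRingCat.of k))]
    (f : X ⟶ Y) (hf : f ≫ (Y ↘ Spec (CommRingCat.of k)) = X ↘ Spec (CommRingCat.of k)) (hfib : ∀ V : Y.Opens, IsIso (f.app V)) :
    Module.finrank k (Coh.HH Y (Coh.structureModule Y) 1) ≤ Module.finrank k (Coh.HH X (Coh.structureModule X) 1) := by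
  haveI : EnoughInjectives X.Modules := Groth.Agent.Lib.Helper17.QCPush.enoughInjectives X
  haveI : HasInjectiveResolutions X.Modules := inferInstance
  haveI := Groth.Agent.Lib.Helper2.PicFibC.isIso_unitPush f hfib
  obtain ⟨θ, hθ⟩ := Groth.Agent.Lib.Helper2.LowDegC.exists_injective f (Coh.structureModule X) k hf
  let e := Canon.HHlin k (Groth.Agent.Lib.Helper23.Serre.unitPush f) 1
  have he : Function.Injective e := by
    intro x y hxy
    have h := congrArg (Canon.HHlin k (inv (Groth.Agent.Lib.Helper23.Serre.unitPush f)) 1) hxy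
    have key : ∀ z, Canon.HHlin k (inv (Groth.Agent.Lib.Helper23.Serre.unitPush f)) 1 (e z) = z := by
      intro z
      have h1 := Groth.Agent.Lib.Helper17.HHLes.Hm_comp
        (Groth.Agent.Lib.Helper23.Serre.unitPush f)
        (inv (Groth.Agent.Lib.Helper23.Serre.unitPush f)) 1 z
      rw [IsIso.hom_inv_id, Groth.Agent.Lib.Helper17.HHLes.Hm_id] at h1
      exact h1
    rw [key, key] at h
    exact h
  haveI : Module.Finite k (Coh.HH X (Coh.structureModule X) 1) :=
    Groth.Agent.S0002.result k X _ (Groth.Agent.Lib.Helper2.FibH1C.isCoh_structureModule X) 1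
  exact LinearMap.finrank_le_finrank_of_injective (f := θ ∘ₗ e) (hθ.comp he)

end Groth.Agent.S14837
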