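import Groth.Statements.S1484
import Mathlib

set_option autoImplicit false
universe u
open FlatMor

namespace Groth.Agent.S1484

theorem key {R : Type u} [CommRing R] (p : Ideal R) [p.IsPrime] (k : Subfield p.ResidueField)
    (hk : ¬ Algebra.IsAlgebraic ↥k p.ResidueField) (x : R) (hx : x ∉ p) :
    ∃ c : R, Transcendental ↥k (algebraMap R p.ResidueField (c * x)) := by
  by_contra hall
  push Not at hall
  apply hk
  have halg : ∀ c : R, IsAlgebraic ↥k (algebraMap R p.ResidueField (c * x)) := fun c => by
    have := hall c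
    rwa [Transcendental, not_not] at this
  have hx0 : algebraMap R p.ResidueField x ≠ 0 := by
    rwa [Ne, Ideal.algebraMap_residueField_eq_zero]
  have hxalg : IsAlgebraic ↥k (algebraMap R p.ResidueField x) := by simpa using halg 1
  have hc : ∀ c : R, IsAlgebraic ↥k (algebraMap R p.ResidueField c) := by
    intro c
    have h1 := halg c
    rw [map_mul] at h1
    have : algebraMap R p.ResidueField c = algebraMap R p.ResidueField c *
        algebraMap R p.ResidueField x * (algebraMap R p.ResidueField x)⁻¹ := by
      field_simp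
    rw [this]
    exact h1.mul hxalg.inv
  constructor
  intro z
  obtain ⟨a, s, hs, rfl⟩ := IsFractionRing.div_surjective (A := R ⧸ p) z
  obtain ⟨a, rfl⟩ := Ideal.Quotient.mk_surjective a
  obtain ⟨s, rfl⟩ := Ideal.Quotient.mk_surjective s
  rw [Ideal.algebraMap_quotient_residueField_mk, Ideal.algebraMap_quotient_residueField_mk,
    div_eq_mul_inv]
  exact (hc a).mul (hc s).inv


/-- Let R be a ring, p_1, …, p_r primes of R none of which is contained in another, k_i ⊆ κ(p_i)
subfields over which κ(p_i) is not algebraic, and J an ideal of R contained in none of the p_i. Then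
some x ∈ J has image in κ(p_i) transcendental over k_i for every i. -/
theorem result {R : Type u} [CommRing R] {r : ℕ} (p : Fin r → Ideal R) [∀ i, (p i).IsPrime]
    (hp : ∀ i j, i ≠ j → ¬ p i ≤ p j) (k : ∀ i, Subfield (p i).ResidueField)
    (hk : ∀ i, ¬ Algebra.IsAlgebraic ↥(k i) (p i).ResidueField) (J : Ideal R) (hJ : ∀ i, ¬ J ≤ p i) :
    ∃ x ∈ J, ∀ i, Transcendental ↥(k i) (algebraMap R (p i).ResidueField x) := by
  classical
  have hx : ∀ i, ∃ x ∈ J, (∀ j, j ≠ i → x ∈ p j) ∧ x ∉ p i := by
    intro i
    have hnot : ¬ (J * ∏ j ∈ Finset.univ.erase i, p j ≤ p i) := by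
      intro hle
      rcases (Ideal.IsPrime.mul_le inferInstance).1 hle with h | h
      · exact hJ i h
      · obtain ⟨j, hj, hji⟩ := (Ideal.IsPrime.prod_le inferInstance).1 h
        exact hp j i (Finset.ne_of_mem_erase hj) hji
    obtain ⟨x, hxmem, hxp⟩ := SetLike.not_le_iff_exists.1 hnot
    refine ⟨x, Ideal.mul_le_left (I := J) (J := ∏ j ∈ Finset.univ.erase i, p j) hxmem,
      fun j hj => ?_, hxp⟩
    have : J * ∏ j ∈ Finset.univ.erase i, p j ≤ p j :=
      (Ideal.mul_le_right (I := J) (J := ∏ j ∈ Finset.univ.erase i, p j)).trans (Ideal.prod_le_inf.trans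
        (Finset.inf_le (Finset.mem_erase.2 ⟨hj, Finset.mem_univ j⟩)))
    exact this hxmem
  choose x hxJ hxp hxnp using hx
  have hc : ∀ i, ∃ c : R, Transcendental ↥(k i) (algebraMap R (p i).ResidueField (c * x i)) :=
    fun i => key (p i) (k i) (hk i) (x i) (hxnp i)
  choose c hc using hc
  refine ⟨∑ i, c i * x i, J.sum_mem (fun i _ => J.mul_mem_left _ (hxJ i)), fun i => ?_⟩
  have : algebraMap R (p i).ResidueField (∑ j, c j * x j) =
      algebraMap R (p i).ResidueField (c i * x i) := by
    rw [map_sum]
    apply Finset.sum_eq_single i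
    · intro j _ hj
      rw [Ideal.algebraMap_residueField_eq_zero]
      exact (p i).mul_mem_left _ (hxp j i (Ne.symm hj))
    · intro h; exact absurd (Finset.mem_univ i) h
  rw [this]; exact hc i

end Groth.Agent.S1484
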