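import Groth.Statements.S14845

set_option autoImplicit false
open CategoryTheory CategoryTheory.Limits AlgebraicGeometry
universe u
open HilbD

namespace Groth.Agent.S14845

variable {X S : Scheme.{u}} (f : X ⟶ S)

/-- the graph of an `S`-morphism `T ⟶ X`. -/
noncomputable def graph (T : Over S) (x : T.left ⟶ X) (hx : x ≫ f = T.hom) :
    T.left ⟶ PicF.XT f T :=
  pullback.lift x (𝟙 T.left) (by simpa using hx)

theorem secGraph_eq (T : Over S) (x : T.left ⟶ X) (hx : x ≫ f = T.hom) :
    HilbD.secGraph f T x hx = (graph f T x hx).ker := rfl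

@[reassoc (attr := simp)]
theorem graph_fst (T : Over S) (x : T.left ⟶ X) (hx : x ≫ f = T.hom) :
    graph f T x hx ≫ pullback.fst f T.hom = x := pullback.lift_fst _ _ _

@[reassoc (attr := simp)]
theorem graph_snd (T : Over S) (x : T.left ⟶ X) (hx : x ≫ f = T.hom) :
    graph f T x hx ≫ pullback.snd f T.hom = 𝟙 _ := pullback.lift_snd _ _ _

@[reassoc (attr := simp)]
theorem XTmap_fst {T T' : Over S} (g : T ⟶ T') :
    PicF.XTmap f g ≫ pullback.fst f T'.hom = pullback.fst f T.hom :=
  (pullback.lift_fst _ _ _).trans (Category.comp_id _)

@[reassoc (attr := simp)]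
theorem XTmap_snd {T T' : Over S} (g : T ⟶ T') :
    PicF.XTmap f g ≫ pullback.snd f T'.hom = pullback.snd f T.hom ≫ g.left :=
  pullback.lift_snd _ _ _

/-- the subscheme of the kernel of a closed immersion -/
theorem subschemeι_ker {Z Y : Scheme.{u}} (i : Z ⟶ Y) [IsClosedImmersion i] :
    i.ker.subschemeι = inv i.toImage ≫ i := by
  rw [IsIso.eq_inv_comp, Scheme.Hom.toImage_imageι]

/-- graph is a pullback of the graph -/
theorem isPullback_graph {T T' : Over S} (g : T ⟶ T') (x : T.left ⟶ X) (x' : T'.left ⟶ X)
    (hx : x ≫ f = T.hom) (hx' : x' ≫ f = T'.hom) (hxx : x = g.left ≫ x') :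
    IsPullback g.left (graph f T x hx) (graph f T' x' hx') (PicF.XTmap f g) := by
  refine ⟨⟨?_⟩, ⟨PullbackCone.IsLimit.mk _ (fun s => s.snd ≫ pullback.snd _ _) ?_ ?_ ?_⟩⟩
  · apply pullback.hom_ext
    · simp [hxx]
    · simp
  · intro s
    have h1 := s.condition
    have h3 := congrArg (· ≫ pullback.snd _ _) h1
    simp only [Category.assoc, graph_snd, Category.comp_id, XTmap_snd] at h3
    simp [h3]
  · intro s
    have h1 := s.condition
    have h2 := congrArg (· ≫ pullback.fst _ _) h1
    have h3 := congrArg (· ≫ pullback.snd _ _) h1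
    simp only [Category.assoc, graph_snd, graph_fst, Category.comp_id, XTmap_snd, XTmap_fst] at h2 h3
    apply pullback.hom_ext
    · simp only [Category.assoc, graph_fst, hxx]
      rw [← h2, h3, Category.assoc, Category.assoc]
    · simp
  · intro s m h1 h2
    have := congrArg (· ≫ pullback.snd _ _) h2
    simpa using this

/-- base change of the diagonal along `g` is the graph of `g`. -/
theorem pull_eq [IsSeparated f] {T : Over S} (g : T ⟶ Over.mk f) :
    HilbD.pull f g (graph f (Over.mk f) (𝟙 X) (Category.id_comp f)).ker =
      (graph f T g.left (Over.w g)).ker := by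
  have hcl : IsClosedImmersion (graph f (Over.mk f) (𝟙 X) (Category.id_comp f)) :=
    inferInstanceAs (IsClosedImmersion (pullback.diagonal f))
  have h := isPullback_graph f g g.left (𝟙 X) (Over.w g) (Category.id_comp f)
    (Category.comp_id _).symm
  have hpb : IsPullback
      (g.left ≫ (graph f (Over.mk f) (𝟙 X) (Category.id_comp f)).toImage)
      (graph f T g.left (Over.w g))
      (graph f (Over.mk f) (𝟙 X) (Category.id_comp f)).ker.subschemeι (PicF.XTmap f g) :=
    IsPullback.of_iso h (Iso.refl _)
      (asIso (graph f (Over.mk f) (𝟙 X) (Category.id_comp f)).toImage) (Iso.refl _) (Iso.refl _)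
      (by simp) (by simp) (by simp) (by simp)
  unfold HilbD.pull
  rw [← hpb.isoPullback_hom_snd, Scheme.Hom.ker_comp_of_isIso]


/-- For a separated morphism f : X → S, the Hilbert functor of one point of X over S is represented by X
with the diagonal as universal family: the diagonal of X ×_S X (the graph of the identity section of
X over itself) is a closed subscheme finite locally free of degree 1 over X, and every closed
subscheme of X ×_S T which is finite locally free of degree 1 over T is its base change along a
unique S-morphism T → X. (The published statement takes S Noetherian, f locally of finite type and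
the Hilbert functor on locally Noetherian S-schemes with flat proper families of Hilbert polynomial
1; this row uses the functor of families finite locally free of degree 1 on all S-schemes, for which
the same argument applies without Noetherian hypotheses.) -/
theorem result {X S : Scheme.{u}} (f : X ⟶ S) [IsSeparated f] :
    ∃ Δ : HilbD.Obj f 1 (Over.mk f),
      Δ.1 = HilbD.secGraph f (Over.mk f) (𝟙 X) (Category.id_comp f) ∧
      HilbD.IsUniversal f 1 (Over.mk f) Δ := by
  have hcl : IsClosedImmersion (graph f (Over.mk f) (𝟙 X) (Category.id_comp f)) :=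
    inferInstanceAs (IsClosedImmersion (pullback.diagonal f))
  have hiso : (graph f (Over.mk f) (𝟙 X) (Category.id_comp f)).ker.subschemeι ≫
      PicF.XTproj f (Over.mk f) = inv (graph f (Over.mk f) (𝟙 X) (Category.id_comp f)).toImage := by
    rw [subschemeι_ker, Category.assoc]
    erw [graph_snd]
    exact Category.comp_id _
  refine ⟨⟨(graph f (Over.mk f) (𝟙 X) (Category.id_comp f)).ker, ?_⟩, rfl, ?_⟩
  · rw [hiso]
    exact ⟨⟨inferInstance, inferInstance, inferInstance⟩,
      fun y => congrFun (Scheme.Hom.finrank_eq_one_of_isIso _) y⟩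
  · intro T Z'
    obtain ⟨I', ⟨⟨hfin, hflat, hlfp⟩, hrank⟩⟩ := Z'
    have hp : IsIso (I'.subschemeι ≫ PicF.XTproj f T) :=
      (Scheme.Hom.isIso_iff_finrank_eq _).mpr (funext hrank)
    have w : (inv (I'.subschemeι ≫ PicF.XTproj f T) ≫ I'.subschemeι ≫ pullback.fst f T.hom) ≫ f
        = T.hom := by
      rw [Category.assoc, Category.assoc, pullback.condition, ← Category.assoc I'.subschemeι,
        IsIso.inv_hom_id_assoc]
    have hΓ : graph f T (inv (I'.subschemeι ≫ PicF.XTproj f T) ≫ I'.subschemeι ≫
        pullback.fst f T.hom) w = inv (I'.subschemeι ≫ PicF.XTproj f T) ≫ I'.subschemeι := by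
      apply pullback.hom_ext
      · simp
      · rw [graph_snd, Category.assoc, IsIso.inv_hom_id]
    refine ⟨Over.homMk _ w, ?_, ?_⟩
    · show HilbD.pull f _ _ = I'
      rw [pull_eq]
      show (graph f T _ w).ker = I'
      rw [hΓ, Scheme.Hom.ker_comp_of_isIso, Scheme.IdealSheafData.ker_subschemeι]
    · intro g' hg'
      have hg'' : (graph f T g'.left (Over.w g')).ker = I' := by
        rw [← pull_eq]; exact hg'
      have hcl' : IsClosedImmersion (graph f T g'.left (Over.w g')) :=
        MorphismProperty.of_isPullback (P := @IsClosedImmersion)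
          (isPullback_graph f g' g'.left (𝟙 X) (Over.w g') (Category.id_comp f)
            (Category.comp_id _).symm) hcl
      have hle : (graph f T g'.left (Over.w g')).ker ≤
          (inv (I'.subschemeι ≫ PicF.XTproj f T) ≫ I'.subschemeι).ker := by
        rw [hg'', Scheme.Hom.ker_comp_of_isIso, Scheme.IdealSheafData.ker_subschemeι]
      have hfac := IsClosedImmersion.lift_fac (graph f T g'.left (Over.w g')) _ hle
      have h1 : IsClosedImmersion.lift (graph f T g'.left (Over.w g')) _ hle = 𝟙 _ := by
        have := congrArg (· ≫ pullback.snd f T.hom) hfac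
        simp only [Category.assoc, graph_snd, Category.comp_id] at this
        rw [this, IsIso.inv_hom_id]
      rw [h1, Category.id_comp] at hfac
      apply Over.OverMorphism.ext
      have := congrArg (· ≫ pullback.fst f T.hom) hfac
      simp only [Category.assoc, graph_fst] at this
      simpa using this

end Groth.Agent.S14845
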