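import Groth.Statements.S14846
import Mathlib

set_option autoImplicit false
universe u v w
open Brauer

namespace Groth.Agent.S14846

section Helpers

open TensorProduct

variable {K : Type*} {L : Type*} [Field K] [Field L] [Algebra K L] {A : Type*} [Ring A] [Algebra K A]

/-- `γ ⊗ id` -/
noncomputable def act (γ : L ≃ₐ[K] L) : L ⊗[K] A →ₐ[K] L ⊗[K] A :=
  Algebra.TensorProduct.map (γ : L →ₐ[K] L) (AlgHom.id K A)

lemma act_tmul (γ : L ≃ₐ[K] L) (l : L) (a : A) : act γ (l ⊗ₜ[K] a) = γ l ⊗ₜ[K] a := by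
  simp [act]

lemma act_act (γ δ : L ≃ₐ[K] L) (x : L ⊗[K] A) : act γ (act δ x) = act (γ * δ) x := by
  induction x using TensorProduct.induction_on with
  | zero => simp
  | tmul l a => simp [act_tmul]
  | add x y hx hy => simp only [map_add, hx, hy]

lemma act_one (x : L ⊗[K] A) : act (1 : L ≃ₐ[K] L) x = x := by
  induction x using TensorProduct.induction_on with
  | zero => simp
  | tmul l a => simp [act_tmul]
  | add x y hx hy => simp only [map_add, hx, hy]

lemma act_inv_act (γ : L ≃ₐ[K] L) (x : L ⊗[K] A) : act γ⁻¹ (act γ x) = x := by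
  rw [act_act, inv_mul_cancel, act_one]

lemma act_act_inv (γ : L ≃ₐ[K] L) (x : L ⊗[K] A) : act γ (act γ⁻¹ x) = x := by
  rw [act_act, mul_inv_cancel, act_one]

variable {ι : Type*} (b : Module.Basis ι K A)

/-- coordinates with respect to a basis of `A` -/
noncomputable def coord : L ⊗[K] A ≃ₗ[K] ι →₀ L := by
  classical exact TensorProduct.equivFinsuppOfBasisRight b

lemma coord_tmul (l : L) (a : A) (i : ι) : coord b (l ⊗ₜ[K] a) i = b.repr a i • l := by
  classical
  simp [coord, TensorProduct.equivFinsuppOfBasisRight_apply_tmul_apply]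

lemma coord_smul_mul (l : L) (x : L ⊗[K] A) (i : ι) :
    coord b ((l ⊗ₜ[K] (1 : A)) * x) i = l * coord b x i := by
  induction x using TensorProduct.induction_on with
  | zero => simp
  | tmul m a =>
    rw [Algebra.TensorProduct.tmul_mul_tmul, one_mul, coord_tmul, coord_tmul, mul_smul_comm]
  | add x y hx hy => rw [mul_add, map_add, Finsupp.add_apply, hx, hy, map_add, Finsupp.add_apply, mul_add]

lemma coord_act (γ : L ≃ₐ[K] L) (x : L ⊗[K] A) (i : ι) :
    coord b (act γ x) i = γ (coord b x i) := by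
  induction x using TensorProduct.induction_on with
  | zero => simp
  | tmul m a => rw [act_tmul, coord_tmul, coord_tmul, map_smul]
  | add x y hx hy => simp only [map_add, Finsupp.add_apply, hx, hy]

/-- Galois descent for stable two-sided ideals: a nonzero stable ideal contains a nonzero `1 ⊗ a`. -/
theorem exists_one_tmul_mem [IsGalois K L] (W : TwoSidedIdeal (L ⊗[K] A)) (hW : W ≠ ⊥)
    (hstab : ∀ (γ : L ≃ₐ[K] L) (x : L ⊗[K] A), x ∈ W → act γ x ∈ W) :
    ∃ a : A, a ≠ 0 ∧ (1 : L) ⊗ₜ[K] a ∈ W := by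
  classical
  let b := Module.Basis.ofVectorSpace K A
  have hex : ∃ n : ℕ, ∃ w ∈ W, w ≠ 0 ∧ (coord b w).support.card = n := by
    by_contra hcon
    push_neg at hcon
    apply hW
    rw [eq_bot_iff]
    intro y hy
    rw [TwoSidedIdeal.mem_bot]
    by_contra hy0
    exact hcon _ y hy hy0 rfl
  have hmin : ∀ v ∈ W, v ≠ 0 → Nat.find hex ≤ (coord b v).support.card :=
    fun v hv hv0 => Nat.find_min' hex ⟨v, hv, hv0, rfl⟩
  obtain ⟨w, hwW, hw0, hwn⟩ := Nat.find_spec hex
  have hsupp : (coord b w).support.Nonempty := by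
    rw [Finsupp.support_nonempty_iff]
    intro h0
    exact hw0 ((coord b).injective (by rw [h0, map_zero]))
  obtain ⟨i₀, hi₀⟩ := hsupp
  have hc0 : coord b w i₀ ≠ 0 := Finsupp.mem_support_iff.mp hi₀
  set c := coord b w i₀ with hc
  let w₁ := ((c⁻¹ : L) ⊗ₜ[K] (1 : A)) * w
  have hw₁W : w₁ ∈ W := W.mul_mem_left _ _ hwW
  have hw₁coord : ∀ i, coord b w₁ i = c⁻¹ * coord b w i := fun i => coord_smul_mul b _ _ i
  have hw₁i₀ : coord b w₁ i₀ = 1 := by rw [hw₁coord, ← hc, inv_mul_cancel₀ hc0]
  have hsupp₁ : (coord b w₁).support = (coord b w).support := by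
    ext i
    simp [Finsupp.mem_support_iff, hw₁coord, hc0]
  have hfix : ∀ (γ : L ≃ₐ[K] L) i, γ (coord b w₁ i) = coord b w₁ i := by
    intro γ i
    by_contra hne
    let v := act γ w₁ - w₁
    have hvW : v ∈ W := W.sub_mem (hstab γ _ hw₁W) hw₁W
    have hvcoord : ∀ j, coord b v j = γ (coord b w₁ j) - coord b w₁ j := by
      intro j
      simp only [v, map_sub, Finsupp.sub_apply, coord_act]
    have hv0 : v ≠ 0 := by
      intro h0
      apply hne
      have := hvcoord i
      rw [h0, map_zero, Finsupp.zero_apply] at this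
      exact (sub_eq_zero.mp this.symm)
    have hsub : (coord b v).support ⊆ (coord b w₁).support.erase i₀ := by
      intro j hj
      rw [Finsupp.mem_support_iff, hvcoord] at hj
      rw [Finset.mem_erase]
      refine ⟨?_, ?_⟩
      · rintro rfl
        apply hj
        rw [hw₁i₀, map_one, sub_self]
      · rw [Finsupp.mem_support_iff]
        intro h0
        apply hj
        rw [h0, map_zero, sub_self]
    have h1 := hmin v hvW hv0
    have hlt : (coord b v).support.card < Nat.find hex := by
      calc (coord b v).support.card ≤ ((coord b w₁).support.erase i₀).card :=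
            Finset.card_le_card hsub
        _ < (coord b w₁).support.card :=
            Finset.card_erase_lt_of_mem (by rw [hsupp₁]; exact hi₀)
        _ = Nat.find hex := by rw [hsupp₁, hwn]
    omega
  have hK : ∀ i, coord b w₁ i ∈ Set.range (algebraMap K L) := fun i =>
    (InfiniteGalois.mem_range_algebraMap_iff_fixed _).mpr (fun γ => hfix γ i)
  choose κ hκ using hK
  let f : (Module.Basis.ofVectorSpaceIndex K A) →₀ K := Finsupp.onFinset (coord b w₁).support κ (by
    intro i hi
    rw [Finsupp.mem_support_iff]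
    intro h0
    apply hi
    apply (algebraMap K L).injective
    rw [hκ, h0, map_zero])
  let a : A := b.repr.symm f
  have ha : (1 : L) ⊗ₜ[K] a = w₁ := by
    apply (coord b).injective
    ext i
    rw [coord_tmul]
    simp only [a, Module.Basis.repr_symm_apply, Module.Basis.repr_linearCombination, f,
      Finsupp.onFinset_apply]
    rw [Algebra.smul_def, mul_one, hκ]
  refine ⟨a, ?_, ha ▸ hw₁W⟩
  intro ha0
  rw [ha0, TensorProduct.tmul_zero] at ha
  rw [← ha, map_zero, Finsupp.zero_apply] at hw₁i₀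
  exact zero_ne_one hw₁i₀

end Helpers


open TensorProduct in
/-- Let L/K be a Galois extension with group Γ = Aut_K(L), and A a K-algebra which is a simple ring. If
L ⊗_K A is semisimple, then Γ, acting on L ⊗_K A through the first tensor factor, permutes its
simple components, i.e. its minimal nonzero two-sided ideals, transitively: any minimal two-sided
ideal is carried onto any other by some γ ⊗ id. -/
theorem result
    {K : Type u} {L : Type v} [Field K] [Field L] [Algebra K L] [IsGalois K L]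
    {A : Type w} [Ring A] [Algebra K A] [IsSimpleRing A]
    [IsSemisimpleRing (L ⊗[K] A)]
    (I J : TwoSidedIdeal (L ⊗[K] A)) (hI : IsAtom I) (hJ : IsAtom J) :
    ∃ γ : L ≃ₐ[K] L, (J : Set (L ⊗[K] A)) =
      Algebra.TensorProduct.map (γ : L →ₐ[K] L) (AlgHom.id K A) '' (I : Set (L ⊗[K] A)) := by
  classical
  by_contra hcon
  push Not at hcon
  have hIbot : I ≠ ⊥ := hI.1
  have hJbot : J ≠ ⊥ := hJ.1
  -- the ideal γ(I)
  let γI : (L ≃ₐ[K] L) → TwoSidedIdeal (L ⊗[K] A) := fun γ =>
    TwoSidedIdeal.comap (act (A := A) γ⁻¹).toRingHom I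
  have hγI : ∀ γ x, x ∈ γI γ ↔ act γ⁻¹ x ∈ I := by
    intro γ x
    simp [γI, TwoSidedIdeal.mem_comap]
  -- J ⊓ γ(I) = ⊥
  have hinf : ∀ γ, ∀ x, x ∈ J → x ∈ γI γ → x = 0 := by
    intro γ x hxJ hxI
    by_contra hx0
    -- J ⊓ γI γ is nonzero so equals J
    have h1 : J ⊓ γI γ = J := by
      rcases hJ.le_iff.mp (inf_le_left : J ⊓ γI γ ≤ J) with h | h
      · exfalso
        have : x ∈ J ⊓ γI γ := (TwoSidedIdeal.mem_inf _).2 ⟨hxJ, hxI⟩
        rw [h, TwoSidedIdeal.mem_bot] at this
        exact hx0 this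
      · exact h
    have hJle : J ≤ γI γ := by rw [← h1]; exact inf_le_right
    -- J' = γ⁻¹(J) ≤ I
    let J' : TwoSidedIdeal (L ⊗[K] A) := TwoSidedIdeal.comap (act (A := A) γ).toRingHom J
    have hJ' : ∀ y, y ∈ J' ↔ act γ y ∈ J := by
      intro y
      simp [J', TwoSidedIdeal.mem_comap]
    have hJ'le : J' ≤ I := by
      intro y hy
      have := hJle ((hJ' y).mp hy)
      rw [hγI, act_inv_act] at this
      exact this
    rcases hI.le_iff.mp hJ'le with h | h
    · apply hx0
      have : act γ⁻¹ x ∈ J' := by rw [hJ', act_act_inv]; exact hxJ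
      rw [h, TwoSidedIdeal.mem_bot] at this
      have h2 := congrArg (act (A := A) γ) this
      rwa [act_act_inv, map_zero] at h2
    · apply hcon γ
      ext y
      simp only [Set.mem_image, SetLike.mem_coe]
      constructor
      · intro hy
        refine ⟨act γ⁻¹ y, ?_, act_act_inv γ y⟩
        rw [← h, hJ', act_act_inv]
        exact hy
      · rintro ⟨z, hz, rfl⟩
        rw [← h, hJ'] at hz
        exact hz
  -- W
  let S : Set (L ⊗[K] A) := {x | ∃ (γ : L ≃ₐ[K] L) (y : L ⊗[K] A), y ∈ I ∧ act γ y = x}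
  let W : TwoSidedIdeal (L ⊗[K] A) := TwoSidedIdeal.span S
  have hWbot : W ≠ ⊥ := by
    intro h0
    apply hIbot
    rw [eq_bot_iff]
    intro y hy
    have : y ∈ W := TwoSidedIdeal.subset_span ⟨1, y, hy, act_one y⟩
    rwa [h0] at this
  have hstab : ∀ (γ : L ≃ₐ[K] L) (x : L ⊗[K] A), x ∈ W → act γ x ∈ W := by
    intro γ x hx
    induction hx using TwoSidedIdeal.span_induction with
    | mem x hx =>
      obtain ⟨δ, y, hy, rfl⟩ := hx
      exact TwoSidedIdeal.subset_span ⟨γ * δ, y, hy, (act_act γ δ y).symm⟩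
    | zero => rw [map_zero]; exact W.zero_mem
    | add x y _ _ hx hy => rw [map_add]; exact W.add_mem hx hy
    | neg x _ hx => rw [map_neg]; exact W.neg_mem hx
    | left_absorb a x _ hx => rw [map_mul]; exact W.mul_mem_left _ _ hx
    | right_absorb a x _ hx => rw [map_mul]; exact W.mul_mem_right _ _ hx
  obtain ⟨a, ha0, haW⟩ := exists_one_tmul_mem W hWbot hstab
  -- 1 ∈ W
  have h1W : (1 : L ⊗[K] A) ∈ W := by
    let W₀ : TwoSidedIdeal A :=
      TwoSidedIdeal.comap (Algebra.TensorProduct.includeRight : A →ₐ[K] L ⊗[K] A).toRingHom W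
    have hW₀ : ∀ y, y ∈ W₀ ↔ (1 : L) ⊗ₜ[K] y ∈ W := by
      intro y
      simp [W₀, TwoSidedIdeal.mem_comap]
    have hW₀top : W₀ = ⊤ := by
      rcases eq_bot_or_eq_top W₀ with h | h
      · exfalso
        have : a ∈ W₀ := (hW₀ a).mpr haW
        rw [h, TwoSidedIdeal.mem_bot] at this
        exact ha0 this
      · exact h
    have : (1 : A) ∈ W₀ := by rw [hW₀top]; trivial
    exact (hW₀ 1).mp this
  -- J * W = 0
  have hJW : ∀ x, x ∈ W → ∀ j, j ∈ J → j * x = 0 := by
    intro x hx
    induction hx using TwoSidedIdeal.span_induction with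
    | mem x hx =>
      obtain ⟨γ, y, hy, rfl⟩ := hx
      intro j hj
      apply hinf γ _ (J.mul_mem_right _ _ hj)
      rw [hγI, map_mul, act_inv_act]
      exact I.mul_mem_left _ _ hy
    | zero => intro j _; rw [mul_zero]
    | add x y _ _ hx hy => intro j hj; rw [mul_add, hx j hj, hy j hj, add_zero]
    | neg x _ hx => intro j hj; rw [mul_neg, hx j hj, neg_zero]
    | left_absorb a x _ hx =>
      intro j hj
      rw [← mul_assoc]
      exact hx _ (J.mul_mem_right _ _ hj)
    | right_absorb a x _ hx => intro j hj; rw [← mul_assoc, hx j hj, zero_mul]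
  apply hJbot
  rw [eq_bot_iff]
  intro j hj
  rw [TwoSidedIdeal.mem_bot]
  have := hJW 1 h1W j hj
  rwa [mul_one] at this

end Groth.Agent.S14846
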