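import Groth.Statements.S14848
import Groth.Agent.Lib.Helper22SL2
import Mathlib.Tactic.IntervalCases
import Mathlib.Tactic.LinearCombination

set_option autoImplicit false
universe u v
open McKay

namespace Groth.Agent.S14848

/-- Let K be a field of characteristic zero, L an extension field of K and ξ ∈ L a primitive n-th root
of unity (n ≥ 1) with ξ + ξ⁻¹ ∈ K, say ξ + ξ⁻¹ = 2c with c ∈ K (the character of the natural
two-dimensional representation of the cyclic group of order n takes values in K). Then the cyclic
group of order n is realisable over K as a subgroup of SL(2, K): there is an element of SL(2, K) of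
order n. -/
theorem result {K : Type u} {L : Type v} [Field K] [Field L]
    [CharZero K] [Algebra K L] (n : ℕ) (hn : 1 ≤ n) (ξ : L) (hξ : IsPrimitiveRoot ξ n) (c : K)
    (hc : algebraMap K L (2 * c) = ξ + ξ⁻¹) :
    ∃ M : Matrix.SpecialLinearGroup (Fin 2) K, orderOf M = n := by
  rcases Nat.lt_or_ge n 3 with h3 | h3
  · interval_cases n
    · exact ⟨1, orderOf_one⟩
    · refine ⟨⟨!![-1, 0; 0, -1], by simp [Matrix.det_fin_two_of]⟩, ?_⟩
      haveI : Fact (Nat.Prime 2) := ⟨Nat.prime_two⟩
      apply orderOf_eq_prime
      · apply Subtype.ext
        rw [Matrix.SpecialLinearGroup.coe_pow]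
        ext i j
        fin_cases i <;> fin_cases j <;> simp [pow_two, Matrix.mul_apply, Fin.sum_univ_two]
      · intro h
        have h1 := congrArg (fun M : Matrix.SpecialLinearGroup (Fin 2) K => M.1 0 0) h
        simp at h1
        have h2 : (2 : K) = 0 := by linear_combination -h1
        exact two_ne_zero h2
  · exact ⟨Groth.Agent.Lib.Helper22.compSL c,
      Groth.Agent.Lib.Helper22.orderOf_compSL c ξ hc n hξ h3⟩

end Groth.Agent.S14848
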