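import Groth.Statements.S1485
import Groth.Agent.Lib.Helper2FibH1D
import Groth.Agent.S0403

set_option autoImplicit false
universe u
open FlatMor

namespace Groth.Agent.S1485

set_option linter.style.haveILetI false

open AlgebraicGeometry CategoryTheory Limits in
/-- Let f : X → Y be proper and y a point with fibre of dimension ≤ 1. Suppose there is a morphism g :
Y' → Y whose image contains y such that, for the base change f' : X' → Y', H^1 of the structure
sheaf vanishes over the preimage of every affine open of Y' (that is, R^1 f'_* O = 0; taking g the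
identity covers the case R^1 f_* O_X = 0). Then H^1(X_y, O_{X_y}) = 0. -/
theorem result {X Y Y' : Scheme.{u}} (f : X ⟶ Y) [IsProper f] (y : Y) (hdim : topologicalKrullDim ↑(f.fiber y) ≤ 1)
    (g : Y' ⟶ Y) (hy : y ∈ Set.range ⇑g)
    (hR1 : ∀ U : Y'.Opens, IsAffineOpen U → Subsingleton (Coh.HHon (pullback f g) (Coh.structureModule (pullback f g)) (pullback.snd f g ⁻¹ᵁ U) 1)) :
    Subsingleton (Coh.HH (f.fiber y) (Coh.structureModule (f.fiber y)) 1) := by
  obtain ⟨y', rfl⟩ := hy
  have hc : IsPullback (pullback.fst f g) (pullback.snd f g) f g := IsPullback.of_hasPullback f g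
  haveI : IsProper (pullback.snd f g) := MorphismProperty.pullback_snd _ _ inferInstance
  have hd' : topologicalKrullDim ↥((pullback.snd f g).fiber y') ≤ 1 := by
    rw [Groth.Agent.Lib.Helper3.FlatFibDim2.dim_fiber_eq_of_isPullback f g (pullback.snd f g)
      (pullback.fst f g) hc y']
    exact hdim
  have hopen := Groth.Agent.S0403.result (pullback.snd f g) (1 : WithBot ℕ∞)
  have main : ∀ U : Y'.Opens, IsAffineOpen U → y' ∈ U →
      (∀ w ∈ U, topologicalKrullDim ↥((pullback.snd f g).fiber w) ≤ 1) →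
      Subsingleton (Coh.HH (f.fiber (g y')) (Coh.structureModule (f.fiber (g y'))) 1) := by
    intro U hU hyU hUV
    have hc2 : IsPullback ((pullback.snd f g) ⁻¹ᵁ U).ι ((pullback.snd f g) ∣_ U)
        (pullback.snd f g) U.ι :=
      (isPullback_morphismRestrict (pullback.snd f g) U).flip
    haveI : IsProper ((pullback.snd f g) ∣_ U) :=
      MorphismProperty.of_isPullback (P := @IsProper) hc2 inferInstance
    haveI : IsAffine (↑U : Scheme.{u}) := hU
    have hdh : ∀ w : (↑U : Scheme.{u}),
        topologicalKrullDim ↥(((pullback.snd f g) ∣_ U).fiber w) ≤ ((1 : ℕ) : WithBot ℕ∞) := by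
      intro w
      rw [Groth.Agent.Lib.Helper3.FlatFibDim2.dim_fiber_eq_of_isPullback (pullback.snd f g) U.ι
        ((pullback.snd f g) ∣_ U) _ hc2 w]
      exact hUV _ w.2
    have hH : Subsingleton (Coh.HH (↑((pullback.snd f g) ⁻¹ᵁ U) : Scheme.{u})
        (Coh.structureModule (↑((pullback.snd f g) ⁻¹ᵁ U) : Scheme.{u})) 1) :=
      Groth.Agent.Lib.Helper2.FibH1C.subsingleton_HH_of_iso
        (Scheme.Modules.restrictUnitIso ((pullback.snd f g) ⁻¹ᵁ U).ι) 1 (hR1 U hU)
    have h1 := Groth.Agent.Lib.Helper2.FibH1D.subsingleton_HH_fiber_of_isAffine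
      ((pullback.snd f g) ∣_ U) 1 hdh hH ⟨y', hyU⟩
    have h2 := (Groth.Agent.Lib.Helper2.FibH1C.subsingleton_HH_fiber_iff (pullback.snd f g) U.ι
      ((pullback.snd f g) ∣_ U) _ hc2 ⟨y', hyU⟩ 1).1 h1
    exact (Groth.Agent.Lib.Helper2.FibH1C.subsingleton_HH_fiber_iff f g (pullback.snd f g)
      (pullback.fst f g) hc y' 1).1 h2
  obtain ⟨_, ⟨U, hU, rfl⟩, hyU, hUV⟩ := Y'.isBasis_affineOpens.exists_subset_of_mem_open
    (show y' ∈ {s : Y' | topologicalKrullDim ↥((pullback.snd f g).fiber s) ≤ 1} from hd') hopen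
  exact main U hU hyU (fun w hw => hUV hw)

end Groth.Agent.S1485
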