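import Groth.Statements.S14856
-- import your own Groth.Agent.* helpers here

set_option autoImplicit false
universe u
open CAlg

namespace Groth.Agent.S14856

section Aux

theorem term_dvd {S : Type*} [CommRing S] (p : ℕ) (hp : 2 ≤ p) (a : S) (s : ℕ) (hs : 1 ≤ s)
    (ha : (p : S) ^ s ∣ a) (i n : ℕ) (hi : i ≤ n) :
    (p : S) ^ (n + s) ∣ (p : S) ^ i * a ^ p ^ (n - i) := by
  obtain ⟨b, rfl⟩ := ha
  have hk : n - i < p ^ (n - i) := Nat.lt_pow_self hp
  have hle : n + s ≤ i + s * p ^ (n - i) := by
    have h1 : s * (n - i + 1) ≤ s * p ^ (n - i) := Nat.mul_le_mul_left s hk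
    have h2 : (n - i) + s ≤ s * (n - i + 1) := by
      have : 1 * (n - i) ≤ s * (n - i) := Nat.mul_le_mul_right _ hs
      rw [mul_add, mul_one]; omega
    omega
  rw [mul_pow, ← pow_mul, ← mul_assoc, ← pow_add]
  exact Dvd.dvd.mul_right (pow_dvd_pow _ hle) _

theorem pow_mul_cancel {S : Type*} [CommRing S] (q : S)
    (hS : ∀ y : S, q * y = 0 → y = 0) (i : ℕ) (y : S) (h : q ^ i * y = 0) : y = 0 := by
  induction i with
  | zero => simpa using h
  | succ i ih =>
    apply ih
    apply hS
    rw [← mul_assoc, ← pow_succ']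
    exact h

end Aux

/-- Let p be a prime and S a commutative ring in which p is a non-zero-divisor. For a p-typical Witt
vector x over S, a natural number m and an integer s ≥ 1, the power p^s divides each of the Witt
components x_0, …, x_m if and only if p^(n+s) divides the n-th ghost component w_n(x) = x_0^(p^n) +
p x_1^(p^(n-1)) + ⋯ + p^n x_n for every n ≤ m. -/
theorem result (p : ℕ) [Fact p.Prime] (S : Type u) [CommRing S]
    (hS : ∀ y : S, (p : S) * y = 0 → y = 0) (x : WittVector p S) (m s : ℕ) (hs : 1 ≤ s) :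
    (∀ i ≤ m, (p : S) ^ s ∣ x.coeff i) ↔
      (∀ n ≤ m, (p : S) ^ (n + s) ∣ WittVector.ghostComponent n x) := by
  have hp2 : 2 ≤ p := (Fact.out : p.Prime).two_le
  have hghost : ∀ n, WittVector.ghostComponent n x
      = ∑ i ∈ Finset.range (n + 1), (p : S) ^ i * x.coeff i ^ p ^ (n - i) := by
    intro n
    rw [WittVector.ghostComponent_apply, aeval_wittPolynomial]
  constructor
  · intro h n hn
    rw [hghost]
    apply Finset.dvd_sum
    intro i hi
    have hi' : i ≤ n := Nat.lt_succ_iff.mp (Finset.mem_range.mp hi)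
    exact term_dvd p hp2 _ s hs (h i (hi'.trans hn)) i n hi'
  · intro h i
    induction i using Nat.strong_induction_on with
    | _ i ih =>
      intro him
      have hw := h i him
      rw [hghost, Finset.sum_range_succ, Nat.sub_self, pow_zero, pow_one] at hw
      have hsum : (p : S) ^ (i + s) ∣ ∑ j ∈ Finset.range i, (p : S) ^ j * x.coeff j ^ p ^ (i - j) := by
        apply Finset.dvd_sum
        intro j hj
        have hj' : j < i := Finset.mem_range.mp hj
        exact term_dvd p hp2 _ s hs (ih j hj' (hj'.le.trans him)) j i hj'.le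
      have hlast : (p : S) ^ (i + s) ∣ (p : S) ^ i * x.coeff i := (dvd_add_right hsum).mp hw
      obtain ⟨c, hc⟩ := hlast
      refine ⟨c, ?_⟩
      have : (p : S) ^ i * (x.coeff i - (p : S) ^ s * c) = 0 := by
        rw [mul_sub, hc, pow_add, mul_assoc, sub_self]
      exact sub_eq_zero.mp (pow_mul_cancel (p : S) hS i _ this)

end Groth.Agent.S14856
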