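import Groth.Statements.S14857
import Mathlib.RingTheory.WittVector.Domain
import Mathlib.RingTheory.WittVector.Identities

set_option autoImplicit false
open CAlg

namespace Groth.Agent.S14857

section Aux

open WittVector

variable {p : ℕ} [Fact p.Prime] {R : Type*} [CommRing R]

theorem verschiebung_sq (y : WittVector p R) :
    verschiebung y * verschiebung y = (p : WittVector p R) * verschiebung (y * y) := by
  rw [← verschiebung_mul_frobenius, frobenius_verschiebung, ← mul_assoc]
  have : y * y * (p : WittVector p R) = (p : ℕ) • (y * y) := by
    rw [nsmul_eq_mul, mul_comm]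
  rw [this, map_nsmul, nsmul_eq_mul]

theorem p_dvd_teichmuller_pow (a : R) (ha : a = (p : R)) :
    (p : WittVector p R) ∣ teichmuller p (a ^ p) := by
  have hp2 : 2 ≤ p := (Fact.out : p.Prime).two_le
  set x : WittVector p R := teichmuller p a - (p : WittVector p R) with hx
  have hx0 : x.coeff 0 = 0 := by
    have h1 : constantCoeff x = 0 := by
      rw [hx, map_sub, map_natCast, constantCoeff_apply, teichmuller_coeff_zero, ha, sub_self]
    exact h1
  have hxV : x = verschiebung (x.shift 1) := by
    have := eq_iterate_verschiebung (p := p) (x := x) (n := 1) (by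
      intro i hi
      obtain rfl : i = 0 := by omega
      exact hx0)
    simpa using this
  have hT : teichmuller p a = (p : WittVector p R) + verschiebung (x.shift 1) := by
    rw [← hxV, hx]; ring
  rw [map_pow, hT]
  have h1 : (p : WittVector p R) ∣
      ((p : WittVector p R) + verschiebung (x.shift 1)) ^ p - (verschiebung (x.shift 1)) ^ p := by
    have := sub_dvd_pow_sub_pow ((p : WittVector p R) + verschiebung (x.shift 1))
      (verschiebung (x.shift 1)) p
    rwa [add_sub_cancel_right] at this
  have h2 : (p : WittVector p R) ∣ (verschiebung (x.shift 1)) ^ p := by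
    have hpe : verschiebung (x.shift 1) ^ p
        = verschiebung (x.shift 1) ^ (p - 2) * verschiebung (x.shift 1) ^ 2 := by
      rw [← pow_add]; congr 1; omega
    rw [hpe, pow_two, verschiebung_sq]
    exact Dvd.dvd.mul_left (Dvd.intro _ rfl) _
  have := dvd_add h1 h2
  rwa [sub_add_cancel] at this

end Aux

/-- For a prime p, the Teichmüller representative [p^p] of the element p^p of the p-adic integers is
divisible by p in the ring of p-typical Witt vectors W(ℤ_p). -/
theorem result (p : ℕ) [Fact p.Prime] :
    (p : WittVector p ℤ_[p]) ∣ WittVector.teichmuller p ((p : ℤ_[p]) ^ p) := by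
  exact p_dvd_teichmuller_pow (p : ℤ_[p]) rfl

end Groth.Agent.S14857
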