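import Groth.Statements.S14859
import Mathlib.RingTheory.OrzechProperty
import Mathlib.LinearAlgebra.Basis.Prod
import Mathlib.LinearAlgebra.Projection
import Mathlib.RingTheory.Finiteness.Basic
import Mathlib.Algebra.Algebra.Operations

set_option autoImplicit false
universe u v w
open Disp

namespace Groth.Agent.S14859

section Aux

open W4c1extbt610 WittVector

variable {p : ℕ} [Fact p.Prime] {R : Type*} [CommRing R]
  {P : Type*} [AddCommGroup P] [Module (WittVector p R) P]

theorem mem_IV_iff (a : WittVector p R) : a ∈ IV p R ↔ ∃ w, a = verschiebung w := by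
  constructor
  · intro ha
    induction ha using Submodule.span_induction with
    | mem x hx => obtain ⟨w, rfl⟩ := hx; exact ⟨w, rfl⟩
    | zero => exact ⟨0, (map_zero _).symm⟩
    | add x y _ _ hx hy =>
      obtain ⟨w₁, rfl⟩ := hx
      obtain ⟨w₂, rfl⟩ := hy
      exact ⟨w₁ + w₂, (map_add _ _ _).symm⟩
    | smul r x _ hx =>
      obtain ⟨w, rfl⟩ := hx
      exact ⟨w * frobenius r, by rw [verschiebung_mul_frobenius, smul_eq_mul, mul_comm]⟩
  · rintro ⟨w, rfl⟩
    exact verschiebung_mem_IV p R w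

theorem IV_smul_le_Q (D : Display3n p R P) (T : Submodule (WittVector p R) P) :
    IV p R • T ≤ D.Q :=
  (Submodule.smul_mono le_rfl le_top).trans D.IV_smul_le

end Aux

/-- Let p be a prime, R a commutative ring with p-typical Witt vectors W = W(R), and (P, Q, F, V⁻¹) a
3n-display over R with a normal decomposition P = L ⊕ T, Q = L + I_R·T. Then V⁻¹ ⊕ F : L ⊕ T → P is
a Frobenius-linear isomorphism; stated here in the case where L and T are free with bases (l_i) and
(t_j): the family consisting of the V⁻¹(l_i) and the F(t_j) is a basis of the W-module P, i.e. it is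
linearly independent over W and spans P. -/
theorem result (p : ℕ) [Fact p.Prime] (R : Type u) [CommRing R]
    (P : Type v) [AddCommGroup P] [Module (WittVector p R) P] (D : W4c1extbt610.Display3n p R P)
    (L T : Submodule (WittVector p R) P) (hLT : IsCompl L T)
    (hQ : D.Q = L ⊔ W4c1extbt610.IV p R • T) (hLQ : L ≤ D.Q)
    (ιL ιT : Type w) (bL : Module.Basis ιL (WittVector p R) L) (bT : Module.Basis ιT (WittVector p R) T) :
    LinearIndependent (WittVector p R)
        (Sum.elim (fun i : ιL => D.Vinv ⟨(bL i : P), hLQ (bL i).2⟩) (fun j : ιT => D.F (bT j : P))) ∧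
      Submodule.span (WittVector p R)
        (Set.range (Sum.elim (fun i : ιL => D.Vinv ⟨(bL i : P), hLQ (bL i).2⟩) (fun j : ιT => D.F (bT j : P)))) = ⊤ := by
  classical
  set v : ιL ⊕ ιT → P :=
    Sum.elim (fun i : ιL => D.Vinv ⟨(bL i : P), hLQ (bL i).2⟩) (fun j : ιT => D.F (bT j : P)) with hv
  set S : Submodule (WittVector p R) P := Submodule.span (WittVector p R) (Set.range v) with hS
  -- Vinv on L lands in S
  have hL : ∀ l : L, D.Vinv ⟨(l : P), hLQ l.2⟩ ∈ S := by
    have hle : (⊤ : Submodule (WittVector p R) L)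
        ≤ S.comap (D.Vinv.comp (Submodule.inclusion hLQ)) := by
      rw [← bL.span_eq, Submodule.span_le]
      rintro _ ⟨i, rfl⟩
      exact Submodule.subset_span ⟨Sum.inl i, rfl⟩
    intro l
    exact hle (Submodule.mem_top : l ∈ ⊤)
  -- F on T lands in S
  have hT : ∀ t : T, D.F (t : P) ∈ S := by
    have hle : (⊤ : Submodule (WittVector p R) T) ≤ S.comap (D.F.comp T.subtype) := by
      rw [← bT.span_eq, Submodule.span_le]
      rintro _ ⟨j, rfl⟩
      exact Submodule.subset_span ⟨Sum.inr j, rfl⟩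
    intro t
    exact hle (Submodule.mem_top : t ∈ ⊤)
  -- Vinv on IV • T lands in S
  have hIT : ∀ u ∈ W4c1extbt610.IV p R • T, ∃ h : u ∈ D.Q, D.Vinv ⟨u, h⟩ ∈ S := by
    intro u hu
    refine Submodule.smul_induction_on hu ?_ ?_
    · intro a ha t ht
      obtain ⟨w, rfl⟩ := (mem_IV_iff a).mp ha
      refine ⟨IV_smul_le_Q D T (Submodule.smul_mem_smul ha ht), ?_⟩
      rw [D.Vinv_verschiebung_smul w t]
      exact S.smul_mem w (hT ⟨t, ht⟩)
    · rintro x y ⟨hx, hx'⟩ ⟨hy, hy'⟩
      refine ⟨D.Q.add_mem hx hy, ?_⟩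
      have : (⟨x + y, D.Q.add_mem hx hy⟩ : D.Q) = ⟨x, hx⟩ + ⟨y, hy⟩ := rfl
      rw [this, map_add]
      exact S.add_mem hx' hy'
  have hspan : S = ⊤ := by
    rw [eq_top_iff, ← D.span_range_Vinv, Submodule.span_le]
    rintro _ ⟨⟨q, hq⟩, rfl⟩
    have hq' : q ∈ L ⊔ W4c1extbt610.IV p R • T := hQ ▸ hq
    obtain ⟨l, hl, u, hu, rfl⟩ := Submodule.mem_sup.mp hq'
    obtain ⟨hu1, hu2⟩ := hIT u hu
    have : (⟨l + u, hq⟩ : D.Q) = ⟨l, hLQ hl⟩ + ⟨u, hu1⟩ := rfl
    rw [this, map_add]
    exact S.add_mem (hL ⟨l, hl⟩) hu2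
  refine ⟨?_, hspan⟩
  -- linear independence via a surjective endomorphism
  haveI := D.finite
  let b : Module.Basis (ιL ⊕ ιT) (WittVector p R) P :=
    (bL.prod bT).map (Submodule.prodEquivOfIsCompl L T hLT)
  let φ : P →ₗ[WittVector p R] P := b.constr ℕ v
  have hφsurj : Function.Surjective φ := by
    rw [← LinearMap.range_eq_top, Module.Basis.constr_range]
    exact hspan
  have hφinj : Function.Injective φ := OrzechProperty.injective_of_surjective_endomorphism φ hφsurj
  have hvφ : v = φ ∘ b := by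
    funext k
    simp [φ, Module.Basis.constr_basis]
  rw [hvφ]
  exact b.linearIndependent.map' φ (LinearMap.ker_eq_bot.mpr hφinj)

end Groth.Agent.S14859
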