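import Groth.Statements.S14860
import Groth.Agent.Lib.Helper14ProjLimSep
import Groth.Agent.Lib.Helper14WittFilt

set_option autoImplicit false
universe u v
open CAlg

namespace Groth.Agent.S14860

/-- Let p be a prime and R a commutative ring in which p is nilpotent; write W = W(R) for the p-typical
Witt vectors and, for n ≥ 0, I_n ⊆ W for the ideal of Witt vectors whose first n components vanish
(the kernel of the truncation W → W_n(R), so W/I_n = W_n(R)). For a W-module P conditions (i) and
(ii) below are equivalent: (i) P is a projective W-module of finite type; (ii) P is separated for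
the filtration by the submodules I_n P, and for every n the W_n(R)-module P/I_n P is finitely
generated and projective. (The published statement is made for every ℤ_(p)-algebra R, the section's
standing convention; over R = ℚ, where W(ℚ) ≅ ℚ^ℕ by the ghost map, the module ⊕_ℕ ℚ satisfies (ii)
but is not finitely generated, and the published proof uses that I_1 is nilpotent in each W_n(R),
which holds when p is nilpotent in R; so p is taken nilpotent here. The third equivalent condition
of the published statement, freeness Zariski-locally on R, is not rendered.) -/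
theorem result (p : ℕ) [Fact p.Prime] (R : Type u) [CommRing R]
    (hp : IsNilpotent (p : R))
    (P : Type v) [AddCommGroup P] [Module (WittVector p R) P] :
    (Module.Finite (WittVector p R) P ∧ Module.Projective (WittVector p R) P) ↔
      ((⨅ n : ℕ, (RingHom.ker (WittVector.truncate (p := p) (R := R) n) • (⊤ : Submodule (WittVector p R) P))) = ⊥ ∧
        ∀ n : ℕ, Module.Finite (WittVector p R ⧸ RingHom.ker (WittVector.truncate (p := p) (R := R) n))
              (P ⧸ (RingHom.ker (WittVector.truncate (p := p) (R := R) n) • (⊤ : Submodule (WittVector p R) P))) ∧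
            Module.Projective (WittVector p R ⧸ RingHom.ker (WittVector.truncate (p := p) (R := R) n))
              (P ⧸ (RingHom.ker (WittVector.truncate (p := p) (R := R) n) • (⊤ : Submodule (WittVector p R) P)))) := by
  obtain ⟨N, hN⟩ := hp
  have hNI := Groth.Agent.Lib.Helper14.WittFilt.natCast_pow_mem_kerCC (p := p) hN
  have hI : ∀ n, RingHom.ker (WittVector.truncate (p := p) (R := R) (n + 1 + 1)) ≤
      RingHom.ker (WittVector.truncate (p := p) (R := R) (n + 1)) :=
    fun n => Groth.Agent.Lib.Helper14.WittFilt.ker_truncate_anti (by omega)
  have hsep : ∀ a : WittVector p R,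
      (∀ n, a ∈ RingHom.ker (WittVector.truncate (p := p) (R := R) (n + 1))) → a = 0 :=
    fun a ha => Groth.Agent.Lib.Helper14.WittFilt.eq_zero_of_forall_mem 1 a ha
  have hcomp : ∀ z : ℕ → WittVector p R,
      (∀ n, z (n + 1) - z n ∈ RingHom.ker (WittVector.truncate (p := p) (R := R) (n + 1))) →
      ∃ x : WittVector p R,
        ∀ n, x - z n ∈ RingHom.ker (WittVector.truncate (p := p) (R := R) (n + 1)) := by
    intro z hz
    obtain ⟨x, -, hx⟩ := Groth.Agent.Lib.Helper14.WittFilt.exists_limit 1 z hz
    exact ⟨x, hx⟩
  have hrad : ∀ n, RingHom.ker (WittVector.truncate (p := p) (R := R) (n + 1)) ≤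
      (RingHom.ker (WittVector.truncate (p := p) (R := R) (n + 1 + 1))).radical :=
    fun n a ha => ⟨N + 2, Groth.Agent.Lib.Helper14.WittFilt.pow_mem_ker_truncate_succ N hNI
      (n + 1) (by omega) a ha⟩
  constructor
  · rintro ⟨hfin, hproj⟩
    refine ⟨?_, fun n => Groth.Agent.Lib.Helper14.ProjLimSep.truncation_finite_projective _ P⟩
    rw [eq_bot_iff]
    intro x hx
    rw [Submodule.mem_iInf] at hx
    rw [Submodule.mem_bot]
    exact Groth.Agent.Lib.Helper14.ProjLimSep.separated_of_finite_projective
      (fun n => RingHom.ker (WittVector.truncate (p := p) (R := R) (n + 1))) hsep P x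
      (fun n => hx (n + 1))
  · rintro ⟨hsepP, hn⟩
    refine Groth.Agent.Lib.Helper14.ProjLimSep.finite_projective_of_truncations
      (fun n => RingHom.ker (WittVector.truncate (p := p) (R := R) (n + 1))) hI hsep hcomp hrad P ?_
      (fun n => (hn (n + 1)).1) (fun n => (hn (n + 1)).2)
    intro x hx
    have hmem : x ∈ ⨅ n : ℕ, (RingHom.ker (WittVector.truncate (p := p) (R := R) n) •
        (⊤ : Submodule (WittVector p R) P)) := by
      rw [Submodule.mem_iInf]
      intro n
      cases n with
      | zero =>
        rw [Groth.Agent.Lib.Helper14.WittFilt.ker_truncate_zero, Submodule.top_smul]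
        exact Submodule.mem_top
      | succ n => exact hx n
    rw [hsepP] at hmem
    exact (Submodule.mem_bot _).mp hmem

end Groth.Agent.S14860
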