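import Groth.Statements.S14867
import Groth.Agent.Lib.Helper14LiftProj
import Groth.Agent.Lib.Helper14WittFilt

set_option autoImplicit false
universe u
open CAlg

namespace Groth.Agent.S14867

/-- Let p be a prime and S → R a surjective homomorphism of commutative rings such that every element of
its kernel 𝔞 is nilpotent and p is nilpotent in S; write J = W(𝔞) for the kernel of the induced
surjection W(S) → W(R) of rings of p-typical Witt vectors. Then finitely generated projective
modules lift along W(S) → W(R), uniquely up to isomorphism: for every finitely generated projective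
W(R)-module P there is a finitely generated projective W(S)-module P̃ together with a surjection P̃
→ P, semilinear over W(S) → W(R), whose kernel is J·P̃ (that is, an isomorphism W(R) ⊗_{W(S)} P̃ ≅
P); and for any two such pairs (P̃_1, π_1), (P̃_2, π_2) there is a W(S)-linear isomorphism P̃_1 ≅
P̃_2 compatible with π_1 and π_2. -/
theorem result (p : ℕ) [Fact p.Prime] (S R : Type u)
    [CommRing S] [CommRing R] (φ : S →+* R) (hφ : Function.Surjective φ)
    (hnil : ∀ a : S, φ a = 0 → IsNilpotent a) (hp : IsNilpotent (p : S))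
    (P : Type u) [AddCommGroup P] [Module (WittVector p R) P]
    [Module.Finite (WittVector p R) P] [Module.Projective (WittVector p R) P] :
    (∃ (P' : Type u) (_ : AddCommGroup P') (_ : Module (WittVector p S) P'),
        Module.Finite (WittVector p S) P' ∧ Module.Projective (WittVector p S) P' ∧
          ∃ π : P' →ₛₗ[WittVector.map (p := p) φ] P, Function.Surjective π ∧
            LinearMap.ker π = RingHom.ker (WittVector.map (p := p) φ) • (⊤ : Submodule (WittVector p S) P')) ∧
      ∀ (P₁ : Type u) [AddCommGroup P₁] [Module (WittVector p S) P₁]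
        [Module.Finite (WittVector p S) P₁] [Module.Projective (WittVector p S) P₁]
        (P₂ : Type u) [AddCommGroup P₂] [Module (WittVector p S) P₂]
        [Module.Finite (WittVector p S) P₂] [Module.Projective (WittVector p S) P₂]
        (π₁ : P₁ →ₛₗ[WittVector.map (p := p) φ] P) (π₂ : P₂ →ₛₗ[WittVector.map (p := p) φ] P),
        Function.Surjective π₁ →
          LinearMap.ker π₁ = RingHom.ker (WittVector.map (p := p) φ) • (⊤ : Submodule (WittVector p S) P₁) →
        Function.Surjective π₂ →
          LinearMap.ker π₂ = RingHom.ker (WittVector.map (p := p) φ) • (⊤ : Submodule (WittVector p S) P₂) →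
        ∃ e : P₁ ≃ₗ[WittVector p S] P₂, ∀ x : P₁, π₂ (e x) = π₁ x := by
  obtain ⟨N, hN⟩ := hp
  have hNI := Groth.Agent.Lib.Helper14.WittFilt.natCast_pow_mem_kerCC (p := p) hN
  have hΦ : Function.Surjective (WittVector.map (p := p) φ) := WittVector.map_surjective φ hφ
  -- the filtration
  have hK : ∀ n, RingHom.ker (WittVector.map (p := p) φ) ⊓
        RingHom.ker (WittVector.truncate (p := p) (R := S) (n + 1)) ≤
      RingHom.ker (WittVector.map (p := p) φ) ⊓
        RingHom.ker (WittVector.truncate (p := p) (R := S) n) :=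
    fun n => inf_le_inf_left _ (Groth.Agent.Lib.Helper14.WittFilt.ker_truncate_anti (by omega))
  have hK0 : RingHom.ker (WittVector.map (p := p) φ) ⊓
        RingHom.ker (WittVector.truncate (p := p) (R := S) 0) =
      RingHom.ker (WittVector.map (p := p) φ) := by
    rw [Groth.Agent.Lib.Helper14.WittFilt.ker_truncate_zero, inf_top_eq]
  have hsep : ∀ a : WittVector p S, (∀ n, a ∈ RingHom.ker (WittVector.map (p := p) φ) ⊓
        RingHom.ker (WittVector.truncate (p := p) (R := S) n)) → a = 0 :=
    fun a ha => Groth.Agent.Lib.Helper14.WittFilt.eq_zero_of_forall_mem 0 a (fun n => (ha n).2)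
  have hcomp : ∀ z : ℕ → WittVector p S,
      (∀ n, z (n + 1) - z n ∈ RingHom.ker (WittVector.map (p := p) φ) ⊓
        RingHom.ker (WittVector.truncate (p := p) (R := S) n)) →
      ∃ x : WittVector p S, ∀ n, x - z n ∈ RingHom.ker (WittVector.map (p := p) φ) ⊓
        RingHom.ker (WittVector.truncate (p := p) (R := S) n) := by
    intro z hz
    obtain ⟨x, hxc, hx⟩ := Groth.Agent.Lib.Helper14.WittFilt.exists_limit 0 z (fun n => (hz n).2)
    have hconst : ∀ n, WittVector.map (p := p) φ (z n) = WittVector.map (p := p) φ (z 0) := by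
      intro n
      induction n with
      | zero => rfl
      | succ n ih =>
        have : z (n + 1) - z n ∈ RingHom.ker (WittVector.map (p := p) φ) := (hz n).1
        rw [RingHom.mem_ker, map_sub, sub_eq_zero] at this
        rw [this, ih]
    refine ⟨x, fun n => Ideal.mem_inf.mpr ⟨?_, hx n⟩⟩
    rw [RingHom.mem_ker, map_sub, sub_eq_zero]
    ext i
    rw [WittVector.map_coeff, hxc, ← WittVector.map_coeff, hconst (i + 1), hconst n]
  have hrad : ∀ n, RingHom.ker (WittVector.map (p := p) φ) ⊓
        RingHom.ker (WittVector.truncate (p := p) (R := S) n) ≤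
      (RingHom.ker (WittVector.map (p := p) φ) ⊓
        RingHom.ker (WittVector.truncate (p := p) (R := S) (n + 1))).radical := by
    intro n a ha
    have ha1 : a ∈ RingHom.ker (WittVector.map (p := p) φ) := ha.1
    have ha2 : a ∈ RingHom.ker (WittVector.truncate (p := p) (R := S) n) := ha.2
    rcases Nat.eq_zero_or_pos n with h0 | hpos
    · subst h0
      have h1 : φ (a.coeff 0) = 0 := by
        have := ha1
        rw [RingHom.mem_ker] at this
        rw [← WittVector.map_coeff, this, WittVector.zero_coeff]
      obtain ⟨k, hk⟩ := hnil _ h1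
      refine ⟨k + 1, Ideal.mem_inf.mpr ⟨Ideal.pow_mem_of_mem _ ha1 _ (by omega), ?_⟩⟩
      rw [WittVector.mem_ker_truncate]
      intro i hi
      obtain rfl : i = 0 := by omega
      have h2 : (a ^ (k + 1)).coeff 0 = (a.coeff 0) ^ (k + 1) :=
        map_pow (WittVector.constantCoeff : WittVector p S →+* S) a (k + 1)
      rw [h2, pow_succ, hk, zero_mul]
    · exact ⟨N + 2, Ideal.mem_inf.mpr ⟨Ideal.pow_mem_of_mem _ ha1 _ (by omega),
        Groth.Agent.Lib.Helper14.WittFilt.pow_mem_ker_truncate_succ N hNI n hpos a ha2⟩⟩
  have hJ : RingHom.ker (WittVector.map (p := p) φ) ≤ Ideal.jacobson ⊥ := by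
    have := Groth.Agent.Lib.Helper14.LiftProj.Filt.le_jacobson_bot
      (fun n => RingHom.ker (WittVector.map (p := p) φ) ⊓
        RingHom.ker (WittVector.truncate (p := p) (R := S) n)) hK hsep hcomp hrad
    rwa [hK0] at this
  constructor
  · obtain ⟨r, P', π, hfin, hproj, hs, hk⟩ :=
      Groth.Agent.Lib.Helper14.LiftProj.exists_lift_of_idempotent_lift
        (WittVector.map (p := p) φ) hΦ P
        (fun r E hE => Groth.Agent.Lib.Helper14.LiftProj.Filt.exists_idempotent_lift
          (fun n => RingHom.ker (WittVector.map (p := p) φ) ⊓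
            RingHom.ker (WittVector.truncate (p := p) (R := S) n)) hK hsep hcomp hrad
          (WittVector.map (p := p) φ) hΦ hK0 E hE)
    exact ⟨P', inferInstance, inferInstance, hfin, hproj, π, hs, hk⟩
  · intro P₁ _ _ _ _ P₂ _ _ _ _ π₁ π₂ h₁s h₁k h₂s h₂k
    exact Groth.Agent.Lib.Helper14.LiftProj.exists_equiv_of_lifts (WittVector.map (p := p) φ) hJ
      π₁ π₂ h₁s h₁k h₂s h₂k

end Groth.Agent.S14867
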