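import Groth.Statements.S14868
-- import your own Groth.Agent.* helpers here

set_option autoImplicit false
universe u v w
open Disp

namespace Groth.Agent.S14868

section Aux

open W4c1extbt610 WittVector

variable {p : ℕ} [Fact p.Prime] {R : Type*} [CommRing R]
  {P : Type*} [AddCommGroup P] [Module (WittVector p R) P]

theorem V1_smul_mem (D : Display3n p R P) (x : P) :
    (verschiebung (1 : WittVector p R)) • x ∈ D.Q :=
  D.IV_smul_le (Submodule.smul_mem_smul (verschiebung_mem_IV p R 1) Submodule.mem_top)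

theorem F_eq_Vinv (D : Display3n p R P) (x : P) :
    D.F x = D.Vinv ⟨(verschiebung (1 : WittVector p R)) • x, V1_smul_mem D x⟩ := by
  have := D.Vinv_verschiebung_smul 1 x
  rw [one_smul] at this
  exact this.symm

theorem V1_mul (b : WittVector p R) :
    verschiebung (1 : WittVector p R) * b = verschiebung (frobenius b) := by
  rw [← verschiebung_mul_frobenius, one_mul]

end Aux

/-- Let p be a prime, R a commutative ring, W = W(R) its ring of p-typical Witt vectors with Frobenius σ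
and Verschiebung V, and let (P_1, Q_1, F, V⁻¹) and (P_2, Q_2, F, V⁻¹) be 3n-displays over R. A
bilinear form of 3n-displays is a W-bilinear map ( , ) : P_1 × P_2 → W such that V((V⁻¹y_1, V⁻¹y_2))
= (y_1, y_2) for all y_1 ∈ Q_1 and y_2 ∈ Q_2. For such a form the following relations hold: (V⁻¹y_1,
F x_2) = σ((y_1, x_2)) for y_1 ∈ Q_1, x_2 ∈ P_2; (F x_1, F x_2) = p·σ((x_1, x_2)) for x_1 ∈ P_1, x_2
∈ P_2; (F x_1, V⁻¹y_2) = σ((x_1, y_2)) for x_1 ∈ P_1, y_2 ∈ Q_2; and (y_1, y_2) lies in the ideal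
I_R = V W for y_1 ∈ Q_1, y_2 ∈ Q_2. -/
theorem result (p : ℕ) [Fact p.Prime] (R : Type u) [CommRing R]
    (P₁ : Type v) [AddCommGroup P₁] [Module (WittVector p R) P₁]
    (P₂ : Type w) [AddCommGroup P₂] [Module (WittVector p R) P₂]
    (D₁ : W4c1extbt610.Display3n p R P₁) (D₂ : W4c1extbt610.Display3n p R P₂)
    (B : P₁ →ₗ[WittVector p R] P₂ →ₗ[WittVector p R] WittVector p R)
    (hB : ∀ (y₁ : D₁.Q) (y₂ : D₂.Q),
      WittVector.verschiebung (B (D₁.Vinv y₁) (D₂.Vinv y₂)) = B (y₁ : P₁) (y₂ : P₂)) :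
    (∀ (y₁ : D₁.Q) (x₂ : P₂), B (D₁.Vinv y₁) (D₂.F x₂) = WittVector.frobenius (B (y₁ : P₁) x₂)) ∧
      (∀ (x₁ : P₁) (x₂ : P₂),
        B (D₁.F x₁) (D₂.F x₂) = (p : WittVector p R) * WittVector.frobenius (B x₁ x₂)) ∧
      (∀ (x₁ : P₁) (y₂ : D₂.Q), B (D₁.F x₁) (D₂.Vinv y₂) = WittVector.frobenius (B x₁ (y₂ : P₂))) ∧
      ∀ (y₁ : D₁.Q) (y₂ : D₂.Q), B (y₁ : P₁) (y₂ : P₂) ∈ W4c1extbt610.IV p R := by
  have hinj := WittVector.verschiebung_injective p R
  refine ⟨?_, ?_, ?_, ?_⟩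
  · intro y₁ x₂
    apply hinj
    rw [F_eq_Vinv D₂ x₂, hB y₁ ⟨_, V1_smul_mem D₂ x₂⟩]
    simp only [map_smul, smul_eq_mul]
    rw [V1_mul]
  · intro x₁ x₂
    apply hinj
    rw [F_eq_Vinv D₁ x₁, F_eq_Vinv D₂ x₂, hB ⟨_, V1_smul_mem D₁ x₁⟩ ⟨_, V1_smul_mem D₂ x₂⟩]
    simp only [map_smul, LinearMap.smul_apply, smul_eq_mul]
    rw [V1_mul, V1_mul, WittVector.frobenius_verschiebung, mul_comm]
  · intro x₁ y₂
    apply hinj
    rw [F_eq_Vinv D₁ x₁, hB ⟨_, V1_smul_mem D₁ x₁⟩ y₂]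
    simp only [map_smul, LinearMap.smul_apply, smul_eq_mul]
    rw [V1_mul]
  · intro y₁ y₂
    rw [← hB y₁ y₂]
    exact W4c1extbt610.verschiebung_mem_IV p R _

end Groth.Agent.S14868
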