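import Groth.Statements.S14869
import Mathlib.LinearAlgebra.TensorProduct.RightExactness

set_option autoImplicit false
universe u v w
open CAlg

namespace Groth.Agent.S14869

section Aux

open TensorProduct

theorem exists_one_tmul {S R : Type*} [CommRing S] [CommRing R] [Algebra S R]
    (hSR : Function.Surjective (algebraMap S R))
    {M : Type*} [AddCommGroup M] [Module S M] (w : R ⊗[S] M) :
    ∃ m : M, w = (1 : R) ⊗ₜ[S] m := by
  induction w using TensorProduct.induction_on with
  | zero => exact ⟨0, by simp⟩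
  | tmul r m =>
    obtain ⟨s, rfl⟩ := hSR r
    refine ⟨s • m, ?_⟩
    rw [Algebra.algebraMap_eq_smul_one, TensorProduct.smul_tmul]
  | add a b ha hb =>
    obtain ⟨m, rfl⟩ := ha
    obtain ⟨n, rfl⟩ := hb
    exact ⟨m + n, by rw [TensorProduct.tmul_add]⟩

end Aux

open TensorProduct in
/-- Let S → R be a surjective homomorphism of commutative rings, let π : P_1 → P_2 be a surjective
homomorphism of S-modules with P_2 projective, and let π̄ : R ⊗_S P_1 → R ⊗_S P_2 be its base
change. Then every R-linear section σ̄ of π̄ lifts to a section of π: there is an S-linear map σ :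
P_2 → P_1 with π ∘ σ = id whose base change R ⊗_S σ is σ̄. -/
theorem result (S R : Type u) [CommRing S] [CommRing R] [Algebra S R]
    (hSR : Function.Surjective (algebraMap S R))
    (P₁ : Type v) [AddCommGroup P₁] [Module S P₁]
    (P₂ : Type w) [AddCommGroup P₂] [Module S P₂] [Module.Projective S P₂]
    (π : P₁ →ₗ[S] P₂) (hπ : Function.Surjective π)
    (σ' : R ⊗[S] P₂ →ₗ[R] R ⊗[S] P₁) (hσ' : (π.baseChange R).comp σ' = LinearMap.id) :
    ∃ σ : P₂ →ₗ[S] P₁, π.comp σ = LinearMap.id ∧ σ.baseChange R = σ' := by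
  classical
  obtain ⟨σ₀, hσ₀⟩ := Module.projective_lifting_property π LinearMap.id hπ
  -- the difference, as an S-linear map into R ⊗ P₁
  let τ : P₂ →ₗ[S] R ⊗[S] P₁ :=
    (σ'.restrictScalars S) ∘ₗ (TensorProduct.mk S R P₂ 1) - (TensorProduct.mk S R P₁ 1) ∘ₗ σ₀
  let q' : LinearMap.ker π →ₗ[S] R ⊗[S] P₁ :=
    (TensorProduct.mk S R P₁ 1) ∘ₗ (LinearMap.ker π).subtype
  have hex : Function.Exact (LinearMap.lTensor R (LinearMap.ker π).subtype)
      (LinearMap.lTensor R π) :=
    lTensor_exact R (LinearMap.exact_subtype_ker_map π) hπ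
  have hτ : ∀ y : P₂, τ y ∈ LinearMap.range q' := by
    intro y
    have hker : (LinearMap.lTensor R π) (τ y) = 0 := by
      have h1 : (π.baseChange R) (σ' ((1 : R) ⊗ₜ[S] y)) = (1 : R) ⊗ₜ[S] y := by
        have := LinearMap.congr_fun hσ' ((1 : R) ⊗ₜ[S] y)
        simpa using this
      have h2 : π (σ₀ y) = y := by
        have := LinearMap.congr_fun hσ₀ y
        simpa using this
      have h3 : (LinearMap.lTensor R π) (σ' ((1 : R) ⊗ₜ[S] y)) = (1 : R) ⊗ₜ[S] y := h1
      simp only [τ, LinearMap.sub_apply, LinearMap.coe_comp, Function.comp_apply,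
        LinearMap.coe_restrictScalars, TensorProduct.mk_apply, map_sub, h3,
        LinearMap.lTensor_tmul, h2, sub_self]
    obtain ⟨w, hw⟩ := (hex (τ y)).mp hker
    obtain ⟨k, rfl⟩ := exists_one_tmul hSR w
    exact ⟨k, by rw [← hw]; rfl⟩
  obtain ⟨δ, hδ⟩ := Module.projective_lifting_property q'.rangeRestrict
    (τ.codRestrict (LinearMap.range q') hτ) (LinearMap.surjective_rangeRestrict q')
  have hδ' : ∀ y : P₂, (1 : R) ⊗ₜ[S] ((δ y : LinearMap.ker π) : P₁) = τ y := by
    intro y
    have := congrArg Subtype.val (LinearMap.congr_fun hδ y)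
    simpa [q'] using this
  refine ⟨σ₀ + (LinearMap.ker π).subtype ∘ₗ δ, ?_, ?_⟩
  · ext y
    have h2 : π (σ₀ y) = y := by
      have := LinearMap.congr_fun hσ₀ y
      simpa using this
    simp [h2]
  · apply LinearMap.restrictScalars_injective S
    apply TensorProduct.ext'
    intro r y
    obtain ⟨s, rfl⟩ := hSR r
    have e1 : (algebraMap S R s) ⊗ₜ[S] y = (algebraMap S R s) • ((1 : R) ⊗ₜ[S] y) := by
      rw [TensorProduct.smul_tmul', smul_eq_mul, mul_one]
    simp only [LinearMap.coe_restrictScalars]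
    rw [e1, map_smul, map_smul, LinearMap.baseChange_tmul]
    congr 1
    have := hδ' y
    simp only [τ, LinearMap.sub_apply, LinearMap.coe_comp, Function.comp_apply,
      LinearMap.coe_restrictScalars, TensorProduct.mk_apply] at this
    simp only [LinearMap.add_apply, LinearMap.coe_comp, Function.comp_apply,
      Submodule.coe_subtype, TensorProduct.tmul_add, this]
    abel

end Groth.Agent.S14869
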