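import Groth.Statements.S14871
import Mathlib.Algebra.Lie.Solvable
import Mathlib.RingTheory.Noetherian.Basic

set_option autoImplicit false
universe u v
open PLie

namespace Groth.Agent.S14871

open LieAlgebra in
theorem pmap_mem_radical
    {k : Type*} [Field k] {p : ℕ} [Fact p.Prime] [CharP k p]
    {L : Type*} [LieRing L] [LieAlgebra k L] [Module.Finite k L]
    (φ : PLie.PMap k p L) (x : L) (hx : x ∈ LieAlgebra.radical k L) :
    φ x ∈ LieAlgebra.radical k L := by
  have hbr : ∀ y : L, ⁅y, φ x⁆ ∈ radical k L := by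
    intro y
    rw [← lie_skew, neg_mem_iff]
    have h1 : ⁅φ x, y⁆ = (LieAlgebra.ad k L x ^ p) y := by
      rw [← φ.ad_map x]; rfl
    have hp : p = (p - 1) + 1 := (Nat.succ_pred_eq_of_pos (Fact.out : p.Prime).pos).symm
    rw [h1, hp, pow_succ', Module.End.mul_apply, LieAlgebra.ad_apply]
    exact lie_mem_left k L (radical k L) x _ hx
  have hbrJ : ∀ y : L, ∀ b ∈ (radical k L).toSubmodule ⊔ Submodule.span k {φ x},
      ⁅y, b⁆ ∈ radical k L := by
    intro y b hb
    obtain ⟨r, hr, s, hs, rfl⟩ := Submodule.mem_sup.mp hb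
    obtain ⟨c, rfl⟩ := Submodule.mem_span_singleton.mp hs
    rw [lie_add, lie_smul]
    exact add_mem (lie_mem_right k L (radical k L) y r hr) ((radical k L).smul_mem c (hbr y))
  let J : LieIdeal k L :=
    { ((radical k L).toSubmodule ⊔ Submodule.span k {φ x}) with
      lie_mem := by
        intro y b hb
        exact Submodule.mem_sup_left (hbrJ y b hb) }
  have hJ1 : derivedSeriesOfIdeal k L 1 J ≤ radical k L := by
    rw [derivedSeriesOfIdeal_succ, derivedSeriesOfIdeal_zero, LieSubmodule.lie_le_iff]
    intro a _ b hb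
    exact hbrJ a b hb
  obtain ⟨n, hn⟩ := (LieAlgebra.isSolvable_iff (R := k) (L := radical k L)).mp inferInstance
  rw [LieIdeal.derivedSeries_eq_bot_iff] at hn
  have hJsolv : IsSolvable J := by
    apply LieAlgebra.IsSolvable.mk (R := k) (k := n + 1)
    rw [LieIdeal.derivedSeries_eq_bot_iff, derivedSeriesOfIdeal_add, eq_bot_iff, ← hn]
    exact derivedSeriesOfIdeal_mono hJ1 n
  have hle : J ≤ radical k L := (LieIdeal.solvable_iff_le_radical k L J).mp hJsolv
  exact hle (Submodule.mem_sup_right (Submodule.mem_span_singleton_self _))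

/-- Let `L` be a finite-dimensional Lie algebra over a field of characteristic `p` equipped with a
`p`-mapping `φ`. Then the solvable radical of `L` is stable under `φ` (it is a `p`-subalgebra). -/
theorem result
    (k : Type u) [Field k] (p : ℕ) [Fact p.Prime] [CharP k p]
    (L : Type v) [LieRing L] [LieAlgebra k L] [Module.Finite k L]
    (φ : PLie.PMap k p L) (x : L) (hx : x ∈ LieAlgebra.radical k L) :
    φ x ∈ LieAlgebra.radical k L := by
  exact pmap_mem_radical φ x hx

end Groth.Agent.S14871
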