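import Groth.Statements.S14873
import Mathlib.Algebra.Lie.Engel
import Mathlib.RingTheory.Noetherian.Basic

set_option autoImplicit false
universe u v
open PLie

namespace Groth.Agent.S14873

theorem ad_iterate_pmap
    {k : Type*} [Field k] {p : ℕ} [CharP k p]
    {L : Type*} [LieRing L] [LieAlgebra k L]
    (φ : PLie.PMap k p L) (x : L) (n : ℕ) :
    LieAlgebra.ad k L (φ.toFun^[n] x) = LieAlgebra.ad k L x ^ (p ^ n) := by
  induction n with
  | zero => simp
  | succ n ih =>
    rw [Function.iterate_succ_apply', φ.ad_map, ih, ← pow_mul, pow_succ]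

theorem isNilpotent_ad_of_isPNilpotent
    {k : Type*} [Field k] {p : ℕ} [CharP k p]
    {L : Type*} [LieRing L] [LieAlgebra k L]
    (φ : PLie.PMap k p L) (x : L) (hx : PLie.IsPNilpotent φ x) :
    IsNilpotent (LieAlgebra.ad k L x) := by
  obtain ⟨n, hn⟩ := hx
  refine ⟨p ^ n, ?_⟩
  rw [← ad_iterate_pmap, hn, map_zero]

theorem coe_ad_pow {k : Type*} [Field k] {L : Type*} [LieRing L] [LieAlgebra k L]
    (I : LieIdeal k L) (y z : I) (n : ℕ) :
    (((LieAlgebra.ad k I y) ^ n) z : L) = ((LieAlgebra.ad k L (y : L)) ^ n) (z : L) := by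
  induction n generalizing z with
  | zero => simp
  | succ n ih =>
    rw [pow_succ, Module.End.mul_apply, ih, pow_succ, Module.End.mul_apply]
    rfl

theorem isNilpotent_ideal_of_ad_nilpotent
    {k : Type*} [Field k] {L : Type*} [LieRing L] [LieAlgebra k L] [Module.Finite k L]
    (I : LieIdeal k L) (h : ∀ x ∈ I, IsNilpotent (LieAlgebra.ad k L x)) :
    LieRing.IsNilpotent I := by
  rw [LieAlgebra.isNilpotent_iff_forall (R := k)]
  rintro ⟨y, hy⟩
  obtain ⟨n, hn⟩ := h y hy
  refine ⟨n, ?_⟩
  ext z
  rw [coe_ad_pow, hn]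
  simp

/-- Let `L` be a finite-dimensional Lie algebra over a field of characteristic `p` equipped with a
`p`-mapping `φ`, and let `I` be an ideal of `L` stable under `φ` all of whose elements are
`p`-nilpotent (for instance the `p`-radical, the largest such ideal). Then `I` is nilpotent as a Lie
ring, hence lies in the nilradical of `L`. (The published item also records that the nilradical lies
in the solvable radical, which is immediate since nilpotent ideals are solvable.) -/
theorem result
    (k : Type u) [Field k] (p : ℕ) [Fact p.Prime] [CharP k p]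
    (L : Type v) [LieRing L] [LieAlgebra k L] [Module.Finite k L]
    (φ : PLie.PMap k p L) (I : LieIdeal k L) (hsub : ∀ x ∈ I, φ x ∈ I)
    (hnil : ∀ x ∈ I, PLie.IsPNilpotent φ x) : LieRing.IsNilpotent I := by
  exact isNilpotent_ideal_of_ad_nilpotent I
    (fun x hx => isNilpotent_ad_of_isPNilpotent φ x (hnil x hx))

end Groth.Agent.S14873
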