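import Groth.Statements.S14874
import Groth.Agent.Lib.Helper22PLie

set_option autoImplicit false
universe u v
open PLie

namespace Groth.Agent.S14874

/-- Let `L` be a finite-dimensional Lie algebra over a field of characteristic `p` equipped with a
`p`-mapping `φ`. Let `N` be the nilradical of `L` (the ideal nilpotent as a Lie ring that contains
every such ideal) and `P` its `p`-radical (the largest ideal stable under `φ` all of whose elements
are `p`-nilpotent). Then `N = P` if and only if the centre of `L` is contained in `P`. -/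
theorem result
    (k : Type u) [Field k] (p : ℕ) [Fact p.Prime] [CharP k p]
    (L : Type v) [LieRing L] [LieAlgebra k L] [Module.Finite k L]
    (φ : PLie.PMap k p L)
    (N : LieIdeal k L) (hN : LieRing.IsNilpotent N)
    (hNmax : ∀ I : LieIdeal k L, LieRing.IsNilpotent I → I ≤ N)
    (P : LieIdeal k L) (hPsub : ∀ x ∈ P, φ x ∈ P) (hPnil : ∀ x ∈ P, PLie.IsPNilpotent φ x)
    (hPmax : ∀ J : LieIdeal k L, (∀ x ∈ J, φ x ∈ J) → (∀ x ∈ J, PLie.IsPNilpotent φ x) → J ≤ P) :
    N = P ↔ LieAlgebra.center k L ≤ P := by
  constructor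
  · intro h
    rw [← h]
    exact hNmax (LieAlgebra.center k L) inferInstance
  · intro hc
    apply le_antisymm
    · apply hPmax N (Groth.Agent.Lib.Helper22.pmap_mem_of_isNilpotent_max φ N hN hNmax)
      intro x hx
      obtain ⟨M, hM⟩ := Groth.Agent.Lib.Helper22.isNilpotent_ad_of_mem N hN x hx
      have hp2 : 1 < p := (Fact.out : p.Prime).one_lt
      have hM' : LieAlgebra.ad k L x ^ (p ^ M) = 0 :=
        pow_eq_zero_of_le (Nat.lt_pow_self hp2).le hM
      rw [← Groth.Agent.Lib.Helper22.ad_iterate_pmap φ x M] at hM'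
      have hcen : φ.toFun^[M] x ∈ LieAlgebra.center k L := by
        rw [LieModule.mem_maxTrivSubmodule]
        intro y
        rw [← lie_skew, neg_eq_zero, ← LieAlgebra.ad_apply (R := k), hM', LinearMap.zero_apply]
      obtain ⟨m, hm⟩ := hPnil _ (hc hcen)
      exact ⟨m + M, by rw [Function.iterate_add_apply, hm]⟩
    · exact hNmax P (Groth.Agent.Lib.Helper22.isNilpotent_ideal_of_ad_nilpotent P
        (fun x hx => Groth.Agent.Lib.Helper22.isNilpotent_ad_of_isPNilpotent φ x (hPnil x hx)))

end Groth.Agent.S14874
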