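import Groth.Statements.S14875
import Mathlib
-- import your own Groth.Agent.* helpers here

set_option autoImplicit false
set_option linter.style.haveILetI false
set_option linter.unusedSectionVars false
universe u v
open PLie

namespace Groth.Agent.S14875

section
variable {k : Type u} [Field k] {p : ℕ} [CharP k p]
  {L : Type v} [LieRing L] [LieAlgebra k L]

lemma ad_iterate (φ : PLie.PMap k p L) (x : L) (n : ℕ) :
    LieAlgebra.ad k L (φ.toFun^[n] x) = (LieAlgebra.ad k L x) ^ (p ^ n) := by
  induction n with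
  | zero => simp
  | succ n ih =>
    rw [Function.iterate_succ_apply', φ.ad_map, ih, ← pow_mul, pow_succ]

lemma ad_nilpotent_of_pnilpotent (φ : PLie.PMap k p L) (x : L) (hx : PLie.IsPNilpotent φ x) :
    IsNilpotent (LieAlgebra.ad k L x) := by
  obtain ⟨n, hn⟩ := hx
  refine ⟨p ^ n, ?_⟩
  rw [← ad_iterate, hn, map_zero]

lemma key (U H : LieSubalgebra k L) (hUH : ∀ h ∈ H, ∀ u ∈ U, ⁅h, u⁆ ∈ U) (h : L) (hh : h ∈ H)
    (n : ℕ) :
    ∀ w ∈ (LieModule.lowerCentralSeries k ↥U L n), ⁅h, w⁆ ∈ LieModule.lowerCentralSeries k ↥U L n := by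
  induction n with
  | zero => intro w _; simp
  | succ n ih =>
    intro w hw
    rw [LieModule.lowerCentralSeries_succ] at hw ⊢
    rw [← LieSubmodule.mem_toSubmodule, LieSubmodule.lieIdeal_oper_eq_linear_span'] at hw ⊢
    refine Submodule.span_induction ?_ ?_ ?_ ?_ hw
    · rintro _ ⟨u, -, w', hw', rfl⟩
      have : ⁅h, ⁅u, w'⁆⁆ = ⁅(⟨⁅h, (u:L)⁆, hUH h hh u u.2⟩ : ↥U), w'⁆ + ⁅u, ⁅h, w'⁆⁆ := by
        show ⁅h, ⁅(u:L), w'⁆⁆ = ⁅⁅h, (u:L)⁆, w'⁆ + ⁅(u:L), ⁅h, w'⁆⁆
        exact leibniz_lie h (u:L) w'
      rw [this]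
      exact Submodule.add_mem _ (Submodule.subset_span ⟨_, trivial, w', hw', rfl⟩)
        (Submodule.subset_span ⟨u, trivial, _, ih w' hw', rfl⟩)
    · simp
    · intro a b _ _ ha hb; rw [lie_add]; exact Submodule.add_mem _ ha hb
    · intro c a _ ha; rw [lie_smul]; exact Submodule.smul_mem _ c ha

end


/-- Let `L` be a finite-dimensional Lie algebra over a field of characteristic `p` equipped with a
`p`-mapping `φ`, whose Killing form is non-degenerate. Let `U` and `H` be Lie subalgebras of `L`
such that `H` is the normaliser of `U`, `U` is the set of elements of `H` that lie in the solvable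
radical of `H` and are `p`-nilpotent, and the orthogonal of `U` for the Killing form is closed under
the bracket. Then `U` is the orthogonal of `H` for the Killing form. (The published statement is for
the Lie algebra of a reductive group over a field of characteristic `p` with its canonical
`p`-structure; this row states it for any finite-dimensional Lie algebra with a `p`-mapping.) -/
theorem result
    (k : Type u) [Field k] (p : ℕ) [Fact p.Prime] [CharP k p]
    (L : Type v) [LieRing L] [LieAlgebra k L] [Module.Finite k L]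
    (φ : PLie.PMap k p L) (hκ : (killingForm k L).Nondegenerate)
    (U H : LieSubalgebra k L) (hH : H = U.normalizer)
    (hU : ∀ x : L, x ∈ U ↔ ∃ hx : x ∈ H, (⟨x, hx⟩ : ↥H) ∈ LieAlgebra.radical k ↥H ∧ PLie.IsPNilpotent φ x)
    (hperp : ∀ a b : L, (∀ y ∈ U, killingForm k L a y = 0) → (∀ y ∈ U, killingForm k L b y = 0) →
      ∀ y ∈ U, killingForm k L ⁅a, b⁆ y = 0) :
    ∀ x : L, x ∈ U ↔ ∀ h ∈ H, killingForm k L h x = 0 := by
  classical
  have hnorm : ∀ h ∈ H, ∀ u ∈ U, ⁅h, u⁆ ∈ U := by
    intro h hh u hu
    rw [hH, LieSubalgebra.mem_normalizer_iff] at hh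
    exact hh u hu
  have hcomm : ∀ a b : L, killingForm k L a b = killingForm k L b a :=
    LieModule.traceForm_comm k L L
  -- Engel
  have hnil : LieModule.IsNilpotent ↥U L := by
    refine LieAlgebra.isEngelian_of_isNoetherian (R := k) (L := ↥U) L ?_
    intro u
    have hu := ad_nilpotent_of_pnilpotent φ (u : L) ((hU u).mp u.2).2.2
    obtain ⟨n, hn⟩ := hu
    refine ⟨n, ?_⟩
    refine LinearMap.ext (fun w => ?_)
    have h2 : ∀ (m : ℕ) (w : L), ((LieModule.toEnd k ↥U L u) ^ m) w = ((LieAlgebra.ad k L (u:L)) ^ m) w := by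
      intro m
      induction m with
      | zero => intro w; simp
      | succ m ih =>
        intro w
        rw [pow_succ, pow_succ, Module.End.mul_apply, Module.End.mul_apply, ih]
        rfl
    rw [h2, hn]
  obtain ⟨N, hN⟩ := LieModule.IsNilpotent.nilpotent k ↥U L
  have h1 : ∀ x ∈ U, ∀ h ∈ H, killingForm k L h x = 0 := by
    intro x hx h hh
    show LieModule.traceForm k L L h x = 0
    rw [LieModule.traceForm_apply_apply]
    set T : Module.End k L := LieModule.toEnd k L L h ∘ₗ LieModule.toEnd k L L x with hT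
    have hTn : ∀ (n : ℕ) (w : L), (T ^ n) w ∈ LieModule.lowerCentralSeries k ↥U L n := by
      intro n
      induction n with
      | zero => intro w; simp
      | succ n ih =>
        intro w
        rw [pow_succ', Module.End.mul_apply]
        have hw := ih w
        have h3 : ⁅(⟨x, hx⟩ : ↥U), (T ^ n) w⁆ ∈ LieModule.lowerCentralSeries k ↥U L (n + 1) := by
          rw [LieModule.lowerCentralSeries_succ]
          exact LieSubmodule.lie_mem_lie (LieSubmodule.mem_top _) hw
        exact key U H hnorm h hh (n + 1) _ h3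
    have hTnil : IsNilpotent T := by
      refine ⟨N, LinearMap.ext (fun w => ?_)⟩
      have := hTn N w
      rw [hN] at this
      simpa using this
    exact (LinearMap.isNilpotent_trace_of_isNilpotent hTnil).eq_zero
  intro x
  refine ⟨fun hx h hh => h1 x hx h hh, fun hx => ?_⟩
  set B : LinearMap.BilinForm k L := killingForm k L with hB
  have hrefl : B.IsRefl := (LieModule.traceForm_isSymm k L L).isRefl
  have hP : ∀ a ∈ B.orthogonal U.toSubmodule, a ∈ H := by
    intro a ha
    rw [hH, LieSubalgebra.mem_normalizer_iff]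
    intro u hu
    have hmem : ⁅a, u⁆ ∈ B.orthogonal (B.orthogonal U.toSubmodule) := by
      rw [LinearMap.BilinForm.mem_orthogonal_iff]
      intro b hb
      show B b ⁅a, u⁆ = 0
      rw [hB, ← LieModule.traceForm_apply_lie_apply]
      have hb' : ∀ y ∈ U, killingForm k L b y = 0 := fun y hy => by
        rw [hcomm]; exact (LinearMap.BilinForm.mem_orthogonal_iff.mp hb) y hy
      have ha' : ∀ y ∈ U, killingForm k L a y = 0 := fun y hy => by
        rw [hcomm]; exact (LinearMap.BilinForm.mem_orthogonal_iff.mp ha) y hy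
      exact hperp b a hb' ha' u hu
    rwa [LinearMap.BilinForm.orthogonal_orthogonal hκ hrefl] at hmem
  have hmem : x ∈ B.orthogonal (B.orthogonal U.toSubmodule) := by
    rw [LinearMap.BilinForm.mem_orthogonal_iff]
    intro a ha
    exact hx a (hP a ha)
  rwa [LinearMap.BilinForm.orthogonal_orthogonal hκ hrefl] at hmem

end Groth.Agent.S14875
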