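import Groth.Statements.S14877
import Mathlib
import Groth.Agent.Lib.Helper12BundleMap
import Groth.Agent.Lib.Helper12Act
import Groth.Agent.Lib.Helper12Torsor
import Groth.Agent.S14276
import Groth.Agent.S16227

set_option autoImplicit false
universe u
open CategoryTheory MonoidalCategory CartesianMonoidalCategory MonObj GrpObj AlgebraicGeometry CategoryTheory.Limits
open AlgGrp

namespace Groth.Agent.S14877


open Groth.Agent.Lib.Helper12

/-- `pullback.snd f c` is an isomorphism if points of `C'` lift uniquely along `f`. -/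
lemma isIso_snd_of_existsUnique {C : Type*} [Category C] [HasPullbacks C] {A B C' : C}
    (f : A ⟶ B) (c : C' ⟶ B)
    (H : ∀ {T : C} (t : T ⟶ C'), ∃! a : T ⟶ A, a ≫ f = t ≫ c) : IsIso (pullback.snd f c) := by
  obtain ⟨a₀, ha₀, -⟩ := H (𝟙 C')
  rw [Category.id_comp] at ha₀
  refine ⟨pullback.lift a₀ (𝟙 C') (by rw [ha₀, Category.id_comp]), ?_, pullback.lift_snd _ _ _⟩
  apply pullback.hom_ext
  · rw [Category.assoc, pullback.lift_fst, Category.id_comp]
    obtain ⟨a, -, hau⟩ := H (pullback.snd f c)
    rw [hau (pullback.snd f c ≫ a₀) (by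
        change (pullback.snd f c ≫ a₀) ≫ f = pullback.snd f c ≫ c
        rw [Category.assoc, ha₀]),
      hau (pullback.fst f c) pullback.condition]
  · rw [Category.assoc, pullback.lift_snd, Category.id_comp, Category.comp_id]

/-- simple transitivity on points factoring through a trivialising base change. -/
lemma existsUnique_of_trivialisation {S : Scheme.{u}} {G P X : Over S} [GrpObj G]
    (a : AlgGrp.Action G P) (π : P ⟶ X) {V : Over S} (j : V ⟶ X) (s : V ⟶ P)
    (hpb : IsPullback (fst V G) (lift (snd V G) (fst V G ≫ s) ≫ a.act) j π)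
    {W : Over S} (v : W ⟶ V) (p₁ p₂ : W ⟶ P) (h₁ : p₁ ≫ π = v ≫ j) (h₂ : p₂ ≫ π = v ≫ j) :
    ∃! g : W ⟶ G, lift g p₂ ≫ a.act = p₁ := by
  have hθ : ∀ (h : W ⟶ G), lift v h ≫ (lift (snd V G) (fst V G ≫ s) ≫ a.act) =
      lift h (v ≫ s) ≫ a.act := by
    intro h
    rw [← Category.assoc]
    congr 1
    apply CartesianMonoidalCategory.hom_ext <;> simp
  have hA : ∀ q : W ⟶ P, q ≫ π = v ≫ j → ∃! h : W ⟶ G, lift h (v ≫ s) ≫ a.act = q := by
    intro q hq
    refine ⟨hpb.lift v q hq.symm ≫ snd V G, ?_, ?_⟩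
    · have e : hpb.lift v q hq.symm = lift v (hpb.lift v q hq.symm ≫ snd V G) := by
        apply CartesianMonoidalCategory.hom_ext
        · rw [lift_fst]; exact hpb.lift_fst _ _ _
        · rw [lift_snd]
      change lift (hpb.lift v q hq.symm ≫ snd V G) (v ≫ s) ≫ a.act = q
      rw [← hθ, ← e]; exact hpb.lift_snd _ _ _
    · intro h hh
      have : lift v h = hpb.lift v q hq.symm := by
        apply hpb.hom_ext
        · rw [lift_fst, hpb.lift_fst]
        · rw [hθ, hh, hpb.lift_snd]
      rw [← this, lift_snd]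
  obtain ⟨k₁, hk₁, hu₁⟩ := hA p₁ h₁
  obtain ⟨k₂, hk₂, hu₂⟩ := hA p₂ h₂
  have hk₁ : lift k₁ (v ≫ s) ≫ a.act = p₁ := hk₁
  have hk₂ : lift k₂ (v ≫ s) ≫ a.act = p₂ := hk₂
  refine ⟨k₁ * k₂⁻¹, ?_, ?_⟩
  · change lift (k₁ * k₂⁻¹) p₂ ≫ a.act = p₁
    rw [← hk₂, ← act_mul, inv_mul_cancel_right, hk₁]
  · intro g hg
    have := hu₁ (g * k₂) (by
      change lift (g * k₂) (v ≫ s) ≫ a.act = p₁
      rw [act_mul, hk₂, hg])
    rw [← this, mul_inv_cancel_right]



/-- Over an algebraically closed field k of characteristic zero, let G be an algebraic group (a smooth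
k-group scheme of finite type) acting on a variety P (reduced, separated, of finite type over k),
and let π : P → X be a geometric quotient by this action onto a variety X: π is invariant,
surjective and open, the map (g, p) ↦ (g·p, p) from G × P to P ×_X P is surjective on points, and
for every open U of X the sections of O_X over U are exactly the invariant sections of O_P over
π⁻¹U. Suppose the bundle is locally isotrivial: every point of X has an open neighbourhood U with a
finite étale surjective morphism U' → U and a morphism s : U' → P lifting U' → U → X such that (u,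
g) ↦ g·s(u) exhibits U' × G as the fibre product U' ×_X P. Then the bundle is principal: (g, p) ↦
(g·p, p) is an isomorphism of G × P onto P ×_X P, and π is flat. (The published definition of an
étale covering asks only for a finite étale morphism; this row also requires it to be surjective,
since an empty cover would make every bundle isotrivial.) -/
theorem result (k : Type u) [Field k] [IsAlgClosed k] [CharZero k]
    (G P X : Over (Spec (CommRingCat.of k))) [GrpObj G] [Smooth G.hom] [QuasiCompact G.hom]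
    [LocallyOfFiniteType P.hom] [QuasiCompact P.hom] [IsSeparated P.hom] [IsReduced P.left]
    [LocallyOfFiniteType X.hom] [QuasiCompact X.hom] [IsSeparated X.hom] [IsReduced X.left]
    (a : AlgGrp.Action G P) (π : P ⟶ X) (hinv : GIT.IsInvariant a π)
    (hq : Function.Surjective π.left.base ∧ IsOpenMap π.left.base ∧
      Function.Surjective (GIT.PsiY a π hinv).base ∧
      ∀ U : X.left.Opens, Function.Injective (π.left.app U) ∧
        Set.range (π.left.app U) = {f | GIT.IsInvSection a π U f})
    (hli : ∀ x : ↥X.left, ∃ (U : X.left.Opens) (_ : x ∈ U) (U' : Scheme.{u}) (φ : U' ⟶ ↑U)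
      (_ : IsFinite φ) (_ : Etale φ) (_ : Surjective φ) (s : Over.mk (φ ≫ U.ι ≫ X.hom) ⟶ P),
      s.left ≫ π.left = φ ≫ U.ι ∧
      IsPullback (fst (Over.mk (φ ≫ U.ι ≫ X.hom)) G).left (lift (snd (Over.mk (φ ≫ U.ι ≫ X.hom)) G) (fst (Over.mk (φ ≫ U.ι ≫ X.hom)) G ≫ s) ≫ a.act).left
        (φ ≫ U.ι) π.left) :
    IsIso (GIT.PsiY a π hinv) ∧ Flat π.left := by
  classical
  choose U hxU V φ hfin het hsurj s hs hpb using hli
  let jj : ∀ x : X.left, V x ⟶ X.left := fun x => φ x ≫ (U x).ι
  let R : Presieve X.left := Presieve.ofArrows V jj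
  have hjet : ∀ x, Etale (jj x) := fun x => by
    haveI := het x
    change Etale (φ x ≫ (U x).ι)
    infer_instance
  have hR : R ∈ Scheme.etalePrecoverage X.left := by
    unfold Scheme.etalePrecoverage
    refine Groth.Agent.S14276.mem_precoverage_iff'.2 ⟨?_, ?_⟩
    · intro x
      haveI := hsurj x
      obtain ⟨v, hv⟩ := (φ x).surjective ⟨x, hxU x⟩
      refine ⟨V x, jj x, ⟨x⟩, v, ?_⟩
      change (φ x ≫ (U x).ι) v = x
      rw [Scheme.Hom.comp_apply, hv]
      rfl
    · rintro Y g ⟨x⟩
      exact hjet x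
  have hRq : R ∈ Scheme.fpqcPrecoverage X.left :=
    Groth.Agent.S16227.etalePrecoverage_le_fpqcPrecoverage _ hR
  let Vo : ∀ x : X.left, Over (Spec (CommRingCat.of k)) :=
    fun x => Over.mk (φ x ≫ (U x).ι ≫ X.hom)
  let j : ∀ x, Vo x ⟶ X := fun x => Over.homMk (jj x) (by simp [jj, Vo])
  have hpbO : ∀ x, IsPullback (fst (Vo x) G)
      (lift (snd (Vo x) G) (fst (Vo x) G ≫ s x) ≫ a.act) (j x) π := by
    intro x
    refine IsPullback.of_map (Over.forget _) ?_ (hpb x)
    ext
    exact (hpb x).w
  constructor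
  · -- PsiY iso
    obtain ⟨Ψ, hΨ⟩ : ∃ Ψ, Ψ = GIT.PsiY a π hinv := ⟨_, rfl⟩
    rw [← hΨ]
    have hΨ1 : Ψ ≫ pullback.fst π.left π.left = a.act.left := by
      rw [hΨ]; exact pullback.lift_fst _ _ _
    have hΨ2 : Ψ ≫ pullback.snd π.left π.left = (snd G P).left := by
      rw [hΨ]; exact pullback.lift_snd _ _ _
    let PPhom : pullback π.left π.left ⟶ X.left := pullback.fst π.left π.left ≫ π.left
    have hR' : R.pullbackArrows PPhom ∈ Scheme.fpqcPrecoverage _ :=
      Precoverage.pullbackArrows_mem PPhom hRq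
    have key : (MorphismProperty.isomorphisms Scheme.{u}) Ψ := by
      refine of_mem_fpqcPrecoverage (P := MorphismProperty.isomorphisms Scheme.{u})
        inferInstance Ψ _ hR' ?_
      rintro Y' _ ⟨Z, k', ⟨x⟩⟩
      change IsIso (pullback.snd Ψ (pullback.snd (jj x) PPhom))
      apply isIso_snd_of_existsUnique
      intro T t
      obtain ⟨v, hv⟩ : ∃ v, v = t ≫ pullback.fst (jj x) PPhom := ⟨_, rfl⟩
      obtain ⟨pp, hpp⟩ : ∃ pp, pp = t ≫ pullback.snd (jj x) PPhom := ⟨_, rfl⟩
      obtain ⟨p₁, hp₁⟩ : ∃ p₁, p₁ = pp ≫ pullback.fst π.left π.left := ⟨_, rfl⟩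
      obtain ⟨p₂, hp₂⟩ : ∃ p₂, p₂ = pp ≫ pullback.snd π.left π.left := ⟨_, rfl⟩
      have e₁ : p₁ ≫ π.left = v ≫ jj x := by
        have hc : pullback.fst (jj x) PPhom ≫ jj x =
            pullback.snd (jj x) PPhom ≫ pullback.fst π.left π.left ≫ π.left := pullback.condition
        rw [hp₁, hpp, hv, Category.assoc, Category.assoc, Category.assoc, hc]
      have e₂ : p₂ ≫ π.left = v ≫ jj x := by
        rw [← e₁, hp₁, hp₂, Category.assoc, Category.assoc, pullback.condition]
      rw [← hpp]
      let T' : Over (Spec (CommRingCat.of k)) := Over.mk (v ≫ (Vo x).hom)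
      let v' : T' ⟶ Vo x := Over.homMk v rfl
      have hw₁ : p₁ ≫ P.hom = T'.hom := by
        rw [← Over.w π, reassoc_of% e₁]
        rfl
      have hw₂ : p₂ ≫ P.hom = T'.hom := by
        rw [← Over.w π, reassoc_of% e₂]
        rfl
      let p₁' : T' ⟶ P := Over.homMk p₁ hw₁
      let p₂' : T' ⟶ P := Over.homMk p₂ hw₂
      obtain ⟨g, hg, hgu⟩ := existsUnique_of_trivialisation a π (j x) (s x) (hpbO x) v' p₁' p₂'
        (by ext; exact e₁) (by ext; exact e₂)
      have hg : lift g p₂' ≫ a.act = p₁' := hg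
      refine ⟨(lift g p₂').left, ?_, ?_⟩
      · change (lift g p₂').left ≫ Ψ = pp
        apply pullback.hom_ext
        · rw [Category.assoc, hΨ1, ← Over.comp_left, hg]
          exact hp₁
        · rw [Category.assoc, hΨ2, ← Over.comp_left, lift_snd]
          exact hp₂
      · intro a₂ ha₂
        have ha₂ : a₂ ≫ Ψ = pp := ha₂
        have h2 : a₂ ≫ (snd G P).left = p₂ := by
          rw [← hΨ2, reassoc_of% ha₂, hp₂]
        have h1 : a₂ ≫ a.act.left = p₁ := by
          rw [← hΨ1, reassoc_of% ha₂, hp₁]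
        have hw : a₂ ≫ (G ⊗ P).hom = T'.hom := by
          rw [← Over.w (snd G P), reassoc_of% h2]
          exact hw₂
        let a₂' : T' ⟶ G ⊗ P := Over.homMk a₂ hw
        have h2' : a₂' ≫ snd G P = p₂' := by
          ext
          exact h2
        have e3 : lift (a₂' ≫ fst G P) p₂' = a₂' := by
          apply CartesianMonoidalCategory.hom_ext
          · rw [lift_fst]
          · rw [lift_snd, h2']
        have e := hgu (a₂' ≫ fst G P) (by
          change lift (a₂' ≫ fst G P) p₂' ≫ a.act = p₁'
          rw [e3]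
          ext
          exact h1)
        have e4 : a₂' = lift g p₂' := by
          rw [← e3, e]
        exact congrArg (fun m => m.left) e4
    exact key
  · -- flat
    refine of_mem_fpqcPrecoverage (P := @Flat) descendsAlong_flat π.left R hRq ?_
    rintro Y' _ ⟨x⟩
    have h3 : pullback.snd π.left (jj x) =
        (hpb x).flip.isoPullback.inv ≫ (fst (Vo x) G).left := by
      rw [Iso.eq_inv_comp]
      exact (hpb x).flip.isoPullback_hom_snd
    rw [h3]
    haveI : Flat (fst (Vo x) G).left := by
      change Flat (pullback.fst (Vo x).hom G.hom)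
      infer_instance
    infer_instance

end Groth.Agent.S14877
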