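import Groth.Statements.S14879
import Mathlib

set_option autoImplicit false
universe u
open Finset
open AlgGrp

namespace Groth.Agent.S14879

open Matrix Equiv in
/-- block permutation -/
noncomputable def blockPerm {p r : ℕ} (σ : Perm (Fin p)) (ρ : Perm (Fin r)) : Perm (Fin (p + r)) :=
  finSumFinEquiv.permCongr (Perm.sumCongr σ ρ)

open Matrix Equiv in
theorem blockPerm_castAdd {p r : ℕ} (σ : Perm (Fin p)) (ρ : Perm (Fin r)) (i : Fin p) :
    blockPerm σ ρ (Fin.castAdd r i) = Fin.castAdd r (σ i) := by
  simp [blockPerm, Equiv.permCongr_apply]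

open Matrix Equiv in
theorem blockPerm_natAdd {p r : ℕ} (σ : Perm (Fin p)) (ρ : Perm (Fin r)) (j : Fin r) :
    blockPerm σ ρ (Fin.natAdd p j) = Fin.natAdd p (ρ j) := by
  simp [blockPerm, Equiv.permCongr_apply]

open Matrix Equiv in
theorem sign_blockPerm {p r : ℕ} (σ : Perm (Fin p)) (ρ : Perm (Fin r)) :
    Perm.sign (blockPerm σ ρ) = Perm.sign σ * Perm.sign ρ := by
  rw [blockPerm, Perm.sign_permCongr, Perm.sign_sumCongr]

open Matrix Equiv in
theorem det_eq_sum_cols {k : Type*} [CommRing k] {m : ℕ} (N : Matrix (Fin m) (Fin m) k) :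
    N.det = ∑ σ : Perm (Fin m), (((Perm.sign σ : ℤˣ) : ℤ) : k) * ∏ i, N i (σ i) := by
  rw [← Matrix.det_transpose, Matrix.det_apply']
  rfl

open Matrix Equiv in
theorem key1 {k : Type*} [CommRing k] (p r : ℕ) (M : Matrix (Fin (p + r)) (Fin (p + r)) k)
    (c : Fin (p + r) → Fin (p + r)) :
    ∑ π : Perm (Fin (p + r)), (((Perm.sign π : ℤˣ) : ℤ) : k) *
      (M.submatrix (c ∘ Fin.castAdd r) (π.symm ∘ Fin.castAdd r)).det *
      (M.submatrix (c ∘ Fin.natAdd p) (π.symm ∘ Fin.natAdd p)).det =
    ((p.factorial * r.factorial : ℕ) : k) * (M.submatrix c id).det := by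
  classical
  have h1 : ∀ π : Perm (Fin (p + r)), (((Perm.sign π : ℤˣ) : ℤ) : k) *
      (M.submatrix (c ∘ Fin.castAdd r) (π.symm ∘ Fin.castAdd r)).det *
      (M.submatrix (c ∘ Fin.natAdd p) (π.symm ∘ Fin.natAdd p)).det =
      ∑ σ : Perm (Fin p), ∑ ρ : Perm (Fin r),
        (((Perm.sign (π⁻¹ * blockPerm σ ρ) : ℤˣ) : ℤ) : k) *
          ∏ l, M (c l) ((π⁻¹ * blockPerm σ ρ) l) := by
    intro π
    rw [det_eq_sum_cols, det_eq_sum_cols, mul_assoc, Finset.sum_mul_sum, Finset.mul_sum]
    refine Finset.sum_congr rfl (fun σ _ => ?_)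
    rw [Finset.mul_sum]
    refine Finset.sum_congr rfl (fun ρ _ => ?_)
    rw [Fin.prod_univ_add]
    simp only [Perm.coe_mul, Function.comp_apply, blockPerm_castAdd, blockPerm_natAdd,
      submatrix_apply, Perm.sign_mul, Perm.sign_symm, sign_blockPerm, Units.val_mul, Int.cast_mul,
      Perm.inv_def]
    ring
  rw [Finset.sum_congr rfl (fun π _ => h1 π), Finset.sum_comm]
  have h2 : ∀ σ : Perm (Fin p), ∑ π : Perm (Fin (p + r)), ∑ ρ : Perm (Fin r),
        (((Perm.sign (π⁻¹ * blockPerm σ ρ) : ℤˣ) : ℤ) : k) *
          ∏ l, M (c l) ((π⁻¹ * blockPerm σ ρ) l) =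
      (r.factorial : k) * (M.submatrix c id).det := by
    intro σ
    rw [Finset.sum_comm]
    have h3 : ∀ ρ : Perm (Fin r), ∑ π : Perm (Fin (p + r)),
        (((Perm.sign (π⁻¹ * blockPerm σ ρ) : ℤˣ) : ℤ) : k) *
          ∏ l, M (c l) ((π⁻¹ * blockPerm σ ρ) l) = (M.submatrix c id).det := by
      intro ρ
      rw [det_eq_sum_cols]
      exact Fintype.sum_equiv ((Equiv.inv (Perm (Fin (p + r)))).trans
        (Equiv.mulRight (blockPerm σ ρ))) _ _ (fun π => rfl)
    rw [Finset.sum_congr rfl (fun ρ _ => h3 ρ), Finset.sum_const, Finset.card_univ,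
      Fintype.card_perm, Fintype.card_fin, nsmul_eq_mul]
  rw [Finset.sum_congr rfl (fun σ _ => h2 σ), Finset.sum_const, Finset.card_univ,
    Fintype.card_perm, Fintype.card_fin, nsmul_eq_mul, Nat.cast_mul, mul_assoc]

theorem castAdd_lt_natAdd' {p r : ℕ} (i : Fin p) (j : Fin r) : Fin.castAdd r i < Fin.natAdd p j := by
  rw [Fin.lt_def, Fin.val_castAdd, Fin.val_natAdd]
  have := i.2
  omega

theorem castAdd_lt_castAdd_iff' {p r : ℕ} (i j : Fin p) :
    Fin.castAdd r i < Fin.castAdd r j ↔ i < j := by
  rw [Fin.lt_def, Fin.val_castAdd, Fin.val_castAdd, Fin.lt_def]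

open Matrix Equiv in
theorem sign_append {p r : ℕ} (A : Finset (Fin (p + r))) (hA : A.card = p) (hB : Aᶜ.card = r)
    (γ : Perm (Fin (p + r)))
    (hγ : ⇑γ = Fin.append (A.orderEmbOfFin hA) (Aᶜ.orderEmbOfFin hB)) :
    Perm.sign γ = (-1) ^ ((A ×ˢ Aᶜ).filter (fun ab => ab.2 < ab.1)).card := by
  classical
  have hγl : ∀ i, γ (Fin.castAdd r i) = A.orderEmbOfFin hA i := fun i => by
    rw [hγ, Fin.append_left]
  have hγr : ∀ j, γ (Fin.natAdd p j) = Aᶜ.orderEmbOfFin hB j := fun j => by
    rw [hγ, Fin.append_right]
  rw [Perm.sign_eq_prod_prod_Iio, Finset.prod_sigma', Finset.prod_ite, Finset.prod_const_one,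
    one_mul, Finset.prod_const]
  congr 1
  refine Finset.card_bij (fun x _ => (γ x.2, γ x.1)) ?_ ?_ ?_
  · rintro ⟨j, i⟩ hx
    simp only [Finset.mem_filter, Finset.mem_sigma, Finset.mem_univ, Finset.mem_Iio, true_and,
      not_lt] at hx
    obtain ⟨hij, hle⟩ := hx
    have hlt : γ j < γ i := lt_of_le_of_ne hle (fun h => hij.ne' (γ.injective h))
    simp only [Finset.mem_filter, Finset.mem_product]
    refine ⟨?_, hlt⟩
    induction i using Fin.addCases with
    | left i' =>
      induction j using Fin.addCases with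
      | left j' =>
        exfalso
        rw [hγl, hγl, OrderEmbedding.lt_iff_lt] at hlt
        have : Fin.castAdd r i' < Fin.castAdd r j' := hij
        rw [castAdd_lt_castAdd_iff'] at this
        exact lt_asymm hlt this
      | right j' =>
        rw [hγl, hγr]
        exact ⟨Finset.orderEmbOfFin_mem _ _ _, Finset.orderEmbOfFin_mem _ _ _⟩
    | right i' =>
      induction j using Fin.addCases with
      | left j' =>
        exfalso
        exact lt_asymm hij (castAdd_lt_natAdd' _ _)
      | right j' =>
        exfalso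
        rw [hγr, hγr, OrderEmbedding.lt_iff_lt] at hlt
        have : Fin.natAdd p i' < Fin.natAdd p j' := hij
        rw [Fin.natAdd_lt_natAdd_iff] at this
        exact lt_asymm hlt this
  · rintro ⟨j, i⟩ _ ⟨j', i'⟩ _ h
    simp only [Prod.mk.injEq, EmbeddingLike.apply_eq_iff_eq] at h
    obtain ⟨rfl, rfl⟩ := h
    rfl
  · rintro ⟨x, y⟩ hxy
    simp only [Finset.mem_filter, Finset.mem_product] at hxy
    obtain ⟨⟨hx, hy⟩, hlt⟩ := hxy
    have hx' : x ∈ Set.range (A.orderEmbOfFin hA) := by
      rw [Finset.range_orderEmbOfFin]; exact hx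
    have hy' : y ∈ Set.range (Aᶜ.orderEmbOfFin hB) := by
      rw [Finset.range_orderEmbOfFin]; exact hy
    obtain ⟨i', rfl⟩ := hx'
    obtain ⟨j', rfl⟩ := hy'
    refine ⟨⟨Fin.natAdd p j', Fin.castAdd r i'⟩, ?_, ?_⟩
    · simp only [Finset.mem_filter, Finset.mem_sigma, Finset.mem_univ, Finset.mem_Iio, true_and,
        not_lt, hγl, hγr]
      exact ⟨castAdd_lt_natAdd' _ _, hlt.le⟩
    · simp only [hγl, hγr]

/-- Let k be a field of characteristic zero, n = p + r with p, r ≥ 1, M an n × n matrix over k, A a set
of p row indices and B a set of r row indices, both listed increasingly. For a permutation π of the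
indices, with permutation matrix P_π, let Y_A(M·P_π) be the minor of M·P_π on the rows A and the
first p columns, and Z_B(M·P_π) the minor on the rows B and the last r columns. Then the sum over
all π of sign(π)·Y_A(M·P_π)·Z_B(M·P_π) equals p!·r!·(−1)^N·det M when B is the complement of A,
where N is the number of pairs (a, b) with a in A, b outside A and b < a, and equals 0 otherwise.
Taking det M = 1 this says that the pairing (f, h) ↦ Σ_π sign(π) f(π) h(π) between the spans of the
left p-minors and of the right r-minors is invariant under left translation by matrices of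
determinant one and pairs Y_A with the signed complementary minor to p!·r!. (The published statement
asserts that the two families of minors are dual bases for this pairing, that is, the value 1 in
place of p!·r!; the p!·r! permutations preserving the two column blocks each contribute the same
signed term, so this row carries that factor, which is 1 only for n = 2.) -/
theorem result (k : Type u) [Field k] [CharZero k]
    (p r : ℕ) (hp : 1 ≤ p) (hr : 1 ≤ r) (M : Matrix (Fin (p + r)) (Fin (p + r)) k)
    (A : Finset (Fin (p + r))) (hA : A.card = p) (B : Finset (Fin (p + r))) (hB : B.card = r) :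
    ∑ π : Equiv.Perm (Fin (p + r)), (((Equiv.Perm.sign π : ℤˣ) : ℤ) : k) *
      ((M * π.permMatrix k).submatrix (A.orderEmbOfFin hA) (Fin.castAdd r)).det *
      ((M * π.permMatrix k).submatrix (B.orderEmbOfFin hB) (Fin.natAdd p)).det =
    if B = Aᶜ then ((p.factorial * r.factorial : ℕ) : k) *
      (-1 : k) ^ ((A ×ˢ Aᶜ).filter (fun ab => ab.2 < ab.1)).card * M.det else 0 := by
  classical
  have hM : ∀ π : Equiv.Perm (Fin (p + r)), M * π.permMatrix k = M.submatrix id π.symm :=
    fun π => PEquiv.mul_toMatrix_toPEquiv M π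
  let c : Fin (p + r) → Fin (p + r) := Fin.append (A.orderEmbOfFin hA) (B.orderEmbOfFin hB)
  have hcl : ∀ i, c (Fin.castAdd r i) = A.orderEmbOfFin hA i := fun i => Fin.append_left _ _ i
  have hcr : ∀ j, c (Fin.natAdd p j) = B.orderEmbOfFin hB j := fun j => Fin.append_right _ _ j
  have e1 : ∀ π : Equiv.Perm (Fin (p + r)),
      (M * π.permMatrix k).submatrix (A.orderEmbOfFin hA) (Fin.castAdd r) =
        M.submatrix (c ∘ Fin.castAdd r) (π.symm ∘ Fin.castAdd r) := by
    intro π
    rw [hM]
    ext i j
    simp [hcl]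
  have e2 : ∀ π : Equiv.Perm (Fin (p + r)),
      (M * π.permMatrix k).submatrix (B.orderEmbOfFin hB) (Fin.natAdd p) =
        M.submatrix (c ∘ Fin.natAdd p) (π.symm ∘ Fin.natAdd p) := by
    intro π
    rw [hM]
    ext i j
    simp [hcr]
  rw [Finset.sum_congr rfl (fun π _ => by rw [e1 π, e2 π]), key1]
  split_ifs with hBA
  · subst hBA
    have hinj : Function.Injective c := by
      intro l l' h
      induction l using Fin.addCases with
      | left i =>
        induction l' using Fin.addCases with
        | left i' =>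
          rw [hcl, hcl] at h
          rw [(A.orderEmbOfFin hA).injective h]
        | right j' =>
          exfalso
          rw [hcl, hcr] at h
          have h1 := Finset.orderEmbOfFin_mem A hA i
          have h2 := Finset.orderEmbOfFin_mem Aᶜ hB j'
          rw [← h, Finset.mem_compl] at h2
          exact h2 h1
      | right j =>
        induction l' using Fin.addCases with
        | left i' =>
          exfalso
          rw [hcl, hcr] at h
          have h1 := Finset.orderEmbOfFin_mem A hA i'
          have h2 := Finset.orderEmbOfFin_mem Aᶜ hB j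
          rw [h, Finset.mem_compl] at h2
          exact h2 h1
        | right j' =>
          rw [hcr, hcr] at h
          rw [(Aᶜ.orderEmbOfFin hB).injective h]
    let γ : Equiv.Perm (Fin (p + r)) := Equiv.ofBijective c (Finite.injective_iff_bijective.mp hinj)
    have hγ : ⇑γ = Fin.append (A.orderEmbOfFin hA) (Aᶜ.orderEmbOfFin hB) := rfl
    have hdet : (M.submatrix c id).det = (((Equiv.Perm.sign γ : ℤˣ) : ℤ) : k) * M.det :=
      Matrix.det_permute γ M
    rw [hdet, sign_append A hA hB γ hγ]
    push_cast
    ring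
  · have hninj : ¬ Function.Injective c := by
      intro hinj
      apply hBA
      apply Finset.eq_of_subset_of_card_le
      · intro x hx
        rw [Finset.mem_compl]
        intro hxA
        have hx' : x ∈ Set.range (A.orderEmbOfFin hA) := by
          rw [Finset.range_orderEmbOfFin]; exact hxA
        have hy' : x ∈ Set.range (B.orderEmbOfFin hB) := by
          rw [Finset.range_orderEmbOfFin]; exact hx
        obtain ⟨i, hi⟩ := hx'
        obtain ⟨j, hj⟩ := hy'
        have := hinj ((hcl i).trans (hi.trans (hj.symm.trans (hcr j).symm)))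
        exact absurd this (castAdd_lt_natAdd' i j).ne
      · rw [Finset.card_compl, Fintype.card_fin, hA, hB]
        omega
    rw [Function.Injective] at hninj
    push Not at hninj
    obtain ⟨l, l', hll, hne⟩ := hninj
    have : (M.submatrix c id).det = 0 := by
      apply Matrix.det_zero_of_row_eq hne
      funext j
      simp [Matrix.submatrix_apply, hll]
    rw [this, mul_zero]

end Groth.Agent.S14879
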