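import Groth.Statements.S14882
import Groth.Agent.Lib.Helper22Cart
import Mathlib.Tactic.Group

set_option autoImplicit false
universe u
open CategoryTheory MonoidalCategory CartesianMonoidalCategory MonObj GrpObj AlgebraicGeometry CategoryTheory.Limits
open AlgGrp

namespace Groth.Agent.S14882

section Abstract

variable {C : Type*} [Category C] [CartesianMonoidalCategory C]

theorem iso_iff_cohomologous {X G : C} [GrpObj G] {Γ : Type*} [Group Γ]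
    (ρ : Γ → (X ⟶ X))
    (φ φ' : Γ → (X ⟶ G))
    (lam lam' : Γ → (X ⊗ G ⟶ X ⊗ G))
    (hlam : ∀ (σ : Γ) (T : C) (x : T ⟶ X) (g : T ⟶ G),
      lift x g ≫ lam σ = lift (x ≫ ρ σ) ((x ≫ φ σ)⁻¹ * g))
    (hlam' : ∀ (σ : Γ) (T : C) (x : T ⟶ X) (g : T ⟶ G),
      lift x g ≫ lam' σ = lift (x ≫ ρ σ) ((x ≫ φ' σ)⁻¹ * g)) :
    (∃ Φ : X ⊗ G ⟶ X ⊗ G, IsIso Φ ∧ Φ ≫ fst X G = fst X G ∧
      (∀ (T : C) (x : T ⟶ X) (g h : T ⟶ G),
        lift x (g * h) ≫ Φ ≫ snd X G = (lift x g ≫ Φ ≫ snd X G) * h) ∧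
      ∀ σ : Γ, lam σ ≫ Φ = Φ ≫ lam' σ) ↔
    ∃ ψ : X ⟶ G, ∀ σ : Γ, φ σ = ψ⁻¹ * φ' σ * (ρ σ ≫ ψ) := by
  constructor
  · rintro ⟨Φ, -, h₁, h₂, h₃⟩
    have key := Groth.Agent.Lib.Helper22.equivariant_endo_eq Φ h₁ h₂
    obtain ⟨χ, hχ⟩ : ∃ χ : X ⟶ G, χ = lift (𝟙 X) 1 ≫ Φ ≫ snd X G := ⟨_, rfl⟩
    rw [← hχ] at key
    refine ⟨χ, fun σ => ?_⟩
    have e := congrArg (fun t => lift (𝟙 X) 1 ≫ t) (h₃ σ)
    beta_reduce at e
    have e' : lift (𝟙 X) 1 ≫ lam σ ≫ Φ = lift (𝟙 X) 1 ≫ Φ ≫ lam' σ := e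
    rw [← Category.assoc, hlam, key] at e'
    rw [← Category.assoc (lift (𝟙 X) 1) Φ, key, hlam'] at e'
    replace e := e'
    have e2 := congrArg (· ≫ snd X G) e
    simp only [lift_snd, Category.id_comp, _root_.mul_one] at e2
    -- e2 : (ρ σ ≫ χ) * (φ σ)⁻¹ = (φ' σ)⁻¹ * χ
    have e3 : (φ σ)⁻¹ = (ρ σ ≫ χ)⁻¹ * ((φ' σ)⁻¹ * χ) := by
      rw [← e2, _root_.inv_mul_cancel_left]
    rw [← inv_inj, e3]
    group
  · rintro ⟨ψ, hψ⟩
    have hΦ : ∀ (ψ : X ⟶ G) (T : C) (x : T ⟶ X) (g : T ⟶ G),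
        lift x g ≫ lift (fst X G) ((fst X G ≫ ψ) * snd X G) = lift x ((x ≫ ψ) * g) := by
      intro ψ T x g
      have := Groth.Agent.Lib.Helper22.lift_comp_lift_fst_mul (𝟙 X) ψ T x g
      rwa [Category.comp_id, Category.comp_id] at this
    refine ⟨lift (fst X G) ((fst X G ≫ ψ) * snd X G),
      ⟨lift (fst X G) ((fst X G ≫ ψ⁻¹) * snd X G), ?_, ?_⟩, ?_, ?_, ?_⟩
    · apply Groth.Agent.Lib.Helper22.hom_ext_points
      intro T x g
      rw [← Category.assoc, hΦ, hΦ, Category.comp_id, GrpObj.comp_inv, _root_.inv_mul_cancel_left]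
    · apply Groth.Agent.Lib.Helper22.hom_ext_points
      intro T x g
      rw [← Category.assoc, hΦ, hΦ, Category.comp_id, GrpObj.comp_inv, _root_.mul_inv_cancel_left]
    · rw [lift_fst]
    · intro T x g h
      rw [← Category.assoc, hΦ, lift_snd, ← Category.assoc, hΦ, lift_snd, _root_.mul_assoc]
    · intro σ
      apply Groth.Agent.Lib.Helper22.hom_ext_points
      intro T x g
      rw [← Category.assoc, hlam, hΦ, ← Category.assoc, hΦ, hlam', hψ σ]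
      congr 1
      rw [MonObj.comp_mul, MonObj.comp_mul, GrpObj.comp_inv, Category.assoc]
      group

end Abstract

/-- Over an algebraically closed field k of characteristic zero, let G be an algebraic group (a smooth
k-group scheme of finite type), X a variety (reduced, separated, of finite type over k) and Γ a
finite group acting on X on the right (x ↦ x·σ, with x·(στ) = (x·σ)·τ). Let φ and φ' be 1-cocycles Γ
→ G(X), φ_{στ} = φ_σ · (φ_τ ∘ (·σ)), with attached Γ-linearizations of X × G given on points by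
λ_σ(x, g) = (x·σ, φ_σ(x)⁻¹·g) and λ'_σ(x, g) = (x·σ, φ'_σ(x)⁻¹·g). Then the two Γ-linearized trivial
bundles are isomorphic, meaning that there is an automorphism Φ of X × G over X, commuting with the
action of G by right multiplication, with Φ ∘ λ_σ = λ'_σ ∘ Φ for every σ, if and only if the
cocycles are cohomologous: there is ψ in G(X) with φ_σ = ψ⁻¹ · φ'_σ · (ψ ∘ (·σ)) for every σ. Hence
isomorphism classes of Γ-linearizations of the trivial bundle correspond to H¹(Γ, G(X)). -/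
theorem result (k : Type u) [Field k] [IsAlgClosed k] [CharZero k]
    (G X : Over (Spec (CommRingCat.of k))) [GrpObj G] [Smooth G.hom] [QuasiCompact G.hom]
    [LocallyOfFiniteType X.hom] [QuasiCompact X.hom] [IsSeparated X.hom] [IsReduced X.left]
    (Γ : Type) [Group Γ] [Finite Γ] (ρ : Γ → (X ⟶ X)) (hρ₁ : ρ 1 = 𝟙 X) (hρ : ∀ σ τ : Γ, ρ (σ * τ) = ρ σ ≫ ρ τ)
    (φ φ' : Γ → (X ⟶ G)) (hφ : ∀ σ τ : Γ, φ (σ * τ) = φ σ * (ρ σ ≫ φ τ))
    (hφ' : ∀ σ τ : Γ, φ' (σ * τ) = φ' σ * (ρ σ ≫ φ' τ))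
    (lam lam' : Γ → (X ⊗ G ⟶ X ⊗ G))
    (hlam : ∀ (σ : Γ) (T : Over (Spec (CommRingCat.of k))) (x : T ⟶ X) (g : T ⟶ G),
      lift x g ≫ lam σ = lift (x ≫ ρ σ) ((x ≫ φ σ)⁻¹ * g))
    (hlam' : ∀ (σ : Γ) (T : Over (Spec (CommRingCat.of k))) (x : T ⟶ X) (g : T ⟶ G),
      lift x g ≫ lam' σ = lift (x ≫ ρ σ) ((x ≫ φ' σ)⁻¹ * g)) :
    (∃ Φ : X ⊗ G ⟶ X ⊗ G, IsIso Φ ∧ Φ ≫ fst X G = fst X G ∧
      (∀ (T : Over (Spec (CommRingCat.of k))) (x : T ⟶ X) (g h : T ⟶ G),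
        lift x (g * h) ≫ Φ ≫ snd X G = (lift x g ≫ Φ ≫ snd X G) * h) ∧
      ∀ σ : Γ, lam σ ≫ Φ = Φ ≫ lam' σ) ↔
    ∃ ψ : X ⟶ G, ∀ σ : Γ, φ σ = ψ⁻¹ * φ' σ * (ρ σ ≫ ψ) := by
  exact iso_iff_cohomologous ρ φ φ' lam lam' hlam hlam'

end Groth.Agent.S14882
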