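import Groth.Statements.S14883
import Mathlib
import Groth.Agent.Lib.Helper12BundleMap
import Groth.Agent.Lib.Helper12Descent
import Groth.Agent.S14884

set_option autoImplicit false
universe u
open CategoryTheory MonoidalCategory CartesianMonoidalCategory MonObj GrpObj AlgebraicGeometry CategoryTheory.Limits
open AlgGrp

namespace Groth.Agent.S14883


open Groth.Agent.Lib.Helper12 Groth.Agent.Lib.Helper12.BundleMap



/-- Over an algebraically closed field k of characteristic zero, let G be an algebraic group (a smooth
k-group scheme of finite type) and H an algebraic subgroup (a smooth closed subgroup scheme, j : H →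
G). Let π : G → B be the quotient of G by H (a geometric quotient for the action h·g = g·h⁻¹ which
is a principal H-bundle: (h, g) ↦ (g·h⁻¹, g) is an isomorphism H × G ≅ G ×_B G and π is flat). Let X
be a variety (reduced, separated, of finite type over k), proper over k, with an H-action and in
which every finite set of points lies in an affine open subset, and let qX : G × X → QX be the
associated bundle G_H(X), that is a geometric quotient for the action h·(g, x) = (g·h⁻¹, h·x) on G ×
X which is a principal H-bundle, with structure map pX : QX → B satisfying pX ∘ qX = π ∘ pr₁, where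
QX is a variety. Here a geometric quotient is an invariant, surjective, open morphism whose
fibre-pair map (h, y) ↦ (h·y, y) is surjective on points and whose sections over every open are
exactly the invariant sections. Then pX : G_H(X) → G/H is proper. -/
theorem result (k : Type u) [Field k] [IsAlgClosed k] [CharZero k]
    (G H : Over (Spec (CommRingCat.of k))) [GrpObj G] [Smooth G.hom] [QuasiCompact G.hom]
    [GrpObj H] (j : H ⟶ G) [IsMonHom j] [IsClosedImmersion j.left] [Smooth H.hom]
    (B : Over (Spec (CommRingCat.of k))) [LocallyOfFiniteType B.hom] [QuasiCompact B.hom] [IsSeparated B.hom] [IsReduced B.left]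
    (r : AlgGrp.Action H G) (hr : ∀ (T : Over (Spec (CommRingCat.of k))) (h : T ⟶ H) (g : T ⟶ G),
      lift h g ≫ r.act = g * (h ≫ j)⁻¹)
    (π : G ⟶ B) (hπinv : GIT.IsInvariant r π)
    (hπ : (Function.Surjective π.left.base ∧ IsOpenMap π.left.base ∧
      Function.Surjective (GIT.PsiY r π hπinv).base ∧
      (∀ U : B.left.Opens, Function.Injective (π.left.app U) ∧
        Set.range (π.left.app U) = {f | GIT.IsInvSection r π U f}) ∧
      IsIso (GIT.PsiY r π hπinv) ∧ Flat π.left))
    (X : Over (Spec (CommRingCat.of k))) [IsProper X.hom] [IsReduced X.left]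
    (hF : ∀ F : Finset ↥X.left, ∃ U : X.left.Opens, IsAffineOpen U ∧ (↑F : Set ↥X.left) ⊆ (U : Set ↥X.left))
    (aX : AlgGrp.Action H X) (b : AlgGrp.Action H (G ⊗ X))
    (hb : ∀ (T : Over (Spec (CommRingCat.of k))) (h : T ⟶ H) (g : T ⟶ G) (x : T ⟶ X),
      lift h (lift g x) ≫ b.act = lift (g * (h ≫ j)⁻¹) (lift h x ≫ aX.act))
    (QX : Over (Spec (CommRingCat.of k))) [LocallyOfFiniteType QX.hom] [QuasiCompact QX.hom] [IsSeparated QX.hom] [IsReduced QX.left] (qX : G ⊗ X ⟶ QX) (hqinv : GIT.IsInvariant b qX)
    (hq : (Function.Surjective qX.left.base ∧ IsOpenMap qX.left.base ∧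
      Function.Surjective (GIT.PsiY b qX hqinv).base ∧
      (∀ U : QX.left.Opens, Function.Injective (qX.left.app U) ∧
        Set.range (qX.left.app U) = {f | GIT.IsInvSection b qX U f}) ∧
      IsIso (GIT.PsiY b qX hqinv) ∧ Flat qX.left))
    (pX : QX ⟶ B) (hp : qX ≫ pX = fst G X ≫ π) :
    IsProper pX.left := by
  obtain ⟨hπ1, -, -, -, hπ5, hπ6⟩ := hπ
  obtain ⟨hq1, -, -, -, hq5, hq6⟩ := hq
  have cX := isPullback_of_isIso_PsiY b qX hqinv hq5
  have cG := isPullback_of_isIso_PsiY r π hπinv hπ5
  haveI : QuasiCompact X.hom := inferInstance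
  haveI : QuasiCompact (G ⊗ X).hom := quasiCompact_tensor_hom G X
  haveI : Flat qX.left := hq6
  haveI : Surjective qX.left := ⟨hq1⟩
  haveI : QuasiCompact qX.left := Groth.Agent.S14884.quasiCompact_left qX
  haveI : Flat π.left := hπ6
  haveI : Surjective π.left := ⟨hπ1⟩
  haveI : QuasiCompact π.left := Groth.Agent.S14884.quasiCompact_left π
  -- equivariance of `fst G X`
  have hequiv : b.act ≫ fst G X = (H ◁ fst G X) ≫ r.act := by
    set h := fst H (G ⊗ X) with hh
    set g := snd H (G ⊗ X) ≫ fst G X with hg
    set x := snd H (G ⊗ X) ≫ snd G X with hx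
    have e1 : 𝟙 (H ⊗ (G ⊗ X)) = lift h (lift g x) := by
      apply CartesianMonoidalCategory.hom_ext
      · simp [hh]
      · rw [lift_snd]
        apply CartesianMonoidalCategory.hom_ext <;> simp [hg, hx]
    have e2 : lift h (lift g x) ≫ (H ◁ fst G X) = lift h g := by
      apply CartesianMonoidalCategory.hom_ext <;> simp
    have L : b.act ≫ fst G X = g * (h ≫ j)⁻¹ := by
      have e4 : b.act = lift h (lift g x) ≫ b.act := by rw [← e1, Category.id_comp]
      rw [e4, hb, lift_fst]
    have R : (H ◁ fst G X) ≫ r.act = g * (h ≫ j)⁻¹ := by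
      have e5 : (H ◁ fst G X) = lift h g := by rw [← e2, ← e1, Category.id_comp]
      rw [e5, hr]
    rw [L, R]
  have sq := isPullback_of_equivariant b r qX π cX cG (isLocallyTrivialFor_of_fpqc qX.left)
    (fst G X) hequiv pX hp
  have sq' : IsPullback qX.left (fst G X).left pX.left π.left := sq.map (Over.forget _)
  haveI : IsProper (fst G X).left := by
    have h2 : (fst G X).left = pullback.fst G.hom X.hom := rfl
    rw [h2]
    infer_instance
  haveI := descendsAlong_isProper.{u}
  exact MorphismProperty.of_isPullback_of_descendsAlong (P := @IsProper)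
    (Q := (@Surjective ⊓ @Flat ⊓ @QuasiCompact : MorphismProperty Scheme.{u}))
    sq'.flip ⟨⟨‹Surjective π.left›, ‹Flat π.left›⟩, ‹QuasiCompact π.left›⟩
    ‹IsProper (fst G X).left›

end Groth.Agent.S14883
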