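import Groth.Statements.S14886
import Mathlib
import Groth.Agent.Lib.Helper12BundleMap
import Groth.Agent.Lib.Helper12Cube
import Groth.Agent.S14884

set_option autoImplicit false
universe u
open CategoryTheory MonoidalCategory CartesianMonoidalCategory MonObj GrpObj AlgebraicGeometry CategoryTheory.Limits
open AlgGrp

namespace Groth.Agent.S14886


open Groth.Agent.Lib.Helper12 Groth.Agent.Lib.Helper12.BundleMap Groth.Agent.Lib.Helper12.Cube

section

variable {S : Scheme.{u}} {G H : Over S} [GrpObj G] [GrpObj H] (j : H ⟶ G)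

/-- the first projection `G ⊗ X ⟶ G` is equivariant for an action on `G ⊗ X` whose first component
is right translation. -/
lemma equivariant_fst (r : AlgGrp.Action H G)
    (hr : ∀ (T : Over S) (h : T ⟶ H) (g : T ⟶ G), lift h g ≫ r.act = g * (h ≫ j)⁻¹)
    {X : Over S} (b : AlgGrp.Action H (G ⊗ X))
    (hb : ∀ (T : Over S) (h : T ⟶ H) (g : T ⟶ G) (x : T ⟶ X),
      lift h (lift g x) ≫ b.act ≫ fst G X = g * (h ≫ j)⁻¹) :
    b.act ≫ fst G X = (H ◁ fst G X) ≫ r.act := by
  set h := fst H (G ⊗ X) with hh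
  set g := snd H (G ⊗ X) ≫ fst G X with hg
  set x := snd H (G ⊗ X) ≫ snd G X with hx
  have e1 : 𝟙 (H ⊗ (G ⊗ X)) = lift h (lift g x) := by
    apply CartesianMonoidalCategory.hom_ext
    · simp [hh]
    · rw [lift_snd]
      apply CartesianMonoidalCategory.hom_ext <;> simp [hg, hx]
  have e2 : lift h (lift g x) ≫ (H ◁ fst G X) = lift h g := by
    apply CartesianMonoidalCategory.hom_ext <;> simp
  have L : b.act ≫ fst G X = g * (h ≫ j)⁻¹ := by
    have e4 : b.act ≫ fst G X = lift h (lift g x) ≫ b.act ≫ fst G X := by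
      rw [← e1, Category.id_comp]
    rw [e4, hb]
  have R : (H ◁ fst G X) ≫ r.act = g * (h ≫ j)⁻¹ := by
    have e5 : (H ◁ fst G X) = lift h g := by rw [← e2, ← e1, Category.id_comp]
    rw [e5, hr]
  rw [L, R]

end

/-- `G ⊗ (X ⊗ Y)` is the fibre product of `G ⊗ X` and `G ⊗ Y` over `G`. -/
lemma isPullback_whiskerLeft_fst_snd {C : Type*} [Category C] [CartesianMonoidalCategory C]
    (G X Y : C) : IsPullback (G ◁ fst X Y) (G ◁ snd X Y) (fst G X) (fst G Y) := by
  refine isPullback_of_existsUnique_sq (by simp) ?_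
  intro T p q hpq
  refine ⟨lift (p ≫ fst G X) (lift (p ≫ snd G X) (q ≫ snd G Y)), ⟨?_, ?_⟩, ?_⟩
  · apply CartesianMonoidalCategory.hom_ext <;> simp
  · apply CartesianMonoidalCategory.hom_ext
    · simp [hpq]
    · simp
  · rintro a ⟨ha1, ha2⟩
    apply CartesianMonoidalCategory.hom_ext
    · rw [lift_fst, ← ha1]; simp
    · rw [lift_snd]
      apply CartesianMonoidalCategory.hom_ext
      · rw [lift_fst, ← ha1]; simp
      · rw [lift_snd, ← ha2]; simp



/-- Over an algebraically closed field k of characteristic zero, let G be a connected algebraic group (a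
smooth connected k-group scheme of finite type) and H an algebraic subgroup (a smooth closed
subgroup scheme, j : H → G). Let π : G → B be the quotient of G by H (a geometric quotient for the
action h·g = g·h⁻¹ which is a principal H-bundle: (h, g) ↦ (g·h⁻¹, g) is an isomorphism H × G ≅ G
×_B G and π is flat). Let X and Y be varieties (reduced, separated, of finite type over k) with
H-actions, in each of which every finite set of points lies in an affine open subset, and let qX : G
× X → QX, qY : G × Y → QY and qXY : G × (X × Y) → QXY be the associated bundles G_H(X), G_H(Y) and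
G_H(X × Y): geometric quotients (invariant, surjective, open, fibre-pair map surjective on points,
sections = invariant sections) which are principal H-bundles, for the actions h·(g, x) = (g·h⁻¹,
h·x), h·(g, y) = (g·h⁻¹, h·y) and h·(g, x, y) = (g·h⁻¹, h·x, h·y), with QX, QY, QXY varieties over B
= G/H through pX, pY, pXY satisfying p ∘ q = π ∘ pr₁. Let fX : QXY → QX and fY : QXY → QY be the
morphisms over B induced by the projections, fX ∘ qXY = qX ∘ (id × pr₁) and fY ∘ qXY = qY ∘ (id ×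
pr₂). Then the square formed by fX, fY, pX, pY is cartesian: G_H(X × Y) is the fibre product of
G_H(X) and G_H(Y) over G/H. -/
theorem result (k : Type u) [Field k] [IsAlgClosed k] [CharZero k]
    (G H : Over (Spec (CommRingCat.of k))) [GrpObj G] [Smooth G.hom] [QuasiCompact G.hom]
    [ConnectedSpace ↥G.left] [GrpObj H] (j : H ⟶ G) [IsMonHom j] [IsClosedImmersion j.left] [Smooth H.hom]
    (B : Over (Spec (CommRingCat.of k))) [LocallyOfFiniteType B.hom] [QuasiCompact B.hom] [IsSeparated B.hom] [IsReduced B.left]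
    (r : AlgGrp.Action H G) (hr : ∀ (T : Over (Spec (CommRingCat.of k))) (h : T ⟶ H) (g : T ⟶ G),
      lift h g ≫ r.act = g * (h ≫ j)⁻¹)
    (π : G ⟶ B) (hπinv : GIT.IsInvariant r π)
    (hπ : (Function.Surjective π.left.base ∧ IsOpenMap π.left.base ∧
      Function.Surjective (GIT.PsiY r π hπinv).base ∧
      (∀ U : B.left.Opens, Function.Injective (π.left.app U) ∧
        Set.range (π.left.app U) = {f | GIT.IsInvSection r π U f}) ∧
      IsIso (GIT.PsiY r π hπinv) ∧ Flat π.left))
    (X Y : Over (Spec (CommRingCat.of k))) [LocallyOfFiniteType X.hom] [QuasiCompact X.hom] [IsSeparated X.hom] [IsReduced X.left] [LocallyOfFiniteType Y.hom] [QuasiCompact Y.hom] [IsSeparated Y.hom] [IsReduced Y.left]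
    (hFX : ∀ F : Finset ↥X.left, ∃ U : X.left.Opens, IsAffineOpen U ∧ (↑F : Set ↥X.left) ⊆ (U : Set ↥X.left))
    (hFY : ∀ F : Finset ↥Y.left, ∃ U : Y.left.Opens, IsAffineOpen U ∧ (↑F : Set ↥Y.left) ⊆ (U : Set ↥Y.left))
    (aX : AlgGrp.Action H X) (aY : AlgGrp.Action H Y)
    (b : AlgGrp.Action H (G ⊗ X))
    (hb : ∀ (T : Over (Spec (CommRingCat.of k))) (h : T ⟶ H) (g : T ⟶ G) (x : T ⟶ X),
      lift h (lift g x) ≫ b.act = lift (g * (h ≫ j)⁻¹) (lift h x ≫ aX.act))
    (c : AlgGrp.Action H (G ⊗ Y))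
    (hc : ∀ (T : Over (Spec (CommRingCat.of k))) (h : T ⟶ H) (g : T ⟶ G) (x : T ⟶ Y),
      lift h (lift g x) ≫ c.act = lift (g * (h ≫ j)⁻¹) (lift h x ≫ aY.act))
    (d : AlgGrp.Action H (G ⊗ (X ⊗ Y)))
    (hd : ∀ (T : Over (Spec (CommRingCat.of k))) (h : T ⟶ H) (g : T ⟶ G) (x : T ⟶ X) (y : T ⟶ Y),
      lift h (lift g (lift x y)) ≫ d.act = lift (g * (h ≫ j)⁻¹) (lift (lift h x ≫ aX.act) (lift h y ≫ aY.act)))
    (QX QY QXY : Over (Spec (CommRingCat.of k))) [LocallyOfFiniteType QX.hom] [QuasiCompact QX.hom] [IsSeparated QX.hom] [IsReduced QX.left] [LocallyOfFiniteType QY.hom] [QuasiCompact QY.hom] [IsSeparated QY.hom] [IsReduced QY.left] [LocallyOfFiniteType QXY.hom] [QuasiCompact QXY.hom] [IsSeparated QXY.hom] [IsReduced QXY.left]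
    (qX : G ⊗ X ⟶ QX) (hqXinv : GIT.IsInvariant b qX) (hqX : (Function.Surjective qX.left.base ∧ IsOpenMap qX.left.base ∧
      Function.Surjective (GIT.PsiY b qX hqXinv).base ∧
      (∀ U : QX.left.Opens, Function.Injective (qX.left.app U) ∧
        Set.range (qX.left.app U) = {f | GIT.IsInvSection b qX U f}) ∧
      IsIso (GIT.PsiY b qX hqXinv) ∧ Flat qX.left))
    (qY : G ⊗ Y ⟶ QY) (hqYinv : GIT.IsInvariant c qY) (hqY : (Function.Surjective qY.left.base ∧ IsOpenMap qY.left.base ∧
      Function.Surjective (GIT.PsiY c qY hqYinv).base ∧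
      (∀ U : QY.left.Opens, Function.Injective (qY.left.app U) ∧
        Set.range (qY.left.app U) = {f | GIT.IsInvSection c qY U f}) ∧
      IsIso (GIT.PsiY c qY hqYinv) ∧ Flat qY.left))
    (qXY : G ⊗ (X ⊗ Y) ⟶ QXY) (hqXYinv : GIT.IsInvariant d qXY) (hqXY : (Function.Surjective qXY.left.base ∧ IsOpenMap qXY.left.base ∧
      Function.Surjective (GIT.PsiY d qXY hqXYinv).base ∧
      (∀ U : QXY.left.Opens, Function.Injective (qXY.left.app U) ∧
        Set.range (qXY.left.app U) = {f | GIT.IsInvSection d qXY U f}) ∧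
      IsIso (GIT.PsiY d qXY hqXYinv) ∧ Flat qXY.left))
    (pX : QX ⟶ B) (hpX : qX ≫ pX = fst G X ≫ π) (pY : QY ⟶ B) (hpY : qY ≫ pY = fst G Y ≫ π)
    (pXY : QXY ⟶ B) (hpXY : qXY ≫ pXY = fst G (X ⊗ Y) ≫ π)
    (fX : QXY ⟶ QX) (hfX : qXY ≫ fX = (G ◁ fst X Y) ≫ qX) (hfXp : fX ≫ pX = pXY)
    (fY : QXY ⟶ QY) (hfY : qXY ≫ fY = (G ◁ snd X Y) ≫ qY) (hfYp : fY ≫ pY = pXY) :
    IsPullback fX.left fY.left pX.left pY.left := by
  obtain ⟨hπ1, -, -, -, hπ5, hπ6⟩ := hπ
  obtain ⟨hqX1, -, -, -, hqX5, hqX6⟩ := hqX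
  obtain ⟨hqY1, -, -, -, hqY5, hqY6⟩ := hqY
  obtain ⟨hqXY1, -, -, -, hqXY5, hqXY6⟩ := hqXY
  have cG := isPullback_of_isIso_PsiY r π hπinv hπ5
  have cX := isPullback_of_isIso_PsiY b qX hqXinv hqX5
  have cY := isPullback_of_isIso_PsiY c qY hqYinv hqY5
  have cXY := isPullback_of_isIso_PsiY d qXY hqXYinv hqXY5
  haveI : QuasiCompact (G ⊗ X).hom := quasiCompact_tensor_hom G X
  haveI : QuasiCompact (G ⊗ Y).hom := quasiCompact_tensor_hom G Y
  haveI : QuasiCompact (X ⊗ Y).hom := quasiCompact_tensor_hom X Y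
  haveI : QuasiCompact (G ⊗ (X ⊗ Y)).hom := quasiCompact_tensor_hom G (X ⊗ Y)
  haveI : Flat qX.left := hqX6
  haveI : Surjective qX.left := ⟨hqX1⟩
  haveI : QuasiCompact qX.left := Groth.Agent.S14884.quasiCompact_left qX
  haveI : Flat qY.left := hqY6
  haveI : Surjective qY.left := ⟨hqY1⟩
  haveI : QuasiCompact qY.left := Groth.Agent.S14884.quasiCompact_left qY
  haveI : Flat qXY.left := hqXY6
  haveI : Surjective qXY.left := ⟨hqXY1⟩
  haveI : QuasiCompact qXY.left := Groth.Agent.S14884.quasiCompact_left qXY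
  haveI : Flat π.left := hπ6
  haveI : Surjective π.left := ⟨hπ1⟩
  haveI : QuasiCompact π.left := Groth.Agent.S14884.quasiCompact_left π
  have eX : b.act ≫ fst G X = (H ◁ fst G X) ≫ r.act :=
    equivariant_fst j r hr b (fun T h g x => by rw [← Category.assoc, hb, lift_fst])
  have eY : c.act ≫ fst G Y = (H ◁ fst G Y) ≫ r.act :=
    equivariant_fst j r hr c (fun T h g x => by rw [← Category.assoc, hc, lift_fst])
  have eXY : d.act ≫ fst G (X ⊗ Y) = (H ◁ fst G (X ⊗ Y)) ≫ r.act :=
    equivariant_fst j r hr d (fun T h g z => by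
      have ez : z = lift (z ≫ fst X Y) (z ≫ snd X Y) := by
        apply CartesianMonoidalCategory.hom_ext <;> simp
      rw [ez, ← Category.assoc, hd, lift_fst])
  have faceB := isPullback_of_equivariant b r qX π cX cG (isLocallyTrivialFor_of_fpqc qX.left)
    (fst G X) eX pX hpX
  have faceC := isPullback_of_equivariant c r qY π cY cG (isLocallyTrivialFor_of_fpqc qY.left)
    (fst G Y) eY pY hpY
  have faceA := isPullback_of_equivariant d r qXY π cXY cG
    (isLocallyTrivialFor_of_fpqc qXY.left) (fst G (X ⊗ Y)) eXY pXY hpXY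
  have faceA' : IsPullback qXY ((G ◁ fst X Y) ≫ fst G X) (fX ≫ pX) π := by
    rw [whiskerLeft_fst, hfXp]
    exact faceA
  have key := isPullback_of_cube (by rw [hfXp, hfYp]) (isPullback_whiskerLeft_fst_snd G X Y)
    faceB faceC faceA' hfX hfY (isLocallyTrivialFor_of_fpqc π.left)
    (isLocallyTrivialFor_of_fpqc qXY.left)
  exact key.map (Over.forget _)

end Groth.Agent.S14886
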