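import Groth.Statements.S14887
import Groth.Agent.Lib.Helper3ValTrdeg
import Mathlib

set_option autoImplicit false
universe u
open CategoryTheory AlgebraicGeometry
open FlatMor

namespace Groth.Agent.S14887

/-- Let R be a valuation ring and let φ : X → Spec R be flat and locally of finite presentation. Call x
∈ X fibre-generic when it is the generic point of an irreducible component of its fibre, i.e. no
point y ≠ x with φ y = φ x specializes to x. Then every generization of a fibre-generic point is
fibre-generic. (The published statement allows an arbitrary base scheme and takes φ finitely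
presented. Over a two-dimensional base it fails: for the affine line over the affine plane with
coordinates a, b, the closed point u = a/b of the generic fibre specializes to the generic point of
the fibre over a = b = 0, and the chain-lifting step of the published proof does not hold in that
generality. This row takes the base to be the spectrum of a valuation ring, the case in which the
result is applied to relative curves, and assumes only local finite presentation, the property being
local on X.) -/
theorem result
    (R : Type u) [CommRing R] [IsDomain R] [ValuationRing R] {X : Scheme.{u}}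
    (φ : X ⟶ Spec (CommRingCat.of R)) [Flat φ] [LocallyOfFinitePresentation φ]
    (x x' : X) (hgen : x' ⤳ x) (hx : ∀ y : X, y ⤳ x → φ y = φ x → y = x) :
    ∀ y : X, y ⤳ x' → φ y = φ x' → y = x' := by
  intro y hy hφy
  by_contra hne
  have h1 : Groth.Agent.Lib.Helper4.DimFormula.ptTrdeg φ x' <
      Groth.Agent.Lib.Helper4.DimFormula.ptTrdeg φ y :=
    Groth.Agent.Lib.Helper6.EquiSub.ptTrdeg_lt_of_specializes φ y x' hφy hy hne
  have h2 := Groth.Agent.Lib.Helper4.DimFormula.ptTrdeg_le_fibreDimAt φ y
  have h3 := Groth.Agent.Lib.Helper4.DimFormula.fibreDimAt_le_of_specializes φ y x (hy.trans hgen)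
  have h4 := Groth.Agent.Lib.Helper4.DimFormula.fibreDimAt_eq_ptTrdeg_of_maximal φ x
    (fun y hy hsp => hx y hsp hy)
  have h5 := Groth.Agent.Lib.Helper3.ValTrdeg.ptTrdeg_le_of_specializes_of_valuationRing R φ x x' hgen
  rw [h4] at h3
  have h6 : Groth.Agent.Lib.Helper4.DimFormula.ptTrdeg φ y ≤
      Groth.Agent.Lib.Helper4.DimFormula.ptTrdeg φ x := by
    exact_mod_cast h2.trans h3
  omega

end Groth.Agent.S14887
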