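import Groth.Statements.S14888
import Mathlib
import Groth.Agent.Lib.Helper5FlatPreimm
-- import your own Groth.Agent.* helpers here

set_option autoImplicit false
universe u
open CategoryTheory AlgebraicGeometry
open CAlg

namespace Groth.Agent.S14888

/-- Let R be a valuation ring whose spectrum is finite (finite height) and let f : X → Spec R be locally
of finite type with locally quasi-finite fibres. For every x ∈ X the canonical morphism Spec O_{X,x}
→ X is an open immersion, and the composite Spec O_{X,x} → Spec R is locally of finite type; in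
particular O_{X,x} is finitely generated as an R-algebra. (The published statement takes X
quasi-finite over Spec R; the assertions are local at x, so this row assumes only that X is locally
of finite type with discrete fibres.) -/
theorem result
    (R : Type u) [CommRing R] [IsDomain R] [ValuationRing R] [Finite (PrimeSpectrum R)]
    {X : Scheme.{u}} (f : X ⟶ Spec (CommRingCat.of R)) [LocallyOfFiniteType f] [LocallyQuasiFinite f]
    (x : X) :
    IsOpenImmersion (X.fromSpecStalk x) ∧ LocallyOfFiniteType (X.fromSpecStalk x ≫ f) := by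
  classical
  have hopen : IsOpen (Set.range (X.fromSpecStalk x)) := by
    rw [Scheme.range_fromSpecStalk]
    obtain ⟨_, ⟨U, hU, rfl⟩, hxU, -⟩ :=
      X.isBasis_affineOpens.exists_subset_of_mem_open (Set.mem_univ x) isOpen_univ
    -- U is finite
    have hfinU : (U : Set X).Finite := by
      let g : Spec Γ(X, U) ⟶ Spec (CommRingCat.of R) := hU.fromSpec ≫ f
      let ψ : CommRingCat.of R ⟶ Γ(X, U) := Spec.preimage g
      have hψ : Spec.map ψ = g := Spec.map_preimage g
      letI : Algebra R Γ(X, U) := ψ.hom.toAlgebra
      haveI : LocallyQuasiFinite (Spec.map ψ) := by rw [hψ]; infer_instance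
      haveI : Algebra.QuasiFinite R Γ(X, U) :=
        RingHom.quasiFinite_algebraMap.mp
          ((HasRingHomProperty.Spec_iff (P := @LocallyQuasiFinite) (φ := ψ)).mp inferInstance)
      haveI : Finite (PrimeSpectrum Γ(X, U)) := Algebra.QuasiFinite.finite_primeSpectrum R _
      haveI : Finite ↥(Spec Γ(X, U)) := ‹Finite (PrimeSpectrum Γ(X, U))›
      rw [← hU.range_fromSpec]
      exact Set.finite_range _
    set s : Set X := (U : Set X) with hs
    have hsopen : IsOpen s := U.2
    have hxs : x ∈ s := hxU
    haveI : Finite s := hfinU.to_subtype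
    have hsub : {y | y ⤳ x} = Subtype.val '' {y : s | y ⤳ (⟨x, hxs⟩ : s)} := by
      ext y
      constructor
      · intro hy
        have hy' : y ⤳ x := hy
        have hys : y ∈ s := hy'.mem_open hsopen hxs
        refine ⟨⟨y, hys⟩, ?_, rfl⟩
        show (⟨y, hys⟩ : s) ⤳ (⟨x, hxs⟩ : s)
        exact Topology.IsInducing.subtypeVal.specializes_iff.mp hy'
      · rintro ⟨y', hy', rfl⟩
        have hy'' : y' ⤳ (⟨x, hxs⟩ : s) := hy'
        show (y' : X) ⤳ x
        exact Topology.IsInducing.subtypeVal.specializes_iff.mpr hy''
    rw [hsub]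
    apply hsopen.isOpenEmbedding_subtypeVal.isOpenMap
    have : {y : s | y ⤳ (⟨x, hxs⟩ : s)} = nhdsKer {(⟨x, hxs⟩ : s)} := by
      ext y; exact mem_nhdsKer_singleton.symm
    rw [this]
    exact isOpen_nhdsKer
  have himm : IsOpenImmersion (X.fromSpecStalk x) := by
    haveI : ∀ y, IsIso ((X.fromSpecStalk x).stalkMap y) := fun y => by
      rw [ConcreteCategory.isIso_iff_bijective]
      exact Groth.Agent.Lib.Helper5.FlatPreimm.stalkMap_bijective_of_flat_of_isPreimmersion _ y
    exact IsOpenImmersion.of_isIso_stalkMap _ ⟨(X.fromSpecStalk x).isEmbedding, hopen⟩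
  exact ⟨himm, inferInstance⟩

end Groth.Agent.S14888
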