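import Groth.Statements.S14893
import Groth.Agent.Lib.Helper5ValUnion

set_option autoImplicit false
universe u
open CAlg

namespace Groth.Agent.S14893

/-- Every valuation ring R is a filtered union of subrings which are valuation rings with finite
spectrum (finite height): there is a nonempty directed index type and a monotone family of such
subrings of R whose supremum is R. -/
theorem result
    (R : Type u) [CommRing R] [IsDomain R] [ValuationRing R] :
    ∃ (ι : Type u) (_ : Preorder ι) (_ : IsDirected ι (fun a b ↦ a ≤ b)) (_ : Nonempty ι)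
      (F : ι → Subring R), Monotone F ∧ (⨆ i, F i) = ⊤ ∧
        ∀ i, ValuationRing (F i) ∧ Finite (PrimeSpectrum (F i)) := by
  refine ⟨Finset R, inferInstance, inferInstance, ⟨∅⟩, Groth.Agent.Lib.Helper5.ValUnion.F R,
    ?_, ?_, ?_⟩
  · exact Groth.Agent.Lib.Helper5.ValUnion.F_mono R
  · exact Groth.Agent.Lib.Helper5.ValUnion.iSup_F R
  · intro S
    exact ⟨Groth.Agent.Lib.Helper5.ValUnion.valuationRing_F R S,
      Groth.Agent.Lib.Helper5.ValUnion.finite_primeSpectrum_F R S⟩

end Groth.Agent.S14893
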