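import Groth.Statements.S14896
import Mathlib

set_option autoImplicit false
universe u
open CAlg

namespace Groth.Agent.S14896

set_option linter.style.haveILetI false

-- a local ring of an etale algebra with finite spectrum is etale
theorem etale_of_isLocalization_atPrime_of_finite {R B S : Type*} [CommRing R] [CommRing B]
    [CommRing S] [Algebra R B] [Algebra B S] [Algebra R S] [IsScalarTower R B S]
    [Algebra.Etale R B] [Finite (PrimeSpectrum B)] (P : Ideal B) [P.IsPrime]
    [IsLocalization.AtPrime S P] : Algebra.Etale R S := by
  classical
  haveI := Fintype.ofFinite (PrimeSpectrum B)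
  -- an element outside P lying in all primes not contained in P
  obtain ⟨h, hhP, hh⟩ : ∃ h : B, h ∉ P ∧ ∀ Q : PrimeSpectrum B, ¬ Q.asIdeal ≤ P → h ∈ Q.asIdeal := by
    by_contra hcon
    push Not at hcon
    have hle : (Finset.univ.filter (fun Q : PrimeSpectrum B => ¬ Q.asIdeal ≤ P)).inf
        (fun Q => Q.asIdeal) ≤ P := by
      intro x hx
      by_contra hxP
      obtain ⟨Q, hQ, hxQ⟩ := hcon x hxP
      apply hxQ
      rw [Submodule.mem_finsetInf] at hx
      exact hx Q (by simp [hQ])
    obtain ⟨Q, hQ, hQP⟩ := (Ideal.IsPrime.inf_le' inferInstance).mp hle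
    simp only [Finset.mem_filter, Finset.mem_univ, true_and] at hQ
    exact hQ hQP
  -- every element outside P divides a power of h
  have hdvd : ∀ s ∈ P.primeCompl, ∃ m ∈ Submonoid.powers h, s ∣ m := by
    intro s hs
    have hrad : h ∈ (Ideal.span {s}).radical := by
      rw [Ideal.radical_eq_sInf, Ideal.mem_sInf]
      rintro Q ⟨hsQ, hQprime⟩
      apply hh ⟨Q, hQprime⟩
      intro hQP
      exact hs (hQP (hsQ (Ideal.subset_span rfl)))
    obtain ⟨m, hm⟩ := hrad
    exact ⟨h ^ m, ⟨m, rfl⟩, Ideal.mem_span_singleton.mp hm⟩
  haveI : IsLocalization P.primeCompl (Localization.Away h) :=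
    IsLocalization.of_le_of_exists_dvd (Submonoid.powers h) P.primeCompl
      (by rw [Submonoid.powers_le]; exact hhP) hdvd
  haveI : IsLocalization (Submonoid.powers h) S :=
    IsLocalization.isLocalization_of_algEquiv (Submonoid.powers h)
      (IsLocalization.algEquiv P.primeCompl (Localization.Away h) S)
  haveI : Algebra.Etale B S := Algebra.Etale.of_isLocalizationAway h
  exact Algebra.Etale.comp R B S

/-- Let L/K be a finite extension of valued fields, v_L extending v_K, with K° = the valuation ring of
v_K having finite spectrum (finite height), and L° the valuation ring of v_L. If L° is local-étale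
over K°, i.e. L° is the localization at a prime ideal of some étale K°-algebra B compatibly with the
K°-algebra structures, then L° is étale over K°. (For valued fields of finite height 'unramified' in
the local-étale sense is thus the same as K° → L° étale; the published lemma phrases the hypothesis
as 'L/K unramified'.) -/
theorem result
    {K L Γ₀ Γ₁ : Type u} [Field K] [Field L] [Algebra K L] [FiniteDimensional K L]
    [LinearOrderedCommGroupWithZero Γ₀] [LinearOrderedCommGroupWithZero Γ₁]
    (vK : Valuation K Γ₀) (vL : Valuation L Γ₁) [vK.HasExtension vL]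
    [Finite (PrimeSpectrum vK.valuationSubring)]
    (B : Type u) [CommRing B] [Algebra vK.valuationSubring B] [Algebra.Etale vK.valuationSubring B]
    [Algebra B vL.valuationSubring] [IsScalarTower vK.valuationSubring B vL.valuationSubring]
    (P : Ideal B) [P.IsPrime] [IsLocalization.AtPrime vL.valuationSubring P] :
    Algebra.Etale vK.valuationSubring vL.valuationSubring := by
  haveI : Finite (PrimeSpectrum B) := Algebra.QuasiFinite.finite_primeSpectrum vK.valuationSubring B
  exact etale_of_isLocalization_atPrime_of_finite P

end Groth.Agent.S14896
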