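import Groth.Statements.S14901
import Groth.Agent.Lib.Helper2ImageDim
import Groth.Agent.Lib.Helper4DimFormulaAJ
open Groth.Agent.Lib.Helper4.VarDim Groth.Agent.Lib.Helper4.FibDim AlgebraicGeometry

set_option autoImplicit false
universe u
open MovLem

namespace Groth.Agent.S14901

open AlgebraicGeometry CategoryTheory in
/-- Let k be a field, let S and X be separated k-schemes of finite type that are locally equidimensional
(all irreducible components passing through a given point have the same dimension), let f : S → X be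
a k-morphism and Z ⊆ X a closed subset. Let d be the dimension of the image f(S), as a subspace of
X. If every point s of S with f(s) ∈ Z satisfies dim O_{S,s} ≥ d + 1 (equivalently: the closed
subset f⁻¹(Z) of S has local codimension at least d + 1 at each of its points), then f⁻¹(Z) is
empty. -/
theorem result (k : Type u) [Field k] (S X : Scheme.{u})
    (pS : S ⟶ Spec (CommRingCat.of k)) (pX : X ⟶ Spec (CommRingCat.of k))
    [IsSeparated pS] [LocallyOfFiniteType pS] [QuasiCompact pS]
    [IsSeparated pX] [LocallyOfFiniteType pX] [QuasiCompact pX]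
    (hS : ∀ (s : S) (A B : Set S), A ∈ irreducibleComponents (S : Type u) → B ∈ irreducibleComponents (S : Type u) →
      s ∈ A → s ∈ B → topologicalKrullDim A = topologicalKrullDim B)
    (hX : ∀ (x : X) (A B : Set X), A ∈ irreducibleComponents (X : Type u) → B ∈ irreducibleComponents (X : Type u) →
      x ∈ A → x ∈ B → topologicalKrullDim A = topologicalKrullDim B)
    (f : S ⟶ X) (hf : f ≫ pX = pS) (Z : Set X) (hZ : IsClosed Z)
    (h : ∀ s : S, f.base s ∈ Z →
      topologicalKrullDim (Set.range f.base) + 1 ≤ ringKrullDim (S.presheaf.stalk s)) :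
    f.base ⁻¹' Z = ∅ := by
  classical
  by_contra hne
  have hne' : (f.base ⁻¹' Z).Nonempty := Set.nonempty_iff_ne_empty.mpr hne
  letI ovS : S.Over (Spec (CommRingCat.of k)) := ⟨pS⟩
  letI ovX : X.Over (Spec (CommRingCat.of k)) := ⟨pX⟩
  haveI : LocallyOfFiniteType (S ↘ Spec (CommRingCat.of k)) := ‹LocallyOfFiniteType pS›
  haveI : LocallyOfFiniteType (X ↘ Spec (CommRingCat.of k)) := ‹LocallyOfFiniteType pX›
  have hfk : f ≫ (X ↘ Spec (CommRingCat.of k)) = (S ↘ Spec (CommRingCat.of k)) := hf
  haveI : LocallyOfFiniteType (f ≫ pX) := by rw [hf]; infer_instance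
  haveI : LocallyOfFiniteType f := locallyOfFiniteType_of_comp f pX
  haveI : CompactSpace S := QuasiCompact.compactSpace_of_compactSpace pS
  have hTc : IsClosed (f.base ⁻¹' Z) := hZ.preimage f.continuous
  obtain ⟨s₀, hs₀⟩ := hne'
  have hQ := irreducibleComponent_mem_irreducibleComponents (⟨s₀, hs₀⟩ : ↥(f.base ⁻¹' Z))
  obtain ⟨s, hsT, -, -, hgen, -⟩ :=
    Groth.Agent.Lib.Helper2.KrullCut.exists_generic_of_mem_irreducibleComponents k S _
      hTc.isLocallyClosed _ hQ
  obtain ⟨b, hb⟩ := exists_ringKrullDim_stalk_eq k S s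
  obtain ⟨η, hηmax, hηs, hle⟩ :=
    Groth.Agent.Lib.Helper2.ImageDim.exists_maximal_specializes_stalk_dim_le k S s b hb
  have hhyp := h s hsT
  rw [hb] at hhyp
  have hmax_s : ∀ y : S, f y = f s → y ⤳ s → y = s := fun y hy hys =>
    hgen y (by
      show f y ∈ Z
      rw [hy]
      exact hsT) hys
  have hmax_η : ∀ y : S, f y = f η → y ⤳ η → y = η := fun y _ hy => hηmax y hy
  letI i1 : (f.fiber (f η)).Over (Spec (CommRingCat.of (X.residueField (f η)))) :=
    ⟨f.fiberToSpecResidueField (f η)⟩
  letI i2 : (f.fiber (f s)).Over (Spec (CommRingCat.of (X.residueField (f s)))) :=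
    ⟨f.fiberToSpecResidueField (f s)⟩
  have e_η : FlatMor.fibreDimAt f η =
      ((trdegNat (X.residueField (f η)) (f.fiber (f η)) (f.asFiber η) : ℕ) : WithBot ℕ∞) :=
    fibreDimAt_eq_trdegNat_of_maximal f η hmax_η
  have e_s : FlatMor.fibreDimAt f s =
      ((trdegNat (X.residueField (f s)) (f.fiber (f s)) (f.asFiber s) : ℕ) : WithBot ℕ∞) :=
    fibreDimAt_eq_trdegNat_of_maximal f s hmax_s
  have hFD := Groth.Agent.Lib.Helper4.DimFormula.fibreDimAt_le_of_specializes f η s hηs
  rw [e_η, e_s] at hFD
  have a_η : trdegNat k S η = trdegNat k X (f η) +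
      trdegNat (X.residueField (f η)) (f.fiber (f η)) (f.asFiber η) :=
    trdegNat_eq_add_fiber k f hfk (f η) (f.asFiber η) η (f.fiberι_asFiber η)
  have a_s : trdegNat k S s = trdegNat k X (f s) +
      trdegNat (X.residueField (f s)) (f.fiber (f s)) (f.asFiber s) :=
    trdegNat_eq_add_fiber k f hfk (f s) (f.asFiber s) s (f.fiberι_asFiber s)
  have hG := Groth.Agent.Lib.Helper2.ImageDim.trdegNat_le_topologicalKrullDim_range k f η
  have h5 : ((trdegNat k X (f η) : ℕ) : WithBot ℕ∞) + 1 ≤ (b : WithBot ℕ∞) :=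
    (add_le_add hG le_rfl).trans hhyp
  have h6 : trdegNat k X (f η) + 1 ≤ b := by exact_mod_cast h5
  have h7 : trdegNat (X.residueField (f η)) (f.fiber (f η)) (f.asFiber η) ≤
      trdegNat (X.residueField (f s)) (f.fiber (f s)) (f.asFiber s) := by exact_mod_cast hFD
  omega

end Groth.Agent.S14901
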