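import Groth.Statements.S14918
import Groth.Agent.Lib.Helper20Perfection

set_option autoImplicit false
universe u
open CategoryTheory AlgebraicGeometry
open PerfSch

namespace Groth.Agent.S14918

/-- Let p be a prime and let X, Y, X', Y' be schemes of characteristic p (p = 0 in the structure sheaf).
Let π_X : X' ⟶ X and π_Y : Y' ⟶ Y be perfections: X' is perfect (its absolute Frobenius is an
isomorphism) and every morphism from a perfect scheme of characteristic p to X factors uniquely
through π_X, and likewise for π_Y. Let f : X ⟶ Y be a morphism and f' : X' ⟶ Y' the induced morphism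
of perfections, the one with f' ≫ π_Y = π_X ≫ f. Then f is a universal homeomorphism (every base
change is a homeomorphism of underlying spaces) if and only if f' is a universal homeomorphism
(every base change is a homeomorphism of underlying spaces). -/
theorem result (p : ℕ) [Fact p.Prime] {X Y XP YP : Scheme.{u}}
    [FrobSch.IsCharP X p] [FrobSch.IsCharP Y p] [FrobSch.IsCharP XP p] [FrobSch.IsCharP YP p]
    (πX : XP ⟶ X) (πY : YP ⟶ Y) (hX : FrobSch.IsPerfection πX p) (hY : FrobSch.IsPerfection πY p)
    (f : X ⟶ Y) (fP : XP ⟶ YP) (w : fP ≫ πY = πX ≫ f) :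
    FlatMor.IsUnivHomeo f ↔ FlatMor.IsUnivHomeo fP := by
  obtain ⟨hX1, hX2, hX3⟩ := Groth.Agent.Lib.Helper20.Perfection.props_of_isPerfection p πX hX
  obtain ⟨hY1, hY2, hY3⟩ := Groth.Agent.Lib.Helper20.Perfection.props_of_isPerfection p πY hY
  constructor
  · intro hf
    obtain ⟨hf1, hf2, hf3⟩ := (Groth.Agent.S0415.result f).mp hf
    rw [Groth.Agent.S0415.result]
    haveI : IsIntegralHom (fP ≫ πY) := by rw [w]; infer_instance
    haveI : UniversallyInjective (fP ≫ πY) := by
      rw [w]; exact MorphismProperty.comp_mem _ _ _ hX2 hf2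
    haveI : Surjective (fP ≫ πY) := by rw [w]; infer_instance
    refine ⟨IsIntegralHom.of_comp fP πY,
      Groth.Agent.Lib.Helper20.Frob.universallyInjective_of_comp fP πY, ⟨fun y' => ?_⟩⟩
    obtain ⟨x', hx'⟩ := (fP ≫ πY).surjective (πY y')
    exact ⟨x', πY.injective hx'⟩
  · intro hf
    obtain ⟨hf1, hf2, hf3⟩ := (Groth.Agent.S0415.result fP).mp hf
    haveI : UniversallyClosed (πX ≫ f) := by rw [← w]; infer_instance
    haveI : UniversallyInjective (πX ≫ f) := by
      rw [← w]; exact MorphismProperty.comp_mem _ _ _ hf2 hY2
    haveI : Surjective (πX ≫ f) := by rw [← w]; infer_instance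
    haveI : UniversallyClosed f := UniversallyClosed.of_comp_surjective πX f
    haveI : UniversallyInjective f :=
      Groth.Agent.Lib.Helper20.Perfection.universallyInjective_of_comp_surjective πX f
    haveI : Surjective f := Surjective.of_comp πX f
    exact Groth.Agent.Lib.Helper20.EtaPt.isUnivHomeo_of f

end Groth.Agent.S14918
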