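import Groth.Statements.S14920
import Groth.Agent.Lib.Helper20Perfection

set_option autoImplicit false
universe u
open CategoryTheory AlgebraicGeometry
open PerfSch

namespace Groth.Agent.S14920

/-- Let p be a prime and let X, Y, X', Y' be schemes of characteristic p (p = 0 in the structure sheaf).
Let π_X : X' ⟶ X and π_Y : Y' ⟶ Y be perfections: X' is perfect (its absolute Frobenius is an
isomorphism) and every morphism from a perfect scheme of characteristic p to X factors uniquely
through π_X, and likewise for π_Y. Let f : X ⟶ Y be a morphism and f' : X' ⟶ Y' the induced morphism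
of perfections, the one with f' ≫ π_Y = π_X ≫ f. If f is an open immersion, then so is f'. -/
theorem result (p : ℕ) [Fact p.Prime] {X Y XP YP : Scheme.{u}}
    [FrobSch.IsCharP X p] [FrobSch.IsCharP Y p] [FrobSch.IsCharP XP p] [FrobSch.IsCharP YP p]
    (πX : XP ⟶ X) (πY : YP ⟶ Y) (hX : FrobSch.IsPerfection πX p) (hY : FrobSch.IsPerfection πY p)
    (f : X ⟶ Y) (fP : XP ⟶ YP) (w : fP ≫ πY = πX ≫ f)
    [AlgebraicGeometry.IsOpenImmersion f] : AlgebraicGeometry.IsOpenImmersion fP := by
  haveI : FrobSch.IsCharP (πY ⁻¹ᵁ f.opensRange).toScheme p :=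
    FrobSch.IsCharP.of_hom (πY ⁻¹ᵁ f.opensRange).ι p
  have h1 := Groth.Agent.Lib.Helper20.Perfection.isPerfection_restrict p πY hY f.opensRange
  have h2 := Groth.Agent.Lib.Helper20.Perfection.isPerfection_comp_iso p πX hX f.isoOpensRange
  obtain ⟨e, he⟩ := Groth.Agent.Lib.Helper20.Perfection.isPerfection_unique p _ _ h2 h1
  have key : fP = e.hom ≫ (πY ⁻¹ᵁ f.opensRange).ι := by
    apply (hY.2 XP hX.1).1
    simp only
    rw [w, Category.assoc, ← morphismRestrict_ι, ← Category.assoc, he, Category.assoc,
      Scheme.Hom.isoOpensRange_hom_ι]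
  rw [key]
  infer_instance

end Groth.Agent.S14920
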