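import Groth.Statements.S14933
import Mathlib

set_option autoImplicit false
universe u
open CategoryTheory CategoryTheory.Limits AlgebraicGeometry
open Variety

namespace Groth.Agent.S14933

open Opposite TopologicalSpace

theorem closure_eq_top_of_isPushout {A B C P : CommRingCat.{u}} {f : A ⟶ B} {g : A ⟶ C}
    {inl : B ⟶ P} {inr : C ⟶ P} (h : IsPushout f g inl inr) :
    Subring.closure (Set.range inl.hom ∪ Set.range inr.hom) = ⊤ := by
  obtain ⟨T, hT⟩ : ∃ T, T = Subring.closure (Set.range inl.hom ∪ Set.range inr.hom) := ⟨_, rfl⟩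
  rw [← hT]
  let a : B ⟶ CommRingCat.of T := CommRingCat.ofHom (inl.hom.codRestrict T
    (fun x => hT ▸ Subring.subset_closure (Or.inl ⟨x, rfl⟩)))
  let b : C ⟶ CommRingCat.of T := CommRingCat.ofHom (inr.hom.codRestrict T
    (fun x => hT ▸ Subring.subset_closure (Or.inr ⟨x, rfl⟩)))
  let incl : CommRingCat.of T ⟶ P := CommRingCat.ofHom T.subtype
  have ha : a ≫ incl = inl := by ext x; rfl
  have hb : b ≫ incl = inr := by ext x; rfl
  have hab : f ≫ a = g ≫ b := by
    ext x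
    exact congr($(h.w) x)
  have h1 : h.desc a b hab ≫ incl = 𝟙 P := by
    apply h.hom_ext
    · rw [h.inl_desc_assoc, ha, Category.comp_id]
    · rw [h.inr_desc_assoc, hb, Category.comp_id]
  rw [eq_top_iff]
  intro x _
  have h2 : incl (h.desc a b hab x) = x := congr($h1 x)
  rw [← h2]
  exact (h.desc a b hab x).2

variable {X S : Scheme.{u}} {f : X ⟶ S} {Ω : X.Modules} (d : OmegaSh.Der f Ω)

/-- sections killed by `d` -/
def K (U : X.Opens) : Subring Γ(X, U) where
  carrier := {s | d.d (X := op U) s = 0}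
  mul_mem' {a b} ha hb := by
    simp only [Set.mem_ofPred_eq] at *
    rw [d.d_mul, ha, hb, smul_zero, smul_zero, add_zero]
  one_mem' := d.d_one _
  add_mem' {a b} ha hb := by simp only [Set.mem_ofPred_eq] at *; rw [map_add, ha, hb, add_zero]
  zero_mem' := map_zero _
  neg_mem' {a} ha := by simp only [Set.mem_ofPred_eq] at *; rw [map_neg, ha, neg_zero]

theorem mem_K {U : X.Opens} (s : Γ(X, U)) : s ∈ K d U ↔ d.d (X := op U) s = 0 := Iff.rfl

theorem map_mem_K {U V : X.Opens} (i : V ⟶ U) (s : Γ(X, U)) (hs : s ∈ K d U) :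
    X.presheaf.map i.op s ∈ K d V := by
  rw [mem_K] at hs ⊢
  have := d.d_map i.op s
  rw [hs, map_zero] at this
  exact this

theorem d_pow_succ (U : X.Opens) (s : Γ(X, U)) (n : ℕ) :
    d.d (X := op U) (s ^ (n + 1)) = ((n + 1 : ℕ) : Γ(X, U)) • (s ^ n • d.d (X := op U) s) := by
  induction n with
  | zero => simp
  | succ n ih =>
    rw [pow_succ, d.d_mul, ih]
    simp only [smul_smul, ← add_smul]
    congr 1
    push_cast
    ring

theorem pow_mem_K (p : ℕ) [Fact p.Prime] [FrobSch.IsCharP X p] (U : X.Opens) (s : Γ(X, U)) :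
    s ^ p ∈ K d U := by
  rw [mem_K]
  obtain ⟨n, hn⟩ : ∃ n, p = n + 1 := ⟨p - 1, (Nat.succ_pred_eq_of_pos (Fact.out : p.Prime).pos).symm⟩
  have h0 := FrobSch.natCast_eq_zero_app X p U
  rw [hn] at h0 ⊢
  rw [d_pow_succ, h0, zero_smul]

theorem inv_mem_K {U : X.Opens} (s t : Γ(X, U)) (hst : s * t = 1) (hs : s ∈ K d U) : t ∈ K d U := by
  rw [mem_K] at hs ⊢
  have h1 := d.d_mul s t
  rw [hst, d.d_one, hs, smul_zero, add_zero] at h1
  have h2 : t • (s • d.d (X := op U) t) = 0 := by rw [← h1, smul_zero]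
  rw [smul_smul, mul_comm, hst, one_smul] at h2
  exact h2


theorem appLE_eq_of_eq {X Y : Scheme.{u}} {g h : X ⟶ Y} (e : g = h) (U : Y.Opens) (V : X.Opens)
    (e₁ : V ≤ g ⁻¹ᵁ U) : g.appLE U V e₁ = h.appLE U V (e ▸ e₁) := by
  subst e; rfl

theorem relFrob_appLE_mem_K (p : ℕ) [Fact p.Prime] [FrobSch.IsCharP S p]
    {US : S.Opens} (hUS : IsAffineOpen US) {UX : X.Opens} (hUX : IsAffineOpen UX)
    (hUSX : UX ≤ f ⁻¹ᵁ US) (UY : (FrobSch.frobTwist f p).Opens)
    (hUY : UY = pullback.fst f (FrobSch.frob S p) ⁻¹ᵁ UX ⊓ pullback.snd f (FrobSch.frob S p) ⁻¹ᵁ US)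
    (hle : UX ≤ (FrobSch.relFrob f p) ⁻¹ᵁ UY) (c : Γ(FrobSch.frobTwist f p, UY)) :
    (FrobSch.relFrob f p).appLE UY UX hle c ∈ K d UX := by
  have : FrobSch.IsCharP X p := FrobSch.IsCharP.of_hom f p
  have H : IsPullback (pullback.fst f (FrobSch.frob S p)) (pullback.snd f (FrobSch.frob S p)) f
    (FrobSch.frob S p) := IsPullback.of_hasPullback _ _
  have hUST : US ≤ (FrobSch.frob S p) ⁻¹ᵁ US := le_rfl
  have hiso := isIso_pushoutSection_of_isAffineOpen H hUST hUSX hUY hUS hUS hUX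
  have hpo := (isIso_pushoutSection_iff H hUST hUSX hUY).mp hiso
  have hcl := closure_eq_top_of_isPushout hpo
  have hc : c ∈ Subring.closure (Set.range
      ((pullback.fst f (FrobSch.frob S p)).appLE UX UY (by simp [hUY])).hom ∪ Set.range
      ((pullback.snd f (FrobSch.frob S p)).appLE US UY (by simp [hUY])).hom) := by
    rw [hcl]; exact Subring.mem_top c
  refine (Subring.closure_le (t := (K d UX).comap ((FrobSch.relFrob f p).appLE UY UX hle).hom)).mpr ?_ hc
  rintro _ (⟨a, rfl⟩ | ⟨r, rfl⟩)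
  · rw [SetLike.mem_coe, Subring.mem_comap]
    have h1 : (pullback.fst f (FrobSch.frob S p)).appLE UX UY (by simp [hUY]) ≫
        (FrobSch.relFrob f p).appLE UY UX hle = (FrobSch.frob X p).appLE UX UX le_rfl := by
      rw [Scheme.Hom.appLE_comp_appLE]
      exact appLE_eq_of_eq (FrobSch.relFrob_fst f p) _ _ _
    have h2 : ((FrobSch.relFrob f p).appLE UY UX hle).hom
        (((pullback.fst f (FrobSch.frob S p)).appLE UX UY (by simp [hUY])).hom a) = a ^ p := by
      have := congr($h1 a)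
      rw [CommRingCat.comp_apply] at this
      rw [this]
      change (X.presheaf.map (𝟙 (op UX))).hom (a ^ p) = a ^ p
      rw [X.presheaf.map_id]
      rfl
    rw [h2]
    exact pow_mem_K d p UX a
  · rw [SetLike.mem_coe, Subring.mem_comap]
    have h1 : (pullback.snd f (FrobSch.frob S p)).appLE US UY (by simp [hUY]) ≫
        (FrobSch.relFrob f p).appLE UY UX hle = f.appLE US UX hUSX := by
      rw [Scheme.Hom.appLE_comp_appLE]
      exact appLE_eq_of_eq (FrobSch.relFrob_snd f p) _ _ _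
    have h2 : ((FrobSch.relFrob f p).appLE UY UX hle).hom
        (((pullback.snd f (FrobSch.frob S p)).appLE US UY (by simp [hUY])).hom r) =
        X.presheaf.map (homOfLE hUSX).op (f.app US r) := by
      have := congr($h1 r)
      rw [CommRingCat.comp_apply] at this
      rw [this]
      rfl
    rw [h2]
    apply map_mem_K
    rw [mem_K]
    exact d.d_app (X := op US) r

theorem relFrob_app_mem_K (p : ℕ) [Fact p.Prime] [FrobSch.IsCharP S p]
    (V : (FrobSch.frobTwist f p).Opens) (c : Γ(FrobSch.frobTwist f p, V)) :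
    (FrobSch.relFrob f p).app V c ∈ K d ((FrobSch.relFrob f p) ⁻¹ᵁ V) := by
  have hcharX : FrobSch.IsCharP X p := FrobSch.IsCharP.of_hom f p
  rw [mem_K]
  refine Ω.isSheaf.section_ext (U := op ((FrobSch.relFrob f p) ⁻¹ᵁ V)) fun x hx => ?_
  obtain ⟨_, ⟨US, hUS, rfl⟩, hxUS, -⟩ :=
    S.isBasis_affineOpens.exists_subset_of_mem_open (Set.mem_univ (f x)) isOpen_univ
  obtain ⟨_, ⟨UX, hUX, rfl⟩, hxUX, hUXle⟩ :=
    X.isBasis_affineOpens.exists_subset_of_mem_open (show x ∈ (f ⁻¹ᵁ US : Set X) from hxUS)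
      (f ⁻¹ᵁ US).2
  have hUSX : UX ≤ f ⁻¹ᵁ US := hUXle
  obtain ⟨UY, hUY⟩ : ∃ UY : (FrobSch.frobTwist f p).Opens,
      UY = pullback.fst f (FrobSch.frob S p) ⁻¹ᵁ UX ⊓ pullback.snd f (FrobSch.frob S p) ⁻¹ᵁ US :=
    ⟨_, rfl⟩
  have H : IsPullback (pullback.fst f (FrobSch.frob S p)) (pullback.snd f (FrobSch.frob S p)) f
    (FrobSch.frob S p) := IsPullback.of_hasPullback _ _
  have hUST : US ≤ (FrobSch.frob S p) ⁻¹ᵁ US := le_rfl
  have hUYaff : IsAffineOpen UY := by
    have : IsAffine US := hUS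
    have : IsAffine UX := hUX
    exact .of_isIso (Scheme.Hom.isPullback_resLE H hUST hUSX hUY).isoPullback.hom
  have hle : UX ≤ (FrobSch.relFrob f p) ⁻¹ᵁ UY := by
    intro z hz
    rw [hUY]
    refine ⟨?_, ?_⟩
    · show (pullback.fst f (FrobSch.frob S p)) ((FrobSch.relFrob f p) z) ∈ UX
      rw [← Scheme.Hom.comp_apply, FrobSch.relFrob_fst]
      exact hz
    · show (pullback.snd f (FrobSch.frob S p)) ((FrobSch.relFrob f p) z) ∈ US
      rw [← Scheme.Hom.comp_apply, FrobSch.relFrob_snd]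
      exact hUSX hz
  have hyUY : (FrobSch.relFrob f p) x ∈ UY := hle hxUX
  obtain ⟨h, hhle, hyh⟩ := hUYaff.exists_basicOpen_le
    (V := V ⊓ UY) ⟨(FrobSch.relFrob f p) x, ⟨hx, hyUY⟩⟩ hyUY
  obtain ⟨W, hW⟩ : ∃ W, W = (FrobSch.frobTwist f p).basicOpen h := ⟨_, rfl⟩
  have hWV : W ≤ V := hW ▸ hhle.trans inf_le_left
  have hWUY : W ≤ UY := hW ▸ hhle.trans inf_le_right
  obtain ⟨U', hU'⟩ : ∃ U' : X.Opens, U' = (FrobSch.relFrob f p) ⁻¹ᵁ W ⊓ UX := ⟨_, rfl⟩
  have hU'W : U' ≤ (FrobSch.relFrob f p) ⁻¹ᵁ W := hU' ▸ inf_le_left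
  have hU'UX : U' ≤ UX := hU' ▸ inf_le_right
  have hU'V : U' ≤ (FrobSch.relFrob f p) ⁻¹ᵁ V := hU'W.trans (fun z hz => hWV hz)
  have hxU' : x ∈ U' := by rw [hU']; exact ⟨by rw [hW]; exact hyh, hxUX⟩
  refine ⟨U', hU'V, hxU', ?_⟩
  have hdmap := d.d_map (homOfLE hU'V).op ((FrobSch.relFrob f p).app V c)
  suffices hgoal : X.presheaf.map (homOfLE hU'V).op ((FrobSch.relFrob f p).app V c) ∈ K d U' by
    rw [mem_K] at hgoal
    exact (hdmap.symm.trans hgoal).trans (map_zero _).symm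
  -- the restricted section
  obtain ⟨cW, hcW⟩ : ∃ cW, cW = (FrobSch.frobTwist f p).presheaf.map (homOfLE hWV).op c := ⟨_, rfl⟩
  have hres : X.presheaf.map (homOfLE hU'V).op ((FrobSch.relFrob f p).app V c) =
      (FrobSch.relFrob f p).appLE W U' hU'W cW := by
    have h1 := Scheme.Hom.map_appLE (FrobSch.relFrob f p) hU'W (homOfLE hWV).op
    rw [hcW]
    exact (congr($h1 c)).symm
  rw [hres]
  -- sections coming from `UY` land in `K`
  have hK : ∀ a : Γ(FrobSch.frobTwist f p, UY), (FrobSch.relFrob f p).appLE W U' hU'W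
      ((FrobSch.frobTwist f p).presheaf.map (homOfLE hWUY).op a) ∈ K d U' := by
    intro a
    have h1 : (FrobSch.relFrob f p).appLE W U' hU'W
        ((FrobSch.frobTwist f p).presheaf.map (homOfLE hWUY).op a) =
        X.presheaf.map (homOfLE hU'UX).op ((FrobSch.relFrob f p).appLE UY UX hle a) := by
      rw [← CommRingCat.comp_apply, ← CommRingCat.comp_apply, Scheme.Hom.map_appLE,
        Scheme.Hom.appLE_map]
    rw [h1]
    exact map_mem_K d _ _ (relFrob_appLE_mem_K d p hUS hUX hUSX UY hUY hle a)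
  let _ := ((FrobSch.frobTwist f p).presheaf.map (homOfLE hWUY).op).hom.toAlgebra
  have hloc : IsLocalization.Away h Γ(FrobSch.frobTwist f p, W) :=
    hUYaff.isLocalization_of_eq_basicOpen h (homOfLE hWUY) hW
  obtain ⟨⟨c', ⟨_, n, rfl⟩⟩, hc'⟩ := IsLocalization.surj (Submonoid.powers h) cW
  have hunit : IsUnit (algebraMap Γ(FrobSch.frobTwist f p, UY) Γ(FrobSch.frobTwist f p, W) h) :=
    IsLocalization.Away.algebraMap_isUnit h
  obtain ⟨t, ht⟩ := hunit.exists_right_inv
  simp only [RingHom.algebraMap_toAlgebra] at hc' ht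
  obtain ⟨ρ, hρ⟩ : ∃ ρ, ρ = ((FrobSch.relFrob f p).appLE W U' hU'W).hom := ⟨_, rfl⟩
  have e1 : ρ cW * ρ (((FrobSch.frobTwist f p).presheaf.map (homOfLE hWUY).op).hom h) ^ n =
      ρ (((FrobSch.frobTwist f p).presheaf.map (homOfLE hWUY).op).hom c') := by
    rw [← hc']
    simp only [map_mul, map_pow]
  have e2 : ρ (((FrobSch.frobTwist f p).presheaf.map (homOfLE hWUY).op).hom h) * ρ t = 1 := by
    rw [← map_mul, ht, map_one]
  have e3 : ρ t ∈ K d U' := inv_mem_K d _ _ e2 (hρ ▸ hK h)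
  have e4 : ρ cW = ρ (((FrobSch.frobTwist f p).presheaf.map (homOfLE hWUY).op).hom c') * ρ t ^ n := by
    rw [← e1, mul_assoc, ← mul_pow, e2, one_pow, mul_one]
  have hfin : ρ cW ∈ K d U' := by
    rw [e4]
    exact Subring.mul_mem _ (hρ ▸ hK c') (Subring.pow_mem _ e3 n)
  rw [hρ] at hfin
  exact hfin

/-- a derivation relative to `f` killing the sections coming from `Y` along `g` is a derivation
relative to `g` (same values) -/
def derOfKill {Y : Scheme.{u}} (g : X ⟶ Y) {F : X.Modules} (D : OmegaSh.Der f F)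
    (h : ∀ (V : Y.Opens) (c : Γ(Y, V)), D.d (X := op (g ⁻¹ᵁ V)) (g.app V c) = 0) :
    OmegaSh.Der g F where
  d := D.d
  d_mul := D.d_mul
  d_map := D.d_map
  d_app {V} a := h V.unop a

theorem kill_of_relFrob (p : ℕ) [Fact p.Prime] [FrobSch.IsCharP S p] {F : X.Modules}
    (D : OmegaSh.Der (FrobSch.relFrob f p) F) (V : S.Opens) (c : Γ(S, V)) :
    D.d (X := op (f ⁻¹ᵁ V)) (f.app V c) = 0 := by
  have e : FrobSch.relFrob f p ≫ pullback.snd f (FrobSch.frob S p) = f := FrobSch.relFrob_snd f p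
  have h1 := Scheme.Hom.congr_app e.symm V
  rw [Scheme.Hom.comp_app] at h1
  have e' : f ⁻¹ᵁ V = (FrobSch.relFrob f p ≫ pullback.snd f (FrobSch.frob S p)) ⁻¹ᵁ V :=
    congrArg (fun g : X ⟶ S => g ⁻¹ᵁ V) e.symm
  have h2 : f.app V c = X.presheaf.map (eqToHom e').op
      ((FrobSch.relFrob f p).app (pullback.snd f (FrobSch.frob S p) ⁻¹ᵁ V)
        ((pullback.snd f (FrobSch.frob S p)).app V c)) := congr($h1 c)
  rw [h2]
  have h3 := D.d_map (eqToHom e' : f ⁻¹ᵁ V ⟶
    (FrobSch.relFrob f p ≫ pullback.snd f (FrobSch.frob S p)) ⁻¹ᵁ V).op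
      ((FrobSch.relFrob f p).app (pullback.snd f (FrobSch.frob S p) ⁻¹ᵁ V)
        ((pullback.snd f (FrobSch.frob S p)).app V c))
  refine h3.trans ?_
  have h4 := D.d_app (X := op (pullback.snd f (FrobSch.frob S p) ⁻¹ᵁ V))
    ((pullback.snd f (FrobSch.frob S p)).app V c)
  exact (congrArg _ h4).trans (map_zero _)


/-- Let p be a prime, S a scheme of characteristic p (p is zero in the structure sheaf) and f : X → S a
morphism of schemes, with relative Frobenius F_{X/S} : X → X^(p) = X ×_{S,F_S} S over S. Then the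
sheaf of differentials of X over S is also the sheaf of differentials of X over X^(p): if Ω is an
O_X-module and d : O_X → Ω a universal S-derivation, then d kills every section coming from X^(p),
i.e. there is a derivation O_X → Ω relative to F_{X/S} with the same values as d, and that
derivation is universal among derivations relative to F_{X/S}. -/
theorem result (p : ℕ) [Fact p.Prime]
    {X S : Scheme.{u}} [FrobSch.IsCharP S p] (f : X ⟶ S)
    (Ω : X.Modules) (d : OmegaSh.Der f Ω) (hd : OmegaSh.IsUniversal d) :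
    ∃ d' : OmegaSh.Der (FrobSch.relFrob f p) Ω,
      (∀ (U : X.Opens) (s : Γ(X, U)), d'.app U s = d.app U s) ∧ OmegaSh.IsUniversal d' := by
  refine ⟨derOfKill (FrobSch.relFrob f p) d (fun V c => relFrob_app_mem_K d p V c),
    fun U s => rfl, ?_⟩
  intro F D
  obtain ⟨α, hα, huniq⟩ := hd F (derOfKill f D (fun V c => kill_of_relFrob p D V c))
  refine ⟨α, ?_, ?_⟩
  · apply PresheafOfModules.Derivation.ext
    have h := congrArg (fun D' => @PresheafOfModules.Derivation.d _ _ _ _ _ _ _ _ _ D') hα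
    exact h
  · intro β hβ
    apply huniq
    apply PresheafOfModules.Derivation.ext
    have h := congrArg (fun D' => @PresheafOfModules.Derivation.d _ _ _ _ _ _ _ _ _ D') hβ
    exact h

end Groth.Agent.S14933
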