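import Groth.Statements.S14953
import Groth.Agent.Lib.Helper22Milnor

set_option autoImplicit false
universe u
open TensorProduct
open EtAlg

namespace Groth.Agent.S14953

/-- Let B' = B ×_A A' be a fibre product of commutative rings with A' → A surjective and L' a B'-module.
If B ⊗_{B'} L' is a finitely generated B-module and A' ⊗_{B'} L' is a finitely generated A'-module,
then L' is a finitely generated B'-module. (The published statement is about flat modules of finite
type; the finiteness conclusion does not use flatness, which descends separately.) -/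
theorem result (B' B A' A : Type u) [CommRing B'] [CommRing B] [CommRing A'] [CommRing A]
    [Algebra B' B] [Algebra B' A'] [Algebra B A] [Algebra A' A] [Algebra B' A] [IsScalarTower B' B A] [IsScalarTower B' A' A]
    (hsq : EtMil.IsFibreSquare B' B A' A)
    (L' : Type u) [AddCommGroup L'] [Module B' L']
    [Module.Finite B (B ⊗[B'] L')] [Module.Finite A' (A' ⊗[B'] L')] : Module.Finite B' L' := by
  obtain ⟨N1, hN1, h1⟩ := Groth.Agent.Lib.Helper22.exists_fg_forall_one_tmul_mkQ_eq_zero B' B L'
  obtain ⟨N2, hN2, h2⟩ := Groth.Agent.Lib.Helper22.exists_fg_forall_one_tmul_mkQ_eq_zero B' A' L'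
  have hfg : (N1 ⊔ N2).FG := hN1.sup hN2
  have htop : N1 ⊔ N2 = ⊤ := by
    rw [eq_top_iff]
    intro l _
    have hq : (N1 ⊔ N2).mkQ l = 0 :=
      Groth.Agent.Lib.Helper22.fs_eq_zero_of_forall hsq (L' := L' ⧸ (N1 ⊔ N2))
        (fun q => by
          obtain ⟨m, rfl⟩ := (N1 ⊔ N2).mkQ_surjective q
          exact h2 _ le_sup_right m) _ (h1 _ le_sup_left l)
    rwa [Submodule.mkQ_apply, Submodule.Quotient.mk_eq_zero] at hq
  rw [htop] at hfg
  exact ⟨hfg⟩

end Groth.Agent.S14953
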