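import Groth.Statements.S14955
import Groth.Agent.Lib.Helper22Milnor

set_option autoImplicit false
universe u
open TensorProduct
open EtAlg

namespace Groth.Agent.S14955

/-- Let B' = B ×_A A' be a fibre product of commutative rings with A' → A surjective. Then the square is
also a pushout of commutative rings: the canonical map B ⊗_{B'} A' → A is an isomorphism. -/
theorem result (B' B A' A : Type u) [CommRing B'] [CommRing B] [CommRing A'] [CommRing A]
    [Algebra B' B] [Algebra B' A'] [Algebra B A] [Algebra A' A] [Algebra B' A] [IsScalarTower B' B A] [IsScalarTower B' A' A]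
    (hsq : EtMil.IsFibreSquare B' B A' A) : Algebra.IsPushout B' B A' A := by
  have hsurjB := Groth.Agent.Lib.Helper22.fs_surjective hsq
  let f0 : A' →ₗ[B'] A := (IsScalarTower.toAlgHom B' A' A).toLinearMap
  have hf0 : ∀ x, f0 x = algebraMap A' A x := fun _ => rfl
  have hform : ∀ t : B ⊗[B'] A', ∃ a' : A', t = (1 : B) ⊗ₜ[B'] a' := by
    intro t
    induction t using TensorProduct.induction_on with
    | zero => exact ⟨0, (TensorProduct.tmul_zero _ _).symm⟩
    | tmul b a' =>
      obtain ⟨b', rfl⟩ := hsurjB b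
      refine ⟨b' • a', ?_⟩
      rw [← TensorProduct.smul_tmul, Algebra.smul_def, mul_one]
    | add x y hx hy =>
      obtain ⟨a1, rfl⟩ := hx
      obtain ⟨a2, rfl⟩ := hy
      exact ⟨a1 + a2, (TensorProduct.tmul_add _ _ _).symm⟩
  have hinj : Function.Injective (LinearMap.liftBaseChange B f0) := by
    rw [injective_iff_map_eq_zero]
    intro t ht
    obtain ⟨a', rfl⟩ := hform t
    rw [LinearMap.liftBaseChange_tmul, one_smul, hf0] at ht
    obtain ⟨j, hj1, hj2⟩ := Groth.Agent.Lib.Helper22.fs_exists_lift_ker hsq a' ht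
    rw [← hj2, Algebra.algebraMap_eq_smul_one, ← TensorProduct.smul_tmul, Algebra.smul_def, hj1,
      zero_mul, TensorProduct.zero_tmul]
  have hsurj : Function.Surjective (LinearMap.liftBaseChange B f0) := by
    intro a
    obtain ⟨a', rfl⟩ := hsq.1 a
    exact ⟨(1 : B) ⊗ₜ[B'] a', by rw [LinearMap.liftBaseChange_tmul, one_smul, hf0]⟩
  refine ⟨IsBaseChange.of_equiv (LinearEquiv.ofBijective (LinearMap.liftBaseChange B f0) ⟨hinj, hsurj⟩) ?_⟩
  intro x
  rw [LinearEquiv.ofBijective_apply, LinearMap.liftBaseChange_tmul, one_smul]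

end Groth.Agent.S14955
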