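import Groth.Statements.S14956
import Groth.Agent.S14949
import Groth.Agent.S14952
import Groth.Agent.S14953
import Groth.Agent.S14954
import Groth.Agent.Lib.LeadAzumaya
import Mathlib

set_option autoImplicit false
universe u
open TensorProduct
open Brauer

namespace Groth.Agent.S14956

section Pair

variable (B' B A' A : Type u) [CommRing B'] [CommRing B] [CommRing A'] [CommRing A]
  [Algebra B' B] [Algebra B' A'] [Algebra B A] [Algebra A' A] [Algebra B' A] [IsScalarTower B' B A]
  [IsScalarTower B' A' A]

theorem subsingleton_lTensor_coker {R : Type*} [CommRing R] (S : Type*) [CommRing S] [Algebra R S]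
    {M N : Type*} [AddCommGroup M] [Module R M] [AddCommGroup N] [Module R N]
    (φ : M →ₗ[R] N) (h : Function.Surjective (LinearMap.lTensor S φ)) :
    Subsingleton (S ⊗[R] (N ⧸ LinearMap.range φ)) := by
  let π : N →ₗ[R] (N ⧸ LinearMap.range φ) := (LinearMap.range φ).mkQ
  have hπ : Function.Surjective π := Submodule.mkQ_surjective _
  have hex : Function.Exact φ π := LinearMap.exact_map_mkQ_range φ
  have hex' := lTensor_exact S hex hπ
  refine ⟨fun z z' => ?_⟩
  have hz : ∀ z : S ⊗[R] (N ⧸ LinearMap.range φ), z = 0 := by
    intro z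
    obtain ⟨w, rfl⟩ := LinearMap.lTensor_surjective S hπ z
    obtain ⟨v, rfl⟩ := h w
    exact (hex' _).mpr ⟨v, rfl⟩
  rw [hz z, hz z']

theorem surjective_of_pair (hsq : EtMil.IsFibreSquare B' B A' A)
    {M N : Type u} [AddCommGroup M] [Module B' M] [AddCommGroup N] [Module B' N]
    (φ : M →ₗ[B'] N) (h1 : Function.Surjective (LinearMap.lTensor B φ))
    (h2 : Function.Surjective (LinearMap.lTensor A' φ)) : Function.Surjective φ := by
  haveI := subsingleton_lTensor_coker B φ h1
  haveI := subsingleton_lTensor_coker A' φ h2
  haveI : Subsingleton (N ⧸ LinearMap.range φ) :=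
    Groth.Agent.S14949.result B' B A' A hsq (N ⧸ LinearMap.range φ)
  rw [← LinearMap.range_eq_top]
  exact Submodule.Quotient.subsingleton_iff.mp ‹_›

theorem subsingleton_lTensor_ker {R : Type*} [CommRing R] (S : Type*) [CommRing S] [Algebra R S]
    {M N : Type*} [AddCommGroup M] [Module R M] [AddCommGroup N] [Module R N]
    (φ : M →ₗ[R] N) (s : N →ₗ[R] M) (hs : φ ∘ₗ s = LinearMap.id)
    (h : Function.Injective (LinearMap.lTensor S φ)) :
    Subsingleton (S ⊗[R] (LinearMap.ker φ)) := by
  let ι : LinearMap.ker φ →ₗ[R] M := (LinearMap.ker φ).subtype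
  let ρ : M →ₗ[R] LinearMap.ker φ :=
    LinearMap.codRestrict (LinearMap.ker φ) (LinearMap.id - s ∘ₗ φ) (fun m => by
      rw [LinearMap.mem_ker, LinearMap.sub_apply, map_sub, LinearMap.id_apply, LinearMap.comp_apply]
      have := LinearMap.congr_fun hs (φ m)
      simp only [LinearMap.comp_apply, LinearMap.id_apply] at this
      rw [this, sub_self])
  have hρι : ρ ∘ₗ ι = LinearMap.id := by
    ext k
    simp [ρ, ι, LinearMap.mem_ker.mp k.2]
  have hφι : φ ∘ₗ ι = 0 := by
    ext k
    simp [ι, LinearMap.mem_ker.mp k.2]
  refine ⟨fun z z' => ?_⟩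
  have hz : ∀ z : S ⊗[R] (LinearMap.ker φ), z = 0 := by
    intro z
    have h1 : LinearMap.lTensor S φ (LinearMap.lTensor S ι z) = 0 := by
      rw [← LinearMap.comp_apply, ← LinearMap.lTensor_comp, hφι, LinearMap.lTensor_zero,
        LinearMap.zero_apply]
    have h2 : LinearMap.lTensor S ι z = 0 := h (h1.trans (map_zero _).symm)
    have h3 : LinearMap.lTensor S ρ (LinearMap.lTensor S ι z) = z := by
      rw [← LinearMap.comp_apply, ← LinearMap.lTensor_comp, hρι, LinearMap.lTensor_id,
        LinearMap.id_apply]
    rw [← h3, h2, map_zero]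
  rw [hz z, hz z']

theorem bijective_of_pair (hsq : EtMil.IsFibreSquare B' B A' A)
    {M N : Type u} [AddCommGroup M] [Module B' M] [AddCommGroup N] [Module B' N]
    [Module.Projective B' N]
    (φ : M →ₗ[B'] N) (h1 : Function.Bijective (LinearMap.lTensor B φ))
    (h2 : Function.Bijective (LinearMap.lTensor A' φ)) : Function.Bijective φ := by
  have hsurj := surjective_of_pair B' B A' A hsq φ h1.2 h2.2
  obtain ⟨s, hs⟩ := Module.projective_lifting_property φ LinearMap.id hsurj
  haveI := subsingleton_lTensor_ker B φ s hs h1.1
  haveI := subsingleton_lTensor_ker A' φ s hs h2.1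
  haveI : Subsingleton (LinearMap.ker φ) :=
    Groth.Agent.S14949.result B' B A' A hsq (LinearMap.ker φ)
  refine ⟨?_, hsurj⟩
  rw [← LinearMap.ker_eq_bot]
  exact Submodule.eq_bot_of_subsingleton

end Pair


/-- Let B' = B ×_A A' be a fibre product of commutative rings with A' → A surjective and D' a B'-algebra
(associative, unital, not necessarily commutative). Then D' is an Azumaya algebra over B' if and
only if B ⊗_{B'} D' is an Azumaya algebra over B and A' ⊗_{B'} D' is an Azumaya algebra over A'.
(The published statement is for a quasi-coherent algebra on the pushout scheme Y of a closed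
immersion and an affine morphism; this row is the case of an affine Y. Azumaya is taken in the
finite-projective-faithful sense.) -/
theorem result (B' B A' A : Type u) [CommRing B'] [CommRing B] [CommRing A'] [CommRing A]
    [Algebra B' B] [Algebra B' A'] [Algebra B A] [Algebra A' A] [Algebra B' A] [IsScalarTower B' B A] [IsScalarTower B' A' A]
    (hsq : EtMil.IsFibreSquare B' B A' A)
    (D' : Type u) [Ring D'] [Algebra B' D'] :
    IsAzumaya B' D' ↔ IsAzumaya B (B ⊗[B'] D') ∧ IsAzumaya A' (A' ⊗[B'] D') := by
  constructor
  · intro h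
    exact ⟨Groth.Agent.Lib.LeadAzumaya.isAzumaya_baseChange B D',
      Groth.Agent.Lib.LeadAzumaya.isAzumaya_baseChange A' D'⟩
  · rintro ⟨hB, hA'⟩
    haveI : Module.FinitePresentation B (B ⊗[B'] D') := Module.finitePresentation_of_projective _ _
    haveI : Module.FinitePresentation A' (A' ⊗[B'] D') := Module.finitePresentation_of_projective _ _
    haveI : Module.Flat B' D' := Groth.Agent.S14952.result B' B A' A hsq D'
    haveI : Module.Finite B' D' := Groth.Agent.S14953.result B' B A' A hsq D'
    haveI : Module.FinitePresentation B' D' := Groth.Agent.S14954.result B' B A' A hsq D'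
    haveI : Module.Projective B' D' := Module.Flat.projective_of_finitePresentation
    have hbij : Function.Bijective (AlgHom.mulLeftRight B' D') := by
      have h1 := (Groth.Agent.Lib.LeadAzumaya.bijective_mulLeftRight_baseChange_iff (R := B') B D').mp
        (IsAzumaya.bij (R := B) (A := B ⊗[B'] D'))
      have h2 := (Groth.Agent.Lib.LeadAzumaya.bijective_mulLeftRight_baseChange_iff (R := B') A' D').mp
        (IsAzumaya.bij (R := A') (A := A' ⊗[B'] D'))
      haveI : Module.Finite B' (Module.End B' D') := Module.Finite.equiv (dualTensorHomEquiv B' D' D')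
      haveI : Module.Projective B' (Module.End B' D') :=
        Module.Projective.of_equiv (dualTensorHomEquiv B' D' D')
      exact bijective_of_pair B' B A' A hsq _ h1 h2
    haveI : FaithfulSMul B' D' := by
      refine ⟨fun {r r'} h => ?_⟩
      have hBf : FaithfulSMul B (B ⊗[B'] D') := inferInstance
      have hAf : FaithfulSMul A' (A' ⊗[B'] D') := inferInstance
      have e1 : algebraMap B' B r = algebraMap B' B r' := by
        apply hBf.eq_of_smul_eq_smul
        intro z
        induction z using TensorProduct.induction_on with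
        | zero => simp
        | add x y hx hy => rw [smul_add, smul_add, hx, hy]
        | tmul b d =>
          rw [algebraMap_smul, algebraMap_smul, ← TensorProduct.tmul_smul, ← TensorProduct.tmul_smul, h d]
      have e2 : algebraMap B' A' r = algebraMap B' A' r' := by
        apply hAf.eq_of_smul_eq_smul
        intro z
        induction z using TensorProduct.induction_on with
        | zero => simp
        | add x y hx hy => rw [smul_add, smul_add, hx, hy]
        | tmul b d =>
          rw [algebraMap_smul, algebraMap_smul, ← TensorProduct.tmul_smul, ← TensorProduct.tmul_smul, h d]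
      have hcomp : algebraMap B A (algebraMap B' B r) = algebraMap A' A (algebraMap B' A' r) := by
        rw [← IsScalarTower.algebraMap_apply, ← IsScalarTower.algebraMap_apply]
      obtain ⟨b0, -, huniq⟩ := hsq.2 (algebraMap B' B r) (algebraMap B' A' r) hcomp
      rw [huniq r ⟨rfl, rfl⟩, huniq r' ⟨e1.symm, e2.symm⟩]
    exact { bij := hbij }


end Groth.Agent.S14956
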