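import Groth.Statements.S14958
import Mathlib
import Groth.Agent.Lib.Helper13Devissage
import Groth.Agent.Lib.Helper13TorMore
-- import your own Groth.Agent.* helpers here

set_option autoImplicit false
universe u
open TensorProduct CategoryTheory CategoryTheory.Limits
open EtAlg

namespace Groth.Agent.S14958

open Groth.Agent.Helper13Tor MonoidalCategory

section add
variable {R : Type u} [CommRing R]

theorem tRmap_add (P : ChainComplex (ModuleCat.{u} R) ℕ) {N N' : ModuleCat.{u} R}
    (g₁ g₂ : N ⟶ N') : tRmap P (g₁ + g₂) = tRmap P g₁ + tRmap P g₂ := by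
  refine HomologicalComplex.hom_ext _ _ fun j => ?_
  show (P.X j) ◁ (g₁ + g₂) = (P.X j) ◁ g₁ + (P.X j) ◁ g₂
  exact MonoidalPreadditive.whiskerLeft_add _ _

theorem tor_map_add (M : ModuleCat.{u} R) (n : ℕ) {N N' : ModuleCat.{u} R} (g₁ g₂ : N ⟶ N') :
    ((Tor (ModuleCat.{u} R) n).obj M).map (g₁ + g₂) =
      ((Tor (ModuleCat.{u} R) n).obj M).map g₁ + ((Tor (ModuleCat.{u} R) n).obj M).map g₂ := by
  obtain ⟨θ, hθ⟩ := exists_natural_iso M (projectiveResolution M) n
  rw [← cancel_mono (θ N').hom, hθ, tRmap_add, HomologicalComplex.homologyMap_add,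
    Preadditive.comp_add, Preadditive.add_comp, hθ, hθ]

theorem tor_map_neg (M : ModuleCat.{u} R) (n : ℕ) {N N' : ModuleCat.{u} R} (g : N ⟶ N') :
    ((Tor (ModuleCat.{u} R) n).obj M).map (-g) = -((Tor (ModuleCat.{u} R) n).obj M).map g := by
  have h := tor_map_add M n g (-g)
  rw [add_neg_cancel] at h
  have h0 : ((Tor (ModuleCat.{u} R) n).obj M).map (0 : N ⟶ N') = 0 := by
    have := tor_map_add M n (0 : N ⟶ N') 0
    rw [add_zero] at this
    exact left_eq_add.mp this
  rw [h0] at h
  exact (neg_eq_of_add_eq_zero_right h.symm).symm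

end add

/-- formal part: `Epi (T π) ↔ Epi (desc (T f) (T g))` when `π = f p₁ - g p₂`. -/
theorem epi_iff_aux {C : Type*} [Category C] [Abelian C] {W₁ W₂ W₃ : C}
    (u : W₁ ⟶ W₃) (v : W₂ ⟶ W₃) {W : C} (t : W ⟶ W₃) (q₁ : W ⟶ W₁) (q₂ : W ⟶ W₂)
    (j₁ : W₁ ⟶ W) (j₂ : W₂ ⟶ W) (h₁ : j₁ ≫ t = u) (h₂ : j₂ ≫ t = -v)
    (hid : q₁ ≫ j₁ + q₂ ≫ j₂ = 𝟙 W) :
    Epi t ↔ Epi (biprod.desc u v) := by
  constructor
  · intro ht
    refine Preadditive.epi_of_cancel_zero _ fun {P} h hh => ?_
    have hu : u ≫ h = 0 := by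
      have := congrArg (fun m => biprod.inl ≫ m) hh
      simpa using this
    have hv : v ≫ h = 0 := by
      have := congrArg (fun m => biprod.inr ≫ m) hh
      simpa using this
    have : t ≫ h = 0 := by
      calc t ≫ h = (q₁ ≫ j₁ + q₂ ≫ j₂) ≫ t ≫ h := by rw [hid, Category.id_comp]
        _ = q₁ ≫ (j₁ ≫ t) ≫ h + q₂ ≫ (j₂ ≫ t) ≫ h := by
          simp only [Preadditive.add_comp, Category.assoc]
        _ = 0 := by rw [h₁, h₂, hu, Preadditive.neg_comp, hv]; simp
    rw [← cancel_epi t, this, comp_zero]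
  · intro hd
    refine Preadditive.epi_of_cancel_zero _ fun {P} h hh => ?_
    have hu : u ≫ h = 0 := by rw [← h₁, Category.assoc, hh, comp_zero]
    have hv : v ≫ h = 0 := by
      have : (-v) ≫ h = 0 := by rw [← h₂, Category.assoc, hh, comp_zero]
      rw [Preadditive.neg_comp, neg_eq_zero] at this
      exact this
    have : biprod.desc u v ≫ h = 0 := by
      refine biprod.hom_ext' _ _ ?_ ?_
      · simp [hu]
      · simp [hv]
    rw [← cancel_epi (biprod.desc u v), this, comp_zero]


/-- Let B' = B ×_A A' be a fibre product of commutative rings with A' → A surjective and L' a B'-module.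
Then L' is a fixed point of the glueing adjunction, i.e. the canonical map from L' to the compatible
pairs in (B ⊗_{B'} L') × (A' ⊗_{B'} L') is injective (it is always surjective), if and only if the
map Tor_1(L', B) ⊕ Tor_1(L', A') → Tor_1(L', A) over B' induced by B → A and A' → A is surjective.
Here Tor_1(L', –) is the first left derived functor of L' ⊗_{B'} – on B'-modules. -/
theorem result (B' B A' A : Type u) [CommRing B'] [CommRing B] [CommRing A'] [CommRing A]
    [Algebra B' B] [Algebra B' A'] [Algebra B A] [Algebra A' A] [Algebra B' A] [IsScalarTower B' B A] [IsScalarTower B' A' A]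
    (hsq : EtMil.IsFibreSquare B' B A' A)
    (L' : Type u) [AddCommGroup L'] [Module B' L'] :
    (∀ l : L', ((1 : B) ⊗ₜ[B'] l : B ⊗[B'] L') = 0 → ((1 : A') ⊗ₜ[B'] l : A' ⊗[B'] L') = 0 → l = 0) ↔
    Epi (biprod.desc
      (((Tor (ModuleCat.{u} B') 1).obj (ModuleCat.of B' L')).map
        (ModuleCat.ofHom (IsScalarTower.toAlgHom B' B A).toLinearMap))
      (((Tor (ModuleCat.{u} B') 1).obj (ModuleCat.of B' L')).map
        (ModuleCat.ofHom (IsScalarTower.toAlgHom B' A' A).toLinearMap))) := by
  obtain ⟨hsurj, hfib⟩ := hsq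
  let f : B →ₗ[B'] A := (IsScalarTower.toAlgHom B' B A).toLinearMap
  let g : A' →ₗ[B'] A := (IsScalarTower.toAlgHom B' A' A).toLinearMap
  let ι : B' →ₗ[B'] (B × A') := (Algebra.linearMap B' B).prod (Algebra.linearMap B' A')
  let π : (B × A') →ₗ[B'] A := f.coprod (-g)
  have hπ_apply : ∀ x : B × A', π x = algebraMap B A x.1 - algebraMap A' A x.2 := by
    intro x
    simp only [π, LinearMap.coprod_apply, LinearMap.neg_apply, f, g]
    rw [sub_eq_add_neg]
    rfl
  have hι_apply : ∀ b' : B', ι b' = (algebraMap B' B b', algebraMap B' A' b') := fun b' => rfl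
  have hι : Function.Injective ι := by
    rw [injective_iff_map_eq_zero]
    intro b' hb'
    rw [hι_apply, Prod.mk_eq_zero] at hb'
    obtain ⟨c, -, hc⟩ := hfib 0 0 (by simp)
    rw [hc b' hb', hc 0 ⟨map_zero _, map_zero _⟩]
  have hπ : Function.Surjective π := by
    intro a
    obtain ⟨a', rfl⟩ := hsurj a
    refine ⟨(0, -a'), ?_⟩
    rw [hπ_apply]
    simp
  have hex : Function.Exact ι π := by
    intro x
    constructor
    · intro hx
      rw [hπ_apply, sub_eq_zero] at hx
      obtain ⟨b', ⟨hb1, hb2⟩, -⟩ := hfib x.1 x.2 hx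
      exact ⟨b', by rw [hι_apply, hb1, hb2]⟩
    · rintro ⟨b', rfl⟩
      rw [hπ_apply, hι_apply, sub_eq_zero]
      show algebraMap B A (algebraMap B' B b') = algebraMap A' A (algebraMap B' A' b')
      rw [← IsScalarTower.algebraMap_apply, ← IsScalarTower.algebraMap_apply]
  have hS := Groth.Agent.Helper13Devissage.shortExact_mk ι π hι hπ hex
  obtain ⟨δ, w₁, w₂, hex₁, hex₂⟩ := tor₂_exists_δ (ModuleCat.of B' L') _ hS 0
  -- step 3
  have step3 : Epi (((Tor (ModuleCat.{u} B') 1).obj (ModuleCat.of B' L')).map (ModuleCat.ofHom π)) ↔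
      Epi (biprod.desc
      (((Tor (ModuleCat.{u} B') 1).obj (ModuleCat.of B' L')).map (ModuleCat.ofHom f))
      (((Tor (ModuleCat.{u} B') 1).obj (ModuleCat.of B' L')).map (ModuleCat.ofHom g))) := by
    refine epi_iff_aux _ _ _
      (((Tor (ModuleCat.{u} B') 1).obj (ModuleCat.of B' L')).map
        (ModuleCat.ofHom (LinearMap.fst B' B A')))
      (((Tor (ModuleCat.{u} B') 1).obj (ModuleCat.of B' L')).map
        (ModuleCat.ofHom (LinearMap.snd B' B A')))
      (((Tor (ModuleCat.{u} B') 1).obj (ModuleCat.of B' L')).map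
        (ModuleCat.ofHom (LinearMap.inl B' B A')))
      (((Tor (ModuleCat.{u} B') 1).obj (ModuleCat.of B' L')).map
        (ModuleCat.ofHom (LinearMap.inr B' B A'))) ?_ ?_ ?_
    · rw [← Functor.map_comp]
      congr 1
      ext x
      simp [π]
    · rw [← Functor.map_comp, ← tor_map_neg]
      congr 1
      ext x
      simp [π]
    · rw [← Functor.map_comp, ← Functor.map_comp, ← tor_map_add,
        ← CategoryTheory.Functor.map_id]
      congr 1
      refine ModuleCat.hom_ext (LinearMap.ext fun x => ?_)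
      show ((x.1, (0 : A')) + ((0 : B), x.2) : B × A') = x
      simp
  rw [← step3, hex₁.epi_f_iff, ← hex₂.mono_g_iff]
  show _ ↔ Mono (((Tor (ModuleCat.{u} B') 0).obj (ModuleCat.of B' L')).map (ModuleCat.ofHom ι))
  rw [mono_tor_zero_map_iff]
  show _ ↔ Function.Injective (LinearMap.lTensor L' ι)
  constructor
  · intro H
    rw [injective_iff_map_eq_zero]
    intro z hz
    obtain ⟨l, rfl⟩ : ∃ l : L', z = l ⊗ₜ[B'] (1 : B') :=
      ⟨TensorProduct.rid B' L' z, by rw [← TensorProduct.rid_symm_apply, LinearEquiv.symm_apply_apply]⟩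
    rw [LinearMap.lTensor_tmul] at hz
    have h1 : (1 : B) ⊗ₜ[B'] l = (0 : B ⊗[B'] L') := by
      have := congrArg (fun t => TensorProduct.comm B' L' B
        (LinearMap.lTensor L' (LinearMap.fst B' B A') t)) hz
      simpa [hι_apply] using this
    have h2 : (1 : A') ⊗ₜ[B'] l = (0 : A' ⊗[B'] L') := by
      have := congrArg (fun t => TensorProduct.comm B' L' A'
        (LinearMap.lTensor L' (LinearMap.snd B' B A') t)) hz
      simpa [hι_apply] using this
    rw [H l h1 h2, TensorProduct.zero_tmul]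
  · intro H l h1 h2
    have h1' : l ⊗ₜ[B'] (1 : B) = (0 : L' ⊗[B'] B) := by
      have := congrArg (TensorProduct.comm B' B L') h1
      simpa using this
    have h2' : l ⊗ₜ[B'] (1 : A') = (0 : L' ⊗[B'] A') := by
      have := congrArg (TensorProduct.comm B' A' L') h2
      simpa using this
    have hz : LinearMap.lTensor L' ι (l ⊗ₜ[B'] (1 : B')) = 0 := by
      rw [LinearMap.lTensor_tmul, hι_apply, map_one, map_one]
      have : ((1 : B), (1 : A')) = LinearMap.inl B' B A' 1 + LinearMap.inr B' B A' 1 := by simp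
      rw [this, TensorProduct.tmul_add, ← LinearMap.lTensor_tmul, ← LinearMap.lTensor_tmul,
        h1', h2', map_zero, map_zero, add_zero]
    have := H (hz.trans (map_zero _).symm)
    have h3 := congrArg (TensorProduct.rid B' L') this
    simpa using h3

end Groth.Agent.S14958
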