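import Groth.Statements.S14959
import Mathlib
import Groth.Agent.Lib.Helper20PullbackAff
import Groth.Agent.Lib.Helper22PinchAlg

set_option autoImplicit false
universe u
open AlgebraicGeometry CategoryTheory CategoryTheory.Limits
open Pinch

namespace Groth.Agent.S14959

open Pinch
open CategoryTheory AlgebraicGeometry Limits TensorProduct TopologicalSpace
open Groth.Agent.Lib.Helper20.PullbackAff Groth.Agent.Lib.Helper20.Thickening
  Groth.Agent.Lib.Helper20.OmegaUnr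

/-- Let w : X' → X, g : X' → Y', f : X → Y, u : Y' → Y be a cartesian square of schemes with f affine
and u a closed immersion which is a pinching square: for every affine open V of Y, with I(V) the
kernel of Γ(V, O_Y) → Γ(u⁻¹V, O_Y'), the kernel of Γ(V, O_Y) → Γ(f⁻¹V, O_X) meets I(V) in 0 and the
ideal generated by the image of I(V) in Γ(f⁻¹V, O_X) consists of images of elements of I(V)
(equivalently Γ(V, O_Y) is the fibre product of Γ(u⁻¹V, O_Y') and Γ(f⁻¹V, O_X) over Γ(h⁻¹V, O_X'),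
i.e. O_Y = u_*O_Y' ×_{h_*O_X'} f_*O_X). If G is a quasi-coherent O_Y-module whose pullbacks u*G and
f*G are zero, then G = 0. -/
theorem result {X X' Y Y' : Scheme.{u}} (f : X ⟶ Y) (u : Y' ⟶ Y) (w : X' ⟶ X) (g : X' ⟶ Y')
    (hP : IsPullback w g f u) [IsAffineHom f] [IsClosedImmersion u]
    (hM : ∀ V ∈ Y.affineOpens,
      RingHom.ker (f.app V).hom ⊓ RingHom.ker (u.app V).hom = ⊥ ∧
      ∀ a ∈ Ideal.map (f.app V).hom (RingHom.ker (u.app V).hom),
        ∃ i ∈ RingHom.ker (u.app V).hom, (f.app V).hom i = a)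
    (G : Y.Modules) [G.IsQuasicoherent]
    (h1 : IsZero ((Scheme.Modules.pullback u).obj G)) (h2 : IsZero ((Scheme.Modules.pullback f).obj G)) :
    IsZero G := by
  refine isZero_of_basis G {V | IsAffineOpen V} Y.isBasis_affineOpens ?_
  intro V hV
  have hV : IsAffineOpen V := hV
  suffices hM' : Subsingleton ((ΓUF hV).obj G) from (ΓUEquiv hV G).toEquiv.subsingleton
  have hVu : IsAffineOpen (u ⁻¹ᵁ V) := hV.preimage u
  have hVf : IsAffineOpen (f ⁻¹ᵁ V) := hV.preimage f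
  have s1 : Subsingleton ((ΓUF hVu).obj ((Scheme.Modules.pullback u).obj G)) := by
    have := subsingleton_sections_of_isZero h1 (u ⁻¹ᵁ V)
    exact (ΓUEquiv hVu _).symm.toEquiv.subsingleton
  have s2 : Subsingleton ((ΓUF hVf).obj ((Scheme.Modules.pullback f).obj G)) := by
    have := subsingleton_sections_of_isZero h2 (f ⁻¹ᵁ V)
    exact (ΓUEquiv hVf _).symm.toEquiv.subsingleton
  have z1 : IsZero ((ModuleCat.extendScalars (u.appLE V (u ⁻¹ᵁ V) le_rfl).hom).obj ((ΓUF hV).obj G)) :=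
    IsZero.of_iso (ModuleCat.isZero_of_subsingleton _) (ΓUFPullbackIso u hV hVu le_rfl G).symm
  have z2 : IsZero ((ModuleCat.extendScalars (f.appLE V (f ⁻¹ᵁ V) le_rfl).hom).obj ((ΓUF hV).obj G)) :=
    IsZero.of_iso (ModuleCat.isZero_of_subsingleton _) (ΓUFPullbackIso f hV hVf le_rfl G).symm
  rw [ModuleCat.isZero_iff_subsingleton] at z1 z2
  obtain ⟨hM1, hM2⟩ := hM V hV
  rw [Scheme.Hom.app_eq_appLE, Scheme.Hom.app_eq_appLE] at hM1
  let _ : Algebra Γ(Y, V) Γ(Y', u ⁻¹ᵁ V) := (u.appLE V (u ⁻¹ᵁ V) le_rfl).hom.toAlgebra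
  let _ : Algebra Γ(Y, V) Γ(X, f ⁻¹ᵁ V) := (f.appLE V (f ⁻¹ᵁ V) le_rfl).hom.toAlgebra
  have hs : Function.Surjective (algebraMap Γ(Y, V) Γ(Y', u ⁻¹ᵁ V)) := by
    have := u.app_surjective V hV
    rw [Scheme.Hom.app_eq_appLE] at this
    exact this
  refine Groth.Agent.Lib.Helper22.Pinch.subsingleton_of_tensor (B := Γ(Y', u ⁻¹ᵁ V))
    (A' := Γ(X, f ⁻¹ᵁ V)) hs hM1 ?_ _ z1 z2
  intro a ha
  have := hM2 a (by rw [Scheme.Hom.app_eq_appLE, Scheme.Hom.app_eq_appLE]; exact ha)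
  obtain ⟨i, hi1, hi2⟩ := this
  rw [Scheme.Hom.app_eq_appLE] at hi1 hi2
  exact ⟨i, hi1, hi2⟩

end Groth.Agent.S14959
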