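import Groth.Statements.S1496
import Mathlib
import Groth.Agent.S2359
import Groth.Agent.Lib.Helper23VeryAmple2
import Groth.Agent.Lib.Helper23VeryAmple4
import Groth.Agent.Lib.Helper23VeryAmple5
import Groth.Agent.Lib.Helper23TensorUnit
-- import your own Groth.Agent.* helpers here

set_option autoImplicit false
universe u
attribute [local instance] HasDerivedCategory.standard
open FlatMor

namespace Groth.Agent.S1496


open AlgebraicGeometry CategoryTheory Limits in
/-- Let S be a scheme carrying an ample invertible sheaf and f : X → S a morphism. Then f is a closed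
immersion into some projective space over S (f factors as a closed immersion X → Pⁿ_S followed by
the projection Pⁿ_S → S, for some n) if and only if f is proper and X carries an ample invertible
sheaf; and the latter holds if and only if f is proper and some O_X-module is ample relative to f. -/
theorem result {X S : Scheme.{u}} (hS : ∃ N : S.Modules, CohB1.IsAmple N) (f : X ⟶ S) :
    ((∃ (n : ℕ) (i : X ⟶ CohB1.ProjSpaceOver n S), IsClosedImmersion i ∧ i ≫ pullback.snd (CohB1.ProjSpace.toSpec n (ULift.{u} ℤ)) (specULiftZIsTerminal.from S) = f) ↔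
      (IsProper f ∧ ∃ L : X.Modules, CohB1.IsAmple L)) ∧
    ((IsProper f ∧ ∃ L : X.Modules, CohB1.IsAmple L) ↔ (IsProper f ∧ ∃ L : X.Modules, RelAmple.IsRelAmple f L)) := by
  obtain ⟨N, hN⟩ := hS
  have part2 : (IsProper f ∧ ∃ L : X.Modules, CohB1.IsAmple L) ↔
      (IsProper f ∧ ∃ L : X.Modules, RelAmple.IsRelAmple f L) := by
    constructor
    · rintro ⟨hf, L, hL⟩
      exact ⟨hf, L, Groth.Agent.Lib.Helper23.VeryAmple5.isRelAmple_of_isAmple f L hL⟩
    · rintro ⟨hf, L, hL⟩
      obtain ⟨n₀, -, h⟩ := Groth.Agent.Lib.Helper23.VeryAmple5.exists_isAmple_of_isRelAmple N hN f L hL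
      exact ⟨hf, _, h n₀ le_rfl⟩
  refine ⟨?_, part2⟩
  constructor
  · rintro ⟨n, i, hi, hif⟩
    have hp0 : IsProper (CohB1.ProjSpace.toSpec n (ULift.{u} ℤ)) :=
      Groth.Agent.Lib.Helper27ProjSpaceFibres.isProper_projSpace_toSpec n (ULift.{u} ℤ)
    have hp : IsProper (pullback.snd (CohB1.ProjSpace.toSpec n (ULift.{u} ℤ)) (specULiftZIsTerminal.from S)) :=
      inferInstance
    haveI : IsProper (CohB1.ProjSpaceOver.toBase n S) := hp
    change i ≫ CohB1.ProjSpaceOver.toBase n S = f at hif
    have hf : IsProper f := by rw [← hif]; infer_instance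
    refine part2.2 ⟨hf, (Scheme.Modules.pullback i).obj (Twist.twistOver n S 1), ?_⟩
    have h2 := Groth.Agent.S2359.result (CohB1.ProjSpaceOver.toBase n S) i i.isEmbedding _
      (Groth.Agent.Lib.Helper23.VeryAmple4.isRelAmple_twistOver n S)
    rw [hif] at h2
    exact h2
  · rintro ⟨hf, L, hL⟩
    obtain ⟨n₀, h⟩ := Groth.Agent.Lib.Helper23.VeryAmple2.isRelVeryAmplePn_twist_eventually f L hL
      (Coh.structureModule X) (Groth.Agent.Lib.Helper23.TensorUnit.isInvertible_structureModule X)
    obtain ⟨n, i, hi, hif, -⟩ := h n₀ le_rfl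
    refine ⟨n, i, ?_, hif⟩
    have hp0 : IsProper (CohB1.ProjSpace.toSpec n (ULift.{u} ℤ)) :=
      Groth.Agent.Lib.Helper27ProjSpaceFibres.isProper_projSpace_toSpec n (ULift.{u} ℤ)
    have hp : IsProper (pullback.snd (CohB1.ProjSpace.toSpec n (ULift.{u} ℤ)) (specULiftZIsTerminal.from S)) :=
      inferInstance
    haveI : IsProper (CohB1.ProjSpaceOver.toBase n S) := hp
    change i ≫ CohB1.ProjSpaceOver.toBase n S = f at hif
    haveI : IsProper (i ≫ CohB1.ProjSpaceOver.toBase n S) := by rw [hif]; exact hf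
    haveI : IsProper i := IsProper.of_comp i (CohB1.ProjSpaceOver.toBase n S)
    exact IsClosedImmersion.of_isPreimmersion i (i.isClosedMap.isClosed_range)

end Groth.Agent.S1496
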