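import Groth.Statements.S14960
import Mathlib
import Groth.Agent.Lib.Helper20PullbackAff
import Groth.Agent.Lib.Helper22PinchSq
import Groth.Agent.Lib.Helper2LocFree
import Groth.Agent.Lib.Helper2PullbackSec2

set_option autoImplicit false
universe u
open AlgebraicGeometry CategoryTheory CategoryTheory.Limits
open Pinch

namespace Groth.Agent.S14960

open Pinch
open CategoryTheory AlgebraicGeometry Limits TensorProduct TopologicalSpace
open Groth.Agent.Lib.Helper20.PullbackAff Groth.Agent.Lib.Helper20.Thickening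
  Groth.Agent.Lib.Helper20.OmegaUnr Groth.Agent.Lib.Helper23.FinType
  Groth.Agent.Lib.Helper2.LocFree

/-- flatness of stalks is preserved by pullback. -/
theorem isFlatAt_pullback {X X' : Scheme.{u}} (g : X' ⟶ X) (F : X.Modules) [F.IsQuasicoherent]
    (x' : X') (h : FlatMod.IsFlatAt F (g x')) :
    FlatMod.IsFlatAt ((Scheme.Modules.pullback g).obj F) x' := by
  unfold FlatMod.IsFlatAt at h ⊢
  letI : Algebra (X.presheaf.stalk (g x')) (X'.presheaf.stalk x') := (g.stalkMap x').hom.toAlgebra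
  obtain ⟨T⟩ := Groth.Agent.Lib.Helper2.PullbackSec.nonempty_stalk_linearEquiv g F x'
  haveI := h
  exact Module.Flat.of_linearEquiv T.symm

/-- sections of a pullback over the preimage of an affine open, flatness transfer -/
theorem flat_sections_pullback_iff {W Y : Scheme.{u}} (φ : W ⟶ Y) {V : Y.Opens}
    (hV : IsAffineOpen V) (hU : IsAffineOpen (φ ⁻¹ᵁ V)) (G : Y.Modules) [G.IsQuasicoherent] :
    Module.Flat Γ(W, φ ⁻¹ᵁ V) Γ((Scheme.Modules.pullback φ).obj G, φ ⁻¹ᵁ V) ↔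
      Module.Flat Γ(W, φ ⁻¹ᵁ V)
        ((ModuleCat.extendScalars (φ.appLE V (φ ⁻¹ᵁ V) le_rfl).hom).obj ((ΓUF hV).obj G)) := by
  let e1 := ΓUEquiv hU ((Scheme.Modules.pullback φ).obj G)
  let e2 := (ΓUFPullbackIso φ hV hU le_rfl G).toLinearEquiv
  constructor
  · intro h
    exact Module.Flat.of_linearEquiv (e1.trans e2).symm
  · intro h
    exact Module.Flat.of_linearEquiv (e1.trans e2)

/-- Let w : X' → X, g : X' → Y', f : X → Y, u : Y' → Y be a cartesian square of schemes with f affine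
and u a closed immersion which is a pinching square: for every affine open V of Y, with I(V) the
kernel of Γ(V, O_Y) → Γ(u⁻¹V, O_Y'), the kernel of Γ(V, O_Y) → Γ(f⁻¹V, O_X) meets I(V) in 0 and the
ideal generated by the image of I(V) in Γ(f⁻¹V, O_X) consists of images of elements of I(V)
(equivalently Γ(V, O_Y) is the fibre product of Γ(u⁻¹V, O_Y') and Γ(f⁻¹V, O_X) over Γ(h⁻¹V, O_X'),
i.e. O_Y = u_*O_Y' ×_{h_*O_X'} f_*O_X). A quasi-coherent O_Y-module G is a flat O_Y-module if and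
only if u*G is a flat O_Y'-module and f*G is a flat O_X-module. -/
theorem result {X X' Y Y' : Scheme.{u}} (f : X ⟶ Y) (u : Y' ⟶ Y) (w : X' ⟶ X) (g : X' ⟶ Y')
    (hP : IsPullback w g f u) [IsAffineHom f] [IsClosedImmersion u]
    (hM : ∀ V ∈ Y.affineOpens,
      RingHom.ker (f.app V).hom ⊓ RingHom.ker (u.app V).hom = ⊥ ∧
      ∀ a ∈ Ideal.map (f.app V).hom (RingHom.ker (u.app V).hom),
        ∃ i ∈ RingHom.ker (u.app V).hom, (f.app V).hom i = a)
    (G : Y.Modules) [G.IsQuasicoherent] :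
    FlatMod.IsFlat G ↔
      FlatMod.IsFlat ((Scheme.Modules.pullback u).obj G) ∧ FlatMod.IsFlat ((Scheme.Modules.pullback f).obj G) := by
  constructor
  · intro h
    exact ⟨fun x => isFlatAt_pullback u G x (h _), fun x => isFlatAt_pullback f G x (h _)⟩
  · rintro ⟨hu, hf⟩ x
    obtain ⟨V, hV, hxV, -⟩ := exists_isAffineOpen_mem_and_subset (x := x) (U := ⊤) trivial
    have hVu : IsAffineOpen (u ⁻¹ᵁ V) := hV.preimage u
    have hVf : IsAffineOpen (f ⁻¹ᵁ V) := hV.preimage f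
    have f1 := (flat_sections_pullback_iff u hV hVu G).mp
      (flat_sections_of_isFlatAt _ hVu (fun y _ => hu y))
    have f2 := (flat_sections_pullback_iff f hV hVf G).mp
      (flat_sections_of_isFlatAt _ hVf (fun y _ => hf y))
    obtain ⟨hM1, hM2⟩ := hM V hV
    rw [Scheme.Hom.app_eq_appLE, Scheme.Hom.app_eq_appLE] at hM1
    let _ : Algebra Γ(Y, V) Γ(Y', u ⁻¹ᵁ V) := (u.appLE V (u ⁻¹ᵁ V) le_rfl).hom.toAlgebra
    let _ : Algebra Γ(Y, V) Γ(X, f ⁻¹ᵁ V) := (f.appLE V (f ⁻¹ᵁ V) le_rfl).hom.toAlgebra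
    have hs : Function.Surjective (algebraMap Γ(Y, V) Γ(Y', u ⁻¹ᵁ V)) := by
      have := u.app_surjective V hV
      rw [Scheme.Hom.app_eq_appLE] at this
      exact this
    have hM2' : ∀ a ∈ Ideal.map (algebraMap Γ(Y, V) Γ(X, f ⁻¹ᵁ V))
        (RingHom.ker (algebraMap Γ(Y, V) Γ(Y', u ⁻¹ᵁ V))),
        ∃ i ∈ RingHom.ker (algebraMap Γ(Y, V) Γ(Y', u ⁻¹ᵁ V)),
          algebraMap Γ(Y, V) Γ(X, f ⁻¹ᵁ V) i = a := by
      intro a ha
      have := hM2 a (by rw [Scheme.Hom.app_eq_appLE, Scheme.Hom.app_eq_appLE]; exact ha)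
      obtain ⟨i, hi1, hi2⟩ := this
      rw [Scheme.Hom.app_eq_appLE] at hi1 hi2
      exact ⟨i, hi1, hi2⟩
    have : Module.Flat Γ(Y', u ⁻¹ᵁ V) (Γ(Y', u ⁻¹ᵁ V) ⊗[Γ(Y, V)] ((ΓUF hV).obj G)) := f1
    have : Module.Flat Γ(X, f ⁻¹ᵁ V) (Γ(X, f ⁻¹ᵁ V) ⊗[Γ(Y, V)] ((ΓUF hV).obj G)) := f2
    have hflat : Module.Flat Γ(Y, V) ((ΓUF hV).obj G) :=
      Groth.Agent.Lib.Helper22.Pinch.flat_of_tensor hs hM1 hM2' _
    exact isFlatAt_of_flat_sections G hV (Module.Flat.of_linearEquiv (ΓUEquiv hV G)) x hxV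

end Groth.Agent.S14960
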