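import Groth.Statements.S14961
import Mathlib
import Groth.Agent.Lib.Helper20PullbackAff
import Groth.Agent.Lib.Helper22PinchSq
import Groth.Agent.Lib.Helper2LocFree
import Groth.Agent.Lib.Helper2FPAff

set_option autoImplicit false
universe u
open AlgebraicGeometry CategoryTheory CategoryTheory.Limits
open Pinch

namespace Groth.Agent.S14961

open Pinch
open CategoryTheory AlgebraicGeometry Limits TensorProduct TopologicalSpace
open Groth.Agent.Lib.Helper20.PullbackAff Groth.Agent.Lib.Helper20.Thickening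
  Groth.Agent.Lib.Helper20.OmegaUnr Groth.Agent.Lib.Helper23.FinType
  Groth.Agent.Lib.Helper2.LocFree Groth.Agent.Lib.Helper2.FPAff Groth.Agent.Lib.Helper20.LocFree

/-- a finite locally free quasi-coherent module has finitely presented flat sections over affine
opens. -/
theorem fp_flat_sections_of_isFinLocFree {Y : Scheme.{u}} (G : Y.Modules) [G.IsQuasicoherent]
    (h : FlatMod.IsFinLocFree G) {V : Y.Opens} (hV : IsAffineOpen V) :
    Module.FinitePresentation Γ(Y, V) ((ΓUF hV).obj G) ∧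
      Module.Flat Γ(Y, V) ((ΓUF hV).obj G) := by
  have : SheafOfModules.IsFinitePresentation (R := Y.ringCatSheaf) G := isFP_of_isFinLocFree G h
  have h1 : Module.FinitePresentation Γ(Y, V) Γ(G, V) := finitePresentation_sections G hV
  have h2 : Module.Flat Γ(Y, V) Γ(G, V) :=
    flat_sections_of_isFlatAt G hV (fun x _ => isFlat_of_isFinLocFree G h x)
  exact ⟨Module.FinitePresentation.of_equiv (ΓUEquiv hV G),
    Module.Flat.of_linearEquiv (ΓUEquiv hV G).symm⟩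

/-- pullbacks of finite locally free modules are finite locally free. -/
theorem isFinLocFree_pullback {W Y : Scheme.{u}} (φ : W ⟶ Y) (G : Y.Modules) [G.IsQuasicoherent]
    (h : FlatMod.IsFinLocFree G) : FlatMod.IsFinLocFree ((Scheme.Modules.pullback φ).obj G) := by
  intro w
  obtain ⟨V, hV, hwV, -⟩ := exists_isAffineOpen_mem_and_subset (x := φ w) (U := ⊤) trivial
  obtain ⟨U, hU, hwU, hUV⟩ := exists_isAffineOpen_mem_and_subset (x := w) (U := φ ⁻¹ᵁ V) hwV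
  obtain ⟨h1, h2⟩ := fp_flat_sections_of_isFinLocFree G h hV
  let _ : Algebra Γ(Y, V) Γ(W, U) := (φ.appLE V U hUV).hom.toAlgebra
  let e := (ΓUFPullbackIso φ hV hU hUV G).toLinearEquiv
  have i1 : Module.FinitePresentation Γ(W, U) (Γ(W, U) ⊗[Γ(Y, V)] ((ΓUF hV).obj G)) :=
    inferInstance
  have i2 : Module.Flat Γ(W, U) (Γ(W, U) ⊗[Γ(Y, V)] ((ΓUF hV).obj G)) := inferInstance
  have : Module.FinitePresentation Γ(W, U)
      ((ΓUF hU).obj ((Scheme.Modules.pullback φ).obj G)) :=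
    @Module.FinitePresentation.of_equiv _ _ _ _ _ _ _ _ e.symm i1
  have : Module.Flat Γ(W, U) ((ΓUF hU).obj ((Scheme.Modules.pullback φ).obj G)) :=
    @Module.Flat.of_linearEquiv _ _ _ _ _ _ _ _ i2 e
  obtain ⟨D, m, hwD, -, hiso⟩ :=
    exists_restrict_iso_freeMod ((Scheme.Modules.pullback φ).obj G) hU w hwU
  exact ⟨D, m, hwD, hiso⟩

/-- sections of a pullback over the preimage of an affine open -/
theorem fp_flat_sections_pullback {W Y : Scheme.{u}} (φ : W ⟶ Y) {V : Y.Opens}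
    (hV : IsAffineOpen V) (hU : IsAffineOpen (φ ⁻¹ᵁ V)) (G : Y.Modules) [G.IsQuasicoherent]
    (h : FlatMod.IsFinLocFree ((Scheme.Modules.pullback φ).obj G)) :
    Module.FinitePresentation Γ(W, φ ⁻¹ᵁ V)
        ((ModuleCat.extendScalars (φ.appLE V (φ ⁻¹ᵁ V) le_rfl).hom).obj ((ΓUF hV).obj G)) ∧
      Module.Flat Γ(W, φ ⁻¹ᵁ V)
        ((ModuleCat.extendScalars (φ.appLE V (φ ⁻¹ᵁ V) le_rfl).hom).obj ((ΓUF hV).obj G)) := by
  obtain ⟨h1, h2⟩ := fp_flat_sections_of_isFinLocFree _ h hU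
  let e2 := (ΓUFPullbackIso φ hV hU le_rfl G).toLinearEquiv
  exact ⟨Module.FinitePresentation.of_equiv e2, Module.Flat.of_linearEquiv e2.symm⟩

/-- Let w : X' → X, g : X' → Y', f : X → Y, u : Y' → Y be a cartesian square of schemes with f affine
and u a closed immersion which is a pinching square: for every affine open V of Y, with I(V) the
kernel of Γ(V, O_Y) → Γ(u⁻¹V, O_Y'), the kernel of Γ(V, O_Y) → Γ(f⁻¹V, O_X) meets I(V) in 0 and the
ideal generated by the image of I(V) in Γ(f⁻¹V, O_X) consists of images of elements of I(V)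
(equivalently Γ(V, O_Y) is the fibre product of Γ(u⁻¹V, O_Y') and Γ(f⁻¹V, O_X) over Γ(h⁻¹V, O_X'),
i.e. O_Y = u_*O_Y' ×_{h_*O_X'} f_*O_X). A quasi-coherent O_Y-module G is finite locally free if and
only if u*G and f*G are finite locally free. -/
theorem result {X X' Y Y' : Scheme.{u}} (f : X ⟶ Y) (u : Y' ⟶ Y) (w : X' ⟶ X) (g : X' ⟶ Y')
    (hP : IsPullback w g f u) [IsAffineHom f] [IsClosedImmersion u]
    (hM : ∀ V ∈ Y.affineOpens,
      RingHom.ker (f.app V).hom ⊓ RingHom.ker (u.app V).hom = ⊥ ∧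
      ∀ a ∈ Ideal.map (f.app V).hom (RingHom.ker (u.app V).hom),
        ∃ i ∈ RingHom.ker (u.app V).hom, (f.app V).hom i = a)
    (G : Y.Modules) [G.IsQuasicoherent] :
    FlatMod.IsFinLocFree G ↔
      FlatMod.IsFinLocFree ((Scheme.Modules.pullback u).obj G) ∧
        FlatMod.IsFinLocFree ((Scheme.Modules.pullback f).obj G) := by
  constructor
  · intro h
    exact ⟨isFinLocFree_pullback u G h, isFinLocFree_pullback f G h⟩
  · rintro ⟨hu, hf⟩ x
    obtain ⟨V, hV, hxV, -⟩ := exists_isAffineOpen_mem_and_subset (x := x) (U := ⊤) trivial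
    have hVu : IsAffineOpen (u ⁻¹ᵁ V) := hV.preimage u
    have hVf : IsAffineOpen (f ⁻¹ᵁ V) := hV.preimage f
    obtain ⟨p1, q1⟩ := fp_flat_sections_pullback u hV hVu G hu
    obtain ⟨p2, q2⟩ := fp_flat_sections_pullback f hV hVf G hf
    obtain ⟨hM1, hM2⟩ := hM V hV
    rw [Scheme.Hom.app_eq_appLE, Scheme.Hom.app_eq_appLE] at hM1
    let _ : Algebra Γ(Y, V) Γ(Y', u ⁻¹ᵁ V) := (u.appLE V (u ⁻¹ᵁ V) le_rfl).hom.toAlgebra
    let _ : Algebra Γ(Y, V) Γ(X, f ⁻¹ᵁ V) := (f.appLE V (f ⁻¹ᵁ V) le_rfl).hom.toAlgebra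
    have hs : Function.Surjective (algebraMap Γ(Y, V) Γ(Y', u ⁻¹ᵁ V)) := by
      have := u.app_surjective V hV
      rw [Scheme.Hom.app_eq_appLE] at this
      exact this
    have hM2' : ∀ a ∈ Ideal.map (algebraMap Γ(Y, V) Γ(X, f ⁻¹ᵁ V))
        (RingHom.ker (algebraMap Γ(Y, V) Γ(Y', u ⁻¹ᵁ V))),
        ∃ i ∈ RingHom.ker (algebraMap Γ(Y, V) Γ(Y', u ⁻¹ᵁ V)),
          algebraMap Γ(Y, V) Γ(X, f ⁻¹ᵁ V) i = a := by
      intro a ha
      have := hM2 a (by rw [Scheme.Hom.app_eq_appLE, Scheme.Hom.app_eq_appLE]; exact ha)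
      obtain ⟨i, hi1, hi2⟩ := this
      rw [Scheme.Hom.app_eq_appLE] at hi1 hi2
      exact ⟨i, hi1, hi2⟩
    have : Module.Flat Γ(Y', u ⁻¹ᵁ V) (Γ(Y', u ⁻¹ᵁ V) ⊗[Γ(Y, V)] ((ΓUF hV).obj G)) := q1
    have : Module.Flat Γ(X, f ⁻¹ᵁ V) (Γ(X, f ⁻¹ᵁ V) ⊗[Γ(Y, V)] ((ΓUF hV).obj G)) := q2
    have : Module.FinitePresentation Γ(Y', u ⁻¹ᵁ V)
      (Γ(Y', u ⁻¹ᵁ V) ⊗[Γ(Y, V)] ((ΓUF hV).obj G)) := p1
    have : Module.FinitePresentation Γ(X, f ⁻¹ᵁ V)
      (Γ(X, f ⁻¹ᵁ V) ⊗[Γ(Y, V)] ((ΓUF hV).obj G)) := p2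
    have hflat : Module.Flat Γ(Y, V) ((ΓUF hV).obj G) :=
      Groth.Agent.Lib.Helper22.Pinch.flat_of_tensor hs hM1 hM2' _
    have hfp : Module.FinitePresentation Γ(Y, V) ((ΓUF hV).obj G) :=
      Groth.Agent.Lib.Helper22.Pinch.finitePresentation_of_tensor hs hM1 hM2' _
    obtain ⟨D, m, hxD, -, hiso⟩ := exists_restrict_iso_freeMod G hV x hxV
    exact ⟨D, m, hxD, hiso⟩

end Groth.Agent.S14961
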