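import Groth.Statements.S14962
import Mathlib
import Groth.Agent.Lib.Helper20PullbackAff
import Groth.Agent.Lib.Helper22PinchAlg2

set_option autoImplicit false
universe u
open AlgebraicGeometry CategoryTheory CategoryTheory.Limits
open Pinch

namespace Groth.Agent.S14962

open Pinch
open CategoryTheory AlgebraicGeometry Limits TensorProduct TopologicalSpace
open Groth.Agent.Lib.Helper20.PullbackAff Groth.Agent.Lib.Helper20.Thickening
  Groth.Agent.Lib.Helper20.OmegaUnr Groth.Agent.Lib.Helper23.FinType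

theorem finite_extendScalars {R S : Type u} [CommRing R] [CommRing S] (φ : R →+* S)
    (M : ModuleCat.{u} R) [Module.Finite R M] :
    Module.Finite S ((ModuleCat.extendScalars φ).obj M) := by
  let _ : Algebra R S := φ.toAlgebra
  exact (inferInstance : Module.Finite S (S ⊗[R] M))

/-- sections of a pullback over the preimage of an affine open, finiteness transfer -/
theorem finite_sections_pullback_iff {W Y : Scheme.{u}} (φ : W ⟶ Y) {V : Y.Opens}
    (hV : IsAffineOpen V) (hU : IsAffineOpen (φ ⁻¹ᵁ V)) (G : Y.Modules) [G.IsQuasicoherent] :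
    Module.Finite Γ(W, φ ⁻¹ᵁ V) Γ((Scheme.Modules.pullback φ).obj G, φ ⁻¹ᵁ V) ↔
      Module.Finite Γ(W, φ ⁻¹ᵁ V)
        ((ModuleCat.extendScalars (φ.appLE V (φ ⁻¹ᵁ V) le_rfl).hom).obj ((ΓUF hV).obj G)) := by
  let e1 := ΓUEquiv hU ((Scheme.Modules.pullback φ).obj G)
  let e2 := (ΓUFPullbackIso φ hV hU le_rfl G).toLinearEquiv
  constructor
  · intro h
    exact Module.Finite.equiv (e1.trans e2)
  · intro h
    exact Module.Finite.equiv (e1.trans e2).symm

theorem isFiniteType_pullback {W Y : Scheme.{u}} (φ : W ⟶ Y) [IsAffineHom φ] (G : Y.Modules)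
    [G.IsQuasicoherent] [SheafOfModules.IsFiniteType (R := Y.ringCatSheaf) G] :
    SheafOfModules.IsFiniteType (R := W.ringCatSheaf) ((Scheme.Modules.pullback φ).obj G) := by
  refine isFiniteType_of_finite _ (fun V : Y.affineOpens => φ ⁻¹ᵁ V.1) ?_
    (fun V => V.2.preimage φ) ?_
  · rw [IsOpenCover, eq_top_iff]
    intro y _
    obtain ⟨V, hV, hyV, -⟩ := (Opens.isBasis_iff_nbhd.mp Y.isBasis_affineOpens)
      (show φ.base y ∈ (⊤ : Y.Opens) from trivial)
    exact Opens.mem_iSup.2 ⟨⟨V, hV⟩, hyV⟩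
  · intro V
    rw [finite_sections_pullback_iff φ V.2 (V.2.preimage φ) G]
    have h0 : Module.Finite Γ(Y, V.1) Γ(G, V.1) := finite_of_isFiniteType G V.2
    have : Module.Finite Γ(Y, V.1) ((ΓUF V.2).obj G) := Module.Finite.equiv (ΓUEquiv V.2 G)
    exact finite_extendScalars _ _

/-- Let w : X' → X, g : X' → Y', f : X → Y, u : Y' → Y be a cartesian square of schemes with f affine
and u a closed immersion which is a pinching square: for every affine open V of Y, with I(V) the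
kernel of Γ(V, O_Y) → Γ(u⁻¹V, O_Y'), the kernel of Γ(V, O_Y) → Γ(f⁻¹V, O_X) meets I(V) in 0 and the
ideal generated by the image of I(V) in Γ(f⁻¹V, O_X) consists of images of elements of I(V)
(equivalently Γ(V, O_Y) is the fibre product of Γ(u⁻¹V, O_Y') and Γ(f⁻¹V, O_X) over Γ(h⁻¹V, O_X'),
i.e. O_Y = u_*O_Y' ×_{h_*O_X'} f_*O_X). A quasi-coherent O_Y-module G is of finite type if and only
if u*G and f*G are of finite type. (The published clause is for flat modules of finite type;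
flatness descends separately and the finiteness part does not use it.) -/
theorem result {X X' Y Y' : Scheme.{u}} (f : X ⟶ Y) (u : Y' ⟶ Y) (w : X' ⟶ X) (g : X' ⟶ Y')
    (hP : IsPullback w g f u) [IsAffineHom f] [IsClosedImmersion u]
    (hM : ∀ V ∈ Y.affineOpens,
      RingHom.ker (f.app V).hom ⊓ RingHom.ker (u.app V).hom = ⊥ ∧
      ∀ a ∈ Ideal.map (f.app V).hom (RingHom.ker (u.app V).hom),
        ∃ i ∈ RingHom.ker (u.app V).hom, (f.app V).hom i = a)
    (G : Y.Modules) [G.IsQuasicoherent] :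
    SheafOfModules.IsFiniteType G ↔
      SheafOfModules.IsFiniteType ((Scheme.Modules.pullback u).obj G) ∧
        SheafOfModules.IsFiniteType ((Scheme.Modules.pullback f).obj G) := by
  constructor
  · intro h
    exact ⟨isFiniteType_pullback u G, isFiniteType_pullback f G⟩
  · rintro ⟨hu, hf⟩
    rw [isFiniteType_iff_forall_affine]
    intro V hV
    have hVu : IsAffineOpen (u ⁻¹ᵁ V) := hV.preimage u
    have hVf : IsAffineOpen (f ⁻¹ᵁ V) := hV.preimage f
    have f1 := (finite_sections_pullback_iff u hV hVu G).mp (finite_of_isFiniteType _ hVu)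
    have f2 := (finite_sections_pullback_iff f hV hVf G).mp (finite_of_isFiniteType _ hVf)
    obtain ⟨hM1, hM2⟩ := hM V hV
    rw [Scheme.Hom.app_eq_appLE, Scheme.Hom.app_eq_appLE] at hM1
    let _ : Algebra Γ(Y, V) Γ(Y', u ⁻¹ᵁ V) := (u.appLE V (u ⁻¹ᵁ V) le_rfl).hom.toAlgebra
    let _ : Algebra Γ(Y, V) Γ(X, f ⁻¹ᵁ V) := (f.appLE V (f ⁻¹ᵁ V) le_rfl).hom.toAlgebra
    have hs : Function.Surjective (algebraMap Γ(Y, V) Γ(Y', u ⁻¹ᵁ V)) := by
      have := u.app_surjective V hV
      rw [Scheme.Hom.app_eq_appLE] at this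
      exact this
    have hM2' : ∀ a ∈ Ideal.map (algebraMap Γ(Y, V) Γ(X, f ⁻¹ᵁ V))
        (RingHom.ker (algebraMap Γ(Y, V) Γ(Y', u ⁻¹ᵁ V))),
        ∃ i ∈ RingHom.ker (algebraMap Γ(Y, V) Γ(Y', u ⁻¹ᵁ V)),
          algebraMap Γ(Y, V) Γ(X, f ⁻¹ᵁ V) i = a := by
      intro a ha
      have := hM2 a (by rw [Scheme.Hom.app_eq_appLE, Scheme.Hom.app_eq_appLE]; exact ha)
      obtain ⟨i, hi1, hi2⟩ := this
      rw [Scheme.Hom.app_eq_appLE] at hi1 hi2
      exact ⟨i, hi1, hi2⟩
    have : Module.Finite Γ(Y', u ⁻¹ᵁ V) (Γ(Y', u ⁻¹ᵁ V) ⊗[Γ(Y, V)] ((ΓUF hV).obj G)) := f1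
    have : Module.Finite Γ(X, f ⁻¹ᵁ V) (Γ(X, f ⁻¹ᵁ V) ⊗[Γ(Y, V)] ((ΓUF hV).obj G)) := f2
    have hfin : Module.Finite Γ(Y, V) ((ΓUF hV).obj G) :=
      Groth.Agent.Lib.Helper22.Pinch.finite_of_tensor hs hM1 hM2' _
    exact Module.Finite.equiv (ΓUEquiv hV G).symm

end Groth.Agent.S14962
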