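import Groth.Statements.S14964
-- import your own Groth.Agent.* helpers here

set_option autoImplicit false
universe u v w
open EtAlg

namespace Groth.Agent.S14964

/-- Let f : A → A' be a homomorphism of commutative rings, M an A-module and M' an A'-module together
with an A-linear map u : M → M' whose image generates M' over A' (so M' is a quotient of A' ⊗_A M).
Let I be an ideal of A such that the ideal of A' generated by f(I) consists of the elements f(i), i
∈ I. Then f(I) M' = u(I M) as subsets of M'; in particular u(I M) is an A'-submodule. -/
theorem result (A : Type u) [CommRing A] (A' : Type v) [CommRing A'] [Algebra A A']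
    (M : Type w) [AddCommGroup M] [Module A M] (M' : Type w) [AddCommGroup M'] [Module A' M'] [Module A M'] [IsScalarTower A A' M']
    (u : M →ₗ[A] M') (hu : Submodule.span A' (Set.range u) = ⊤)
    (I : Ideal A) (hI : ∀ a ∈ Ideal.map (algebraMap A A') I, ∃ i ∈ I, algebraMap A A' i = a) :
    ((Ideal.map (algebraMap A A') I) • (⊤ : Submodule A' M')).restrictScalars A = Submodule.map u (I • (⊤ : Submodule A M)) := by
  apply le_antisymm
  · -- ⊆
    have key : ∀ x : M', ∀ a ∈ Ideal.map (algebraMap A A') I,
        a • x ∈ Submodule.map u (I • (⊤ : Submodule A M)) := by
      intro x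
      have hx : x ∈ Submodule.span A' (Set.range u) := by rw [hu]; trivial
      induction hx using Submodule.span_induction with
      | mem x hx =>
        obtain ⟨m, rfl⟩ := hx
        intro a ha
        obtain ⟨i, hi, rfl⟩ := hI a ha
        rw [algebraMap_smul, ← map_smul]
        exact Submodule.mem_map_of_mem (Submodule.smul_mem_smul hi Submodule.mem_top)
      | zero =>
        intro a _
        rw [smul_zero]
        exact Submodule.zero_mem _
      | add x y _ _ hx hy =>
        intro a ha
        rw [smul_add]
        exact Submodule.add_mem _ (hx a ha) (hy a ha)
      | smul c x _ hx =>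
        intro a ha
        rw [smul_smul]
        exact hx (a * c) (Ideal.mul_mem_right c _ ha)
    intro x hx
    rw [Submodule.restrictScalars_mem] at hx
    exact Submodule.smul_induction_on hx (fun a ha m _ => key m a ha)
      (fun x y hx hy => Submodule.add_mem _ hx hy)
  · rw [Submodule.map_le_iff_le_comap, Submodule.smul_le]
    intro i hi m _
    rw [Submodule.mem_comap, map_smul, Submodule.restrictScalars_mem, ← algebraMap_smul A' i (u m)]
    exact Submodule.smul_mem_smul (Ideal.mem_map_of_mem _ hi) Submodule.mem_top

end Groth.Agent.S14964
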