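import Groth.Statements.S14965
import Groth.Agent.S14956
import Groth.Agent.S2019
import Mathlib

set_option autoImplicit false
universe u
open TensorProduct
open Brauer

namespace Groth.Agent.S14965

/-- Let B' = B ×_A A' be a fibre product of commutative rings with A' → A surjective, N an Azumaya
B-algebra, M' an Azumaya A'-algebra and φ : A ⊗_B N ≅ A ⊗_{A'} M' an isomorphism of A-algebras. If a
B'-algebra D' with B'-algebra homomorphisms π₁ : D' → N and π₂ : D' → M' is the glued algebra N ×_φ
M', in the sense that (π₁, π₂) is injective with image the pairs (n, m') satisfying φ(1 ⊗ n) = 1 ⊗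
m', then D' is an Azumaya B'-algebra. (The published statement is for Azumaya algebras on the
pushout scheme of a closed immersion and an affine morphism, glued as u_*B' ×_{h_*} f_*A; this row
is the case of an affine pushout.) -/
theorem result (B' B A' A : Type u) [CommRing B'] [CommRing B] [CommRing A'] [CommRing A]
    [Algebra B' B] [Algebra B' A'] [Algebra B A] [Algebra A' A] [Algebra B' A] [IsScalarTower B' B A] [IsScalarTower B' A' A]
    (hsq : EtMil.IsFibreSquare B' B A' A)
    (N : Type u) [Ring N] [Algebra B N] [Algebra B' N] [IsScalarTower B' B N] [IsAzumaya B N]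
    (M' : Type u) [Ring M'] [Algebra A' M'] [Algebra B' M'] [IsScalarTower B' A' M'] [IsAzumaya A' M']
    (φ : A ⊗[B] N ≃ₐ[A] A ⊗[A'] M')
    (D' : Type u) [Ring D'] [Algebra B' D'] (π₁ : D' →ₐ[B'] N) (π₂ : D' →ₐ[B'] M')
    (hinj : ∀ d : D', π₁ d = 0 → π₂ d = 0 → d = 0)
    (himg : ∀ (n : N) (m' : M'), φ ((1 : A) ⊗ₜ[B] n) = (1 : A) ⊗ₜ[A'] m' ↔ ∃ d : D', π₁ d = n ∧ π₂ d = m') :
    IsAzumaya B' D' := by
  classical
  let φ' : A ⊗[B] N ≃ₗ[A] A ⊗[A'] M' := φ.toLinearEquiv
  have hmem : ∀ d : D', (π₁ d, π₂ d) ∈ EtMil.glue B' φ' := fun d => (himg _ _).mpr ⟨d, rfl, rfl⟩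
  let e₀ : D' →ₗ[B'] EtMil.glue B' φ' :=
    LinearMap.codRestrict _ (LinearMap.prod π₁.toLinearMap π₂.toLinearMap) hmem
  have he₀ : Function.Bijective e₀ := by
    constructor
    · rw [← LinearMap.ker_eq_bot, LinearMap.ker_eq_bot']
      intro d hd
      have h1 := congrArg Subtype.val hd
      have h2 : (π₁ d, π₂ d) = (0 : N × M') := h1
      exact hinj d (congrArg Prod.fst h2) (congrArg Prod.snd h2)
    · rintro ⟨⟨n, m'⟩, h⟩
      obtain ⟨d, hd1, hd2⟩ := (himg n m').mp h
      exact ⟨d, Subtype.ext (Prod.ext hd1 hd2)⟩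
  let e : D' ≃ₗ[B'] EtMil.glue B' φ' := LinearEquiv.ofBijective e₀ he₀
  obtain ⟨hb1, hb2⟩ := Groth.Agent.S2019.result B' B A' A hsq N M' φ'
  let ψ₁ : B ⊗[B'] D' →ₐ[B] N :=
    Algebra.TensorProduct.lift (Algebra.ofId B N) π₁ (fun b d => Algebra.commutes b (π₁ d))
  have hψ₁ : Function.Bijective ψ₁ := by
    have hfun : (ψ₁ : B ⊗[B'] D' → N) =
        (LinearMap.liftBaseChange B (EtMil.glueFst B' φ')) ∘ (LinearMap.lTensor B e.toLinearMap) := by
      funext z
      induction z using TensorProduct.induction_on with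
      | zero => simp
      | add x y hx hy =>
        rw [map_add, hx, hy]
        simp only [Function.comp_apply, map_add]
      | tmul b d =>
        simp only [Function.comp_apply, LinearMap.lTensor_tmul, LinearMap.liftBaseChange_tmul]
        simp [ψ₁, e, e₀, EtMil.glueFst, Algebra.smul_def, Algebra.ofId_apply]
    rw [hfun]
    exact hb1.comp (LinearEquiv.lTensor B e).bijective
  let ψ₂ : A' ⊗[B'] D' →ₐ[A'] M' :=
    Algebra.TensorProduct.lift (Algebra.ofId A' M') π₂ (fun b d => Algebra.commutes b (π₂ d))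
  have hψ₂ : Function.Bijective ψ₂ := by
    have hfun : (ψ₂ : A' ⊗[B'] D' → M') =
        (LinearMap.liftBaseChange A' (EtMil.glueSnd B' φ')) ∘ (LinearMap.lTensor A' e.toLinearMap) := by
      funext z
      induction z using TensorProduct.induction_on with
      | zero => simp
      | add x y hx hy =>
        rw [map_add, hx, hy]
        simp only [Function.comp_apply, map_add]
      | tmul b d =>
        simp only [Function.comp_apply, LinearMap.lTensor_tmul, LinearMap.liftBaseChange_tmul]
        simp [ψ₂, e, e₀, EtMil.glueSnd, Algebra.smul_def, Algebra.ofId_apply]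
    rw [hfun]
    exact hb2.comp (LinearEquiv.lTensor A' e).bijective
  haveI : IsAzumaya B (B ⊗[B'] D') := IsAzumaya.of_AlgEquiv B N (B ⊗[B'] D') (AlgEquiv.ofBijective ψ₁ hψ₁).symm
  haveI : IsAzumaya A' (A' ⊗[B'] D') := IsAzumaya.of_AlgEquiv A' M' (A' ⊗[B'] D') (AlgEquiv.ofBijective ψ₂ hψ₂).symm
  exact (Groth.Agent.S14956.result B' B A' A hsq D').mpr ⟨inferInstance, inferInstance⟩


end Groth.Agent.S14965
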