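import Groth.Statements.S14966
-- import your own Groth.Agent.* helpers here

set_option autoImplicit false
universe u
open EtAlg

namespace Groth.Agent.S14966

/-- Let A → A' be an injective homomorphism of commutative rings and let I ⊆ A be the conductor, i.e.
the annihilator of the A-module A'/A. Then the conductor square formed by A → A/I, A → A', A/I →
A'/IA' and A' → A'/IA' is a fibre product square of rings with A' → A'/IA' surjective: A = A/I
×_{A'/IA'} A'. (The published Lemma is for the conductor square of a finite modification of schemes;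
this row is the underlying statement for one injective ring map, which needs no finiteness.) -/
theorem result (A A' : Type u) [CommRing A] [CommRing A'] [Algebra A A']
    (hinj : Function.Injective (algebraMap A A')) :
    EtMil.IsFibreSquare A (A ⧸ Module.annihilator A (A' ⧸ LinearMap.range (Algebra.linearMap A A'))) A'
      (A' ⧸ Ideal.map (algebraMap A A') (Module.annihilator A (A' ⧸ LinearMap.range (Algebra.linearMap A A')))) := by
  set I := Module.annihilator A (A' ⧸ LinearMap.range (Algebra.linearMap A A')) with hIdef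
  have memI : ∀ i : A, i ∈ I ↔ ∀ a' : A', ∃ a : A, algebraMap A A' a = i • a' := by
    intro i
    rw [hIdef, Module.mem_annihilator]
    constructor
    · intro h a'
      have := h (Submodule.Quotient.mk a')
      rw [← Submodule.Quotient.mk_smul, Submodule.Quotient.mk_eq_zero] at this
      obtain ⟨a, ha⟩ := this
      exact ⟨a, ha⟩
    · intro h x
      obtain ⟨a', rfl⟩ := Submodule.Quotient.mk_surjective _ x
      rw [← Submodule.Quotient.mk_smul, Submodule.Quotient.mk_eq_zero]
      obtain ⟨a, ha⟩ := h a'
      exact ⟨a, ha⟩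
  have key : ∀ a ∈ Ideal.map (algebraMap A A') I, ∃ i ∈ I, algebraMap A A' i = a := by
    intro a ha
    rw [Ideal.map] at ha
    induction ha using Submodule.span_induction with
    | mem x hx =>
      obtain ⟨i, hi, rfl⟩ := hx
      exact ⟨i, hi, rfl⟩
    | zero => exact ⟨0, I.zero_mem, map_zero _⟩
    | add x y _ _ hx hy =>
      obtain ⟨i, hi, rfl⟩ := hx
      obtain ⟨j, hj, rfl⟩ := hy
      exact ⟨i + j, I.add_mem hi hj, map_add _ _ _⟩
    | smul c x _ hx =>
      obtain ⟨i, hi, rfl⟩ := hx
      obtain ⟨j, hj⟩ := (memI i).mp hi c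
      refine ⟨j, ?_, ?_⟩
      · rw [memI]
        intro a'
        obtain ⟨k, hk⟩ := (memI i).mp hi (c * a')
        refine ⟨k, ?_⟩
        rw [hk, Algebra.smul_def, Algebra.smul_def, hj, Algebra.smul_def]
        ring
      · rw [hj, Algebra.smul_def, smul_eq_mul, mul_comm]
  refine ⟨Ideal.Quotient.mk_surjective, ?_⟩
  intro b a' hba
  obtain ⟨a0, rfl⟩ := Ideal.Quotient.mk_surjective b
  have h1 : algebraMap (A ⧸ I) (A' ⧸ Ideal.map (algebraMap A A') I) (Ideal.Quotient.mk I a0)
      = Ideal.Quotient.mk _ (algebraMap A A' a0) := rfl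
  rw [h1] at hba
  have h2 : algebraMap A A' a0 - a' ∈ Ideal.map (algebraMap A A') I := by
    rw [← Ideal.Quotient.eq]
    exact hba
  obtain ⟨i, hi, hia⟩ := key _ h2
  refine ⟨a0 - i, ⟨?_, ?_⟩, ?_⟩
  · show Ideal.Quotient.mk I (a0 - i) = Ideal.Quotient.mk I a0
    rw [Ideal.Quotient.eq]
    simpa using I.neg_mem hi
  · rw [map_sub, hia]; ring
  · rintro y ⟨_, hy⟩
    apply hinj
    rw [hy, map_sub, hia]; ring

end Groth.Agent.S14966
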