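import Groth.Statements.S14973
import Mathlib.Tactic.NoncommRing
import Mathlib.Tactic.Abel

set_option autoImplicit false
universe u v
open Diff16

namespace Groth.Agent.S14973

/-- In ring form. Let B be a commutative ring, L a ring with a ring homomorphism f from B, and L_0, L_1,
L_2, … additive subgroups of L exhausting L such that for every b in B, f(b) commutes with every
element of L_0 and, for each i, the commutator f(b) x - x f(b) of f(b) with an element x of L_(i+1)
lies in L_i. Let M be a multiplicative subset of B. Then M acts invertibly on the right of the left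
localisation of L at M (L viewed as a B-module through left multiplication): in elementwise terms,
(a) if x is in L and m, u are in M with f(u) x f(m) = 0, then f(u') x = 0 for some u' in M; (b) for
every x in L and m in M there are e in M and y in L with f(e) x = y f(m). (The published statement
assumes a filtration satisfying all the axioms of a filtered ring of differential operators on an
affine scheme; this row assumes only an exhaustive family of additive subgroups on which commutators
with the image of B lower the index.) -/
theorem result
    {B : Type u} [CommRing B] {L : Type v} [Ring L] (f : B →+* L) (F : ℕ → AddSubgroup L)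
    (hex : ∀ x : L, ∃ i : ℕ, x ∈ F i)
    (h0 : ∀ x ∈ F 0, ∀ b : B, f b * x = x * f b)
    (hS : ∀ (i : ℕ), ∀ x ∈ F (i + 1), ∀ b : B, f b * x - x * f b ∈ F i)
    (M : Submonoid B) :
    (∀ (x : L) (m u : B), m ∈ M → u ∈ M → f u * x * f m = 0 → ∃ u' ∈ M, f u' * x = 0) ∧
    (∀ (x : L) (m : B), m ∈ M → ∃ e ∈ M, ∃ y : L, f e * x = y * f m) := by
  have hcomm : ∀ a b : B, f a * f b = f b * f a := fun a b => by
    rw [← map_mul, ← map_mul, mul_comm]
  constructor
  · -- part (a)
    have key : ∀ (i : ℕ) (x : L), x ∈ F i → ∀ (m u : B), f u * x * f m = 0 →
        f (u * m ^ (i + 1)) * x = 0 := by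
      intro i
      induction i with
      | zero =>
        intro x hx m u h
        calc f (u * m ^ (0 + 1)) * x = f u * (f m * x) := by
              rw [Nat.zero_add, pow_one, map_mul, mul_assoc]
          _ = f u * x * f m := by rw [h0 x hx m, mul_assoc]
          _ = 0 := h
      | succ i ih =>
        intro x hx m u h
        have hw := hS i x hx m
        have h1 : f u * (f m * x - x * f m) * f m = 0 := by
          calc f u * (f m * x - x * f m) * f m
              = (f u * f m) * x * f m - (f u * x * f m) * f m := by noncomm_ring
            _ = f m * (f u * x * f m) - (f u * x * f m) * f m := by rw [hcomm u m]; noncomm_ring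
            _ = 0 := by rw [h]; simp
        have h2 := ih _ hw m u h1
        rw [mul_sub, sub_eq_zero] at h2
        calc f (u * m ^ (i + 1 + 1)) * x = f (u * m ^ (i + 1)) * (f m * x) := by
              rw [pow_succ, ← mul_assoc, map_mul, mul_assoc]
          _ = f (u * m ^ (i + 1)) * (x * f m) := h2
          _ = f (m ^ (i + 1)) * (f u * x * f m) := by
              rw [map_mul, hcomm u]; noncomm_ring
          _ = 0 := by rw [h, mul_zero]
    intro x m u hm hu h
    obtain ⟨i, hi⟩ := hex x
    exact ⟨u * m ^ (i + 1), M.mul_mem hu (M.pow_mem hm _), key i x hi m u h⟩
  · -- part (b)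
    have key : ∀ (i : ℕ) (x : L), x ∈ F i → ∀ (m : B), m ∈ M →
        ∃ e ∈ M, ∃ y : L, f e * x = y * f m := by
      intro i
      induction i with
      | zero =>
        intro x hx m hm
        exact ⟨m, hm, x, h0 x hx m⟩
      | succ i ih =>
        intro x hx m hm
        obtain ⟨e', he', y', hy'⟩ := ih _ (hS i x hx m) m hm
        refine ⟨e' * m, M.mul_mem he' hm, f e' * x + y', ?_⟩
        calc f (e' * m) * x = f e' * (f m * x - x * f m) + f e' * x * f m := by
              rw [map_mul]; noncomm_ring
          _ = y' * f m + f e' * x * f m := by rw [hy']
          _ = (f e' * x + y') * f m := by noncomm_ring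
    intro x m hm
    obtain ⟨i, hi⟩ := hex x
    exact key i x hi m hm

end Groth.Agent.S14973
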