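import Groth.Statements.S1499
import Mathlib
import Groth.Agent.Lib.Helper23TwExt
import Groth.Agent.Lib.Helper23PB2
import Groth.Agent.Lib.Helper23TensorUnit
-- import your own Groth.Agent.* helpers here

set_option autoImplicit false
universe u
attribute [local instance] HasDerivedCategory.standard
open FlatMor

namespace Groth.Agent.S1499
open CategoryTheory CategoryTheory.Limits AlgebraicGeometry TopologicalSpace
open Groth.Agent.Lib.Helper23.AmpleIso Groth.Agent.Lib.Helper23.SecTw Groth.Agent.Lib.Helper23.TwExt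
open Groth.Agent.Lib.Helper23.PB Groth.Agent.Lib.Helper23.TensorUnit

open Groth.Agent.Lib.Helper23.AmpleIso Groth.Agent.Lib.Helper23.SecTw Groth.Agent.Lib.Helper23.TwExt
open Groth.Agent.Lib.Helper23.PB Groth.Agent.Lib.Helper23.TensorUnit
open TopologicalSpace

open AlgebraicGeometry CategoryTheory Limits in
/-- Let f : X → Y with Y having an ample family of invertible modules, and suppose some O_X-module is
ample relative to f. Then X has an ample family of invertible modules. -/
theorem result {X Y : Scheme.{u}} (f : X ⟶ Y)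
    (hY : MoreMor.HasAmpleFamily Y) (L : X.Modules) (hL : RelAmple.IsRelAmple f L) :
    MoreMor.HasAmpleFamily X := by
  obtain ⟨hYc, hYpt⟩ := hY
  haveI := hYc
  haveI := hL.1
  have hLinv : PicF.IsInvertible L := isInvertible_of_isRelAmple f L hL
  haveI hXc : CompactSpace X := QuasiCompact.compactSpace_of_compactSpace f
  -- data at each point
  have key : ∀ x : X, ∃ (P : X.Modules) (σ : Coh.structureModule X ⟶ P), PicF.IsInvertible P ∧
      x ∈ CohB1.genLocus P σ ∧ CohB1.IsAmple (L.restrict (CohB1.genLocus P σ).ι) := by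
    intro x
    obtain ⟨N, n, t, hN, -, hy, haffV⟩ := hYpt (f x)
    obtain ⟨σ, hσ⟩ := exists_pullback_section f N hN n t
    refine ⟨_, σ, isInvertible_tensorPow (isInvertible_pullback f N hN) n, ?_, ?_⟩
    · rw [hσ]; exact hy
    · rw [hσ]; exact hL.2 ⟨_, haffV⟩
  haveI : QuasiSeparatedSpace X := by
    refine quasiSeparatedSpace_of_opens_cover X (fun x => ?_)
    obtain ⟨P, σ, hP, hx, hamp⟩ := key x
    refine ⟨CohB1.genLocus P σ, hx, quasiSeparatedSpace_of_isAmple _ hamp, fun A => ?_⟩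
    exact (isAffineOpen_inf_genLocus P hP σ A.1 A.2).isCompact
  refine ⟨hXc, fun x => ?_⟩
  obtain ⟨P, σ, hP, hx, hamp⟩ := key x
  obtain ⟨U, hU⟩ : ∃ U : X.Opens, U = CohB1.genLocus P σ := ⟨_, rfl⟩
  rw [← hU] at hx hamp
  obtain ⟨m, s', hxs', haff'⟩ := hamp.2.2 (⟨x, hx⟩ : (↑U : Scheme.{u}))
  obtain ⟨Φ⟩ := nonempty_restrict_tensorPow_iso L hLinv U (m + 1)
  have hQ := isInvertible_tensorPow hLinv (m + 1)
  obtain ⟨n', u, hu⟩ := exists_twisted_section_genLocus_eq P hP σ (CohB1.tensorPow L (m + 1)) hQ U hU (s' ≫ Φ.inv)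
  have hgl : CohB1.genLocus _ (s' ≫ Φ.inv) = CohB1.genLocus _ s' := genLocus_comp_iso Φ.symm s'
  rw [hgl] at hu
  have hM : PicF.IsInvertible (CohB1.tensorMod (CohB1.tensorMod (CohB1.tensorPow L (m + 1)) (CohB1.tensorPow P n')) P) :=
    isInvertible_tensorMod (isInvertible_tensorMod hQ (isInvertible_tensorPow hP n')) hP
  refine ⟨_, 1, u ≫ (unitTensorIso _).inv, hM, le_rfl, ?_, ?_⟩
  · have h1 : CohB1.genLocus _ (u ≫ (unitTensorIso _).inv) = CohB1.genLocus _ u := genLocus_comp_iso (unitTensorIso _).symm u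
    change x ∈ CohB1.genLocus _ (u ≫ (unitTensorIso _).inv)
    rw [h1, hu]
    exact ⟨⟨x, hx⟩, hxs', rfl⟩
  · have h1 : CohB1.genLocus _ (u ≫ (unitTensorIso _).inv) = CohB1.genLocus _ u := genLocus_comp_iso (unitTensorIso _).symm u
    change IsAffineOpen (CohB1.genLocus _ (u ≫ (unitTensorIso _).inv))
    rw [h1, hu]
    exact haff'.image_of_isOpenImmersion U.ι

end Groth.Agent.S1499
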