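import Groth.Statements.S14994
import Mathlib

set_option autoImplicit false
universe u
open CAlg

namespace Groth.Agent.S14994

/-- Let A be a Noetherian integrally closed domain, M a finitely generated torsion-free A-module, N a
submodule of M and ι : M → M** the canonical map to the double dual. Write N** → M** for the double
dual of the inclusion N → M. Then every m ∈ M whose image ι(m) lies in the image of N** is a torsion
element modulo N: some nonzero a ∈ A satisfies a·m ∈ N. In other words the preimage of N** under ι
is contained in the saturation of N in M (the preimage of the torsion submodule of M/N), and the two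
coincide when M/N is torsion-free. (The published statement asserts equality of the preimage with
the saturation for every N; for N = xA inside M = A = k[x] the saturation is all of M while N** has
image xA = N under the identification M** = M, so only the inclusion stated here holds, and it is
the inclusion later used, for saturated N, where the two sides agree.) -/
theorem result (A : Type u) [CommRing A] [IsDomain A]
    [IsNoetherianRing A] [IsIntegrallyClosed A]
    (M : Type u) [AddCommGroup M] [Module A M] [Module.Finite A M] [NoZeroSMulDivisors A M]
    (N : Submodule A M) :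
    (LinearMap.range N.subtype.dualMap.dualMap).comap (Module.Dual.eval A M) ≤
      (Submodule.torsion A (M ⧸ N)).comap N.mkQ := by
  classical
  intro m hm
  rw [Submodule.mem_comap] at hm ⊢
  obtain ⟨ξ, hξ⟩ := hm
  by_contra hnt
  -- notation
  let K := FractionRing A
  let Q := M ⧸ N
  let V := LocalizedModule (nonZeroDivisors A) Q
  set v : V := LocalizedModule.mk (N.mkQ m) 1 with hv
  have hv0 : v ≠ 0 := by
    intro h0
    apply hnt
    rw [Submodule.mem_torsion_iff]
    have h1 : (LocalizedModule.mk (N.mkQ m) 1 : V) = LocalizedModule.mk 0 1 := by
      rw [← hv, h0, LocalizedModule.zero_mk]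
    obtain ⟨u, hu⟩ := LocalizedModule.mk_eq.mp h1
    refine ⟨u, ?_⟩
    simpa using hu
  obtain ⟨lam, hlam⟩ := Module.Projective.exists_dual_ne_zero K hv0
  let lam' : Q →ₗ[A] K :=
    (lam.restrictScalars A).comp (LocalizedModule.mkLinearMap (nonZeroDivisors A) Q)
  have hlam' : lam' (N.mkQ m) = lam v := rfl
  -- clear denominators
  obtain ⟨S, hS⟩ := (Module.Finite.fg_top : (⊤ : Submodule A Q).FG)
  obtain ⟨b, hb⟩ := IsLocalization.exist_integer_multiples_of_finset (nonZeroDivisors A)
    (S.image lam')
  have hb0 : algebraMap A K (b : A) ≠ 0 := by
    rw [Ne, map_eq_zero_iff _ (IsFractionRing.injective A K)]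
    exact nonZeroDivisors.ne_zero b.2
  have hrange : ∀ q : Q, ((b : A) • lam') q ∈ LinearMap.range (Algebra.linearMap A K) := by
    intro q
    have hq : q ∈ Submodule.span A (S : Set Q) := by rw [hS]; trivial
    have hle : Submodule.span A (S : Set Q) ≤
        (LinearMap.range (Algebra.linearMap A K)).comap ((b : A) • lam') := by
      rw [Submodule.span_le]
      intro s hs
      obtain ⟨a, ha⟩ := hb (lam' s) (Finset.mem_image_of_mem _ hs)
      exact ⟨a, ha⟩
    exact hle hq
  have hinjA : Function.Injective (Algebra.linearMap A K) := IsFractionRing.injective A K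
  let ψ : Q →ₗ[A] A := (LinearEquiv.ofInjective (Algebra.linearMap A K) hinjA).symm.toLinearMap.comp
    (LinearMap.codRestrict _ ((b : A) • lam') hrange)
  have hψ : ∀ q : Q, algebraMap A K (ψ q) = (b : A) • lam' q := by
    intro q
    have h1 : (LinearEquiv.ofInjective (Algebra.linearMap A K) hinjA) (ψ q) =
        LinearMap.codRestrict _ ((b : A) • lam') hrange q :=
      LinearEquiv.apply_symm_apply _ _
    have h2 := congrArg Subtype.val h1
    exact h2
  let φ : Module.Dual A M := ψ.comp N.mkQ
  have hφm : φ m ≠ 0 := by
    intro h0
    have h1 := hψ (N.mkQ m)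
    change algebraMap A K (φ m) = _ at h1
    rw [h0, map_zero, hlam', Algebra.smul_def] at h1
    exact (mul_ne_zero hb0 hlam) h1.symm
  have hφN : N.subtype.dualMap φ = 0 := by
    ext n
    show ψ (N.mkQ (n : M)) = 0
    rw [Submodule.mkQ_apply, (Submodule.Quotient.mk_eq_zero N).mpr n.2, map_zero]
  have h3 := congrArg (fun F : Module.Dual A (Module.Dual A M) => F φ) hξ
  simp only [LinearMap.dualMap_apply, Module.Dual.eval_apply] at h3
  rw [hφN, map_zero] at h3
  exact hφm h3.symm

end Groth.Agent.S14994
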