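import Groth.Statements.S14995
import Groth.Agent.Lib.Helper20ZClos18

set_option autoImplicit false
set_option linter.style.haveILetI false
universe u
open CategoryTheory CategoryTheory.Limits AlgebraicGeometry
open Coherent

namespace Groth.Agent.S14995

/-- Let Y be a locally Noetherian scheme, E and F coherent O_Y-modules and U an open subset of Y such
that for every point y of Y outside U the stalk E_y has depth at least 2 as a module over the local
ring O_{Y,y}. Then restricting morphisms to U is a bijection from Hom(F, E) onto Hom(F|_U, E|_U).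
(The published statement is the case F = E; this row allows any coherent F.) -/
theorem result (Y : Scheme.{u}) [IsLocallyNoetherian Y]
    (E F : Y.Modules) (hE : Coh.IsCoh E) (hF : Coh.IsCoh F) (U : Y.Opens)
    (hdepth : ∀ y : Y, y ∉ U → (2 : ℕ∞) ≤ LocCoh.depth (Y.presheaf.stalk y) (E.presheaf.stalk y)) :
    Function.Bijective (fun φ : F ⟶ E => (Scheme.Modules.restrictFunctor U.ι).map φ) := by
  obtain ⟨K, rfl⟩ : ∃ K : TopologicalSpace.Closeds Y, K.compl = U := ⟨U.compl, U.compl_compl⟩
  haveI : E.IsQuasicoherent := hE.1
  haveI : SheafOfModules.IsFiniteType (R := Y.ringCatSheaf) E := hE.2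
  have hK : ∀ y : Y, y ∈ (K : Set Y) →
      (2 : ℕ∞) ≤ LocCoh.depth (Y.presheaf.stalk y) (E.presheaf.stalk y) := by
    intro y hy
    exact hdepth y (fun h => h hy)
  haveI hiso : IsIso ((Scheme.Modules.restrictAdjunction (Scheme.Opens.ι K.compl)).unit.app E) :=
    Groth.Agent.Lib.Helper20.ZClosLib.isIso_unit_of_depth_ge_two K E hK
  let adj := Scheme.Modules.restrictAdjunction (Scheme.Opens.ι K.compl)
  have key : ∀ φ : F ⟶ E, (Scheme.Modules.restrictFunctor (Scheme.Opens.ι K.compl)).map φ =
      (adj.homEquiv F ((Scheme.Modules.restrictFunctor (Scheme.Opens.ι K.compl)).obj E)).symm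
        (φ ≫ adj.unit.app E) := by
    intro φ
    rw [Equiv.eq_symm_apply, Adjunction.homEquiv_unit]
    exact (adj.unit.naturality φ).symm
  constructor
  · intro φ φ' h
    change (Scheme.Modules.restrictFunctor (Scheme.Opens.ι K.compl)).map φ =
      (Scheme.Modules.restrictFunctor (Scheme.Opens.ι K.compl)).map φ' at h
    rw [key φ, key φ'] at h
    have h2 := (Equiv.injective _) h
    exact (cancel_mono (adj.unit.app E)).mp h2
  · intro ψ
    refine ⟨adj.homEquiv F _ ψ ≫ inv (adj.unit.app E), ?_⟩
    change (Scheme.Modules.restrictFunctor (Scheme.Opens.ι K.compl)).map _ = ψ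
    rw [key, Category.assoc, IsIso.inv_hom_id, Category.comp_id, Equiv.symm_apply_apply]

end Groth.Agent.S14995
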