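import Groth.Statements.S14997
import Mathlib
-- import your own Groth.Agent.* helpers here

set_option autoImplicit false
set_option linter.style.haveILetI false
set_option linter.unusedSectionVars false
open HilbPol

namespace Groth.Agent.S14997
open Polynomial

theorem lex_lt_iff {ℓ : ℕ} (x y : Fin ℓ → ℚ) :
    toLex x < toLex y ↔ ∃ i, (∀ j, j < i → x j = y j) ∧ x i < y i := Iff.rfl

theorem lex_aux {ℓ : ℕ} (U V U' V' : ℕ → ℚ) (γ : ℕ → ℕ → ℚ)
    (h : ∀ j, j < ℓ → U' j - V' j = (U j - V j) + ∑ i ∈ Finset.range j, γ j i * (U i - V i)) :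
    toLex (fun j : Fin ℓ => U j) ≤ toLex (fun j : Fin ℓ => V j) ↔
      toLex (fun j : Fin ℓ => U' j) ≤ toLex (fun j : Fin ℓ => V' j) := by
  have key1 : ∀ j, j < ℓ → (∀ i, i < j → U i = V i) → U' j - V' j = U j - V j := by
    intro j hj hi
    rw [h j hj]
    rw [Finset.sum_eq_zero, add_zero]
    intro i hi'
    rw [hi i (Finset.mem_range.mp hi'), sub_self, mul_zero]
  have key2 : ∀ j, j < ℓ → (∀ i, i ≤ j → U' i = V' i) → U j = V j := by
    intro j
    induction j using Nat.strong_induction_on with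
    | _ j ih =>
      intro hj hall
      have := key1 j hj (fun i hi => ih i hi (hi.trans hj) (fun i' hi' => hall i' (hi'.trans hi.le)))
      rw [hall j le_rfl, sub_self] at this
      linarith
  have key3 : ∀ j, j < ℓ → ((∀ i, i < j → U i = V i) ↔ (∀ i, i < j → U' i = V' i)) := by
    intro j hj
    constructor
    · intro hU i hi
      have := key1 i (hi.trans hj) (fun i' hi' => hU i' (hi'.trans hi))
      rw [hU i hi, sub_self] at this
      linarith
    · intro hU' i hi
      exact key2 i (hi.trans hj) (fun i' hi' => hU' i' (lt_of_le_of_lt hi' hi))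
  rw [le_iff_lt_or_eq, le_iff_lt_or_eq]
  apply or_congr
  · refine (lex_lt_iff _ _).trans (Iff.trans ?_ (lex_lt_iff _ _).symm)
    apply exists_congr
    intro i
    have e1 : (∀ j : Fin ℓ, j < i → U j = V j) ↔ (∀ j : ℕ, j < (i : ℕ) → U j = V j) :=
      ⟨fun hh j hj => hh ⟨j, hj.trans i.2⟩ hj, fun hh j hj => hh j hj⟩
    have e2 : (∀ j : Fin ℓ, j < i → U' j = V' j) ↔ (∀ j : ℕ, j < (i : ℕ) → U' j = V' j) :=
      ⟨fun hh j hj => hh ⟨j, hj.trans i.2⟩ hj, fun hh j hj => hh j hj⟩
    rw [e1, e2]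
    constructor
    · rintro ⟨h1, h2⟩
      refine ⟨(key3 i i.2).1 h1, ?_⟩
      have := key1 i i.2 h1
      linarith
    · rintro ⟨h1, h2⟩
      have h1' := (key3 i i.2).2 h1
      refine ⟨h1', ?_⟩
      have := key1 i i.2 h1'
      linarith
  · rw [toLex_inj, toLex_inj, funext_iff, funext_iff]
    constructor
    · intro hh i
      have := key1 i i.2 (fun j hj => hh ⟨j, hj.trans i.2⟩)
      have h2 : U i = V i := hh i
      rw [h2, sub_self] at this
      linarith
    · intro hh i
      exact key2 i i.2 (fun j hj => hh ⟨j, lt_of_le_of_lt hj i.2⟩)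


theorem comp_coeff (R : ℚ[X]) (a : ℚ) (n M : ℕ) (hM : R.natDegree - n < M) :
    (R.comp (X - C a)).coeff n =
      ∑ m ∈ Finset.range M, ((m + n).choose n : ℚ) * R.coeff (m + n) * (-a) ^ m := by
  have : R.comp (X - C a) = taylor (-a) R := by
    rw [taylor_apply, C_neg, sub_eq_add_neg]
  rw [this, taylor_coeff, eval_eq_sum_range' (lt_of_le_of_lt (natDegree_hasseDeriv_le R n) hM)]
  apply Finset.sum_congr rfl
  intro m _
  rw [hasseDeriv_coeff]

theorem choose_fact (m n : ℕ) :
    ((m + n).choose n : ℚ) * (n.factorial : ℚ) = ((m + n).factorial : ℚ) / (m.factorial : ℚ) := by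
  have h := Nat.add_choose_mul_factorial_mul_factorial m n
  have hm : (m.factorial : ℚ) ≠ 0 := by exact_mod_cast m.factorial_ne_zero
  rw [eq_div_iff hm]
  have : (((m + n).choose n * m.factorial * n.factorial : ℕ) : ℚ) = ((m + n).factorial : ℚ) := by
    rw [h]
  push_cast at this
  linarith

theorem top_coeff (R : ℚ[X]) (a : ℚ) (d : ℕ) (hd : R.natDegree = d) (h1 : 1 ≤ d) :
    (R - R.comp (X - C a)).coeff (d - 1) * ((d - 1).factorial : ℚ) =
      a * (R.coeff d * (d.factorial : ℚ)) := by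
  obtain ⟨e, rfl⟩ : ∃ e, d = e + 1 := ⟨d - 1, by omega⟩
  rw [coeff_sub, comp_coeff R a (e + 1 - 1) 2 (by rw [hd]; omega)]
  simp only [Nat.add_sub_cancel, Finset.sum_range_succ, Finset.sum_range_zero, zero_add,
    Nat.choose_self, Nat.cast_one, one_mul, pow_zero, mul_one, pow_one]
  rw [add_comm 1 e, Nat.choose_succ_self_right, Nat.factorial_succ]
  push_cast
  ring

def cc (a : ℚ) (j i : ℕ) : ℚ := -(-a) ^ (j + 1 - i) / ((j + 1 - i).factorial : ℚ)
def kk (a : ℚ) (j : ℕ) : ℚ := -(-a) ^ (j + 2) / ((j + 2).factorial : ℚ)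

theorem low_coeff (R : ℚ[X]) (a : ℚ) (d j : ℕ) (hd : R.natDegree = d) (hj : j + 2 ≤ d) :
    (R - R.comp (X - C a)).coeff (d - 1 - 1 - j) * ((d - 1 - 1 - j).factorial : ℚ) =
      a * (R.coeff (d - 1 - j) * ((d - 1 - j).factorial : ℚ)) +
        ∑ i ∈ Finset.range j, cc a j i * (R.coeff (d - 1 - i) * ((d - 1 - i).factorial : ℚ)) +
        kk a j * (R.coeff d * (d.factorial : ℚ)) := by
  obtain ⟨n, rfl⟩ : ∃ n, d = n + j + 2 := ⟨d - j - 2, by omega⟩
  have e1 : n + j + 2 - 1 - 1 - j = n := by omega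
  have e2 : n + j + 2 - 1 - j = n + 1 := by omega
  rw [e1, e2, coeff_sub, comp_coeff R a n (j + 3) (by rw [hd]; omega)]
  rw [Finset.sum_range_succ', Finset.sum_range_succ, Finset.sum_range_succ']
  simp only [zero_add, pow_zero, mul_one, Nat.choose_self, Nat.cast_one, one_mul, pow_one]
  rw [← Finset.sum_range_reflect]
  have hterm : ∀ m : ℕ, ((m + n).choose n : ℚ) * R.coeff (m + n) * (-a) ^ m * (n.factorial : ℚ) =
      (-a) ^ m / (m.factorial : ℚ) * (R.coeff (m + n) * ((m + n).factorial : ℚ)) := by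
    intro m
    have := choose_fact m n
    have hm : (m.factorial : ℚ) ≠ 0 := by exact_mod_cast m.factorial_ne_zero
    calc ((m + n).choose n : ℚ) * R.coeff (m + n) * (-a) ^ m * (n.factorial : ℚ)
        = (((m + n).choose n : ℚ) * (n.factorial : ℚ)) * R.coeff (m + n) * (-a) ^ m := by ring
      _ = _ := by rw [this]; field_simp
  have hsum : (∑ i ∈ Finset.range j, ((j - 1 - i + 1 + 1 + n).choose n : ℚ) *
      R.coeff (j - 1 - i + 1 + 1 + n) * (-a) ^ (j - 1 - i + 1 + 1)) * (n.factorial : ℚ) =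
      - ∑ i ∈ Finset.range j, cc a j i *
        (R.coeff (n + j + 2 - 1 - i) * ((n + j + 2 - 1 - i).factorial : ℚ)) := by
    rw [Finset.sum_mul, ← Finset.sum_neg_distrib]
    apply Finset.sum_congr rfl
    intro i hi
    have hi' := Finset.mem_range.mp hi
    rw [hterm]
    have e3 : j - 1 - i + 1 + 1 = j + 1 - i := by omega
    have e4 : j - 1 - i + 1 + 1 + n = n + j + 2 - 1 - i := by omega
    rw [e4, e3]
    unfold cc
    ring
  have h1 := hterm 1
  have h2 := hterm (j + 1 + 1)
  simp only [pow_one, Nat.factorial_one, Nat.cast_one, div_one] at h1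
  have e5 : j + 1 + 1 + n = n + j + 2 := by omega
  have e7 : j + 1 + 1 = j + 2 := rfl
  rw [e5, e7] at h2
  have e6 : (1 + n) = n + 1 := by omega
  rw [e6] at h1
  rw [e6, e5, e7]
  unfold kk
  linear_combination (-1) * hsum + (-1) * h1 + (-1) * h2


theorem ratio_formula (R : ℚ[X]) (a : ℚ) (ha : a ≠ 0) (d j : ℕ) (hd : R.natDegree = d)
    (hj : j + 2 ≤ d) (hR0 : R ≠ 0) :
    ((R - R.comp (X - C a)).coeff (d - 1 - 1 - j) * ((d - 1 - 1 - j).factorial : ℚ)) /
        ((R - R.comp (X - C a)).coeff (d - 1) * ((d - 1).factorial : ℚ)) =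
      (R.coeff (d - 1 - j) * ((d - 1 - j).factorial : ℚ)) / (R.coeff d * (d.factorial : ℚ)) +
        ∑ i ∈ Finset.range j, cc a j i / a *
          ((R.coeff (d - 1 - i) * ((d - 1 - i).factorial : ℚ)) / (R.coeff d * (d.factorial : ℚ))) +
        kk a j / a := by
  have hRd : R.coeff d * (d.factorial : ℚ) ≠ 0 := by
    apply mul_ne_zero
    · rw [← hd]; exact leadingCoeff_ne_zero.mpr hR0
    · exact_mod_cast d.factorial_ne_zero
  have hRc : R.coeff d ≠ 0 := left_ne_zero_of_mul hRd
  have hdf : (d.factorial : ℚ) ≠ 0 := right_ne_zero_of_mul hRd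
  rw [top_coeff R a d hd (by omega), low_coeff R a d j hd hj]
  rw [add_div, add_div, Finset.sum_div]
  congr 1
  · congr 1
    · field_simp
    · apply Finset.sum_congr rfl
      intro i _
      field_simp
  · field_simp


open Polynomial in
/-- Let d and ℓ be natural numbers with ℓ + 1 ≤ d, let a be a nonzero rational number and let P, Q be
polynomials with rational coefficients, both of degree exactly d. For a polynomial R of degree e
write R(m) = Σ_i α_i(R) m^i / i! (so α_i(R) = i! · coeff_i(R)) and let r_ℓ(R) ∈ ℚ^ℓ be the vector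
(α_{e−1}(R)/α_e(R), …, α_{e−ℓ}(R)/α_e(R)) of the ℓ coefficients after the leading one of the reduced
polynomial R/α_e(R), ordered lexicographically. The polynomials P(m) − P(m − a) and Q(m) − Q(m − a)
have degree d − 1, and r_ℓ(P) ≤ r_ℓ(Q) lexicographically if and only if r_ℓ(P(m) − P(m − a)) ≤
r_ℓ(Q(m) − Q(m − a)) lexicographically (hence the same with strict inequalities, by exchanging P and
Q). When P and Q are the Hilbert polynomials of pure d-dimensional coherent sheaves E → F on a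
polarized projective scheme and D is a hypersurface section of degree a containing no associated
point of E or F, the Hilbert polynomials of E|_D and F|_D are P(m) − P(m − a) and Q(m) − Q(m − a),
and the two sides are the comparisons of the ℓ-truncated reduced Hilbert polynomials p_ℓ(E) ≥ p_ℓ(F)
and p_ℓ(E|_D) ≥ p_ℓ(F|_D). (The published statement is phrased for the sheaves; this row is the
statement about their Hilbert polynomials that the displayed coefficient formula yields.) -/
theorem result (d ℓ : ℕ) (hℓ : ℓ + 1 ≤ d) (a : ℚ) (ha : a ≠ 0)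
    (P Q : ℚ[X]) (hP : P.natDegree = d) (hQ : Q.natDegree = d) (hP0 : P ≠ 0) (hQ0 : Q ≠ 0) :
    toLex (fun j : Fin ℓ => ((P).coeff (d - 1 - (j : ℕ)) * (Nat.factorial (d - 1 - (j : ℕ)) : ℚ)) / ((P).coeff (d) * (Nat.factorial (d) : ℚ))) ≤ toLex (fun j : Fin ℓ => ((Q).coeff (d - 1 - (j : ℕ)) * (Nat.factorial (d - 1 - (j : ℕ)) : ℚ)) / ((Q).coeff (d) * (Nat.factorial (d) : ℚ))) ↔
      toLex (fun j : Fin ℓ => ((P - P.comp (X - C a)).coeff ((d - 1) - 1 - (j : ℕ)) * (Nat.factorial ((d - 1) - 1 - (j : ℕ)) : ℚ)) / ((P - P.comp (X - C a)).coeff ((d - 1)) * (Nat.factorial ((d - 1)) : ℚ))) ≤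
        toLex (fun j : Fin ℓ => ((Q - Q.comp (X - C a)).coeff ((d - 1) - 1 - (j : ℕ)) * (Nat.factorial ((d - 1) - 1 - (j : ℕ)) : ℚ)) / ((Q - Q.comp (X - C a)).coeff ((d - 1)) * (Nat.factorial ((d - 1)) : ℚ))) := by
  apply lex_aux
    (U := fun j => (P.coeff (d - 1 - j) * ((d - 1 - j).factorial : ℚ)) / (P.coeff d * (d.factorial : ℚ)))
    (V := fun j => (Q.coeff (d - 1 - j) * ((d - 1 - j).factorial : ℚ)) / (Q.coeff d * (d.factorial : ℚ)))
    (U' := fun j => ((P - P.comp (X - C a)).coeff (d - 1 - 1 - j) * ((d - 1 - 1 - j).factorial : ℚ)) /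
        ((P - P.comp (X - C a)).coeff (d - 1) * ((d - 1).factorial : ℚ)))
    (V' := fun j => ((Q - Q.comp (X - C a)).coeff (d - 1 - 1 - j) * ((d - 1 - 1 - j).factorial : ℚ)) /
        ((Q - Q.comp (X - C a)).coeff (d - 1) * ((d - 1).factorial : ℚ)))
    (γ := fun j i => cc a j i / a)
  intro j hj
  rw [ratio_formula P a ha d j hP (by omega) hP0, ratio_formula Q a ha d j hQ (by omega) hQ0]
  simp only [mul_sub, Finset.sum_sub_distrib]
  ring

end Groth.Agent.S14997
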