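import Groth.Statements.S15004
import Groth.Agent.Lib.Helper21Harb

set_option autoImplicit false
universe u v
open Harb

namespace Groth.Agent.S15004

/-- Let C be a finite family of d curves, recorded as an incidence relation between a type of points and
a finite index type, such that any two distinct curves of the family meet in exactly h points; for a
point p write r_p for the number of curves of the family through p. Then for every curve C_i of the
family, Σ_{p ∈ C_i} (r_p − 1) = h (d − 1), the sum being finitely supported. (The published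
statement is for a transversal arrangement of curves on a geometrically ruled surface with invariant
e, all numerically equivalent to a C₀ + b f, where any two of the curves meet transversally in h =
2ab − a²e points; only this common pairwise intersection count enters the proof, and this row states
the identity for an abstract incidence relation.) -/
theorem result (P : Type u) (ι : Type v) [Fintype ι]
    (inc : P → ι → Prop) (h : ℕ)
    (hfin : ∀ i j : ι, i ≠ j → {p : P | inc p i ∧ inc p j}.Finite)
    (hcount : ∀ i j : ι, i ≠ j → {p : P | inc p i ∧ inc p j}.ncard = h) (i : ι) :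
    ∑ᶠ p ∈ {p : P | inc p i}, (Nat.card {j : ι // inc p j} - 1) = h * (Fintype.card ι - 1) := by
  classical
  -- the finite set of points of C_i lying on another curve
  have hUfin : (⋃ j : {j : ι // j ≠ i}, {p : P | inc p i ∧ inc p j.1}).Finite :=
    Set.finite_iUnion (fun j => hfin i j.1 j.2.symm)
  set t : Finset P := hUfin.toFinset with ht
  have hmem_t : ∀ p, p ∈ t ↔ inc p i ∧ ∃ j, j ≠ i ∧ inc p j := by
    intro p
    rw [ht, Set.Finite.mem_toFinset, Set.mem_iUnion]
    constructor
    · rintro ⟨j, hpi, hpj⟩
      exact ⟨hpi, j.1, j.2, hpj⟩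
    · rintro ⟨hpi, j, hj, hpj⟩
      exact ⟨⟨j, hj⟩, hpi, hpj⟩
  -- r_p - 1 as a sum of indicators
  have hr : ∀ p, inc p i →
      Nat.card {j : ι // inc p j} - 1 = ∑ j ∈ Finset.univ.erase i, if inc p j then 1 else 0 := by
    intro p hpi
    rw [Nat.card_eq_fintype_card, Fintype.card_subtype, ← Finset.card_filter,
      Finset.filter_erase, Finset.card_erase_of_mem (by simp [hpi])]
  have hsupp : {p : P | inc p i} ∩ Function.support (fun p => Nat.card {j : ι // inc p j} - 1) =
      ↑t ∩ Function.support (fun p => Nat.card {j : ι // inc p j} - 1) := by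
    ext p
    simp only [Set.mem_inter_iff, Set.mem_setOf_eq, Function.mem_support, Finset.mem_coe, hmem_t]
    constructor
    · rintro ⟨hpi, hne⟩
      refine ⟨⟨hpi, ?_⟩, hne⟩
      have h2 : 2 ≤ Nat.card {j : ι // inc p j} := by omega
      obtain ⟨a, b, hab, ha, hb⟩ := (Groth.Agent.Lib.Helper21Harb.two_le_card_iff inc p).mp h2
      by_cases hai : a = i
      · exact ⟨b, fun hbi => hab (hai.trans hbi.symm), hb⟩
      · exact ⟨a, hai, ha⟩
    · rintro ⟨⟨hpi, -⟩, hne⟩
      exact ⟨hpi, hne⟩
  rw [finsum_mem_eq_sum_of_inter_support_eq _ hsupp]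
  rw [Finset.sum_congr rfl (fun p hp => hr p ((hmem_t p).mp hp).1), Finset.sum_comm]
  have hinner : ∀ j ∈ Finset.univ.erase i, ∑ p ∈ t, (if inc p j then 1 else 0) = h := by
    intro j hj
    have hji : j ≠ i := Finset.ne_of_mem_erase hj
    rw [← Finset.card_filter, ← hcount i j hji.symm, Set.ncard_eq_toFinset_card _ (hfin i j hji.symm)]
    congr 1
    ext p
    simp only [Finset.mem_filter, hmem_t, Set.Finite.mem_toFinset, Set.mem_setOf_eq]
    constructor
    · rintro ⟨⟨hpi, -⟩, hpj⟩
      exact ⟨hpi, hpj⟩
    · rintro ⟨hpi, hpj⟩
      exact ⟨⟨hpi, j, hji, hpj⟩, hpj⟩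
  rw [Finset.sum_congr rfl hinner, Finset.sum_const, Finset.card_erase_of_mem (Finset.mem_univ i),
    Finset.card_univ, smul_eq_mul, mul_comm]

end Groth.Agent.S15004
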