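import Groth.Statements.S15005
import Groth.Agent.Lib.Helper21Harb

set_option autoImplicit false
universe u v
open Harb

namespace Groth.Agent.S15005

/-- Let C be a finite family of d curves, recorded as an incidence relation between a type of points and
a finite index type, such that any two distinct curves of the family meet in exactly h points; let
t_k be the number of k-fold points (points lying on exactly k curves of the family). Then f₂ − f₁ =
Σ_{k ≥ 2} k(k − 1) t_k equals h d(d − 1), where f_i = Σ_{k ≥ 2} k^i t_k. (The published statement is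
for a transversal arrangement of curves on a geometrically ruled surface with invariant e, all
numerically equivalent to a C₀ + b f, where any two of the curves meet transversally in h = 2ab −
a²e points; only this common pairwise intersection count enters the proof, and this row states the
identity for an abstract incidence relation.) -/
theorem result (P : Type u) (ι : Type v) [Fintype ι]
    (inc : P → ι → Prop) (h : ℕ)
    (hfin : ∀ i j : ι, i ≠ j → {p : P | inc p i ∧ inc p j}.Finite)
    (hcount : ∀ i j : ι, i ≠ j → {p : P | inc p i ∧ inc p j}.ncard = h) :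
    ∑ k ∈ Finset.Icc 2 (Fintype.card ι), k * (k - 1) * Nat.card {p : P // Nat.card {j : ι // inc p j} = k} =
      h * (Fintype.card ι * (Fintype.card ι - 1)) := by
  classical
  have hMfin := Groth.Agent.Lib.Helper21Harb.finite_mult inc hfin
  set M : Finset P := hMfin.toFinset with hM
  have hmemM : ∀ p, p ∈ M ↔ 2 ≤ Nat.card {j : ι // inc p j} := by
    intro p; rw [hM, Set.Finite.mem_toFinset]; rfl
  have hr_le : ∀ p, Nat.card {j : ι // inc p j} ≤ Fintype.card ι := by
    intro p
    rw [Nat.card_eq_fintype_card]
    exact Fintype.card_subtype_le _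
  -- t_k as the cardinality of a filter
  have htk : ∀ k ∈ Finset.Icc 2 (Fintype.card ι),
      Nat.card {p : P // Nat.card {j : ι // inc p j} = k} =
        (M.filter (fun p => Nat.card {j : ι // inc p j} = k)).card := by
    intro k hk
    have hk2 : 2 ≤ k := (Finset.mem_Icc.mp hk).1
    have hsub : {p : P | Nat.card {j : ι // inc p j} = k} ⊆ (M : Set P) := by
      intro p hp
      rw [Finset.mem_coe, hmemM]
      rw [Set.mem_setOf_eq] at hp
      omega
    have hfink : {p : P | Nat.card {j : ι // inc p j} = k}.Finite := M.finite_toSet.subset hsub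
    change Set.ncard {p : P | Nat.card {j : ι // inc p j} = k} = _
    rw [Set.ncard_eq_toFinset_card _ hfink]
    congr 1
    ext p
    simp only [Set.Finite.mem_toFinset, Set.mem_setOf_eq, Finset.mem_filter]
    constructor
    · intro hp
      exact ⟨hsub hp, hp⟩
    · exact fun hp => hp.2
  rw [Finset.sum_congr rfl (fun k hk => by rw [htk k hk])]
  -- rewrite as a sum over M
  have h1 : ∀ k ∈ Finset.Icc 2 (Fintype.card ι),
      k * (k - 1) * (M.filter (fun p => Nat.card {j : ι // inc p j} = k)).card =
        ∑ p ∈ M.filter (fun p => Nat.card {j : ι // inc p j} = k),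
          Nat.card {j : ι // inc p j} * (Nat.card {j : ι // inc p j} - 1) := by
    intro k _
    rw [Finset.sum_congr rfl (fun p hp => by rw [(Finset.mem_filter.mp hp).2]),
      Finset.sum_const, smul_eq_mul, mul_comm]
  rw [Finset.sum_congr rfl h1,
    Finset.sum_fiberwise_of_maps_to (fun p hp => Finset.mem_Icc.mpr ⟨(hmemM p).mp hp, hr_le p⟩)]
  -- r(r-1) as the number of ordered pairs
  have h2 : ∀ p, Nat.card {j : ι // inc p j} * (Nat.card {j : ι // inc p j} - 1) =
      ∑ x ∈ (Finset.univ : Finset ι).offDiag, if inc p x.1 ∧ inc p x.2 then 1 else 0 := by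
    intro p
    rw [← Finset.card_filter, Nat.card_eq_fintype_card, Fintype.card_subtype]
    have : ((Finset.univ : Finset ι).offDiag).filter (fun x => inc p x.1 ∧ inc p x.2) =
        ((Finset.univ : Finset ι).filter (fun j => inc p j)).offDiag := by
      ext x
      simp only [Finset.mem_filter, Finset.mem_offDiag, Finset.mem_univ, true_and]
      tauto
    rw [this, Finset.offDiag_card, Nat.mul_sub_one]
  rw [Finset.sum_congr rfl (fun p _ => h2 p), Finset.sum_comm]
  have h3 : ∀ x ∈ (Finset.univ : Finset ι).offDiag,
      ∑ p ∈ M, (if inc p x.1 ∧ inc p x.2 then 1 else 0) = h := by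
    intro x hx
    have hne : x.1 ≠ x.2 := (Finset.mem_offDiag.mp hx).2.2
    rw [← Finset.card_filter, ← hcount x.1 x.2 hne,
      Set.ncard_eq_toFinset_card _ (hfin x.1 x.2 hne)]
    congr 1
    ext p
    simp only [Finset.mem_filter, hmemM, Set.Finite.mem_toFinset, Set.mem_setOf_eq]
    constructor
    · exact fun hp => hp.2
    · intro hp
      exact ⟨(Groth.Agent.Lib.Helper21Harb.two_le_card_iff inc p).mpr ⟨x.1, x.2, hne, hp.1, hp.2⟩, hp⟩
  rw [Finset.sum_congr rfl h3, Finset.sum_const, Finset.offDiag_card, Finset.card_univ,
    smul_eq_mul, Nat.mul_sub_one, mul_comm]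

end Groth.Agent.S15005
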