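import Groth.Statements.S15006
import Groth.Agent.Lib.Helper21Harb

set_option autoImplicit false
universe u v
open Harb

namespace Groth.Agent.S15006

/-- Let C be a finite family of d ≥ 2 curves, recorded as an incidence relation between a type of points
and a finite index type, such that any two distinct curves of the family meet in exactly h ≥ 1
points and no point lies on every curve of the family. Then f₀ ≥ d: the number of multiple points
(points lying on at least two of the curves) is at least the number of curves. (The published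
statement is for a transversal arrangement of d ≥ 4 curves on a geometrically ruled surface with
invariant e ≥ 4, all numerically equivalent to a C₀ + b f with a ≥ 1 and b ≥ ae and with no point
common to all of them, satisfying in addition either a ≥ 2, or a = 1 with some four of the curves
having no point in common, where any two of the curves meet transversally in h = 2ab − a²e ≥ 1
points; only d ≥ 2, h ≥ 1 and the absence of a common point enter the proof, and this row states the
bound for an abstract incidence relation.) -/
theorem result (P : Type u) (ι : Type v) [Fintype ι]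
    (inc : P → ι → Prop) (h : ℕ) (hh : 0 < h) (hd : 2 ≤ Fintype.card ι)
    (hfin : ∀ i j : ι, i ≠ j → {p : P | inc p i ∧ inc p j}.Finite)
    (hcount : ∀ i j : ι, i ≠ j → {p : P | inc p i ∧ inc p j}.ncard = h)
    (hnone : ∀ p : P, ∃ i : ι, ¬ inc p i) :
    Fintype.card ι ≤ Nat.card {p : P // 2 ≤ Nat.card {j : ι // inc p j}} := by
  classical
  have hMfin := Groth.Agent.Lib.Helper21Harb.finite_mult inc hfin
  set M : Finset P := hMfin.toFinset with hM
  have hmemM : ∀ p, p ∈ M ↔ 2 ≤ Nat.card {j : ι // inc p j} := by
    intro p; rw [hM, Set.Finite.mem_toFinset]; rfl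
  -- the counts c i j
  let c : ι → ι → ℕ := fun i j => (M.filter (fun p => inc p i ∧ inc p j)).card
  have hc_ne : ∀ i j, i ≠ j → c i j = h := by
    intro i j hij
    change (M.filter (fun p => inc p i ∧ inc p j)).card = h
    rw [← hcount i j hij, Set.ncard_eq_toFinset_card _ (hfin i j hij)]
    congr 1
    ext p
    simp only [Finset.mem_filter, hmemM, Set.Finite.mem_toFinset, Set.mem_setOf_eq]
    constructor
    · exact fun hp => hp.2
    · intro hp
      exact ⟨(Groth.Agent.Lib.Helper21Harb.two_le_card_iff inc p).mpr ⟨i, j, hij, hp.1, hp.2⟩, hp⟩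
  have hc_diag : ∀ i, h + 1 ≤ c i i := by
    intro i
    obtain ⟨j, hji⟩ : ∃ j, j ≠ i := by
      obtain ⟨a, b, hab⟩ := Fintype.one_lt_card_iff.mp (show 1 < Fintype.card ι from hd)
      by_cases ha : a = i
      · exact ⟨b, fun hb => hab (ha.trans hb.symm)⟩
      · exact ⟨a, ha⟩
    obtain ⟨q, hqi, hqm, hqj⟩ :=
      Groth.Agent.Lib.Helper21Harb.exists_mult_not_on inc h hh hfin hcount hnone i j hji.symm
    have hsub : insert q (M.filter (fun p => inc p i ∧ inc p j)) ⊆
        M.filter (fun p => inc p i ∧ inc p i) := by
      intro p hp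
      rcases Finset.mem_insert.mp hp with rfl | hp
      · exact Finset.mem_filter.mpr ⟨(hmemM _).mpr hqm, hqi, hqi⟩
      · have := Finset.mem_filter.mp hp
        exact Finset.mem_filter.mpr ⟨this.1, this.2.1, this.2.1⟩
    have hq : q ∉ M.filter (fun p => inc p i ∧ inc p j) := fun hq =>
      hqj (Finset.mem_filter.mp hq).2.2
    have := Finset.card_le_card hsub
    rw [Finset.card_insert_of_notMem hq] at this
    have h2 : (M.filter (fun p => inc p i ∧ inc p j)).card = h := hc_ne i j hji.symm
    rw [h2] at this
    exact this
  -- the incidence vectors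
  let v : ι → (↥M → ℚ) := fun i p => if inc p.1 i then 1 else 0
  have hli : LinearIndependent ℚ v := by
    rw [Fintype.linearIndependent_iff]
    intro g hg
    have hp : ∀ p : ↥M, ∑ i, g i * (if inc p.1 i then (1 : ℚ) else 0) = 0 := by
      intro p
      have := congrFun hg p
      simpa [v, Finset.sum_apply] using this
    -- quadratic form
    have hQ : ∑ p ∈ M, (∑ i, g i * (if inc p i then (1 : ℚ) else 0)) ^ 2 = 0 := by
      apply Finset.sum_eq_zero
      intro p hpM
      rw [hp ⟨p, hpM⟩]
      ring
    have hexp : ∑ p ∈ M, (∑ i, g i * (if inc p i then (1 : ℚ) else 0)) ^ 2 =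
        ∑ i, ∑ j, g i * g j * (c i j : ℚ) := by
      have : ∀ p, (∑ i, g i * (if inc p i then (1 : ℚ) else 0)) ^ 2 =
          ∑ i, ∑ j, g i * g j * (if inc p i ∧ inc p j then (1 : ℚ) else 0) := by
        intro p
        rw [sq, Finset.sum_mul_sum]
        apply Finset.sum_congr rfl; intro i _
        apply Finset.sum_congr rfl; intro j _
        by_cases h1 : inc p i <;> by_cases h2 : inc p j <;> simp [h1, h2]
      rw [Finset.sum_congr rfl (fun p _ => this p), Finset.sum_comm]
      apply Finset.sum_congr rfl; intro i _
      rw [Finset.sum_comm]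
      apply Finset.sum_congr rfl; intro j _
      rw [← Finset.mul_sum]
      congr 1
      change _ = (((M.filter (fun p => inc p i ∧ inc p j)).card : ℕ) : ℚ)
      rw [Finset.card_filter]
      push_cast
      rfl
    have hsplit : ∑ i, ∑ j, g i * g j * (c i j : ℚ) =
        (h : ℚ) * (∑ i, g i) ^ 2 + ∑ i, ((c i i : ℚ) - h) * g i ^ 2 := by
      have : ∀ i j, g i * g j * (c i j : ℚ) =
          (h : ℚ) * (g i * g j) + (if i = j then ((c i i : ℚ) - h) * g i ^ 2 else 0) := by
        intro i j
        by_cases hij : i = j
        · subst hij; simp; ring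
        · rw [hc_ne i j hij]; simp [hij]; ring
      simp_rw [this, Finset.sum_add_distrib, Finset.sum_ite_eq, Finset.mem_univ, if_true]
      rw [sq, Finset.sum_mul_sum, Finset.mul_sum]
      congr 1
      apply Finset.sum_congr rfl; intro i _
      rw [Finset.mul_sum]
    rw [hexp, hsplit] at hQ
    have hnn : ∀ i ∈ (Finset.univ : Finset ι), 0 ≤ ((c i i : ℚ) - h) * g i ^ 2 := by
      intro i _
      have : (h : ℚ) + 1 ≤ (c i i : ℚ) := by exact_mod_cast hc_diag i
      have h1 : 0 ≤ (c i i : ℚ) - h := by linarith
      positivity
    have hS : 0 ≤ (h : ℚ) * (∑ i, g i) ^ 2 := by positivity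
    have hsum0 : ∑ i, ((c i i : ℚ) - h) * g i ^ 2 = 0 := by
      have := Finset.sum_nonneg hnn
      linarith
    intro i
    have := (Finset.sum_eq_zero_iff_of_nonneg hnn).mp hsum0 i (Finset.mem_univ i)
    have h1 : (h : ℚ) + 1 ≤ (c i i : ℚ) := by exact_mod_cast hc_diag i
    have h2 : (c i i : ℚ) - h ≠ 0 := by linarith
    have := (mul_eq_zero.mp this).resolve_left h2
    exact pow_eq_zero_iff (two_ne_zero) |>.mp this
  have hle := hli.fintype_card_le_finrank
  rw [Module.finrank_fintype_fun_eq_card, Fintype.card_coe] at hle
  have hcard : M.card = Nat.card {p : P // 2 ≤ Nat.card {j : ι // inc p j}} := by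
    change _ = Set.ncard {p : P | 2 ≤ Nat.card {j : ι // inc p j}}
    rw [Set.ncard_eq_toFinset_card _ hMfin]
  rw [← hcard]
  exact hle

end Groth.Agent.S15006
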