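import Groth.Statements.S15007
import Groth.Agent.Lib.Helper21Harb

set_option autoImplicit false
universe u v
open Harb

namespace Groth.Agent.S15007

/-- Let C be a finite family of d ≥ 2 curves, recorded as an incidence relation between a type of points
and a finite index type, such that any two distinct curves of the family meet in exactly h ≥ 1
points and no point lies on every curve of the family. Then f₀ ≥ h + 2: the number of multiple
points (points lying on at least two of the curves) is at least h + 2. (The published claim reads f₀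
≥ 2ab − a²e + 2 for a transversal arrangement of d ≥ 4 curves on a geometrically ruled surface with
invariant e ≥ 4, all numerically equivalent to a C₀ + b f with a ≥ 1 and b ≥ ae and with no point
common to all of them, satisfying in addition either a ≥ 2, or a = 1 with some four of the curves
having no point in common, where any two of the curves meet transversally in h = 2ab − a²e ≥ 1
points; only d ≥ 2, h ≥ 1 and the absence of a common point enter the proof, and this row states the
bound for an abstract incidence relation.) -/
theorem result (P : Type u) (ι : Type v) [Fintype ι]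
    (inc : P → ι → Prop) (h : ℕ) (hh : 0 < h) (hd : 2 ≤ Fintype.card ι)
    (hfin : ∀ i j : ι, i ≠ j → {p : P | inc p i ∧ inc p j}.Finite)
    (hcount : ∀ i j : ι, i ≠ j → {p : P | inc p i ∧ inc p j}.ncard = h)
    (hnone : ∀ p : P, ∃ i : ι, ¬ inc p i) :
    h + 2 ≤ Nat.card {p : P // 2 ≤ Nat.card {j : ι // inc p j}} := by
  classical
  have hMfin := Groth.Agent.Lib.Helper21Harb.finite_mult inc hfin
  obtain ⟨i₁, i₂, h12⟩ := Fintype.one_lt_card_iff.mp (show 1 < Fintype.card ι from hd)
  obtain ⟨q₁, hq₁i, hq₁m, hq₁n⟩ :=
    Groth.Agent.Lib.Helper21Harb.exists_mult_not_on inc h hh hfin hcount hnone i₁ i₂ h12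
  obtain ⟨q₂, hq₂i, hq₂m, hq₂n⟩ :=
    Groth.Agent.Lib.Helper21Harb.exists_mult_not_on inc h hh hfin hcount hnone i₂ i₁ h12.symm
  set S : Set P := {p : P | inc p i₁ ∧ inc p i₂} with hS
  have hSfin : S.Finite := hfin i₁ i₂ h12
  have hq₁S : q₁ ∉ S := fun hq => hq₁n hq.2
  have hq₂S : q₂ ∉ S := fun hq => hq₂n hq.1
  have hq12 : q₁ ≠ q₂ := fun hq => hq₂n (hq ▸ hq₁i)
  have hsub : insert q₁ (insert q₂ S) ⊆ {p : P | 2 ≤ Nat.card {j : ι // inc p j}} := by
    intro p hp
    rcases hp with rfl | rfl | hp
    · exact hq₁m
    · exact hq₂m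
    · exact (Groth.Agent.Lib.Helper21Harb.two_le_card_iff inc p).mpr ⟨i₁, i₂, h12, hp.1, hp.2⟩
  have hcard : (insert q₁ (insert q₂ S)).ncard = h + 2 := by
    rw [Set.ncard_insert_of_notMem _ (hSfin.insert q₂), Set.ncard_insert_of_notMem hq₂S hSfin,
      hcount i₁ i₂ h12]
    intro hq
    rcases hq with hq | hq
    · exact hq12 hq
    · exact hq₁S hq
  have := Set.ncard_le_ncard hsub hMfin
  rw [hcard] at this
  exact this

end Groth.Agent.S15007
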