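import Groth.Statements.S15010
import Mathlib

set_option autoImplicit false
universe u
open TFCurv

namespace Groth.Agent.S15010

/-- Let O be a one-dimensional Noetherian local domain with algebraically closed residue field whose
integral closure O~ in its fraction field K is a finite O-module. If M and N are O-submodules of K^n
with O^n ⊆ M ⊆ O~^n and O^n ⊆ N ⊆ O~^n, then every O-linear isomorphism M → N is the restriction of
x ↦ A·x for an invertible n × n matrix A with entries in O~. -/
theorem result (O : Type u) [CommRing O] [IsDomain O] [IsNoetherianRing O] [IsLocalRing O] (hdim : ringKrullDim O = 1) [IsAlgClosed (IsLocalRing.ResidueField O)] (K : Type u) [Field K] [Algebra O K] [IsFractionRing O K] (hfin : Module.Finite O ↥(integralClosure O K)) (n : ℕ) (M N : Submodule O (Fin n → K)) (hM1 : Submodule.pi Set.univ (fun _ : Fin n => (1 : Submodule O K)) ≤ M) (hM2 : M ≤ Submodule.pi Set.univ (fun _ : Fin n => (Subalgebra.toSubmodule (integralClosure O K)))) (hN1 : Submodule.pi Set.univ (fun _ : Fin n => (1 : Submodule O K)) ≤ N) (hN2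 : N ≤ Submodule.pi Set.univ (fun _ : Fin n => (Subalgebra.toSubmodule (integralClosure O K)))) (φ : ↥M ≃ₗ[O] ↥N) : ∃ A : Matrix (Fin n) (Fin n) ↥(integralClosure O K), IsUnit A ∧ ∀ x : ↥M, ((φ x : ↥N) : Fin n → K) = (A.map (algebraMap ↥(integralClosure O K) K)).mulVec (x : Fin n → K) := by
  classical
  have key : ∀ (M N : Submodule O (Fin n → K))
      (_ : Submodule.pi Set.univ (fun _ : Fin n => (1 : Submodule O K)) ≤ M)
      (_ : N ≤ Submodule.pi Set.univ
        (fun _ : Fin n => (Subalgebra.toSubmodule (integralClosure O K))))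
      (ψ : ↥M →ₗ[O] ↥N),
      ∃ A : Matrix (Fin n) (Fin n) ↥(integralClosure O K), ∀ x : ↥M,
        ((ψ x : ↥N) : Fin n → K) =
          (A.map (algebraMap ↥(integralClosure O K) K)).mulVec (x : Fin n → K) := by
    intro M N hM1 hN2 ψ
    have he : ∀ i : Fin n, (Pi.single i (1 : K) : Fin n → K) ∈ M := by
      intro i
      apply hM1
      rw [Submodule.mem_pi]
      intro j _
      rw [Submodule.mem_one]
      by_cases hji : j = i
      · exact ⟨1, by rw [hji]; simp⟩
      · exact ⟨0, by simp [Pi.single_apply, hji]⟩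
    let A : Matrix (Fin n) (Fin n) ↥(integralClosure O K) := fun j i =>
      ⟨((ψ ⟨Pi.single i (1 : K), he i⟩ : ↥N) : Fin n → K) j,
        (Submodule.mem_pi.mp (hN2 (ψ ⟨Pi.single i (1 : K), he i⟩).2)) j (Set.mem_univ j)⟩
    refine ⟨A, fun x => ?_⟩
    obtain ⟨s, hs⟩ := IsLocalization.exist_integer_multiples_of_finite (nonZeroDivisors O)
      (fun i => ((x : Fin n → K) i : K))
    choose a ha using hs
    have hs0 : algebraMap O K (s : O) ≠ 0 := by
      rw [Ne, map_eq_zero_iff _ (IsFractionRing.injective O K)]
      exact nonZeroDivisors.ne_zero s.2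
    have hsx : (s : O) • x = ∑ i, a i • (⟨Pi.single i (1 : K), he i⟩ : ↥M) := by
      apply Subtype.ext
      funext j
      rw [Submodule.coe_smul, Submodule.coe_sum, Pi.smul_apply, Finset.sum_apply]
      simp only [Submodule.coe_smul, Pi.smul_apply, Pi.single_apply]
      rw [Finset.sum_eq_single j]
      · rw [if_pos rfl, Algebra.smul_def (a j), mul_one, ha j]
      · intro i _ hij
        rw [if_neg (Ne.symm hij), smul_zero]
      · intro hj; exact absurd (Finset.mem_univ j) hj
    have h1 : (s : O) • ψ x = ∑ i, a i • ψ ⟨Pi.single i (1 : K), he i⟩ := by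
      rw [← map_smul, hsx, map_sum]
      simp only [map_smul]
    funext j
    have h2 := congrArg (fun y : ↥N => (y : Fin n → K) j) h1
    simp only [Submodule.coe_smul, Pi.smul_apply, Submodule.coe_sum, Finset.sum_apply] at h2
    apply mul_left_cancel₀ hs0
    rw [← Algebra.smul_def, h2, Matrix.mulVec, dotProduct, Finset.mul_sum]
    refine Finset.sum_congr rfl (fun i _ => ?_)
    rw [Matrix.map_apply, Algebra.smul_def (a i), ha i, Algebra.smul_def]
    show _ = _ * (((ψ ⟨Pi.single i (1 : K), he i⟩ : ↥N) : Fin n → K) j * _)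
    ring
  obtain ⟨A, hA⟩ := key M N hM1 hN2 φ.toLinearMap
  obtain ⟨B, hB⟩ := key N M hN1 hM2 φ.symm.toLinearMap
  have he : ∀ i : Fin n, (Pi.single i (1 : K) : Fin n → K) ∈ N := by
    intro i
    apply hN1
    rw [Submodule.mem_pi]
    intro j _
    rw [Submodule.mem_one]
    by_cases hji : j = i
    · exact ⟨1, by rw [hji]; simp⟩
    · exact ⟨0, by simp [Pi.single_apply, hji]⟩
  have hinj : Function.Injective (algebraMap ↥(integralClosure O K) K) := Subtype.val_injective
  have hAB : A * B = 1 := by
    have h1 : (A * B).map (algebraMap ↥(integralClosure O K) K) =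
        (1 : Matrix (Fin n) (Fin n) ↥(integralClosure O K)).map
          (algebraMap ↥(integralClosure O K) K) := by
      rw [Matrix.map_mul]
      have hcol : ∀ i, (A.map (algebraMap ↥(integralClosure O K) K) *
          B.map (algebraMap ↥(integralClosure O K) K)).mulVec (Pi.single i (1 : K)) =
          Pi.single i (1 : K) := by
        intro i
        have h2 := hA (φ.symm ⟨Pi.single i (1 : K), he i⟩)
        have h3 := hB ⟨Pi.single i (1 : K), he i⟩
        simp only [LinearEquiv.coe_coe, LinearEquiv.apply_symm_apply] at h2 h3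
        rw [h3, Matrix.mulVec_mulVec] at h2
        exact h2.symm
      ext j i
      have h4 := congrFun (hcol i) j
      rw [Matrix.mulVec_single_one, Matrix.col_apply] at h4
      rw [h4, Matrix.map_one _ (map_zero _) (map_one _), Matrix.one_apply, Pi.single_apply]
    exact Matrix.map_injective hinj h1
  have hBA : B * A = 1 := mul_eq_one_comm.mp hAB
  exact ⟨A, (⟨A, B, hAB, hBA⟩ : (Matrix (Fin n) (Fin n) ↥(integralClosure O K))ˣ).isUnit, fun x => hA x⟩

end Groth.Agent.S15010
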