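import Groth.Statements.S15035
import Groth.Agent.S15009
import Groth.Agent.Lib.Helper8TFDual5
import Groth.Agent.Lib.Helper19GorLatticeB

set_option autoImplicit false
set_option linter.style.haveILetI false
universe u
open TFCurv

namespace Groth.Agent.S15035

open Groth.Agent.Lib.Helper19GorLattice Groth.Agent.Lib.Helper8.TFDual TensorProduct CategoryTheory

/-- Let O be a one-dimensional Gorenstein local domain with algebraically closed residue field whose
integral closure O~ in its fraction field K is a finite O-module, and C ⊆ O the conductor of O in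
O~. Then every finitely generated torsion-free O-module of rank n is isomorphic to an O-submodule
M'' of K^n with C^n ⊆ M'' ⊆ O^n. (For a general O the published statement places M'' between (O~*)^n
and ω^n for the canonical ideal ω; only the Gorenstein case ω = O, O~* = C is stated.) -/
theorem result (O : Type u) [CommRing O] [IsDomain O] [LocCoh.IsGorensteinLocalRing O] (hdim : ringKrullDim O = 1) [IsAlgClosed (IsLocalRing.ResidueField O)] (K : Type u) [Field K] [Algebra O K] [IsFractionRing O K] (hfin : Module.Finite O ↥(integralClosure O K)) (M : Type u) [AddCommGroup M] [Module O M] [Module.Finite O M] [NoZeroSMulDivisors O M] (n : ℕ) (hn : Module.finrank K (TensorProduct O K M) = n) : ∃ M'' : Submodule O (Fin n → K), Submodule.pi Set.univ (fun _ : Fin n => (((1 : Submodule O K).colon (Subalgebra.toSubmodule (integralClosure O K))) • (1 : Submodule O K))) ≤ M'' ∧ M'' ≤ Submodule.pi Set.univ (fun _ : Fin n => (1 : Submodule O K)) ∧ Nonempty (M ≃ₗ[O] ↥M'') := by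
  classical
  set W : Submodule O K := 1 with hW
  haveI : HasInjectiveDimensionLT (ModuleCat.of O ↥W) 2 := hasInjDim_one hdim
  haveI : Module.Finite O ↥W := Module.Finite.equiv (oneEquiv (O := O) (K := K))
  haveI : Nontrivial ↥W := (oneEquiv (O := O) (K := K)).symm.toEquiv.nontrivial
  haveI : Module.IsTorsionFree O K := inferInstance
  haveI : Module.IsTorsionFree O ↥W := inferInstance
  haveI : Module.IsTorsionFree O M := inferInstance
  have hrk := hrk_submodule (O := O) W
  haveI : Module.Finite O (M →ₗ[O] ↥W) := inferInstance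
  haveI : Module.IsTorsionFree O (M →ₗ[O] ↥W) := inferInstance
  haveI : NoZeroSMulDivisors O (M →ₗ[O] ↥W) := by
    rw [noZeroSMulDivisors_iff_right_eq_zero_of_smul]
    intro r hr φ hφ
    apply LinearMap.ext
    intro m
    have h3 : r • φ m = 0 := by
      rw [← LinearMap.smul_apply, hφ, LinearMap.zero_apply]
    have h4 : algebraMap O K r * ((φ m : ↥W) : K) = 0 := by
      have := congrArg Subtype.val h3
      rwa [Submodule.coe_smul, Algebra.smul_def] at this
    have hr' : algebraMap O K r ≠ 0 := fun h =>
      hr ((IsFractionRing.injective O K) (h.trans (map_zero _).symm))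
    rcases mul_eq_zero.mp h4 with h5 | h5
    · exact absurd h5 hr'
    · exact Subtype.ext h5
  obtain ⟨n', hn'⟩ : ∃ n' : ℕ, Module.finrank K (K ⊗[O] (M →ₗ[O] ↥W)) = n' := ⟨_, rfl⟩
  obtain ⟨N, h1, h2, ⟨e⟩⟩ := Groth.Agent.S15009.result O hdim K hfin (M →ₗ[O] ↥W) n' hn'
  -- the isomorphism
  let iso : M ≃ₗ[O] ↥(dualLat N) :=
    (bidual ↥W hdim hrk M).trans
      ((LinearEquiv.congrLeft ↥W O e).trans (dualEquiv N h1).symm)
  -- conductor element
  have hOtfg : (Subalgebra.toSubmodule (integralClosure O K)).FG := Module.Finite.iff_fg.mp hfin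
  obtain ⟨S, hS⟩ := hOtfg
  obtain ⟨b, hb⟩ := IsLocalization.exist_integer_multiples_of_finset (nonZeroDivisors O) S
  have hb0 : (b : O) ≠ 0 := nonZeroDivisors.ne_zero b.2
  have hbcol : (b : O) ∈
      (1 : Submodule O K).colon (Subalgebra.toSubmodule (integralClosure O K) : Set K) := by
    rw [Submodule.mem_colon]
    intro y hy
    rw [← hS] at hy
    refine Submodule.span_induction ?_ ?_ ?_ ?_ hy
    · intro s hs
      obtain ⟨a, ha⟩ := hb s hs
      rw [Submodule.mem_one]
      exact ⟨a, ha⟩
    · rw [smul_zero]; exact zero_mem _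
    · intro x y _ _ hx hy
      rw [smul_add]; exact add_mem hx hy
    · intro a x _ hx
      rw [smul_comm]; exact Submodule.smul_mem _ a hx
  have hbound := pi_conductor_le_dualLat (integralClosure O K) N h2
  have hrank : Module.finrank K (K ⊗[O] ↥(dualLat N)) = n' := by
    apply finrank_tensor_eq (dualLat N) (b : O) hb0
    intro y hy
    apply hbound
    rw [Submodule.mem_pi]
    intro i _
    obtain ⟨a, ha⟩ := hy i
    rw [Pi.smul_apply, ← ha]
    exact Submodule.smul_mem_smul hbcol (Submodule.mem_one.mpr ⟨a, rfl⟩)
  have hnn : n' = n := by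
    rw [← hn, ← hrank]
    exact (LinearEquiv.finrank_eq
      (TensorProduct.AlgebraTensorModule.congr (LinearEquiv.refl K K) iso)).symm
  subst hnn
  exact ⟨dualLat N, hbound, dualLat_le_pi_one h1, ⟨iso⟩⟩

end Groth.Agent.S15035
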