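import Groth.Statements.S15012
import Groth.Agent.S15009
import Groth.Agent.S15035
import Groth.Agent.Lib.Helper19LatColenC

set_option autoImplicit false
set_option linter.style.haveILetI false
set_option maxHeartbeats 1000000
universe u
open TFCurv

namespace Groth.Agent.S15012

open Groth.Agent.Lib.Helper19LatColen Groth.Agent.Lib.Helper19GorLattice

/-- Let O be a one-dimensional Gorenstein local domain with algebraically closed residue field whose
integral closure O~ in its fraction field K is a finite O-module, and let C ⊆ O be the conductor of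
O in O~. Every finitely generated torsion-free O-module of rank n is isomorphic to an O-submodule M'
of K^n with C^n ⊆ M' ⊆ O~^n and length(M'/C^n) = n · length(O/C); that is, every isomorphism class
of rank-n torsion-free modules is represented by a submodule of (O~/C)^n of the same length as
(O/C)^n. -/
theorem result (O : Type u) [CommRing O] [IsDomain O] [LocCoh.IsGorensteinLocalRing O] (hdim : ringKrullDim O = 1) [IsAlgClosed (IsLocalRing.ResidueField O)] (K : Type u) [Field K] [Algebra O K] [IsFractionRing O K] (hfin : Module.Finite O ↥(integralClosure O K)) (M : Type u) [AddCommGroup M] [Module O M] [Module.Finite O M] [NoZeroSMulDivisors O M] (n : ℕ) (hn : Module.finrank K (TensorProduct O K M) = n) : ∃ M' : Submodule O (Fin n → K), Submodule.pi Set.univ (fun _ : Fin n => (((1 : Submodule O K).colon (Subalgebra.toSubmodule (integralClosure O K))) • (1 : Submodule O K))) ≤ M' ∧ M' ≤ Submodule.pi Set.univ (fun _ : Fin n => (Subalgebra.toSubmodule (integralClosure O K))) ∧ Nonempty (M ≃ₗ[O] ↥M')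 ∧ Module.length O (↥M' ⧸ Submodule.comap M'.subtype (Submodule.pi Set.univ (fun _ : Fin n => (((1 : Submodule O K).colon (Subalgebra.toSubmodule (integralClosure O K))) • (1 : Submodule O K))))) = (n : ℕ∞) * Module.length O (O ⧸ ((1 : Submodule O K).colon (Subalgebra.toSubmodule (integralClosure O K)))) := by
  classical
  haveI : Ring.KrullDimLE 1 O := Ring.krullDimLE_iff.mpr (by rw [hdim]; rfl)
  set CO : Ideal O :=
    (1 : Submodule O K).colon (Subalgebra.toSubmodule (integralClosure O K) : Set K) with hCO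
  set Cn : Submodule O (Fin n → K) :=
    Submodule.pi Set.univ (fun _ : Fin n => CO • (1 : Submodule O K)) with hCn
  set On : Submodule O (Fin n → K) :=
    Submodule.pi Set.univ (fun _ : Fin n => (1 : Submodule O K)) with hOn
  set Lam : Submodule O (Fin n → K) :=
    Submodule.pi Set.univ (fun _ : Fin n => Subalgebra.toSubmodule (integralClosure O K))
    with hLam
  obtain ⟨M₁, h11, h12, ⟨e₁⟩⟩ := Groth.Agent.S15009.result O hdim K hfin M n hn
  obtain ⟨M₂, h21, h22, ⟨e₂⟩⟩ := Groth.Agent.S15035.result O hdim K hfin M n hn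
  change Cn ≤ M₂ at h21
  change M₂ ≤ On at h22
  change On ≤ M₁ at h11
  change M₁ ≤ Lam at h12
  -- membership in Lam
  have hmemLam : ∀ v : Fin n → K, v ∈ Lam ↔ ∀ i, v i ∈ integralClosure O K := by
    intro v
    rw [hLam, Submodule.mem_pi]
    exact ⟨fun h i => h i (Set.mem_univ i), fun h i _ => h i⟩
  -- conductor acts
  have hCOmem : ∀ c ∈ CO, ∀ x ∈ integralClosure O K, c • x ∈ CO • (1 : Submodule O K) := by
    intro c hc x hx
    have h1 : c • x ∈ (1 : Submodule O K) := Submodule.mem_colon.mp hc x hx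
    obtain ⟨a, ha⟩ := Submodule.mem_one.mp h1
    rw [mem_ideal_smul_one]
    refine ⟨a, ?_, ha⟩
    rw [hCO, Submodule.mem_colon]
    intro z hz
    have h2 : a • z = c • (x * z) := by
      rw [Algebra.smul_def, ha, Algebra.smul_def, Algebra.smul_def]
      ring
    rw [h2]
    exact Submodule.mem_colon.mp hc (x * z) ((integralClosure O K).mul_mem hx hz)
  have hCLam : ∀ c ∈ CO, ∀ y ∈ Lam, c • y ∈ Cn := by
    intro c hc y hy
    rw [hCn, Submodule.mem_pi]
    intro i _
    rw [Pi.smul_apply]
    exact hCOmem c hc _ ((hmemLam y).mp hy i)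
  -- nonzero conductor element
  have hOtfg : (Subalgebra.toSubmodule (integralClosure O K)).FG := Module.Finite.iff_fg.mp hfin
  obtain ⟨c, hcCO, hc0⟩ : ∃ c ∈ CO, c ≠ 0 := by
    obtain ⟨S, hS⟩ := hOtfg
    obtain ⟨b, hb⟩ := IsLocalization.exist_integer_multiples_of_finset (nonZeroDivisors O) S
    refine ⟨(b : O), ?_, nonZeroDivisors.ne_zero b.2⟩
    rw [hCO, Submodule.mem_colon]
    intro y hy
    rw [SetLike.mem_coe, ← hS] at hy
    refine Submodule.span_induction ?_ ?_ ?_ ?_ hy
    · intro s hs
      obtain ⟨a, ha⟩ := hb s hs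
      rw [Submodule.mem_one]
      exact ⟨a, ha⟩
    · rw [smul_zero]; exact zero_mem _
    · intro x y _ _ hx hy
      rw [smul_add]; exact add_mem hx hy
    · intro a x _ hx
      rw [smul_comm]; exact Submodule.smul_mem _ a hx
  have hLamfg : Lam.FG := Submodule.fg_pi (fun _ => hOtfg)
  have hfgle : ∀ N : Submodule O (Fin n → K), N ≤ Lam → N.FG := fun N hN =>
    Groth.Agent.Lib.Helper8.TFDual.fg_of_le_fg hLamfg hN
  have hfinlen : ∀ X Y : Submodule O (Fin n → K), Cn ≤ X → Y ≤ Lam → rl X Y ≠ ⊤ := by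
    intro X Y hX hY
    exact rl_ne_top (hfgle Y hY) c hc0 (fun y hy => hX (hCLam c hcCO y (hY hy)))
  have hOnLam : On ≤ Lam := le_trans h11 h12
  have hCnOn : Cn ≤ On := le_trans h21 h22
  -- the map G
  let φ : ↥M₁ →ₗ[O] (Fin n → K) := M₂.subtype ∘ₗ (e₁.symm.trans e₂).toLinearMap
  have hφinj : Function.Injective φ :=
    (Submodule.injective_subtype M₂).comp (e₁.symm.trans e₂).injective
  set G : (Fin n → K) →ₗ[K] (Fin n → K) := extK M₁ h11 φ with hG
  have hGinj : Function.Injective G := extK_injective M₁ h11 φ hφinj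
  have hGapp : ∀ y : ↥M₁, G (y : Fin n → K) = φ y := extK_apply M₁ h11 φ
  have hGM : M₁.map (G.restrictScalars O) = M₂ := by
    ext w
    constructor
    · rintro ⟨y, hy, rfl⟩
      show G y ∈ M₂
      rw [hGapp ⟨y, hy⟩]
      exact Subtype.mem _
    · intro hw
      refine ⟨((e₁.symm.trans e₂).symm ⟨w, hw⟩ : ↥M₁), Subtype.mem _, ?_⟩
      show G _ = w
      rw [hGapp]
      show ((e₁.symm.trans e₂) ((e₁.symm.trans e₂).symm ⟨w, hw⟩) : Fin n → K) = w
      rw [LinearEquiv.apply_symm_apply]
  -- B-submodules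
  let LamB : Submodule ↥(integralClosure O K) (Fin n → K) :=
    { carrier := {v | ∀ i, v i ∈ integralClosure O K}
      add_mem' := fun {v w} hv hw i => (integralClosure O K).add_mem (hv i) (hw i)
      zero_mem' := fun i => (integralClosure O K).zero_mem
      smul_mem' := fun b v hv i => by
        show (b : K) * v i ∈ integralClosure O K
        exact (integralClosure O K).mul_mem b.2 (hv i) }
  have hLamB : LamB.restrictScalars O = Lam := by
    ext v
    rw [hmemLam]
    rfl
  let Lam₂B : Submodule ↥(integralClosure O K) (Fin n → K) :=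
    LamB.map (G.restrictScalars ↥(integralClosure O K))
  have hLam₂B : Lam₂B.restrictScalars O = Lam.map (G.restrictScalars O) := by
    ext w
    constructor
    · rintro ⟨v, hv, rfl⟩
      exact ⟨v, (hmemLam v).mpr hv, rfl⟩
    · rintro ⟨v, hv, rfl⟩
      exact ⟨v, (hmemLam v).mp hv, rfl⟩
  have hM₂Lam₂ : M₂ ≤ Lam₂B.restrictScalars O := by
    rw [hLam₂B, ← hGM]
    exact Submodule.map_mono h12
  have hLam₂Lam : Lam₂B ≤ LamB := by
    rintro w ⟨v, hv, rfl⟩
    -- G v = Σ v_i • φ(e_i), φ(e_i) ∈ M₂ ⊆ On ⊆ Lam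
    show ∀ i, (G v) i ∈ integralClosure O K
    rw [hG, extK, Fintype.linearCombination_apply]
    intro i
    rw [Finset.sum_apply]
    refine (integralClosure O K).sum_mem fun j _ => ?_
    rw [Pi.smul_apply, smul_eq_mul]
    refine (integralClosure O K).mul_mem (hv j) ?_
    have h3 : φ ⟨Pi.single j 1, single_mem h11 j⟩ ∈ Lam :=
      hOnLam (h22 (Subtype.mem _))
    exact (hmemLam _).mp h3 i
  have hLam₂Lam' : Lam₂B.restrictScalars O ≤ Lam := by
    rw [← hLamB]
    exact fun x hx => hLam₂Lam hx
  -- lengths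
  have hT1 : rl On Lam = rl On M₁ + rl M₁ Lam := rl_tower h11 h12
  have hT2 : rl M₂ Lam = rl M₂ On + rl On Lam := rl_tower h22 hOnLam
  have hT3 : rl M₂ Lam = rl M₂ (Lam₂B.restrictScalars O) + rl (Lam₂B.restrictScalars O) Lam :=
    rl_tower hM₂Lam₂ hLam₂Lam'
  have hT4 : rl M₂ (Lam₂B.restrictScalars O) = rl M₁ Lam := by
    rw [hLam₂B, ← hGM]
    exact rl_map (G.restrictScalars O) hGinj h12
  have hfin1 : rl M₁ Lam ≠ ⊤ := hfinlen _ _ (le_trans hCnOn h11) le_rfl
  have hfin2 : rl On M₁ ≠ ⊤ := hfinlen _ _ hCnOn h12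
  have hfin3 : rl On Lam ≠ ⊤ := hfinlen _ _ hCnOn le_rfl
  have hge : rl On M₁ ≤ rl (Lam₂B.restrictScalars O) Lam := by
    have h5 : rl M₁ Lam + rl (Lam₂B.restrictScalars O) Lam =
        rl M₁ Lam + (rl M₂ On + rl On M₁) := by
      rw [← hT4, ← hT3, hT2, hT1, hT4]
      ring
    have h6 := WithTop.add_left_cancel hfin1 h5
    rw [h6]
    exact le_add_self
  obtain ⟨e, he⟩ : ∃ e : ℕ, (e : ℕ∞) = rl On M₁ := ⟨(rl On M₁).toNat, ENat.coe_toNat hfin2⟩
  obtain ⟨PB, hPB1, hPB2, hPB3⟩ := exists_between hdim hfin Lam₂B LamB hLam₂Lam c hc0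
    (fun z hz => hM₂Lam₂ (h21 (hCLam c hcCO z ((hmemLam z).mpr hz)))) e
    (by rw [he, hLamB]; exact hge)
  -- P is a lattice
  have hPLam : PB.restrictScalars O ≤ Lam := by
    rw [← hLamB]
    exact fun x hx => hPB2 hx
  have hM₂P : M₂ ≤ PB.restrictScalars O := le_trans hM₂Lam₂ (fun x hx => hPB1 hx)
  have hPfg : PB.FG := Submodule.FG.of_restrictScalars O (hfgle _ hPLam)
  have hPspan : Submodule.span K (PB : Set (Fin n → K)) = ⊤ := by
    rw [eq_top_iff]
    intro v _
    have hv : v = ∑ i, (v i * (algebraMap O K c)⁻¹) • (c • (Pi.single i (1 : K) : Fin n → K)) := by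
      funext j
      rw [Finset.sum_apply, Finset.sum_eq_single j]
      · simp only [Pi.smul_apply, Pi.single_eq_same]
        rw [smul_eq_mul, Algebra.smul_def, mul_one, mul_assoc,
          inv_mul_cancel₀ (algebraMap_ne_zero' hc0), mul_one]
      · intro i _ hij
        simp [Pi.single_eq_of_ne (Ne.symm hij)]
      · intro h
        exact absurd (Finset.mem_univ j) h
    rw [hv]
    refine Submodule.sum_mem _ fun i _ => Submodule.smul_mem _ _ (Submodule.subset_span ?_)
    apply hM₂P
    apply h21
    apply hCLam c hcCO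
    rw [hmemLam]
    intro j
    by_cases hj : j = i
    · subst hj
      rw [Pi.single_eq_same]
      exact (integralClosure O K).one_mem
    · rw [Pi.single_eq_of_ne hj]
      exact (integralClosure O K).zero_mem
  obtain ⟨G', hG'inj, hG'mem⟩ := exists_linearMap_of_lattice hdim hfin PB hPfg hPspan
  have hG'surj : Function.Surjective G' := LinearMap.surjective_of_injective hG'inj
  have hG'Lam : Lam.map (G'.restrictScalars O) = PB.restrictScalars O := by
    ext w
    constructor
    · rintro ⟨v, hv, rfl⟩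
      exact (hG'mem v).mpr ((hmemLam v).mp hv)
    · intro hw
      obtain ⟨v, rfl⟩ := hG'surj w
      exact ⟨v, (hmemLam v).mpr ((hG'mem v).mp hw), rfl⟩
  set M' : Submodule O (Fin n → K) := M₂.comap (G'.restrictScalars O) with hM'
  have hG'M' : M'.map (G'.restrictScalars O) = M₂ := by
    rw [hM', Submodule.map_comap_eq_of_surjective]
    exact hG'surj
  have hM'Lam : M' ≤ Lam := by
    intro v hv
    rw [hmemLam]
    exact (hG'mem v).mp (hM₂P hv)
  have hCnM' : Cn ≤ M' := by
    intro v hv
    show G' v ∈ M₂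
    rw [hCn, Submodule.mem_pi] at hv
    have hv' : ∀ i, ∃ a ∈ CO, algebraMap O K a = v i := fun i =>
      (mem_ideal_smul_one CO (v i)).mp (hv i (Set.mem_univ i))
    choose a haCO ha using hv'
    have hv2 : v = ∑ i, a i • (Pi.single i (1 : K) : Fin n → K) := by
      funext j
      rw [Finset.sum_apply, Finset.sum_eq_single j]
      · simp only [Pi.smul_apply, Pi.single_eq_same, Algebra.smul_def, mul_one]
        exact (ha j).symm
      · intro i _ hij
        simp [Pi.single_eq_of_ne (Ne.symm hij)]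
      · intro h
        exact absurd (Finset.mem_univ j) h
    rw [hv2, map_sum]
    refine Submodule.sum_mem _ fun i _ => ?_
    have h7 : G' (a i • (Pi.single i (1 : K) : Fin n → K)) =
        a i • G' (Pi.single i (1 : K) : Fin n → K) := by
      rw [← algebraMap_smul K (a i), map_smul, algebraMap_smul]
    rw [h7]
    apply h21
    apply hCLam (a i) (haCO i)
    apply hPLam
    refine (hG'mem _).mpr ?_
    intro j
    by_cases hj : j = i
    · subst hj
      rw [Pi.single_eq_same]
      exact (integralClosure O K).one_mem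
    · rw [Pi.single_eq_of_ne hj]
      exact (integralClosure O K).zero_mem
  -- the isomorphism
  let f : ↥M' →ₗ[O] ↥M₂ := (G'.restrictScalars O).restrict (p := M') (q := M₂) (fun x hx => hx)
  have hfbij : Function.Bijective f := by
    constructor
    · intro x y hxy
      apply Subtype.ext
      apply hG'inj
      exact congrArg Subtype.val hxy
    · intro m
      obtain ⟨v, hv⟩ := hG'surj (m : Fin n → K)
      refine ⟨⟨v, ?_⟩, Subtype.ext hv⟩
      show G' v ∈ M₂
      rw [hv]
      exact m.2
  let iso : ↥M' ≃ₗ[O] ↥M₂ := LinearEquiv.ofBijective f hfbij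
  refine ⟨M', hCnM', hM'Lam, ⟨e₂.trans iso.symm⟩, ?_⟩
  -- length computation
  have hT5 : rl M' Lam = rl M₂ (PB.restrictScalars O) := by
    rw [← hG'M', ← hG'Lam]
    exact (rl_map (G'.restrictScalars O) hG'inj hM'Lam).symm
  have hT6 : rl M₂ (PB.restrictScalars O) =
      rl M₂ (Lam₂B.restrictScalars O) + rl (Lam₂B.restrictScalars O) (PB.restrictScalars O) :=
    rl_tower hM₂Lam₂ (fun x hx => hPB1 hx)
  have hT7 : rl M' Lam = rl On Lam := by
    rw [hT5, hT6, hT4, hPB3, he, hT1, add_comm]
  have hT8 : rl Cn Lam = rl Cn M' + rl M' Lam := rl_tower hCnM' hM'Lam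
  have hT9 : rl Cn Lam = rl Cn On + rl On Lam := rl_tower hCnOn hOnLam
  have hT10 : rl Cn M' = rl Cn On := by
    have h11' : rl Cn M' + rl On Lam = rl Cn On + rl On Lam := by rw [← hT9, hT8, hT7]
    exact WithTop.add_right_cancel hfin3 h11'
  show rl Cn M' = _
  rw [hT10]
  exact rl_pi_ideal CO

end Groth.Agent.S15012
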