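import Groth.Statements.S15013
import Groth.Agent.Lib.Helper10TF

set_option autoImplicit false
universe u
open CategoryTheory
open TFCurv

namespace Groth.Agent.S15013

/-- Let O be a one-dimensional Noetherian local domain with algebraically closed residue field whose
integral closure O~ in its fraction field K is a finite O-module, and let w be a canonical ideal of
O, taken here as a nonzero finitely generated O-submodule of K whose injective dimension as an
O-module is at most one. Then Ext^i_O(M, w) vanishes for all i ≥ 1 and every finitely generated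
torsion-free O-module M. -/
theorem result (O : Type u) [CommRing O] [IsDomain O] [IsNoetherianRing O] [IsLocalRing O] (hdim : ringKrullDim O = 1) [IsAlgClosed (IsLocalRing.ResidueField O)] (K : Type u) [Field K] [Algebra O K] [IsFractionRing O K] (hfin : Module.Finite O ↥(integralClosure O K)) (ω : Submodule O K) (hω0 : ω ≠ ⊥) (hωfg : ω.FG) (hωinj : HasInjectiveDimensionLT (ModuleCat.of O ↥ω) 2) (M : Type u) [AddCommGroup M] [Module O M] [Module.Finite O M] [NoZeroSMulDivisors O M] (i : ℕ) (hi : 1 ≤ i) : Subsingleton (Abelian.Ext (ModuleCat.of O M) (ModuleCat.of O ↥ω) i) := by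
  rcases Nat.lt_or_ge i 2 with h2 | h2
  · obtain rfl : i = 1 := by omega
    obtain ⟨n, f, hf⟩ := Groth.Agent.Lib.Helper10.exists_injective_of_isTorsionFree O M
    let S1 : ShortComplex (ModuleCat.{u} O) :=
      ShortComplex.mk (ModuleCat.ofHom f) (ModuleCat.ofHom (LinearMap.range f).mkQ) (by
        apply ModuleCat.hom_ext
        apply LinearMap.ext
        intro m
        exact (Submodule.Quotient.mk_eq_zero _).mpr ⟨m, rfl⟩)
    have hS1 : S1.ShortExact := by
      refine ShortComplex.ShortExact.mk' ?_ ?_ ?_
      · rw [ShortComplex.moduleCat_exact_iff_range_eq_ker]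
        exact (Submodule.ker_mkQ _).symm
      · exact (ModuleCat.mono_iff_injective _).mpr hf
      · exact (ModuleCat.epi_iff_surjective _).mpr (Submodule.mkQ_surjective _)
    have hP : Projective S1.X₂ :=
      (IsProjective.iff_projective (R := O) (Fin n → O)).mp inferInstance
    refine subsingleton_of_forall_eq 0 fun x₁ => ?_
    obtain ⟨x₂, rfl⟩ := Abelian.Ext.contravariant_sequence_exact₁ hS1 (ModuleCat.of O ↥ω) x₁
      (show 1 + 1 = 2 by rfl) (Abelian.Ext.eq_zero_of_hasInjectiveDimensionLT _ 2 le_rfl)
    rw [Abelian.Ext.eq_zero_of_projective x₂, Abelian.Ext.comp_zero]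
  · exact HasInjectiveDimensionLT.subsingleton _ 2 i h2 _

end Groth.Agent.S15013
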