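import Groth.Statements.S15014
import Groth.Agent.Lib.Helper8TFDual3

set_option autoImplicit false
universe u
open CategoryTheory
open TFCurv

namespace Groth.Agent.S15014

/-- Let O be a one-dimensional Noetherian local domain with algebraically closed residue field whose
integral closure O~ in its fraction field K is a finite O-module, and w a canonical ideal (a nonzero
finitely generated O-submodule of K of injective dimension at most one). For a finitely generated
torsion-free O-module M with dual M* = Hom_O(M, w), the groups Ext^i_O(M, M) and Ext^i_O(M*, M*) are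
isomorphic for every i ≥ 0 (existence of an additive isomorphism only). -/
theorem result (O : Type u) [CommRing O] [IsDomain O] [IsNoetherianRing O] [IsLocalRing O] (hdim : ringKrullDim O = 1) [IsAlgClosed (IsLocalRing.ResidueField O)] (K : Type u) [Field K] [Algebra O K] [IsFractionRing O K] (hfin : Module.Finite O ↥(integralClosure O K)) (ω : Submodule O K) (hω0 : ω ≠ ⊥) (hωfg : ω.FG) (hωinj : HasInjectiveDimensionLT (ModuleCat.of O ↥ω) 2) (M : Type u) [AddCommGroup M] [Module O M] [Module.Finite O M] [NoZeroSMulDivisors O M] (i : ℕ) : Nonempty (Abelian.Ext (ModuleCat.of O M) (ModuleCat.of O M) i ≃+ Abelian.Ext (ModuleCat.of O (M →ₗ[O] ↥ω)) (ModuleCat.of O (M →ₗ[O] ↥ω)) i) := by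
  have : Module.Finite O ↥ω := Module.Finite.iff_fg.mpr hωfg
  have : Nontrivial ↥ω := Submodule.nontrivial_iff_ne_bot.mpr hω0
  have : Module.IsTorsionFree O K := inferInstance
  have : Module.IsTorsionFree O ↥ω := inferInstance
  have : Module.IsTorsionFree O M := inferInstance
  have hrk : ∀ w₀ w : ↥ω, w₀ ≠ 0 → ∃ s t : O, s ≠ 0 ∧ s • w = t • w₀ := by
    intro w₀ w hw₀
    have hw₀' : (w₀ : K) ≠ 0 := fun h => hw₀ (Subtype.ext h)
    obtain ⟨t, s, hs, hts⟩ := IsFractionRing.div_surjective (A := O) ((w : K) / (w₀ : K))
    have hs0 : s ≠ 0 := nonZeroDivisors.ne_zero hs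
    have hs' : algebraMap O K s ≠ 0 := by
      intro h
      exact hs0 ((IsFractionRing.injective O K) (h.trans (map_zero _).symm))
    refine ⟨s, t, hs0, ?_⟩
    apply Subtype.ext
    change s • (w : K) = t • (w₀ : K)
    rw [Algebra.smul_def, Algebra.smul_def]
    field_simp at hts
    rw [mul_comm] at hts
    linear_combination (-1 : K) * hts
  exact Groth.Agent.Lib.Helper8.TFDual.nonempty_ext_addEquiv ↥ω hdim hrk i M M

end Groth.Agent.S15014
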