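import Groth.Statements.S15016


set_option autoImplicit false
universe u
open TFCurv

namespace Groth.Agent.S15016

open PowerSeries in
/-- Every power series of order at least `c` lies in a closed subalgebra whose value set contains
all `n ≥ c`. -/
theorem mem_of_order_ge (k : Type u) [Field k] (A : Subalgebra k (PowerSeries k))
    (hcl : ∀ f : PowerSeries k, (∀ n : ℕ, ∃ g ∈ A, (n : ℕ∞) ≤ PowerSeries.order (f - g)) → f ∈ A)
    (c : ℕ) (hc : ∀ n : ℕ, c ≤ n → ∃ f ∈ A, PowerSeries.order f = n)
    (F : PowerSeries k) (hF : (c : ℕ∞) ≤ PowerSeries.order F) : F ∈ A := by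
  apply hcl
  intro n
  induction n with
  | zero => exact ⟨0, A.zero_mem, by simp⟩
  | succ n ih =>
    obtain ⟨g, hgA, hg⟩ := ih
    by_cases hnc : n < c
    · -- g = 0 works
      refine ⟨0, A.zero_mem, ?_⟩
      rw [sub_zero]
      refine le_trans ?_ hF
      exact_mod_cast hnc
    · push Not at hnc
      obtain ⟨h, hhA, hh⟩ := hc n hnc
      have hh0 : h ≠ 0 := by
        intro h0
        rw [h0, order_zero] at hh
        exact ENat.top_ne_coe n hh
      have hb : coeff n h ≠ 0 := by
        have := coeff_order hh0
        rwa [hh, ENat.toNat_coe] at this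
      set a := coeff n (F - g) with ha
      set b := coeff n h with hbdef
      refine ⟨g + (a / b) • h, A.add_mem hgA (A.smul_mem hhA _), ?_⟩
      apply nat_le_order
      intro i hi
      have e : F - (g + (a / b) • h) = (F - g) - (a / b) • h := by ring
      rw [e, map_sub, coeff_smul]
      rcases Nat.lt_succ_iff_lt_or_eq.mp hi with hlt | heq
      · rw [coeff_of_lt_order i (lt_of_lt_of_le (by exact_mod_cast hlt) hg),
          coeff_of_lt_order i (by rw [hh]; exact_mod_cast hlt)]
        simp
      · subst heq
        rw [← ha, ← hbdef, smul_eq_mul, div_mul_cancel₀ a hb, sub_self]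

/-- Let k be an algebraically closed field and A ≠ k[[t]] a k-subalgebra of k[[t]] that is closed in the
t-adic topology and over which k[[t]] is a finite module (as for the complete local ring of a
unibranch curve singularity inside its normalisation), and let Γ ⊆ ℕ be the set of t-orders of the
nonzero elements of A (its value semigroup); let c be the conductor of Γ, so that every n ≥ c lies
in Γ and c − 1 does not. Then for a power series f, f · k[[t]] ⊆ A holds exactly when the order of f
is at least c: the conductor of A in k[[t]] is t^c · k[[t]], of codimension c. -/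
theorem result (k : Type u) [Field k] [IsAlgClosed k] (A : Subalgebra k (PowerSeries k)) (hA : Module.Finite ↥A (PowerSeries k)) (hcl : ∀ f : PowerSeries k, (∀ n : ℕ, ∃ g ∈ A, (n : ℕ∞) ≤ PowerSeries.order (f - g)) → f ∈ A) (hsing : A ≠ ⊤) (Γ : Set ℕ) (hΓ : ∀ n : ℕ, n ∈ Γ ↔ ∃ f ∈ A, PowerSeries.order f = n) (c : ℕ) (hc : ∀ n : ℕ, c ≤ n → n ∈ Γ) (hc0 : c ≠ 0) (hc1 : c - 1 ∉ Γ) (f : PowerSeries k) : (∀ g : PowerSeries k, g * f ∈ A) ↔ (c : ℕ∞) ≤ PowerSeries.order f := by
  have hc' : ∀ n : ℕ, c ≤ n → ∃ f ∈ A, PowerSeries.order f = n := fun n hn => (hΓ n).mp (hc n hn)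
  constructor
  · intro h
    by_contra hlt
    push Not at hlt
    -- order f = m < c
    have hf0 : f ≠ 0 := by
      intro h0
      rw [h0, PowerSeries.order_zero] at hlt
      exact absurd hlt (by simp)
    obtain ⟨m, hm⟩ : ∃ m : ℕ, PowerSeries.order f = m := by
      have := (PowerSeries.order_finite_iff_ne_zero).mpr hf0
      exact ⟨(PowerSeries.order f).toNat, (ENat.coe_toNat (ne_of_lt this)).symm⟩
    rw [hm] at hlt
    have hmc : m < c := by exact_mod_cast hlt
    apply hc1
    rw [hΓ]
    refine ⟨PowerSeries.X ^ (c - 1 - m) * f, h _, ?_⟩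
    rw [PowerSeries.order_mul, PowerSeries.order_X_pow, hm]
    have : c - 1 - m + m = c - 1 := by omega
    exact_mod_cast this
  · intro h g
    apply mem_of_order_ge k A hcl c hc'
    rw [PowerSeries.order_mul]
    exact le_trans h le_add_self

end Groth.Agent.S15016
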