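import Groth.Statements.S15015
import Groth.Agent.S15016
import Mathlib.RingTheory.PowerSeries.NoZeroDivisors
import Mathlib.LinearAlgebra.Dimension.Free

set_option autoImplicit false
universe u
open TFCurv

namespace Groth.Agent.S15015

open PowerSeries in
/-- existence of a conductor element -/
theorem exists_conductor (k : Type u) [Field k] (A : Subalgebra k (PowerSeries k))
    (hA : Module.Finite ↥A (PowerSeries k))
    (hbir : ∀ f : PowerSeries k, ∃ a ∈ A, a ≠ 0 ∧ a * f ∈ A) :
    ∃ a ∈ A, a ≠ 0 ∧ ∀ F : PowerSeries k, a * F ∈ A := by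
  classical
  obtain ⟨s, hs⟩ := hA.fg_top
  choose a haA ha0 haf using hbir
  refine ⟨∏ f ∈ s, a f, A.prod_mem (fun f _ => haA f), Finset.prod_ne_zero_iff.mpr (fun f _ => ha0 f), ?_⟩
  intro F
  have hF : F ∈ Submodule.span ↥A (s : Set (PowerSeries k)) := by rw [hs]; trivial
  induction hF using Submodule.span_induction with
  | mem f hf =>
    rw [← Finset.prod_erase_mul s a hf, mul_assoc]
    exact A.mul_mem (A.prod_mem (fun f' _ => haA f')) (haf f)
  | zero => rw [mul_zero]; exact A.zero_mem
  | add x y _ _ hx hy => rw [mul_add]; exact A.add_mem hx hy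
  | smul b x _ hx =>
    have : (∏ f ∈ s, a f) * (b • x) = (b : PowerSeries k) * ((∏ f ∈ s, a f) * x) := by
      rw [Subalgebra.smul_def]; ring
    rw [this]
    exact A.mul_mem b.2 hx

open PowerSeries in
theorem main (k : Type u) [Field k] (A : Subalgebra k (PowerSeries k))
    (hA : Module.Finite ↥A (PowerSeries k))
    (hcl : ∀ f : PowerSeries k, (∀ n : ℕ, ∃ g ∈ A, (n : ℕ∞) ≤ PowerSeries.order (f - g)) → f ∈ A)
    (hbir : ∀ f : PowerSeries k, ∃ a ∈ A, a ≠ 0 ∧ a * f ∈ A) (Γ : Set ℕ)
    (hΓ : ∀ n : ℕ, n ∈ Γ ↔ ∃ f ∈ A, PowerSeries.order f = n) :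
    Γᶜ.Finite ∧ Module.finrank k (PowerSeries k ⧸ Subalgebra.toSubmodule A) = Γᶜ.ncard := by
  classical
  obtain ⟨a, haA, ha0, ha⟩ := exists_conductor k A hA hbir
  obtain ⟨c, hc⟩ : ∃ c : ℕ, order a = c :=
    ⟨(order a).toNat, (ENat.coe_toNat (ne_of_lt (order_finite_iff_ne_zero.mpr ha0))).symm⟩
  have hcΓ : ∀ n, c ≤ n → ∃ f ∈ A, order f = n := by
    intro n hn
    refine ⟨a * X ^ (n - c), ha _, ?_⟩
    rw [order_mul, order_X_pow, hc]
    have : c + (n - c) = n := by omega
    exact_mod_cast this
  have hVA : ∀ F : PowerSeries k, (c : ℕ∞) ≤ order F → F ∈ A :=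
    fun F hF => Groth.Agent.S15016.mem_of_order_ge k A hcl c hcΓ F hF
  have hfin : Γᶜ.Finite := by
    apply (Set.finite_lt_nat c).subset
    intro n hn
    by_contra hlt
    exact hn ((hΓ n).mpr (hcΓ n (not_lt.mp hlt)))
  refine ⟨hfin, ?_⟩
  have : Fintype ↥Γᶜ := hfin.fintype
  let Q := PowerSeries k ⧸ Subalgebra.toSubmodule A
  let mk : PowerSeries k →ₗ[k] Q := (Subalgebra.toSubmodule A).mkQ
  have hmk0 : ∀ F, F ∈ A → mk F = 0 := fun F hF =>
    (Submodule.Quotient.mk_eq_zero _).mpr hF
  let v : ↥Γᶜ → Q := fun n => mk (X ^ (n : ℕ))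
  -- linear independence
  have hli : LinearIndependent k v := by
    rw [Fintype.linearIndependent_iff]
    intro g hg
    set G : PowerSeries k := ∑ n : ↥Γᶜ, g n • X ^ (n : ℕ) with hG
    have hGA : G ∈ A := by
      have : mk G = 0 := by
        rw [hG, map_sum]
        simpa [v] using hg
      exact (Submodule.Quotient.mk_eq_zero _).mp this
    have hcoeff : ∀ m : ℕ, coeff m G = if h : m ∈ Γᶜ then g ⟨m, h⟩ else 0 := by
      intro m
      rw [hG, map_sum]
      simp only [coeff_smul, coeff_X_pow, smul_eq_mul, mul_ite, mul_one, mul_zero]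
      split_ifs with h
      · rw [Finset.sum_eq_single ⟨m, h⟩]
        · simp
        · intro b _ hb
          rw [if_neg]
          intro hmb
          exact hb (Subtype.ext hmb.symm)
        · intro h'; exact absurd (Finset.mem_univ _) h'
      · apply Finset.sum_eq_zero
        intro b _
        rw [if_neg]
        intro hmb
        exact h (hmb ▸ b.2)
    by_cases hG0 : G = 0
    · intro n
      have := hcoeff n
      rw [hG0, map_zero, dif_pos n.2] at this
      exact this.symm
    · exfalso
      have h1 := coeff_order hG0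
      have h2 : (order G).toNat ∈ Γ := by
        rw [hΓ]
        exact ⟨G, hGA, (ENat.coe_toNat (ne_of_lt (order_finite_iff_ne_zero.mpr hG0))).symm⟩
      rw [hcoeff, dif_neg (fun h => h h2)] at h1
      exact h1 rfl
  -- spanning
  have hspan : ∀ j : ℕ, ∀ F : PowerSeries k, ((c - j : ℕ) : ℕ∞) ≤ order F →
      mk F ∈ Submodule.span k (Set.range v) := by
    intro j
    induction j with
    | zero =>
      intro F hF
      rw [hmk0 F (hVA F (by simpa using hF))]
      exact Submodule.zero_mem _
    | succ j ih =>
      intro F hF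
      by_cases hjc : c ≤ j
      · apply ih F
        have : c - j = c - (j + 1) := by omega
        rw [this]; exact hF
      push Not at hjc
      set n := c - (j + 1) with hn
      have hn1 : c - j = n + 1 := by omega
      by_cases hnΓ : n ∈ Γ
      · obtain ⟨f, hfA, hf⟩ := (hΓ n).mp hnΓ
        have hf0 : f ≠ 0 := by
          intro h0
          rw [h0, order_zero] at hf
          exact ENat.top_ne_coe n hf
        have hb : coeff n f ≠ 0 := by
          have := coeff_order hf0
          rwa [hf, ENat.toNat_coe] at this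
        set F' := F - (coeff n F / coeff n f) • f with hF'
        have hord : ((c - j : ℕ) : ℕ∞) ≤ order F' := by
          rw [hn1]
          apply nat_le_order
          intro i hi
          rw [hF', map_sub, coeff_smul]
          rcases Nat.lt_succ_iff_lt_or_eq.mp hi with hlt | heq
          · rw [coeff_of_lt_order i (lt_of_lt_of_le (by exact_mod_cast hlt) hF),
              coeff_of_lt_order i (by rw [hf]; exact_mod_cast hlt)]
            simp
          · subst heq
            rw [smul_eq_mul, div_mul_cancel₀ _ hb, sub_self]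
        have := ih F' hord
        have e : mk F = mk F' := by
          rw [hF', map_sub, hmk0 _ (A.smul_mem hfA _), sub_zero]
        rw [e]; exact this
      · set F' := F - (coeff n F) • X ^ n with hF'
        have hord : ((c - j : ℕ) : ℕ∞) ≤ order F' := by
          rw [hn1]
          apply nat_le_order
          intro i hi
          rw [hF', map_sub, coeff_smul, coeff_X_pow]
          rcases Nat.lt_succ_iff_lt_or_eq.mp hi with hlt | heq
          · rw [coeff_of_lt_order i (lt_of_lt_of_le (by exact_mod_cast hlt) hF),
              if_neg (by omega)]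
            simp
          · subst heq
            simp
        have := ih F' hord
        have e : mk F = mk F' + (coeff n F) • v ⟨n, hnΓ⟩ := by
          rw [hF', map_sub, map_smul]
          simp [v]
        rw [e]
        exact Submodule.add_mem _ this
          (Submodule.smul_mem _ _ (Submodule.subset_span ⟨⟨n, hnΓ⟩, rfl⟩))
  have htop : ⊤ ≤ Submodule.span k (Set.range v) := by
    intro q _
    obtain ⟨F, rfl⟩ := Submodule.Quotient.mk_surjective _ q
    exact hspan c F (by simp)
  let b : Module.Basis ↥Γᶜ k Q := Module.Basis.mk hli htop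
  rw [Module.finrank_eq_card_basis b, ← Set.toFinset_card, Set.ncard_eq_toFinset_card']

/-- Let k be an algebraically closed field and A ≠ k[[t]] a k-subalgebra of k[[t]] that is closed in the
t-adic topology, over which k[[t]] is a finite module, and such that every power series is carried
into A by multiplication with some nonzero element of A (so k[[t]] lies in the fraction field of A
and is its normalisation, as for the complete local ring of a unibranch curve singularity), and let
Γ ⊆ ℕ be the set of t-orders of the nonzero elements of A (its value semigroup). Then ℕ ∖ Γ is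
finite and the k-dimension of k[[t]]/A equals the number of gaps of Γ. -/
theorem result (k : Type u) [Field k] [IsAlgClosed k] (A : Subalgebra k (PowerSeries k)) (hA : Module.Finite ↥A (PowerSeries k)) (hcl : ∀ f : PowerSeries k, (∀ n : ℕ, ∃ g ∈ A, (n : ℕ∞) ≤ PowerSeries.order (f - g)) → f ∈ A) (hsing : A ≠ ⊤) (hbir : ∀ f : PowerSeries k, ∃ a ∈ A, a ≠ 0 ∧ a * f ∈ A) (Γ : Set ℕ) (hΓ : ∀ n : ℕ, n ∈ Γ ↔ ∃ f ∈ A, PowerSeries.order f = n) : Γᶜ.Finite ∧ Module.finrank k (PowerSeries k ⧸ Subalgebra.toSubmodule A) = Γᶜ.ncard := by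
  exact main k A hA hcl hbir Γ hΓ

end Groth.Agent.S15015
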