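import Groth.Statements.S15017


set_option autoImplicit false
open TFCurv

namespace Groth.Agent.S15017

/-- Let Γ be a numerical semigroup (a submonoid of (ℕ, +) with finite complement), Γ ≠ ℕ, with conductor
c (every n ≥ c lies in Γ, c − 1 does not). If Γ is symmetric (for x < c, x is a gap exactly when c −
1 − x ∈ Γ) and has multiplicity greater than 2 (neither 1 nor 2 lies in Γ), then Γ is generated by
its elements smaller than c: every minimal generator of Γ is less than the conductor. -/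
theorem result (Γ : AddSubmonoid ℕ) (c : ℕ) (hc : ∀ n : ℕ, c ≤ n → n ∈ Γ) (hc0 : c ≠ 0) (hc1 : c - 1 ∉ Γ) (hsymm : ∀ x : ℕ, x < c → (x ∉ Γ ↔ c - 1 - x ∈ Γ)) (he : (1 : ℕ) ∉ Γ ∧ (2 : ℕ) ∉ Γ) : AddSubmonoid.closure {γ : ℕ | γ ∈ Γ ∧ γ < c} = Γ := by
  classical
  obtain ⟨h1, h2⟩ := he
  apply le_antisymm
  · rw [AddSubmonoid.closure_le]
    rintro γ ⟨hγ, -⟩
    exact hγ
  -- c ≥ 3
  have hc3 : 3 ≤ c := by
    by_contra hlt
    push Not at hlt
    have : c = 1 ∨ c = 2 := by omega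
    rcases this with rfl | rfl
    · exact h1 (hc 1 le_rfl)
    · exact h2 (hc 2 le_rfl)
  -- multiplicity
  have hex : ∃ γ, γ ∈ Γ ∧ γ ≠ 0 := ⟨c, hc c le_rfl, hc0⟩
  set e := Nat.find hex with he_def
  have heΓ : e ∈ Γ := (Nat.find_spec hex).1
  have he0 : e ≠ 0 := (Nat.find_spec hex).2
  have hemin : ∀ γ, γ ∈ Γ → γ ≠ 0 → e ≤ γ := fun γ hγ hγ0 => Nat.find_min' hex ⟨hγ, hγ0⟩
  have he3 : 3 ≤ e := by
    by_contra hlt
    push Not at hlt
    have : e = 1 ∨ e = 2 := by omega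
    rcases this with h | h
    · rw [h] at heΓ; exact h1 heΓ
    · rw [h] at heΓ; exact h2 heΓ
  have hc2Γ : c - 1 - 1 ∈ Γ := (hsymm 1 (by omega)).mp h1
  have hec : e ≤ c - 2 := hemin _ hc2Γ (by omega)
  set G := AddSubmonoid.closure {γ : ℕ | γ ∈ Γ ∧ γ < c} with hG
  have hsub : ∀ γ, γ ∈ Γ → γ < c → γ ∈ G := fun γ h1 h2 => AddSubmonoid.subset_closure ⟨h1, h2⟩
  have heG : e ∈ G := hsub e heΓ (by omega)
  intro n
  induction n using Nat.strong_induction_on with
  | _ n ih =>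
  intro hn
  by_cases hnc : n < c
  · exact hsub n hn hnc
  push Not at hnc
  have hne : n = (n - e) + e := by omega
  by_cases hge : c ≤ n - e
  · rw [hne]
    exact G.add_mem (ih (n - e) (by omega) (hc _ hge)) heG
  push Not at hge
  by_cases hmem : n - e ∈ Γ
  · rw [hne]
    exact G.add_mem (hsub _ hmem hge) heG
  -- n - e is a gap, so n = c - 1 + e
  have hy : c - 1 - (n - e) ∈ Γ := (hsymm _ hge).mp hmem
  have hy0 : c - 1 - (n - e) = 0 := by
    by_contra hne0
    have := hemin _ hy hne0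
    omega
  have hn_eq : n = c - 1 + e := by omega
  -- choose a residue r ∈ {1,2} different from (c-1) % e
  obtain ⟨r, hr0, hrlt, hrc⟩ : ∃ r, r ≠ 0 ∧ r < e ∧ r ≠ (c - 1) % e := by
    by_cases h : (c - 1) % e = 1
    · exact ⟨2, by omega, by omega, by omega⟩
    · exact ⟨1, by omega, by omega, fun h' => h h'.symm⟩
  have hexw : ∃ w, w ∈ Γ ∧ w % e = r := by
    refine ⟨r + c * e, hc _ ?_, ?_⟩
    · have : c ≤ c * e := Nat.le_mul_of_pos_right c (by omega)
      omega
    · rw [Nat.add_mul_mod_self_right, Nat.mod_eq_of_lt hrlt]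
  set w := Nat.find hexw with hw_def
  have hwΓ : w ∈ Γ := (Nat.find_spec hexw).1
  have hwr : w % e = r := (Nat.find_spec hexw).2
  have hwmin : ∀ m, m < w → m ∈ Γ → m % e ≠ r := fun m hm hmΓ hmr =>
    Nat.find_min hexw hm ⟨hmΓ, hmr⟩
  have hw0 : w ≠ 0 := by
    intro h
    rw [h, Nat.zero_mod] at hwr
    exact hr0 hwr.symm
  have hwe : e ≤ w := hemin w hwΓ hw0
  have hwe_gap : w - e ∉ Γ := by
    intro h
    apply hwmin (w - e) (by omega) h
    rw [← Nat.mod_eq_sub_mod hwe]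
    exact hwr
  have hwe_lt : w - e < c := by
    by_contra hlt
    exact hwe_gap (hc _ (not_lt.mp hlt))
  have hw' : c - 1 - (w - e) ∈ Γ := (hsymm _ hwe_lt).mp hwe_gap
  have hw'0 : c - 1 - (w - e) ≠ 0 := by
    intro h
    have : w = c - 1 + e := by omega
    rw [this, Nat.add_mod_right] at hwr
    exact hrc hwr.symm
  have hw'e : e ≤ c - 1 - (w - e) := hemin _ hw' hw'0
  have hsum : n = w + (c - 1 - (w - e)) := by omega
  rw [hsum]
  exact G.add_mem (hsub w hwΓ (by omega)) (hsub _ hw' (by omega))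

end Groth.Agent.S15017
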