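import Groth.Statements.S15018


set_option autoImplicit false
open TFCurv

namespace Groth.Agent.S15018

/-- Let Γ be a numerical semigroup (a submonoid of (ℕ, +) with finite complement), Γ ≠ ℕ, with conductor
c (every n ≥ c lies in Γ, c − 1 does not). Then Γ is symmetric (for x < c, x is a gap exactly when c
− 1 − x ∈ Γ) if and only if there is exactly one gap n of Γ such that Γ ∪ {n} is again stable under
adding elements of Γ, i.e. n + γ ∈ Γ for every nonzero γ ∈ Γ. -/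
theorem result (Γ : AddSubmonoid ℕ) (c : ℕ) (hc : ∀ n : ℕ, c ≤ n → n ∈ Γ) (hc0 : c ≠ 0) (hc1 : c - 1 ∉ Γ) : (∀ x : ℕ, x < c → (x ∉ Γ ↔ c - 1 - x ∈ Γ)) ↔ ∃! n : ℕ, n ∉ Γ ∧ ∀ γ : ℕ, γ ∈ Γ → γ ≠ 0 → n + γ ∈ Γ := by
  classical
  have hpf : c - 1 ∉ Γ ∧ ∀ γ : ℕ, γ ∈ Γ → γ ≠ 0 → c - 1 + γ ∈ Γ :=
    ⟨hc1, fun γ _ hγ0 => hc _ (by omega)⟩
  have hgap_lt : ∀ n, n ∉ Γ → n < c := by
    intro n hn
    by_contra hlt
    exact hn (hc n (not_lt.mp hlt))
  constructor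
  · intro hsymm
    refine ⟨c - 1, hpf, ?_⟩
    rintro n ⟨hn, hnpf⟩
    by_contra hne
    have hnc := hgap_lt n hn
    have h1 : c - 1 - n ∈ Γ := (hsymm n hnc).mp hn
    have h2 := hnpf _ h1 (by omega)
    have e : n + (c - 1 - n) = c - 1 := by omega
    rw [e] at h2
    exact hc1 h2
  · rintro ⟨n₀, hn₀, huniq⟩ x hx
    have hn₀' : n₀ = c - 1 := (huniq (c - 1) hpf).symm
    constructor
    · intro hxΓ
      -- the set of gaps of the form x + γ, γ ∈ Γ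
      have hfin : {n | n ∉ Γ ∧ ∃ γ ∈ Γ, n = x + γ}.Finite :=
        (Set.finite_lt_nat c).subset (fun n hn => hgap_lt n hn.1)
      obtain ⟨n, ⟨hnΓ, γ₀, hγ₀, rfl⟩, hmax⟩ := hfin.exists_maximal ⟨x, hxΓ, 0, Γ.zero_mem, rfl⟩
      have hn_pf : ∀ γ : ℕ, γ ∈ Γ → γ ≠ 0 → x + γ₀ + γ ∈ Γ := by
        intro γ hγ hγ0
        by_contra hcon
        have := hmax (y := x + γ₀ + γ) ⟨hcon, γ₀ + γ, Γ.add_mem hγ₀ hγ, by omega⟩ (Nat.le_add_right _ _)
        omega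
      have := huniq (x + γ₀) ⟨hnΓ, hn_pf⟩
      rw [hn₀'] at this
      have e : c - 1 - x = γ₀ := by omega
      rw [e]
      exact hγ₀
    · intro h1 hxΓ
      have := Γ.add_mem hxΓ h1
      have e : x + (c - 1 - x) = c - 1 := by omega
      rw [e] at this
      exact hc1 this

end Groth.Agent.S15018
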