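import Groth.Statements.S15019
import Mathlib.Order.Interval.Finset.Nat
import Mathlib.Data.Set.Card

set_option autoImplicit false
open TFCurv

namespace Groth.Agent.S15019

theorem encard_le_of_residues (e : ℕ) (he : 0 < e) (T : Set ℕ)
    (h1 : ∀ n ∈ T, n % e ≠ 0) (h2 : ∀ n ∈ T, ∀ n' ∈ T, n < n' → n % e ≠ n' % e) :
    T.encard ≤ ((e - 1 : ℕ) : ℕ∞) := by
  have hmaps : Set.MapsTo (fun n => n % e) T (Set.Ioo 0 e) := by
    intro n hn
    exact ⟨Nat.pos_of_ne_zero (h1 n hn), Nat.mod_lt _ he⟩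
  have hinj : Set.InjOn (fun n => n % e) T := by
    intro n hn n' hn' heq
    simp only at heq
    rcases lt_trichotomy n n' with h | h | h
    · exact absurd heq (h2 n hn n' hn' h)
    · exact h
    · exact absurd heq.symm (h2 n' hn' n hn h)
  have := Set.encard_le_encard_of_injOn hmaps hinj
  refine this.trans ?_
  rw [← Finset.coe_Ioo, Set.encard_coe_eq_coe_finsetCard, Nat.card_Ioo]
  simp

theorem mul_mem_of (Γ : AddSubmonoid ℕ) (e : ℕ) (he : e ∈ Γ) (k : ℕ) : k * e ∈ Γ := by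
  have := Γ.nsmul_mem he k
  simpa using this

theorem exists_mul_of_mod_eq (e n n' : ℕ) (h : n < n') (hm : n % e = n' % e) :
    ∃ k, k ≠ 0 ∧ n' = n + k * e := by
  have hd : e ∣ n' - n := (Nat.modEq_iff_dvd' h.le).mp hm
  obtain ⟨k, hk⟩ := hd
  refine ⟨k, ?_, ?_⟩
  · rintro rfl
    simp at hk
    omega
  · rw [mul_comm]; omega

/-- Let Γ be a numerical semigroup (a submonoid of (ℕ, +) with finite complement), Γ ≠ ℕ, with conductor
c (every n ≥ c lies in Γ, c − 1 does not), let e be its multiplicity (the least nonzero element of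
Γ), and let S ⊆ ℕ be a Γ-module in normal form: 0 ∈ S and γ + s ∈ S for all γ ∈ Γ, s ∈ S. Then the
set of gaps n of S with S ∪ {n} again a Γ-module (n + γ ∈ S for every nonzero γ ∈ Γ) has at most e −
1 elements, and so does the set of nonzero s ∈ S with S ∖ {s} again a Γ-module (s − γ ∉ S for every
nonzero γ ∈ Γ with γ ≤ s). -/
theorem result (Γ : AddSubmonoid ℕ) (c : ℕ) (hc : ∀ n : ℕ, c ≤ n → n ∈ Γ) (hc0 : c ≠ 0) (hc1 : c - 1 ∉ Γ) (e : ℕ) (he : e ∈ Γ) (he0 : e ≠ 0) (hemin : ∀ γ : ℕ, γ ∈ Γ → γ ≠ 0 → e ≤ γ) (S : Set ℕ) (hS0 : (0 : ℕ) ∈ S) (hS : ∀ γ : ℕ, γ ∈ Γ → ∀ s : ℕ, s ∈ S → γ + s ∈ S) : {n : ℕ | n ∉ S ∧ ∀ γ : ℕ, γ ∈ Γ → γ ≠ 0 → n + γ ∈ S}.encard ≤ ((e - 1 : ℕ) : ℕ∞) ∧ {s : ℕ | s ∈ S ∧ s ≠ 0 ∧ ∀ γ : ℕ, γ ∈ Γ → γ ≠ 0 → γ ≤ s → s - γ ∉ S}.encard ≤ ((e - 1 : ℕ) : ℕ∞) := by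
  have hΓS : ∀ n, n ∈ Γ → n ∈ S := fun n hn => by simpa using hS n hn 0 hS0
  have he_pos : 0 < e := Nat.pos_of_ne_zero he0
  constructor
  · apply encard_le_of_residues e he_pos
    · rintro n ⟨hnS, -⟩ hmod
      apply hnS
      have : n = (n / e) * e := by
        have := Nat.div_add_mod n e
        rw [hmod] at this
        rw [mul_comm]; omega
      rw [this]
      exact hΓS _ (mul_mem_of Γ e he _)
    · rintro n ⟨-, hn⟩ n' ⟨hn'S, -⟩ hlt hmod
      obtain ⟨k, hk0, rfl⟩ := exists_mul_of_mod_eq e n n' hlt hmod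
      exact hn'S (hn _ (mul_mem_of Γ e he k) (Nat.mul_ne_zero hk0 he0))
  · apply encard_le_of_residues e he_pos
    · rintro s ⟨hsS, hs0, hs⟩ hmod
      have hse : s = (s / e) * e := by
        have := Nat.div_add_mod s e
        rw [hmod] at this
        rw [mul_comm]; omega
      have hsΓ : s ∈ Γ := by rw [hse]; exact mul_mem_of Γ e he _
      have := hs s hsΓ hs0 le_rfl
      rw [Nat.sub_self] at this
      exact this hS0
    · rintro s ⟨hsS, -, -⟩ s' ⟨-, -, hs'⟩ hlt hmod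
      obtain ⟨k, hk0, rfl⟩ := exists_mul_of_mod_eq e s s' hlt hmod
      have := hs' _ (mul_mem_of Γ e he k) (Nat.mul_ne_zero hk0 he0) (Nat.le_add_left _ _)
      rw [Nat.add_sub_cancel] at this
      exact this hsS

end Groth.Agent.S15019
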