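import Groth.Statements.S15024
import Groth.Agent.Lib.Helper10TF
import Groth.Agent.Lib.Helper8TorFlip
import Groth.Agent.Lib.Helper13Tor
import Groth.Agent.Lib.Helper13TorD1

set_option autoImplicit false
universe u
open CategoryTheory
open TFCurv

namespace Groth.Agent.S15024

/-- Let O be a one-dimensional Noetherian local domain with algebraically closed residue field whose
integral closure O~ in its fraction field K is a finite O-module, M a finitely generated
torsion-free O-module and f : O^n → M an injective O-linear map whose cokernel T has finite length.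
Then Tor_1^O(O~, M) and Tor_1^O(O~, T) are isomorphic (existence of an isomorphism only), and O~ ⊗_O
f : O~ ⊗ O^n → O~ ⊗ M is injective, so that 0 → O~^n → O~ ⊗ M → O~ ⊗ T → 0 is exact. -/
theorem result (O : Type u) [CommRing O] [IsDomain O] [IsNoetherianRing O] [IsLocalRing O] (hdim : ringKrullDim O = 1) [IsAlgClosed (IsLocalRing.ResidueField O)] (K : Type u) [Field K] [Algebra O K] [IsFractionRing O K] (hfin : Module.Finite O ↥(integralClosure O K)) (M : Type u) [AddCommGroup M] [Module O M] [Module.Finite O M] [NoZeroSMulDivisors O M] (n : ℕ) (f : (Fin n → O) →ₗ[O] M) (hf : Function.Injective f) (hT : IsFiniteLength O (M ⧸ LinearMap.range f)) : Nonempty (((Tor (ModuleCat.{u} O) 1).obj (ModuleCat.of O ↥(integralClosure O K))).obj (ModuleCat.of O M) ≅ ((Tor (ModuleCat.{u} O) 1).obj (ModuleCat.of O ↥(integralClosure O K))).obj (ModuleCat.of O (M ⧸ LinearMap.range f))) ∧ Function.Injective (LinearMap.lTensor ↥(integralClosure O K) f) := by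
  have hinj : Function.Injective (LinearMap.lTensor ↥(integralClosure O K) f) := by
    obtain ⟨N, h, hh⟩ := Groth.Agent.Lib.Helper10.exists_injective_of_isTorsionFree O M
    let g : (Fin n → O) →ₗ[O] (Fin N → O) := h ∘ₗ f
    have hg : Function.Injective g := hh.comp hf
    let ι : ↥(integralClosure O K) →ₗ[O] K := (integralClosure O K).val.toLinearMap
    have hι : Function.Injective ι := Subtype.val_injective
    have : Module.Flat O K := IsLocalization.flat K (nonZeroDivisors O)
    have h1 : Function.Injective (LinearMap.lTensor K g) :=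
      Module.Flat.lTensor_preserves_injective_linearMap g hg
    have h2 : Function.Injective (LinearMap.rTensor (Fin n → O) ι) :=
      Module.Flat.rTensor_preserves_injective_linearMap ι hι
    have h3 : (LinearMap.rTensor (Fin N → O) ι) ∘ₗ (LinearMap.lTensor _ g) =
        (LinearMap.lTensor K g) ∘ₗ (LinearMap.rTensor (Fin n → O) ι) := by
      rw [LinearMap.rTensor_comp_lTensor, LinearMap.lTensor_comp_rTensor]
    have h4 : Function.Injective (LinearMap.lTensor ↥(integralClosure O K) g) := by
      have : Function.Injective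
          ((LinearMap.rTensor (Fin N → O) ι) ∘ₗ (LinearMap.lTensor _ g)) := by
        rw [h3]; exact h1.comp h2
      exact Function.Injective.of_comp this
    have h5 : LinearMap.lTensor ↥(integralClosure O K) g =
        (LinearMap.lTensor _ h) ∘ₗ (LinearMap.lTensor _ f) := LinearMap.lTensor_comp _ _ _
    rw [h5] at h4
    exact Function.Injective.of_comp h4
  refine ⟨?_, hinj⟩
  let S1 : ShortComplex (ModuleCat.{u} O) :=
    ShortComplex.mk (ModuleCat.ofHom f) (ModuleCat.ofHom (LinearMap.range f).mkQ) (by
      apply ModuleCat.hom_ext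
      apply LinearMap.ext
      intro m
      exact (Submodule.Quotient.mk_eq_zero _).mpr ⟨m, rfl⟩)
  have hS1 : S1.ShortExact := by
    refine ShortComplex.ShortExact.mk' ?_ ?_ ?_
    · rw [ShortComplex.moduleCat_exact_iff_range_eq_ker]
      exact (Submodule.ker_mkQ _).symm
    · exact (ModuleCat.mono_iff_injective _).mpr hf
    · exact (ModuleCat.epi_iff_surjective _).mpr (Submodule.mkQ_surjective _)
  let Y : ModuleCat.{u} O := ModuleCat.of O ↥(integralClosure O K)
  obtain ⟨δ, w₁, w₂, h₁, h₂⟩ := Groth.Agent.Helper13Tor.exists_δ S1 hS1 Y 0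
  have hmonof : Mono (((Tor (ModuleCat.{u} O) 0).map S1.f).app Y) :=
    (Groth.Agent.Helper13Tor.mono_tor_zero_map₁_iff S1.f Y).mpr
      ((LinearMap.lTensor_inj_iff_rTensor_inj _ _).mp hinj)
  have hδ0 : δ = 0 := by
    rw [← cancel_mono (((Tor (ModuleCat.{u} O) 0).map S1.f).app Y), w₂, Limits.zero_comp]
  have hepi : Epi (((Tor (ModuleCat.{u} O) 1).map S1.g).app Y) := h₁.epi_f hδ0
  have hex := Groth.Agent.Helper13Tor.tor_exact₂ S1 hS1 Y 1
  have hflat : Module.Flat O S1.X₁ := inferInstanceAs (Module.Flat O (Fin n → O))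
  have hzero : Limits.IsZero (((Tor (ModuleCat.{u} O) 1).obj S1.X₁).obj Y) :=
    Groth.Agent.Helper13Tor.isZero_tor_of_flat Y S1.X₁ 1 (by omega)
  have hmono : Mono (((Tor (ModuleCat.{u} O) 1).map S1.g).app Y) :=
    hex.mono_g (hzero.eq_of_src _ _)
  have hiso : IsIso (((Tor (ModuleCat.{u} O) 1).map S1.g).app Y) := isIso_of_mono_of_epi _
  exact ⟨((Groth.Agent.Lib.Helper8.TorFlip.torFlipIso 1).app Y).app S1.X₂ ≪≫
    asIso (((Tor (ModuleCat.{u} O) 1).map S1.g).app Y) ≪≫
    (((Groth.Agent.Lib.Helper8.TorFlip.torFlipIso 1).app Y).app S1.X₃).symm⟩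

end Groth.Agent.S15024
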