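import Groth.Statements.S15025
import Groth.Agent.Lib.Helper8Matlis
import Groth.Agent.Lib.Helper8TorFlip
import Groth.Agent.Lib.Helper13Tor
import Groth.Agent.Lib.Helper13TorD1

set_option autoImplicit false
universe u
open CategoryTheory
open TFCurv

namespace Groth.Agent.S15025

/-- Let O be a one-dimensional Noetherian local domain with algebraically closed residue field whose
integral closure O~ in its fraction field K is a finite O-module, M a finitely generated
torsion-free O-module and g : M → O^n an injective O-linear map whose cokernel T' has finite length.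
Then the torsion submodule of O~ ⊗_O M is O-linearly isomorphic to Tor_1^O(O~, T') (existence of an
isomorphism only). -/
theorem result (O : Type u) [CommRing O] [IsDomain O] [IsNoetherianRing O] [IsLocalRing O] (hdim : ringKrullDim O = 1) [IsAlgClosed (IsLocalRing.ResidueField O)] (K : Type u) [Field K] [Algebra O K] [IsFractionRing O K] (hfin : Module.Finite O ↥(integralClosure O K)) (M : Type u) [AddCommGroup M] [Module O M] [Module.Finite O M] [NoZeroSMulDivisors O M] (n : ℕ) (g : M →ₗ[O] (Fin n → O)) (hg : Function.Injective g) (hT : IsFiniteLength O ((Fin n → O) ⧸ LinearMap.range g)) : Nonempty (↥(Submodule.torsion O (TensorProduct O ↥(integralClosure O K) M)) ≃ₗ[O] ↑(((Tor (ModuleCat.{u} O) 1).obj (ModuleCat.of O ↥(integralClosure O K))).obj (ModuleCat.of O ((Fin n → O) ⧸ LinearMap.range g)))) := by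
  classical
  obtain ⟨k, hk⟩ := Groth.Agent.Lib.Helper8.Matlis.exists_pow_smul_eq_zero_of_isFiniteLength
    ((Fin n → O) ⧸ LinearMap.range g) hT
  have hm : ∃ x ∈ IsLocalRing.maximalIdeal O, x ≠ 0 := by
    by_contra hcon
    push Not at hcon
    have h1 : IsLocalRing.maximalIdeal O = ⊥ := (Submodule.eq_bot_iff _).mpr hcon
    have hf : IsField O := IsLocalRing.isField_iff_maximalIdeal_eq.mpr h1
    have h2 := ringKrullDim_eq_zero_of_isField hf
    rw [hdim] at h2
    exact one_ne_zero h2
  obtain ⟨x, hxm, hx0⟩ := hm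
  have ha0 : x ^ k ≠ 0 := pow_ne_zero k hx0
  have haT : ∀ t : (Fin n → O) ⧸ LinearMap.range g, (x ^ k) • t = 0 :=
    hk (x ^ k) (Ideal.pow_mem_pow hxm k)
  have hmem : ∀ v : Fin n → O, ((x ^ k) • (LinearMap.id : (Fin n → O) →ₗ[O] (Fin n → O))) v ∈
      LinearMap.range g := fun v => by
    have := haT (Submodule.Quotient.mk v)
    rwa [← Submodule.Quotient.mk_smul, Submodule.Quotient.mk_eq_zero] at this
  let h : (Fin n → O) →ₗ[O] M := (LinearEquiv.ofInjective g hg).symm.toLinearMap ∘ₗ
    LinearMap.codRestrict (LinearMap.range g) ((x ^ k) • LinearMap.id) hmem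
  have hgh : ∀ v, g (h v) = (x ^ k) • v := fun v => by
    have := (LinearEquiv.ofInjective g hg).apply_symm_apply
      (LinearMap.codRestrict (LinearMap.range g) ((x ^ k) • LinearMap.id) hmem v)
    exact congrArg Subtype.val this
  have hhg : ∀ m, h (g m) = (x ^ k) • m := fun m => hg (by rw [hgh, map_smul])
  have htfY : ∀ (c : O) (_ : c ≠ 0) (w : ↥(integralClosure O K)), c • w = 0 → w = 0 := by
    intro c hc w hw
    have h1 : c • (w : K) = 0 := by
      have := congrArg Subtype.val hw
      simpa using this
    rw [Algebra.smul_def, mul_eq_zero] at h1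
    rcases h1 with h1 | h1
    · exact absurd ((map_eq_zero_iff _ (IsFractionRing.injective O K)).mp h1) hc
    · exact Subtype.ext h1
  have htf : ∀ (c : O) (_ : c ≠ 0)
      (z : TensorProduct O ↥(integralClosure O K) (Fin n → O)), c • z = 0 → z = 0 := by
    intro c hc z hz
    let e := TensorProduct.piScalarRight O O ↥(integralClosure O K) (Fin n)
    apply e.injective
    rw [map_zero]
    have h1 : c • e z = 0 := by rw [← map_smul, hz, map_zero]
    funext j
    exact htfY c hc _ (congrFun h1 j)
  have hker : LinearMap.ker (LinearMap.lTensor ↥(integralClosure O K) g) =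
      Submodule.torsion O (TensorProduct O ↥(integralClosure O K) M) := by
    ext z
    constructor
    · intro hz
      rw [Submodule.mem_torsion_iff]
      refine ⟨⟨x ^ k, mem_nonZeroDivisors_of_ne_zero ha0⟩, ?_⟩
      have h1 : h ∘ₗ g = (x ^ k) • LinearMap.id := LinearMap.ext hhg
      have h2 : LinearMap.lTensor ↥(integralClosure O K) (h ∘ₗ g) z = (x ^ k) • z := by
        rw [h1, LinearMap.lTensor_smul, LinearMap.lTensor_id]
        rfl
      rw [LinearMap.lTensor_comp, LinearMap.comp_apply, LinearMap.mem_ker.mp hz, map_zero] at h2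
      exact h2.symm
    · intro hz
      obtain ⟨c, hc⟩ := (Submodule.mem_torsion_iff z).mp hz
      rw [LinearMap.mem_ker]
      refine htf c (nonZeroDivisors.coe_ne_zero c) _ ?_
      have : (c : O) • (LinearMap.lTensor ↥(integralClosure O K) g) z =
          (LinearMap.lTensor ↥(integralClosure O K) g) ((c : O) • z) := (map_smul _ _ _).symm
      rw [this]
      have hc' : (c : O) • z = 0 := hc
      rw [hc', map_zero]
  -- categorical part
  let S1 : ShortComplex (ModuleCat.{u} O) :=
    ShortComplex.mk (ModuleCat.ofHom g) (ModuleCat.ofHom (LinearMap.range g).mkQ) (by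
      apply ModuleCat.hom_ext
      apply LinearMap.ext
      intro m
      exact (Submodule.Quotient.mk_eq_zero _).mpr ⟨m, rfl⟩)
  have hS1 : S1.ShortExact := by
    refine ShortComplex.ShortExact.mk' ?_ ?_ ?_
    · rw [ShortComplex.moduleCat_exact_iff_range_eq_ker]
      exact (Submodule.ker_mkQ _).symm
    · exact (ModuleCat.mono_iff_injective _).mpr hg
    · exact (ModuleCat.epi_iff_surjective _).mpr (Submodule.mkQ_surjective _)
  let Y : ModuleCat.{u} O := ModuleCat.of O ↥(integralClosure O K)
  obtain ⟨δ, w₁, w₂, h₁, h₂⟩ := Groth.Agent.Helper13Tor.exists_δ S1 hS1 Y 0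
  have hflat : Module.Flat O S1.X₂ := inferInstanceAs (Module.Flat O (Fin n → O))
  have hzero : Limits.IsZero (((Tor (ModuleCat.{u} O) 1).obj S1.X₂).obj Y) :=
    Groth.Agent.Helper13Tor.isZero_tor_of_flat Y S1.X₂ 1 (by omega)
  have hmonoδ : Mono δ := h₁.mono_g (hzero.eq_of_src _ _)
  let e₁ := (Groth.Agent.Helper13Tor.torZeroIso.app S1.X₁).app Y
  let e₂ := (Groth.Agent.Helper13Tor.torZeroIso.app S1.X₂).app Y
  have hn : ((Tor (ModuleCat.{u} O) 0).map S1.f).app Y ≫ e₂.hom =
      e₁.hom ≫ ((MonoidalCategory.tensoringLeft (ModuleCat.{u} O)).map S1.f).app Y := by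
    have := congr_arg (fun t => t.app Y) (Groth.Agent.Helper13Tor.torZeroIso.hom.naturality S1.f)
    exact this
  let ψ : ((Tor (ModuleCat.{u} O) 1).obj S1.X₃).obj Y ⟶
      ((MonoidalCategory.tensoringLeft (ModuleCat.{u} O)).obj S1.X₁).obj Y := δ ≫ e₁.hom
  have hψmono : Mono ψ := mono_comp _ _
  have hψinj : Function.Injective ψ.hom := (ModuleCat.mono_iff_injective ψ).mp hψmono
  have hψzero : ψ ≫ ((MonoidalCategory.tensoringLeft (ModuleCat.{u} O)).map S1.f).app Y = 0 := by
    simp only [ψ, Category.assoc]
    rw [← hn, reassoc_of% w₂, Limits.zero_comp]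
  have hrange : LinearMap.range ψ.hom =
      LinearMap.ker (LinearMap.rTensor ↥(integralClosure O K) g) := by
    apply le_antisymm
    · rintro _ ⟨t, rfl⟩
      have := congrArg (fun q => q.hom t) hψzero
      exact this
    · intro z hz
      have hz' : (((MonoidalCategory.tensoringLeft (ModuleCat.{u} O)).map S1.f).app Y).hom z = 0 := hz
      have h3 : (((Tor (ModuleCat.{u} O) 0).map S1.f).app Y).hom (e₁.inv.hom z) = 0 := by
        have h4 : ((Tor (ModuleCat.{u} O) 0).map S1.f).app Y =
            e₁.hom ≫ ((MonoidalCategory.tensoringLeft (ModuleCat.{u} O)).map S1.f).app Y ≫ e₂.inv := by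
          rw [← Category.assoc, ← hn, Category.assoc, Iso.hom_inv_id, Category.comp_id]
        rw [h4]
        simp only [ModuleCat.hom_comp, LinearMap.comp_apply]
        have h5 : e₁.hom.hom (e₁.inv.hom z) = z := by
          have := congrArg (fun q => q.hom z) e₁.inv_hom_id
          exact this
        rw [h5, hz', map_zero]
      have hex := (ShortComplex.moduleCat_exact_iff_range_eq_ker _).mp h₂
      have h6 : e₁.inv.hom z ∈ LinearMap.range δ.hom := by
        rw [hex]
        exact h3
      obtain ⟨t, ht⟩ := h6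
      refine ⟨t, ?_⟩
      change e₁.hom.hom (δ.hom t) = z
      rw [ht]
      have := congrArg (fun q => q.hom z) e₁.inv_hom_id
      exact this
  let E1 : ↑(((Tor (ModuleCat.{u} O) 1).obj S1.X₃).obj Y) ≃ₗ[O]
      LinearMap.ker (LinearMap.rTensor ↥(integralClosure O K) g) :=
    (LinearEquiv.ofInjective ψ.hom hψinj).trans (LinearEquiv.ofEq _ _ hrange)
  have hc1 : (LinearMap.lTensor ↥(integralClosure O K) g) ∘ₗ
      (TensorProduct.comm O M ↥(integralClosure O K)).toLinearMap =
      (TensorProduct.comm O (Fin n → O) ↥(integralClosure O K)).toLinearMap ∘ₗ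
        (LinearMap.rTensor ↥(integralClosure O K) g) :=
    TensorProduct.ext' (fun m y => rfl)
  let E2 : LinearMap.ker (LinearMap.rTensor ↥(integralClosure O K) g) ≃ₗ[O]
      LinearMap.ker (LinearMap.lTensor ↥(integralClosure O K) g) :=
    LinearEquiv.ofSubmodules (TensorProduct.comm O M ↥(integralClosure O K)) _ _ (by
      ext z
      simp only [Submodule.mem_map, LinearMap.mem_ker]
      constructor
      · rintro ⟨w, hw, rfl⟩
        have := LinearMap.congr_fun hc1 w
        simp only [LinearMap.comp_apply, LinearEquiv.coe_coe] at this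
        rw [LinearEquiv.coe_coe, this, hw, map_zero]
      · intro hz
        refine ⟨(TensorProduct.comm O M _).symm z, ?_, by simp⟩
        have := LinearMap.congr_fun hc1 ((TensorProduct.comm O M _).symm z)
        simp only [LinearMap.comp_apply, LinearEquiv.coe_coe, LinearEquiv.apply_symm_apply] at this
        rw [hz] at this
        exact (TensorProduct.comm O (Fin n → O) ↥(integralClosure O K)).injective
          (by rw [← this, map_zero]))
  let E3 : ↑(((Tor (ModuleCat.{u} O) 1).obj Y).obj S1.X₃) ≃ₗ[O]
      ↑(((Tor (ModuleCat.{u} O) 1).obj S1.X₃).obj Y) :=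
    (((Groth.Agent.Lib.Helper8.TorFlip.torFlipIso 1).app Y).app S1.X₃).toLinearEquiv
  exact ⟨((E3.trans (E1.trans E2)).trans (LinearEquiv.ofEq _ _ hker)).symm⟩

end Groth.Agent.S15025
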