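import Groth.Statements.S15029


set_option autoImplicit false
open TFCurv

namespace Groth.Agent.S15029

/-- Let Γ be a numerical semigroup (a submonoid of (ℕ, +) with finite complement), Γ ≠ ℕ, with conductor
c (every n ≥ c lies in Γ, c − 1 does not), and let S ⊆ ℕ be a Γ-module in normal form (0 ∈ S and γ +
s ∈ S for γ ∈ Γ, s ∈ S). If S ≠ ℕ then some gap n of S can be added (n + γ ∈ S for every nonzero γ ∈
Γ, so S ∪ {n} is a Γ-module), and if S ≠ Γ then some s ∈ S outside Γ can be removed (s − γ ∉ S for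
every nonzero γ ∈ Γ with γ ≤ s, so S ∖ {s} is a Γ-module containing Γ); iterating, S is joined to ℕ
and to Γ by chains in the diagram of Γ-modules, which is therefore connected. -/
theorem result (Γ : AddSubmonoid ℕ) (c : ℕ) (hc : ∀ n : ℕ, c ≤ n → n ∈ Γ) (hc0 : c ≠ 0) (hc1 : c - 1 ∉ Γ) (S : Set ℕ) (hS0 : (0 : ℕ) ∈ S) (hS : ∀ γ : ℕ, γ ∈ Γ → ∀ s : ℕ, s ∈ S → γ + s ∈ S) : (S ≠ Set.univ → ∃ n : ℕ, n ∉ S ∧ ∀ γ : ℕ, γ ∈ Γ → γ ≠ 0 → n + γ ∈ S) ∧ ((↑Γ : Set ℕ) ≠ S → ∃ s : ℕ, s ∈ S ∧ s ∉ Γ ∧ ∀ γ : ℕ, γ ∈ Γ → γ ≠ 0 → γ ≤ s → s - γ ∉ S) := by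
  classical
  have hΓS : ∀ n, n ∈ Γ → n ∈ S := fun n hn => by simpa using hS n hn 0 hS0
  constructor
  · intro hne
    -- complement of S is nonempty and bounded by c
    have hex : ∃ n, n ∉ S := by
      by_contra hcon
      push Not at hcon
      exact hne (Set.eq_univ_of_forall hcon)
    have hbd : ∀ n, n ∉ S → n < c := by
      intro n hn
      by_contra hlt
      exact hn (hΓS n (hc n (not_lt.mp hlt)))
    -- take the largest element of the complement
    have hfin : {n | n ∉ S}.Finite := (Set.finite_lt_nat c).subset (fun n hn => hbd n hn)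
    obtain ⟨n, hn, hmax⟩ := hfin.exists_maximal (by obtain ⟨n, hn⟩ := hex; exact ⟨n, hn⟩)
    refine ⟨n, hn, fun γ hγ hγ0 => ?_⟩
    by_contra hcon
    have := hmax hcon (Nat.le_add_right n γ)
    omega
  · intro hne
    have hex : ∃ s, s ∈ S ∧ s ∉ Γ := by
      by_contra hcon
      push Not at hcon
      exact hne (Set.Subset.antisymm (fun n hn => hΓS n hn) (fun n hn => hcon n hn))
    let s := Nat.find hex
    have hs : s ∈ S ∧ s ∉ Γ := Nat.find_spec hex
    have hmin : ∀ m, m < s → m ∈ S → m ∈ Γ := by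
      intro m hm hmS
      by_contra hcon
      exact Nat.find_min hex hm ⟨hmS, hcon⟩
    refine ⟨s, hs.1, hs.2, fun γ hγ hγ0 hγs hcon => ?_⟩
    have h1 := hmin (s - γ) (by omega) hcon
    have h2 := Γ.add_mem h1 hγ
    have e : s - γ + γ = s := by omega
    rw [e] at h2
    exact hs.2 h2

end Groth.Agent.S15029
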