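import Groth.Statements.S15030
import Groth.Agent.Lib.Helper8Mon3

set_option autoImplicit false
universe u
open CategoryTheory
open TFCurv

namespace Groth.Agent.S15030

/-- Let k be an algebraically closed field of characteristic zero, δ ≥ 1, and A ⊂ k[[t]] the complete
local ring of the A_{2δ} singularity, i.e. the k-subalgebra of power series all of whose exponents
lie in the semigroup generated by 2 and 2δ + 1 (so A = k[[t², t^{2δ+1}]]). For 0 ≤ i ≤ δ let M_i ⊂
k[[t]] be the A-submodule generated by 1 and t^{2δ+1−2i} (these represent all rank-one torsion-free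
A-modules). Then for 0 ≤ i, j ≤ δ the A-module Ext¹_A(M_i, M_j) has length 2·min(i, j) (length over
A equals k-dimension here). (The published statement also covers the two-branch case n = 2δ − 1 with
the same value; only the one-branch case is stated.) -/
theorem result (k : Type u) [Field k] [IsAlgClosed k] [CharZero k] (δ : ℕ) (hδ : 1 ≤ δ) (A : Subalgebra k (PowerSeries k)) (hmono : ∀ f : PowerSeries k, f ∈ A ↔ ∀ n : ℕ, PowerSeries.coeff n f ≠ 0 → n ∈ AddSubmonoid.closure ({2, 2 * δ + 1} : Set ℕ)) (i j : ℕ) (hi : i ≤ δ) (hj : j ≤ δ) : Module.length ↥A (Abelian.Ext (ModuleCat.of ↥A ↥(Submodule.span ↥A ({1, (PowerSeries.X : PowerSeries k) ^ (2 * δ + 1 - 2 * i)} : Set (PowerSeries k)))) (ModuleCat.of ↥A ↥(Submodule.span ↥A ({1, (PowerSeries.X : PowerSeries k) ^ (2 * δ + 1 - 2 * j)} : Set (PowerSeries k)))) 1) = ((2 * min i j : ℕ) : ℕ∞) := by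
  classical
  set Γ : Set ℕ := ((AddSubmonoid.closure ({2, 2 * δ + 1} : Set ℕ) : AddSubmonoid ℕ) : Set ℕ) with hΓdef
  have hΓ : ∀ n, n ∈ Γ ↔ n % 2 = 0 ∨ 2 * δ + 1 ≤ n := by
    intro n
    rw [hΓdef, SetLike.mem_coe]
    constructor
    · intro h
      refine AddSubmonoid.closure_induction (motive := fun n _ => n % 2 = 0 ∨ 2 * δ + 1 ≤ n)
        ?_ ?_ ?_ h
      · intro x hx
        rcases hx with rfl | hx
        · left; rfl
        · rw [Set.mem_singleton_iff] at hx
          right; omega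
      · left; rfl
      · intro x y _ _ hx hy
        omega
    · intro h
      have h2 : (2 : ℕ) ∈ AddSubmonoid.closure ({2, 2 * δ + 1} : Set ℕ) :=
        AddSubmonoid.subset_closure (by simp)
      have h3 : (2 * δ + 1 : ℕ) ∈ AddSubmonoid.closure ({2, 2 * δ + 1} : Set ℕ) :=
        AddSubmonoid.subset_closure (by simp)
      by_cases hpar : n % 2 = 0
      · have : n = (n / 2) • 2 := by rw [smul_eq_mul]; omega
        rw [this]
        exact AddSubmonoid.nsmul_mem _ h2 _
      · have hn : 2 * δ + 1 ≤ n := by omega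
        have : n = (2 * δ + 1) + ((n - (2 * δ + 1)) / 2) • 2 := by rw [smul_eq_mul]; omega
        rw [this]
        exact AddSubmonoid.add_mem _ h3 (AddSubmonoid.nsmul_mem _ h2 _)
  have hA : ∀ f : PowerSeries k, f ∈ A ↔ f ∈ Groth.Agent.Lib.Helper8.Mon.Mon k Γ := hmono
  set a := 2 * δ + 1 - 2 * i with ha
  set b := 2 * δ + 1 - 2 * j with hb
  set SN : Set ℕ := ⋃ e ∈ ({0, b} : Set ℕ), Groth.Agent.Lib.Helper8.Mon.shift e Γ with hSNdef
  have hSN : ∀ n, n ∈ SN ↔ n % 2 = 0 ∨ b ≤ n := by
    intro n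
    rw [hSNdef, Set.mem_iUnion₂]
    constructor
    · rintro ⟨e, he, h1, h2⟩
      rw [hΓ] at h2
      rcases he with rfl | he
      · omega
      · rw [Set.mem_singleton_iff] at he
        subst he
        omega
    · intro h
      by_cases hpar : n % 2 = 0
      · exact ⟨0, by simp, Nat.zero_le _, by rw [hΓ]; left; simpa using hpar⟩
      · refine ⟨b, by simp, by omega, ?_⟩
        rw [hΓ]
        left
        omega
  have himg : ({1, (PowerSeries.X : PowerSeries k) ^ b} : Set (PowerSeries k)) =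
      (fun e : ℕ => (PowerSeries.X : PowerSeries k) ^ e) '' ({0, b} : Set ℕ) := by
    rw [Set.image_pair, pow_zero]
  have hN : ∀ f, f ∈ Submodule.span ↥A ({1, (PowerSeries.X : PowerSeries k) ^ b} :
      Set (PowerSeries k)) ↔ f ∈ Groth.Agent.Lib.Helper8.Mon.Mon k SN := by
    intro f
    rw [himg]
    exact Groth.Agent.Lib.Helper8.Mon.mem_span_X_pow A Γ hA _ (Set.toFinite _) f
  have hc : ∀ n, 2 * δ ≤ n → n ∈ SN := by
    intro n hn
    rw [hSN]
    omega
  have hmain := Groth.Agent.Lib.Helper8.Mon.length_ext_two_gen A Γ hA a (2 * i) (2 * δ)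
    ((hΓ _).mpr (by left; omega)) ((hΓ _).mpr (by right; omega)) _ SN hN hc
  rw [hmain]
  congr 1
  -- the count
  have hSD : ∀ n, n ∈ Groth.Agent.Lib.Helper8.Mon.SD Γ a (2 * i) SN ↔
      (n % 2 = 0 ∧ 2 * i ≤ n + 2 * j) ∨ (n % 2 = 1 ∧ b ≤ n) := by
    intro n
    unfold Groth.Agent.Lib.Helper8.Mon.SD
    change (n ∈ SN ∧ ∀ γ ∈ Γ, γ + a ∈ Γ → (2 * i ≤ n + γ ∧ n + γ - 2 * i ∈ SN)) ↔ _
    constructor
    · rintro ⟨h1, h2⟩
      rw [hSN] at h1
      have h3 := h2 (2 * δ + 1) ((hΓ _).mpr (by right; omega)) ((hΓ _).mpr (by left; omega))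
      rw [hSN] at h3
      omega
    · intro h
      refine ⟨(hSN n).mpr (by omega), fun γ hγ hγa => ?_⟩
      rw [hΓ] at hγ hγa
      rw [hSN]
      omega
  have hSP : ∀ n, n ∈ Groth.Agent.Lib.Helper8.Mon.SP a (2 * i) SN ↔
      2 * i ≤ n ∧ (n % 2 = 0 ∨ 2 * i + b ≤ n ∨ 2 * δ + 1 ≤ n) := by
    intro n
    unfold Groth.Agent.Lib.Helper8.Mon.SP
    change (2 * i ≤ n ∧ (n - 2 * i ∈ SN ∨ (a ≤ n - 2 * i ∧ n - 2 * i - a ∈ SN))) ↔ _
    rw [hSN, hSN]
    omega
  have hset : Groth.Agent.Lib.Helper8.Mon.SD Γ a (2 * i) SN \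
      Groth.Agent.Lib.Helper8.Mon.SP a (2 * i) SN =
      ↑((Finset.range (min i j)).image (fun l => 2 * ((i - j) + l)) ∪
        (Finset.range (min i j)).image (fun l => b + 2 * l)) := by
    ext n
    rw [Set.mem_sdiff, hSD, hSP, Finset.mem_coe, Finset.mem_union, Finset.mem_image,
      Finset.mem_image]
    constructor
    · rintro ⟨h1, h2⟩
      by_cases hpar : n % 2 = 0
      · left
        refine ⟨n / 2 - (i - j), ?_, ?_⟩
        · rw [Finset.mem_range]; omega
        · omega
      · right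
        refine ⟨(n - b) / 2, ?_, ?_⟩
        · rw [Finset.mem_range]; omega
        · omega
    · rintro (⟨l, hl, rfl⟩ | ⟨l, hl, rfl⟩)
      · rw [Finset.mem_range] at hl
        omega
      · rw [Finset.mem_range] at hl
        omega
  rw [hset, Set.ncard_coe_finset, Finset.card_union_of_disjoint, Finset.card_image_of_injective,
    Finset.card_image_of_injective, Finset.card_range]
  · omega
  · intro l l' h
    simp only at h
    omega
  · intro l l' h
    simp only at h
    omega
  · rw [Finset.disjoint_left]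
    intro n h1 h2
    rw [Finset.mem_image] at h1 h2
    obtain ⟨l, _, rfl⟩ := h1
    obtain ⟨l', _, h⟩ := h2
    omega

end Groth.Agent.S15030
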