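import Groth.Statements.S15031
import Groth.Agent.Lib.Helper8Mon4

set_option autoImplicit false
universe u
open CategoryTheory
open TFCurv

namespace Groth.Agent.S15031

/-- Let k be an algebraically closed field, n ≥ 2, and A = R_n ⊂ k[[t]] the monomial ring of the cubical
semigroup ⟨n, n+1, …, 2n−1⟩, i.e. the k-subalgebra of power series with no terms of degree 1, …,
n−1. For 0 ≤ i ≤ n − 2 let M_i ⊂ k[[t]] be the A-submodule generated by 1, t, …, t^i (the monomial
module whose value set is Γ_n together with 1, …, i). Then the A-module Ext¹_A(M_i, M_i) has length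
i·(n − 2 − i); as the A-endomorphisms of M_i are the scalars, this number is the invariant χ₁(M_i) =
dim Ext¹(M_i, M_i) − dim(End(M_i)/A). (The published statement asserts the value for every module
with this value set; only the monomial module is stated here.) -/
theorem result (k : Type u) [Field k] [IsAlgClosed k] (n : ℕ) (hn : 2 ≤ n) (A : Subalgebra k (PowerSeries k)) (hmono : ∀ f : PowerSeries k, f ∈ A ↔ ∀ m : ℕ, PowerSeries.coeff m f ≠ 0 → (m = 0 ∨ n ≤ m)) (i : ℕ) (hi : i + 2 ≤ n) : Module.length ↥A (Abelian.Ext (ModuleCat.of ↥A ↥(Submodule.span ↥A ((fun a : ℕ => (PowerSeries.X : PowerSeries k) ^ a) '' Set.Iic i))) (ModuleCat.of ↥A ↥(Submodule.span ↥A ((fun a : ℕ => (PowerSeries.X : PowerSeries k) ^ a) '' Set.Iic i))) 1) = ((i * (n - 2 - i) : ℕ) : ℕ∞) := by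
  have hA : ∀ f : PowerSeries k, f ∈ A ↔ f ∈ Groth.Agent.Lib.Helper8.Mon.Mon k
      (Groth.Agent.Lib.Helper8.Mon.Γc n) := fun f => hmono f
  set S : Submodule ↥A (PowerSeries k) :=
    Submodule.span ↥A ((fun a : ℕ => (PowerSeries.X : PowerSeries k) ^ a) '' Set.Iic i) with hS
  let es : Fin i → ℕ := fun s => s.1 + 1
  have hes : ∀ s, 0 < es s ∧ es s < n := fun s => ⟨Nat.succ_pos _, by
    have := s.2
    change s.1 + 1 < n
    omega⟩
  have hesinj : Function.Injective es := fun s s' h => Fin.ext (by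
    have h' : s.1 + 1 = s'.1 + 1 := h
    omega)
  have h1 : (1 : PowerSeries k) ∈ S :=
    Submodule.subset_span ⟨0, Set.mem_Iic.mpr (Nat.zero_le _), pow_zero _⟩
  have hm : ∀ s : Fin i, (PowerSeries.X : PowerSeries k) ^ es s ∈ S := fun s =>
    Submodule.subset_span ⟨es s, Set.mem_Iic.mpr (by
      have := s.2
      change s.1 + 1 ≤ i
      omega), rfl⟩
  have hSle : S ≤ Submodule.span ↥A (insert (1 : PowerSeries k)
      (Set.range fun s : Fin i => (PowerSeries.X : PowerSeries k) ^ es s)) := by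
    rw [hS, Submodule.span_le]
    rintro _ ⟨a, ha, rfl⟩
    rw [Set.mem_Iic] at ha
    rcases Nat.eq_zero_or_pos a with h0 | h0
    · apply Submodule.subset_span
      left
      change (PowerSeries.X : PowerSeries k) ^ a = 1
      rw [h0, pow_zero]
    · apply Submodule.subset_span
      right
      refine ⟨⟨a - 1, by omega⟩, ?_⟩
      change (PowerSeries.X : PowerSeries k) ^ (a - 1 + 1) = PowerSeries.X ^ a
      rw [Nat.sub_add_cancel h0]
  let SN : Set ℕ := {m | m ≤ i ∨ n ≤ m}
  have hN : ∀ f, f ∈ LinearMap.range S.subtype ↔ f ∈ Groth.Agent.Lib.Helper8.Mon.Mon k SN := by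
    intro f
    rw [Submodule.range_subtype, hS,
      Groth.Agent.Lib.Helper8.Mon.mem_span_X_pow A _ hA (Set.Iic i) (Set.finite_Iic i) f]
    have hset : (⋃ e ∈ Set.Iic i, Groth.Agent.Lib.Helper8.Mon.shift e
        (Groth.Agent.Lib.Helper8.Mon.Γc n)) = SN := by
      ext m
      rw [Set.mem_iUnion₂]
      constructor
      · rintro ⟨e, he, h2, h3 | h3⟩
        · rw [Set.mem_Iic] at he
          left
          omega
        · right
          omega
      · rintro (h2 | h2)
        · exact ⟨m, Set.mem_Iic.mpr h2, le_refl _, Or.inl (Nat.sub_self m)⟩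
        · exact ⟨0, Set.mem_Iic.mpr (Nat.zero_le _), Nat.zero_le _, Or.inr h2⟩
    rw [hset]
  have hcN : ∀ m, n ≤ m → m ∈ SN := fun m hm => Or.inr hm
  have key := Groth.Agent.Lib.Helper8.Mon.length_ext_cubical (M₀ := ↥S) (N₀ := ↥S) A n hA es hes hesinj
    (Groth.Agent.Lib.Helper8.ExtPres.pSub (fun s : Fin i => (PowerSeries.X : PowerSeries k) ^ es s)
      S h1 hm)
    (Groth.Agent.Lib.Helper8.ExtPres.pSub_surjective _ S h1 hm hSle)
    (Groth.Agent.Lib.Helper8.ExtPres.pSub_ker _ S h1 hm)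
    S.subtype Subtype.val_injective SN hN n hcN
  have hset1 : SN \ Groth.Agent.Lib.Helper8.Mon.Sm es SN = ↑(Finset.Icc 1 i) := by
    ext m
    rw [Finset.coe_Icc, Set.mem_Icc, Set.mem_sdiff]
    constructor
    · rintro ⟨h2, h3⟩
      have h4 : m ≤ i := by
        rcases h2 with h2 | h2
        · exact h2
        · exfalso
          exact h3 ⟨Or.inr h2, fun s => Or.inr (le_trans h2 (Nat.le_add_right _ _))⟩
      refine ⟨?_, h4⟩
      by_contra h5
      have h6 : m = 0 := by omega
      apply h3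
      refine ⟨Or.inl h4, fun s => Or.inl ?_⟩
      have := s.2
      change m + (s.1 + 1) ≤ i
      omega
    · rintro ⟨h2, h3⟩
      refine ⟨Or.inl h3, ?_⟩
      rintro ⟨_, h4⟩
      have h5 := h4 ⟨i - m, by omega⟩
      change m + (i - m + 1) ≤ i ∨ n ≤ m + (i - m + 1) at h5
      omega
  have hset2 : Groth.Agent.Lib.Helper8.Mon.Sc SN \ Groth.Agent.Lib.Helper8.Mon.shift n SN =
      ↑(Finset.Ioo (n + i) (2 * n)) := by
    ext m
    rw [Finset.coe_Ioo, Set.mem_Ioo, Set.mem_sdiff]
    constructor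
    · rintro ⟨h2, h3⟩
      have hnm : n ≤ m := by
        by_contra hlt
        have h4 := h2 (n - 1 - m)
        change m + (n - 1 - m) ≤ i ∨ n ≤ m + (n - 1 - m) at h4
        omega
      have h5 : ¬ (n ≤ m ∧ (m - n ≤ i ∨ n ≤ m - n)) := h3
      omega
    · rintro ⟨h2, h3⟩
      refine ⟨fun j => Or.inr (by omega), ?_⟩
      intro h4
      have h5 : n ≤ m ∧ (m - n ≤ i ∨ n ≤ m - n) := h4
      omega
  rw [hset1, hset2, Set.ncard_coe_finset, Set.ncard_coe_finset, Nat.card_Icc, Nat.card_Ioo] at key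
  have h2 : 2 * n - (n + i) - 1 = (n - 2 - i) + 1 := by omega
  have h3 : i + 1 - 1 = i := by omega
  rw [h2, h3] at key
  have key' : Module.length ↥A (Abelian.Ext (ModuleCat.of ↥A ↥S) (ModuleCat.of ↥A ↥S) 1) + (i : ℕ∞) =
      ((i * (n - 2 - i) : ℕ) : ℕ∞) + (i : ℕ∞) := by
    rw [key]
    push_cast
    ring
  exact ENat.add_left_injective_of_ne_top (ENat.natCast_ne_top i) key'

end Groth.Agent.S15031
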