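import Groth.Statements.S15032
import Groth.Agent.Lib.Helper8Mon5

set_option autoImplicit false
universe u
open CategoryTheory
open TFCurv

namespace Groth.Agent.S15032

/-- Let k be an algebraically closed field, n ≥ 2, and A = R_n ⊂ k[[t]] the monomial ring of the cubical
semigroup ⟨n, n+1, …, 2n−1⟩, i.e. the k-subalgebra of power series with no terms of degree 1, …,
n−1. For the normalisation R~ = k[[t]] viewed as an A-module, χ₁(R~) = (n − 1)², where χ₁(M) = dim_k
Ext¹_A(M, M) − dim_k(End_A(M)/A): the length of the A-module Ext¹_A(k[[t]], k[[t]]) equals (n − 1)²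
plus the length of the A-linear endomorphisms of k[[t]] modulo multiplications by elements of A. -/
theorem result (k : Type u) [Field k] [IsAlgClosed k] (n : ℕ) (hn : 2 ≤ n) (A : Subalgebra k (PowerSeries k)) (hmono : ∀ f : PowerSeries k, f ∈ A ↔ ∀ m : ℕ, PowerSeries.coeff m f ≠ 0 → (m = 0 ∨ n ≤ m)) : Module.length ↥A (Abelian.Ext (ModuleCat.of ↥A (PowerSeries k)) (ModuleCat.of ↥A (PowerSeries k)) 1) = (((n - 1) ^ 2 : ℕ) : ℕ∞) + Module.length ↥A ((PowerSeries k →ₗ[↥A] PowerSeries k) ⧸ LinearMap.range (Algebra.lsmul ↥A ↥A (PowerSeries k) : ↥A →ₐ[↥A] Module.End ↥A (PowerSeries k)).toLinearMap) := by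
  have hA : ∀ f : PowerSeries k, f ∈ A ↔ f ∈ Groth.Agent.Lib.Helper8.Mon.Mon k
      (Groth.Agent.Lib.Helper8.Mon.Γc n) := fun f => hmono f
  rw [Groth.Agent.Lib.Helper8.Mon.length_end_cubical A n hA]
  let es : Fin (n - 1) → ℕ := fun s => s.1 + 1
  have hes : ∀ s, 0 < es s ∧ es s < n := fun s => ⟨Nat.succ_pos _, by
    have := s.2
    change s.1 + 1 < n
    omega⟩
  have hesinj : Function.Injective es := fun s s' h => Fin.ext (by
    have h' : s.1 + 1 = s'.1 + 1 := h
    omega)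
  have hpker : ∀ a y, Groth.Agent.Lib.Helper8.Mon.pNorm A n (a, y) = 0 ↔
      a • (1 : PowerSeries k) + ∑ s, y s • (PowerSeries.X : PowerSeries k) ^ es s = 0 := by
    intro a y
    rw [Groth.Agent.Lib.Helper8.Mon.pNorm_apply]
  let SN : Set ℕ := Set.univ
  have hN : ∀ f, f ∈ LinearMap.range (LinearMap.id : PowerSeries k →ₗ[↥A] PowerSeries k) ↔
      f ∈ Groth.Agent.Lib.Helper8.Mon.Mon k SN := by
    intro f
    rw [LinearMap.range_id]
    exact ⟨fun _ m _ => Set.mem_univ m, fun _ => Submodule.mem_top⟩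
  have hcN : ∀ m, 0 ≤ m → m ∈ SN := fun m _ => Set.mem_univ m
  have key := Groth.Agent.Lib.Helper8.Mon.length_ext_cubical (M₀ := PowerSeries k)
    (N₀ := PowerSeries k) A n hA es hes hesinj
    (Groth.Agent.Lib.Helper8.Mon.pNorm A n)
    (Groth.Agent.Lib.Helper8.Mon.pNorm_surjective A n hA) hpker
    LinearMap.id (fun _ _ h => h) SN hN 0 hcN
  have hset1 : SN \ Groth.Agent.Lib.Helper8.Mon.Sm es SN = ∅ := by
    ext m
    rw [Set.mem_sdiff]
    constructor
    · rintro ⟨_, h3⟩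
      exact absurd ⟨Set.mem_univ _, fun s => Set.mem_univ _⟩ h3
    · intro h
      exact absurd h (Set.notMem_empty m)
  have hset2 : Groth.Agent.Lib.Helper8.Mon.Sc SN \ Groth.Agent.Lib.Helper8.Mon.shift n SN =
      ↑(Finset.range n) := by
    ext m
    rw [Finset.coe_range, Set.mem_Iio, Set.mem_sdiff]
    constructor
    · rintro ⟨_, h3⟩
      by_contra h4
      exact h3 ⟨by omega, Set.mem_univ _⟩
    · intro h2
      refine ⟨fun j => Set.mem_univ _, ?_⟩
      rintro ⟨h5, _⟩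
      omega
  rw [hset1, hset2, Set.ncard_coe_finset, Set.ncard_empty, Finset.card_range,
    Nat.cast_zero, add_zero] at key
  rw [key, ← Nat.cast_mul, ← Nat.cast_add]
  congr 1
  have h2 : ∃ q, n - 1 = q ∧ n = q + 1 := ⟨n - 1, rfl, by omega⟩
  obtain ⟨q, hq1, hq2⟩ := h2
  rw [hq1, hq2]
  ring

end Groth.Agent.S15032
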