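import Groth.Statements.S15033
import Groth.Agent.Lib.Helper8Mon4

set_option autoImplicit false
universe u
open CategoryTheory
open TFCurv

namespace Groth.Agent.S15033

/-- Let k be an algebraically closed field, n ≥ 2, and A = R_n ⊂ k[[t]] the monomial ring of the cubical
semigroup ⟨n, n+1, …, 2n−1⟩, i.e. the k-subalgebra of power series with no terms of degree 1, …,
n−1. For 0 ≤ i < n − 1 let R_{n−i} ⊂ k[[t]] be the A-submodule generated by 1, t^{n−i}, t^{n−i+1},
…, t^{n−1}, i.e. the overring of A consisting of the power series with no terms of degree 1, …, n −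
i − 1. Then the A-module Ext¹_A(R_{n−i}, R_{n−i}) has length i·(n − 1). Since the A-endomorphisms of
R_{n−i} are the multiplications by elements of R_{n−i}, of colength i over A, this is the published
value χ₁(R_{n−i}) = i·(n − 2) of χ₁(M) = dim Ext¹(M, M) − dim(End(M)/A). -/
theorem result (k : Type u) [Field k] [IsAlgClosed k] (n : ℕ) (hn : 2 ≤ n) (A : Subalgebra k (PowerSeries k)) (hmono : ∀ f : PowerSeries k, f ∈ A ↔ ∀ m : ℕ, PowerSeries.coeff m f ≠ 0 → (m = 0 ∨ n ≤ m)) (i : ℕ) (hi : i + 2 ≤ n) : Module.length ↥A (Abelian.Ext (ModuleCat.of ↥A ↥(Submodule.span ↥A ((fun a : ℕ => (PowerSeries.X : PowerSeries k) ^ a) '' ({0} ∪ Set.Icc (n - i) (n - 1))))) (ModuleCat.of ↥A ↥(Submodule.span ↥A ((fun a : ℕ => (PowerSeries.X : PowerSeries k) ^ a) '' ({0} ∪ Set.Icc (n - i) (n - 1))))) 1) = ((i * (n - 1) : ℕ) : ℕ∞) := by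
  have hA : ∀ f : PowerSeries k, f ∈ A ↔ f ∈ Groth.Agent.Lib.Helper8.Mon.Mon k
      (Groth.Agent.Lib.Helper8.Mon.Γc n) := fun f => hmono f
  set S : Submodule ↥A (PowerSeries k) :=
    Submodule.span ↥A ((fun a : ℕ => (PowerSeries.X : PowerSeries k) ^ a) ''
      ({0} ∪ Set.Icc (n - i) (n - 1))) with hS
  let es : Fin i → ℕ := fun s => n - i + s.1
  have hes : ∀ s, 0 < es s ∧ es s < n := fun s => by
    have := s.2
    change 0 < n - i + s.1 ∧ n - i + s.1 < n
    omega
  have hesinj : Function.Injective es := fun s s' h => Fin.ext (by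
    have h' : n - i + s.1 = n - i + s'.1 := h
    omega)
  have h1 : (1 : PowerSeries k) ∈ S :=
    Submodule.subset_span ⟨0, Or.inl rfl, pow_zero _⟩
  have hm : ∀ s : Fin i, (PowerSeries.X : PowerSeries k) ^ es s ∈ S := fun s =>
    Submodule.subset_span ⟨es s, Or.inr (Set.mem_Icc.mpr (by
      have := s.2
      change n - i ≤ n - i + s.1 ∧ n - i + s.1 ≤ n - 1
      omega)), rfl⟩
  have hSle : S ≤ Submodule.span ↥A (insert (1 : PowerSeries k)
      (Set.range fun s : Fin i => (PowerSeries.X : PowerSeries k) ^ es s)) := by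
    rw [hS, Submodule.span_le]
    rintro _ ⟨a, ha, rfl⟩
    rcases ha with h0 | h0
    · apply Submodule.subset_span
      left
      have h0' : a = 0 := h0
      change (PowerSeries.X : PowerSeries k) ^ a = 1
      rw [h0', pow_zero]
    · rw [Set.mem_Icc] at h0
      apply Submodule.subset_span
      right
      refine ⟨⟨a - (n - i), by omega⟩, ?_⟩
      change (PowerSeries.X : PowerSeries k) ^ (n - i + (a - (n - i))) = PowerSeries.X ^ a
      congr 1
      omega
  let SN : Set ℕ := {m | m = 0 ∨ n - i ≤ m}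
  have hEfin : (({0} : Set ℕ) ∪ Set.Icc (n - i) (n - 1)).Finite :=
    (Set.finite_singleton 0).union (Set.finite_Icc _ _)
  have hN : ∀ f, f ∈ LinearMap.range S.subtype ↔ f ∈ Groth.Agent.Lib.Helper8.Mon.Mon k SN := by
    intro f
    rw [Submodule.range_subtype, hS,
      Groth.Agent.Lib.Helper8.Mon.mem_span_X_pow A _ hA _ hEfin f]
    have hset : (⋃ e ∈ (({0} : Set ℕ) ∪ Set.Icc (n - i) (n - 1)),
        Groth.Agent.Lib.Helper8.Mon.shift e (Groth.Agent.Lib.Helper8.Mon.Γc n)) = SN := by
      ext m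
      rw [Set.mem_iUnion₂]
      constructor
      · rintro ⟨e, he, h2, h3⟩
        have h3' : m - e = 0 ∨ n ≤ m - e := h3
        rcases he with he | he
        · have he' : e = 0 := he
          rcases h3' with h3' | h3'
          · left
            omega
          · right
            omega
        · rw [Set.mem_Icc] at he
          right
          omega
      · rintro (h2 | h2)
        · exact ⟨0, Or.inl rfl, Nat.zero_le _, Or.inl (by omega)⟩
        · by_cases h3 : m ≤ n - 1
          · exact ⟨m, Or.inr (Set.mem_Icc.mpr ⟨h2, h3⟩), le_refl _, Or.inl (Nat.sub_self m)⟩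
          · exact ⟨0, Or.inl rfl, Nat.zero_le _, Or.inr (by omega)⟩
    rw [hset]
  have hcN : ∀ m, n ≤ m → m ∈ SN := fun m hm => Or.inr (by omega)
  have key := Groth.Agent.Lib.Helper8.Mon.length_ext_cubical (M₀ := ↥S) (N₀ := ↥S) A n hA es hes
    hesinj
    (Groth.Agent.Lib.Helper8.ExtPres.pSub (fun s : Fin i => (PowerSeries.X : PowerSeries k) ^ es s)
      S h1 hm)
    (Groth.Agent.Lib.Helper8.ExtPres.pSub_surjective _ S h1 hm hSle)
    (Groth.Agent.Lib.Helper8.ExtPres.pSub_ker _ S h1 hm)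
    S.subtype Subtype.val_injective SN hN n hcN
  have hset1 : SN \ Groth.Agent.Lib.Helper8.Mon.Sm es SN = ∅ := by
    ext m
    rw [Set.mem_sdiff]
    constructor
    · rintro ⟨h2, h3⟩
      exfalso
      apply h3
      refine ⟨h2, fun s => Or.inr ?_⟩
      change n - i ≤ m + (n - i + s.1)
      omega
    · intro h
      exact absurd h (Set.notMem_empty m)
  have hset2 : Groth.Agent.Lib.Helper8.Mon.Sc SN \ Groth.Agent.Lib.Helper8.Mon.shift n SN =
      ↑((Finset.Ico (n - i) (2 * n - i)).erase n) := by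
    ext m
    rw [Finset.coe_erase, Finset.coe_Ico, Set.mem_sdiff, Set.mem_sdiff, Set.mem_Ico,
      Set.mem_singleton_iff]
    constructor
    · rintro ⟨h2, h3⟩
      have h4 := h2 0
      have h5 := h2 1
      change m + 0 = 0 ∨ n - i ≤ m + 0 at h4
      change m + 1 = 0 ∨ n - i ≤ m + 1 at h5
      have h6 : ¬ (n ≤ m ∧ (m - n = 0 ∨ n - i ≤ m - n)) := h3
      omega
    · rintro ⟨⟨h2, h3⟩, h4⟩
      refine ⟨fun j => Or.inr (by omega), ?_⟩
      intro h5
      have h6 : n ≤ m ∧ (m - n = 0 ∨ n - i ≤ m - n) := h5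
      omega
  rw [hset1, hset2, Set.ncard_coe_finset, Set.ncard_empty,
    Finset.card_erase_of_mem (Finset.mem_Ico.mpr ⟨by omega, by omega⟩), Nat.card_Ico,
    Nat.cast_zero, add_zero] at key
  have h2 : 2 * n - i - (n - i) - 1 = n - 1 := by omega
  rw [h2] at key
  rw [key, Nat.cast_mul]

end Groth.Agent.S15033
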