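import Groth.Statements.S15036
import Mathlib

set_option autoImplicit false
open TFCurv

namespace Groth.Agent.S15036

/-- Let Γ be a numerical semigroup (a submonoid of (ℕ, +) with finite complement), Γ ≠ ℕ, with conductor
c (every n ≥ c lies in Γ, c − 1 does not); let S ⊆ ℕ be a Γ-module in normal form (0 ∈ S, γ + s ∈ S
for γ ∈ Γ, s ∈ S) with conductor c(S) (all n ≥ c(S) in S, c(S) − 1 ∉ S), and let s be a gap of S
such that S ∪ {s} is again a Γ-module. Enumerate S increasingly as s_0 < s_1 < ⋯ and put τ_i(S) =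
s_i + ℓ(S), where ℓ counts the gaps of Γ filled; since ℓ(S ∪ {s}) = ℓ(S) + 1, the termwise
comparison τ(S) ≤ τ(S ∪ {s}) says that the i-th element of S is at most one more than the i-th
element of S ∪ {s} for every i. This holds if and only if s = c(S) − 1, the largest gap of S. -/
theorem result (Γ : AddSubmonoid ℕ) (c : ℕ) (hc : ∀ n : ℕ, c ≤ n → n ∈ Γ) (hc0 : c ≠ 0) (hc1 : c - 1 ∉ Γ) (S : Set ℕ) (hS0 : (0 : ℕ) ∈ S) (hS : ∀ γ : ℕ, γ ∈ Γ → ∀ s : ℕ, s ∈ S → γ + s ∈ S) (cS : ℕ) (hcS : ∀ n : ℕ, cS ≤ n → n ∈ S) (hcS0 : cS ≠ 0) (hcS1 : cS - 1 ∉ S) (s : ℕ) (hs : s ∉ S) (hs' : ∀ γ : ℕ, γ ∈ Γ → γ ≠ 0 → s + γ ∈ S) : (∀ i : ℕ, Nat.nth (fun m => m ∈ S) i ≤ Nat.nth (fun m => m ∈ insert s S) i + 1) ↔ s + 1 = cS := by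
  classical
  set p : ℕ → Prop := fun m => m ∈ S with hp
  set p' : ℕ → Prop := fun m => m ∈ insert s S with hp'
  have hinf : (Set.ofPred p).Infinite := by
    apply Set.infinite_of_forall_exists_gt
    intro a
    exact ⟨max a cS + 1, hcS _ (by omega), by omega⟩
  have hinf' : (Set.ofPred p').Infinite := by
    apply Set.infinite_of_forall_exists_gt
    intro a
    exact ⟨max a cS + 1, Set.mem_insert_of_mem _ (hcS _ (by omega)), by omega⟩
  have hcount' : ∀ m, Nat.count p' m = Nat.count p m + if s < m then 1 else 0 := by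
    intro m
    induction m with
    | zero => simp
    | succ m ih =>
      rw [Nat.count_succ, Nat.count_succ, ih]
      by_cases hms : m = s
      · subst hms
        have h1 : p' m := Set.mem_insert _ _
        have h2 : ¬ p m := hs
        rw [if_pos h1, if_neg h2, if_neg (lt_irrefl m), if_pos (Nat.lt_succ_self m)]
      · have h1 : p' m ↔ p m := by
          show m ∈ insert s S ↔ m ∈ S
          rw [Set.mem_insert_iff]
          exact ⟨fun h => h.resolve_left hms, Or.inr⟩
        have h2 : s < m + 1 ↔ s < m := by omega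
        by_cases hpm : p m
        · rw [if_pos (h1.mpr hpm), if_pos hpm]
          by_cases hsm : s < m
          · rw [if_pos hsm, if_pos (h2.mpr hsm)]
          · rw [if_neg hsm, if_neg (fun h => hsm (h2.mp h))]
        · rw [if_neg (fun h => hpm (h1.mp h)), if_neg hpm]
          by_cases hsm : s < m
          · rw [if_pos hsm, if_pos (h2.mpr hsm)]
          · rw [if_neg hsm, if_neg (fun h => hsm (h2.mp h))]
  have hkey : (∀ i : ℕ, Nat.nth p i ≤ Nat.nth p' i + 1) ↔
      ∀ m, Nat.count p' m ≤ Nat.count p (m + 1) := by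
    constructor
    · intro h m
      by_contra hlt
      push Not at hlt
      have h1 : Nat.nth p' (Nat.count p (m + 1)) < m := (Nat.lt_nth_iff_count_lt hinf').mp hlt
      have h2 : ¬ (Nat.nth p (Nat.count p (m + 1)) < m + 1) := by
        intro h3
        have := (Nat.lt_nth_iff_count_lt hinf).mpr h3
        exact lt_irrefl _ this
      have := h (Nat.count p (m + 1))
      omega
    · intro h i
      have h1 : i < Nat.count p' (Nat.nth p' i + 1) :=
        (Nat.lt_nth_iff_count_lt hinf').mpr (Nat.lt_succ_self _)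
      have h2 := lt_of_lt_of_le h1 (h _)
      have h3 := (Nat.lt_nth_iff_count_lt hinf).mp h2
      omega
  have hkey2 : (∀ m, Nat.count p' m ≤ Nat.count p (m + 1)) ↔ ∀ m, s < m → m ∈ S := by
    constructor
    · intro h m hsm
      have h1 := h m
      rw [hcount', Nat.count_succ, if_pos hsm] at h1
      by_contra hmS
      rw [if_neg hmS] at h1
      omega
    · intro h m
      rw [hcount', Nat.count_succ]
      by_cases hsm : s < m
      · rw [if_pos hsm, if_pos (h m hsm)]
      · rw [if_neg hsm]; omega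
  show (∀ i : ℕ, Nat.nth p i ≤ Nat.nth p' i + 1) ↔ s + 1 = cS
  rw [hkey, hkey2]
  constructor
  · intro h
    have h1 : ¬ (s < cS - 1) := fun hlt => hcS1 (h _ hlt)
    have h2 : s < cS := by
      by_contra hge
      exact hs (hcS s (by omega))
    omega
  · intro h m hsm
    exact hcS m (by omega)

end Groth.Agent.S15036
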