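import Groth.Statements.S15037
import Mathlib

set_option autoImplicit false
open TFCurv

namespace Groth.Agent.S15037

open Classical

section
variable (S : Set ℕ) (cS : ℕ) (hcS : ∀ n : ℕ, cS ≤ n → n ∈ S)
include hcS

lemma inf_S : (Set.ofPred fun m => m ∈ S).Infinite := by
  apply Set.infinite_of_forall_exists_gt
  intro a
  exact ⟨max a cS + 1, hcS _ (by omega), by omega⟩

omit hcS in
lemma L1 (n : ℕ) : Nat.count (· ∈ S) n + Nat.count (· ∉ S) n = n := by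
  rw [Nat.count_eq_card_filter_range, Nat.count_eq_card_filter_range,
    Finset.card_filter_add_card_filter_not, Finset.card_range]

lemma compl_eq (n : ℕ) (hn : cS ≤ n) :
    Sᶜ = ((Finset.range n).filter (· ∉ S) : Finset ℕ) := by
  ext k
  simp only [Set.mem_compl_iff, Finset.coe_filter, Finset.mem_range, Set.mem_ofPred_eq]
  constructor
  · intro hk
    refine ⟨?_, hk⟩
    by_contra h
    exact hk (hcS k (by omega))
  · exact fun h => h.2

lemma L3 (n : ℕ) (hn : cS ≤ n) : Nat.count (· ∉ S) n = Sᶜ.ncard := by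
  rw [Nat.count_eq_card_filter_range, compl_eq S cS hcS n hn, Set.ncard_coe_finset]

lemma L2 (n : ℕ) : Nat.count (· ∉ S) n ≤ Sᶜ.ncard := by
  rw [← L3 S cS hcS (max n cS) (le_max_right _ _)]
  exact Nat.count_monotone _ (le_max_left _ _)

omit hcS in
lemma L4 : Nat.count (· ∈ S) cS = (S ∩ Set.Iio cS).ncard := by
  rw [Nat.count_eq_card_filter_range, ← Set.ncard_coe_finset]
  congr 1
  ext k
  simp [and_comm]

lemma L5 (i : ℕ) : Nat.nth (fun m => m ∈ S) i ≤ i + Sᶜ.ncard := by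
  have h1 := L1 S (Nat.nth (fun m => m ∈ S) i)
  rw [Nat.count_nth_of_infinite (inf_S S cS hcS)] at h1
  have h2 := L2 S cS hcS (Nat.nth (fun m => m ∈ S) i)
  omega

lemma card_eq : cS = (S ∩ Set.Iio cS).ncard + Sᶜ.ncard := by
  rw [← L4, ← L3 S cS hcS cS le_rfl, L1]

lemma L6 (i : ℕ) (hi : (S ∩ Set.Iio cS).ncard ≤ i) :
    Nat.nth (fun m => m ∈ S) i = i + Sᶜ.ncard := by
  have hc := card_eq S cS hcS
  have hmem : i + Sᶜ.ncard ∈ S := hcS _ (by omega)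
  have h1 := L1 S (i + Sᶜ.ncard)
  rw [L3 S cS hcS (i + Sᶜ.ncard) (by omega)] at h1
  have h2 : Nat.count (· ∈ S) (i + Sᶜ.ncard) = i := by omega
  have h3 := Nat.nth_count (p := fun m => m ∈ S) hmem
  rw [h2] at h3
  exact h3

lemma L7 (hcS1 : cS = 0 ∨ cS - 1 ∉ S) (i : ℕ) (hi : i < (S ∩ Set.Iio cS).ncard) :
    Nat.nth (fun m => m ∈ S) i + 1 ≤ i + Sᶜ.ncard := by
  rw [← L4] at hi
  have hlt : Nat.nth (fun m => m ∈ S) i < cS := Nat.nth_lt_of_lt_count hi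
  have hmem : Nat.nth (fun m => m ∈ S) i ∈ S := Nat.nth_mem_of_infinite (inf_S S cS hcS) i
  have hc0 : cS ≠ 0 := by omega
  have hgap : cS - 1 ∉ S := hcS1.resolve_left hc0
  have hne : Nat.nth (fun m => m ∈ S) i ≠ cS - 1 := fun h => hgap (h ▸ hmem)
  have h1 := L1 S (Nat.nth (fun m => m ∈ S) i)
  rw [Nat.count_nth_of_infinite (inf_S S cS hcS)] at h1
  have h2 : Nat.count (· ∉ S) (Nat.nth (fun m => m ∈ S) i) ≤ Nat.count (· ∉ S) (cS - 1) :=
    Nat.count_monotone _ (by omega)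
  have h3 : Nat.count (· ∉ S) (cS - 1 + 1) = Nat.count (· ∉ S) (cS - 1) + 1 := by
    rw [Nat.count_succ, if_pos hgap]
  have h4 : cS - 1 + 1 = cS := by omega
  rw [h4, L3 S cS hcS cS le_rfl] at h3
  omega

end

/-- Let Γ be a numerical semigroup (a submonoid of (ℕ, +) with finite complement), Γ ≠ ℕ, with conductor
c (every n ≥ c lies in Γ, c − 1 does not); let S and S' ⊆ ℕ be Γ-modules in normal form with
conductors c(S), c(S'), let δ(S), δ(S') be their numbers of gaps and r(S), r(S') their numbers of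
elements below the conductor, and enumerate them increasingly as s_i, s'_i (i ≥ 0). With τ_i(S) =
s_i + ℓ(S) and ℓ(S) = δ(Γ) − δ(S), the termwise order τ(S) ≤ τ(S') reads s_i + δ(S') ≤ s'_i + δ(S)
for all i. It holds if and only if r(S') ≤ r(S) and s_i + δ(S') ≤ s'_i + δ(S) for all i < r(S')
(beyond r(S) the entries τ_i(S) = i + δ(Γ) are the largest possible). -/
theorem result (Γ : AddSubmonoid ℕ) (c : ℕ) (hc : ∀ n : ℕ, c ≤ n → n ∈ Γ) (hc0 : c ≠ 0) (hc1 : c - 1 ∉ Γ) (S : Set ℕ) (hS0 : (0 : ℕ) ∈ S) (hS : ∀ γ : ℕ, γ ∈ Γ → ∀ s : ℕ, s ∈ S → γ + s ∈ S) (cS : ℕ) (hcS : ∀ n : ℕ, cS ≤ n → n ∈ S) (hcS1 : cS = 0 ∨ cS - 1 ∉ S) (S' : Set ℕ) (hS'0 : (0 : ℕ) ∈ S') (hS' : ∀ γ : ℕ, γ ∈ Γ → ∀ s : ℕ, s ∈ S' → γ + s ∈ S') (cS' : ℕ) (hcS' : ∀ n : ℕ, cS' ≤ n → n ∈ S') (hcS'1 : cS' = 0 ∨ cS' - 1 ∉ S') : (∀ i : ℕ, Nat.nth (fun m => m ∈ S) i + S'ᶜ.ncard ≤ Nat.nth (fun m => m ∈ S') i + Sᶜ.ncard) ↔ ((S' ∩ Set.Iio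 cS').ncard ≤ (S ∩ Set.Iio cS).ncard ∧ ∀ i : ℕ, i < (S' ∩ Set.Iio cS').ncard → Nat.nth (fun m => m ∈ S) i + S'ᶜ.ncard ≤ Nat.nth (fun m => m ∈ S') i + Sᶜ.ncard) := by
  constructor
  · intro H
    refine ⟨?_, fun i _ => H i⟩
    by_contra hlt
    push Not at hlt
    have h1 := L6 S cS hcS _ le_rfl
    have h2 := L7 S' cS' hcS' hcS'1 _ hlt
    have h3 := H (S ∩ Set.Iio cS).ncard
    omega
  · rintro ⟨hr, H⟩ i
    by_cases hi : i < (S' ∩ Set.Iio cS').ncard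
    · exact H i hi
    · push Not at hi
      have h1 := L6 S' cS' hcS' i hi
      have h2 := L5 S cS hcS i
      omega

end Groth.Agent.S15037
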