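import Groth.Statements.S15038
import Mathlib

set_option autoImplicit false
open TFCurv

namespace Groth.Agent.S15038


/-- Let Γ be a numerical semigroup (a submonoid of (ℕ, +) with finite complement), Γ ≠ ℕ, with conductor
c (every n ≥ c lies in Γ, c − 1 does not). If Γ is symmetric (for x < c, x is a gap exactly when c −
1 − x ∈ Γ) and its multiplicity e, the least nonzero element of Γ, is greater than 2, then Γ is
generated as an additive monoid by at most e − 1 elements. -/
theorem result (Γ : AddSubmonoid ℕ) (c : ℕ) (hc : ∀ n : ℕ, c ≤ n → n ∈ Γ) (hc0 : c ≠ 0) (hc1 : c - 1 ∉ Γ) (hsymm : ∀ x : ℕ, x < c → (x ∉ Γ ↔ c - 1 - x ∈ Γ)) (e : ℕ) (he : e ∈ Γ) (he0 : e ≠ 0) (hemin : ∀ γ : ℕ, γ ∈ Γ → γ ≠ 0 → e ≤ γ) (he2 : 2 < e) : ∃ G : Finset ℕ, G.card ≤ e - 1 ∧ AddSubmonoid.closure (↑G : Set ℕ) = Γ := by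
  classical
  have hepos : 0 < e := Nat.pos_of_ne_zero he0
  -- multiples of e lie in Γ
  have hmul : ∀ k : ℕ, k * e ∈ Γ := fun k => by
    have := Γ.nsmul_mem he k
    simpa [smul_eq_mul] using this
  -- Apéry elements
  have hex : ∀ i : ℕ, ∃ γ, γ ∈ Γ ∧ γ % e = i % e := fun i =>
    ⟨i + c * e, hc _ (by nlinarith), by simp⟩
  let w : ℕ → ℕ := fun i => Nat.find (hex i)
  have hw1 : ∀ i, w i ∈ Γ := fun i => (Nat.find_spec (hex i)).1
  have hw2 : ∀ i, w i % e = i % e := fun i => (Nat.find_spec (hex i)).2
  have hw3 : ∀ i γ, γ ∈ Γ → γ % e = i % e → w i ≤ γ := fun i γ h1 h2 =>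
    Nat.find_min' (hex i) ⟨h1, h2⟩
  have hw0 : w 0 = 0 := by
    have := hw3 0 0 Γ.zero_mem rfl
    omega
  -- decomposition
  have hdec : ∀ γ ∈ Γ, ∃ k, γ = w γ + k * e := by
    intro γ hγ
    have h1 := hw3 γ γ hγ rfl
    have h2 := hw2 γ
    refine ⟨(γ - w γ) / e, ?_⟩
    have h3 : (γ - w γ) % e = 0 := by
      have : γ % e = w γ % e := h2.symm
      exact Nat.sub_mod_eq_zero_of_mod_eq this
    have h4 := Nat.div_add_mod (γ - w γ) e
    rw [h3, add_zero] at h4
    rw [mul_comm] at h4
    omega
  -- w depends only on residue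
  have hwmod : ∀ i, w (i % e) = w i := by
    intro i
    apply le_antisymm
    · exact hw3 _ _ (hw1 i) (by rw [hw2 i, Nat.mod_mod])
    · exact hw3 _ _ (hw1 _) (by rw [hw2 (i % e), Nat.mod_mod])
  -- Frobenius number
  set F := c - 1 with hF
  have hFe : F + e ∈ Γ := hc _ (by omega)
  have hwF : w F = F + e := by
    have h1 : w F ≤ F + e := hw3 F (F + e) hFe (by simp)
    by_contra hne
    have hlt : w F < F + e := lt_of_le_of_ne h1 hne
    -- then w F ≤ F and F ∈ Γ
    have h2 := hw2 F
    have h3 : w F ≤ F := by
      by_contra hgt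
      push Not at hgt
      -- F < w F < F + e, same residue: impossible
      have h4 : (w F - F) % e = 0 := Nat.sub_mod_eq_zero_of_mod_eq h2
      have h5 : w F - F < e := by omega
      rw [Nat.mod_eq_of_lt h5] at h4
      omega
    have h4 : (F - w F) % e = 0 := Nat.sub_mod_eq_zero_of_mod_eq h2.symm
    have h5 := Nat.div_add_mod (F - w F) e
    rw [h4, add_zero] at h5
    have : F = w F + ((F - w F) / e) * e := by
      rw [mul_comm] at h5; omega
    apply hc1
    rw [this]
    exact Γ.add_mem (hw1 F) (hmul _)
  have hF0 : F % e ≠ 0 := by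
    intro h0
    apply hc1
    have h5 := Nat.div_add_mod F e
    rw [h0, add_zero] at h5
    rw [← h5, mul_comm]
    exact hmul _
  -- generators
  let S : Finset ℕ := (Finset.range e).filter (fun i => i ≠ 0 ∧ i ≠ F % e)
  let G : Finset ℕ := insert e (S.image w)
  have hScard : S.card ≤ e - 2 := by
    have hsub : S ⊆ ((Finset.range e).erase 0).erase (F % e) := by
      intro i hi
      simp only [S, Finset.mem_filter, Finset.mem_range] at hi
      simp only [Finset.mem_erase, Finset.mem_range]
      exact ⟨hi.2.2, hi.2.1, hi.1⟩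
    have h1 := Finset.card_le_card hsub
    have hmem : F % e ∈ (Finset.range e).erase 0 := by
      simp only [Finset.mem_erase, Finset.mem_range]
      exact ⟨hF0, Nat.mod_lt _ hepos⟩
    rw [Finset.card_erase_of_mem hmem, Finset.card_erase_of_mem (by simp [hepos]),
      Finset.card_range] at h1
    omega
  refine ⟨G, ?_, ?_⟩
  · calc G.card ≤ (S.image w).card + 1 := Finset.card_insert_le _ _
      _ ≤ S.card + 1 := by
        have := Finset.card_image_le (s := S) (f := w)
        omega
      _ ≤ e - 1 := by omega
  · apply le_antisymm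
    · rw [AddSubmonoid.closure_le]
      intro x hx
      simp only [G, Finset.coe_insert, Finset.coe_image, Set.mem_insert_iff, Set.mem_image,
        Finset.mem_coe] at hx
      rcases hx with rfl | ⟨i, _, rfl⟩
      · exact he
      · exact hw1 i
    · -- every Apéry element lies in the closure
      have heG : e ∈ AddSubmonoid.closure (↑G : Set ℕ) :=
        AddSubmonoid.subset_closure (by simp [G])
      have hmulG : ∀ k : ℕ, k * e ∈ AddSubmonoid.closure (↑G : Set ℕ) := fun k => by
        have := (AddSubmonoid.closure (↑G : Set ℕ)).nsmul_mem heG k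
        simpa [smul_eq_mul] using this
      have hwG1 : ∀ i, i % e ≠ F % e → w i ∈ AddSubmonoid.closure (↑G : Set ℕ) := by
        intro i hi
        by_cases h0 : i % e = 0
        · rw [← hwmod i, h0, hw0]
          exact zero_mem _
        · apply AddSubmonoid.subset_closure
          simp only [G, Finset.coe_insert, Finset.coe_image, Set.mem_insert_iff, Set.mem_image,
            Finset.mem_coe]
          right
          refine ⟨i % e, ?_, hwmod i⟩
          simp only [S, Finset.mem_filter, Finset.mem_range]
          exact ⟨Nat.mod_lt _ hepos, h0, hi⟩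
      have hΓG1 : ∀ γ ∈ Γ, γ % e ≠ F % e → γ ∈ AddSubmonoid.closure (↑G : Set ℕ) := by
        intro γ hγ hne
        obtain ⟨k, hk⟩ := hdec γ hγ
        rw [hk]
        exact add_mem (hwG1 γ hne) (hmulG k)
      -- the special Apéry element
      have hwF_G : w F ∈ AddSubmonoid.closure (↑G : Set ℕ) := by
        -- pick j ∉ {0, F % e}
        obtain ⟨j, hje, hj0, hjF⟩ : ∃ j, j < e ∧ j ≠ 0 ∧ j ≠ F % e := by
          by_cases h1 : F % e = 1
          · exact ⟨2, he2, by omega, by omega⟩
          · exact ⟨1, by omega, by omega, fun h => h1 h.symm⟩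
        have hjmod : j % e = j := Nat.mod_eq_of_lt hje
        have hwj_ne : w j ≠ 0 := by
          intro h0
          have := hw2 j
          rw [h0, hjmod] at this
          simp at this
          exact hj0 this.symm
        have hwj_ge : e ≤ w j := hemin _ (hw1 j) hwj_ne
        have hnot : w j - e ∉ Γ := by
          intro hmem
          have h1 : (w j - e) % e = j % e := by
            rw [← hw2 j]
            conv_rhs => rw [← Nat.sub_add_cancel hwj_ge]
            simp
          have := hw3 j _ hmem h1
          omega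
        have hlt : w j - e < c := by
          by_contra hge
          push Not at hge
          exact hnot (hc _ hge)
        have hδ : c - 1 - (w j - e) ∈ Γ := (hsymm _ hlt).mp hnot
        set δ := c - 1 - (w j - e) with hδdef
        have hsum : w F = w j + δ := by
          rw [hwF]; omega
        rw [hsum]
        refine add_mem (hwG1 j (by rw [hjmod]; exact hjF)) (hΓG1 δ hδ ?_)
        intro hres
        -- then w F ≤ δ
        have h1 : w F ≤ δ := hw3 F δ hδ hres
        rw [hwF] at h1
        omega
      intro γ hγ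
      obtain ⟨k, hk⟩ := hdec γ hγ
      rw [hk]
      refine add_mem ?_ (hmulG k)
      by_cases hres : γ % e = F % e
      · have : w γ = w F := by
          rw [← hwmod γ, hres, hwmod F]
        rw [this]
        exact hwF_G
      · exact hwG1 γ hres

end Groth.Agent.S15038
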