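import Groth.Statements.S15041
import Groth.Agent.Lib.Helper8E6

set_option autoImplicit false
universe u
open CategoryTheory
open TFCurv

namespace Groth.Agent.S15041

/-- Let k be an algebraically closed field of characteristic zero and A ⊂ k[[t]] the complete local ring
of the E_6 singularity, i.e. the k-subalgebra of power series all of whose exponents lie in the
semigroup generated by 3 and 4 (A = k[[t³, t⁴]]). Its rank-one torsion-free modules are A, M₁ = A +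
A·t⁵, its dual M₁* = A + A·t, M₂ = A + A·t² and M₃ = A + A·t + A·t² = k[[t]], of index 0, 1, 1, 2,
3. Then Ext¹_A(M, M) has length 2·index(M): length 2 for M₁ and for M₁*, 4 for M₂ and 6 for M₃
(length over A equals k-dimension). As End_A(M₁) = End_A(M₁*) = M₁, End_A(M₂) = M₂, End_A(M₃) = M₃
have colength 1, 1, 2, 3 over A, this is the identity χ₁(M) = dim Ext¹(M, M) − dim(End(M)/A) =
index(M). -/
theorem result (k : Type u) [Field k] [IsAlgClosed k] [CharZero k] (A : Subalgebra k (PowerSeries k)) (hmono : ∀ f : PowerSeries k, f ∈ A ↔ ∀ n : ℕ, PowerSeries.coeff n f ≠ 0 → n ∈ AddSubmonoid.closure ({3, 4} : Set ℕ)) : Module.length ↥A (Abelian.Ext (ModuleCat.of ↥A ↥(Submodule.span ↥A ({1, (PowerSeries.X : PowerSeries k) ^ 5} : Set (PowerSeries k)))) (ModuleCat.of ↥A ↥(Submodule.span ↥A ({1, (PowerSeries.X : PowerSeries k) ^ 5} : Set (PowerSeries k)))) 1) = 2 ∧ Module.length ↥A (Abelian.Ext (ModuleCat.of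 ↥A ↥(Submodule.span ↥A ({1, (PowerSeries.X : PowerSeries k)} : Set (PowerSeries k)))) (ModuleCat.of ↥A ↥(Submodule.span ↥A ({1, (PowerSeries.X : PowerSeries k)} : Set (PowerSeries k)))) 1) = 2 ∧ Module.length ↥A (Abelian.Ext (ModuleCat.of ↥A ↥(Submodule.span ↥A ({1, (PowerSeries.X : PowerSeries k) ^ 2} : Set (PowerSeries k)))) (ModuleCat.of ↥A ↥(Submodule.span ↥A ({1, (PowerSeries.X : PowerSeries k) ^ 2} : Set (PowerSeries k)))) 1) = 4 ∧ Module.length ↥A (Abelian.Ext (ModuleCat.of ↥A ↥(Submodule.span ↥A ({1, (PowerSeries.X : PowerSeries k), (PowerSeries.X : PowerSeries k) ^ 2} : Set (PowerSeries k)))) (ModuleCat.of ↥A ↥(Submodule.span ↥A ({1, (PowerSeries.X : PowerSeries k), (PowerSeries.X : PowerSeries k) ^ 2} : Set (PowerSeries k)))) 1) = 6 := by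
  classical
  set Γ : Set ℕ := ((AddSubmonoid.closure ({3, 4} : Set ℕ) : AddSubmonoid ℕ) : Set ℕ) with hΓdef
  have hΓ : ∀ n, n ∈ Γ ↔ n = 0 ∨ n = 3 ∨ n = 4 ∨ 6 ≤ n := fun n =>
    Groth.Agent.Lib.Helper8.Mon.E6_closure_char n
  have hA : ∀ f : PowerSeries k, f ∈ A ↔ f ∈ Groth.Agent.Lib.Helper8.Mon.Mon k Γ := hmono
  -- the value sets of the two-generator modules
  have hSNgen : ∀ b : ℕ, ∀ f, f ∈ Submodule.span ↥A ({1, (PowerSeries.X : PowerSeries k) ^ b} :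
      Set (PowerSeries k)) ↔ f ∈ Groth.Agent.Lib.Helper8.Mon.Mon k
        (⋃ e ∈ ({0, b} : Set ℕ), Groth.Agent.Lib.Helper8.Mon.shift e Γ) := by
    intro b f
    have himg : ({1, (PowerSeries.X : PowerSeries k) ^ b} : Set (PowerSeries k)) =
        (fun e : ℕ => (PowerSeries.X : PowerSeries k) ^ e) '' ({0, b} : Set ℕ) := by
      rw [Set.image_pair, pow_zero]
    rw [himg]
    exact Groth.Agent.Lib.Helper8.Mon.mem_span_X_pow A Γ hA _ (Set.toFinite _) f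
  have hSNchar : ∀ b n : ℕ, n ∈ (⋃ e ∈ ({0, b} : Set ℕ), Groth.Agent.Lib.Helper8.Mon.shift e Γ) ↔
      (n ∈ Γ ∨ (b ≤ n ∧ n - b ∈ Γ)) := by
    intro b n
    rw [Set.mem_iUnion₂]
    constructor
    · rintro ⟨e, he, h1, h2⟩
      rcases he with rfl | he
      · left
        exact h2
      · rw [Set.mem_singleton_iff] at he
        subst he
        exact Or.inr ⟨h1, h2⟩
    · rintro (h | ⟨h1, h2⟩)
      · exact ⟨0, by simp, Nat.zero_le _, h⟩
      · exact ⟨b, by simp, h1, h2⟩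
  refine ⟨?_, ?_, ?_, ?_⟩
  · -- `M₁ = A + A t⁵`
    set SN : Set ℕ := ⋃ e ∈ ({0, 5} : Set ℕ), Groth.Agent.Lib.Helper8.Mon.shift e Γ with hSNdef
    have hSN : ∀ n, n ∈ SN ↔ n = 0 ∨ 3 ≤ n := by
      intro n
      rw [hSNdef, hSNchar, hΓ, hΓ]
      omega
    have hc : ∀ n, 3 ≤ n → n ∈ SN := fun n hn => (hSN n).mpr (Or.inr hn)
    have hmain := Groth.Agent.Lib.Helper8.Mon.length_ext_two_gen A Γ hA 5 3 3
      ((hΓ _).mpr (by omega)) ((hΓ _).mpr (by omega)) _ SN (hSNgen 5) hc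
    rw [hmain]
    have hset : Groth.Agent.Lib.Helper8.Mon.SD Γ 5 3 SN \ Groth.Agent.Lib.Helper8.Mon.SP 5 3 SN =
        ↑({4, 5} : Finset ℕ) := by
      ext n
      rw [Set.mem_sdiff]
      unfold Groth.Agent.Lib.Helper8.Mon.SD Groth.Agent.Lib.Helper8.Mon.SP
      change ((n ∈ SN ∧ ∀ γ ∈ Γ, γ + 5 ∈ Γ → (3 ≤ n + γ ∧ n + γ - 3 ∈ SN)) ∧
        ¬ (3 ≤ n ∧ (n - 3 ∈ SN ∨ (5 ≤ n - 3 ∧ n - 3 - 5 ∈ SN)))) ↔ _
      rw [Finset.coe_insert, Finset.coe_singleton, Set.mem_insert_iff, Set.mem_singleton_iff,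
        hSN, hSN, hSN]
      constructor
      · rintro ⟨⟨h1, h2⟩, h3⟩
        have h4 := h2 4 ((hΓ _).mpr (by omega)) ((hΓ _).mpr (by omega))
        rw [hSN] at h4
        omega
      · intro h
        refine ⟨⟨by omega, fun γ hγ hγ5 => ?_⟩, by omega⟩
        rw [hΓ] at hγ hγ5
        rw [hSN]
        omega
    rw [hset, Set.ncard_coe_finset]
    rfl
  · -- `M₁* = A + A t`
    have hX1 : ({1, (PowerSeries.X : PowerSeries k)} : Set (PowerSeries k)) =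
        {1, (PowerSeries.X : PowerSeries k) ^ 1} := by rw [pow_one]
    rw [hX1]
    set SN : Set ℕ := ⋃ e ∈ ({0, 1} : Set ℕ), Groth.Agent.Lib.Helper8.Mon.shift e Γ with hSNdef
    have hSN : ∀ n, n ∈ SN ↔ n ≠ 2 := by
      intro n
      rw [hSNdef, hSNchar, hΓ, hΓ]
      omega
    have hc : ∀ n, 3 ≤ n → n ∈ SN := fun n hn => (hSN n).mpr (by omega)
    have hmain := Groth.Agent.Lib.Helper8.Mon.length_ext_two_gen A Γ hA 1 3 3
      ((hΓ _).mpr (by omega)) ((hΓ _).mpr (by omega)) _ SN (hSNgen 1) hc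
    rw [hmain]
    have hset : Groth.Agent.Lib.Helper8.Mon.SD Γ 1 3 SN \ Groth.Agent.Lib.Helper8.Mon.SP 1 3 SN =
        ↑({0, 1} : Finset ℕ) := by
      ext n
      rw [Set.mem_sdiff]
      unfold Groth.Agent.Lib.Helper8.Mon.SD Groth.Agent.Lib.Helper8.Mon.SP
      change ((n ∈ SN ∧ ∀ γ ∈ Γ, γ + 1 ∈ Γ → (3 ≤ n + γ ∧ n + γ - 3 ∈ SN)) ∧
        ¬ (3 ≤ n ∧ (n - 3 ∈ SN ∨ (1 ≤ n - 3 ∧ n - 3 - 1 ∈ SN)))) ↔ _
      rw [Finset.coe_insert, Finset.coe_singleton, Set.mem_insert_iff, Set.mem_singleton_iff,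
        hSN, hSN, hSN]
      constructor
      · rintro ⟨⟨h1, h2⟩, h3⟩
        omega
      · intro h
        refine ⟨⟨by omega, fun γ hγ hγ1 => ?_⟩, by omega⟩
        rw [hΓ] at hγ hγ1
        rw [hSN]
        omega
    rw [hset, Set.ncard_coe_finset]
    rfl
  · -- `M₂ = A + A t²`
    set SN : Set ℕ := ⋃ e ∈ ({0, 2} : Set ℕ), Groth.Agent.Lib.Helper8.Mon.shift e Γ with hSNdef
    have hSN : ∀ n, n ∈ SN ↔ n ≠ 1 := by
      intro n
      rw [hSNdef, hSNchar, hΓ, hΓ]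
      omega
    have hc : ∀ n, 2 ≤ n → n ∈ SN := fun n hn => (hSN n).mpr (by omega)
    have hmain := Groth.Agent.Lib.Helper8.Mon.length_ext_two_gen A Γ hA 2 4 2
      ((hΓ _).mpr (by omega)) ((hΓ _).mpr (by omega)) _ SN (hSNgen 2) hc
    rw [hmain]
    have hset : Groth.Agent.Lib.Helper8.Mon.SD Γ 2 4 SN \ Groth.Agent.Lib.Helper8.Mon.SP 2 4 SN =
        ↑({0, 2, 3, 5} : Finset ℕ) := by
      ext n
      rw [Set.mem_sdiff]
      unfold Groth.Agent.Lib.Helper8.Mon.SD Groth.Agent.Lib.Helper8.Mon.SP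
      change ((n ∈ SN ∧ ∀ γ ∈ Γ, γ + 2 ∈ Γ → (4 ≤ n + γ ∧ n + γ - 4 ∈ SN)) ∧
        ¬ (4 ≤ n ∧ (n - 4 ∈ SN ∨ (2 ≤ n - 4 ∧ n - 4 - 2 ∈ SN)))) ↔ _
      rw [Finset.coe_insert, Finset.coe_insert, Finset.coe_insert, Finset.coe_singleton,
        Set.mem_insert_iff, Set.mem_insert_iff, Set.mem_insert_iff, Set.mem_singleton_iff,
        hSN, hSN, hSN]
      constructor
      · rintro ⟨⟨h1, h2⟩, h3⟩
        omega
      · intro h
        refine ⟨⟨by omega, fun γ hγ hγ2 => ?_⟩, by omega⟩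
        rw [hΓ] at hγ hγ2
        rw [hSN]
        omega
    rw [hset, Set.ncard_coe_finset]
    rfl
  · exact Groth.Agent.Lib.Helper8.Mon.length_ext_E6_norm A Γ hA hΓ

end Groth.Agent.S15041
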