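import Groth.Statements.S15049
import Mathlib
import Groth.Agent.Lib.Helper11LTD

set_option autoImplicit false
universe u
open LubinTate

namespace Groth.Agent.S15049

open Groth.Agent.Lib.Helper11LT MvPowerSeries


/-- Let O be a discrete valuation ring with finite residue field of cardinality q, π a uniformizer of O,
and f = πT + T^q ∈ O[[T]]. Then there is a one-dimensional commutative formal group law F(X,Y) over
O for which f is an endomorphism, f(F(X,Y)) = F(f(X), f(Y)); and F is the unique power series in
O[[X,Y]] with zero constant term and linear part X + Y satisfying this identity. (The published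
statement is for the ring of integers of a finite extension of ℚ_p or of 𝔽_q((X)); completeness is
not used and any discrete valuation ring with finite residue field is allowed here.) -/
theorem result (O : Type u) [CommRing O] [IsDomain O] [IsDiscreteValuationRing O]
    [Finite (IsLocalRing.ResidueField O)] (π : O) (hπ : Irreducible π) (f : PowerSeries O)
    (hf : f = π • PowerSeries.X + PowerSeries.X ^ Nat.card (IsLocalRing.ResidueField O)) :
    ∃ F : FormalGroup O, F.IsComm ∧
      PowerSeries.subst F.toPowerSeries f =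
        MvPowerSeries.subst (fun i : Fin 2 => PowerSeries.subst (MvPowerSeries.X i : MvPowerSeries (Fin 2) O) f) F.toPowerSeries ∧
      ∀ G : MvPowerSeries (Fin 2) O, G.constantCoeff = 0 → G.coeff (Finsupp.single 0 1) = 1 →
        G.coeff (Finsupp.single 1 1) = 1 →
        PowerSeries.subst G f =
        MvPowerSeries.subst (fun i : Fin 2 => PowerSeries.subst (MvPowerSeries.X i : MvPowerSeries (Fin 2) O) f) G →
        G = F.toPowerSeries := by
  set q := Nat.card (IsLocalRing.ResidueField O) with hq
  have hq2 : 2 ≤ q := two_le_card O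
  have hL : 1 ≤ ((X 0 + X 1 : MvPowerSeries (Fin 2) O)).order := by
    rw [one_le_order_iff_constCoeff_eq_zero]
    simp
  obtain ⟨H, h1, eH⟩ := lt_exists O π hπ (σ := Fin 2) (X 0 + X 1) hL
  have h1' := h1
  rw [two_le_order_iff] at h1'
  obtain ⟨h10, h11⟩ := h1'
  have hH0 : constantCoeff H = 0 := by simpa using h10
  have hHX : coeff (Finsupp.single 0 1) H = 1 := by
    have := h11 0
    simpa [coeff_index_single_X, sub_eq_zero] using this
  have hHY : coeff (Finsupp.single 1 1) H = 1 := by
    have := h11 1
    simpa [coeff_index_single_X, sub_eq_zero] using this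
  -- conversion of the functional equation
  have conv : ∀ G : MvPowerSeries (Fin 2) O, constantCoeff G = 0 →
      (PowerSeries.subst G f =
        MvPowerSeries.subst (fun i : Fin 2 => PowerSeries.subst (MvPowerSeries.X i : MvPowerSeries (Fin 2) O) f) G ↔
      Phi π q G = π • G + G ^ q) := by
    intro G hG
    have h1 : PowerSeries.subst G f = π • G + G ^ q := by
      rw [hf]
      exact ps_subst_eq π q _ hG
    rw [h1, hf, av_eq_ps_subst]
    exact eq_comm
  -- associativity
  have hassoc : subst ![subst ![X 0, X 1] H, (X 2 : MvPowerSeries (Fin 3) O)] H =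
      subst ![(X 0 : MvPowerSeries (Fin 3) O), subst ![X 1, X 2] H] H := by
    have hv01 : ∀ s : Fin 2, constantCoeff
        ((![X 0, X 1] : Fin 2 → MvPowerSeries (Fin 3) O) s) = 0 := by
      intro s; fin_cases s <;> simp
    have hv12 : ∀ s : Fin 2, constantCoeff
        ((![X 1, X 2] : Fin 2 → MvPowerSeries (Fin 3) O) s) = 0 := by
      intro s; fin_cases s <;> simp
    have ev01 : ∀ s : Fin 2, Phi π q ((![X 0, X 1] : Fin 2 → MvPowerSeries (Fin 3) O) s) =
        π • (![X 0, X 1] : Fin 2 → MvPowerSeries (Fin 3) O) s +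
          (![X 0, X 1] : Fin 2 → MvPowerSeries (Fin 3) O) s ^ q := by
      intro s; fin_cases s
      · exact phi_X π q (by omega) 0
      · exact phi_X π q (by omega) 1
    have ev12 : ∀ s : Fin 2, Phi π q ((![X 1, X 2] : Fin 2 → MvPowerSeries (Fin 3) O) s) =
        π • (![X 1, X 2] : Fin 2 → MvPowerSeries (Fin 3) O) s +
          (![X 1, X 2] : Fin 2 → MvPowerSeries (Fin 3) O) s ^ q := by
      intro s; fin_cases s
      · exact phi_X π q (by omega) 1
      · exact phi_X π q (by omega) 2
    set A := subst (![X 0, X 1] : Fin 2 → MvPowerSeries (Fin 3) O) H with hA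
    set B := subst (![X 1, X 2] : Fin 2 → MvPowerSeries (Fin 3) O) H with hB
    have hA0 : constantCoeff A = 0 := constantCoeff_subst_zero _ hv01 _ hH0
    have hB0 : constantCoeff B = 0 := constantCoeff_subst_zero _ hv12 _ hH0
    have eA : Phi π q A = π • A + A ^ q := lt_subst π q (by omega) _ hv01 ev01 _ eH
    have eB : Phi π q B = π • B + B ^ q := lt_subst π q (by omega) _ hv12 ev12 _ eH
    have hl0 : ∀ s : Fin 2, constantCoeff
        ((![A, X 2] : Fin 2 → MvPowerSeries (Fin 3) O) s) = 0 := by
      intro s; fin_cases s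
      · exact hA0
      · exact constantCoeff_X 2
    have hr0 : ∀ s : Fin 2, constantCoeff
        ((![X 0, B] : Fin 2 → MvPowerSeries (Fin 3) O) s) = 0 := by
      intro s; fin_cases s
      · exact constantCoeff_X 0
      · exact hB0
    have el : ∀ s : Fin 2, Phi π q ((![A, X 2] : Fin 2 → MvPowerSeries (Fin 3) O) s) =
        π • (![A, X 2] : Fin 2 → MvPowerSeries (Fin 3) O) s +
          (![A, X 2] : Fin 2 → MvPowerSeries (Fin 3) O) s ^ q := by
      intro s; fin_cases s
      · exact eA
      · exact phi_X π q (by omega) 2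
    have er : ∀ s : Fin 2, Phi π q ((![X 0, B] : Fin 2 → MvPowerSeries (Fin 3) O) s) =
        π • (![X 0, B] : Fin 2 → MvPowerSeries (Fin 3) O) s +
          (![X 0, B] : Fin 2 → MvPowerSeries (Fin 3) O) s ^ q := by
      intro s; fin_cases s
      · exact phi_X π q (by omega) 0
      · exact eB
    refine lt_unique O π hπ (σ := Fin 3) _ _ ?_ ?_
      (lt_subst π q (by omega) _ hl0 el _ eH) (lt_subst π q (by omega) _ hr0 er _ eH) ?_
    · rw [one_le_order_iff_constCoeff_eq_zero]
      exact constantCoeff_subst_zero _ hl0 _ hH0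
    · rw [one_le_order_iff_constCoeff_eq_zero]
      exact constantCoeff_subst_zero _ hr0 _ hH0
    · have c1 := cong_fg_subst H hH0 hHX hHY (![A, X 2] : Fin 2 → MvPowerSeries (Fin 3) O) hl0
      have c2 := cong_fg_subst H hH0 hHX hHY (![X 0, B] : Fin 2 → MvPowerSeries (Fin 3) O) hr0
      have cA := cong_fg_subst H hH0 hHX hHY (![X 0, X 1] : Fin 2 → MvPowerSeries (Fin 3) O) hv01
      have cB := cong_fg_subst H hH0 hHX hHY (![X 1, X 2] : Fin 2 → MvPowerSeries (Fin 3) O) hv12
      simp only [Matrix.cons_val_zero, Matrix.cons_val_one, Matrix.cons_val_fin_one] at c1 c2 cA cB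
      have c3 : 2 ≤ ((A + X 2) - ((X 0 + X 1) + X 2) : MvPowerSeries (Fin 3) O).order :=
        cong_add cA (by simp)
      have c4 : 2 ≤ ((X 0 + B) - (X 0 + (X 1 + X 2)) : MvPowerSeries (Fin 3) O).order :=
        cong_add (by simp) cB
      rw [add_assoc] at c3
      exact cong_trans (cong_trans c1 c3) (cong_symm (cong_trans c2 c4))
  -- commutativity
  have hcomm : H = subst (![X 1, X 0] : Fin 2 → MvPowerSeries (Fin 2) O) H := by
    have hv0 : ∀ s : Fin 2, constantCoeff
        ((![X 1, X 0] : Fin 2 → MvPowerSeries (Fin 2) O) s) = 0 := by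
      intro s; fin_cases s <;> simp
    have ev : ∀ s : Fin 2, Phi π q ((![X 1, X 0] : Fin 2 → MvPowerSeries (Fin 2) O) s) =
        π • (![X 1, X 0] : Fin 2 → MvPowerSeries (Fin 2) O) s +
          (![X 1, X 0] : Fin 2 → MvPowerSeries (Fin 2) O) s ^ q := by
      intro s; fin_cases s
      · exact phi_X π q (by omega) 1
      · exact phi_X π q (by omega) 0
    refine lt_unique O π hπ (σ := Fin 2) _ _ ?_ ?_ eH (lt_subst π q (by omega) _ hv0 ev _ eH) ?_
    · rw [one_le_order_iff_constCoeff_eq_zero]; exact hH0
    · rw [one_le_order_iff_constCoeff_eq_zero]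
      exact constantCoeff_subst_zero _ hv0 _ hH0
    · have c1 := cong_fg_subst H hH0 hHX hHY (![X 1, X 0] : Fin 2 → MvPowerSeries (Fin 2) O) hv0
      simp only [Matrix.cons_val_zero, Matrix.cons_val_one, Matrix.cons_val_fin_one] at c1
      rw [add_comm] at c1
      exact cong_trans h1 (cong_symm c1)
  refine ⟨⟨H, hH0, hHX, hHY, hassoc⟩, ⟨hcomm⟩, ?_, ?_⟩
  · exact (conv H hH0).mpr eH
  · intro G hG0 hGX hGY hG
    have eG := (conv G hG0).mp hG
    refine lt_unique O π hπ (σ := Fin 2) _ _ ?_ ?_ eG eH ?_
    · rw [one_le_order_iff_constCoeff_eq_zero]; exact hG0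
    · rw [one_le_order_iff_constCoeff_eq_zero]; exact hH0
    · exact cong_trans (cong_fg G hG0 hGX hGY) (cong_symm h1)

end Groth.Agent.S15049
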