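import Groth.Statements.S15050
import Mathlib
import Groth.Agent.Lib.Helper11LTC

set_option autoImplicit false
universe u
open LubinTate

namespace Groth.Agent.S15050

open Groth.Agent.Lib.Helper11LT MvPowerSeries


/-- Let O be a discrete valuation ring with finite residue field of cardinality q, π a uniformizer of O,
and f = πT + T^q ∈ O[[T]]. For every α ∈ O there is a unique power series g = [α] ∈ O[[T]] with zero
constant term and linear coefficient α which commutes with f under substitution, g(f(T)) = f(g(T)).
(The published statement is for the ring of integers of a finite extension of ℚ_p or of 𝔽_q((X));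
completeness is not used and any discrete valuation ring with finite residue field is allowed here.) -/
theorem result (O : Type u) [CommRing O] [IsDomain O] [IsDiscreteValuationRing O]
    [Finite (IsLocalRing.ResidueField O)] (π : O) (hπ : Irreducible π) (f : PowerSeries O)
    (hf : f = π • PowerSeries.X + PowerSeries.X ^ Nat.card (IsLocalRing.ResidueField O)) (α : O) :
    ∃! g : PowerSeries O, g.constantCoeff = 0 ∧ g.coeff 1 = α ∧
      PowerSeries.subst g f = PowerSeries.subst f g := by
  set q := Nat.card (IsLocalRing.ResidueField O) with hq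
  have hq2 : 2 ≤ q := two_le_card O
  have hav : (fun _ : Unit => f) = av π q := by
    funext i
    rw [hf]
    rfl
  have hphi : ∀ g : PowerSeries O, PowerSeries.subst f g = Phi π q g := by
    intro g
    show MvPowerSeries.subst (fun _ : Unit => f) g = _
    rw [hav]
    rfl
  have hss : ∀ g : PowerSeries O, PowerSeries.constantCoeff g = 0 →
      PowerSeries.subst g f = π • g + g ^ q := by
    intro g hg
    rw [hf]
    exact ps_subst_eq π q g hg
  have hL : 1 ≤ MvPowerSeries.order (α • (PowerSeries.X : PowerSeries O)) := by
    rw [one_le_order_iff_constCoeff_eq_zero]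
    show PowerSeries.constantCoeff (α • (PowerSeries.X : PowerSeries O)) = 0
    simp
  obtain ⟨H, h1, h2⟩ := lt_exists O π hπ (σ := Unit) (α • (PowerSeries.X : PowerSeries O)) hL
  rw [two_le_order_iff] at h1
  obtain ⟨h10, h11⟩ := h1
  have hH0 : PowerSeries.constantCoeff (H : PowerSeries O) = 0 := by
    have : PowerSeries.constantCoeff ((H : PowerSeries O) - α • PowerSeries.X) = 0 := h10
    simpa using this
  have hH1 : PowerSeries.coeff 1 (H : PowerSeries O) = α := by
    have : PowerSeries.coeff 1 ((H : PowerSeries O) - α • PowerSeries.X) = 0 := h11 ()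
    simpa [sub_eq_zero] using this
  refine ⟨H, ⟨hH0, hH1, ?_⟩, ?_⟩
  · rw [hss H hH0, hphi H]
    exact h2.symm
  · rintro g ⟨hg0, hg1, hg2⟩
    rw [hss g hg0, hphi g] at hg2
    refine lt_unique O π hπ (σ := Unit) g H ?_ ?_ hg2.symm h2 ?_
    · rw [one_le_order_iff_constCoeff_eq_zero]; exact hg0
    · rw [one_le_order_iff_constCoeff_eq_zero]; exact hH0
    · rw [two_le_order_iff]
      refine ⟨?_, fun i => ?_⟩
      · show PowerSeries.constantCoeff (g - (H : PowerSeries O)) = 0
        rw [map_sub, hg0, hH0, sub_zero]
      · show PowerSeries.coeff 1 (g - (H : PowerSeries O)) = 0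
        rw [map_sub, hg1, hH1, sub_self]

end Groth.Agent.S15050
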