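import Groth.Statements.S15051
import Mathlib
import Groth.Agent.Lib.Helper11LTD

set_option autoImplicit false
universe u
open LubinTate

namespace Groth.Agent.S15051

open Groth.Agent.Lib.Helper11LT MvPowerSeries


/-- Let O be a discrete valuation ring with finite residue field of cardinality q, π a uniformizer of O,
and f = πT + T^q ∈ O[[T]]; let F be a one-dimensional formal group law over O for which f is an
endomorphism, f(F(X,Y)) = F(f(X), f(Y)), and g ∈ O[[T]] a power series with zero constant term which
commutes with f, g(f(T)) = f(g(T)). Then g is an endomorphism of F, that is g(F(X,Y)) = F(g(X),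
g(Y)); so α ↦ [α] maps O into the endomorphisms of the Lubin–Tate formal group. (The published
statement is for the ring of integers of a finite extension of ℚ_p or of 𝔽_q((X)); completeness is
not used and any discrete valuation ring with finite residue field is allowed here.) -/
theorem result (O : Type u) [CommRing O] [IsDomain O] [IsDiscreteValuationRing O]
    [Finite (IsLocalRing.ResidueField O)] (π : O) (hπ : Irreducible π) (f : PowerSeries O)
    (hf : f = π • PowerSeries.X + PowerSeries.X ^ Nat.card (IsLocalRing.ResidueField O))
    (F : FormalGroup O)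
    (hF : PowerSeries.subst F.toPowerSeries f =
        MvPowerSeries.subst (fun i : Fin 2 => PowerSeries.subst (MvPowerSeries.X i : MvPowerSeries (Fin 2) O) f) F.toPowerSeries)
    (g : PowerSeries O) (hg0 : g.constantCoeff = 0)
    (hgf : PowerSeries.subst g f = PowerSeries.subst f g) :
    PowerSeries.subst F.toPowerSeries g =
      MvPowerSeries.subst (fun i : Fin 2 => PowerSeries.subst (MvPowerSeries.X i : MvPowerSeries (Fin 2) O) g)
        F.toPowerSeries := by
  set q := Nat.card (IsLocalRing.ResidueField O) with hq
  have hq2 : 2 ≤ q := two_le_card O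
  have hav : (fun _ : Unit => f) = av π q := by
    funext i
    rw [hf]
    rfl
  have hphi : ∀ g : PowerSeries O, PowerSeries.subst f g = Phi π q g := by
    intro g
    show MvPowerSeries.subst (fun _ : Unit => f) g = _
    rw [hav]
    rfl
  have hss : ∀ g : PowerSeries O, PowerSeries.constantCoeff g = 0 →
      PowerSeries.subst g f = π • g + g ^ q := by
    intro g hg
    rw [hf]
    exact ps_subst_eq π q g hg
  have eg : Phi π q (g : MvPowerSeries Unit O) = π • g + g ^ q := by
    rw [← hphi, ← hgf, hss g hg0]
  have eF : Phi π q F.toPowerSeries = π • F.toPowerSeries + F.toPowerSeries ^ q := by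
    have h1 : PowerSeries.subst F.toPowerSeries f = π • F.toPowerSeries + F.toPowerSeries ^ q := by
      rw [hf]
      exact ps_subst_eq π q _ F.zero_constantCoeff
    rw [← h1, hF, hf, av_eq_ps_subst]
    rfl
  -- left side
  have hl0 : constantCoeff (subst (fun _ : Unit => F.toPowerSeries) g) = 0 :=
    constantCoeff_subst_zero _ (fun _ => F.zero_constantCoeff) g hg0
  have el := lt_subst π q (by omega) (fun _ : Unit => F.toPowerSeries)
    (fun _ => F.zero_constantCoeff) (fun _ => eF) g eg
  -- right side
  have ha0 : ∀ i : Fin 2, constantCoeff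
      (PowerSeries.subst (MvPowerSeries.X i : MvPowerSeries (Fin 2) O) g) = 0 := by
    intro i
    exact constantCoeff_subst_zero (fun _ : Unit => (X i : MvPowerSeries (Fin 2) O))
      (fun _ => constantCoeff_X i) g hg0
  have ha : ∀ i : Fin 2, Phi π q (PowerSeries.subst (MvPowerSeries.X i : MvPowerSeries (Fin 2) O) g) =
      π • (PowerSeries.subst (MvPowerSeries.X i : MvPowerSeries (Fin 2) O) g) +
        (PowerSeries.subst (MvPowerSeries.X i : MvPowerSeries (Fin 2) O) g) ^ q := by
    intro i
    exact lt_subst π q (by omega) (fun _ : Unit => (X i : MvPowerSeries (Fin 2) O))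
      (fun _ => constantCoeff_X i) (fun _ => phi_X π q (by omega) i) g eg
  have hr0 := constantCoeff_subst_zero _ ha0 _ F.zero_constantCoeff
  have er := lt_subst π q (by omega) _ ha0 ha _ eF
  refine lt_unique O π hπ (σ := Fin 2) _ _ ?_ ?_ el er ?_
  · rw [one_le_order_iff_constCoeff_eq_zero]; exact hl0
  · rw [one_le_order_iff_constCoeff_eq_zero]; exact hr0
  · have c1 := cong_ps_subst g hg0 F.toPowerSeries F.zero_constantCoeff
    have c2 := cong_smul (PowerSeries.coeff 1 g)
      (cong_fg F.toPowerSeries F.zero_constantCoeff F.lin_coeff_X F.lin_coeff_Y)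
    have c3 := cong_fg_subst F.toPowerSeries F.zero_constantCoeff F.lin_coeff_X F.lin_coeff_Y
      (fun i : Fin 2 => PowerSeries.subst (MvPowerSeries.X i : MvPowerSeries (Fin 2) O) g) ha0
    have c4 := cong_add (cong_ps_subst g hg0 (X 0 : MvPowerSeries (Fin 2) O) (constantCoeff_X 0))
      (cong_ps_subst g hg0 (X 1 : MvPowerSeries (Fin 2) O) (constantCoeff_X 1))
    rw [smul_add] at c2
    exact cong_trans (cong_trans c1 c2) (cong_symm (cong_trans c3 c4))

end Groth.Agent.S15051
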