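import Groth.Statements.S15052
import Mathlib
import Groth.Agent.Lib.Helper11LTE

set_option autoImplicit false
universe u
open LubinTate

namespace Groth.Agent.S15052

open Groth.Agent.Lib.Helper11LT MvPowerSeries


/-- Let O be a discrete valuation ring with finite residue field of cardinality q, π a uniformizer of O,
and f = πT + T^q ∈ O[[T]]; let K be the fraction field of O and F a one-dimensional formal group law
over O for which f is an endomorphism, f(F(X,Y)) = F(f(X), f(Y)). Then there is a unique power
series ℓ ∈ K[[T]] with zero constant term and linear coefficient 1 such that ℓ(f(T)) = π·ℓ(T); this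
logarithm is a homomorphism to the additive formal group, ℓ(F(T,S)) = ℓ(T) + ℓ(S), and it is
O-linear in the sense that ℓ(g(T)) = α·ℓ(T) for every α ∈ O and every series g ∈ O[[T]] with zero
constant term and linear coefficient α commuting with f. (The published statement is for the ring of
integers of a finite extension of ℚ_p; completeness is not used and any discrete valuation ring with
finite residue field is allowed here.) -/
theorem result (O : Type u) [CommRing O] [IsDomain O] [IsDiscreteValuationRing O]
    [Finite (IsLocalRing.ResidueField O)] (K : Type u) [Field K] [Algebra O K] [IsFractionRing O K]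
    (π : O) (hπ : Irreducible π) (f : PowerSeries O)
    (hf : f = π • PowerSeries.X + PowerSeries.X ^ Nat.card (IsLocalRing.ResidueField O))
    (F : FormalGroup O)
    (hF : PowerSeries.subst F.toPowerSeries f =
        MvPowerSeries.subst (fun i : Fin 2 => PowerSeries.subst (MvPowerSeries.X i : MvPowerSeries (Fin 2) O) f) F.toPowerSeries) :
    ∃ ℓ : PowerSeries K, (ℓ.constantCoeff = 0 ∧ ℓ.coeff 1 = 1 ∧
      PowerSeries.subst (PowerSeries.map (algebraMap O K) f) ℓ = algebraMap O K π • ℓ) ∧
      (∀ ℓ' : PowerSeries K, ℓ'.constantCoeff = 0 → ℓ'.coeff 1 = 1 →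
        PowerSeries.subst (PowerSeries.map (algebraMap O K) f) ℓ' = algebraMap O K π • ℓ' → ℓ' = ℓ) ∧
      PowerSeries.subst ((F.toPowerSeries).map (algebraMap O K)) ℓ =
        PowerSeries.subst (MvPowerSeries.X (0 : Fin 2) : MvPowerSeries (Fin 2) K) ℓ +
          PowerSeries.subst (MvPowerSeries.X (1 : Fin 2) : MvPowerSeries (Fin 2) K) ℓ ∧
      (∀ (α : O) (g : PowerSeries O), g.constantCoeff = 0 → g.coeff 1 = α →
        PowerSeries.subst g f = PowerSeries.subst f g →
        PowerSeries.subst (PowerSeries.map (algebraMap O K) g) ℓ = algebraMap O K α • ℓ) := by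
  set q := Nat.card (IsLocalRing.ResidueField O) with hq
  have hq2 : 2 ≤ q := two_le_card O
  set φ := algebraMap O K with hφ
  set c := φ π with hc
  have hinj : Function.Injective φ := IsFractionRing.injective O K
  have hc0 : c ≠ 0 := by
    intro h
    exact hπ.ne_zero (hinj (by rw [← hc, h, map_zero]))
  have hc1 : ∀ r : ℕ, 1 ≤ r → c ^ r ≠ 1 := by
    intro r hr h
    apply pow_ne_one O π hπ r hr
    apply hinj
    rw [map_pow, map_one]
    exact h
  -- the series over O in LT form
  have hav : (fun _ : Unit => f) = av π q := by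
    funext i
    rw [hf]
    rfl
  have hphi : ∀ g : PowerSeries O, PowerSeries.subst f g = Phi π q g := by
    intro g
    show MvPowerSeries.subst (fun _ : Unit => f) g = _
    rw [hav]
    rfl
  have hss : ∀ g : PowerSeries O, PowerSeries.constantCoeff g = 0 →
      PowerSeries.subst g f = π • g + g ^ q := by
    intro g hg
    rw [hf]
    exact ps_subst_eq π q g hg
  have eF : Phi π q F.toPowerSeries = π • F.toPowerSeries + F.toPowerSeries ^ q := by
    have h1 : PowerSeries.subst F.toPowerSeries f = π • F.toPowerSeries + F.toPowerSeries ^ q := by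
      rw [hf]
      exact ps_subst_eq π q _ F.zero_constantCoeff
    rw [← h1, hF, hf, av_eq_ps_subst]
    rfl
  set FK := (F.toPowerSeries).map φ with hFK
  have eFK : Phi c q FK = c • FK + FK ^ q := map_lt φ π q (by omega) _ eF
  have hFK0 : constantCoeff FK = 0 := by
    rw [hFK, constantCoeff_map, F.zero_constantCoeff, map_zero]
  have hFKX : coeff (Finsupp.single 0 1) FK = 1 := by
    rw [hFK, coeff_map, F.lin_coeff_X, map_one]
  have hFKY : coeff (Finsupp.single 1 1) FK = 1 := by
    rw [hFK, coeff_map, F.lin_coeff_Y, map_one]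
  -- f over K
  have hfK : (fun _ : Unit => PowerSeries.map φ f) = av c q := by
    funext i
    rw [hf]
    show MvPowerSeries.map φ (av π q ()) = _
    exact map_av φ π q ()
  have hphiK : ∀ g : PowerSeries K, PowerSeries.subst (PowerSeries.map φ f) g = Phi c q g := by
    intro g
    show MvPowerSeries.subst (fun _ : Unit => PowerSeries.map φ f) g = _
    rw [hfK]
    rfl
  -- existence
  have hL : 1 ≤ MvPowerSeries.order ((PowerSeries.X : PowerSeries K)) := by
    rw [one_le_order_iff_constCoeff_eq_zero]
    show PowerSeries.constantCoeff (PowerSeries.X : PowerSeries K) = 0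
    simp
  obtain ⟨ℓ, h1, eℓ⟩ := lin_exists K c q hq2 hc0 hc1 (σ := Unit) (PowerSeries.X : PowerSeries K) hL
  have h1' := h1
  rw [two_le_order_iff] at h1'
  obtain ⟨h10, h11⟩ := h1'
  have hℓ0 : PowerSeries.constantCoeff (ℓ : PowerSeries K) = 0 := by
    have : PowerSeries.constantCoeff ((ℓ : PowerSeries K) - PowerSeries.X) = 0 := h10
    simpa using this
  have hℓ1 : PowerSeries.coeff 1 (ℓ : PowerSeries K) = 1 := by
    have : PowerSeries.coeff 1 ((ℓ : PowerSeries K) - PowerSeries.X) = 0 := h11 ()
    simpa [sub_eq_zero] using this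
  refine ⟨ℓ, ⟨hℓ0, hℓ1, ?_⟩, ?_, ?_, ?_⟩
  · rw [hphiK]; exact eℓ
  · intro ℓ' h0 h1' e'
    rw [hphiK] at e'
    rw [← sub_eq_zero]
    refine lin_unique K c q hq2 hc0 hc1 (σ := Unit) _ ?_ ?_
    · rw [two_le_order_iff]
      refine ⟨?_, fun i => ?_⟩
      · show PowerSeries.constantCoeff (ℓ' - (ℓ : PowerSeries K)) = 0
        rw [map_sub, h0, hℓ0, sub_zero]
      · show PowerSeries.coeff 1 (ℓ' - (ℓ : PowerSeries K)) = 0
        rw [map_sub, h1', hℓ1, sub_self]
    · rw [phi_sub c q (by omega), e', eℓ, smul_sub]
  · -- additivity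
    rw [← sub_eq_zero]
    have e1 := lin_subst c q (by omega) (fun _ : Unit => FK) (fun _ => hFK0) (fun _ => eFK) ℓ eℓ
    have e2 : ∀ i : Fin 2, Phi c q (PowerSeries.subst (X i : MvPowerSeries (Fin 2) K) ℓ) =
        c • PowerSeries.subst (X i : MvPowerSeries (Fin 2) K) ℓ := by
      intro i
      exact lin_subst c q (by omega) (fun _ : Unit => (X i : MvPowerSeries (Fin 2) K))
        (fun _ => constantCoeff_X i) (fun _ => phi_X c q (by omega) i) ℓ eℓ
    refine lin_unique K c q hq2 hc0 hc1 (σ := Fin 2) _ ?_ ?_
    · have c1 := cong_ps_subst ℓ hℓ0 FK hFK0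
      rw [hℓ1, one_smul] at c1
      have c2 := cong_fg FK hFK0 hFKX hFKY
      have c3 := cong_add (cong_ps_subst ℓ hℓ0 (X 0 : MvPowerSeries (Fin 2) K) (constantCoeff_X 0))
        (cong_ps_subst ℓ hℓ0 (X 1 : MvPowerSeries (Fin 2) K) (constantCoeff_X 1))
      rw [hℓ1, one_smul, one_smul] at c3
      exact cong_trans (cong_trans c1 c2) (cong_symm c3)
    · rw [phi_sub c q (by omega), phi_add c q (by omega)]
      show Phi c q (subst (fun _ : Unit => FK) ℓ) - _ = _
      rw [e1, e2 0, e2 1, smul_sub, smul_add]
      rfl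
  · -- O-linearity
    intro α g hg0 hg1 hgf
    have eg : Phi π q (g : MvPowerSeries Unit O) = π • g + g ^ q := by
      rw [← hphi, ← hgf, hss g hg0]
    set gK : PowerSeries K := PowerSeries.map φ g with hgK
    have egK : Phi c q (gK : MvPowerSeries Unit K) = c • gK + gK ^ q :=
      map_lt φ π q (by omega) (g : MvPowerSeries Unit O) eg
    have hgK0 : PowerSeries.constantCoeff gK = 0 := by
      rw [hgK]
      show MvPowerSeries.constantCoeff (MvPowerSeries.map φ g) = 0
      rw [constantCoeff_map]
      show φ (PowerSeries.constantCoeff g) = 0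
      rw [hg0, map_zero]
    have hgK1 : PowerSeries.coeff 1 gK = φ α := by
      rw [hgK, PowerSeries.coeff_map, hg1]
    have e1 := lin_subst c q (by omega) (fun _ : Unit => (gK : MvPowerSeries Unit K))
      (fun _ => hgK0) (fun _ => egK) ℓ eℓ
    rw [← sub_eq_zero]
    refine lin_unique K c q hq2 hc0 hc1 (σ := Unit) _ ?_ ?_
    · have c1 := cong_ps_subst ℓ hℓ0 (gK : MvPowerSeries Unit K) hgK0
      rw [hℓ1, one_smul] at c1
      have c2 := cong_ps gK hgK0
      rw [hgK1] at c2
      have c3 := cong_smul (φ α) h1
      exact cong_trans (cong_trans c1 c2) (cong_symm c3)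
    · rw [phi_sub c q (by omega), phi_smul c q (by omega)]
      show Phi c q (subst (fun _ : Unit => (gK : MvPowerSeries Unit K)) ℓ) - _ = _
      rw [e1, eℓ, smul_sub, smul_comm]
      rfl

end Groth.Agent.S15052
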