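import Groth.Statements.S15054
-- import your own Groth.Agent.* helpers here

set_option autoImplicit false
universe u
open CategoryTheory CategoryTheory.Limits MonoidalCategory CartesianMonoidalCategory MonObj GrpObj AlgebraicGeometry
open BTGrp

namespace Groth.Agent.S15054

section aux

variable {S : Scheme.{u}}

theorem isKernel_iff {N G Q : Over S} [GrpObj Q] (i : N ⟶ G) (q : G ⟶ Q) :
    AlgGrp.IsKernel i q ↔ (i ≫ q = 1 ∧ ∀ (T : Over S) (x : T ⟶ G), x ≫ q = 1 → ∃! y : T ⟶ N, y ≫ i = x) := by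
  constructor
  · intro hk
    have hw : i ≫ q = toUnit N ≫ η[Q] := hk.w
    refine ⟨by rw [hw, Hom.one_def], ?_⟩
    intro T x hx
    rw [Hom.one_def] at hx
    refine ⟨hk.lift x (toUnit T) hx, hk.lift_fst _ _ _, ?_⟩
    intro y hy
    apply hk.hom_ext
    · rw [hy, hk.lift_fst]
    · exact toUnit_unique _ _
  · rintro ⟨h1, h2⟩
    have hw : i ≫ q = toUnit N ≫ η[Q] := by rw [h1, Hom.one_def]
    have hs : ∀ s : PullbackCone q η[Q], s.fst ≫ q = 1 := by
      intro s
      rw [s.condition, Hom.one_def, toUnit_unique s.snd (toUnit _)]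
    refine ⟨⟨hw⟩, ⟨PullbackCone.IsLimit.mk hw
      (fun s => (h2 s.pt s.fst (hs s)).choose)
      (fun s => (h2 s.pt s.fst (hs s)).choose_spec.1)
      (fun s => toUnit_unique _ _)
      (fun s m hm1 _ => (h2 s.pt s.fst (hs s)).choose_spec.2 m hm1)⟩⟩

end aux

/-- Let ℓ be a prime and G = (G_ν)_ν an ℓ-divisible (Barsotti–Tate) group of height h over a scheme S,
given as the system of its finite locally free layers G_ν of order ℓ^{νh} with inclusions G_ν →
G_{ν+1} exhibiting G_ν as the ℓ^ν-torsion of G_{ν+1} and projections G_{ν+1} → G_ν (multiplication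
by ℓ). Let i_t : G_1 → G_{t+1} denote the iterated inclusions, pinned by i_0 = id and i_{t+1} = i_t
followed by G_{t+1} → G_{t+2}. Then for every t, i_t identifies G_1 with the kernel of
multiplication by ℓ on G_{t+1}: the ℓ-torsion of every layer is the first layer. (The published
statement identifies G_v with the ℓ^v-torsion of G_{v+t} for all v; this row is its case v = 1. The
published base is the spectrum of a Noetherian ring; the argument is formal and any base scheme is
allowed here.) -/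
theorem result {S : Scheme.{u}} (ℓ h : ℕ) [Fact ℓ.Prime] (G : BTGrp.ProBT ℓ S h)
    (i : (t : ℕ) → (G.G 1 ⟶ G.G (t + 1))) (hi0 : i 0 = 𝟙 (G.G 1))
    (hi : ∀ t : ℕ, i (t + 1) = i t ≫ G.incl (t + 1)) (t : ℕ) :
    AlgGrp.IsKernel (i t) ((𝟙 (G.G (t + 1))) ^ ℓ) := by
  induction t with
  | zero =>
    rw [hi0, isKernel_iff]
    have h0 := (isKernel_iff _ _).mp (G.isKernel 0)
    have hincl : G.incl 0 = 1 := by
      have := h0.1
      rw [pow_zero, pow_one, Category.comp_id] at this
      exact this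
    have hℓ : (𝟙 (G.G (0 + 1))) ^ ℓ = 1 := by
      rw [← G.proj_incl 0, hincl, MonObj.comp_one]
    refine ⟨by rw [Category.id_comp]; exact hℓ, ?_⟩
    intro T x _
    exact ⟨x, Category.comp_id x, fun y hy => by rw [← hy, Category.comp_id]⟩
  | succ t ih =>
    rw [hi, isKernel_iff]
    have ih' := (isKernel_iff _ _).mp ih
    have hk := (isKernel_iff _ _).mp (G.isKernel (t + 1))
    refine ⟨?_, ?_⟩
    · rw [MonObj.comp_pow, Category.comp_id, ← MonObj.pow_comp]
      have : (i t) ^ ℓ = 1 := by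
        have := ih'.1
        rwa [MonObj.comp_pow, Category.comp_id] at this
      rw [this, MonObj.one_comp]
    · intro T x hx
      rw [MonObj.comp_pow, Category.comp_id] at hx
      have hx' : x ≫ (𝟙 (G.G (t + 1 + 1))) ^ (ℓ ^ (t + 1)) = 1 := by
        rw [MonObj.comp_pow, Category.comp_id, pow_succ', pow_mul, hx, one_pow]
      obtain ⟨y, hy, hyu⟩ := hk.2 T x hx'
      have hyℓ : y ^ ℓ = 1 := by
        have h1 : (y ^ ℓ) ≫ G.incl (t + 1) = 1 := by
          rw [MonObj.pow_comp, hy, hx]
        have h11 : (1 : T ⟶ G.G (t + 1 + 1)) ≫ (𝟙 (G.G (t + 1 + 1))) ^ (ℓ ^ (t + 1)) = 1 := by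
          rw [MonObj.comp_pow, Category.comp_id, one_pow]
        obtain ⟨w, _, hwu⟩ := hk.2 T 1 h11
        rw [hwu (y ^ ℓ) h1, hwu 1 (MonObj.one_comp _)]
      have hy' : y ≫ (𝟙 (G.G (t + 1))) ^ ℓ = 1 := by
        rw [MonObj.comp_pow, Category.comp_id, hyℓ]
      obtain ⟨z, hz, hzu⟩ := ih'.2 T y hy'
      refine ⟨z, ?_, ?_⟩
      · show z ≫ i t ≫ G.incl (t + 1) = x
        rw [← Category.assoc, hz, hy]
      · intro z' hz'
        have hz'' : z' ≫ i t ≫ G.incl (t + 1) = x := hz'
        apply hzu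
        apply hyu
        show (z' ≫ i t) ≫ G.incl (t + 1) = x
        rw [Category.assoc, hz'']

end Groth.Agent.S15054
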