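import Groth.Statements.S15056
import Mathlib

set_option autoImplicit false
universe u
open scoped TensorProduct
open FrobAlg

namespace Groth.Agent.S15056
open TensorProduct

section
variable {R : Type u} [CommRing R] {A : Type u} [CommRing A] [Algebra R A] (ε : A →ₐ[R] R)

theorem sub_mem_ker (a : A) : ε (a - algebraMap R A (ε a)) = 0 := by
  rw [map_sub, AlgHom.commutes]; simp

/-- The base-changed augmentation `K ⊗ A → K`. -/
noncomputable def augK (K : Type u) [Field K] [Algebra R K] : K ⊗[R] A →ₐ[K] K :=
  Algebra.TensorProduct.lift (AlgHom.id K K) ((Algebra.ofId R K).comp ε) (fun _ _ => Commute.all _ _)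

theorem augK_tmul (K : Type u) [Field K] [Algebra R K] (c : K) (a : A) :
    augK ε K (c ⊗ₜ a) = c * algebraMap R K (ε a) := by
  simp [augK, Algebra.ofId_apply]

theorem isNilpotent_sub_augK (K : Type u) [Field K] [Algebra R K]
    (h : ∀ a : A, ε a = 0 → IsNilpotent a) (b : K ⊗[R] A) :
    IsNilpotent (b - algebraMap K (K ⊗[R] A) (augK ε K b)) := by
  induction b using TensorProduct.induction_on with
  | zero => simp
  | tmul c a =>
    have h1 : (c ⊗ₜ[R] a : K ⊗[R] A) - algebraMap K (K ⊗[R] A) (augK ε K (c ⊗ₜ a)) =
        (c ⊗ₜ[R] (1 : A)) * ((1 : K) ⊗ₜ[R] (a - algebraMap R A (ε a))) := by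
      rw [augK_tmul, Algebra.TensorProduct.algebraMap_apply, Algebra.TensorProduct.tmul_mul_tmul,
        mul_one, one_mul, TensorProduct.tmul_sub]
      congr 1
      simp only [Algebra.algebraMap_self, RingHom.id_apply]
      rw [Algebra.algebraMap_eq_smul_one (A := A), ← TensorProduct.smul_tmul, Algebra.smul_def,
        mul_comm]
    rw [h1]
    apply Commute.isNilpotent_mul_left (Commute.all _ _)
    obtain ⟨n, hn⟩ := h _ (sub_mem_ker ε a)
    exact ⟨n, by rw [Algebra.TensorProduct.tmul_pow, hn, one_pow, TensorProduct.tmul_zero]⟩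
  | add x y hx hy =>
    have : x + y - algebraMap K (K ⊗[R] A) (augK ε K (x + y)) =
        (x - algebraMap K (K ⊗[R] A) (augK ε K x)) + (y - algebraMap K (K ⊗[R] A) (augK ε K y)) := by
      rw [map_add, map_add]; ring
    rw [this]
    exact Commute.isNilpotent_add (Commute.all _ _) hx hy

theorem isLocalRing_of_nil (K : Type u) [Field K] [Algebra R K]
    (h : ∀ a : A, ε a = 0 → IsNilpotent a) : IsLocalRing (K ⊗[R] A) := by
  have : Nontrivial (K ⊗[R] A) := (augK ε K).toRingHom.domain_nontrivial
  apply IsLocalRing.of_isUnit_or_isUnit_one_sub_self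
  intro b
  have hn := isNilpotent_sub_augK ε K h b
  by_cases h0 : augK ε K b = 0
  · right
    rw [h0, map_zero, sub_zero] at hn
    exact hn.isUnit_one_sub
  · left
    have hu : IsUnit (algebraMap K (K ⊗[R] A) (augK ε K b)) := (IsUnit.mk0 _ h0).map _
    have := hn.isUnit_add_left_of_commute hu (Commute.all _ _)
    simpa using this

theorem finite_of_nil [Algebra.FiniteType R A]
    (h : ∀ a : A, ε a = 0 → IsNilpotent a) : Module.Finite R A := by
  have : Algebra.IsIntegral R A := ⟨fun a => by
    have h1 : IsIntegral R (a - algebraMap R A (ε a)) := by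
      obtain ⟨n, hn⟩ := h _ (sub_mem_ker ε a)
      rcases Nat.eq_zero_or_pos n with rfl | hpos
      · rw [pow_zero] at hn
        have : Subsingleton A := subsingleton_of_zero_eq_one hn.symm
        rw [Subsingleton.elim (a - algebraMap R A (ε a)) 0]
        exact isIntegral_zero
      · exact IsIntegral.of_pow hpos (hn ▸ isIntegral_zero)
    have := h1.add (isIntegral_algebraMap (x := ε a))
    simpa using this⟩
  exact Algebra.IsIntegral.finite

theorem nil_of_local
    (H : ∀ (K : Type u) [Field K] [IsAlgClosed K] [Algebra R K], IsLocalRing (K ⊗[R] A))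
    (a : A) (ha : ε a = 0) : a ∈ nilradical A := by
  rw [nilradical_eq_sInf, Ideal.mem_sInf]
  intro q hq
  have hq' : q.IsPrime := hq
  let k := q.ResidueField
  let K := AlgebraicClosure k
  have hloc := H K
  let φ : K ⊗[R] A →ₐ[K] K :=
    Algebra.TensorProduct.lift (AlgHom.id K K) (IsScalarTower.toAlgHom R A K)
      (fun _ _ => Commute.all _ _)
  have hφs : Function.Surjective φ := fun c => ⟨algebraMap K _ c, by simp [φ]⟩
  have hεs : Function.Surjective (augK ε K) := fun c => ⟨algebraMap K _ c, by simp [augK]⟩
  have h1 : RingHom.ker φ.toRingHom = IsLocalRing.maximalIdeal _ :=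
    IsLocalRing.eq_maximalIdeal (RingHom.ker_isMaximal_of_surjective _ hφs)
  have h2 : RingHom.ker (augK ε K).toRingHom = IsLocalRing.maximalIdeal _ :=
    IsLocalRing.eq_maximalIdeal (RingHom.ker_isMaximal_of_surjective _ hεs)
  have h3 : ((1 : K) ⊗ₜ[R] a : K ⊗[R] A) ∈ RingHom.ker φ.toRingHom := by
    rw [h1, ← h2, RingHom.mem_ker]
    change augK ε K _ = 0
    rw [augK_tmul, ha]; simp
  rw [RingHom.mem_ker] at h3
  have h4 : algebraMap A K a = 0 := by
    have : φ ((1 : K) ⊗ₜ[R] a) = algebraMap A K a := by simp [φ]
    rw [← this]; exact h3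
  rw [IsScalarTower.algebraMap_apply A k K, map_eq_zero] at h4
  rwa [Ideal.algebraMap_residueField_eq_zero] at h4

end


/-- Let p be a prime number, R a Noetherian ring of characteristic p and A a finitely generated
commutative Hopf algebra over R (an affine algebraic R-group G = Spec A). The n-fold relative
Frobenius of G is the trivial homomorphism exactly when a^(p^n) = 0 for every a in the augmentation
ideal; G has finite Frobenius height when this holds for some n. Then G has finite Frobenius height
if and only if A is a finite R-module and, for every algebraically closed field K and every ring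
homomorphism R → K, the base change K ⊗_R A is a local ring (G is finite over R with connected
geometric fibres). -/
theorem result (p : ℕ) [Fact p.Prime] (R : Type u) [CommRing R] [CharP R p]
    [IsNoetherianRing R] (A : Type u) [CommRing A] [HopfAlgebra R A] [Algebra.FiniteType R A] :
    (∃ n : ℕ, ∀ a : A, Bialgebra.counitAlgHom R A a = 0 → a ^ p ^ n = 0) ↔
      (Module.Finite R A ∧ ∀ (K : Type u) [Field K] [IsAlgClosed K] [Algebra R K], IsLocalRing (K ⊗[R] A)) := by
  constructor
  · rintro ⟨n, hn⟩
    have h : ∀ a : A, Bialgebra.counitAlgHom R A a = 0 → IsNilpotent a := fun a ha => ⟨_, hn a ha⟩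
    exact ⟨finite_of_nil _ h, fun K _ _ _ => isLocalRing_of_nil _ K h⟩
  · rintro ⟨-, H⟩
    have hN : IsNoetherianRing A := Algebra.FiniteType.isNoetherianRing R A
    obtain ⟨N, hN'⟩ := IsNoetherianRing.isNilpotent_nilradical A
    refine ⟨N, fun a ha => ?_⟩
    have ha' := nil_of_local (Bialgebra.counitAlgHom R A) H a ha
    have h1 : a ^ N ∈ (nilradical A) ^ N := Ideal.pow_mem_pow ha' N
    rw [hN'] at h1
    have h2 : a ^ N = 0 := h1
    have hle : N ≤ p ^ N := (Nat.lt_pow_self (Fact.out : p.Prime).one_lt).le
    exact pow_eq_zero_of_le hle h2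

end Groth.Agent.S15056
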