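import Groth.Statements.S15058
import Mathlib
import Groth.Agent.Lib.Helper11FGI

set_option autoImplicit false
universe u
open FmlGrp

namespace Groth.Agent.S15058

open Groth.Agent.Lib.Helper11LT Groth.Agent.Lib.Helper11FGI MvPowerSeries


/-- Let R be a commutative ring and F(X,Y) ∈ R[[X,Y]] a one-dimensional formal group law (zero constant
term, linear part X + Y, associative). Then there is a power series g(X) ∈ R[[X]] with zero constant
term which is a two-sided inverse for F, F(X, g(X)) = 0 = F(g(X), X), and it is unique: every power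
series with zero constant term which is a right inverse or a left inverse equals g. (The published
text proves this for formal group laws of any finite dimension with coefficients in a complete
Noetherian local ring; the argument is a formal degree-by-degree construction, and this row states
the one-dimensional case over an arbitrary commutative ring.) -/
theorem result (R : Type u) [CommRing R] (F : FormalGroup R) :
    ∃ g : PowerSeries R, g.constantCoeff = 0 ∧
      F.toPowerSeries.subst ![PowerSeries.X, g] = (0 : PowerSeries R) ∧
      F.toPowerSeries.subst ![g, PowerSeries.X] = (0 : PowerSeries R) ∧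
      ∀ k : PowerSeries R, k.constantCoeff = 0 →
        (F.toPowerSeries.subst ![PowerSeries.X, k] = (0 : PowerSeries R) ∨
          F.toPowerSeries.subst ![k, PowerSeries.X] = (0 : PowerSeries R)) → k = g := by
  set Ff := F.toPowerSeries with hFf
  -- the swapped series
  have hsw0 : ∀ s : Fin 2, constantCoeff ((![X 1, X 0] : Fin 2 → MvPowerSeries (Fin 2) R) s) = 0 := by
    intro s; fin_cases s <;> simp
  set Fs : MvPowerSeries (Fin 2) R := subst (![X 1, X 0] : Fin 2 → MvPowerSeries (Fin 2) R) Ff with hFs
  have hFs0 : constantCoeff Fs = 0 := constantCoeff_subst_zero _ hsw0 _ F.zero_constantCoeff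
  have hFs1 : coeff (Finsupp.single 1 1) Fs = 1 := by
    have c1 := cong_fg_subst Ff F.zero_constantCoeff F.lin_coeff_X F.lin_coeff_Y
      (![X 1, X 0] : Fin 2 → MvPowerSeries (Fin 2) R) hsw0
    rw [two_le_order_iff] at c1
    have := c1.2 1
    simp only [Matrix.cons_val_zero, Matrix.cons_val_one, Matrix.cons_val_fin_one] at this
    rw [map_sub, sub_eq_zero] at this
    rw [this]
    simp [coeff_index_single_X]
  -- right inverses
  set g := rinv Ff with hg
  set g' := rinv Fs with hg'
  have hg0 : PowerSeries.constantCoeff g = 0 := cc_rinv Ff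
  have hg'0 : PowerSeries.constantCoeff g' = 0 := cc_rinv Fs
  have eg : subst (![PowerSeries.X, g] : Fin 2 → PowerSeries R) Ff = 0 :=
    psi_rinv Ff F.zero_constantCoeff F.lin_coeff_Y
  have swap_eq : ∀ k : PowerSeries R, PowerSeries.constantCoeff k = 0 →
      subst (![PowerSeries.X, k] : Fin 2 → PowerSeries R) Fs =
        subst (![k, PowerSeries.X] : Fin 2 → PowerSeries R) Ff := by
    intro k hk
    rw [hFs, subst_comp_subst_apply (hasSubst_of_constantCoeff_zero hsw0) (hasSubst_vec k hk)]
    congr 1
    funext s
    fin_cases s
    · exact subst_X (hasSubst_vec k hk) 1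
    · exact subst_X (hasSubst_vec k hk) 0
  have eg' : subst (![g', PowerSeries.X] : Fin 2 → PowerSeries R) Ff = 0 := by
    rw [← swap_eq g' hg'0]
    exact psi_rinv Fs hFs0 hFs1
  -- monoid argument
  let x : F.Point Unit := ⟨PowerSeries.X, PowerSeries.HasSubst.X'⟩
  let γ : F.Point Unit := ⟨g, PowerSeries.HasSubst.of_constantCoeff_zero' hg0⟩
  have hxγ : x + γ = 0 := Subtype.ext eg
  have left_eq : ∀ (k : PowerSeries R) (hk0 : PowerSeries.constantCoeff k = 0),
      subst (![k, PowerSeries.X] : Fin 2 → PowerSeries R) Ff = 0 → k = g := by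
    intro k hk0 hk
    let κ : F.Point Unit := ⟨k, PowerSeries.HasSubst.of_constantCoeff_zero' hk0⟩
    have hκx : κ + x = 0 := Subtype.ext hk
    have : κ = γ := by
      calc κ = κ + (x + γ) := by rw [hxγ, add_zero]
        _ = (κ + x) + γ := (add_assoc _ _ _).symm
        _ = γ := by rw [hκx, zero_add]
    exact congrArg Subtype.val this
  have hgg' : g' = g := left_eq g' hg'0 eg'
  refine ⟨g, hg0, eg, ?_, ?_⟩
  · rw [← hgg']; exact eg'
  · intro k hk0 hk
    rcases hk with hk | hk
    · exact rinv_unique Ff F.lin_coeff_Y k g hk0 hg0 hk eg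
    · exact left_eq k hk0 hk

end Groth.Agent.S15058
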