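import Groth.Statements.S15060
import Mathlib
import Groth.Agent.Lib.Helper11LTD

set_option autoImplicit false
universe u
open LubinTate

namespace Groth.Agent.S15060

open Groth.Agent.Lib.Helper11LT MvPowerSeries


/-- Let O be a discrete valuation ring with finite residue field of cardinality q, π a uniformizer of O,
f = πT + T^q ∈ O[[T]], and F a one-dimensional formal group law over O for which f is an
endomorphism, f(F(X,Y)) = F(f(X), f(Y)). For α ∈ O write [α] for a power series with zero constant
term and linear coefficient α commuting with f (it is unique). Then for all α, β ∈ O and all such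
series [α], [β], [αβ], [α+β] one has [α]([β](T)) = [αβ](T) and F([α](T), [β](T)) = [α+β](T): the map
α ↦ [α] is a ring homomorphism from O to the endomorphisms of F with their formal-group addition and
composition. (The published statement is for the ring of integers of a finite extension of ℚ_p or of
𝔽_q((X)); completeness is not used and any discrete valuation ring with finite residue field is
allowed here.) -/
theorem result (O : Type u) [CommRing O] [IsDomain O] [IsDiscreteValuationRing O]
    [Finite (IsLocalRing.ResidueField O)] (π : O) (hπ : Irreducible π) (f : PowerSeries O)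
    (hf : f = π • PowerSeries.X + PowerSeries.X ^ Nat.card (IsLocalRing.ResidueField O))
    (F : FormalGroup O)
    (hF : PowerSeries.subst F.toPowerSeries f =
        MvPowerSeries.subst (fun i : Fin 2 => PowerSeries.subst (MvPowerSeries.X i : MvPowerSeries (Fin 2) O) f)
          F.toPowerSeries)
    (α β : O) (gα gβ gαβ gs : PowerSeries O)
    (hα0 : gα.constantCoeff = 0) (hα1 : gα.coeff 1 = α) (hαf : PowerSeries.subst gα f = PowerSeries.subst f gα)
    (hβ0 : gβ.constantCoeff = 0) (hβ1 : gβ.coeff 1 = β) (hβf : PowerSeries.subst gβ f = PowerSeries.subst f gβ)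
    (hαβ0 : gαβ.constantCoeff = 0) (hαβ1 : gαβ.coeff 1 = α * β)
    (hαβf : PowerSeries.subst gαβ f = PowerSeries.subst f gαβ)
    (hs0 : gs.constantCoeff = 0) (hs1 : gs.coeff 1 = α + β) (hsf : PowerSeries.subst gs f = PowerSeries.subst f gs) :
    PowerSeries.subst gβ gα = gαβ ∧ F.toPowerSeries.subst ![gα, gβ] = gs := by
  set q := Nat.card (IsLocalRing.ResidueField O) with hq
  have hq2 : 2 ≤ q := two_le_card O
  have hav : (fun _ : Unit => f) = av π q := by
    funext i
    rw [hf]
    rfl
  have hphi : ∀ g : PowerSeries O, PowerSeries.subst f g = Phi π q g := by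
    intro g
    show MvPowerSeries.subst (fun _ : Unit => f) g = _
    rw [hav]
    rfl
  have hss : ∀ g : PowerSeries O, PowerSeries.constantCoeff g = 0 →
      PowerSeries.subst g f = π • g + g ^ q := by
    intro g hg
    rw [hf]
    exact ps_subst_eq π q g hg
  -- LT forms
  have eα : Phi π q (gα : MvPowerSeries Unit O) = π • gα + gα ^ q := by
    rw [← hphi, ← hαf, hss gα hα0]
  have eβ : Phi π q (gβ : MvPowerSeries Unit O) = π • gβ + gβ ^ q := by
    rw [← hphi, ← hβf, hss gβ hβ0]
  have eαβ : Phi π q (gαβ : MvPowerSeries Unit O) = π • gαβ + gαβ ^ q := by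
    rw [← hphi, ← hαβf, hss gαβ hαβ0]
  have es : Phi π q (gs : MvPowerSeries Unit O) = π • gs + gs ^ q := by
    rw [← hphi, ← hsf, hss gs hs0]
  have eF : Phi π q F.toPowerSeries = π • F.toPowerSeries + F.toPowerSeries ^ q := by
    have h1 : PowerSeries.subst F.toPowerSeries f = π • F.toPowerSeries + F.toPowerSeries ^ q := by
      rw [hf]
      exact ps_subst_eq π q _ F.zero_constantCoeff
    rw [← h1, hF, hf, av_eq_ps_subst]
    rfl
  constructor
  · -- composition
    have h0 : constantCoeff (subst (fun _ : Unit => gβ) gα) = 0 :=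
      constantCoeff_subst_zero _ (fun _ => hβ0) gα hα0
    have e1 := lt_subst π q (by omega) (fun _ : Unit => (gβ : MvPowerSeries Unit O))
      (fun _ => hβ0) (fun _ => eβ) gα eα
    refine lt_unique O π hπ (σ := Unit) _ _ ?_ ?_ e1 eαβ ?_
    · rw [one_le_order_iff_constCoeff_eq_zero]; exact h0
    · rw [one_le_order_iff_constCoeff_eq_zero]; exact hαβ0
    · have c1 := cong_ps_subst gα hα0 (gβ : MvPowerSeries Unit O) hβ0
      have c2 := cong_smul (PowerSeries.coeff 1 gα) (cong_ps gβ hβ0)
      have c3 := cong_symm (cong_ps gαβ hαβ0)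
      rw [hα1, hβ1] at c2
      rw [hα1] at c1
      rw [hαβ1] at c3
      rw [smul_smul] at c2
      exact cong_trans (cong_trans c1 c2) c3
  · -- sum
    have ha0 : ∀ s : Fin 2, constantCoeff ((![gα, gβ] : Fin 2 → PowerSeries O) s) = 0 := by
      intro s; fin_cases s
      · exact hα0
      · exact hβ0
    have ha : ∀ s : Fin 2, Phi π q ((![gα, gβ] : Fin 2 → PowerSeries O) s) =
        π • (![gα, gβ] : Fin 2 → PowerSeries O) s + (![gα, gβ] : Fin 2 → PowerSeries O) s ^ q := by
      intro s; fin_cases s
      · exact eα
      · exact eβ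
    have h0 : constantCoeff (subst (![gα, gβ] : Fin 2 → PowerSeries O) F.toPowerSeries) = 0 :=
      constantCoeff_subst_zero _ ha0 _ F.zero_constantCoeff
    have e1 := lt_subst π q (by omega) (![gα, gβ] : Fin 2 → PowerSeries O) ha0 ha _ eF
    refine lt_unique O π hπ (σ := Unit) _ _ ?_ ?_ e1 es ?_
    · rw [one_le_order_iff_constCoeff_eq_zero]; exact h0
    · rw [one_le_order_iff_constCoeff_eq_zero]; exact hs0
    · have c1 := cong_fg_subst F.toPowerSeries F.zero_constantCoeff F.lin_coeff_X F.lin_coeff_Y
        (![gα, gβ] : Fin 2 → PowerSeries O) ha0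
      have c2 := cong_add (cong_ps gα hα0) (cong_ps gβ hβ0)
      have c3 := cong_symm (cong_ps gs hs0)
      rw [hα1, hβ1, ← add_smul] at c2
      rw [hs1] at c3
      exact cong_trans (cong_trans c1 c2) c3

end Groth.Agent.S15060
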