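import Groth.Statements.S15069
import Mathlib
import Groth.Agent.Lib.Helper9ExtZeroMod
-- import your own Groth.Agent.* helpers here

set_option autoImplicit false
set_option linter.style.haveILetI false
set_option linter.unusedSectionVars false
universe u
open CategoryTheory TopologicalSpace
open OrdSurf

namespace Groth.Agent.S15069
open CategoryTheory.Limits

set_option backward.isDefEq.respectTransparency.types false in
/-- restriction of an injective sheaf of modules to a localised site is injective. -/
theorem injective_over {C : Type u} [SmallCategory C] (J : GrothendieckTopology C)
    (A : Sheaf J RingCat.{u}) (I : SheafOfModules.{u} A) [Injective I] (U : C) :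
    Injective (I.over U) := by
  let adj := SheafOfModules.pullbackPushforwardAdjunction.{u} (F := Over.forget U) (R := A)
    (S := A.over U) (𝟙 (A.over U))
  have adj' : SheafOfModules.pullback.{u} (F := Over.forget U) (R := A) (S := A.over U)
      (𝟙 (A.over U)) ⊣ SheafOfModules.overFunctor.{u} A U := adj
  haveI := (Groth.Agent.Lib.Helper9.ExtZero.exact_faithful_of_adj J U A adj').1
  haveI : (SheafOfModules.pullback.{u} (F := Over.forget U) (R := A) (S := A.over U)
      (𝟙 (A.over U))).PreservesMonomorphisms := preservesMonomorphisms_of_preservesLimitsOfShape _
  haveI : (SheafOfModules.overFunctor.{u} A U).PreservesInjectiveObjects :=
    Functor.preservesInjectiveObjects_of_adjunction_of_preservesMonomorphisms adj'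
  exact (SheafOfModules.overFunctor.{u} A U).injective_obj I


/-- Let X be a topological space, A a sheaf of rings on X (not necessarily commutative), I a sheaf of
A-modules which is an injective object of the category of sheaves of A-modules, and U an open subset
of X. Then the restriction of I to the site of opens contained in U is an injective object of the
category of sheaves of modules over the restriction of A. (The published statement is for an order
on a smooth projective surface; this row is stated for any sheaf of rings on any topological space.) -/
theorem result (X : TopCat.{u})
    (A : Sheaf (Opens.grothendieckTopology X) RingCat.{u}) (I : SheafOfModules.{u} A)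
    [Injective I] (U : Opens X) : Injective (I.over U) := by
  exact injective_over (Opens.grothendieckTopology X) A I U

end Groth.Agent.S15069
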