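import Groth.Statements.S1507
import Mathlib
import Groth.Agent.Lib.Helper10FlatPC2
import Groth.Agent.Lib.Helper5PCHom
import Groth.Agent.Lib.Helper1PCTower
import Groth.Agent.S6938
-- import your own Groth.Agent.* helpers here

set_option autoImplicit false
universe u
attribute [local instance] HasDerivedCategory.standard
open FlatMor

namespace Groth.Agent.S1507

/-- Let A → B be flat and of finite presentation and I an ideal of B. Then A → B/I is a pseudo-coherent
ring map if and only if I is a pseudo-coherent B-module. -/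
theorem result {A B : Type u} [CommRing A] [CommRing B] [Algebra A B] [Module.Flat A B] [Algebra.FinitePresentation A B] (I : Ideal B) :
    MoreMor.IsPseudoCoherentHom A (B ⧸ I) ↔ DRing.IsPseudoCoherentModule' B ↥I := by
  classical
  obtain ⟨n, α, hα, hpc⟩ := Groth.Agent.Lib.Helper10.FlatPC.isPseudoCoherentHom_of_flat A B
  let β : MvPolynomial (Fin n) A →ₐ[A] B ⧸ I := (Ideal.Quotient.mkₐ A I).comp α
  have hβ : Function.Surjective β := (Ideal.Quotient.mkₐ_surjective A I).comp hα
  letI algPB : Algebra (MvPolynomial (Fin n) A) B := α.toRingHom.toAlgebra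
  letI algPQ : Algebra (MvPolynomial (Fin n) A) (B ⧸ I) := β.toRingHom.toAlgebra
  haveI : IsScalarTower (MvPolynomial (Fin n) A) B (B ⧸ I) :=
    IsScalarTower.of_algebraMap_eq (fun _ => rfl)
  have htower : DRing.IsPseudoCoherentModule' B (B ⧸ I) ↔
      DRing.IsPseudoCoherentModule' (MvPolynomial (Fin n) A) (B ⧸ I) :=
    Groth.Agent.Lib.Helper5.PCHom.isPC'_iff_of_tower hpc (B ⧸ I)
  have hquot : DRing.IsPseudoCoherentModule' B (B ⧸ I) ↔ DRing.IsPseudoCoherentModule' B I := by
    have hπ : Function.Surjective (Submodule.mkQ I : B →ₗ[B] B ⧸ I) := Submodule.mkQ_surjective I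
    have hS := LinearMap.shortExact_shortComplexKer hπ
    have hT := hS.singleTriangle_distinguished
    let eI : ↥(LinearMap.ker (Submodule.mkQ I : B →ₗ[B] B ⧸ I)) ≃ₗ[B] ↥I :=
      LinearEquiv.ofEq _ _ (Submodule.ker_mkQ I)
    have hF : Groth.Agent.S7017.FF (ModuleCat.of B B) :=
      ⟨inferInstanceAs (Module.Finite B B), inferInstanceAs (Module.Free B B)⟩
    have hB : ∀ m : ℤ, DRing.IsPseudoCoherent B m
        ((DerivedCategory.singleFunctor (ModuleCat.{u} B) 0).obj (ModuleCat.of B B)) :=
      fun m => Groth.Agent.Lib.Helper1.PC.isPC_of_rep m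
        (Groth.Agent.Lib.Helper1.PC.rep_single _ hF 0)
    constructor
    · intro h
      apply Groth.Agent.Lib.Helper1.PCTower.isPseudoCoherent'_of_forall
      intro m
      have h3 : DRing.IsPseudoCoherent B (m - 1)
          ((DerivedCategory.singleFunctor (ModuleCat.{u} B) 0).obj (ModuleCat.of B (B ⧸ I))) :=
        Groth.Agent.S6938.isPC_of_pc' _ h (m - 1)
      have h2 : DRing.IsPseudoCoherent B (m - 1 + 1)
          ((DerivedCategory.singleFunctor (ModuleCat.{u} B) 0).obj (ModuleCat.of B B)) := hB _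
      have h1 := Groth.Agent.Lib.Helper1.PC.isPC_obj₁ _ hT (m - 1) h2 h3
      have h1' : DRing.IsPseudoCoherent B m
          ((DerivedCategory.singleFunctor (ModuleCat.{u} B) 0).obj
            (ModuleCat.of B ↥(LinearMap.ker (Submodule.mkQ I : B →ₗ[B] B ⧸ I)))) := by
        have e : m - 1 + 1 = m := by ring
        rw [e] at h1
        exact h1
      exact Groth.Agent.Lib.Helper1.PC.isPC_of_iso
        ((DerivedCategory.singleFunctor (ModuleCat.{u} B) 0).mapIso eI.toModuleIso) h1'
    · intro h
      apply Groth.Agent.Lib.Helper1.PCTower.isPseudoCoherent'_of_forall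
      intro m
      have h1 : DRing.IsPseudoCoherent B (m + 1)
          ((DerivedCategory.singleFunctor (ModuleCat.{u} B) 0).obj
            (ModuleCat.of B ↥(LinearMap.ker (Submodule.mkQ I : B →ₗ[B] B ⧸ I)))) :=
        Groth.Agent.Lib.Helper1.PC.isPC_of_iso
          ((DerivedCategory.singleFunctor (ModuleCat.{u} B) 0).mapIso eI.symm.toModuleIso)
          (Groth.Agent.S6938.isPC_of_pc' _ h (m + 1))
      exact Groth.Agent.Lib.Helper1.PC.isPC_obj₃ _ hT m h1 (hB m)
  constructor
  · intro h
    have h1 : Groth.Agent.Lib.Helper5.PCHom.PCMod β.toRingHom :=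
      Groth.Agent.Lib.Helper5.PCHom.pcMod_of_isPseudoCoherentHom h β hβ
    exact hquot.1 (htower.2 h1)
  · intro h
    exact ⟨n, β, hβ, htower.1 (hquot.2 h)⟩

end Groth.Agent.S1507
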