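import Groth.Statements.S15078
import Mathlib
-- import your own Groth.Agent.* helpers here

set_option autoImplicit false
set_option linter.style.haveILetI false
set_option linter.unusedSectionVars false
universe u v
open MovLem

namespace Groth.Agent.S15078
open Polynomial

theorem lt_prod {R : Type*} [CommRing R] {ι : Type*} (s : Finset ι) (P : ι → R[X]) (D : ι → ℕ)
    (c : ι → R) (h : ∀ i ∈ s, (P i).natDegree ≤ D i ∧ (P i).coeff (D i) = c i) :
    (∏ i ∈ s, P i).natDegree ≤ ∑ i ∈ s, D i ∧
      (∏ i ∈ s, P i).coeff (∑ i ∈ s, D i) = ∏ i ∈ s, c i := by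
  classical
  induction s using Finset.induction_on with
  | empty => simp
  | insert a s ha ih =>
    have h1 := h a (Finset.mem_insert_self a s)
    have h2 := ih (fun i hi => h i (Finset.mem_insert_of_mem hi))
    rw [Finset.prod_insert ha, Finset.sum_insert ha, Finset.prod_insert ha]
    refine ⟨natDegree_mul_le_of_le h1.1 h2.1, ?_⟩
    rw [coeff_mul_add_eq_of_natDegree_le h1.1 h2.1, h1.2, h2.2]

section
variable {k : Type u} [Field k] {K : Type v} [Field K] [Algebra k K] {r : ℕ} (g : Fin r → K) (N : ℕ)

noncomputable def Φ : MvPolynomial (Fin r) k →ₐ[k] Polynomial (MvPolynomial (Fin r) K) :=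
  MvPolynomial.aeval (fun i : Fin r =>
    Polynomial.C (MvPolynomial.X i) + Polynomial.C (MvPolynomial.C (g i)) * Polynomial.X ^ N)

theorem q_lt (hN : 0 < N) (i : Fin r) :
    (C (MvPolynomial.X i) + C (MvPolynomial.C (g i)) * X ^ N :
      (MvPolynomial (Fin r) K)[X]).natDegree ≤ N ∧
    (C (MvPolynomial.X i) + C (MvPolynomial.C (g i)) * X ^ N :
      (MvPolynomial (Fin r) K)[X]).coeff N = MvPolynomial.C (g i) := by
  constructor
  · refine natDegree_add_le_of_degree_le ?_ ?_
    · simp
    · exact natDegree_C_mul_X_pow_le _ _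
  · rw [coeff_add, coeff_C, if_neg hN.ne', zero_add, coeff_C_mul, coeff_X_pow_self, mul_one]

theorem Φ_monomial (hN : 0 < N) (α : Fin r →₀ ℕ) (c : k) :
    (Φ g N (MvPolynomial.monomial α c)).natDegree ≤ N * α.degree ∧
    (Φ g N (MvPolynomial.monomial α c)).coeff (N * α.degree) =
      MvPolynomial.C (MvPolynomial.aeval g (MvPolynomial.monomial α c)) := by
  have hp := lt_prod Finset.univ
    (fun i => (C (MvPolynomial.X i) + C (MvPolynomial.C (g i)) * X ^ N :
      (MvPolynomial (Fin r) K)[X]) ^ α i)
    (fun i => α i * N) (fun i => (MvPolynomial.C (g i)) ^ α i)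
    (fun i _ => ⟨natDegree_pow_le_of_le _ (q_lt g N hN i).1, by
      rw [coeff_pow_of_natDegree_le (q_lt g N hN i).1, (q_lt g N hN i).2]⟩)
  have hsum : ∑ i, α i * N = N * α.degree := by
    rw [Finsupp.degree_eq_sum, Finset.mul_sum]
    exact Finset.sum_congr rfl (fun i _ => mul_comm _ _)
  rw [hsum] at hp
  have hΦ : Φ g N (MvPolynomial.monomial α c) = C (MvPolynomial.C (algebraMap k K c)) *
      ∏ i, (C (MvPolynomial.X i) + C (MvPolynomial.C (g i)) * X ^ N :
        (MvPolynomial (Fin r) K)[X]) ^ α i := by
    unfold Φ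
    rw [MvPolynomial.aeval_monomial, Finsupp.prod_fintype _ _ (by simp)]
    rfl
  rw [hΦ]
  refine ⟨(natDegree_C_mul_le _ _).trans hp.1, ?_⟩
  rw [coeff_C_mul, hp.2, MvPolynomial.aeval_monomial, Finsupp.prod_fintype _ _ (by simp)]
  simp only [map_mul, map_prod, map_pow]

theorem Φ_lt_sum (hN : 0 < N) (S : Finset (Fin r →₀ ℕ)) (c : (Fin r →₀ ℕ) → k) (e : ℕ)
    (hS : ∀ v ∈ S, v.degree ≤ e) :
    (Φ g N (∑ v ∈ S, MvPolynomial.monomial v (c v))).natDegree ≤ N * e ∧
    (Φ g N (∑ v ∈ S, MvPolynomial.monomial v (c v))).coeff (N * e) =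
      MvPolynomial.C (MvPolynomial.aeval g
        (MvPolynomial.homogeneousComponent e (∑ v ∈ S, MvPolynomial.monomial v (c v)))) := by
  rw [map_sum]
  constructor
  · apply natDegree_sum_le_of_forall_le
    intro v hv
    exact (Φ_monomial g N hN v (c v)).1.trans (Nat.mul_le_mul_left N (hS v hv))
  · rw [finsetSum_coeff, map_sum, map_sum, map_sum]
    apply Finset.sum_congr rfl
    intro v hv
    rw [MvPolynomial.homogeneousComponent_of_mem (MvPolynomial.isHomogeneous_monomial (c v) rfl)]
    by_cases hve : e = v.degree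
    · rw [if_pos hve, hve]
      exact (Φ_monomial g N hN v (c v)).2
    · rw [if_neg hve, map_zero, map_zero]
      apply coeff_eq_zero_of_natDegree_lt
      refine lt_of_le_of_lt (Φ_monomial g N hN v (c v)).1 ?_
      exact Nat.mul_lt_mul_of_pos_left (lt_of_le_of_ne (hS v hv) (Ne.symm hve)) hN

theorem Φ_lt (hN : 0 < N) (p : MvPolynomial (Fin r) k) (e : ℕ) (he : p.totalDegree ≤ e) :
    (Φ g N p).natDegree ≤ N * e ∧
    (Φ g N p).coeff (N * e) =
      MvPolynomial.C (MvPolynomial.aeval g (MvPolynomial.homogeneousComponent e p)) := by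
  have h := Φ_lt_sum g N hN p.support (fun v => MvPolynomial.coeff v p) e (fun v hv =>
    (MvPolynomial.le_totalDegree hv).trans he)
  rwa [← MvPolynomial.as_sum] at h

end


theorem arith (D N E e j j0 : ℕ) (hN : D + 1 ≤ N) (hj : j ≤ D) (hj0 : j0 ≤ D)
    (hmax : (D + 1) * e + j ≤ (D + 1) * E + j0) (hne : j ≠ j0) : N * e + j < N * E + j0 := by
  rcases lt_trichotomy e E with h | h | h
  · have := Nat.mul_le_mul_left N (Nat.succ_le_of_lt h)
    rw [Nat.mul_succ] at this
    omega
  · subst h
    have : j ≤ j0 := by linarith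
    have : j < j0 := lt_of_le_of_ne this hne
    linarith
  · have := Nat.mul_le_mul_left (D + 1) (Nat.succ_le_of_lt h)
    rw [Nat.mul_succ] at this
    exfalso
    linarith


/-- Let k be an infinite perfect field, r, m ≥ 1, and let f be a nonzero polynomial in the variable t
with coefficients in the polynomial ring k[x_1, …, x_r]. Then there are a nonzero polynomial h in
k[x_1, …, x_r] and an integer s₀ such that for every s ≥ s₀, every field K over k and every point g
of K^r with h(g) ≠ 0, the polynomial obtained from f by the substitution x_i ↦ x_i + t^{s(m+1)} g_i,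
t ↦ t has as leading coefficient in t a nonzero constant of K; in particular, after dividing by that
constant it is monic in t over K[x_1, …, x_r]. (The published statement asks for a nonempty open
subset of affine r-space over k, independent of s, such that this holds at each of its points g with
residue field K = k(g); the locus h ≠ 0 used here is such an open subset, and every nonempty open
subset contains one of this form.) -/
theorem result
    {k : Type u} [Field k] [Infinite k] [PerfectField k] (r m : ℕ) (hr : 1 ≤ r) (hm : 1 ≤ m)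
    (f : Polynomial (MvPolynomial (Fin r) k)) (hf : f ≠ 0) :
    ∃ h : MvPolynomial (Fin r) k, h ≠ 0 ∧ ∃ s₀ : ℕ, ∀ s : ℕ, s₀ ≤ s →
      ∀ (K : Type v) [Field K] [Algebra k K] (g : Fin r → K), MvPolynomial.aeval g h ≠ 0 →
        ∃ c : K, c ≠ 0 ∧
          (Polynomial.eval₂ (MvPolynomial.aeval (fun i : Fin r => Polynomial.C (MvPolynomial.X i) + Polynomial.C (MvPolynomial.C (g i)) * Polynomial.X ^ (s * (m + 1))) : MvPolynomial (Fin r) k →ₐ[k] Polynomial (MvPolynomial (Fin r) K)).toRingHom Polynomial.X f).leadingCoeff = MvPolynomial.C c := by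
  classical
  have hne : f.support.Nonempty := Polynomial.nonempty_support_iff.mpr hf
  obtain ⟨j0, hj0, hmax⟩ := Finset.exists_max_image f.support
    (fun j => (f.natDegree + 1) * (f.coeff j).totalDegree + j) hne
  have hfj0 : f.coeff j0 ≠ 0 := Polynomial.mem_support_iff.mp hj0
  refine ⟨MvPolynomial.homogeneousComponent (f.coeff j0).totalDegree (f.coeff j0), ?_,
    f.natDegree + 1, ?_⟩
  · obtain ⟨α, hα, hαE⟩ := Finset.exists_mem_eq_sup (f.coeff j0).support
      (MvPolynomial.support_nonempty.mpr hfj0) (fun s => s.sum fun _ e => e)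
    intro h0
    have := congrArg (MvPolynomial.coeff α) h0
    have hαE' : Finsupp.degree α = (f.coeff j0).totalDegree := hαE.symm
    rw [MvPolynomial.coeff_homogeneousComponent, if_pos hαE', MvPolynomial.coeff_zero] at this
    exact (MvPolynomial.mem_support_iff.mp hα) this
  · intro s hs K _ _ g hg
    have hND : f.natDegree + 1 ≤ s * (m + 1) :=
      hs.trans (Nat.le_mul_of_pos_right s (Nat.succ_pos m))
    have hN : 0 < s * (m + 1) := lt_of_lt_of_le (Nat.succ_pos _) hND
    refine ⟨MvPolynomial.aeval g
      (MvPolynomial.homogeneousComponent (f.coeff j0).totalDegree (f.coeff j0)), hg, ?_⟩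
    change (Polynomial.eval₂ (Φ g (s * (m + 1))).toRingHom Polynomial.X f).leadingCoeff = _
    generalize s * (m + 1) = N at hND hN
    have hsum : Polynomial.eval₂ (Φ g N).toRingHom Polynomial.X f =
        ∑ j ∈ f.support, Φ g N (f.coeff j) * X ^ j := by
      rw [Polynomial.eval₂_eq_sum, Polynomial.sum_def]
      rfl
    have hstrict : ∀ j ∈ f.support, j ≠ j0 →
        N * (f.coeff j).totalDegree + j < N * (f.coeff j0).totalDegree + j0 := by
      intro j hj hjne
      exact arith f.natDegree N _ _ j j0 hND (Polynomial.le_natDegree_of_mem_supp j hj)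
        (Polynomial.le_natDegree_of_mem_supp j0 hj0) (hmax j hj) hjne
    have hterm : ∀ j ∈ f.support,
        (Φ g N (f.coeff j) * X ^ j).natDegree ≤ N * (f.coeff j).totalDegree + j := by
      intro j hj
      exact natDegree_mul_le_of_le (Φ_lt g N hN (f.coeff j) _ le_rfl).1 (natDegree_X_pow_le j)
    have hdeg : (Polynomial.eval₂ (Φ g N).toRingHom Polynomial.X f).natDegree ≤
        N * (f.coeff j0).totalDegree + j0 := by
      rw [hsum]
      apply natDegree_sum_le_of_forall_le
      intro j hj
      by_cases hjj : j = j0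
      · subst hjj; exact hterm j hj
      · exact (hterm j hj).trans (hstrict j hj hjj).le
    have hcoeff : (Polynomial.eval₂ (Φ g N).toRingHom Polynomial.X f).coeff
        (N * (f.coeff j0).totalDegree + j0) = MvPolynomial.C (MvPolynomial.aeval g
          (MvPolynomial.homogeneousComponent (f.coeff j0).totalDegree (f.coeff j0))) := by
      rw [hsum, finsetSum_coeff, Finset.sum_eq_single j0]
      · rw [coeff_mul_X_pow]
        exact (Φ_lt g N hN (f.coeff j0) _ le_rfl).2
      · intro j hj hjne
        exact coeff_eq_zero_of_natDegree_lt (lt_of_le_of_lt (hterm j hj) (hstrict j hj hjne))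
      · intro h; exact absurd hj0 h
    have hCne : (MvPolynomial.C (MvPolynomial.aeval g
          (MvPolynomial.homogeneousComponent (f.coeff j0).totalDegree (f.coeff j0))) :
          MvPolynomial (Fin r) K) ≠ 0 := by
      rw [Ne, MvPolynomial.C_eq_zero]
      exact hg
    have hnat := natDegree_eq_of_le_of_coeff_ne_zero hdeg (by rw [hcoeff]; exact hCne)
    rw [Polynomial.leadingCoeff, hnat, hcoeff]

end Groth.Agent.S15078
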