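import Groth.Statements.S15080
import Mathlib
import Groth.Agent.Lib.Helper22Shuffle

set_option autoImplicit false
open W4c2movlemaddchow

namespace Groth.Agent.S15080

open Groth.Agent.Lib.Helper22.Shuffle Equiv

/-- Let r, s, t ≥ 1. For an (r+s, t)-shuffle τ of r+s+t letters and an (r, s)-shuffle σ of the first r+s
letters, the composite τ ∘ (σ × id), where σ × id acts as σ on the first r+s letters and fixes the
last t, is an (r, s, t)-shuffle, and (τ, σ) ↦ τ ∘ (σ × id) is a bijection from such pairs onto the
set of all (r, s, t)-shuffles. (A (p₁, …, p_s)-shuffle is a permutation that is monotone on each of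
the consecutive blocks of sizes p₁, …, p_s; composites apply the right-hand factor first.) -/
theorem result (r s t : ℕ) (hr : 1 ≤ r) (hs : 1 ≤ s) (ht : 1 ≤ t) :
    Set.BijOn
      (fun p : Equiv.Perm (Fin (r + s + t)) × Equiv.Perm (Fin (r + s)) =>
        p.1 * W4c2movlemaddchow.extRight (r + s) t p.2)
      ({τ | W4c2movlemaddchow.IsShuffle₂ (r + s) t τ} ×ˢ {σ | W4c2movlemaddchow.IsShuffle₂ r s σ})
      {ν | W4c2movlemaddchow.IsShuffle₃ r s t ν} := by
  refine ⟨?_, ?_, ?_⟩
  · rintro ⟨τ, σ⟩ ⟨hτ, hσ⟩
    simp only [Set.mem_setOf_eq] at hτ hσ ⊢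
    refine ⟨?_, ?_, ?_⟩
    · have := hτ.1.comp hσ.1
      convert this using 1
      funext i
      simp [extRight_castAdd]
    · have := hτ.1.comp hσ.2
      convert this using 1
      funext i
      simp [extRight_castAdd]
    · have := hτ.2
      convert this using 1
      funext l
      simp [extRight_natAdd]
  · rintro ⟨τ₁, σ₁⟩ ⟨hτ₁, hσ₁⟩ ⟨τ₂, σ₂⟩ ⟨hτ₂, hσ₂⟩ h
    simp only [Set.mem_setOf_eq] at hτ₁ hσ₁ hτ₂ hσ₂ h
    -- g
    let g : Fin (r + s) → Fin (r + s + t) := fun k => (τ₁ * extRight (r + s) t σ₁) (Fin.castAdd t k)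
    have hg : Function.Injective g := fun x y hxy =>
      Fin.castAdd_injective _ _ ((τ₁ * extRight (r + s) t σ₁).injective hxy)
    have h1 : σ₁⁻¹ = Tuple.sort g := by
      refine eq_sort_of_monotone g hg _ ?_
      have := hτ₁.1
      convert this using 1
      funext k
      simp [g, extRight_castAdd]
    have h2 : σ₂⁻¹ = Tuple.sort g := by
      refine eq_sort_of_monotone g hg _ ?_
      have := hτ₂.1
      convert this using 1
      funext k
      simp only [g, h]
      simp [extRight_castAdd]
    have hσ : σ₁ = σ₂ := inv_injective (h1.trans h2.symm)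
    subst hσ
    have hτ : τ₁ = τ₂ := mul_right_cancel h
    rw [hτ]
  · intro ν hν
    simp only [Set.mem_setOf_eq] at hν
    let g : Fin (r + s) → Fin (r + s + t) := fun k => ν (Fin.castAdd t k)
    have hg : Function.Injective g := fun x y hxy =>
      Fin.castAdd_injective _ _ (ν.injective hxy)
    refine ⟨(ν * extRight (r + s) t (Tuple.sort g), (Tuple.sort g)⁻¹), ⟨?_, ?_⟩, ?_⟩
    · simp only [Set.mem_setOf_eq]
      refine ⟨?_, ?_⟩
      · have := Tuple.monotone_sort g
        convert this using 1
        funext k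
        simp [g, extRight_castAdd]
      · have := hν.2.2
        convert this using 1
        funext l
        simp [extRight_natAdd]
    · simp only [Set.mem_setOf_eq]
      refine ⟨?_, ?_⟩
      · intro i i' hii'
        exact sort_inv_mono g hg (hν.1 hii')
      · intro j j' hjj'
        exact sort_inv_mono g hg (hν.2.1 hjj')
    · simp only
      rw [mul_assoc, ← extRight_mul, mul_inv_cancel, extRight_one, mul_one]

end Groth.Agent.S15080
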