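import Groth.Statements.S15081
import Mathlib
import Groth.Agent.Lib.Helper22Shuffle

set_option autoImplicit false
open W4c2movlemaddchow

namespace Groth.Agent.S15081

open Groth.Agent.Lib.Helper22.Shuffle Equiv

theorem shuffleL_iff (r s t : ℕ) (τ : Perm (Fin (r + s + t))) :
    IsShuffle₂ r (s + t) ((finCongr (Nat.add_assoc r s t)).permCongr τ) ↔
      Monotone (fun i : Fin r => τ (Fin.castAdd t (Fin.castAdd s i))) ∧
        Monotone (fun j : Fin (s + t) => τ (eL r s t j)) := by
  unfold IsShuffle₂
  have h1 : ∀ i : Fin r, ((finCongr (Nat.add_assoc r s t)).permCongr τ) (Fin.castAdd (s + t) i)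
      = finCongr (Nat.add_assoc r s t) (τ (Fin.castAdd t (Fin.castAdd s i))) := by
    intro i
    simp only [Equiv.permCongr_apply]
    congr 2
  have h2 : ∀ j : Fin (s + t), ((finCongr (Nat.add_assoc r s t)).permCongr τ) (Fin.natAdd r j)
      = finCongr (Nat.add_assoc r s t) (τ (eL r s t j)) := by
    intro j
    simp only [Equiv.permCongr_apply, eL]
  simp only [h1, h2]
  have key : ∀ x y : Fin (r + s + t), finCongr (Nat.add_assoc r s t) x ≤ finCongr (Nat.add_assoc r s t) y ↔ x ≤ y :=
    fun x y => Iff.rfl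
  constructor
  · rintro ⟨ha, hb⟩
    exact ⟨fun x y hxy => (key _ _).mp (ha hxy), fun x y hxy => (key _ _).mp (hb hxy)⟩
  · rintro ⟨ha, hb⟩
    exact ⟨fun x y hxy => (key _ _).mpr (ha hxy), fun x y hxy => (key _ _).mpr (hb hxy)⟩

/-- Let r, s, t ≥ 1. For an (r, s+t)-shuffle τ' of r+s+t letters and an (s, t)-shuffle σ' of the last
s+t letters, the composite τ' ∘ (id × σ'), where id × σ' fixes the first r letters and acts as σ' on
the last s+t, is an (r, s, t)-shuffle, and (τ', σ') ↦ τ' ∘ (id × σ') is a bijection from such pairs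
onto the set of all (r, s, t)-shuffles. (Shuffles are permutations monotone on each consecutive
block; composites apply the right-hand factor first.) -/
theorem result (r s t : ℕ) (hr : 1 ≤ r) (hs : 1 ≤ s) (ht : 1 ≤ t) :
    Set.BijOn
      (fun p : Equiv.Perm (Fin (r + s + t)) × Equiv.Perm (Fin (s + t)) =>
        p.1 * W4c2movlemaddchow.extLeft r s t p.2)
      ({τ | W4c2movlemaddchow.IsShuffle₂ r (s + t) ((finCongr (Nat.add_assoc r s t)).permCongr τ)} ×ˢ
        {σ | W4c2movlemaddchow.IsShuffle₂ s t σ})
      {ν | W4c2movlemaddchow.IsShuffle₃ r s t ν} := by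
  refine ⟨?_, ?_, ?_⟩
  · rintro ⟨τ, σ⟩ ⟨hτ, hσ⟩
    simp only [Set.mem_ofPred_eq] at hτ hσ ⊢
    rw [shuffleL_iff] at hτ
    refine ⟨?_, ?_, ?_⟩
    · have := hτ.1
      convert this using 1
      funext i
      simp [extLeft_left]
    · have := hτ.2.comp hσ.1
      convert this using 1
      funext j
      simp only [Function.comp_apply, Equiv.Perm.coe_mul]
      rw [← eL_castAdd, extLeft_eL]
    · have := hτ.2.comp hσ.2
      convert this using 1
      funext l
      simp only [Function.comp_apply, Equiv.Perm.coe_mul]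
      rw [← eL_natAdd, extLeft_eL]
  · rintro ⟨τ₁, σ₁⟩ ⟨hτ₁, hσ₁⟩ ⟨τ₂, σ₂⟩ ⟨hτ₂, hσ₂⟩ h
    simp only [Set.mem_ofPred_eq] at hτ₁ hσ₁ hτ₂ hσ₂ h
    rw [shuffleL_iff] at hτ₁ hτ₂
    let g : Fin (s + t) → Fin (r + s + t) := fun k => (τ₁ * extLeft r s t σ₁) (eL r s t k)
    have hg : Function.Injective g := fun x y hxy =>
      eL_injective _ _ _ ((τ₁ * extLeft r s t σ₁).injective hxy)
    have h1 : σ₁⁻¹ = Tuple.sort g := by
      refine eq_sort_of_monotone g hg _ ?_
      have := hτ₁.2
      convert this using 1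
      funext k
      simp [g, extLeft_eL]
    have h2 : σ₂⁻¹ = Tuple.sort g := by
      refine eq_sort_of_monotone g hg _ ?_
      have := hτ₂.2
      convert this using 1
      funext k
      simp only [g, h]
      simp [extLeft_eL]
    have hσ : σ₁ = σ₂ := inv_injective (h1.trans h2.symm)
    subst hσ
    have hτ : τ₁ = τ₂ := mul_right_cancel h
    rw [hτ]
  · intro ν hν
    simp only [Set.mem_ofPred_eq] at hν
    let g : Fin (s + t) → Fin (r + s + t) := fun k => ν (eL r s t k)
    have hg : Function.Injective g := fun x y hxy =>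
      eL_injective _ _ _ (ν.injective hxy)
    refine ⟨(ν * extLeft r s t (Tuple.sort g), (Tuple.sort g)⁻¹), ⟨?_, ?_⟩, ?_⟩
    · simp only [Set.mem_ofPred_eq]
      rw [shuffleL_iff]
      refine ⟨?_, ?_⟩
      · have := hν.1
        convert this using 1
        funext i
        simp [extLeft_left]
      · have := Tuple.monotone_sort g
        convert this using 1
        funext k
        simp [g, extLeft_eL]
    · simp only [Set.mem_ofPred_eq]
      refine ⟨?_, ?_⟩
      · intro j j' hjj'
        refine sort_inv_mono g hg ?_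
        simp only [g, eL_castAdd]
        exact hν.2.1 hjj'
      · intro l l' hll'
        refine sort_inv_mono g hg ?_
        simp only [g, eL_natAdd]
        exact hν.2.2 hll'
    · simp only
      rw [mul_assoc, ← extLeft_mul, mul_inv_cancel, extLeft_one, mul_one]

end Groth.Agent.S15081
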