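import Groth.Statements.S15083
import Mathlib

set_option autoImplicit false
universe u
open MovLem

namespace Groth.Agent.S15083

open Matrix Polynomial

variable {n : Type*} [Fintype n] [DecidableEq n] {K : Type*} [Field K]

/-- polynomial path predicate -/
def P (M : Matrix n n K) : Prop :=
  ∃ N : Matrix n n K[X], N.det = 1 ∧ N.map (Polynomial.evalRingHom (0 : K)) = 1 ∧
    N.map (Polynomial.evalRingHom (1 : K)) = M

theorem P_one : P (1 : Matrix n n K) := ⟨1, det_one, by simp, by simp⟩

theorem P_mul {A B : Matrix n n K} (hA : P A) (hB : P B) : P (A * B) := by
  obtain ⟨NA, h1, h2, h3⟩ := hA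
  obtain ⟨NB, h4, h5, h6⟩ := hB
  refine ⟨NA * NB, by rw [det_mul, h1, h4, one_mul], ?_, ?_⟩
  · rw [Matrix.map_mul, h2, h5, one_mul]
  · rw [Matrix.map_mul, h3, h6]

theorem P_det {A : Matrix n n K} (hA : P A) : A.det = 1 := by
  obtain ⟨NA, h1, h2, h3⟩ := hA
  rw [← h3]
  have := (Polynomial.evalRingHom (1 : K)).map_det NA
  rw [RingHom.mapMatrix_apply] at this
  rw [← this, h1, map_one]

theorem map_transvection {R S : Type*} [CommRing R] [CommRing S] (f : R →+* S) (i j : n) (c : R) :
    (transvection i j c).map f = transvection i j (f c) := by
  ext a b
  simp only [transvection, Matrix.map_apply, Matrix.add_apply, Matrix.one_apply, Matrix.single_apply]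
  split_ifs <;> simp

theorem P_transvection (i j : n) (hij : i ≠ j) (c : K) : P (transvection i j c) := by
  refine ⟨transvection i j (C c * X), det_transvection_of_ne i j hij _, ?_, ?_⟩
  · rw [map_transvection]
    simp
  · rw [map_transvection]
    simp

theorem mul_transvection_apply (X : Matrix n n K) (i j : n) (c : K) (a b : n) :
    (X * transvection i j c) a b = X a b + (if b = j then c * X a i else 0) := by
  by_cases hb : b = j
  · subst hb
    simp
  · simp [hb]

theorem transvection_apply (i j : n) (c : K) (a b : n) :
    transvection i j c a b = (if a = b then 1 else 0) + (if a = i ∧ b = j then c else 0) := by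
  simp only [transvection, Matrix.add_apply, Matrix.one_apply, Matrix.single_apply]
  simp only [eq_comm]

/-- Whitehead -/
theorem whitehead (i j : n) (hij : i ≠ j) (d : K) (hd : d ≠ 0) :
    diagonal (Function.update (Function.update (1 : n → K) i d) j d⁻¹)
      = transvection i j d * transvection j i (-d⁻¹) * transvection i j d *
        (transvection i j (-1) * transvection j i 1 * transvection i j (-1)) := by
  have hji : j ≠ i := hij.symm
  rw [← mul_assoc, ← mul_assoc]
  ext a b
  simp only [mul_transvection_apply, transvection_apply, Matrix.diagonal_apply]
  by_cases hai : a = i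
  · subst hai
    by_cases hbi : b = a
    · subst hbi
      simp [hij, hji]
      field_simp
      ring
    · by_cases hbj : b = j
      · subst hbj
        simp [hij, hji]
        field_simp
        ring
      · simp [hij, hji, hbi, hbj, Ne.symm hbi, Ne.symm hbj]
  · by_cases haj : a = j
    · subst haj
      by_cases hbi : b = i
      · subst hbi
        simp [hij, hji]
        field_simp
        ring
      · by_cases hbj : b = a
        · subst hbj
          simp [hij, hji]
          field_simp
          ring
        · simp [hij, hji, hbi, hbj, Ne.symm hbi, Ne.symm hbj]
    · by_cases hbi : b = i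
      · subst hbi
        simp [hij, hji, hai, haj, Ne.symm hai, Ne.symm haj]
      · by_cases hbj : b = j
        · subst hbj
          simp [hij, hji, hai, haj, Ne.symm hai, Ne.symm haj]
        · by_cases hab : a = b
          · subst hab
            simp [hij, hji, hai, haj, Ne.symm hai, Ne.symm haj]
          · simp [hij, hji, hai, haj, hbi, hbj, hab, Ne.symm hai, Ne.symm haj]


theorem P_W (i j : n) (hij : i ≠ j) (d : K) (hd : d ≠ 0) :
    P (diagonal (Function.update (Function.update (1 : n → K) i d) j d⁻¹)) := by
  rw [whitehead i j hij d hd]
  exact P_mul (P_mul (P_mul (P_transvection i j hij _) (P_transvection j i hij.symm _))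
    (P_transvection i j hij _))
    (P_mul (P_mul (P_transvection i j hij _) (P_transvection j i hij.symm _))
    (P_transvection i j hij _))

theorem P_diag_aux (S : Finset n) : ∀ D : n → K, (∀ i, i ∉ S → D i = 1) → (∏ i, D i = 1) →
    P (diagonal D) := by
  induction S using Finset.induction with
  | empty =>
    intro D hD _
    have : D = 1 := funext fun i => hD i (Finset.notMem_empty i)
    rw [this, show (diagonal (1 : n → K)) = 1 from diagonal_one]
    exact P_one
  | insert i S hi ih =>
    intro D hD hprod
    have hne : ∀ k, D k ≠ 0 := by
      intro k hk
      have : ∏ i, D i = 0 := Finset.prod_eq_zero (Finset.mem_univ k) hk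
      rw [hprod] at this
      exact one_ne_zero this
    rcases S.eq_empty_or_nonempty with hS | ⟨j, hj⟩
    · subst hS
      have hDi : D i = 1 := by
        rw [← hprod]
        symm
        refine Finset.prod_eq_single i (fun k _ hk => hD k (by simpa using hk)) (by simp)
      have : D = 1 := by
        funext k
        by_cases hk : k = i
        · subst hk; exact hDi
        · exact hD k (by simpa using hk)
      rw [this, show (diagonal (1 : n → K)) = 1 from diagonal_one]
      exact P_one
    · have hij : i ≠ j := fun h => hi (h ▸ hj)
      let D' : n → K := Function.update (Function.update D i 1) j (D i * D j)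
      have hfac : diagonal D = diagonal (Function.update (Function.update (1 : n → K) i (D i)) j (D i)⁻¹)
          * diagonal D' := by
        rw [diagonal_mul_diagonal]
        congr 1
        funext k
        by_cases hkj : k = j
        · subst hkj
          simp [D', inv_mul_cancel_left₀ (hne i)]
        · by_cases hki : k = i
          · subst hki
            simp [D', hkj, Function.update_of_ne hkj]
          · simp [D', hkj, hki, Function.update_of_ne hkj, Function.update_of_ne hki]
      have hW := P_W i j hij (D i) (hne i)
      have hD'S : ∀ k, k ∉ S → D' k = 1 := by
        intro k hk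
        have hkj : k ≠ j := fun h => hk (h ▸ hj)
        by_cases hki : k = i
        · subst hki
          simp [D', Function.update_of_ne hkj]
        · simp only [D', Function.update_of_ne hkj, Function.update_of_ne hki]
          exact hD k (by simp [hki, hk])
      have hD'prod : ∏ k, D' k = 1 := by
        have h1 : (diagonal D).det = 1 := by rw [det_diagonal]; exact hprod
        rw [hfac, det_mul, P_det hW, one_mul, det_diagonal] at h1
        exact h1
      rw [hfac]
      exact P_mul hW (ih D' hD'S hD'prod)

theorem P_diag (D : n → K) (h : (diagonal D).det = 1) : P (diagonal D) :=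
  P_diag_aux Finset.univ D (fun i hi => absurd (Finset.mem_univ i) hi) (by rwa [det_diagonal] at h)

theorem P_of_det (M : Matrix n n K) (h : M.det = 1) : P M := by
  refine diagonal_transvection_induction P M (fun D hD => P_diag D (hD.trans h)) ?_
    (fun A B hA hB => P_mul hA hB)
  intro t
  exact P_transvection t.i t.j t.hij t.c

/-- Let K be a field and r ≥ 1. For every element A of the special linear group SL_{r+1}(K) there is an
algebraic path in SL_{r+1} from the identity to A defined over K: a matrix M of determinant 1 with
entries in the polynomial ring K[y] such that M(0) is the identity matrix and M(1) = A. (The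
published statement takes K to be the function field of SL_{r+1} over the ground field, A its
generic point viewed as a K-rational point, and the parameter space to be the projective line minus
the point 1, with endpoints 0 and ∞; this row gives the path for an arbitrary K-point A on the
affine line with endpoints 0 and 1, which is what the published construction provides before
composing with the coordinate change y ↦ y/(y − 1).) -/
theorem result
    (K : Type u) [Field K] (r : ℕ) (hr : 1 ≤ r)
    (A : Matrix.SpecialLinearGroup (Fin (r + 1)) K) :
    ∃ M : Matrix.SpecialLinearGroup (Fin (r + 1)) (Polynomial K),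
      Matrix.SpecialLinearGroup.map (Polynomial.evalRingHom (0 : K)) M = 1 ∧
      Matrix.SpecialLinearGroup.map (Polynomial.evalRingHom (1 : K)) M = A := by
  obtain ⟨N, h1, h2, h3⟩ := P_of_det A.1 A.2
  refine ⟨⟨N, h1⟩, ?_, ?_⟩
  · apply Subtype.ext
    exact h2
  · apply Subtype.ext
    exact h3

end Groth.Agent.S15083
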