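import Groth.Statements.S15084
import Mathlib

set_option autoImplicit false
universe u
open MovLem

namespace Groth.Agent.S15084

/-- Let A be a Noetherian integrally closed domain with fraction field K, let B be a domain with
fraction field L, and let A → B be an injective ring homomorphism, with K → L the induced map of
fraction fields, such that Spec B → Spec A is surjective (every prime ideal of A is the contraction
of a prime ideal of B). If a ∈ K is such that its image in L lies in B, then a ∈ A. (The published
statement: for a surjective morphism f : Y → X of normal integral separated schemes of finite type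
over a perfect field and a Cartier divisor D on X, if f^*D is effective then D is effective; a
Cartier divisor is locally the divisor of a nonzero rational function a, effectivity of div(a) on a
normal scheme means that a is a regular function, and this row is that local statement, which is
what the published proof establishes.) -/
theorem result
    (A B K L : Type u) [CommRing A] [IsDomain A] [IsNoetherianRing A] [IsIntegrallyClosed A]
    [CommRing B] [IsDomain B] [Field K] [Field L]
    [Algebra A B] [Algebra A K] [IsFractionRing A K] [Algebra B L] [IsFractionRing B L]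
    [Algebra K L] [Algebra A L] [IsScalarTower A K L] [IsScalarTower A B L]
    (hinj : Function.Injective (algebraMap A B))
    (hsurj : ∀ p : Ideal A, p.IsPrime → ∃ q : Ideal B, q.IsPrime ∧ q.comap (algebraMap A B) = p)
    (a : K) (ha : algebraMap K L a ∈ (algebraMap B L).range) :
    a ∈ (algebraMap A K).range := by
  by_contra hna
  -- range as a submodule
  let Rg : Submodule A K := LinearMap.range (Algebra.linearMap A K)
  have hRg : ∀ x : K, x ∈ Rg ↔ ∃ c : A, algebraMap A K c = x := fun x => Iff.rfl
  let I : Ideal A := Rg.colon {a}
  have hI : ∀ s : A, s ∈ I ↔ ∃ c : A, algebraMap A K c = algebraMap A K s * a := by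
    intro s
    rw [Submodule.mem_colon_singleton, hRg, Algebra.smul_def]
  have hI1 : I ≠ ⊤ := by
    intro h
    have : (1 : A) ∈ I := by rw [h]; trivial
    rw [hI] at this
    obtain ⟨c, hc⟩ := this
    apply hna
    exact ⟨c, by rw [hc, map_one, one_mul]⟩
  have : Nontrivial (A ⧸ I) := Ideal.Quotient.nontrivial_iff.mpr hI1
  obtain ⟨P, hP⟩ := associatedPrimes.nonempty A (A ⧸ I)
  rw [AssociatedPrimes.mem_iff, isAssociatedPrime_iff] at hP
  obtain ⟨hPprime, m, hPm⟩ := hP
  obtain ⟨t, rfl⟩ := Ideal.Quotient.mk_surjective m
  set z : K := algebraMap A K t * a with hz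
  have hPz : ∀ s : A, s ∈ P ↔ ∃ c : A, algebraMap A K c = algebraMap A K s * z := by
    intro s
    rw [hPm, Submodule.mem_colon_singleton, Submodule.mem_bot,
      show s • (Ideal.Quotient.mk I) t = Ideal.Quotient.mk I (s * t) from rfl,
      Ideal.Quotient.eq_zero_iff_mem, hI, map_mul, hz, mul_assoc]
  -- z maps into B
  obtain ⟨b, hb⟩ := ha
  have hzL : algebraMap K L z = algebraMap B L (algebraMap A B t * b) := by
    rw [hz, map_mul, map_mul, hb, ← IsScalarTower.algebraMap_apply, ← IsScalarTower.algebraMap_apply]
  -- P ≠ ⊥
  obtain ⟨x, y, hy, hxy⟩ := IsFractionRing.div_surjective (A := A) a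
  have hyP : y ∈ P := by
    rw [hPz]
    refine ⟨t * x, ?_⟩
    have hy0 : algebraMap A K y ≠ 0 := by
      intro h0
      have := (IsFractionRing.injective A K) (h0.trans (map_zero _).symm)
      exact (nonZeroDivisors.ne_zero hy) this
    rw [hz, ← hxy, map_mul]
    field_simp
  have hy0 : y ≠ 0 := nonZeroDivisors.ne_zero hy
  by_cases hcase : ∀ s ∈ P, ∃ c ∈ P, algebraMap A K c = algebraMap A K s * z
  · -- z integral
    let N : Submodule A K := Submodule.map (Algebra.linearMap A K) P
    have hN0 : N ≠ ⊥ := by
      intro h
      have : algebraMap A K y ∈ N := ⟨y, hyP, rfl⟩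
      rw [h, Submodule.mem_bot] at this
      exact hy0 ((IsFractionRing.injective A K) (this.trans (map_zero _).symm))
    have hNfg : N.FG := Submodule.FG.map (Algebra.linearMap A K) (IsNoetherian.noetherian P)
    have hint : IsIntegral A z := by
      refine isIntegral_of_smul_mem_submodule (M := K) N hN0 hNfg z ?_
      rintro _ ⟨s, hs, rfl⟩
      obtain ⟨c, hc, hcz⟩ := hcase s hs
      refine ⟨c, hc, ?_⟩
      rw [Algebra.linearMap_apply, hcz, Algebra.linearMap_apply, smul_eq_mul, mul_comm]
    obtain ⟨c, hc⟩ := IsIntegrallyClosed.isIntegral_iff.mp hint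
    have h1 : (1 : A) ∈ P := by
      rw [hPz]
      exact ⟨c, by rw [hc, map_one, one_mul]⟩
    exact hPprime.ne_top ((Ideal.eq_top_iff_one P).mpr h1)
  · push Not at hcase
    obtain ⟨s, hs, hsz⟩ := hcase
    obtain ⟨u, hu⟩ := (hPz s).mp hs
    have huP : u ∉ P := fun h => hsz u h hu
    obtain ⟨q, hq, hqp⟩ := hsurj P hPprime
    apply huP
    rw [← hqp, Ideal.mem_comap]
    have hinjBL : Function.Injective (algebraMap B L) := IsFractionRing.injective B L
    have : algebraMap A B u = algebraMap A B s * (algebraMap A B t * b) := by
      apply hinjBL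
      rw [map_mul, ← hzL, ← IsScalarTower.algebraMap_apply, ← IsScalarTower.algebraMap_apply,
        IsScalarTower.algebraMap_apply A K L u, hu, map_mul, ← IsScalarTower.algebraMap_apply]
    rw [this]
    apply Ideal.mul_mem_right
    rw [← Ideal.mem_comap, hqp]
    exact hs

end Groth.Agent.S15084
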