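import Groth.Statements.S15085
import Mathlib
import Groth.Agent.Lib.Helper4VarDim13
-- import your own Groth.Agent.* helpers here

set_option autoImplicit false
set_option linter.style.haveILetI false
set_option linter.unusedSectionVars false
universe u
open CategoryTheory CategoryTheory.Limits AlgebraicGeometry
open MovLem

namespace Groth.Agent.S15085

open Groth.Agent.Lib.Helper4.VarDim

attribute [local instance] Groth.Agent.Lib.Helper4.VarDim.sectionsAlgebra Curv2.resAlgebra

/-- a finite `k`-morphism preserves the transcendence degree of residue fields -/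
theorem trdegNat_eq_of_isFinite (k : Type u) [Field k] {Z X : Scheme.{u}}
    [X.Over (Spec (CommRingCat.of k))] [Z.Over (Spec (CommRingCat.of k))]
    [LocallyOfFiniteType (X ↘ Spec (CommRingCat.of k))]
    [LocallyOfFiniteType (Z ↘ Spec (CommRingCat.of k))]
    (φ : Z ⟶ X) [IsFinite φ]
    (hφ : φ ≫ (X ↘ Spec (CommRingCat.of k)) = (Z ↘ Spec (CommRingCat.of k))) (z : Z) :
    trdegNat k Z z = trdegNat k X (φ z) := by
  have h1 := trdeg_add_trdeg_residueFieldMap k φ hφ z
  rw [trdeg_residueFieldMap_eq_zero_of_locallyQuasiFinite φ z, add_zero,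
    trdeg_eq_trdegNat k X (φ z), trdeg_eq_trdegNat k Z z] at h1
  exact_mod_cast h1.symm

set_option backward.isDefEq.respectTransparency.types false in
theorem isAffineHom_pullback_snd {X Y S : Scheme.{u}} (f : X ⟶ S) (g : Y ⟶ S) [IsAffineHom f] :
    IsAffineHom (pullback.snd f g) := MorphismProperty.pullback_snd _ _ ‹_›


/-- Let k be a field, X an affine scheme of finite type over k which is equidimensional (all irreducible
components have the same dimension), B̂ a proper smooth geometrically integral k-scheme and B ⊆ B̂ a
nonempty affine open subscheme. Let Z be an integral closed subscheme of X ×_k B of dimension dim X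
(that is, of codimension dim B, the product X ×_k B being equidimensional of dimension dim X + dim
B). Then the projection Z → X is finite and maps Z onto an irreducible component of X if and only if
Z is closed in X ×_k B̂. (The published statement allows X to be essentially of finite type, i.e.
also a localization of such a scheme at finitely many points, takes B̂ projective of positive
dimension, and phrases the dimension condition as codimension dim B; this row is the finite-type
case with properness in place of projectivity.) -/
theorem result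
    {k : Type u} [Field k] {X Bhat Z : Scheme.{u}}
    (sX : X ⟶ Spec (CommRingCat.of k)) (sB : Bhat ⟶ Spec (CommRingCat.of k))
    [IsAffine X] [LocallyOfFiniteType sX]
    (hXeq : ∀ T ∈ irreducibleComponents (X : Type u), topologicalKrullDim T = topologicalKrullDim X)
    [IsProper sB] [Smooth sB] [GeometricallyIntegral sB]
    (B : Bhat.Opens) (hB : IsAffineOpen B) (hBne : (B : Set Bhat).Nonempty)
    [IsIntegral Z] (ι : Z ⟶ ((pullback.snd sX sB) ⁻¹ᵁ B).toScheme) [IsClosedImmersion ι]
    (hZ : topologicalKrullDim Z = topologicalKrullDim X)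
    (j : Z ⟶ pullback sX sB) (hj : j = ι ≫ ((pullback.snd sX sB) ⁻¹ᵁ B).ι) :
    (IsFinite (j ≫ pullback.fst sX sB) ∧
        Set.range (j ≫ pullback.fst sX sB).base ∈ irreducibleComponents (X : Type u)) ↔
      IsClosed (Set.range j.base) := by
  subst hj
  set j : Z ⟶ pullback sX sB := ι ≫ ((pullback.snd sX sB) ⁻¹ᵁ B).ι with hjdef
  constructor
  · rintro ⟨hfin, -⟩
    haveI : IsProper (j ≫ pullback.fst sX sB) := inferInstance
    haveI : IsProper j := IsProper.of_comp j (pullback.fst sX sB)
    exact j.isClosedMap.isClosed_range
  · intro hcl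
    haveI : IsClosedImmersion j := IsClosedImmersion.of_isPreimmersion j hcl
    haveI : IsProper (j ≫ pullback.fst sX sB) := inferInstance
    -- affineness
    haveI : IsAffineHom sX := inferInstance
    haveI : IsAffineHom (pullback.snd sX sB) := isAffineHom_pullback_snd sX sB
    have hPB : IsAffineOpen ((pullback.snd sX sB) ⁻¹ᵁ B) := hB.preimage (pullback.snd sX sB)
    haveI : IsAffine ((pullback.snd sX sB) ⁻¹ᵁ B).toScheme := hPB
    haveI : IsAffine Z := isAffine_of_isAffineHom ι
    haveI : IsAffineHom (j ≫ pullback.fst sX sB) := inferInstance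
    haveI hfin : IsFinite (j ≫ pullback.fst sX sB) :=
      IsFinite.iff_isProper_and_isAffineHom.mpr ⟨inferInstance, inferInstance⟩
    refine ⟨hfin, ?_⟩
    set φ : Z ⟶ X := j ≫ pullback.fst sX sB with hφdef
    letI : X.Over (Spec (CommRingCat.of k)) := ⟨sX⟩
    letI : Z.Over (Spec (CommRingCat.of k)) := ⟨φ ≫ sX⟩
    haveI : LocallyOfFiniteType (X ↘ Spec (CommRingCat.of k)) := ‹LocallyOfFiniteType sX›
    haveI : LocallyOfFiniteType (Z ↘ Spec (CommRingCat.of k)) :=
      (inferInstance : LocallyOfFiniteType (φ ≫ sX))
    let ζ : Z := genericPoint Z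
    let ξ : X := φ ζ
    have hT : Set.range φ = closure ({ξ} : Set X) := by
      rw [← Set.image_univ, ← (genericPoint_spec Z).def,
        ← IsClosedMap.closure_image_eq_of_continuous φ.isClosedMap φ.continuous,
        Set.image_singleton]
    have hdZ : topologicalKrullDim Z = ((trdegNat k Z ζ : ℕ) : WithBot ℕ∞) := by
      rw [← topologicalKrullDim_closure_singleton k Z ζ, (genericPoint_spec Z).def,
        topologicalKrullDim_univ_eq]
    have hζξ : trdegNat k Z ζ = trdegNat k X ξ := trdegNat_eq_of_isFinite k φ rfl ζ
    -- the component containing the image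
    have hirr : IsIrreducible (closure ({ξ} : Set X)) := isIrreducible_singleton.closure
    obtain ⟨T', hT', hsub⟩ :=
      exists_mem_irreducibleComponents_subset_of_isIrreducible (closure ({ξ} : Set X)) hirr
    have hT'cl : IsClosed T' := isClosed_of_mem_irreducibleComponents T' hT'
    obtain ⟨ξ', hξ'⟩ := QuasiSober.sober hT'.1 hT'cl
    have hdT' : topologicalKrullDim T' = ((trdegNat k X ξ' : ℕ) : WithBot ℕ∞) := by
      rw [← hξ'.def]; exact topologicalKrullDim_closure_singleton k X ξ'
    have heq : trdegNat k X ξ' = trdegNat k X ξ := by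
      have h1 : ((trdegNat k X ξ' : ℕ) : WithBot ℕ∞) = ((trdegNat k Z ζ : ℕ) : WithBot ℕ∞) := by
        rw [← hdT', hXeq T' hT', ← hZ, hdZ]
      rw [← hζξ]
      exact_mod_cast h1
    have hspec : ξ' ⤳ ξ := by
      rw [specializes_iff_mem_closure, hξ'.def]
      exact hsub (subset_closure rfl)
    have hξξ' : ξ' = ξ := by
      by_contra hne
      have := trdegNat_lt_of_specializes k X ξ' ξ hspec hne
      omega
    change Set.range φ ∈ irreducibleComponents (X : Type u)
    rw [hT, ← hξξ', hξ'.def]
    exact hT'

end Groth.Agent.S15085
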