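import Groth.Statements.S15100
import Groth.Agent.Lib.Helper19OmegaNonfree

set_option autoImplicit false
universe u
open TensorProduct
open CAlg

namespace Groth.Agent.S15100

/-- Let V be a discrete valuation ring with uniformizer u and V → R → A commutative V-algebras with A an
R-algebra compatibly; assume A is a Noetherian local domain of Krull dimension 3 with u in its
maximal ideal, that Ω_{A/V} is a free A-module of rank 2 and that A ⊗_R Ω_{R/V} is a free A-module
of rank 1. Suppose that on the special fibre Ω_{A/R} is locally free exactly away from the closed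
point: for every prime P of A containing u other than the maximal ideal the localization (Ω_{A/R})_P
is free over A_P, while Ω_{A/R} is not free over A. Then Ω_{A/R} is not locally free on the generic
fibre: there is a prime Q of A not containing u with (Ω_{A/R})_Q not free over A_Q. (In the
published statement R is a regular local ring of dimension 2 and A a local ring of dimension 3, both
smooth over V, which yields the two freeness hypotheses used here, and the hypothesis is phrased as
local freeness of Ω of the special fibre of A over that of R away from the closed point.) -/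
theorem result
    (V R A : Type u) [CommRing V] [IsDomain V] [IsDiscreteValuationRing V] [CommRing R] [CommRing A]
    [IsDomain A] [IsNoetherianRing A] [IsLocalRing A]
    [Algebra V R] [Algebra V A] [Algebra R A] [IsScalarTower V R A]
    (u : V) (hu : Irreducible u) (huA : algebraMap V A u ∈ IsLocalRing.maximalIdeal A)
    (hdimA : ringKrullDim A = 3)
    (hΩA : Module.Free A (Ω[A⁄V])) (hrkA : Module.finrank A (Ω[A⁄V]) = 2)
    (hΩR : Module.Free A (A ⊗[R] Ω[R⁄V])) (hrkR : Module.finrank A (A ⊗[R] Ω[R⁄V]) = 1)
    (h0 : ∀ P : PrimeSpectrum A, algebraMap V A u ∈ P.asIdeal → P.asIdeal ≠ IsLocalRing.maximalIdeal A →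
      Module.Free (Localization.AtPrime P.asIdeal) (LocalizedModule P.asIdeal.primeCompl (Ω[A⁄R])))
    (hm : ¬ Module.Free A (Ω[A⁄R])) :
    ∃ Q : PrimeSpectrum A, algebraMap V A u ∉ Q.asIdeal ∧
      ¬ Module.Free (Localization.AtPrime Q.asIdeal) (LocalizedModule Q.asIdeal.primeCompl (Ω[A⁄R])) := by
  classical
  have hex := KaehlerDifferential.exact_mapBaseChange_map V R A
  have hsurj : Function.Surjective (KaehlerDifferential.map V R A A) :=
    KaehlerDifferential.map_surjective V R A
  haveI : Module.Finite A (A ⊗[R] Ω[R⁄V]) := Module.finite_of_finrank_pos (by omega)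
  haveI : Module.Finite A (Ω[A⁄V]) := Module.finite_of_finrank_pos (by omega)
  let b₁ : Module.Basis (Fin 1) A (A ⊗[R] Ω[R⁄V]) := Module.finBasisOfFinrankEq A _ hrkR
  let b₂ : Module.Basis (Fin 2) A (Ω[A⁄V]) := Module.finBasisOfFinrankEq A _ hrkA
  set φ := KaehlerDifferential.mapBaseChange V R A with hφ
  set π := KaehlerDifferential.map V R A A with hπ
  let f : Fin 2 → A := fun i => b₂.repr (φ (b₁ 0)) i
  -- all coordinates lie in the maximal ideal
  have hfm : ∀ i, f i ∈ IsLocalRing.maximalIdeal A := by
    intro i
    by_contra hi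
    have hu : IsUnit (f i) := by
      by_contra h
      exact hi ((IsLocalRing.mem_maximalIdeal _).2 h)
    exact hm (Groth.Agent.Lib.Helper19.OmegaNonfree.free_of_isUnit φ π hex hsurj b₁ b₂ i hu)
  have hJm : Ideal.span ((Finset.univ.image f : Finset A) : Set A) ≤ IsLocalRing.maximalIdeal A := by
    rw [Ideal.span_le]
    intro x hx
    rw [Finset.mem_coe, Finset.mem_image] at hx
    obtain ⟨i, _, rfl⟩ := hx
    exact hfm i
  obtain ⟨Q, hQmin, hQm⟩ := Ideal.exists_minimalPrimes_le hJm
  haveI hQp : Q.IsPrime := hQmin.1.1
  have hht : Q.height ≤ 2 := by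
    refine (Ideal.height_le_card_of_mem_minimalPrimes_span_finset hQmin).trans ?_
    have h1 : (Finset.univ.image f).card ≤ 2 := by
      refine Finset.card_image_le.trans ?_
      simp
    exact_mod_cast h1
  have hQne : Q ≠ IsLocalRing.maximalIdeal A := by
    intro h
    have h1 : (IsLocalRing.maximalIdeal A).height = (3 : ℕ∞) := by
      have h2 := IsLocalRing.maximalIdeal_height_eq_ringKrullDim (R := A)
      rw [hdimA] at h2
      have h3 : ((IsLocalRing.maximalIdeal A).height : WithBot ℕ∞) = ((3 : ℕ∞) : WithBot ℕ∞) := by
        rw [h2]; rfl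
      exact WithBot.coe_injective h3
    rw [h, h1] at hht
    exact absurd hht (by norm_num)
  have hfQ : ∀ i, b₂.repr (φ (b₁ 0)) i ∈ Q := by
    intro i
    apply hQmin.1.2
    exact Ideal.subset_span (Finset.mem_coe.2 (Finset.mem_image.2 ⟨i, Finset.mem_univ _, rfl⟩))
  have hnf : ¬ Module.Free (Localization.AtPrime Q) (LocalizedModule Q.primeCompl (Ω[A⁄R])) := by
    intro hfree
    have h0' := Groth.Agent.Lib.Helper19.OmegaNonfree.eq_zero_of_free_localized φ π hex hsurj
      b₁ b₂ Q hfQ hfree
    exact hm (Groth.Agent.Lib.Helper19.OmegaNonfree.free_of_eq_zero φ π hex hsurj h0')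
  refine ⟨⟨Q, hQp⟩, ?_, hnf⟩
  intro hu'
  exact hnf (h0 ⟨Q, hQp⟩ hu' hQne)

end Groth.Agent.S15100
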