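import Groth.Statements.S15115
import Groth.Agent.Lib.Helper25Reynolds

set_option autoImplicit false
universe u
open HopfRep

namespace Groth.Agent.S15115


open Groth.Agent.Lib.Helper25 TensorProduct HopfRep in
/-- Multiplication by a scalar of a coefficient ring acting through comodule maps. -/
theorem isComodHom_lsmul {k : Type u} [Field k] {H : Type u} [CommRing H] [Bialgebra k H]
    {A : Type u} [CommRing A] [Algebra k A]
    {M : Type u} [AddCommGroup M] [Module k M] [Module A M] [IsScalarTower k A M] [Comod k H M]
    (hlin : ∀ (a : A) (m : M), Comod.coact (k := k) (A := H) (a • m) =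
      a • Comod.coact (k := k) (A := H) m) (a : A) :
    Hoch.IsComodHom H ((LinearMap.lsmul A M a).restrictScalars k) := by
  apply LinearMap.ext
  intro m
  change Comod.coact (k := k) (A := H) (a • m) =
    ((LinearMap.lsmul A M a).restrictScalars k).rTensor H (Comod.coact (k := k) (A := H) m)
  rw [hlin]
  generalize Comod.coact (k := k) (A := H) m = x
  induction x using TensorProduct.induction_on with
  | zero => simp
  | add x y hx hy => rw [smul_add, hx, hy, map_add]
  | tmul m h => simp [TensorProduct.smul_tmul']



open TensorProduct in
/-- Let k be an algebraically closed field, H a finite-dimensional commutative Hopf algebra over k all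
of whose finite-dimensional comodules are semisimple (a finite linearly reductive group scheme G
over k), A a commutative k-algebra, and M an A-module with an H-coaction that is A-linear (G acts on
M by A-module maps, A carrying the trivial action). Let A' be a commutative A-algebra and N = A' ⊗_A
M its base change, exhibited by an A-linear map φ : M → N, with the induced coaction: A'-linear and
compatible with φ. Then invariants commute with this base change: writing M^G for the A-submodule of
coinvariant elements of M, the natural map A' ⊗_A M^G → N, a' ⊗ m ↦ a' φ(m), is injective and its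
image is exactly the set of coinvariant elements of N. (The published statement is the isomorphism
ρ^* π_* F → π'_* σ^* F for a tame Deligne–Mumford stack with coarse moduli space π and any base
change ρ of the coarse space; this row is the statement about invariants to which its proof reduces
it, for modules that need not be finitely generated.) -/
theorem result (k : Type u) [Field k] [IsAlgClosed k]
    (H : Type u) [CommRing H] [HopfAlgebra k H] [Module.Finite k H] (hred : HopfRep.IsLinearlyReductive k H)
    (A : Type u) [CommRing A] [Algebra k A]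
    (M : Type u) [AddCommGroup M] [Module k M] [Module A M] [IsScalarTower k A M] [HopfRep.Comod k H M]
    (hlin : ∀ (a : A) (m : M), HopfRep.Comod.coact (k := k) (A := H) (a • m) = a • HopfRep.Comod.coact (k := k) (A := H) m)
    (A' : Type u) [CommRing A'] [Algebra k A'] [Algebra A A'] [IsScalarTower k A A']
    (N : Type u) [AddCommGroup N] [Module k N] [Module A N] [Module A' N]
    [IsScalarTower k A N] [IsScalarTower A A' N] [IsScalarTower k A' N] [HopfRep.Comod k H N]
    (φ : M →ₗ[A] N) (hφ : IsBaseChange A' φ)
    (hcomp : ∀ m : M, HopfRep.Comod.coact (k := k) (A := H) (φ m) =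
      LinearMap.rTensor H (φ.restrictScalars k) (HopfRep.Comod.coact (k := k) (A := H) m))
    (hlinN : ∀ (a' : A') (n : N), HopfRep.Comod.coact (k := k) (A := H) (a' • n) = a' • HopfRep.Comod.coact (k := k) (A := H) n)
    (P : Submodule A M) (hP : (P : Set M) = (HopfRep.fixedPts k H M : Set M)) :
    Function.Injective (TensorProduct.lift (((Algebra.lsmul A A N : A' →ₐ[A] Module.End A N).toLinearMap).compl₂ (φ ∘ₗ P.subtype))) ∧
      Set.range (TensorProduct.lift (((Algebra.lsmul A A N : A' →ₐ[A] Module.End A N).toLinearMap).compl₂ (φ ∘ₗ P.subtype))) =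
        (HopfRep.fixedPts k H N : Set N) := by
  open Groth.Agent.Lib.Helper25 in
  have hssM : HopfRep.IsSemisimpleComod k H M := isSemisimpleComod_of_isLinearlyReductive hred M
  have hssN : HopfRep.IsSemisimpleComod k H N := isSemisimpleComod_of_isLinearlyReductive hred N
  obtain ⟨EM, hEM, hEEM, hExM⟩ := exists_reynolds hssM
  obtain ⟨EN, hEN, hEEN, hExN⟩ := exists_reynolds hssN
  have hEMfix : ∀ x, EM x ∈ HopfRep.fixedPts k H M :=
    fun x => (hExM _).mp (LinearMap.congr_fun hEEM x)
  have hPmem : ∀ m : M, m ∈ P ↔ m ∈ HopfRep.fixedPts k H M := by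
    intro m
    have : m ∈ (P : Set M) ↔ m ∈ (HopfRep.fixedPts k H M : Set M) := by rw [hP]
    exact this
  -- linearity of the Reynolds operators
  have hEMlin : ∀ (a : A) (m : M), EM (a • m) = a • EM m := by
    intro a m
    exact LinearMap.congr_fun
      (reynolds_comm hssM hEM hEEM hExM hEM hEEM hExM (isComodHom_lsmul hlin a)) m
  have hENlin : ∀ (a' : A') (n : N), EN (a' • n) = a' • EN n := by
    intro a' n
    exact LinearMap.congr_fun
      (reynolds_comm hssN hEN hEEN hExN hEN hEEN hExN (isComodHom_lsmul hlinN a')) n
  have hφhom : Hoch.IsComodHom H (φ.restrictScalars k) := by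
    apply LinearMap.ext
    intro m
    exact hcomp m
  have hENφ : ∀ m : M, EN (φ m) = φ (EM m) := by
    intro m
    exact LinearMap.congr_fun (reynolds_comm hssM hEM hEEM hExM hEN hEEN hExN hφhom) m
  -- the retraction `M → P`
  let r : M →ₗ[A] P :=
    { toFun := fun m => ⟨EM m, (hPmem _).mpr (hEMfix m)⟩
      map_add' := fun x y => Subtype.ext (map_add EM x y)
      map_smul' := fun a x => Subtype.ext (hEMlin a x) }
  have hr : r ∘ₗ P.subtype = LinearMap.id := by
    apply LinearMap.ext
    intro p
    apply Subtype.ext
    exact (hExM _).mpr ((hPmem _).mp p.2)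
  set Θ := TensorProduct.lift (((Algebra.lsmul A A N : A' →ₐ[A] Module.End A N).toLinearMap).compl₂
    (φ ∘ₗ P.subtype)) with hΘ
  have hΘtmul : ∀ (a' : A') (p : P), Θ (a' ⊗ₜ[A] p) = a' • φ (p : M) := by
    intro a' p
    simp [Θ]
  have hΘeq : ∀ x : A' ⊗[A] P, Θ x = hφ.equiv (P.subtype.lTensor A' x) := by
    intro x
    induction x using TensorProduct.induction_on with
    | zero => simp
    | add x y hx hy => rw [map_add, hx, hy, map_add, map_add]
    | tmul a' p => rw [hΘtmul, LinearMap.lTensor_tmul, IsBaseChange.equiv_tmul]; rfl
  refine ⟨?_, ?_⟩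
  · intro x y hxy
    rw [hΘeq, hΘeq] at hxy
    have h1 := hφ.equiv.injective hxy
    have h2 := congrArg (r.lTensor A') h1
    rw [← LinearMap.lTensor_comp_apply, ← LinearMap.lTensor_comp_apply, hr,
      LinearMap.lTensor_id, LinearMap.id_apply, LinearMap.id_apply] at h2
    exact h2
  · apply Set.eq_of_subset_of_subset
    · rintro _ ⟨x, rfl⟩
      change Θ x ∈ HopfRep.fixedPts k H N
      induction x using TensorProduct.induction_on with
      | zero => rw [map_zero]; exact Submodule.zero_mem _
      | add x y hx hy => rw [map_add]; exact Submodule.add_mem _ hx hy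
      | tmul a' p =>
        rw [hΘtmul, mem_fixedPts_iff, hlinN, hcomp, (mem_fixedPts_iff _).mp ((hPmem _).mp p.2),
          LinearMap.rTensor_tmul, TensorProduct.smul_tmul']
        rfl
    · intro n hn
      have hn' : n ∈ HopfRep.fixedPts k H N := hn
      have hEn : EN n = n := (hExN n).mpr hn'
      obtain ⟨y, rfl⟩ := hφ.equiv.surjective n
      -- `EN (equiv y) = Θ (r.lTensor y)`
      have key : ∀ y : A' ⊗[A] M, EN (hφ.equiv y) = Θ (r.lTensor A' y) := by
        intro y
        induction y using TensorProduct.induction_on with
        | zero => simp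
        | add x y hx hy => rw [map_add, map_add, hx, hy, map_add, map_add]
        | tmul a' m =>
          rw [IsBaseChange.equiv_tmul, hENlin, hENφ, LinearMap.lTensor_tmul, hΘtmul]
          rfl
      rw [← hEn, key]
      exact ⟨_, rfl⟩

end Groth.Agent.S15115
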