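import Groth.Statements.S15117
import Groth.Agent.Lib.Helper25Coeff

set_option autoImplicit false
universe u v w
open TensorProduct
open NRGIT

namespace Groth.Agent.S15117


open Groth.Agent.Lib.Helper25 TensorProduct in
theorem rTensor_toSpanSingleton_comp {k : Type*} [CommRing k] {A : Type*} [AddCommGroup A]
    [Module k A] {B : Type*} [AddCommGroup B] [Module k B] {V : Type*} [AddCommGroup V]
    [Module k V] (l : V →ₗ[k] k) (b₀ : B) (y : V ⊗[k] A) :
    ((LinearMap.toSpanSingleton k B b₀) ∘ₗ l).rTensor A y = b₀ ⊗ₜ[k] lslice l y := by
  induction y using TensorProduct.induction_on with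
  | zero => simp
  | add x y hx hy => simp only [map_add, hx, hy, TensorProduct.tmul_add]
  | tmul v a =>
    simp only [LinearMap.rTensor_tmul, LinearMap.coe_comp, Function.comp_apply,
      LinearMap.toSpanSingleton_apply, lslice_tmul, TensorProduct.tmul_smul,
      TensorProduct.smul_tmul']



/-- Let k be a field, π : A → B a map of commutative bialgebras over k, W a right A-comodule and V ⊆ W a
subcomodule all of whose elements are coinvariant for the B-coaction induced through π. Then the
coaction of every v ∈ V lies in V ⊗ A' ⊆ W ⊗ A, where A' ⊆ A is the set of elements a with (π ⊗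
id)(Δ a) = 1 ⊗ a, i.e. coinvariant for the coaction of B on A through π on the left factor; the row
states membership in the span of the pure tensors w ⊗ a with w ∈ V and a ∈ A'. (The published
statement is for a linear algebraic group H over an algebraically closed field of characteristic
zero, a normal subgroup N and an H-stable space V of N-invariant sections of a linearised line
bundle, with the coaction landing in O(H)^N ⊗ V, where O(H)^N is the ring of functions on H
invariant under N acting by right multiplication; this row is the comodule form, for any bialgebra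
map over a field, where normality of N is not needed.) -/
theorem result (k : Type u) [Field k]
    (A B : Type v) [CommRing A] [CommRing B] [Bialgebra k A] [Bialgebra k B] (π : A →ₐc[k] B)
    (W : Type w) [AddCommGroup W] [Module k W] [HopfRep.Comod k A W]
    (V : Submodule k W) (hV : HopfRep.IsSubcomod (k := k) (A := A) V)
    (hfix : ∀ v ∈ V, (π.toLinearMap.lTensor W) (HopfRep.Comod.coact (k := k) (A := A) v) = v ⊗ₜ[k] (1 : B))
    (v : W) (hv : v ∈ V) :
    HopfRep.Comod.coact (k := k) (A := A) v ∈
      Submodule.span k {x : W ⊗[k] A | ∃ w ∈ V, ∃ a : A,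
        (π.toLinearMap.rTensor A) (Coalgebra.comul (R := k) a) = (1 : B) ⊗ₜ[k] a ∧ x = w ⊗ₜ[k] a} := by
  open Groth.Agent.Lib.Helper25 in
  -- the subspace `A'` as a kernel
  let Φ : A →ₗ[k] B ⊗[k] A :=
    π.toLinearMap.rTensor A ∘ₗ Coalgebra.comul (R := k) (A := A) - TensorProduct.mk k B A 1
  have hΦ : ∀ a : A, a ∈ LinearMap.ker Φ ↔
      (π.toLinearMap.rTensor A) (Coalgebra.comul (R := k) a) = (1 : B) ⊗ₜ[k] a := by
    intro a
    rw [LinearMap.mem_ker]
    simp only [Φ, LinearMap.sub_apply, LinearMap.coe_comp, Function.comp_apply,
      TensorProduct.mk_apply, sub_eq_zero]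
  -- the coaction of `v` lies in `V ⊗ A'`
  have hmem : HopfRep.Comod.coact (k := k) (A := A) v ∈
      LinearMap.range (TensorProduct.map V.subtype (LinearMap.ker Φ).subtype) := by
    rw [mem_range_map_subtype_iff]
    refine ⟨fun φ => (mem_range_rTensor_iff V _).mp (hV v hv) φ, fun l => ?_⟩
    rw [hΦ, ← coeffMap_apply]
    have h1 := isComodHom_apply (isComodHom_coeffMap (A := A) l) v
    change Coalgebra.comul (R := k) (coeffMap (A := A) l v) = _ at h1
    rw [h1, ← LinearMap.rTensor_comp_apply]
    obtain ⟨y, hy⟩ := hV v hv
    rw [← hy, ← LinearMap.rTensor_comp_apply]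
    have h2 : (π.toLinearMap ∘ₗ coeffMap (A := A) l) ∘ₗ V.subtype =
        (LinearMap.toSpanSingleton k B 1) ∘ₗ (l ∘ₗ V.subtype) := by
      apply LinearMap.ext
      intro w
      simp only [LinearMap.coe_comp, Function.comp_apply, Submodule.coe_subtype,
        LinearMap.toSpanSingleton_apply, coeffMap_apply]
      have h3 := lslice_lTensor l π.toLinearMap (HopfRep.Comod.coact (k := k) (A := A) (w : W))
      rw [hfix w w.2, lslice_tmul] at h3
      exact h3.symm
    rw [h2, rTensor_toSpanSingleton_comp, coeffMap_apply, ← hy, lslice_rTensor]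
  revert hmem
  generalize HopfRep.Comod.coact (k := k) (A := A) v = x
  rintro ⟨z, rfl⟩
  induction z using TensorProduct.induction_on with
  | zero => rw [map_zero]; exact Submodule.zero_mem _
  | add x y hx hy => rw [map_add]; exact Submodule.add_mem _ hx hy
  | tmul w a =>
    apply Submodule.subset_span
    exact ⟨w, w.2, a, (hΦ _).mp a.2, rfl⟩

end Groth.Agent.S15117
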