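import Groth.Statements.S15122
import Mathlib.RingTheory.GradedAlgebra.Homogeneous.Maps
import Mathlib.RingTheory.Localization.Away.Basic

set_option autoImplicit false
universe u v w
open GIT

namespace Groth.Agent.S15122

/-- Let R be a commutative ring, A a commutative R-algebra graded by the natural numbers, σ a
homogeneous element of degree zero, and B the localisation of A away from σ, equipped with a grading
by the natural numbers for which the localisation map ι : A → B is a graded ring homomorphism (such
a grading is necessarily the one induced from A). Then the homogeneous ideal of B generated by the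
image of the irrelevant ideal of A is the whole irrelevant ideal of B; in other words the induced
rational map from Proj B to Proj A is defined everywhere. (The published statement also assumes σ a
non-zero-divisor, which this step does not use, and goes on to conclude that Proj B → Proj A is an
open immersion onto the basic open set of σ.) -/
theorem result
    (R : Type u) (A : Type v) (B : Type w) [CommRing R] [CommRing A] [CommRing B] [Algebra R A] [Algebra R B]
    [Algebra A B] [IsScalarTower R A B]
    (𝒜 : ℕ → Submodule R A) [GradedAlgebra 𝒜] (ℬ : ℕ → Submodule R B) [GradedAlgebra ℬ]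
    (σ : A) (hσ0 : σ ∈ 𝒜 0) [IsLocalization.Away σ B]
    (ι : 𝒜 →+*ᵍ ℬ) (hι : ∀ a : A, ι a = algebraMap A B a) :
    (HomogeneousIdeal.irrelevant 𝒜).map ι = HomogeneousIdeal.irrelevant ℬ := by
  classical
  apply le_antisymm
  · rw [HomogeneousIdeal.map_le_iff_le_comap]
    intro a ha
    change ι a ∈ HomogeneousIdeal.irrelevant ℬ
    rw [HomogeneousIdeal.mem_irrelevant_iff, GradedRing.proj_apply] at ha ⊢
    rw [← GradedRingHom.map_directSumDecompose (𝒜 := 𝒜) (ℬ := ℬ) ι, ha, map_zero]
  · rw [HomogeneousIdeal.irrelevant_le]
    intro i hi b hb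
    change b ∈ ℬ i at hb
    change b ∈ ((HomogeneousIdeal.irrelevant 𝒜).map ι).toIdeal
    rw [HomogeneousIdeal.toIdeal_map]
    obtain ⟨n, a, hna⟩ := IsLocalization.Away.surj σ b
    have hs0 : algebraMap A B σ ∈ ℬ 0 := by
      rw [← hι σ]
      exact ι.map_mem hσ0
    have hsn : algebraMap A B σ ^ n ∈ ℬ 0 := by
      have := SetLike.pow_mem_graded (A := ℬ) n hs0
      simpa using this
    have hbs : b * algebraMap A B σ ^ n ∈ ℬ i := by
      have := SetLike.GradedMul.mul_mem (A := ℬ) hb hsn
      rwa [add_zero] at this
    -- ι (a_i) = b * s^n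
    have hai : ι (DirectSum.decompose 𝒜 a i : A) = b * algebraMap A B σ ^ n := by
      rw [GradedRingHom.map_directSumDecompose (𝒜 := 𝒜) (ℬ := ℬ) ι, hι a, ← hna,
        DirectSum.decompose_of_mem_same ℬ hbs]
    have hmem : ι (DirectSum.decompose 𝒜 a i : A) ∈ Ideal.map ι (HomogeneousIdeal.irrelevant 𝒜).toIdeal :=
      Ideal.mem_map_of_mem _ (HomogeneousIdeal.mem_irrelevant_of_mem 𝒜 hi (DirectSum.decompose 𝒜 a i).2)
    obtain ⟨u, hu⟩ := (IsLocalization.Away.algebraMap_isUnit (S := B) σ).pow n
    have : b = ι (DirectSum.decompose 𝒜 a i : A) * ↑u⁻¹ := by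
      rw [hai, ← hu, mul_assoc, Units.mul_inv, mul_one]
    rw [this]
    exact Ideal.mul_mem_right _ _ hmem

end Groth.Agent.S15122
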