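import Groth.Statements.S15123
import Groth.Agent.Lib.Helper25TorusGrade

set_option autoImplicit false
universe u v w
open InvQ

namespace Groth.Agent.S15123

/-- Let k be an algebraically closed field of characteristic zero, Λ a finitely generated free abelian
group and k[Λ] its group algebra, the coordinate Hopf algebra of the torus with character group Λ.
Let R be a reduced finitely generated commutative k-algebra with a multiplicative coaction of k[Λ]
(an action of the torus on the affine variety Spec R), and suppose the grading monoid is positive: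
if R has a non-zero eigenvector of weight w and one of weight −w then w = 0. Then for every k-point
x of Spec R, the orbit of x is closed if and only if x is a fixed point. (The published statement
also asserts that the fixed-point subvariety is affine and is a good quotient for the action; only
the description of the closed orbits is stated here.) -/
theorem result
    (k : Type u) [Field k] [IsAlgClosed k] [CharZero k]
    (Λ : Type v) [AddCommGroup Λ] [Module.Free ℤ Λ] [Module.Finite ℤ Λ]
    (R : Type w) [CommRing R] [Algebra k R] [Algebra.FiniteType k R] [IsReduced R]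
    [HopfRep.Comod k (AddMonoidAlgebra k Λ) R] [GLin.IsCoactAlg k (AddMonoidAlgebra k Λ) R]
    (hpos : ∀ w : Λ, HopfRep.eigenspace k (AddMonoidAlgebra k Λ) R (AddMonoidAlgebra.single w 1) ≠ ⊥ →
      HopfRep.eigenspace k (AddMonoidAlgebra k Λ) R (AddMonoidAlgebra.single (-w) 1) ≠ ⊥ → w = 0)
    (x : R →ₐ[k] k) :
    GLin.IsClosedOrbit k (AddMonoidAlgebra k Λ) x ↔ GLin.IsFixedPt k (AddMonoidAlgebra k Λ) x := by
  classical
  have hb : ∀ i, IsGroupLikeElem k (AddMonoidAlgebra.basis Λ k i) := by
    intro i
    rw [AddMonoidAlgebra.basis_apply]
    exact AddMonoidAlgebra.isGroupLikeElem_single_one i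
  have hmul : ∀ i j : Λ, AddMonoidAlgebra.basis Λ k i * AddMonoidAlgebra.basis Λ k j =
      AddMonoidAlgebra.basis Λ k (i + j) := by
    intro i j
    simp only [AddMonoidAlgebra.basis_apply, AddMonoidAlgebra.single_mul_single, mul_one]
  have h0 : AddMonoidAlgebra.basis Λ k (0 : Λ) = 1 := by
    rw [AddMonoidAlgebra.basis_apply, AddMonoidAlgebra.one_def]
  have hpos' : ∀ w : Λ, HopfRep.eigenspace k (AddMonoidAlgebra k Λ) R (AddMonoidAlgebra.basis Λ k w) ≠ ⊥ →
      HopfRep.eigenspace k (AddMonoidAlgebra k Λ) R (AddMonoidAlgebra.basis Λ k (-w)) ≠ ⊥ → w = 0 := by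
    intro w
    simp only [AddMonoidAlgebra.basis_apply]
    exact hpos w
  exact Groth.Agent.Lib.Helper25.TorusGrade.isClosedOrbit_iff_isFixedPt (R := R)
    (AddMonoidAlgebra.basis Λ k) hb hmul h0 hpos' x

end Groth.Agent.S15123
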