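import Groth.Statements.S15124
import Groth.Agent.Lib.Helper25TorusGrade

set_option autoImplicit false
universe u v w
open InvQ

namespace Groth.Agent.S15124

/-- Let k be an algebraically closed field of characteristic zero, Λ a finitely generated free abelian
group with group algebra k[Λ] (the coordinate Hopf algebra of a torus T), and R a reduced finitely
generated commutative k-algebra with a multiplicative coaction of k[Λ] (an action of T on the affine
variety X = Spec R) whose grading monoid is positive: if R has non-zero eigenvectors of weights w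
and −w then w = 0. Let I be the ideal of R generated by all eigenvectors of non-zero weight (the
ideal of the fixed-point subscheme X^T). Then the composite of the inclusion of the ring of
invariants R^T into R with the projection R → R/I is bijective: the fixed-point subscheme maps
isomorphically onto the affine quotient Spec R^T. (The published statement phrases this as: X^T is
affine and X → X^T is a good quotient; the good-quotient property itself is not restated here.) -/
theorem result
    (k : Type u) [Field k] [IsAlgClosed k] [CharZero k]
    (Λ : Type v) [AddCommGroup Λ] [Module.Free ℤ Λ] [Module.Finite ℤ Λ]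
    (R : Type w) [CommRing R] [Algebra k R] [Algebra.FiniteType k R] [IsReduced R]
    [HopfRep.Comod k (AddMonoidAlgebra k Λ) R] [GLin.IsCoactAlg k (AddMonoidAlgebra k Λ) R]
    (hpos : ∀ w : Λ, HopfRep.eigenspace k (AddMonoidAlgebra k Λ) R (AddMonoidAlgebra.single w 1) ≠ ⊥ →
      HopfRep.eigenspace k (AddMonoidAlgebra k Λ) R (AddMonoidAlgebra.single (-w) 1) ≠ ⊥ → w = 0) :
    Function.Bijective
      ((Ideal.Quotient.mkₐ k (Ideal.span {f : R | ∃ w : Λ, w ≠ 0 ∧
          f ∈ HopfRep.eigenspace k (AddMonoidAlgebra k Λ) R (AddMonoidAlgebra.single w 1)})).comp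
        (GLin.invariants k (AddMonoidAlgebra k Λ) R).val) := by
  classical
  have hb : ∀ i, IsGroupLikeElem k (AddMonoidAlgebra.basis Λ k i) := by
    intro i
    rw [AddMonoidAlgebra.basis_apply]
    exact AddMonoidAlgebra.isGroupLikeElem_single_one i
  have hmul : ∀ i j : Λ, AddMonoidAlgebra.basis Λ k i * AddMonoidAlgebra.basis Λ k j =
      AddMonoidAlgebra.basis Λ k (i + j) := by
    intro i j
    simp only [AddMonoidAlgebra.basis_apply, AddMonoidAlgebra.single_mul_single, mul_one]
  have h0 : AddMonoidAlgebra.basis Λ k (0 : Λ) = 1 := by
    rw [AddMonoidAlgebra.basis_apply, AddMonoidAlgebra.one_def]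
  have hpos' : ∀ w : Λ, HopfRep.eigenspace k (AddMonoidAlgebra k Λ) R (AddMonoidAlgebra.basis Λ k w) ≠ ⊥ →
      HopfRep.eigenspace k (AddMonoidAlgebra k Λ) R (AddMonoidAlgebra.basis Λ k (-w)) ≠ ⊥ → w = 0 := by
    intro w
    simp only [AddMonoidAlgebra.basis_apply]
    exact hpos w
  have key := Groth.Agent.Lib.Helper25.TorusGrade.bijective_invariants_to_quotient (R := R)
    (AddMonoidAlgebra.basis Λ k) hb hmul h0 hpos'
  simp only [Groth.Agent.Lib.Helper25.TorusGrade.nzIdeal, AddMonoidAlgebra.basis_apply] at key
  exact key

end Groth.Agent.S15124
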