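import Groth.Statements.S15128
import Mathlib
import Groth.Agent.Lib.Helper5LocalFlat2

set_option autoImplicit false
universe u v
open CAlg

namespace Groth.Agent.S15128

open TensorProduct

/-- Over an Artinian local ring A with residue field k, a linear map h between flat A-modules (of any
size) is injective, resp. surjective, as soon as its reduction k ⊗_A h is. (The published statement
is for local Artinian algebras over an algebraically closed field of characteristic zero having that
field as residue field; this row allows any Artinian local ring.) -/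
theorem result
    (A : Type u) [CommRing A] [IsLocalRing A] [IsArtinianRing A]
    (P L : Type v) [AddCommGroup P] [Module A P] [AddCommGroup L] [Module A L]
    [Module.Flat A P] [Module.Flat A L] (h : P →ₗ[A] L) :
    (Function.Injective (h.lTensor (IsLocalRing.ResidueField A)) → Function.Injective h) ∧
    (Function.Surjective (h.lTensor (IsLocalRing.ResidueField A)) → Function.Surjective h) := by
  obtain ⟨n, hn⟩ := IsArtinianRing.isNilpotent_jacobson_bot (R := A)
  have hmn : IsLocalRing.maximalIdeal A ^ n = ⊥ := by
    rw [← IsLocalRing.jacobson_eq_maximalIdeal ⊥ bot_ne_top]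
    exact hn
  constructor
  · intro hinj
    have h1 := Groth.Agent.Lib.Helper5.lTensor_injective_of_pow_smul_top_eq_bot h hinj n A (by
      rw [hmn, Submodule.bot_smul])
    intro x y hxy
    have h2 : h.lTensor A (1 ⊗ₜ x) = h.lTensor A (1 ⊗ₜ y) := by
      rw [LinearMap.lTensor_tmul, LinearMap.lTensor_tmul, hxy]
    have h3 := h1 h2
    have h4 := congrArg (TensorProduct.lid A P) h3
    simpa using h4
  · intro hsurj
    have hone : ∀ z : IsLocalRing.ResidueField A ⊗[A] P,
        ∃ p : P, z = (1 : IsLocalRing.ResidueField A) ⊗ₜ[A] p := by
      intro z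
      induction z using TensorProduct.induction_on with
      | zero => exact ⟨0, by rw [TensorProduct.tmul_zero]⟩
      | tmul c p =>
        obtain ⟨a, rfl⟩ := Ideal.Quotient.mk_surjective c
        refine ⟨a • p, ?_⟩
        rw [TensorProduct.tmul_smul, TensorProduct.smul_tmul', ← Algebra.algebraMap_eq_smul_one]
        rfl
      | add z1 z2 h1 h2 =>
        obtain ⟨p1, rfl⟩ := h1
        obtain ⟨p2, rfl⟩ := h2
        exact ⟨p1 + p2, by rw [TensorProduct.tmul_add]⟩
    have hstep : (⊤ : Submodule A L) ≤ LinearMap.range h ⊔ IsLocalRing.maximalIdeal A • ⊤ := by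
      intro l _
      obtain ⟨z, hz⟩ := hsurj ((1 : IsLocalRing.ResidueField A) ⊗ₜ[A] l)
      obtain ⟨p, rfl⟩ := hone z
      rw [LinearMap.lTensor_tmul] at hz
      have hker : l - h p ∈ LinearMap.ker
          (TensorProduct.mk A (A ⧸ IsLocalRing.maximalIdeal A) L 1) := by
        rw [LinearMap.mem_ker, map_sub, sub_eq_zero]
        exact hz.symm
      rw [LinearMap.ker_tensorProductMk] at hker
      have : l = h p + (l - h p) := by abel
      rw [this]
      exact Submodule.add_mem_sup ⟨p, rfl⟩ hker
    have hall : ∀ k : ℕ, (⊤ : Submodule A L) ≤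
        LinearMap.range h ⊔ IsLocalRing.maximalIdeal A ^ k • ⊤ := by
      intro k
      induction k with
      | zero => rw [pow_zero, Ideal.one_eq_top, Submodule.top_smul]; exact le_sup_right
      | succ k ih =>
        calc (⊤ : Submodule A L) ≤ LinearMap.range h ⊔ IsLocalRing.maximalIdeal A • ⊤ := hstep
          _ ≤ LinearMap.range h ⊔ IsLocalRing.maximalIdeal A •
                (LinearMap.range h ⊔ IsLocalRing.maximalIdeal A ^ k • ⊤) :=
              sup_le_sup_left (Submodule.smul_mono le_rfl ih) _
          _ ≤ LinearMap.range h ⊔ IsLocalRing.maximalIdeal A ^ (k + 1) • ⊤ := by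
              rw [Submodule.smul_sup, ← mul_smul, ← pow_succ']
              refine sup_le le_sup_left (sup_le ?_ le_sup_right)
              exact le_trans Submodule.smul_le_right le_sup_left
    have := hall n
    rw [hmn, Submodule.bot_smul, sup_bot_eq] at this
    exact LinearMap.range_eq_top.mp (top_le_iff.mp this)

end Groth.Agent.S15128
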