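import Groth.Statements.S15129
import Mathlib
import Groth.Agent.Lib.Helper5LocalFlat2

set_option autoImplicit false
universe u v
open CAlg

namespace Groth.Agent.S15129

/-- Over an Artinian local ring A with residue field k, for an exact sequence 0 → M → N → P → 0 of
A-modules with N flat: if k ⊗_A M → k ⊗_A N is injective then P is flat; if P is flat then M is flat
and k ⊗_A M → k ⊗_A N is injective. (The published statement is for local Artinian algebras over an
algebraically closed field of characteristic zero having that field as residue field; this row
allows any Artinian local ring.) -/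
theorem result
    (A : Type u) [CommRing A] [IsLocalRing A] [IsArtinianRing A]
    (M N P : Type v) [AddCommGroup M] [Module A M] [AddCommGroup N] [Module A N]
    [AddCommGroup P] [Module A P] [Module.Flat A N] (f : M →ₗ[A] N) (g : N →ₗ[A] P)
    (hf : Function.Injective f) (hg : Function.Surjective g) (hfg : Function.Exact f g) :
    (Function.Injective (f.lTensor (IsLocalRing.ResidueField A)) → Module.Flat A P) ∧
    (Module.Flat A P → Module.Flat A M ∧ Function.Injective (f.lTensor (IsLocalRing.ResidueField A))) := by
  have hnil : ∃ n : ℕ, IsLocalRing.maximalIdeal A ^ n = ⊥ := by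
    obtain ⟨n, hn⟩ := IsArtinianRing.isNilpotent_jacobson_bot (R := A)
    rw [IsLocalRing.jacobson_eq_maximalIdeal ⊥ bot_ne_top] at hn
    exact ⟨n, hn⟩
  obtain ⟨n, hn⟩ := hnil
  constructor
  · intro hk
    have hk' : Function.Injective (f.lTensor (A ⧸ IsLocalRing.maximalIdeal A)) := hk
    refine Groth.Agent.Lib.Helper5.flat_of_exact_of_lTensor_quotient_injective f g hg hfg ?_
    intro I
    apply Groth.Agent.Lib.Helper5.lTensor_injective_of_pow_smul_top_eq_bot f hk' n
    rw [hn, Submodule.bot_smul]
  · intro hP
    constructor
    · rw [Module.Flat.iff_lTensor_injective']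
      intro I
      rw [injective_iff_map_eq_zero]
      intro x hx
      have h1 : Function.Injective (f.rTensor I) :=
        (LinearMap.lTensor_inj_iff_rTensor_inj _ _).mp
          (LinearMap.lTensor_injective_of_exact_of_flat g hg f hf hfg I)
      apply h1
      rw [map_zero]
      apply Module.Flat.lTensor_preserves_injective_linearMap (M := N) I.subtype
        I.injective_subtype
      rw [map_zero, ← LinearMap.comp_apply, LinearMap.lTensor_comp_rTensor,
        ← LinearMap.rTensor_comp_lTensor, LinearMap.comp_apply, hx, map_zero]
    · exact LinearMap.lTensor_injective_of_exact_of_flat g hg f hf hfg _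

end Groth.Agent.S15129
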