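import Groth.Statements.S15130
import Mathlib
import Groth.Agent.Lib.Helper5LocalFlat2
import Groth.Agent.Lib.Helper5NilLift
import Groth.Agent.Lib.Helper5FlatKer

set_option autoImplicit false
universe u v
open CAlg

namespace Groth.Agent.S15130

/-- Let A be an Artinian local ring with residue field k and P → Q → R → M → 0 a complex of A-modules
with P, Q, R flat which is exact at R and at M. If the reduced complex k ⊗ P → k ⊗ Q → k ⊗ R is
exact (the rest of the reduced sequence is then automatically exact), then M is flat and the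
original complex is exact at Q as well. (The published statement is for local Artinian algebras over
an algebraically closed field of characteristic zero having that field as residue field; this row
allows any Artinian local ring.) -/
theorem result
    (A : Type u) [CommRing A] [IsLocalRing A] [IsArtinianRing A]
    (P Q R M : Type v) [AddCommGroup P] [Module A P] [AddCommGroup Q] [Module A Q]
    [AddCommGroup R] [Module A R] [AddCommGroup M] [Module A M]
    [Module.Flat A P] [Module.Flat A Q] [Module.Flat A R]
    (f : P →ₗ[A] Q) (g : Q →ₗ[A] R) (h : R →ₗ[A] M)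
    (hfg : g ∘ₗ f = 0) (hgh : Function.Exact g h) (hh : Function.Surjective h)
    (hred : Function.Exact (f.lTensor (IsLocalRing.ResidueField A)) (g.lTensor (IsLocalRing.ResidueField A))) :
    Module.Flat A M ∧ Function.Exact f g := by
  obtain ⟨n, hn⟩ : ∃ n : ℕ, IsLocalRing.maximalIdeal A ^ n = ⊥ := by
    obtain ⟨n, hn⟩ := IsArtinianRing.isNilpotent_jacobson_bot (R := A)
    rw [IsLocalRing.jacobson_eq_maximalIdeal ⊥ bot_ne_top] at hn
    exact ⟨n, hn⟩
  have hnil : IsNilpotent (IsLocalRing.maximalIdeal A) := ⟨n, hn⟩
  have hred' : Function.Exact (f.lTensor (A ⧸ IsLocalRing.maximalIdeal A))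
      (g.lTensor (A ⧸ IsLocalRing.maximalIdeal A)) := hred
  have hgf : ∀ p, g (f p) = 0 := fun p => LinearMap.congr_fun hfg p
  -- the image of `g`
  have hg' : Function.Surjective g.rangeRestrict := g.surjective_rangeRestrict
  have hexZ : Function.Exact (LinearMap.range g).subtype h := by
    intro r
    rw [hgh r]
    constructor
    · rintro ⟨q, rfl⟩
      exact ⟨⟨g q, ⟨q, rfl⟩⟩, rfl⟩
    · rintro ⟨⟨_, ⟨q, rfl⟩⟩, rfl⟩
      exact ⟨q, rfl⟩
  have hkZ : Function.Injective
      ((LinearMap.range g).subtype.lTensor (A ⧸ IsLocalRing.maximalIdeal A)) := by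
    rw [injective_iff_map_eq_zero]
    intro z hz
    obtain ⟨q, rfl⟩ := LinearMap.lTensor_surjective (A ⧸ IsLocalRing.maximalIdeal A) hg' z
    have h1 : g.lTensor (A ⧸ IsLocalRing.maximalIdeal A) q = 0 := by
      rw [← hz, ← LinearMap.comp_apply, ← LinearMap.lTensor_comp]
      rfl
    obtain ⟨p, rfl⟩ := (hred' q).mp h1
    rw [← LinearMap.comp_apply, ← LinearMap.lTensor_comp]
    have h0 : g.rangeRestrict ∘ₗ f = 0 := by
      ext p
      exact hgf p
    rw [h0, LinearMap.lTensor_zero, LinearMap.zero_apply]
  have hM : Module.Flat A M := by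
    refine Groth.Agent.Lib.Helper5.flat_of_exact_of_lTensor_quotient_injective
      (LinearMap.range g).subtype h hh hexZ ?_
    intro I
    apply Groth.Agent.Lib.Helper5.lTensor_injective_of_pow_smul_top_eq_bot _ hkZ n
    rw [hn, Submodule.bot_smul]
  refine ⟨hM, ?_⟩
  have hZ : Module.Flat A (LinearMap.range g) :=
    Groth.Agent.Lib.Helper5.flat_of_exact_of_flat_of_flat (LinearMap.range g).subtype h
      (Submodule.injective_subtype _) hh hexZ
  -- the kernel of `g`
  have hexK : Function.Exact (LinearMap.ker g).subtype g.rangeRestrict := by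
    intro q
    constructor
    · intro hq
      have : g q = 0 := congrArg Subtype.val hq
      exact ⟨⟨q, this⟩, rfl⟩
    · rintro ⟨⟨q', hq'⟩, rfl⟩
      exact Subtype.ext hq'
  have hkK : Function.Injective
      ((LinearMap.ker g).subtype.lTensor (A ⧸ IsLocalRing.maximalIdeal A)) :=
    LinearMap.lTensor_injective_of_exact_of_flat g.rangeRestrict hg' _
      (Submodule.injective_subtype _) hexK _
  let f' : P →ₗ[A] LinearMap.ker g := f.codRestrict (LinearMap.ker g) hgf
  have hf' : Function.Surjective f' := by
    apply Groth.Agent.Lib.Helper5.surjective_of_lTensor_quotient_surjective_of_isNilpotent hnil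
    intro κ
    have h1 : g.lTensor (A ⧸ IsLocalRing.maximalIdeal A)
        ((LinearMap.ker g).subtype.lTensor (A ⧸ IsLocalRing.maximalIdeal A) κ) = 0 := by
      rw [← LinearMap.comp_apply, ← LinearMap.lTensor_comp]
      have h0 : g ∘ₗ (LinearMap.ker g).subtype = 0 := by
        ext q
        exact q.2
      rw [h0, LinearMap.lTensor_zero, LinearMap.zero_apply]
    obtain ⟨p, hp⟩ := (hred' _).mp h1
    refine ⟨p, hkK ?_⟩
    rw [← LinearMap.comp_apply, ← LinearMap.lTensor_comp]
    exact hp
  intro q
  constructor
  · intro hq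
    obtain ⟨p, hp⟩ := hf' ⟨q, hq⟩
    exact ⟨p, congrArg Subtype.val hp⟩
  · rintro ⟨p, rfl⟩
    exact hgf p

end Groth.Agent.S15130
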