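import Groth.Statements.S15131
import Groth.Agent.Lib.Helper19Deform

set_option autoImplicit false
universe u v
open CategoryTheory
open ArtFun

namespace Groth.Agent.S15131

/-- Let k be a field and F a functor on local Artinian k-algebras with residue field k with F(k) a
single point, satisfying (H1) (the comparison map of A₁ ×_A A₂ is surjective when A₂ → A is a small
extension) and (H2) (it is bijective when A = k and A₂ = k[ε]). If the tangent space F(k[ε]) is a
single point then F is the one-point functor: every F(A) has exactly one element. (The converse is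
clear.) -/
theorem result
    {k : Type u} [Field k] (F : ArtFun.Art k k ⥤ Type v)
    (h0 : ArtFun.H0 F) (h1 : ArtFun.Hbar F) (h2 : ArtFun.Heps F)
    (ht : Subsingleton (ArtFun.TangentSpace F)) (A : ArtFun.Art k k) :
    Nonempty (F.obj A) ∧ Subsingleton (F.obj A) := by
  refine ⟨?_, Groth.Agent.Lib.Helper19.subsingleton_obj_of_subsingleton_tangent h0 h1 h2 ht A⟩
  obtain ⟨x0⟩ := h0.1
  let σ : ArtFun.Art.base k k ⟶ A := ⟨Algebra.ofId k A, AlgHom.ext fun c => A.res.commutes c⟩
  exact ⟨F.map σ x0⟩

end Groth.Agent.S15131
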