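import Groth.Statements.S15133
import Mathlib
import Groth.Agent.Lib.Helper5ArtComplex

set_option autoImplicit false
universe u
open CategoryTheory
open CAlg

namespace Groth.Agent.S15133

/-- Let A be an Artinian local ring with residue field k, n ≥ 1, and 0 → I → P₀ → P₁ → ⋯ → Pₙ a complex
of A-modules with P₀, …, Pₙ flat whose reduction 0 → k ⊗ I → k ⊗ P₀ → ⋯ → k ⊗ Pₙ is exact. Then I
and coker(Pₙ₋₁ → Pₙ) are flat. The complex is written as a cochain complex C indexed by ℕ with C⁰ =
I and Cⁱ⁺¹ = Pᵢ; its terms in degrees above n + 1 play no role. (The published statement adds that I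
maps onto the kernel of k ⊗ P₀ → k ⊗ P₁, which is already part of the exactness hypothesis, and is
for local Artinian algebras over an algebraically closed field of characteristic zero having that
field as residue field; this row allows any Artinian local ring.) -/
theorem result
    (A : Type u) [CommRing A] [IsLocalRing A] [IsArtinianRing A] (n : ℕ) (hn : 0 < n)
    (C : CochainComplex (ModuleCat.{u} A) ℕ)
    (hflat : ∀ i, i ≤ n → Module.Flat A (C.X (i + 1)))
    (hred : ∀ j, j ≤ n →
      (((MonoidalCategory.tensorLeft (ModuleCat.of A (IsLocalRing.ResidueField A))).mapHomologicalComplex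
        (ComplexShape.up ℕ)).obj C).ExactAt j) :
    Module.Flat A (C.X 0) ∧ Module.Flat A (C.X (n + 1) ⧸ LinearMap.range (C.d n (n + 1)).hom) := by
  obtain ⟨m, hm⟩ : ∃ m : ℕ, IsLocalRing.maximalIdeal A ^ m = ⊥ := by
    obtain ⟨m, hm⟩ := IsArtinianRing.isNilpotent_jacobson_bot (R := A)
    rw [IsLocalRing.jacobson_eq_maximalIdeal ⊥ bot_ne_top] at hm
    exact ⟨m, hm⟩
  have hd : ∀ i (x : C.X i), (C.d (i + 1) (i + 1 + 1)).hom ((C.d i (i + 1)).hom x) = 0 := by
    intro i x
    have h := C.d_comp_d i (i + 1) (i + 1 + 1)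
    have h2 := congrArg (fun φ => φ.hom x) h
    exact h2
  have hred0 : Function.Injective
      ((C.d 0 (0 + 1)).hom.lTensor (A ⧸ IsLocalRing.maximalIdeal A)) := by
    have h0 := hred 0 (Nat.zero_le n)
    rw [HomologicalComplex.exactAt_iff' _ 0 0 1 CochainComplex.prev_nat_zero
      (CochainComplex.next ℕ 0)] at h0
    have hz : ((((MonoidalCategory.tensorLeft
        (ModuleCat.of A (IsLocalRing.ResidueField A))).mapHomologicalComplex
        (ComplexShape.up ℕ)).obj C).sc' 0 0 1).f = 0 := by
      refine HomologicalComplex.shape (((MonoidalCategory.tensorLeft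
        (ModuleCat.of A (IsLocalRing.ResidueField A))).mapHomologicalComplex
        (ComplexShape.up ℕ)).obj C) 0 0 ?_
      show ¬ (0 + 1 = 0)
      omega
    rw [ShortComplex.exact_iff_mono _ hz] at h0
    exact (ModuleCat.mono_iff_injective _).mp h0
  have hredj : ∀ j, j < n → Function.Exact
      ((C.d j (j + 1)).hom.lTensor (A ⧸ IsLocalRing.maximalIdeal A))
      ((C.d (j + 1) (j + 1 + 1)).hom.lTensor (A ⧸ IsLocalRing.maximalIdeal A)) := by
    intro j hj
    have h0 := hred (j + 1) hj
    rw [HomologicalComplex.exactAt_iff' _ j (j + 1) (j + 1 + 1) (CochainComplex.prev_nat_succ j)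
      (CochainComplex.next ℕ (j + 1))] at h0
    exact (ShortComplex.ShortExact.moduleCat_exact_iff_function_exact _).mp h0
  exact Groth.Agent.Lib.Helper5.flat_of_lTensor_residue_exact_sequence m hm
    (fun i => C.X i) (fun i => (C.d i (i + 1)).hom) hd n hn hflat hred0 hredj

end Groth.Agent.S15133
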