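import Groth.Statements.S15134
import Groth.Agent.Lib.Helper19Sub

set_option autoImplicit false
universe u v
open CategoryTheory
open ArtFun

namespace Groth.Agent.S15134

open Groth.Agent.Lib.Helper19

/-- Let k be a field and F a functor on local Artinian k-algebras with residue field k with F(k) a
point. If F satisfies (H2') — the comparison map F(A₁ ×_k A₂) → F(A₁) × F(A₂) is bijective for every
pair of objects — then F satisfies condition (L): for every small extension f : B → A with kernel J,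
writing P = B ×_k B, Q = A ×_k A, r : P → Q for the map induced by f, and C = P/K with K the ideal
of P consisting of the pairs (b, b) with b ∈ J, every element of F(Q) whose two images in F(A) agree
lifts along F(C) → F(Q). Here P and Q are pinned as fibre products over k, K is described through
the two projections, and the two inequalities on K (it lies in the maximal ideal of P and is killed
by r), which always hold, are taken as hypotheses so that the quotient object and the factored map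
can be named. -/
theorem result
    {k : Type u} [Field k] (F : ArtFun.Art k k ⥤ Type v) (h0 : ArtFun.H0 F)
    (h2' : ∀ ⦃P A' A'' : ArtFun.Art k k⦄ (p' : P ⟶ A') (p'' : P ⟶ A'')
      (h : ArtFun.Art.IsFibreProd p' p'' (ArtFun.Art.toBase A') (ArtFun.Art.toBase A'')),
      Function.Bijective (ArtFun.cmp F h))
    ⦃B A : ArtFun.Art k k⦄ (f : B ⟶ A) (hf : ArtFun.Art.IsSmallExt f)
    ⦃P : ArtFun.Art k k⦄ (p₁ p₂ : P ⟶ B)
    (hP : ArtFun.Art.IsFibreProd p₁ p₂ (ArtFun.Art.toBase B) (ArtFun.Art.toBase B))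
    ⦃Q : ArtFun.Art k k⦄ (q₁ q₂ : Q ⟶ A)
    (hQ : ArtFun.Art.IsFibreProd q₁ q₂ (ArtFun.Art.toBase A) (ArtFun.Art.toBase A))
    (r : P ⟶ Q) (hr₁ : r ≫ q₁ = p₁ ≫ f) (hr₂ : r ≫ q₂ = p₂ ≫ f)
    (hK : Ideal.span {z : P | p₁ z = p₂ z ∧ f (p₁ z) = 0} ≤ IsLocalRing.maximalIdeal P)
    (hKr : Ideal.span {z : P | p₁ z = p₂ z ∧ f (p₁ z) = 0} ≤ RingHom.ker r.toAlgHom)
    (y : F.obj Q) (hy : F.map q₁ y = F.map q₂ y) :
    ∃ z : F.obj (ArtFun.Art.quot P (Ideal.span {z : P | p₁ z = p₂ z ∧ f (p₁ z) = 0}) hK),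
      F.map (ArtFun.Art.quotFactor hK r hKr) z = y := by
  have wB : 𝟙 B ≫ ArtFun.Art.toBase B = 𝟙 B ≫ ArtFun.Art.toBase B := rfl
  have wA : 𝟙 A ≫ ArtFun.Art.toBase A = 𝟙 A ≫ ArtFun.Art.toBase A := rfl
  have hδ1 : fibreProdLift hP (𝟙 B) (𝟙 B) wB ≫ p₁ = 𝟙 B := fibreProdLift_fst hP _ _ wB
  have hδ2 : fibreProdLift hP (𝟙 B) (𝟙 B) wB ≫ p₂ = 𝟙 B := fibreProdLift_snd hP _ _ wB
  have hα1 : fibreProdLift hQ (𝟙 A) (𝟙 A) wA ≫ q₁ = 𝟙 A := fibreProdLift_fst hQ _ _ wA
  have hα2 : fibreProdLift hQ (𝟙 A) (𝟙 A) wA ≫ q₂ = 𝟙 A := fibreProdLift_snd hQ _ _ wA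
  generalize fibreProdLift hP (𝟙 B) (𝟙 B) wB = δB at hδ1 hδ2
  generalize fibreProdLift hQ (𝟙 A) (𝟙 A) wA = δA at hα1 hα2
  obtain ⟨s, hs⟩ := exists_factor_of_surjective f hf.1
    (δB ≫ ArtFun.Art.quotMk P (Ideal.span {z : P | p₁ z = p₂ z ∧ f (p₁ z) = 0}) hK) (by
      intro b hb
      show ArtFun.Art.quotMk P _ hK (δB b) = 0
      rw [quotMk_eq_zero_iff]
      apply Ideal.subset_span
      have e1 : p₁ (δB b) = b :=
        AlgHom.congr_fun (congrArg ArtFun.Art.Hom.toAlgHom hδ1) b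
      have e2 : p₂ (δB b) = b :=
        AlgHom.congr_fun (congrArg ArtFun.Art.Hom.toAlgHom hδ2) b
      exact ⟨e1.trans e2.symm, by rw [e1]; exact hb⟩)
  have hδr : δB ≫ r = f ≫ δA := by
    apply fibreProd_hom_ext hQ
    · rw [Category.assoc, Category.assoc, hr₁, hα1, ← Category.assoc, hδ1, Category.id_comp,
        Category.comp_id]
    · rw [Category.assoc, Category.assoc, hr₂, hα2, ← Category.assoc, hδ2, Category.id_comp,
        Category.comp_id]
  have hsr : s ≫ ArtFun.Art.quotFactor hK r hKr = δA := by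
    apply ArtFun.Art.hom_ext
    apply AlgHom.ext
    intro a
    obtain ⟨b, rfl⟩ := hf.1 a
    have h1 : (f ≫ s) ≫ ArtFun.Art.quotFactor hK r hKr = f ≫ δA := by
      rw [hs, Category.assoc, ArtFun.Art.quotMk_quotFactor, hδr]
    exact AlgHom.congr_fun (congrArg ArtFun.Art.Hom.toAlgHom h1) b
  have hy' : y = F.map δA (F.map q₁ y) := by
    apply (cmp_injective_iff F hQ).1 (h2' q₁ q₂ hQ).1
    · rw [← map_comp_apply', hα1, map_id_apply']
    · rw [← map_comp_apply', hα2, map_id_apply', hy]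
  refine ⟨F.map s (F.map q₁ y), ?_⟩
  rw [← map_comp_apply', hsr, ← hy']

end Groth.Agent.S15134
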