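import Groth.Statements.S15135
import Mathlib.LinearAlgebra.Isomorphisms

set_option autoImplicit false
universe u v
open Deform

namespace Groth.Agent.S15135

/-- For R-modules M ⊆ N, the first-order embedded deformations of M in N are in canonical bijection with
Hom_R(M, N/M). Writing N ⊗ k[ε] = N ⊕ εN as N × N (the pair (x, y) standing for x + εy), such a
deformation is an R-submodule L of N × N which is stable under multiplication by ε (if (x, y) ∈ L
then (0, x) ∈ L), reduces to M (x ∈ M exactly when (x, y) ∈ L for some y) and is flat over the dual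
numbers, flatness being stated elementwise as: (0, y) ∈ L only if y ∈ M (for a submodule reducing to
M this is the equality of the kernel and the image of ε on L, i.e. flatness over k[ε] when R is an
algebra over a field k). To φ : M → N/M corresponds the submodule of all (x, y) with x ∈ M and y ≡
φ(x) mod M. The first clause says this rule defines exactly one submodule for each φ; the second
says that a submodule has the three properties precisely when its membership is given by this rule
for some φ. (The published statement is a linear isomorphism t_G ≅ Hom_R(M, N/M) for the functor G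
of flat deformations of M inside N ⊗ A over local Artinian algebras A; this row states only the
underlying bijection, and the obstruction half is not stated here.) -/
theorem result
    (R : Type u) [CommRing R] (N : Type v) [AddCommGroup N] [Module R N] (M : Submodule R N) :
    (∀ φ : M →ₗ[R] (N ⧸ M), ∃! L : Submodule R (N × N),
        ∀ x y : N, (x, y) ∈ L ↔ ∃ h : x ∈ M, Submodule.Quotient.mk y = φ ⟨x, h⟩) ∧
    (∀ L : Submodule R (N × N),
      ((∀ x y : N, (x, y) ∈ L → ((0 : N), x) ∈ L) ∧
        (∀ x : N, x ∈ M ↔ ∃ y : N, (x, y) ∈ L) ∧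
        (∀ y : N, ((0 : N), y) ∈ L → y ∈ M)) ↔
      ∃ φ : M →ₗ[R] (N ⧸ M), ∀ x y : N, (x, y) ∈ L ↔ ∃ h : x ∈ M, Submodule.Quotient.mk y = φ ⟨x, h⟩) := by
  constructor
  · intro φ
    refine ⟨{ carrier := {p | ∃ h : p.1 ∈ M, Submodule.Quotient.mk p.2 = φ ⟨p.1, h⟩}
              add_mem' := ?_
              zero_mem' := ?_
              smul_mem' := ?_ }, ?_, ?_⟩
    · rintro ⟨x, y⟩ ⟨x', y'⟩ ⟨h, e⟩ ⟨h', e'⟩
      refine ⟨M.add_mem h h', ?_⟩
      change Submodule.Quotient.mk (y + y') = φ ⟨x + x', _⟩
      have : (⟨x + x', M.add_mem h h'⟩ : M) = ⟨x, h⟩ + ⟨x', h'⟩ := rfl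
      rw [this, map_add, Submodule.Quotient.mk_add]
      change Submodule.Quotient.mk y = φ ⟨x, h⟩ at e
      change Submodule.Quotient.mk y' = φ ⟨x', h'⟩ at e'
      rw [e, e']
    · refine ⟨M.zero_mem, ?_⟩
      change Submodule.Quotient.mk (0 : N) = φ ⟨0, _⟩
      have : (⟨0, M.zero_mem⟩ : M) = 0 := rfl
      rw [this, map_zero, Submodule.Quotient.mk_zero]
    · rintro c ⟨x, y⟩ ⟨h, e⟩
      refine ⟨M.smul_mem c h, ?_⟩
      change Submodule.Quotient.mk (c • y) = φ ⟨c • x, _⟩
      have : (⟨c • x, M.smul_mem c h⟩ : M) = c • ⟨x, h⟩ := rfl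
      change Submodule.Quotient.mk y = φ ⟨x, h⟩ at e
      rw [this, map_smul, Submodule.Quotient.mk_smul, e]
    · intro x y
      rfl
    · intro L' hL'
      ext ⟨x, y⟩
      rw [hL' x y]
      rfl
  · intro L
    constructor
    · rintro ⟨ha, hb, hc⟩
      -- the projection L → M
      let π₁ : L →ₗ[R] M := LinearMap.codRestrict M ((LinearMap.fst R N N).comp L.subtype)
        (fun l => (hb l.1.1).mpr ⟨l.1.2, l.2⟩)
      let ψ : L →ₗ[R] (N ⧸ M) := M.mkQ.comp ((LinearMap.snd R N N).comp L.subtype)
      have hsurj : Function.Surjective π₁ := by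
        rintro ⟨x, hx⟩
        obtain ⟨y, hy⟩ := (hb x).mp hx
        exact ⟨⟨(x, y), hy⟩, rfl⟩
      have hker : LinearMap.ker π₁ ≤ LinearMap.ker ψ := by
        rintro ⟨⟨x, y⟩, hl⟩ hmem
        rw [LinearMap.mem_ker] at hmem ⊢
        have hx : x = 0 := congrArg Subtype.val hmem
        subst hx
        change Submodule.Quotient.mk y = 0
        rw [Submodule.Quotient.mk_eq_zero]
        exact hc y hl
      let φ : M →ₗ[R] (N ⧸ M) :=
        ((LinearMap.ker π₁).liftQ ψ hker).comp (π₁.quotKerEquivOfSurjective hsurj).symm.toLinearMap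
      have hφ : ∀ l : L, φ (π₁ l) = ψ l := by
        intro l
        change ((LinearMap.ker π₁).liftQ ψ hker) ((π₁.quotKerEquivOfSurjective hsurj).symm (π₁ l)) = ψ l
        have : (π₁.quotKerEquivOfSurjective hsurj).symm (π₁ l) = Submodule.Quotient.mk l := by
          rw [LinearEquiv.symm_apply_eq]
          rfl
        rw [this]
        rfl
      refine ⟨φ, fun x y => ?_⟩
      constructor
      · intro hxy
        have hx : x ∈ M := (hb x).mpr ⟨y, hxy⟩
        refine ⟨hx, ?_⟩
        have := hφ ⟨(x, y), hxy⟩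
        exact this.symm
      · rintro ⟨hx, e⟩
        obtain ⟨y₀, hy₀⟩ := (hb x).mp hx
        have h1 := hφ ⟨(x, y₀), hy₀⟩
        have h2 : (Submodule.Quotient.mk y : N ⧸ M) = Submodule.Quotient.mk y₀ := by
          rw [e]; exact h1
        have h3 : y - y₀ ∈ M := (Submodule.Quotient.eq M).mp h2
        obtain ⟨z, hz⟩ := (hb (y - y₀)).mp h3
        have h4 : ((0 : N), y - y₀) ∈ L := ha _ _ hz
        have : (x, y) = (x, y₀) + ((0 : N), y - y₀) := by
          ext <;> simp
        rw [this]
        exact L.add_mem hy₀ h4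
    · rintro ⟨φ, hφ⟩
      refine ⟨?_, ?_, ?_⟩
      · intro x y hxy
        obtain ⟨hx, -⟩ := (hφ x y).mp hxy
        rw [hφ]
        refine ⟨M.zero_mem, ?_⟩
        have : (⟨0, M.zero_mem⟩ : M) = 0 := rfl
        rw [this, map_zero, Submodule.Quotient.mk_eq_zero]
        exact hx
      · intro x
        constructor
        · intro hx
          obtain ⟨y, hy⟩ := Submodule.Quotient.mk_surjective M (φ ⟨x, hx⟩)
          exact ⟨y, (hφ x y).mpr ⟨hx, hy⟩⟩
        · rintro ⟨y, hy⟩
          exact ((hφ x y).mp hy).1
      · intro y hy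
        obtain ⟨h0, e⟩ := (hφ 0 y).mp hy
        have : (⟨0, h0⟩ : M) = 0 := rfl
        rw [this, map_zero, Submodule.Quotient.mk_eq_zero] at e
        exact e

end Groth.Agent.S15135
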