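import Groth.Statements.S15140
import Mathlib
import Groth.Agent.Lib.Helper16GoingDownSch
import Groth.Agent.S0386
-- import your own Groth.Agent.* helpers here

set_option autoImplicit false
set_option linter.style.haveILetI false
set_option linter.unusedSectionVars false
universe u
open CategoryTheory CategoryTheory.Limits AlgebraicGeometry
open Models

namespace Groth.Agent.S15140

theorem lt_of_specializes_of_ne {X : Scheme.{u}} {x y : X} (h : y ⤳ x) (hne : x ≠ y) : x < y := by
  refine lt_of_le_not_ge (Scheme.le_iff_specializes.2 h) (fun h' => hne ?_)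
  exact ((Scheme.le_iff_specializes.1 h').antisymm h).eq

/-- a generalizing morphism does not lower codimension -/
theorem coheight_map_le {X Y : Scheme.{u}} (f : X ⟶ Y) (hg : GeneralizingMap f) (x : X) :
    Order.coheight (f x) ≤ Order.coheight x := by
  have key : ∀ n : ℕ, ∀ x : X, Order.coheight x ≤ n → Order.coheight (f x) ≤ n := by
    intro n
    induction n with
    | zero =>
      intro x hx
      rw [Order.coheight_le_coe_iff] at hx ⊢
      intro y' hy'
      obtain ⟨x', hx'x, rfl⟩ := hg (Scheme.le_iff_specializes.1 hy'.le)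
      have hne : x ≠ x' := fun h => by rw [h] at hy'; exact lt_irrefl _ hy'
      exact absurd (hx x' (lt_of_specializes_of_ne hx'x hne)) (by simp)
    | succ n ih =>
      intro x hx
      rw [Order.coheight_le_coe_iff] at hx ⊢
      intro y' hy'
      obtain ⟨x', hx'x, rfl⟩ := hg (Scheme.le_iff_specializes.1 hy'.le)
      have hne : x ≠ x' := fun h => by rw [h] at hy'; exact lt_irrefl _ hy'
      have h1 := hx x' (lt_of_specializes_of_ne hx'x hne)
      have h2 : Order.coheight x' ≤ n := by
        rw [Nat.cast_add, Nat.cast_one] at h1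
        exact Order.le_of_lt_add_one h1
      have h3 := ih x' h2
      rw [Nat.cast_add, Nat.cast_one]
      exact lt_of_le_of_lt h3 (by exact_mod_cast Nat.lt_succ_self n)
  induction h : Order.coheight x using ENat.recTopCoe with
  | top => exact le_top
  | coe n => exact key n x h.le

theorem stalkMap_injective_of_dominant {X Y : Scheme.{u}} [IsIntegral X] [IsIntegral Y] (f : X ⟶ Y)
    [IsDominant f] [QuasiCompact f] (x : X) : Function.Injective (f.stalkMap x).hom := by
  rw [injective_iff_map_eq_zero]
  intro a ha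
  obtain ⟨U, hxU, s, rfl⟩ := Y.presheaf.exists_germ_eq a
  rw [Scheme.Hom.germ_stalkMap_apply] at ha
  have h0 : f.app U s = 0 := germ_injective_of_isIntegral X x hxU (ha.trans (map_zero _).symm)
  haveI : IsSchemeTheoreticallyDominant f := IsSchemeTheoreticallyDominant.of_isDominant f
  have : s = 0 := f.app_injective U (h0.trans (map_zero _).symm)
  rw [this, map_zero]

theorem flat_stalkMap_of_dim_le_one {X Y : Scheme.{u}} [IsIntegral X] [IsIntegral Y]
    [IsLocallyNoetherian Y] (hnY : Pi1.IsNormalScheme Y) (f : X ⟶ Y) [IsDominant f] [QuasiCompact f]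
    (x : X) (h : ringKrullDim (Y.presheaf.stalk (f x)) ≤ 1) : (f.stalkMap x).hom.Flat := by
  letI alg : Algebra (Y.presheaf.stalk (f x)) (X.presheaf.stalk x) := (f.stalkMap x).hom.toAlgebra
  haveI : Ring.KrullDimLE 1 (Y.presheaf.stalk (f x)) := Ring.krullDimLE_iff.mpr h
  haveI : IsDedekindRing (Y.presheaf.stalk (f x)) :=
    { toIsNoetherian := inferInstanceAs (IsNoetherianRing (Y.presheaf.stalk (f x)))
      maximalOfPrime := fun hp hpp =>
        Ring.krullDimLE_one_iff_of_noZeroDivisors.mp ‹_› _ hp hpp
      toIsIntegralClosure := (hnY (f x)).2 }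
  haveI : IsDedekindDomain (Y.presheaf.stalk (f x)) := {}
  change Module.Flat (Y.presheaf.stalk (f x)) (X.presheaf.stalk x)
  rw [IsDedekindDomain.flat_iff_torsion_eq_bot, Submodule.eq_bot_iff]
  intro b hb
  obtain ⟨a, ha⟩ := (Submodule.mem_torsion_iff b).1 hb
  have ha' : (f.stalkMap x).hom a.1 * b = 0 := ha
  rcases mul_eq_zero.1 ha' with h0 | h0
  · exfalso
    have := stalkMap_injective_of_dominant f x (h0.trans (map_zero _).symm)
    exact nonZeroDivisors.ne_zero a.2 this
  · exact h0

/-- in a Noetherian scheme, a closed set all of whose points have the same finite codimension is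
finite -/
theorem finite_of_forall_coheight_eq {X : Scheme.{u}} [IsNoetherian X] (T : Set X)
    (hT : IsClosed T) (n : ℕ) (hn : ∀ x ∈ T, Order.coheight x = n) : T.Finite := by
  classical
  obtain ⟨S, hSf, hSc, hSi, hSU⟩ :=
    TopologicalSpace.NoetherianSpace.exists_finite_set_isClosed_irreducible (s := T) hT
  haveI : Finite S := hSf.to_subtype
  let c : S → X := fun t => (QuasiSober.sober (hSi t.1 t.2) (hSc t.1 t.2)).choose
  have hc : ∀ t : S, IsGenericPoint (c t) t.1 :=
    fun t => (QuasiSober.sober (hSi t.1 t.2) (hSc t.1 t.2)).choose_spec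
  refine (Set.finite_range c).subset ?_
  intro x hxT
  have hxT' := hxT
  rw [hSU] at hxT
  obtain ⟨t, htS, hxt⟩ := hxT
  refine ⟨⟨t, htS⟩, ?_⟩
  by_contra hne
  have hct := hc ⟨t, htS⟩
  have hcx : c ⟨t, htS⟩ ⤳ x := by
    rw [specializes_iff_mem_closure, hct.def]; exact hxt
  have hcT : c ⟨t, htS⟩ ∈ T := by
    rw [hSU]; exact ⟨t, htS, hct.mem⟩
  have h1 : x < c ⟨t, htS⟩ := lt_of_specializes_of_ne hcx (fun h => hne h.symm)
  have h3 := Order.coheight_add_one_le h1
  rw [hn x hxT', hn (c ⟨t, htS⟩) hcT] at h3
  have : (n : ℕ∞) + 1 ≤ n := h3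
  have h4 : n + 1 ≤ n := by exact_mod_cast this
  omega


/-- Let R be a discrete valuation ring whose fraction field has characteristic zero and let X and Y be
relative curves over R: flat, of finite type and separated over Spec R, normal and integral, of
dimension two (pure relative dimension one; properness is not assumed). Let f : X → Y be a finite
surjective morphism over R. Then there is an open subset V ⊆ Y such that the complement of V in Y
and the complement of f⁻¹(V) in X are finite sets of points at which the local rings have Krull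
dimension two (closed points of the closed fibres), and f is flat over V. -/
theorem result (R : Type u) [CommRing R] [IsDomain R]
    [IsDiscreteValuationRing R] [CharZero (FractionRing R)]
    (X Y : Scheme.{u}) (pX : X ⟶ Spec (CommRingCat.of R)) (pY : Y ⟶ Spec (CommRingCat.of R))
    [Flat pX] [LocallyOfFiniteType pX] [QuasiCompact pX] [IsSeparated pX]
    [Flat pY] [LocallyOfFiniteType pY] [QuasiCompact pY] [IsSeparated pY]
    [IsIntegral X] [IsIntegral Y] (hnX : Pi1.IsNormalScheme X) (hnY : Pi1.IsNormalScheme Y)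
    (hdX : topologicalKrullDim X = 2) (hdY : topologicalKrullDim Y = 2)
    (f : X ⟶ Y) [IsFinite f] [Surjective f] (hf : f ≫ pY = pX) :
    ∃ V : Y.Opens, ((V : Set Y)ᶜ).Finite ∧ (∀ y : Y, y ∉ V → ringKrullDim (Y.presheaf.stalk y) = 2) ∧
      (((f ⁻¹ᵁ V : X.Opens) : Set X)ᶜ).Finite ∧ (∀ x : X, x ∉ f ⁻¹ᵁ V → ringKrullDim (X.presheaf.stalk x) = 2) ∧
      Flat (f ∣_ V) := by
  haveI : IsLocallyNoetherian Y := LocallyOfFiniteType.isLocallyNoetherian pY
  haveI : CompactSpace Y := QuasiCompact.compactSpace_of_compactSpace pY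
  haveI : IsNoetherian Y := {}
  haveI : IsLocallyNoetherian X := LocallyOfFiniteType.isLocallyNoetherian pX
  haveI : CompactSpace X := QuasiCompact.compactSpace_of_compactSpace pX
  haveI : IsNoetherian X := {}
  haveI : LocallyOfFinitePresentation f := inferInstance
  have hopen : IsOpen {x : X | (f.stalkMap x).hom.Flat} := Groth.Agent.S0386.result f
  have hT : IsClosed (f '' {x : X | (f.stalkMap x).hom.Flat}ᶜ) :=
    f.isClosedMap _ hopen.isClosed_compl
  -- coheight bounds
  have hcohY : ∀ y : Y, Order.coheight y ≤ 2 := by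
    intro y
    have h1 : (Order.coheight y : WithBot ℕ∞) ≤ Order.krullDim Y := Order.coheight_le_krullDim y
    have h2 : Order.krullDim (TopologicalSpace.IrreducibleCloseds Y) = Order.krullDim Y :=
      Order.krullDim_eq_of_orderIso (irreducibleSetEquivPoints (α := Y))
    have h3 : (Order.coheight y : WithBot ℕ∞) ≤ 2 := by
      rw [← hdY]; unfold topologicalKrullDim; rw [h2]; exact h1
    exact WithBot.coe_le_coe.1 h3
  have hcohX : ∀ x : X, Order.coheight x ≤ 2 := by
    intro x
    have h1 : (Order.coheight x : WithBot ℕ∞) ≤ Order.krullDim X := Order.coheight_le_krullDim x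
    have h2 : Order.krullDim (TopologicalSpace.IrreducibleCloseds X) = Order.krullDim X :=
      Order.krullDim_eq_of_orderIso (irreducibleSetEquivPoints (α := X))
    have h3 : (Order.coheight x : WithBot ℕ∞) ≤ 2 := by
      rw [← hdX]; unfold topologicalKrullDim; rw [h2]; exact h1
    exact WithBot.coe_le_coe.1 h3
  have hgen : GeneralizingMap f :=
    Groth.Agent.Lib.Helper16GoingDownSch.generalizingMap_of_integral_of_normal
      (fun y => (hnY y).2) f
  -- key: non-flat points lie over codimension-two points
  have key : ∀ y ∈ f '' {x : X | (f.stalkMap x).hom.Flat}ᶜ, Order.coheight y = 2 := by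
    rintro y ⟨x, hx, rfl⟩
    refine le_antisymm (hcohY _) ?_
    by_contra hlt
    apply hx
    apply flat_stalkMap_of_dim_le_one hnY f x
    rw [ringKrullDim_stalk_eq_coheight]
    have h1 : Order.coheight (f x) < 1 + 1 := by
      have : (2 : ℕ∞) = 1 + 1 := by norm_num
      rw [← this]; exact not_le.1 hlt
    exact WithBot.coe_le_coe.2 (Order.le_of_lt_add_one h1)
  have hTfin : (f '' {x : X | (f.stalkMap x).hom.Flat}ᶜ).Finite :=
    finite_of_forall_coheight_eq _ hT 2 (fun y hy => by rw [key y hy]; rfl)
  refine ⟨⟨_, hT.isOpen_compl⟩, ?_, ?_, ?_, ?_, ?_⟩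
  · simpa using hTfin
  · intro y hy
    have hy' : y ∈ f '' {x : X | (f.stalkMap x).hom.Flat}ᶜ := by
      by_contra h; exact hy h
    rw [ringKrullDim_stalk_eq_coheight, key y hy']; rfl
  · have : (((f ⁻¹ᵁ (⟨_, hT.isOpen_compl⟩ : Y.Opens) : X.Opens) : Set X)ᶜ) =
        f ⁻¹' (f '' {x : X | (f.stalkMap x).hom.Flat}ᶜ) := by
      ext x; simp
    rw [this]
    exact hTfin.preimage' (fun y _ => Scheme.Hom.finite_preimage_singleton f y)
  · intro x hx
    have hx' : f x ∈ f '' {x : X | (f.stalkMap x).hom.Flat}ᶜ := by
      by_contra h; exact hx h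
    rw [ringKrullDim_stalk_eq_coheight]
    have h1 := coheight_map_le f hgen x
    rw [key _ hx'] at h1
    have := le_antisymm (hcohX x) h1
    rw [this]; rfl
  · apply Flat.of_stalkMap
    intro z
    have hz : (f.stalkMap z.1).hom.Flat := by
      by_contra h
      exact z.2 ⟨z.1, h, rfl⟩
    exact (RingHom.Flat.respectsIso.arrow_mk_iso_iff (morphismRestrictStalkMap f _ z)).mpr hz

end Groth.Agent.S15140
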