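import Groth.Statements.S15146
import Mathlib.RingTheory.PowerSeries.Inverse
import Mathlib.RingTheory.PowerSeries.Order

set_option autoImplicit false
universe u
open HilbZeta

namespace Groth.Agent.S15146

open PowerSeries in
/-- division with control of the order -/
theorem exists_mul_eq_of_order (k : Type u) [Field k] (a b : PowerSeries k) (l c : ℕ)
    (ha : a.order = (l : ℕ∞)) (hb : ((l + c : ℕ) : ℕ∞) ≤ b.order) :
    ∃ q : PowerSeries k, b = q * a ∧ (c : ℕ∞) ≤ q.order := by
  have ha0 : a ≠ 0 := by
    intro h0
    rw [h0, order_zero] at ha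
    exact ENat.top_ne_coe l ha
  have hl : a.order.toNat = l := by rw [ha]; rfl
  have hu : constantCoeff (divXPowOrder a) ≠ 0 := by
    rw [Ne, constantCoeff_divXPowOrder_eq_zero_iff]
    exact ha0
  have hdvd : (X : PowerSeries k) ^ (l + c) ∣ b := by
    rw [X_pow_dvd_iff]
    intro m hm
    exact coeff_of_lt_order m (lt_of_lt_of_le (by exact_mod_cast hm) hb)
  obtain ⟨b', hb'⟩ := hdvd
  refine ⟨X ^ c * b' * (divXPowOrder a)⁻¹, ?_, ?_⟩
  · have e1 : a = X ^ l * divXPowOrder a := by
      conv_lhs => rw [← X_pow_order_mul_divXPowOrder (f := a), hl]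
    have e2 : (divXPowOrder a)⁻¹ * divXPowOrder a = 1 := PowerSeries.inv_mul_cancel _ hu
    calc b = X ^ (l + c) * b' := hb'
      _ = X ^ c * b' * ((divXPowOrder a)⁻¹ * divXPowOrder a) * X ^ l := by
          rw [e2, pow_add]; ring
      _ = X ^ c * b' * (divXPowOrder a)⁻¹ * (X ^ l * divXPowOrder a) := by ring
      _ = X ^ c * b' * (divXPowOrder a)⁻¹ * a := by rw [← e1]
  · rw [mul_assoc, order_mul, order_X_pow]
    exact le_self_add

/-- Let k be a field, s a natural number and R a k-subalgebra of the product of s copies of the power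
series ring k[[x]], of finite codimension δ over k and local with residue field k (all components of
an element of R have the same constant term); write v_i for the x-adic order of the i-th component
of an s-tuple, and let c = (c_1, …, c_s) be the conductor exponents, so that an s-tuple f satisfies
f·g ∈ R for every s-tuple g exactly when v_i(f) ≥ c_i for all i (over an algebraically closed field
such an R is precisely the completed local ring of a reduced curve singularity having s branches
sitting inside its normalisation, δ is its delta invariant and the conductor ideal is generated by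
the x_i^{c_i}). If J is an ideal of R of finite colength which contains, for each i, an element f_i
with v_i(f_i) = l_i, then every s-tuple g with v_i(g) ≥ l_i + c_i for all i lies in R and belongs to
J. (The published statement is over an algebraically closed field; this row allows any field.) -/
theorem result (k : Type u) [Field k] (s : ℕ)
    (R : Subalgebra k (Fin s → PowerSeries k))
    (hfin : Module.Finite k ((Fin s → PowerSeries k) ⧸ Subalgebra.toSubmodule R))
    (hloc : ∀ f ∈ R, ∀ i j : Fin s, PowerSeries.constantCoeff (f i) = PowerSeries.constantCoeff (f j))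
    (c : Fin s → ℕ)
    (hc : ∀ f : Fin s → PowerSeries k,
      (∀ g : Fin s → PowerSeries k, g * f ∈ R) ↔ ∀ i, ((c i : ℕ) : ℕ∞) ≤ (f i).order)
    (J : Ideal ↥R) (hJ : Module.Finite k (↥R ⧸ J))
    (l : Fin s → ℕ) (hl : ∀ i : Fin s, ∃ f ∈ J, ((f : Fin s → PowerSeries k) i).order = ((l i : ℕ) : ℕ∞))
    (g : Fin s → PowerSeries k) (hg : ∀ i : Fin s, ((l i + c i : ℕ) : ℕ∞) ≤ (g i).order) :
    ∃ hgR : g ∈ R, (⟨g, hgR⟩ : ↥R) ∈ J := by
  classical
  -- elements of the conductor lie in R
  have hcond : ∀ f : Fin s → PowerSeries k, (∀ i, ((c i : ℕ) : ℕ∞) ≤ (f i).order) → f ∈ R := by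
    intro f hf
    have := (hc f).mpr hf 1
    rwa [one_mul] at this
  choose F hFJ hFl using hl
  -- for each i, the quotient tuple
  have hq : ∀ i : Fin s, ∃ q : PowerSeries k, g i = q * ((F i : Fin s → PowerSeries k) i) ∧
      ((c i : ℕ) : ℕ∞) ≤ q.order := fun i =>
    exists_mul_eq_of_order k _ _ (l i) (c i) (hFl i) (hg i)
  choose q hq1 hq2 using hq
  let h : Fin s → (Fin s → PowerSeries k) := fun i => Pi.single i (q i)
  have hhR : ∀ i, h i ∈ R := by
    intro i
    apply hcond
    intro j
    by_cases hji : j = i
    · subst hji; simp only [h, Pi.single_eq_same]; exact hq2 j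
    · simp only [h, Pi.single_eq_of_ne hji, PowerSeries.order_zero]; exact le_top
  have hsum : g = ∑ i, h i * (F i : Fin s → PowerSeries k) := by
    funext j
    rw [Finset.sum_apply, Finset.sum_eq_single j]
    · simp only [h, Pi.mul_apply, Pi.single_eq_same]; exact hq1 j
    · intro i _ hij
      simp only [h, Pi.mul_apply, Pi.single_eq_of_ne (Ne.symm hij), zero_mul]
    · intro hj; exact absurd (Finset.mem_univ j) hj
  have hgR : g ∈ R := by
    rw [hsum]
    exact R.sum_mem (fun i _ => R.mul_mem (hhR i) (F i).2)
  refine ⟨hgR, ?_⟩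
  have : (⟨g, hgR⟩ : ↥R) = ∑ i, (⟨h i, hhR i⟩ : ↥R) * F i := by
    apply Subtype.ext
    rw [AddSubmonoidClass.coe_finset_sum]
    exact hsum
  rw [this]
  exact J.sum_mem (fun i _ => J.mul_mem_left _ (hFJ i))

end Groth.Agent.S15146
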