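import Groth.Statements.S15148
import Mathlib
import Groth.Agent.S15147
-- import your own Groth.Agent.* helpers here

set_option autoImplicit false
universe u
open HilbZeta

namespace Groth.Agent.S15148.Aux

open PowerSeries

namespace CL

variable {k : Type*} [Field k] {s : ℕ}

/-- truncation of coefficients -/
noncomputable def T (k : Type*) [Field k] {s : ℕ} (b : Fin s → ℕ) :
    (Fin s → PowerSeries k) →ₗ[k] ((i : Fin s) → Fin (b i) → k) :=
  LinearMap.pi fun i => LinearMap.pi fun j =>
    (PowerSeries.coeff (R := k) (j : ℕ)) ∘ₗ (LinearMap.proj i)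

lemma T_apply (b : Fin s → ℕ) (f : Fin s → PowerSeries k) (i : Fin s) (j : Fin (b i)) :
    T k b f i j = PowerSeries.coeff (j : ℕ) (f i) := rfl

lemma T_surjective (b : Fin s → ℕ) : Function.Surjective (T k b) := by
  intro u
  refine ⟨fun i => PowerSeries.mk (fun j => if h : j < b i then u i ⟨j, h⟩ else 0), ?_⟩
  ext i j
  rw [T_apply, PowerSeries.coeff_mk, dif_pos j.2]

/-- order filtration -/
noncomputable def F (k : Type*) [Field k] {s : ℕ} (b : Fin s → ℕ) :
    Submodule k (Fin s → PowerSeries k) := LinearMap.ker (T k b)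

lemma mem_F_iff (b : Fin s → ℕ) (f : Fin s → PowerSeries k) :
    f ∈ F k b ↔ ∀ i, ((b i : ℕ) : ℕ∞) ≤ (f i).order := by
  unfold F
  rw [LinearMap.mem_ker]
  constructor
  · intro h i
    refine PowerSeries.nat_le_order _ _ fun j hj => ?_
    have := congrFun (congrFun h i) ⟨j, hj⟩
    rwa [T_apply] at this
  · intro h
    ext i j
    rw [T_apply]
    exact PowerSeries.coeff_of_lt_order _ (lt_of_lt_of_le (by exact_mod_cast j.2) (h i))

noncomputable def quotEquiv (b : Fin s → ℕ) :
    ((Fin s → PowerSeries k) ⧸ F k b) ≃ₗ[k] ((i : Fin s) → Fin (b i) → k) :=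
  (T k b).quotKerEquivOfSurjective (T_surjective b)

instance finite_quot (b : Fin s → ℕ) : Module.Finite k ((Fin s → PowerSeries k) ⧸ F k b) :=
  Module.Finite.equiv (quotEquiv b).symm

lemma finrank_quot (b : Fin s → ℕ) :
    Module.finrank k ((Fin s → PowerSeries k) ⧸ F k b) = ∑ i, b i := by
  rw [(quotEquiv b).finrank_eq, Module.finrank_pi_fintype]
  simp

/-- comparison of quotients -/
lemma finrank_le_of_le {V : Type*} [AddCommGroup V] [Module k V] (A B : Submodule k V) (h : A ≤ B)
    [Module.Finite k (V ⧸ A)] :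
    Module.Finite k (V ⧸ B) ∧ Module.finrank k (V ⧸ B) ≤ Module.finrank k (V ⧸ A) := by
  have hs : Function.Surjective (Submodule.mapQ A B LinearMap.id h) := by
    intro x
    obtain ⟨v, rfl⟩ := Submodule.Quotient.mk_surjective _ x
    exact ⟨Submodule.Quotient.mk v, rfl⟩
  exact ⟨Module.Finite.of_surjective _ hs, LinearMap.finrank_le_finrank_of_surjective hs⟩

lemma le_of_finrank_eq {V : Type*} [AddCommGroup V] [Module k V] (A B : Submodule k V) (h : A ≤ B)
    [Module.Finite k (V ⧸ A)]
    (he : Module.finrank k (V ⧸ B) = Module.finrank k (V ⧸ A)) : B ≤ A := by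
  have hs : Function.Surjective (Submodule.mapQ A B LinearMap.id h) := by
    intro x
    obtain ⟨v, rfl⟩ := Submodule.Quotient.mk_surjective _ x
    exact ⟨Submodule.Quotient.mk v, rfl⟩
  have : Module.Finite k (V ⧸ B) := Module.Finite.of_surjective _ hs
  have hinj : Function.Injective (Submodule.mapQ A B LinearMap.id h) :=
    (LinearMap.injective_iff_surjective_of_finrank_eq_finrank he.symm).mpr hs
  intro x hx
  have h0 : Submodule.mapQ A B LinearMap.id h (Submodule.Quotient.mk x) = 0 := by
    rw [Submodule.mapQ_apply]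
    exact (Submodule.Quotient.mk_eq_zero _).mpr hx
  have := hinj (h0.trans (map_zero _).symm)
  exact (Submodule.Quotient.mk_eq_zero _).mp this

theorem main (k : Type*) [Field k] (s : ℕ)
    (R : Subalgebra k (Fin s → PowerSeries k))
    (hfin : Module.Finite k ((Fin s → PowerSeries k) ⧸ Subalgebra.toSubmodule R))
    (c : Fin s → ℕ)
    (hc : ∀ f : Fin s → PowerSeries k,
      (∀ g : Fin s → PowerSeries k, g * f ∈ R) ↔ ∀ i, ((c i : ℕ) : ℕ∞) ≤ (f i).order)
    (I : Ideal ↥R) (a : Fin s → ℕ)
    (ha : (∀ i : Fin s, Ideal.map ((Pi.evalAlgHom k (fun _ : Fin s => PowerSeries k) i).comp R.val) I = Ideal.span {PowerSeries.X ^ (a i)}))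
    (h1 : ∀ g : Fin s → PowerSeries k, (∀ i : Fin s, ((a i + c i : ℕ) : ℕ∞) ≤ (g i).order) →
      ∃ hgR : g ∈ R, (⟨g, hgR⟩ : ↥R) ∈ I)
    (h2 : ∀ f ∈ I, ∀ i : Fin s, ((a i : ℕ) : ℕ∞) ≤ ((f : Fin s → PowerSeries k) i).order) :
    (∑ i, a i) ≤ Module.finrank k (↥R ⧸ I) + Module.finrank k ((Fin s → PowerSeries k) ⧸ Subalgebra.toSubmodule R) ∧
    Module.finrank k (↥R ⧸ I) + Module.finrank k ((Fin s → PowerSeries k) ⧸ Subalgebra.toSubmodule R) ≤ (∑ i, a i) + ∑ i, c i ∧
    (R ≠ ⊤ → Module.finrank k (↥R ⧸ I) + Module.finrank k ((Fin s → PowerSeries k) ⧸ Subalgebra.toSubmodule R) < (∑ i, a i) + ∑ i, c i) := by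
  classical
  set Rk := Subalgebra.toSubmodule R with hRk
  set I' : Submodule k (Fin s → PowerSeries k) :=
    (I.restrictScalars k).map R.val.toLinearMap with hI'
  have memI' : ∀ g, g ∈ I' ↔ ∃ r ∈ I, (r : Fin s → PowerSeries k) = g := by
    intro g
    simp only [hI', Submodule.mem_map, Submodule.restrictScalars_mem]
    rfl
  have hFI : F k (fun i => a i + c i) ≤ I' := by
    intro g hg
    rw [mem_F_iff] at hg
    obtain ⟨hgR, hgI⟩ := h1 g hg
    exact (memI' g).mpr ⟨⟨g, hgR⟩, hgI, rfl⟩
  have hIF : I' ≤ F k a := by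
    intro g hg
    obtain ⟨r, hr, rfl⟩ := (memI' g).mp hg
    rw [mem_F_iff]
    exact h2 r hr
  have hIR : I' ≤ Rk := by
    intro g hg
    obtain ⟨r, hr, rfl⟩ := (memI' g).mp hg
    exact r.2
  obtain ⟨hQfin, hQle⟩ := finrank_le_of_le (F k (fun i => a i + c i)) I' hFI
  have := hQfin
  obtain ⟨_, hale⟩ := finrank_le_of_le I' (F k a) hIF
  rw [finrank_quot] at hQle hale
  -- tower formula
  have htower : Module.finrank k (↥R ⧸ I) + Module.finrank k ((Fin s → PowerSeries k) ⧸ Rk) =
      Module.finrank k ((Fin s → PowerSeries k) ⧸ I') := by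
    set N := Rk.map I'.mkQ with hN
    have e1 := Submodule.quotientQuotientEquivQuotient I' Rk hIR
    let g : ↥R →ₗ[k] N :=
      { toFun := fun r => ⟨I'.mkQ (r : Fin s → PowerSeries k), Submodule.mem_map_of_mem r.2⟩
        map_add' := fun x y => by ext; simp
        map_smul' := fun t x => by ext; simp }
    have hgs : Function.Surjective g := by
      rintro ⟨n, hn⟩
      obtain ⟨x, hx, rfl⟩ := hn
      exact ⟨⟨x, hx⟩, rfl⟩
    have hgk : LinearMap.ker g = I.restrictScalars k := by
      ext r
      rw [LinearMap.mem_ker, Submodule.restrictScalars_mem]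
      constructor
      · intro h
        have h' : I'.mkQ (r : Fin s → PowerSeries k) = 0 := congrArg Subtype.val h
        rw [Submodule.mkQ_apply, Submodule.Quotient.mk_eq_zero, memI'] at h'
        obtain ⟨r', hr', he⟩ := h'
        have : r' = r := Subtype.ext he
        rwa [← this]
      · intro h
        apply Subtype.ext
        change I'.mkQ (r : Fin s → PowerSeries k) = 0
        rw [Submodule.mkQ_apply, Submodule.Quotient.mk_eq_zero, memI']
        exact ⟨r, h, rfl⟩
    have e2 : (↥R ⧸ I) ≃ₗ[k] N :=
      (Submodule.Quotient.restrictScalarsEquiv k I).symm ≪≫ₗ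
        (Submodule.quotEquivOfEq _ _ hgk.symm) ≪≫ₗ g.quotKerEquivOfSurjective hgs
    rw [e2.finrank_eq, ← e1.finrank_eq, add_comm]
    exact Submodule.finrank_quotient_add_finrank N
  rw [htower]
  refine ⟨hale, ?_, ?_⟩
  · calc Module.finrank k ((Fin s → PowerSeries k) ⧸ I') ≤ ∑ i, (a i + c i) := hQle
      _ = (∑ i, a i) + ∑ i, c i := Finset.sum_add_distrib
  · intro hR
    have hlt : Module.finrank k ((Fin s → PowerSeries k) ⧸ I') ≠ ∑ i, (a i + c i) := by
      intro he
      have hle := le_of_finrank_eq (F k (fun i => a i + c i)) I' hFI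
        (by rw [finrank_quot]; exact he)
      -- some c i is positive
      have hci : ∃ i, 1 ≤ c i := by
        by_contra hno
        push Not at hno
        apply hR
        rw [eq_top_iff]
        intro f _
        have := (hc f).mpr (fun i => by
          have : c i = 0 := by have := hno i; omega
          rw [this]; simp)
        simpa using this 1
      obtain ⟨i, hi⟩ := hci
      have hsub : Ideal.map ((Pi.evalAlgHom k (fun _ : Fin s => PowerSeries k) i).comp R.val) I ≤
          Ideal.span {(PowerSeries.X : PowerSeries k) ^ (a i + 1)} := by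
        rw [Ideal.map_le_iff_le_comap]
        intro r hr
        rw [Ideal.mem_comap, Ideal.mem_span_singleton]
        have hm : (r : Fin s → PowerSeries k) ∈ F k (fun i => a i + c i) :=
          hle ((memI' _).mpr ⟨r, hr, rfl⟩)
        rw [mem_F_iff] at hm
        have h3 : ((a i + 1 : ℕ) : ℕ∞) ≤ ((r : Fin s → PowerSeries k) i).order :=
          le_trans (by exact_mod_cast (by omega : a i + 1 ≤ a i + c i)) (hm i)
        exact PowerSeries.X_pow_dvd_iff.mpr (fun m hm =>
          PowerSeries.coeff_of_lt_order m (lt_of_lt_of_le (by exact_mod_cast hm) h3))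
      rw [ha i] at hsub
      have h4 : (PowerSeries.X : PowerSeries k) ^ (a i) ∈
          Ideal.span {(PowerSeries.X : PowerSeries k) ^ (a i + 1)} :=
        hsub (Ideal.subset_span rfl)
      rw [Ideal.mem_span_singleton] at h4
      have h5 := PowerSeries.X_pow_dvd_iff.mp h4 (a i) (by omega)
      rw [PowerSeries.coeff_X_pow_self] at h5
      exact one_ne_zero h5
    have := lt_of_le_of_ne hQle hlt
    rwa [Finset.sum_add_distrib] at this

end CL

end Groth.Agent.S15148.Aux

namespace Groth.Agent.S15148

/-- Let k be a field, s a natural number and R a k-subalgebra of the product of s copies of the power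
series ring k[[x]], of finite codimension δ over k and local with residue field k (all components of
an element of R have the same constant term); write v_i for the x-adic order of the i-th component
of an s-tuple, and let c = (c_1, …, c_s) be the conductor exponents, so that an s-tuple f satisfies
f·g ∈ R for every s-tuple g exactly when v_i(f) ≥ c_i for all i (over an algebraically closed field
such an R is precisely the completed local ring of a reduced curve singularity having s branches
sitting inside its normalisation, δ is its delta invariant and the conductor ideal is generated by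
the x_i^{c_i}), and put C = c_1 + ⋯ + c_s. Let I be an ideal of R of finite colength d with
branch-length vector a (for every i the ideal of k[[x]] generated by the i-th components of the
elements of I is (x^{a_i})). Then −δ ≤ d − Σ a_i ≤ C − δ, and the second inequality is strict when R
is not the whole product (the singularity is not smooth). (The published statement is over an
algebraically closed field; this row allows any field.) -/
theorem result (k : Type u) [Field k] (s : ℕ)
    (R : Subalgebra k (Fin s → PowerSeries k))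
    (hfin : Module.Finite k ((Fin s → PowerSeries k) ⧸ Subalgebra.toSubmodule R))
    (hloc : ∀ f ∈ R, ∀ i j : Fin s, PowerSeries.constantCoeff (f i) = PowerSeries.constantCoeff (f j))
    (c : Fin s → ℕ)
    (hc : ∀ f : Fin s → PowerSeries k,
      (∀ g : Fin s → PowerSeries k, g * f ∈ R) ↔ ∀ i, ((c i : ℕ) : ℕ∞) ≤ (f i).order)
    (I : Ideal ↥R) (hI : Module.Finite k (↥R ⧸ I)) (a : Fin s → ℕ)
    (ha : (∀ i : Fin s, Ideal.map ((Pi.evalAlgHom k (fun _ : Fin s => PowerSeries k) i).comp R.val) I = Ideal.span {PowerSeries.X ^ (a i)})) :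
    (∑ i, a i) ≤ Module.finrank k (↥R ⧸ I) + Module.finrank k ((Fin s → PowerSeries k) ⧸ Subalgebra.toSubmodule R) ∧
    Module.finrank k (↥R ⧸ I) + Module.finrank k ((Fin s → PowerSeries k) ⧸ Subalgebra.toSubmodule R) ≤ (∑ i, a i) + ∑ i, c i ∧
    (R ≠ ⊤ → Module.finrank k (↥R ⧸ I) + Module.finrank k ((Fin s → PowerSeries k) ⧸ Subalgebra.toSubmodule R) < (∑ i, a i) + ∑ i, c i) := by
  exact Aux.CL.main k s R hfin c hc I a ha (Groth.Agent.S15147.result k s R hfin hloc c hc I hI a ha).1 (Groth.Agent.S15147.result k s R hfin hloc c hc I hI a ha).2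

end Groth.Agent.S15148
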