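import Groth.Statements.S15149
import Mathlib
import Groth.Agent.S15147
-- import your own Groth.Agent.* helpers here

set_option autoImplicit false
universe u
open HilbZeta

namespace Groth.Agent.S15149.Aux

open PowerSeries
open scoped Pointwise

namespace XI

variable {k : Type*} [Field k] {s : ℕ}

/-- truncation of coefficients -/
noncomputable def T (k : Type*) [Field k] {s : ℕ} (b : Fin s → ℕ) :
    (Fin s → PowerSeries k) →ₗ[k] ((i : Fin s) → Fin (b i) → k) :=
  LinearMap.pi fun i => LinearMap.pi fun j =>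
    (PowerSeries.coeff (R := k) (j : ℕ)) ∘ₗ (LinearMap.proj i)

lemma T_apply (b : Fin s → ℕ) (f : Fin s → PowerSeries k) (i : Fin s) (j : Fin (b i)) :
    T k b f i j = PowerSeries.coeff (j : ℕ) (f i) := rfl

lemma T_surjective (b : Fin s → ℕ) : Function.Surjective (T k b) := by
  intro u
  refine ⟨fun i => PowerSeries.mk (fun j => if h : j < b i then u i ⟨j, h⟩ else 0), ?_⟩
  ext i j
  rw [T_apply, PowerSeries.coeff_mk, dif_pos j.2]

/-- order filtration -/
noncomputable def F (k : Type*) [Field k] {s : ℕ} (b : Fin s → ℕ) :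
    Submodule k (Fin s → PowerSeries k) := LinearMap.ker (T k b)

lemma mem_F_iff (b : Fin s → ℕ) (f : Fin s → PowerSeries k) :
    f ∈ F k b ↔ ∀ i, ((b i : ℕ) : ℕ∞) ≤ (f i).order := by
  unfold F
  rw [LinearMap.mem_ker]
  constructor
  · intro h i
    refine PowerSeries.nat_le_order _ _ fun j hj => ?_
    have := congrFun (congrFun h i) ⟨j, hj⟩
    rwa [T_apply] at this
  · intro h
    ext i j
    rw [T_apply]
    exact PowerSeries.coeff_of_lt_order _ (lt_of_lt_of_le (by exact_mod_cast j.2) (h i))

noncomputable def quotEquiv (b : Fin s → ℕ) :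
    ((Fin s → PowerSeries k) ⧸ F k b) ≃ₗ[k] ((i : Fin s) → Fin (b i) → k) :=
  (T k b).quotKerEquivOfSurjective (T_surjective b)

instance finite_quot (b : Fin s → ℕ) : Module.Finite k ((Fin s → PowerSeries k) ⧸ F k b) :=
  Module.Finite.equiv (quotEquiv b).symm

lemma finrank_quot (b : Fin s → ℕ) :
    Module.finrank k ((Fin s → PowerSeries k) ⧸ F k b) = ∑ i, b i := by
  rw [(quotEquiv b).finrank_eq, Module.finrank_pi_fintype]
  simp

section tower
variable {V W : Type*} [AddCommGroup V] [Module k V] [AddCommGroup W] [Module k W]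

lemma tower_data (A : Submodule k V) (g : W →ₗ[k] V) (B : Submodule k V)
    (hB : LinearMap.range g = B) (C : Submodule k W) (hC : A.comap g = C) (hA : A ≤ B) :
    ∃ N : Submodule k (V ⧸ A), Nonempty (((V ⧸ A) ⧸ N) ≃ₗ[k] (V ⧸ B)) ∧
      Nonempty ((W ⧸ C) ≃ₗ[k] N) := by
  subst hB hC
  refine ⟨(LinearMap.range g).map A.mkQ, ⟨Submodule.quotientQuotientEquivQuotient A _ hA⟩, ?_⟩
  let h : W →ₗ[k] ((LinearMap.range g).map A.mkQ) :=
    (A.mkQ ∘ₗ g).codRestrict _ (fun w => Submodule.mem_map_of_mem (LinearMap.mem_range_self g w))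
  have hs : Function.Surjective h := by
    rintro ⟨n, hn⟩
    obtain ⟨x, ⟨w, rfl⟩, rfl⟩ := hn
    exact ⟨w, rfl⟩
  have hk : LinearMap.ker h = A.comap g := by
    ext w
    rw [LinearMap.mem_ker, Submodule.mem_comap]
    constructor
    · intro hw
      have : A.mkQ (g w) = 0 := congrArg Subtype.val hw
      rwa [Submodule.mkQ_apply, Submodule.Quotient.mk_eq_zero] at this
    · intro hw
      apply Subtype.ext
      change A.mkQ (g w) = 0
      rwa [Submodule.mkQ_apply, Submodule.Quotient.mk_eq_zero]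
  exact ⟨Submodule.quotEquivOfEq _ _ hk.symm ≪≫ₗ h.quotKerEquivOfSurjective hs⟩

lemma tower_finite_of_parts (A : Submodule k V) (g : W →ₗ[k] V) (B : Submodule k V)
    (hB : LinearMap.range g = B) (C : Submodule k W) (hC : A.comap g = C) (hA : A ≤ B)
    [Module.Finite k (V ⧸ B)] [Module.Finite k (W ⧸ C)] : Module.Finite k (V ⧸ A) := by
  obtain ⟨N, ⟨e1⟩, ⟨e2⟩⟩ := tower_data A g B hB C hC hA
  have : Module.Finite k N := Module.Finite.equiv e2
  have : Module.Finite k ((V ⧸ A) ⧸ N) := Module.Finite.equiv e1.symm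
  exact Module.Finite.of_submodule_quotient N

lemma tower_finite_part (A : Submodule k V) (g : W →ₗ[k] V) (B : Submodule k V)
    (hB : LinearMap.range g = B) (C : Submodule k W) (hC : A.comap g = C) (hA : A ≤ B)
    [Module.Finite k (V ⧸ A)] : Module.Finite k (W ⧸ C) := by
  obtain ⟨N, ⟨e1⟩, ⟨e2⟩⟩ := tower_data A g B hB C hC hA
  exact Module.Finite.equiv e2.symm

lemma tower_finrank (A : Submodule k V) (g : W →ₗ[k] V) (B : Submodule k V)
    (hB : LinearMap.range g = B) (C : Submodule k W) (hC : A.comap g = C) (hA : A ≤ B)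
    [Module.Finite k (V ⧸ A)] :
    Module.finrank k (V ⧸ A) = Module.finrank k (V ⧸ B) + Module.finrank k (W ⧸ C) := by
  obtain ⟨N, ⟨e1⟩, ⟨e2⟩⟩ := tower_data A g B hB C hC hA
  rw [e2.finrank_eq, ← e1.finrank_eq]
  exact (Submodule.finrank_quotient_add_finrank N).symm

end tower

variable (R : Subalgebra k (Fin s → PowerSeries k))

/-- image of an ideal in the product -/
noncomputable def img (I : Ideal ↥R) : Submodule k (Fin s → PowerSeries k) :=
  (I.restrictScalars k).map R.val.toLinearMap

lemma mem_img (I : Ideal ↥R) (g : Fin s → PowerSeries k) :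
    g ∈ img R I ↔ ∃ r ∈ I, (r : Fin s → PowerSeries k) = g := by
  simp only [img, Submodule.mem_map, Submodule.restrictScalars_mem]
  rfl

lemma range_val : LinearMap.range R.val.toLinearMap = Subalgebra.toSubmodule R := by
  ext x
  constructor
  · rintro ⟨r, rfl⟩; exact r.2
  · intro hx; exact ⟨⟨x, hx⟩, rfl⟩

lemma comap_img (I : Ideal ↥R) : (img R I).comap R.val.toLinearMap = I.restrictScalars k :=
  Submodule.comap_map_eq_of_injective Subtype.val_injective _

lemma img_le (I : Ideal ↥R) : img R I ≤ Subalgebra.toSubmodule R := by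
  intro g hg
  obtain ⟨r, _, rfl⟩ := (mem_img R I g).mp hg
  exact r.2

lemma finite_quot_of_finite_img (I : Ideal ↥R)
    [Module.Finite k ((Fin s → PowerSeries k) ⧸ img R I)] : Module.Finite k (↥R ⧸ I) := by
  have : Module.Finite k (↥R ⧸ I.restrictScalars k) :=
    tower_finite_part (img R I) R.val.toLinearMap _ (range_val R) _ (comap_img R I) (img_le R I)
  exact Module.Finite.equiv (Submodule.Quotient.restrictScalarsEquiv k I)

lemma finite_img_of_finite_quot (I : Ideal ↥R)
    [Module.Finite k ((Fin s → PowerSeries k) ⧸ Subalgebra.toSubmodule R)]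
    [Module.Finite k (↥R ⧸ I)] : Module.Finite k ((Fin s → PowerSeries k) ⧸ img R I) := by
  have : Module.Finite k (↥R ⧸ I.restrictScalars k) :=
    Module.Finite.equiv (Submodule.Quotient.restrictScalarsEquiv k I).symm
  exact tower_finite_of_parts (img R I) R.val.toLinearMap _ (range_val R) _ (comap_img R I)
    (img_le R I)

lemma finrank_img (I : Ideal ↥R) [Module.Finite k ((Fin s → PowerSeries k) ⧸ img R I)] :
    Module.finrank k ((Fin s → PowerSeries k) ⧸ img R I) =
      Module.finrank k ((Fin s → PowerSeries k) ⧸ Subalgebra.toSubmodule R) +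
        Module.finrank k (↥R ⧸ I) := by
  rw [tower_finrank (img R I) R.val.toLinearMap _ (range_val R) _ (comap_img R I) (img_le R I),
    (Submodule.Quotient.restrictScalarsEquiv k I).finrank_eq]

/-- the element with `X` in place `j` -/
noncomputable def xi (k : Type*) [Field k] {s : ℕ} (j : Fin s) : Fin s → PowerSeries k :=
  Pi.mulSingle j PowerSeries.X

lemma xi_mul_apply (j : Fin s) (f : Fin s → PowerSeries k) (i : Fin s) :
    (xi k j * f) i = if i = j then PowerSeries.X * f i else f i := by
  simp only [xi, Pi.mul_apply, Pi.mulSingle_apply]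
  split_ifs <;> simp

noncomputable def mu (j : Fin s) : (Fin s → PowerSeries k) →ₗ[k] (Fin s → PowerSeries k) :=
  LinearMap.mulLeft k (xi k j)

lemma mu_apply (j : Fin s) (f : Fin s → PowerSeries k) : mu j f = xi k j * f := rfl

lemma mu_injective (j : Fin s) : Function.Injective (mu (k := k) j) := by
  intro f g h
  ext1 i
  have := congrFun h i
  rw [mu_apply, mu_apply, xi_mul_apply, xi_mul_apply] at this
  split_ifs at this with hi
  · exact mul_left_cancel₀ PowerSeries.X_ne_zero this
  · exact this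

lemma range_mu (j : Fin s) : LinearMap.range (mu (k := k) j) = F k (Pi.single j 1) := by
  ext g
  rw [mem_F_iff]
  constructor
  · rintro ⟨f, rfl⟩ i
    rw [mu_apply, xi_mul_apply]
    by_cases hi : i = j
    · subst hi
      rw [if_pos rfl, Pi.single_eq_same, PowerSeries.order_mul, PowerSeries.order_X]
      exact le_self_add
    · rw [Pi.single_eq_of_ne hi]; simp
  · intro h
    have hj := h j
    rw [Pi.single_eq_same] at hj
    have h0 : PowerSeries.constantCoeff (g j) = 0 := by
      rw [← PowerSeries.coeff_zero_eq_constantCoeff_apply]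
      exact PowerSeries.coeff_of_lt_order 0 (lt_of_lt_of_le (by simp) hj)
    obtain ⟨h', hh'⟩ := PowerSeries.X_dvd_iff.mpr h0
    refine ⟨Function.update g j h', ?_⟩
    ext1 i
    rw [mu_apply, xi_mul_apply]
    by_cases hi : i = j
    · subst hi; rw [if_pos rfl, Function.update_self, hh']
    · rw [if_neg hi, Function.update_of_ne hi]

variable {R}
variable {c : Fin s → ℕ}

lemma cond_le
    (hc : ∀ f : Fin s → PowerSeries k,
      (∀ g : Fin s → PowerSeries k, g * f ∈ R) ↔ ∀ i, ((c i : ℕ) : ℕ∞) ≤ (f i).order) :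
    F k c ≤ Subalgebra.toSubmodule R := by
  intro f hf
  have := (hc f).mpr ((mem_F_iff c f).mp hf) 1
  simpa using this

lemma xi_sub_mem (j : Fin s) (f : Fin s → PowerSeries k)
    (hf : ((c j : ℕ) : ℕ∞) ≤ (f j).order) : xi k j * f - f ∈ F k c := by
  rw [mem_F_iff]
  intro i
  rw [Pi.sub_apply, xi_mul_apply]
  split_ifs with h
  · subst h
    have : PowerSeries.X * f i - f i = (PowerSeries.X - 1) * f i := by ring
    rw [this, PowerSeries.order_mul]
    exact le_trans hf le_add_self
  · simp

lemma xi_mem_iff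
    (hc : ∀ f : Fin s → PowerSeries k,
      (∀ g : Fin s → PowerSeries k, g * f ∈ R) ↔ ∀ i, ((c i : ℕ) : ℕ∞) ≤ (f i).order)
    (j : Fin s) (f : Fin s → PowerSeries k)
    (hf : ((c j : ℕ) : ℕ∞) ≤ (f j).order) : xi k j * f ∈ R ↔ f ∈ R := by
  have h : xi k j * f - f ∈ R := cond_le hc (xi_sub_mem j f hf)
  constructor
  · intro h1
    have := R.sub_mem h1 h
    simpa using this
  · intro h1
    have := R.add_mem h h1
    simpa using this

/-- colength part of the key lemma -/
lemma key_colength [Module.Finite k ((Fin s → PowerSeries k) ⧸ Subalgebra.toSubmodule R)]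
    (j : Fin s) (I J : Ideal ↥R) (hH : img R J = (img R I).map (mu j))
    [Module.Finite k ((Fin s → PowerSeries k) ⧸ img R I)] :
    Module.Finite k (↥R ⧸ J) ∧ Module.finrank k (↥R ⧸ J) = Module.finrank k (↥R ⧸ I) + 1 := by
  have hle : img R J ≤ F k (Pi.single j 1) := by
    rw [hH, ← range_mu]
    exact LinearMap.map_le_range
  have hcomap : (img R J).comap (mu j) = img R I := by
    rw [hH]; exact Submodule.comap_map_eq_of_injective (mu_injective j) _
  have hfJ : Module.Finite k ((Fin s → PowerSeries k) ⧸ img R J) :=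
    tower_finite_of_parts (img R J) (mu j) _ (range_mu j) _ hcomap hle
  have h1 := tower_finrank (img R J) (mu j) _ (range_mu j) _ hcomap hle
  rw [finrank_quot, finrank_img R J, finrank_img R I] at h1
  have hsum : ∑ i, (Pi.single j 1 : Fin s → ℕ) i = 1 := by
    rw [Finset.sum_eq_single j]
    · simp
    · intro b _ hb; exact Pi.single_eq_of_ne hb _
    · intro h; exact absurd (Finset.mem_univ j) h
  rw [hsum] at h1
  exact ⟨finite_quot_of_finite_img R J, by omega⟩

/-- branch ideal part of the key lemma -/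
lemma key_branch (j : Fin s) (I J : Ideal ↥R) (hH : img R J = (img R I).map (mu j)) (i : Fin s) :
    Ideal.map ((Pi.evalAlgHom k (fun _ : Fin s => PowerSeries k) i).comp R.val) J =
      if i = j then Ideal.span {PowerSeries.X} *
          Ideal.map ((Pi.evalAlgHom k (fun _ : Fin s => PowerSeries k) i).comp R.val) I
        else Ideal.map ((Pi.evalAlgHom k (fun _ : Fin s => PowerSeries k) i).comp R.val) I := by
  have hJ : ∀ r ∈ J, ∃ f ∈ I, (r : Fin s → PowerSeries k) = xi k j * (f : Fin s → PowerSeries k) := by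
    intro r hr
    have : (r : Fin s → PowerSeries k) ∈ img R J := (mem_img R J _).mpr ⟨r, hr, rfl⟩
    rw [hH] at this
    obtain ⟨g, hg, hgr⟩ := this
    obtain ⟨f, hf, rfl⟩ := (mem_img R I g).mp hg
    exact ⟨f, hf, hgr.symm⟩
  have hI : ∀ f ∈ I, ∃ r ∈ J, (r : Fin s → PowerSeries k) = xi k j * (f : Fin s → PowerSeries k) := by
    intro f hf
    have : xi k j * (f : Fin s → PowerSeries k) ∈ img R J := by
      rw [hH]
      exact ⟨f, (mem_img R I _).mpr ⟨f, hf, rfl⟩, rfl⟩
    obtain ⟨r, hr, h⟩ := (mem_img R J _).mp this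
    exact ⟨r, hr, h⟩
  set φ := ((Pi.evalAlgHom k (fun _ : Fin s => PowerSeries k) i).comp R.val) with hφ
  have hφv : ∀ r : ↥R, φ r = (r : Fin s → PowerSeries k) i := fun r => rfl
  split_ifs with hi
  · subst hi
    have hset : (φ '' (J : Set ↥R)) = ({PowerSeries.X} : Set (PowerSeries k)) * (φ '' (I : Set ↥R)) := by
      rw [Set.singleton_mul]
      ext y
      constructor
      · rintro ⟨r, hr, rfl⟩
        obtain ⟨f, hf, h⟩ := hJ r hr
        refine ⟨φ f, ⟨f, hf, rfl⟩, ?_⟩
        change PowerSeries.X * φ f = φ r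
        rw [hφv, hφv, h, xi_mul_apply, if_pos rfl]
      · rintro ⟨_, ⟨f, hf, rfl⟩, rfl⟩
        obtain ⟨r, hr, h⟩ := hI f hf
        refine ⟨r, hr, ?_⟩
        change φ r = PowerSeries.X * φ f
        rw [hφv, hφv, h, xi_mul_apply, if_pos rfl]
    unfold Ideal.map
    rw [hset, Ideal.span_mul_span']
  · have hset : (φ '' (J : Set ↥R)) = (φ '' (I : Set ↥R)) := by
      ext y
      constructor
      · rintro ⟨r, hr, rfl⟩
        obtain ⟨f, hf, h⟩ := hJ r hr
        refine ⟨f, hf, ?_⟩
        rw [hφv, hφv, h, xi_mul_apply, if_neg hi]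
      · rintro ⟨f, hf, rfl⟩
        obtain ⟨r, hr, h⟩ := hI f hf
        refine ⟨r, hr, ?_⟩
        rw [hφv, hφv, h, xi_mul_apply, if_neg hi]
    unfold Ideal.map
    rw [hset]

/-- the ideal `ξ I` -/
def xiIdeal (j : Fin s) (I : Ideal ↥R) : Ideal ↥R where
  carrier := {r | ∃ f ∈ I, (r : Fin s → PowerSeries k) = xi k j * (f : Fin s → PowerSeries k)}
  zero_mem' := ⟨0, I.zero_mem, by simp⟩
  add_mem' := by
    rintro r1 r2 ⟨f1, hf1, h1⟩ ⟨f2, hf2, h2⟩
    refine ⟨f1 + f2, I.add_mem hf1 hf2, ?_⟩
    push_cast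
    rw [h1, h2, mul_add]
  smul_mem' := by
    rintro t r ⟨f, hf, h⟩
    refine ⟨t * f, I.mul_mem_left t hf, ?_⟩
    rw [smul_eq_mul]
    push_cast
    rw [h]; ring

/-- the ideal `ξ⁻¹ J` -/
def xiInv (j : Fin s) (J : Ideal ↥R) : Ideal ↥R where
  carrier := {r | ∃ g ∈ J, (g : Fin s → PowerSeries k) = xi k j * (r : Fin s → PowerSeries k)}
  zero_mem' := ⟨0, J.zero_mem, by simp⟩
  add_mem' := by
    rintro r1 r2 ⟨g1, hg1, h1⟩ ⟨g2, hg2, h2⟩
    refine ⟨g1 + g2, J.add_mem hg1 hg2, ?_⟩
    push_cast
    rw [h1, h2, mul_add]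
  smul_mem' := by
    rintro t r ⟨g, hg, h⟩
    refine ⟨t * g, J.mul_mem_left t hg, ?_⟩
    rw [smul_eq_mul]
    push_cast
    rw [h]; ring

theorem main (k : Type*) [Field k] (s : ℕ)
    (R : Subalgebra k (Fin s → PowerSeries k))
    (hfin : Module.Finite k ((Fin s → PowerSeries k) ⧸ Subalgebra.toSubmodule R))
    (c : Fin s → ℕ)
    (hc : ∀ f : Fin s → PowerSeries k,
      (∀ g : Fin s → PowerSeries k, g * f ∈ R) ↔ ∀ i, ((c i : ℕ) : ℕ∞) ≤ (f i).order)
    (j : Fin s) (d : ℕ) (a : Fin s → ℕ) (hj : c j ≤ a j)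
    (h47 : ∀ (I : Ideal ↥R) (_ : Module.Finite k (↥R ⧸ I)) (a : Fin s → ℕ)
      (_ : (∀ i : Fin s, Ideal.map ((Pi.evalAlgHom k (fun _ : Fin s => PowerSeries k) i).comp R.val) I = Ideal.span {PowerSeries.X ^ (a i)})),
      (∀ f ∈ I, ∀ i : Fin s, ((a i : ℕ) : ℕ∞) ≤ ((f : Fin s → PowerSeries k) i).order)) :
    (∀ I ∈ {I : Ideal ↥R | Module.Finite k (↥R ⧸ I) ∧ Module.finrank k (↥R ⧸ I) = d ∧ (∀ i : Fin s, Ideal.map ((Pi.evalAlgHom k (fun _ : Fin s => PowerSeries k) i).comp R.val) I = Ideal.span {PowerSeries.X ^ (a i)})},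
      ∃ J ∈ {I : Ideal ↥R | Module.Finite k (↥R ⧸ I) ∧ Module.finrank k (↥R ⧸ I) = d + 1 ∧ (∀ i : Fin s, Ideal.map ((Pi.evalAlgHom k (fun _ : Fin s => PowerSeries k) i).comp R.val) I = Ideal.span {PowerSeries.X ^ ((Function.update a j (a j + 1)) i)})},
        (Subtype.val '' (J : Set ↥R)) = (fun f => Pi.mulSingle j PowerSeries.X * f) '' (Subtype.val '' (I : Set ↥R))) ∧
    (∀ J ∈ {I : Ideal ↥R | Module.Finite k (↥R ⧸ I) ∧ Module.finrank k (↥R ⧸ I) = d + 1 ∧ (∀ i : Fin s, Ideal.map ((Pi.evalAlgHom k (fun _ : Fin s => PowerSeries k) i).comp R.val) I = Ideal.span {PowerSeries.X ^ ((Function.update a j (a j + 1)) i)})},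
      ∃ I ∈ {I : Ideal ↥R | Module.Finite k (↥R ⧸ I) ∧ Module.finrank k (↥R ⧸ I) = d ∧ (∀ i : Fin s, Ideal.map ((Pi.evalAlgHom k (fun _ : Fin s => PowerSeries k) i).comp R.val) I = Ideal.span {PowerSeries.X ^ (a i)})},
        (Subtype.val '' (J : Set ↥R)) = (fun f => Pi.mulSingle j PowerSeries.X * f) '' (Subtype.val '' (I : Set ↥R))) := by
  constructor
  · -- Part 1
    rintro I ⟨hIfin, hId, hIa⟩
    have hI2 := h47 I hIfin a hIa
    have hcj : ∀ f ∈ I, ((c j : ℕ) : ℕ∞) ≤ ((f : Fin s → PowerSeries k) j).order := fun f hf =>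
      le_trans (by exact_mod_cast hj) (hI2 f hf j)
    set J := xiIdeal j I with hJ
    have hH : img R J = (img R I).map (mu j) := by
      ext g
      rw [mem_img, Submodule.mem_map]
      constructor
      · rintro ⟨r, ⟨f, hf, h⟩, rfl⟩
        exact ⟨f, (mem_img R I _).mpr ⟨f, hf, rfl⟩, h.symm⟩
      · rintro ⟨g', hg', rfl⟩
        obtain ⟨f, hf, rfl⟩ := (mem_img R I g').mp hg'
        have hmem : xi k j * (f : Fin s → PowerSeries k) ∈ R :=
          (xi_mem_iff hc j _ (hcj f hf)).mpr f.2
        exact ⟨⟨_, hmem⟩, ⟨f, hf, rfl⟩, rfl⟩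
    have hfI : Module.Finite k ((Fin s → PowerSeries k) ⧸ img R I) := finite_img_of_finite_quot R I
    obtain ⟨hJfin, hJd⟩ := key_colength j I J hH
    refine ⟨J, ⟨hJfin, by rw [hJd, hId], fun i => ?_⟩, ?_⟩
    · rw [key_branch j I J hH i, hIa i]
      split_ifs with hi
      · subst hi
        rw [Function.update_self, Ideal.span_singleton_mul_span_singleton, ← pow_succ']
      · rw [Function.update_of_ne hi]
    · ext g
      constructor
      · rintro ⟨r, ⟨f, hf, h⟩, rfl⟩
        exact ⟨f, ⟨f, hf, rfl⟩, h.symm⟩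
      · rintro ⟨_, ⟨f, hf, rfl⟩, rfl⟩
        have hmem : xi k j * (f : Fin s → PowerSeries k) ∈ R :=
          (xi_mem_iff hc j _ (hcj f hf)).mpr f.2
        exact ⟨⟨_, hmem⟩, ⟨f, hf, rfl⟩, rfl⟩
  · -- Part 2
    rintro J ⟨hJfin, hJd, hJa⟩
    have hJ2 := h47 J hJfin _ hJa
    have hordj : ∀ g ∈ J, ((a j + 1 : ℕ) : ℕ∞) ≤ ((g : Fin s → PowerSeries k) j).order := by
      intro g hg
      have := hJ2 g hg j
      rwa [Function.update_self] at this
    -- every element of J is ξ times an element of R
    have hdiv : ∀ g ∈ J, ∃ r : ↥R, (g : Fin s → PowerSeries k) = xi k j * (r : Fin s → PowerSeries k) := by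
      intro g hg
      have h1 : (g : Fin s → PowerSeries k) ∈ F k (Pi.single j 1) := by
        rw [mem_F_iff]
        intro i
        by_cases hi : i = j
        · subst hi
          rw [Pi.single_eq_same]
          exact le_trans (by exact_mod_cast (by omega : 1 ≤ a i + 1)) (hordj g hg)
        · rw [Pi.single_eq_of_ne hi]; simp
      rw [← range_mu] at h1
      obtain ⟨f, hf⟩ := h1
      rw [mu_apply] at hf
      have hfj : ((c j : ℕ) : ℕ∞) ≤ (f j).order := by
        have h2 := hordj g hg
        rw [← hf, xi_mul_apply, if_pos rfl, PowerSeries.order_mul, PowerSeries.order_X] at h2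
        have h3 : ((a j : ℕ) : ℕ∞) ≤ (f j).order := by
          rw [Nat.cast_add, Nat.cast_one, add_comm] at h2
          exact (ENat.add_le_add_iff_left ENat.one_ne_top).mp h2
        exact le_trans (by exact_mod_cast hj) h3
      have hfR : f ∈ R := (xi_mem_iff hc j f hfj).mp (by rw [hf]; exact g.2)
      exact ⟨⟨f, hfR⟩, hf.symm⟩
    set I := xiInv j J with hI
    have hH : img R J = (img R I).map (mu j) := by
      ext g
      rw [mem_img, Submodule.mem_map]
      constructor
      · rintro ⟨g', hg', rfl⟩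
        obtain ⟨r, hr⟩ := hdiv g' hg'
        exact ⟨r, (mem_img R I _).mpr ⟨r, ⟨g', hg', hr⟩, rfl⟩, hr.symm⟩
      · rintro ⟨f', hf', rfl⟩
        obtain ⟨r, ⟨g', hg', h⟩, rfl⟩ := (mem_img R I f').mp hf'
        exact ⟨g', hg', h⟩
    have hfJ : Module.Finite k ((Fin s → PowerSeries k) ⧸ img R J) := finite_img_of_finite_quot R J
    have hle : img R J ≤ F k (Pi.single j 1) := by
      rw [hH, ← range_mu]
      exact LinearMap.map_le_range
    have hcomap : (img R J).comap (mu j) = img R I := by
      rw [hH]; exact Submodule.comap_map_eq_of_injective (mu_injective j) _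
    have hfI : Module.Finite k ((Fin s → PowerSeries k) ⧸ img R I) :=
      tower_finite_part (img R J) (mu j) _ (range_mu j) _ hcomap hle
    obtain ⟨_, hJd'⟩ := key_colength j I J hH
    have hIfin : Module.Finite k (↥R ⧸ I) := finite_quot_of_finite_img R I
    refine ⟨I, ⟨hIfin, by omega, fun i => ?_⟩, ?_⟩
    · have hb := key_branch j I J hH i
      rw [hJa i] at hb
      split_ifs at hb with hi
      · subst hi
        rw [Function.update_self, pow_succ', ← Ideal.span_singleton_mul_span_singleton] at hb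
        exact ((Ideal.span_singleton_mul_right_inj PowerSeries.X_ne_zero).mp hb).symm
      · rw [Function.update_of_ne hi] at hb
        exact hb.symm
    · ext g
      constructor
      · rintro ⟨g', hg', rfl⟩
        obtain ⟨r, hr⟩ := hdiv g' hg'
        exact ⟨r, ⟨r, ⟨g', hg', hr⟩, rfl⟩, hr.symm⟩
      · rintro ⟨_, ⟨r, ⟨g', hg', h⟩, rfl⟩, rfl⟩
        exact ⟨g', hg', h⟩

end XI

end Groth.Agent.S15149.Aux

namespace Groth.Agent.S15149

/-- Let k be a field, s a natural number and R a k-subalgebra of the product of s copies of the power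
series ring k[[x]], of finite codimension δ over k and local with residue field k (all components of
an element of R have the same constant term); write v_i for the x-adic order of the i-th component
of an s-tuple, and let c = (c_1, …, c_s) be the conductor exponents, so that an s-tuple f satisfies
f·g ∈ R for every s-tuple g exactly when v_i(f) ≥ c_i for all i (over an algebraically closed field
such an R is precisely the completed local ring of a reduced curve singularity having s branches
sitting inside its normalisation, δ is its delta invariant and the conductor ideal is generated by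
the x_i^{c_i}). Fix a branch j, a colength d and a branch-length vector a = (a_1, …, a_s) with a_j ≥
c_j, and let ξ be the s-tuple with x in the j-th place and 1 elsewhere. Call an ideal I of R of type
(d, a) when it has colength d and, for every i, the ideal of k[[x]] generated by the i-th components
of its elements is (x^{a_i}). Then multiplication by ξ is a bijection from the ideals of type (d, a)
onto the ideals of type (d + 1, a + e_j), where a + e_j is a with its j-th entry raised by one: for
every ideal I of type (d, a) the set ξ·I is (the image of) an ideal of type (d + 1, a + e_j), and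
every ideal of type (d + 1, a + e_j) is ξ·I for some ideal I of type (d, a). (The published
statement is the equality, in the Grothendieck ring of varieties, of the classes of the two
corresponding branch-length strata of the punctual Hilbert scheme; this row states the bijection on
ideals underlying it, which is what the argument establishes; the published statement is over an
algebraically closed field, and this row allows any field.) -/
theorem result (k : Type u) [Field k] (s : ℕ)
    (R : Subalgebra k (Fin s → PowerSeries k))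
    (hfin : Module.Finite k ((Fin s → PowerSeries k) ⧸ Subalgebra.toSubmodule R))
    (hloc : ∀ f ∈ R, ∀ i j : Fin s, PowerSeries.constantCoeff (f i) = PowerSeries.constantCoeff (f j))
    (c : Fin s → ℕ)
    (hc : ∀ f : Fin s → PowerSeries k,
      (∀ g : Fin s → PowerSeries k, g * f ∈ R) ↔ ∀ i, ((c i : ℕ) : ℕ∞) ≤ (f i).order)
    (j : Fin s) (d : ℕ) (a : Fin s → ℕ) (hj : c j ≤ a j) :
    (∀ I ∈ {I : Ideal ↥R | Module.Finite k (↥R ⧸ I) ∧ Module.finrank k (↥R ⧸ I) = d ∧ (∀ i : Fin s, Ideal.map ((Pi.evalAlgHom k (fun _ : Fin s => PowerSeries k) i).comp R.val) I = Ideal.span {PowerSeries.X ^ (a i)})},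
      ∃ J ∈ {I : Ideal ↥R | Module.Finite k (↥R ⧸ I) ∧ Module.finrank k (↥R ⧸ I) = d + 1 ∧ (∀ i : Fin s, Ideal.map ((Pi.evalAlgHom k (fun _ : Fin s => PowerSeries k) i).comp R.val) I = Ideal.span {PowerSeries.X ^ ((Function.update a j (a j + 1)) i)})},
        (Subtype.val '' (J : Set ↥R)) = (fun f => Pi.mulSingle j PowerSeries.X * f) '' (Subtype.val '' (I : Set ↥R))) ∧
    (∀ J ∈ {I : Ideal ↥R | Module.Finite k (↥R ⧸ I) ∧ Module.finrank k (↥R ⧸ I) = d + 1 ∧ (∀ i : Fin s, Ideal.map ((Pi.evalAlgHom k (fun _ : Fin s => PowerSeries k) i).comp R.val) I = Ideal.span {PowerSeries.X ^ ((Function.update a j (a j + 1)) i)})},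
      ∃ I ∈ {I : Ideal ↥R | Module.Finite k (↥R ⧸ I) ∧ Module.finrank k (↥R ⧸ I) = d ∧ (∀ i : Fin s, Ideal.map ((Pi.evalAlgHom k (fun _ : Fin s => PowerSeries k) i).comp R.val) I = Ideal.span {PowerSeries.X ^ (a i)})},
        (Subtype.val '' (J : Set ↥R)) = (fun f => Pi.mulSingle j PowerSeries.X * f) '' (Subtype.val '' (I : Set ↥R))) := by
  exact Aux.XI.main k s R hfin c hc j d a hj (fun I hI a' ha' => (Groth.Agent.S15147.result k s R hfin hloc c hc I hI a' ha').2)

end Groth.Agent.S15149
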