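import Groth.Statements.S15150
import Mathlib

set_option autoImplicit false
universe u
open HilbZeta

namespace Groth.Agent.S15150

open TensorProduct

section partB

variable {κ : Type u} [Field κ] {E : Type u} [CommRing E] [Algebra κ E] [Module.Finite κ E]

/-- strict decrease of powers of a nilpotent ideal -/
lemma finrank_pow_le (N : Ideal E) (k : ℕ) (hk : N ^ k = ⊥) (hmin : ∀ i < k, N ^ i ≠ ⊥) :
    ∀ i ≤ k, Module.finrank κ ↥((N ^ i).restrictScalars κ) + i ≤ Module.finrank κ E := by
  intro i
  induction i with
  | zero =>
    intro _
    simp only [pow_zero, Ideal.one_eq_top, add_zero]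
    exact Submodule.finrank_le _
  | succ i ih =>
    intro hi
    have h1 := ih (by omega)
    have hlt : (N ^ (i + 1)).restrictScalars κ < (N ^ i).restrictScalars κ := by
      refine lt_of_le_of_ne (fun x hx => Ideal.pow_le_pow_right (Nat.le_succ i) hx) ?_
      intro heq
      have heq' : N ^ (i + 1) = N ^ i := by
        ext x
        exact ⟨fun hx => Ideal.pow_le_pow_right (Nat.le_succ i) hx,
          fun hx => by
            have : x ∈ (N ^ i).restrictScalars κ := hx
            rw [← heq] at this
            exact this⟩
      -- then N^i = N^(i+j) for all j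
      have hall : ∀ j, N ^ (i + j) = N ^ i := by
        intro j
        induction j with
        | zero => rfl
        | succ j ihj =>
          rw [← add_assoc, pow_succ, ihj, ← pow_succ, heq']
      have : N ^ i = ⊥ := by
        have := hall (k - i)
        rw [Nat.add_sub_cancel' (by omega), hk] at this
        exact this.symm
      exact hmin i (by omega) this
    have := Submodule.finrank_lt_finrank_of_lt hlt
    omega

lemma nilradical_pow_finrank_eq_bot : (nilradical E) ^ (Module.finrank κ E) = ⊥ := by
  have : IsNoetherianRing E := IsNoetherianRing.of_finite κ E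
  obtain ⟨k0, hk0⟩ := IsNoetherianRing.isNilpotent_nilradical E
  classical
  have hex : ∃ k, (nilradical E) ^ k = ⊥ := ⟨k0, hk0⟩
  let k := Nat.find hex
  have hk : (nilradical E) ^ k = ⊥ := Nat.find_spec hex
  have hmin : ∀ i < k, (nilradical E) ^ i ≠ ⊥ := fun i hi => Nat.find_min hex hi
  have h := finrank_pow_le (κ := κ) (nilradical E) k hk hmin k le_rfl
  have hle : k ≤ Module.finrank κ E := by omega
  rw [← le_bot_iff, ← hk]
  exact Ideal.pow_le_pow_right hle

end partB

lemma exists_prime_tmul_ne_zero {A : Type u} [CommRing A] [IsReduced A] {E : Type u}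
    [AddCommGroup E] [Module A E] [Module.Projective A E] (x : E) (hx : x ≠ 0) :
    ∃ p : PrimeSpectrum A, ((1 : p.asIdeal.ResidueField) ⊗ₜ[A] x) ≠ 0 := by
  obtain ⟨s, hs⟩ := Module.projective_def'.mp (inferInstance : Module.Projective A E)
  have hsx : s x ≠ 0 := by
    intro h
    apply hx
    have := LinearMap.congr_fun hs x
    simp only [LinearMap.coe_comp, Function.comp_apply, h, map_zero, LinearMap.id_coe, id_eq] at this
    exact this.symm
  obtain ⟨e, he⟩ : ∃ e, s x e ≠ 0 := by
    by_contra hcon
    push Not at hcon
    exact hsx (Finsupp.ext hcon)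
  have hnil : ¬ IsNilpotent (s x e) := fun h => he (IsReduced.eq_zero _ h)
  rw [nilpotent_iff_mem_prime] at hnil
  push Not at hnil
  obtain ⟨p, hp, hcp⟩ := hnil
  refine ⟨⟨p, hp⟩, ?_⟩
  intro h0
  let lam : E →ₗ[A] A := (Finsupp.lapply e) ∘ₗ s
  have h1 := congrArg (LinearMap.lTensor p.ResidueField lam) h0
  simp only [LinearMap.lTensor_tmul, map_zero] at h1
  have h2 := congrArg (TensorProduct.rid A p.ResidueField) h1
  simp only [TensorProduct.rid_tmul, map_zero] at h2
  have h3 : algebraMap A p.ResidueField (s x e) = 0 := by
    rw [Algebra.algebraMap_eq_smul_one]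
    exact h2
  rw [Ideal.algebraMap_residueField_eq_zero] at h3
  exact hcp h3


/-- Let A be a reduced commutative ring, S an A-algebra together with an A-algebra homomorphism π : S →
A (a section of Spec S → Spec A), with kernel m, and I an ideal of S such that S/I is a finite
projective A-module of constant rank d and m is contained in the radical of I (the finite flat
subscheme Spec S/I of degree d lies, as a set, on the section). Then m^d ⊆ I: the subscheme lies in
the (d−1)-st infinitesimal neighbourhood of the section. (The published statement is for a closed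
subscheme, flat and proper of degree d over a Noetherian base, of a family of reduced curve
singularities with a section, with no reducedness assumption on the base; over the dual numbers k[ε]
the ideal (x − ε) of k[ε][x] has quotient free of rank one and radical containing x but does not
contain x, so the base is taken reduced here, and the statement is given in its affine form, to
which the argument reduces at once; the curve hypotheses play no role and are dropped; the condition
that Spec S/I lies set-theoretically on the section, which the published argument deduces from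
properness of Z inside the germ, is a hypothesis here.) -/
theorem result (A : Type u) [CommRing A] [IsReduced A]
    (S : Type u) [CommRing S] [Algebra A S] (π : S →ₐ[A] A) (I : Ideal S) (d : ℕ)
    [Module.Finite A (S ⧸ I)] [Module.Projective A (S ⧸ I)]
    (hrank : ∀ p : PrimeSpectrum A, Module.rankAtStalk (R := A) (S ⧸ I) p = d)
    (hsupp : RingHom.ker π ≤ I.radical) :
    RingHom.ker π ^ d ≤ I := by
  intro y hy
  rw [← Ideal.Quotient.eq_zero_iff_mem]
  by_contra hne
  obtain ⟨p, hp⟩ := exists_prime_tmul_ne_zero (A := A) (E := S ⧸ I) (Ideal.Quotient.mk I y) hne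
  apply hp
  -- the fibre algebra
  have hfin : Module.finrank p.asIdeal.ResidueField (p.asIdeal.ResidueField ⊗[A] (S ⧸ I)) = d := by
    rw [← hrank p, Module.rankAtStalk_eq]
  let φ : (S ⧸ I) →ₐ[A] p.asIdeal.ResidueField ⊗[A] (S ⧸ I) := Algebra.TensorProduct.includeRight
  let ψ : S →+* p.asIdeal.ResidueField ⊗[A] (S ⧸ I) := φ.toRingHom.comp (Ideal.Quotient.mk I)
  have hle : (RingHom.ker π).map ψ ≤ nilradical (p.asIdeal.ResidueField ⊗[A] (S ⧸ I)) := by
    rw [Ideal.map_le_iff_le_comap]
    intro z hz
    obtain ⟨n, hn⟩ := hsupp hz
    rw [Ideal.mem_comap, mem_nilradical]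
    refine ⟨n, ?_⟩
    rw [← map_pow]
    show φ (Ideal.Quotient.mk I (z ^ n)) = 0
    rw [Ideal.Quotient.eq_zero_iff_mem.mpr hn, map_zero]
  have hmem : ψ y ∈ ((RingHom.ker π).map ψ) ^ d := by
    rw [← Ideal.map_pow]
    exact Ideal.mem_map_of_mem _ hy
  have hbot : ((RingHom.ker π).map ψ) ^ d = ⊥ := by
    rw [← le_bot_iff, ← nilradical_pow_finrank_eq_bot (κ := p.asIdeal.ResidueField)
      (E := p.asIdeal.ResidueField ⊗[A] (S ⧸ I)), hfin]
    exact Ideal.pow_right_mono hle d
  rw [hbot] at hmem
  exact hmem

end Groth.Agent.S15150
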