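import Groth.Statements.S15151
import Mathlib
-- import your own Groth.Agent.* helpers here

set_option autoImplicit false
universe u
open CategoryTheory AlgebraicGeometry
open HilbZeta

namespace Groth.Agent.S15151

/-- Let k be a field, and let f : X → Y and g : Y → Spec k[t] be morphisms of schemes with f
quasi-compact and with zero kernel ideal sheaf (Y is the scheme-theoretic image of f), such that the
composite X → Spec k[t] is flat. Then g is flat; in particular a k[t]-subalgebra of a flat
k[t]-algebra is flat. (The published statement has no quasi-compactness hypothesis on f and is over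
an algebraically closed field; this row assumes f quasi-compact and allows any field.) -/
theorem result (k : Type u) [Field k]
    (X Y : Scheme.{u}) (f : X ⟶ Y) (g : Y ⟶ Spec (CommRingCat.of (Polynomial k)))
    [QuasiCompact f] (hker : f.ker = ⊥) [Flat (f ≫ g)] : Flat g := by
  classical
  rw [HasRingHomProperty.iff_of_iSup_eq_top (P := @Flat) (fun V : Y.affineOpens => V)
    (iSup_affineOpens_eq_top Y)]
  intro V
  let R := CommRingCat.of (Polynomial k)
  let S := Γ(Spec R, ⊤)
  let e : S ≃+* Polynomial k := (Scheme.ΓSpecIso R).commRingCatIsoToRingEquiv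
  haveI : IsDomain S := e.toMulEquiv.isDomain (Polynomial k)
  haveI : IsPrincipalIdealRing S :=
    IsPrincipalIdealRing.of_surjective (e.symm : Polynomial k →+* S) e.symm.surjective
  change RingHom.Flat (g.appLE ⊤ V.1 le_top).hom
  set φ : S →+* Γ(Y, V.1) := (g.appLE ⊤ V.1 le_top).hom with hφ
  rw [RingHom.Flat]
  letI : Algebra S Γ(Y, V.1) := φ.toAlgebra
  suffices h : Module.IsTorsionFree S Γ(Y, V.1) by infer_instance
  -- injectivity of f.app V
  have hinj : Function.Injective (f.app V.1).hom := by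
    rw [injective_iff_map_eq_zero]
    intro s hs
    have : s ∈ f.ker.ideal V := by
      rw [Scheme.Hom.ker_apply]; exact hs
    rw [hker] at this
    simpa using this
  constructor
  intro a ha s t hst
  apply hinj
  have hst' : φ a * s = φ a * t := hst
  -- cover of f ⁻¹ V by affine opens
  have hcov : f ⁻¹ᵁ V.1 ≤ ⨆ W : {W : X.affineOpens // W.1 ≤ f ⁻¹ᵁ V.1}, W.1.1 := by
    intro x hx
    obtain ⟨W, hW, hxW, hWV⟩ := TopologicalSpace.Opens.isBasis_iff_nbhd.mp X.isBasis_affineOpens hx
    exact TopologicalSpace.Opens.mem_iSup.mpr ⟨⟨⟨W, hW⟩, hWV⟩, hxW⟩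
  refine X.sheaf.eq_of_locally_eq' (fun W : {W : X.affineOpens // W.1 ≤ f ⁻¹ᵁ V.1} => W.1.1)
    (f ⁻¹ᵁ V.1) (fun W => homOfLE W.2) hcov _ _ fun W => ?_
  have hfl : RingHom.Flat ((f ≫ g).appLE ⊤ W.1.1 le_top).hom :=
    HasRingHomProperty.appLE (P := @Flat) (f ≫ g) inferInstance ⟨⊤, isAffineOpen_top _⟩ W.1 le_top
  rw [RingHom.Flat] at hfl
  letI : Algebra S Γ(X, W.1.1) := ((f ≫ g).appLE ⊤ W.1.1 le_top).hom.toAlgebra
  have htf : Module.IsTorsionFree S Γ(X, W.1.1) := inferInstance
  have hreg := htf.isSMulRegular ha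
  apply hreg
  change ((f ≫ g).appLE ⊤ W.1.1 le_top).hom a * _ = ((f ≫ g).appLE ⊤ W.1.1 le_top).hom a * _
  have hcomp : ((f ≫ g).appLE ⊤ W.1.1 le_top).hom a
      = (X.presheaf.map (homOfLE W.2).op).hom ((f.app V.1).hom (φ a)) := by
    rw [← Scheme.Hom.appLE_comp_appLE f g ⊤ V.1 W.1.1 le_top W.2]
    rfl
  rw [hcomp]
  change (X.presheaf.map (homOfLE W.2).op).hom ((f.app V.1).hom (φ a)) *
      (X.presheaf.map (homOfLE W.2).op).hom ((f.app V.1).hom s) =
    (X.presheaf.map (homOfLE W.2).op).hom ((f.app V.1).hom (φ a)) *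
      (X.presheaf.map (homOfLE W.2).op).hom ((f.app V.1).hom t)
  rw [← map_mul, ← map_mul, ← map_mul, ← map_mul, hst']

end Groth.Agent.S15151
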