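import Groth.Statements.S15155
import Mathlib
-- import your own Groth.Agent.* helpers here

set_option autoImplicit false
set_option linter.style.haveILetI false
set_option linter.unusedSectionVars false
open CAlg

namespace Groth.Agent.S15155

open Matrix

/-- a skew-symmetric matrix over a field with `2 ≠ 0` has a square determinant -/
theorem det_skew_sq {K : Type*} [Field K] (h2 : (2 : K) ≠ 0) (c : ℕ) :
    ∀ (ι : Type) [Fintype ι] [DecidableEq ι], Fintype.card ι = c →
      ∀ M : Matrix ι ι K, Mᵀ = -M → ∃ y : K, M.det = y ^ 2 := by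
  induction c using Nat.strong_induction_on with
  | _ c ih =>
  intro ι _ _ hc M hM
  have hskew : ∀ a b, M b a = - M a b := fun a b => by
    have := congrFun (congrFun hM a) b
    simpa using this
  have hdiag : ∀ a, M a a = 0 := by
    intro a
    have h1 := hskew a a
    have h3 : (2 : K) * M a a = 0 := by linear_combination h1
    rcases mul_eq_zero.mp h3 with h | h
    · exact absurd h h2
    · exact h
  by_cases hM0 : M = 0
  · subst hM0
    rcases isEmpty_or_nonempty ι with he | hne
    · exact ⟨1, by rw [Matrix.det_isEmpty, one_pow]⟩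
    · exact ⟨0, by rw [Matrix.det_zero]; ring⟩
  · have hex : ∃ i j, M i j ≠ 0 := by
      by_contra hcon
      push Not at hcon
      exact hM0 (by ext a b; exact hcon a b)
    obtain ⟨i, j, hij⟩ := hex
    have hne : i ≠ j := fun h => hij (h ▸ hdiag i)
    let p : ι → Prop := fun x => x = i ∨ x = j
    let e : ι ≃ {x // p x} ⊕ {x // ¬ p x} := (Equiv.sumCompl p).symm
    let M' := Matrix.reindex e e M
    have hdet' : M'.det = M.det := Matrix.det_reindex_self e M
    let A := M'.toBlocks₁₁
    let B := M'.toBlocks₁₂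
    let C := M'.toBlocks₂₁
    let D := M'.toBlocks₂₂
    have hfb : Matrix.fromBlocks A B C D = M' := Matrix.fromBlocks_toBlocks M'
    have hA : ∀ a b, A a b = M a.1 b.1 := fun a b => rfl
    have hB : ∀ a b, B a b = M a.1 b.1 := fun a b => rfl
    have hC : ∀ a b, C a b = M a.1 b.1 := fun a b => rfl
    have hD : ∀ a b, D a b = M a.1 b.1 := fun a b => rfl
    -- determinant of A
    let f2 : Fin 2 → {x // p x} := ![⟨i, Or.inl rfl⟩, ⟨j, Or.inr rfl⟩]
    have hf2 : Function.Bijective f2 := by
      constructor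
      · intro a b hab
        fin_cases a <;> fin_cases b
        · rfl
        · exact absurd (congrArg Subtype.val hab) hne
        · exact absurd (congrArg Subtype.val hab).symm hne
        · rfl
      · rintro ⟨x, hx | hx⟩
        · exact ⟨0, Subtype.ext hx.symm⟩
        · exact ⟨1, Subtype.ext hx.symm⟩
    let e2 : Fin 2 ≃ {x // p x} := Equiv.ofBijective f2 hf2
    have hdetA : A.det = (M i j) ^ 2 := by
      rw [← Matrix.det_submatrix_equiv_self e2 A, Matrix.det_fin_two]
      have h00 : (A.submatrix e2 e2) 0 0 = M i i := rfl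
      have h11 : (A.submatrix e2 e2) 1 1 = M j j := rfl
      have h01 : (A.submatrix e2 e2) 0 1 = M i j := rfl
      have h10 : (A.submatrix e2 e2) 1 0 = M j i := rfl
      rw [h00, h11, h01, h10, hdiag, hdiag, hskew i j]
      ring
    have hdetA0 : A.det ≠ 0 := by rw [hdetA]; exact pow_ne_zero _ hij
    have hAunit : IsUnit A.det := IsUnit.mk0 _ hdetA0
    haveI : Invertible A := Matrix.invertibleOfIsUnitDet A hAunit
    have hSchur : M'.det = A.det * (D - C * ⅟A * B).det := by
      rw [← hfb]; exact Matrix.det_fromBlocks₁₁ A B C D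
    -- transposes
    have hAt : Aᵀ = -A := by ext a b; simp only [Matrix.transpose_apply, Matrix.neg_apply, hA]; exact hskew _ _
    have hDt : Dᵀ = -D := by ext a b; simp only [Matrix.transpose_apply, Matrix.neg_apply, hD]; exact hskew _ _
    have hBt : Bᵀ = -C := by ext a b; simp only [Matrix.transpose_apply, Matrix.neg_apply, hB, hC]; exact hskew _ _
    have hCt : Cᵀ = -B := by ext a b; simp only [Matrix.transpose_apply, Matrix.neg_apply, hB, hC]; exact hskew _ _
    have hAinv : (⅟A)ᵀ = -⅟A := by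
      have h1 : A * ⅟A = 1 := mul_invOf_self A
      have h2' : (⅟A)ᵀ * Aᵀ = 1 := by rw [← Matrix.transpose_mul, h1, Matrix.transpose_one]
      rw [hAt] at h2'
      have h3 : (-(⅟A)ᵀ) * A = 1 := by rw [Matrix.neg_mul, ← Matrix.mul_neg]; exact h2'
      have h4 : -(⅟A)ᵀ = ⅟A := by
        have := Matrix.inv_eq_left_inv h3
        rw [← Matrix.invOf_eq_nonsing_inv] at this
        exact this.symm
      calc (⅟A)ᵀ = -(-(⅟A)ᵀ) := (neg_neg _).symm
        _ = -⅟A := by rw [h4]
    have hS : (D - C * ⅟A * B)ᵀ = -(D - C * ⅟A * B) := by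
      rw [Matrix.transpose_sub, Matrix.transpose_mul, Matrix.transpose_mul, hDt, hBt, hCt, hAinv]
      simp only [Matrix.neg_mul, Matrix.mul_neg, neg_neg, Matrix.mul_assoc]
      abel
    have hcard : Fintype.card {x // ¬ p x} < c := by
      rw [← hc]
      exact Fintype.card_subtype_lt (x := i) (fun h => h (Or.inl rfl))
    obtain ⟨y, hy⟩ := ih _ hcard {x // ¬ p x} rfl _ hS
    refine ⟨M i j * y, ?_⟩
    rw [← hdet', hSchur, hdetA, hy]
    ring

theorem det_skew_sq_icl {R : Type} [CommRing R] [IsDomain R] [IsIntegrallyClosed R]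
    (h2 : (2 : R) ≠ 0) {ι : Type} [Fintype ι] [DecidableEq ι] (M : Matrix ι ι R) (hM : Mᵀ = -M) :
    ∃ P : R, M.det = P ^ 2 := by
  let K := FractionRing R
  have h2K : (2 : K) ≠ 0 := by
    have h : (algebraMap R K) 2 ≠ 0 := fun h =>
      h2 ((IsFractionRing.injective R K) (by rw [h, map_zero]))
    rwa [map_ofNat] at h
  have hMK : ((algebraMap R K).mapMatrix M)ᵀ = -((algebraMap R K).mapMatrix M) := by
    rw [← map_neg, ← hM]
    ext a b
    simp
  obtain ⟨y, hy⟩ := det_skew_sq h2K _ ι rfl _ hMK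
  rw [← RingHom.map_det] at hy
  have hint : IsIntegral R y := by
    apply IsIntegral.of_pow (n := 2) (by norm_num)
    rw [← hy]; exact isIntegral_algebraMap
  obtain ⟨P, rfl⟩ := IsIntegrallyClosed.algebraMap_eq_of_integral hint
  refine ⟨P, (IsFractionRing.injective R K) ?_⟩
  rw [hy, map_pow]

abbrev ι (m : ℕ) := Fin m ⊕ Fin m
abbrev σ (m : ℕ) := ι m × ι m
abbrev R (m : ℕ) := MvPolynomial (σ m) (Polynomial ℂ)

/-- part 1, as a lemma -/
theorem part1 (m : ℕ) :
    ∃ P : MvPolynomial ((Fin m ⊕ Fin m) × (Fin m ⊕ Fin m)) (Polynomial ℂ),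
      ∀ A : Matrix (Fin m ⊕ Fin m) (Fin m ⊕ Fin m) ℂ,
        A.transpose * Matrix.fromBlocks 0 1 (-1) 0 = Matrix.fromBlocks 0 1 (-1) 0 * A →
        A.charpoly = (MvPolynomial.eval (fun ij => Polynomial.C (A ij.1 ij.2)) P) ^ 2 := by
  classical
  let Xg : Matrix (ι m) (ι m) (R m) := fun a b => MvPolynomial.X (a, b)
  let Jg : Matrix (ι m) (ι m) (R m) := Matrix.fromBlocks 0 1 (-1) 0
  let N : Matrix (ι m) (ι m) (R m) := Jg * Xg
  let h : R m := MvPolynomial.C (Polynomial.C (1/2 : ℂ))
  let t : R m := MvPolynomial.C Polynomial.X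
  let T : Matrix (ι m) (ι m) (R m) := t • Jg - h • (N - Nᵀ)
  have hJt : Jgᵀ = -Jg := by
    simp only [Jg, Matrix.fromBlocks_transpose, Matrix.fromBlocks_neg, Matrix.transpose_zero,
      Matrix.transpose_one, Matrix.transpose_neg, neg_zero, neg_neg]
  have hT : Tᵀ = -T := by
    simp only [T, Matrix.transpose_sub, Matrix.transpose_smul, hJt, Matrix.transpose_transpose]
    rw [smul_neg, neg_sub, smul_sub, smul_sub]
    abel
  have h2R : (2 : R m) ≠ 0 := two_ne_zero
  obtain ⟨Pf, hPf⟩ := det_skew_sq_icl h2R T hT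
  let J : Matrix (ι m) (ι m) ℂ := Matrix.fromBlocks 0 1 (-1) 0
  have hJt' : Jᵀ = -J := by
    simp only [J, Matrix.fromBlocks_transpose, Matrix.fromBlocks_neg, Matrix.transpose_zero,
      Matrix.transpose_one, Matrix.transpose_neg, neg_zero, neg_neg]
  have hJJ : J * J = -1 := by
    simp only [J, Matrix.fromBlocks_multiply, ← Matrix.fromBlocks_one, Matrix.fromBlocks_neg]
    simp
  have hδ : J.det ≠ 0 := by
    intro h0
    have h1 := congrArg Matrix.det hJJ
    rw [Matrix.det_mul, h0, zero_mul, Matrix.det_neg, Matrix.det_one, mul_one] at h1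
    exact pow_ne_zero _ (by norm_num) h1.symm
  obtain ⟨z, hz⟩ := IsAlgClosed.exists_pow_nat_eq (J.det)⁻¹ (n := 2) (by norm_num)
  refine ⟨MvPolynomial.C (Polynomial.C z) * Pf, ?_⟩
  intro A hA
  set φ : R m →+* Polynomial ℂ := MvPolynomial.eval (fun ij : σ m => Polynomial.C (A ij.1 ij.2)) with hφ
  have hφJ : ∀ a b, φ (Jg a b) = Polynomial.C (J a b) := by
    intro a b
    rcases a with a | a <;> rcases b with b | b <;>
      simp [Jg, J, Matrix.one_apply, apply_ite]
  have hφN : ∀ a b, φ (N a b) = Polynomial.C ((J * A) a b) := by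
    intro a b
    simp only [N, Matrix.mul_apply, map_sum, map_mul, hφJ]
    refine Finset.sum_congr rfl (fun c _ => ?_)
    rw [hφ, MvPolynomial.eval_X]
  have hJA : (J * A)ᵀ = -(J * A) := by
    rw [Matrix.transpose_mul, hJt', Matrix.mul_neg]
    exact congrArg Neg.neg hA
  have hJA' : ∀ a b, (J * A) b a = -(J * A) a b := fun a b => by
    have := congrFun (congrFun hJA a) b
    simpa using this
  have hTφ : φ.mapMatrix T = (J.map Polynomial.C) * Matrix.charmatrix A := by
    ext a b
    have hL : φ.mapMatrix T a b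
        = Polynomial.X * Polynomial.C (J a b) - Polynomial.C ((J * A) a b) := by
      have h1 : T a b = t * Jg a b - h * (N a b - N b a) := by
        simp [T, Matrix.sub_apply, Matrix.smul_apply, Matrix.transpose_apply, smul_eq_mul]
      rw [RingHom.mapMatrix_apply, Matrix.map_apply, h1, map_sub, map_mul, map_mul, map_sub,
        hφJ, hφN, hφN, hJA' a b]
      have ht : φ t = Polynomial.X := by rw [hφ]; exact MvPolynomial.eval_C _
      have hh : φ h = Polynomial.C (1/2 : ℂ) := by rw [hφ]; exact MvPolynomial.eval_C _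
      rw [ht, hh, map_neg, sub_neg_eq_add, ← map_add, ← map_mul]
      congr 2
      ring
    have hR : ((J.map Polynomial.C) * Matrix.charmatrix A) a b
        = Polynomial.X * Polynomial.C (J a b) - Polynomial.C ((J * A) a b) := by
      have h2 : Matrix.charmatrix A = Matrix.diagonal (fun _ => (Polynomial.X : Polynomial ℂ))
          - A.map Polynomial.C := by
        ext i j
        rw [Matrix.charmatrix_apply]
        simp
      rw [h2, Matrix.mul_sub, Matrix.sub_apply, Matrix.mul_diagonal, Matrix.map_apply,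
        ← Matrix.map_mul, Matrix.map_apply, mul_comm]
    rw [hL, hR]
  have hdet : (φ Pf) ^ 2 = Polynomial.C J.det * A.charpoly := by
    rw [← map_pow, ← hPf, RingHom.map_det, hTφ, Matrix.det_mul]
    congr 1
    have := (RingHom.map_det Polynomial.C J).symm
    simpa [RingHom.mapMatrix_apply] using this
  rw [map_mul, mul_pow, hdet]
  have hz' : φ (MvPolynomial.C (Polynomial.C z)) = Polynomial.C z := by
    rw [hφ]; exact MvPolynomial.eval_C _
  rw [hz', ← map_pow, hz, ← mul_assoc, ← map_mul, inv_mul_cancel₀ hδ, map_one, one_mul]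


/-- Let J be the 2m × 2m block matrix with blocks 0, I_m in the first row and −I_m, 0 in the second,
over the complex numbers. On the set of complex 2m × 2m matrices A with ᵗA · J = J · A (equivalently
ᵗA = J A J⁻¹, J being invertible), the characteristic polynomial is the square of a single
polynomial in the entries of A with coefficients in ℂ[X], and the determinant is the square of a
single polynomial in the entries of A. -/
theorem result (m : ℕ) :
    (∃ P : MvPolynomial ((Fin m ⊕ Fin m) × (Fin m ⊕ Fin m)) (Polynomial ℂ),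
      ∀ A : Matrix (Fin m ⊕ Fin m) (Fin m ⊕ Fin m) ℂ,
        A.transpose * Matrix.fromBlocks 0 1 (-1) 0 = Matrix.fromBlocks 0 1 (-1) 0 * A →
        A.charpoly = (MvPolynomial.eval (fun ij => Polynomial.C (A ij.1 ij.2)) P) ^ 2) ∧
    (∃ Q : MvPolynomial ((Fin m ⊕ Fin m) × (Fin m ⊕ Fin m)) ℂ,
      ∀ A : Matrix (Fin m ⊕ Fin m) (Fin m ⊕ Fin m) ℂ,
        A.transpose * Matrix.fromBlocks 0 1 (-1) 0 = Matrix.fromBlocks 0 1 (-1) 0 * A →
        A.det = (MvPolynomial.eval (fun ij => A ij.1 ij.2) Q) ^ 2) := by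
  classical
  obtain ⟨P, hP⟩ := part1 m
  refine ⟨⟨P, hP⟩, ?_⟩
  refine ⟨MvPolynomial.map (Polynomial.evalRingHom (0 : ℂ)) P, ?_⟩
  intro A hA
  have h1 := hP A hA
  have h2 : A.det = (Polynomial.evalRingHom (0 : ℂ)) A.charpoly := by
    rw [Matrix.det_eq_sign_charpoly_coeff, Polynomial.coeff_zero_eq_eval_zero]
    simp [Fintype.card_sum, ← two_mul, pow_mul]
  rw [h2, h1, map_pow]
  congr 1
  rw [MvPolynomial.eval_map]
  rw [MvPolynomial.eval, MvPolynomial.eval₂Hom]
  simp only [RingHom.coe_mk, MonoidHom.coe_mk, OneHom.coe_mk]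
  rw [MvPolynomial.eval₂_comp_left (Polynomial.evalRingHom (0 : ℂ))]
  congr 1
  ext x; simp

end Groth.Agent.S15155
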