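import Groth.Statements.S15159
import Mathlib
-- import your own Groth.Agent.* helpers here

set_option autoImplicit false
set_option linter.style.haveILetI false
set_option linter.unusedSectionVars false
open CAlg

namespace Groth.Agent.S15159
open Module

theorem count_lt (t : ℤ) (B : ℕ) :
    ∑ b ∈ Finset.range B, (if (b : ℤ) < t then (1 : ℤ) else 0) = min (B : ℤ) (max t 0) := by
  induction B with
  | zero => simp
  | succ B ih =>
    rw [Finset.sum_range_succ, ih]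
    split_ifs with h <;> push_cast <;> omega

theorem count_lt' (t : ℤ) (B : ℕ) (hB : t ≤ B) :
    ∑ b ∈ Finset.range B, (if (b : ℤ) < t then (1 : ℤ) else 0) = max t 0 := by
  rw [count_lt]; omega


theorem exists_bound {ι : Type} [Fintype ι] (m : ι → ℤ) : ∃ B : ℕ, ∀ i, m i < B ∧ - m i < B := by
  refine ⟨(Finset.univ.sup fun i => (m i).natAbs) + 1, fun i => ?_⟩
  have := Finset.le_sup (f := fun i => (m i).natAbs) (Finset.mem_univ i)
  constructor <;> push_cast <;> omega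

theorem sum_count {ι : Type} [Fintype ι] (n : ι → ℕ) (B : ℕ) (c : ι → ℕ → Prop)
    [∀ i b, Decidable (c i b)] (t : ι → ℤ) (ht : ∀ i, t i ≤ B)
    (hc : ∀ i b, c i b ↔ (b : ℤ) < t i) :
    ∑ b ∈ Finset.range B, ∑ i, (if c i b then (n i : ℤ) else 0) =
      ∑ i, (n i : ℤ) * max (t i) 0 := by
  rw [Finset.sum_comm]
  apply Finset.sum_congr rfl
  intro i _
  rw [← count_lt' (t i) B (ht i), Finset.mul_sum]
  apply Finset.sum_congr rfl
  intro b _
  by_cases hb : c i b
  · rw [if_pos hb, if_pos ((hc i b).mp hb), mul_one]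
  · rw [if_neg hb, if_neg (fun h => hb ((hc i b).mpr h)), mul_zero]

theorem layer1 {ι : Type} [Fintype ι] (n : ι → ℕ) (m : ι → ℤ)
    (h0 : ∑ i, m i * (n i : ℤ) = 0)
    (h : ∀ b : ℕ, ∑ i, (if m i ≤ -(b : ℤ) then (n i : ℤ) else 0) ≤
        ∑ i, (if (b : ℤ) < m i then (n i : ℤ) else 0)) : ∀ i, n i = 0 := by
  classical
  obtain ⟨B, hB⟩ := exists_bound m
  have hsum := Finset.sum_le_sum (s := Finset.range B) (fun b _ => h b)
  rw [sum_count n B (fun i b => m i ≤ -(b : ℤ)) (fun i => 1 - m i)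
      (fun i => by have := hB i; omega) (fun i b => by constructor <;> intro h <;> omega),
    sum_count n B (fun i b => (b : ℤ) < m i) (fun i => m i)
      (fun i => by have := hB i; omega) (fun i b => Iff.rfl)] at hsum
  have e3 : ∀ i, (n i : ℤ) * max (m i) 0 - (n i : ℤ) * max (1 - m i) 0 =
      m i * n i - (if m i ≤ 0 then (n i : ℤ) else 0) := by
    intro i
    by_cases hm : m i ≤ 0
    · rw [if_pos hm, max_eq_right hm, max_eq_left (by omega)]; ring
    · rw [if_neg hm, max_eq_left (by omega), max_eq_right (by omega)]; ring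
  have h4 : ∑ i, (if m i ≤ 0 then (n i : ℤ) else 0) ≤ 0 := by
    have : ∑ i, ((n i : ℤ) * max (m i) 0 - (n i : ℤ) * max (1 - m i) 0) =
        - ∑ i, (if m i ≤ 0 then (n i : ℤ) else 0) := by
      simp only [e3, Finset.sum_sub_distrib, h0, zero_sub]
    rw [Finset.sum_sub_distrib] at this
    linarith
  have h5 : ∀ i, m i ≤ 0 → n i = 0 := by
    intro i hi
    have hnn : ∀ j ∈ Finset.univ, 0 ≤ (if m j ≤ 0 then (n j : ℤ) else 0) := by
      intro j _; split_ifs <;> positivity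
    have := Finset.single_le_sum hnn (Finset.mem_univ i)
    rw [if_pos hi] at this
    have : (n i : ℤ) ≤ 0 := this.trans h4
    omega
  have h6 : ∀ i, 0 ≤ m i * (n i : ℤ) := by
    intro i
    by_cases hi : m i ≤ 0
    · rw [h5 i hi]; simp
    · have : 0 ≤ m i := by omega
      positivity
  intro i
  by_cases hi : m i ≤ 0
  · exact h5 i hi
  · have := (Finset.sum_eq_zero_iff_of_nonneg (fun j _ => h6 j)).mp h0 i (Finset.mem_univ i)
    rcases mul_eq_zero.mp this with h | h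
    · omega
    · exact_mod_cast h

theorem layer2 {ι : Type} [Fintype ι] (n : ι → ℕ) (m : ι → ℤ)
    (h0 : ∑ i, m i * (n i : ℤ) = 0)
    (h : ∀ b : ℕ, ∑ i, (if m i ≤ -((b : ℤ) + 1) then (n i : ℤ) else 0) <
        ∑ i, (if (b : ℤ) + 1 ≤ m i then (n i : ℤ) else 0) ∨
        ∑ i, (if m i ≤ -((b : ℤ) + 1) then (n i : ℤ) else 0) = 0) :
    ∀ i, m i ≠ 0 → n i = 0 := by
  classical
  obtain ⟨B, hB⟩ := exists_bound m
  have hCnn : ∀ b : ℕ, 0 ≤ ∑ i, (if (b : ℤ) + 1 ≤ m i then (n i : ℤ) else 0) := by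
    intro b
    apply Finset.sum_nonneg
    intro j _; split_ifs <;> positivity
  have hle : ∀ b : ℕ, ∑ i, (if m i ≤ -((b : ℤ) + 1) then (n i : ℤ) else 0) ≤
      ∑ i, (if (b : ℤ) + 1 ≤ m i then (n i : ℤ) else 0) := by
    intro b
    rcases h b with h | h
    · exact h.le
    · rw [h]; exact hCnn b
  have hA := sum_count n B (fun i b => m i ≤ -((b : ℤ) + 1)) (fun i => - m i)
      (fun i => by have := hB i; omega) (fun i b => by constructor <;> intro h <;> omega)
  have hC := sum_count n B (fun i b => (b : ℤ) + 1 ≤ m i) (fun i => m i)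
      (fun i => by have := hB i; omega) (fun i b => by constructor <;> intro h <;> omega)
  have e3 : ∀ i, (n i : ℤ) * max (m i) 0 - (n i : ℤ) * max (- m i) 0 = m i * n i := by
    intro i
    by_cases hm : m i ≤ 0
    · rw [max_eq_right hm, max_eq_left (by omega)]; ring
    · rw [max_eq_left (by omega), max_eq_right (by omega)]; ring
  have htot : ∑ b ∈ Finset.range B, (∑ i, (if (b : ℤ) + 1 ≤ m i then (n i : ℤ) else 0) -
      ∑ i, (if m i ≤ -((b : ℤ) + 1) then (n i : ℤ) else 0)) = 0 := by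
    rw [Finset.sum_sub_distrib, hA, hC, ← Finset.sum_sub_distrib]
    simp only [e3, h0]
  have heach := (Finset.sum_eq_zero_iff_of_nonneg (fun b _ => sub_nonneg.mpr (hle b))).mp htot
  have hA0 : ∀ b ∈ Finset.range B,
      ∑ i, (if m i ≤ -((b : ℤ) + 1) then (n i : ℤ) else 0) = 0 := by
    intro b hb
    have := heach b hb
    rcases h b with h | h
    · omega
    · exact h
  have hC0 : ∀ b ∈ Finset.range B,
      ∑ i, (if (b : ℤ) + 1 ≤ m i then (n i : ℤ) else 0) = 0 := by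
    intro b hb
    have := heach b hb
    have := hA0 b hb
    omega
  intro i hi
  have hBi := hB i
  by_cases hpos : 0 < m i
  · have hb : (m i).toNat - 1 ∈ Finset.range B := by
      rw [Finset.mem_range]; omega
    have hnn : ∀ j ∈ Finset.univ,
        0 ≤ (if (((m i).toNat - 1 : ℕ) : ℤ) + 1 ≤ m j then (n j : ℤ) else 0) := by
      intro j _; split_ifs <;> positivity
    have := Finset.single_le_sum hnn (Finset.mem_univ i)
    rw [hC0 _ hb, if_pos (by omega)] at this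
    omega
  · have hb : (- m i).toNat - 1 ∈ Finset.range B := by
      rw [Finset.mem_range]; omega
    have hnn : ∀ j ∈ Finset.univ,
        0 ≤ (if m j ≤ -((((- m i).toNat - 1 : ℕ) : ℤ) + 1) then (n j : ℤ) else 0) := by
      intro j _; split_ifs <;> positivity
    have := Finset.single_le_sum hnn (Finset.mem_univ i)
    rw [hA0 _ hb, if_pos (by omega)] at this
    omega


section
variable {W : Type} [AddCommGroup W] [Module ℂ W] {H : Type} [AddCommGroup H] [Module ℂ H]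
  [FiniteDimensional ℂ H] (q : H →ₗ[ℂ] H →ₗ[ℂ] W)

def perp (V : Submodule ℂ H) : Submodule ℂ H :=
  ⨅ (y : H) (_ : y ∈ V), LinearMap.ker (q.flip y)

theorem mem_perp (V : Submodule ℂ H) (x : H) : x ∈ perp q V ↔ ∀ y ∈ V, q x y = 0 := by
  simp [perp, Submodule.mem_iInf, LinearMap.mem_ker, LinearMap.flip_apply]

theorem biSup_le_perp {ι : Type} (Hs : ι → Submodule ℂ H) (P Q : ι → Prop)
    (hZ : ∀ i j, P i → Q j → ∀ x ∈ Hs j, ∀ y ∈ Hs i, q x y = 0) :
    (⨆ j, ⨆ (_ : Q j), Hs j) ≤ perp q (⨆ i, ⨆ (_ : P i), Hs i) := by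
  apply iSup₂_le
  intro j hj x hx
  rw [mem_perp]
  intro y hy
  have : (⨆ i, ⨆ (_ : P i), Hs i) ≤ LinearMap.ker (q x) := by
    apply iSup₂_le
    intro i hi y hy
    exact hZ i j hi hj x hx y hy
  exact this hy

theorem finrank_biSup {ι : Type} [Fintype ι] [DecidableEq ι] (Hs : ι → Submodule ℂ H)
    (hint : DirectSum.IsInternal Hs) (P : ι → Prop) [DecidablePred P] :
    finrank ℂ ↥(⨆ i, ⨆ (_ : P i), Hs i) = ∑ i, if P i then finrank ℂ (Hs i) else 0 := by
  have h_ind : iSupIndep (fun i : {i | P i} => Hs i) :=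
    hint.submodule_iSupIndep.comp Subtype.val_injective
  have hI := DirectSum.isInternal_biSup_submodule_of_iSupIndep {i | P i} h_ind
  haveI : Fintype {i | P i} := inferInstanceAs (Fintype {x // P x})
  let e := LinearEquiv.ofBijective (DirectSum.coeLinearMap _) hI
  have h1 := e.finrank_eq
  rw [Module.finrank_directSum] at h1
  have h2 : ∀ i : {i | P i}, finrank ℂ ↥((Hs i).comap (⨆ i ∈ {i | P i}, Hs i).subtype) =
      finrank ℂ (Hs i) := by
    intro i
    exact (Submodule.comapSubtypeEquivOfLe (le_biSup Hs i.2)).finrank_eq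
  simp only [h2] at h1
  rw [← Finset.sum_filter, Finset.sum_subtype (Finset.univ.filter P) (p := P) (by simp)]
  exact h1.symm

theorem finrank_eq_sum {ι : Type} [Fintype ι] [DecidableEq ι] (Hs : ι → Submodule ℂ H)
    (hint : DirectSum.IsInternal Hs) : finrank ℂ H = ∑ i, finrank ℂ (Hs i) := by
  have h := finrank_biSup Hs hint (fun _ => True)
  simp only [if_true] at h
  have e : (⨆ i, ⨆ (_ : True), Hs i) = ⊤ := by
    simp only [iSup_true]
    exact hint.submodule_iSup_eq_top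
  have h2 := (LinearEquiv.ofEq _ _ e).finrank_eq
  rw [finrank_top] at h2
  rw [← h2, h]

theorem part1_mp
    (hss : ∀ V : Submodule ℂ H, V ≠ ⊥ → (∀ x ∈ V, ∀ y ∈ V, q x y = 0) →
        finrank ℂ V + finrank ℂ ↥(perp q V) ≤ finrank ℂ H)
    (ι : Type) [Fintype ι] [DecidableEq ι] (Hs : ι → Submodule ℂ H) (m : ι → ℤ)
    (hint : DirectSum.IsInternal Hs) (h0 : (∑ i, m i * (finrank ℂ (Hs i) : ℤ)) = 0)
    (hex : ∃ i, m i ≠ 0 ∧ Hs i ≠ ⊥) :
    ∃ i j, (∃ x ∈ Hs i, ∃ y ∈ Hs j, q x y ≠ 0) ∧ m i + m j ≤ 0 := by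
  classical
  by_contra hcon
  have hZ : ∀ i j, m i + m j ≤ 0 → ∀ x ∈ Hs i, ∀ y ∈ Hs j, q x y = 0 := by
    intro i j hij x hx y hy
    by_contra hne
    exact hcon ⟨i, j, ⟨x, hx, y, hy, hne⟩, hij⟩
  have hall := layer1 (fun i => finrank ℂ (Hs i)) m h0 ?_
  · obtain ⟨i, _, hi⟩ := hex
    exact hi (Submodule.finrank_eq_zero.mp (hall i))
  · intro b
    have hRnn : 0 ≤ ∑ i, (if (b : ℤ) < m i then ((finrank ℂ (Hs i) : ℕ) : ℤ) else 0) := by
      apply Finset.sum_nonneg
      intro j _; split_ifs <;> positivity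
    have hVU := biSup_le_perp q Hs (fun i => m i ≤ -(b : ℤ)) (fun j => m j ≤ (b : ℤ))
      (fun i j hi hj x hx y hy => hZ j i (by omega) x hx y hy)
    have hVV := biSup_le_perp q Hs (fun i => m i ≤ -(b : ℤ)) (fun j => m j ≤ -(b : ℤ))
      (fun i j hi hj x hx y hy => hZ j i (by omega) x hx y hy)
    have fV := finrank_biSup Hs hint (fun i => m i ≤ -(b : ℤ))
    have fU := finrank_biSup Hs hint (fun j => m j ≤ (b : ℤ))
    have fH := finrank_eq_sum Hs hint
    have hsplit : ∑ i, (if m i ≤ (b : ℤ) then ((finrank ℂ (Hs i) : ℕ) : ℤ) else 0) +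
        ∑ i, (if (b : ℤ) < m i then ((finrank ℂ (Hs i) : ℕ) : ℤ) else 0) =
        ∑ i, ((finrank ℂ (Hs i) : ℕ) : ℤ) := by
      rw [← Finset.sum_add_distrib]
      apply Finset.sum_congr rfl
      intro i _
      by_cases h : m i ≤ (b : ℤ)
      · rw [if_pos h, if_neg (by omega), add_zero]
      · rw [if_neg h, if_pos (by omega), zero_add]
    by_cases hVbot : (⨆ i, ⨆ (_ : m i ≤ -(b : ℤ)), Hs i) = ⊥
    · rw [hVbot, finrank_bot] at fV
      have : ((∑ i, if m i ≤ -(b : ℤ) then finrank ℂ (Hs i) else 0 : ℕ) : ℤ) = 0 := by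
        rw [← fV]; rfl
      push_cast at this
      rw [this]
      exact hRnn
    · have h1 := hss _ hVbot (fun x hx y hy => (mem_perp q _ x).mp (hVV hx) y hy)
      have h2 := Submodule.finrank_mono hVU
      have key : (∑ i, if m i ≤ -(b : ℤ) then finrank ℂ (Hs i) else 0) +
          (∑ i, if m i ≤ (b : ℤ) then finrank ℂ (Hs i) else 0) ≤ ∑ i, finrank ℂ (Hs i) := by
        rw [← fV, ← fU, ← fH]; omega
      have key' := (Nat.cast_le (α := ℤ)).mpr key
      push_cast at key'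
      linarith

theorem part2_mp
    (hss : ∀ V : Submodule ℂ H, V ≠ ⊥ → (∀ x ∈ V, ∀ y ∈ V, q x y = 0) →
        finrank ℂ V + finrank ℂ ↥(perp q V) < finrank ℂ H)
    (ι : Type) [Fintype ι] [DecidableEq ι] (Hs : ι → Submodule ℂ H) (m : ι → ℤ)
    (hint : DirectSum.IsInternal Hs) (h0 : (∑ i, m i * (finrank ℂ (Hs i) : ℤ)) = 0)
    (hex : ∃ i, m i ≠ 0 ∧ Hs i ≠ ⊥) :
    ∃ i j, (∃ x ∈ Hs i, ∃ y ∈ Hs j, q x y ≠ 0) ∧ m i + m j < 0 := by
  classical
  by_contra hcon
  have hZ : ∀ i j, m i + m j < 0 → ∀ x ∈ Hs i, ∀ y ∈ Hs j, q x y = 0 := by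
    intro i j hij x hx y hy
    by_contra hne
    exact hcon ⟨i, j, ⟨x, hx, y, hy, hne⟩, hij⟩
  have hall := layer2 (fun i => finrank ℂ (Hs i)) m h0 ?_
  · obtain ⟨i, hmi, hi⟩ := hex
    exact hi (Submodule.finrank_eq_zero.mp (hall i hmi))
  · intro b
    have hVU := biSup_le_perp q Hs (fun i => m i ≤ -((b : ℤ) + 1)) (fun j => m j < (b : ℤ) + 1)
      (fun i j hi hj x hx y hy => hZ j i (by omega) x hx y hy)
    have hVV := biSup_le_perp q Hs (fun i => m i ≤ -((b : ℤ) + 1)) (fun j => m j ≤ -((b : ℤ) + 1))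
      (fun i j hi hj x hx y hy => hZ j i (by omega) x hx y hy)
    have fV := finrank_biSup Hs hint (fun i => m i ≤ -((b : ℤ) + 1))
    have fU := finrank_biSup Hs hint (fun j => m j < (b : ℤ) + 1)
    have fH := finrank_eq_sum Hs hint
    have hsplit : ∑ i, (if m i < (b : ℤ) + 1 then ((finrank ℂ (Hs i) : ℕ) : ℤ) else 0) +
        ∑ i, (if (b : ℤ) + 1 ≤ m i then ((finrank ℂ (Hs i) : ℕ) : ℤ) else 0) =
        ∑ i, ((finrank ℂ (Hs i) : ℕ) : ℤ) := by
      rw [← Finset.sum_add_distrib]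
      apply Finset.sum_congr rfl
      intro i _
      by_cases h : m i < (b : ℤ) + 1
      · rw [if_pos h, if_neg (by omega), add_zero]
      · rw [if_neg h, if_pos (by omega), zero_add]
    by_cases hVbot : (⨆ i, ⨆ (_ : m i ≤ -((b : ℤ) + 1)), Hs i) = ⊥
    · right
      rw [hVbot, finrank_bot] at fV
      have : ((∑ i, if m i ≤ -((b : ℤ) + 1) then finrank ℂ (Hs i) else 0 : ℕ) : ℤ) = 0 := by
        rw [← fV]; rfl
      push_cast at this
      exact this
    · left
      have h1 := hss _ hVbot (fun x hx y hy => (mem_perp q _ x).mp (hVV hx) y hy)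
      have h2 := Submodule.finrank_mono hVU
      have key : (∑ i, if m i ≤ -((b : ℤ) + 1) then finrank ℂ (Hs i) else 0) +
          (∑ i, if m i < (b : ℤ) + 1 then finrank ℂ (Hs i) else 0) < ∑ i, finrank ℂ (Hs i) := by
        rw [← fV, ← fU, ← fH]; omega
      have key' := (Nat.cast_lt (α := ℤ)).mpr key
      push_cast at key'
      linarith

theorem decomp (s : W →ₗ[ℂ] W) (hq : ∀ x y : H, q x y = s (q y x)) (hq0 : q ≠ 0)
    (V : Submodule ℂ H) (hiso : ∀ x ∈ V, ∀ y ∈ V, q x y = 0) :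
    ∃ (V' V'' : Submodule ℂ H), DirectSum.IsInternal ![V, V', V''] ∧
      finrank ℂ V + finrank ℂ V' = finrank ℂ ↥(perp q V) ∧
      finrank ℂ ↥(perp q V) + finrank ℂ V'' = finrank ℂ H ∧
      (∀ x ∈ V', ∀ y ∈ V, q x y = 0) ∧ (∀ x ∈ V, ∀ y ∈ V', q x y = 0) ∧
      finrank ℂ V < finrank ℂ H := by
  have hVP : V ≤ perp q V := fun x hx => (mem_perp q V x).mpr (fun y hy => hiso x hx y hy)
  obtain ⟨C, hC⟩ := Submodule.exists_isCompl V
  obtain ⟨V'', hV''⟩ := Submodule.exists_isCompl (perp q V)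
  have hd1 : Disjoint V (C ⊓ perp q V) := hC.disjoint.mono_right inf_le_left
  have hsup : V ⊔ (C ⊓ perp q V) = perp q V := by
    rw [← sup_inf_assoc_of_le C hVP, hC.sup_eq_top, top_inf_eq]
  have hz10 : ∀ x ∈ C ⊓ perp q V, ∀ y ∈ V, q x y = 0 := fun x hx y hy =>
    (mem_perp q V x).mp hx.2 y hy
  refine ⟨C ⊓ perp q V, V'', ?_, ?_, ?_, hz10, ?_, ?_⟩
  · apply DirectSum.isInternal_submodule_of_iSupIndep_of_iSup_eq_top
    · rw [iSupIndep_def]
      have hd3 : Disjoint (V ⊔ (C ⊓ perp q V)) V'' := by rw [hsup]; exact hV''.disjoint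
      have hd3' : Disjoint ((C ⊓ perp q V) ⊔ V) V'' := by rw [sup_comm]; exact hd3
      intro i
      have hi3 : i = 0 ∨ i = 1 ∨ i = 2 := by fin_cases i <;> simp
      rcases hi3 with rfl | rfl | rfl
      · refine (hd1.disjoint_sup_right_of_disjoint_sup_left hd3).mono_right ?_
        apply iSup₂_le
        intro j hj
        have hj3 : j = 1 ∨ j = 2 := by fin_cases j <;> simp at hj ⊢
        rcases hj3 with rfl | rfl
        · exact le_sup_left
        · exact le_sup_right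
      · refine (hd1.symm.disjoint_sup_right_of_disjoint_sup_left hd3').mono_right ?_
        apply iSup₂_le
        intro j hj
        have hj3 : j = 0 ∨ j = 2 := by fin_cases j <;> simp at hj ⊢
        rcases hj3 with rfl | rfl
        · exact le_sup_left
        · exact le_sup_right
      · refine hd3.symm.mono_right ?_
        apply iSup₂_le
        intro j hj
        have hj3 : j = 0 ∨ j = 1 := by fin_cases j <;> simp at hj ⊢
        rcases hj3 with rfl | rfl
        · exact le_sup_left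
        · exact le_sup_right
    · have htop : V ⊔ (C ⊓ perp q V) ⊔ V'' = ⊤ := by rw [hsup]; exact hV''.sup_eq_top
      rw [eq_top_iff, ← htop]
      refine sup_le (sup_le ?_ ?_) ?_
      · exact le_iSup (fun i : Fin 3 => ![V, C ⊓ perp q V, V''] i) 0
      · exact le_iSup (fun i : Fin 3 => ![V, C ⊓ perp q V, V''] i) 1
      · exact le_iSup (fun i : Fin 3 => ![V, C ⊓ perp q V, V''] i) 2
  · have := Submodule.finrank_sup_add_finrank_inf_eq V (C ⊓ perp q V)
    rw [hd1.eq_bot, finrank_bot, add_zero] at this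
    rw [← this]
    exact (LinearEquiv.ofEq _ _ hsup).finrank_eq
  · exact Submodule.finrank_add_eq_of_isCompl hV''
  · intro x hx y hy
    rw [hq, hz10 y hy x hx, map_zero]
  · apply Submodule.finrank_lt
    intro htop
    apply hq0
    ext x y
    exact hiso x (htop ▸ Submodule.mem_top) y (htop ▸ Submodule.mem_top)

theorem no_pair (V V' V'' : Submodule ℂ H) (hiso : ∀ x ∈ V, ∀ y ∈ V, q x y = 0)
    (hz10 : ∀ x ∈ V', ∀ y ∈ V, q x y = 0) (hz01 : ∀ x ∈ V, ∀ y ∈ V', q x y = 0)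
    (a ε : ℤ) (ha : 0 < a) (hε : 0 ≤ ε) (i j : Fin 3) (x y : H)
    (hx : x ∈ ![V, V', V''] i) (hy : y ∈ ![V, V', V''] j) (hne : q x y ≠ 0) :
    ε ≤ ![-a, ε, a + ε] i + ![-a, ε, a + ε] j := by
  have hi3 : i = 0 ∨ i = 1 ∨ i = 2 := by fin_cases i <;> simp
  have hj3 : j = 0 ∨ j = 1 ∨ j = 2 := by fin_cases j <;> simp
  rcases hi3 with rfl | rfl | rfl <;> rcases hj3 with rfl | rfl | rfl <;>
    simp only [Matrix.cons_val_zero, Matrix.cons_val_one, Matrix.cons_val_two,
      Matrix.head_cons, Matrix.tail_cons] at hx hy ⊢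
  · exact absurd (hiso x hx y hy) hne
  · exact absurd (hz01 x hx y hy) hne
  · omega
  · exact absurd (hz10 x hx y hy) hne
  · omega
  · omega
  · omega
  · omega
  · omega

theorem weights_sum (V V' V'' : Submodule ℂ H) :
    ∑ i : Fin 3, (![-((finrank ℂ V' : ℤ) + (finrank ℂ V'' : ℤ)),
        (finrank ℂ V : ℤ) - (finrank ℂ V'' : ℤ),
        ((finrank ℂ V' : ℤ) + (finrank ℂ V'' : ℤ)) +
          ((finrank ℂ V : ℤ) - (finrank ℂ V'' : ℤ))] : Fin 3 → ℤ) i *
      (finrank ℂ (![V, V', V''] i) : ℤ) = 0 := by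
  rw [Fin.sum_univ_three]
  show -((finrank ℂ V' : ℤ) + (finrank ℂ V'' : ℤ)) * (finrank ℂ V : ℤ) +
      ((finrank ℂ V : ℤ) - (finrank ℂ V'' : ℤ)) * (finrank ℂ V' : ℤ) +
      (((finrank ℂ V' : ℤ) + (finrank ℂ V'' : ℤ)) +
          ((finrank ℂ V : ℤ) - (finrank ℂ V'' : ℤ))) * (finrank ℂ V'' : ℤ) = 0
  ring

theorem part1_mpr (s : W →ₗ[ℂ] W) (hq : ∀ x y : H, q x y = s (q y x)) (hq0 : q ≠ 0)
    (hnum : ∀ (ι : Type) [Fintype ι] [DecidableEq ι] (Hs : ι → Submodule ℂ H) (m : ι → ℤ),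
        DirectSum.IsInternal Hs → (∑ i, m i * (Module.finrank ℂ (Hs i) : ℤ)) = 0 →
        (∃ i, m i ≠ 0 ∧ Hs i ≠ ⊥) →
        ∃ i j, (∃ x ∈ Hs i, ∃ y ∈ Hs j, q x y ≠ 0) ∧ m i + m j ≤ 0)
    (V : Submodule ℂ H) (hV : V ≠ ⊥) (hiso : ∀ x ∈ V, ∀ y ∈ V, q x y = 0) :
    finrank ℂ V + finrank ℂ ↥(perp q V) ≤ finrank ℂ H := by
  by_contra hlt
  push Not at hlt
  obtain ⟨V', V'', hint, h1, h2, hz10, hz01, hVH⟩ := decomp q s hq hq0 V hiso
  obtain ⟨i, j, ⟨x, hx, y, hy, hne⟩, hij⟩ := hnum (Fin 3) ![V, V', V'']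
    ![-((finrank ℂ V' : ℤ) + (finrank ℂ V'' : ℤ)),
        (finrank ℂ V : ℤ) - (finrank ℂ V'' : ℤ),
        ((finrank ℂ V' : ℤ) + (finrank ℂ V'' : ℤ)) +
          ((finrank ℂ V : ℤ) - (finrank ℂ V'' : ℤ))] hint (weights_sum V V' V'')
    ⟨0, by simp only [Matrix.cons_val_zero]; omega, hV⟩
  have := no_pair q V V' V'' hiso hz10 hz01 ((finrank ℂ V' : ℤ) + (finrank ℂ V'' : ℤ))
    ((finrank ℂ V : ℤ) - (finrank ℂ V'' : ℤ)) (by omega) (by omega) i j x y hx hy hne
  omega

theorem part2_mpr (s : W →ₗ[ℂ] W) (hq : ∀ x y : H, q x y = s (q y x)) (hq0 : q ≠ 0)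
    (hnum : ∀ (ι : Type) [Fintype ι] [DecidableEq ι] (Hs : ι → Submodule ℂ H) (m : ι → ℤ),
        DirectSum.IsInternal Hs → (∑ i, m i * (Module.finrank ℂ (Hs i) : ℤ)) = 0 →
        (∃ i, m i ≠ 0 ∧ Hs i ≠ ⊥) →
        ∃ i j, (∃ x ∈ Hs i, ∃ y ∈ Hs j, q x y ≠ 0) ∧ m i + m j < 0)
    (V : Submodule ℂ H) (hV : V ≠ ⊥) (hiso : ∀ x ∈ V, ∀ y ∈ V, q x y = 0) :
    finrank ℂ V + finrank ℂ ↥(perp q V) < finrank ℂ H := by
  by_contra hlt
  push Not at hlt
  obtain ⟨V', V'', hint, h1, h2, hz10, hz01, hVH⟩ := decomp q s hq hq0 V hiso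
  obtain ⟨i, j, ⟨x, hx, y, hy, hne⟩, hij⟩ := hnum (Fin 3) ![V, V', V'']
    ![-((finrank ℂ V' : ℤ) + (finrank ℂ V'' : ℤ)),
        (finrank ℂ V : ℤ) - (finrank ℂ V'' : ℤ),
        ((finrank ℂ V' : ℤ) + (finrank ℂ V'' : ℤ)) +
          ((finrank ℂ V : ℤ) - (finrank ℂ V'' : ℤ))] hint (weights_sum V V' V'')
    ⟨0, by simp only [Matrix.cons_val_zero]; omega, hV⟩
  have := no_pair q V V' V'' hiso hz10 hz01 ((finrank ℂ V' : ℤ) + (finrank ℂ V'' : ℤ))
    ((finrank ℂ V : ℤ) - (finrank ℂ V'' : ℤ)) (by omega) (by omega) i j x y hx hy hne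
  omega

end


/-- Let W be a finite-dimensional complex vector space with an involution s, H a finite-dimensional
complex vector space and q : H → H → W a nonzero bilinear map with q(x)(y) = s(q(y)(x)). Write V^⊥ =
{x | q(x)(y) = 0 for all y ∈ V} and call V totally isotropic when q vanishes on V × V. The pair (H,
q) is semistable (dim V + dim V^⊥ ≤ dim H for every nonzero totally isotropic subspace V),
respectively stable (strict inequality), if and only if the line of q is semistable, respectively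
stable, for the action of SL(H), the latter being expressed through one-parameter subgroups: for
every decomposition H = ⊕_i H_i into subspaces with integer weights m_i such that Σ_i m_i dim H_i =
0 and some nonzero H_i has nonzero weight, there are indices i, j with q(H_i, H_j) ≠ 0 and m_i + m_j
≤ 0, respectively m_i + m_j < 0. (The published statement speaks of semistability and stability of
the point of the projective space of such forms under SL(H); this row states the numerical condition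
on one-parameter subgroups to which that is equivalent and which the published argument verifies.) -/
theorem result
    (W : Type) [AddCommGroup W] [Module ℂ W] [FiniteDimensional ℂ W]
    (s : W →ₗ[ℂ] W) (hs : s ∘ₗ s = LinearMap.id)
    (H : Type) [AddCommGroup H] [Module ℂ H] [FiniteDimensional ℂ H]
    (q : H →ₗ[ℂ] H →ₗ[ℂ] W) (hq : ∀ x y : H, q x y = s (q y x)) (hq0 : q ≠ 0) :
    ((∀ V : Submodule ℂ H, V ≠ ⊥ → (∀ x ∈ V, ∀ y ∈ V, q x y = 0) →
        Module.finrank ℂ V + Module.finrank ℂ ↥(⨅ (y : H) (_ : y ∈ V), LinearMap.ker (q.flip y) : Submodule ℂ H) ≤ Module.finrank ℂ H) ↔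
      (∀ (ι : Type) [Fintype ι] [DecidableEq ι] (Hs : ι → Submodule ℂ H) (m : ι → ℤ),
        DirectSum.IsInternal Hs → (∑ i, m i * (Module.finrank ℂ (Hs i) : ℤ)) = 0 →
        (∃ i, m i ≠ 0 ∧ Hs i ≠ ⊥) →
        ∃ i j, (∃ x ∈ Hs i, ∃ y ∈ Hs j, q x y ≠ 0) ∧ m i + m j ≤ 0)) ∧
    ((∀ V : Submodule ℂ H, V ≠ ⊥ → (∀ x ∈ V, ∀ y ∈ V, q x y = 0) →
        Module.finrank ℂ V + Module.finrank ℂ ↥(⨅ (y : H) (_ : y ∈ V), LinearMap.ker (q.flip y) : Submodule ℂ H) < Module.finrank ℂ H) ↔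
      (∀ (ι : Type) [Fintype ι] [DecidableEq ι] (Hs : ι → Submodule ℂ H) (m : ι → ℤ),
        DirectSum.IsInternal Hs → (∑ i, m i * (Module.finrank ℂ (Hs i) : ℤ)) = 0 →
        (∃ i, m i ≠ 0 ∧ Hs i ≠ ⊥) →
        ∃ i j, (∃ x ∈ Hs i, ∃ y ∈ Hs j, q x y ≠ 0) ∧ m i + m j < 0)) := by
  refine ⟨⟨fun hss ι _ _ Hs m hint h0 hex => part1_mp q hss ι Hs m hint h0 hex,
    fun hnum V hV hiso => part1_mpr q s hq hq0 hnum V hV hiso⟩,
    ⟨fun hss ι _ _ Hs m hint h0 hex => part2_mp q hss ι Hs m hint h0 hex,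
    fun hnum V hV hiso => part2_mpr q s hq hq0 hnum V hV hiso⟩⟩

end Groth.Agent.S15159
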