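import Groth.Statements.S15162
import Mathlib

set_option autoImplicit false
open Matrix
open BddFin

namespace Groth.Agent.S15162

/-- a 2×2 integer matrix fixing a nonzero vector has `det (g - 1) = 0` -/
lemma fix_rel (a b c d : ℤ) (v : Fin 2 → ℤ) (hv : v ≠ 0)
    (hfix : (!![a, b; c, d] : Matrix (Fin 2) (Fin 2) ℤ) *ᵥ v = v) :
    (a - 1) * (d - 1) = b * c := by
  have h0 := congrFun hfix 0
  have h1 := congrFun hfix 1
  simp [Matrix.mulVec, dotProduct, Fin.sum_univ_two] at h0 h1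
  have hx : ((a - 1) * (d - 1) - b * c) * v 0 = 0 := by
    linear_combination (d - 1) * h0 - b * h1
  have hy : ((a - 1) * (d - 1) - b * c) * v 1 = 0 := by
    linear_combination (a - 1) * h1 - c * h0
  by_contra hne
  have hne' : (a - 1) * (d - 1) - b * c ≠ 0 := sub_ne_zero.2 hne
  have h00 : v 0 = 0 := (mul_eq_zero.1 hx).resolve_left hne'
  have h10 : v 1 = 0 := (mul_eq_zero.1 hy).resolve_left hne'
  apply hv
  funext i
  fin_cases i
  · exact h00
  · exact h10

lemma pow_unip (a b c : ℤ) (hbc : b * c = -(a - 1) ^ 2) (n : ℕ) :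
    (!![a, b; c, 2 - a] : Matrix (Fin 2) (Fin 2) ℤ) ^ n =
      !![1 + n * (a - 1), n * b; n * c, 1 - n * (a - 1)] := by
  induction n with
  | zero =>
    simp [Matrix.one_fin_two]
  | succ n ih =>
    rw [pow_succ, ih, Matrix.mul_fin_two]
    ext i j
    fin_cases i <;> fin_cases j
    · simp only [Fin.zero_eta, Fin.isValue, of_apply, cons_val', cons_val_zero, cons_val_fin_one]
      push_cast
      linear_combination (n : ℤ) * hbc
    · simp only [Fin.zero_eta, Fin.isValue, Fin.mk_one, of_apply, cons_val', cons_val_one,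
        cons_val_fin_one, cons_val_zero]
      push_cast
      ring
    · simp only [Fin.mk_one, Fin.isValue, Fin.zero_eta, of_apply, cons_val', cons_val_zero,
        cons_val_fin_one, cons_val_one]
      push_cast
      ring
    · simp only [Fin.mk_one, Fin.isValue, of_apply, cons_val', cons_val_one, cons_val_fin_one]
      push_cast
      linear_combination (n : ℤ) * hbc

/-- `det = 1`, fixed vector, finite order ⟹ identity -/
lemma eq_one_of_det_one (g : Matrix (Fin 2) (Fin 2) ℤ) (hdet : g.det = 1)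
    (v : Fin 2 → ℤ) (hv : v ≠ 0) (hfix : g *ᵥ v = v) (n : ℕ) (hn : 0 < n) (hgn : g ^ n = 1) :
    g = 1 := by
  obtain ⟨a, b, c, d, rfl⟩ : ∃ a b c d, g = !![a, b; c, d] := ⟨_, _, _, _, Matrix.eta_fin_two g⟩
  have hrel := fix_rel a b c d v hv hfix
  rw [Matrix.det_fin_two_of] at hdet
  have hd : d = 2 - a := by linear_combination -hrel + hdet
  subst hd
  have hbc : b * c = -(a - 1) ^ 2 := by linear_combination -hrel
  rw [pow_unip a b c hbc n, Matrix.one_fin_two] at hgn
  have e00 := congrFun (congrFun hgn 0) 0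
  have e01 := congrFun (congrFun hgn 0) 1
  have e10 := congrFun (congrFun hgn 1) 0
  simp at e00 e01 e10
  have hn' : n ≠ 0 := hn.ne'
  have ha : a = 1 := by
    rcases e00 with h | h
    · exact absurd h hn'
    · linarith
  have hb : b = 0 := e01.resolve_left hn'
  have hc : c = 0 := e10.resolve_left hn'
  subst ha hb hc
  rw [Matrix.one_fin_two]
  norm_num

/-- `det = -1`, fixed vector ⟹ involution -/
lemma sq_eq_one_of_det_neg_one (g : Matrix (Fin 2) (Fin 2) ℤ) (hdet : g.det = -1)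
    (v : Fin 2 → ℤ) (hv : v ≠ 0) (hfix : g *ᵥ v = v) : g * g = 1 := by
  obtain ⟨a, b, c, d, rfl⟩ : ∃ a b c d, g = !![a, b; c, d] := ⟨_, _, _, _, Matrix.eta_fin_two g⟩
  have hrel := fix_rel a b c d v hv hfix
  rw [Matrix.det_fin_two_of] at hdet
  have hd : d = - a := by linear_combination -hrel + hdet
  subst hd
  have hbc : b * c = 1 - a ^ 2 := by linear_combination -hdet
  rw [Matrix.mul_fin_two, Matrix.one_fin_two]
  ext i j
  fin_cases i <;> fin_cases j
  · simp only [Fin.zero_eta, Fin.isValue, of_apply, cons_val', cons_val_zero, cons_val_fin_one]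
    linear_combination hbc
  · simp only [Fin.zero_eta, Fin.isValue, Fin.mk_one, of_apply, cons_val', cons_val_one,
      cons_val_fin_one, cons_val_zero]
    ring
  · simp only [Fin.mk_one, Fin.isValue, Fin.zero_eta, of_apply, cons_val', cons_val_zero,
      cons_val_fin_one, cons_val_one]
    ring
  · simp only [Fin.mk_one, Fin.isValue, of_apply, cons_val', cons_val_one, cons_val_fin_one]
    linear_combination hbc


/-- Let Γ be a finite subgroup of GL_2(ℤ) acting on ℤ² by matrix multiplication. If every element of Γ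
has a non-zero fixed vector in ℤ², then there is a non-zero vector of ℤ² fixed by all of Γ. -/
theorem result
    (Γ : Subgroup (Matrix.GeneralLinearGroup (Fin 2) ℤ)) [Finite Γ]
    (h : ∀ γ ∈ Γ, ∃ v : Fin 2 → ℤ, v ≠ 0 ∧ (γ : Matrix (Fin 2) (Fin 2) ℤ) *ᵥ v = v) :
    ∃ v : Fin 2 → ℤ, v ≠ 0 ∧ ∀ γ ∈ Γ, (γ : Matrix (Fin 2) (Fin 2) ℤ) *ᵥ v = v := by
  -- determinant is ±1
  have hdetpm : ∀ γ : Matrix.GeneralLinearGroup (Fin 2) ℤ,
      (γ : Matrix (Fin 2) (Fin 2) ℤ).det = 1 ∨ (γ : Matrix (Fin 2) (Fin 2) ℤ).det = -1 := by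
    intro γ
    have hu : IsUnit (γ : Matrix (Fin 2) (Fin 2) ℤ).det :=
      (Matrix.isUnit_iff_isUnit_det _).1 γ.isUnit
    exact Int.isUnit_iff.1 hu
  -- elements of det 1 are trivial
  have hone : ∀ γ ∈ Γ, (γ : Matrix (Fin 2) (Fin 2) ℤ).det = 1 → γ = 1 := by
    intro γ hγ hdet
    obtain ⟨v, hv, hfix⟩ := h γ hγ
    have hfin : IsOfFinOrder (⟨γ, hγ⟩ : Γ) := isOfFinOrder_of_finite _
    have hpos : 0 < orderOf (⟨γ, hγ⟩ : Γ) := hfin.orderOf_pos
    have hpow : (⟨γ, hγ⟩ : Γ) ^ orderOf (⟨γ, hγ⟩ : Γ) = 1 := pow_orderOf_eq_one _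
    have hpow' : γ ^ orderOf (⟨γ, hγ⟩ : Γ) = 1 := by
      have := congrArg (Subtype.val) hpow
      simp
    have hpowM : (γ : Matrix (Fin 2) (Fin 2) ℤ) ^ orderOf (⟨γ, hγ⟩ : Γ) = 1 := by
      rw [← Units.val_pow_eq_pow_val, hpow']; rfl
    have := eq_one_of_det_one _ hdet v hv hfix _ hpos hpowM
    exact Units.ext this
  by_cases hex : ∃ γ₀ ∈ Γ, (γ₀ : Matrix (Fin 2) (Fin 2) ℤ).det = -1
  · obtain ⟨γ₀, hγ₀, hdet₀⟩ := hex
    obtain ⟨v, hv, hfix⟩ := h γ₀ hγ₀
    have hsq : γ₀ * γ₀ = 1 := by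
      apply Units.ext
      simpa using sq_eq_one_of_det_neg_one _ hdet₀ v hv hfix
    refine ⟨v, hv, ?_⟩
    intro γ hγ
    rcases hdetpm γ with hd | hd
    · rw [hone γ hγ hd]; simp
    · have hprod : (γ₀ * γ) = 1 := by
        apply hone _ (Γ.mul_mem hγ₀ hγ)
        simp [Matrix.det_mul, hdet₀, hd]
      have : γ = γ₀ := by
        calc γ = (γ₀ * γ₀) * γ := by rw [hsq, one_mul]
          _ = γ₀ * (γ₀ * γ) := by rw [mul_assoc]
          _ = γ₀ := by rw [hprod, mul_one]
      rw [this]; exact hfix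
  · push Not at hex
    refine ⟨![1, 0], ?_, ?_⟩
    · intro h0
      have := congrFun h0 0
      simp at this
    · intro γ hγ
      rcases hdetpm γ with hd | hd
      · rw [hone γ hγ hd]; simp
      · exact absurd hd (hex γ hγ)

end Groth.Agent.S15162
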