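import Groth.Statements.S15163
import Mathlib
import Groth.Agent.S15162

set_option autoImplicit false
open Matrix
open BddFin

namespace Groth.Agent.S15163

/-- Cayley–Hamilton for 2×2 integer matrices of determinant one, in recurrence form on traces -/
lemma trace_rec (g : Matrix (Fin 2) (Fin 2) ℤ) (hdet : g.det = 1) (k : ℕ) :
    (g ^ (k + 2)).trace = g.trace * (g ^ (k + 1)).trace - (g ^ k).trace := by
  have hCH : g * g = g.trace • g - 1 := by
    obtain ⟨a, b, c, d, rfl⟩ : ∃ a b c d, g = !![a, b; c, d] := ⟨_, _, _, _, Matrix.eta_fin_two g⟩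
    rw [Matrix.det_fin_two_of] at hdet
    rw [Matrix.mul_fin_two, Matrix.one_fin_two, Matrix.trace_fin_two_of]
    ext i j
    fin_cases i <;> fin_cases j
    · simp
      linear_combination -hdet
    · simp
      ring
    · simp
      ring
    · simp
      linear_combination -hdet
  have h1 : g ^ (k + 2) = g.trace • g ^ (k + 1) - g ^ k := by
    rw [pow_add, pow_two, hCH, mul_sub, mul_one, Matrix.mul_smul, ← pow_succ]
  rw [h1, Matrix.trace_sub, Matrix.trace_smul, smul_eq_mul]

/-- finite order and determinant one force `|tr| ≤ 2` -/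
lemma abs_trace_le_two (g : Matrix (Fin 2) (Fin 2) ℤ) (hdet : g.det = 1) (n : ℕ) (hn : 0 < n)
    (hgn : g ^ n = 1) : |g.trace| ≤ 2 := by
  by_contra hcon
  push Not at hcon
  have ht : 3 ≤ |g.trace| := by omega
  have key : ∀ k : ℕ, |(g ^ k).trace| < |(g ^ (k + 1)).trace| := by
    intro k
    induction k with
    | zero =>
      simp only [pow_zero, zero_add, pow_one]
      rw [Matrix.trace_one]
      simp only [Fintype.card_fin, Nat.cast_ofNat]
      have : |(2 : ℤ)| = 2 := by norm_num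
      rw [this]; omega
    | succ k ih =>
      rw [trace_rec g hdet k]
      have h1 : |g.trace * (g ^ (k + 1)).trace| ≤ |g.trace * (g ^ (k + 1)).trace - (g ^ k).trace| + |(g ^ k).trace| := by
        have := abs_add_le (g.trace * (g ^ (k + 1)).trace - (g ^ k).trace) ((g ^ k).trace)
        simpa using this
      rw [abs_mul] at h1
      have h2 : 3 * |(g ^ (k + 1)).trace| ≤ |g.trace| * |(g ^ (k + 1)).trace| :=
        mul_le_mul_of_nonneg_right ht (abs_nonneg _)
      have h3 := abs_nonneg ((g ^ k).trace)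
      linarith
  have mono : ∀ k : ℕ, 0 < k → 2 < |(g ^ k).trace| := by
    intro k hk
    induction k with
    | zero => omega
    | succ k ih =>
      rcases Nat.eq_zero_or_pos k with rfl | hk'
      · have := key 0
        simp only [pow_zero, zero_add] at this ⊢
        rw [Matrix.trace_one] at this
        simpa using this
      · exact (ih hk').trans (key k)
  have := mono n hn
  rw [hgn, Matrix.trace_one] at this
  simp at this

/-- determinant `-1` and finite order force trace zero -/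
lemma trace_eq_zero (g : Matrix (Fin 2) (Fin 2) ℤ) (hdet : g.det = -1) (n : ℕ) (hn : 0 < n)
    (hgn : g ^ n = 1) : g.trace = 0 := by
  have hdet2 : (g * g).det = 1 := by rw [Matrix.det_mul, hdet]; norm_num
  have hpow : (g * g) ^ n = 1 := by
    rw [← pow_two, ← pow_mul, mul_comm, pow_mul, hgn, one_pow]
  have h1 := abs_trace_le_two (g * g) hdet2 n hn hpow
  have htr : (g * g).trace = g.trace ^ 2 + 2 := by
    obtain ⟨a, b, c, d, rfl⟩ : ∃ a b c d, g = !![a, b; c, d] := ⟨_, _, _, _, Matrix.eta_fin_two g⟩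
    rw [Matrix.det_fin_two_of] at hdet
    rw [Matrix.mul_fin_two, Matrix.trace_fin_two_of, Matrix.trace_fin_two_of]
    linear_combination -2 * hdet
  rw [htr] at h1
  have h2 : g.trace ^ 2 + 2 ≤ 2 := (abs_le.1 h1).2
  have h3 : g.trace ^ 2 ≤ 0 := by linarith
  have h4 : g.trace ^ 2 = 0 := le_antisymm h3 (sq_nonneg _)
  exact pow_eq_zero_iff (two_ne_zero) |>.1 h4

lemma dvd_delta (d : ℕ) (hd0 : 0 < d) (a b c e : ℤ) (w : Fin 2 → ZMod d)
    (hw : ∀ m : ℕ, 0 < m → m < d → m • w ≠ 0)
    (hfix : ((!![a, b; c, e] : Matrix (Fin 2) (Fin 2) ℤ).map (Int.castRingHom (ZMod d))) *ᵥ w = w) :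
    (d : ℤ) ∣ (a - 1) * (e - 1) - b * c := by
  have h0 := congrFun hfix 0
  have h1 := congrFun hfix 1
  simp [Matrix.mulVec, dotProduct, Fin.sum_univ_two] at h0 h1
  set δ : ℤ := (a - 1) * (e - 1) - b * c with hδ
  have hx : (δ : ZMod d) * w 0 = 0 := by
    rw [hδ]; push_cast
    linear_combination ((e : ZMod d) - 1) * h0 - (b : ZMod d) * h1
  have hy : (δ : ZMod d) * w 1 = 0 := by
    rw [hδ]; push_cast
    linear_combination ((a : ZMod d) - 1) * h1 - (c : ZMod d) * h0
  have hdpos : (0 : ℤ) < d := by exact_mod_cast hd0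
  have hm0 : 0 ≤ δ % d := Int.emod_nonneg _ hdpos.ne'
  have hm1 : δ % d < d := Int.emod_lt_of_pos _ hdpos
  by_contra hnd
  have hmne : δ % d ≠ 0 := fun h => hnd (Int.dvd_of_emod_eq_zero h)
  have hmpos : 0 < (δ % d).toNat := by omega
  have hmlt : (δ % d).toNat < d := by omega
  apply hw _ hmpos hmlt
  have hcast : (((δ % d).toNat : ℕ) : ZMod d) = (δ : ZMod d) := by
    have : (((δ % d).toNat : ℕ) : ℤ) = δ % d := Int.toNat_of_nonneg hm0
    have h2 : ((((δ % d).toNat : ℕ) : ℤ) : ZMod d) = ((δ % d : ℤ) : ZMod d) := by rw [this]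
    rw [Int.cast_natCast, ZMod.intCast_mod] at h2
    exact h2
  funext i
  rw [Pi.smul_apply, nsmul_eq_mul, hcast, Pi.zero_apply]
  fin_cases i
  · exact hx
  · exact hy

lemma exists_fixed (a b c e : ℤ) (hδ : (a - 1) * (e - 1) = b * c) :
    ∃ v : Fin 2 → ℤ, v ≠ 0 ∧ (!![a, b; c, e] : Matrix (Fin 2) (Fin 2) ℤ) *ᵥ v = v := by
  by_cases h1 : b = 0 ∧ a = 1
  · obtain ⟨rfl, rfl⟩ := h1
    by_cases h2 : c = 0 ∧ e = 1
    · obtain ⟨rfl, rfl⟩ := h2
      refine ⟨![1, 0], ?_, ?_⟩
      · intro h; have := congrFun h 0; simp at this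
      · funext i; fin_cases i <;> simp [Matrix.mulVec, dotProduct, Fin.sum_univ_two]
    · refine ⟨![1 - e, c], ?_, ?_⟩
      · intro h
        apply h2
        have h0 := congrFun h 0
        have h1 := congrFun h 1
        simp at h0 h1
        exact ⟨h1, by linarith⟩
      · funext i; fin_cases i <;> simp [Matrix.mulVec, dotProduct, Fin.sum_univ_two]
        ring
  · refine ⟨![b, 1 - a], ?_, ?_⟩
    · intro h
      apply h1
      have h0 := congrFun h 0
      have h1 := congrFun h 1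
      simp at h0 h1
      exact ⟨h0, by linarith⟩
    · funext i; fin_cases i <;> simp [Matrix.mulVec, dotProduct, Fin.sum_univ_two]
      · ring
      · linear_combination -hδ


/-- Let Γ be a finite subgroup of GL_2(ℤ) and d > 6 an integer. Suppose some vector w of (ℤ/dℤ)², with
m·w ≠ 0 for all 0 < m < d, is fixed by the reduction modulo d of every element of Γ. Then some
non-zero vector of ℤ² is fixed by all of Γ. -/
theorem result
    (Γ : Subgroup (Matrix.GeneralLinearGroup (Fin 2) ℤ)) [Finite Γ] (d : ℕ) (hd : 6 < d)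
    (w : Fin 2 → ZMod d) (hw : ∀ m : ℕ, 0 < m → m < d → m • w ≠ 0)
    (hfix : ∀ γ ∈ Γ, ((γ : Matrix (Fin 2) (Fin 2) ℤ).map (Int.castRingHom (ZMod d))) *ᵥ w = w) :
    ∃ v : Fin 2 → ℤ, v ≠ 0 ∧ ∀ γ ∈ Γ, (γ : Matrix (Fin 2) (Fin 2) ℤ) *ᵥ v = v := by
  apply Groth.Agent.S15162.result Γ
  intro γ hγ
  -- finite order
  have hfin : IsOfFinOrder (⟨γ, hγ⟩ : Γ) := isOfFinOrder_of_finite _
  have hpos : 0 < orderOf (⟨γ, hγ⟩ : Γ) := hfin.orderOf_pos
  have hpow : (⟨γ, hγ⟩ : Γ) ^ orderOf (⟨γ, hγ⟩ : Γ) = 1 := pow_orderOf_eq_one _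
  have hpow' : γ ^ orderOf (⟨γ, hγ⟩ : Γ) = 1 := by
    have := congrArg (Subtype.val) hpow
    simp
  have hpowM : (γ : Matrix (Fin 2) (Fin 2) ℤ) ^ orderOf (⟨γ, hγ⟩ : Γ) = 1 := by
    rw [← Units.val_pow_eq_pow_val, hpow']; rfl
  have hdetpm : (γ : Matrix (Fin 2) (Fin 2) ℤ).det = 1 ∨ (γ : Matrix (Fin 2) (Fin 2) ℤ).det = -1 := by
    have hu : IsUnit (γ : Matrix (Fin 2) (Fin 2) ℤ).det :=
      (Matrix.isUnit_iff_isUnit_det _).1 γ.isUnit
    exact Int.isUnit_iff.1 hu
  have hfixγ := hfix γ hγ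
  generalize (γ : Matrix (Fin 2) (Fin 2) ℤ) = g at hpowM hdetpm hfixγ ⊢
  generalize orderOf (⟨γ, hγ⟩ : Γ) = n at hpos hpowM
  obtain ⟨a, b, c, e, rfl⟩ : ∃ a b c e, g = !![a, b; c, e] := ⟨_, _, _, _, Matrix.eta_fin_two g⟩
  have hdvd := dvd_delta d (by omega) a b c e w hw hfixγ
  apply exists_fixed
  -- bound on δ
  have hδ : |(a - 1) * (e - 1) - b * c| ≤ 4 := by
    rcases hdetpm with h1 | h1
    · have ht := abs_trace_le_two _ h1 n hpos hpowM
      rw [Matrix.trace_fin_two_of] at ht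
      rw [Matrix.det_fin_two_of] at h1
      have : (a - 1) * (e - 1) - b * c = 2 - (a + e) := by linear_combination h1
      rw [this]
      have := abs_le.1 ht
      rw [abs_le]; constructor <;> linarith [this.1, this.2]
    · have ht := trace_eq_zero _ h1 n hpos hpowM
      rw [Matrix.trace_fin_two_of] at ht
      rw [Matrix.det_fin_two_of] at h1
      have : (a - 1) * (e - 1) - b * c = 0 := by linear_combination h1 - ht
      rw [this]; norm_num
  have hzero : (a - 1) * (e - 1) - b * c = 0 := by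
    by_contra hne
    have := Int.le_of_dvd (abs_pos.2 hne) ((dvd_abs _ _).2 hdvd)
    have hd' : (6 : ℤ) < d := by exact_mod_cast hd
    linarith
  linarith

end Groth.Agent.S15163
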