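import Groth.Statements.S15164
import Mathlib.Algebra.CharP.Lemmas
import Mathlib.Algebra.CharP.Algebra
import Mathlib.LinearAlgebra.QuadraticForm.Basic
import Mathlib.Tactic.LinearCombination

set_option autoImplicit false
universe u v
open BddFin

namespace Groth.Agent.S15164

/-- Let K be a field of characteristic p > 2, V a finite-dimensional K-vector space and q a quadratic
form on V that does not represent zero (q x = 0 only for x = 0). Then the group of K-linear
automorphisms of V preserving q has no element of order p: if g preserves q and g ^ p = 1 then g =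
1. (Non-degeneracy of q, also assumed in the published statement, follows from anisotropy since 2 is
invertible, so it is not repeated here.) -/
theorem result
    (K : Type u) [Field K] (p : ℕ) [Fact p.Prime] [CharP K p] (hp : p ≠ 2)
    (V : Type v) [AddCommGroup V] [Module K V] [FiniteDimensional K V]
    (q : QuadraticForm K V) (hq : q.Anisotropic)
    (g : V ≃ₗ[K] V) (hg : ∀ x : V, q (g x) = q x) (hgp : g ^ p = 1) : g = 1 := by
  classical
  by_contra hne
  -- V is nontrivial
  have hnt : Nontrivial V := by
    by_contra hV
    rw [not_nontrivial_iff_subsingleton] at hV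
    exact hne (LinearEquiv.ext (fun x => Subsingleton.elim _ _))
  let f : Module.End K V := g.toLinearMap
  have hf_apply : ∀ x, f x = g x := fun x => rfl
  have hfp : f ^ p = 1 := by
    have := congrArg (LinearEquiv.automorphismGroup.toLinearMapMonoidHom (R := K) (M := V)) hgp
    rw [map_pow, map_one] at this
    exact this
  have hchar : CharP (Module.End K V) p :=
    charP_of_injective_algebraMap (FaithfulSMul.algebraMap_injective K (Module.End K V)) p
  set N : Module.End K V := f - 1 with hN
  have hNp : N ^ p = 0 := by
    rw [hN, sub_pow_char_of_commute (R := Module.End K V) (p := p) (Commute.one_right f), hfp, one_pow, sub_self]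
  have hN0 : N ≠ 0 := by
    intro h0
    apply hne
    ext x
    have : N x = 0 := by rw [h0]; rfl
    rw [hN, LinearMap.sub_apply, hf_apply, Module.End.one_apply, sub_eq_zero] at this
    exact this
  have hex : ∃ r, N ^ r = 0 := ⟨p, hNp⟩
  set r := Nat.find hex with hr
  have hr0 : N ^ r = 0 := Nat.find_spec hex
  have hrmin : ∀ m, m < r → N ^ m ≠ 0 := fun m hm => Nat.find_min hex hm
  have hr2 : 2 ≤ r := by
    by_contra hlt
    push Not at hlt
    have : r = 0 ∨ r = 1 := by omega
    rcases this with h | h
    · rw [h, pow_zero] at hr0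
      exact one_ne_zero hr0
    · rw [h, pow_one] at hr0
      exact hN0 hr0
  obtain ⟨s, hs⟩ : ∃ s, r = s + 2 := ⟨r - 2, by omega⟩
  have hs1 : N ^ (s + 1) ≠ 0 := hrmin (s + 1) (by omega)
  obtain ⟨v', hv'⟩ : ∃ v', (N ^ (s + 1)) v' ≠ 0 := by
    by_contra hcon
    push Not at hcon
    exact hs1 (LinearMap.ext hcon)
  set w := (N ^ s) v' with hw
  set u := N w with hu
  have hu_eq : u = (N ^ (s + 1)) v' := by
    rw [hu, hw, pow_succ', Module.End.mul_apply]
  have hu0 : u ≠ 0 := by rw [hu_eq]; exact hv'
  have hNu : N u = 0 := by
    rw [hu_eq, ← Module.End.mul_apply, ← pow_succ', ← hs, hr0]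
    rfl
  have hgw : g w = w + u := by
    have : N w = g w - w := by
      rw [hN, LinearMap.sub_apply, hf_apply, Module.End.one_apply]
    rw [hu, this]; abel
  have hgu : g u = u := by
    have : N u = g u - u := by
      rw [hN, LinearMap.sub_apply, hf_apply, Module.End.one_apply]
    rw [this, sub_eq_zero] at hNu
    exact hNu
  have h1 : q (w + u) = q w := by rw [← hgw, hg]
  have h2 : q (w + u + u) = q (w + u) := by
    have : g (w + u) = w + u + u := by rw [map_add, hgw, hgu]
    rw [← this, hg]
  rw [QuadraticMap.map_add q w u] at h1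
  rw [QuadraticMap.map_add q (w + u) u, QuadraticMap.polar_add_left, QuadraticMap.polar_self] at h2
  have h3 : (2 : K) * q u = 0 := by
    have e : 2 • q u = (2 : K) * q u := by rw [two_smul, two_mul]
    rw [e] at h2
    linear_combination h2 - h1
  have h2K : (2 : K) ≠ 0 := by
    intro h
    have : (p : ℕ) ∣ 2 := (CharP.cast_eq_zero_iff K p 2).mp (by exact_mod_cast h)
    have hp2 := (Nat.prime_dvd_prime_iff_eq (Fact.out : p.Prime) Nat.prime_two).mp this
    exact hp hp2
  have hq0 : q u = 0 := (mul_eq_zero.mp h3).resolve_left h2K
  exact hu0 (hq u hq0)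

end Groth.Agent.S15164
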