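import Groth.Statements.S15165
import Mathlib
-- import your own Groth.Agent.* helpers here

set_option autoImplicit false
set_option linter.style.haveILetI false
set_option linter.unusedSectionVars false
universe u v
open Polynomial
open BddFin

namespace Groth.Agent.S15165

section
variable {K : Type u} [Field K] (h2 : (2 : K) ≠ 0)
  {V : Type v} [AddCommGroup V] [Module K V]
  (q : QuadraticForm K V) (hq : q.Anisotropic)
  (g : V →ₗ[K] V) (hg : ∀ x : V, q (g x) = q x)

include hq hg in
theorem eig (ζ : K) (v : V) (hv : v ≠ 0) (h : g v = ζ • v) : ζ = 1 ∨ ζ = -1 := by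
  have h1 : q (g v) = q v := hg v
  rw [h, QuadraticMap.map_smul] at h1
  have hqv : q v ≠ 0 := fun h0 => hv (hq v h0)
  have h3 : (ζ * ζ - 1) * q v = 0 := by
    rw [sub_mul, one_mul, sub_eq_zero]
    simpa [smul_eq_mul] using h1
  rcases mul_eq_zero.1 h3 with h4 | h4
  · have : (ζ - 1) * (ζ + 1) = 0 := by ring_nf; ring_nf at h4; linear_combination h4
    rcases mul_eq_zero.1 this with h5 | h5
    · left; exact sub_eq_zero.1 h5
    · right; exact eq_neg_of_add_eq_zero_left h5
  · exact absurd h4 hqv

include h2 hq hg in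
theorem semis_one (v : V) (h : g (g v - v) = g v - v) : g v - v = 0 := by
  set w := g v - v with hw
  have hgv : g v = v + w := by rw [hw]; abel
  have hggv : g (g v) = v + (2 : K) • w := by
    rw [hgv, map_add, h, hgv, two_smul]; abel
  have e1 : q (v + w) = q v := by rw [← hgv]; exact hg v
  have e2 : q (v + (2 : K) • w) = q v := by rw [← hggv, hg, hg]
  rw [QuadraticMap.map_add q] at e1 e2
  rw [QuadraticMap.map_smul, QuadraticMap.polar_smul_right] at e2
  simp only [smul_eq_mul] at e2
  have : (2 : K) * q w = 0 := by linear_combination e2 - 2 * e1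
  rcases mul_eq_zero.1 this with h3 | h3
  · exact absurd h3 h2
  · exact hq w h3

include h2 hq hg in
theorem semis_neg (v : V) (h : g (g v + v) = -(g v + v)) : g v + v = 0 := by
  set w := g v + v with hw
  have hgv : g v = w + (-1 : K) • v := by rw [hw]; simp
  have hggv : g (g v) = v + (-2 : K) • w := by
    rw [hgv, map_add, h, map_smul, hgv]
    simp only [neg_smul, one_smul, two_smul, smul_add, neg_add_rev, neg_neg]
    abel
  have e1 : q (w + (-1 : K) • v) = q v := by rw [← hgv]; exact hg v
  have e2 : q (v + (-2 : K) • w) = q v := by rw [← hggv, hg, hg]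
  rw [QuadraticMap.map_add q] at e1 e2
  rw [QuadraticMap.map_smul, QuadraticMap.polar_smul_right] at e1 e2
  simp only [smul_eq_mul] at e1 e2
  rw [QuadraticMap.polar_comm] at e1
  have : (2 : K) * q w = 0 := by linear_combination e2 - 2 * e1
  rcases mul_eq_zero.1 this with h3 | h3
  · exact absurd h3 h2
  · exact hq w h3

omit [Field K] in
theorem dummy : True := trivial

theorem aeval_mul_apply (p r : K[X]) (v : V) : aeval g (p * r) v = aeval g p (aeval g r v) := by
  rw [map_mul]; rfl

theorem aeval_sub_C (ζ : K) (v : V) : aeval g (X - C ζ) v = g v - ζ • v := by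
  simp [Module.algebraMap_end_apply]

theorem aeval_sub_one (v : V) : aeval g (X - 1 : K[X]) v = g v - v := by
  simp

theorem aeval_add_one (v : V) : aeval g (X + 1 : K[X]) v = g v + v := by
  simp

include hq hg in
theorem root_step (m : Multiset K) : ∀ v : V,
    aeval g ((m.map (fun ζ => X - C ζ)).prod) v = 0 →
      aeval g ((X - 1 : K[X]) ^ (Multiset.card m) * (X + 1) ^ (Multiset.card m)) v = 0 := by
  induction m using Multiset.induction_on with
  | empty =>
    intro v hv
    simpa using hv
  | cons ζ m' ih =>
    intro v hv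
    rw [Multiset.map_cons, Multiset.prod_cons] at hv
    rw [Multiset.card_cons]
    set P' := (m'.map (fun ζ => X - C ζ)).prod with hP'
    set n := Multiset.card m' with hn
    by_cases h1 : ζ = 1
    · subst h1
      have h3 : aeval g P' (aeval g (X - 1 : K[X]) v) = 0 := by
        rw [← aeval_mul_apply, mul_comm]
        simpa using hv
      have h4 := ih _ h3
      rw [← aeval_mul_apply] at h4
      have h5 : ((X - 1 : K[X]) ^ (n + 1) * (X + 1) ^ (n + 1)) =
          (X + 1) * ((X - 1) ^ n * (X + 1) ^ n * (X - 1)) := by ring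
      rw [h5, aeval_mul_apply, h4, map_zero]
    · by_cases h1' : ζ = -1
      · subst h1'
        have h3 : aeval g P' (aeval g (X + 1 : K[X]) v) = 0 := by
          rw [← aeval_mul_apply, mul_comm]
          simpa using hv
        have h4 := ih _ h3
        rw [← aeval_mul_apply] at h4
        have h5 : ((X - 1 : K[X]) ^ (n + 1) * (X + 1) ^ (n + 1)) =
            (X - 1) * ((X - 1) ^ n * (X + 1) ^ n * (X + 1)) := by ring
        rw [h5, aeval_mul_apply, h4, map_zero]
      · rw [aeval_mul_apply, aeval_sub_C, sub_eq_zero] at hv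
        have hu : aeval g P' v = 0 := by
          by_contra hne
          rcases eig q hq g hg ζ _ hne hv with h | h
          · exact h1 h
          · exact h1' h
        have h4 := ih _ hu
        have h5 : ((X - 1 : K[X]) ^ (n + 1) * (X + 1) ^ (n + 1)) =
            ((X - 1) * (X + 1)) * ((X - 1) ^ n * (X + 1) ^ n) := by ring
        rw [h5, aeval_mul_apply, h4, map_zero]

include h2 hq hg in
theorem ker_pow_sub (N : ℕ) : ∀ v : V, aeval g ((X - 1 : K[X]) ^ (N + 1)) v = 0 →
    aeval g (X - 1 : K[X]) v = 0 := by
  induction N with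
  | zero => intro v hv; simpa using hv
  | succ k ih =>
    intro v hv
    apply ih
    have h5 : ((X - 1 : K[X]) ^ (k + 1 + 1)) = (X - 1) * ((X - 1) * (X - 1) ^ k) := by ring
    rw [h5, aeval_mul_apply, aeval_mul_apply] at hv
    set v' := aeval g ((X - 1 : K[X]) ^ k) v with hv'
    rw [aeval_sub_one, aeval_sub_one, sub_eq_zero] at hv
    have := semis_one h2 q hq g hg v' hv
    rw [pow_succ, mul_comm, aeval_mul_apply, aeval_sub_one]
    exact this

include h2 hq hg in
theorem ker_pow_add (N : ℕ) : ∀ v : V, aeval g ((X + 1 : K[X]) ^ (N + 1)) v = 0 →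
    aeval g (X + 1 : K[X]) v = 0 := by
  induction N with
  | zero => intro v hv; simpa using hv
  | succ k ih =>
    intro v hv
    apply ih
    have h5 : ((X + 1 : K[X]) ^ (k + 1 + 1)) = (X + 1) * ((X + 1) * (X + 1) ^ k) := by ring
    rw [h5, aeval_mul_apply, aeval_mul_apply] at hv
    set v' := aeval g ((X + 1 : K[X]) ^ k) v with hv'
    rw [aeval_add_one, aeval_add_one] at hv
    have := semis_neg h2 q hq g hg v' (eq_neg_of_add_eq_zero_left hv)
    rw [pow_succ, mul_comm, aeval_mul_apply, aeval_add_one]
    exact this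

include h2 hq hg in
theorem sq_eq_one_of_splits (d : ℕ) (hd : 0 < d) (hsp : (X ^ d - 1 : K[X]).Splits)
    (hgd : g ^ d = 1) (v : V) : g (g v) = v := by
  have hmonic : (X ^ d - 1 : K[X]).Monic := monic_X_pow_sub_C (1 : K) hd.ne'
  have hprod := hsp.eq_prod_roots_of_monic hmonic
  have h0 : aeval g (X ^ d - 1 : K[X]) v = 0 := by
    simp [hgd]
  rw [hprod] at h0
  have h1 := root_step q hq g hg _ v h0
  set N := Multiset.card (X ^ d - 1 : K[X]).roots with hN
  have h3 : aeval g ((X - 1 : K[X]) ^ (N + 1) * (X + 1) ^ (N + 1)) v = 0 := by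
    have h5 : ((X - 1 : K[X]) ^ (N + 1) * (X + 1) ^ (N + 1)) =
        ((X - 1) * (X + 1)) * ((X - 1) ^ N * (X + 1) ^ N) := by ring
    rw [h5, aeval_mul_apply, h1, map_zero]
  rw [aeval_mul_apply] at h3
  have h4 := ker_pow_sub h2 q hq g hg N _ h3
  rw [← aeval_mul_apply, mul_comm, aeval_mul_apply] at h4
  have h6 := ker_pow_add h2 q hq g hg N _ h4
  rw [aeval_add_one, aeval_sub_one, map_sub] at h6
  have : g (g v) - g v + (g v - v) = g (g v) - v := by abel
  rw [this, sub_eq_zero] at h6
  exact h6

end


/-- Let K be a field of characteristic different from 2 such that K contains all roots of unity (for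
every n ≥ 1 the polynomial X^n − 1 splits into linear factors over K), V a finite-dimensional
K-vector space and q a quadratic form on V that does not represent zero. If a K-linear automorphism
g of V preserves q and has finite order (g ^ d = 1 for some d ≥ 1), then g ^ 2 = 1. (The published
statement also covers perfect fields of characteristic 2; this row is the case of characteristic ≠
2.) -/
theorem result
    (K : Type u) [Field K] (hK : ∀ n : ℕ, 0 < n → (X ^ n - 1 : K[X]).Splits) (h2 : (2 : K) ≠ 0)
    (V : Type v) [AddCommGroup V] [Module K V] [FiniteDimensional K V]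
    (q : QuadraticForm K V) (hq : q.Anisotropic)
    (g : V ≃ₗ[K] V) (hg : ∀ x : V, q (g x) = q x) (d : ℕ) (hd : 0 < d) (hgd : g ^ d = 1) :
    g ^ 2 = 1 := by
  have hgd' : (g : V →ₗ[K] V) ^ d = 1 := by
    apply LinearMap.ext
    intro x
    have h1 : (g ^ d) x = x := by rw [hgd]; rfl
    rw [LinearEquiv.pow_apply] at h1
    rw [Module.End.pow_apply]
    exact h1
  ext v
  have := sq_eq_one_of_splits h2 q hq (g : V →ₗ[K] V) hg d hd (hK d hd) hgd' v
  simpa [pow_two] using this

end Groth.Agent.S15165
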