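import Groth.Statements.S15166
import Mathlib
-- import your own Groth.Agent.* helpers here

set_option autoImplicit false
set_option linter.style.haveILetI false
set_option linter.unusedSectionVars false
universe u v
open Polynomial
open BddFin

namespace Groth.Agent.S15166

open Module

section iso
variable {K : Type u} [Field K] {V : Type v} [AddCommGroup V] [Module K V]
  (q : QuadraticForm K V) (f : V →ₗ[K] V)

lemma eig_sq (hq : q.Anisotropic) (hf : ∀ x, q (f x) = q x) {a : K} {v : V} (hv : v ≠ 0)
    (h : f v = a • v) : a * a = 1 := by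
  have h1 := hf v
  rw [h, QuadraticMap.map_smul] at h1
  have hqv : q v ≠ 0 := fun h0 => hv (hq v h0)
  have h3 : (a * a - 1) * q v = 0 := by
    rw [sub_mul, one_mul]
    exact sub_eq_zero.mpr (by simpa [smul_eq_mul] using h1)
  rcases mul_eq_zero.mp h3 with h4 | h4
  · exact sub_eq_zero.mp h4
  · exact absurd h4 hqv

lemma ker_sq (hq : q.Anisotropic) (h2 : (2 : K) ≠ 0) (hf : ∀ x, q (f x) = q x) (a : K) (w : V)
    (h : f (f w - a • w) = a • (f w - a • w)) : f w = a • w := by
  by_contra hne
  have hv0 : f w - a • w ≠ 0 := fun h0 => hne (sub_eq_zero.mp h0)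
  have ha := eig_sq q f hq hf hv0 h
  have hpol : QuadraticMap.polar q (f (f w - a • w)) (f w) = QuadraticMap.polar q (f w - a • w) w := by
    simp only [QuadraticMap.polar, ← map_add, hf]
  have hfw : f w = a • w + (f w - a • w) := by abel
  rw [h] at hpol
  generalize f w - a • w = v at *
  rw [hfw, QuadraticMap.polar_add_right, QuadraticMap.polar_smul_left, QuadraticMap.polar_smul_right,
    QuadraticMap.polar_smul_left, QuadraticMap.polar_self, smul_smul, ha, one_smul] at hpol
  have h5 : a * (2 * q v) = 0 := by
    have := add_left_cancel (a := QuadraticMap.polar q v w) (b := a • (2 • q v)) (c := 0)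
      (by rw [add_zero]; exact hpol)
    simpa [smul_eq_mul] using this
  have ha0 : a ≠ 0 := by
    intro h0; rw [h0, mul_zero] at ha; exact zero_ne_one ha
  have : q v = 0 := by
    rcases mul_eq_zero.mp h5 with h6 | h6
    · exact absurd h6 ha0
    · rcases mul_eq_zero.mp h6 with h7 | h7
      · exact absurd h7 h2
      · exact h7
  exact hv0 (hq v this)

lemma ker_pow (hq : q.Anisotropic) (h2 : (2 : K) ≠ 0) (hf : ∀ x, q (f x) = q x) (a : K) (k : ℕ)
    (x : V) (h : ((f - a • (1 : Module.End K V)) ^ (k + 1)) x = 0) : f x = a • x := by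
  induction k generalizing x with
  | zero =>
    have : f x - a • x = 0 := by simpa using h
    exact sub_eq_zero.mp this
  | succ k ih =>
    have h' : ((f - a • (1 : Module.End K V)) ^ (k + 1)) ((f - a • (1 : Module.End K V)) x) = 0 := by
      rw [pow_succ] at h; exact h
    have := ih _ h'
    apply ker_sq q f hq h2 hf a x
    simpa using this

lemma aeval_comm (p : K[X]) (w : V) : aeval f p (f w) = f (aeval f p w) := by
  have h1 : aeval f (p * X) = aeval f (X * p) := by rw [mul_comm]
  rw [map_mul, map_mul, aeval_X] at h1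
  exact LinearMap.congr_fun h1 w

lemma invol_of_sq (hq : q.Anisotropic) (h2 : (2 : K) ≠ 0) (hf : ∀ x, q (f x) = q x) (v : V)
    (hh : f (f (f (f v) - v)) = f (f v) - v) : f (f v) = v := by
  simp only [map_sub] at hh
  have s1 : f (f (f v) + (2 : K) • f v + v) = (1 : K) • (f (f v) + (2 : K) • f v + v) := by
    apply ker_sq q f hq h2 hf
    simp only [map_sub, map_add, map_smul]
    linear_combination (norm := module) hh
  simp only [map_sub, map_add, map_smul] at s1
  have s2 : f (f v - v) = (-1 : K) • (f v - v) := by
    apply ker_sq q f hq h2 hf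
    simp only [map_sub, map_add, map_smul]
    linear_combination (norm := module) s1
  simp only [map_sub] at s2
  linear_combination (norm := module) s2

lemma sq_of_prod (hq : q.Anisotropic) (h2 : (2 : K) ≠ 0) (hf : ∀ x, q (f x) = q x)
    (S : Multiset K) :
    ∀ v : V, aeval f ((S.map fun a => X - C a).prod) v = 0 → f (f v) = v := by
  induction S using Multiset.induction_on with
  | empty =>
    intro v hv
    have : v = 0 := by simpa using hv
    subst this; simp
  | cons a S ih =>
    intro v hv
    rw [Multiset.map_cons, Multiset.prod_cons, map_mul, Module.End.mul_apply] at hv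
    by_cases hu0 : aeval f ((S.map fun a => X - C a).prod) v = 0
    · exact ih v hu0
    · have hfu : f (aeval f ((S.map fun a => X - C a).prod) v)
          = a • (aeval f ((S.map fun a => X - C a).prod) v) := by
        have : ∀ u : V, aeval f (X - C a) u = f u - a • u := by
          intro u; simp [Module.algebraMap_end_apply]
        rw [this] at hv; exact sub_eq_zero.mp hv
      have ha := eig_sq q f hq hf hu0 hfu
      have hv' : aeval f ((S.map fun a => X - C a).prod) (f (f v) - v) = 0 := by
        rw [map_sub, aeval_comm, aeval_comm, hfu, map_smul, hfu, smul_smul, ha, one_smul, sub_self]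
      exact invol_of_sq q f hq h2 hf v (ih _ hv')

lemma invol (hK : ∀ n : ℕ, 0 < n → (X ^ n - 1 : K[X]).Splits) (h2 : (2 : K) ≠ 0)
    (hq : q.Anisotropic) (hf : ∀ x, q (f x) = q x) (n : ℕ) (hn : 0 < n)
    (hfn : f ^ n = 1) (v : V) : f (f v) = v := by
  have hs := hK n hn
  have hmon : (X ^ n - 1 : K[X]).Monic := monic_X_pow_sub_C 1 hn.ne'
  have hprod := hs.eq_prod_roots_of_monic hmon
  apply sq_of_prod q f hq h2 hf (X ^ n - 1 : K[X]).roots v
  rw [← hprod]
  simp [hfn]

end iso



/-- Let K be a field of characteristic different from 2 such that K contains all roots of unity (for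
every n ≥ 1 the polynomial X^n − 1 splits into linear factors over K), V a finite-dimensional
K-vector space and q a quadratic form on V that does not represent zero. Then every finite subgroup
of the group of K-linear automorphisms of V preserving q is abelian and has order at most 2 ^ (dim
V). (The published statement also covers perfect fields of characteristic 2; this row is the case of
characteristic ≠ 2.) -/
theorem result
    (K : Type u) [Field K] (hK : ∀ n : ℕ, 0 < n → (X ^ n - 1 : K[X]).Splits) (h2 : (2 : K) ≠ 0)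
    (V : Type v) [AddCommGroup V] [Module K V] [FiniteDimensional K V]
    (q : QuadraticForm K V) (hq : q.Anisotropic)
    (G : Subgroup (V ≃ₗ[K] V)) [Finite G] (hG : ∀ g ∈ G, ∀ x : V, q (g x) = q x) :
    (∀ g ∈ G, ∀ h ∈ G, g * h = h * g) ∧ Nat.card G ≤ 2 ^ Module.finrank K V := by
  have hinv : ∀ g ∈ G, ∀ v : V, g (g v) = v := by
    intro g hg v
    have hfin : IsOfFinOrder (⟨g, hg⟩ : G) := isOfFinOrder_of_finite _
    obtain ⟨n, hn, hgn⟩ := hfin.exists_pow_eq_one
    have hgn' : g ^ n = 1 := by
      have := congrArg Subtype.val hgn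
      simpa using this
    have hfn : ((g : V ≃ₗ[K] V) : V →ₗ[K] V) ^ n = 1 := by
      have h3 : (LinearEquiv.automorphismGroup.toLinearMapMonoidHom (R := K) (M := V) g) ^ n = 1 := by
        rw [← map_pow, hgn', map_one]
      exact h3
    exact invol q (g : V →ₗ[K] V) hK h2 hq (fun x => hG g hg x) n hn hfn v
  have hsq : ∀ g ∈ G, g * g = 1 := fun g hg => LinearEquiv.ext fun v => by
    simpa using hinv g hg v
  have hcomm : ∀ g ∈ G, ∀ h ∈ G, g * h = h * g := by
    intro g hg h hh
    have e1 : g = g⁻¹ := eq_inv_of_mul_eq_one_left (hsq g hg)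
    have e2 : h = h⁻¹ := eq_inv_of_mul_eq_one_left (hsq h hh)
    have e3 : g * h = (g * h)⁻¹ := eq_inv_of_mul_eq_one_left (hsq (g * h) (G.mul_mem hg hh))
    calc g * h = (g * h)⁻¹ := e3
      _ = h⁻¹ * g⁻¹ := mul_inv_rev _ _
      _ = h * g := by rw [← e1, ← e2]
  refine ⟨hcomm, ?_⟩
  classical
  let F : G → Module.End K V := fun g => ((g : V ≃ₗ[K] V) : V →ₗ[K] V)
  have hFiso : ∀ g : G, ∀ x, q (F g x) = q x := fun g x => hG g.1 g.2 x
  have hFinv : ∀ g : G, ∀ x, F g (F g x) = x := fun g x => hinv g.1 g.2 x
  have hFcomm : ∀ g h : G, Commute (F g) (F h) := by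
    intro g h
    show F g * F h = F h * F g
    ext v
    have := congrArg (fun e : V ≃ₗ[K] V => e v) (hcomm g.1 g.2 h.1 h.2)
    simpa [F] using this
  have h2i : (2 : K)⁻¹ * 2 = 1 := inv_mul_cancel₀ h2
  have hFtri : ∀ g : G, ⨆ μ, (F g).maxGenEigenspace μ = ⊤ := by
    intro g
    rw [eq_top_iff]
    intro v _
    have hv : v = (2 : K)⁻¹ • (v + F g v) + (2 : K)⁻¹ • (v - F g v) := by
      rw [← smul_add]
      have : (v + F g v) + (v - F g v) = (2 : K) • v := by rw [two_smul]; abel
      rw [this, smul_smul, h2i, one_smul]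
    rw [hv]
    refine Submodule.add_mem _ (Submodule.smul_mem _ _ ?_) (Submodule.smul_mem _ _ ?_)
    · refine Submodule.mem_iSup_of_mem 1 ?_
      rw [Module.End.mem_maxGenEigenspace]
      refine ⟨1, ?_⟩
      simp only [pow_one, LinearMap.sub_apply, LinearMap.smul_apply, Module.End.one_apply,
        map_add, map_sub, hFinv]
      module
    · refine Submodule.mem_iSup_of_mem (-1) ?_
      rw [Module.End.mem_maxGenEigenspace]
      refine ⟨1, ?_⟩
      simp only [pow_one, LinearMap.sub_apply, LinearMap.smul_apply, Module.End.one_apply,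
        map_add, map_sub, hFinv]
      module
  have htop := Module.End.iSup_iInf_maxGenEigenspace_eq_top_of_iSup_maxGenEigenspace_eq_top_of_commute
    F (fun g h _ => hFcomm g h) hFtri
  have hind := Module.End.independent_iInf_maxGenEigenspace_of_forall_mapsTo F
    (fun i j φ => Module.End.mapsTo_maxGenEigenspace_of_comm (hFcomm j i) φ)
  haveI := hind.fintypeNeBotOfFiniteDimensional
  have hcard := hind.subtype_ne_bot_le_finrank
  have heig : ∀ (χ : G → K) (x : V), x ∈ ⨅ i, (F i).maxGenEigenspace (χ i) →
      ∀ g, F g x = χ g • x := by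
    intro χ x hx g
    rw [Module.End.mem_iInf_maxGenEigenspace_iff] at hx
    obtain ⟨k, hk⟩ := hx g
    rcases k with _ | k
    · have : x = 0 := by simpa using hk
      subst this; simp
    · exact ker_pow q (F g) hq h2 (hFiso g) (χ g) k x hk
  let Φ : G → ({χ : G → K // (⨅ i, (F i).maxGenEigenspace (χ i)) ≠ ⊥} → Bool) :=
    fun g χ => decide (χ.1 g = 1)
  have hne : (1 : K) ≠ -1 := by
    intro h1
    apply h2
    have : (2 : K) = 1 + 1 := by norm_num
    rw [this]
    nth_rewrite 2 [h1]
    simp
  have hΦ : Function.Injective Φ := by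
    intro g h hgh
    apply Subtype.ext
    apply LinearEquiv.ext
    intro v
    have hv : v ∈ ⨆ χ : G → K, ⨅ i, (F i).maxGenEigenspace (χ i) := by rw [htop]; trivial
    refine Submodule.iSup_induction (fun χ : G → K => ⨅ i, (F i).maxGenEigenspace (χ i))
      (motive := fun v => g.1 v = h.1 v) hv ?_ ?_ ?_
    · intro χ x hx
      by_cases hx0 : x = 0
      · simp [hx0]
      · have hχ : (⨅ i, (F i).maxGenEigenspace (χ i)) ≠ ⊥ := by
          intro hbot
          rw [hbot] at hx
          exact hx0 ((Submodule.mem_bot K).mp hx)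
        have hg1 := heig χ x hx g
        have hh1 := heig χ x hx h
        have sg := eig_sq q (F g) hq (hFiso g) hx0 hg1
        have sh := eig_sq q (F h) hq (hFiso h) hx0 hh1
        have key := congrFun hgh ⟨χ, hχ⟩
        simp only [Φ, decide_eq_decide] at key
        have hχeq : χ g = χ h := by
          rcases mul_self_eq_one_iff.mp sg with a1 | a1 <;>
            rcases mul_self_eq_one_iff.mp sh with b1 | b1
          · rw [a1, b1]
          · exact absurd (key.mp a1) (by rw [b1]; exact hne.symm)
          · exact absurd (key.mpr b1) (by rw [a1]; exact hne.symm)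
          · rw [a1, b1]
        show F g x = F h x
        rw [hg1, hh1, hχeq]
    · simp
    · intro x y hx hy
      simp [hx, hy]
  calc Nat.card G
      ≤ Nat.card ({χ : G → K // (⨅ i, (F i).maxGenEigenspace (χ i)) ≠ ⊥} → Bool) :=
        Nat.card_le_card_of_injective Φ hΦ
    _ = 2 ^ Nat.card {χ : G → K // (⨅ i, (F i).maxGenEigenspace (χ i)) ≠ ⊥} := by
        rw [Nat.card_fun]; simp
    _ ≤ 2 ^ Module.finrank K V :=
        Nat.pow_le_pow_right (by norm_num) (by rw [Nat.card_eq_fintype_card]; exact hcard)

end Groth.Agent.S15166
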