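import Groth.Statements.S15169
import Groth.Agent.Lib.LeadDegP
import Mathlib

set_option autoImplicit false
universe u v
open BddFin

namespace Groth.Agent.S15169

/-- (1) ⇒ (2): let K be a field with char K = p > 0 and A a central division K-algebra with dim_K A = p
^ 2. If some element of A is not separable over K, then there are v, u in A with v ^ p and u ^ p in
K and v * u - u * v = 1 which generate A as a K-algebra. -/
theorem result
    (K : Type u) [Field K] (p : ℕ) [Fact p.Prime] [CharP K p]
    (A : Type v) [DivisionRing A] [Algebra K A] [Algebra.IsCentral K A] [FiniteDimensional K A]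
    (hA : Module.finrank K A = p ^ 2) (h : ∃ v : A, ¬ IsSeparable K v) :
    ∃ v u : A, v ^ p ∈ (algebraMap K A).range ∧ u ^ p ∈ (algebraMap K A).range ∧ v * u - u * v = 1 ∧
      Algebra.adjoin K {v, u} = ⊤ := by

  classical
  obtain ⟨v, hvsep⟩ := h
  have hp : p.Prime := Fact.out
  have hvK : v ∉ Set.range (algebraMap K A) := by
    rintro ⟨c, rfl⟩; exact hvsep (isSeparable_algebraMap c)
  obtain ⟨hdimB, hcentB⟩ := Groth.Agent.Lib.LeadDegP.finrank_adjoin_singleton K p A hp hA v hvK
  have hvB : v ∈ Algebra.adjoin K {v} := Algebra.subset_adjoin (Set.mem_singleton v)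
  -- Step 2: v ^ p ∈ K
  have hint : IsIntegral K v := (Algebra.IsIntegral.of_finite K A).isIntegral v
  have hirr : Irreducible (minpoly K v) := minpoly.irreducible hint
  obtain ⟨g, hgirr, hg⟩ : ∃ g : Polynomial K, Irreducible g ∧ Polynomial.expand K p g = minpoly K v := by
    rcases Polynomial.separable_or p hirr with h | ⟨-, h⟩
    · exact absurd h hvsep
    · exact h
  have hdegle : (minpoly K v).natDegree ≤ p := by
    have hcomm : ∀ a ∈ ({v} : Set A), ∀ b ∈ ({v} : Set A), a * b = b * a := by
      intro a ha b hb
      rw [Set.mem_singleton_iff] at ha hb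
      rw [ha, hb]
    have h1 : minpoly K (⟨v, hvB⟩ : Algebra.adjoin K {v}) = minpoly K v :=
      (minpoly.algHom_eq (Algebra.adjoin K {v}).val Subtype.val_injective ⟨v, hvB⟩).symm
    rw [← h1, ← hdimB]; exact minpoly.natDegree_le _
  have hgdeg : g.natDegree = 1 := by
    have h1 : (minpoly K v).natDegree = g.natDegree * p := by
      rw [← hg, Polynomial.natDegree_expand]
    have h2 : 0 < g.natDegree := hgirr.natDegree_pos
    rw [h1] at hdegle
    have : g.natDegree ≤ 1 := by
      by_contra hcon
      push Not at hcon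
      have h3 : 2 * p ≤ g.natDegree * p := Nat.mul_le_mul_right p hcon
      have := hp.pos
      omega
    omega
  have hvp : v ^ p ∈ (algebraMap K A).range := by
    have h0 : Polynomial.aeval v (Polynomial.expand K p g) = 0 := by
      rw [hg]; exact minpoly.aeval K v
    rw [Polynomial.expand_aeval] at h0
    have hgform := Polynomial.eq_X_add_C_of_natDegree_le_one (le_of_eq hgdeg)
    rw [hgform] at h0
    simp only [map_add, map_mul, Polynomial.aeval_C, Polynomial.aeval_X] at h0
    have hb : g.coeff 1 ≠ 0 := by
      have := Polynomial.leadingCoeff_ne_zero.mpr hgirr.ne_zero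
      rwa [Polynomial.leadingCoeff, hgdeg] at this
    have hb' : algebraMap K A (g.coeff 1) ≠ 0 := by
      rw [Ne, map_eq_zero_iff _ (algebraMap K A).injective]; exact hb
    refine ⟨-(g.coeff 0) / g.coeff 1, ?_⟩
    have h1 : algebraMap K A (g.coeff 1) * v ^ p = -algebraMap K A (g.coeff 0) :=
      eq_neg_of_add_eq_zero_left h0
    rw [map_div₀, map_neg, ← h1, Algebra.commutes, mul_div_assoc, div_self hb', mul_one]
  -- Step 3: the derivation ad v
  obtain ⟨a, ha⟩ := hvp
  let D : Module.End K A := LinearMap.mulLeft K v - LinearMap.mulRight K v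
  have hDapp : ∀ x, D x = v * x - x * v := fun x => rfl
  have hDp : D ^ p = 0 := by
    haveI : CharP (Module.End K A) p :=
      charP_of_injective_algebraMap (algebraMap K (Module.End K A)).injective p
    rw [sub_pow_char_of_commute p (LinearMap.commute_mulLeft_right v v), LinearMap.pow_mulLeft,
      LinearMap.pow_mulRight, ← ha]
    ext x
    simp [Algebra.commutes]
  have hDne : ∃ y, D y ≠ 0 := by
    by_contra hcon
    push Not at hcon
    apply hvK
    have hc : v ∈ Subalgebra.center K A := by
      rw [Subalgebra.mem_center_iff]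
      intro x
      have := hcon x
      rw [hDapp, sub_eq_zero] at this
      exact this.symm
    rw [Algebra.IsCentral.center_eq_bot K A] at hc
    exact Algebra.mem_bot.mp hc
  obtain ⟨y, hy⟩ := hDne
  have hex : ∃ n, (D ^ n) y = 0 := ⟨p, by rw [hDp]; rfl⟩
  set n := Nat.find hex with hn
  have hnspec : (D ^ n) y = 0 := Nat.find_spec hex
  have hn2 : 2 ≤ n := by
    by_contra hcon
    push Not at hcon
    interval_cases n
    · simp at hnspec
      rw [hnspec] at hy
      simp at hy
    · simp at hnspec
      exact hy hnspec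
  obtain ⟨m, hm⟩ : ∃ m, n = m + 2 := ⟨n - 2, by omega⟩
  set z : A := (D ^ m) y with hz
  have hDz : D z ≠ 0 := by
    intro h0
    have : (D ^ (m + 1)) y = 0 := by rw [pow_succ', Module.End.mul_apply]; exact h0
    have := Nat.find_min' hex this
    omega
  have hDDz : D (D z) = 0 := by
    have : (D ^ (m + 2)) y = 0 := by rw [← hm]; exact hnspec
    rw [pow_succ', pow_succ', Module.End.mul_apply, Module.End.mul_apply] at this
    exact this
  set c : A := D z with hc
  have hcv : v * c = c * v := by
    have := hDDz
    rw [hDapp, sub_eq_zero] at this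
    exact this
  have hcinv : v * c⁻¹ = c⁻¹ * v := by
    calc v * c⁻¹ = c⁻¹ * c * v * c⁻¹ := by rw [inv_mul_cancel₀ hDz, one_mul]
      _ = c⁻¹ * (v * c) * c⁻¹ := by rw [hcv, ← mul_assoc]
      _ = c⁻¹ * v := by
        rw [mul_assoc c⁻¹ (v * c) c⁻¹, mul_assoc v c c⁻¹, mul_inv_cancel₀ hDz, mul_one]
  set u : A := c⁻¹ * z with hu
  have hvu : v * u - u * v = 1 := by
    rw [hu, ← mul_assoc, hcinv, mul_assoc, mul_assoc, ← mul_sub, ← hDapp, ← hc,
      inv_mul_cancel₀ hDz]
  -- Step 5: generation
  set S : Subalgebra K A := Algebra.adjoin K {v, u} with hS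
  have hvS : v ∈ S := Algebra.subset_adjoin (by simp)
  have huS : u ∈ S := Algebra.subset_adjoin (by simp)
  have hBS : Algebra.adjoin K {v} ≤ S := Algebra.adjoin_mono (by simp)
  haveI : IsSimpleRing S := by
    letI := divisionRingOfFiniteDimensional K S
    infer_instance
  have hCS : Subalgebra.centralizer K (S : Set A) = ⊥ := by
    rw [eq_bot_iff]
    intro x hx
    rw [Subalgebra.mem_centralizer_iff] at hx
    by_contra hxK
    have hxK' : x ∉ Set.range (algebraMap K A) := fun h => hxK (Algebra.mem_bot.mpr h)
    have hxB : x ∈ Algebra.adjoin K {v} := by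
      rw [← hcentB, Subalgebra.mem_centralizer_iff]
      intro b hb
      exact hx b (hBS hb)
    obtain ⟨hdimx, -⟩ := Groth.Agent.Lib.LeadDegP.finrank_adjoin_singleton K p A hp hA x hxK'
    have hle : Algebra.adjoin K {x} ≤ Algebra.adjoin K {v} :=
      Algebra.adjoin_le (by simpa using hxB)
    have heq : Algebra.adjoin K {x} = Algebra.adjoin K {v} := by
      apply Subalgebra.toSubmodule_injective
      exact Submodule.eq_of_le_of_finrank_eq hle (by
        rw [Subalgebra.finrank_toSubmodule, Subalgebra.finrank_toSubmodule, hdimx, hdimB])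
    have hvx : v ∈ Algebra.adjoin K {x} := heq ▸ hvB
    have hcomm_u : Algebra.adjoin K {x} ≤ Subalgebra.centralizer K ({u} : Set A) := by
      apply Algebra.adjoin_le
      intro w hw
      rw [Set.mem_singleton_iff] at hw
      rw [hw, SetLike.mem_coe, Subalgebra.mem_centralizer_iff]
      intro w' hw'
      rw [Set.mem_singleton_iff] at hw'
      rw [hw']
      exact hx u huS
    have h3 := hcomm_u hvx
    rw [Subalgebra.mem_centralizer_iff] at h3
    have h1 := h3 u (Set.mem_singleton u)
    rw [h1, sub_self] at hvu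
    exact zero_ne_one hvu
  have hStop : S = ⊤ := by
    have h1 := Groth.Agent.Lib.LeadCSA.double_centralizer S
    rw [hCS] at h1
    rw [← h1, Subalgebra.centralizer_eq_top_iff_subset]
    intro y hy
    obtain ⟨c', rfl⟩ := Algebra.mem_bot.mp hy
    exact Subalgebra.algebraMap_mem _ c'
  -- u ^ p is central
  haveI : CharP A p := charP_of_injective_algebraMap (algebraMap K A).injective p
  have hpow : ∀ n : ℕ, v * u ^ (n + 1) - u ^ (n + 1) * v = ((n + 1 : ℕ) : A) * u ^ n := by
    intro n
    induction n with
    | zero => simpa using hvu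
    | succ n ih =>
      have e : v * u ^ (n + 1 + 1) - u ^ (n + 1 + 1) * v =
          (v * u ^ (n + 1) - u ^ (n + 1) * v) * u + u ^ (n + 1) * (v * u - u * v) := by
        rw [pow_succ u (n + 1)]
        noncomm_ring
      rw [e, ih, hvu, mul_one]
      push_cast
      rw [pow_succ u n]
      noncomm_ring
  have hvup : v * u ^ p = u ^ p * v := by
    obtain ⟨q, hq⟩ : ∃ q, p = q + 1 := ⟨p - 1, by have := hp.pos; omega⟩
    have h1 := hpow q
    rw [← hq, CharP.cast_eq_zero, zero_mul, sub_eq_zero] at h1
    exact h1
  have hup_c : u ^ p ∈ Subalgebra.centralizer K ({v, u} : Set A) := by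
    rw [Subalgebra.mem_centralizer_iff]
    intro g hg
    rcases hg with rfl | hg
    · exact hvup
    · rw [Set.mem_singleton_iff] at hg
      rw [hg]
      exact (pow_mul_comm' u p).symm
  have hup : u ^ p ∈ (algebraMap K A).range := by
    have h1 : u ^ p ∈ Subalgebra.center K A := by
      rw [Subalgebra.mem_center_iff]
      intro x
      have hxS : x ∈ S := hStop ▸ Algebra.mem_top
      have h2 := Algebra.adjoin_le_centralizer_centralizer K ({v, u} : Set A) hxS
      rw [Subalgebra.mem_centralizer_iff] at h2
      exact (h2 (u ^ p) hup_c).symm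
    rw [Algebra.IsCentral.center_eq_bot K A] at h1
    exact Algebra.mem_bot.mp h1
  exact ⟨v, u, ⟨a, ha⟩, hup, hvu, hStop⟩

end Groth.Agent.S15169
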