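import Groth.Statements.S1517
import Mathlib

set_option autoImplicit false
universe u
open Brauer

namespace Groth.Agent.S1517

open scoped Pointwise

/-- Let A be a ring with no nontrivial two-sided ideals and M a nonzero right ideal, viewed as a right
A-module with endomorphism ring A'. Then every A'-linear endomorphism of M is right multiplication
by exactly one element of A; that is, the natural map from A to the bicommutant of M is a bijection. -/
theorem result (A : Type u) [Ring A] [IsSimpleRing A]
    (M : Submodule Aᵐᵒᵖ A) (hM : M ≠ ⊥)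
    (g : Module.End (Module.End Aᵐᵒᵖ M) M) :
    ∃! a : A, ∀ m : M, (g m : A) = (m : A) * a := by
  classical
  -- `M` is a right ideal
  have hMr : ∀ (x : A), x ∈ M → ∀ a : A, x * a ∈ M := by
    intro x hx a
    have := M.smul_mem (MulOpposite.op a) hx
    simpa using this
  -- left multiplication by `x` with `x * M ⊆ M` as an endomorphism of the right module `M`
  let L : ∀ x : A, (∀ m' : A, m' ∈ M → x * m' ∈ M) → Module.End Aᵐᵒᵖ M := fun x hx =>
    { toFun := fun m' => ⟨x * m', hx m' m'.2⟩
      map_add' := fun a b => Subtype.ext (by simp [mul_add])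
      map_smul' := fun a b => Subtype.ext (by simp [mul_assoc]) }
  have hg : ∀ (x : A) (hx : ∀ m' : A, m' ∈ M → x * m' ∈ M) (m' : M),
      ((g ⟨x * m', hx m' m'.2⟩ : M) : A) = x * (g m' : A) := by
    intro x hx m'
    have := g.map_smul (L x hx) m'
    have h2 : (L x hx) • m' = ⟨x * m', hx m' m'.2⟩ := rfl
    have h3 : (L x hx) • (g m') = ⟨x * (g m' : A), hx _ (g m').2⟩ := rfl
    rw [h2, h3] at this
    exact congrArg Subtype.val this
  -- the two-sided ideal generated by `M` is everything
  have hspan : TwoSidedIdeal.span (M : Set A) = ⊤ := by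
    rcases eq_bot_or_eq_top (TwoSidedIdeal.span (M : Set A)) with h | h
    · exfalso
      apply hM
      rw [eq_bot_iff]
      intro x hx
      have : x ∈ TwoSidedIdeal.span (M : Set A) := TwoSidedIdeal.subset_span hx
      rw [h, TwoSidedIdeal.mem_bot] at this
      rw [this]; exact Submodule.zero_mem _
    · exact h
  have h1 : (1 : A) ∈ TwoSidedIdeal.span (M : Set A) := by rw [hspan]; trivial
  rw [TwoSidedIdeal.mem_span_iff_mem_addSubgroup_closure] at h1
  -- key claim, by induction on the closure
  have key : ∀ z : A, z ∈ AddSubgroup.closure ((Set.univ : Set A) * (M : Set A) * Set.univ) →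
      ∃ b : A, ∀ m : M, ((g ⟨(m : A) * z, hMr _ m.2 z⟩ : M) : A) = (m : A) * b := by
    intro z hz
    induction hz using AddSubgroup.closure_induction with
    | mem z hz =>
      obtain ⟨y, ⟨a, -, m₀, hm₀, rfl⟩, w, -, rfl⟩ := hz
      have hm₀w : m₀ * w ∈ M := hMr _ hm₀ w
      refine ⟨a * (g ⟨m₀ * w, hm₀w⟩ : A), fun m => ?_⟩
      have hx : ∀ m' : A, m' ∈ M → ((m : A) * a) * m' ∈ M := by
        intro m' _
        rw [mul_assoc]
        exact hMr _ m.2 _
      have := hg ((m : A) * a) hx ⟨m₀ * w, hm₀w⟩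
      have e : (⟨(m : A) * (a * m₀ * w), hMr _ m.2 _⟩ : M) =
          ⟨(m : A) * a * ((⟨m₀ * w, hm₀w⟩ : M) : A), hx _ hm₀w⟩ :=
        Subtype.ext (by simp [mul_assoc])
      exact (congrArg (fun t => ((g t : M) : A)) e).trans (this.trans (mul_assoc _ _ _))
    | zero =>
      refine ⟨0, fun m => ?_⟩
      have : (⟨(m : A) * 0, hMr _ m.2 0⟩ : M) = 0 := Subtype.ext (by simp)
      rw [this, map_zero]; simp
    | add z w _ _ hz hw =>
      obtain ⟨b, hb⟩ := hz
      obtain ⟨c, hc⟩ := hw
      refine ⟨b + c, fun m => ?_⟩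
      have : (⟨(m : A) * (z + w), hMr _ m.2 _⟩ : M) =
          ⟨(m : A) * z, hMr _ m.2 _⟩ + ⟨(m : A) * w, hMr _ m.2 _⟩ := Subtype.ext (by simp [mul_add])
      rw [this, map_add, Submodule.coe_add, hb, hc, mul_add]
    | neg z _ hz =>
      obtain ⟨b, hb⟩ := hz
      refine ⟨-b, fun m => ?_⟩
      have : (⟨(m : A) * (-z), hMr _ m.2 _⟩ : M) = -⟨(m : A) * z, hMr _ m.2 _⟩ :=
        Subtype.ext (by simp)
      rw [this, map_neg, Submodule.coe_neg, hb, mul_neg]
  obtain ⟨b, hb⟩ := key 1 h1
  refine ⟨b, fun m => ?_, ?_⟩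
  · have := hb m
    have h2 : (⟨(m : A) * 1, hMr _ m.2 1⟩ : M) = m := Subtype.ext (by simp)
    rw [h2] at this
    exact this
  · intro b' hb'
    -- the right annihilator of `M` is a proper two-sided ideal
    let J : TwoSidedIdeal A := TwoSidedIdeal.mk' {x | ∀ m : A, m ∈ M → m * x = 0}
      (by intro m _; simp)
      (by intro x y hx hy m hm; rw [mul_add, hx m hm, hy m hm, add_zero])
      (by intro x hx m hm; rw [mul_neg, hx m hm, neg_zero])
      (by intro x y hy m hm; rw [← mul_assoc]; exact hy _ (hMr _ hm x))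
      (by intro x y hx m hm; rw [← mul_assoc, hx m hm, zero_mul])
    have hJ : J = ⊥ := by
      rcases eq_bot_or_eq_top J with h | h
      · exact h
      · exfalso
        have h1J : (1 : A) ∈ J := by rw [h]; trivial
        rw [TwoSidedIdeal.mem_mk'] at h1J
        apply hM
        rw [eq_bot_iff]
        intro x hx
        have := h1J x hx
        rw [mul_one] at this
        rw [this]; exact Submodule.zero_mem _
    have hmem : b' - b ∈ J := by
      rw [TwoSidedIdeal.mem_mk']
      intro m hm
      have e1 := hb' ⟨m, hm⟩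
      have e2 := hb ⟨m, hm⟩
      have h2 : (⟨m * 1, hMr _ hm 1⟩ : M) = ⟨m, hm⟩ := Subtype.ext (by simp)
      rw [h2] at e2
      rw [mul_sub, ← e1, ← e2, sub_self]
    rw [hJ, TwoSidedIdeal.mem_bot] at hmem
    exact sub_eq_zero.mp hmem

end Groth.Agent.S1517
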