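import Groth.Statements.S15170
import Groth.Agent.Lib.LeadCSA
import Mathlib

set_option autoImplicit false
universe u v
open BddFin

namespace Groth.Agent.S15170

/-- (2) ⇒ (3): let K be a field with char K = p > 0 and A a central division K-algebra with dim_K A = p
^ 2. If v, u in A satisfy v ^ p ∈ K, u ^ p ∈ K and v * u - u * v = 1, then some Galois extension L
of K with [L : K] = p admits a K-algebra embedding into A (so A has a Galois subfield of degree p
over K). -/
theorem result
    (K : Type u) [Field K] (p : ℕ) [Fact p.Prime] [CharP K p]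
    (A : Type v) [DivisionRing A] [Algebra K A] [Algebra.IsCentral K A] [FiniteDimensional K A]
    (hA : Module.finrank K A = p ^ 2) (v u : A) (hv : v ^ p ∈ (algebraMap K A).range)
    (hu : u ^ p ∈ (algebraMap K A).range) (hvu : v * u - u * v = 1) :
    ∃ (L : Type v) (_ : Field L) (_ : Algebra K L), IsGalois K L ∧ Module.finrank K L = p ∧
      Nonempty (L →ₐ[K] A) := by

  classical
  have hp : p.Prime := Fact.out
  have hv0 : v ≠ 0 := by
    rintro rfl
    simp at hvu
  set t : A := u * v with ht
  have hvu' : v * u = u * v + 1 := by rw [← hvu]; abel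
  have hvt : v * t = (t + 1) * v := by rw [ht, ← mul_assoc, hvu', add_mul, one_mul]
  -- conjugation by v
  let φ : A →ₐ[K] A :=
    { toFun := fun x => v * x * v⁻¹
      map_one' := by simp [hv0]
      map_mul' := fun x y => by
        simp only [mul_assoc]
        rw [inv_mul_cancel_left₀ hv0]
      map_zero' := by simp
      map_add' := fun x y => by simp [mul_add, add_mul]
      commutes' := fun c => by
        rw [← Algebra.commutes, mul_assoc, mul_inv_cancel₀ hv0, mul_one] }
  have hφ : ∀ x, φ x = v * x * v⁻¹ := fun x => rfl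
  have hφt : φ t = t + 1 := by
    rw [hφ, hvt, mul_assoc, mul_inv_cancel₀ hv0, mul_one]
  let B : Subalgebra K A := Algebra.adjoin K {t}
  have htB : t ∈ B := Algebra.subset_adjoin (Set.mem_singleton t)
  have hcomm : ∀ a ∈ ({t} : Set A), ∀ b ∈ ({t} : Set A), a * b = b * a := by
    intro a ha b hb
    rw [Set.mem_singleton_iff] at ha hb
    rw [ha, hb]
  letI : CommRing B := Algebra.adjoinCommRingOfComm K hcomm
  have hBfield : IsField B := IsField.of_isDomain_of_finite K B
  haveI hBsimple : IsSimpleRing B := (isSimpleRing_iff_isField B).mpr hBfield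
  -- dimension of B
  have hBne : B ≠ ⊥ := by
    intro hbot
    have : t ∈ (⊥ : Subalgebra K A) := hbot ▸ htB
    obtain ⟨c, hc⟩ := Algebra.mem_bot.mp this
    have h1 : v * t = t * v := by rw [← hc]; exact (Algebra.commutes c v).symm
    rw [hvt, add_mul, one_mul] at h1
    exact hv0 (by simpa using h1)
  have hdimB : Module.finrank K B = p := by
    have hC := Groth.Agent.Lib.LeadCSA.centralizer_finrank B
    rw [hA] at hC
    have hBle : B ≤ Subalgebra.centralizer K (B : Set A) := by
      intro x hx
      rw [Subalgebra.mem_centralizer_iff]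
      intro y hy
      have := mul_comm (⟨x, hx⟩ : B) ⟨y, hy⟩
      exact (congrArg Subtype.val this).symm
    have hle : Module.finrank K B ≤ Module.finrank K (Subalgebra.centralizer K (B : Set A)) := by
      have := Submodule.finrank_mono (show Subalgebra.toSubmodule B ≤
        Subalgebra.toSubmodule (Subalgebra.centralizer K (B : Set A)) from hBle)
      simpa using this
    have hdvd : Module.finrank K B ∣ p ^ 2 := ⟨_, hC⟩
    obtain ⟨j, hj, hjeq⟩ := (Nat.dvd_prime_pow hp).mp hdvd
    have hpos : 0 < Module.finrank K B := Module.finrank_pos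
    interval_cases j
    · exfalso
      apply hBne
      rw [pow_zero] at hjeq
      exact Subalgebra.finrank_eq_one_iff.mp hjeq
    · simpa using hjeq
    · exfalso
      rw [hjeq] at hC hle
      have h1 : Module.finrank K (Subalgebra.centralizer K (B : Set A)) = 1 := by
        have hpp : 0 < p ^ 2 := pow_pos hp.pos 2
        have h2 : p ^ 2 * 1 = p ^ 2 * Module.finrank K (Subalgebra.centralizer K (B : Set A)) := by
          rw [mul_one]; exact hC
        exact (Nat.eq_of_mul_eq_mul_left hpp h2).symm
      rw [h1] at hle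
      have : 1 < p ^ 2 := Nat.one_lt_pow (by norm_num) hp.one_lt
      omega
  letI : Field B := hBfield.toField
  have hmapB : ∀ x ∈ B, φ x ∈ B := by
    intro x hx
    have hle : B.map φ ≤ B := by
      rw [show B = Algebra.adjoin K {t} from rfl, AlgHom.map_adjoin, Set.image_singleton, hφt]
      apply Algebra.adjoin_le
      intro y hy
      rw [Set.mem_singleton_iff] at hy
      rw [hy]
      exact B.add_mem htB B.one_mem
    exact hle ⟨x, hx, rfl⟩
  let σ₀ : B →ₐ[K] B := (φ.comp B.val).codRestrict B (fun x => hmapB x x.2)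
  have hσ₀inj : Function.Injective σ₀ := (σ₀ : B →+* B).injective
  let σ : B ≃ₐ[K] B := AlgEquiv.ofBijective σ₀
    ⟨hσ₀inj, (LinearMap.injective_iff_surjective (f := σ₀.toLinearMap)).mp hσ₀inj⟩
  have hσval : ∀ x : B, ((σ x : B) : A) = v * x * v⁻¹ := fun x => rfl
  have hσpow : ∀ (n : ℕ) (x : B), (((σ ^ n) x : B) : A) = v ^ n * x * (v⁻¹) ^ n := by
    intro n
    induction n with
    | zero => intro x; simp
    | succ n ih =>
      intro x
      rw [pow_succ', AlgEquiv.mul_apply, hσval, ih, pow_succ', pow_succ]
      simp only [mul_assoc]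
  have hσp : σ ^ p = 1 := by
    ext x
    rw [hσpow, AlgEquiv.one_apply]
    obtain ⟨c, hc⟩ := hv
    have hne : algebraMap K A c ≠ 0 := by rw [hc]; exact pow_ne_zero _ hv0
    rw [inv_pow, ← hc, Algebra.commutes, mul_assoc, mul_inv_cancel₀ hne, mul_one]
  have hσ1 : σ ≠ 1 := by
    intro h
    have h2 := congrArg (fun τ : B ≃ₐ[K] B => ((τ ⟨t, htB⟩ : B) : A)) h
    simp only [hσval, AlgEquiv.one_apply] at h2
    rw [← hφ, hφt] at h2
    simp at h2
  have hord : orderOf σ = p := orderOf_eq_prime hσp hσ1
  have hcard : Nat.card (B ≃ₐ[K] B) = p := by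
    have h1 : p ∣ Nat.card (B ≃ₐ[K] B) := hord ▸ orderOf_dvd_natCard σ
    have h2 : Nat.card (B ≃ₐ[K] B) ≤ p := by
      rw [Nat.card_eq_fintype_card, ← hdimB]; exact AlgEquiv.card_le
    have h3 : 0 < Nat.card (B ≃ₐ[K] B) := Nat.card_pos
    exact le_antisymm h2 (Nat.le_of_dvd h3 h1)
  haveI : IsGalois K B := IsGalois.of_card_aut_eq_finrank K B (hcard.trans hdimB.symm)
  exact ⟨B, inferInstance, inferInstance, inferInstance, hdimB, ⟨B.val⟩⟩

end Groth.Agent.S15170
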