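import Groth.Statements.S15171
import Groth.Agent.Lib.LeadCSA

set_option autoImplicit false
universe u v w
open BddFin

namespace Groth.Agent.S15171

open Polynomial in
/-- In characteristic `p`, a separable element whose `p`-th power lies in the base field lies in
the base field. -/
theorem mem_range_of_pow_char_of_isSeparable (K : Type u) [Field K] (p : ℕ) [Fact p.Prime]
    [CharP K p] (A : Type v) [Ring A] [Nontrivial A] [Algebra K A] (x : A) (a : K)
    (hx : x ^ p = algebraMap K A a) (hsep : IsSeparable K x) :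
    x ∈ Set.range (algebraMap K A) := by
  have hp : p ≠ 0 := (Fact.out : p.Prime).ne_zero
  have hroot : aeval x (X ^ p - C a : K[X]) = 0 := by simp [hx]
  have hmonic : (X ^ p - C a : K[X]).Monic := monic_X_pow_sub_C a hp
  have hint : IsIntegral K x := ⟨_, hmonic, hroot⟩
  have hdvd : minpoly K x ∣ X ^ p - C a := minpoly.dvd K x hroot
  let Ω := AlgebraicClosure K
  have : CharP Ω p := charP_of_injective_algebraMap (algebraMap K Ω).injective p
  obtain ⟨α, hα⟩ := IsAlgClosed.exists_pow_nat_eq (algebraMap K Ω a) (Nat.pos_of_ne_zero hp)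
  have hmap : (X ^ p - C a : K[X]).map (algebraMap K Ω) = (X - C α) ^ p := by
    rw [sub_pow_char, ← C_pow, hα]
    simp
  have hdvd' : (minpoly K x).map (algebraMap K Ω) ∣ (X - C α) ^ p := by
    rw [← hmap]; exact Polynomial.map_dvd _ hdvd
  have hsq : Squarefree ((minpoly K x).map (algebraMap K Ω)) :=
    (Polynomial.Separable.map hsep).squarefree
  have hdvd1 : (minpoly K x).map (algebraMap K Ω) ∣ X - C α :=
    (hsq.dvd_pow_iff_dvd hp).mp hdvd'
  have hdeg : (minpoly K x).natDegree ≤ 1 := by
    have := Polynomial.natDegree_le_of_dvd hdvd1 (X_sub_C_ne_zero α)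
    rwa [natDegree_map, natDegree_X_sub_C] at this
  have hdeg1 : (minpoly K x).degree = 1 := by
    have hpos : 0 < (minpoly K x).natDegree := minpoly.natDegree_pos hint
    have h1 : (minpoly K x).natDegree = 1 := le_antisymm hdeg hpos
    rw [degree_eq_natDegree (minpoly.ne_zero hint), h1]; rfl
  exact minpoly.mem_range_of_degree_eq_one K x hdeg1

/-- (3) ⇒ (1): let K be a field with char K = p > 0 and A a central division K-algebra with dim_K A = p
^ 2. If some Galois extension L of K with [L : K] = p admits a K-algebra embedding into A, then some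
element of A is not separable over K. -/
theorem result
    (K : Type u) [Field K] (p : ℕ) [Fact p.Prime] [CharP K p]
    (A : Type v) [DivisionRing A] [Algebra K A] [Algebra.IsCentral K A] [FiniteDimensional K A]
    (hA : Module.finrank K A = p ^ 2) (L : Type w) [Field L] [Algebra K L] [IsGalois K L]
    (hL : Module.finrank K L = p) (ι : L →ₐ[K] A) :
    ∃ v : A, ¬ IsSeparable K v := by
  have hp : p.Prime := Fact.out
  have hfinL : FiniteDimensional K L := Module.finite_of_finrank_pos (by rw [hL]; exact hp.pos)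
  have hcard : Nat.card (L ≃ₐ[K] L) = p := by rw [IsGalois.card_aut_eq_finrank, hL]
  have hnt : Nontrivial (L ≃ₐ[K] L) := by
    rw [← Finite.one_lt_card_iff_nontrivial, hcard]; exact hp.one_lt
  obtain ⟨σ, hσ⟩ := exists_ne (1 : L ≃ₐ[K] L)
  have hιinj : Function.Injective ι := RingHom.injective ι.toRingHom
  obtain ⟨x, hx⟩ := Groth.Agent.Lib.LeadCSA.skolem_noether (ι.comp (σ : L →ₐ[K] L)) ι
  have hx' : ∀ b : L, ι (σ b) = (x : A) * ι b * (x⁻¹ : Aˣ) := fun b => by simpa using hx b
  refine ⟨(x : A), fun hsep => ?_⟩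
  -- conjugation by powers
  have hpow : ∀ (n : ℕ) (b : L), ι ((σ ^ n) b) = (x : A) ^ n * ι b * ((x⁻¹ : Aˣ) : A) ^ n := by
    intro n
    induction n with
    | zero => intro b; simp
    | succ n ih =>
      intro b
      rw [pow_succ', AlgEquiv.mul_apply, hx', ih, pow_succ', pow_succ]
      simp only [mul_assoc]
  have hσp : σ ^ p = 1 := by rw [← hcard]; exact pow_card_eq_one'
  -- x^p centralizes ι(L)
  have hxinv : ∀ n : ℕ, (x : A) ^ n * ((x⁻¹ : Aˣ) : A) ^ n = 1 := by
    intro n; rw [← Units.val_pow_eq_pow_val, ← Units.val_pow_eq_pow_val, ← Units.val_mul,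
      inv_pow, mul_inv_cancel, Units.val_one]
  have hxinv' : ∀ n : ℕ, ((x⁻¹ : Aˣ) : A) ^ n * (x : A) ^ n = 1 := by
    intro n; rw [← Units.val_pow_eq_pow_val, ← Units.val_pow_eq_pow_val, ← Units.val_mul,
      inv_pow, inv_mul_cancel, Units.val_one]
  have hcent : ∀ b : L, (x : A) ^ p * ι b = ι b * (x : A) ^ p := by
    intro b
    have := hpow p b
    rw [hσp, AlgEquiv.one_apply] at this
    calc (x : A) ^ p * ι b = (x : A) ^ p * ι b * (((x⁻¹ : Aˣ) : A) ^ p * (x : A) ^ p) := by
          rw [hxinv', mul_one]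
      _ = ((x : A) ^ p * ι b * ((x⁻¹ : Aˣ) : A) ^ p) * (x : A) ^ p := by simp only [mul_assoc]
      _ = ι b * (x : A) ^ p := by rw [← this]
  -- the centralizer of ι(L) is ι(L)
  let B : Subalgebra K A := ι.range
  have hBsimple : IsSimpleRing B :=
    IsSimpleRing.of_ringEquiv (AlgEquiv.ofInjective ι hιinj).toRingEquiv inferInstance
  have hBdim : Module.finrank K B = p := by
    rw [← hL]; exact (AlgEquiv.ofInjective ι hιinj).toLinearEquiv.finrank_eq.symm
  have hCdim := Groth.Agent.Lib.LeadCSA.centralizer_finrank B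
  rw [hA, hBdim, pow_two] at hCdim
  have hCdim' : Module.finrank K (Subalgebra.centralizer K (B : Set A)) = p :=
    (Nat.eq_of_mul_eq_mul_left hp.pos hCdim).symm
  have hBle : B ≤ Subalgebra.centralizer K (B : Set A) := by
    rintro _ ⟨b, rfl⟩
    rw [Subalgebra.mem_centralizer_iff]
    rintro _ ⟨b', rfl⟩
    show ι b' * ι b = ι b * ι b'
    rw [← map_mul, ← map_mul, mul_comm]
  have hBC : B = Subalgebra.centralizer K (B : Set A) := by
    apply Subalgebra.toSubmodule_injective
    exact Submodule.eq_of_le_of_finrank_eq hBle (by rw [Subalgebra.finrank_toSubmodule,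
      Subalgebra.finrank_toSubmodule, hBdim, hCdim'])
  have hxpB : (x : A) ^ p ∈ B := by
    rw [hBC, Subalgebra.mem_centralizer_iff]
    rintro _ ⟨b, rfl⟩
    exact (hcent b).symm
  obtain ⟨y, hy⟩ := hxpB
  have hy' : ι y = (x : A) ^ p := hy
  -- y is fixed by σ
  have hσy : σ y = y := by
    apply hιinj
    rw [hx', hy']
    have : (x : A) * (x : A) ^ p = (x : A) ^ p * (x : A) := by rw [← pow_succ', pow_succ]
    rw [this, mul_assoc, Units.mul_inv, mul_one]
  -- hence by the whole Galois group
  have hfix : ∀ τ : L ≃ₐ[K] L, τ y = y := by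
    intro τ
    have hτ : τ ∈ Subgroup.zpowers σ := by
      rw [zpowers_eq_top_of_prime_card hcard hσ]; trivial
    obtain ⟨n, rfl⟩ := hτ
    have hstab : σ ∈ MulAction.stabilizer (L ≃ₐ[K] L) y := hσy
    exact (Subgroup.zpow_mem _ hstab n : σ ^ n ∈ MulAction.stabilizer (L ≃ₐ[K] L) y)
  obtain ⟨a, ha⟩ := (IsGalois.mem_range_algebraMap_iff_fixed (F := K) (E := L) y).mpr hfix
  have hxa : (x : A) ^ p = algebraMap K A a := by
    rw [← hy', ← ha, AlgHom.commutes]
  obtain ⟨c, hc⟩ := mem_range_of_pow_char_of_isSeparable K p A (x : A) a hxa hsep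
  -- then x is central, so σ = 1
  apply hσ
  ext b
  apply hιinj
  rw [hx', ← hc, AlgEquiv.one_apply]
  rw [Algebra.commutes, mul_assoc, hc, Units.mul_inv, mul_one]

end Groth.Agent.S15171
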