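import Groth.Statements.S15172
import Mathlib.Algebra.Polynomial.Roots
import Mathlib.Algebra.Polynomial.Degree.IsMonicOfDegree
import Mathlib.Algebra.Polynomial.BigOperators
import Mathlib.Algebra.Polynomial.AlgebraMap
import Mathlib.Tactic.LinearCombination

set_option autoImplicit false
universe u v
open Polynomial
open BddFin

namespace Groth.Agent.S15172

/-- the key identity in `L[T][Y]` -/
theorem key (L : Type u) [Field L] (s : Finset L) (h0 : (0 : L) ∈ s)
    (hadd : ∀ a ∈ s, ∀ b ∈ s, a + b ∈ s) :
    (∏ a ∈ s, ((C (X : L[X]) : L[X][X]) + X - C (C a))) -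
      C (∏ a ∈ s, ((X : L[X]) - C a)) - ∏ a ∈ s, ((X : L[X][X]) - C (C a)) = 0 := by
  classical
  have hn : s.card ≠ 0 := Finset.card_ne_zero_of_mem h0
  -- rewrite the first product as a product of X - C (..)
  have e1 : (∏ a ∈ s, ((C (X : L[X]) : L[X][X]) + X - C (C a))) =
      ∏ a ∈ s, ((X : L[X][X]) - C (C a - X)) := by
    apply Finset.prod_congr rfl
    intro a _
    rw [C_sub]; ring
  have hG : IsMonicOfDegree (∏ a ∈ s, ((X : L[X][X]) - C (C a - X))) s.card :=
    ⟨natDegree_finsetProd_X_sub_C_eq_card s _, monic_prod_X_sub_C _ s⟩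
  have hF : IsMonicOfDegree (∏ a ∈ s, ((X : L[X][X]) - C (C a))) s.card :=
    ⟨natDegree_finsetProd_X_sub_C_eq_card s _, monic_prod_X_sub_C _ s⟩
  have hdeg1 := hG.natDegree_sub_lt hn hF
  apply eq_zero_of_natDegree_lt_card_of_eval_eq_zero' _ (s.image (C : L → L[X]))
  · intro i hi
    obtain ⟨b, hb, rfl⟩ := Finset.mem_image.mp hi
    rw [eval_sub, eval_sub, eval_C, eval_prod, eval_prod]
    -- third product vanishes
    have h3 : ∏ a ∈ s, eval (C b) ((X : L[X][X]) - C (C a)) = 0 := by
      apply Finset.prod_eq_zero hb
      simp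
    -- first product equals f by translation
    have h1 : ∏ a ∈ s, eval (C b) ((C (X : L[X]) : L[X][X]) + X - C (C a)) =
        ∏ a ∈ s, ((X : L[X]) - C a) := by
      have himg : s.image (· + b) = s := by
        apply Finset.eq_of_subset_of_card_le
        · intro x hx
          obtain ⟨a, ha, rfl⟩ := Finset.mem_image.mp hx
          exact hadd a ha b hb
        · rw [Finset.card_image_of_injective _ (add_left_injective b)]
      conv_lhs => rw [← himg]
      rw [Finset.prod_image (fun x _ y _ h => add_left_injective b h)]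
      apply Finset.prod_congr rfl
      intro a _
      simp only [eval_sub, eval_add, eval_C, eval_X, C_add]
      ring
    rw [h1, h3, sub_self, sub_zero]
  · rw [Finset.card_image_of_injective _ C_injective, e1, sub_right_comm]
    refine lt_of_le_of_lt (natDegree_sub_le _ _) ?_
    rw [natDegree_C, max_eq_left (Nat.zero_le _)]
    exact hdeg1

/-- Let L be a field of characteristic p > 0 and s a finite subset of L containing 0 and closed under
addition (a finite additive subgroup). Then the polynomial f = ∏_{a ∈ s} (X - a) is additive: f (x +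
y) = f x + f y for all x, y in any commutative L-algebra (equivalently, as an identity of
polynomials in two variables). -/
theorem result
    (L : Type u) [Field L] (p : ℕ) [Fact p.Prime] [CharP L p] (s : Finset L) (h0 : (0 : L) ∈ s)
    (hadd : ∀ a ∈ s, ∀ b ∈ s, a + b ∈ s) (R : Type v) [CommRing R] [Algebra L R] (x y : R) :
    aeval (x + y) (∏ a ∈ s, (X - C a)) = aeval x (∏ a ∈ s, (X - C a)) + aeval y (∏ a ∈ s, (X - C a)) := by
  classical
  have hkey := key L s h0 hadd
  -- specialize T ↦ x, Y ↦ y
  let Φ : L[X][X] →+* R := eval₂RingHom (aeval x : L[X] →ₐ[L] R).toRingHom y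
  have hΦC : ∀ q : L[X], Φ (C q) = aeval x q := fun q => by simp [Φ]
  have hΦX : Φ X = y := by simp [Φ]
  have := congrArg Φ hkey
  simp only [map_sub, map_add, map_zero, map_prod, hΦC, hΦX, aeval_X, aeval_C] at this
  simp only [map_prod, map_sub, aeval_X, aeval_C]
  linear_combination this

end Groth.Agent.S15172
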