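import Groth.Statements.S15183
import Mathlib

set_option autoImplicit false
universe u v
open Polynomial
open BddFin

namespace Groth.Agent.S15183

/-- Let K be a field such that K contains all roots of unity (for every n ≥ 1 the polynomial X^n − 1
splits into linear factors over K), and A a finite-dimensional central simple K-algebra which is not
a division algebra (some non-zero element is not a unit). Then the quotient of the unit group of A
by that of K has elements of every finite order invertible in K: for every d ≥ 1 with d ≠ 0 in K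
there is a unit x of A with x ^ d in K and x ^ k not in K for 0 < k < d. (The published assertion is
phrased for the automorphism group of the Severi–Brauer variety of A, which is isomorphic to the
units of A modulo those of K; this row is the algebra-side statement its proof establishes.) -/
theorem result
    (K : Type u) [Field K] (hK : ∀ n : ℕ, 0 < n → (X ^ n - 1 : K[X]).Splits)
    (A : Type v) [Ring A] [Algebra K A] [Algebra.IsCentral K A] [IsSimpleRing A] [FiniteDimensional K A]
    (hA : ∃ y : A, y ≠ 0 ∧ ¬ IsUnit y) (d : ℕ) (hd : 0 < d) (hdK : (d : K) ≠ 0) :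
    ∃ x : A, IsUnit x ∧ x ^ d ∈ (algebraMap K A).range ∧
      ∀ k : ℕ, 0 < k → k < d → x ^ k ∉ (algebraMap K A).range := by
  classical
  haveI : IsArtinianRing A := IsArtinianRing.of_finite K A
  obtain ⟨n, hn, D, _, _, _, ⟨φ⟩⟩ := IsSimpleRing.exists_algEquiv_matrix_divisionRing_finite K A
  have hn2 : 2 ≤ n := by
    by_contra h
    have hn1 : n = 1 := by have := hn.out; omega
    subst hn1
    obtain ⟨y, hy0, hyu⟩ := hA
    apply hyu
    have h00 : φ y 0 0 ≠ 0 := by
      intro h
      apply hy0
      apply φ.injective
      rw [map_zero]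
      ext i j
      rw [Subsingleton.elim i 0, Subsingleton.elim j 0]
      simpa using h
    have hu : IsUnit (φ y) := by
      refine ⟨⟨φ y, Matrix.of fun _ _ => (φ y 0 0)⁻¹, ?_, ?_⟩, rfl⟩
      · ext i j
        rw [Subsingleton.elim i 0, Subsingleton.elim j 0]
        simp [Matrix.mul_apply, h00]
      · ext i j
        rw [Subsingleton.elim i 0, Subsingleton.elim j 0]
        simp [Matrix.mul_apply, h00]
    have h3 := hu.map φ.symm
    simpa using h3
  haveI : NeZero (d : K) := ⟨hdK⟩
  obtain ⟨ζ, hζ⟩ : ∃ ζ : K, IsPrimitiveRoot ζ d := by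
    have hsp : (cyclotomic d K).Splits :=
      (hK d hd).of_dvd (X_pow_sub_C_ne_zero hd 1) (by simpa using cyclotomic.dvd_X_pow_sub_one d K)
    have hdeg : (cyclotomic d K).degree ≠ 0 := by
      rw [degree_cyclotomic]
      have := Nat.totient_pos.mpr hd
      exact_mod_cast this.ne'
    obtain ⟨ζ, hζ⟩ := hsp.exists_eval_eq_zero hdeg
    exact ⟨ζ, isRoot_cyclotomic_iff.mp hζ⟩
  obtain ⟨m, rfl⟩ : ∃ m, n = m + 2 := ⟨n - 2, by omega⟩
  let M : Matrix (Fin (m + 2)) (Fin (m + 2)) D :=
    Matrix.diagonal (fun i => if i = 0 then algebraMap K D ζ else 1)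
  have hMpow : ∀ k : ℕ, M ^ k =
      Matrix.diagonal (fun i => if i = 0 then algebraMap K D (ζ ^ k) else 1) := by
    intro k
    rw [Matrix.diagonal_pow]
    congr 1
    funext i
    simp only [Pi.pow_apply]
    split_ifs <;> simp
  have hMd : M ^ d = 1 := by
    rw [hMpow, hζ.pow_eq_one, ← Matrix.diagonal_one]
    congr 1
    funext i
    split_ifs <;> simp
  refine ⟨φ.symm M, ?_, ?_, ?_⟩
  · exact (IsUnit.of_pow_eq_one hMd hd.ne').map φ.symm
  · refine ⟨1, ?_⟩
    rw [← map_pow, hMd, map_one, map_one]
  · rintro k hk0 hkd ⟨c, hc⟩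
    have h1 : M ^ k = algebraMap K _ c := by
      have h2 := congrArg φ hc
      rw [← map_pow, AlgEquiv.apply_symm_apply] at h2
      rw [← h2]
      simp
    rw [hMpow] at h1
    have e0 := congrFun (congrFun h1 0) 0
    have e1 := congrFun (congrFun h1 1) 1
    simp [Matrix.algebraMap_matrix_apply] at e0 e1
    have h4 : ζ ^ k = 1 := by
      apply (algebraMap K D).injective
      rw [map_pow, e0, ← e1, map_one]
    have h5 := hζ.dvd_of_pow_eq_one k h4
    exact absurd (Nat.le_of_dvd hk0 h5) (by omega)

end Groth.Agent.S15183
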