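import Groth.Statements.S15184
import Mathlib
-- import your own Groth.Agent.* helpers here

set_option autoImplicit false
set_option linter.style.haveILetI false
set_option linter.unusedSectionVars false
universe u v
open BddFin

namespace Groth.Agent.S15184
open Polynomial

lemma ch3 {F : Type*} [Field F] (M N : Matrix (Fin 3) (Fin 3) F) (h : M * N = 1)
    (hM : M.trace = 0) (hN : N.trace = 0) :
    M ^ 3 = M.det • (1 : Matrix (Fin 3) (Fin 3) F) := by
  have hNM : N * M = 1 := mul_eq_one_comm.mp h
  have hNunit : IsUnit N := ⟨⟨N, M, hNM, h⟩, rfl⟩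
  have hMN : M = N⁻¹ := (Matrix.inv_eq_left_inv h).symm
  have hχ : M.charpoly = (-1) ^ Fintype.card (Fin 3) * C (Ring.inverse N.det) * N.charpolyRev := by
    rw [hMN]; exact Matrix.charpoly_inv N hNunit
  have h1 : M.charpoly.coeff 1 = 0 := by
    rw [hχ]
    have : ((-1 : F[X]) ^ Fintype.card (Fin 3) * C (Ring.inverse N.det)) =
        C (- Ring.inverse N.det) := by
      simp only [Fintype.card_fin, map_neg]
      ring
    rw [this, coeff_C_mul, Matrix.coeff_charpolyRev_eq_neg_trace, hN, neg_zero, mul_zero]
  have h2 : M.charpoly.coeff 2 = 0 := by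
    have := Matrix.trace_eq_neg_charpoly_coeff M
    simp only [Fintype.card_fin] at this
    rw [hM] at this
    have h' : (3 - 1 : ℕ) = 2 := rfl
    rw [h'] at this
    exact (neg_eq_zero.1 this.symm)
  have h0 : M.charpoly.coeff 0 = - M.det := by
    have := Matrix.det_eq_sign_charpoly_coeff M
    simp only [Fintype.card_fin] at this
    rw [this]
    norm_num
  have hdeg : M.charpoly.natDegree = 3 := by
    rw [Matrix.charpoly_natDegree_eq_dim, Fintype.card_fin]
  have h3 : M.charpoly.coeff 3 = 1 := by
    have := (Matrix.charpoly_monic M).coeff_natDegree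
    rwa [hdeg] at this
  have hχ' : M.charpoly = X ^ 3 - C M.det := by
    rw [Polynomial.as_sum_range M.charpoly, hdeg]
    simp [Finset.sum_range_succ, h0, h1, h2, h3, ← Polynomial.X_pow_eq_monomial]
    ring
  have := Matrix.aeval_self_charpoly M
  rw [hχ'] at this
  simpa [sub_eq_zero, Algebra.algebraMap_eq_smul_one] using this

lemma ch2 {F : Type*} [Field F] (M : Matrix (Fin 2) (Fin 2) F)
    (hM : M.trace = 0) :
    M ^ 2 = (- M.det) • (1 : Matrix (Fin 2) (Fin 2) F) := by
  have hχ : M.charpoly = X ^ 2 + C M.det := by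
    rw [Matrix.charpoly_fin_two, hM]; simp
  have := Matrix.aeval_self_charpoly M
  rw [hχ] at this
  simpa [add_eq_zero_iff_eq_neg, Algebra.algebraMap_eq_smul_one] using this

lemma ch3_lin {F V : Type*} [Field F] [AddCommGroup V] [Module F V] [Module.Finite F V]
    (hV : Module.finrank F V = 3) (f g : V →ₗ[F] V) (h : f * g = 1)
    (hf : LinearMap.trace F V f = 0) (hg : LinearMap.trace F V g = 0) :
    ∃ n : F, f ^ 3 = n • (1 : V →ₗ[F] V) := by
  let b : Module.Basis (Fin 3) F V := Module.finBasisOfFinrankEq F V hV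
  let e := LinearMap.toMatrixAlgEquiv b
  have hM : (e f).trace = 0 := by
    rw [← hf, LinearMap.trace_eq_matrix_trace F b f]; rfl
  have hN : (e g).trace = 0 := by
    rw [← hg, LinearMap.trace_eq_matrix_trace F b g]; rfl
  have hMN : e f * e g = 1 := by rw [← map_mul, h, map_one]
  refine ⟨(e f).det, e.injective ?_⟩
  rw [map_pow, map_smul, map_one]
  exact ch3 _ _ hMN hM hN

lemma ch2_lin {F V : Type*} [Field F] [AddCommGroup V] [Module F V] [Module.Finite F V]
    (hV : Module.finrank F V = 2) (f : V →ₗ[F] V)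
    (hf : LinearMap.trace F V f = 0) :
    ∃ n : F, f ^ 2 = n • (1 : V →ₗ[F] V) := by
  let b : Module.Basis (Fin 2) F V := Module.finBasisOfFinrankEq F V hV
  let e := LinearMap.toMatrixAlgEquiv b
  have hM : (e f).trace = 0 := by
    rw [← hf, LinearMap.trace_eq_matrix_trace F b f]; rfl
  refine ⟨-(e f).det, e.injective ?_⟩
  rw [map_pow, map_smul, map_one]
  exact ch2 _ hM

section Ad
variable {K A : Type*} [Field K] [Ring A] [Algebra K A]

lemma pow_comm_of_comm (v a w : A) (hw : w = v * a - a * v) (hc : v * w = w * v) (n : ℕ) :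
    v ^ (n + 1) * a - a * v ^ (n + 1) = ((n + 1 : ℕ) : K) • (v ^ n * w) := by
  induction n with
  | zero => simp [hw]
  | succ n ih =>
    have hcomm : w * v ^ (n + 1) = v ^ (n + 1) * w := ((Commute.pow_right (show Commute w v from hc.symm) (n + 1))).eq
    have h1 : v ^ (n + 1 + 1) * a - a * v ^ (n + 1 + 1) =
        v * (v ^ (n + 1) * a - a * v ^ (n + 1)) + (v * a - a * v) * v ^ (n + 1) := by
      rw [pow_succ' v (n + 1)]
      noncomm_ring
    rw [h1, ih, ← hw, hcomm, mul_smul_comm, ← mul_assoc, ← pow_succ' v n, Nat.cast_succ (n + 1),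
      add_smul, one_smul]

lemma aeval_comm_eq_derivative (v a w : A) (hw : w = v * a - a * v) (hc : v * w = w * v)
    (g : K[X]) : aeval v g * a - a * aeval v g = aeval v (derivative g) * w := by
  induction g using Polynomial.induction_on' with
  | add p q hp hq =>
    rw [map_add, derivative_add, map_add, add_mul, mul_add, add_mul, ← hp, ← hq]
    abel
  | monomial n c =>
    rcases n with _ | n
    · simp [Algebra.commutes]
    · rw [derivative_monomial, aeval_monomial, aeval_monomial, Nat.add_sub_cancel,
        Algebra.algebraMap_eq_smul_one, Algebra.algebraMap_eq_smul_one]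
      simp only [smul_mul_assoc, one_mul, mul_smul_comm]
      rw [← smul_sub, pow_comm_of_comm (K := K) v a w hw hc n, smul_smul]

/-- for separable `v`, a commutator `[v, a]` commuting with `v` vanishes. -/
lemma comm_eq_zero_of_isSeparable (v a : A) (hv : IsSeparable K v)
    (hc : v * (v * a - a * v) = (v * a - a * v) * v) : v * a - a * v = 0 := by
  set w := v * a - a * v with hw
  have h := aeval_comm_eq_derivative (K := K) v a w hw hc (minpoly K v)
  rw [minpoly.aeval, zero_mul, mul_zero, sub_zero] at h
  obtain ⟨p, q, hpq⟩ := hv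
  have h2 := congrArg (aeval v) hpq
  rw [map_add, map_mul, map_mul, minpoly.aeval, mul_zero, zero_add, map_one] at h2
  calc w = 1 * w := (one_mul w).symm
    _ = (aeval v q * aeval v (derivative (minpoly K v))) * w := by rw [h2]
    _ = aeval v q * (aeval v (derivative (minpoly K v)) * w) := mul_assoc _ _ _
    _ = 0 := by rw [← h, mul_zero]

end Ad

section Abs
variable {L A : Type*} [Field L] [Ring A] [Module L A] [IsScalarTower L A A] [Module.Finite L A]

/-- the trace of right multiplication. -/
noncomputable def T (x : A) : L := LinearMap.trace L A (LinearMap.mulRight L x)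

lemma T_mul_comm (x y : A) : T (L := L) (x * y) = T (L := L) (y * x) := by
  unfold T
  rw [LinearMap.mulRight_mul, LinearMap.mulRight_mul, ← Module.End.mul_eq_comp,
    ← Module.End.mul_eq_comp, LinearMap.trace_mul_comm]

lemma T_sub (x y : A) : T (L := L) (x - y) = T (L := L) x - T (L := L) y := by
  unfold T
  have : LinearMap.mulRight L (x - y) = LinearMap.mulRight L x - LinearMap.mulRight L y := by
    ext a; simp [mul_sub]
  rw [this, map_sub]

lemma T_add (x y : A) : T (L := L) (x + y) = T (L := L) x + T (L := L) y := by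
  unfold T
  have : LinearMap.mulRight L (x + y) = LinearMap.mulRight L x + LinearMap.mulRight L y := by
    ext a; simp [mul_add]
  rw [this, map_add]

lemma T_comm (x y : A) : T (L := L) (x * y - y * x) = 0 := by
  rw [T_sub, T_mul_comm, sub_self]

lemma T_one : T (L := L) (1 : A) = (Module.finrank L A : L) := by
  unfold T
  rw [LinearMap.mulRight_one, ← Module.End.one_eq_id, LinearMap.trace_one]

lemma pow_eq_smul (p : ℕ) (hp : p = 2 ∨ p = 3) (hrk : Module.finrank L A = p) (x x' : A)
    (h1 : x * x' = 1) (h2 : x' * x = 1) (hT : T (L := L) x = 0) (hT' : T (L := L) x' = 0) :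
    ∃ n : L, ∀ a : A, a * x ^ p = n • a := by
  have key : ∃ n : L, (LinearMap.mulRight L x) ^ p = n • (1 : A →ₗ[L] A) := by
    rcases hp with rfl | rfl
    · exact ch2_lin hrk _ hT
    · refine ch3_lin hrk _ (LinearMap.mulRight L x') ?_ hT hT'
      rw [Module.End.mul_eq_comp, ← LinearMap.mulRight_mul, h2, LinearMap.mulRight_one,
        Module.End.one_eq_id]
  obtain ⟨n, hn⟩ := key
  refine ⟨n, fun a => ?_⟩
  rw [LinearMap.pow_mulRight] at hn
  have := LinearMap.congr_fun hn a
  simpa using this

end Abs

lemma not_isSeparable_of_pow {K A : Type*} [Field K] [Ring A] [Nontrivial A] [Algebra K A]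
    (p : ℕ) [CharP K p] (hp : p = 2 ∨ p = 3)
    (x : A) (b : K) (hx : x ^ p = algebraMap K A b) (hx' : x ∉ (algebraMap K A).range) :
    ¬ IsSeparable K x := by
  intro hsep
  have hp0 : p ≠ 0 := by rcases hp with rfl | rfl <;> norm_num
  have hint : IsIntegral K x :=
    ⟨X ^ p - C b, monic_X_pow_sub_C b hp0, by simp [hx]⟩
  set m := minpoly K x with hm
  have hdvd : m ∣ X ^ p - C b := minpoly.dvd K x (by simp [hx])
  obtain ⟨q, hq⟩ := hdvd
  have hder : derivative (X ^ p - C b : K[X]) = 0 := by
    rw [derivative_sub, derivative_C, derivative_X_pow, CharP.cast_eq_zero K p, map_zero, zero_mul,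
      sub_zero]
  have h0 : derivative m * q + m * derivative q = 0 := by
    rw [← derivative_mul, ← hq, hder]
  obtain ⟨a, c, hac⟩ := hsep
  have hq2 : q = m * (a * q - c * derivative q) := by
    have h1 : derivative m * q = - (m * derivative q) := eq_neg_of_add_eq_zero_left h0
    calc q = (a * m + c * derivative m) * q := by rw [hac, one_mul]
      _ = a * m * q + c * (derivative m * q) := by ring
      _ = a * m * q - c * (m * derivative q) := by rw [h1]; ring
      _ = m * (a * q - c * derivative q) := by ring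
  set r := a * q - c * derivative q with hr
  have hne : (X ^ p - C b : K[X]) ≠ 0 := (monic_X_pow_sub_C b hp0).ne_zero
  have hdeg : (X ^ p - C b : K[X]).natDegree = p := natDegree_X_pow_sub_C
  rw [hq2] at hq
  have hm0 : m ≠ 0 := minpoly.ne_zero hint
  have hr0 : r ≠ 0 := by
    rintro h
    rw [h] at hq
    simp at hq
    exact hne hq
  have hsum : p = m.natDegree + (m.natDegree + r.natDegree) := by
    rw [← hdeg, hq, natDegree_mul hm0 (mul_ne_zero hm0 hr0), natDegree_mul hm0 hr0]
  have hpos : 0 < m.natDegree := minpoly.natDegree_pos hint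
  have h1 : m.natDegree = 1 := by
    rcases hp with rfl | rfl <;> omega
  exact hx' (minpoly.natDegree_eq_one_iff.1 h1)

/-- the key existence statement. -/
lemma exists_pow_mem (K : Type u) [Field K] (p : ℕ) [Fact p.Prime] [CharP K p]
    (A : Type v) [DivisionRing A] [Algebra K A] [Algebra.IsCentral K A] [FiniteDimensional K A]
    (hA : Module.finrank K A = p ^ 2) (hp : p = 2 ∨ p = 3)
    (v : A) (hv : v ∉ (algebraMap K A).range) (hsep : IsSeparable K v) :
    ∃ (x : A) (b : K), x ^ p = algebraMap K A b ∧ x ∉ (algebraMap K A).range := by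
  classical
  have hint : IsIntegral K v := Algebra.IsIntegral.isIntegral v
  set f := minpoly K v with hf
  have hirr : Irreducible f := minpoly.irreducible hint
  haveI : Fact (Irreducible f) := ⟨hirr⟩
  have hf0 : f ≠ 0 := minpoly.ne_zero hint
  let L := AdjoinRoot f
  let ι : L →ₐ[K] A := Ideal.Quotient.liftₐ (Ideal.span {f}) (aeval v) (by
    intro a ha
    obtain ⟨c, rfl⟩ := Ideal.mem_span_singleton.1 ha
    rw [map_mul, minpoly.aeval, zero_mul])
  have hιroot : ι (AdjoinRoot.root f) = v := by
    change aeval v (X : K[X]) = v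
    exact aeval_X v
  letI modL : Module L A := Module.compHom A (ι : L →+* A)
  have hsmul : ∀ (l : L) (a : A), l • a = ι l * a := fun l a => rfl
  haveI : IsScalarTower L A A := ⟨fun l a b => by
    rw [hsmul, hsmul, smul_eq_mul, smul_eq_mul, mul_assoc]⟩
  haveI : IsScalarTower K L A := ⟨fun k l a => by
    rw [hsmul, hsmul, map_smul, smul_mul_assoc]⟩
  haveI : Module.Finite L A := Module.Finite.of_restrictScalars_finite K L A
  haveI : FiniteDimensional K L := (AdjoinRoot.powerBasis hf0).finite
  -- the rank
  have hmul : Module.finrank K L * Module.finrank L A = Module.finrank K A :=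
    Module.finrank_mul_finrank K L A
  have hd : Module.finrank K L = f.natDegree := by
    rw [(AdjoinRoot.powerBasis hf0).finrank, AdjoinRoot.powerBasis_dim]
  have hd2 : 2 ≤ f.natDegree := (minpoly.two_le_natDegree_iff hint).2 hv
  have hcenter : ∀ z : A, (∀ a : A, a * z = z * a) → z ∈ (algebraMap K A).range := by
    intro z hz
    have : z ∈ Subalgebra.center K A := Subalgebra.mem_center_iff.2 hz
    exact Algebra.mem_bot.1 (Algebra.IsCentral.out this)
  have hr1 : Module.finrank L A ≠ 1 := by
    intro h1
    rw [h1, mul_one] at hmul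
    have hinj : Function.Injective ι.toLinearMap := ι.toRingHom.injective
    have hsurj : Function.Surjective ι.toLinearMap :=
      (LinearMap.injective_iff_surjective_of_finrank_eq_finrank hmul).1 hinj
    apply hv
    apply hcenter
    intro a
    obtain ⟨l, rfl⟩ := hsurj a
    rw [← hιroot]
    change ι l * ι _ = ι _ * ι l
    rw [← map_mul, ← map_mul, mul_comm]
  have hrk : Module.finrank L A = p := by
    rw [hd, hA] at hmul
    have hr0 : Module.finrank L A ≠ 0 := by
      intro h0
      rw [h0, mul_zero] at hmul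
      have : p ^ 2 ≠ 0 := pow_ne_zero 2 (Fact.out : p.Prime).ne_zero
      exact this hmul.symm
    generalize Module.finrank L A = r at *
    generalize f.natDegree = d at *
    rcases hp with rfl | rfl
    · have hd4 : d ≤ 4 := Nat.le_of_dvd (by norm_num) ⟨r, by omega⟩
      interval_cases d <;> omega
    · have hd9 : d ≤ 9 := Nat.le_of_dvd (by norm_num) ⟨r, by omega⟩
      interval_cases d <;> omega
  -- the commutator decomposition
  let ad : A →ₗ[K] A := LinearMap.mulLeft K v - LinearMap.mulRight K v
  have had : ∀ a, ad a = v * a - a * v := fun a => rfl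
  have hdisj : Disjoint (LinearMap.ker ad) (LinearMap.range ad) := by
    rw [Submodule.disjoint_def]
    rintro w hw ⟨a, rfl⟩
    rw [LinearMap.mem_ker, had, had] at hw
    rw [had]
    apply comm_eq_zero_of_isSeparable (K := K) v a hsep
    exact sub_eq_zero.1 hw
  have htop : LinearMap.ker ad ⊔ LinearMap.range ad = ⊤ := by
    apply Submodule.eq_top_of_disjoint _ _ _ hdisj
    rw [add_comm, LinearMap.finrank_range_add_finrank_ker]
  obtain ⟨y, hy⟩ : ∃ y : A, v * y - y * v ≠ 0 := by
    by_contra hcon
    push Not at hcon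
    exact hv (hcenter v (fun a => (sub_eq_zero.1 (hcon a)).symm))
  -- produce x with T x = 0, T x⁻¹ = 0, x ≠ 0, x ∈ range ad
  have hpL : ((p : ℕ) : L) = 0 := by
    have : ((p : ℕ) : L) = algebraMap K L ((p : ℕ) : K) := (map_natCast _ _).symm
    rw [this, CharP.cast_eq_zero K p, map_zero]
  have hTad : ∀ a : A, T (L := L) (ad a) = 0 := fun a => T_comm v a
  obtain ⟨x, hx0, hxad, hTx, hTx'⟩ : ∃ x : A, x ≠ 0 ∧ x ∈ LinearMap.range ad ∧
      T (L := L) x = 0 ∧ T (L := L) x⁻¹ = 0 := by
    set ξ := v * y - y * v with hξ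
    have hξmem : ξ⁻¹ ∈ LinearMap.ker ad ⊔ LinearMap.range ad := by rw [htop]; trivial
    obtain ⟨c, hc, a', ⟨a'', rfl⟩, hsum⟩ := Submodule.mem_sup.1 hξmem
    rw [LinearMap.mem_ker, had, sub_eq_zero] at hc
    by_cases hc0 : c = 0
    · refine ⟨ξ, hy, ⟨y, rfl⟩, hTad y, ?_⟩
      rw [← hsum, hc0, zero_add]
      exact hTad a''
    · have hcinv : v * c⁻¹ = c⁻¹ * v := (show Commute v c from hc).inv_right₀.eq
      refine ⟨c * ξ, mul_ne_zero hc0 hy, ⟨c * y, ?_⟩, ?_, ?_⟩
      · rw [had, hξ, mul_sub, ← mul_assoc, ← mul_assoc, ← mul_assoc, hc]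
      · have : c * ξ = ad (c * y) := by
          rw [had, hξ, mul_sub, ← mul_assoc, ← mul_assoc, ← mul_assoc, hc]
        rw [this]
        exact hTad _
      · have : (c * ξ)⁻¹ = 1 + ad (a'' * c⁻¹) := by
          rw [mul_inv_rev, ← hsum, add_mul, mul_inv_cancel₀ hc0, had, had, sub_mul, mul_assoc,
            mul_assoc, mul_assoc, hcinv]
        rw [this, T_add, T_one, hTad, add_zero, hrk, hpL]
  -- conclude
  have hxne : x ∉ (algebraMap K A).range := by
    rintro ⟨k, rfl⟩
    apply hx0
    have hker : algebraMap K A k ∈ LinearMap.ker ad := by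
      rw [LinearMap.mem_ker, had, Algebra.commutes, sub_self]
    exact (Submodule.disjoint_def.1 hdisj) _ hker hxad
  obtain ⟨n, hn⟩ := pow_eq_smul (L := L) p hp hrk x x⁻¹ (mul_inv_cancel₀ hx0)
    (inv_mul_cancel₀ hx0) hTx hTx'
  have hxp : x ^ p = ι n := by
    have := hn 1
    rw [one_mul, hsmul, mul_one] at this
    exact this
  have hcen : x ^ p ∈ (algebraMap K A).range := by
    apply hcenter
    intro a
    rw [hn a, hsmul, hxp]
  obtain ⟨b, hb⟩ := hcen
  exact ⟨x, b, hb.symm, hxne⟩


/-- Let K be a field with char K = p > 0 and A a central division K-algebra with dim_K A = p ^ 2. If p =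
2 or p = 3, then some element of A is not separable over K. -/
theorem result
    (K : Type u) [Field K] (p : ℕ) [Fact p.Prime] [CharP K p]
    (A : Type v) [DivisionRing A] [Algebra K A] [Algebra.IsCentral K A] [FiniteDimensional K A]
    (hA : Module.finrank K A = p ^ 2) (hp : p = 2 ∨ p = 3) :
    ∃ v : A, ¬ IsSeparable K v := by
  obtain ⟨v, hv⟩ : ∃ v : A, v ∉ (algebraMap K A).range := by
    by_contra hcon
    push Not at hcon
    have hsurj : Function.Surjective (Algebra.linearMap K A) := fun a => hcon a
    have h1 := LinearMap.finrank_le_finrank_of_surjective hsurj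
    rw [hA, Module.finrank_self] at h1
    have : 2 ≤ p := (Fact.out : p.Prime).two_le
    nlinarith
  by_cases hsep : IsSeparable K v
  · obtain ⟨x, b, hx, hx'⟩ := exists_pow_mem K p A hA hp v hv hsep
    exact ⟨x, not_isSeparable_of_pow p hp x b hx hx'⟩
  · exact ⟨v, hsep⟩

end Groth.Agent.S15184
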