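import Groth.Statements.S15224
import Mathlib

set_option autoImplicit false
open Finset
open W4c2rk2extmaps

namespace Groth.Agent.S15224

/-- In a commutative ℚ-algebra R let y be an element and put c_k = y^k / k! for every k. Then for k ≥ 2,
Σ_{i=1}^{k-1} (-1)^(i-1) c_i c_(k-i) + (-1)^(k-1) c_k = c_k. (The published statement concerns the
Chern classes of a specific vector bundle on a Jacobian, which are of the form c_k = (4θ)^k / k!;
the printed argument establishes the identity for every sequence of this form in a commutative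
ℚ-algebra, which is the form stated here.) -/
theorem result (R : Type*) [CommRing R] [Algebra ℚ R] (y : R)
    (c : ℕ → R) (hc : ∀ k : ℕ, c k = ((Nat.factorial k : ℚ)⁻¹) • y ^ k)
    (k : ℕ) (hk : 2 ≤ k) :
    (∑ i ∈ Finset.Ico 1 k, (-1 : R) ^ (i - 1) * c i * c (k - i)) + (-1 : R) ^ (k - 1) * c k = c k := by
  have hint : (∑ i ∈ Finset.Ico 1 k, (-1 : ℤ) ^ (i - 1) * (k.choose i : ℤ)) + (-1 : ℤ) ^ (k - 1) = 1 := by
    have h0 := Int.alternating_sum_range_choose (n := k)
    rw [if_neg (by omega), Finset.sum_range_succ, Finset.range_eq_Ico,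
      Finset.sum_eq_sum_Ico_succ_bot (by omega)] at h0
    simp only [pow_zero, Nat.choose_zero_right, Nat.cast_one, mul_one, zero_add,
      Nat.choose_self] at h0
    have h1 : ∀ i ∈ Finset.Ico 1 k, (-1 : ℤ) ^ (i - 1) * (k.choose i : ℤ)
        = -((-1 : ℤ) ^ i * (k.choose i : ℤ)) := by
      intro i hi
      have hi1 : 1 ≤ i := (Finset.mem_Ico.mp hi).1
      obtain ⟨j, rfl⟩ : ∃ j, i = j + 1 := ⟨i - 1, by omega⟩
      simp [pow_succ]
    rw [Finset.sum_congr rfl h1, Finset.sum_neg_distrib]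
    obtain ⟨j, rfl⟩ : ∃ j, k = j + 1 := ⟨k - 1, by omega⟩
    simp only [Nat.add_sub_cancel] at *
    rw [pow_succ] at h0
    linarith
  have hch : ∀ i, i ≤ k → c i * c (k - i) = ((k.choose i : ℤ) : R) * c k := by
    intro i hi
    rw [hc i, hc (k - i), hc k, smul_mul_smul_comm, ← pow_add, Nat.add_sub_cancel' hi]
    have hq : ((Nat.factorial i : ℚ)⁻¹ * (Nat.factorial (k - i) : ℚ)⁻¹)
        = (k.choose i : ℚ) * (Nat.factorial k : ℚ)⁻¹ := by
      have h := Nat.choose_mul_factorial_mul_factorial hi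
      have h' : ((k.choose i : ℚ)) * (Nat.factorial i : ℚ) * (Nat.factorial (k - i) : ℚ)
          = (Nat.factorial k : ℚ) := by exact_mod_cast h
      have hi0 : (Nat.factorial i : ℚ) ≠ 0 := by exact_mod_cast Nat.factorial_ne_zero i
      have hki0 : (Nat.factorial (k - i) : ℚ) ≠ 0 := by exact_mod_cast Nat.factorial_ne_zero _
      have hk0 : (Nat.factorial k : ℚ) ≠ 0 := by exact_mod_cast Nat.factorial_ne_zero k
      field_simp
      linarith
    rw [hq, mul_smul, Int.cast_natCast, Nat.cast_smul_eq_nsmul ℚ, nsmul_eq_mul]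
  have hsum : (∑ i ∈ Finset.Ico 1 k, (-1 : R) ^ (i - 1) * c i * c (k - i))
      = ((∑ i ∈ Finset.Ico 1 k, (-1 : ℤ) ^ (i - 1) * (k.choose i : ℤ) : ℤ) : R) * c k := by
    rw [Int.cast_sum, Finset.sum_mul]
    refine Finset.sum_congr rfl ?_
    intro i hi
    have hik : i ≤ k := (Finset.mem_Ico.mp hi).2.le
    rw [mul_assoc, hch i hik]
    push_cast
    ring
  rw [hsum]
  have hfin : (((∑ i ∈ Finset.Ico 1 k, (-1 : ℤ) ^ (i - 1) * (k.choose i : ℤ)) + (-1 : ℤ) ^ (k - 1) : ℤ) : R) * c k
      = c k := by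
    rw [hint]; simp
  push_cast at hfin ⊢
  linear_combination hfin

end Groth.Agent.S15224
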