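import Groth.Statements.S15229
import Mathlib
import Groth.Agent.S15224

set_option autoImplicit false
open Finset
open W4c2rk2extmaps

namespace Groth.Agent.S15229

/-- In a commutative ℚ-algebra R let θ, η be elements and g a natural number, and put c_k = (4θ)^k / k!.
Suppose θ^(g+1) = 0 and that η satisfies the relation η^(g+1) = Σ_{i=1}^{g+1} (-1)^(i-1) c_i
η^(g+1-i). Then η^(g+k) θ^(g-k) = c_k η^g θ^(g-k) for every 1 ≤ k ≤ g. (The published statement
concerns the first Chern class η of the tautological line bundle on a projective bundle P(U) over a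
g-dimensional Jacobian, with c_k the Chern classes of U, which are (4θ)^k / k!; there θ^(g+1)
vanishes for dimension reasons and the displayed relation is the projective-bundle relation, and the
printed argument derives the identity from exactly these three inputs, which is the form stated
here.) -/
theorem result (R : Type*) [CommRing R] [Algebra ℚ R]
    (θ η : R) (g : ℕ) (c : ℕ → R) (hc : ∀ k : ℕ, c k = ((Nat.factorial k : ℚ)⁻¹) • ((4 : R) * θ) ^ k)
    (hθ : θ ^ (g + 1) = 0)
    (hrel : η ^ (g + 1) = ∑ i ∈ Finset.Ico 1 (g + 2), (-1 : R) ^ (i - 1) * c i * η ^ (g + 1 - i))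
    (k : ℕ) (hk1 : 1 ≤ k) (hkg : k ≤ g) :
    η ^ (g + k) * θ ^ (g - k) = c k * η ^ g * θ ^ (g - k) := by
  have hc0 : c 0 = 1 := by rw [hc 0]; simp
  have hci : ∀ i, c i = (((Nat.factorial i : ℚ)⁻¹) • (4 : R) ^ i) * θ ^ i := by
    intro i
    rw [hc i, mul_pow, smul_mul_assoc]
  have main : ∀ k, k ≤ g → η ^ (g + k) * θ ^ (g - k) = c k * η ^ g * θ ^ (g - k) := by
    intro k
    induction k using Nat.strong_induction_on with
    | _ k ih =>
      intro hkg
      rcases Nat.eq_zero_or_pos k with rfl | hk1
      · rw [hc0]; simp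
      · have e1 : η ^ (g + k) * θ ^ (g - k) = η ^ (g + 1) * (η ^ (k - 1) * θ ^ (g - k)) := by
          rw [← mul_assoc, ← pow_add]
          congr 2
          omega
        rw [e1, hrel, Finset.sum_mul]
        have hterm : ∀ i ∈ Finset.Ico 1 (g + 2),
            (-1 : R) ^ (i - 1) * c i * η ^ (g + 1 - i) * (η ^ (k - 1) * θ ^ (g - k))
              = if i ≤ k then ((-1 : R) ^ (i - 1) * c i * c (k - i)) * (η ^ g * θ ^ (g - k))
                else 0 := by
          intro i hi
          obtain ⟨hi1, hi2⟩ := Finset.mem_Ico.mp hi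
          split_ifs with hik
          · have hih := ih (k - i) (by omega) (by omega)
            have hθ' : θ ^ (g - (k - i)) = θ ^ i * θ ^ (g - k) := by
              rw [← pow_add]; congr 1; omega
            have hη' : η ^ (g + 1 - i) * η ^ (k - 1) = η ^ (g + (k - i)) := by
              rw [← pow_add]; congr 1; omega
            calc (-1 : R) ^ (i - 1) * c i * η ^ (g + 1 - i) * (η ^ (k - 1) * θ ^ (g - k))
                = (-1 : R) ^ (i - 1) * (((Nat.factorial i : ℚ)⁻¹) • (4 : R) ^ i)
                    * ((η ^ (g + 1 - i) * η ^ (k - 1)) * (θ ^ i * θ ^ (g - k))) := by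
                  rw [hci i]; ring
              _ = (-1 : R) ^ (i - 1) * (((Nat.factorial i : ℚ)⁻¹) • (4 : R) ^ i)
                    * (η ^ (g + (k - i)) * θ ^ (g - (k - i))) := by rw [hη', hθ']
              _ = (-1 : R) ^ (i - 1) * (((Nat.factorial i : ℚ)⁻¹) • (4 : R) ^ i)
                    * (c (k - i) * η ^ g * θ ^ (g - (k - i))) := by rw [hih]
              _ = (-1 : R) ^ (i - 1) * (((Nat.factorial i : ℚ)⁻¹) • (4 : R) ^ i)
                    * (c (k - i) * η ^ g * (θ ^ i * θ ^ (g - k))) := by rw [hθ']
              _ = (-1 : R) ^ (i - 1) * c i * c (k - i) * (η ^ g * θ ^ (g - k)) := by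
                  rw [hci i]; ring
          · have hz : θ ^ i * θ ^ (g - k) = 0 := by
              rw [← pow_add]
              have hexp : i + (g - k) = (g + 1) + (i - k - 1) := by omega
              rw [hexp, pow_add, hθ, zero_mul]
            calc (-1 : R) ^ (i - 1) * c i * η ^ (g + 1 - i) * (η ^ (k - 1) * θ ^ (g - k))
                = (-1 : R) ^ (i - 1) * (((Nat.factorial i : ℚ)⁻¹) • (4 : R) ^ i)
                    * η ^ (g + 1 - i) * η ^ (k - 1) * (θ ^ i * θ ^ (g - k)) := by
                  rw [hci i]; ring
              _ = 0 := by rw [hz, mul_zero]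
        rw [Finset.sum_congr rfl hterm, ← Finset.sum_filter]
        have hfil : (Finset.Ico 1 (g + 2)).filter (fun i => i ≤ k) = Finset.Ico 1 (k + 1) := by
          ext i
          simp only [Finset.mem_filter, Finset.mem_Ico]
          omega
        rw [hfil, Finset.sum_Ico_succ_top hk1, ← Finset.sum_mul, Nat.sub_self, hc0, mul_one]
        rcases Nat.lt_or_ge k 2 with hk2 | hk2
        · obtain rfl : k = 1 := by omega
          simp
          ring
        · have h24 := Groth.Agent.S15224.result R ((4 : R) * θ) c hc k hk2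
          linear_combination (η ^ g * θ ^ (g - k)) * h24
  exact main k hkg

end Groth.Agent.S15229
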