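import Groth.Statements.S15231
import Mathlib
import Groth.Agent.Lib.Helper1TorM
import Groth.Agent.Lib.Helper1TorD
-- import your own Groth.Agent.* helpers here

set_option autoImplicit false
universe u
open CategoryTheory CategoryTheory.Limits
attribute [local instance] HasDerivedCategory.standard
open DRing

namespace Groth.Agent.S15231

open DerivedCategory Groth.Agent.Lib.Helper1.KF Groth.Agent.Lib.Helper1.Tor
  Groth.Agent.Lib.Helper1.DT Groth.Agent.Lib.Helper1.LDer Groth.Agent.Lib.Helper1.TorM

/-- Let R be a Noetherian local commutative ring with residue field κ, let P be any object of D(R) and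
a, b integers. Suppose that H^i(P ⊗^L_R κ) = 0 for every i outside [a, b] (over the field κ this
says exactly that P ⊗^L_R κ has tor amplitude in [a, b] as an object of D(κ)). Then for every
R-module N of finite length, H^i(P ⊗^L_R N) = 0 for every i outside [a, b]. The derived base change
to κ and the derived tensor products with R-modules are the total left derived functors on D(R),
assumed to exist for every R-module (as they do). -/
theorem result (R : Type u) [CommRing R] [IsNoetherianRing R]
    [IsLocalRing R] [DRing.HasLBaseChange (IsLocalRing.residue R)] [∀ M : ModuleCat.{u} R, DRing.HasLTensor R M]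
    (P : Dual.D R) (a b : ℤ)
    (h : ∀ i : ℤ, (i < a ∨ b < i) →
      Subsingleton (Dual.HD (IsLocalRing.ResidueField R) ((DRing.LBaseChange (IsLocalRing.residue R)).obj P) i))
    (N : Type u) [AddCommGroup N] [Module R N] (hN : IsFiniteLength R N) (i : ℤ) (hi : i < a ∨ b < i) :
    Subsingleton (Dual.HD R ((DRing.LTensor R (ModuleCat.of R N)).obj P) i) := by
  obtain ⟨F, hF, hproj, ⟨e⟩⟩ := exists_kproj_iso P
  have hFf : DRing.TermwiseFlat F := fun i =>
    have := hproj i
    have : Module.Projective R (F.X i) := ModuleCat.projective_of_module_projective _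
    inferInstance
  -- the hypothesis in terms of `F`
  have hκ : ((TC (kappa R)).obj F).ExactAt i := by
    have hs := h i hi
    have hz : IsZero ((homologyFunctor (ModuleCat.{u} (IsLocalRing.ResidueField R)) i).obj
        ((DRing.LBaseChange (IsLocalRing.residue R)).obj P)) :=
      @ModuleCat.isZero_of_subsingleton _ _ _ hs
    have hz' : IsZero ((homologyFunctor (ModuleCat.{u} (IsLocalRing.ResidueField R)) i).obj
        (Q.obj ((bcCx (IsLocalRing.residue R)).obj F))) :=
      hz.of_iso ((homologyFunctor _ i).mapIso
        ((lbcIso (IsLocalRing.residue R) F).symm ≪≫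
          (DRing.LBaseChange (IsLocalRing.residue R)).mapIso e))
    rw [← exactAt_iff_isZero_H] at hz'
    exact (exactAt_extCx_iff (IsLocalRing.residue R) F i).1 hz'
  have hN' : ((TC (ModuleCat.of R N)).obj F).ExactAt i :=
    exactAt_TC_of_isFiniteLength F hFf i hκ N hN
  rw [← exactAt_tCx_iff, exactAt_iff_isZero_H] at hN'
  exact ModuleCat.subsingleton_of_isZero (hN'.of_iso ((homologyFunctor _ i).mapIso
    ((DRing.LTensor R (ModuleCat.of R N)).mapIso e.symm ≪≫ ltIso (ModuleCat.of R N) F)))

end Groth.Agent.S15231
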