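import Groth.Statements.S15232
import Mathlib
import Groth.Agent.Lib.Helper1Fibres
-- import your own Groth.Agent.* helpers here

set_option autoImplicit false
universe u
open CategoryTheory CategoryTheory.Limits
attribute [local instance] HasDerivedCategory.standard
open DRing

namespace Groth.Agent.S15232

open Groth.Agent.Lib.Helper1.LDer Groth.Agent.Lib.Helper1.PC Groth.Agent.Lib.Helper1.Tor
open Groth.Agent.Lib.Helper1.Cone Groth.Agent.Lib.Helper1.ProjRes DerivedCategory
open Groth.Agent.Lib.Helper1.LocalCx Groth.Agent.Lib.Helper1.Extend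

/-- Let R be a Noetherian commutative ring and I an ideal contained in the Jacobson radical of R, and
assume the derived base change D(R) → D(R/I) exists. Let P be a pseudo-coherent object of D(R) and
a, b integers. If P ⊗^L_R R/I has tor amplitude in [a, b] as an object of D(R/I), then P has tor
amplitude in [a, b] as an object of D(R). Tor amplitude is taken in the flat-representative form
(isomorphic in the derived category to a complex of flat modules vanishing outside [a, b]). -/
theorem result (R : Type u) [CommRing R] [IsNoetherianRing R]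
    (I : Ideal R) (hI : I ≤ Ideal.jacobson (⊥ : Ideal R)) [DRing.HasLBaseChange (Ideal.Quotient.mk I)]
    (P : Dual.D R) (hP : DRing.IsPseudoCoherent' R P) (a b : ℤ)
    (h : DRing.HasTorAmplitudeIn (R ⧸ I) a b ((DRing.LBaseChange (Ideal.Quotient.mk I)).obj P)) :
    DRing.HasTorAmplitudeIn R a b P := by
  obtain ⟨F, bF, hFb, hFf, ⟨e⟩⟩ := hP
  have hFK : F.IsKProjective :=
    isKProjective_of_vanishesAbove F bF hFb (fun i =>
      have := (hFf i).2
      Module.Projective.of_free)
  let q := Ideal.Quotient.mk I
  let Fb := (bcCx q).obj F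
  have e' : (DRing.LBaseChange q).obj P ≅ Q.obj Fb :=
    (DRing.LBaseChange q).mapIso e.symm ≪≫ lbcIso q F
  obtain ⟨E, hE, hEf, ⟨eE⟩⟩ := h
  have hFbb : DRing.VanishesAbove Fb bF := vanishesAbove_bc q F bF hFb
  have hFbf : DRing.TermwiseFlat Fb := fun i =>
    have := ((termwiseFiniteFree_bc q F hFf) i).2
    inferInstance
  have htv : TorVan Fb a b := torVan_of_iso Fb E bF hFbb hFbf a b hE hEf (eE ≪≫ e')
  have hex : ∀ (m : Ideal R) [m.IsMaximal] (i : ℤ), (i < a ∨ b < i) →
      ((bcCx (Ideal.Quotient.mk m)).obj F).ExactAt i := by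
    intro m hm i hi
    have hIm : I ≤ m := hI.trans (sInf_le ⟨bot_le, hm⟩)
    let p : R ⧸ I →+* R ⧸ m := Ideal.Quotient.factor hIm
    have hp : p.comp q = Ideal.Quotient.mk m := Ideal.Quotient.factor_comp_mk hIm
    have h1 := htv ((ModuleCat.restrictScalars.{u} p).obj (ModuleCat.of (R ⧸ m) (R ⧸ m))) i hi
    have h2 : ((bcCx p).obj Fb).ExactAt i := (exactAt_bc_iff_TC p Fb i).2 h1
    have h3 : ((bcCx (p.comp q)).obj F).ExactAt i := h2.of_iso (bcCxCompIso q p F).symm
    exact h3.of_iso (bcCxEqIso hp F)
  exact hasTorAmp_of_iso e (hasTorAmp_of_fibres F bF hFb hFf a b hex)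

end Groth.Agent.S15232
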