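import Groth.Statements.S15233
import Mathlib

set_option autoImplicit false
universe u
open CategoryTheory CategoryTheory.Limits Opposite
open CohSite

namespace Groth.Agent.S15233

/-- Let C be a small category with a Grothendieck topology J, and let B be a class of objects forming a
prebasis: for every object V and every covering sieve S of V, the arrows of S whose domain lies in B
generate a covering sieve of V. If F is a presheaf of abelian groups on C such that F(U) = 0 for
every object U in B, then the sheafification of F is zero. -/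
theorem result {C : Type u} [SmallCategory C] (J : GrothendieckTopology C)
    (B : ObjectProperty C)
    (hB : ∀ (V : C) (S : Sieve V), S ∈ J V →
      Sieve.generate (fun (U : C) => {g : U ⟶ V | S.arrows g ∧ B U}) ∈ J V)
    (F : Cᵒᵖ ⥤ AddCommGrpCat.{u}) (hF : ∀ U : C, B U → IsZero (F.obj (op U))) :
    IsZero ((presheafToSheaf J AddCommGrpCat.{u}).obj F) := by
  have key : ∀ (G : Sheaf J AddCommGrpCat.{u}) (φ ψ : F ⟶ G.obj), φ = ψ := by
    intro G φ ψ
    have hsep := Sheaf.isSeparated G
    have hz : ∀ (χ : F ⟶ G.obj) (V : C) (x : ToType (F.obj (op V))) (Y U : C) (h : Y ⟶ U)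
        (g : U ⟶ V), B U → G.obj.map (h ≫ g).op (χ.app (op V) x) = 0 := by
      intro χ V x Y U h g hU
      have hsub : Subsingleton (F.obj (op U)) := AddCommGrpCat.subsingleton_of_isZero (hF U hU)
      have hx0 : F.map g.op x = 0 := Subsingleton.elim _ _
      have h1 : G.obj.map g.op (χ.app (op V) x) = 0 := by
        rw [← NatTrans.naturality_apply, hx0, map_zero]
      rw [op_comp, Functor.map_comp, CategoryTheory.comp_apply, h1, map_zero]
    ext ⟨V⟩ x
    refine hsep V _ (hB V ⊤ (J.top_mem V)) _ _ ?_
    rintro Y f ⟨U, h, g, ⟨-, hU⟩, rfl⟩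
    rw [hz φ V x Y U h g hU, hz ψ V x Y U h g hU]
  rw [IsZero.iff_id_eq_zero]
  apply ((sheafificationAdjunction J AddCommGrpCat.{u}).homEquiv F _).injective
  exact key _ _ _

end Groth.Agent.S15233
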