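import Groth.Statements.S15235
import Groth.Agent.Lib.Helper10ML

set_option autoImplicit false
universe u
open CategoryTheory Opposite
open HomAlg3

namespace Groth.Agent.S15235

/-- Let (G_j) be an inverse system of abelian groups indexed by the natural numbers, with transition
maps G_{j+1} → G_j, and let j₀ be a natural number such that the transition map G_{j+1} → G_j is
surjective for every j ≥ j₀. Then: (a) the system satisfies the Mittag-Leffler condition; (b) the
evaluation map from the inverse limit (realised as the set of compatible families) to G_{j₀} is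
surjective; (c) if in addition the transition maps G_{j+1} → G_j are injective for every j ≥ j₀,
that evaluation map is bijective. (The published statement indexes the system by the negative
integers and assumes j₀ ≥ 1; this row indexes it by the natural numbers and allows j₀ = 0, which
changes nothing.) -/
theorem result (G : ℕᵒᵖ ⥤ AddCommGrpCat.{u})
    (j₀ : ℕ) (hs : ∀ j : ℕ, j₀ ≤ j → Function.Surjective (G.map (homOfLE (Nat.le_succ j)).op).hom) :
    (G ⋙ forget AddCommGrpCat.{u}).IsMittagLeffler ∧
      Function.Surjective (fun s : (G ⋙ forget AddCommGrpCat.{u}).sections => s.1 (op j₀)) ∧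
      ((∀ j : ℕ, j₀ ≤ j → Function.Injective (G.map (homOfLE (Nat.le_succ j)).op).hom) →
        Function.Bijective (fun s : (G ⋙ forget AddCommGrpCat.{u}).sections => s.1 (op j₀))) := by
  -- general transition maps above `j₀`
  have hP : ∀ (P : ∀ {X Y : AddCommGrpCat.{u}}, (X ⟶ Y) → Prop)
      (_ : ∀ X : AddCommGrpCat.{u}, P (𝟙 X))
      (_ : ∀ {X Y Z : AddCommGrpCat.{u}} (f : X ⟶ Y) (g : Y ⟶ Z), P f → P g → P (f ≫ g))
      (_ : ∀ j : ℕ, j₀ ≤ j → P (G.map (homOfLE (Nat.le_succ j)).op))
      (n m : ℕ) (_ : j₀ ≤ n) (h : n ≤ m), P (G.map (homOfLE h).op) := by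
    intro P hid hcomp hstep n m hn h
    induction m, h using Nat.le_induction with
    | base =>
      have : (homOfLE (le_refl n)).op = 𝟙 (op n) := Subsingleton.elim _ _
      rw [this, G.map_id]; exact hid _
    | succ m h ih =>
      have : (homOfLE (h.trans (Nat.le_succ m))).op =
          (homOfLE (Nat.le_succ m)).op ≫ (homOfLE h).op := Subsingleton.elim _ _
      rw [this, G.map_comp]
      exact hcomp _ _ (hstep m (hn.trans h)) ih
  have hsurj : ∀ (n m : ℕ) (_ : j₀ ≤ n) (h : n ≤ m),
      Function.Surjective (G.map (homOfLE h).op).hom := by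
    refine hP (fun f => Function.Surjective f.hom) ?_ ?_ hs
    · intro X; exact Function.surjective_id
    · intro X Y Z f g hf hg
      exact hg.comp hf
  refine ⟨?_, ?_, ?_⟩
  · -- Mittag-Leffler
    intro j
    refine ⟨op (max j.unop j₀), (homOfLE (le_max_left _ _)).op, ?_⟩
    intro k g
    rintro _ ⟨x, rfl⟩
    have hjk : j.unop ≤ k.unop := leOfHom g.unop
    rcases le_total k.unop (max j.unop j₀) with hk | hk
    · refine ⟨G.map (homOfLE hk).op x, ?_⟩
      change G.map g (G.map (homOfLE hk).op x) = G.map (homOfLE (le_max_left _ _)).op x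
      have : (homOfLE (le_max_left j.unop j₀)).op = (homOfLE hk).op ≫ g := Subsingleton.elim _ _
      rw [this, G.map_comp]; rfl
    · obtain ⟨y, hy⟩ := hsurj (max j.unop j₀) k.unop (le_max_right _ _) hk x
      refine ⟨y, ?_⟩
      change G.map g y = G.map (homOfLE (le_max_left _ _)).op x
      have : g = (homOfLE hk).op ≫ (homOfLE (le_max_left j.unop j₀)).op := Subsingleton.elim _ _
      rw [this, G.map_comp]
      change G.map _ (G.map (homOfLE hk).op y) = _
      have hy' : G.map (homOfLE hk).op y = x := hy
      rw [hy']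
  · -- surjectivity of evaluation
    intro x
    classical
    let c : ℕ → ℕ := fun n => j₀ + n
    have hcm : Monotone c := fun a b h => Nat.add_le_add_left h j₀
    have hcc : ∀ i : ℕ, ∃ n, i ≤ c n := fun i => ⟨i, Nat.le_add_left i j₀⟩
    let F := G ⋙ forget AddCommGrpCat.{u}
    have hstep : ∀ (n : ℕ) (y : F.obj (op (c n))),
        ∃ z : F.obj (op (c (n + 1))), F.map (homOfLE (hcm (Nat.le_succ n))).op z = y := by
      intro n y
      obtain ⟨z, hz⟩ := hsurj (c n) (c (n + 1)) (Nat.le_add_right j₀ n) (hcm (Nat.le_succ n)) y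
      exact ⟨z, hz⟩
    let xs : (n : ℕ) → F.obj (op (c n)) := fun n => Nat.rec (motive := fun n => F.obj (op (c n))) x
      (fun k xk => Classical.choose (hstep k xk)) n
    have hx1 : ∀ n, F.map (homOfLE (hcm (Nat.le_succ n))).op (xs (n + 1)) = xs n := fun n =>
      Classical.choose_spec (hstep n (xs n))
    obtain ⟨s, hs'⟩ := Groth.Agent.Lib.Helper10.exists_section_of_chain F c hcm hcc xs hx1
    exact ⟨s, hs' 0⟩
  · intro hinj
    have hinj' : ∀ (n m : ℕ) (_ : j₀ ≤ n) (h : n ≤ m),
        Function.Injective (G.map (homOfLE h).op).hom := by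
      refine hP (fun f => Function.Injective f.hom) ?_ ?_ hinj
      · intro X; exact Function.injective_id
      · intro X Y Z f g hf hg
        exact hg.comp hf
    refine ⟨?_, ?_⟩
    · refine Functor.eval_section_injective_of_eventually_injective (G ⋙ forget AddCommGrpCat.{u})
        (j := op j₀) ?_ (op j₀) (𝟙 _)
      intro i f
      have hi : j₀ ≤ i.unop := leOfHom f.unop
      have : f = (homOfLE hi).op := Subsingleton.elim _ _
      rw [this]
      exact hinj' j₀ i.unop le_rfl hi
    · intro x
      classical
      let c : ℕ → ℕ := fun n => j₀ + n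
      have hcm : Monotone c := fun a b h => Nat.add_le_add_left h j₀
      have hcc : ∀ i : ℕ, ∃ n, i ≤ c n := fun i => ⟨i, Nat.le_add_left i j₀⟩
      let F := G ⋙ forget AddCommGrpCat.{u}
      have hstep : ∀ (n : ℕ) (y : F.obj (op (c n))),
          ∃ z : F.obj (op (c (n + 1))), F.map (homOfLE (hcm (Nat.le_succ n))).op z = y := by
        intro n y
        obtain ⟨z, hz⟩ := hsurj (c n) (c (n + 1)) (Nat.le_add_right j₀ n) (hcm (Nat.le_succ n)) y
        exact ⟨z, hz⟩
      let xs : (n : ℕ) → F.obj (op (c n)) := fun n =>
        Nat.rec (motive := fun n => F.obj (op (c n))) x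
        (fun k xk => Classical.choose (hstep k xk)) n
      have hx1 : ∀ n, F.map (homOfLE (hcm (Nat.le_succ n))).op (xs (n + 1)) = xs n := fun n =>
        Classical.choose_spec (hstep n (xs n))
      obtain ⟨s, hs'⟩ := Groth.Agent.Lib.Helper10.exists_section_of_chain F c hcm hcc xs hx1
      exact ⟨s, hs' 0⟩

end Groth.Agent.S15235
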