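import Groth.Statements.S15237
import Mathlib
-- import your own Groth.Agent.* helpers here

set_option autoImplicit false
set_option linter.style.haveILetI false
set_option linter.unusedSectionVars false
open CategoryTheory AlgebraicGeometry
universe u
open Variety

namespace Groth.Agent.S15237

open Cardinal in
theorem exists_maximal_avoiding (k : Type u) [Field k] [Uncountable k] (A : Type u) [CommRing A]
    [Algebra k A] [Algebra.FiniteType k A] (hnil : (nilradical A).IsPrime) (f : ℕ → A)
    (hf : ∀ n, ¬ IsNilpotent (f n)) :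
    ∃ 𝔪 : Ideal A, 𝔪.IsMaximal ∧ ∀ n, f n ∉ 𝔪 := by
  classical
  let S : Submonoid A := Submonoid.closure (Set.range f)
  have hS0 : (0 : A) ∉ S := by
    have hle : S ≤ (nilradical A).primeCompl := by
      apply Submonoid.closure_le.mpr
      rintro _ ⟨n, rfl⟩
      show f n ∉ nilradical A
      rw [mem_nilradical]
      exact hf n
    intro h0
    exact hle h0 (Ideal.zero_mem _)
  let B := Localization S
  haveI : Nontrivial B := by
    by_contra hcon
    rw [not_nontrivial_iff_subsingleton] at hcon
    exact hS0 ((IsLocalization.subsingleton_iff (M := S) (S := B)).mp hcon)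
  obtain ⟨M, hM⟩ := Ideal.exists_maximal B
  let L := B ⧸ M
  letI : Field L := Ideal.Quotient.field M
  let q : A →+* L := (Ideal.Quotient.mk M).comp (algebraMap A B)
  have hcomp : algebraMap k L = q.comp (algebraMap k A) := by
    ext r
    show Ideal.Quotient.mk M (algebraMap k B r) = Ideal.Quotient.mk M (algebraMap A B (algebraMap k A r))
    rw [IsScalarTower.algebraMap_apply k A B r]
  let qa : A →ₐ[k] L := { q with commutes' := fun r => (RingHom.congr_fun hcomp r).symm }
  have hunit : ∀ s ∈ S, q s ≠ 0 := by
    intro s hs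
    have h1 : IsUnit (algebraMap A B s) := IsLocalization.map_units B (⟨s, hs⟩ : S)
    have h2 : IsUnit (q s) := h1.map (Ideal.Quotient.mk M)
    exact h2.ne_zero
  -- generators
  obtain ⟨m, g, hg⟩ := Algebra.FiniteType.iff_quotient_mvPolynomial''.mp ‹Algebra.FiniteType k A›
  let ψ : MvPolynomial (Fin m ⊕ ℕ) k →ₐ[k] L :=
    MvPolynomial.aeval (Sum.elim (fun i => q (g (MvPolynomial.X i))) (fun n => (q (f n))⁻¹))
  have hψ : Function.Surjective ψ := by
    have hA : ∀ a : A, q a ∈ ψ.range := by
      intro a
      obtain ⟨p, rfl⟩ := hg a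
      refine ⟨MvPolynomial.rename Sum.inl p, ?_⟩
      have : (ψ.comp (MvPolynomial.rename Sum.inl)) = qa.comp g := by
        apply MvPolynomial.algHom_ext
        intro i
        simp [ψ, qa]
      exact congrArg (fun h => h p) this
    have hSinv : ∀ s ∈ S, (q s)⁻¹ ∈ ψ.range := by
      intro s hs
      induction hs using Submonoid.closure_induction with
      | mem x hx =>
        obtain ⟨n, rfl⟩ := hx
        exact ⟨MvPolynomial.X (Sum.inr n), by simp [ψ]⟩
      | one => rw [map_one, inv_one]; exact Subalgebra.one_mem _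
      | mul x y _ _ hx hy =>
        rw [map_mul, mul_inv]
        exact Subalgebra.mul_mem _ hx hy
    intro x
    obtain ⟨b, rfl⟩ := Ideal.Quotient.mk_surjective x
    obtain ⟨a, s, rfl⟩ := IsLocalization.exists_mk'_eq S b
    have h1 : Ideal.Quotient.mk M (IsLocalization.mk' B a s) * q s = q a := by
      show Ideal.Quotient.mk M (IsLocalization.mk' B a s) * Ideal.Quotient.mk M (algebraMap A B s) = _
      rw [← map_mul, IsLocalization.mk'_spec]
      rfl
    have h2 : Ideal.Quotient.mk M (IsLocalization.mk' B a s) = q a * (q s)⁻¹ := by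
      rw [← h1, mul_assoc, mul_inv_cancel₀ (hunit s s.2), mul_one]
    rw [h2]
    exact Subalgebra.mul_mem _ (hA a) (hSinv s s.2)
  have hrank : Module.rank k L ≤ ℵ₀ := by
    have h1 := LinearMap.rank_le_of_surjective ψ.toLinearMap hψ
    rw [MvPolynomial.rank_eq_lift] at h1
    refine h1.trans ?_
    rw [lift_le_aleph0]
    exact mk_le_aleph0
  have halg : ∀ x : L, IsAlgebraic k x := by
    intro x
    by_contra hx
    have hx' : Transcendental k x := hx
    have h2 := hx'.linearIndependent_sub_inv.cardinal_lift_le_rank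
    rw [lift_id, lift_id] at h2
    have h3 : ℵ₀ < #k := Cardinal.aleph0_lt_mk_iff.mpr inferInstance
    exact absurd (h2.trans hrank) (not_le.mpr h3)
  have hqint : q.IsIntegral := by
    apply RingHom.IsIntegral.tower_top (algebraMap k A) q
    intro x
    obtain ⟨p, hp, hpx⟩ := (halg x).isIntegral
    exact ⟨p, hp, by rw [← hcomp]; exact hpx⟩
  refine ⟨(⊥ : Ideal L).comap q, Ideal.isMaximal_comap_of_isIntegral_of_isMaximal' q hqint ⊥, ?_⟩
  intro n hn
  rw [Ideal.mem_comap, Ideal.mem_bot] at hn
  exact hunit (f n) (Submonoid.subset_closure ⟨n, rfl⟩) hn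


/-- Let k be an uncountable field and X an irreducible k-scheme of finite type. Then the closed points
of X are not covered by countably many closed subsets of X different from X: for every sequence Z₀,
Z₁, … of closed subsets of X with Zₙ ≠ X for all n there is a closed point of X lying in no Zₙ. (The
published statement is for an irreducible quasi-projective variety and says that the variety is not
a countable union of closed subsets different from it, a variety being read through its closed
points; with the generic point of the scheme that assertion would be immediate, so this row asks for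
a closed point, and it assumes only finite type over k.) -/
theorem result (k : Type u) [Field k] [Uncountable k]
    (X : Scheme.{u}) (sX : X ⟶ Spec (CommRingCat.of k)) [IrreducibleSpace X]
    [LocallyOfFiniteType sX] [QuasiCompact sX]
    (Z : ℕ → TopologicalSpace.Closeds X) (hZ : ∀ n, (Z n : Set X) ≠ Set.univ) :
    ∃ x : X, IsClosed ({x} : Set X) ∧ ∀ n, x ∉ Z n := by
  haveI : JacobsonSpace X := LocallyOfFiniteType.jacobsonSpace sX
  obtain ⟨x0⟩ : Nonempty X := inferInstance
  obtain ⟨U, hU, hx0U, -⟩ := exists_isAffineOpen_mem_and_subset (X := X) (x := x0) (U := ⊤) trivial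
  -- finite type algebra structure
  have hφ : (sX.appLE ⊤ U le_top).hom.FiniteType :=
    HasRingHomProperty.appLE (P := @LocallyOfFiniteType) sX inferInstance
      ⟨⊤, isAffineOpen_top _⟩ ⟨U, hU⟩ le_top
  let ρ : k →+* Γ(X, U) :=
    (sX.appLE ⊤ U le_top).hom.comp (Scheme.ΓSpecIso (CommRingCat.of k)).inv.hom
  have hρ : ρ.FiniteType := by
    refine RingHom.FiniteType.comp hφ (RingHom.FiniteType.of_surjective _ ?_)
    exact (ConcreteCategory.bijective_of_isIso (Scheme.ΓSpecIso (CommRingCat.of k)).inv).2
  algebraize [ρ]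
  -- Spec A → X
  have hemb : Topology.IsOpenEmbedding hU.fromSpec.base := hU.fromSpec.isOpenEmbedding
  have hrange : Set.range hU.fromSpec.base = U := hU.range_fromSpec
  -- irreducibility of Spec A
  have hirr : IrreducibleSpace (PrimeSpectrum Γ(X, U)) := by
    have h1 : IsPreirreducible (hU.fromSpec.base ⁻¹' (Set.univ : Set X)) :=
      (PreirreducibleSpace.isPreirreducible_univ).preimage hemb
    rw [Set.preimage_univ] at h1
    have hne : Nonempty (PrimeSpectrum Γ(X, U)) := by
      have : x0 ∈ Set.range hU.fromSpec.base := by rw [hrange]; exact hx0U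
      obtain ⟨p, -⟩ := this
      exact ⟨p⟩
    exact { isPreirreducible_univ := h1, toNonempty := hne }
  have hnil : (nilradical Γ(X, U)).IsPrime :=
    PrimeSpectrum.irreducibleSpace_iff_isPrime_nilradical.mp hirr
  -- density of U
  have hdense : Dense (U : Set X) := U.isOpen.dense ⟨x0, hx0U⟩
  -- the functions f_n
  have hfn : ∀ n, ∃ f : Γ(X, U), ¬ IsNilpotent f ∧
      ∀ p : PrimeSpectrum Γ(X, U), hU.fromSpec.base p ∈ Z n → f ∈ p.asIdeal := by
    intro n
    have hnot : ¬ ((U : Set X) ⊆ (Z n : Set X)) := by
      intro hsub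
      apply hZ n
      have := (Z n).isClosed.closure_subset_iff.mpr hsub
      rw [hdense.closure_eq] at this
      exact Set.eq_univ_of_univ_subset this
    obtain ⟨x, hxU, hxZ⟩ := Set.not_subset.mp hnot
    obtain ⟨p, hp⟩ : ∃ p : PrimeSpectrum Γ(X, U), hU.fromSpec.base p = x := by
      have : x ∈ Set.range hU.fromSpec.base := by rw [hrange]; exact hxU
      exact this
    let C : Set (PrimeSpectrum Γ(X, U)) := hU.fromSpec.base ⁻¹' (Z n : Set X)
    have hC : IsClosed C := (Z n).isClosed.preimage hU.fromSpec.base.hom.continuous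
    have hCz : PrimeSpectrum.zeroLocus (PrimeSpectrum.vanishingIdeal C : Set Γ(X, U)) = C := by
      rw [PrimeSpectrum.zeroLocus_vanishingIdeal_eq_closure, hC.closure_eq]
    have hpC : p ∉ C := by
      intro h
      apply hxZ
      rw [← hp]
      exact h
    rw [← hCz, PrimeSpectrum.mem_zeroLocus, Set.not_subset] at hpC
    obtain ⟨f, hfI, hfp⟩ := hpC
    refine ⟨f, ?_, ?_⟩
    · intro hnilp
      apply hfp
      exact nilradical_le_prime p.asIdeal ((mem_nilradical).mpr hnilp)
    · intro p' hp'
      have : p' ∈ C := hp'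
      rw [← hCz, PrimeSpectrum.mem_zeroLocus] at this
      exact this hfI
  choose f hf1 hf2 using hfn
  obtain ⟨𝔪, h𝔪, hf𝔪⟩ := exists_maximal_avoiding k Γ(X, U) hnil f hf1
  let P : PrimeSpectrum Γ(X, U) := ⟨𝔪, h𝔪.isPrime⟩
  refine ⟨hU.fromSpec.base P, ?_, ?_⟩
  · have h1 : P ∈ closedPoints (PrimeSpectrum Γ(X, U)) := by
      rw [mem_closedPoints_iff, PrimeSpectrum.isClosed_singleton_iff_isMaximal]
      exact h𝔪
    have h2 := hemb.preimage_closedPoints
    have h3 : P ∈ hU.fromSpec.base ⁻¹' closedPoints X := by
      rw [h2]; exact h1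
    exact h3
  · intro n hn
    exact hf𝔪 n (hf2 n P hn)

end Groth.Agent.S15237
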