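import Groth.Statements.S15254
import Mathlib
import Groth.Agent.S0051
import Groth.Agent.Lib.Helper27PointVan
import Groth.Agent.Lib.Helper27SerreVan
import Groth.Agent.Lib.Helper4DevI

set_option autoImplicit false
universe u
open CategoryTheory CategoryTheory.Limits AlgebraicGeometry TopologicalSpace
open W4c2seshadripos

namespace Groth.Agent.S15254

/-- Let X be an integral scheme proper over a field k (the published statement: a projective variety), x
a closed point of X with ideal sheaf m_x, and L an ample invertible O_X-module. Then there is m₀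
such that for every m ≥ m₀, every i > 1 and every a ≥ 0 the cohomology group H^i(X, m_x^a ⊗ L^{⊗m})
vanishes (here m_x^a ⊗ L^{⊗m} = m_x^a · L^{⊗m}, the ideal sheaf m_x^a being taken as an O_X-module). -/
theorem result (k : Type u) [Field k] (X : Scheme.{u})
    [X.Over (Spec (CommRingCat.of k))] [IsProper (X ↘ (Spec (CommRingCat.of k)))] [IsIntegral X]
    (x : X) (hx : IsClosed ({x} : Set X)) (L : X.Modules) (hL : CohB1.IsAmple L) :
    ∃ m₀ : ℕ, ∀ m : ℕ, m₀ ≤ m → ∀ i : ℕ, 1 < i → ∀ a : ℕ,
      Subsingleton (Coh.HH X (CohB1.tensorMod (ClSub.idealMod ((W4c2seshadripos.pointIdeal x hx) ^ a))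
        (CohB1.tensorPow L m)) i) := by
  classical
  have hv := (Groth.Agent.S0051.result k X (X ↘ Spec (CommRingCat.of k)) L hL.1).mp hL
    (Coh.structureModule X) (Groth.Agent.Lib.Helper4.Dev.isCoh_structureModule X)
  obtain ⟨m₀, hm₀⟩ := hv
  refine ⟨m₀, fun m hm i hi a => ?_⟩
  obtain ⟨j, rfl⟩ : ∃ j, i = j + 1 := ⟨i - 1, by omega⟩
  have hLm := Groth.Agent.Lib.Helper23.SecTw.isInvertible_tensorPow hL.1 m
  have hSC := Groth.Agent.Lib.Helper27SerreVan.shortExact_tw (CohB1.tensorPow L m) hLm _
    (Groth.Agent.Lib.Helper21.ExtCartier.idealSES_shortExact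
      ((W4c2seshadripos.pointIdeal x hx) ^ a))
  obtain ⟨U, hU, hxU, -⟩ := AlgebraicGeometry.exists_isAffineOpen_mem_and_subset
    (X := X) (x := x) (U := ⊤) trivial
  have hsupp : ((((W4c2seshadripos.pointIdeal x hx) ^ a).support : TopologicalSpace.Closeds X) : Set X) ⊆ U := by
    by_cases ha : a = 0
    · subst ha
      rw [pow_zero]
      intro z hz
      have h1 : (1 : X.IdealSheafData) = ⊤ := rfl
      rw [h1, Scheme.IdealSheafData.support_top] at hz
      exact hz.elim
    · rw [Scheme.IdealSheafData.support_pow _ _ ha]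
      intro z hz
      have h2 : z ∈ ({x} : Set X) := by
        have := hz
        rw [W4c2seshadripos.pointIdeal, SetLike.mem_coe,
          ← SetLike.mem_coe, Scheme.IdealSheafData.coe_support_vanishingIdeal] at this
        exact this
      rw [Set.mem_singleton_iff.1 h2]
      exact hxU
  have h3 := Groth.Agent.Lib.Helper27PointVan.subsingleton_HH_quotMod_tensor
    ((W4c2seshadripos.pointIdeal x hx) ^ a) U hU hsupp (CohB1.tensorPow L m) hLm j (by omega)
  have h2 := hm₀ m hm (j + 1) (by omega)
  exact Groth.Agent.Lib.Helper27PointVan.subsingleton_X₁_succ k _ hSC j h3 h2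

end Groth.Agent.S15254
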