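import Groth.Statements.S15268
import Groth.Agent.Lib.Helper12RelXiFin

set_option autoImplicit false
open CategoryTheory CategoryTheory.Limits AlgebraicGeometry
open Coherent

namespace Groth.Agent.S15268

/-- Over the complex numbers, let S be a separated scheme of finite type, X a closed subscheme of
projective n-space over S which is flat over S and whose fibre X_t over every complex point t of S
is irreducible of dimension d, and ξ a section of X over S. Let E and F be coherent sheaves on X,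
flat over S, such that for every complex point t of S, on the fibre X_t polarised by the pull-back
of O(1): the restrictions E_t and F_t are semistable of dimension d (nonzero, pure of dimension d,
reduced Hilbert polynomials of nonzero proper coherent subsheaves at most that of the sheaf for
large arguments) with the same reduced Hilbert polynomial (r(F_t)·p_{E_t} = r(E_t)·p_{F_t}, r
denoting d! times the degree-d coefficient), and each of E_t, F_t has a filtration by coherent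
subsheaves with stable d-dimensional successive quotients of that reduced Hilbert polynomial whose
associated graded sheaf is finite locally free on an open neighbourhood of the point ξ(t). Then
every morphism φ from E to F whose pull-back along ξ is the zero map is zero. (The published
statement is for modules over a sheaf of rings of differential operators and imposes the fibre
conditions at the closed points of the base; this row is the case of the structure sheaf, with the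
conditions at complex points, which are the closed points here.) -/
theorem result
    (S : Scheme.{0}) (sS : S ⟶ Spec (CommRingCat.of ℂ)) [LocallyOfFiniteType sS] [QuasiCompact sS] [IsSeparated sS]
    (n : ℕ) (X : Scheme.{0}) (i : X ⟶ CohB1.ProjSpaceOver n S) [IsClosedImmersion i] [Flat (i ≫ (CohB1.ProjSpaceOver n S ↘ S))] (d : ℕ)
    (ξ : S ⟶ X) (hξ : ξ ≫ (i ≫ (CohB1.ProjSpaceOver n S ↘ S)) = 𝟙 S)
    (hfib : ∀ (t : Spec (CommRingCat.of ℂ) ⟶ S), t ≫ sS = 𝟙 (Spec (CommRingCat.of ℂ)) →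
      IrreducibleSpace (PicF.XT (i ≫ (CohB1.ProjSpaceOver n S ↘ S)) (Over.mk t)) ∧ topologicalKrullDim (PicF.XT (i ≫ (CohB1.ProjSpaceOver n S ↘ S)) (Over.mk t)) = (d : WithBot ℕ∞))
    (E F : X.Modules) (hE : Coh.IsCoh E) (hF : Coh.IsCoh F)
    (hEfl : FlatMod.IsFlatOver (i ≫ (CohB1.ProjSpaceOver n S ↘ S)) E) (hFfl : FlatMod.IsFlatOver (i ≫ (CohB1.ProjSpaceOver n S ↘ S)) F)
    (hss : ∀ (t : Spec (CommRingCat.of ℂ) ⟶ S), t ≫ sS = 𝟙 (Spec (CommRingCat.of ℂ)) →
      @ShStab.IsSemistable ℂ _ (PicF.XT (i ≫ (CohB1.ProjSpaceOver n S ↘ S)) (Over.mk t)) ⟨PicF.XTproj (i ≫ (CohB1.ProjSpaceOver n S ↘ S)) (Over.mk t)⟩ ((Scheme.Modules.pullback (pullback.fst (i ≫ (CohB1.ProjSpaceOver n S ↘ S)) (Over.mk t).hom ≫ i)).obj (Twist.twistOver n S 1)) ((Scheme.Modules.pullback (pullback.fst (i ≫ (CohB1.ProjSpaceOver n S ↘ S)) (Over.mk t).hom)).obj E) d ∧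
      @ShStab.IsSemistable ℂ _ (PicF.XT (i ≫ (CohB1.ProjSpaceOver n S ↘ S)) (Over.mk t)) ⟨PicF.XTproj (i ≫ (CohB1.ProjSpaceOver n S ↘ S)) (Over.mk t)⟩ ((Scheme.Modules.pullback (pullback.fst (i ≫ (CohB1.ProjSpaceOver n S ↘ S)) (Over.mk t).hom ≫ i)).obj (Twist.twistOver n S 1)) ((Scheme.Modules.pullback (pullback.fst (i ≫ (CohB1.ProjSpaceOver n S ↘ S)) (Over.mk t).hom)).obj F) d ∧
      ∀ pE pF : Polynomial ℚ, @ShStab.IsHilbPoly ℂ _ (PicF.XT (i ≫ (CohB1.ProjSpaceOver n S ↘ S)) (Over.mk t)) ⟨PicF.XTproj (i ≫ (CohB1.ProjSpaceOver n S ↘ S)) (Over.mk t)⟩ ((Scheme.Modules.pullback (pullback.fst (i ≫ (CohB1.ProjSpaceOver n S ↘ S)) (Over.mk t).hom ≫ i)).obj (Twist.twistOver n S 1)) ((Scheme.Modules.pullback (pullback.fst (i ≫ (CohB1.ProjSpaceOver n S ↘ S)) (Over.mk t).hom)).obj E) pE →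
        @ShStab.IsHilbPoly ℂ _ (PicF.XT (i ≫ (CohB1.ProjSpaceOver n S ↘ S)) (Over.mk t)) ⟨PicF.XTproj (i ≫ (CohB1.ProjSpaceOver n S ↘ S)) (Over.mk t)⟩ ((Scheme.Modules.pullback (pullback.fst (i ≫ (CohB1.ProjSpaceOver n S ↘ S)) (Over.mk t).hom ≫ i)).obj (Twist.twistOver n S 1)) ((Scheme.Modules.pullback (pullback.fst (i ≫ (CohB1.ProjSpaceOver n S ↘ S)) (Over.mk t).hom)).obj F) pF → StabCat.RedEq d pE pF)
    (hLF : ∀ (t : Spec (CommRingCat.of ℂ) ⟶ S), t ≫ sS = 𝟙 (Spec (CommRingCat.of ℂ)) →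
      (∃ sE : LTSeries (Subobject ((Scheme.Modules.pullback (pullback.fst (i ≫ (CohB1.ProjSpaceOver n S ↘ S)) (Over.mk t).hom)).obj E)), @ShStab.IsJHFiltration ℂ _ (PicF.XT (i ≫ (CohB1.ProjSpaceOver n S ↘ S)) (Over.mk t)) ⟨PicF.XTproj (i ≫ (CohB1.ProjSpaceOver n S ↘ S)) (Over.mk t)⟩ ((Scheme.Modules.pullback (pullback.fst (i ≫ (CohB1.ProjSpaceOver n S ↘ S)) (Over.mk t).hom ≫ i)).obj (Twist.twistOver n S 1)) ((Scheme.Modules.pullback (pullback.fst (i ≫ (CohB1.ProjSpaceOver n S ↘ S)) (Over.mk t).hom)).obj E) d sE ∧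
          ∀ x ∈ Set.range (PicF.secT (i ≫ (CohB1.ProjSpaceOver n S ↘ S)) ξ hξ (Over.mk t)).base, ∃ U : (PicF.XT (i ≫ (CohB1.ProjSpaceOver n S ↘ S)) (Over.mk t)).Opens, x ∈ U ∧ FlatMod.IsFinLocFree ((StabCat.grObj sE).restrict U.ι)) ∧
      (∃ sF : LTSeries (Subobject ((Scheme.Modules.pullback (pullback.fst (i ≫ (CohB1.ProjSpaceOver n S ↘ S)) (Over.mk t).hom)).obj F)), @ShStab.IsJHFiltration ℂ _ (PicF.XT (i ≫ (CohB1.ProjSpaceOver n S ↘ S)) (Over.mk t)) ⟨PicF.XTproj (i ≫ (CohB1.ProjSpaceOver n S ↘ S)) (Over.mk t)⟩ ((Scheme.Modules.pullback (pullback.fst (i ≫ (CohB1.ProjSpaceOver n S ↘ S)) (Over.mk t).hom ≫ i)).obj (Twist.twistOver n S 1)) ((Scheme.Modules.pullback (pullback.fst (i ≫ (CohB1.ProjSpaceOver n S ↘ S)) (Over.mk t).hom)).obj F) d sF ∧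
          ∀ x ∈ Set.range (PicF.secT (i ≫ (CohB1.ProjSpaceOver n S ↘ S)) ξ hξ (Over.mk t)).base, ∃ U : (PicF.XT (i ≫ (CohB1.ProjSpaceOver n S ↘ S)) (Over.mk t)).Opens, x ∈ U ∧ FlatMod.IsFinLocFree ((StabCat.grObj sF).restrict U.ι)))
    (φ : E ⟶ F) (hφ : (Scheme.Modules.pullback ξ).map φ = 0) : φ = 0 := by
  haveI : IsLocallyNoetherian S := LocallyOfFiniteType.isLocallyNoetherian sS
  haveI : IsProper (CohB1.ProjSpaceOver n S ↘ S) :=
    Groth.Agent.Lib.Helper27ProjSpaceFibres.isProper_toBase n S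
  haveI : IsProper (i ≫ (CohB1.ProjSpaceOver n S ↘ S)) := inferInstance
  haveI : LocallyOfFiniteType (i ≫ (CohB1.ProjSpaceOver n S ↘ S)) := inferInstance
  haveI : IsLocallyNoetherian X :=
    LocallyOfFiniteType.isLocallyNoetherian (i ≫ (CohB1.ProjSpaceOver n S ↘ S))
  haveI : CompactSpace S := QuasiCompact.compactSpace_of_compactSpace sS
  haveI : CompactSpace X :=
    QuasiCompact.compactSpace_of_compactSpace (i ≫ (CohB1.ProjSpaceOver n S ↘ S))
  by_contra hne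
  -- a closed point in the support of the image
  have hcoh := Groth.Agent.Lib.Helper4.Dev.isCoh_image φ hE hF
  have hcl := Groth.Agent.Lib.Helper4.Dev.isClosed_support _ hcoh
  have hnonempty : (CohB1.support (Abelian.image φ)).Nonempty := by
    rw [Set.nonempty_iff_ne_empty]
    intro hempty
    have hz := Groth.Agent.Lib.Helper4.Dev.isZero_of_support_eq_empty _ hempty
    apply hne
    rw [← Abelian.image.fac φ, hz.eq_of_tgt (Abelian.factorThruImage φ) 0, zero_comp]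
  obtain ⟨x, hxsupp, hxcl⟩ := hcl.exists_closed_singleton hnonempty
  -- a complex point through `x`
  haveI : LocallyOfFiniteType ((i ≫ (CohB1.ProjSpaceOver n S ↘ S)) ≫ sS) := inferInstance
  obtain ⟨p, hp, hpx⟩ := Groth.Agent.Lib.Helper11KPts.exists_point_of_closedPoint (k := ℂ) (K := ℂ)
    ((i ≫ (CohB1.ProjSpaceOver n S ↘ S)) ≫ sS) x hxcl
  have hp' : p ≫ (i ≫ (CohB1.ProjSpaceOver n S ↘ S)) ≫ sS = 𝟙 (Spec (CommRingCat.of ℂ)) := by
    rw [hp]
    have : CommRingCat.ofHom (algebraMap ℂ ℂ) = 𝟙 (CommRingCat.of ℂ) := rfl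
    rw [this, Spec.map_id]
  let t : Spec (CommRingCat.of ℂ) ⟶ S := p ≫ (i ≫ (CohB1.ProjSpaceOver n S ↘ S))
  have ht : t ≫ sS = 𝟙 (Spec (CommRingCat.of ℂ)) := by
    show (p ≫ (i ≫ (CohB1.ProjSpaceOver n S ↘ S))) ≫ sS = _
    rw [Category.assoc]
    exact hp'
  -- surjectivity of the evaluation map on the local ring
  have hsurj : Function.Surjective (Scheme.stalkClosedPointTo t).hom := by
    let q : Spec (S.presheaf.stalk (t.base (IsLocalRing.closedPoint ℂ))) ⟶ Spec (CommRingCat.of ℂ) :=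
      S.fromSpecStalk _ ≫ sS
    let c : CommRingCat.of ℂ ⟶ S.presheaf.stalk (t.base (IsLocalRing.closedPoint ℂ)) := Spec.preimage q
    have hq : Spec.map c = q := Spec.map_preimage q
    have h1 : c ≫ Scheme.stalkClosedPointTo t = 𝟙 _ := by
      apply Spec.map_injective
      rw [Spec.map_comp, hq, Spec.map_id]
      show Spec.map (Scheme.stalkClosedPointTo t) ≫ S.fromSpecStalk _ ≫ sS = _
      rw [← Category.assoc, Scheme.Spec_stalkClosedPointTo_fromSpecStalk, ht]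
    intro y
    exact ⟨c.hom y, congrArg (fun τ => τ.hom y) h1⟩
  -- local freeness of `F` along the section
  have hlf : Groth.Agent.Lib.Helper12.XiA.LFnear F (ξ.base (t.base (IsLocalRing.closedPoint ℂ))) :=
    Groth.Agent.S15270.result S sS n X i d ξ hξ F hF hFfl (fun t' ht' => (hss t' ht').2.1)
      (fun t' ht' => (hLF t' ht').2) t ht _ ⟨IsLocalRing.closedPoint ℂ, rfl⟩
  -- the fibre
  let ξ₀ := PicF.secT (i ≫ (CohB1.ProjSpaceOver n S ↘ S)) ξ hξ (Over.mk t)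
  have hξ₀ : ξ₀ ≫ pullback.fst (i ≫ (CohB1.ProjSpaceOver n S ↘ S)) t = t ≫ ξ := by
    show pullback.lift _ _ _ ≫ _ = _
    exact pullback.lift_fst _ _ _
  have hξ₀' : ξ₀ ≫ pullback.snd (i ≫ (CohB1.ProjSpaceOver n S ↘ S)) t = 𝟙 _ := by
    show pullback.lift _ _ _ ≫ _ = _
    exact pullback.lift_snd _ _ _
  have Hfib : ∀ ψ : (Scheme.Modules.pullback (pullback.fst (i ≫ (CohB1.ProjSpaceOver n S ↘ S)) t)).obj E ⟶
      (Scheme.Modules.pullback (pullback.fst (i ≫ (CohB1.ProjSpaceOver n S ↘ S)) t)).obj F,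
        (Scheme.Modules.pullback ξ₀).map ψ = 0 → ψ = 0 := by
    intro ψ hψ
    letI : (PicF.XT (i ≫ (CohB1.ProjSpaceOver n S ↘ S)) (Over.mk t)).Over (Spec (CommRingCat.of ℂ)) :=
      ⟨PicF.XTproj (i ≫ (CohB1.ProjSpaceOver n S ↘ S)) (Over.mk t)⟩
    haveI : IsProper ((PicF.XT (i ≫ (CohB1.ProjSpaceOver n S ↘ S)) (Over.mk t)) ↘ Spec (CommRingCat.of ℂ)) := by
      show IsProper (pullback.snd (i ≫ (CohB1.ProjSpaceOver n S ↘ S)) t)
      infer_instance
    obtain ⟨hirr, hdim⟩ := hfib t ht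
    haveI := hirr
    have hamp := Groth.Agent.Lib.Helper12.RelXiFin.isAmple_pullback_fibre n i t
    obtain ⟨hssE, hssF, hred⟩ := hss t ht
    obtain ⟨⟨sE, hsE, hgrE⟩, ⟨sF, hsF, hgrF⟩⟩ := hLF t ht
    obtain ⟨pE, hpE⟩ := Groth.Agent.Lib.Helper12.HP.exists_hilbPoly ℂ
      (PicF.XT (i ≫ (CohB1.ProjSpaceOver n S ↘ S)) (Over.mk t)) _ hamp.1 _ hssE.1
    obtain ⟨pF, hpF⟩ := Groth.Agent.Lib.Helper12.HP.exists_hilbPoly ℂ
      (PicF.XT (i ≫ (CohB1.ProjSpaceOver n S ↘ S)) (Over.mk t)) _ hamp.1 _ hssF.1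
    exact Groth.Agent.S15267.result (PicF.XT (i ≫ (CohB1.ProjSpaceOver n S ↘ S)) (Over.mk t)) d hdim _ hamp
      _ _ hssE hssF pE pF hpE hpF (hred pE pF hpE hpF) ξ₀ hξ₀' sE hsE hgrE sF hsF hgrF ψ hψ
  -- the point of the fibre over `x`
  let z₀ : Spec (CommRingCat.of ℂ) ⟶ pullback (i ≫ (CohB1.ProjSpaceOver n S ↘ S)) t :=
    pullback.lift p (𝟙 _) (by rw [Category.id_comp])
  let z' := z₀.base (IsLocalRing.closedPoint ℂ)
  have hz' : (pullback.fst (i ≫ (CohB1.ProjSpaceOver n S ↘ S)) t).base z' = x := by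
    show (pullback.fst (i ≫ (CohB1.ProjSpaceOver n S ↘ S)) t).base (z₀.base (IsLocalRing.closedPoint ℂ)) = x
    rw [← Scheme.Hom.comp_apply, pullback.lift_fst]
    exact hpx _
  have key := Groth.Agent.Lib.Helper12.RelXiApp.sm_eq_zero_of_section (i ≫ (CohB1.ProjSpaceOver n S ↘ S)) ξ hξ t
    hsurj hF hFfl hlf φ hφ ξ₀ hξ₀ hξ₀' Hfib z'
  exact Groth.Agent.Lib.Helper12.RelXiFin.not_mem_support_image φ x
    (Groth.Agent.Lib.Helper12.RelXiApp.sm_eq_zero_transport φ hz' key) hxsupp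

end Groth.Agent.S15268
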