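import Groth.Statements.S15295
import Mathlib
import Groth.Agent.Lib.Helper15ExtBC
-- import your own Groth.Agent.* helpers here

set_option autoImplicit false
universe u
open DeRham

namespace Groth.Agent.S15295.Aux

set_option autoImplicit false
open DeRham

open exteriorPower TensorProduct
open Groth.Agent.Lib.Helper15ExtBC

/-- Induction principle: the elements `c · db₁ ∧ … ∧ db_p` additively generate `⋀^p Ω[A⁄R]`. -/
theorem gen_induction {R A : Type u} [CommRing R] [CommRing A] [Algebra R A] (p : ℕ)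
    (P : ↥(⋀[A]^p (Ω[A⁄R])) → Prop) (h0 : P 0) (hadd : ∀ x y, P x → P y → P (x + y))
    (hgen : ∀ (c : A) (b : Fin p → A), P (gen (KaehlerDifferential.D R A) p c b)) :
    ∀ ω, P ω := by
  intro ω
  have hspan := exteriorPower.ιMulti_span_of_span (R := A) (n := p) (M := Ω[A⁄R])
    (KaehlerDifferential.span_range_derivation R A)
  have hω : ω ∈ Submodule.span A (exteriorPower.ιMulti A p ''
      {v : Fin p → Ω[A⁄R] | Set.range v ⊆ Set.range (KaehlerDifferential.D R A)}) := by
    rw [hspan]; exact Submodule.mem_top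
  have key : ∀ c : A, P (c • ω) := by
    induction hω using Submodule.span_induction with
    | mem ω h =>
      obtain ⟨v, hv, rfl⟩ := h
      have hv' : ∀ i, ∃ b : A, KaehlerDifferential.D R A b = v i := fun i => hv ⟨i, rfl⟩
      choose b hb using hv'
      intro c
      have h2 : c • exteriorPower.ιMulti A p v = gen (KaehlerDifferential.D R A) p c b := by
        simp only [gen, hb]
      rw [h2]; exact hgen c b
    | zero => intro c; rw [smul_zero]; exact h0
    | add x y _ _ hx hy => intro c; rw [smul_add]; exact hadd _ _ (hx c) (hy c)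
    | smul e x _ hx => intro c; rw [smul_smul]; exact hx (c * e)
  have := key 1
  rwa [one_smul] at this

/-- `exteriorPower.map` of a linear equivalence. -/
noncomputable def mapEquiv {B N N' : Type u} [CommRing B] [AddCommGroup N] [Module B N]
    [AddCommGroup N'] [Module B N'] (e : N ≃ₗ[B] N') (p : ℕ) : ↥(⋀[B]^p N) ≃ₗ[B] ↥(⋀[B]^p N') :=
  LinearEquiv.ofLinearMap (exteriorPower.map p e.toLinearMap) (exteriorPower.map p e.symm.toLinearMap)
    (by rw [← exteriorPower.map_comp]; simp) (by rw [← exteriorPower.map_comp]; simp)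

section
variable (R S A B : Type u) [CommRing R] [CommRing S] [CommRing A] [CommRing B]
    [Algebra R S] [Algebra R A] [Algebra R B] [Algebra A B] [Algebra S B]
    [IsScalarTower R A B] [IsScalarTower R S B] [Algebra.IsPushout R S A B]

noncomputable def total (p : ℕ) : S ⊗[R] ↥(⋀[A]^p (Ω[A⁄R])) ≃+ ↥(⋀[B]^p (Ω[B⁄S])) :=
  ((Algebra.IsPushout.cancelBaseChange R S A B ↥(⋀[A]^p (Ω[A⁄R]))).symm.toAddEquiv).trans
    ((bcEquiv A B (Ω[A⁄R]) p).toAddEquiv.trans
      (mapEquiv (KaehlerDifferential.tensorKaehlerEquiv R S A B) p).toAddEquiv)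

lemma mapEquiv_ιMulti {B N N' : Type u} [CommRing B] [AddCommGroup N] [Module B N]
    [AddCommGroup N'] [Module B N'] (e : N ≃ₗ[B] N') (p : ℕ) (v : Fin p → N) :
    mapEquiv e p (exteriorPower.ιMulti B p v) = exteriorPower.ιMulti B p (fun i => e (v i)) := by
  show exteriorPower.map p e.toLinearMap _ = _
  rw [exteriorPower.map_apply_ιMulti]
  rfl

lemma total_apply (p : ℕ) (z : S ⊗[R] ↥(⋀[A]^p (Ω[A⁄R]))) :
    total R S A B p z = mapEquiv (KaehlerDifferential.tensorKaehlerEquiv R S A B) p
      (bcEquiv A B (Ω[A⁄R]) p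
        ((Algebra.IsPushout.cancelBaseChange R S A B ↥(⋀[A]^p (Ω[A⁄R]))).symm z)) := rfl

lemma total_tmul_gen (p : ℕ) (s : S) (b₀ : A) (b : Fin p → A) :
    total R S A B p (s ⊗ₜ[R] gen (KaehlerDifferential.D R A) p b₀ b)
      = s • gen (KaehlerDifferential.D S B) p (algebraMap A B b₀) (fun i => algebraMap A B (b i)) := by
  rw [total_apply, Algebra.IsPushout.cancelBaseChange_symm_tmul, bcEquiv_tmul]
  unfold gen
  rw [map_smul, map_smul, fwd0_ιMulti, algebraMap_smul, ← algebraMap_smul B b₀, map_smul,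
    mapEquiv_ιMulti]
  congr 3
  funext i
  rw [KaehlerDifferential.tensorKaehlerEquiv_tmul_D, one_smul]

theorem main
    (ψ : ∀ p : ℕ, ↥(⋀[A]^p (Ω[A⁄R])) →+ ↥(⋀[B]^p (Ω[B⁄S])))
    (hψ : DeRham.IsCxMap (KaehlerDifferential.D R A) (KaehlerDifferential.D S B) (algebraMap A B) ψ)
    (p : ℕ) (Φ : S ⊗[R] ↥(⋀[A]^p (Ω[A⁄R])) →+ ↥(⋀[B]^p (Ω[B⁄S])))
    (hΦ : ∀ (s : S) (x : ↥(⋀[A]^p (Ω[A⁄R]))), Φ (s ⊗ₜ[R] x) = s • ψ p x) :
    Function.Bijective Φ := by
  have h : ∀ z, Φ z = total R S A B p z := by
    intro z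
    induction z using TensorProduct.induction_on with
    | zero => simp
    | add x y hx hy => rw [map_add, map_add, hx, hy]
    | tmul s x =>
      rw [hΦ]
      induction x using gen_induction with
      | h0 => simp
      | hadd x y hx hy => rw [map_add, smul_add, TensorProduct.tmul_add, map_add, hx, hy]
      | hgen c b => rw [hψ p c b, total_tmul_gen]
  have : ⇑Φ = ⇑(total R S A B p) := funext h
  rw [this]
  exact (total R S A B p).bijective

end

end Groth.Agent.S15295.Aux

namespace Groth.Agent.S15295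

open exteriorPower TensorProduct in
/-- The de Rham complex commutes with base change. Let R → A and R → S be ring maps and B = S ⊗_R A (an
R-algebra over A and S with the pushout property), and let ψ be the induced map of de Rham complexes
from the p-forms of A over R to the p-forms of B over S (additive maps sending b₀ db₁ ∧ … ∧ db_p to
g(b₀) d(g b₁) ∧ … ∧ d(g b_p), g : A → B the structure map). Then in each degree p the S-linear
extension S ⊗_R ⋀^p Ω_{A/R} → ⋀^p Ω_{B/S}, s ⊗ x ↦ s · ψ_p(x), is bijective. (This row states the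
degreewise bijectivity, with the base change written S ⊗_R − rather than − ⊗_R S; the compatibility
of ψ with the differentials, which makes this an isomorphism of complexes, holds for any square of
ring maps.) -/
theorem result (R S A B : Type u) [CommRing R] [CommRing S] [CommRing A] [CommRing B]
    [Algebra R S] [Algebra R A] [Algebra R B] [Algebra A B] [Algebra S B]
    [IsScalarTower R A B] [IsScalarTower R S B] [Algebra.IsPushout R S A B]
    (ψ : ∀ p : ℕ, ↥(⋀[A]^p (Ω[A⁄R])) →+ ↥(⋀[B]^p (Ω[B⁄S])))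
    (hψ : DeRham.IsCxMap (KaehlerDifferential.D R A) (KaehlerDifferential.D S B) (algebraMap A B) ψ)
    (p : ℕ) (Φ : S ⊗[R] ↥(⋀[A]^p (Ω[A⁄R])) →+ ↥(⋀[B]^p (Ω[B⁄S])))
    (hΦ : ∀ (s : S) (x : ↥(⋀[A]^p (Ω[A⁄R]))), Φ (s ⊗ₜ[R] x) = s • ψ p x) :
    Function.Bijective Φ := by
  exact Aux.main R S A B ψ hψ p Φ hΦ

end Groth.Agent.S15295
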