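import Groth.Statements.S15296
import Mathlib
import Groth.Agent.Lib.Helper11DRC
-- import your own Groth.Agent.* helpers here

set_option autoImplicit false
universe u
open DeRham

namespace Groth.Agent.S15296.Aux

set_option autoImplicit false
open DeRham

open exteriorPower
open Groth.Agent.Lib.Helper11DR

/-- Induction principle: the elements `c · db₁ ∧ … ∧ db_p` additively generate `⋀^p Ω[A⁄R]`. -/
theorem gen_induction {R A : Type u} [CommRing R] [CommRing A] [Algebra R A] (p : ℕ)
    (P : ↥(⋀[A]^p (Ω[A⁄R])) → Prop) (h0 : P 0) (hadd : ∀ x y, P x → P y → P (x + y))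
    (hgen : ∀ (c : A) (b : Fin p → A), P (gen (KaehlerDifferential.D R A) p c b)) :
    ∀ ω, P ω := by
  intro ω
  have hspan := exteriorPower.ιMulti_span_of_span (R := A) (n := p) (M := Ω[A⁄R])
    (KaehlerDifferential.span_range_derivation R A)
  have hω : ω ∈ Submodule.span A (exteriorPower.ιMulti A p ''
      {v : Fin p → Ω[A⁄R] | Set.range v ⊆ Set.range (KaehlerDifferential.D R A)}) := by
    rw [hspan]; exact Submodule.mem_top
  have key : ∀ c : A, P (c • ω) := by
    induction hω using Submodule.span_induction with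
    | mem ω h =>
      obtain ⟨v, hv, rfl⟩ := h
      have hv' : ∀ i, ∃ b : A, KaehlerDifferential.D R A b = v i := fun i => hv ⟨i, rfl⟩
      choose b hb using hv'
      intro c
      have h2 : c • exteriorPower.ιMulti A p v = gen (KaehlerDifferential.D R A) p c b := by
        simp only [gen, hb]
      rw [h2]; exact hgen c b
    | zero => intro c; rw [smul_zero]; exact h0
    | add x y _ _ hx hy => intro c; rw [smul_add]; exact hadd _ _ (hx c) (hy c)
    | smul e x _ hx => intro c; rw [smul_smul]; exact hx (c * e)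
  have := key 1
  rwa [one_smul] at this

section
variable (R A : Type u) [CommRing R] [CommRing A] [Algebra R A]

/-- `dR` kills wedges of exact one-forms. -/
lemma dR_ιMulti_D (p : ℕ) (b : Fin p → A) :
    dR R A (ExteriorAlgebra.ιMulti A p (fun i => KaehlerDifferential.D R A (b i))) = 0 := by
  induction p with
  | zero => 
    rw [ExteriorAlgebra.ιMulti_zero_apply]
    have : (1 : ExteriorAlgebra A (Ω[A⁄R])) = algebraMap A _ 1 := (map_one _).symm
    rw [this, dR_algebraMap, Derivation.map_one_eq_zero, map_zero]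
  | succ n ih =>
    rw [ExteriorAlgebra.ιMulti_succ_apply, dR_mul, dR_ι, d1_D, zero_mul, zero_add]
    have := ih (fun i => b i.succ)
    have h2 : (Matrix.vecTail fun i => KaehlerDifferential.D R A (b i))
        = fun i => KaehlerDifferential.D R A (b i.succ) := rfl
    rw [h2, this, mul_zero]

/-- Uniqueness: any differential satisfying the rule coincides with `dR`. -/
lemma dA_eq_dR (dA : ∀ p : ℕ, ↥(⋀[A]^p (Ω[A⁄R])) →ₗ[R] ↥(⋀[A]^(p + 1) (Ω[A⁄R])))
    (hdA : DeRham.IsRule (KaehlerDifferential.D R A) dA) (p : ℕ) (x : ↥(⋀[A]^p (Ω[A⁄R]))) :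
    ((dA p x : ↥(⋀[A]^(p + 1) (Ω[A⁄R]))) : ExteriorAlgebra A (Ω[A⁄R])) = dR R A (x : ExteriorAlgebra A (Ω[A⁄R])) := by
  induction x using gen_induction with
  | h0 => simp
  | hadd x y hx hy => rw [map_add, Submodule.coe_add, hx, hy, Submodule.coe_add, map_add]
  | hgen c b =>
    rw [hdA p c b]
    unfold gen
    rw [exteriorPower.ιMulti_apply_coe, ExteriorAlgebra.ιMulti_succ_apply, Submodule.coe_smul,
      exteriorPower.ιMulti_apply_coe, Algebra.smul_def, dR_mul, dR_algebraMap, dR_ιMulti_D, mul_zero,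
      add_zero]
    rfl


variable {Ω' : Type u} [AddCommGroup Ω'] [Module A Ω'] (π : Ω[A⁄R] →ₗ[A] Ω')

local notation "EE" => ExteriorAlgebra A (Ω[A⁄R])
local notation "EE'" => ExteriorAlgebra A Ω'

lemma map_sg (x : EE) : ExteriorAlgebra.map π (sg A (Ω[A⁄R]) x) = sg A Ω' (ExteriorAlgebra.map π x) := by
  have h : (ExteriorAlgebra.map π).comp (sg A (Ω[A⁄R])) = (sg A Ω').comp (ExteriorAlgebra.map π) := by
    apply ExteriorAlgebra.hom_ext
    refine LinearMap.ext fun ω => ?_
    show ExteriorAlgebra.map π (sg A (Ω[A⁄R]) (ExteriorAlgebra.ι A ω))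
      = sg A Ω' (ExteriorAlgebra.map π (ExteriorAlgebra.ι A ω))
    rw [sg_ι, map_neg, ExteriorAlgebra.map_apply_ι, sg_ι]
  exact AlgHom.congr_fun h x

/-- The congruence: same image and same image of the differential. -/
def TCon : RingCon EE where
  r x y := ExteriorAlgebra.map π x = ExteriorAlgebra.map π y ∧
    ExteriorAlgebra.map π (dR R A x) = ExteriorAlgebra.map π (dR R A y)
  iseqv := ⟨fun _ => ⟨rfl, rfl⟩, fun h => ⟨h.1.symm, h.2.symm⟩,
    fun h1 h2 => ⟨h1.1.trans h2.1, h1.2.trans h2.2⟩⟩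
  mul' := by
    intro w x y z h1 h2
    refine ⟨by rw [map_mul, map_mul, h1.1, h2.1], ?_⟩
    rw [dR_mul, dR_mul, map_add, map_add, map_mul, map_mul, map_mul, map_mul, map_sg, map_sg,
      h1.1, h1.2, h2.1, h2.2]
  add' := by
    intro w x y z h1 h2
    exact ⟨by rw [map_add, map_add, h1.1, h2.1], by
      rw [map_add, map_add, map_add, map_add, h1.2, h2.2]⟩

lemma TCon_iff (x y : EE) : TCon R A π x y ↔ (ExteriorAlgebra.map π x = ExteriorAlgebra.map π y ∧
    ExteriorAlgebra.map π (dR R A x) = ExteriorAlgebra.map π (dR R A y)) := Iff.rfl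


omit [Algebra R A] in
lemma exists_descend {R₀ M N P : Type u} [Ring R₀] [AddCommGroup M] [AddCommGroup N] [AddCommGroup P]
    [Module R₀ M] [Module R₀ N] [Module R₀ P] (f : M →ₗ[R₀] N) (hf : Function.Surjective f)
    (g : M →ₗ[R₀] P) (h : LinearMap.ker f ≤ LinearMap.ker g) :
    ∃ h' : N →ₗ[R₀] P, ∀ x, h' (f x) = g x := by
  refine ⟨((LinearMap.ker f).liftQ g h) ∘ₗ (f.quotKerEquivOfSurjective hf).symm.toLinearMap, ?_⟩
  intro x
  rw [LinearMap.comp_apply]
  have h1 : (f.quotKerEquivOfSurjective hf).symm (f x) = Submodule.Quotient.mk x := by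
    rw [LinearEquiv.symm_apply_eq]
    rfl
  rw [LinearEquiv.coe_coe, h1, Submodule.liftQ_apply]

/-- Key: if `E(π)` kills `d(ι ω)` for `ω ∈ ker π`, then `E(π) ∘ d` kills `ker E(π)`. -/
lemma map_dR_eq_zero (hπ : Function.Surjective π)
    (hk : ∀ ω, π ω = 0 → ExteriorAlgebra.map π (dR R A (ExteriorAlgebra.ι A ω)) = 0)
    (x : EE) (hx : ExteriorAlgebra.map π x = 0) : ExteriorAlgebra.map π (dR R A x) = 0 := by
  -- the linear map Ω' → Q
  let mk : EE →ₐ[A] (TCon R A π).Quotient := (TCon R A π).mkₐ A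
  have hmk : ∀ x y, mk x = mk y ↔ TCon R A π x y := fun x y => RingCon.eq _
  obtain ⟨lin, hlin⟩ := exists_descend π hπ (mk.toLinearMap ∘ₗ ExteriorAlgebra.ι A) (by
    intro ω hω
    rw [LinearMap.mem_ker] at hω ⊢
    rw [LinearMap.comp_apply, AlgHom.toLinearMap_apply]
    have : mk (ExteriorAlgebra.ι A ω) = mk 0 := by
      rw [hmk, TCon_iff]
      refine ⟨?_, ?_⟩
      · rw [ExteriorAlgebra.map_apply_ι, hω, map_zero, map_zero]
      · rw [hk ω hω, map_zero, map_zero]
    rw [this, map_zero])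
  have hsq : ∀ m, lin m * lin m = 0 := by
    intro m
    obtain ⟨ω, rfl⟩ := hπ m
    rw [hlin, LinearMap.comp_apply, AlgHom.toLinearMap_apply, ← map_mul, ExteriorAlgebra.ι_sq_zero,
      map_zero]
  let h : EE' →ₐ[A] (TCon R A π).Quotient := ExteriorAlgebra.lift A ⟨lin, hsq⟩
  have hcomp : h.comp (ExteriorAlgebra.map π) = mk := by
    apply ExteriorAlgebra.hom_ext
    refine LinearMap.ext fun ω => ?_
    show h (ExteriorAlgebra.map π (ExteriorAlgebra.ι A ω)) = mk (ExteriorAlgebra.ι A ω)
    rw [ExteriorAlgebra.map_apply_ι, ExteriorAlgebra.lift_ι_apply, hlin]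
    rfl
  have h1 : mk x = mk 0 := by
    rw [← hcomp, AlgHom.comp_apply, AlgHom.comp_apply, hx, map_zero, map_zero, map_zero]
  rw [hmk, TCon_iff] at h1
  rw [h1.2, map_zero, map_zero]


omit [Algebra R A] in
lemma coe_map {M N : Type u} [AddCommGroup M] [Module A M] [AddCommGroup N] [Module A N]
    (f : M →ₗ[A] N) (p : ℕ) (y : ↥(⋀[A]^p M)) :
    ((exteriorPower.map p f y : ↥(⋀[A]^p N)) : ExteriorAlgebra A N)
      = ExteriorAlgebra.map f (y : ExteriorAlgebra A M) := by
  have key : (Submodule.subtype (⋀[A]^p N)) ∘ₗ exteriorPower.map p f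
      = (ExteriorAlgebra.map f).toLinearMap ∘ₗ Submodule.subtype (⋀[A]^p M) := by
    apply exteriorPower.linearMap_ext
    ext v
    simp only [LinearMap.compAlternatingMap_apply, LinearMap.comp_apply, Submodule.subtype_apply,
      exteriorPower.map_apply_ιMulti, exteriorPower.ιMulti_apply_coe, AlgHom.toLinearMap_apply,
      ExteriorAlgebra.map_apply_ιMulti]
  exact LinearMap.congr_fun key y

omit [Algebra R A] in
lemma coe_oneEquiv_symm {M : Type u} [AddCommGroup M] [Module A M] (m : M) :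
    (((exteriorPower.oneEquiv A M).symm m : ↥(⋀[A]^1 M)) : ExteriorAlgebra A M)
      = ExteriorAlgebra.ι A m := by
  have : (exteriorPower.oneEquiv A M).symm m = exteriorPower.ιMulti A 1 (fun _ => m) := by
    rw [LinearEquiv.symm_apply_eq, exteriorPower.oneEquiv_ιMulti]
  rw [this, exteriorPower.ιMulti_apply_coe, ExteriorAlgebra.ιMulti_succ_apply,
    ExteriorAlgebra.ιMulti_zero_apply, mul_one]

theorem main (Ω'' : Type u) [AddCommGroup Ω''] [Module A Ω''] [Module R Ω''] [IsScalarTower R A Ω'']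
    (π : Ω[A⁄R] →ₗ[A] Ω'') (hπ : Function.Surjective π)
    (dA : ∀ p : ℕ, ↥(⋀[A]^p (Ω[A⁄R])) →ₗ[R] ↥(⋀[A]^(p + 1) (Ω[A⁄R])))
    (hdA : DeRham.IsDiff (KaehlerDifferential.D R A) dA)
    (hker : LinearMap.ker π ≤ Submodule.span A {ω : Ω[A⁄R] | π ω = 0 ∧
      exteriorPower.map 2 π (dA 1 ((exteriorPower.oneEquiv A (Ω[A⁄R])).symm ω)) = 0}) :
    ∃ d : ∀ p : ℕ, ↥(⋀[A]^p Ω'') →ₗ[R] ↥(⋀[A]^(p + 1) Ω''),
      DeRham.IsDiff (π.compDer (KaehlerDifferential.D R A)) d ∧
        ∀ (p : ℕ) (x : ↥(⋀[A]^p (Ω[A⁄R]))),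
          d p (exteriorPower.map p π x) = exteriorPower.map (p + 1) π (dA p x) := by
  -- step 1
  have hk : ∀ ω, π ω = 0 → ExteriorAlgebra.map π (dR R A (ExteriorAlgebra.ι A ω)) = 0 := by
    intro ω hω
    have hmem := hker (LinearMap.mem_ker.mpr hω)
    clear hω
    have key : π ω = 0 ∧ ExteriorAlgebra.map π (d1 R A ω) = 0 := by
      induction hmem using Submodule.span_induction with
      | mem ω h =>
        refine ⟨h.1, ?_⟩
        have h2 := congrArg (Subtype.val) h.2
        rw [coe_map, dA_eq_dR R A dA hdA.1, coe_oneEquiv_symm, dR_ι] at h2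
        exact h2
      | zero => exact ⟨map_zero _, by rw [map_zero, map_zero]⟩
      | add x y _ _ hx hy =>
        exact ⟨by rw [map_add, hx.1, hy.1, add_zero], by rw [map_add, map_add, hx.2, hy.2, add_zero]⟩
      | smul a x _ hx =>
        refine ⟨by rw [map_smul, hx.1, smul_zero], ?_⟩
        rw [d1_smul, map_add, map_mul, ExteriorAlgebra.map_apply_ι, hx.1, map_zero, mul_zero,
          map_smul, hx.2, smul_zero, add_zero]
    rw [dR_ι]
    exact key.2
  -- step 2
  have hle : ∀ p : ℕ, LinearMap.ker ((exteriorPower.map p π).restrictScalars R)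
      ≤ LinearMap.ker (((exteriorPower.map (p + 1) π).restrictScalars R) ∘ₗ dA p) := by
    intro p x hx
    rw [LinearMap.mem_ker, LinearMap.restrictScalars_apply] at hx
    rw [LinearMap.mem_ker, LinearMap.comp_apply, LinearMap.restrictScalars_apply]
    apply Subtype.ext
    rw [coe_map, dA_eq_dR R A dA hdA.1, Submodule.coe_zero]
    apply map_dR_eq_zero R A π hπ hk
    rw [← coe_map, hx, Submodule.coe_zero]
  have hsurj : ∀ p : ℕ, Function.Surjective ((exteriorPower.map p π).restrictScalars R) :=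
    fun p => exteriorPower.map_surjective hπ
  choose d hd using fun p => exists_descend _ (hsurj p) _ (hle p)
  have hd' : ∀ (p : ℕ) (x : ↥(⋀[A]^p (Ω[A⁄R]))),
      d p (exteriorPower.map p π x) = exteriorPower.map (p + 1) π (dA p x) := fun p x => hd p x
  refine ⟨d, ⟨?_, ?_⟩, hd'⟩
  · intro p b₀ b
    have h1 : gen (π.compDer (KaehlerDifferential.D R A)) p b₀ b
        = exteriorPower.map p π (gen (KaehlerDifferential.D R A) p b₀ b) := by
      unfold gen
      rw [map_smul, exteriorPower.map_apply_ιMulti]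
      rfl
    rw [h1, hd', hdA.1 p b₀ b, exteriorPower.map_apply_ιMulti]
    congr 1
    funext i
    refine Fin.cases ?_ (fun j => ?_) i
    · simp
    · simp
  · intro p
    apply LinearMap.ext
    intro y
    obtain ⟨x, rfl⟩ := exteriorPower.map_surjective (n := p) hπ y
    rw [LinearMap.comp_apply, hd', hd']
    have := LinearMap.congr_fun (hdA.2 p) x
    rw [LinearMap.comp_apply] at this
    rw [this]
    simp

end

end Groth.Agent.S15296.Aux

namespace Groth.Agent.S15296

open exteriorPower in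
/-- Let R → A be a ring map, π a surjective A-linear map from the Kähler differentials of A over R onto
an A-module Ω', δ = π ∘ d the induced derivation A → Ω', and d_A a de Rham differential of the
Kähler differentials. Suppose the kernel of π is generated over A by elements ω with π(ω) = 0 whose
differential d_A(ω) is killed by the second exterior power of π. Then the exterior powers of Ω' over
A carry a de Rham differential for δ: a family of R-linear maps d from p-forms to (p+1)-forms with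
d(f₀ δf₁ ∧ … ∧ δf_p) = δf₀ ∧ δf₁ ∧ … ∧ δf_p and d ∘ d = 0; moreover d is compatible with d_A through
the exterior powers of π. -/
theorem result (R A Ω' : Type u) [CommRing R] [CommRing A] [Algebra R A]
    [AddCommGroup Ω'] [Module A Ω'] [Module R Ω'] [IsScalarTower R A Ω']
    (π : Ω[A⁄R] →ₗ[A] Ω') (hπ : Function.Surjective π)
    (dA : ∀ p : ℕ, ↥(⋀[A]^p (Ω[A⁄R])) →ₗ[R] ↥(⋀[A]^(p + 1) (Ω[A⁄R])))
    (hdA : DeRham.IsDiff (KaehlerDifferential.D R A) dA)
    (hker : LinearMap.ker π ≤ Submodule.span A {ω : Ω[A⁄R] | π ω = 0 ∧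
      exteriorPower.map 2 π (dA 1 ((exteriorPower.oneEquiv A (Ω[A⁄R])).symm ω)) = 0}) :
    ∃ d : ∀ p : ℕ, ↥(⋀[A]^p Ω') →ₗ[R] ↥(⋀[A]^(p + 1) Ω'),
      DeRham.IsDiff (π.compDer (KaehlerDifferential.D R A)) d ∧
        ∀ (p : ℕ) (x : ↥(⋀[A]^p (Ω[A⁄R]))),
          d p (exteriorPower.map p π x) = exteriorPower.map (p + 1) π (dA p x) := by
  exact Aux.main R A Ω' π hπ dA hdA hker

end Groth.Agent.S15296
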