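import Groth.Statements.S15297
import Groth.Agent.Lib.Helper4DiffOp

set_option autoImplicit false
universe u
open DeRham

namespace Groth.Agent.S15297

open exteriorPower in
/-- Let R → A be a ring map and d a de Rham differential of the Kähler differentials of A over R. Then
each d from p-forms to (p+1)-forms, an R-linear map between A-modules, is a differential operator of
order at most 1 relative to R → A: every commutator of d with multiplication by an element of A is
A-linear. -/
theorem result (R A : Type u) [CommRing R] [CommRing A] [Algebra R A]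
    (d : ∀ p : ℕ, ↥(⋀[A]^p (Ω[A⁄R])) →ₗ[R] ↥(⋀[A]^(p + 1) (Ω[A⁄R])))
    (hd : DeRham.IsDiff (KaehlerDifferential.D R A) d) (p : ℕ) :
    Diff16.IsDiffOpLE R A ↥(⋀[A]^p (Ω[A⁄R])) ↥(⋀[A]^(p + 1) (Ω[A⁄R])) 1 (d p) := by
  intro a c ω
  -- the formula for the commutator on generators
  have hgen : ∀ (c : A) (b : Fin p → A),
      Diff16.commutator R A _ _ (d p) a (gen (KaehlerDifferential.D R A) p c b) =
        c • exteriorPower.ιMulti A (p + 1)
          (Fin.cons (KaehlerDifferential.D R A a) (fun i => KaehlerDifferential.D R A (b i))) := by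
    intro c b
    rw [Groth.Agent.Lib.Helper4.commutator_apply]
    have h1 : a • gen (KaehlerDifferential.D R A) p c b = gen (KaehlerDifferential.D R A) p (a * c) b := by
      simp only [gen, mul_smul]
    rw [h1, hd.1 p (a * c) b, hd.1 p c b, Derivation.leibniz]
    have e1 := (exteriorPower.ιMulti A (p + 1) (M := Ω[A⁄R])).toMultilinearMap.cons_add
      (fun i => KaehlerDifferential.D R A (b i)) (a • KaehlerDifferential.D R A c)
      (c • KaehlerDifferential.D R A a)
    have e2 := (exteriorPower.ιMulti A (p + 1) (M := Ω[A⁄R])).toMultilinearMap.cons_smul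
      (fun i => KaehlerDifferential.D R A (b i)) a (KaehlerDifferential.D R A c)
    have e3 := (exteriorPower.ιMulti A (p + 1) (M := Ω[A⁄R])).toMultilinearMap.cons_smul
      (fun i => KaehlerDifferential.D R A (b i)) c (KaehlerDifferential.D R A a)
    simp only [AlternatingMap.coe_multilinearMap] at e1 e2 e3
    rw [e1, e2, e3]
    abel
  have hspan := exteriorPower.ιMulti_span_of_span (R := A) (n := p) (M := Ω[A⁄R])
    (KaehlerDifferential.span_range_derivation R A)
  have hω : ω ∈ Submodule.span A (exteriorPower.ιMulti A p ''
      {v : Fin p → Ω[A⁄R] | Set.range v ⊆ Set.range (KaehlerDifferential.D R A)}) := by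
    rw [hspan]; exact Submodule.mem_top
  revert c
  induction hω using Submodule.span_induction with
  | mem ω h =>
    obtain ⟨v, hv, rfl⟩ := h
    have hv' : ∀ i, ∃ b : A, KaehlerDifferential.D R A b = v i := fun i => hv ⟨i, rfl⟩
    choose b hb using hv'
    have h2 : ∀ c : A, c • exteriorPower.ιMulti A p v = gen (KaehlerDifferential.D R A) p c b := by
      intro c
      simp only [gen, hb]
    intro c
    rw [h2 c, hgen c b, ← one_smul A (exteriorPower.ιMulti A p v), h2 1, hgen 1 b, one_smul]
  | zero => intro c; simp
  | add x y _ _ hx hy => intro c; rw [smul_add, map_add, map_add, hx c, hy c, smul_add]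
  | smul e x _ hx => intro c; rw [smul_smul, hx (c * e), hx e, smul_smul]

end Groth.Agent.S15297
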