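import Groth.Statements.S15301
import Groth.Agent.Lib.Helper17MilnorTop

set_option autoImplicit false
universe u
open HomAlg3

namespace Groth.Agent.S15301

open CategoryTheory CategoryTheory.Limits TopologicalSpace Opposite in
/-- For the functor of sections over an open U, let (F_n)_n be a tower of sheaves of abelian groups on a
topological space X, indexed by the natural numbers, with limit sheaf lim F_n, and let B be a basis
of opens of X such that for every V in B (a) every transition map F_{n+1}(V) → F_n(V) is surjective
and (b) every H^i(V, F_n) with i > 0 vanishes. Then for every open U and every i = j + 1 ≥ 1 there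
is a short exact sequence 0 → lim¹_n H^j(U, F_n) → H^i(U, lim F_n) → lim_n H^i(U, F_n) → 0: every
family of classes in the H^i(U, F_n) compatible under the transition maps comes from a class on lim
F_n, and the kernel of H^i(U, lim F_n) → ∏_n H^i(U, F_n) is isomorphic to lim¹ of the tower (H^j(U,
F_n))_n (existence of an isomorphism only). In particular the comparison map is injective as soon as
that lim¹ vanishes. (The published statement is for any functor T on abelian sheaves commuting with
products, such as Γ, Γ_Y, f_*; this row is the case T = Γ(U, −).) -/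
theorem result {X : TopCat.{u}} (F : ℕᵒᵖ ⥤ CohTop.Ab X)
    (B : Set (Opens X)) (hB : Opens.IsBasis B)
    (hsurj : ∀ V ∈ B, ∀ n : ℕ,
      Function.Surjective ((F.map (homOfLE (Nat.le_succ n)).op).hom.app (op V)).hom)
    (hvan : ∀ V ∈ B, ∀ (n i : ℕ), 0 < i → Subsingleton (CohTop.HU (F.obj (op n)) i V))
    (U : Opens X) (i j : ℕ) (hij : j + 1 = i) :
    (∀ ξ : ∀ n : ℕ, CohTop.HU (F.obj (op n)) i U,
      (∀ n, CohTop.HUmap (F.map (homOfLE (Nat.le_succ n)).op) i U (ξ (n + 1)) = ξ n) →
        ∃ η : CohTop.HU (limit F) i U, ∀ n, CohTop.HUmap (limit.π F (op n)) i U η = ξ n) ∧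
    Nonempty ((AddMonoidHom.pi fun n : ℕ => CohTop.HUmap (limit.π F (op n)) i U).ker ≃+
      Formal2.limOne (fun n : ℕ => CohTop.HU (F.obj (op n)) j U)
        (fun n : ℕ => CohTop.HUmap (F.map (homOfLE (Nat.le_succ n)).op) j U)) := by
  subst hij
  obtain ⟨α, β, hα, hβ, hαβ, hform⟩ := Groth.Agent.Lib.Helper17.MilnorTop.milnor_top F hB hsurj
    (fun V hV n q => hvan V hV n (q + 1) (Nat.succ_pos q)) (limit.cone F) (limit.isLimit F)
    (Groth.Agent.Lib.Helper23.AffVanish.ZU U) j
  have hform' : ∀ (x : CohTop.HU (limit F) (j + 1) U) (n : ℕ),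
      CohTop.HUmap (limit.π F (op n)) (j + 1) U x = (β x).1 n := fun x n => (hform x n).symm
  refine ⟨fun ξ hξ => ?_, ?_⟩
  · obtain ⟨η, hη⟩ := hβ ⟨ξ, by
      rw [AddMonoidHom.mem_ker]
      funext n
      exact sub_eq_zero.2 (hξ n).symm⟩
    refine ⟨η, fun n => ?_⟩
    rw [hform' η n, hη]
  · have hker : (AddMonoidHom.pi fun n : ℕ => CohTop.HUmap (limit.π F (op n)) (j + 1) U).ker =
        α.range := by
      ext x
      constructor
      · intro hx
        have hx' : (AddMonoidHom.pi fun n : ℕ => CohTop.HUmap (limit.π F (op n)) (j + 1) U) x = 0 := hx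
        have h1 : x ∈ β.ker := by
          refine AddMonoidHom.mem_ker.2 (Subtype.ext ?_)
          funext n
          exact (hform' x n).symm.trans (congrFun hx' n)
        rw [hαβ]
        exact h1
      · intro hx
        rw [hαβ] at hx
        have hx' : β x = 0 := hx
        refine AddMonoidHom.mem_ker.2 ?_
        funext n
        change CohTop.HUmap (limit.π F (op n)) (j + 1) U x = 0
        have h2 := congrArg Subtype.val hx'
        exact (hform' x n).trans (congrFun h2 n)
    exact ⟨(AddEquiv.addSubgroupCongr hker).trans (AddMonoidHom.ofInjective hα).symm⟩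

end Groth.Agent.S15301
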