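import Groth.Statements.S15307
import Mathlib
import Groth.Agent.Lib.Helper23Towers
-- import your own Groth.Agent.* helpers here

set_option autoImplicit false
universe u
open HomAlg3

namespace Groth.Agent.S15307

open CategoryTheory Limits Category Opposite HomologicalComplex Groth.Agent.S12229 Groth.Agent.Lib.Helper23Bridge Groth.Agent.Lib.Helper23Acyclic
  Groth.Agent.Lib.Helper23Leray Groth.Agent.Lib.Helper23Adapted Groth.Agent.Lib.Helper23Towers


open HomologicalComplex Groth.Agent.S12229 Groth.Agent.Lib.Helper23Bridge Groth.Agent.Lib.Helper23Acyclic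
  Groth.Agent.Lib.Helper23Leray Groth.Agent.Lib.Helper23Adapted Groth.Agent.Lib.Helper23Towers

open CategoryTheory CategoryTheory.Limits in
/-- For abelian groups, for an inverse system (A_n) of abelian groups indexed by the natural numbers,
the right derived functors lim^(i) A_n of the inverse limit vanish for every i ≥ 2. (The two
instance hypotheses, enough injectives in the category of towers of abelian groups and additivity of
the limit functor, always hold. The published statement is made in an axiomatic setting that also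
covers quasi-coherent sheaves; this row is the case of abelian groups.) -/
theorem result
    [EnoughInjectives (ℕᵒᵖ ⥤ AddCommGrpCat.{u})]
    [(lim : (ℕᵒᵖ ⥤ AddCommGrpCat.{u}) ⥤ AddCommGrpCat.{u}).Additive]
    (A : ℕᵒᵖ ⥤ AddCommGrpCat.{u}) (i : ℕ) (hi : 2 ≤ i) :
    IsZero (((lim : (ℕᵒᵖ ⥤ AddCommGrpCat.{u}) ⥤ AddCommGrpCat.{u}).rightDerived i).obj A) := by
  have : HasDerivedCategory.{u + 1} (ℕᵒᵖ ⥤ AddCommGrpCat.{u}) := MorphismProperty.HasLocalization.standard _
  have : HasDerivedCategory.{u + 1} AddCommGrpCat.{u} := MorphismProperty.HasLocalization.standard _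
  let G : T.{u} ⥤ AddCommGrpCat.{u} := lim
  have h1' : ∀ X : T.{u}, ∃ (Y : T.{u}) (ι : X ⟶ Y), Surj Y ∧ Mono ι :=
    fun X => ⟨P X, ιP X, surj_P X, inferInstance⟩
  have h2' : ∀ S : ShortComplex T.{u}, S.ShortExact → Surj S.X₁ → Surj S.X₂ →
      Surj S.X₃ ∧ (S.map G).ShortExact :=
    fun S hS h₁ h₂ => ⟨surj_X₃ S hS h₂, shortExact_map_lim S hS h₁⟩
  have acyc : ∀ X : T.{u}, Surj X → IsIso (τ G (sgl X)) := fun X hX => isIso_τ_of_adapted G h1' h2' hX
  let S : ShortComplex T.{u} := ShortComplex.mk (ιP A) (cokernel.π (ιP A)) (cokernel.condition _)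
  have hS : S.ShortExact :=
    { exact := ShortComplex.exact_cokernel _
      mono_f := inferInstanceAs (Mono (ιP A))
      epi_g := inferInstanceAs (Epi (cokernel.π (ιP A))) }
  have hP : Surj S.X₂ := surj_P A
  have hC : Surj S.X₃ := surj_X₃ S hS hP
  obtain ⟨k, rfl⟩ : ∃ k : ℕ, i = k + 1 + 1 := ⟨i - 2, by omega⟩
  rw [isZero_rightDerived_succ_iff G (k + 1) A]
  obtain ⟨-, δ, -, ⟨w2, e2⟩⟩ := les_obj G S hS ((k : ℤ) + 1)
  have zC : IsZero ((R' G ((k : ℤ) + 1)).obj S.X₃) := isZero_R'_of_acyclic G _ (by omega) (acyc _ hC)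
  have zP : IsZero ((R' G ((k : ℤ) + 1 + 1)).obj S.X₂) := isZero_R'_of_acyclic G _ (by omega) (acyc _ hP)
  have e : ((k + 1 : ℕ) : ℤ) + 1 = (k : ℤ) + 1 + 1 := by push_cast; ring
  rw [e]
  exact e2.isZero_X₂ (zC.eq_of_src _ _) (zP.eq_of_tgt _ _)

end Groth.Agent.S15307
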