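import Groth.Statements.S15316
import Mathlib
import Groth.Agent.Lib.Helper16NodeFix3
-- import your own Groth.Agent.* helpers here

set_option autoImplicit false
set_option linter.style.haveILetI false
set_option linter.unusedSectionVars false
universe u
open ArLef ArLef.NodeAlg

namespace Groth.Agent.S15316
open Groth.Agent.Lib.Helper16NodeFix


/-- Let B be a discrete valuation ring with uniformizer π and N = B[[t, e]]/(te - π) the complete local
ring of a semi-stable arithmetic surface at a singular point of the closed fibre. A ring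
automorphism σ of N with σ(π) associated to π (for instance a B-algebra automorphism, or one lying
over an automorphism of B) either stabilizes the two branches, σ(t) = α t and σ(e) = β e for units
α, β, or switches them, σ(t) = α e and σ(e) = β t for units α, β. (The published setting has B
complete with algebraically closed residue field and σ linear over B or over an automorphism of B;
the argument uses only that σ(π) generates (π).) -/
theorem result (B : Type u) [CommRing B] [IsDomain B] [IsDiscreteValuationRing B] (π : B) (hπ : Irreducible π)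
    (σ : ArLef.NodeAlg B π ≃+* ArLef.NodeAlg B π)
    (hσ : Associated (σ (algebraMap B (ArLef.NodeAlg B π) π)) (algebraMap B (ArLef.NodeAlg B π) π)) :
    (∃ α β : (ArLef.NodeAlg B π)ˣ, σ (ArLef.NodeAlg.t π) = (α : ArLef.NodeAlg B π) * ArLef.NodeAlg.t π ∧ σ (ArLef.NodeAlg.e π) = (β : ArLef.NodeAlg B π) * ArLef.NodeAlg.e π) ∨
      (∃ α β : (ArLef.NodeAlg B π)ˣ, σ (ArLef.NodeAlg.t π) = (α : ArLef.NodeAlg B π) * ArLef.NodeAlg.e π ∧ σ (ArLef.NodeAlg.e π) = (β : ArLef.NodeAlg B π) * ArLef.NodeAlg.t π) := by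
  have hp : Prime π := hπ.prime
  have hte := Groth.Agent.Lib.Helper22.nodeAlg_t_mul_e π
  obtain ⟨υ, hυ⟩ := hσ
  set P : ArLef.NodeAlg B π := algebraMap B (ArLef.NodeAlg B π) π with hP
  have hreg : ∀ x : ArLef.NodeAlg B π, P * x = 0 → x = 0 :=
    Groth.Agent.Lib.Helper22.nodeAlg_pi_regular π hπ.ne_zero
  -- σ π = σ t * σ e
  have hσπ : σ P = σ (ArLef.NodeAlg.t π) * σ (ArLef.NodeAlg.e π) := by
    rw [← map_mul, hte]
  have hσπ' : σ P = P * (υ⁻¹ : (ArLef.NodeAlg B π)ˣ) := (Units.eq_mul_inv_iff_mul_eq υ).2 hυ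
  -- σ.symm P = P * unit
  have hsymm : σ.symm P = P * σ.symm υ := by
    have := congrArg σ.symm hυ
    rw [map_mul, RingEquiv.symm_apply_apply] at this
    exact this.symm
  have ht_dvd : ArLef.NodeAlg.t π ∣ σ (ArLef.NodeAlg.t π) * σ (ArLef.NodeAlg.e π) := by
    rw [← hσπ, hσπ', ← hte]
    exact ⟨ArLef.NodeAlg.e π * (υ⁻¹ : (ArLef.NodeAlg B π)ˣ), by ring⟩
  have he_dvd : ArLef.NodeAlg.e π ∣ σ (ArLef.NodeAlg.t π) * σ (ArLef.NodeAlg.e π) := by
    rw [← hσπ, hσπ', ← hte]
    exact ⟨ArLef.NodeAlg.t π * (υ⁻¹ : (ArLef.NodeAlg B π)ˣ), by ring⟩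
  -- impossible cases
  have himp_t : ¬ (P ∣ σ (ArLef.NodeAlg.t π)) := by
    rintro ⟨c, hc⟩
    have h1 := congrArg σ.symm hc
    rw [RingEquiv.symm_apply_apply, map_mul, hsymm, ← hte] at h1
    have h2 : ArLef.NodeAlg.t π * (1 - ArLef.NodeAlg.e π * (σ.symm υ * σ.symm c)) = 0 := by
      linear_combination h1
    have h3 := t_regular π hπ.ne_zero _ h2
    exact not_isUnit_e π hπ.not_isUnit (IsUnit.of_mul_eq_one _ (sub_eq_zero.mp h3).symm)
  have himp_e : ¬ (P ∣ σ (ArLef.NodeAlg.e π)) := by
    rintro ⟨c, hc⟩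
    have h1 := congrArg σ.symm hc
    rw [RingEquiv.symm_apply_apply, map_mul, hsymm, ← hte] at h1
    have h2 : ArLef.NodeAlg.e π * (1 - ArLef.NodeAlg.t π * (σ.symm υ * σ.symm c)) = 0 := by
      linear_combination h1
    have h3 := e_regular π hπ.ne_zero _ h2
    exact not_isUnit_t π hπ.not_isUnit (IsUnit.of_mul_eq_one _ (sub_eq_zero.mp h3).symm)
  rcases (t_prime π hp).dvd_or_dvd ht_dvd with h1 | h1
  · rcases (e_prime π hp).dvd_or_dvd he_dvd with h2 | h2
    · exact absurd (pi_dvd_of_t_dvd_of_e_dvd π hp h1 h2) himp_t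
    · left
      obtain ⟨a, ha⟩ := h1
      obtain ⟨b, hb⟩ := h2
      have hab : a * (b * υ) = 1 := by
        have h3 : P * (a * (b * υ) - 1) = 0 := by
          rw [hσπ, ha, hb] at hυ
          linear_combination hυ - (a * b * υ) * hte
        exact sub_eq_zero.mp (hreg _ h3)
      have hua : IsUnit a := IsUnit.of_mul_eq_one _ hab
      have hub : IsUnit b := IsUnit.of_mul_eq_one (a * υ) (by linear_combination hab)
      exact ⟨hua.unit, hub.unit, by rw [ha, IsUnit.unit_spec, mul_comm],
        by rw [hb, IsUnit.unit_spec, mul_comm]⟩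
  · rcases (e_prime π hp).dvd_or_dvd he_dvd with h2 | h2
    · right
      obtain ⟨b, hb⟩ := h1
      obtain ⟨a, ha⟩ := h2
      have hab : a * (b * υ) = 1 := by
        have h3 : P * (a * (b * υ) - 1) = 0 := by
          rw [hσπ, ha, hb] at hυ
          linear_combination hυ - (a * b * υ) * hte
        exact sub_eq_zero.mp (hreg _ h3)
      have hua : IsUnit a := IsUnit.of_mul_eq_one _ hab
      have hub : IsUnit b := IsUnit.of_mul_eq_one (a * υ) (by linear_combination hab)
      exact ⟨hua.unit, hub.unit, by rw [ha, IsUnit.unit_spec, mul_comm],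
        by rw [hb, IsUnit.unit_spec, mul_comm]⟩
    · exact absurd (pi_dvd_of_t_dvd_of_e_dvd π hp h1 h2) himp_e

end Groth.Agent.S15316
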