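import Groth.Statements.S15317
import Mathlib
import Groth.Agent.Lib.Helper16NodeFix
-- import your own Groth.Agent.* helpers here

set_option autoImplicit false
set_option linter.style.haveILetI false
set_option linter.unusedSectionVars false
universe u
open ArLef ArLef.NodeAlg

namespace Groth.Agent.S15317
open Groth.Agent.Lib.Helper16NodeFix


/-- Let B be a discrete valuation ring with uniformizer π, N = B[[t, e]]/(te - π), and σ a non-trivial
B-algebra automorphism of N stabilizing both branches of the closed fibre (σ(t) associated to t,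
σ(e) associated to e). Then the fixed-point ideal of σ, generated by all σ(r) - r, is g·(t, e) for a
non-zero g: the divisorial part of the fixed locus is cut out by g and its residual part is the
reduced closed point, of multiplicity one. (Stated in the complete local ring, where the published
argument takes place; the published setting has B complete with algebraically closed residue field.) -/
theorem result (B : Type u) [CommRing B] [IsDomain B] [IsDiscreteValuationRing B] (π : B) (hπ : Irreducible π)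
    (σ : ArLef.NodeAlg B π ≃ₐ[B] ArLef.NodeAlg B π) (hσ : σ ≠ AlgEquiv.refl)
    (ht : Associated (σ (ArLef.NodeAlg.t π)) (ArLef.NodeAlg.t π))
    (he : Associated (σ (ArLef.NodeAlg.e π)) (ArLef.NodeAlg.e π)) :
    ∃ g : ArLef.NodeAlg B π, g ≠ 0 ∧
      ArLef.fixIdeal σ = Ideal.span {g} * Ideal.span ({ArLef.NodeAlg.t π, ArLef.NodeAlg.e π} : Set (ArLef.NodeAlg B π)) := by
  obtain ⟨α', hα'⟩ := ht
  obtain ⟨β', hβ'⟩ := he
  -- σ t = α t, σ e = β e
  set α : (ArLef.NodeAlg B π)ˣ := α'⁻¹ with hαdef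
  set β : (ArLef.NodeAlg B π)ˣ := β'⁻¹ with hβdef
  have hst : σ (ArLef.NodeAlg.t π) = (α : ArLef.NodeAlg B π) * ArLef.NodeAlg.t π := by
    exact ((Units.eq_mul_inv_iff_mul_eq α').2 hα').trans (mul_comm _ _)
  have hse : σ (ArLef.NodeAlg.e π) = (β : ArLef.NodeAlg B π) * ArLef.NodeAlg.e π := by
    exact ((Units.eq_mul_inv_iff_mul_eq β').2 hβ').trans (mul_comm _ _)
  have hte := Groth.Agent.Lib.Helper22.nodeAlg_t_mul_e π
  -- α β = 1
  have hab : (α : ArLef.NodeAlg B π) * β = 1 := by
    have h1 : σ (ArLef.NodeAlg.t π * ArLef.NodeAlg.e π) = ArLef.NodeAlg.t π * ArLef.NodeAlg.e π := by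
      rw [hte, AlgEquiv.commutes]
    rw [map_mul, hst, hse] at h1
    have h2 : algebraMap B (ArLef.NodeAlg B π) π * ((α : ArLef.NodeAlg B π) * β - 1) = 0 := by
      rw [← hte]; linear_combination h1
    have := Groth.Agent.Lib.Helper22.nodeAlg_pi_regular π hπ.ne_zero _ h2
    exact sub_eq_zero.mp this
  set g : ArLef.NodeAlg B π := (α : ArLef.NodeAlg B π) - 1 with hg
  have hgt : σ (ArLef.NodeAlg.t π) - ArLef.NodeAlg.t π = g * ArLef.NodeAlg.t π := by
    rw [hst, hg]; ring
  have hge : σ (ArLef.NodeAlg.e π) - ArLef.NodeAlg.e π = -(β : ArLef.NodeAlg B π) * (g * ArLef.NodeAlg.e π) := by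
    rw [hse, hg]; linear_combination (ArLef.NodeAlg.e π) * hab
  have hge' : g * ArLef.NodeAlg.e π = -(α : ArLef.NodeAlg B π) * (σ (ArLef.NodeAlg.e π) - ArLef.NodeAlg.e π) := by
    rw [hge]; linear_combination (-(g * ArLef.NodeAlg.e π)) * hab
  have hmt : (σ : ArLef.NodeAlg B π →ₐ[B] ArLef.NodeAlg B π) (ArLef.NodeAlg.t π) ∈ mI π := by
    rw [AlgEquiv.coe_toAlgHom, hst]; exact Ideal.mul_mem_left _ _ (t_mem_mI π)
  have hme : (σ : ArLef.NodeAlg B π →ₐ[B] ArLef.NodeAlg B π) (ArLef.NodeAlg.e π) ∈ mI π := by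
    rw [AlgEquiv.coe_toAlgHom, hse]; exact Ideal.mul_mem_left _ _ (e_mem_mI π)
  refine ⟨g, ?_, ?_⟩
  · -- g ≠ 0
    intro h0
    apply hσ
    have key := sub_mem_of_gens (σ : ArLef.NodeAlg B π →ₐ[B] ArLef.NodeAlg B π) hmt hme ⊥
      (by rw [AlgEquiv.coe_toAlgHom, hgt, h0, zero_mul]; exact Submodule.zero_mem _)
      (by rw [AlgEquiv.coe_toAlgHom, hge, h0, zero_mul, mul_zero]; exact Submodule.zero_mem _)
    ext r
    have := key r
    rw [Ideal.mem_bot, sub_eq_zero] at this
    exact this
  · apply le_antisymm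
    · unfold ArLef.fixIdeal
      rw [Ideal.span_le]
      rintro _ ⟨r, rfl⟩
      have key := sub_mem_of_gens (σ : ArLef.NodeAlg B π →ₐ[B] ArLef.NodeAlg B π) hmt hme
        (Ideal.span {g} * Ideal.span ({ArLef.NodeAlg.t π, ArLef.NodeAlg.e π} : Set (ArLef.NodeAlg B π)))
        (by
          rw [AlgEquiv.coe_toAlgHom, hgt]
          exact Ideal.mul_mem_mul (Ideal.mem_span_singleton_self g) (Ideal.subset_span (by simp)))
        (by
          rw [AlgEquiv.coe_toAlgHom, hge]
          exact Ideal.mul_mem_left _ _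
            (Ideal.mul_mem_mul (Ideal.mem_span_singleton_self g) (Ideal.subset_span (by simp))))
      exact key r
    · rw [Ideal.mul_le]
      intro a ha b hb
      obtain ⟨c, rfl⟩ := Ideal.mem_span_singleton'.mp ha
      obtain ⟨x, y, rfl⟩ := Ideal.mem_span_pair.mp hb
      have h1 : g * ArLef.NodeAlg.t π ∈ ArLef.fixIdeal σ := by
        rw [← hgt]; exact Ideal.subset_span ⟨_, rfl⟩
      have h2 : g * ArLef.NodeAlg.e π ∈ ArLef.fixIdeal σ := by
        rw [hge']; exact Ideal.mul_mem_left _ _ (Ideal.subset_span ⟨_, rfl⟩)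
      have : c * g * (x * ArLef.NodeAlg.t π + y * ArLef.NodeAlg.e π) =
          (c * x) * (g * ArLef.NodeAlg.t π) + (c * y) * (g * ArLef.NodeAlg.e π) := by ring
      rw [this]
      exact add_mem (Ideal.mul_mem_left _ _ h1) (Ideal.mul_mem_left _ _ h2)

end Groth.Agent.S15317
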