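import Groth.Statements.S15318
import Mathlib
import Groth.Agent.Lib.Helper16NodeFix
import Groth.Agent.Lib.Helper16NodeFix2
-- import your own Groth.Agent.* helpers here

set_option autoImplicit false
set_option linter.style.haveILetI false
set_option linter.unusedSectionVars false
universe u
open ArLef ArLef.NodeAlg

namespace Groth.Agent.S15318
open Groth.Agent.Lib.Helper16NodeFix


/-- Let B be a discrete valuation ring with uniformizer π, N = B[[t, e]]/(te - π), and σ a B-algebra
automorphism of N switching the two branches of the closed fibre (σ(t) associated to e, σ(e)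
associated to t). Then the fixed-point ideal of σ is principal, generated by an element h of order
one (h is not in (t, e)²), and π is a non-zero-divisor modulo h: the fixed locus is a horizontal
regular divisor through the point with empty residual part. (Stated in the complete local ring,
where the published argument takes place; the published setting has B complete with algebraically
closed residue field.) -/
theorem result (B : Type u) [CommRing B] [IsDomain B] [IsDiscreteValuationRing B] (π : B) (hπ : Irreducible π)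
    (σ : ArLef.NodeAlg B π ≃ₐ[B] ArLef.NodeAlg B π)
    (ht : Associated (σ (ArLef.NodeAlg.t π)) (ArLef.NodeAlg.e π))
    (he : Associated (σ (ArLef.NodeAlg.e π)) (ArLef.NodeAlg.t π)) :
    ∃ h : ArLef.NodeAlg B π, ArLef.fixIdeal σ = Ideal.span {h} ∧
      h ∉ (Ideal.span ({ArLef.NodeAlg.t π, ArLef.NodeAlg.e π} : Set (ArLef.NodeAlg B π))) ^ 2 ∧
      IsSMulRegular (ArLef.NodeAlg B π ⧸ Ideal.span ({h} : Set (ArLef.NodeAlg B π))) π := by
  obtain ⟨α', hα'⟩ := ht
  obtain ⟨β', hβ'⟩ := he
  set α : (ArLef.NodeAlg B π)ˣ := α'⁻¹ with hαdef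
  set β : (ArLef.NodeAlg B π)ˣ := β'⁻¹ with hβdef
  have hst : σ (ArLef.NodeAlg.t π) = (α : ArLef.NodeAlg B π) * ArLef.NodeAlg.e π :=
    ((Units.eq_mul_inv_iff_mul_eq α').2 hα').trans (mul_comm _ _)
  have hse : σ (ArLef.NodeAlg.e π) = (β : ArLef.NodeAlg B π) * ArLef.NodeAlg.t π :=
    ((Units.eq_mul_inv_iff_mul_eq β').2 hβ').trans (mul_comm _ _)
  have hte := Groth.Agent.Lib.Helper22.nodeAlg_t_mul_e π
  have hab : (α : ArLef.NodeAlg B π) * β = 1 := by
    have h1 : σ (ArLef.NodeAlg.t π * ArLef.NodeAlg.e π) = ArLef.NodeAlg.t π * ArLef.NodeAlg.e π := by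
      rw [hte, AlgEquiv.commutes]
    rw [map_mul, hst, hse] at h1
    have h2 : algebraMap B (ArLef.NodeAlg B π) π * ((α : ArLef.NodeAlg B π) * β - 1) = 0 := by
      rw [← hte]; linear_combination h1
    have := Groth.Agent.Lib.Helper22.nodeAlg_pi_regular π hπ.ne_zero _ h2
    exact sub_eq_zero.mp this
  set h : ArLef.NodeAlg B π := (α : ArLef.NodeAlg B π) * ArLef.NodeAlg.e π - ArLef.NodeAlg.t π with hh
  have hgt : σ (ArLef.NodeAlg.t π) - ArLef.NodeAlg.t π = h := by
    rw [hst]
  have hge : σ (ArLef.NodeAlg.e π) - ArLef.NodeAlg.e π = -(β : ArLef.NodeAlg B π) * h := by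
    rw [hse, hh]; linear_combination (ArLef.NodeAlg.e π) * hab
  have hmt : (σ : ArLef.NodeAlg B π →ₐ[B] ArLef.NodeAlg B π) (ArLef.NodeAlg.t π) ∈ mI π := by
    rw [AlgEquiv.coe_toAlgHom, hst]; exact Ideal.mul_mem_left _ _ (e_mem_mI π)
  have hme : (σ : ArLef.NodeAlg B π →ₐ[B] ArLef.NodeAlg B π) (ArLef.NodeAlg.e π) ∈ mI π := by
    rw [AlgEquiv.coe_toAlgHom, hse]; exact Ideal.mul_mem_left _ _ (t_mem_mI π)
  refine ⟨h, ?_, ?_, ?_⟩
  · apply le_antisymm
    · unfold ArLef.fixIdeal
      rw [Ideal.span_le]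
      rintro _ ⟨r, rfl⟩
      have key := sub_mem_of_gens (σ : ArLef.NodeAlg B π →ₐ[B] ArLef.NodeAlg B π) hmt hme
        (Ideal.span {h})
        (by rw [AlgEquiv.coe_toAlgHom, hgt]; exact Ideal.mem_span_singleton_self h)
        (by
          rw [AlgEquiv.coe_toAlgHom, hge]
          exact Ideal.mul_mem_left _ _ (Ideal.mem_span_singleton_self h))
      exact key r
    · rw [Ideal.span_le, Set.singleton_subset_iff, ← hgt]
      exact Ideal.subset_span ⟨_, rfl⟩
  · exact not_mem_sq π hπ.not_isUnit α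
  · intro x y hxy
    have h0 : π • (x - y) = 0 := by
      rw [smul_sub, sub_eq_zero]; exact hxy
    obtain ⟨z, hz⟩ := Ideal.Quotient.mk_surjective (x - y)
    have e0 : π • (Ideal.Quotient.mk (Ideal.span {h}) z) =
        Ideal.Quotient.mk (Ideal.span {h}) (algebraMap B (ArLef.NodeAlg B π) π * z) := by
      rw [← Algebra.smul_def]; rfl
    rw [← hz, e0, Ideal.Quotient.eq_zero_iff_mem, Ideal.mem_span_singleton'] at h0
    obtain ⟨c, hc⟩ := h0
    obtain ⟨c', rfl⟩ := pi_dvd_of_mul π hπ.prime α c z hc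
    have h3 : algebraMap B (ArLef.NodeAlg B π) π * (z - c' * h) = 0 := by
      linear_combination -hc
    have h4 := Groth.Agent.Lib.Helper22.nodeAlg_pi_regular π hπ.ne_zero _ h3
    have h5 : x - y = 0 := by
      rw [← hz, Ideal.Quotient.eq_zero_iff_mem, Ideal.mem_span_singleton']
      exact ⟨c', (sub_eq_zero.mp h4).symm⟩
    exact sub_eq_zero.mp h5

end Groth.Agent.S15318
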