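import Groth.Statements.S15319
import Mathlib
import Groth.Agent.Lib.Helper22NodeAlg

set_option autoImplicit false
universe u
open ArLef ArLef.NodeAlg

namespace Groth.Agent.S15319

/-- Let B be a discrete valuation ring with uniformizer π, N = B[[t, e]]/(te - π) the complete local
ring of a semi-stable arithmetic surface over B at a singular point of the closed fibre, and σ a
ring automorphism of N sending π to π + γ π^j with γ a unit of B and j ≥ 1 (σ lies over an
automorphism τ of B with v(τ(π) - π) = j). Then the fixed-point ideal of σ is not contained in (π^j)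
= (t^j e^j): the two branches through the point cannot both occur with multiplicity j in the
divisorial part of the fixed locus. (The published setting has B complete with algebraically closed
residue field.) -/
theorem result (B : Type u) [CommRing B] [IsDomain B] [IsDiscreteValuationRing B] (π : B) (hπ : Irreducible π)
    (j : ℕ) (hj : 1 ≤ j) (γ : B) (hγ : IsUnit γ)
    (σ : ArLef.NodeAlg B π ≃+* ArLef.NodeAlg B π)
    (hσ : σ (algebraMap B (ArLef.NodeAlg B π) π) = algebraMap B (ArLef.NodeAlg B π) (π + γ * π ^ j)) :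
    ¬ ArLef.fixIdeal σ ≤ Ideal.span ({algebraMap B (ArLef.NodeAlg B π) (π ^ j)} : Set (ArLef.NodeAlg B π)) := by
  intro hle
  have ht : σ (ArLef.NodeAlg.t π) - ArLef.NodeAlg.t π ∈
      Ideal.span ({algebraMap B (ArLef.NodeAlg B π) (π ^ j)} : Set (ArLef.NodeAlg B π)) :=
    hle (Ideal.subset_span ⟨ArLef.NodeAlg.t π, rfl⟩)
  have he : σ (ArLef.NodeAlg.e π) - ArLef.NodeAlg.e π ∈
      Ideal.span ({algebraMap B (ArLef.NodeAlg B π) (π ^ j)} : Set (ArLef.NodeAlg B π)) :=
    hle (Ideal.subset_span ⟨ArLef.NodeAlg.e π, rfl⟩)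
  obtain ⟨a, ha⟩ := Ideal.mem_span_singleton'.mp ht
  obtain ⟨b, hb⟩ := Ideal.mem_span_singleton'.mp he
  have hte := Groth.Agent.Lib.Helper22.nodeAlg_t_mul_e π
  have hPj : algebraMap B (ArLef.NodeAlg B π) (π ^ j) = algebraMap B (ArLef.NodeAlg B π) π ^ j :=
    map_pow _ _ _
  have hσP : σ (algebraMap B (ArLef.NodeAlg B π) π) = algebraMap B (ArLef.NodeAlg B π) π +
      algebraMap B (ArLef.NodeAlg B π) γ * algebraMap B (ArLef.NodeAlg B π) π ^ j := by
    rw [hσ, map_add, map_mul, map_pow]
  have h1 : σ (algebraMap B (ArLef.NodeAlg B π) π) = σ (ArLef.NodeAlg.t π) * σ (ArLef.NodeAlg.e π) := by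
    rw [← map_mul, hte]
  have e1 : σ (ArLef.NodeAlg.t π) = ArLef.NodeAlg.t π + a * algebraMap B (ArLef.NodeAlg B π) π ^ j := by
    rw [← hPj, ha]; ring
  have e2 : σ (ArLef.NodeAlg.e π) = ArLef.NodeAlg.e π + b * algebraMap B (ArLef.NodeAlg B π) π ^ j := by
    rw [← hPj, hb]; ring
  have key : algebraMap B (ArLef.NodeAlg B π) π ^ j * (algebraMap B (ArLef.NodeAlg B π) γ -
      (ArLef.NodeAlg.t π * b + ArLef.NodeAlg.e π * a + a * b * algebraMap B (ArLef.NodeAlg B π) π ^ j)) = 0 := by
    rw [e1, e2, hσP] at h1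
    linear_combination h1 + hte
  have hx := Groth.Agent.Lib.Helper22.nodeAlg_pi_pow_regular π hπ.ne_zero j _ key
  have h2 := congrArg (Groth.Agent.Lib.Helper22.nodeAlgAug π) (sub_eq_zero.mp hx)
  have hπ0 : (Ideal.Quotient.mk (Ideal.span ({π} : Set B))) π = 0 :=
    Ideal.Quotient.eq_zero_iff_mem.mpr (Ideal.mem_span_singleton_self π)
  rw [map_add, map_add, map_mul, map_mul, map_mul, map_pow,
    Groth.Agent.Lib.Helper22.nodeAlgAug_t, Groth.Agent.Lib.Helper22.nodeAlgAug_e,
    Groth.Agent.Lib.Helper22.nodeAlgAug_algebraMap, Groth.Agent.Lib.Helper22.nodeAlgAug_algebraMap,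
    hπ0, zero_pow (by omega), zero_mul, zero_mul, mul_zero, add_zero, add_zero,
    Ideal.Quotient.eq_zero_iff_mem, Ideal.mem_span_singleton] at h2
  exact hπ.not_isUnit (isUnit_of_dvd_unit h2 hγ)

end Groth.Agent.S15319
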