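import Groth.Statements.S15320
import Mathlib
import Groth.Agent.Lib.Helper16NodeFix5
-- import your own Groth.Agent.* helpers here

set_option autoImplicit false
set_option linter.style.haveILetI false
set_option linter.unusedSectionVars false
universe u
open ArLef ArLef.NodeAlg

namespace Groth.Agent.S15320
open Groth.Agent.Lib.Helper16NodeFix


/-- Let B be a discrete valuation ring with uniformizer π, N = B[[t, e]]/(te - π) the complete local
ring of a semi-stable arithmetic surface over B at a singular point x of the closed fibre, and σ a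
ring automorphism of N over an automorphism τ of B with v(τ(π) - π) = j ≥ 1, that is σ(π) = π + γ
π^j with γ a unit of B, and with σ(b) - b ∈ π^j N for every b ∈ B (automatic when B is totally
ramified over the fixed ring of τ, as in the published setting, where the residue field is
algebraically closed). If σ switches the two branches through x (σ(t) associated to e and σ(e) to
t), then the fixed-point ideal I of σ is contained in no proper principal ideal (x is not on the
divisorial part of the fixed locus) and N/I has length 2j - 1 (the multiplicity of x in the residual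
fixed-point scheme). -/
theorem result (B : Type u) [CommRing B] [IsDomain B] [IsDiscreteValuationRing B] (π : B) (hπ : Irreducible π)
    (j : ℕ) (hj : 1 ≤ j) (γ : B) (hγ : IsUnit γ)
    (σ : ArLef.NodeAlg B π ≃+* ArLef.NodeAlg B π)
    (hσB : ∀ b : B, σ (algebraMap B (ArLef.NodeAlg B π) b) - algebraMap B (ArLef.NodeAlg B π) b ∈
      Ideal.span ({algebraMap B (ArLef.NodeAlg B π) (π ^ j)} : Set (ArLef.NodeAlg B π)))
    (hσπ : σ (algebraMap B (ArLef.NodeAlg B π) π) = algebraMap B (ArLef.NodeAlg B π) (π + γ * π ^ j))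
    (ht : Associated (σ (ArLef.NodeAlg.t π)) (ArLef.NodeAlg.e π)) (he : Associated (σ (ArLef.NodeAlg.e π)) (ArLef.NodeAlg.t π)) :
    (∀ g : ArLef.NodeAlg B π, ArLef.fixIdeal σ ≤ Ideal.span ({g} : Set (ArLef.NodeAlg B π)) → IsUnit g) ∧
      Module.length (ArLef.NodeAlg B π) (ArLef.NodeAlg B π ⧸ ArLef.fixIdeal σ) = ((2 * j - 1 : ℕ) : ℕ∞) := by
  have hp : Prime π := hπ.prime
  haveI hmax : (Ideal.span ({π} : Set B)).IsMaximal :=
    PrincipalIdealRing.isMaximal_of_irreducible hπ
  obtain ⟨α', hα'⟩ := ht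
  obtain ⟨β', hβ'⟩ := he
  set α : (ArLef.NodeAlg B π)ˣ := α'⁻¹ with hαdef
  set β : (ArLef.NodeAlg B π)ˣ := β'⁻¹ with hβdef
  set T := ArLef.NodeAlg.t π with hT
  set E := ArLef.NodeAlg.e π with hE
  set P : ArLef.NodeAlg B π := algebraMap B (ArLef.NodeAlg B π) π with hP
  set G : ArLef.NodeAlg B π := algebraMap B (ArLef.NodeAlg B π) γ with hG
  have hst : σ T = (α : ArLef.NodeAlg B π) * E :=
    ((Units.eq_mul_inv_iff_mul_eq α').2 hα').trans (mul_comm _ _)
  have hse : σ E = (β : ArLef.NodeAlg B π) * T :=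
    ((Units.eq_mul_inv_iff_mul_eq β').2 hβ').trans (mul_comm _ _)
  have hte : T * E = P := Groth.Agent.Lib.Helper22.nodeAlg_t_mul_e π
  have hGu : IsUnit G := hγ.map _
  obtain ⟨j', rfl⟩ : ∃ j', j = j' + 1 := ⟨j - 1, by omega⟩
  have hσP : σ P = P + G * P ^ (j' + 1) := by
    rw [hσπ, map_add, map_mul, map_pow]
  -- α β = 1 + γ π^{j'}
  have hab : (α : ArLef.NodeAlg B π) * β = 1 + G * P ^ j' := by
    have h1 : σ (T * E) = P + G * P ^ (j' + 1) := by rw [hte, hσP]
    rw [map_mul, hst, hse] at h1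
    have h2 : P * ((α : ArLef.NodeAlg B π) * β - (1 + G * P ^ j')) = 0 := by
      rw [← hte] at h1 ⊢
      linear_combination h1
    exact sub_eq_zero.mp (Groth.Agent.Lib.Helper22.nodeAlg_pi_regular π hπ.ne_zero _ h2)
  set h : ArLef.NodeAlg B π := (α : ArLef.NodeAlg B π) * E - T with hh
  have hgt : σ T - T = h := by rw [hst]
  have hge : σ E - E = G * (P ^ j' * E) - (β : ArLef.NodeAlg B π) * h := by
    rw [hse, hh]; linear_combination E * hab
  have hmt : (σ : ArLef.NodeAlg B π →+* ArLef.NodeAlg B π) T ∈ mI π := by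
    rw [RingEquiv.coe_toRingHom, hst]; exact Ideal.mul_mem_left _ _ (e_mem_mI π)
  have hme : (σ : ArLef.NodeAlg B π →+* ArLef.NodeAlg B π) E ∈ mI π := by
    rw [RingEquiv.coe_toRingHom, hse]; exact Ideal.mul_mem_left _ _ (t_mem_mI π)
  -- congruence: π^{j'} e ≡ α^{j'} e^{2j'+1} mod h
  have hcong : P ^ j' * E - (α : ArLef.NodeAlg B π) ^ j' * E ^ (2 * j' + 1) ∈ Ideal.span {h} := by
    rw [← Ideal.Quotient.eq_zero_iff_mem, map_sub, sub_eq_zero, map_mul, map_mul, map_pow, map_pow,
      map_pow]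
    have h1 : Ideal.Quotient.mk (Ideal.span {h}) P =
        Ideal.Quotient.mk (Ideal.span {h}) (α : ArLef.NodeAlg B π) *
          Ideal.Quotient.mk (Ideal.span {h}) E ^ 2 := by
      rw [← map_pow, ← map_mul, ← sub_eq_zero, ← map_sub, Ideal.Quotient.eq_zero_iff_mem,
        Ideal.mem_span_singleton']
      exact ⟨-E, by rw [← hte, hh]; ring⟩
    rw [h1]; ring
  set J : Ideal (ArLef.NodeAlg B π) := Ideal.span {h} ⊔ Ideal.span {E ^ (2 * j' + 1)} with hJ
  have hhJ : h ∈ J := Ideal.mem_sup_left (Ideal.mem_span_singleton_self h)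
  have hPEJ : P ^ j' * E ∈ J := by
    have : P ^ j' * E = (P ^ j' * E - (α : ArLef.NodeAlg B π) ^ j' * E ^ (2 * j' + 1)) +
        (α : ArLef.NodeAlg B π) ^ j' * E ^ (2 * j' + 1) := by ring
    rw [this]
    exact add_mem (Ideal.mem_sup_left hcong)
      (Ideal.mul_mem_left _ _ (Ideal.mem_sup_right (Ideal.mem_span_singleton_self _)))
  have hPJ : P ^ (j' + 1) ∈ J := by
    have : P ^ (j' + 1) = T * (P ^ j' * E) := by rw [pow_succ, ← hte]; ring
    rw [this]; exact Ideal.mul_mem_left _ _ hPEJ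
  -- fixIdeal = J
  have hI : ArLef.fixIdeal σ = J := by
    apply le_antisymm
    · unfold ArLef.fixIdeal
      rw [Ideal.span_le]
      rintro _ ⟨r, rfl⟩
      refine sub_mem_of_gens' (σ : ArLef.NodeAlg B π →+* ArLef.NodeAlg B π) hmt hme J ?_ ?_ ?_ r
      · intro b
        have := hσB b
        rw [map_pow, Ideal.mem_span_singleton'] at this
        obtain ⟨c, hc⟩ := this
        rw [RingEquiv.coe_toRingHom, ← hc]
        exact Ideal.mul_mem_left _ _ hPJ
      · rw [RingEquiv.coe_toRingHom, hgt]; exact hhJ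
      · rw [RingEquiv.coe_toRingHom, hge]
        exact sub_mem (Ideal.mul_mem_left _ _ hPEJ) (Ideal.mul_mem_left _ _ hhJ)
    · have h1 : h ∈ ArLef.fixIdeal σ := by
        rw [← hgt]; exact Ideal.subset_span ⟨_, rfl⟩
      have h2 : σ E - E ∈ ArLef.fixIdeal σ := Ideal.subset_span ⟨_, rfl⟩
      have h3 : P ^ j' * E ∈ ArLef.fixIdeal σ := by
        obtain ⟨Gu, hGu'⟩ := hGu
        have : P ^ j' * E = (Gu⁻¹ : (ArLef.NodeAlg B π)ˣ) *
            ((σ E - E) + (β : ArLef.NodeAlg B π) * h) := by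
          rw [hge, ← hGu']
          have : (Gu : ArLef.NodeAlg B π) * (P ^ j' * E) - ↑β * h + ↑β * h =
              (Gu : ArLef.NodeAlg B π) * (P ^ j' * E) := by ring
          rw [this, ← mul_assoc, Units.inv_mul, one_mul]
        rw [this]
        exact Ideal.mul_mem_left _ _ (add_mem h2 (Ideal.mul_mem_left _ _ h1))
      have h4 : E ^ (2 * j' + 1) ∈ ArLef.fixIdeal σ := by
        have hc : P ^ j' * E - (α : ArLef.NodeAlg B π) ^ j' * E ^ (2 * j' + 1) ∈
            ArLef.fixIdeal σ := by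
          obtain ⟨c, hc⟩ := Ideal.mem_span_singleton'.mp hcong
          rw [← hc]; exact Ideal.mul_mem_left _ _ h1
        have : E ^ (2 * j' + 1) = ((α⁻¹ : (ArLef.NodeAlg B π)ˣ) : ArLef.NodeAlg B π) ^ j' *
            (P ^ j' * E - (P ^ j' * E - (α : ArLef.NodeAlg B π) ^ j' * E ^ (2 * j' + 1))) := by
          have : P ^ j' * E - (P ^ j' * E - (α : ArLef.NodeAlg B π) ^ j' * E ^ (2 * j' + 1)) =
              (α : ArLef.NodeAlg B π) ^ j' * E ^ (2 * j' + 1) := by ring
          rw [this, ← mul_assoc, ← mul_pow, Units.inv_mul, one_pow, one_mul]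
        rw [this]
        exact Ideal.mul_mem_left _ _ (sub_mem h3 hc)
      rw [hJ]
      refine sup_le ?_ ?_
      · rw [Ideal.span_le, Set.singleton_subset_iff]; exact h1
      · rw [Ideal.span_le, Set.singleton_subset_iff]; exact h4
  refine ⟨?_, ?_⟩
  · intro g hg
    by_contra hgu
    have hgm : g ∈ mI π := by
      by_contra hgm
      exact hgu (isUnit_of_not_mem_mI π hgm)
    have h1 : h ∈ Ideal.span {g} := hg (hI ▸ hhJ)
    obtain ⟨c, hc⟩ := Ideal.mem_span_singleton'.mp h1
    have hcu : IsUnit c := by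
      apply isUnit_of_not_mem_mI π
      intro hcm
      apply not_mem_sq π hπ.not_isUnit (α : ArLef.NodeAlg B π)
      rw [← hh, ← hc, pow_two]
      exact Ideal.mul_mem_mul hcm hgm
    have h2 : P ^ (j' + 1) ∈ Ideal.span {g} := hg (hI ▸ hPJ)
    obtain ⟨d, hd⟩ := Ideal.mem_span_singleton'.mp h2
    obtain ⟨cu, hcu'⟩ := hcu
    have h3 : P ^ (j' + 1) * 1 ∈ Ideal.span {h} := by
      rw [Ideal.mem_span_singleton']
      refine ⟨d * (cu⁻¹ : (ArLef.NodeAlg B π)ˣ), ?_⟩
      rw [mul_one, ← hd, ← hc, ← hcu']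
      have : d * ((cu⁻¹ : (ArLef.NodeAlg B π)ˣ) : ArLef.NodeAlg B π) * (↑cu * g) =
          d * g * (((cu⁻¹ : (ArLef.NodeAlg B π)ˣ) : ArLef.NodeAlg B π) * cu) := by ring
      rw [this, Units.inv_mul, mul_one]
    have h4 := pi_pow_regular_mod_h π hp α (j' + 1) 1 h3
    have h5 : (1 : ArLef.NodeAlg B π) ∈ mI π := by
      obtain ⟨c', hc'⟩ := Ideal.mem_span_singleton'.mp h4
      rw [← hc']
      exact Ideal.mul_mem_left _ _
        (sub_mem (Ideal.mul_mem_left _ _ (e_mem_mI π)) (t_mem_mI π))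
    exact mI_ne_top π ((Ideal.eq_top_iff_one _).mpr h5)
  · rw [hI, hJ, sup_comm]
    have := length_quot_e_pow_h π hp α (2 * j' + 1)
    rw [this]
    congr 1

end Groth.Agent.S15320
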