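import Groth.Statements.S15321
import Mathlib
import Groth.Agent.Lib.Helper16PSFix
-- import your own Groth.Agent.* helpers here

set_option autoImplicit false
set_option linter.style.haveILetI false
set_option linter.unusedSectionVars false
universe u
open ArLef

namespace Groth.Agent.S15321
open Groth.Agent.Lib.Helper16PSFix


/-- In the case of a smooth point with the closed fibre outside the divisorial part, let B be a discrete
valuation ring with uniformizer π and residue field k, B[[t]] the complete local ring of a
semi-stable arithmetic surface over B at a point x where the closed fibre is smooth, and σ a ring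
automorphism of B[[t]] over an automorphism τ of B with v(τ(π) - π) = j ≥ 1, that is σ(π) = π + γ
π^j with γ a unit, and σ(b) - b ∈ π^j B[[t]] for all b ∈ B (automatic for B totally ramified over
the fixed ring of τ, as in the published setting). If π does not divide f = σ(t) - t (the closed
fibre is not in the divisorial part of the fixed locus near x), then the length of B[[t]] modulo the
fixed-point ideal of σ is j m, where m, the length of k[[t]]/(f mod π), is the multiplicity of x as
a fixed point of σ on the closed fibre. -/
theorem result (B : Type u) [CommRing B] [IsDomain B] [IsDiscreteValuationRing B] (π : B) (hπ : Irreducible π)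
    (j : ℕ) (hj : 1 ≤ j) (γ : B) (hγ : IsUnit γ)
    (σ : PowerSeries B ≃+* PowerSeries B)
    (hσB : ∀ b : B, σ (algebraMap B (PowerSeries B) b) - algebraMap B (PowerSeries B) b ∈
      Ideal.span ({algebraMap B (PowerSeries B) (π ^ j)} : Set (PowerSeries B)))
    (hσπ : σ (algebraMap B (PowerSeries B) π) = algebraMap B (PowerSeries B) (π + γ * π ^ j))
    (h0 : ¬ (algebraMap B (PowerSeries B) π ∣ σ PowerSeries.X - PowerSeries.X)) :
    Module.length (PowerSeries B) (PowerSeries B ⧸ ArLef.fixIdeal σ) =
      (j : ℕ∞) * Module.length (PowerSeries (IsLocalRing.ResidueField B)) (PowerSeries (IsLocalRing.ResidueField B) ⧸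
        Ideal.span ({PowerSeries.map (IsLocalRing.residue B) (σ PowerSeries.X - PowerSeries.X)} : Set (PowerSeries (IsLocalRing.ResidueField B)))) := by
  have hC : ∀ b : B, algebraMap B (PowerSeries B) b = PowerSeries.C b := fun b => rfl
  simp only [hC] at hσB hσπ h0
  set f : PowerSeries B := σ PowerSeries.X - PowerSeries.X with hf
  have hI : ArLef.fixIdeal σ = Ideal.span {(PowerSeries.C π : PowerSeries B) ^ j} ⊔ Ideal.span {f} := by
    apply le_antisymm
    · unfold ArLef.fixIdeal
      rw [Ideal.span_le]
      rintro _ ⟨r, rfl⟩
      refine sub_mem_of_gens σ _ ?_ ?_ r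
      · intro b
        have := hσB b
        rw [map_pow, Ideal.mem_span_singleton'] at this
        obtain ⟨c, hc⟩ := this
        rw [← hc]
        exact Ideal.mem_sup_left (Ideal.mul_mem_left _ _ (Ideal.mem_span_singleton_self _))
      · exact Ideal.mem_sup_right (Ideal.mem_span_singleton_self _)
    · refine sup_le ?_ ?_
      · rw [Ideal.span_le, Set.singleton_subset_iff]
        obtain ⟨Gu, hGu⟩ := hγ.map (PowerSeries.C : B →+* PowerSeries B)
        have h1 : (PowerSeries.C π : PowerSeries B) ^ j =
            ((Gu⁻¹ : (PowerSeries B)ˣ) : PowerSeries B) *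
              (σ (PowerSeries.C π) - PowerSeries.C π) := by
          rw [hσπ, map_add, map_mul, map_pow, ← hGu]
          have : PowerSeries.C π + (Gu : PowerSeries B) * PowerSeries.C π ^ j - PowerSeries.C π =
              (Gu : PowerSeries B) * PowerSeries.C π ^ j := by ring
          rw [this, ← mul_assoc, Units.inv_mul, one_mul]
        rw [SetLike.mem_coe, h1]
        exact Ideal.mul_mem_left _ _ (Ideal.subset_span ⟨_, rfl⟩)
      · rw [Ideal.span_le, Set.singleton_subset_iff]
        exact Ideal.subset_span ⟨_, rfl⟩
  rw [hI]
  exact length_pow_pi π hπ f h0 j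

end Groth.Agent.S15321
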