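import Groth.Statements.S15322
import Mathlib

set_option autoImplicit false
universe u
open CategoryTheory AlgebraicGeometry
open ArLef

namespace Groth.Agent.S15322

open CategoryTheory.Limits

set_option backward.isDefEq.respectTransparency false in
lemma isOpenImmersion_equalizer_ι_left {S : Scheme.{u}} {X Y : Over S} [FormallyUnramified Y.hom]
    [LocallyOfFiniteType Y.hom]
    (f g : X ⟶ Y) : IsOpenImmersion (equalizer.ι f g).left := by
  refine MorphismProperty.of_isPullback
    ((Limits.isPullback_equalizer_prod f g).map (Over.forget _)).flip ?_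
  rw [← MorphismProperty.cancel_right_of_respectsIso @IsOpenImmersion _
    (Over.prodLeftIsoPullback Y Y).hom]
  convert! (inferInstance : IsOpenImmersion (pullback.diagonal Y.hom))
  ext1 <;> simp [← Over.comp_left]

/-- rigidity: two morphisms from a connected scheme into an unramified separated scheme over a base
agreeing at one point are equal. -/
lemma rigidity {S X Y : Scheme.{u}} (p : Y ⟶ S) [FormallyUnramified p] [LocallyOfFiniteType p]
    [IsSeparated p] [ConnectedSpace X] (a b : X ⟶ Y) (hab : a ≫ p = b ≫ p)
    {Z : Scheme.{u}} [Nonempty Z] (z : Z ⟶ X) (hz : z ≫ a = z ≫ b) : a = b := by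
  let X' : Over S := Over.mk (a ≫ p)
  let Y' : Over S := Over.mk p
  let Z' : Over S := Over.mk (z ≫ a ≫ p)
  let a' : X' ⟶ Y' := Over.homMk a
  let b' : X' ⟶ Y' := Over.homMk b hab.symm
  let z' : Z' ⟶ X' := Over.homMk z
  have h1 : IsSeparated Y'.hom := ‹_›
  have h2 : FormallyUnramified Y'.hom := ‹_›
  have h3 : LocallyOfFiniteType Y'.hom := ‹_›
  have hop : IsOpenImmersion (equalizer.ι a' b').left := isOpenImmersion_equalizer_ι_left a' b'
  have hcl : IsClosedImmersion (equalizer.ι a' b').left := inferInstance
  have hz' : z' ≫ a' = z' ≫ b' := by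
    ext1; exact hz
  have hrange : Set.range (equalizer.ι a' b').left.base = Set.univ := by
    have hclopen : IsClopen (Set.range (equalizer.ι a' b').left.base) :=
      ⟨(Scheme.Hom.isClosedEmbedding _).isClosed_range, (Scheme.Hom.isOpenEmbedding _).isOpen_range⟩
    have hconn : ConnectedSpace X'.left := ‹ConnectedSpace X›
    rcases isClopen_iff.mp hclopen with h | h
    · exfalso
      obtain ⟨w⟩ := ‹Nonempty Z›
      have : (equalizer.ι a' b').left.base ((equalizer.lift z' hz').left.base w) ∈
          Set.range (equalizer.ι a' b').left.base := ⟨_, rfl⟩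
      rw [h] at this
      exact this
    · exact h
  have hsurj : Surjective (equalizer.ι a' b').left := ⟨fun x => by
    have : x ∈ Set.range (equalizer.ι a' b').left.base := by rw [hrange]; trivial
    exact this⟩
  have hiso : IsIso (equalizer.ι a' b').left :=
    (isIso_iff_isOpenImmersion_and_surjective _).mpr ⟨hop, hsurj⟩
  rw [← cancel_epi (equalizer.ι a' b').left]
  exact congr($(equalizer.condition a' b').left)


/-- Let f : D → C be a morphism, τ an automorphism of C and σ an automorphism of D with σ f = f τ; call
σ a good lifting of τ when the fixed-point scheme of σ is the full preimage of that of τ, i.e. every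
morphism z : Z → D with z f τ = z f has z σ = z. If f is etale, separated and surjective with D
connected and the fixed-point scheme of τ is non-empty (some point of C, with its residue field, is
fixed by τ), then τ has at most one good lifting. (The published statement is for a finite etale
cover of smooth projective irreducible curves over a field and a non-trivial τ; the argument uses
only the hypotheses stated here.) -/
theorem result {C D : Scheme.{u}} (f : D ⟶ C) [Etale f] [IsSeparated f] [Surjective f]
    [ConnectedSpace D] (τ : C ≅ C) (σ σ' : D ≅ D)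
    (hσ : σ.hom ≫ f = f ≫ τ.hom) (hσ' : σ'.hom ≫ f = f ≫ τ.hom)
    (good : ∀ (Z : Scheme.{u}) (z : Z ⟶ D), z ≫ f ≫ τ.hom = z ≫ f → z ≫ σ.hom = z)
    (good' : ∀ (Z : Scheme.{u}) (z : Z ⟶ D), z ≫ f ≫ τ.hom = z ≫ f → z ≫ σ'.hom = z)
    (x : C) (hx : C.fromSpecResidueField x ≫ τ.hom = C.fromSpecResidueField x) :
    σ = σ' := by
  obtain ⟨d, rfl⟩ := f.surjective x
  have hzf : D.fromSpecResidueField d ≫ f ≫ τ.hom = D.fromSpecResidueField d ≫ f := by
    rw [← Category.assoc, ← Scheme.Hom.SpecMap_residueFieldMap_fromSpecResidueField,
      Category.assoc, hx]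
  have e1 := good _ _ hzf
  have e2 := good' _ _ hzf
  apply Iso.ext
  exact rigidity f σ.hom σ'.hom (hσ.trans hσ'.symm) (D.fromSpecResidueField d) (e1.trans e2.symm)

end Groth.Agent.S15322
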