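import Groth.Statements.S15323
import Mathlib
import Groth.Agent.Lib.Helper16NodeFix5
import Groth.Agent.Lib.Helper16NodeLen2
-- import your own Groth.Agent.* helpers here

set_option autoImplicit false
set_option linter.style.haveILetI false
set_option linter.unusedSectionVars false
universe u
open ArLef ArLef.NodeAlg

namespace Groth.Agent.S15323
open Groth.Agent.Lib.Helper16NodeFix Groth.Agent.Lib.Helper16NodeLen


/-- In the cases where the branches through the point do not lie in the divisorial part of the fixed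
locus, let B be a discrete valuation ring with uniformizer π, N = B[[t, e]]/(te - π) the complete
local ring of a semi-stable arithmetic surface over B at a singular point x of the closed fibre, and
σ a ring automorphism of N with σ(π) = π + γ π^j (γ a unit of B, j ≥ 1) and σ(b) - b ∈ π^j N for all
b ∈ B (σ lies over an automorphism τ of B with v(τ(π) - π) = j, B totally ramified over the fixed
ring as in the published setting). Suppose σ fixes the branches, σ(t) = α t and σ(e) = β e with
units α, β, and that t does not divide β - 1 and e does not divide α - 1. Then the length of N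
modulo the fixed-point ideal of σ (the multiplicity of x in the residual fixed-point scheme) is j
(s₁ + s₂) + 1, where s₁ = length N/(t, β - 1) and s₂ = length N/(e, α - 1) are the fixed-point
multiplicities of σ at x along the two branches, each lowered by one. -/
theorem result (B : Type u) [CommRing B] [IsDomain B] [IsDiscreteValuationRing B] (π : B) (hπ : Irreducible π)
    (j : ℕ) (hj : 1 ≤ j) (γ : B) (hγ : IsUnit γ)
    (σ : ArLef.NodeAlg B π ≃+* ArLef.NodeAlg B π)
    (hσB : ∀ b : B, σ (algebraMap B (ArLef.NodeAlg B π) b) - algebraMap B (ArLef.NodeAlg B π) b ∈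
      Ideal.span ({algebraMap B (ArLef.NodeAlg B π) (π ^ j)} : Set (ArLef.NodeAlg B π)))
    (hσπ : σ (algebraMap B (ArLef.NodeAlg B π) π) = algebraMap B (ArLef.NodeAlg B π) (π + γ * π ^ j))
    (α β : (ArLef.NodeAlg B π)ˣ) (ht : σ (ArLef.NodeAlg.t π) = (α : ArLef.NodeAlg B π) * ArLef.NodeAlg.t π) (he : σ (ArLef.NodeAlg.e π) = (β : ArLef.NodeAlg B π) * ArLef.NodeAlg.e π)
    (htb : ¬ (ArLef.NodeAlg.t π ∣ (β : ArLef.NodeAlg B π) - 1)) (hea : ¬ (ArLef.NodeAlg.e π ∣ (α : ArLef.NodeAlg B π) - 1)) :
    Module.length (ArLef.NodeAlg B π) (ArLef.NodeAlg B π ⧸ ArLef.fixIdeal σ) =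
      (j : ℕ∞) * (Module.length (ArLef.NodeAlg B π) (ArLef.NodeAlg B π ⧸ Ideal.span ({ArLef.NodeAlg.t π, (β : ArLef.NodeAlg B π) - 1} : Set (ArLef.NodeAlg B π))) +
        Module.length (ArLef.NodeAlg B π) (ArLef.NodeAlg B π ⧸ Ideal.span ({ArLef.NodeAlg.e π, (α : ArLef.NodeAlg B π) - 1} : Set (ArLef.NodeAlg B π)))) + 1 := by
  have hp : Prime π := hπ.prime
  haveI hmax : (Ideal.span ({π} : Set B)).IsMaximal :=
    PrincipalIdealRing.isMaximal_of_irreducible hπ
  set T := ArLef.NodeAlg.t π with hT
  set E := ArLef.NodeAlg.e π with hE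
  set P : ArLef.NodeAlg B π := algebraMap B (ArLef.NodeAlg B π) π with hP
  set G : ArLef.NodeAlg B π := algebraMap B (ArLef.NodeAlg B π) γ with hG
  have hte : T * E = P := Groth.Agent.Lib.Helper22.nodeAlg_t_mul_e π
  have hGu : IsUnit G := hγ.map _
  obtain ⟨j', rfl⟩ : ∃ j', j = j' + 1 := ⟨j - 1, by omega⟩
  have hσP : σ P = P + G * P ^ (j' + 1) := by
    rw [hσπ, map_add, map_mul, map_pow]
  have hab : (α : ArLef.NodeAlg B π) * β = 1 + G * P ^ j' := by
    have h1 : σ (T * E) = P + G * P ^ (j' + 1) := by rw [hte, hσP]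
    rw [map_mul, ht, he] at h1
    have h2 : P * ((α : ArLef.NodeAlg B π) * β - (1 + G * P ^ j')) = 0 := by
      rw [← hte] at h1 ⊢
      linear_combination h1
    exact sub_eq_zero.mp (Groth.Agent.Lib.Helper22.nodeAlg_pi_regular π hπ.ne_zero _ h2)
  set a : ArLef.NodeAlg B π := (α : ArLef.NodeAlg B π) - 1 with ha
  set b : ArLef.NodeAlg B π := (β : ArLef.NodeAlg B π) - 1 with hb
  have hgt : σ T - T = a * T := by rw [ht, ha]; ring
  have hge : σ E - E = b * E := by rw [he, hb]; ring
  have hmt : (σ : ArLef.NodeAlg B π →+* ArLef.NodeAlg B π) T ∈ mI π := by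
    rw [RingEquiv.coe_toRingHom, ht]; exact Ideal.mul_mem_left _ _ (t_mem_mI π)
  have hme : (σ : ArLef.NodeAlg B π →+* ArLef.NodeAlg B π) E ∈ mI π := by
    rw [RingEquiv.coe_toRingHom, he]; exact Ideal.mul_mem_left _ _ (e_mem_mI π)
  have hI : ArLef.fixIdeal σ = Ideal.span {a * T, b * E, (T * E) ^ (j' + 1)} := by
    apply le_antisymm
    · unfold ArLef.fixIdeal
      rw [Ideal.span_le]
      rintro _ ⟨r, rfl⟩
      refine sub_mem_of_gens' (σ : ArLef.NodeAlg B π →+* ArLef.NodeAlg B π) hmt hme _ ?_ ?_ ?_ r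
      · intro c
        have := hσB c
        rw [map_pow, Ideal.mem_span_singleton'] at this
        obtain ⟨d, hd⟩ := this
        rw [RingEquiv.coe_toRingHom, ← hd, hte]
        exact Ideal.mul_mem_left _ _ (Ideal.subset_span (by right; right; rfl))
      · rw [RingEquiv.coe_toRingHom, hgt]; exact Ideal.subset_span (by simp)
      · rw [RingEquiv.coe_toRingHom, hge]; exact Ideal.subset_span (by simp)
    · rw [Ideal.span_le]
      intro x hx
      simp only [Set.mem_insert_iff, Set.mem_singleton_iff] at hx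
      rcases hx with rfl | rfl | rfl
      · rw [← hgt]; exact Ideal.subset_span ⟨_, rfl⟩
      · rw [← hge]; exact Ideal.subset_span ⟨_, rfl⟩
      · obtain ⟨Gu, hGu'⟩ := hGu
        have : (T * E) ^ (j' + 1) = (Gu⁻¹ : (ArLef.NodeAlg B π)ˣ) * (σ P - P) := by
          rw [hσP, ← hGu', hte]
          have : P + (Gu : ArLef.NodeAlg B π) * P ^ (j' + 1) - P =
              (Gu : ArLef.NodeAlg B π) * P ^ (j' + 1) := by ring
          rw [this, ← mul_assoc, Units.inv_mul, one_mul]
        rw [this]
        exact Ideal.mul_mem_left _ _ (Ideal.subset_span ⟨_, rfl⟩)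
  have hm : Module.length (ArLef.NodeAlg B π) (ArLef.NodeAlg B π ⧸ Ideal.span ({T, E} : Set _)) = 1 :=
    length_quot_mI π
  have key := length_main T E a b G j' (t_prime π hp) (e_prime π hp)
    (t_regular π hπ.ne_zero) (e_regular π hπ.ne_zero)
    (not_t_dvd_e π hπ.not_isUnit) (not_e_dvd_t π hπ.not_isUnit)
    (by rw [ha, add_sub_cancel]; exact α.isUnit) (by rw [hb, add_sub_cancel]; exact β.isUnit)
    (by rw [hte, ha, hb]; linear_combination hab) htb hea hm
  rw [hI, key]

end Groth.Agent.S15323
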