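import Groth.Statements.S15325
import Mathlib
import Groth.Agent.Lib.Helper16NodeFix4
-- import your own Groth.Agent.* helpers here

set_option autoImplicit false
set_option linter.style.haveILetI false
set_option linter.unusedSectionVars false
universe u
open ArLef ArLef.NodeAlg

namespace Groth.Agent.S15325
open Groth.Agent.Lib.Helper16NodeFix


/-- Let k be a field, A = k[[t, e]]/(te) the complete local ring of a nodal curve at a node x, and σ a
k-algebra automorphism of A fixing the two branches, σ(t) = α t and σ(e) = β e with units α, β.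
Writing I for the fixed-point ideal of σ (generated by all σ(r) - r), the fixed-point multiplicity
length(A/I) of σ at x and the fixed-point multiplicities length(A/(I + (t))), length(A/(I + (e))) of
the automorphisms induced on the two branches satisfy length(A/I) + 1 = length(A/(I + (t))) +
length(A/(I + (e))), as extended natural numbers (both sides are infinite when σ fixes a branch
pointwise). (The published setting has k algebraically closed.) -/
theorem result (k : Type u) [Field k]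
    (σ : ArLef.NodeAlg k 0 ≃ₐ[k] ArLef.NodeAlg k 0) (α β : (ArLef.NodeAlg k 0)ˣ)
    (ht : σ (ArLef.NodeAlg.t (0 : k)) = (α : ArLef.NodeAlg k 0) * ArLef.NodeAlg.t (0 : k)) (he : σ (ArLef.NodeAlg.e (0 : k)) = (β : ArLef.NodeAlg k 0) * ArLef.NodeAlg.e (0 : k)) :
    Module.length (ArLef.NodeAlg k 0) (ArLef.NodeAlg k 0 ⧸ ArLef.fixIdeal σ) + 1 =
      Module.length (ArLef.NodeAlg k 0) (ArLef.NodeAlg k 0 ⧸ (ArLef.fixIdeal σ ⊔ Ideal.span ({ArLef.NodeAlg.t (0 : k)} : Set (ArLef.NodeAlg k 0)))) +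
        Module.length (ArLef.NodeAlg k 0) (ArLef.NodeAlg k 0 ⧸ (ArLef.fixIdeal σ ⊔ Ideal.span ({ArLef.NodeAlg.e (0 : k)} : Set (ArLef.NodeAlg k 0)))) := by
  set T := ArLef.NodeAlg.t (0 : k) with hT
  set E := ArLef.NodeAlg.e (0 : k) with hE
  set a : ArLef.NodeAlg k 0 := (α : ArLef.NodeAlg k 0) - 1 with ha
  set b : ArLef.NodeAlg k 0 := (β : ArLef.NodeAlg k 0) - 1 with hb
  have hmt : (σ : ArLef.NodeAlg k 0 →ₐ[k] ArLef.NodeAlg k 0) T ∈ mI (0 : k) := by
    rw [AlgEquiv.coe_toAlgHom, ht]; exact Ideal.mul_mem_left _ _ (t_mem_mI _)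
  have hme : (σ : ArLef.NodeAlg k 0 →ₐ[k] ArLef.NodeAlg k 0) E ∈ mI (0 : k) := by
    rw [AlgEquiv.coe_toAlgHom, he]; exact Ideal.mul_mem_left _ _ (e_mem_mI _)
  have hgt : σ T - T = a * T := by rw [ht, ha]; ring
  have hge : σ E - E = b * E := by rw [he, hb]; ring
  -- Step 1
  have hI : ArLef.fixIdeal σ = Ideal.span {a * T, b * E} := by
    apply le_antisymm
    · unfold ArLef.fixIdeal
      rw [Ideal.span_le]
      rintro _ ⟨r, rfl⟩
      exact sub_mem_of_gens (σ : ArLef.NodeAlg k 0 →ₐ[k] ArLef.NodeAlg k 0) hmt hme _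
        (by rw [AlgEquiv.coe_toAlgHom, hgt]; exact Ideal.subset_span (by simp))
        (by rw [AlgEquiv.coe_toAlgHom, hge]; exact Ideal.subset_span (by simp)) r
    · rw [Ideal.span_le]
      rintro x (rfl | hx)
      · rw [← hgt]; exact Ideal.subset_span ⟨_, rfl⟩
      · rw [Set.mem_singleton_iff] at hx
        subst hx
        rw [← hge]; exact Ideal.subset_span ⟨_, rfl⟩
  have hIm : ArLef.fixIdeal σ ≤ mI (0 : k) := by
    rw [hI, Ideal.span_le]
    rintro x (rfl | hx)
    · exact Ideal.mul_mem_left _ _ (t_mem_mI _)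
    · rw [Set.mem_singleton_iff] at hx
      subst hx
      exact Ideal.mul_mem_left _ _ (e_mem_mI _)
  -- Step 2
  have hsup : (ArLef.fixIdeal σ ⊔ Ideal.span {T}) ⊔ (ArLef.fixIdeal σ ⊔ Ideal.span {E}) =
      mI (0 : k) := by
    apply le_antisymm
    · refine sup_le (sup_le hIm ?_) (sup_le hIm ?_)
      · rw [Ideal.span_le, Set.singleton_subset_iff]; exact t_mem_mI _
      · rw [Ideal.span_le, Set.singleton_subset_iff]; exact e_mem_mI _
    · unfold mI
      rw [Ideal.span_le]
      rintro x (rfl | hx)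
      · exact Ideal.mem_sup_left (Ideal.mem_sup_right (Ideal.mem_span_singleton_self _))
      · rw [Set.mem_singleton_iff] at hx
        subst hx
        exact Ideal.mem_sup_right (Ideal.mem_sup_right (Ideal.mem_span_singleton_self _))
  -- Step 3
  have hinf : (ArLef.fixIdeal σ ⊔ Ideal.span {T}) ⊓ (ArLef.fixIdeal σ ⊔ Ideal.span {E}) =
      ArLef.fixIdeal σ := by
    apply le_antisymm
    · rintro x ⟨hx1, hx2⟩
      obtain ⟨i₁, hi₁, y₁, hy₁, rfl⟩ := Submodule.mem_sup.mp hx1
      obtain ⟨i₂, hi₂, y₂, hy₂, h12⟩ := Submodule.mem_sup.mp hx2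
      rw [hI] at hi₁ hi₂
      obtain ⟨p₁, q₁, rfl⟩ := Ideal.mem_span_pair.mp hi₁
      obtain ⟨p₂, q₂, rfl⟩ := Ideal.mem_span_pair.mp hi₂
      obtain ⟨c₁, rfl⟩ := Ideal.mem_span_singleton'.mp hy₁
      obtain ⟨c₂, rfl⟩ := Ideal.mem_span_singleton'.mp hy₂
      have h1 : T * (c₁ + p₁ * a - p₂ * a) = E * (c₂ + q₂ * b - q₁ * b) := by
        linear_combination -h12
      have h2 := t_mul_eq_e_mul_zero _ _ h1
      have h3 : p₁ * (a * T) + q₁ * (b * E) + c₁ * T = p₂ * (a * T) + q₁ * (b * E) := by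
        linear_combination h2
      rw [h3, hI]
      exact add_mem (Ideal.mul_mem_left _ _ (Ideal.subset_span (by simp)))
        (Ideal.mul_mem_left _ _ (Ideal.subset_span (by simp)))
    · exact le_inf le_sup_left le_sup_left
  -- Step 4
  haveI : (Ideal.span ({(0 : k)} : Set k)).IsMaximal := by
    rw [Ideal.span_singleton_eq_bot.2 rfl]; exact Ideal.bot_isMaximal
  have hmax : (mI (0 : k)).IsMaximal := mI_isMaximal (0 : k)
  have hlen1 : Module.length (ArLef.NodeAlg k 0) (ArLef.NodeAlg k 0 ⧸ mI (0 : k)) = 1 := by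
    rw [Module.length_eq_one_iff, isSimpleModule_iff_isCoatom]
    exact Ideal.isMaximal_def.mp hmax
  have key := length_inf_add_sup (ArLef.fixIdeal σ ⊔ Ideal.span {T})
    (ArLef.fixIdeal σ ⊔ Ideal.span {E})
  rw [hinf, hsup, hlen1] at key
  exact key

end Groth.Agent.S15325
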