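import Groth.Statements.S15327
import Mathlib

set_option autoImplicit false
open ArLef ArLef.BlowupGraph

namespace Groth.Agent.S15327

section
variable {n : ℕ} (G : BlowupGraph n)

lemma ttN_eq (k m : ℕ) : G.ttN k m = if m < k then 0 else if m = k then 1 else
      ∑ p ∈ G.parN m, G.ttN k p := by
  rw [ttN, Finset.sum_attach (G.parN m) (fun p => G.ttN k p)]

lemma tt_eq (k m : Fin n) : G.tt k m = if m < k then 0 else if m = k then 1 else
      ∑ p ∈ G.par m, G.tt k p := by
  unfold tt
  rw [ttN_eq]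
  have h1 : G.parN m.1 = (G.par m).map Fin.valEmbedding := by
    unfold parN
    rw [dif_pos m.2]
  rw [h1, Finset.sum_map]
  simp only [Fin.valEmbedding_apply, Fin.lt_def, Fin.ext_iff]

lemma par_eq_pair (m p q : Fin n) (hp : p ∈ G.par m) (hq : q ∈ G.par m) (hpq : p ≠ q) :
    G.par m = {p, q} := by
  classical
  symm
  apply Finset.eq_of_subset_of_card_le
  · intro x hx
    rw [Finset.mem_insert, Finset.mem_singleton] at hx
    rcases hx with rfl | rfl
    · exact hp
    · exact hq
  · rw [Finset.card_pair hpq]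
    exact G.card_le_two m

/-- stage adjacency -/
def AdjS (s : ℕ) (p q : Fin n) : Prop :=
  (p ∈ G.par q ∧ ∀ m : Fin n, q < m → m.1 < s → G.par m ≠ {p, q}) ∨
  (q ∈ G.par p ∧ ∀ m : Fin n, p < m → m.1 < s → G.par m ≠ {q, p})

lemma AdjS_succ_of_mem (s : ℕ) (hs : s < n) (p q : Fin n) (hpq : p ≠ q)
    (hp : p ∈ G.par ⟨s, hs⟩) (hq : q ∈ G.par ⟨s, hs⟩) :
    AdjS G s p q ∧ ¬ AdjS G (s+1) p q := by
  have hps : p < ⟨s, hs⟩ := G.par_lt _ _ hp
  have hqs : q < ⟨s, hs⟩ := G.par_lt _ _ hq
  rcases lt_or_gt_of_ne hpq with h | h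
  · obtain ⟨h1, h2⟩ := G.meet_of_two ⟨s, hs⟩ p q hp hq h
    refine ⟨Or.inl ⟨h1, fun m hqm hms => h2 m hqm hms⟩, ?_⟩
    rintro (⟨_, h3⟩ | ⟨h3, _⟩)
    · exact h3 ⟨s, hs⟩ hqs (Nat.lt_succ_self s) (par_eq_pair G _ p q hp hq hpq)
    · exact absurd (G.par_lt _ _ h3) (not_lt.mpr h.le)
  · obtain ⟨h1, h2⟩ := G.meet_of_two ⟨s, hs⟩ q p hq hp h
    refine ⟨Or.inr ⟨h1, fun m hqm hms => h2 m hqm hms⟩, ?_⟩
    rintro (⟨h3, _⟩ | ⟨_, h3⟩)
    · exact absurd (G.par_lt _ _ h3) (not_lt.mpr h.le)
    · exact h3 ⟨s, hs⟩ hps (Nat.lt_succ_self s) (par_eq_pair G _ q p hq hp hpq.symm)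

lemma AdjS_succ_of_not_mem (s : ℕ) (hs : s < n) (p q : Fin n)
    (h : ¬ (p ∈ G.par ⟨s, hs⟩ ∧ q ∈ G.par ⟨s, hs⟩)) :
    AdjS G (s+1) p q ↔ AdjS G s p q := by
  have hne1 : G.par ⟨s, hs⟩ ≠ {p, q} := by
    intro e
    apply h
    rw [e]
    simp
  have hne2 : G.par ⟨s, hs⟩ ≠ {q, p} := by
    intro e
    apply h
    rw [e]
    simp
  have key : ∀ (m : Fin n), m.1 < s + 1 → ¬ m.1 < s → m = ⟨s, hs⟩ := by
    intro m h1 h2
    apply Fin.ext
    simp only
    omega
  unfold AdjS
  constructor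
  · rintro (⟨h1, h2⟩ | ⟨h1, h2⟩)
    · exact Or.inl ⟨h1, fun m hm hms => h2 m hm (by omega)⟩
    · exact Or.inr ⟨h1, fun m hm hms => h2 m hm (by omega)⟩
  · rintro (⟨h1, h2⟩ | ⟨h1, h2⟩)
    · refine Or.inl ⟨h1, fun m hm hms => ?_⟩
      by_cases hlt : m.1 < s
      · exact h2 m hm hlt
      · rw [key m hms hlt]; exact hne1
    · refine Or.inr ⟨h1, fun m hm hms => ?_⟩
      by_cases hlt : m.1 < s
      · exact h2 m hm hlt
      · rw [key m hms hlt]; exact hne2

open Classical in
/-- stage intersection matrix -/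
noncomputable def Ms (s : ℕ) : Matrix (Fin n) (Fin n) ℚ := fun p q =>
  if p.1 < s ∧ q.1 < s then
    (if p = q then -1 - ∑ m : Fin n, (if m.1 < s ∧ p ∈ G.par m then (1:ℚ) else 0)
     else if AdjS G s p q then 1 else 0)
  else 0

open Classical in
/-- the update vector -/
noncomputable def dvec (s : ℕ) (hs : s < n) (p : Fin n) : ℚ :=
  (if p ∈ G.par ⟨s, hs⟩ then 1 else 0) - (if p = ⟨s, hs⟩ then 1 else 0)

open Classical in
lemma Ms_of_lt (s : ℕ) (p q : Fin n) (hp : p.1 < s) (hq : q.1 < s) :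
    Ms G s p q = (if p = q then -1 - ∑ m : Fin n, (if m.1 < s ∧ p ∈ G.par m then (1:ℚ) else 0)
     else if AdjS G s p q then 1 else 0) := by
  unfold Ms
  rw [if_pos ⟨hp, hq⟩]

lemma Ms_of_not (s : ℕ) (p q : Fin n) (h : ¬ (p.1 < s ∧ q.1 < s)) : Ms G s p q = 0 := by
  unfold Ms
  rw [if_neg h]

lemma dvec_of_lt (s : ℕ) (hs : s < n) (p : Fin n) (hp : p.1 < s) :
    dvec G s hs p = if p ∈ G.par ⟨s, hs⟩ then 1 else 0 := by
  classical
  unfold dvec
  have : p ≠ ⟨s, hs⟩ := by
    intro e; rw [e] at hp; simp at hp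
  rw [if_neg this, sub_zero]

lemma dvec_of_eq (s : ℕ) (hs : s < n) : dvec G s hs ⟨s, hs⟩ = -1 := by
  classical
  unfold dvec
  have : (⟨s, hs⟩ : Fin n) ∉ G.par ⟨s, hs⟩ := fun h => lt_irrefl _ (G.par_lt _ _ h)
  rw [if_neg this, if_pos rfl, zero_sub]

lemma dvec_of_gt (s : ℕ) (hs : s < n) (p : Fin n) (hp : s < p.1) : dvec G s hs p = 0 := by
  classical
  unfold dvec
  have h1 : p ∉ G.par ⟨s, hs⟩ := by
    intro h
    have := G.par_lt _ _ h
    rw [Fin.lt_def] at this
    simp only at this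
    omega
  have h2 : p ≠ ⟨s, hs⟩ := by
    intro e; rw [e] at hp; simp at hp
  rw [if_neg h1, if_neg h2, sub_zero]

lemma Ms_succ (s : ℕ) (hs : s < n) (p q : Fin n) :
    Ms G (s+1) p q = Ms G s p q - dvec G s hs p * dvec G s hs q := by
  classical
  by_cases hp : s < p.1
  · rw [dvec_of_gt G s hs p hp, zero_mul, sub_zero]
    rw [Ms_of_not G (s+1) p q (by omega), Ms_of_not G s p q (by omega)]
  by_cases hq : s < q.1
  · rw [dvec_of_gt G s hs q hq, mul_zero, sub_zero]
    rw [Ms_of_not G (s+1) p q (by omega), Ms_of_not G s p q (by omega)]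
  have hp' : p.1 < s ∨ p = ⟨s, hs⟩ := by
    rcases Nat.lt_or_ge p.1 s with h | h
    · exact Or.inl h
    · right; apply Fin.ext; simp only; omega
  have hq' : q.1 < s ∨ q = ⟨s, hs⟩ := by
    rcases Nat.lt_or_ge q.1 s with h | h
    · exact Or.inl h
    · right; apply Fin.ext; simp only; omega
  have hself : (⟨s, hs⟩ : Fin n) ∉ G.par ⟨s, hs⟩ := fun h => lt_irrefl _ (G.par_lt _ _ h)
  rcases hp' with hp' | rfl
  · have hpne : p ≠ ⟨s, hs⟩ := by
      intro e; rw [e] at hp'; simp at hp'
    rcases hq' with hq' | rfl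
    · -- both < s
      rw [dvec_of_lt G s hs p hp', dvec_of_lt G s hs q hq']
      rw [Ms_of_lt G (s+1) p q (by omega) (by omega), Ms_of_lt G s p q hp' hq']
      by_cases hpq : p = q
      · subst hpq
        rw [if_pos rfl, if_pos rfl]
        have : ∑ m : Fin n, (if m.1 < s + 1 ∧ p ∈ G.par m then (1:ℚ) else 0)
            = ∑ m : Fin n, (if m.1 < s ∧ p ∈ G.par m then (1:ℚ) else 0)
              + (if p ∈ G.par ⟨s, hs⟩ then 1 else 0) := by
          have h1 : ∀ m : Fin n, (if m.1 < s + 1 ∧ p ∈ G.par m then (1:ℚ) else 0)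
              = (if m.1 < s ∧ p ∈ G.par m then (1:ℚ) else 0)
                + (if m = ⟨s, hs⟩ then (if p ∈ G.par ⟨s, hs⟩ then 1 else 0) else 0) := by
            intro m
            by_cases hm : m = ⟨s, hs⟩
            · subst hm
              simp
            · have hms : m.1 ≠ s := fun e => hm (Fin.ext e)
              rw [if_neg hm, add_zero]
              by_cases hlt : m.1 < s
              · have h2 : m.1 < s + 1 := by omega
                by_cases hpm : p ∈ G.par m
                · rw [if_pos ⟨h2, hpm⟩, if_pos ⟨hlt, hpm⟩]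
                · rw [if_neg (fun h => hpm h.2), if_neg (fun h => hpm h.2)]
              · have h2 : ¬ m.1 < s + 1 := by omega
                rw [if_neg (fun h => h2 h.1), if_neg (fun h => hlt h.1)]
          rw [Finset.sum_congr rfl (fun m _ => h1 m), Finset.sum_add_distrib,
            Finset.sum_ite_eq' Finset.univ, if_pos (Finset.mem_univ _)]
        rw [this]
        by_cases hmem : p ∈ G.par ⟨s, hs⟩
        · rw [if_pos hmem]; ring
        · rw [if_neg hmem]; ring
      · rw [if_neg hpq, if_neg hpq]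
        by_cases hmem : p ∈ G.par ⟨s, hs⟩ ∧ q ∈ G.par ⟨s, hs⟩
        · obtain ⟨h1, h2⟩ := AdjS_succ_of_mem G s hs p q hpq hmem.1 hmem.2
          rw [if_neg h2, if_pos h1, if_pos hmem.1, if_pos hmem.2]
          ring
        · have h1 := AdjS_succ_of_not_mem G s hs p q hmem
          have h3 : (if p ∈ G.par ⟨s, hs⟩ then (1:ℚ) else 0) * (if q ∈ G.par ⟨s, hs⟩ then 1 else 0)
              = 0 := by
            by_cases hpm : p ∈ G.par ⟨s, hs⟩
            · have hqm : q ∉ G.par ⟨s, hs⟩ := fun h => hmem ⟨hpm, h⟩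
              rw [if_neg hqm, mul_zero]
            · rw [if_neg hpm, zero_mul]
          rw [h3, sub_zero]
          by_cases hA : AdjS G s p q
          · rw [if_pos hA, if_pos (h1.mpr hA)]
          · rw [if_neg hA, if_neg (fun h => hA (h1.mp h))]
    · -- p < s, q = ms
      rw [dvec_of_lt G s hs p hp', dvec_of_eq]
      rw [Ms_of_lt G (s+1) p ⟨s, hs⟩ (by omega) (Nat.lt_succ_self s), if_neg hpne,
        Ms_of_not G s p ⟨s, hs⟩ (fun h => lt_irrefl _ h.2)]
      have hA : AdjS G (s+1) p ⟨s, hs⟩ ↔ p ∈ G.par ⟨s, hs⟩ := by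
        unfold AdjS
        constructor
        · rintro (⟨h, _⟩ | ⟨h, _⟩)
          · exact h
          · have := G.par_lt _ _ h
            rw [Fin.lt_def] at this
            simp only at this
            omega
        · intro h
          refine Or.inl ⟨h, fun m hm hms => ?_⟩
          rw [Fin.lt_def] at hm
          simp only at hm
          omega
      by_cases hmem : p ∈ G.par ⟨s, hs⟩
      · rw [if_pos (hA.mpr hmem), if_pos hmem]; ring
      · rw [if_neg (fun h => hmem (hA.mp h)), if_neg hmem]; ring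
  · rcases hq' with hq' | rfl
    · -- p = ms, q < s
      have hqne : q ≠ ⟨s, hs⟩ := by
        intro e; rw [e] at hq'; simp at hq'
      rw [dvec_of_lt G s hs q hq', dvec_of_eq]
      rw [Ms_of_lt G (s+1) ⟨s, hs⟩ q (Nat.lt_succ_self s) (by omega), if_neg (Ne.symm hqne),
        Ms_of_not G s ⟨s, hs⟩ q (fun h => lt_irrefl _ h.1)]
      have hA : AdjS G (s+1) ⟨s, hs⟩ q ↔ q ∈ G.par ⟨s, hs⟩ := by
        unfold AdjS
        constructor
        · rintro (⟨h, _⟩ | ⟨h, _⟩)
          · have := G.par_lt _ _ h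
            rw [Fin.lt_def] at this
            simp only at this
            omega
          · exact h
        · intro h
          refine Or.inr ⟨h, fun m hm hms => ?_⟩
          rw [Fin.lt_def] at hm
          simp only at hm
          omega
      by_cases hmem : q ∈ G.par ⟨s, hs⟩
      · rw [if_pos (hA.mpr hmem), if_pos hmem]; ring
      · rw [if_neg (fun h => hmem (hA.mp h)), if_neg hmem]; ring
    · -- both = ms
      rw [dvec_of_eq]
      rw [Ms_of_lt G (s+1) ⟨s, hs⟩ ⟨s, hs⟩ (Nat.lt_succ_self s) (Nat.lt_succ_self s), if_pos rfl,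
        Ms_of_not G s ⟨s, hs⟩ ⟨s, hs⟩ (fun h => lt_irrefl _ h.1)]
      have : ∑ m : Fin n, (if m.1 < s + 1 ∧ (⟨s, hs⟩ : Fin n) ∈ G.par m then (1:ℚ) else 0) = 0 := by
        apply Finset.sum_eq_zero
        intro m _
        rw [if_neg]
        rintro ⟨h1, h2⟩
        have := G.par_lt _ _ h2
        rw [Fin.lt_def] at this
        simp only at this
        omega
      rw [this]
      ring

/-- the `dvec`-weighted sum of a row of `tt` -/
lemma sum_tt_dvec (s : ℕ) (hs : s < n) (k : Fin n) :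
    ∑ p : Fin n, (G.tt k p : ℚ) * dvec G s hs p = if k = ⟨s, hs⟩ then -1 else 0 := by
  classical
  have h1 : ∑ p : Fin n, (G.tt k p : ℚ) * dvec G s hs p
      = ((∑ p ∈ G.par ⟨s, hs⟩, G.tt k p : ℤ) : ℚ) - (G.tt k ⟨s, hs⟩ : ℚ) := by
    unfold dvec
    simp only [mul_sub, Finset.sum_sub_distrib, mul_ite, mul_one, mul_zero]
    rw [Finset.sum_ite_eq' Finset.univ, if_pos (Finset.mem_univ _)]
    rw [Finset.sum_ite_mem Finset.univ, Finset.univ_inter]
    push_cast
    rfl
  rw [h1]
  have h2 := tt_eq G k ⟨s, hs⟩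
  rcases lt_trichotomy k ⟨s, hs⟩ with hk | hk | hk
  · rw [if_neg (not_lt.mpr hk.le), if_neg hk.ne'] at h2
    rw [← h2, if_neg hk.ne, sub_self]
  · subst hk
    rw [if_pos rfl]
    rw [if_neg (lt_irrefl _), if_pos rfl] at h2
    rw [h2]
    have : ∑ p ∈ G.par ⟨s, hs⟩, G.tt ⟨s, hs⟩ p = 0 := by
      apply Finset.sum_eq_zero
      intro p hp
      rw [tt_eq, if_pos (G.par_lt _ _ hp)]
    rw [this]
    norm_num
  · rw [if_pos hk] at h2
    rw [h2, if_neg hk.ne']
    have : ∑ p ∈ G.par ⟨s, hs⟩, G.tt k p = 0 := by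
      apply Finset.sum_eq_zero
      intro p hp
      rw [tt_eq, if_pos ((G.par_lt _ _ hp).trans hk)]
    rw [this]
    norm_num

/-- the stage quadratic form -/
noncomputable def Qs (s : ℕ) (k l : Fin n) : ℚ :=
  ∑ p : Fin n, ∑ q : Fin n, (G.tt k p : ℚ) * Ms G s p q * (G.tt l q : ℚ)

lemma Qs_succ (s : ℕ) (hs : s < n) (k l : Fin n) :
    Qs G (s+1) k l = Qs G s k l - (if k = ⟨s, hs⟩ then -1 else 0) * (if l = ⟨s, hs⟩ then -1 else 0) := by
  unfold Qs
  rw [← sum_tt_dvec G s hs k, ← sum_tt_dvec G s hs l, Finset.sum_mul_sum, ← Finset.sum_sub_distrib]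
  apply Finset.sum_congr rfl
  intro p _
  rw [← Finset.sum_sub_distrib]
  apply Finset.sum_congr rfl
  intro q _
  rw [Ms_succ G s hs]
  ring

lemma Qs_eq (s : ℕ) (hs : s ≤ n) (k l : Fin n) :
    Qs G s k l = if k = l ∧ k.1 < s then -1 else 0 := by
  induction s with
  | zero =>
    rw [if_neg (fun h => Nat.not_lt_zero _ h.2)]
    unfold Qs
    apply Finset.sum_eq_zero
    intro p _
    apply Finset.sum_eq_zero
    intro q _
    rw [Ms_of_not G 0 p q (fun h => Nat.not_lt_zero _ h.1), mul_zero, zero_mul]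
  | succ s ih =>
    have hs' : s < n := hs
    rw [Qs_succ G s hs', ih hs'.le]
    by_cases hk : k = ⟨s, hs'⟩
    · subst hk
      by_cases hl : l = ⟨s, hs'⟩
      · subst hl
        rw [if_pos rfl, if_neg (fun h => lt_irrefl _ h.2), if_pos ⟨rfl, Nat.lt_succ_self s⟩]
        norm_num
      · rw [if_pos rfl, if_neg hl, if_neg (fun h => hl h.1.symm), if_neg (fun h => hl h.1.symm)]
        norm_num
    · rw [if_neg hk, zero_mul, sub_zero]
      have hks : k.1 ≠ s := fun e => hk (Fin.ext e)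
      by_cases h : k = l ∧ k.1 < s
      · rw [if_pos h, if_pos ⟨h.1, by omega⟩]
      · rw [if_neg h, if_neg]
        rintro ⟨h1, h2⟩
        exact h ⟨h1, by omega⟩

lemma Ms_final : Ms G n = G.mat := by
  classical
  funext p q
  rw [Ms_of_lt G n p q p.2 q.2]
  unfold mat
  by_cases hpq : p = q
  · rw [if_pos hpq, if_pos hpq]
    unfold selfInt
    push_cast
    congr 1
    rw [Finset.card_filter]
    push_cast
    apply Finset.sum_congr rfl
    intro m _
    by_cases hm : p ∈ G.par m
    · rw [if_pos ⟨m.2, hm⟩, if_pos hm]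
    · rw [if_neg (fun h => hm h.2), if_neg hm]
  · rw [if_neg hpq, if_neg hpq]
    have : AdjS G n p q ↔ G.Adj p q := by
      unfold AdjS Adj
      constructor
      · rintro (⟨h1, h2⟩ | ⟨h1, h2⟩)
        · exact Or.inl ⟨h1, fun m hm => h2 m hm m.2⟩
        · exact Or.inr ⟨h1, fun m hm => h2 m hm m.2⟩
      · rintro (⟨h1, h2⟩ | ⟨h1, h2⟩)
        · exact Or.inl ⟨h1, fun m hm _ => h2 m hm⟩
        · exact Or.inr ⟨h1, fun m hm _ => h2 m hm⟩
    by_cases hA : G.Adj p q
    · rw [if_pos hA, if_pos (this.mpr hA)]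
    · rw [if_neg hA, if_neg (fun h => hA (this.mp h))]

/-- the matrix of total transform coefficients -/
def Tq : Matrix (Fin n) (Fin n) ℚ := fun k p => (G.tt k p : ℚ)

theorem T_mat_Tt : Tq G * G.mat * (Tq G).transpose = -1 := by
  funext k l
  rw [Matrix.mul_apply]
  simp only [Matrix.mul_apply, Matrix.transpose_apply, Finset.sum_mul]
  rw [Finset.sum_comm]
  have := Qs_eq G n le_rfl k l
  unfold Qs at this
  rw [Ms_final] at this
  unfold Tq
  rw [this]
  by_cases hkl : k = l
  · rw [if_pos ⟨hkl, k.2⟩, hkl]; simp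
  · rw [if_neg (fun h => hkl h.1)]; simp [hkl]

/-- `B = -(Tᵀ T)`, the inverse of the intersection matrix -/
def Bq : Matrix (Fin n) (Fin n) ℚ := -((Tq G).transpose * Tq G)

lemma Bq_apply (i j : Fin n) : Bq G i j = -(G.mult i j : ℚ) := by
  unfold Bq Tq mult
  rw [Matrix.neg_apply, Matrix.mul_apply]
  push_cast
  rfl

lemma Bq_symm (i j : Fin n) : Bq G i j = Bq G j i := by
  rw [Bq_apply, Bq_apply]
  unfold mult
  congr 2
  apply Finset.sum_congr rfl
  intro k _
  ring

lemma mat_mul_Bq : G.mat * Bq G = 1 := by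
  have h := T_mat_Tt G
  have h1 : Tq G * (-(G.mat * (Tq G).transpose)) = 1 := by
    rw [Matrix.mul_neg, ← Matrix.mul_assoc, h, neg_neg]
  have h2 := mul_eq_one_comm.mp h1
  unfold Bq
  rw [Matrix.mul_neg, ← Matrix.mul_assoc, ← Matrix.neg_mul]
  exact h2

lemma Bq_mul_mat : Bq G * G.mat = 1 := mul_eq_one_comm.mp (mat_mul_Bq G)

lemma mat_symm (p q : Fin n) : G.mat p q = G.mat q p := by
  unfold mat
  by_cases hpq : p = q
  · subst hpq; rfl
  · rw [if_neg hpq, if_neg (Ne.symm hpq)]
    have : G.Adj p q ↔ G.Adj q p := by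
      unfold Adj
      exact or_comm
    by_cases hA : G.Adj p q
    · rw [if_pos hA, if_pos (this.mp hA)]
    · rw [if_neg hA, if_neg (fun h => hA (this.mpr h))]

lemma sub_det_ne_zero (I : Finset (Fin n)) :
    (G.mat.submatrix (fun x : I => x.1) (fun x : I => x.1)).det ≠ 0 := by
  classical
  intro hdet
  obtain ⟨v, hv0, hv⟩ := Matrix.exists_mulVec_eq_zero_iff.mpr hdet
  apply hv0
  -- extend v by zero
  set x : Fin n → ℚ := fun i => if h : i ∈ I then v ⟨i, h⟩ else 0 with hx
  set w : Fin n → ℚ := G.mat.mulVec x with hw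
  have hxI : ∀ a : I, x a.1 = v a := by
    intro a
    rw [hx]
    simp only
    rw [dif_pos a.2]
  have hxnI : ∀ i, i ∉ I → x i = 0 := by
    intro i hi
    rw [hx]
    simp only
    rw [dif_neg hi]
  have hwI : ∀ b : I, w b.1 = 0 := by
    intro b
    have h1 : w b.1 = ∑ j : Fin n, G.mat b.1 j * x j := rfl
    have h2 : ∑ j : Fin n, G.mat b.1 j * x j = ∑ j ∈ I, G.mat b.1 j * x j := by
      symm
      apply Finset.sum_subset (Finset.subset_univ _)
      intro j _ hj
      rw [hxnI j hj, mul_zero]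
    have h3 : ∑ j ∈ I, G.mat b.1 j * x j = ∑ a : I, G.mat b.1 a.1 * x a.1 :=
      (Finset.sum_coe_sort I (fun j => G.mat b.1 j * x j)).symm
    rw [h1, h2, h3]
    have h4 := congrFun hv b
    rw [Matrix.mulVec, dotProduct] at h4
    simp only [Matrix.submatrix_apply, Pi.zero_apply] at h4
    rw [← h4]
    apply Finset.sum_congr rfl
    intro a _
    rw [hxI]
  have hdot : x ⬝ᵥ w = 0 := by
    unfold dotProduct
    apply Finset.sum_eq_zero
    intro i _
    by_cases hi : i ∈ I
    · rw [hwI ⟨i, hi⟩, mul_zero]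
    · rw [hxnI i hi, zero_mul]
  have hxB : x = (Bq G).mulVec w := by
    rw [hw, Matrix.mulVec_mulVec, Bq_mul_mat, Matrix.one_mulVec]
  have hTw : (Tq G).mulVec w = 0 := by
    rw [← dotProduct_self_eq_zero]
    have : x ⬝ᵥ w = -((Tq G).mulVec w ⬝ᵥ (Tq G).mulVec w) := by
      rw [hxB]
      unfold Bq
      rw [Matrix.neg_mulVec, neg_dotProduct, ← Matrix.mulVec_mulVec, Matrix.mulVec_transpose,
        ← Matrix.dotProduct_mulVec]
    rw [hdot] at this
    linarith
  have hx0 : x = 0 := by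
    rw [hxB]
    unfold Bq
    rw [Matrix.neg_mulVec, ← Matrix.mulVec_mulVec, hTw, Matrix.mulVec_zero, neg_zero]
  funext a
  rw [← hxI a, hx0]
  rfl

lemma sum_notMem_split (I : Finset (Fin n)) (f : Fin n → ℚ) :
    ∑ j ∈ Finset.univ.filter (fun j => j ∉ I), f j = ∑ j : Fin n, f j - ∑ a : I, f a.1 := by
  classical
  have h1 := Finset.sum_filter_add_sum_filter_not Finset.univ (fun j : Fin n => j ∈ I) f
  have h2 : Finset.univ.filter (fun j : Fin n => j ∈ I) = I := by
    ext j; simp
  rw [h2, ← Finset.sum_coe_sort I f] at h1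
  linarith

lemma pairing_Bq (I : Finset (Fin n)) (i l : Fin n) (hl : l ∉ I) :
    ∑ j ∈ Finset.univ.filter (fun j => j ∉ I), G.pairing I i j * Bq G j l
      = if i = l then 1 else 0 := by
  classical
  set N := G.mat.submatrix (fun x : I => x.1) (fun x : I => x.1) with hN
  have hNinv : N⁻¹ * N = 1 :=
    Matrix.nonsing_inv_mul N (isUnit_iff_ne_zero.mpr (sub_det_ne_zero G I))
  set u : Fin n → ℚ := fun j => Bq G j l with hu
  set uI : I → ℚ := fun a => u a.1 with huI
  have F1 : ∀ r : Fin n, ∑ j : Fin n, G.mat r j * u j = if r = l then 1 else 0 := by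
    intro r
    have := congrFun (congrFun (mat_mul_Bq G) r) l
    rw [Matrix.mul_apply, Matrix.one_apply] at this
    exact this
  have F2 : ∀ r : Fin n, ∑ j ∈ Finset.univ.filter (fun j => j ∉ I), G.mat r j * u j
      = (if r = l then 1 else 0) - ∑ a : I, G.mat r a.1 * uI a := by
    intro r
    rw [sum_notMem_split I (fun j => G.mat r j * u j), F1]
  have F3 : ∀ b : I, ∑ j ∈ Finset.univ.filter (fun j => j ∉ I), G.mat b.1 j * u j
      = - (N.mulVec uI) b := by
    intro b
    rw [F2, if_neg (fun e : b.1 = l => hl (e ▸ b.2)), zero_sub]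
    rfl
  have F4 : ∑ j ∈ Finset.univ.filter (fun j => j ∉ I), G.pairing I i j * u j
      = ∑ j ∈ Finset.univ.filter (fun j => j ∉ I), G.mat i j * u j
        - ∑ a : I, ∑ b : I, G.mat i a.1 * N⁻¹ a b *
            ∑ j ∈ Finset.univ.filter (fun j => j ∉ I), G.mat b.1 j * u j := by
    unfold pairing
    simp only [sub_mul, Finset.sum_sub_distrib]
    congr 1
    simp only [Finset.sum_mul, Finset.mul_sum]
    rw [Finset.sum_comm]
    apply Finset.sum_congr rfl
    intro a _
    rw [Finset.sum_comm]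
    apply Finset.sum_congr rfl
    intro b _
    apply Finset.sum_congr rfl
    intro j _
    ring
  rw [F4, F2]
  have F5 : ∑ a : I, ∑ b : I, G.mat i a.1 * N⁻¹ a b *
            ∑ j ∈ Finset.univ.filter (fun j => j ∉ I), G.mat b.1 j * u j
      = - ∑ a : I, G.mat i a.1 * uI a := by
    rw [← Finset.sum_neg_distrib]
    apply Finset.sum_congr rfl
    intro a _
    have : uI a = (N⁻¹.mulVec (N.mulVec uI)) a := by
      rw [Matrix.mulVec_mulVec, hNinv, Matrix.one_mulVec]
    rw [this]
    conv_rhs => rw [Matrix.mulVec, dotProduct]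
    rw [Finset.mul_sum, ← Finset.sum_neg_distrib]
    apply Finset.sum_congr rfl
    intro b _
    rw [F3]
    ring
  rw [F5]
  ring

end


/-- Let Φ be the labelled dual graph of the exceptional curves of n successive blow-ups of closed points
starting from a regular surface with algebraically closed residue fields (vertices = exceptional
curves in order of creation, labels = intersection numbers), I any set of vertices (the curves
contracted to a normal surface) and σ a permutation of the vertices preserving all intersection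
numbers and the set I. Let e_{ij} be the multiplicity of E_i × E_j in the fibre square of the
composite blow-down (the sum over k of c^k_i c^k_j, c^k the total transform of the k-th exceptional
curve) and (E_i · E_j)_I Mumford's rational intersection number of the images after contracting I.
Then the sum over i, j outside I of e_{ij} (σ E_i · E_j)_I equals minus the number of σ-fixed
vertices outside I. (Stated for the dual graphs realized with all residue fields equal to the base
field, which is the case the published argument realizes geometrically.) -/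
theorem result (n : ℕ) (G : ArLef.BlowupGraph n) (I : Finset (Fin n))
    (σ : Equiv.Perm (Fin n)) (hσ : ∀ i j : Fin n, G.mat (σ i) (σ j) = G.mat i j)
    (hσI : ∀ i : Fin n, σ i ∈ I ↔ i ∈ I) :
    G.lNum I σ = ArLef.BlowupGraph.rNum I σ := by
  classical
  unfold lNum rNum
  have h1 : ∀ i ∈ Finset.univ.filter (fun i => i ∉ I),
      ∑ j ∈ Finset.univ.filter (fun j => j ∉ I), (G.mult i j : ℚ) * G.pairing I (σ i) j
        = - (if σ i = i then 1 else 0) := by
    intro i hi
    have hi' : i ∉ I := (Finset.mem_filter.mp hi).2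
    rw [← pairing_Bq G I (σ i) i hi', ← Finset.sum_neg_distrib]
    apply Finset.sum_congr rfl
    intro j _
    rw [Bq_symm, Bq_apply]
    ring
  rw [Finset.sum_congr rfl h1, Finset.sum_neg_distrib, Finset.sum_filter, neg_inj]
  rw [Finset.card_filter]
  push_cast
  apply Finset.sum_congr rfl
  intro i _
  by_cases hi : i ∈ I
  · simp [hi]
  · simp [hi]

end Groth.Agent.S15327
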