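import Groth.Statements.S15344
import Mathlib

set_option autoImplicit false
universe u
open CategoryTheory CategoryTheory.Limits AlgebraicGeometry
open Mor

namespace Groth.Agent.S15344


open IsLocalRing TensorProduct

/-- An epimorphic field extension is trivial. -/
lemma surjective_of_isEpi_field (k L : Type*) [Field k] [Field L] [Algebra k L]
    [Algebra.IsEpi k L] : Function.Surjective (algebraMap k L) := by
  obtain ⟨φ, hφ⟩ := LinearMap.exists_leftInverse_of_injective (Algebra.linearMap k L)
    (LinearMap.ker_eq_bot.mpr (algebraMap k L).injective)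
  have hφ1 : φ 1 = 1 := by
    have := LinearMap.congr_fun hφ 1
    simpa using this
  intro a
  refine ⟨φ a, ?_⟩
  have h := (Algebra.isEpi_iff_forall_one_tmul_eq k L).mp inferInstance a
  have h2 := congr((TensorProduct.lid k L) (LinearMap.rTensor L φ $h))
  simp only [LinearMap.rTensor_tmul, TensorProduct.lid_tmul, hφ1, one_smul] at h2
  rw [Algebra.algebraMap_eq_smul_one]; exact h2.symm

lemma epi_residueFieldMap_of_mono {X Y : Scheme.{u}} (f : Y ⟶ X) [Mono f] (y : Y) :
    Epi (f.residueFieldMap y) := by
  refine ⟨fun {C} a b hab => ?_⟩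
  apply Spec.map_injective
  rw [← cancel_mono (Y.fromSpecResidueField y), ← cancel_mono f]
  simp only [Category.assoc, ← Scheme.Hom.SpecMap_residueFieldMap_fromSpecResidueField,
    ← Spec.map_comp_assoc, hab]

lemma isIso_residueFieldMap_of_mono {X Y : Scheme.{u}} (f : Y ⟶ X) [Mono f] (y : Y) :
    IsIso (f.residueFieldMap y) := by
  have hepi := epi_residueFieldMap_of_mono f y
  algebraize [(f.residueFieldMap y).hom]
  have : Algebra.IsEpi (X.residueField (f y)) (Y.residueField y) :=
    CommRingCat.epi_iff_epi.mp hepi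
  have hsurj := surjective_of_isEpi_field (X.residueField (f y)) (Y.residueField y)
  have hbij : Function.Bijective (f.residueFieldMap y).hom :=
    ⟨(f.residueFieldMap y).hom.injective, hsurj⟩
  exact (ConcreteCategory.isIso_iff_bijective (f.residueFieldMap y)).mpr hbij


set_option backward.isDefEq.respectTransparency false in
/-- The core of Mathlib's `ValuativeCriterion.Existence.of_specializingMap`, for a single square and
a single specialization. -/
lemma hasLift_of_specialization {X Y : Scheme.{u}} (f : X ⟶ Y)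
    (R K : Type u) [CommRing R] [IsDomain R] [ValuationRing R] [Field K] [Algebra R K]
    [IsFractionRing R K] (i₁ : Spec (.of K) ⟶ X) (i₂ : Spec (.of R) ⟶ Y)
    (w : i₁ ≫ f = Spec.map (CommRingCat.ofHom (algebraMap R K)) ≫ i₂)
    (x : ↥(pullback i₂ f))
    (h₁ : (pullback.lift (Spec.map (CommRingCat.ofHom (algebraMap R K))) i₁
      w.symm) (closedPoint (CommRingCat.of K)) ⤳ x)
    (h₂ : pullback.fst i₂ f x = closedPoint (CommRingCat.of R)) :
    (CommSq.mk w : CommSq i₁ (Spec.map (CommRingCat.ofHom (algebraMap R K))) f i₂).HasLift := by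
  have : IsDomain (CommRingCat.of R) := ‹_›
  have : ValuationRing (CommRingCat.of R) := ‹_›
  let : Field (CommRingCat.of K) := ‹_›
  let lft := pullback.lift (Spec.map (CommRingCat.ofHom (algebraMap R K))) i₁ w.symm
  change lft (closedPoint _) ⤳ x at h₁
  let e : CommRingCat.of R ≅ (Spec <| .of R).presheaf.stalk (pullback.fst i₂ f x) :=
    (stalkClosedPointIso (.of R)).symm ≪≫
      (Spec <| .of R).presheaf.stalkCongr (.of_eq h₂.symm)
  let α := e.hom ≫ (pullback.fst i₂ f).stalkMap x
  have : IsLocalHom e.hom.hom := isLocalHom_of_isIso e.hom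
  have : IsLocalHom α.hom := inferInstanceAs
    (IsLocalHom (((pullback.fst i₂ f).stalkMap x).hom.comp e.hom.hom))
  let β := (pullback i₂ f).presheaf.stalkSpecializes h₁ ≫ Scheme.stalkClosedPointTo lft
  have hαβ : α ≫ β = CommRingCat.ofHom (algebraMap R K) := by
    simp only [CommRingCat.coe_of, Iso.trans_hom, Iso.symm_hom, TopCat.Presheaf.stalkCongr_hom,
      Category.assoc, α, e, β, stalkClosedPointIso_inv, StructureSheaf.toStalk]
    change (Scheme.ΓSpecIso (.of R)).inv ≫ (Spec <| .of R).presheaf.germ _ _ _ ≫ _ = _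
    simp only [TopCat.Presheaf.germ_stalkSpecializes_assoc, Scheme.Hom.germ_stalkMap_assoc]
    simp only [TopologicalSpace.Opens.map_top]
    rw [Scheme.germ_stalkClosedPointTo lft ⊤ trivial]
    erw [← Scheme.Hom.comp_app_assoc lft (pullback.fst i₂ f)]
    rw [pullback.lift_fst]
    simp
  have hbij := (bijective_rangeRestrict_comp_of_valuationRing (R := R) (K := K) α.hom β.hom
    (CommRingCat.hom_ext_iff.mp hαβ))
  let φ : (pullback i₂ f).presheaf.stalk x ⟶ CommRingCat.of R := CommRingCat.ofHom <|
    (RingEquiv.ofBijective _ hbij).symm.toRingHom.comp β.hom.rangeRestrict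
  have hαφ : α ≫ φ = 𝟙 _ := by ext x; exact (RingEquiv.ofBijective _ hbij).symm_apply_apply x
  have hαφ' : (pullback.fst i₂ f).stalkMap x ≫ φ = e.inv := by
    rw [← cancel_epi e.hom, ← Category.assoc, hαφ, e.hom_inv_id]
  have hφβ : φ ≫ CommRingCat.ofHom (algebraMap R K) = β :=
    hαβ ▸ CommRingCat.hom_ext (RingHom.ext fun x ↦ congr_arg Subtype.val
      ((RingEquiv.ofBijective _ hbij).apply_symm_apply (β.hom.rangeRestrict x)))
  refine ⟨⟨⟨Spec.map ((pullback.snd i₂ f).stalkMap x ≫ φ) ≫ X.fromSpecStalk _, ?_, ?_⟩⟩⟩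
  · simp only [← Spec.map_comp_assoc, Category.assoc, hφβ]
    simp only [Spec.map_comp, Category.assoc, Scheme.SpecMap_stalkMap_fromSpecStalk,
      Scheme.SpecMap_stalkSpecializes_fromSpecStalk_assoc, β]
    rw [Scheme.Spec_stalkClosedPointTo_fromSpecStalk_assoc]
    simp [lft]
  · simp only [Spec.map_comp, Category.assoc, Scheme.SpecMap_stalkMap_fromSpecStalk,
      ← pullback.condition]
    rw [← Scheme.SpecMap_stalkMap_fromSpecStalk_assoc, ← Spec.map_comp_assoc, hαφ']
    simp only [Iso.trans_inv, TopCat.Presheaf.stalkCongr_inv, Iso.symm_inv, Spec.map_comp,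
      Category.assoc, Scheme.SpecMap_stalkSpecializes_fromSpecStalk_assoc, e]
    rw [← Spec_stalkClosedPointIso, ← Spec.map_comp_assoc,
      Iso.inv_hom_id, Spec.map_id, Category.id_comp]


set_option backward.isDefEq.respectTransparency.types false in


/-- Let f : Y ⟶ X be a monomorphism of schemes, X quasi-separated. Then the projection Y ×_X X' ⟶ X'
reflects specializations (if the image of y₁ specializes to the image of y₀ then y₁ specializes to
y₀) after every base change X' ⟶ X if and only if, for every valuation ring A with fraction field K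
and every commutative square Spec K ⟶ Y, Spec A ⟶ X over f such that, in addition, some morphism
from the spectrum of the residue field of A to Y lies over Spec A ⟶ X, the square admits a lift Spec
A ⟶ Y. -/
theorem result {X Y : Scheme.{u}} [QuasiSeparatedSpace ↥X]
    (f : Y ⟶ X) [Mono f] :
    (∀ (X' : Scheme.{u}) (g : X' ⟶ X) (y₀ y₁ : ↥(pullback f g)),
        (pullback.snd f g).base y₁ ⤳ (pullback.snd f g).base y₀ → y₁ ⤳ y₀) ↔
      ∀ S : ValuativeCommSq f,
        (∃ l₀ : Spec (CommRingCat.of (IsLocalRing.ResidueField S.R)) ⟶ Y,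
            l₀ ≫ f = Spec.map (CommRingCat.ofHom (IsLocalRing.residue S.R)) ≫ S.i₂) →
          S.commSq.HasLift := by
  constructor
  · rintro H ⟨R, K, i₁, i₂, ⟨w⟩⟩ ⟨l₀, hl₀⟩
    dsimp only at hl₀ ⊢
    let lft := pullback.lift (Spec.map (CommRingCat.ofHom (algebraMap R K))) i₁ w.symm
    let lft₀ := pullback.lift (Spec.map (CommRingCat.ofHom (IsLocalRing.residue R))) l₀ hl₀.symm
    let e := pullbackSymmetry f i₂
    have he : e.inv ≫ pullback.snd f i₂ = pullback.fst i₂ f := pullbackSymmetry_inv_comp_snd _ _
    have he' : ∀ y, pullback.snd f i₂ (e.inv y) = pullback.fst i₂ f y := fun y => by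
      rw [← Scheme.Hom.comp_apply, he]
    have h0 : pullback.fst i₂ f (lft₀ (closedPoint (CommRingCat.of (IsLocalRing.ResidueField R)))) =
        closedPoint (CommRingCat.of R) := by
      rw [← Scheme.Hom.comp_apply, pullback.lift_fst]
      exact comap_closedPoint (IsLocalRing.residue R)
    have hsp : e.inv (lft (closedPoint (CommRingCat.of K))) ⤳
        e.inv (lft₀ (closedPoint (CommRingCat.of (IsLocalRing.ResidueField R)))) := by
      apply H (Spec (.of R)) i₂
      change pullback.snd f i₂ (e.inv _) ⤳ pullback.snd f i₂ (e.inv _)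
      rw [he', he', h0]
      exact specializes_closedPoint (R := R) _
    have hsp' : lft (closedPoint (CommRingCat.of K)) ⤳
        lft₀ (closedPoint (CommRingCat.of (IsLocalRing.ResidueField R))) := by
      have := hsp.map e.hom.continuous
      simpa only [← Scheme.Hom.comp_apply, Category.assoc, Iso.inv_hom_id, Category.comp_id] using this
    exact hasLift_of_specialization f R K i₁ i₂ w _ hsp' h0
  · intro H X' g y₀ y₁ hsp
    let p := pullback.snd f g
    let ψ : X'.presheaf.stalk (p y₀) ⟶ (pullback f g).residueField y₁ :=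
      X'.presheaf.stalkSpecializes hsp ≫ p.stalkMap y₁ ≫ (pullback f g).residue y₁
    obtain ⟨A, hA, hA_local⟩ := exists_factor_valuationRing ψ.hom
    let ψA : X'.presheaf.stalk (p y₀) ⟶ .of A := CommRingCat.ofHom (ψ.hom.codRestrict _ hA)
    have w : (pullback f g).fromSpecResidueField y₁ ≫ p =
        Spec.map (CommRingCat.ofHom (algebraMap A ((pullback f g).residueField y₁))) ≫
          Spec.map ψA ≫ X'.fromSpecStalk (p y₀) := by
      rw [Scheme.fromSpecResidueField, Category.assoc, ← Scheme.SpecMap_stalkMap_fromSpecStalk,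
        ← Scheme.SpecMap_stalkSpecializes_fromSpecStalk hsp]
      simp_rw [← Spec.map_comp_assoc]
      rfl
    let K := (pullback f g).residueField y₁
    let i₁ : Spec (.of K) ⟶ Y := (pullback f g).fromSpecResidueField y₁ ≫ pullback.fst f g
    let i₂ : Spec (.of A) ⟶ X := Spec.map ψA ≫ X'.fromSpecStalk (p y₀) ≫ g
    have w' : i₁ ≫ f = Spec.map (CommRingCat.ofHom (algebraMap A K)) ≫ i₂ := by
      simp only [i₁, i₂, Category.assoc, pullback.condition]
      rw [reassoc_of% w]
    have hiso : IsIso (p.residueFieldMap y₀) := isIso_residueFieldMap_of_mono p y₀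
    let κmap : X'.residueField (p y₀) ⟶ CommRingCat.of (IsLocalRing.ResidueField A) :=
      CommRingCat.ofHom (IsLocalRing.ResidueField.map (ψ.hom.codRestrict A.toSubring hA))
    have hκ : X'.residue (p y₀) ≫ κmap = ψA ≫ CommRingCat.ofHom (IsLocalRing.residue A) := by
      ext a
      rfl
    let l₀ : Spec (CommRingCat.of (IsLocalRing.ResidueField A)) ⟶ Y :=
      Spec.map κmap ≫ Spec.map (inv (p.residueFieldMap y₀)) ≫
        (pullback f g).fromSpecResidueField y₀ ≫ pullback.fst f g
    have hl₀ : l₀ ≫ f = Spec.map (CommRingCat.ofHom (IsLocalRing.residue A)) ≫ i₂ := by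
      simp only [l₀, i₂, Category.assoc, pullback.condition]
      rw [← Scheme.Hom.SpecMap_residueFieldMap_fromSpecResidueField_assoc, ← Spec.map_comp_assoc,
        ← Spec.map_comp_assoc, ← Spec.map_comp_assoc, IsIso.hom_inv_id_assoc,
        Scheme.fromSpecResidueField, Category.assoc, ← Spec.map_comp_assoc, hκ]
    obtain ⟨⟨l, hl₁, hl₂⟩⟩ := (H ⟨A, K, i₁, i₂, ⟨w'⟩⟩ ⟨l₀, hl₀⟩).exists_lift
    dsimp only at hl₁ hl₂
    let l' : Spec (.of A) ⟶ pullback f g :=
      pullback.lift l (Spec.map ψA ≫ X'.fromSpecStalk (p y₀)) (by rw [hl₂, Category.assoc])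
    have h1 : Spec.map (CommRingCat.ofHom (algebraMap A K)) ≫ l' =
        (pullback f g).fromSpecResidueField y₁ := by
      apply pullback.hom_ext
      · rw [Category.assoc, pullback.lift_fst, hl₁]
      · rw [Category.assoc, pullback.lift_snd, w]
    have hy₁ : l' (Spec.map (CommRingCat.ofHom (algebraMap A K)) (closedPoint K)) = y₁ := by
      rw [← Scheme.Hom.comp_apply, h1, Scheme.fromSpecResidueField_apply]
    have hy₀ : l' (closedPoint A) = y₀ := by
      apply p.injective
      rw [← Scheme.Hom.comp_apply, pullback.lift_snd, Scheme.Hom.comp_apply]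
      have : Spec.map ψA (closedPoint A) = closedPoint (X'.presheaf.stalk (p y₀)) :=
        comap_closedPoint (S := A) (ψ.hom.codRestrict A.toSubring hA)
      rw [this, X'.fromSpecStalk_closedPoint]
    rw [← hy₁, ← hy₀]
    exact (specializes_closedPoint _).map l'.continuous

end Groth.Agent.S15344
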