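import Groth.Statements.S15345
import Mathlib

set_option autoImplicit false
universe u
open CategoryTheory CategoryTheory.Limits AlgebraicGeometry
open Mor

namespace Groth.Agent.S15345


open TensorProduct

/-- Every element of `B ⊗[R] C` comes from `B ⊗[R] C₀` for a finitely generated subalgebra `C₀`. -/
lemma exists_fg_subalgebra_tmul (R B C : Type u) [CommRing R] [CommRing B] [CommRing C]
    [Algebra R B] [Algebra R C] (t : B ⊗[R] C) :
    ∃ (C₀ : Subalgebra R C), C₀.FG ∧ ∃ t₀ : B ⊗[R] C₀,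
      Algebra.TensorProduct.map (AlgHom.id R B) C₀.val t₀ = t := by
  induction t using TensorProduct.induction_on with
  | zero => exact ⟨⊥, Subalgebra.fg_bot, 0, map_zero _⟩
  | tmul b c =>
    refine ⟨Algebra.adjoin R {c}, ?_,
      b ⊗ₜ ⟨c, Algebra.subset_adjoin (Set.mem_singleton c)⟩, ?_⟩
    · have := Subalgebra.fg_adjoin_finset (R := R) ({c} : Finset C)
      simpa using this
    · simp
  | add x y hx hy =>
    obtain ⟨C₁, h₁, t₁, rfl⟩ := hx
    obtain ⟨C₂, h₂, t₂, rfl⟩ := hy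
    refine ⟨C₁ ⊔ C₂, h₁.sup h₂,
      Algebra.TensorProduct.map (AlgHom.id R B) (Subalgebra.inclusion le_sup_left) t₁ +
      Algebra.TensorProduct.map (AlgHom.id R B) (Subalgebra.inclusion le_sup_right) t₂, ?_⟩
    rw [map_add]
    congr 1
    · rw [← AlgHom.comp_apply, ← Algebra.TensorProduct.map_comp]
      rfl
    · rw [← AlgHom.comp_apply, ← Algebra.TensorProduct.map_comp]
      rfl


open Algebra.TensorProduct in
set_option maxHeartbeats 800000 in
lemma mem_of_specializes {X Y : Scheme.{u}} (f : Y ⟶ X)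
    (h : ∀ (X' : Scheme.{u}) (g : X' ⟶ X) [LocallyOfFiniteType g] (y₀ y₁ : ↥(pullback f g)),
      (pullback.snd f g).base y₁ ⤳ (pullback.snd f g).base y₀ → y₁ ⤳ y₀)
    (R B C : Type u) [CommRing R] [CommRing B] [CommRing C] [Algebra R B] [Algebra R C]
    (uu : Spec (.of R) ⟶ X) [IsOpenImmersion uu] (a : Spec (.of B) ⟶ Y) [IsOpenImmersion a]
    (hau : a ≫ f = Spec.map (CommRingCat.ofHom (algebraMap R B)) ≫ uu)
    (g' : Spec (.of C) ⟶ X) (hg' : Spec.map (CommRingCat.ofHom (algebraMap R C)) ≫ uu = g')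
    (y₀ y₁ : ↥(pullback f g'))
    (hy₀ : pullback.fst f _ y₀ ∈ Set.range a)
    (hsp : pullback.snd f _ y₁ ⤳ pullback.snd f _ y₀)
    (N : Set ↥(pullback f g'))
    (hN : IsOpen N) (hy₀N : y₀ ∈ N) : y₁ ∈ N := by
  let ιT : pullback (Spec.map (CommRingCat.ofHom (algebraMap R B)))
      (Spec.map (CommRingCat.ofHom (algebraMap R C))) ⟶ pullback f g' :=
    pullback.map _ _ _ _ a (𝟙 _) uu hau.symm (by rw [Category.id_comp, hg'])
  have hrange : Set.range ιT = pullback.fst f g' ⁻¹' Set.range a := by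
    rw [Scheme.Pullback.range_map]
    simp
  obtain ⟨z₀, hz₀⟩ : y₀ ∈ Set.range ιT := by rw [hrange]; exact hy₀
  let e := pullbackSpecIso R B C
  let M : Set (PrimeSpectrum (B ⊗[R] C)) := (e.inv ≫ ιT) ⁻¹' N
  have hM : IsOpen M := hN.preimage (e.inv ≫ ιT).continuous
  have hz₀M : e.hom z₀ ∈ M := by
    change (e.inv ≫ ιT) (e.hom z₀) ∈ N
    rw [← Scheme.Hom.comp_apply, Iso.hom_inv_id_assoc, hz₀]
    exact hy₀N
  obtain ⟨_, ⟨t, rfl⟩, ht₀, htM⟩ :=
    PrimeSpectrum.isTopologicalBasis_basic_opens.exists_subset_of_mem_open hz₀M hM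
  obtain ⟨C₀, hC₀, t₀, ht₀'⟩ := exists_fg_subalgebra_tmul R B C t
  have hft : Algebra.FiniteType R C₀ := (Subalgebra.fg_iff_finiteType C₀).mp hC₀
  have : LocallyOfFiniteType (Spec.map (CommRingCat.ofHom (algebraMap R C₀))) := by
    rw [HasRingHomProperty.Spec_iff (P := @LocallyOfFiniteType)]
    exact (RingHom.finiteType_algebraMap (A := R) (B := C₀)).mpr hft
  obtain ⟨g₀, hg₀⟩ : ∃ g₀ : Spec (.of C₀) ⟶ X,
    Spec.map (CommRingCat.ofHom (algebraMap R C₀)) ≫ uu = g₀ := ⟨_, rfl⟩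
  have : LocallyOfFiniteType g₀ := by rw [← hg₀]; infer_instance
  have hval : Spec.map (CommRingCat.ofHom C₀.val.toRingHom) ≫
      Spec.map (CommRingCat.ofHom (algebraMap R C₀)) =
      Spec.map (CommRingCat.ofHom (algebraMap R C)) := by
    rw [← Spec.map_comp]; rfl
  let q : pullback f g' ⟶ pullback f g₀ :=
    pullback.map f g' f g₀ (𝟙 _) (Spec.map (CommRingCat.ofHom C₀.val.toRingHom)) (𝟙 _)
      (by simp) (by rw [Category.comp_id, ← hg₀, ← hg', reassoc_of% hval])
  have hq : q y₁ ⤳ q y₀ := by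
    apply h _ g₀
    have : ∀ y, (pullback.snd f g₀).base (q y) =
        Spec.map (CommRingCat.ofHom C₀.val.toRingHom) (pullback.snd f g' y) := fun y => by
      change (pullback.snd f g₀) (q y) = _
      rw [← Scheme.Hom.comp_apply, ← Scheme.Hom.comp_apply]
      rw [pullback.lift_snd]
    rw [this, this]
    exact hsp.map (Spec.map _).continuous
  let ιT₀ : pullback (Spec.map (CommRingCat.ofHom (algebraMap R B)))
      (Spec.map (CommRingCat.ofHom (algebraMap R C₀))) ⟶ pullback f g₀ :=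
    pullback.map _ _ _ _ a (𝟙 _) uu hau.symm (by rw [Category.id_comp, hg₀])
  have hrange₀ : Set.range ιT₀ = pullback.fst f g₀ ⁻¹' Set.range a := by
    rw [Scheme.Pullback.range_map]
    simp
  let e₀ := pullbackSpecIso R B C₀
  let r : pullback (Spec.map (CommRingCat.ofHom (algebraMap R B)))
      (Spec.map (CommRingCat.ofHom (algebraMap R C))) ⟶
      pullback (Spec.map (CommRingCat.ofHom (algebraMap R B)))
      (Spec.map (CommRingCat.ofHom (algebraMap R C₀))) :=
    pullback.map _ _ _ _ (𝟙 _) (Spec.map (CommRingCat.ofHom C₀.val.toRingHom)) (𝟙 _)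
      (by simp) (by rw [Category.comp_id, hval])
  have comm : ιT ≫ q = r ≫ ιT₀ := by
    apply pullback.hom_ext
    · simp only [ιT, q, r, ιT₀, Category.assoc]
      rw [pullback.lift_fst, pullback.lift_fst_assoc, pullback.lift_fst, pullback.lift_fst_assoc,
        Category.comp_id, Category.comp_id]
    · simp only [ιT, q, r, ιT₀, Category.assoc]
      rw [pullback.lift_snd, pullback.lift_snd_assoc, pullback.lift_snd, pullback.lift_snd_assoc]
      simp
  let τ : CommRingCat.of (B ⊗[R] C₀) ⟶ CommRingCat.of (B ⊗[R] C) :=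
    CommRingCat.ofHom (Algebra.TensorProduct.map (AlgHom.id R B) C₀.val).toRingHom
  have comm2 : e.inv ≫ r = Spec.map τ ≫ e₀.inv := by
    apply pullback.hom_ext
    · simp only [r, e, e₀, Category.assoc, pullback.lift_fst, pullbackSpecIso_inv_fst_assoc,
        pullbackSpecIso_inv_fst, Category.comp_id, ← Spec.map_comp]
      congr 1
    · simp only [r, e, e₀, Category.assoc, pullback.lift_snd, pullbackSpecIso_inv_snd_assoc,
        pullbackSpecIso_inv_snd, ← Spec.map_comp]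
      congr 1
  -- key computation on points
  have hpt : ∀ z, e₀.hom (r z) = Spec.map τ (e.hom z) := fun z => by
    have h1 : (e.hom ≫ e.inv ≫ r ≫ e₀.hom) z = (e.hom ≫ Spec.map τ ≫ e₀.inv ≫ e₀.hom) z := by
      rw [reassoc_of% comm2]
    rw [Iso.hom_inv_id_assoc, Iso.inv_hom_id, Category.comp_id] at h1
    exact h1
  have hbasic : ∀ z, e₀.hom (r z) ∈ (PrimeSpectrum.basicOpen t₀ : Set (PrimeSpectrum (B ⊗[R] C₀))) ↔
      e.hom z ∈ (PrimeSpectrum.basicOpen t : Set (PrimeSpectrum (B ⊗[R] C))) := fun z => by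
    rw [hpt, ← ht₀']
    rfl
  let N₀ : Set ↥(pullback f g₀) := ιT₀ '' (e₀.hom ⁻¹' (PrimeSpectrum.basicOpen t₀ : Set (PrimeSpectrum (B ⊗[R] C₀))))
  have hN₀ : IsOpen N₀ := ιT₀.isOpenEmbedding.isOpenMap _
    ((PrimeSpectrum.basicOpen t₀).isOpen.preimage e₀.hom.continuous)
  have hcomm_pt : ∀ z, q (ιT z) = ιT₀ (r z) := fun z => by
    rw [← Scheme.Hom.comp_apply, comm, Scheme.Hom.comp_apply]
  have h0 : q y₀ ∈ N₀ := by
    rw [← hz₀, hcomm_pt]
    exact ⟨r z₀, (hbasic z₀).mpr ht₀, rfl⟩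
  obtain ⟨z', hz', hz'q⟩ := hq.mem_open hN₀ h0
  have hfst : pullback.fst f g' y₁ ∈ Set.range a := by
    have h1 : pullback.fst f g' y₁ = pullback.fst f g₀ (q y₁) := by
      rw [← Scheme.Hom.comp_apply]
      simp only [q]
      rw [pullback.lift_fst, Category.comp_id]
    rw [h1, ← hz'q, ← Scheme.Hom.comp_apply]
    simp only [ιT₀]
    rw [pullback.lift_fst, Scheme.Hom.comp_apply]
    exact ⟨_, rfl⟩
  obtain ⟨z₁, hz₁⟩ : y₁ ∈ Set.range ιT := by rw [hrange]; exact hfst
  have hrz₁ : r z₁ = z' := by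
    apply ιT₀.isOpenEmbedding.injective
    rw [← hcomm_pt, hz₁, hz'q]
  have hz₁t : e.hom z₁ ∈ (PrimeSpectrum.basicOpen t : Set (PrimeSpectrum (B ⊗[R] C))) := by
    rw [← hbasic, hrz₁]
    exact hz'
  have := htM hz₁t
  change (e.inv ≫ ιT) (e.hom z₁) ∈ N at this
  rwa [← Scheme.Hom.comp_apply, Iso.hom_inv_id_assoc, hz₁] at this




/-- Let f : Y ⟶ X be a morphism of schemes, X quasi-separated. If for every morphism X' ⟶ X locally of
finite type the projection Y ×_X X' ⟶ X' reflects specializations (the image of y₁ specializing to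
the image of y₀ forces y₁ to specialize to y₀), then the same holds for every morphism X' ⟶ X. (The
published statement assumes moreover that f is a monomorphism; this row does not.) -/
theorem result {X Y : Scheme.{u}} [QuasiSeparatedSpace ↥X]
    (f : Y ⟶ X)
    (h : ∀ (X' : Scheme.{u}) (g : X' ⟶ X) [LocallyOfFiniteType g] (y₀ y₁ : ↥(pullback f g)),
      (pullback.snd f g).base y₁ ⤳ (pullback.snd f g).base y₀ → y₁ ⤳ y₀) :
    ∀ (X' : Scheme.{u}) (g : X' ⟶ X) (y₀ y₁ : ↥(pullback f g)),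
        (pullback.snd f g).base y₁ ⤳ (pullback.snd f g).base y₀ → y₁ ⤳ y₀ := by
  intro X' g y₀ y₁ hsp
  change pullback.snd f g y₁ ⤳ pullback.snd f g y₀ at hsp
  rw [specializes_iff_forall_open]
  intro N hN hy₀N
  obtain ⟨U, hU, hx₀U, -⟩ := exists_isAffineOpen_mem_and_subset
    (x := g (pullback.snd f g y₀)) (U := ⊤) trivial
  obtain ⟨W, hW, hx₀W, hWU⟩ := exists_isAffineOpen_mem_and_subset
    (x := pullback.snd f g y₀) (U := g ⁻¹ᵁ U) hx₀U
  have hf : f (pullback.fst f g y₀) ∈ U := by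
    rw [← Scheme.Hom.comp_apply, pullback.condition]; exact hx₀U
  obtain ⟨V, hV, hy₀V, hVU⟩ := exists_isAffineOpen_mem_and_subset
    (x := pullback.fst f g y₀) (U := f ⁻¹ᵁ U) hf
  letI : Algebra Γ(X, U) Γ(Y, V) := (f.appLE U V hVU).hom.toAlgebra
  letI : Algebra Γ(X, U) Γ(X', W) := (g.appLE U W hWU).hom.toAlgebra
  have hau : hV.fromSpec ≫ f = Spec.map (CommRingCat.ofHom (algebraMap Γ(X, U) Γ(Y, V))) ≫
      hU.fromSpec := (hU.SpecMap_appLE_fromSpec f hV hVU).symm
  have hg' : Spec.map (CommRingCat.ofHom (algebraMap Γ(X, U) Γ(X', W))) ≫ hU.fromSpec =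
      hW.fromSpec ≫ g := hU.SpecMap_appLE_fromSpec g hW hWU
  let j : pullback f (hW.fromSpec ≫ g) ⟶ pullback f g :=
    pullback.map f (hW.fromSpec ≫ g) f g (𝟙 _) hW.fromSpec (𝟙 _) (by simp) (by simp)
  have hjr : Set.range j = pullback.snd f g ⁻¹' W := by
    rw [Scheme.Pullback.range_map]
    simp [hW.range_fromSpec]
  have hy₁W : pullback.snd f g y₁ ∈ W := hsp.mem_open W.isOpen hx₀W
  obtain ⟨y₀', hy₀'⟩ : y₀ ∈ Set.range j := by rw [hjr]; exact hx₀W
  obtain ⟨y₁', hy₁'⟩ : y₁ ∈ Set.range j := by rw [hjr]; exact hy₁W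
  have hsnd : ∀ y', hW.fromSpec (pullback.snd f (hW.fromSpec ≫ g) y') = pullback.snd f g (j y') := by
    intro y'
    rw [← Scheme.Hom.comp_apply, ← Scheme.Hom.comp_apply]
    simp only [j]
    rw [pullback.lift_snd]
  have hfst : ∀ y', pullback.fst f (hW.fromSpec ≫ g) y' = pullback.fst f g (j y') := by
    intro y'
    rw [← Scheme.Hom.comp_apply]
    simp only [j]
    rw [pullback.lift_fst, Category.comp_id]
  have hsp' : pullback.snd f (hW.fromSpec ≫ g) y₁' ⤳ pullback.snd f (hW.fromSpec ≫ g) y₀' := by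
    rw [← hW.fromSpec.isOpenEmbedding.isInducing.specializes_iff, hsnd, hsnd, hy₀', hy₁']
    exact hsp
  have := mem_of_specializes f h Γ(X, U) Γ(Y, V) Γ(X', W) hU.fromSpec hV.fromSpec hau
    (hW.fromSpec ≫ g) hg' y₀' y₁' (by rw [hfst, hy₀', hV.range_fromSpec]; exact hy₀V) hsp'
    (j ⁻¹' N) (hN.preimage j.continuous) (by change j y₀' ∈ N; rw [hy₀']; exact hy₀N)
  rw [← hy₁']
  exact this

end Groth.Agent.S15345
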