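import Groth.Statements.S15346
import Mathlib
import Groth.Agent.S15344
import Groth.Agent.S15345
import Groth.Agent.Lib.Helper4DVRSch

set_option autoImplicit false
universe u
open CategoryTheory CategoryTheory.Limits AlgebraicGeometry
open Mor

namespace Groth.Agent.S15346


open IsLocalRing Groth.Agent.S15344

set_option backward.isDefEq.respectTransparency.types false in
set_option maxHeartbeats 800000 in
/-- The locally-of-finite-type case. -/
lemma specializes_of_lft {X Y : Scheme.{u}} [IsLocallyNoetherian X]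
    (f : Y ⟶ X) [Mono f]
    (H : ∀ S : ValuativeCommSq f, IsDiscreteValuationRing S.R →
        (∃ l₀ : Spec (CommRingCat.of (IsLocalRing.ResidueField S.R)) ⟶ Y,
            l₀ ≫ f = Spec.map (CommRingCat.ofHom (IsLocalRing.residue S.R)) ≫ S.i₂) →
          S.commSq.HasLift)
    (X' : Scheme.{u}) (g : X' ⟶ X) [LocallyOfFiniteType g] (y₀ y₁ : ↥(pullback f g))
    (hsp : (pullback.snd f g).base y₁ ⤳ (pullback.snd f g).base y₀) : y₁ ⤳ y₀ := by
  have : IsLocallyNoetherian X' := LocallyOfFiniteType.isLocallyNoetherian g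
  let p := pullback.snd f g
  change p y₁ ⤳ p y₀ at hsp
  by_cases hne : p y₁ = p y₀
  · rw [p.injective hne]
  have hiso₁ : IsIso (p.residueFieldMap y₁) := isIso_residueFieldMap_of_mono p y₁
  have hφ : (p.residueFieldMap y₁).hom.EssFiniteType :=
    (RingHom.FiniteType.of_surjective _
      ((ConcreteCategory.isIso_iff_bijective (p.residueFieldMap y₁)).mp hiso₁).2).essFiniteType
  obtain ⟨A, hA, ψA, hψloc, hψ⟩ := Groth.Agent.Lib.Helper4.DVRSch.exists_dvr_stalk hsp hne
    (L := (pullback f g).residueField y₁) (p.residueFieldMap y₁) hφ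
  let K := (pullback f g).residueField y₁
  have w : (pullback f g).fromSpecResidueField y₁ ≫ p =
      Spec.map (CommRingCat.ofHom (algebraMap A K)) ≫
        Spec.map ψA ≫ X'.fromSpecStalk (p y₀) := by
    rw [← Spec.map_comp_assoc]
    have : ψA ≫ CommRingCat.ofHom (algebraMap A K) = ψA ≫ CommRingCat.ofHom A.subtype := rfl
    rw [this, hψ]
    simp only [Spec.map_comp, Category.assoc, Scheme.SpecMap_stalkSpecializes_fromSpecStalk]
    rw [← Scheme.Hom.SpecMap_residueFieldMap_fromSpecResidueField, Scheme.fromSpecResidueField]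
  let i₁ : Spec (.of K) ⟶ Y := (pullback f g).fromSpecResidueField y₁ ≫ pullback.fst f g
  let i₂ : Spec (.of A) ⟶ X := Spec.map ψA ≫ X'.fromSpecStalk (p y₀) ≫ g
  have w' : i₁ ≫ f = Spec.map (CommRingCat.ofHom (algebraMap A K)) ≫ i₂ := by
    simp only [i₁, i₂, Category.assoc, pullback.condition]
    rw [reassoc_of% w]
  have hiso : IsIso (p.residueFieldMap y₀) := isIso_residueFieldMap_of_mono p y₀
  let κmap : X'.residueField (p y₀) ⟶ CommRingCat.of (IsLocalRing.ResidueField A) :=
    CommRingCat.ofHom (IsLocalRing.ResidueField.map ψA.hom)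
  have hκ : X'.residue (p y₀) ≫ κmap = ψA ≫ CommRingCat.ofHom (IsLocalRing.residue A) := by
    ext a
    rfl
  let l₀ : Spec (CommRingCat.of (IsLocalRing.ResidueField A)) ⟶ Y :=
    Spec.map κmap ≫ Spec.map (inv (p.residueFieldMap y₀)) ≫
      (pullback f g).fromSpecResidueField y₀ ≫ pullback.fst f g
  have hl₀ : l₀ ≫ f = Spec.map (CommRingCat.ofHom (IsLocalRing.residue A)) ≫ i₂ := by
    simp only [l₀, i₂, Category.assoc, pullback.condition]
    rw [← Scheme.Hom.SpecMap_residueFieldMap_fromSpecResidueField_assoc, ← Spec.map_comp_assoc,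
      ← Spec.map_comp_assoc, ← Spec.map_comp_assoc, IsIso.hom_inv_id_assoc,
      Scheme.fromSpecResidueField, Category.assoc, ← Spec.map_comp_assoc, hκ]
  obtain ⟨⟨l, hl₁, hl₂⟩⟩ := (H ⟨A, K, i₁, i₂, ⟨w'⟩⟩ hA ⟨l₀, hl₀⟩).exists_lift
  dsimp only at hl₁ hl₂
  let l' : Spec (.of A) ⟶ pullback f g :=
    pullback.lift l (Spec.map ψA ≫ X'.fromSpecStalk (p y₀)) (by rw [hl₂, Category.assoc])
  have h1 : Spec.map (CommRingCat.ofHom (algebraMap A K)) ≫ l' =
      (pullback f g).fromSpecResidueField y₁ := by
    apply pullback.hom_ext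
    · rw [Category.assoc, pullback.lift_fst, hl₁]
    · rw [Category.assoc, pullback.lift_snd, w]
  have hy₁ : l' (Spec.map (CommRingCat.ofHom (algebraMap A K)) (closedPoint K)) = y₁ := by
    rw [← Scheme.Hom.comp_apply, h1, Scheme.fromSpecResidueField_apply]
  have hy₀ : l' (closedPoint A) = y₀ := by
    apply p.injective
    rw [← Scheme.Hom.comp_apply, pullback.lift_snd, Scheme.Hom.comp_apply]
    have : Spec.map ψA (closedPoint A) = closedPoint (X'.presheaf.stalk (p y₀)) :=
      comap_closedPoint (S := A) ψA.hom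
    rw [this, X'.fromSpecStalk_closedPoint]
  rw [← hy₁, ← hy₀]
  exact (specializes_closedPoint _).map l'.continuous



/-- Let X be a locally Noetherian scheme and f : Y ⟶ X a monomorphism. Suppose that for every discrete
valuation ring A with fraction field K and every commutative square Spec K ⟶ Y, Spec A ⟶ X over f
such that some morphism from the spectrum of the residue field of A to Y lies over Spec A ⟶ X, the
square admits a lift Spec A ⟶ Y. Then after every base change X' ⟶ X the projection Y ×_X X' ⟶ X'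
reflects specializations. -/
theorem result {X Y : Scheme.{u}} [IsLocallyNoetherian X]
    (f : Y ⟶ X) [Mono f]
    (h : ∀ S : ValuativeCommSq f, IsDiscreteValuationRing S.R →
        (∃ l₀ : Spec (CommRingCat.of (IsLocalRing.ResidueField S.R)) ⟶ Y,
            l₀ ≫ f = Spec.map (CommRingCat.ofHom (IsLocalRing.residue S.R)) ≫ S.i₂) →
          S.commSq.HasLift) :
    ∀ (X' : Scheme.{u}) (g : X' ⟶ X) (y₀ y₁ : ↥(pullback f g)),
        (pullback.snd f g).base y₁ ⤳ (pullback.snd f g).base y₀ → y₁ ⤳ y₀ := by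
  apply Groth.Agent.S15345.result f
  intro X' g _ y₀ y₁ hsp
  exact specializes_of_lft f h X' g y₀ y₁ hsp

end Groth.Agent.S15346
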