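import Groth.Statements.S15347
import Mathlib.AlgebraicGeometry.PullbackCarrier
import Mathlib.Tactic
-- import your own Groth.Agent.* helpers here

set_option autoImplicit false
universe u
open CategoryTheory CategoryTheory.Limits AlgebraicGeometry
open Mor

namespace Groth.Agent.S15347

/-- A morphism from the spectrum of a local ring whose closed point lands in an open `V`
has range inside `V`. -/
theorem range_subset_of_closedPoint_mem {R : Type u} [CommRing R] [IsLocalRing R] {X : Scheme.{u}}
    (g : Spec (CommRingCat.of R) ⟶ X) (V : X.Opens)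
    (h : g.base (IsLocalRing.closedPoint R) ∈ V) : Set.range g.base ⊆ (V : Set X) := by
  have h1 : IsLocalRing.closedPoint R ∈ (g ⁻¹ᵁ V) := h
  have h2 : (g ⁻¹ᵁ V) = ⊤ := (IsLocalRing.closedPoint_mem_iff (R := R) (g ⁻¹ᵁ V)).mp h1
  rintro _ ⟨x, rfl⟩
  have : x ∈ (g ⁻¹ᵁ V) := by rw [h2]; trivial
  exact this

theorem part1 {X Y : Scheme.{u}} (f : Y ⟶ X) [IsImmersion f] (S : ValuativeCommSq f)
    (h : ∃ l₀ : Spec (CommRingCat.of (IsLocalRing.ResidueField S.R)) ⟶ Y,
            l₀ ≫ f = Spec.map (CommRingCat.ofHom (IsLocalRing.residue S.R)) ≫ S.i₂) :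
    S.commSq.HasLift := by
  obtain ⟨l₀, hl₀⟩ := h
  -- the closed point of `Spec R` lands in the range of `f`
  have hcl : S.i₂.base (IsLocalRing.closedPoint S.R) ∈ f.coborderRange := by
    have hne : Nonempty ↥(Spec (CommRingCat.of (IsLocalRing.ResidueField S.R))) := inferInstance
    obtain ⟨pt⟩ := hne
    have h1 : (Spec.map (CommRingCat.ofHom (IsLocalRing.residue S.R))).base pt =
        IsLocalRing.closedPoint S.R := IsLocalRing.PrimeSpectrum.comap_residue _ pt
    have h2 : f.base (l₀.base pt) = S.i₂.base (IsLocalRing.closedPoint S.R) := by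
      rw [← h1, ← Scheme.Hom.comp_apply, ← Scheme.Hom.comp_apply, hl₀]
    rw [← h2]
    exact subset_coborder ⟨_, rfl⟩
  have hrange : Set.range S.i₂.base ⊆ Set.range f.coborderRange.ι.base := by
    rw [Scheme.Opens.range_ι]
    exact range_subset_of_closedPoint_mem S.i₂ f.coborderRange hcl
  let i₂' : Spec (CommRingCat.of S.R) ⟶ f.coborderRange.toScheme :=
    IsOpenImmersion.lift f.coborderRange.ι S.i₂ hrange
  have hi₂' : i₂' ≫ f.coborderRange.ι = S.i₂ := IsOpenImmersion.lift_fac _ _ _
  have hsq : S.i₁ ≫ f.liftCoborder =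
      Spec.map (CommRingCat.ofHom (algebraMap S.R S.K)) ≫ i₂' := by
    rw [← cancel_mono f.coborderRange.ι, Category.assoc, Category.assoc, hi₂',
      Scheme.Hom.liftCoborder_ι]
    exact S.commSq.w
  let S' : ValuativeCommSq f.liftCoborder :=
    { R := S.R, K := S.K, i₁ := S.i₁, i₂ := i₂', commSq := ⟨hsq⟩ }
  have hex : ValuativeCriterion.Existence f.liftCoborder := by
    have : UniversallyClosed f.liftCoborder := inferInstance
    rw [UniversallyClosed.eq_valuativeCriterion] at this
    exact this.1
  obtain ⟨l, hl₁, hl₂⟩ := (hex S').exists_lift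
  refine ⟨⟨⟨l, hl₁, ?_⟩⟩⟩
  calc l ≫ f = (l ≫ f.liftCoborder) ≫ f.coborderRange.ι := by
        rw [Category.assoc, Scheme.Hom.liftCoborder_ι]
    _ = i₂' ≫ f.coborderRange.ι := by rw [hl₂]
    _ = S.i₂ := hi₂'

theorem part2 {X Y : Scheme.{u}} (f : Y ⟶ X) [IsImmersion f]
    (A : Type u) [CommRing A] [IsDomain A] (s : Spec (CommRingCat.of A) ⟶ X)
    (D : Set ↥(Spec (CommRingCat.of A))) (hD : Dense D)
    (hl : ∀ p ∈ D, ∃ l : Spec ((Spec (CommRingCat.of A)).residueField p) ⟶ Y,
            l ≫ f = (Spec (CommRingCat.of A)).fromSpecResidueField p ≫ s) :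
    ∃ U : (Spec (CommRingCat.of A)).Opens, (U : Set ↥(Spec (CommRingCat.of A))).Nonempty ∧
            ∃ l : (U : Scheme.{u}) ⟶ Y, l ≫ f = U.ι ≫ s := by
  have hDrange : ∀ p ∈ D, s.base p ∈ Set.range f.base := by
    intro p hp
    obtain ⟨l, hl⟩ := hl p hp
    have hne : Nonempty ↥(Spec ((Spec (CommRingCat.of A)).residueField p)) := inferInstance
    obtain ⟨pt⟩ := hne
    refine ⟨l.base pt, ?_⟩
    rw [← Scheme.Hom.comp_apply, hl, Scheme.Hom.comp_apply, Scheme.fromSpecResidueField_apply]
  let W : (Spec (CommRingCat.of A)).Opens := s ⁻¹ᵁ f.coborderRange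
  have hDW : D ⊆ (W : Set ↥(Spec (CommRingCat.of A))) := by
    intro p hp
    exact subset_coborder (hDrange p hp)
  have hne : (W : Set ↥(Spec (CommRingCat.of A))).Nonempty := by
    obtain ⟨p, hp⟩ := hD.nonempty
    exact ⟨p, hDW hp⟩
  refine ⟨W, hne, ?_⟩
  let s' : W.toScheme ⟶ f.coborderRange.toScheme := s ∣_ f.coborderRange
  have hs' : s' ≫ f.coborderRange.ι = W.ι ≫ s := morphismRestrict_ι s f.coborderRange
  have hclosed : IsClosed (Set.range (pullback.snd f.liftCoborder s').base) :=
    (pullback.snd f.liftCoborder s').isClosedEmbedding.isClosed_range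
  have hdense : Dense (Set.range (pullback.snd f.liftCoborder s').base) := by
    have h1 : Dense (W.ι.base ⁻¹' D) := hD.preimage W.ι.isOpenEmbedding.isOpenMap
    refine h1.mono ?_
    intro w hw
    rw [Scheme.Pullback.range_snd]
    obtain ⟨y, hy⟩ := hDrange _ hw
    refine ⟨y, ?_⟩
    apply f.coborderRange.ι.isOpenEmbedding.injective
    rw [← Scheme.Hom.comp_apply, ← Scheme.Hom.comp_apply, hs', Scheme.Hom.liftCoborder_ι,
      Scheme.Hom.comp_apply]
    exact hy
  have hsurj : Surjective (pullback.snd f.liftCoborder s') :=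
    ⟨by rw [← Set.range_eq_univ, ← hclosed.closure_eq]; exact hdense.closure_eq⟩
  have hiso : IsIso (pullback.snd f.liftCoborder s') :=
    isIso_of_isClosedImmersion_of_surjective _
  refine ⟨inv (pullback.snd f.liftCoborder s') ≫ pullback.fst f.liftCoborder s', ?_⟩
  calc (inv (pullback.snd f.liftCoborder s') ≫ pullback.fst f.liftCoborder s') ≫ f
      = inv (pullback.snd f.liftCoborder s') ≫
          (pullback.fst f.liftCoborder s' ≫ f.liftCoborder) ≫ f.coborderRange.ι := by
        simp only [Category.assoc, Scheme.Hom.liftCoborder_ι]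
    _ = inv (pullback.snd f.liftCoborder s') ≫
          (pullback.snd f.liftCoborder s' ≫ s') ≫ f.coborderRange.ι := by
        rw [pullback.condition]
    _ = W.ι ≫ s := by
        rw [Category.assoc, IsIso.inv_hom_id_assoc, hs']

/-- Let f : Y ⟶ X be an immersion of schemes. Then: for every valuation ring A with fraction field K and
every commutative square Spec K ⟶ Y, Spec A ⟶ X over f such that some morphism from the spectrum of
the residue field of A to Y lies over Spec A ⟶ X, the square admits a lift; and for every integral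
domain A and every morphism s : Spec A ⟶ X such that the points of a dense subset of Spec A lift to
Y (the residue field of each such point maps to Y over s), there is a nonempty open subscheme U of
Spec A with a morphism U ⟶ Y over s. (The published statement is for a representable, locally
finitely presented morphism of algebraic stacks with locally Noetherian target and a quasi-compact
immersion, and also lists that f is a monomorphism; this row is the case of schemes, for any
immersion and any target.) -/
theorem result {X Y : Scheme.{u}} (f : Y ⟶ X) [IsImmersion f] :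
    (∀ S : ValuativeCommSq f,
        (∃ l₀ : Spec (CommRingCat.of (IsLocalRing.ResidueField S.R)) ⟶ Y,
            l₀ ≫ f = Spec.map (CommRingCat.ofHom (IsLocalRing.residue S.R)) ≫ S.i₂) →
          S.commSq.HasLift) ∧
      ∀ (A : Type u) [CommRing A] [IsDomain A] (s : Spec (CommRingCat.of A) ⟶ X) (D : Set ↥(Spec (CommRingCat.of A))),
        Dense D →
        (∀ p ∈ D, ∃ l : Spec ((Spec (CommRingCat.of A)).residueField p) ⟶ Y,
            l ≫ f = (Spec (CommRingCat.of A)).fromSpecResidueField p ≫ s) →
          ∃ U : (Spec (CommRingCat.of A)).Opens, (U : Set ↥(Spec (CommRingCat.of A))).Nonempty ∧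
            ∃ l : (U : Scheme.{u}) ⟶ Y, l ≫ f = U.ι ≫ s := by
  exact ⟨fun S h => part1 f S h, fun A _ _ s D hD hl => part2 f A s D hD hl⟩

end Groth.Agent.S15347
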