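import Groth.Statements.S15349
import Mathlib
import Groth.Agent.S15344

set_option autoImplicit false
universe u
open CategoryTheory CategoryTheory.Limits AlgebraicGeometry
open Mor

namespace Groth.Agent.S15349


open Groth.Agent.S15344

/-- Points in the image of a monomorphism lift on residue fields. -/
lemma exists_lift_of_mem_range {X Y T : Scheme.{u}} (f : Y ⟶ X) [Mono f] (s : T ⟶ X) (p : T)
    (hp : s p ∈ Set.range f) :
    ∃ l : Spec (T.residueField p) ⟶ Y, l ≫ f = T.fromSpecResidueField p ≫ s := by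
  obtain ⟨y, hy⟩ := hp
  have := isIso_residueFieldMap_of_mono f y
  refine ⟨Spec.map (s.residueFieldMap p) ≫ Spec.map (X.residueFieldCongr hy).hom ≫
    Spec.map (inv (f.residueFieldMap y)) ≫ Y.fromSpecResidueField y, ?_⟩
  simp only [Category.assoc]
  rw [← Scheme.Hom.SpecMap_residueFieldMap_fromSpecResidueField, ← Spec.map_comp_assoc
    (f.residueFieldMap y), IsIso.hom_inv_id, Spec.map_id, Category.id_comp,
    Scheme.residueFieldCongr_fromSpecResidueField,
    Scheme.Hom.SpecMap_residueFieldMap_fromSpecResidueField]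


set_option maxHeartbeats 800000 in
lemma compactSpace_of_dense_lifting (R : Type u) [CommRing R] [IsNoetherianRing R] {Y : Scheme.{u}}
    (f : Y ⟶ Spec (.of R)) [Mono f]
    (hc : ∀ (A : Type u) [CommRing A] [IsDomain A] (s : Spec (CommRingCat.of A) ⟶ Spec (.of R))
      (D : Set ↥(Spec (CommRingCat.of A))), Dense D →
        (∀ p ∈ D, ∃ l : Spec ((Spec (CommRingCat.of A)).residueField p) ⟶ Y,
            l ≫ f = (Spec (CommRingCat.of A)).fromSpecResidueField p ≫ s) →
          ∃ U : (Spec (CommRingCat.of A)).Opens, (U : Set ↥(Spec (CommRingCat.of A))).Nonempty ∧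
            ∃ l : (U : Scheme.{u}) ⟶ Y, l ≫ f = U.ι ≫ s) :
    CompactSpace Y := by
  suffices H : ∀ Z : TopologicalSpace.Closeds ↥(Spec (CommRingCat.of R)),
      IsCompact (f ⁻¹' (Z : Set ↥(Spec (CommRingCat.of R)))) by
    have := H ⊤
    rw [← isCompact_univ_iff]
    rw [TopologicalSpace.Closeds.coe_top, Set.preimage_univ] at this
    exact this
  intro Z
  induction Z using WellFoundedLT.induction with
  | ind Z IH =>
  by_cases hZ : (Z : Set ↥(Spec (CommRingCat.of R))) = ∅
  · rw [hZ, Set.preimage_empty]; exact isCompact_empty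
  by_cases hirr : IsPreirreducible (Z : Set ↥(Spec (CommRingCat.of R)))
  · have hirr' : IsIrreducible (Z : Set ↥(Spec (CommRingCat.of R))) :=
      ⟨Set.nonempty_iff_ne_empty.mpr hZ, hirr⟩
    have hprime := PrimeSpectrum.isIrreducible_iff_vanishingIdeal_isPrime.mp hirr'
    obtain ⟨𝔭, h𝔭⟩ : ∃ 𝔭 : Ideal R,
      𝔭 = PrimeSpectrum.vanishingIdeal (Z : Set ↥(Spec (CommRingCat.of R))) := ⟨_, rfl⟩
    have hprime : 𝔭.IsPrime := h𝔭 ▸ hprime
    have hZeq : (Z : Set ↥(Spec (CommRingCat.of R))) = PrimeSpectrum.zeroLocus (𝔭 : Set R) := by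
      subst h𝔭
      exact ((PrimeSpectrum.zeroLocus_vanishingIdeal_eq_closure _).trans
        Z.isClosed.closure_eq).symm
    let s : Spec (.of (R ⧸ 𝔭)) ⟶ Spec (.of R) :=
      Spec.map (CommRingCat.ofHom (Ideal.Quotient.mk 𝔭))
    have hs : Topology.IsClosedEmbedding s :=
      PrimeSpectrum.isClosedEmbedding_comap_of_surjective _ _ Ideal.Quotient.mk_surjective
    have hrs : Set.range s = (Z : Set ↥(Spec (CommRingCat.of R))) := by
      rw [hZeq]
      exact (_root_.range_comap_of_surjective _ _ Ideal.Quotient.mk_surjective).trans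
        (by rw [Ideal.mk_ker])
    -- reduction: it suffices to find a proper closed `C` and a compact `K`
    have key : ∀ (C : Set ↥(Spec (.of (R ⧸ 𝔭)))) (K : Set Y), IsClosed C → C ≠ Set.univ →
        IsCompact K → f ⁻¹' (Z : Set ↥(Spec (CommRingCat.of R))) ⊆ f ⁻¹' (s '' C) ∪ K →
        K ⊆ f ⁻¹' (Z : Set ↥(Spec (CommRingCat.of R))) → IsCompact (f ⁻¹' (Z : Set ↥(Spec (CommRingCat.of R)))) := by
      intro C K hC hCne hK hsub hKsub
      let Z' : TopologicalSpace.Closeds ↥(Spec (CommRingCat.of R)) := ⟨s '' C, hs.isClosedMap _ hC⟩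
      have hle : (Z' : Set ↥(Spec (CommRingCat.of R))) ⊆ Z := by
        rw [← hrs]; exact Set.image_subset_range _ _
      have hlt : Z' < Z := by
        refine lt_of_le_of_ne hle ?_
        intro heq
        apply hCne
        rw [Set.eq_univ_iff_forall]
        intro q
        have : s q ∈ (Z' : Set ↥(Spec (CommRingCat.of R))) := by
          rw [heq, ← hrs]; exact Set.mem_range_self q
        obtain ⟨q', hq', hqq'⟩ := this
        rwa [← hs.injective hqq']
      have hcomp := (IH Z' hlt).union hK
      convert hcomp using 1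
      apply Set.Subset.antisymm hsub
      exact Set.union_subset (Set.preimage_mono hle) hKsub
    let D : Set ↥(Spec (.of (R ⧸ 𝔭))) := s ⁻¹' Set.range f
    have hfZ : ∀ y, f y ∈ (Z : Set ↥(Spec (CommRingCat.of R))) → ∃ q, s q = f y := fun y hy => by
      rw [← hrs] at hy; exact hy
    by_cases hD : Dense D
    · obtain ⟨W, ⟨w, hw⟩, l, hl⟩ := hc (R ⧸ 𝔭) s D hD
        (fun p hp => exists_lift_of_mem_range f s p hp)
      have hlpt : ∀ w' : ↥(W : Scheme.{u}), f (l w') = s (W.ι w') := fun w' => by
        rw [← Scheme.Hom.comp_apply, hl, Scheme.Hom.comp_apply]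
      refine key (W : Set ↥(Spec (.of (R ⧸ 𝔭))))ᶜ (Set.range l) W.isOpen.isClosed_compl ?_ ?_ ?_ ?_
      · intro h
        have : w ∈ (W : Set ↥(Spec (.of (R ⧸ 𝔭))))ᶜ := h ▸ Set.mem_univ w
        exact this hw
      · have : CompactSpace W := isCompact_iff_compactSpace.mp
          (TopologicalSpace.NoetherianSpace.isCompact (W : Set ↥(Spec (.of (R ⧸ 𝔭)))))
        exact isCompact_range l.continuous
      · intro y hy
        obtain ⟨q, hq⟩ := hfZ y hy
        by_cases hqW : q ∈ W
        · right
          refine ⟨(⟨q, hqW⟩ : ↥(W : Scheme.{u})), ?_⟩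
          apply f.injective
          exact (hlpt (⟨q, hqW⟩ : ↥(W : Scheme.{u}))).trans hq
        · left
          exact ⟨q, hqW, hq⟩
      · rintro _ ⟨w', rfl⟩
        change f (l w') ∈ (Z : Set ↥(Spec (CommRingCat.of R)))
        rw [hlpt, ← hrs]
        exact Set.mem_range_self _
    · refine key (closure D) ∅ isClosed_closure ?_ isCompact_empty ?_ (Set.empty_subset _)
      · intro h
        exact hD (dense_iff_closure_eq.mpr h)
      · intro y hy
        obtain ⟨q, hq⟩ := hfZ y hy
        left
        exact ⟨q, subset_closure ⟨y, hq.symm⟩, hq⟩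
  · rw [isPreirreducible_iff_isClosed_union_isClosed] at hirr
    push Not at hirr
    obtain ⟨z₁, z₂, hz₁, hz₂, hsub, hn₁, hn₂⟩ := hirr
    let Z₁ : TopologicalSpace.Closeds ↥(Spec (CommRingCat.of R)) := Z ⊓ ⟨z₁, hz₁⟩
    let Z₂ : TopologicalSpace.Closeds ↥(Spec (CommRingCat.of R)) := Z ⊓ ⟨z₂, hz₂⟩
    have h1 : Z₁ < Z := lt_of_le_of_ne inf_le_left (fun h => hn₁ (by
      rw [← h]; exact Set.inter_subset_right))
    have h2 : Z₂ < Z := lt_of_le_of_ne inf_le_left (fun h => hn₂ (by
      rw [← h]; exact Set.inter_subset_right))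
    have := (IH Z₁ h1).union (IH Z₂ h2)
    convert this using 1
    rw [← Set.preimage_union]
    congr 1
    change (Z : Set ↥(Spec (CommRingCat.of R))) =
      ((Z : Set ↥(Spec (CommRingCat.of R))) ∩ z₁) ∪ ((Z : Set ↥(Spec (CommRingCat.of R))) ∩ z₂)
    rw [← Set.inter_union_distrib_left, Set.inter_eq_left.mpr hsub]




/-- Let X be a locally Noetherian scheme and f : Y ⟶ X a monomorphism locally of finite presentation
such that, for every integral domain A and every morphism s : Spec A ⟶ X for which the points of a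
dense subset of Spec A lift to Y (the residue field of each such point maps to Y over s), some
nonempty open subscheme of Spec A maps to Y over s. Then f is quasi-compact. (The published remark
is for a representable morphism of algebraic stacks; this row is the case of schemes.) -/
theorem result {X Y : Scheme.{u}} [IsLocallyNoetherian X]
    (f : Y ⟶ X) [LocallyOfFinitePresentation f] [Mono f]
    (hc : ∀ (A : Type u) [CommRing A] [IsDomain A] (s : Spec (CommRingCat.of A) ⟶ X) (D : Set ↥(Spec (CommRingCat.of A))),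
        Dense D →
        (∀ p ∈ D, ∃ l : Spec ((Spec (CommRingCat.of A)).residueField p) ⟶ Y,
            l ≫ f = (Spec (CommRingCat.of A)).fromSpecResidueField p ≫ s) →
          ∃ U : (Spec (CommRingCat.of A)).Opens, (U : Set ↥(Spec (CommRingCat.of A))).Nonempty ∧
            ∃ l : (U : Scheme.{u}) ⟶ Y, l ≫ f = U.ι ≫ s) :
    QuasiCompact f := by
  rw [quasiCompact_iff_forall_isAffineOpen]
  intro U hU
  have : IsNoetherianRing Γ(X, U) := IsLocallyNoetherian.component_noetherian ⟨U, hU⟩
  have : CompactSpace ↥(pullback f hU.fromSpec) :=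
    compactSpace_of_dense_lifting Γ(X, U) (pullback.snd f hU.fromSpec) (by
      intro A _ _ s D hD hlift
      obtain ⟨W, hW, l, hl⟩ := hc A (s ≫ hU.fromSpec) D hD (fun p hp => by
        obtain ⟨lp, hlp⟩ := hlift p hp
        exact ⟨lp ≫ pullback.fst _ _, by
          rw [Category.assoc, pullback.condition, reassoc_of% hlp]⟩)
      exact ⟨W, hW, pullback.lift l (W.ι ≫ s) (by rw [hl, Category.assoc]),
        pullback.lift_snd _ _ _⟩)
  have hr : ((f ⁻¹ᵁ U : Y.Opens) : Set Y) = Set.range (pullback.fst f hU.fromSpec) := by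
    rw [Scheme.Pullback.range_fst, hU.range_fromSpec]
    rfl
  rw [hr]
  exact isCompact_range (pullback.fst f hU.fromSpec).continuous

end Groth.Agent.S15349
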