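import Groth.Statements.S15350
import Groth.Agent.Lib.Helper3CompBCb
import Groth.Agent.Lib.Helper3TorsD
import Groth.Agent.Lib.Helper22SC4
import Mathlib

set_option autoImplicit false
set_option linter.style.haveILetI false
universe u
open CategoryTheory CategoryTheory.Limits AlgebraicGeometry
open MoreMor

namespace Groth.Agent.S15350

/-- Let f : X ⟶ S be smooth, quasi-compact and quasi-separated, let g : S' ⟶ S be universally open and
let e : S' ⟶ X satisfy e ≫ f = g. Then there is an open subset U of X (necessarily unique) such that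
for every point s of S, U ∩ f⁻¹(s) is the union of those connected components of the fibre f⁻¹(s),
with its subspace topology, which meet e(S'). -/
theorem result {S S' X : Scheme.{u}} (f : X ⟶ S)
    [Smooth f] [QuasiCompact f] [QuasiSeparated f] (g : S' ⟶ S) [UniversallyOpen g] (e : S' ⟶ X)
    (he : e ≫ f = g) :
    ∃ U : X.Opens, ∀ s : S, (U : Set ↥X) ∩ f.base ⁻¹' {s} =
      ⋃ x ∈ Set.range e.base ∩ f.base ⁻¹' {s}, connectedComponentIn (f.base ⁻¹' {s}) x := by
  obtain ⟨pr, hpr⟩ : ∃ pr : pullback f g ⟶ X, pr = pullback.fst f g := ⟨_, rfl⟩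
  obtain ⟨f', hf'⟩ : ∃ f' : pullback f g ⟶ S', f' = pullback.snd f g := ⟨_, rfl⟩
  have sq : IsPullback pr f' f g := by
    rw [hpr, hf']; exact IsPullback.of_hasPullback f g
  haveI : Smooth f' := by rw [hf']; infer_instance
  haveI : QuasiSeparated f' := by rw [hf']; infer_instance
  haveI : UniversallyOpen pr := by rw [hpr]; infer_instance
  obtain ⟨e'', he''1, he''2⟩ : ∃ e'' : S' ⟶ pullback f g, e'' ≫ pr = e ∧ e'' ≫ f' = 𝟙 S' := by
    refine ⟨pullback.lift e (𝟙 S') (by rw [he, Category.id_comp]), ?_, ?_⟩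
    · rw [hpr]; exact pullback.lift_fst _ _ _
    · rw [hf']; exact pullback.lift_snd _ _ _
  have hopen := Groth.Agent.Lib.Helper3.TorsD.isOpen_sectionComponents f' e'' he''2
  have hf'e : ∀ t', f' (e'' t') = t' := fun t' => by
    rw [← Scheme.Hom.comp_apply, he''2]; rfl
  have hpre : ∀ t', pr (e'' t') = e t' := fun t' => by
    rw [← Scheme.Hom.comp_apply, he''1]
  have hfe : ∀ t', f (e t') = g t' := fun t' => by
    rw [← Scheme.Hom.comp_apply, he]
  have hfpr : ∀ z', f (pr z') = g (f' z') := fun z' => by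
    rw [← Scheme.Hom.comp_apply, ← Scheme.Hom.comp_apply, sq.w]
  -- the comparison of components at the point `e'' t'`
  have key : ∀ t' : S', pr '' connectedComponentIn (f' ⁻¹' {t'}) (e'' t') =
      connectedComponentIn (f ⁻¹' {g t'}) (e t') := by
    intro t'
    have h := Groth.Agent.Lib.Helper3.CompBC.image_connectedComponentIn_fibre sq (e'' t')
    rw [hf'e, hpre] at h
    exact h
  refine ⟨⟨pr '' MoreMor.sectionComponents f' e'', pr.isOpenMap _ hopen⟩, fun s => ?_⟩
  ext z
  simp only [Set.mem_inter_iff, Set.mem_iUnion, exists_prop]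
  constructor
  · rintro ⟨⟨z', hz', rfl⟩, hzs⟩
    have hzs' : f (pr z') = s := hzs
    have hgs : g (f' z') = s := by rw [← hfpr]; exact hzs'
    rw [Groth.Agent.Lib.Helper22.SC.mem_sectionComponents_iff f' e'' z' (f' z') rfl] at hz'
    refine ⟨e (f' z'), ⟨⟨f' z', rfl⟩, ?_⟩, ?_⟩
    · show f (e (f' z')) = s
      rw [hfe, hgs]
    · rw [← hgs, ← key]
      exact ⟨z', hz', rfl⟩
  · rintro ⟨x, ⟨⟨t', rfl⟩, hxs⟩, hz⟩
    have hxs' : f (e t') = s := hxs
    have hgs : g t' = s := by rw [← hfe]; exact hxs'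
    have hz2 : z ∈ connectedComponentIn (f ⁻¹' {g t'}) (e t') := by rw [hgs]; exact hz
    rw [← key] at hz2
    obtain ⟨z', hz', rfl⟩ := hz2
    have h0 : z' ∈ f' ⁻¹' {t'} := connectedComponentIn_subset (f' ⁻¹' {t'}) (e'' t') hz'
    have hz'f : f' z' = t' := h0
    refine ⟨⟨z', ?_, rfl⟩, ?_⟩
    · rw [Groth.Agent.Lib.Helper22.SC.mem_sectionComponents_iff f' e'' z' t' hz'f]
      exact hz'
    · show f (pr z') = s
      rw [hfpr, hz'f, hgs]

end Groth.Agent.S15350
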