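import Groth.Statements.S15353
import Mathlib
-- import your own Groth.Agent.* helpers here

set_option autoImplicit false
universe u
open CAlg
open TensorProduct

namespace Groth.Agent.S15353



/-- kernel of `P → A ⊗ P` is `I • ⊤` when `A' → A` surjective with kernel `I`. -/
theorem mem_smul_top_of_one_tmul_eq_zero {A' A : Type u} [CommRing A'] [CommRing A] [Algebra A' A]
    (hf : Function.Surjective (algebraMap A' A))
    (P : Type u) [AddCommGroup P] [Module A' P] (x : P)
    (hx : (1 : A) ⊗ₜ[A'] x = 0) :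
    x ∈ (RingHom.ker (algebraMap A' A)) • (⊤ : Submodule A' P) := by
  set I := RingHom.ker (algebraMap A' A) with hI
  have hex : Function.Exact (Submodule.subtype I) (Algebra.linearMap A' A) := by
    intro a
    constructor
    · intro ha
      exact ⟨⟨a, ha⟩, rfl⟩
    · rintro ⟨⟨b, hb⟩, rfl⟩
      exact hb
  have hex2 := rTensor_exact P hex hf
  have h1 : (LinearMap.rTensor P (Algebra.linearMap A' A)) ((1 : A') ⊗ₜ[A'] x) = 0 := by
    simpa using hx
  obtain ⟨t, ht⟩ := (hex2 _).1 h1
  have key : ∀ t : I ⊗[A'] P,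
      TensorProduct.lid A' P (LinearMap.rTensor P (Submodule.subtype I) t)
        ∈ I • (⊤ : Submodule A' P) := by
    intro t
    induction t using TensorProduct.induction_on with
    | zero => simp
    | tmul i p =>
      simp only [LinearMap.rTensor_tmul, Submodule.subtype_apply, TensorProduct.lid_tmul]
      exact Submodule.smul_mem_smul i.2 Submodule.mem_top
    | add a b ha hb =>
      simp only [map_add]
      exact Submodule.add_mem _ ha hb
  have := key t
  rw [ht] at this
  simpa using this


theorem le_jacobson_of_isNilpotent {R : Type u} [CommRing R] (I : Ideal R) (hI : IsNilpotent I) :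
    I ≤ Ideal.jacobson (⊥ : Ideal R) := by
  obtain ⟨n, hn⟩ := hI
  intro x hx
  have hx' : x ^ n ∈ I ^ n := Ideal.pow_mem_pow hx n
  rw [hn] at hx'
  have h0 : x ^ n = 0 := by simpa using hx'
  have : x ∈ Ideal.radical (⊥ : Ideal R) := ⟨n, by simp [h0]⟩
  exact Ideal.radical_le_jacobson this

/-- K1 -/
theorem nonempty_linearEquiv_of_baseChange {A' A : Type u} [CommRing A'] [CommRing A] [Algebra A' A]
    (hf : Function.Surjective (algebraMap A' A))
    (hker : IsNilpotent (RingHom.ker (algebraMap A' A)))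
    (P : Type u) [AddCommGroup P] [Module A' P] [Module.Finite A' P] [Module.Projective A' P]
    (φ : A ⊗[A'] P ≃ₗ[A] A) : Nonempty (P ≃ₗ[A'] A') := by
  set I := RingHom.ker (algebraMap A' A) with hI
  -- step 1: a generator
  have hsurj : Function.Surjective (TensorProduct.mk A' A P 1) := by
    intro t
    induction t using TensorProduct.induction_on with
    | zero => exact ⟨0, by simp⟩
    | tmul a p =>
      obtain ⟨a', rfl⟩ := hf a
      refine ⟨a' • p, ?_⟩
      simp only [TensorProduct.mk_apply]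
      rw [TensorProduct.tmul_smul, TensorProduct.smul_tmul', Algebra.smul_def, mul_one]
    | add a b ha hb =>
      obtain ⟨x, rfl⟩ := ha
      obtain ⟨y, rfl⟩ := hb
      exact ⟨x + y, by simp [TensorProduct.tmul_add]⟩
  obtain ⟨p0, hp0⟩ := hsurj (φ.symm 1)
  have hp0' : φ ((1 : A) ⊗ₜ[A'] p0) = 1 := by
    have : (1 : A) ⊗ₜ[A'] p0 = φ.symm 1 := hp0
    rw [this]; simp
  let g : A' →ₗ[A'] P := LinearMap.toSpanSingleton A' P p0
  have hg : ∀ a, g a = a • p0 := fun a => rfl
  have hφ : ∀ a : A', φ ((1 : A) ⊗ₜ[A'] (a • p0)) = algebraMap A' A a := by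
    intro a
    have : (1 : A) ⊗ₜ[A'] (a • p0) = (algebraMap A' A a) • ((1 : A) ⊗ₜ[A'] p0) := by
      rw [TensorProduct.tmul_smul, TensorProduct.smul_tmul', TensorProduct.smul_tmul',
        Algebra.smul_def, mul_one, smul_eq_mul, mul_one]
    rw [this, map_smul, hp0', smul_eq_mul, mul_one]
  -- step 2: g surjective by Nakayama
  have hgs : Function.Surjective g := by
    rw [← LinearMap.range_eq_top, eq_top_iff]
    apply Submodule.le_of_le_smul_of_le_jacobson_bot (I := I) Module.Finite.fg_top
      (le_jacobson_of_isNilpotent I hker)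
    intro p _
    obtain ⟨a, ha⟩ := hf (φ ((1 : A) ⊗ₜ[A'] p))
    have h0 : (1 : A) ⊗ₜ[A'] (p - a • p0) = 0 := by
      apply φ.injective
      rw [TensorProduct.tmul_sub, map_sub, hφ, ha, sub_self, map_zero]
    have hmem := mem_smul_top_of_one_tmul_eq_zero hf P _ h0
    have : p = g a + (p - a • p0) := by rw [hg]; abel
    rw [this]
    exact Submodule.add_mem_sup ⟨a, rfl⟩ hmem
  -- step 3: section
  obtain ⟨s, hs⟩ := Module.projective_lifting_property g LinearMap.id hgs
  have hs' : ∀ p, g (s p) = p := fun p => by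
    have := congrArg (fun l => l p) hs
    simpa using this
  set e : A' := s p0 with he
  have hsg : ∀ a : A', s (g a) = a * e := by
    intro a
    rw [hg, map_smul, smul_eq_mul]
  have hge : g e = p0 := hs' p0
  have hee : e * e = e := by
    have := hsg e
    rw [hge] at this
    exact this.symm
  have h1e : (1 - e) ∈ I := by
    have : g (1 - e) = 0 := by
      rw [map_sub, hge, hg, one_smul, sub_self]
    rw [hI, RingHom.mem_ker, ← hφ (1 - e), ← hg, this, TensorProduct.tmul_zero, map_zero]
  have hidem : IsIdempotentElem (1 - e) := IsIdempotentElem.one_sub hee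
  have h1e0 : 1 - e = 0 := by
    obtain ⟨n, hn⟩ := hker
    have h2 : (1 - e) ^ n ∈ I ^ n := Ideal.pow_mem_pow h1e n
    rw [hn] at h2
    have h3 : (1 - e) ^ n = 0 := by simpa using h2
    rcases n with _ | n
    · have : (1 : A') = 0 := by simpa using h3
      have := congrArg (fun z => z * (1 - e)) this
      simpa using this
    · rwa [hidem.pow_succ_eq] at h3
  have he1 : e = 1 := by
    have := sub_eq_zero.mp h1e0
    exact this.symm
  have hgi : Function.Injective g := by
    rw [← LinearMap.ker_eq_bot, LinearMap.ker_eq_bot']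
    intro a ha
    have := hsg a
    rw [ha, map_zero, he1, mul_one] at this
    exact this.symm
  exact ⟨(LinearEquiv.ofBijective g ⟨hgi, hgs⟩).symm⟩



theorem matrix_pow_mem {R : Type u} [CommRing R] {n : ℕ} (I : Ideal R)
    (X : Matrix (Fin n) (Fin n) R) (hX : ∀ i j, X i j ∈ I) (m : ℕ) :
    ∀ i j, (X ^ m) i j ∈ I ^ m := by
  induction m with
  | zero =>
    intro i j
    simp
  | succ m ih =>
    intro i j
    have h1 : X ^ (m + 1) = X ^ m * X := pow_succ X m
    have h2 : I ^ (m + 1) = I ^ m * I := pow_succ I m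
    rw [h1, h2, Matrix.mul_apply]
    exact Ideal.sum_mem _ fun l _ => Ideal.mul_mem_mul (ih i l) (hX l j)

theorem exists_lift_idem {A' A : Type u} [CommRing A'] [CommRing A] [Algebra A' A]
    (hf : Function.Surjective (algebraMap A' A))
    (hker : IsNilpotent (RingHom.ker (algebraMap A' A))) {n : ℕ}
    (E : Matrix (Fin n) (Fin n) A) (hE : E * E = E) :
    ∃ E' : Matrix (Fin n) (Fin n) A', E' * E' = E' ∧ E'.map (algebraMap A' A) = E := by
  have h : ∀ X ∈ RingHom.ker ((algebraMap A' A).mapMatrix (m := Fin n)), IsNilpotent X := by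
    intro X hX
    rw [RingHom.mem_ker] at hX
    have hX' : ∀ i j, X i j ∈ RingHom.ker (algebraMap A' A) := by
      intro i j
      have := congrFun (congrFun hX i) j
      simpa [RingHom.mem_ker] using this
    obtain ⟨k, hk⟩ := hker
    refine ⟨k, ?_⟩
    ext i j
    have := matrix_pow_mem _ X hX' k i j
    rw [hk] at this
    simpa using this
  have hr : E ∈ ((algebraMap A' A).mapMatrix (m := Fin n)).range := by
    refine ⟨Matrix.of fun i j => Classical.choose (hf (E i j)), ?_⟩
    ext i j
    simp only [RingHom.mapMatrix_apply, Matrix.map_apply, Matrix.of_apply]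
    exact Classical.choose_spec (hf (E i j))
  obtain ⟨E', hE', hE'2⟩ := exists_isIdempotentElem_eq_of_ker_isNilpotent _ h E hr hE
  exact ⟨E', hE', hE'2⟩


/-- two splittings of the same idempotent give isomorphic modules -/
theorem nonempty_linearEquiv_of_split {R : Type u} [CommRing R] {X Y Z : Type u}
    [AddCommGroup X] [AddCommGroup Y] [AddCommGroup Z] [Module R X] [Module R Y] [Module R Z]
    (iX : X →ₗ[R] Z) (pX : Z →ₗ[R] X) (iY : Y →ₗ[R] Z) (pY : Z →ₗ[R] Y)
    (hX : pX ∘ₗ iX = LinearMap.id) (hY : pY ∘ₗ iY = LinearMap.id)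
    (h : iX ∘ₗ pX = iY ∘ₗ pY) : Nonempty (X ≃ₗ[R] Y) := by
  have hX' : ∀ x, pX (iX x) = x := fun x => by simpa using congrArg (fun l => l x) hX
  have hY' : ∀ y, pY (iY y) = y := fun y => by simpa using congrArg (fun l => l y) hY
  have h' : ∀ z, iX (pX z) = iY (pY z) := fun z => by simpa using congrArg (fun l => l z) h
  refine ⟨LinearEquiv.ofLinearMap (pY ∘ₗ iX) (pX ∘ₗ iY) ?_ ?_⟩
  · ext y
    simp only [LinearMap.coe_comp, Function.comp_apply, LinearMap.id_coe, id_eq]
    rw [h', hY', hY']
  · ext x
    simp only [LinearMap.coe_comp, Function.comp_apply, LinearMap.id_coe, id_eq]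
    rw [← h', hX', hX']

theorem exists_lift_projective {A' A : Type u} [CommRing A'] [CommRing A] [Algebra A' A]
    (hf : Function.Surjective (algebraMap A' A))
    (hker : IsNilpotent (RingHom.ker (algebraMap A' A)))
    (M : Type u) [AddCommGroup M] [Module A M] [Module.Finite A M] [Module.Projective A M] :
    ∃ (M' : Type u) (_ : AddCommGroup M') (_ : Module A' M') (_ : Module.Finite A' M')
      (_ : Module.Projective A' M'), Nonempty (A ⊗[A'] M' ≃ₗ[A] M) := by
  obtain ⟨n, p, hp⟩ := Module.Finite.exists_fin' A M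
  obtain ⟨i, hi⟩ := Module.projective_lifting_property p LinearMap.id hp
  set E : Matrix (Fin n) (Fin n) A := LinearMap.toMatrix' (i ∘ₗ p) with hEdef
  have hE : E * E = E := by
    rw [hEdef, ← LinearMap.toMatrix'_comp]
    congr 1
    rw [LinearMap.comp_assoc, ← LinearMap.comp_assoc p i p, hi, LinearMap.id_comp]
  obtain ⟨E', hE', hE'2⟩ := exists_lift_idem hf hker E hE
  let e' : (Fin n → A') →ₗ[A'] (Fin n → A') := Matrix.toLin' E'
  have he' : e' ∘ₗ e' = e' := by
    show Matrix.toLin' E' ∘ₗ Matrix.toLin' E' = Matrix.toLin' E'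
    rw [← Matrix.toLin'_mul, hE']
  have he'a : ∀ v, e' (e' v) = e' v := fun v => by
    simpa using congrArg (fun l => l v) he'
  let M' : Submodule A' (Fin n → A') := LinearMap.range e'
  have hsplit : e'.rangeRestrict ∘ₗ M'.subtype = LinearMap.id := by
    ext ⟨x, y, rfl⟩ : 2
    show e' (e' y) = e' y
    exact he'a y
  have hproj : Module.Projective A' M' := Module.Projective.of_split M'.subtype e'.rangeRestrict hsplit
  have hfin : Module.Finite A' M' := Module.Finite.range e'
  refine ⟨M', inferInstance, inferInstance, hfin, hproj, ?_⟩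
  -- iso
  let l : M' →ₗ[A'] (Fin n → A) := ((Algebra.linearMap A' A).compLeft (Fin n)) ∘ₗ M'.subtype
  let iX : A ⊗[A'] M' →ₗ[A] (Fin n → A) := LinearMap.liftBaseChange A l
  let pX : (Fin n → A) →ₗ[A] A ⊗[A'] M' :=
    (Pi.basisFun A (Fin n)).constr A (fun j => (1 : A) ⊗ₜ[A'] (e'.rangeRestrict (Pi.single j 1)))
  have hl : ∀ (m : M') (j : Fin n), l m j = algebraMap A' A (m.1 j) := fun m j => rfl
  have h1 : pX ∘ₗ iX = LinearMap.id := by
    apply TensorProduct.AlgebraTensorModule.curry_injective
    ext m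
    simp only [TensorProduct.AlgebraTensorModule.curry_apply, LinearMap.restrictScalars_comp,
      TensorProduct.curry_apply, LinearMap.coe_comp, LinearMap.coe_restrictScalars,
      Function.comp_apply, LinearMap.id_coe, id_eq]
    have hi1 : iX ((1 : A) ⊗ₜ[A'] m) = l m := by
      simp [iX]
    rw [hi1]
    show (Pi.basisFun A (Fin n)).constr A _ (l m) = _
    rw [Module.Basis.constr_apply_fintype]
    simp only [Pi.basisFun_equivFun, LinearEquiv.refl_apply, hl]
    have : ∀ j : Fin n, (algebraMap A' A (m.1 j)) • ((1 : A) ⊗ₜ[A'] (e'.rangeRestrict (Pi.single j 1)))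
        = (1 : A) ⊗ₜ[A'] ((m.1 j) • (e'.rangeRestrict (Pi.single j 1))) := by
      intro j
      rw [TensorProduct.smul_tmul', smul_eq_mul, mul_one, ← TensorProduct.smul_tmul,
        Algebra.smul_def, mul_one]
    simp_rw [this]
    rw [← TensorProduct.tmul_sum]
    congr 1
    simp_rw [← map_smul, ← map_sum]
    have hsum : (∑ j : Fin n, (m.1 j) • (Pi.single j (1 : A') : Fin n → A')) = m.1 := by
      ext k
      simp [Finset.sum_apply, Pi.single_apply]
    rw [hsum]
    exact LinearMap.congr_fun hsplit m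
  have h2 : iX ∘ₗ pX = i ∘ₗ p := by
    apply (Pi.basisFun A (Fin n)).ext
    intro j
    have hpj : pX ((Pi.basisFun A (Fin n)) j) = (1 : A) ⊗ₜ[A'] (e'.rangeRestrict (Pi.single j 1)) :=
      Module.Basis.constr_basis _ _ _ _
    rw [LinearMap.comp_apply, hpj]
    have hi1 : iX ((1 : A) ⊗ₜ[A'] (e'.rangeRestrict (Pi.single j 1))) = l (e'.rangeRestrict (Pi.single j 1)) := by
      simp [iX]
    rw [hi1]
    have hip : i ∘ₗ p = Matrix.toLin' E := by rw [hEdef, Matrix.toLin'_toMatrix']
    rw [hip]
    ext k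
    rw [hl]
    simp only [Pi.basisFun_apply, Matrix.toLin'_apply, Matrix.mulVec_single_one]
    show algebraMap A' A ((Matrix.toLin' E' (Pi.single j 1)) k) = _
    rw [Matrix.toLin'_apply, Matrix.mulVec_single_one, ← hE'2]
    rfl
  exact nonempty_linearEquiv_of_split iX pX i p h1 hi h2


/-- Let f : A' → A be a surjective ring homomorphism whose kernel is a nilpotent ideal. Then the induced
homomorphism of Picard groups Pic(A') → Pic(A), base change of invertible modules along f, is
bijective. -/
theorem result {A' A : Type u} [CommRing A'] [CommRing A]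
    (f : A' →+* A) (hf : Function.Surjective f) (hker : IsNilpotent (RingHom.ker f)) :
    Function.Bijective (CommRing.Pic.mapRingHom f) := by
  letI := f.toAlgebra
  have hf' : Function.Surjective (algebraMap A' A) := hf
  have hker' : IsNilpotent (RingHom.ker (algebraMap A' A)) := hker
  show Function.Bijective (CommRing.Pic.mapAlgebra A' A)
  constructor
  · rw [injective_iff_map_eq_one]
    intro M hM
    rw [CommRing.Pic.mapAlgebra_apply, CommRing.Pic.mk_eq_one_iff] at hM
    obtain ⟨φ⟩ := hM
    obtain ⟨ψ⟩ := nonempty_linearEquiv_of_baseChange hf' hker' M φ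
    rw [← CommRing.Pic.mk_eq_self (M := M), CommRing.Pic.mk_eq_one_iff]
    exact ⟨ψ⟩
  · intro M
    obtain ⟨M', _, _, _, _, ⟨eM⟩⟩ := exists_lift_projective hf' hker' M
    obtain ⟨N', _, _, _, _, ⟨eN⟩⟩ := exists_lift_projective hf' hker' (Module.Dual A M)
    let φ : A ⊗[A'] (M' ⊗[A'] N') ≃ₗ[A] A :=
      (TensorProduct.AlgebraTensorModule.distribBaseChange A' A M' N') ≪≫ₗ
      (TensorProduct.congr eM eN) ≪≫ₗ (TensorProduct.comm A M (Module.Dual A M)) ≪≫ₗ
      Module.Invertible.linearEquiv A M
    obtain ⟨ψ⟩ := nonempty_linearEquiv_of_baseChange hf' hker' (M' ⊗[A'] N') φ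
    haveI : Module.Invertible A' M' := Module.Invertible.left ψ
    refine ⟨CommRing.Pic.mk A' M', ?_⟩
    rw [CommRing.Pic.mapAlgebra_apply, CommRing.Pic.mk_eq_iff]
    exact ⟨TensorProduct.AlgebraTensorModule.congr (LinearEquiv.refl A A)
      (CommRing.Pic.mk.linearEquiv A' M') ≪≫ₗ eM⟩

end Groth.Agent.S15353
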