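import Groth.Statements.S15354
import Groth.Agent.S15347
-- import your own Groth.Agent.* helpers here

set_option autoImplicit false
universe u
open CategoryTheory CategoryTheory.Limits AlgebraicGeometry
open Mor

namespace Groth.Agent.S15354

/-- Let f : Y ⟶ X be a morphism of schemes, A a valuation ring with fraction field K and residue field
k, and ξ, η : Spec A ⟶ Y two A-points of Y over the same A-point of X. If ξ and η restrict to the
same K-point and to the same k-point of Y, then ξ = η. (The published statement is an equivalence,
for algebraic spaces locally of finite presentation over a Noetherian scheme, between local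
separatedness of f and conditions (a), (b); this row is the necessity of (a) in the case of schemes,
where no hypothesis on f is needed.) -/
theorem result {X Y : Scheme.{u}} (f : Y ⟶ X)
    (A : Type u) [CommRing A] [IsDomain A] [ValuationRing A] (K : Type u) [Field K] [Algebra A K]
    [IsFractionRing A K] (ξ η : Spec (CommRingCat.of A) ⟶ Y) (hf : ξ ≫ f = η ≫ f)
    (hK : Spec.map (CommRingCat.ofHom (algebraMap A K)) ≫ ξ = Spec.map (CommRingCat.ofHom (algebraMap A K)) ≫ η)
    (hk : Spec.map (CommRingCat.ofHom (IsLocalRing.residue A)) ≫ ξ =
      Spec.map (CommRingCat.ofHom (IsLocalRing.residue A)) ≫ η) :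
    ξ = η := by
  let S : ValuativeCommSq (equalizer.ι ξ η) :=
    { R := A, K := K,
      i₁ := equalizer.lift (Spec.map (CommRingCat.ofHom (algebraMap A K))) hK,
      i₂ := 𝟙 _,
      commSq := ⟨by rw [equalizer.lift_ι, Category.comp_id]⟩ }
  have hlift : S.commSq.HasLift :=
    (Groth.Agent.S15347.result (equalizer.ι ξ η)).1 S
      ⟨equalizer.lift (Spec.map (CommRingCat.ofHom (IsLocalRing.residue A))) hk, by
        rw [equalizer.lift_ι, Category.comp_id]⟩
  obtain ⟨l, _, hl₂⟩ := hlift.exists_lift
  have hl₂' : l ≫ equalizer.ι ξ η = 𝟙 _ := hl₂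
  calc ξ = (l ≫ equalizer.ι ξ η) ≫ ξ := by rw [hl₂', Category.id_comp]
    _ = (l ≫ equalizer.ι ξ η) ≫ η := by rw [Category.assoc, equalizer.condition, Category.assoc]
    _ = η := by rw [hl₂', Category.id_comp]

end Groth.Agent.S15354
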