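import Groth.Statements.S15360
import Mathlib
-- import your own Groth.Agent.* helpers here

set_option autoImplicit false
set_option linter.style.haveILetI false
set_option linter.unusedSectionVars false
universe u
open GalCoh

namespace Groth.Agent.S15360

open Matrix

section Alg

variable {p : ℕ} [Fact p.Prime]

/-- reduction of matrices mod `p` -/
noncomputable def Rd : Matrix (Fin 2) (Fin 2) ℤ_[p] →+* Matrix (Fin 2) (Fin 2) (ZMod p) :=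
  (PadicInt.toZMod (p := p)).mapMatrix

theorem Rd_apply (Z : Matrix (Fin 2) (Fin 2) ℤ_[p]) (i j : Fin 2) :
    Rd Z i j = PadicInt.toZMod (Z i j) := rfl

theorem toZMod_p : PadicInt.toZMod (p := p) (p : ℤ_[p]) = 0 := by
  rw [map_natCast]
  exact CharP.cast_eq_zero (ZMod p) p

theorem Rd_smul (x : ℤ_[p]) (Z : Matrix (Fin 2) (Fin 2) ℤ_[p]) :
    Rd (x • Z) = (PadicInt.toZMod x) • Rd Z := by
  ext i j
  rw [Rd_apply, Matrix.smul_apply, Matrix.smul_apply, Rd_apply, smul_eq_mul, smul_eq_mul, map_mul]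

theorem Rd_pow_smul (n : ℕ) (hn : 1 ≤ n) (Z : Matrix (Fin 2) (Fin 2) ℤ_[p]) :
    Rd (((p : ℤ_[p]) ^ n) • Z) = 0 := by
  rw [Rd_smul, map_pow, toZMod_p, zero_pow (by omega), zero_smul]

theorem Rd_eq_zero (Z : Matrix (Fin 2) (Fin 2) ℤ_[p]) (hZ : Rd Z = 0) :
    ∃ Z' : Matrix (Fin 2) (Fin 2) ℤ_[p], Z = (p : ℤ_[p]) • Z' := by
  have h : ∀ i j, ∃ z : ℤ_[p], Z i j = (p : ℤ_[p]) * z := by
    intro i j
    have h1 : PadicInt.toZMod (Z i j) = 0 := by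
      have := congrFun (congrFun hZ i) j
      rw [Rd_apply] at this
      exact this
    have h2 : Z i j ∈ RingHom.ker (PadicInt.toZMod (p := p)) := h1
    rw [PadicInt.ker_toZMod, PadicInt.maximalIdeal_eq_span_p, Ideal.mem_span_singleton] at h2
    exact h2
  choose z hz using h
  refine ⟨Matrix.of z, ?_⟩
  ext i j
  rw [Matrix.smul_apply, Matrix.of_apply, smul_eq_mul, hz]

theorem Rd_surjective : Function.Surjective (Rd (p := p)) := by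
  intro X
  choose z hz using fun i j => ZMod.ringHom_surjective (PadicInt.toZMod (p := p)) (X i j)
  exact ⟨Matrix.of z, by ext i j; rw [Rd_apply, Matrix.of_apply, hz]⟩

end Alg

section W

variable {p : ℕ} [Fact p.Prime] {𝔊 : Type u} [Group 𝔊] (ϕ : 𝔊 →* GL (Fin 2) ℤ_[p])

/-- the underlying matrix of `ϕ g` -/
noncomputable def mu (g : 𝔊) : Matrix (Fin 2) (Fin 2) ℤ_[p] :=
  ((ϕ g : GL (Fin 2) ℤ_[p]) : Matrix (Fin 2) (Fin 2) ℤ_[p])

theorem mu_one : mu ϕ 1 = 1 := by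
  unfold mu
  rw [map_one]
  rfl

theorem mu_mul (g h : 𝔊) : mu ϕ (g * h) = mu ϕ g * mu ϕ h := by
  unfold mu
  rw [map_mul]
  rfl

theorem mu_mul_inv (g : 𝔊) : mu ϕ g * mu ϕ g⁻¹ = 1 := by
  rw [← mu_mul, mul_inv_cancel, mu_one]

theorem mu_inv_mul (g : 𝔊) : mu ϕ g⁻¹ * mu ϕ g = 1 := by
  rw [← mu_mul, inv_mul_cancel, mu_one]

/-- the image of `H ∩ Γ_n` in `M₂(𝔽_p)` -/
def InW (n : ℕ) (X : Matrix (Fin 2) (Fin 2) (ZMod p)) : Prop :=
  ∃ (g : 𝔊) (Y : Matrix (Fin 2) (Fin 2) ℤ_[p]),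
    mu ϕ g = 1 + ((p : ℤ_[p]) ^ n) • Y ∧ Rd Y = X

theorem inW_zero (n : ℕ) : InW ϕ n 0 :=
  ⟨1, 0, by rw [mu_one, smul_zero, add_zero], map_zero _⟩

theorem inW_add (n : ℕ) (hn : 1 ≤ n) {X X' : Matrix (Fin 2) (Fin 2) (ZMod p)}
    (hX : InW ϕ n X) (hX' : InW ϕ n X') : InW ϕ n (X + X') := by
  obtain ⟨g, Y, hg, rfl⟩ := hX
  obtain ⟨g', Y', hg', rfl⟩ := hX'
  refine ⟨g * g', Y + Y' + ((p : ℤ_[p]) ^ n) • (Y * Y'), ?_, ?_⟩
  · rw [mu_mul, hg, hg']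
    simp only [mul_add, add_mul, one_mul, mul_one, smul_add, Matrix.smul_mul, Matrix.mul_smul]
    abel
  · rw [map_add, map_add, Rd_pow_smul n hn, add_zero]

theorem inW_nsmul (n : ℕ) (hn : 1 ≤ n) {X : Matrix (Fin 2) (Fin 2) (ZMod p)}
    (hX : InW ϕ n X) (m : ℕ) : InW ϕ n (m • X) := by
  induction m with
  | zero => rw [zero_smul]; exact inW_zero ϕ n
  | succ m ih => rw [succ_nsmul]; exact inW_add ϕ n hn ih hX

theorem inW_zmod_smul (n : ℕ) (hn : 1 ≤ n) {X : Matrix (Fin 2) (Fin 2) (ZMod p)}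
    (hX : InW ϕ n X) (c : ZMod p) : InW ϕ n (c • X) := by
  have : c • X = (c.val) • X := by
    rw [← Nat.cast_smul_eq_nsmul (ZMod p), ZMod.natCast_zmod_val]
  rw [this]
  exact inW_nsmul ϕ n hn hX _

theorem inW_neg (n : ℕ) (hn : 1 ≤ n) {X : Matrix (Fin 2) (Fin 2) (ZMod p)}
    (hX : InW ϕ n X) : InW ϕ n (-X) := by
  have : -X = (-1 : ZMod p) • X := by rw [neg_smul, one_smul]
  rw [this]
  exact inW_zmod_smul ϕ n hn hX _

theorem inW_sub (n : ℕ) (hn : 1 ≤ n) {X X' : Matrix (Fin 2) (Fin 2) (ZMod p)}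
    (hX : InW ϕ n X) (hX' : InW ϕ n X') : InW ϕ n (X - X') := by
  rw [sub_eq_add_neg]
  exact inW_add ϕ n hn hX (inW_neg ϕ n hn hX')

theorem Rd_mu_eq (g : 𝔊) :
    Rd (mu ϕ g) = ((Matrix.GeneralLinearGroup.map (n := Fin 2) (PadicInt.toZMod (p := p)) (ϕ g) :
      GL (Fin 2) (ZMod p)) : Matrix (Fin 2) (Fin 2) (ZMod p)) := by
  ext i j
  rw [Matrix.GeneralLinearGroup.map_apply]
  rfl

theorem inW_conj (n : ℕ)
    (hsurj : Function.Surjective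
      ((Matrix.GeneralLinearGroup.map (n := Fin 2) (PadicInt.toZMod (p := p))).comp ϕ))
    {X : Matrix (Fin 2) (Fin 2) (ZMod p)} (hX : InW ϕ n X) (u : GL (Fin 2) (ZMod p)) :
    InW ϕ n ((u : Matrix (Fin 2) (Fin 2) (ZMod p)) * X *
      ((u⁻¹ : GL (Fin 2) (ZMod p)) : Matrix (Fin 2) (Fin 2) (ZMod p))) := by
  obtain ⟨g, Y, hg, rfl⟩ := hX
  obtain ⟨gu, hgu⟩ := hsurj u
  rw [MonoidHom.comp_apply] at hgu
  refine ⟨gu * g * gu⁻¹, mu ϕ gu * Y * mu ϕ gu⁻¹, ?_, ?_⟩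
  · rw [mu_mul, mu_mul, hg, mul_add, add_mul, mul_one, mu_mul_inv, Matrix.mul_smul,
      Matrix.smul_mul]
  · rw [map_mul, map_mul, Rd_mu_eq, Rd_mu_eq, hgu, map_inv, map_inv, hgu]

/-- upper unipotent -/
def uU : GL (Fin 2) (ZMod p) :=
  ⟨!![1, 1; 0, 1], !![1, -1; 0, 1],
    by ext i j; fin_cases i <;> fin_cases j <;> simp [Matrix.mul_apply, Fin.sum_univ_two],
    by ext i j; fin_cases i <;> fin_cases j <;> simp [Matrix.mul_apply, Fin.sum_univ_two]⟩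

/-- lower unipotent -/
def uL : GL (Fin 2) (ZMod p) :=
  ⟨!![1, 0; 1, 1], !![1, 0; -1, 1],
    by ext i j; fin_cases i <;> fin_cases j <;> simp [Matrix.mul_apply, Fin.sum_univ_two],
    by ext i j; fin_cases i <;> fin_cases j <;> simp [Matrix.mul_apply, Fin.sum_univ_two]⟩

/-- swap -/
def uS : GL (Fin 2) (ZMod p) :=
  ⟨!![0, 1; 1, 0], !![0, 1; 1, 0],
    by ext i j; fin_cases i <;> fin_cases j <;> simp [Matrix.mul_apply, Fin.sum_univ_two],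
    by ext i j; fin_cases i <;> fin_cases j <;> simp [Matrix.mul_apply, Fin.sum_univ_two]⟩

theorem inW_all (n : ℕ) (hn : 1 ≤ n)
    (hsurj : Function.Surjective
      ((Matrix.GeneralLinearGroup.map (n := Fin 2) (PadicInt.toZMod (p := p))).comp ϕ))
    (a : ZMod p) (ha : a ≠ 0) (h11 : InW ϕ n !![a, 0; 0, 0])
    (X : Matrix (Fin 2) (Fin 2) (ZMod p)) : InW ϕ n X := by
  have hE11 : InW ϕ n !![1, 0; 0, 0] := by
    have := inW_zmod_smul ϕ n hn h11 a⁻¹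
    have h2 : a⁻¹ • (!![a, 0; 0, 0] : Matrix (Fin 2) (Fin 2) (ZMod p)) = !![1, 0; 0, 0] := by
      ext i j; fin_cases i <;> fin_cases j <;> simp [inv_mul_cancel₀ ha]
    rw [h2] at this
    exact this
  have hE12 : InW ϕ n !![0, 1; 0, 0] := by
    have h1 := inW_conj ϕ n hsurj hE11 uU
    have h2 : ((uU : GL (Fin 2) (ZMod p)) : Matrix (Fin 2) (Fin 2) (ZMod p)) * !![1, 0; 0, 0] *
        ((uU⁻¹ : GL (Fin 2) (ZMod p)) : Matrix (Fin 2) (Fin 2) (ZMod p)) = !![1, -1; 0, 0] := by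
      show (!![1, 1; 0, 1] : Matrix (Fin 2) (Fin 2) (ZMod p)) * !![1, 0; 0, 0] * !![1, -1; 0, 1] = _
      ext i j; fin_cases i <;> fin_cases j <;> simp [Matrix.mul_apply, Fin.sum_univ_two]
    rw [h2] at h1
    have h3 := inW_sub ϕ n hn hE11 h1
    have h4 : (!![1, 0; 0, 0] : Matrix (Fin 2) (Fin 2) (ZMod p)) - !![1, -1; 0, 0] =
        !![0, 1; 0, 0] := by
      ext i j; fin_cases i <;> fin_cases j <;> simp
    rw [h4] at h3
    exact h3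
  have hE21 : InW ϕ n !![0, 0; 1, 0] := by
    have h1 := inW_conj ϕ n hsurj hE11 uL
    have h2 : ((uL : GL (Fin 2) (ZMod p)) : Matrix (Fin 2) (Fin 2) (ZMod p)) * !![1, 0; 0, 0] *
        ((uL⁻¹ : GL (Fin 2) (ZMod p)) : Matrix (Fin 2) (Fin 2) (ZMod p)) = !![1, 0; 1, 0] := by
      show (!![1, 0; 1, 1] : Matrix (Fin 2) (Fin 2) (ZMod p)) * !![1, 0; 0, 0] * !![1, 0; -1, 1] = _
      ext i j; fin_cases i <;> fin_cases j <;> simp [Matrix.mul_apply, Fin.sum_univ_two]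
    rw [h2] at h1
    have h3 := inW_sub ϕ n hn h1 hE11
    have h4 : (!![1, 0; 1, 0] : Matrix (Fin 2) (Fin 2) (ZMod p)) - !![1, 0; 0, 0] =
        !![0, 0; 1, 0] := by
      ext i j; fin_cases i <;> fin_cases j <;> simp
    rw [h4] at h3
    exact h3
  have hE22 : InW ϕ n !![0, 0; 0, 1] := by
    have h1 := inW_conj ϕ n hsurj hE11 uS
    have h2 : ((uS : GL (Fin 2) (ZMod p)) : Matrix (Fin 2) (Fin 2) (ZMod p)) * !![1, 0; 0, 0] *
        ((uS⁻¹ : GL (Fin 2) (ZMod p)) : Matrix (Fin 2) (Fin 2) (ZMod p)) = !![0, 0; 0, 1] := by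
      show (!![0, 1; 1, 0] : Matrix (Fin 2) (Fin 2) (ZMod p)) * !![1, 0; 0, 0] * !![0, 1; 1, 0] = _
      ext i j; fin_cases i <;> fin_cases j <;> simp [Matrix.mul_apply, Fin.sum_univ_two]
    rw [h2] at h1
    exact h1
  have hX : X = X 0 0 • !![1, 0; 0, 0] + X 0 1 • !![0, 1; 0, 0] + X 1 0 • !![0, 0; 1, 0] +
      X 1 1 • !![0, 0; 0, 1] := by
    ext i j; fin_cases i <;> fin_cases j <;> simp
  rw [hX]
  exact inW_add ϕ n hn (inW_add ϕ n hn (inW_add ϕ n hn (inW_zmod_smul ϕ n hn hE11 _)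
    (inW_zmod_smul ϕ n hn hE12 _)) (inW_zmod_smul ϕ n hn hE21 _)) (inW_zmod_smul ϕ n hn hE22 _)

theorem Rd_coe (A : GL (Fin 2) ℤ_[p]) :
    Rd (A : Matrix (Fin 2) (Fin 2) ℤ_[p]) =
      ((Matrix.GeneralLinearGroup.map (n := Fin 2) (PadicInt.toZMod (p := p)) A :
        GL (Fin 2) (ZMod p)) : Matrix (Fin 2) (Fin 2) (ZMod p)) := by
  ext i j
  rw [Matrix.GeneralLinearGroup.map_apply]
  rfl

theorem toZMod_ne_zero {a : ℤ_[p]} (ha : ¬ ((p : ℤ_[p]) ∣ a)) : PadicInt.toZMod a ≠ 0 := by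
  intro h0
  have h2 : a ∈ RingHom.ker (PadicInt.toZMod (p := p)) := h0
  rw [PadicInt.ker_toZMod, PadicInt.maximalIdeal_eq_span_p, Ideal.mem_span_singleton] at h2
  exact ha h2

theorem approx
    (hsurj : Function.Surjective
      ((Matrix.GeneralLinearGroup.map (n := Fin 2) (PadicInt.toZMod (p := p))).comp ϕ))
    (hii : ∀ n : ℕ, 1 ≤ n → ∃ (g : 𝔊) (a b c d : ℤ_[p]), ¬ ((p : ℤ_[p]) ∣ a) ∧
          ((ϕ g : GL (Fin 2) ℤ_[p]) : Matrix (Fin 2) (Fin 2) ℤ_[p]) =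
            !![1 + (p : ℤ_[p]) ^ n * a, (p : ℤ_[p]) ^ (n + 1) * b;
               (p : ℤ_[p]) ^ (n + 1) * c, 1 + (p : ℤ_[p]) ^ (n + 1) * d])
    (A : GL (Fin 2) ℤ_[p]) (k : ℕ) :
    ∃ (g : 𝔊) (Z : Matrix (Fin 2) (Fin 2) ℤ_[p]),
      (A : Matrix (Fin 2) (Fin 2) ℤ_[p]) = mu ϕ g * (1 + ((p : ℤ_[p]) ^ (k + 1)) • Z) := by
  induction k with
  | zero =>
    obtain ⟨g₀, hg₀⟩ := hsurj (Matrix.GeneralLinearGroup.map (PadicInt.toZMod (p := p)) A)
    rw [MonoidHom.comp_apply] at hg₀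
    have h1 : Rd (mu ϕ g₀⁻¹ * (A : Matrix (Fin 2) (Fin 2) ℤ_[p]) - 1) = 0 := by
      rw [map_sub, map_mul, map_one, Rd_mu_eq, Rd_coe, map_inv, map_inv, hg₀, ← Units.val_mul,
        inv_mul_cancel, Units.val_one, sub_self]
    obtain ⟨Z, hZ⟩ := Rd_eq_zero _ h1
    refine ⟨g₀, Z, ?_⟩
    rw [zero_add, pow_one, ← hZ, add_sub_cancel, ← mul_assoc, mu_mul_inv, one_mul]
  | succ k ih =>
    obtain ⟨g, Z, hgZ⟩ := ih
    obtain ⟨g', a, b, c, d, ha, hg'⟩ := hii (k + 1) (by omega)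
    have h11 : InW ϕ (k + 1) !![PadicInt.toZMod a, 0; 0, 0] := by
      refine ⟨g', !![a, (p : ℤ_[p]) * b; (p : ℤ_[p]) * c, (p : ℤ_[p]) * d], ?_, ?_⟩
      · show ((ϕ g' : GL (Fin 2) ℤ_[p]) : Matrix (Fin 2) (Fin 2) ℤ_[p]) = _
        rw [hg']
        ext i j
        fin_cases i <;> fin_cases j <;> simp [pow_succ, mul_assoc]
      · ext i j
        fin_cases i <;> fin_cases j <;> simp [Rd_apply]
    obtain ⟨h, Y, hh, hY⟩ := inW_all ϕ (k + 1) (by omega) hsurj _ (toZMod_ne_zero ha) h11 (Rd Z)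
    have h0 : Rd (Z - Y) = 0 := by rw [map_sub, hY, sub_self]
    obtain ⟨Z'', hZ''⟩ := Rd_eq_zero _ h0
    refine ⟨g * h, mu ϕ h⁻¹ * Z'', ?_⟩
    have hZ : Z = Y + (p : ℤ_[p]) • Z'' := by rw [← hZ'', add_sub_cancel]
    rw [hgZ, mu_mul, mul_assoc]
    congr 1
    rw [mul_add, mul_one, Matrix.mul_smul, ← mul_assoc, mu_mul_inv, one_mul, hh, hZ, smul_add,
      smul_smul, ← pow_succ]
    exact (add_assoc _ _ _).symm

end W

section Top

variable {p : ℕ} [Fact p.Prime] {𝔊 : Type u} [Group 𝔊] [TopologicalSpace 𝔊] [CompactSpace 𝔊]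
  (ϕ : 𝔊 →* GL (Fin 2) ℤ_[p])

theorem mem_range_of_approx (hϕ : Continuous (mu ϕ)) (A : Matrix (Fin 2) (Fin 2) ℤ_[p])
    (h : ∀ k : ℕ, ∃ (g : 𝔊) (Z : Matrix (Fin 2) (Fin 2) ℤ_[p]),
      A = mu ϕ g * (1 + ((p : ℤ_[p]) ^ (k + 1)) • Z)) : A ∈ Set.range (mu ϕ) := by
  have hclosed : IsClosed (Set.range (mu ϕ)) := (isCompact_range hϕ).isClosed
  choose g Z hgZ using h
  have hdiff : ∀ k i j, ‖mu ϕ (g k) i j - A i j‖ ≤ (p : ℝ) ^ (-((k + 1 : ℕ) : ℤ)) := by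
    intro k i j
    rw [PadicInt.norm_le_pow_iff_mem_span_pow, Ideal.mem_span_singleton]
    refine ⟨-(mu ϕ (g k) * Z k) i j, ?_⟩
    have h1 : A = mu ϕ (g k) + ((p : ℤ_[p]) ^ (k + 1)) • (mu ϕ (g k) * Z k) := by
      conv_lhs => rw [hgZ k]
      rw [mul_add, mul_one, Matrix.mul_smul]
    have h2 : A i j = mu ϕ (g k) i j + (p : ℤ_[p]) ^ (k + 1) * (mu ϕ (g k) * Z k) i j := by
      conv_lhs => rw [h1]
      rw [Matrix.add_apply, Matrix.smul_apply, smul_eq_mul]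
    rw [h2]
    ring
  have htends : Filter.Tendsto (fun k => mu ϕ (g k)) Filter.atTop (nhds A) := by
    refine tendsto_pi_nhds.mpr (fun i => tendsto_pi_nhds.mpr (fun j => ?_))
    rw [tendsto_iff_norm_sub_tendsto_zero]
    have hp1 : (1 : ℝ) < p := by exact_mod_cast (Fact.out : p.Prime).one_lt
    have hlim : Filter.Tendsto (fun k : ℕ => (p : ℝ) ^ (-((k + 1 : ℕ) : ℤ))) Filter.atTop
        (nhds 0) := by
      have h1 : ∀ k : ℕ, (p : ℝ) ^ (-((k + 1 : ℕ) : ℤ)) = ((p : ℝ)⁻¹) ^ (k + 1) := by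
        intro k
        rw [_root_.zpow_neg, zpow_natCast, inv_pow]
      simp_rw [h1]
      have h2 := tendsto_pow_atTop_nhds_zero_of_lt_one (r := (p : ℝ)⁻¹)
        (inv_nonneg.mpr (by positivity)) (inv_lt_one_of_one_lt₀ hp1)
      exact h2.comp (Filter.tendsto_add_atTop_nat 1)
    exact squeeze_zero (fun k => norm_nonneg _) (fun k => hdiff k i j) hlim
  exact hclosed.mem_of_tendsto htends (Filter.Eventually.of_forall fun k => Set.mem_range_self _)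

end Top

section Fwd

variable {p : ℕ} [Fact p.Prime]

theorem isUnit_of_toZMod_ne_zero {x : ℤ_[p]} (hx : PadicInt.toZMod x ≠ 0) : IsUnit x := by
  by_contra hnu
  have h1 : x ∈ IsLocalRing.maximalIdeal ℤ_[p] := (IsLocalRing.mem_maximalIdeal x).mpr hnu
  rw [← PadicInt.ker_toZMod] at h1
  exact hx h1

theorem toZMod_det (U : Matrix (Fin 2) (Fin 2) ℤ_[p]) :
    PadicInt.toZMod U.det = (Rd U).det := by
  unfold Rd
  rw [RingHom.map_det]

theorem map_surjective :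
    Function.Surjective (Matrix.GeneralLinearGroup.map (n := Fin 2) (PadicInt.toZMod (p := p))) := by
  intro u
  obtain ⟨U₀, hU₀⟩ := Rd_surjective (p := p) (u : Matrix (Fin 2) (Fin 2) (ZMod p))
  have hdet : IsUnit U₀.det := by
    apply isUnit_of_toZMod_ne_zero
    rw [toZMod_det, hU₀]
    have := (Matrix.isUnit_iff_isUnit_det (u : Matrix (Fin 2) (Fin 2) (ZMod p))).mp u.isUnit
    exact this.ne_zero
  refine ⟨Matrix.GeneralLinearGroup.mk'' U₀ hdet, ?_⟩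
  apply Units.ext
  rw [← Rd_coe, ← hU₀]
  rfl

end Fwd


/-- Let 𝔊 be a profinite group and ϕ : 𝔊 → GL₂(ℤ_p) a continuous homomorphism. Then ϕ is surjective if
and only if (i) the composite of ϕ with reduction modulo p, 𝔊 → GL₂(𝔽_p), is surjective, and (ii)
for every integer n ≥ 1 there is g ∈ 𝔊 such that ϕ(g) has the form [[1 + pⁿa, pⁿ⁺¹b], [pⁿ⁺¹c, 1 +
pⁿ⁺¹d]] with a, b, c, d ∈ ℤ_p and a not divisible by p (equivalently: the image of ϕ⁻¹(1 +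
pⁿM₂(ℤ_p)) in M₂(𝔽_p) under g ↦ (ϕ(g) − 1)/pⁿ contains a matrix [[x, 0], [0, 0]] with x ≠ 0).
Continuity of ϕ is expressed through its matrix entries. -/
theorem result (p : ℕ) [Fact p.Prime]
    (𝔊 : Type u) [Group 𝔊] [TopologicalSpace 𝔊] [IsTopologicalGroup 𝔊] [CompactSpace 𝔊] [T2Space 𝔊]
    [TotallyDisconnectedSpace 𝔊]
    (ϕ : 𝔊 →* GL (Fin 2) ℤ_[p])
    (hϕ : Continuous fun g => ((ϕ g : GL (Fin 2) ℤ_[p]) : Matrix (Fin 2) (Fin 2) ℤ_[p])) :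
    Function.Surjective ϕ ↔
      (Function.Surjective ((Matrix.GeneralLinearGroup.map (n := Fin 2) (PadicInt.toZMod (p := p))).comp ϕ) ∧
        ∀ n : ℕ, 1 ≤ n → ∃ (g : 𝔊) (a b c d : ℤ_[p]), ¬ ((p : ℤ_[p]) ∣ a) ∧
          ((ϕ g : GL (Fin 2) ℤ_[p]) : Matrix (Fin 2) (Fin 2) ℤ_[p]) =
            !![1 + (p : ℤ_[p]) ^ n * a, (p : ℤ_[p]) ^ (n + 1) * b;
               (p : ℤ_[p]) ^ (n + 1) * c, 1 + (p : ℤ_[p]) ^ (n + 1) * d]) := by
  constructor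
  · intro hs
    refine ⟨?_, ?_⟩
    · rw [MonoidHom.coe_comp]
      exact map_surjective.comp hs
    · intro n hn
      have hdet : IsUnit (!![1 + (p : ℤ_[p]) ^ n, 0; 0, 1] : Matrix (Fin 2) (Fin 2) ℤ_[p]).det := by
        apply isUnit_of_toZMod_ne_zero
        rw [Matrix.det_fin_two_of, mul_one, mul_zero, sub_zero, map_add, map_one, map_pow,
          toZMod_p, zero_pow (by omega), add_zero]
        exact one_ne_zero
      obtain ⟨g, hg⟩ := hs (Matrix.GeneralLinearGroup.mk'' _ hdet)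
      refine ⟨g, 1, 0, 0, 0, ?_, ?_⟩
      · intro hdvd
        exact PadicInt.p_nonunit (isUnit_of_dvd_one hdvd)
      · rw [hg]
        show (!![1 + (p : ℤ_[p]) ^ n, 0; 0, 1] : Matrix (Fin 2) (Fin 2) ℤ_[p]) = _
        simp
  · rintro ⟨hsurj, hii⟩ A
    have h := mem_range_of_approx ϕ hϕ (A : Matrix (Fin 2) (Fin 2) ℤ_[p])
      (fun k => approx ϕ hsurj hii A k)
    obtain ⟨g, hg⟩ := h
    exact ⟨g, Units.ext hg⟩

end Groth.Agent.S15360
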