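import Groth.Statements.S15362
import Mathlib
import Groth.Agent.Lib.Helper22SigmaLin

set_option autoImplicit false
universe u v w
open CAlg

namespace Groth.Agent.S15362

/-- For an algebraically closed field L of characteristic p > 0, a commutative L-algebra R integral over
L, and a finitely presented R-module M carrying an additive endomorphism φ with φ(r·m) = r^p·φ(m)
for r ∈ R, m ∈ M, the map m ↦ φ(m) − m is onto. (R is taken of exponential characteristic p so that
its Frobenius is a ring endomorphism; for a non-zero L-algebra this is automatic.) -/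
theorem result (p : ℕ) [Fact p.Prime]
    (L : Type u) [Field L] [IsAlgClosed L] [CharP L p]
    (R : Type v) [CommRing R] [Algebra L R] [Algebra.IsIntegral L R] [ExpChar R p]
    (M : Type w) [AddCommGroup M] [Module R M] [Module.FinitePresentation R M]
    (φ : M →ₛₗ[frobenius R p] M) :
    Function.Surjective fun m : M => φ m - m := by
  classical
  intro w
  letI : Module L M := Module.compHom M (algebraMap L R)
  have hst : IsScalarTower L R M := IsScalarTower.of_algebraMap_smul (fun r m => rfl)
  have hfin : Module.Finite R M := inferInstance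
  obtain ⟨s, hs⟩ := hfin.fg_top
  have hmem : ∀ x : M, x ∈ Submodule.span R (s : Set M) := fun x => by rw [hs]; trivial
  -- coefficient functions
  have hco : ∀ x : M, ∃ f : M → R, ∑ a ∈ s, f a • a = x := by
    intro x
    obtain ⟨f, -, hf⟩ := Submodule.mem_span_finset.mp (hmem x)
    exact ⟨f, hf⟩
  choose co hco' using hco
  -- finite set of coefficients
  let S : Set R := (⋃ y ∈ s, ⋃ z ∈ s, {co (φ y) z}) ∪ (⋃ z ∈ s, {co w z})
  have hSfin : S.Finite := by
    refine Set.Finite.union ?_ ?_
    · exact Set.Finite.biUnion s.finite_toSet (fun y _ =>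
        Set.Finite.biUnion s.finite_toSet (fun z _ => Set.finite_singleton _))
    · exact Set.Finite.biUnion s.finite_toSet (fun z _ => Set.finite_singleton _)
  let A : Subalgebra L R := Algebra.adjoin L S
  have hAfg : (Subalgebra.toSubmodule A).FG :=
    fg_adjoin_of_finite hSfin (fun x _ => Algebra.IsIntegral.isIntegral x)
  have hAfin : Module.Finite L A := Module.Finite.iff_fg.mpr hAfg
  have hcoφ : ∀ y ∈ s, ∀ z ∈ s, co (φ y) z ∈ A := fun y hy z hz =>
    Algebra.subset_adjoin (Or.inl (by
      simp only [Set.mem_iUnion, Set.mem_singleton_iff, exists_prop]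
      exact ⟨y, hy, z, hz, rfl⟩))
  have hcow : ∀ z ∈ s, co w z ∈ A := fun z hz =>
    Algebra.subset_adjoin (Or.inr (by
      simp only [Set.mem_iUnion, Set.mem_singleton_iff, exists_prop]
      exact ⟨z, hz, rfl⟩))
  -- the L-linear map
  let Φ : (↥s → ↥A) →ₗ[L] M :=
    { toFun := fun g => ∑ y : ↥s, ((g y : R)) • (y : M)
      map_add' := fun g h => by
        simp only [Pi.add_apply, Subalgebra.coe_add, add_smul, Finset.sum_add_distrib]
      map_smul' := fun c g => by
        simp only [Pi.smul_apply, Subalgebra.coe_smul, RingHom.id_apply, Finset.smul_sum,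
          smul_assoc] }
  have hΦ : ∀ g, Φ g = ∑ y : ↥s, ((g y : R)) • (y : M) := fun g => rfl
  let V : Submodule L M := LinearMap.range Φ
  have hVfin : FiniteDimensional L V := LinearMap.finiteDimensional_range Φ
  have hmemV : ∀ (c : M → R), (∀ z ∈ s, c z ∈ A) → ∑ z ∈ s, c z • z ∈ V := by
    intro c hc
    refine ⟨fun z => ⟨c z, hc z z.2⟩, ?_⟩
    rw [hΦ]
    exact (Finset.sum_coe_sort s (fun z => c z • z))
  have hwV : w ∈ V := by
    rw [← hco' w]
    exact hmemV _ hcow
  have hφV : ∀ v ∈ V, φ v ∈ V := by
    rintro _ ⟨g, rfl⟩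
    rw [hΦ, map_sum]
    have h1 : ∀ y : ↥s, φ ((g y : R) • (y : M)) =
        ∑ z ∈ s, ((g y : R) ^ p * co (φ y) z) • z := by
      intro y
      rw [φ.map_smulₛₗ, frobenius_def]
      conv_lhs => rw [← hco' (φ y), Finset.smul_sum]
      refine Finset.sum_congr rfl (fun z _ => ?_)
      rw [smul_smul]
    rw [Finset.sum_congr rfl (fun y _ => h1 y), Finset.sum_comm]
    have h2 : ∀ z ∈ s, ∑ y : ↥s, ((g y : R) ^ p * co (φ y) z) • z =
        (∑ y : ↥s, ((g y : R) ^ p * co (φ y) z)) • z := fun z _ => (Finset.sum_smul).symm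
    rw [Finset.sum_congr rfl h2]
    refine hmemV (fun z => ∑ y : ↥s, ((g y : R) ^ p * co (φ y) z)) ?_
    intro z hz
    refine Subalgebra.sum_mem _ (fun y _ => ?_)
    exact Subalgebra.mul_mem _ (Subalgebra.pow_mem _ (g y).2 _) (hcoφ y y.2 z hz)
  -- the restricted additive map
  let F : V →+ V :=
    { toFun := fun v => ⟨φ v, hφV v v.2⟩
      map_zero' := by apply Subtype.ext; simp
      map_add' := fun a b => by apply Subtype.ext; simp }
  have hF : ∀ (c : L) (v : V), F (c • v) = c ^ p • F v := by
    intro c v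
    apply Subtype.ext
    show φ (c • (v : M)) = c ^ p • φ (v : M)
    have e1 : c • (v : M) = (algebraMap L R c) • (v : M) := rfl
    have e2 : c ^ p • φ (v : M) = (algebraMap L R (c ^ p)) • φ (v : M) := rfl
    rw [e1, e2, φ.map_smulₛₗ, frobenius_def, map_pow]
  obtain ⟨v, hv⟩ := Groth.Agent.Lib.Helper22.SigmaLin.frob_sub_id_surjective p F hF ⟨w, hwV⟩
  refine ⟨v, ?_⟩
  have := congrArg Subtype.val hv
  simpa [F] using this

end Groth.Agent.S15362
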