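import Groth.Statements.S15364
import Mathlib
import Groth.Agent.Lib.Helper11RigidBaseI

set_option autoImplicit false
universe u
open CategoryTheory CategoryTheory.Limits MonoidalCategory CartesianMonoidalCategory AlgebraicGeometry
open AbSch

namespace Groth.Agent.S15364

open MonObj GrpObj


/-- For an abelian scheme f : A → T (a commutative T-group scheme, proper and smooth over T with
geometrically connected fibres) and a commutative group scheme H finite and locally free over T, the
adjunction map H → f_* f^* H of fppf sheaves on T is an isomorphism, i.e. for every T-scheme U the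
map H(U) → H(A ×_T U), s ↦ s ∘ pr, is bijective. This row states the case U = T, to which the
general case reduces by base change: composition with the structure morphism A → T is a bijection
from the sections of H over T onto the T-morphisms A → H. The group structure of H plays no role and
is not assumed. (The published statement has an arbitrary base T; the published argument rests on
the rigidity lemma in its form for Noetherian schemes, so T is taken locally Noetherian here.) -/
theorem result {T : Scheme.{u}} [IsLocallyNoetherian T]
    (A : Over T) [GrpObj A] [IsCommMonObj A] [IsProper A.hom] [Smooth A.hom] [GeometricallyConnected A.hom]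
    (H : Over T) [IsFinite H.hom] [Flat H.hom] [LocallyOfFinitePresentation H.hom] :
    Function.Bijective fun s : (𝟙_ (Over T) ⟶ H) => toUnit A ≫ s := by
  have hc : ∀ t : T, ConnectedSpace (Red.geomFibre t A).left := fun t =>
    Groth.Agent.Lib.Helper11RigidBase.connectedSpace_geomFibre A t
  have h0 : ∀ t : T, Function.Bijective
      (pullback.snd A.hom (T.fromSpecResidueField t)).appTop.hom := fun t =>
    Groth.Agent.Lib.Helper11RigidBase.bijective_appTop_of_smooth_proper A t (hc t)
  have hLN : IsLocallyNoetherian A.left := LocallyOfFiniteType.isLocallyNoetherian A.hom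
  have hηu : η[A] ≫ toUnit A = 𝟙 _ := toUnit_unique _ _
  constructor
  · intro s s' h
    have h1 := congrArg (fun m => η[A] ≫ m) h
    simp only [← Category.assoc, hηu, Category.id_comp] at h1
    exact h1
  · intro φ
    refine ⟨η[A] ≫ φ, ?_⟩
    have hε : (η[A]).left ≫ A.hom = 𝟙 T := Over.w η[A]
    have hq : φ.left ≫ H.hom = A.hom ≫ (η[A]).left ≫ φ.left ≫ H.hom := by
      rw [Over.w φ, hε, Category.comp_id]
    obtain ⟨-, hloc⟩ := Groth.Agent.Lib.Helper11RigidBase.rigidity_section A.hom
      A.hom.isClosedMap (η[A]).left hε φ.left H.hom hq (fun t => (h0 t).2)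
    have hcol : ∀ t : T, ∀ x₁ x₂ : A.left, A.hom.base x₁ = t → A.hom.base x₂ = t →
        φ.left.base x₁ = φ.left.base x₂ := by
      intro t x₁ x₂ h1 h2
      have hpre := Groth.Agent.Lib.Helper11RigidBase.isPreconnected_fibre A hc t
      have himg : _root_.IsPreconnected (φ.left.base '' (A.hom.base ⁻¹' {t})) :=
        hpre.image _ φ.left.continuous.continuousOn
      have hdisc : _root_.IsDiscrete (H.hom.base ⁻¹' {t}) := Scheme.Hom.isDiscrete_preimage_singleton H.hom t
      have : DiscreteTopology ↥(H.hom.base ⁻¹' {t}) := hdisc.to_subtype
      have htd : IsTotallyDisconnected (H.hom.base ⁻¹' {t}) :=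
        totallyDisconnectedSpace_subtype_iff.mp inferInstance
      have hsub : φ.left.base '' (A.hom.base ⁻¹' {t}) ⊆ H.hom.base ⁻¹' {t} := by
        rintro _ ⟨x, hx, rfl⟩
        have := congr($(Over.w φ).base x)
        exact this.trans hx
      exact htd _ hsub himg ⟨x₁, h1, rfl⟩ ⟨x₂, h2, rfl⟩
    have key : φ.left = A.hom ≫ (η[A]).left ≫ φ.left :=
      Groth.Agent.Lib.Helper11RigidBase.eq_of_forall_exists_open _ _
        (fun x => hloc x (hcol (A.hom.base x)))
    ext
    have hunitA : (toUnit A).left = A.hom := by
      have := Over.w (toUnit A)
      rw [← this]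
      exact (Category.comp_id _).symm
    simp only [Over.comp_left]
    rw [hunitA]
    exact key.symm

end Groth.Agent.S15364
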