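import Groth.Statements.S15365
import Mathlib

set_option autoImplicit false
universe u
open scoped BigOperators
open CAlg

namespace Groth.Agent.S15365

open MvPolynomial

section
variable (p : ℕ) [Fact p.Prime] (A : Type u) [CommRing A] [CharP A p] (n : ℕ)
  (h : Matrix (Fin n) (Fin n) A)

noncomputable abbrev rel (j : Fin n) : MvPolynomial (Fin n) A :=
  (X j : MvPolynomial (Fin n) A) ^ p - ∑ i : Fin n, C (h i j) * X i

noncomputable abbrev Iid : Ideal (MvPolynomial (Fin n) A) := Ideal.span (Set.range (rel p A n h))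

/-- (⇒) -/
lemma isUnit_of_unramified
    [Algebra.FormallyUnramified A (MvPolynomial (Fin n) A ⧸ Iid p A n h)] : IsUnit h.det := by
  classical
  by_contra hdet
  obtain ⟨m, hm, hdm⟩ := exists_max_ideal_of_mem_nonunits (mem_nonunits_iff.2 hdet)
  haveI := hm
  letI : Field (A ⧸ m) := Ideal.Quotient.field m
  set κ := A ⧸ m
  set hb : Matrix (Fin n) (Fin n) κ := h.map (Ideal.Quotient.mk m) with hhb
  have hdet0 : hb.det = 0 := by
    have : hb = (Ideal.Quotient.mk m).mapMatrix h := rfl
    rw [this, ← RingHom.map_det]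
    exact Ideal.Quotient.eq_zero_iff_mem.2 hdm
  obtain ⟨v, hv0, hv⟩ := Matrix.exists_vecMul_eq_zero_iff.2 hdet0
  let T := TrivSqZeroExt κ κ
  have hp2 : 2 ≤ p := (Fact.out : p.Prime).two_le
  have hinrpow : ∀ a : κ, (TrivSqZeroExt.inr a : T) ^ p = 0 := by
    intro a
    obtain ⟨k, rfl⟩ := Nat.exists_eq_add_of_le hp2
    rw [pow_add, pow_two, TrivSqZeroExt.inr_mul_inr, zero_mul]
  let ψ₁ : MvPolynomial (Fin n) A →ₐ[A] T := aeval (fun i => (TrivSqZeroExt.inr (v i) : T))
  let ψ₂ : MvPolynomial (Fin n) A →ₐ[A] T := aeval (fun _ => (0 : T))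
  have hψ₁ : ∀ a ∈ Iid p A n h, ψ₁ a = 0 := by
    intro a ha
    have hle : Iid p A n h ≤ RingHom.ker (ψ₁ : MvPolynomial (Fin n) A →+* T) := by
      rw [Ideal.span_le]
      rintro _ ⟨j, rfl⟩
      rw [SetLike.mem_coe, RingHom.mem_ker]
      show ψ₁ (rel p A n h j) = 0
      simp only [rel, ψ₁, map_sub, map_pow, aeval_X, map_sum, map_mul, aeval_C]
      rw [hinrpow, zero_sub, neg_eq_zero]
      have hterm : ∀ i : Fin n, algebraMap A T (h i j) * (TrivSqZeroExt.inr (v i) : T)
          = TrivSqZeroExt.inr (v i * hb i j) := by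
        intro i
        have : algebraMap A T (h i j) = TrivSqZeroExt.inl (Ideal.Quotient.mk m (h i j)) := rfl
        rw [this, TrivSqZeroExt.inl_mul_inr, smul_eq_mul, mul_comm]
        rfl
      simp_rw [hterm]
      rw [← TrivSqZeroExt.inr_sum]
      have := congrFun hv j
      simp only [Matrix.vecMul, dotProduct, Pi.zero_apply] at this
      rw [this, TrivSqZeroExt.inr_zero]
    exact hle ha
  have hψ₂ : ∀ a ∈ Iid p A n h, ψ₂ a = 0 := by
    intro a ha
    have hle : Iid p A n h ≤ RingHom.ker (ψ₂ : MvPolynomial (Fin n) A →+* T) := by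
      rw [Ideal.span_le]
      rintro _ ⟨j, rfl⟩
      rw [SetLike.mem_coe, RingHom.mem_ker]
      show ψ₂ (rel p A n h j) = 0
      simp only [rel, ψ₂, map_sub, map_pow, aeval_X, map_sum, map_mul, aeval_C]
      rw [zero_pow (by omega : p ≠ 0)]
      simp
    exact hle ha
  let φ₁ : (MvPolynomial (Fin n) A ⧸ Iid p A n h) →ₐ[A] T := Ideal.Quotient.liftₐ _ ψ₁ hψ₁
  let φ₂ : (MvPolynomial (Fin n) A ⧸ Iid p A n h) →ₐ[A] T := Ideal.Quotient.liftₐ _ ψ₂ hψ₂
  have hker : IsNilpotent (RingHom.ker ((TrivSqZeroExt.fstHom A κ κ : T →ₐ[A] κ) : T →+* κ)) := by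
    refine ⟨2, ?_⟩
    have key : ∀ (I : Ideal T), (∀ x ∈ I, ∀ y ∈ I, x * y = 0) → I ^ 2 = 0 := by
      intro I hI
      rw [sq, Ideal.zero_eq_bot, eq_bot_iff, Ideal.mul_le]
      intro x hx y hy; rw [Ideal.mem_bot]; exact hI x hx y hy
    refine key _ ?_
    intro x hx y hy
    rw [RingHom.mem_ker] at hx hy
    have hx' : x.fst = 0 := hx
    have hy' : y.fst = 0 := hy
    apply TrivSqZeroExt.ext
    · rw [TrivSqZeroExt.fst_mul, hx', zero_mul, TrivSqZeroExt.fst_zero]
    · rw [TrivSqZeroExt.snd_mul, hx', hy', zero_smul, MulOpposite.op_zero, zero_smul, add_zero,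
        TrivSqZeroExt.snd_zero]
  have heq : φ₁ = φ₂ := by
    apply Algebra.FormallyUnramified.ext' _ hker
    have hcomp : (TrivSqZeroExt.fstHom A κ κ : T →ₐ[A] κ).comp φ₁
        = (TrivSqZeroExt.fstHom A κ κ : T →ₐ[A] κ).comp φ₂ := by
      apply Ideal.Quotient.algHom_ext
      apply MvPolynomial.algHom_ext
      intro i
      simp [φ₁, φ₂, ψ₁, ψ₂]
    intro x
    exact AlgHom.congr_fun hcomp x
  apply hv0
  funext i
  have h1 := AlgHom.congr_fun heq (Ideal.Quotient.mk _ (X i))
  have h2 : φ₁ (Ideal.Quotient.mk _ (X i)) = TrivSqZeroExt.inr (v i) := by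
    simp [φ₁, ψ₁]
  have h3 : φ₂ (Ideal.Quotient.mk _ (X i)) = 0 := by
    simp [φ₂, ψ₂]
  rw [h2, h3] at h1
  have := congrArg TrivSqZeroExt.snd h1
  simpa using this

/-- (⇐) -/
lemma etale_of_isUnit (hu : IsUnit h.det) :
    Algebra.Etale A (MvPolynomial (Fin n) A ⧸ Iid p A n h) := by
  classical
  let P0 : Algebra.Presentation A (MvPolynomial (Fin n) A ⧸ Iid p A n h) (Fin n) (Fin n) :=
    Algebra.Presentation.naive (v := rel p A n h)
  let P1 : Algebra.PreSubmersivePresentation A (MvPolynomial (Fin n) A ⧸ Iid p A n h) (Fin n) (Fin n) :=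
    { toPresentation := P0
      map := id
      map_inj := Function.injective_id }
  haveI : CharP (MvPolynomial (Fin n) A) p := inferInstance
  have hjac : P1.jacobiMatrix = - (h.map (C : A →+* MvPolynomial (Fin n) A)) := by
    apply Matrix.ext
    intro i j
    rw [Algebra.PreSubmersivePresentation.jacobiMatrix_apply]
    show pderiv (id i) (rel p A n h j) = _
    simp only [rel, id, map_sub, map_sum, Derivation.leibniz, pderiv_C, Derivation.leibniz_pow,
      pderiv_X, smul_zero, add_zero]
    have hp0 : ((p : ℕ) : MvPolynomial (Fin n) A) = 0 := CharP.cast_eq_zero _ p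
    simp only [nsmul_eq_mul, hp0, zero_mul, smul_zero, mul_zero, zero_sub, Matrix.neg_apply,
      Matrix.map_apply, smul_eq_mul, neg_inj]
    rw [Finset.sum_eq_single i]
    · simp
    · intro b _ hb
      simp [Pi.single_apply, hb]
    · intro hi; exact absurd (Finset.mem_univ i) hi
  have hdet : IsUnit P1.jacobian := by
    rw [Algebra.PreSubmersivePresentation.jacobian_eq_jacobiMatrix_det, hjac, Matrix.det_neg]
    apply IsUnit.map
    apply IsUnit.mul
    · exact (isUnit_one.neg).pow _
    · have : (h.map (C : A →+* MvPolynomial (Fin n) A)).det = C h.det := by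
        have : h.map (C : A →+* MvPolynomial (Fin n) A) = (C : A →+* MvPolynomial (Fin n) A).mapMatrix h := rfl
        rw [this, ← RingHom.map_det]
      rw [this]
      exact hu.map C
  let P2 : Algebra.SubmersivePresentation A (MvPolynomial (Fin n) A ⧸ Iid p A n h) (Fin n) (Fin n) :=
    { toPreSubmersivePresentation := P1
      jacobian_isUnit := hdet }
  have hdim : P2.dimension = 0 := by
    simp [Algebra.Presentation.dimension]
  haveI : Algebra.IsStandardSmoothOfRelativeDimension 0 A (MvPolynomial (Fin n) A ⧸ Iid p A n h) :=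
    P2.isStandardSmoothOfRelativeDimension hdim
  infer_instance

end


/-- Let A be a commutative ring of characteristic p > 0 and (h_{ij})_{1 ≤ i,j ≤ n} a square matrix over
A, the matrix of a commutative p-Lie algebra (L, φ) with L free with basis e_1, …, e_n and φ(e_j) =
Σ_i h_{ij} e_i. The associated finite group scheme Spec A[X_1, …, X_n]/(X_j^p − Σ_i h_{ij} X_i)_{1 ≤
j ≤ n} is étale over A if and only if the matrix (h_{ij}) is invertible, i.e. its determinant is a
unit of A. Only the algebra structure enters this assertion. -/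
theorem result (p : ℕ) [Fact p.Prime]
    (A : Type u) [CommRing A] [CharP A p] (n : ℕ) (h : Matrix (Fin n) (Fin n) A) :
    Algebra.Etale A (MvPolynomial (Fin n) A ⧸ Ideal.span (Set.range fun j : Fin n =>
        (MvPolynomial.X j : MvPolynomial (Fin n) A) ^ p -
          ∑ i : Fin n, MvPolynomial.C (h i j) * MvPolynomial.X i)) ↔
      IsUnit h.det := by
  constructor
  · intro he
    exact isUnit_of_unramified p A n h
  · intro hu
    exact etale_of_isUnit p A n h hu

end Groth.Agent.S15365
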