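import Groth.Statements.S15366
import Mathlib

set_option autoImplicit false
universe u
open CAlg

namespace Groth.Agent.S15366

/-- Let k be an algebraically closed field of characteristic p > 0, R = k[[t₁, t₂]], and O = R_{(t₁)}
the local ring of Spec R at the generic point x of the divisor t₁ = 0 (a discrete valuation ring,
with uniformizer t₁ and residue field k((t₂))). Then O embeds, by an injective local k-algebra map
φ, into some complete discrete valuation ring A containing k whose residue field is algebraically
closed and in which φ(t₁) is still a uniformizer. The prime ideal (t₁) is passed as an ideal P equal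
to it together with its primality. -/
theorem result
    (p : ℕ) [Fact p.Prime] (k : Type u) [Field k] [IsAlgClosed k] [CharP k p]
    (P : Ideal (MvPowerSeries (Fin 2) k))
    (hP : P = Ideal.span {(MvPowerSeries.X 0 : MvPowerSeries (Fin 2) k)}) [P.IsPrime] :
    ∃ (A : Type u) (_ : CommRing A) (_ : IsDomain A) (_ : IsDiscreteValuationRing A) (_ : Algebra k A)
      (φ : Localization.AtPrime P →ₐ[k] A),
      IsAdicComplete (IsLocalRing.maximalIdeal A) A ∧ IsAlgClosed (IsLocalRing.ResidueField A) ∧
        Function.Injective φ ∧ IsLocalHom φ.toRingHom ∧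
          Irreducible (φ (algebraMap (MvPowerSeries (Fin 2) k) (Localization.AtPrime P)
            (MvPowerSeries.X 0))) := by
  classical
  -- coefficient field
  let S₁ := MvPowerSeries (Fin 1) k
  let K := FractionRing S₁
  let L := AlgebraicClosure K
  let ιA : S₁ →ₐ[k] L :=
    (IsScalarTower.toAlgHom k K L).comp (IsScalarTower.toAlgHom k S₁ K)
  have hι : Function.Injective ιA := by
    have h1 : Function.Injective (algebraMap K L) := (algebraMap K L).injective
    have h2 : Function.Injective (algebraMap S₁ K) := IsFractionRing.injective S₁ K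
    exact h1.comp h2
  let ψ : MvPowerSeries (Fin 2) k →ₐ[k] PowerSeries L :=
    (PowerSeries.mapAlgHom ιA).comp (MvPowerSeries.finSuccEquiv k 1).toAlgHom
  have hψinj : Function.Injective ψ := by
    have h1 : Function.Injective (PowerSeries.mapAlgHom ιA) := by
      intro f g hfg
      refine PowerSeries.ext (fun i => ?_)
      apply hι
      have := congrArg (PowerSeries.coeff i) hfg
      simpa [PowerSeries.mapAlgHom_apply] using this
    exact h1.comp (MvPowerSeries.finSuccEquiv k 1).injective
  have hψX : ψ (MvPowerSeries.X 0) = PowerSeries.X := by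
    show PowerSeries.mapAlgHom ιA ((MvPowerSeries.finSuccEquiv k 1) (MvPowerSeries.X 0)) = _
    rw [MvPowerSeries.finSuccEquiv_X_zero, PowerSeries.mapAlgHom_apply, PowerSeries.map_X]
  -- membership in P via constant coefficient
  have hmem : ∀ f : MvPowerSeries (Fin 2) k, f ∈ P ↔ PowerSeries.constantCoeff (ψ f) = 0 := by
    intro f
    rw [hP, Ideal.mem_span_singleton]
    constructor
    · rintro ⟨g, rfl⟩
      rw [map_mul, hψX, map_mul, PowerSeries.constantCoeff_X, zero_mul]
    · intro h
      have h1 : PowerSeries.constantCoeff ((MvPowerSeries.finSuccEquiv k 1) f) = 0 := by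
        apply hι
        rw [map_zero]
        have h2 : PowerSeries.constantCoeff (ψ f)
            = ιA (PowerSeries.constantCoeff ((MvPowerSeries.finSuccEquiv k 1) f)) := by
          show PowerSeries.constantCoeff (PowerSeries.mapAlgHom ιA _) = _
          rw [PowerSeries.mapAlgHom_apply, ← PowerSeries.coeff_zero_eq_constantCoeff_apply,
            PowerSeries.coeff_map, PowerSeries.coeff_zero_eq_constantCoeff_apply]
          rfl
        rw [← h2]; exact h
      rw [← PowerSeries.X_dvd_iff] at h1
      obtain ⟨g, hg⟩ := h1
      refine ⟨(MvPowerSeries.finSuccEquiv k 1).symm g, ?_⟩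
      apply (MvPowerSeries.finSuccEquiv k 1).injective
      rw [map_mul, MvPowerSeries.finSuccEquiv_X_zero, AlgEquiv.apply_symm_apply]
      exact hg
  have hunit : ∀ y : P.primeCompl, IsUnit (ψ y) := by
    intro y
    rw [PowerSeries.isUnit_iff_constantCoeff, isUnit_iff_ne_zero]
    intro h
    exact y.2 ((hmem y).2 h)
  let φ : Localization.AtPrime P →ₐ[k] PowerSeries L := IsLocalization.liftAlgHom hunit
  have hφ : ∀ f, φ (algebraMap (MvPowerSeries (Fin 2) k) (Localization.AtPrime P) f) = ψ f := by
    intro f
    show IsLocalization.lift hunit _ = _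
    rw [IsLocalization.lift_eq]
    rfl
  refine ⟨PowerSeries L, inferInstance, inferInstance, inferInstance, inferInstance, φ, ?_, ?_,
    ?_, ?_, ?_⟩
  · rw [PowerSeries.maximalIdeal_eq_span_X]
    infer_instance
  · exact IsAlgClosed.of_ringEquiv (k := L) _ (PowerSeries.residueFieldOfPowerSeries (k := L)).symm
  · show Function.Injective (IsLocalization.lift hunit)
    rw [IsLocalization.lift_injective_iff]
    intro a b
    constructor
    · intro h
      have := IsLocalization.injective (Localization.AtPrime P) P.primeCompl_le_nonZeroDivisors h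
      rw [this]
    · intro h
      have h2 : ψ a = ψ b := h
      rw [hψinj h2]
  · constructor
    intro a ha
    obtain ⟨f, s, rfl⟩ := IsLocalization.exists_mk'_eq P.primeCompl a
    have h1 : φ (IsLocalization.mk' (Localization.AtPrime P) f s) * ψ s = ψ f := by
      rw [← hφ s, ← map_mul, IsLocalization.mk'_spec, hφ]
    have h2 : IsUnit (ψ f) := by
      rw [← h1]
      exact ha.mul (hunit s)
    have h3 : f ∉ P := by
      intro hf
      rw [PowerSeries.isUnit_iff_constantCoeff, (hmem f).1 hf] at h2
      exact not_isUnit_zero h2
    have h4 : IsUnit (algebraMap (MvPowerSeries (Fin 2) k) (Localization.AtPrime P) f) :=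
      IsLocalization.map_units (Localization.AtPrime P) (⟨f, h3⟩ : P.primeCompl)
    rw [← IsLocalization.mk'_spec (Localization.AtPrime P) f s] at h4
    exact isUnit_of_mul_isUnit_left h4
  · rw [hφ, hψX]
    exact PowerSeries.X_prime.irreducible

end Groth.Agent.S15366
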