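import Groth.Statements.S15367
import Mathlib
import Groth.Agent.Lib.Helper15DvrLen
-- import your own Groth.Agent.* helpers here

set_option autoImplicit false
universe u v
open TensorProduct
open CAlg

namespace Groth.Agent.S15367.Aux

set_option autoImplicit false

namespace DualDVR
open IsLocalRing TensorProduct Groth.Agent.Lib.Helper15DvrLen

variable {R : Type u} [CommRing R] [IsDomain R] [IsDiscreteValuationRing R]

section iota
variable {ϖ : R} (hϖ : Irreducible ϖ) (n : ℕ)

/-- the map `k → R/ϖ^(n+1)`, `r ↦ ϖ^n r` -/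
noncomputable def iota : ResidueField R →ₗ[R] (R ⧸ Ideal.span {ϖ ^ (n + 1)}) :=
  Submodule.liftQ (maximalIdeal R)
    ((Submodule.mkQ (Ideal.span {ϖ ^ (n + 1)})).comp (LinearMap.mulLeft R (ϖ ^ n))) (by
      intro r hr
      rw [hϖ.maximalIdeal_eq, Ideal.mem_span_singleton] at hr
      obtain ⟨s, rfl⟩ := hr
      rw [LinearMap.mem_ker, LinearMap.comp_apply, LinearMap.mulLeft_apply, Submodule.mkQ_apply,
        Submodule.Quotient.mk_eq_zero, Ideal.mem_span_singleton]
      exact ⟨s, by ring⟩)

lemma iota_residue (r : R) :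
    iota hϖ n (residue R r) = Ideal.Quotient.mk (Ideal.span {ϖ ^ (n + 1)}) (ϖ ^ n * r) := rfl

include hϖ in
lemma cancel_pow {a b : R} (h : ϖ ^ (n + 1) ∣ ϖ ^ n * a) (hb : b = a) : ϖ ∣ b := by
  subst hb
  obtain ⟨s, hs⟩ := h
  refine ⟨s, ?_⟩
  have h0 : ϖ ^ n ≠ 0 := pow_ne_zero n hϖ.ne_zero
  apply mul_left_cancel₀ h0
  rw [hs]; ring

lemma iota_injective : Function.Injective (iota hϖ n) := by
  rw [← LinearMap.ker_eq_bot]
  apply Submodule.ker_liftQ_eq_bot'
  apply le_antisymm
  · intro r hr
    rw [hϖ.maximalIdeal_eq, Ideal.mem_span_singleton] at hr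
    obtain ⟨s, rfl⟩ := hr
    rw [LinearMap.mem_ker, LinearMap.comp_apply, LinearMap.mulLeft_apply, Submodule.mkQ_apply,
      Submodule.Quotient.mk_eq_zero, Ideal.mem_span_singleton]
    exact ⟨s, by ring⟩
  · intro r hr
    rw [LinearMap.mem_ker, LinearMap.comp_apply, LinearMap.mulLeft_apply, Submodule.mkQ_apply,
      Submodule.Quotient.mk_eq_zero, Ideal.mem_span_singleton] at hr
    rw [hϖ.maximalIdeal_eq, Ideal.mem_span_singleton]
    exact cancel_pow hϖ n hr rfl

lemma range_iota : LinearMap.range (iota hϖ n) =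
    Submodule.torsionBy R (R ⧸ Ideal.span {ϖ ^ (n + 1)}) ϖ := by
  ext a
  rw [Submodule.mem_torsionBy_iff]
  constructor
  · rintro ⟨x, rfl⟩
    obtain ⟨r, rfl⟩ := residue_surjective x
    rw [iota_residue, ← Ideal.Quotient.mk_eq_mk, ← Submodule.Quotient.mk_smul,
      Submodule.Quotient.mk_eq_zero, Ideal.mem_span_singleton]
    exact ⟨r, by rw [smul_eq_mul]; ring⟩
  · intro ha
    obtain ⟨r, rfl⟩ := Ideal.Quotient.mk_surjective a
    rw [← Ideal.Quotient.mk_eq_mk, ← Submodule.Quotient.mk_smul,
      Submodule.Quotient.mk_eq_zero, Ideal.mem_span_singleton, smul_eq_mul] at ha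
    obtain ⟨s, hs⟩ := ha
    have h0 : ϖ ≠ 0 := hϖ.ne_zero
    have hr : r = ϖ ^ n * s := by
      apply mul_left_cancel₀ h0
      rw [hs]; ring
    refine ⟨residue R s, ?_⟩
    rw [iota_residue, hr]

end iota

lemma finite_hom (M : Type v) [AddCommGroup M] [Module R M] [Module.Finite R M]
    (A : Type u) [AddCommGroup A] [Module R A] [Module.Finite R A] :
    Module.Finite R (M →ₗ[R] A) := by
  obtain ⟨m, g, hg⟩ := Module.Finite.exists_fin' R M
  exact Module.Finite.of_injective (LinearMap.lcomp R A g)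
    (LinearMap.lcomp_injective_of_surjective g hg)

lemma subsingleton_tensor (k : Type u) [CommRing k] [Algebra R k] (X : Type v) [AddCommGroup X]
    [Module R X] [Subsingleton X] : Subsingleton (k ⊗[R] X) := by
  refine ⟨fun a b => ?_⟩
  have h0 : ∀ z : k ⊗[R] X, z = 0 := by
    intro z
    induction z using TensorProduct.induction_on with
    | zero => rfl
    | tmul c x => rw [Subsingleton.elim x 0, TensorProduct.tmul_zero]
    | add x y hx hy => rw [hx, hy, add_zero]
  rw [h0 a, h0 b]

section M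
variable {ϖ : R} (hϖ : Irreducible ϖ) (n : ℕ) {M : Type v} [AddCommGroup M] [Module R M]

include hϖ in
lemma length_dual_torsionBy :
    Module.length R (Submodule.torsionBy R (M →ₗ[R] (R ⧸ Ideal.span {ϖ ^ (n + 1)})) ϖ) =
      Module.length R (M →ₗ[R] ResidueField R) := by
  let Ψ : (M →ₗ[R] ResidueField R) →ₗ[R] (M →ₗ[R] (R ⧸ Ideal.span {ϖ ^ (n + 1)})) :=
    LinearMap.compRight R (iota hϖ n)
  have hΨ : Function.Injective Ψ := fun a b h =>
    LinearMap.ext fun m => iota_injective hϖ n (LinearMap.congr_fun h m)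
  have hr : LinearMap.range Ψ =
      Submodule.torsionBy R (M →ₗ[R] (R ⧸ Ideal.span {ϖ ^ (n + 1)})) ϖ := by
    ext φ
    rw [Submodule.mem_torsionBy_iff]
    constructor
    · rintro ⟨ψ, rfl⟩
      ext m
      have : iota hϖ n (ψ m) ∈ Submodule.torsionBy R (R ⧸ Ideal.span {ϖ ^ (n + 1)}) ϖ := by
        rw [← range_iota hϖ n]; exact ⟨_, rfl⟩
      exact (Submodule.mem_torsionBy_iff _ _).mp this
    · intro hφ
      have hmem : ∀ m, φ m ∈ LinearMap.range (iota hϖ n) := by
        intro m
        rw [range_iota hϖ n, Submodule.mem_torsionBy_iff]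
        exact LinearMap.congr_fun hφ m
      let e := LinearEquiv.ofInjective (iota hϖ n) (iota_injective hϖ n)
      refine ⟨e.symm.toLinearMap.comp (φ.codRestrict _ hmem), ?_⟩
      ext m
      simp [Ψ, e]
  rw [← hr]
  exact (LinearEquiv.ofInjective Ψ hΨ).length_eq.symm

lemma length_hom_residue [Module.Finite R M] :
    Module.length R (M →ₗ[R] ResidueField R) =
      Module.finrank (ResidueField R) (ResidueField R ⊗[R] M) := by
  rw [Module.length_eq_of_surjective (S := R) (R := ResidueField R)
    (M := M →ₗ[R] ResidueField R) Ideal.Quotient.mk_surjective,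
    (LinearMap.liftBaseChangeEquiv (R := R) (M := M) (N := ResidueField R)
      (ResidueField R)).length_eq, Module.length_eq_finrank]
  congr 1
  exact Subspace.dual_finrank_eq

end M

theorem main (ϖ : R) (hϖ : Irreducible ϖ) (n : ℕ)
    (M : Type v) [AddCommGroup M] [Module R M] [Module.Finite R M]
    (hM : ∀ m : M, ϖ ^ n • m = 0) :
    Module.finrank (ResidueField R)
        (ResidueField R ⊗[R] (M →ₗ[R] (R ⧸ Ideal.span {ϖ ^ n}))) =
      Module.finrank (ResidueField R) (ResidueField R ⊗[R] M) := by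
  cases n with
  | zero =>
    have hs : Subsingleton M := ⟨fun a b => by
      have h1 := hM a
      have h2 := hM b
      rw [pow_zero, one_smul] at h1 h2
      rw [h1, h2]⟩
    have hs' : Subsingleton (M →ₗ[R] (R ⧸ Ideal.span {ϖ ^ 0})) :=
      ⟨fun f g => LinearMap.ext fun m => by rw [Subsingleton.elim m 0, map_zero, map_zero]⟩
    have := subsingleton_tensor (R := R) (ResidueField R) M
    have := subsingleton_tensor (R := R) (ResidueField R) (M →ₗ[R] (R ⧸ Ideal.span {ϖ ^ 0}))
    rw [Module.finrank_zero_of_subsingleton, Module.finrank_zero_of_subsingleton]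
  | succ n =>
    have : Module.Finite R (M →ₗ[R] (R ⧸ Ideal.span {ϖ ^ (n + 1)})) := finite_hom M _
    have hD : ∀ φ : M →ₗ[R] (R ⧸ Ideal.span {ϖ ^ (n + 1)}), ϖ ^ (n + 1) • φ = 0 := fun φ =>
      LinearMap.ext fun m => by
        rw [LinearMap.smul_apply, ← map_smul, hM, map_zero]; rfl
    have hx : ϖ ^ (n + 1) ∈ nonZeroDivisors R :=
      mem_nonZeroDivisors_of_ne_zero (pow_ne_zero _ hϖ.ne_zero)
    have hfl : IsFiniteLength R (M →ₗ[R] (R ⧸ Ideal.span {ϖ ^ (n + 1)})) :=
      isFiniteLength_of_smul_eq_zero hx hD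
    rw [finrank_residue_tensor_torsionBy ϖ hϖ.maximalIdeal_eq hfl]
    have h1 := length_residue_tensor_of_smul_eq_zero
      (N := Submodule.torsionBy R (M →ₗ[R] (R ⧸ Ideal.span {ϖ ^ (n + 1)})) ϖ) ϖ
      hϖ.maximalIdeal_eq (fun x => Subtype.ext (by simp))
    rw [Module.length_eq_finrank, length_dual_torsionBy hϖ n, length_hom_residue] at h1
    exact_mod_cast h1

end DualDVR

end Groth.Agent.S15367.Aux

namespace Groth.Agent.S15367

/-- Let R be a discrete valuation ring with uniformizer π and residue field k, n ≥ 0, and M₀ a finitely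
generated module over R/πⁿR, viewed as an R-module killed by πⁿ; put M₀* = Hom_R(M₀, R/πⁿR). Then
dim_k(M₀*/πM₀*) = dim_k(M₀/πM₀). The published lemma is stated for a finitely presented module over
the quotient of the ring of integers of an algebraic closure of K by the elements of valuation ≥ t,
with its dual into that quotient ring, and the published proof reduces it by descent to exactly this
statement over the valuation ring of a finite extension of K; the row states that step. -/
theorem result
    (R : Type u) [CommRing R] [IsDomain R] [IsDiscreteValuationRing R] (ϖ : R) (hϖ : Irreducible ϖ) (n : ℕ)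
    (M : Type v) [AddCommGroup M] [Module R M] [Module.Finite R M] (hM : ∀ m : M, ϖ ^ n • m = 0) :
    Module.finrank (IsLocalRing.ResidueField R)
        (IsLocalRing.ResidueField R ⊗[R] (M →ₗ[R] (R ⧸ Ideal.span {ϖ ^ n}))) =
      Module.finrank (IsLocalRing.ResidueField R) (IsLocalRing.ResidueField R ⊗[R] M) := by
  exact Aux.DualDVR.main ϖ hϖ n M hM

end Groth.Agent.S15367
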