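import Groth.Statements.S15368
import Mathlib.Algebra.Module.SpanRankOperations
import Mathlib.LinearAlgebra.FreeModule.PID
import Mathlib.Tactic
-- import your own Groth.Agent.* helpers here

set_option autoImplicit false
universe u v
open TensorProduct
open CAlg

namespace Groth.Agent.S15368

theorem spanFinrank_le_of_pid {R : Type*} [CommRing R] [IsDomain R] [IsPrincipalIdealRing R]
    {M : Type*} [AddCommGroup M] [Module R M] [Module.Finite R M] (N : Submodule R M) :
    N.spanFinrank ≤ (⊤ : Submodule R M).spanFinrank := by
  obtain ⟨s, hs₁, hs₂⟩ :=
    (Module.Finite.fg_top (R := R) (M := M)).exists_span_finset_card_eq_spanFinrank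
  let f : (s → R) →ₗ[R] M := Fintype.linearCombination R (fun x : s => (x : M))
  have hf : Function.Surjective f := by
    rw [← LinearMap.range_eq_top, Fintype.range_linearCombination]
    simpa using hs₂
  have hN : N = (N.comap f).map f := (Submodule.map_comap_eq_of_surjective hf N).symm
  have hfg : (N.comap f).FG := IsNoetherian.noetherian _
  have h1 : N.spanFinrank ≤ (N.comap f).spanFinrank := by
    conv_lhs => rw [hN]
    exact Submodule.spanFinrank_map_le_of_fg f hfg
  have h2 : (N.comap f).spanFinrank = Module.finrank R (N.comap f) := by
    rw [Module.finrank_eq_spanFinrank_of_free, Submodule.spanFinrank_top]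
  have h3 : Module.finrank R (N.comap f) ≤ Module.finrank R (s → R) := Submodule.finrank_le _
  have h4 : Module.finrank R (s → R) = s.card := by simp
  omega

/-- Let R be a discrete valuation ring with uniformizer π and residue field k, n ≥ 0, M₀ a finitely
generated R-module killed by πⁿ and N₀ a submodule of M₀. Then dim_k(N₀/πN₀) ≤ dim_k(M₀/πM₀). The
published lemma is stated for a finitely presented submodule N of a finitely presented module M over
the quotient of the ring of integers of an algebraic closure of K by the elements of valuation ≥ t,
and the published proof reduces it by descent to exactly this statement over the valuation ring of a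
finite extension of K (comparing π-torsion with π-cotorsion by additivity of length); the row states
that step. -/
theorem result
    (R : Type u) [CommRing R] [IsDomain R] [IsDiscreteValuationRing R] (ϖ : R) (hϖ : Irreducible ϖ) (n : ℕ)
    (M : Type v) [AddCommGroup M] [Module R M] [Module.Finite R M] (hM : ∀ m : M, ϖ ^ n • m = 0)
    (N : Submodule R M) :
    Module.finrank (IsLocalRing.ResidueField R) (IsLocalRing.ResidueField R ⊗[R] N) ≤
      Module.finrank (IsLocalRing.ResidueField R) (IsLocalRing.ResidueField R ⊗[R] M) := by
  have key : ∀ P : Submodule R M, Module.finrank (IsLocalRing.ResidueField R)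
      (IsLocalRing.ResidueField R ⊗[R] P) = P.spanFinrank := by
    intro P
    rw [Module.finrank_eq_spanFinrank_of_free]
    exact TensorProduct.spanFinrank_top_eq_of_residueField P (IsNoetherian.noetherian P)
  have hM : Module.finrank (IsLocalRing.ResidueField R) (IsLocalRing.ResidueField R ⊗[R] M) =
      (⊤ : Submodule R M).spanFinrank := by
    rw [← key ⊤]
    exact (LinearEquiv.finrank_eq (TensorProduct.AlgebraTensorModule.congr
      (LinearEquiv.refl (IsLocalRing.ResidueField R) (IsLocalRing.ResidueField R))
      (Submodule.topEquiv (R := R) (M := M)))).symm
  rw [key N, hM]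
  exact spanFinrank_le_of_pid N

end Groth.Agent.S15368
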