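import Groth.Statements.S15391
import Mathlib.RingTheory.Ideal.MinimalPrime.Localization
import Mathlib.RingTheory.Ideal.MinimalPrime.Noetherian
import Mathlib.RingTheory.Localization.BaseChange
import Mathlib.RingTheory.LocalProperties.Reduced
import Mathlib.Tactic
-- import your own Groth.Agent.* helpers here

set_option autoImplicit false
universe u
open TensorProduct
open TorFree

namespace Groth.Agent.S15391

/-- At a minimal prime of a reduced ring, the residue field is the localization. -/
theorem isLocalization_residueField {R : Type u} [CommRing R] [IsReduced R] (p : Ideal R)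
    [p.IsPrime] (hp : p ∈ minimalPrimes R) :
    IsLocalization.AtPrime p.ResidueField p := by
  have hmax : IsLocalRing.maximalIdeal (Localization.AtPrime p) = ⊥ := by
    have h1 := IsLocalization.AtPrime.radical_map_of_mem_minimalPrimes
      (A := Localization.AtPrime p) p ⊥ hp
    rw [Ideal.map_bot, IsLocalization.AtPrime.map_eq_maximalIdeal p (Localization.AtPrime p)] at h1
    rw [← h1]
    exact nilradical_eq_zero (Localization.AtPrime p)
  have hbij : Function.Bijective (algebraMap (Localization.AtPrime p) p.ResidueField) := by
    constructor
    · rw [injective_iff_map_eq_zero]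
      intro x hx
      have : x ∈ IsLocalRing.maximalIdeal (Localization.AtPrime p) := by
        rwa [← IsLocalRing.residue_eq_zero_iff]
      rw [hmax] at this
      exact this
    · exact IsLocalRing.residue_surjective
  exact IsLocalization.isLocalization_of_algEquiv p.primeCompl
    (AlgEquiv.ofBijective (IsScalarTower.toAlgHom R (Localization.AtPrime p) p.ResidueField) hbij)

/-- Let R be a reduced Noetherian commutative ring, M a finitely generated torsion-free R-module (no
non-zero element of M is annihilated by a non-zero-divisor of R), and t an element of M whose image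
1 ⊗ t in the fibre κ(p) ⊗_R M vanishes for every prime ideal p of R, κ(p) being the residue field at
p. Then t = 0. This is the affine form of the claim that a global section of a coherent torsion-free
module on a reduced Noetherian scheme which vanishes in every fibre is zero. -/
theorem result (R : Type u) [CommRing R] [IsReduced R] [IsNoetherianRing R]
    (M : Type u) [AddCommGroup M] [Module R M] [Module.Finite R M] [Module.IsTorsionFree R M]
    (t : M) (ht : ∀ p : PrimeSpectrum R, (1 : p.asIdeal.ResidueField) ⊗ₜ[R] t = (0 : p.asIdeal.ResidueField ⊗[R] M)) :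
    t = 0 := by
  -- Step 1: at every minimal prime the annihilator of `t` is not contained in the prime
  have hstep : ∀ p ∈ minimalPrimes R, ∃ s : R, s ∉ p ∧ s • t = 0 := by
    intro p hp
    have hpp : p.IsPrime := hp.1.1
    have hloc := isLocalization_residueField p hp
    have h0 := ht ⟨p, hpp⟩
    have h1 : TensorProduct.mk R p.ResidueField M 1 t = 0 := h0
    obtain ⟨s, hs⟩ := (IsLocalizedModule.eq_zero_iff p.primeCompl
      (TensorProduct.mk R p.ResidueField M 1)).mp h1
    exact ⟨s.1, s.2, hs⟩
  -- Step 2: prime avoidance
  set I : Ideal R := (Submodule.span R {t}).annihilator with hI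
  have hfin := minimalPrimes.finite_of_isNoetherianRing R
  have hex : ∃ s ∈ I, ∀ p ∈ minimalPrimes R, s ∉ p := by
    by_contra hcon
    push Not at hcon
    have hsub : (I : Set R) ⊆ ⋃ p ∈ (hfin.toFinset : Set (Ideal R)), ((id p : Ideal R) : Set R) := by
      intro s hs
      obtain ⟨p, hp, hsp⟩ := hcon s hs
      simp only [Set.mem_iUnion]
      exact ⟨p, by simpa using hp, hsp⟩
    have h0 : (0 : R) ∈ ⋃ p ∈ (hfin.toFinset : Set (Ideal R)), ((id p : Ideal R) : Set R) :=
      hsub I.zero_mem
    simp only [Set.mem_iUnion] at h0
    obtain ⟨a, ha, -⟩ := h0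
    rw [Ideal.subset_union_prime a a] at hsub
    · obtain ⟨p, hp, hIp⟩ := hsub
      rw [Set.Finite.mem_toFinset] at hp
      obtain ⟨s, hsp, hst⟩ := hstep p hp
      apply hsp
      apply hIp
      exact (Submodule.mem_annihilator_span_singleton t s).mpr hst
    · intro p hp _ _
      rw [Set.Finite.mem_toFinset] at hp
      exact hp.1.1
  obtain ⟨s, hsI, hs⟩ := hex
  have hst : s • t = 0 := (Submodule.mem_annihilator_span_singleton t s).mp hsI
  -- Step 3: `s` is regular
  have hreg : IsRegular s := by
    rw [isRegular_iff_mem_nonZeroDivisors, mem_nonZeroDivisors_iff_right]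
    intro y hy
    by_contra hy0
    have hnil : y ∉ sInf (minimalPrimes R) := by
      have : sInf (minimalPrimes R) = (⊥ : Ideal R) := by
        change sInf (⊥ : Ideal R).minimalPrimes = ⊥
        rw [Ideal.sInf_minimalPrimes]
        exact nilradical_eq_zero R
      rw [this]
      exact hy0
    rw [Submodule.mem_sInf] at hnil
    push Not at hnil
    obtain ⟨q, hq, hyq⟩ := hnil
    have hqp : Ideal.IsPrime q := hq.1.1
    have hys : y * s ∈ q := by rw [hy]; exact q.zero_mem
    rcases Ideal.IsPrime.mem_or_mem hqp hys with h | h
    · exact hyq h
    · exact hs q hq h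
  have := Module.IsTorsionFree.isSMulRegular (M := M) hreg
  apply this
  change s • t = s • 0
  rw [smul_zero]
  exact hst

end Groth.Agent.S15391
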