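import Groth.Statements.S15412
import Mathlib.Tactic
-- import your own Groth.Agent.* helpers here

set_option autoImplicit false
universe w v u
open CategoryTheory Opposite
open Bitors

namespace Groth.Agent.S15412

variable {C : Type u} [Category.{v} C] {J : GrothendieckTopology C}
  {G H : Sheaf J GrpCat.{w}} {P : NonAbH1.GSheaf G}

theorem smul_cancel (hP : P.IsPseudoTorsor) {U : Cᵒᵖ} {g g' : G.obj.obj U} {p : P.P.obj.obj U}
    (h : P.smul g p = P.smul g' p) : g = g' :=
  (hP U p (P.smul g' p)).unique h rfl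

theorem rightStr_ext (ρ ρ' : Bitors.RightStr P H)
    (h : ∀ (U : Cᵒᵖ) (p : P.P.obj.obj U) (x : H.obj.obj U), ρ.rsmul p x = ρ'.rsmul p x) :
    ρ = ρ' := by
  cases ρ; cases ρ'
  simp only [Bitors.RightStr.mk.injEq]
  funext U p x
  exact h U p x

theorem isomFamily_ext (φ φ' : Bitors.IsomFamily P H)
    (h : ∀ (U : Cᵒᵖ) (p : P.P.obj.obj U) (x : H.obj.obj U), φ.φ p x = φ'.φ p x) :
    φ = φ' := by
  cases φ; cases φ'
  simp only [Bitors.IsomFamily.mk.injEq]
  funext U p
  exact MulEquiv.ext (h U p)

/-- the element `g` with `g • p = p · h` -/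
noncomputable def gOf (hP : P.IsPseudoTorsor) (ρ : Bitors.RightStr P H) {U : Cᵒᵖ}
    (p : P.P.obj.obj U) (x : H.obj.obj U) : G.obj.obj U :=
  Classical.choose (hP U p (ρ.rsmul p x)).exists

theorem gOf_spec (hP : P.IsPseudoTorsor) (ρ : Bitors.RightStr P H) {U : Cᵒᵖ}
    (p : P.P.obj.obj U) (x : H.obj.obj U) : P.smul (gOf hP ρ p x) p = ρ.rsmul p x :=
  Classical.choose_spec (hP U p (ρ.rsmul p x)).exists

/-- the element `h` with `p · h = g • p` -/
noncomputable def hOf (ρ : Bitors.RightStr P H) {U : Cᵒᵖ}
    (p : P.P.obj.obj U) (g : G.obj.obj U) : H.obj.obj U :=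
  Classical.choose (ρ.existsUnique_rsmul p (P.smul g p)).exists

theorem hOf_spec (ρ : Bitors.RightStr P H) {U : Cᵒᵖ}
    (p : P.P.obj.obj U) (g : G.obj.obj U) : ρ.rsmul p (hOf ρ p g) = P.smul g p :=
  Classical.choose_spec (ρ.existsUnique_rsmul p (P.smul g p)).exists

theorem gOf_mul (hP : P.IsPseudoTorsor) (ρ : Bitors.RightStr P H) {U : Cᵒᵖ}
    (p : P.P.obj.obj U) (x y : H.obj.obj U) :
    gOf hP ρ p (x * y) = gOf hP ρ p x * gOf hP ρ p y := by
  apply smul_cancel hP (p := p)
  rw [gOf_spec, ρ.rsmul_mul, ← gOf_spec hP ρ p x, ρ.smul_rsmul, ← gOf_spec hP ρ p y, P.mul_smul]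

noncomputable def phiOf (hP : P.IsPseudoTorsor) (ρ : Bitors.RightStr P H) {U : Cᵒᵖ}
    (p : P.P.obj.obj U) : H.obj.obj U ≃* G.obj.obj U where
  toFun := gOf hP ρ p
  invFun := hOf ρ p
  left_inv x := by
    apply (ρ.existsUnique_rsmul p (ρ.rsmul p x)).unique _ rfl
    rw [hOf_spec, gOf_spec]
  right_inv g := by
    apply smul_cancel hP (p := p)
    rw [gOf_spec, hOf_spec]
  map_mul' := gOf_mul hP ρ p

noncomputable def famOf (hP : P.IsPseudoTorsor) (ρ : Bitors.RightStr P H) :
    Bitors.IsomFamily P H where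
  φ p := phiOf hP ρ p
  map_φ f p x := by
    change G.obj.map f (gOf hP ρ p x) = gOf hP ρ (P.P.obj.map f p) (H.obj.map f x)
    apply smul_cancel hP (p := P.P.obj.map f p)
    rw [← P.map_smul, gOf_spec, gOf_spec, ρ.map_rsmul]
  φ_smul g p x := by
    change gOf hP ρ (P.smul g p) x = g * gOf hP ρ p x * g⁻¹
    apply smul_cancel hP (p := P.smul g p)
    rw [gOf_spec, ρ.smul_rsmul, ← gOf_spec hP ρ p x, ← P.mul_smul, ← P.mul_smul]
    congr 1
    group

noncomputable def strOf (hP : P.IsPseudoTorsor) (φ : Bitors.IsomFamily P H) :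
    Bitors.RightStr P H where
  rsmul p x := P.smul (φ.φ p x) p
  rsmul_one p := by rw [map_one, P.one_smul]
  rsmul_mul p x y := by
    rw [φ.φ_smul, map_mul, ← P.mul_smul]
    congr 1
    group
  map_rsmul f p x := by rw [P.map_smul, φ.map_φ]
  smul_rsmul g p x := by
    rw [φ.φ_smul, ← P.mul_smul, ← P.mul_smul]
    congr 1
    group
  existsUnique_rsmul p q := by
    obtain ⟨g, hg, hg'⟩ := hP _ p q
    refine ⟨(φ.φ p).symm g, by simpa using hg, ?_⟩
    intro y hy
    have := hg' _ hy
    rw [← this]
    simp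

/-- On a site, let G and H be sheaves of groups and P a sheaf of sets with a left G-action which is
simply transitive on every set of sections P(U). The right H-actions on P that are compatible with
restriction, commute with the G-action and are simply transitive on every P(U) (for P a G-torsor:
the structures of (G, H)-bitorsor on P) correspond exactly to the families of group isomorphisms φ_p
: H(U) ≃ G(U), one for each section p of P over each U, compatible with restriction and with φ_{g·p}
= g φ_p g⁻¹ (the equivariant maps from P to the sheaf of isomorphisms from H to G); the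
correspondence is the rule p · h = φ_p(h) · p, and the statement is that every right structure
arises by this rule from exactly one family and every family from exactly one right structure. (The
published statement takes P a left G-torsor; only the simple transitivity of the G-action on
sections enters, so local existence of sections is not assumed.) -/
theorem result
    {C : Type u} [Category.{v} C] {J : GrothendieckTopology C}
    (G H : Sheaf J GrpCat.{w}) (P : NonAbH1.GSheaf G) (hP : P.IsPseudoTorsor) :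
    (∀ ρ : Bitors.RightStr P H, ∃! φ : Bitors.IsomFamily P H,
        ∀ (U : Cᵒᵖ) (p : P.P.obj.obj U) (h : H.obj.obj U), ρ.rsmul p h = P.smul (φ.φ p h) p) ∧
    (∀ φ : Bitors.IsomFamily P H, ∃! ρ : Bitors.RightStr P H,
        ∀ (U : Cᵒᵖ) (p : P.P.obj.obj U) (h : H.obj.obj U), ρ.rsmul p h = P.smul (φ.φ p h) p) := by
  refine ⟨fun ρ => ⟨famOf hP ρ, fun U p x => (gOf_spec hP ρ p x).symm, ?_⟩,
    fun φ => ⟨strOf hP φ, fun U p x => rfl, ?_⟩⟩
  · intro φ' hφ'
    apply isomFamily_ext
    intro U p x
    apply smul_cancel hP (p := p)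
    rw [← hφ']
    exact (gOf_spec hP ρ p x).symm
  · intro ρ' hρ'
    apply rightStr_ext
    intro U p x
    rw [hρ']
    rfl

end Groth.Agent.S15412
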