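import Groth.Statements.S15420
import Groth.Agent.Lib.Helper29GrDRegConv
import Groth.Agent.Lib.Helper5SuppDim
import Groth.Agent.Lib.Helper8GV

set_option autoImplicit false
universe u
open GrLC

namespace Groth.Agent.S15420

/-- Let k be a field, S = k[x_0, …, x_r] graded by degree, 𝔪 = (x_0, …, x_r), M a finitely generated
ℤ-graded S-module, x ∈ S_1 a linear form quasi-regular on M (the elements of M killed by x form a
submodule of finite length), and N = M/xM, given as a graded module with a surjective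
degree-preserving S-linear map π : M → N with kernel xM; graded local cohomology is computed from
*injective resolutions in the graded category. Call a module d-regular when H^0_𝔪 of it has no
nonzero piece in degrees above d and H^i_𝔪 of it vanishes in degree d − i + 1 for every i > 0. Then
M is d-regular if and only if N is d-regular and H^0_𝔪(M) has no nonzero piece in degrees above d. -/
theorem result (k : Type u) [Field k] (r : ℕ)
    (M : Type u) [AddCommGroup M] [Module k M] [Module (MvPolynomial (Fin (r + 1)) k) M]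
    [IsScalarTower k (MvPolynomial (Fin (r + 1)) k) M] [Module.Finite (MvPolynomial (Fin (r + 1)) k) M]
    (ℳ : ℤ → Submodule k M) [DirectSum.Decomposition ℳ] [SetLike.GradedSMul (GrSyz.stdGr k (Fin (r + 1))) ℳ]
    (x : MvPolynomial (Fin (r + 1)) k) (hx : x ∈ GrSyz.stdGr k (Fin (r + 1)) 1)
    (hq : IsFiniteLength (MvPolynomial (Fin (r + 1)) k) ↥(Submodule.torsionBy (MvPolynomial (Fin (r + 1)) k) M x))
    (N : Type u) [AddCommGroup N] [Module k N] [Module (MvPolynomial (Fin (r + 1)) k) N]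
    [IsScalarTower k (MvPolynomial (Fin (r + 1)) k) N] [Module.Finite (MvPolynomial (Fin (r + 1)) k) N]
    (𝒩 : ℤ → Submodule k N) [DirectSum.Decomposition 𝒩] [SetLike.GradedSMul (GrSyz.stdGr k (Fin (r + 1))) 𝒩]
    (π : M →ₗ[MvPolynomial (Fin (r + 1)) k] N) (hπ : Function.Surjective π) (hπg : GrLC.IsGrHom ℳ 𝒩 π)
    (hker : LinearMap.ker π = LinearMap.range (x • (LinearMap.id : M →ₗ[MvPolynomial (Fin (r + 1)) k] M)))
    (E : GrLC.StarInjRes (GrSyz.stdGr k (Fin (r + 1))) ℳ) (E' : GrLC.StarInjRes (GrSyz.stdGr k (Fin (r + 1))) 𝒩) (d : ℤ) :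
    (GrLC.endDeg (E.Hgr (GrSyz.irrel (GrSyz.stdGr k (Fin (r + 1)))) 0) ≤ ((d : WithTop ℤ) : WithBot (WithTop ℤ)) ∧ ∀ i : ℕ, 0 < i → E.Hcomp (GrSyz.irrel (GrSyz.stdGr k (Fin (r + 1)))) i (d - (i : ℤ) + 1) = ⊥) ↔
      ((GrLC.endDeg (E'.Hgr (GrSyz.irrel (GrSyz.stdGr k (Fin (r + 1)))) 0) ≤ ((d : WithTop ℤ) : WithBot (WithTop ℤ)) ∧ ∀ i : ℕ, 0 < i → E'.Hcomp (GrSyz.irrel (GrSyz.stdGr k (Fin (r + 1)))) i (d - (i : ℤ) + 1) = ⊥) ∧
        GrLC.endDeg (E.Hgr (GrSyz.irrel (GrSyz.stdGr k (Fin (r + 1)))) 0) ≤ ((d : WithTop ℤ) : WithBot (WithTop ℤ))) := by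
  classical
  have hK : ∀ j : ℕ, 1 ≤ j → ∀ y : LocCoh.H
      (Groth.Agent.Lib.Helper29GrStdPoly.mm k (r + 1)).toIdeal j
      ↥(Submodule.torsionBy (MvPolynomial (Fin (r + 1)) k) M x), y = 0 := by
    intro j hj y
    refine Groth.Agent.Lib.Helper8.GV.H_eq_zero_of_supportDim_lt _ j _ ?_ y
    refine lt_of_le_of_lt (Groth.Agent.Lib.Helper5.supportDim_le_zero_of_isFiniteLength hq) ?_
    exact_mod_cast hj
  rw [Groth.Agent.Lib.Helper29GrDRegConv.dReg_iff E, Groth.Agent.Lib.Helper29GrDRegConv.dReg_iff E',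
    Groth.Agent.Lib.Helper29GrDRegConv.endDeg_Hgr_le_iff]
  constructor
  · intro h
    refine ⟨Groth.Agent.Lib.Helper29GrQuasiReg.dReg_quot
      (Groth.Agent.Lib.Helper29GrStdPoly.mm k (r + 1))
      (ℳ := Groth.Agent.Lib.Helper29GrConv.asGr ℳ) (𝒩 := Groth.Agent.Lib.Helper29GrConv.asGr 𝒩)
      x hx hK π hπ hπg hker (Groth.Agent.Lib.Helper29GrStdPoly.hhom k (r + 1))
      (Groth.Agent.Lib.Helper29GrConv.resAS E) (Groth.Agent.Lib.Helper29GrConv.resAS E') d h, ?_⟩
    intro e he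
    exact (Groth.Agent.Lib.Helper29GrConv.Hcomp_resAS_eq_bot_iff E _ 0 e).mp (h.1 e he)
  · rintro ⟨h, h0⟩
    exact Groth.Agent.Lib.Helper29GrQuasiReg.dReg_of_quot
      (Groth.Agent.Lib.Helper29GrStdPoly.mm k (r + 1))
      (ℳ := Groth.Agent.Lib.Helper29GrConv.asGr ℳ) (𝒩 := Groth.Agent.Lib.Helper29GrConv.asGr 𝒩)
      x hx hK π hπ hπg hker (Groth.Agent.Lib.Helper29GrStdPoly.hpos k (r + 1))
      (Groth.Agent.Lib.Helper29GrStdPoly.ha k (r + 1))
      (Groth.Agent.Lib.Helper29GrStdPoly.hhom k (r + 1))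
      (Groth.Agent.Lib.Helper29GrConv.resAS E) (Groth.Agent.Lib.Helper29GrConv.resAS E') d h
      (fun e he => (Groth.Agent.Lib.Helper29GrConv.Hcomp_resAS_eq_bot_iff E _ 0 e).mpr (h0 e he))

end Groth.Agent.S15420
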