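import Groth.Statements.S15423
import Mathlib
import Groth.Agent.Lib.Helper13Betti
-- import your own Groth.Agent.* helpers here

set_option autoImplicit false
universe u
open GrSyz

namespace Groth.Agent.S15423

theorem iInf_int_eq (s : WithBot (WithTop ℤ)) :
    ⨅ (r : ℤ) (_ : s ≤ ((r : WithTop ℤ) : WithBot (WithTop ℤ))),
      ((r : WithTop ℤ) : WithBot (WithTop ℤ)) = s := by
  apply le_antisymm
  · induction s using WithBot.recBotCoe with
    | bot =>
      obtain ⟨c, hc⟩ : ∃ c, c = ⨅ (r : ℤ) (_ : (⊥ : WithBot (WithTop ℤ)) ≤ ((r : WithTop ℤ) : WithBot (WithTop ℤ))),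
        ((r : WithTop ℤ) : WithBot (WithTop ℤ)) := ⟨_, rfl⟩
      rw [← hc]
      have hle : ∀ r : ℤ, c ≤ ((r : WithTop ℤ) : WithBot (WithTop ℤ)) := by
        intro r
        rw [hc]
        exact iInf₂_le (f := fun (r : ℤ) (_ : (⊥ : WithBot (WithTop ℤ)) ≤ ((r : WithTop ℤ) : WithBot (WithTop ℤ))) => ((r : WithTop ℤ) : WithBot (WithTop ℤ))) r bot_le
      induction c using WithBot.recBotCoe with
      | bot => exact le_rfl
      | coe c' =>
        exfalso
        induction c' using WithTop.recTopCoe with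
        | top =>
          have h := WithBot.coe_le_coe.1 (hle 0)
          exact WithTop.coe_ne_top (top_le_iff.1 h)
        | coe m =>
          have h := WithTop.coe_le_coe.1 (WithBot.coe_le_coe.1 (hle (m - 1)))
          omega
    | coe c =>
      induction c using WithTop.recTopCoe with
      | top => exact le_top
      | coe n => exact iInf₂_le (f := fun (r : ℤ) (_ : (((n : ℤ) : WithTop ℤ) : WithBot (WithTop ℤ)) ≤ ((r : WithTop ℤ) : WithBot (WithTop ℤ))) => ((r : WithTop ℤ) : WithBot (WithTop ℤ))) n le_rfl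
  · exact le_iInf₂ (fun r hr => hr)

theorem map_le_iff (i : ℕ) (m : WithBot ℤ) (r : ℤ) :
    WithBot.map (fun t : ℤ => ((t - (i : ℤ) : ℤ) : WithTop ℤ)) m ≤
      ((r : WithTop ℤ) : WithBot (WithTop ℤ)) ↔ m ≤ ((r + i : ℤ) : WithBot ℤ) := by
  induction m using WithBot.recBotCoe with
  | bot => simp
  | coe t =>
    rw [WithBot.map_coe, WithBot.coe_le_coe, WithBot.coe_le_coe, WithTop.coe_le_coe]
    omega

/-- Let k be a field, S = k[x_0, …, x_r] graded by degree, 𝔪 = (x_0, …, x_r), M a finitely generated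
ℤ-graded S-module and F a minimal graded free resolution of M by finite-rank free modules with
homogeneous bases (all matrix entries in 𝔪). Then the Castelnuovo–Mumford regularity of M (an
extended integer) is the supremum over i ≥ 0 of t_i − i, where t_i is the largest degree of a basis
vector of F_i, that is the largest nonzero degree of Tor_i^S(M, k) (−∞ when F_i = 0). In particular
the value does not depend on the minimal resolution chosen. -/
theorem result (k : Type u) [Field k] (r : ℕ)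
    (M : Type u) [AddCommGroup M] [Module k M] [Module (MvPolynomial (Fin (r + 1)) k) M]
    [IsScalarTower k (MvPolynomial (Fin (r + 1)) k) M] [Module.Finite (MvPolynomial (Fin (r + 1)) k) M]
    (ℳ : ℤ → Submodule k M) [DirectSum.Decomposition ℳ] [SetLike.GradedSMul (GrSyz.stdGr k (Fin (r + 1))) ℳ]
    (F : GrSyz.FreeRes (GrSyz.stdGr k (Fin (r + 1))) ℳ) (hF : F.IsMinimal (GrSyz.irrel (GrSyz.stdGr k (Fin (r + 1)))).toIdeal) :
    GrSyz.reg (GrSyz.stdGr k (Fin (r + 1))) ℳ (GrSyz.irrel (GrSyz.stdGr k (Fin (r + 1)))).toIdeal =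
      ⨆ i : ℕ, WithBot.map (fun t : ℤ => ((t - (i : ℤ) : ℤ) : WithTop ℤ)) (F.maxGenDeg i) := by
  classical
  have hiff : ∀ ρ : ℤ, GrSyz.IsRegLE (GrSyz.stdGr k (Fin (r + 1))) ℳ
      (GrSyz.irrel (GrSyz.stdGr k (Fin (r + 1)))).toIdeal ρ ↔
      (⨆ i : ℕ, WithBot.map (fun t : ℤ => ((t - (i : ℤ) : ℤ) : WithTop ℤ)) (F.maxGenDeg i)) ≤
        ((ρ : WithTop ℤ) : WithBot (WithTop ℤ)) := by
    intro ρ
    rw [iSup_le_iff]
    have h1 : (∀ i : ℕ, WithBot.map (fun t : ℤ => ((t - (i : ℤ) : ℤ) : WithTop ℤ)) (F.maxGenDeg i) ≤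
        ((ρ : WithTop ℤ) : WithBot (WithTop ℤ))) ↔ F.IsGenLE ρ := by
      unfold GrSyz.FreeRes.IsGenLE GrSyz.FreeRes.maxGenDeg
      refine forall_congr' (fun i => ?_)
      rw [map_le_iff, Finset.sup_le_iff]
      simp only [Finset.mem_univ, true_implies, WithBot.coe_le_coe]
    rw [h1]
    constructor
    · rintro ⟨F', hF', hgen⟩
      intro i b
      have hpos : 0 < F.betti i (F.deg i b) := by
        unfold GrSyz.FreeRes.betti
        exact Finset.card_pos.2 ⟨b, Finset.mem_filter.2 ⟨Finset.mem_univ _, rfl⟩⟩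
      rw [Groth.Agent.Helper13Betti.betti_eq F F' hF hF' i (F.deg i b)] at hpos
      unfold GrSyz.FreeRes.betti at hpos
      obtain ⟨b', hb'⟩ := Finset.card_pos.1 hpos
      rw [← (Finset.mem_filter.1 hb').2]
      exact hgen i b'
    · intro h
      exact ⟨F, hF, h⟩
  unfold GrSyz.reg
  simp only [hiff]
  exact iInf_int_eq _

end Groth.Agent.S15423
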