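import Groth.Statements.S15422
import Mathlib
import Groth.Agent.Lib.Helper13RegFinLen
import Groth.Agent.S15423
-- import your own Groth.Agent.* helpers here

set_option autoImplicit false
universe u
open GrSyz

namespace Groth.Agent.S15422

/-- Let k be a field, S = k[x_0, …, x_r] graded by degree, 𝔪 = (x_0, …, x_r) and M a finitely generated
ℤ-graded S-module of finite length. Then the Castelnuovo–Mumford regularity of M, in the sense of
minimal graded free resolutions (an extended integer, −∞ for the zero module), equals the largest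
degree d with M_d ≠ 0. -/
theorem result (k : Type u) [Field k] (r : ℕ)
    (M : Type u) [AddCommGroup M] [Module k M] [Module (MvPolynomial (Fin (r + 1)) k) M]
    [IsScalarTower k (MvPolynomial (Fin (r + 1)) k) M] [Module.Finite (MvPolynomial (Fin (r + 1)) k) M]
    (ℳ : ℤ → Submodule k M) [DirectSum.Decomposition ℳ] [SetLike.GradedSMul (GrSyz.stdGr k (Fin (r + 1))) ℳ]
    (hM : IsFiniteLength (MvPolynomial (Fin (r + 1)) k) M) :
    GrSyz.reg (GrSyz.stdGr k (Fin (r + 1))) ℳ (GrSyz.irrel (GrSyz.stdGr k (Fin (r + 1)))).toIdeal = GrLC.endDeg (fun n => (ℳ n).toAddSubgroup) := by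
  haveI hfin : Module.Finite k M :=
    Groth.Agent.Helper13RegFinLen.finite_of_isFiniteLength k (MvPolynomial (Fin (r + 1)) k) hM
  have hiff : ∀ ρ : ℤ, GrSyz.IsRegLE (GrSyz.stdGr k (Fin (r + 1))) ℳ
      (GrSyz.irrel (GrSyz.stdGr k (Fin (r + 1)))).toIdeal ρ ↔
      GrLC.endDeg (fun n => (ℳ n).toAddSubgroup) ≤ ((ρ : WithTop ℤ) : WithBot (WithTop ℤ)) :=
    fun ρ => Groth.Agent.Helper13RegFinLen.isRegLE_iff_endDeg_le ℳ ρ
  unfold GrSyz.reg
  simp only [hiff]
  exact Groth.Agent.S15423.iInf_int_eq _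

end Groth.Agent.S15422
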