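import Groth.Statements.S15430
import Mathlib
import Groth.Agent.S15436
import Groth.Agent.Lib.Helper13TorNat
import Groth.Agent.Lib.Helper13Delta
-- import your own Groth.Agent.* helpers here

set_option autoImplicit false
universe u
open GrSyz

namespace Groth.Agent.S15430

open CategoryTheory Limits

section
variable {S : Type u} [CommRing S]

theorem isEffDelta_tor₂ (X : ModuleCat.{u} S) :
    Groth.Agent.Helper13Delta.IsEffDelta (fun n => (Tor (ModuleCat.{u} S) n).obj X) where
  exists_δ T hT n := Groth.Agent.Helper13Tor.tor₂_exists_δ X T hT n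
  isZero_of_projective Y _ n := isZero_Tor_succ_of_projective _ X Y n

/-- pd shifting along syzygies -/
theorem pdLT_opcycles_iff (K : ChainComplex (ModuleCat.{u} S) ℕ) (hK : ∀ j, K.ExactAt (j + 1))
    (hproj : ∀ j, Projective (K.X j)) (m j : ℕ) :
    HasProjectiveDimensionLT (K.opcycles j) (m + 1) ↔ Projective (K.opcycles (j + m)) := by
  induction m generalizing j with
  | zero => exact projective_iff_hasProjectiveDimensionLT_one.symm
  | succ m ih =>
    have hS := Groth.Agent.Helper13Delta.syz_shortExact K j (hK j)
    rw [show j + (m + 1) = (j + 1) + m by omega, ← ih (j + 1)]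
    exact hS.hasProjectiveDimensionLT_X₃_iff m (hproj j)

end

/-- Let k be a field, S = k[x_0, …, x_r] graded by degree, 𝔪 = (x_0, …, x_r), M a finitely generated
ℤ-graded S-module and F a minimal graded free resolution of M by free modules of finite rank with
homogeneous bases (all matrix entries in 𝔪). Then the length of F is the projective dimension of M:
for every natural number n, all terms F_i with i > n vanish if and only if M has projective
dimension at most n as an S-module (all Ext^i_S(M, −) with i > n vanish). -/
theorem result (k : Type u) [Field k] (r : ℕ)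
    (M : Type u) [AddCommGroup M] [Module k M] [Module (MvPolynomial (Fin (r + 1)) k) M]
    [IsScalarTower k (MvPolynomial (Fin (r + 1)) k) M] [Module.Finite (MvPolynomial (Fin (r + 1)) k) M]
    (ℳ : ℤ → Submodule k M) [DirectSum.Decomposition ℳ] [SetLike.GradedSMul (GrSyz.stdGr k (Fin (r + 1))) ℳ]
    (F : GrSyz.FreeRes (GrSyz.stdGr k (Fin (r + 1))) ℳ) (hF : F.IsMinimal (GrSyz.irrel (GrSyz.stdGr k (Fin (r + 1)))).toIdeal) (n : ℕ) :
    F.HasLengthLE n ↔ CategoryTheory.HasProjectiveDimensionLE (ModuleCat.of (MvPolynomial (Fin (r + 1)) k) M) n := by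
  classical
  have hK : ∀ j, (Groth.Agent.Helper13FreeRes.res F).complex.ExactAt (j + 1) :=
    fun j => (Groth.Agent.Helper13FreeRes.res F).complex_exactAt_succ j
  have hproj : ∀ j, CategoryTheory.Projective ((Groth.Agent.Helper13FreeRes.res F).complex.X j) :=
    fun j => (Groth.Agent.Helper13FreeRes.res F).projective j
  have iso0 : (Groth.Agent.Helper13FreeRes.res F).complex.opcycles 0 ≅
      ModuleCat.of (MvPolynomial (Fin (r + 1)) k) M :=
    CategoryTheory.Limits.IsColimit.coconePointUniqueUpToIso
      ((Groth.Agent.Helper13FreeRes.res F).complex.opcyclesIsCokernel 1 0 (by simp))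
      (Groth.Agent.Helper13FreeRes.res F).isColimitCokernelCofork
  have key : ∀ m : ℕ, CategoryTheory.HasProjectiveDimensionLT
      (ModuleCat.of (MvPolynomial (Fin (r + 1)) k) M) (m + 1) ↔
      CategoryTheory.Projective ((Groth.Agent.Helper13FreeRes.res F).complex.opcycles m) := by
    intro m
    rw [← zero_add m, ← pdLT_opcycles_iff _ hK hproj m 0, zero_add]
    exact ⟨fun h => CategoryTheory.hasProjectiveDimensionLT_of_iso iso0.symm _,
      fun h => CategoryTheory.hasProjectiveDimensionLT_of_iso iso0 _⟩
  constructor
  · intro hlen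
    show CategoryTheory.HasProjectiveDimensionLT _ (n + 1)
    rw [key n]
    have hzero : (Groth.Agent.Helper13FreeRes.res F).complex.d (n + 1) n = 0 := by
      have hsub : Subsingleton ((Groth.Agent.Helper13FreeRes.res F).complex.X (n + 1)) := by
        show Subsingleton (Fin (F.rk (n + 1)) → MvPolynomial (Fin (r + 1)) k)
        rw [hlen (n + 1) (by omega)]
        infer_instance
      exact (ModuleCat.isZero_of_subsingleton _).eq_of_src _ _
    haveI := (Groth.Agent.Helper13FreeRes.res F).complex.isIso_pOpcycles (n + 1) n (by simp) hzero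
    haveI := hproj n
    exact CategoryTheory.Projective.of_iso
      (CategoryTheory.asIso ((Groth.Agent.Helper13FreeRes.res F).complex.pOpcycles n)) inferInstance
  · intro hpd i hi
    obtain ⟨m, rfl⟩ : ∃ m, i = m + 1 := ⟨i - 1, by omega⟩
    haveI : CategoryTheory.HasProjectiveDimensionLT
        (ModuleCat.of (MvPolynomial (Fin (r + 1)) k) M) (m + 1) :=
      CategoryTheory.hasProjectiveDimensionLT_of_ge _ (n + 1) (m + 1) (by omega)
    have hprojm := (key m).1 inferInstance
    obtain ⟨e⟩ := Groth.Agent.Helper13Delta.shift_iter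
      (isEffDelta_tor₂ (ModuleCat.of (MvPolynomial (Fin (r + 1)) k)
        ((MvPolynomial (Fin (r + 1)) k) ⧸ (GrSyz.irrel (GrSyz.stdGr k (Fin (r + 1)))).toIdeal)))
      (Groth.Agent.Helper13FreeRes.res F).complex hK hproj m 0 m (by omega)
    have hz : CategoryTheory.Limits.IsZero
        (((CategoryTheory.Tor (ModuleCat.{u} (MvPolynomial (Fin (r + 1)) k)) (m + 1)).obj
          (ModuleCat.of (MvPolynomial (Fin (r + 1)) k) ((MvPolynomial (Fin (r + 1)) k) ⧸
            (GrSyz.irrel (GrSyz.stdGr k (Fin (r + 1)))).toIdeal))).obj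
          (ModuleCat.of (MvPolynomial (Fin (r + 1)) k) M)) := by
      refine CategoryTheory.Limits.IsZero.of_iso ?_
        ((((CategoryTheory.Tor (ModuleCat.{u} (MvPolynomial (Fin (r + 1)) k)) (m + 1)).obj
          _).mapIso iso0.symm) ≪≫ e)
      haveI := hprojm
      exact CategoryTheory.isZero_Tor_succ_of_projective _ _ _ 0
    have hlen := Groth.Agent.S15436.result k r M ℳ F hF (m + 1)
    haveI := ModuleCat.subsingleton_of_isZero hz
    rw [Module.length_eq_zero] at hlen
    exact_mod_cast hlen.symm

end Groth.Agent.S15430
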