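import Groth.Statements.S15437
import Mathlib
import Groth.Agent.S15428
-- import your own Groth.Agent.* helpers here

set_option autoImplicit false
universe u
open GrSyz

namespace Groth.Agent.S15437

section aux

variable {k : Type u} [Field k] {r : ℕ}
  {M : Type u} [AddCommGroup M] [Module k M] [Module (MvPolynomial (Fin (r + 1)) k) M]
  {ℳ : ℤ → Submodule k M} [DirectSum.Decomposition ℳ] [SetLike.GradedSMul (GrSyz.stdGr k (Fin (r + 1))) ℳ]
  (F : GrSyz.FreeRes (GrSyz.stdGr k (Fin (r + 1))) ℳ)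

/-- all generator degrees in homological degrees `≤ m`. -/
noncomputable def J (m : ℕ) : Finset ℤ :=
  (Finset.range (m + 1)).biUnion (fun i => Finset.univ.image (F.deg i))

theorem deg_mem_J (m i : ℕ) (hi : i ∈ Finset.range (m + 1)) (b : Fin (F.rk i)) :
    F.deg i b ∈ J F m := by
  unfold J
  rw [Finset.mem_biUnion]
  exact ⟨i, hi, Finset.mem_image_of_mem _ (Finset.mem_univ b)⟩

theorem betti_eq_zero (m i : ℕ) (hi : i ∈ Finset.range (m + 1)) (j : ℤ) (hj : j ∉ J F m) :
    F.betti i j = 0 := by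
  unfold GrSyz.FreeRes.betti
  rw [Finset.card_eq_zero, Finset.filter_eq_empty_iff]
  intro b _ hb
  exact hj (hb ▸ deg_mem_J F m i hi b)

/-- alternating sum of Betti numbers. -/
noncomputable def B (m : ℕ) (j : ℤ) : ℤ :=
  ∑ i ∈ Finset.range (m + 1), (-1 : ℤ) ^ i * (F.betti i j : ℤ)

theorem B_eq_zero (m : ℕ) (j : ℤ) (hj : j ∉ J F m) : B F m j = 0 := by
  unfold B
  refine Finset.sum_eq_zero (fun i hi => ?_)
  rw [betti_eq_zero F m i hi j hj]
  simp

theorem sum_deg_eq (i : ℕ) (g : ℤ → ℤ) (S : Finset ℤ) (hS : ∀ b, F.deg i b ∈ S) :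
    ∑ b : Fin (F.rk i), g (F.deg i b) = ∑ j ∈ S, (F.betti i j : ℤ) * g j := by
  classical
  rw [← Finset.sum_fiberwise_of_maps_to (s := Finset.univ) (t := S) (g := F.deg i)
    (fun b _ => hS b)]
  refine Finset.sum_congr rfl (fun j _ => ?_)
  rw [Finset.sum_congr rfl (fun b hb => by rw [(Finset.mem_filter.1 hb).2]),
    Finset.sum_const, nsmul_eq_mul]
  unfold GrSyz.FreeRes.betti
  congr! 2

theorem alt_sum_eq (m : ℕ) (g : ℤ → ℤ) :
    ∑ i ∈ Finset.range (m + 1), (-1 : ℤ) ^ i * ∑ b : Fin (F.rk i), g (F.deg i b) =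
      ∑ j ∈ J F m, B F m j * g j := by
  have h1 : ∀ i ∈ Finset.range (m + 1), (-1 : ℤ) ^ i * ∑ b : Fin (F.rk i), g (F.deg i b) =
      ∑ j ∈ J F m, (-1 : ℤ) ^ i * (F.betti i j : ℤ) * g j := by
    intro i hi
    rw [sum_deg_eq F i g (J F m) (deg_mem_J F m i hi), Finset.mul_sum]
    refine Finset.sum_congr rfl (fun j _ => ?_)
    ring
  rw [Finset.sum_congr rfl h1, Finset.sum_comm]
  refine Finset.sum_congr rfl (fun j _ => ?_)
  unfold B
  rw [Finset.sum_mul]

end aux

/-- Let k be a field, S = k[x_0, …, x_r] graded by degree and M a ℤ-graded S-module with a finite graded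
free resolution F of length at most m by free modules of finite rank with homogeneous bases; write
β_{i,j} for the number of basis vectors of F_i of degree j (the graded Betti numbers when F is
minimal) and B_j = Σ_{i ≤ m} (−1)^i β_{i,j}. Then for every integer d, dim_k M_d = Σ_j B_j C(r + d −
j, r), where a binomial with d < j counts as zero and only finitely many j contribute; and the B_j
are recovered from the Hilbert function by B_j = dim_k M_j − Σ_{n < j} B_n C(r + j − n, r). (Stated
for any finite graded free resolution; the published statement takes the minimal one.) -/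
theorem result (k : Type u) [Field k] (r : ℕ)
    (M : Type u) [AddCommGroup M] [Module k M] [Module (MvPolynomial (Fin (r + 1)) k) M]
    [IsScalarTower k (MvPolynomial (Fin (r + 1)) k) M] [Module.Finite (MvPolynomial (Fin (r + 1)) k) M]
    (ℳ : ℤ → Submodule k M) [DirectSum.Decomposition ℳ] [SetLike.GradedSMul (GrSyz.stdGr k (Fin (r + 1))) ℳ]
    (F : GrSyz.FreeRes (GrSyz.stdGr k (Fin (r + 1))) ℳ) (m : ℕ) (hF : F.HasLengthLE m) :
    (∀ d : ℤ, (Module.finrank k ↥(ℳ d) : ℤ) =
        ∑ᶠ j : ℤ, (∑ i ∈ Finset.range (m + 1), (-1 : ℤ) ^ i * (F.betti i j : ℤ)) *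
          (if j ≤ d then ((Nat.choose (r + (d - j).toNat) r : ℕ) : ℤ) else 0)) ∧
      ∀ j : ℤ, (∑ i ∈ Finset.range (m + 1), (-1 : ℤ) ^ i * (F.betti i j : ℤ)) =
        (Module.finrank k ↥(ℳ j) : ℤ) -
          ∑ᶠ n : ℤ, (if n < j then (∑ i ∈ Finset.range (m + 1), (-1 : ℤ) ^ i * (F.betti i n : ℤ)) * ((Nat.choose (r + (j - n).toNat) r : ℕ) : ℤ) else 0) := by
  classical
  have hB : ∀ j, (∑ i ∈ Finset.range (m + 1), (-1 : ℤ) ^ i * (F.betti i j : ℤ)) = B F m j :=
    fun j => rfl
  simp only [hB]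
  have h1 : ∀ d : ℤ, (Module.finrank k ↥(ℳ d) : ℤ) =
      ∑ j ∈ J F m, B F m j *
        (if j ≤ d then ((Nat.choose (r + (d - j).toNat) r : ℕ) : ℤ) else 0) := by
    intro d
    rw [Groth.Agent.S15428.result k r M ℳ F m hF d]
    exact alt_sum_eq F m (fun j => if j ≤ d then ((Nat.choose (r + (d - j).toNat) r : ℕ) : ℤ) else 0)
  refine ⟨fun d => ?_, fun j => ?_⟩
  · rw [h1 d]
    symm
    apply finsum_eq_sum_of_support_subset
    intro j hj
    rw [Function.mem_support] at hj
    by_contra hjJ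
    exact hj (by rw [B_eq_zero F m j hjJ, zero_mul])
  · have h2 : (∑ᶠ n : ℤ, (if n < j then B F m n * ((Nat.choose (r + (j - n).toNat) r : ℕ) : ℤ) else 0)) =
        ∑ n ∈ insert j (J F m),
          (if n < j then B F m n * ((Nat.choose (r + (j - n).toNat) r : ℕ) : ℤ) else 0) := by
      apply finsum_eq_sum_of_support_subset
      intro n hn
      rw [Function.mem_support] at hn
      by_contra hnJ
      apply hn
      have hnJ' : n ∉ J F m := fun h => hnJ (Finset.mem_coe.2 (Finset.mem_insert_of_mem h))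
      rw [B_eq_zero F m n hnJ', zero_mul, ite_self]
    have h3 : (Module.finrank k ↥(ℳ j) : ℤ) = ∑ n ∈ insert j (J F m), B F m n *
        (if n ≤ j then ((Nat.choose (r + (j - n).toNat) r : ℕ) : ℤ) else 0) := by
      rw [h1 j]
      apply Finset.sum_subset (Finset.subset_insert _ _)
      intro n _ hn
      rw [B_eq_zero F m n hn, zero_mul]
    rw [h2, h3, eq_sub_iff_add_eq, ← Finset.sum_erase_add _ _ (Finset.mem_insert_self j (J F m)),
      ← Finset.sum_erase_add (s := insert j (J F m)) _ (Finset.mem_insert_self j (J F m))]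
    have e1 : (if j < j then B F m j * ((Nat.choose (r + (j - j).toNat) r : ℕ) : ℤ) else 0) = 0 :=
      if_neg (lt_irrefl j)
    have e2 : B F m j * (if j ≤ j then ((Nat.choose (r + (j - j).toNat) r : ℕ) : ℤ) else 0) =
        B F m j := by
      rw [if_pos le_rfl, sub_self, Int.toNat_zero, add_zero, Nat.choose_self, Nat.cast_one, mul_one]
    rw [e1, e2, add_zero, add_comm]
    congr 1
    refine Finset.sum_congr rfl (fun n hn => ?_)
    have hne : n ≠ j := (Finset.mem_erase.1 hn).1
    by_cases hlt : n < j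
    · rw [if_pos hlt, if_pos hlt.le]
    · rw [if_neg hlt, if_neg (by omega), mul_zero]

end Groth.Agent.S15437
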