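import Groth.Statements.S1544
import Groth.Agent.Lib.Helper6BcRed5

set_option autoImplicit false
universe u
open CategoryTheory CategoryTheory.Limits AlgebraicGeometry
attribute [local instance] Curv2.resAlgebra Curv2.stalkAlgebra
open Variety

namespace Groth.Agent.S1544

/-- For an integral scheme over k, geometric reducedness of the scheme is equivalent to geometric
reducedness over k of the function field (the local ring at the generic point), i.e. a separable
extension of k in the sense of commutative algebra. The source states this for varieties;
integrality is what the proof uses. -/
theorem result (k : Type u) [Field k] (X : Scheme.{u}) [X.Over (Spec (CommRingCat.of k))] [IsIntegral X] :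
    GeometricallyReduced (X ↘ (Spec (CommRingCat.of k))) ↔ Algebra.IsGeometricallyReduced k X.functionField := by
  constructor
  · intro h
    apply (Groth.Agent.Lib.Helper6.BcRed.isGeomReducedAt_iff k X (genericPoint X)).mp
    intro K _ _ y _
    rw [geometricallyReduced_iff, geometrically_iff_of_commRing_of_isClosedUnderIsomorphisms] at h
    haveI : AlgebraicGeometry.IsReduced (Curv2.bc k X K) := h K
    infer_instance
  · intro h
    apply Groth.Agent.Lib.Helper6.BcRed5.geometricallyReduced_of_generic k X
    intro Z hZ η hη
    rw [irreducibleComponents_eq_singleton, Set.mem_singleton_iff] at hZ
    subst hZ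
    have hη' : η = genericPoint X := hη.eq (genericPoint_spec X)
    subst hη'
    exact (Groth.Agent.Lib.Helper6.BcRed.isGeomReducedAt_iff k X (genericPoint X)).mpr h

end Groth.Agent.S1544
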