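import Groth.Statements.S15442
import Groth.Agent.Lib.Helper23WeilCoh
-- import your own Groth.Agent.* helpers here

set_option autoImplicit false
universe u v
open CategoryTheory AlgebraicGeometry
open WeilCoh

namespace Groth.Agent.S15442

/-- Let H^* be a Weil cohomology theory, with coefficient field K of characteristic zero, on nonsingular
connected projective varieties over the algebraically closed field k, and X such a variety. Then the
structure morphism K → H^0(X) is an isomorphism: c ↦ c · 1 is a bijection from K onto the degree-0
part of the cohomology ring. -/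
theorem result (k : Type u) [Field k] [IsAlgClosed k] (K : Type v) [Field K] [CharZero K]
    (T : WeilCoh.Theory k K) (X : WeilCoh.Var k) :
    Function.Bijective (fun c : K =>
      (⟨c • (1 : T.H X), (T.gr X 0).smul_mem c (SetLike.one_mem_graded (T.gr X))⟩ : ↥(T.gr X 0))) := by
  -- the top-degree piece is one-dimensional
  have htop : Module.finrank K (T.gr X (2 * (WeilCoh.dim X.obj.left : ℤ))) = 1 := by
    rw [LinearEquiv.finrank_eq (LinearEquiv.ofBijective _ (T.tr_bijective X))]
    exact Module.finrank_self K
  have hdual := T.duality X 0 (2 * (WeilCoh.dim X.obj.left : ℤ)) (by ring)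
  have hzero : Module.finrank K (T.gr X 0) = 1 := by
    rw [Module.finrank_of_isPerfPair
      (WeilCoh.pairing K (T.gr X 0) (T.gr X (2 * (WeilCoh.dim X.obj.left : ℤ))) (T.tr X)), htop]
  -- `1 ≠ 0` in the cohomology ring
  have hone : (1 : T.H X) ≠ 0 := by
    intro h10
    obtain ⟨x, hx⟩ := (T.tr_bijective X).2 1
    have hx0 : (x : T.H X) = 0 := by rw [← one_mul (x : T.H X), h10, zero_mul]
    have : (T.tr X) (x : T.H X) = 1 := hx
    rw [hx0, map_zero] at this
    exact zero_ne_one this
  let φ : K →ₗ[K] T.gr X 0 :=
    { toFun := fun c => ⟨c • (1 : T.H X), (T.gr X 0).smul_mem c (SetLike.one_mem_graded (T.gr X))⟩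
      map_add' := fun c d => by ext; simp [add_smul]
      map_smul' := fun c d => by ext; simp [mul_smul] }
  have hinj : Function.Injective φ := by
    rw [injective_iff_map_eq_zero]
    intro c hc
    have : c • (1 : T.H X) = 0 := congrArg Subtype.val hc
    rcases smul_eq_zero.mp this with h | h
    · exact h
    · exact absurd h hone
  have hfin : Module.finrank K K = Module.finrank K (T.gr X 0) := by
    rw [hzero, Module.finrank_self]
  exact ⟨hinj, (LinearMap.injective_iff_surjective_of_finrank_eq_finrank hfin).mp hinj⟩

end Groth.Agent.S15442
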