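import Groth.Statements.S15449
import Groth.Agent.Lib.Helper23WeilCoh
-- import your own Groth.Agent.* helpers here

set_option autoImplicit false
universe u v
open CategoryTheory AlgebraicGeometry
open WeilCoh

namespace Groth.Agent.S15449

/-- For a Weil cohomology theory H^* (coefficients in K of characteristic zero, on nonsingular connected
projective varieties over an algebraically closed field k), such varieties X and Y with product X ×
Y and projections p, q, and α ∈ H^i(Y): p_*(q^*(α)) = Tr_Y(α) (as a multiple of 1 ∈ H^0(X)) if i = 2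
dim Y, and p_*(q^*(α)) = 0 otherwise. The product is any object Q with morphisms p : Q → X, q : Q →
Y forming a cartesian square over Spec k; both sides are read in the total cohomology ring of X. -/
theorem result (k : Type u) [Field k] [IsAlgClosed k] (K : Type v) [Field K] [CharZero K]
    (T : WeilCoh.Theory k K) (X Y Q : WeilCoh.Var k) (p : Q ⟶ X) (q : Q ⟶ Y)
    (hQ : WeilCoh.IsProd p q) (i : ℤ) (a : ↥(T.gr Y i)) :
    (i = 2 * (WeilCoh.dim Y.obj.left : ℤ) →
      (T.push p i ⟨T.pull q a, T.pull_mem q i a a.2⟩ : T.H X) = algebraMap K (T.H X) (T.tr Y a)) ∧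
    (i ≠ 2 * (WeilCoh.dim Y.obj.left : ℤ) →
      (T.push p i ⟨T.pull q a, T.pull_mem q i a a.2⟩ : T.H X) = 0) := by
  have hdim := Groth.Agent.Lib.Helper23.dim_prod T p q hQ
  constructor
  · intro hi
    have hc : algebraMap K (T.H X) (T.tr Y a) ∈ T.gr X 0 := by
      rw [Algebra.algebraMap_eq_smul_one]
      exact (T.gr X 0).smul_mem _ (SetLike.one_mem_graded (T.gr X))
    refine Groth.Agent.Lib.Helper23.eq_of_forall_tr_mul_eq T (m := 0)
      (n := 2 * (WeilCoh.dim X.obj.left : ℤ)) (by ring)
      (Groth.Agent.Lib.Helper23.mem_gr_of_eq T (by omega) (Subtype.mem _)) hc ?_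
    intro b hb
    rw [Groth.Agent.Lib.Helper23.tr_push_mul T p i _ b
      (n := 2 * (WeilCoh.dim X.obj.left : ℤ)) (by omega) hb]
    have ha : (a : T.H Y) ∈ T.gr Y (2 * (WeilCoh.dim Y.obj.left : ℤ)) := hi ▸ a.2
    have hcomm := T.gradedComm Q _ _ _ _ (T.pull_mem q _ _ ha) (T.pull_mem p _ _ hb)
    have hsign : ((-1 : K) ^ ((2 * (WeilCoh.dim Y.obj.left : ℤ)).natAbs *
        (2 * (WeilCoh.dim X.obj.left : ℤ)).natAbs)) = 1 := by
      apply Even.neg_one_pow
      apply Even.mul_right
      rw [Int.natAbs_mul]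
      exact Even.mul_right (by decide) _
    rw [hsign, one_smul] at hcomm
    change T.tr Q (T.pull q (a : T.H Y) * T.pull p b) = _
    rw [hcomm, T.tr_prod p q hQ b a hb ha, Algebra.algebraMap_eq_smul_one, smul_mul_assoc,
      one_mul, map_smul, smul_eq_mul, mul_comm]
  · intro hi
    refine Groth.Agent.Lib.Helper23.eq_of_forall_tr_mul_eq T
      (m := i + 2 * (WeilCoh.dim X.obj.left : ℤ) - 2 * (WeilCoh.dim Q.obj.left : ℤ))
      (n := 2 * (WeilCoh.dim Q.obj.left : ℤ) - i) (by ring) (Subtype.mem _)
      (Submodule.zero_mem _) ?_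
    intro b hb
    rw [Groth.Agent.Lib.Helper23.tr_push_mul T p i _ b
      (n := 2 * (WeilCoh.dim Q.obj.left : ℤ) - i) (by ring) hb, zero_mul, map_zero]
    change T.tr Q (T.pull q (a : T.H Y) * T.pull p b) = 0
    rcases lt_or_gt_of_ne hi with hlt | hgt
    · have hb0 : b = 0 := by
        have := T.vanish X (2 * (WeilCoh.dim Q.obj.left : ℤ) - i) (Or.inr (by omega))
        rw [this] at hb
        exact (Submodule.mem_bot K).mp hb
      rw [hb0, map_zero, mul_zero, map_zero]
    · have ha0 : (a : T.H Y) = 0 := by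
        have hv := T.vanish Y i (Or.inr (by omega))
        have ha : (a : T.H Y) ∈ (⊥ : Submodule K (T.H Y)) := hv ▸ a.2
        exact (Submodule.mem_bot K).mp ha
      rw [ha0, map_zero, zero_mul, map_zero]

end Groth.Agent.S15449
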