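import Groth.Statements.S1545
import Groth.Agent.Lib.Helper6BcTrans

set_option autoImplicit false
universe u
open CategoryTheory CategoryTheory.Limits AlgebraicGeometry
open Variety

namespace Groth.Agent.S1545

/-- For a field extension k' of k, a point x of X and a point x' of X_{k'} over x, X is geometrically
reduced at x if and only if X_{k'} is geometrically reduced at x' (over k'). -/
theorem result (k : Type u) [Field k] (X : Scheme.{u}) [X.Over (Spec (CommRingCat.of k))] (k' : Type u) [Field k'] [Algebra k k']
    (x : X) (x' : Curv2.bc k X k') (hx : Curv2.bcFst k X k' x' = x) :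
    Curv2.IsGeomReducedAt k X x ↔
      @Curv2.IsGeomReducedAt k' _ (Curv2.bc k X k') ⟨Curv2.bcSnd k X k'⟩ x' := by
  subst hx
  constructor
  · intro h
    exact Groth.Agent.Lib.Helper6.BcTrans.ascend_to_bc Groth.Agent.Lib.Helper6.BcRed.reducedProp
      k X k' x' (fun K _ _ y hy => h K y hy)
  · intro h K _ _ y hy
    exact Groth.Agent.Lib.Helper6.BcTrans.descend_of_bc Groth.Agent.Lib.Helper6.BcRed.reducedProp
      Groth.Agent.Lib.Helper6.BcTrans.reduced_desc k X k' x' h K y hy

end Groth.Agent.S1545
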