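import Groth.Statements.S15488
import Mathlib
-- import your own Groth.Agent.* helpers here

set_option autoImplicit false
universe u
open IsoNat

namespace Groth.Agent.S15488.Aux

set_option autoImplicit false

namespace RegRep

variable {A : Type u} [CommRing A] {G : Type u} [Group G] [Finite G] (g : G) (l : A)

/-- cosets `⟨g⟩ h` -/
abbrev Q := Quotient (QuotientGroup.rightRel (Subgroup.zpowers g))

/-- representative of the coset of `h` -/
noncomputable def rep (q : Q g) : G := Quotient.out q

lemma mk_rep (q : Q g) : (Quotient.mk'' (rep g q) : Q g) = q := Quotient.out_eq' q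

lemma exists_pow (h : G) : ∃ k : ℕ, g ^ k = h * (rep g (Quotient.mk'' h))⁻¹ := by
  have h1 : (Quotient.mk'' (rep g (Quotient.mk'' h)) : Q g) = Quotient.mk'' h := mk_rep g _
  have h2 := Quotient.exact' h1
  rw [QuotientGroup.rightRel_apply] at h2
  have h3 : h * (rep g (Quotient.mk'' h))⁻¹ ∈ Submonoid.powers g :=
    mem_powers_iff_mem_zpowers.mpr h2
  exact h3

/-- exponent of `h` relative to its representative -/
noncomputable def expo (h : G) : ℕ := Classical.choose (exists_pow g h)

lemma expo_spec (h : G) : g ^ expo g h = h * (rep g (Quotient.mk'' h))⁻¹ :=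
  Classical.choose_spec (exists_pow g h)

/-- the coefficient function -/
noncomputable def coef (h : G) : A := l ^ expo g h

variable {g l}

lemma coef_eq (hl : l ^ orderOf g = 1) (h : G) (n : ℕ)
    (hn : g ^ n = h * (rep g (Quotient.mk'' h))⁻¹) : coef g l h = l ^ n := by
  unfold coef
  have h1 : g ^ expo g h = g ^ n := by rw [expo_spec, hn]
  have h2 : expo g h % orderOf g = n % orderOf g := pow_eq_pow_iff_modEq.mp h1
  rw [pow_eq_pow_mod (expo g h) hl, pow_eq_pow_mod n hl, h2]

lemma mk_mul (h : G) : (Quotient.mk'' (g * h) : Q g) = Quotient.mk'' h := by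
  apply Quotient.sound'
  rw [QuotientGroup.rightRel_apply]
  have : h * (g * h)⁻¹ = g⁻¹ := by group
  rw [this]
  exact Subgroup.inv_mem _ (Subgroup.mem_zpowers g)

lemma coef_mul (hl : l ^ orderOf g = 1) (h : G) : coef g l (g * h) = l * coef g l h := by
  rw [coef_eq hl (g * h) (expo g h + 1), coef, pow_succ, mul_comm]
  rw [pow_succ', expo_spec, mk_mul]
  group

lemma coef_rep (hl : l ^ orderOf g = 1) (q : Q g) : coef g l (rep g q) = 1 := by
  rw [coef_eq hl (rep g q) 0, pow_zero]
  rw [pow_zero, mk_rep, mul_inv_cancel]

variable (g l)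

/-- restriction to representatives -/
noncomputable def Phi : (G → A) →ₗ[A] (Q g → A) := LinearMap.funLeft A A (rep g)

/-- extension from representatives -/
noncomputable def Psi : (Q g → A) →ₗ[A] (G → A) :=
  LinearMap.pi fun h => coef g l h • LinearMap.proj (Quotient.mk'' h)

lemma Psi_apply (w : Q g → A) (h : G) : Psi g l w h = coef g l h * w (Quotient.mk'' h) := by
  simp [Psi]

/-- the eigen-submodule -/
abbrev E : Submodule A (G → A) :=
  LinearMap.ker (LinearMap.funLeft A A (fun h : G => g * h) - l • LinearMap.id)

variable {g l}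

lemma mem_E (v : G → A) : v ∈ E g l ↔ ∀ h, v (g * h) = l * v h := by
  rw [LinearMap.mem_ker]
  constructor
  · intro hv h
    have := congrFun hv h
    simp only [LinearMap.sub_apply, LinearMap.funLeft_apply, LinearMap.smul_apply,
      LinearMap.id_coe, id_eq, Pi.sub_apply, Pi.smul_apply, smul_eq_mul, Pi.zero_apply] at this
    exact sub_eq_zero.mp this
  · intro hv
    funext h
    simp only [LinearMap.sub_apply, LinearMap.funLeft_apply, LinearMap.smul_apply,
      LinearMap.id_coe, id_eq, Pi.sub_apply, Pi.smul_apply, smul_eq_mul, Pi.zero_apply]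
    exact sub_eq_zero.mpr (hv h)

lemma Psi_mem (hl : l ^ orderOf g = 1) (w : Q g → A) : Psi g l w ∈ E g l := by
  rw [mem_E]
  intro h
  rw [Psi_apply, Psi_apply, coef_mul hl, mk_mul, mul_assoc]

lemma Phi_Psi (hl : l ^ orderOf g = 1) (w : Q g → A) : Phi g (Psi g l w) = w := by
  funext q
  simp only [Phi, LinearMap.funLeft_apply]
  rw [Psi_apply, coef_rep hl, one_mul, mk_rep]

lemma E_pow {v : G → A} (hv : v ∈ E g l) (k : ℕ) (h : G) : v (g ^ k * h) = l ^ k * v h := by
  rw [mem_E] at hv
  induction k with
  | zero => simp
  | succ k ih => rw [pow_succ', mul_assoc, hv, ih, pow_succ', mul_assoc]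

lemma Psi_Phi {v : G → A} (hv : v ∈ E g l) : Psi g l (Phi g v) = v := by
  funext h
  rw [Psi_apply]
  simp only [Phi, LinearMap.funLeft_apply]
  have h1 : h = g ^ expo g h * rep g (Quotient.mk'' h) := by
    rw [expo_spec]; group
  conv_rhs => rw [h1]
  rw [E_pow hv, coef]

/-- `E ≃ (Q → A)` -/
noncomputable def equiv (hl : l ^ orderOf g = 1) : E g l ≃ₗ[A] (Q g → A) :=
  LinearEquiv.ofLinearMap ((Phi g).comp (E g l).subtype)
    ((Psi g l).codRestrict (E g l) (Psi_mem hl))
    (LinearMap.ext fun w => Phi_Psi hl w)
    (LinearMap.ext fun v => Subtype.ext (Psi_Phi v.2))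

theorem main [Nontrivial A] (hl : l ^ orderOf g = 1) :
    Module.Free A (E g l) ∧ Module.finrank A (E g l) * orderOf g = Nat.card G ∧
      ∃ E' : Submodule A (G → A), IsCompl (E g l) E' := by
  refine ⟨Module.Free.of_equiv (equiv hl).symm, ?_, ?_⟩
  · haveI := Fintype.ofFinite (Q g)
    rw [(equiv hl).finrank_eq, Module.finrank_fintype_fun_eq_card,
      Subgroup.card_eq_card_quotient_mul_card_subgroup (Subgroup.zpowers g), Nat.card_zpowers,
      ← Nat.card_eq_fintype_card,
      Nat.card_congr (QuotientGroup.quotientRightRelEquivQuotientLeftRel (Subgroup.zpowers g))]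
  · let f : (G → A) →ₗ[A] E g l := ((Psi g l).codRestrict (E g l) (Psi_mem hl)).comp (Phi g)
    refine ⟨LinearMap.ker f, LinearMap.isCompl_of_proj (f := f) ?_⟩
    intro x
    apply Subtype.ext
    exact Psi_Phi x.2

end RegRep

end Groth.Agent.S15488.Aux

namespace Groth.Agent.S15488

/-- Let A be a nontrivial commutative ring, G a finite group, g an element of G of order ν and l an
element of A with l ^ ν = 1. In the free A-module of functions G → A (the regular representation, g
acting by translation v ↦ v(g·)), the submodule of v with v(g h) = l v(h) for all h is a direct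
summand, free of rank |G| / ν (stated as: free, rank · ν = |G|, and a complementary submodule
exists). (The published statement is over an arbitrary ring and also covers Hom(A^N, −) of the
regular representation, which follows; nontriviality of A is needed for the rank to be meaningful.) -/
theorem result
    (A : Type u) [CommRing A] [Nontrivial A] (G : Type u) [Group G] [Finite G]
    (g : G) (l : A) (hl : l ^ orderOf g = 1) :
    Module.Free A (LinearMap.ker (LinearMap.funLeft A A (fun h : G => g * h) - l • LinearMap.id)) ∧
      Module.finrank A (LinearMap.ker (LinearMap.funLeft A A (fun h : G => g * h) - l • LinearMap.id)) * orderOf g = Nat.card G ∧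
      ∃ E' : Submodule A (G → A), IsCompl (LinearMap.ker (LinearMap.funLeft A A (fun h : G => g * h) - l • LinearMap.id)) E' := by
  exact Aux.RegRep.main hl

end Groth.Agent.S15488
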