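import Groth.Statements.S15494
import Mathlib

set_option autoImplicit false
universe u v
open Dieud

namespace Groth.Agent.S15494



/-- Let W be a commutative ring with a ring endomorphism σ, p a natural number, M a W-module and F an
additive self-map of M with F (w • m) = σ w • F m. Let d ≥ 1, c ≥ 1, h = d + c, and let e_1, …, e_h,
… be vectors of M on which F acts through a display matrix in normal form: F e_i = e_{i+1} for 1 ≤ i
< d; F e_d = Σ_{i=1}^{d} a_{i,d} e_i + e_{d+1}; F e_j = Σ_{i=1}^{d} p a_{i,j} e_i + p e_{j+1} for d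
< j < h; F e_h = Σ_{i=1}^{d} p a_{i,h} e_i. Then F^h e_1 = Σ_{i=1}^{d} Σ_{j=d}^{h} p^{j-d}
σ^{h-j}(a_{i,j}) F^{h+i-j-1} e_1. (The published statement is for the Dieudonné module of a
p-divisible group of dimension d and height h over the Witt ring of a field of characteristic p,
with σ the Frobenius and e_1, …, e_h a basis; this row keeps only the relations which the printed
computation uses, so W, σ, p and the vectors are arbitrary.) -/
theorem result
    (W : Type u) [CommRing W] (σ : W →+* W) (p : ℕ)
    (M : Type v) [AddCommGroup M] [Module W M]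
    (F : M →+ M) (hF : ∀ (w : W) (m : M), F (w • m) = σ w • F m)
    (d c : ℕ) (hd : 0 < d) (hc : 0 < c)
    (a : ℕ → ℕ → W) (e : ℕ → M)
    (h1 : ∀ i : ℕ, 1 ≤ i → i < d → F (e i) = e (i + 1))
    (h2 : F (e d) = (∑ i ∈ Finset.Icc 1 d, a i d • e i) + e (d + 1))
    (h3 : ∀ j : ℕ, d < j → j < d + c →
      F (e j) = (∑ i ∈ Finset.Icc 1 d, ((p : W) * a i j) • e i) + (p : W) • e (j + 1))
    (h4 : F (e (d + c)) = ∑ i ∈ Finset.Icc 1 d, ((p : W) * a i (d + c)) • e i) :
    (⇑F)^[d + c] (e 1) = ∑ i ∈ Finset.Icc 1 d, ∑ j ∈ Finset.Icc d (d + c),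
      ((p : W) ^ (j - d) * (⇑σ)^[d + c - j] (a i j)) • (⇑F)^[d + c + i - j - 1] (e 1) := by
  -- (1)
  have hE : ∀ i, 1 ≤ i → i ≤ d → (⇑F)^[i - 1] (e 1) = e i := by
    intro i hi
    induction i, hi using Nat.le_induction with
    | base => intro _; rfl
    | succ i hi ih =>
      intro hid
      rw [Nat.add_sub_cancel]
      have : i = (i - 1) + 1 := by omega
      rw [this, Function.iterate_succ_apply', ih (by omega), ← this]
      exact h1 i hi (by omega)
  have hσp : ∀ k : ℕ, σ ((p : W) ^ k) = (p : W) ^ k := fun k => by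
    rw [map_pow, map_natCast]
  -- T
  set T : ℕ → M := fun j => ∑ i ∈ Finset.Icc 1 d, ∑ j' ∈ Finset.Icc d j,
      ((p : W) ^ (j' - d) * (⇑σ)^[j - j'] (a i j')) • (⇑F)^[j + i - j' - 1] (e 1) with hT
  -- F (T j) + new = T (j+1)
  have hstep : ∀ j, d ≤ j → F (T j) + ∑ i ∈ Finset.Icc 1 d,
      ((p : W) ^ (j + 1 - d) * a i (j + 1)) • e i = T (j + 1) := by
    intro j hj
    simp only [hT]
    rw [map_sum, ← Finset.sum_add_distrib]
    refine Finset.sum_congr rfl fun i hi => ?_
    rw [Finset.mem_Icc] at hi
    rw [Finset.sum_Icc_succ_top (by omega : d ≤ j + 1), map_sum]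
    congr 1
    · refine Finset.sum_congr rfl fun j' hj' => ?_
      rw [Finset.mem_Icc] at hj'
      rw [hF, map_mul, hσp, ← Function.iterate_succ_apply' (⇑σ), ← Function.iterate_succ_apply' (⇑F)]
      congr 3 <;> omega
    · rw [Nat.sub_self, Function.iterate_zero, id]
      congr 1
      rw [← hE i hi.1 hi.2]
      congr 1
      omega
  -- A(j)
  have hA : ∀ j, d ≤ j → j < d + c → (⇑F)^[j] (e 1) = T j + (p : W) ^ (j - d) • e (j + 1) := by
    intro j hj
    induction j, hj using Nat.le_induction with
    | base =>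
      intro _
      have hd' : d = (d - 1) + 1 := by omega
      conv_lhs => rw [hd', Function.iterate_succ_apply', hE d hd le_rfl, h2]
      rw [Nat.sub_self, pow_zero, one_smul]
      congr 1
      simp only [hT]
      refine Finset.sum_congr rfl fun i hi => ?_
      rw [Finset.mem_Icc] at hi
      rw [Finset.Icc_self, Finset.sum_singleton, Nat.sub_self, pow_zero, one_mul,
        Function.iterate_zero, id, ← hE i hi.1 hi.2]
      congr 2
      omega
    | succ j hj ih =>
      intro hjc
      rw [Function.iterate_succ_apply', ih (by omega), map_add, hF, hσp,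
        h3 (j + 1) (by omega) hjc, smul_add, Finset.smul_sum, ← add_assoc, ← hstep j hj]
      congr 1
      · congr 1
        refine Finset.sum_congr rfl fun i _ => ?_
        rw [smul_smul, ← mul_assoc, ← pow_succ]
        congr 3
        omega
      · rw [smul_smul, ← pow_succ]
        congr 2
        omega
  -- final
  have hlast := hA (d + c - 1) (by omega) (by omega)
  have hdc : d + c = (d + c - 1) + 1 := by omega
  have hfin : (⇑F)^[d + c] (e 1) = T (d + c) := by
    conv_lhs => rw [hdc, Function.iterate_succ_apply', hlast, map_add, hF, hσp, ← hdc, h4]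
    rw [Finset.smul_sum]
    have := hstep (d + c - 1) (by omega)
    rw [← hdc] at this
    rw [← this]
    congr 1
    refine Finset.sum_congr rfl fun i _ => ?_
    rw [smul_smul, ← mul_assoc, ← pow_succ]
    congr 3
    omega
  rw [hfin]

end Groth.Agent.S15494
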