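import Groth.Statements.S15495
import Mathlib.Tactic
-- import your own Groth.Agent.* helpers here

set_option autoImplicit false
universe u
open CAlg

namespace Groth.Agent.S15495

/-- In an Artinian local ring R whose maximal ideal m contains the prime number p, the multiplicative
group 1 + m is annihilated under some power of p: there is n with (1 + x)^(p^n) = 1 for every x in
m. (The published text makes this assertion inside a proof, for Artinian local algebras over the
Witt ring of a perfect field of characteristic p; only p ∈ m and the nilpotence of m are used.) -/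
theorem result
    (R : Type u) [CommRing R] [IsLocalRing R] [IsArtinianRing R]
    (p : ℕ) (hp : p.Prime) (hpm : (p : R) ∈ IsLocalRing.maximalIdeal R) :
    ∃ n : ℕ, ∀ x ∈ IsLocalRing.maximalIdeal R, (1 + x) ^ (p ^ n) = 1 := by
  set m := IsLocalRing.maximalIdeal R with hm
  -- the maximal ideal is nilpotent
  obtain ⟨N, hN⟩ : ∃ N : ℕ, m ^ N = ⊥ := by
    have h := IsArtinianRing.isNilpotent_jacobson_bot (R := R)
    rw [IsLocalRing.jacobson_eq_maximalIdeal (⊥ : Ideal R) bot_ne_top] at h
    obtain ⟨N, hN⟩ := h
    exact ⟨N, by simpa using hN⟩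
  -- powers minus one stay in m
  have hpow : ∀ (y : R), y ∈ m → ∀ k : ℕ, (1 + y) ^ k - 1 ∈ m := by
    intro y hy k
    have := mul_geom_sum (1 + y) k
    have h2 : (1 + y) ^ k - 1 = y * ∑ i ∈ Finset.range k, (1 + y) ^ i := by
      rw [← this]; ring
    rw [h2]
    exact Ideal.mul_mem_right _ _ hy
  -- key step
  have key : ∀ (j : ℕ) (y : R), y ∈ m ^ (j + 1) → (1 + y) ^ p - 1 ∈ m ^ (j + 2) := by
    intro j y hy
    have hym : y ∈ m := Ideal.pow_le_self (by omega) hy
    have h2 : (1 + y) ^ p - 1 = y * ∑ i ∈ Finset.range p, (1 + y) ^ i := by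
      rw [← mul_geom_sum (1 + y) p]; ring
    have hs : ∑ i ∈ Finset.range p, (1 + y) ^ i ∈ m := by
      have : ∑ i ∈ Finset.range p, (1 + y) ^ i
          = ∑ i ∈ Finset.range p, ((1 + y) ^ i - 1) + (p : R) := by
        rw [Finset.sum_sub_distrib]
        simp
      rw [this]
      exact Ideal.add_mem _ (Ideal.sum_mem _ (fun i _ => hpow y hym i)) hpm
    rw [h2, pow_succ m (j + 1)]
    exact Ideal.mul_mem_mul hy hs
  have main : ∀ (n : ℕ) (x : R), x ∈ m → (1 + x) ^ (p ^ n) - 1 ∈ m ^ (n + 1) := by
    intro n
    induction n with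
    | zero => intro x hx; simpa using hx
    | succ n ih =>
      intro x hx
      have h1 := key n _ (ih x hx)
      have h3 : (1 + ((1 + x) ^ (p ^ n) - 1)) ^ p = (1 + x) ^ (p ^ (n + 1)) := by
        rw [add_sub_cancel, ← pow_mul, ← pow_succ]
      rw [h3] at h1
      exact h1
  refine ⟨N, fun x hx => ?_⟩
  have h := main N x hx
  have hle : m ^ (N + 1) ≤ m ^ N := Ideal.pow_le_pow_right (by omega)
  have h0 := hle h
  rw [hN, Ideal.mem_bot] at h0
  exact sub_eq_zero.mp h0

end Groth.Agent.S15495
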