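import Groth.Statements.S15498
import Mathlib
-- import your own Groth.Agent.* helpers here

set_option autoImplicit false
open NewtonPoly

namespace Groth.Agent.S15498.Aux

namespace NP

lemma mod_ne_zero (m h i : ℕ) (hc : Nat.Coprime m h) (hi : 0 < i) (hih : i < h) :
    (i * m) % h ≠ 0 := by
  intro h0
  have h1 : h ∣ i * m := Nat.dvd_of_mod_eq_zero h0
  have h2 : h ∣ i := Nat.Coprime.dvd_of_dvd_mul_right hc.symm h1
  exact absurd (Nat.le_of_dvd hi h2) (by omega)

lemma pair (m h i : ℕ) (hh : 0 < h) (hc : Nat.Coprime m h) (hi : 0 < i) (hih : i < h) :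
    i * m / h + (h - i) * m / h = m - 1 := by
  have h1 := mod_ne_zero m h i hc hi hih
  have hsum : i * m + (h - i) * m = h * m := by
    rw [← add_mul]; congr 1; omega
  have h2 := Nat.add_div (a := i * m) (b := (h - i) * m) hh
  rw [hsum, Nat.mul_div_cancel_left m hh] at h2
  have hle : h ≤ i * m % h + (h - i) * m % h := by
    have h3 : (i * m % h + (h - i) * m % h) % h = 0 := by
      rw [← Nat.add_mod, hsum, Nat.mul_mod_right]
    have hd := Nat.dvd_of_mod_eq_zero h3
    exact Nat.le_of_dvd (by omega) hd
  rw [if_pos hle] at h2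
  generalize i * m / h = x at *
  generalize (h - i) * m / h = y at *
  omega

lemma two_mul_sum_div (m h : ℕ) (hh : 0 < h) (hc : Nat.Coprime m h) :
    2 * ∑ i ∈ Finset.Ico 1 h, (i * m / h) = (m - 1) * (h - 1) := by
  have hrefl : ∑ i ∈ Finset.Ico 1 h, ((h - i) * m / h) = ∑ i ∈ Finset.Ico 1 h, (i * m / h) := by
    have := Finset.sum_Ico_reflect (fun j => j * m / h) 1 (m := h) (n := h) (by omega)
    simpa using this
  calc 2 * ∑ i ∈ Finset.Ico 1 h, (i * m / h)
      = ∑ i ∈ Finset.Ico 1 h, (i * m / h) + ∑ i ∈ Finset.Ico 1 h, ((h - i) * m / h) := by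
        rw [hrefl]; ring
    _ = ∑ i ∈ Finset.Ico 1 h, (i * m / h + (h - i) * m / h) := Finset.sum_add_distrib.symm
    _ = ∑ i ∈ Finset.Ico 1 h, (m - 1) := by
        refine Finset.sum_congr rfl fun i hi => ?_
        rw [Finset.mem_Ico] at hi
        exact pair m h i hh hc (by omega) hi.2
    _ = (m - 1) * (h - 1) := by simp [mul_comm]

lemma fiber_card (m n i : ℕ) (hm : 0 < m) (hc : Nat.Coprime m (m + n)) (hi : 0 < i)
    (hih : i < m + n) :
    ((Finset.range (m + 1)).filter (fun j => i ≤ j + n ∧ j * (m + n) < i * m)).card =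
      (i * m / (m + n) + 1) - (i - n) := by
  have : (Finset.range (m + 1)).filter (fun j => i ≤ j + n ∧ j * (m + n) < i * m) =
      Finset.Ico (i - n) (i * m / (m + n) + 1) := by
    ext j
    simp only [Finset.mem_filter, Finset.mem_range, Finset.mem_Ico]
    have key : j * (m + n) < i * m ↔ j ≤ i * m / (m + n) := by
      rw [Nat.le_div_iff_mul_le (by omega)]
      constructor
      · exact le_of_lt
      · intro hle
        refine lt_of_le_of_ne hle ?_
        intro heq
        exact mod_ne_zero m (m + n) i hc hi hih (by rw [← heq]; exact Nat.mul_mod_left _ _)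
    constructor
    · rintro ⟨_, h1, h2⟩
      have := key.mp h2
      exact ⟨by omega, by omega⟩
    · rintro ⟨h1, h2⟩
      have h3 : j * (m + n) < i * m := key.mpr (by omega)
      refine ⟨?_, by omega, h3⟩
      by_contra hj
      push Not at hj
      have h4 : (m + 1) * (m + n) ≤ j * (m + n) := Nat.mul_le_mul_right _ hj
      have h5 : i * m < (m + n) * m := Nat.mul_lt_mul_of_pos_right hih hm
      nlinarith
  rw [this, Nat.card_Ico]

lemma sum_sub (m n : ℕ) : (∑ i ∈ Finset.range (m + n), (i - n)) * 2 = m * (m - 1) := by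
  induction m with
  | zero =>
    simp only [zero_add, zero_mul, mul_eq_zero, OfNat.ofNat_ne_zero, or_false]
    refine Finset.sum_eq_zero fun i hi => ?_
    rw [Finset.mem_range] at hi; omega
  | succ m ih =>
    have : m + 1 + n = (m + n) + 1 := by omega
    rw [this, Finset.sum_range_succ, add_mul, ih]
    have : m + n - n = m := by omega
    rw [this]
    cases m with
    | zero => simp
    | succ k => simp only [Nat.add_sub_cancel]; ring

theorem main (m n : ℕ) (hm : 0 < m) (hn : 0 < n) (hmn : Nat.Coprime m n) :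
    ((Finset.range (m + n + 1) ×ˢ Finset.range (m + 1)).filter
      (fun ij : ℕ × ℕ => ij.1 ≤ ij.2 + n ∧ ij.2 * (m + n) < ij.1 * m)).card
      = (m - 1) * (n - 1) / 2 + (m + n - 1) := by
  have hc : Nat.Coprime m (m + n) := by
    rw [add_comm]; exact Nat.coprime_add_self_right.mpr hmn
  rw [Finset.card_filter, Finset.sum_product]
  simp_rw [← Finset.card_filter]
  rw [Finset.range_eq_Ico, Finset.sum_Ico_succ_top (by omega), Finset.sum_eq_sum_Ico_succ_bot (by omega)]
  have h0 : ((Finset.range (m + 1)).filter (fun j => 0 ≤ j + n ∧ j * (m + n) < 0 * m)).card = 0 := by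
    rw [Finset.card_eq_zero, Finset.filter_eq_empty_iff]
    intro j _ h; omega
  have hh : ((Finset.range (m + 1)).filter
      (fun j => m + n ≤ j + n ∧ j * (m + n) < (m + n) * m)).card = 0 := by
    rw [Finset.card_eq_zero, Finset.filter_eq_empty_iff]
    intro j _ h
    have h1 : m ≤ j := by omega
    have h2 : m * (m + n) ≤ j * (m + n) := Nat.mul_le_mul_right _ h1
    have h3 := h.2
    rw [mul_comm (m + n) m] at h3
    omega
  rw [h0, hh, zero_add, add_zero]
  have hfib : ∀ i ∈ Finset.Ico (0 + 1) (m + n),
      ((Finset.range (m + 1)).filter (fun j => i ≤ j + n ∧ j * (m + n) < i * m)).card =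
        (i * m / (m + n) + 1) - (i - n) := by
    intro i hi
    rw [Finset.mem_Ico] at hi
    exact fiber_card m n i hm hc (by omega) hi.2
  rw [Finset.sum_congr rfl hfib, Finset.sum_tsub_distrib, Finset.sum_add_distrib]
  · have hA := two_mul_sum_div m (m + n) (by omega) hc
    have hB : ∑ i ∈ Finset.Ico (0 + 1) (m + n), 1 = m + n - 1 := by simp
    have hC := sum_sub m n
    rw [Finset.range_eq_Ico, Finset.sum_eq_sum_Ico_succ_bot (by omega)] at hC
    simp only [zero_add] at hA hB hC ⊢
    rw [hB]
    have hP : (m - 1) * (m + n - 1) = (m - 1) * (n - 1) + m * (m - 1) := by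
      have : m + n - 1 = (n - 1) + m := by omega
      rw [this, mul_add, mul_comm (m - 1) m]
    have hz : 0 - n = 0 := by omega
    rw [hz, zero_add] at hC
    generalize (m - 1) * (n - 1) = P at *
    generalize ∑ i ∈ Finset.Ico 1 (m + n), (i * m / (m + n)) = A at *
    generalize ∑ i ∈ Finset.Ico 1 (m + n), (i - n) = C at *
    generalize m * (m - 1) = Q at *
    omega
  · intro i hi
    rw [Finset.mem_Ico] at hi
    have : i - n ≤ i * m / (m + n) := by
      rw [Nat.le_div_iff_mul_le (by omega)]
      by_cases hin : i ≤ n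
      · have : i - n = 0 := by omega
        rw [this]; simp
      · push Not at hin
        obtain ⟨t, rfl⟩ := Nat.exists_eq_add_of_lt hin
        have ht : t + 1 ≤ m := by omega
        have : n + t + 1 - n = t + 1 := by omega
        rw [this]
        nlinarith
    omega

end NP

end Groth.Agent.S15498.Aux

namespace Groth.Agent.S15498

/-- Let m, n ≥ 1 be coprime, h = m + n, δ the segment from (0,0) to (h,m) (the isoclinic Newton polygon
of slope m/h) and ρ the ordinary polygon with n slopes 0 followed with m slopes 1, so ρ(i) = max(0,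
i − n). The integer points (i,j), 0 ≤ i ≤ h, on or above ρ and strictly below δ — that is max(0, i −
n) ≤ j and j·h < i·m — are (m−1)(n−1)/2 + (m+n−1) in number (which equals mn − r for r =
(m−1)(n−1)/2). (The published text works under m ≥ n > 0 coprime; the inequality m ≥ n is not used
and not assumed.) -/
theorem result
    (m n : ℕ) (hm : 0 < m) (hn : 0 < n) (hmn : Nat.Coprime m n) :
    ((Finset.range (m + n + 1) ×ˢ Finset.range (m + 1)).filter
      (fun ij : ℕ × ℕ => ij.1 ≤ ij.2 + n ∧ ij.2 * (m + n) < ij.1 * m)).card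
      = (m - 1) * (n - 1) / 2 + (m + n - 1) := by
  exact Aux.NP.main m n hm hn hmn

end Groth.Agent.S15498
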