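import Groth.Statements.S15499
import Mathlib
import Groth.Agent.Lib.Helper11HorrK

set_option autoImplicit false
open Polynomial LaurentPolynomial
open scoped TensorProduct
universe u
open CAlg

namespace Groth.Agent.S15499


/-- Let S = Spec R be a smooth connected affine complex variety, so that R is a finitely generated
smooth ℂ-algebra and an integral domain, and let F be a locally free sheaf of finite rank on the
projective line over S, presented by its two standard charts: a finitely generated projective
R[X]-module P on the affine line over S, a finitely generated projective R[X]-module P' on the chart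
at infinity, and an identification of their base changes to R[X, X⁻¹] that is additive, bijective
and semilinear over the R-algebra involution X ↦ X⁻¹. Then S is covered by basic open sets D(g_1),
…, D(g_n) such that F restricted to the affine line over each D(g_i) is free: the localisation of P
at g_i is a free module over the localisation of R[X] at g_i. -/
theorem result
    (R : Type u) [CommRing R] [IsDomain R] [Algebra ℂ R] [Algebra.FiniteType ℂ R]
    [Algebra.Smooth ℂ R]
    (P : Type u) [AddCommGroup P] [Module R[X] P] [Module.Finite R[X] P]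
    [Module.Projective R[X] P]
    (P' : Type u) [AddCommGroup P'] [Module R[X] P'] [Module.Finite R[X] P']
    [Module.Projective R[X] P']
    (e : R[T;T⁻¹] ⊗[R[X]] P ≃+ R[T;T⁻¹] ⊗[R[X]] P')
    (he : ∀ (a : R[T;T⁻¹]) (m : R[T;T⁻¹] ⊗[R[X]] P),
      e (a • m) = LaurentPolynomial.invert a • e m) :
    ∃ (n : ℕ) (g : Fin n → R), Ideal.span (Set.range g) = ⊤ ∧
      ∀ i, Module.Free (Localization.Away (Polynomial.C (g i) : R[X]))
        (LocalizedModule (Submonoid.powers (Polynomial.C (g i) : R[X])) P) := by
  classical
  -- the semilinear gluing map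
  let e' : (R[T;T⁻¹] ⊗[R[X]] P) →ₛₗ[(LaurentPolynomial.invert (R := R)).toRingEquiv.toRingHom]
      (R[T;T⁻¹] ⊗[R[X]] P') :=
    { toFun := e
      map_add' := e.map_add
      map_smul' := he }
  have he' : Function.Bijective e' := e.bijective
  obtain ⟨Q, _, _, hQfin, hQproj, ⟨Φ⟩⟩ :=
    Groth.Agent.Lib.Helper11.Horrocks.extended_of_extends' P P' e' he'
  -- local freeness at every prime
  have hloc : ∀ (𝔭 : Ideal R) [𝔭.IsPrime], ∃ a : R, a ∉ 𝔭 ∧
      Module.Free (Localization.Away (Polynomial.C a : R[X]))
        (LocalizedModule (Submonoid.powers (Polynomial.C a : R[X])) P) := by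
    intro 𝔭 h𝔭
    obtain ⟨r, κ, κ', a, ha, h1, h2⟩ :=
      Groth.Agent.Lib.Helper11.Horrocks.exists_isogeny_free Q 𝔭
    refine ⟨a, ha, ?_⟩
    refine Groth.Agent.Lib.Helper11.Horrocks.free_localizedModule_of_isogeny
      (M₁ := Fin r → R[X]) (M₂ := P)
      (Φ.symm.toLinearMap ∘ₗ Groth.Agent.Lib.Helper11.Horrocks.bcUp R[X] κ)
      (Groth.Agent.Lib.Helper11.Horrocks.bcDown R[X] κ' ∘ₗ Φ.toLinearMap) (Polynomial.C a) ?_ ?_
    · refine LinearMap.ext fun z => ?_
      simp only [LinearMap.comp_apply, LinearEquiv.coe_coe, LinearMap.smul_apply,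
        LinearMap.id_apply]
      rw [Groth.Agent.Lib.Helper11.Horrocks.bcUp_bcDown, h1, LinearMap.baseChange_smul,
        LinearMap.baseChange_id, LinearMap.smul_apply, LinearMap.id_apply,
        ← algebraMap_smul R[X] a (Φ z), Polynomial.algebraMap_eq, map_smul,
        LinearEquiv.symm_apply_apply]
    · refine LinearMap.ext fun z => ?_
      simp only [LinearMap.comp_apply, LinearEquiv.coe_coe, LinearMap.smul_apply,
        LinearMap.id_apply]
      rw [LinearEquiv.apply_symm_apply, Groth.Agent.Lib.Helper11.Horrocks.bcDown_bcUp, h2]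
      have hm : (LinearMap.toMatrix' (a • (LinearMap.id : (Fin r → R) →ₗ[R] _))).map
          (algebraMap R R[X]) = (Polynomial.C a : R[X]) • (1 : Matrix (Fin r) (Fin r) R[X]) := by
        refine Matrix.ext fun i j => ?_
        rw [Matrix.map_apply, map_smul, LinearMap.toMatrix'_id, Matrix.smul_apply,
          Matrix.smul_apply, Matrix.one_apply, Matrix.one_apply, Polynomial.algebraMap_eq]
        split_ifs <;> simp
      rw [hm, Matrix.smul_mulVec, Matrix.one_mulVec]
  -- extract a finite cover
  let G : Set R := {a | Module.Free (Localization.Away (Polynomial.C a : R[X]))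
    (LocalizedModule (Submonoid.powers (Polynomial.C a : R[X])) P)}
  have hG : Ideal.span G = ⊤ := by
    by_contra hne
    obtain ⟨m, hm, hle⟩ := Ideal.exists_le_maximal _ hne
    obtain ⟨a, ha, hfree⟩ := hloc m
    exact ha (hle (Ideal.subset_span hfree))
  obtain ⟨s', hs'G, hs'⟩ := (Ideal.span_eq_top_iff_finite G).1 hG
  refine ⟨s'.card, fun i => ((s'.equivFin).symm i : R), ?_, ?_⟩
  · have : Set.range (fun i => ((s'.equivFin).symm i : R)) = (s' : Set R) := by
      ext x
      constructor
      · rintro ⟨i, rfl⟩
        exact ((s'.equivFin).symm i).2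
      · intro hx
        exact ⟨s'.equivFin ⟨x, hx⟩, by simp⟩
    rw [this, hs']
  · intro i
    exact hs'G ((s'.equivFin).symm i).2

end Groth.Agent.S15499
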