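import Groth.Statements.S15501
import Groth.Agent.Lib.Helper27ProjOverBC
import Mathlib

set_option autoImplicit false
set_option linter.style.haveILetI false
open CategoryTheory CategoryTheory.Limits AlgebraicGeometry
open An

namespace Groth.Agent.S15501

universe u

section BC
variable {Z Xb S S' : Scheme.{u}} (g : Z ⟶ Xb) (fb : Xb ⟶ S) (u : S' ⟶ S)

-- the base change of g along pullback.fst fb u
noncomputable def bc : pullback (g ≫ fb) u ⟶ pullback fb u :=
  pullback.lift (pullback.fst (g ≫ fb) u ≫ g) (pullback.snd (g ≫ fb) u)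
    (by rw [Category.assoc, pullback.condition])

theorem bc_snd : bc g fb u ≫ pullback.snd fb u = pullback.snd (g ≫ fb) u :=
  pullback.lift_snd _ _ _

theorem bc_fst : bc g fb u ≫ pullback.fst fb u = pullback.fst (g ≫ fb) u ≫ g :=
  pullback.lift_fst _ _ _

theorem isPullback_bc :
    IsPullback (pullback.fst (g ≫ fb) u) (bc g fb u) g (pullback.fst fb u) := by
  refine IsPullback.of_bot (v₂₁ := pullback.snd fb u) (v₂₂ := fb) (h₃₁ := u) ?_ (bc_fst g fb u).symm
    (IsPullback.of_hasPullback fb u)
  rw [bc_snd]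
  exact IsPullback.of_hasPullback (g ≫ fb) u

theorem range_bc : Set.range (bc g fb u).base = (pullback.fst fb u).base ⁻¹' Set.range g.base := by
  have h := isPullback_bc g fb u
  have e : bc g fb u = h.isoPullback.hom ≫ pullback.snd g (pullback.fst fb u) := by simp
  have h2 := Scheme.Pullback.range_snd g (pullback.fst fb u)
  ext x
  constructor
  · rintro ⟨z, rfl⟩
    refine ⟨(pullback.fst (g ≫ fb) u).base z, ?_⟩
    rw [← Scheme.Hom.comp_apply, ← bc_fst]
    rfl
  · intro hx
    have hx' : x ∈ Set.range (pullback.snd g (pullback.fst fb u)) := by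
      rw [h2]; exact hx
    obtain ⟨w, rfl⟩ := hx'
    refine ⟨h.isoPullback.inv.base w, ?_⟩
    have e2 : h.isoPullback.inv ≫ bc g fb u = pullback.snd g (pullback.fst fb u) := by simp
    rw [← e2]
    rfl

end BC

theorem range_eq_singleton {T S' K : Scheme.{u}} (s' : S') (a : T ⟶ K) (b : K ⟶ S') [Nonempty T]
    (hb : ∀ x, b.base x = s') : Set.range (a ≫ b).base = {s'} := by
  apply Set.Subset.antisymm
  · rintro _ ⟨x, rfl⟩
    exact hb _
  · rintro _ rfl
    obtain ⟨x⟩ : Nonempty T := inferInstance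
    exact ⟨x, hb _⟩

theorem exists_geom_point (S' : Scheme.{u}) (s' : S') :
    ∃ (Ω : Type u) (_ : Field Ω) (_ : IsAlgClosed Ω) (σ : Spec (CommRingCat.of Ω) ⟶ S'),
      Set.range σ.base = {s'} := by
  refine ⟨AlgebraicClosure (S'.residueField s'), inferInstance, inferInstance,
    Spec.map (CommRingCat.ofHom (algebraMap (S'.residueField s')
      (AlgebraicClosure (S'.residueField s')))) ≫ S'.fromSpecResidueField s', ?_⟩
  exact range_eq_singleton s' _ _ (fun x => Scheme.fromSpecResidueField_apply s' x)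

theorem dense_fibre {X' Xb' S' T : Scheme.{u}} (j' : X' ⟶ Xb') [IsOpenImmersion j']
    (fb' : Xb' ⟶ S') (s' : S') (σ : T ⟶ S') (hσ : Set.range σ.base = {s'})
    [IrreducibleSpace ↥(pullback fb' σ)]
    (hne : (Set.range j'.base ∩ fb'.base ⁻¹' {s'}).Nonempty) :
    fb'.base ⁻¹' {s'} ⊆ closure (Set.range j'.base ∩ fb'.base ⁻¹' {s'}) := by
  have hF : Set.range (pullback.fst fb' σ).base = fb'.base ⁻¹' {s'} := by
    rw [← hσ]; exact Scheme.Pullback.range_fst _ _
  have hFirr : IsPreirreducible (fb'.base ⁻¹' {s'}) := by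
    rw [← hF, ← Set.image_univ]
    exact ((IrreducibleSpace.isIrreducible_univ _).image _
      (pullback.fst fb' σ).continuous.continuousOn).isPreirreducible
  intro x hx
  rw [mem_closure_iff]
  intro V hV hxV
  obtain ⟨y, hy1, hy2, hy3⟩ := hFirr V (Set.range j'.base) hV
    j'.isOpenEmbedding.isOpen_range ⟨x, hx, hxV⟩
    (by obtain ⟨y, hy1, hy2⟩ := hne; exact ⟨y, hy2, hy1⟩)
  exact ⟨y, hy2, hy3, hy1⟩

theorem fibre_nonempty {X Xb S S' T : Scheme.{u}} (j : X ⟶ Xb) (fb : Xb ⟶ S) (u : S' ⟶ S)
    (s' : S') (σ : T ⟶ S') (hσ : Set.range σ.base = {s'})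
    [Nonempty ↥(pullback fb (σ ≫ u))]
    (hdense : fb.base ⁻¹' {u.base s'} ⊆ closure (Set.range j.base ∩ fb.base ⁻¹' {u.base s'})) :
    (Set.range (bc j fb u).base ∩ (pullback.snd fb u).base ⁻¹' {s'}).Nonempty := by
  obtain ⟨g0⟩ : Nonempty ↥(pullback fb (σ ≫ u)) := inferInstance
  have hx0 : fb.base ((pullback.fst fb (σ ≫ u)).base g0) = u.base s' := by
    have h1 : fb.base ((pullback.fst fb (σ ≫ u)).base g0) =
        (σ ≫ u).base ((pullback.snd fb (σ ≫ u)).base g0) := by
      change (pullback.fst fb (σ ≫ u) ≫ fb).base g0 = (pullback.snd fb (σ ≫ u) ≫ σ ≫ u).base g0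
      rw [pullback.condition]
    rw [h1, Scheme.Hom.comp_base, TopCat.comp_app]
    congr 1
    have h2 : σ.base ((pullback.snd fb (σ ≫ u)).base g0) ∈ Set.range σ.base := ⟨_, rfl⟩
    rw [hσ] at h2; exact h2
  have h1 := hdense hx0
  obtain ⟨_, ⟨x, rfl⟩, hx⟩ := (closure_nonempty_iff.mp ⟨_, h1⟩)
  obtain ⟨z, hz1, hz2⟩ := Scheme.Pullback.exists_preimage_pullback (f := j ≫ fb) (g := u) x s' hx
  refine ⟨(bc j fb u).base z, ⟨z, rfl⟩, ?_⟩
  change (bc j fb u ≫ pullback.snd fb u).base z = s'
  rw [bc_snd]; exact hz2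

theorem geom_fibre {Xb S S' : Scheme.{u}} (fb : Xb ⟶ S) (u : S' ⟶ S)
    (hgeom : ∀ (Ω : Type u) [Field Ω] [IsAlgClosed Ω] (σ : Spec (CommRingCat.of Ω) ⟶ S),
      IrreducibleSpace ↥(pullback fb σ) ∧ topologicalKrullDim ↥(pullback fb σ) = 1) :
    ∀ (Ω : Type u) [Field Ω] [IsAlgClosed Ω] (σ : Spec (CommRingCat.of Ω) ⟶ S'),
      IrreducibleSpace ↥(pullback (pullback.snd fb u) σ) ∧
        topologicalKrullDim ↥(pullback (pullback.snd fb u) σ) = 1 := by
  intro Ω _ _ σ
  obtain ⟨h1, h2⟩ := hgeom Ω (σ ≫ u)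
  let e := pullbackLeftPullbackSndIso fb u σ
  let he : ↥(pullback (pullback.snd fb u) σ) ≃ₜ ↥(pullback fb (σ ≫ u)) := Scheme.homeoOfIso e
  constructor
  · rw [irreducibleSpace_def]
    have h3 := (IrreducibleSpace.isIrreducible_univ (↥(pullback fb (σ ≫ u)))).image he.symm
      he.symm.continuous.continuousOn
    rwa [Set.image_univ, he.symm.surjective.range_eq] at h3
  · rw [← h2]
    exact he.isHomeomorph.topologicalKrullDim_eq

theorem stronglyProjective {Xb S S' : Scheme.{u}} (fb : Xb ⟶ S) (u : S' ⟶ S)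
    (h : An.IsStronglyProjective fb) : An.IsStronglyProjective (pullback.snd fb u) := by
  obtain ⟨n, c, hc, hcf⟩ := h
  have hP := Groth.Agent.Lib.Helper27ProjOverBC.isPullback_bcOver n u
  have hcomm : (pullback.fst fb u ≫ c) ≫ CohB1.ProjSpaceOver.toBase n S =
      pullback.snd fb u ≫ u := by
    rw [Category.assoc, hcf, pullback.condition]
  refine ⟨n, hP.lift (pullback.fst fb u ≫ c) (pullback.snd fb u) hcomm, ?_, hP.lift_snd _ _ _⟩
  have hsq : IsPullback (pullback.fst fb u)
      (hP.lift (pullback.fst fb u ≫ c) (pullback.snd fb u) hcomm) c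
      (Groth.Agent.Lib.Helper27ProjOverBC.bcOver n u) := by
    refine IsPullback.of_bot (v₂₁ := CohB1.ProjSpaceOver.toBase n S')
      (v₂₂ := CohB1.ProjSpaceOver.toBase n S) (h₃₁ := u) ?_ (hP.lift_fst _ _ _).symm hP
    rw [hP.lift_snd, hcf]
    exact IsPullback.of_hasPullback fb u
  exact MorphismProperty.of_isPullback (P := @IsClosedImmersion) hsq hc

theorem main {X S S' : Scheme.{u}} (f : X ⟶ S) (u : S' ⟶ S) (hf : An.IsElementaryFibration f) :
    An.IsElementaryFibration (pullback.snd f u) := by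
  obtain ⟨Xb, Y, j, fb, i, hjf, hj, hi, hrange, hdense, hsm, hproj, hgeom, hfin, het,
    hsurj⟩ := hf
  subst hjf
  have hgeom' := geom_fibre fb u hgeom
  have hopen : IsOpenImmersion (bc j fb u) :=
    MorphismProperty.of_isPullback (P := @IsOpenImmersion) (isPullback_bc j fb u) hj
  refine ⟨pullback fb u, pullback (i ≫ fb) u, bc j fb u, pullback.snd fb u, bc i fb u,
    bc_snd j fb u, hopen, ?_, ?_, ?_, inferInstance, stronglyProjective fb u hproj, hgeom',
    ?_, ?_, ?_⟩
  · exact MorphismProperty.of_isPullback (P := @IsClosedImmersion) (isPullback_bc i fb u) hi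
  · rw [range_bc, range_bc, hrange]; rfl
  · -- density
    intro s'
    obtain ⟨Ω, _, _, σ, hσ⟩ := exists_geom_point S' s'
    obtain ⟨hirr, -⟩ := hgeom' Ω σ
    obtain ⟨hirr0, -⟩ := hgeom Ω (σ ≫ u)
    exact dense_fibre (bc j fb u) (pullback.snd fb u) s' σ hσ
      (fibre_nonempty j fb u s' σ hσ (hdense (u.base s')))
  · rw [bc_snd]; infer_instance
  · rw [bc_snd]; infer_instance
  · rw [bc_snd]
    intro s'
    obtain ⟨y, hy⟩ := hsurj (u.base s')
    obtain ⟨z, -, hz⟩ := Scheme.Pullback.exists_preimage_pullback (f := i ≫ fb) (g := u) y s' hy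
    exact ⟨z, hz⟩

/-- The base change of an elementary fibration f : X → S of smooth complex varieties along any morphism
u : S' → S of smooth complex varieties is an elementary fibration X ×_S S' → S', elementary
fibration being taken in the following sense: f factors as an open immersion j : X → X̄ followed by
f̄ : X̄ → S, where f̄ is smooth and is a closed subscheme of some projective space over S with
geometrically irreducible fibres of dimension one, the complement of j(X) is the image of a closed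
immersion Y → X̄ with Y finite, etale and surjective over S, and j(X) is dense in every fibre of f̄
(for smooth complex varieties the last clause is automatic, and this is the usual notion: a smooth
projective family of irreducible curves minus a finite etale multisection). (The published statement
also treats rational and coordinatised elementary fibrations; this row states only the plain case.) -/
theorem result (X S S' : Scheme.{0})
    [X.Over An.SC] [Smooth (X ↘ An.SC)] [IsSeparated (X ↘ An.SC)] [QuasiCompact (X ↘ An.SC)]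
    [S.Over An.SC] [Smooth (S ↘ An.SC)] [IsSeparated (S ↘ An.SC)] [QuasiCompact (S ↘ An.SC)]
    [S'.Over An.SC] [Smooth (S' ↘ An.SC)] [IsSeparated (S' ↘ An.SC)] [QuasiCompact (S' ↘ An.SC)]
    (f : X ⟶ S) [f.IsOver An.SC] (u : S' ⟶ S) [u.IsOver An.SC]
    (hf : An.IsElementaryFibration f) :
    An.IsElementaryFibration (pullback.snd f u) := by
  exact main f u hf

end Groth.Agent.S15501
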