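import Groth.Statements.S15504
import Mathlib
import Groth.Agent.Lib.Helper22FittingSemilinear

set_option autoImplicit false
universe u v
open FrobAlg

namespace Groth.Agent.S15504

/-- Let k be an algebraically closed field of characteristic p, W = W(k) the ring of p-typical Witt
vectors, M a finitely generated torsion W-module and φ a p⁻¹-linear endomorphism of M (additive,
with φ(a·m) = σ⁻¹(a)·φ(m) for the Frobenius automorphism σ of W). Then M = M_s ⊕ M_n for two
φ-stable submodules, with φ bijective on M_s and nilpotent on M_n (one iterate of φ kills M_n). -/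
theorem result (p : ℕ) [Fact p.Prime]
    (k : Type u) [Field k] [CharP k p] [IsAlgClosed k]
    (M : Type v) [AddCommGroup M] [Module (WittVector p k) M] [Module.Finite (WittVector p k) M]
    (hM : Module.IsTorsion (WittVector p k) M)
    (φ : M →ₛₗ[((WittVector.frobeniusEquiv p k).symm : WittVector p k →+* WittVector p k)] M) :
    ∃ Ms Mn : Submodule (WittVector p k) M, IsCompl Ms Mn ∧
      Set.MapsTo φ Ms Ms ∧ Set.MapsTo φ Mn Mn ∧ Set.BijOn φ Ms Ms ∧
      ∃ r : ℕ, ∀ x ∈ Mn, (⇑φ)^[r] x = 0 := by
  classical
  haveI : IsNoetherian (WittVector p k) M := inferInstance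
  haveI : IsArtinian (WittVector p k) M := by
    obtain ⟨a, ha, ha0⟩ := Submodule.annihilator_top_inter_nonZeroDivisors hM
    have hfl := isFiniteLength_quotient_span_singleton (WittVector p k) ha0
    rw [isFiniteLength_iff_isNoetherian_isArtinian] at hfl
    haveI := hfl.2
    obtain ⟨n, s, hs⟩ := Module.Finite.exists_fin (R := WittVector p k) (M := M)
    have hkill : ∀ m : M, Ideal.span {a} ≤ LinearMap.ker (LinearMap.toSpanSingleton (WittVector p k) M m) := by
      intro m
      rw [Ideal.span_le]
      intro b hb
      rw [Set.mem_singleton_iff] at hb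
      subst hb
      show LinearMap.toSpanSingleton (WittVector p k) M m b = 0
      rw [LinearMap.toSpanSingleton_apply]
      exact Submodule.mem_annihilator.mp ha m Submodule.mem_top
    let g : (Fin n → WittVector p k ⧸ Ideal.span {a}) →ₗ[WittVector p k] M :=
      ∑ i, ((Ideal.span {a}).liftQ (LinearMap.toSpanSingleton (WittVector p k) M (s i)) (hkill (s i))).comp
        (LinearMap.proj i)
    apply isArtinian_of_surjective _ g
    intro m
    have hm : m ∈ Submodule.span (WittVector p k) (Set.range s) := by rw [hs]; trivial
    obtain ⟨c, hc⟩ := (Submodule.mem_span_range_iff_exists_fun _).mp hm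
    refine ⟨fun i => Ideal.Quotient.mk _ (c i), ?_⟩
    rw [← hc]
    simp only [g, LinearMap.sum_apply, LinearMap.comp_apply, LinearMap.proj_apply]
    apply Finset.sum_congr rfl
    intro i _
    exact (Submodule.liftQ_apply _ _ _)
  exact Groth.Agent.Lib.Helper22.FittingSemilinear.fitting
    (WittVector.frobeniusEquiv p k).symm.surjective φ

end Groth.Agent.S15504
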