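import Groth.Statements.S15506
import Mathlib

set_option autoImplicit false
universe u
open CategoryTheory AlgebraicGeometry
open EtBase

namespace Groth.Agent.S15506

open Polynomial

/-- an element of an extension of an algebraically closed field `K` that is algebraic over `K`
lies in the image of `K`. -/
lemma mem_range_of_isAlgebraic {K Ω : Type u} [Field K] [Field Ω] [Algebra K Ω] [IsAlgClosed K]
    (y : Ω) (hy : IsAlgebraic K y) : y ∈ (algebraMap K Ω).range := by
  have hint : IsIntegral K y := hy.isIntegral
  have hirr := minpoly.irreducible hint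
  have hdeg := IsAlgClosed.degree_eq_one_of_irreducible K hirr
  exact minpoly.mem_range_of_degree_eq_one K y hdeg

/-- the epi property of `Spec Ω ⟶ Spec K`. -/
lemma epi_spec {K Ω : Type u} [Field K] [Field Ω] [Algebra K Ω] :
    Epi (Spec.map (CommRingCat.ofHom (algebraMap K Ω))) := by
  have hflat : Flat (Spec.map (CommRingCat.ofHom (algebraMap K Ω))) := by
    rw [Flat.SpecMap_iff]
    simp only [CommRingCat.hom_ofHom]
    rw [RingHom.flat_algebraMap_iff]
    infer_instance
  have hsurj : Surjective (Spec.map (CommRingCat.ofHom (algebraMap K Ω))) := by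
    constructor
    intro x
    refine ⟨IsLocalRing.closedPoint Ω, Subsingleton.elim _ _⟩
  exact Flat.epi_of_flat_of_surjective _


/-- Let k be a field, K an algebraic closure of k (an algebraically closed field algebraic over k), Ω a
field containing K, and Z a scheme étale over Spec k. Composition with Spec Ω → Spec K is a
bijection from the k-morphisms Spec K → Z onto the k-morphisms Spec Ω → Z: two k-morphisms Spec K →
Z that agree on Spec Ω are equal, and every k-morphism Spec Ω → Z factors through Spec K. (The
published statement is the case where k has characteristic zero with a chosen embedding of its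
algebraic closure into the complex numbers, Ω = ℂ, and Z is the scheme of isomorphisms between two
K3 surfaces over k, known there to be étale over k; this row states the fact about an arbitrary
étale k-scheme that the argument establishes.) -/
theorem result
    (k K Ω : Type u) [Field k] [Field K] [Field Ω] [Algebra k K] [IsAlgClosed K] [Algebra.IsAlgebraic k K]
    [Algebra K Ω] [Algebra k Ω] [IsScalarTower k K Ω]
    (Z : Scheme.{u}) (f : Z ⟶ Spec (CommRingCat.of k)) [AlgebraicGeometry.Etale f] :
    (∀ g₁ g₂ : Spec (CommRingCat.of K) ⟶ Z,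
        g₁ ≫ f = Spec.map (CommRingCat.ofHom (algebraMap k K)) →
        g₂ ≫ f = Spec.map (CommRingCat.ofHom (algebraMap k K)) →
        Spec.map (CommRingCat.ofHom (algebraMap K Ω)) ≫ g₁ = Spec.map (CommRingCat.ofHom (algebraMap K Ω)) ≫ g₂ →
        g₁ = g₂) ∧
    (∀ h : Spec (CommRingCat.of Ω) ⟶ Z, h ≫ f = Spec.map (CommRingCat.ofHom (algebraMap k Ω)) →
        ∃ g : Spec (CommRingCat.of K) ⟶ Z, g ≫ f = Spec.map (CommRingCat.ofHom (algebraMap k K)) ∧
          Spec.map (CommRingCat.ofHom (algebraMap K Ω)) ≫ g = h) := by
  have hepi : Epi (Spec.map (CommRingCat.ofHom (algebraMap K Ω))) := epi_spec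
  refine ⟨fun g₁ g₂ _ _ h12 => (cancel_epi _).mp h12, ?_⟩
  intro h hh
  obtain ⟨⟨z, a⟩, rfl⟩ := (Scheme.SpecToEquivOfField Ω Z).symm.surjective h
  simp only [Scheme.SpecToEquivOfField_symm_apply] at hh ⊢
  -- the structure map `k → κ(z)`
  obtain ⟨ψ, hψ⟩ : ∃ ψ : CommRingCat.of k ⟶ Z.residueField z,
      Spec.map ψ = Z.fromSpecResidueField z ≫ f := ⟨_, Spec.map_preimage _⟩
  have haψ : ψ ≫ a = CommRingCat.ofHom (algebraMap k Ω) := by
    apply Spec.map_injective
    rw [Spec.map_comp, hψ, ← hh, Category.assoc]
  -- `ψ` factors through the residue field of `Spec k`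
  obtain ⟨ι, hι⟩ : ∃ ι : CommRingCat.of k ⟶ (Spec (CommRingCat.of k)).residueField (f z),
      ι = CommRingCat.ofHom (algebraMap k (f z).asIdeal.ResidueField) ≫
        (Scheme.Spec.residueFieldIso (CommRingCat.of k) (f z)).inv := ⟨_, rfl⟩
  have hψι : ψ = ι ≫ f.residueFieldMap z := by
    apply Spec.map_injective
    rw [hψ, ← Scheme.Hom.SpecMap_residueFieldMap_fromSpecResidueField, hι,
      ← Scheme.Spec.map_residueFieldIso_inv_eq_fromSpecResidueField, Spec.map_comp, Spec.map_comp]
  have hmax : (f z).asIdeal.IsMaximal := by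
    have : (f z).asIdeal = ⊥ := Ideal.eq_bot_of_prime _
    rw [this]; exact Ideal.bot_isMaximal
  have hιsurj : Function.Surjective ι.hom := by
    rw [hι]
    simp only [CommRingCat.hom_comp, CommRingCat.hom_ofHom, RingHom.coe_comp]
    refine Function.Surjective.comp ?_ (Ideal.algebraMap_residueField_surjective _)
    exact (ConcreteCategory.bijective_of_isIso (Scheme.Spec.residueFieldIso (CommRingCat.of k) (f z)).inv).2
  -- every element of `κ(z)` is algebraic over `k` via `ψ`
  have halg : ∀ y : Z.residueField z, ∃ q : k[X], q ≠ 0 ∧ Polynomial.eval₂ ψ.hom y q = 0 := by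
    intro y
    let _ : Algebra ((Spec (CommRingCat.of k)).residueField (f z)) (Z.residueField z) :=
      (f.residueFieldMap z).hom.toAlgebra
    have hsep : Algebra.IsSeparable ((Spec (CommRingCat.of k)).residueField (f z))
        (Z.residueField z) := inferInstance
    have hy : IsAlgebraic ((Spec (CommRingCat.of k)).residueField (f z)) y :=
      Algebra.IsAlgebraic.isAlgebraic y
    obtain ⟨p, hp0, hp⟩ := hy
    obtain ⟨q, rfl⟩ : ∃ q : k[X], q.map ι.hom = p :=
      Polynomial.map_surjective _ hιsurj p
    refine ⟨q, fun h0 => hp0 (by rw [h0, Polynomial.map_zero]), ?_⟩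
    rw [Polynomial.aeval_def, Polynomial.eval₂_map] at hp
    rw [hψι]
    exact hp
  have hrange : ∀ y : Z.residueField z, a.hom y ∈ (algebraMap K Ω).range := by
    intro y
    obtain ⟨q, hq0, hq⟩ := halg y
    have hk : IsAlgebraic k (a.hom y) := by
      refine ⟨q, hq0, ?_⟩
      have h1 := congrArg a.hom hq
      rw [Polynomial.hom_eval₂, map_zero] at h1
      have h2 : a.hom.comp ψ.hom = algebraMap k Ω := by
        have := congrArg CommRingCat.Hom.hom haψ
        simpa using this
      rw [h2] at h1
      rw [Polynomial.aeval_def]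
      exact h1
    exact mem_range_of_isAlgebraic _ (hk.extendScalars (algebraMap k K).injective)
  -- the factorization
  let e : K ≃+* (algebraMap K Ω).range := RingEquiv.ofBijective (algebraMap K Ω).rangeRestrict
    ⟨fun x y hxy => (algebraMap K Ω).injective (congrArg Subtype.val hxy),
      (algebraMap K Ω).rangeRestrict_surjective⟩
  let b : Z.residueField z →+* K := e.symm.toRingHom.comp (a.hom.codRestrict _ hrange)
  have hb : (algebraMap K Ω).comp b = a.hom := by
    ext y
    have : ((algebraMap K Ω).rangeRestrict (e.symm (a.hom.codRestrict _ hrange y)) : Ω) =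
        a.hom y := by
      have h3 := e.apply_symm_apply (a.hom.codRestrict _ hrange y)
      exact congrArg Subtype.val h3
    exact this
  have hfac : Spec.map (CommRingCat.ofHom (algebraMap K Ω)) ≫
      Spec.map (CommRingCat.ofHom b) ≫ Z.fromSpecResidueField z =
      Spec.map a ≫ Z.fromSpecResidueField z := by
    rw [← Category.assoc, ← Spec.map_comp, ← CommRingCat.ofHom_comp, hb]
    rfl
  refine ⟨Spec.map (CommRingCat.ofHom b) ≫ Z.fromSpecResidueField z, ?_, hfac⟩
  rw [← cancel_epi (Spec.map (CommRingCat.ofHom (algebraMap K Ω))), ← Category.assoc, hfac, hh,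
    ← Spec.map_comp, ← CommRingCat.ofHom_comp, ← IsScalarTower.algebraMap_eq]

end Groth.Agent.S15506
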