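import Groth.Statements.S15509
import Groth.Agent.S7789
import Groth.Agent.Lib.Helper3Isog
import Groth.Agent.Lib.Helper3TorsKer
import Groth.Agent.Lib.Helper28Catenary
import Mathlib

set_option autoImplicit false
set_option linter.style.haveILetI false
universe u
open CategoryTheory CategoryTheory.Limits MonoidalCategory CartesianMonoidalCategory MonObj AlgebraicGeometry
open AbSch

namespace Groth.Agent.S15509

open Groth.Agent.Lib.Helper3.TorsKer

/-- Let R be a regular local ring which is a domain and contains the rational numbers, with fraction
field K and residue field k, and let A be an abelian scheme over Spec R of relative dimension g (a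
commutative group scheme which is smooth and proper with geometrically connected fibres of dimension
g). Then for every integer m ≥ 1 the number of K-valued points of A over Spec R killed by m is at
most the number of k-valued points of A over Spec R killed by m: the m-torsion of the rational
points of the generic fibre is no larger than the m-torsion of the rational points of the closed
fibre. (The published statement is for an arbitrary Noetherian regular local ring R inside a paper
whose standing setting is schemes over the complex numbers; this row keeps from that setting only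
that R contains the rationals, which is what the printed argument uses to make the m-torsion
subgroup scheme étale over the base.) -/
theorem result
    (R : Type u) [CommRing R] [IsDomain R] [IsRegularLocalRing R] [Algebra ℚ R]
    (A : Over (Spec (CommRingCat.of R))) [GrpObj A] [IsCommMonObj A] (g : ℕ) (hA : AgPol.IsAbSch A g)
    (m : ℕ) (hm : 1 ≤ m) :
    Nat.card (AbDual.torsPts A m (Over.mk (Spec.map (CommRingCat.ofHom (algebraMap R (FractionRing R)))))) ≤
      Nat.card (AbDual.torsPts A m (Over.mk (Spec.map (CommRingCat.ofHom (IsLocalRing.residue R))))) := by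
  haveI : Smooth A.hom := hA.smooth
  haveI : IsProper A.hom := hA.proper
  haveI : GeometricallyConnected A.hom := hA.geomConnected
  haveI : GeometricallyReduced A.hom :=
    Groth.Agent.Lib.Helper3.Isog.geometricallyReduced_of_smooth A.hom
  -- `m` is a unit on the base
  have hn : IsUnit (((m : ℕ) : ℤ) : Γ(Spec (CommRingCat.of R), ⊤)) := by
    let φ : ℚ →+* Γ(Spec (CommRingCat.of R), ⊤) :=
      ((Scheme.ΓSpecIso (CommRingCat.of R)).inv.hom).comp (algebraMap ℚ R)
    have h1 : (((m : ℕ) : ℤ) : Γ(Spec (CommRingCat.of R), ⊤)) = φ (((m : ℕ) : ℤ) : ℚ) :=
      (map_intCast φ _).symm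
    rw [h1]
    have h2 : (((m : ℕ) : ℤ) : ℚ) ≠ 0 := by
      have : (0 : ℚ) < ((m : ℕ) : ℤ) := by exact_mod_cast hm
      exact this.ne'
    exact (IsUnit.mk0 _ h2).map φ
  obtain ⟨hfin, het⟩ := Groth.Agent.S7789.result A ((m : ℕ) : ℤ) hn
  rw [zpow_natCast] at hfin het
  haveI : IsFinite (mulHom A m) := hfin
  haveI : Etale (mulHom A m) := het
  haveI : IsFinite (kerπ A m) := inferInstanceAs (IsFinite (pullback.snd (mulHom A m) (unitSec A)))
  haveI : Etale (kerπ A m) := inferInstanceAs (Etale (pullback.snd (mulHom A m) (unitSec A)))
  haveI : IsAffine (Ker A m) := isAffine_of_isAffineHom (kerπ A m)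
  letI : Algebra R Γ(Ker A m, ⊤) := (structHom (kerπ A m)).hom.toAlgebra
  have halg : algebraMap R Γ(Ker A m, ⊤) = (structHom (kerπ A m)).hom := rfl
  have hiso : ∀ (P : MorphismProperty Scheme.{u}) [P.RespectsIso], P (kerπ A m) →
      P (Spec.map (structHom (kerπ A m))) := by
    intro P _ h
    rw [← MorphismProperty.cancel_left_of_respectsIso P (Ker A m).isoSpec.hom, ← hom_eq]
    exact h
  haveI : Module.Finite R Γ(Ker A m, ⊤) :=
    (IsFinite.SpecMap_iff _).mp (hiso @IsFinite inferInstance)
  haveI : Algebra.FormallyUnramified R Γ(Ker A m, ⊤) := by
    haveI : FormallyUnramified (kerπ A m) := inferInstance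
    exact (HasRingHomProperty.Spec_iff (P := @FormallyUnramified)).mp
      (hiso @FormallyUnramified inferInstance)
  haveI : IsIntegrallyClosed R :=
    Groth.Agent.Lib.Helper28.isIntegrallyClosed_of_isRegularLocalRing R
  -- the dictionary
  have key : ∀ (L : Type u) [CommRing L] [Algebra R L],
      Nat.card (AbDual.torsPts A m (Over.mk (Spec.map (CommRingCat.ofHom (algebraMap R L))))) =
        Nat.card (Γ(Ker A m, ⊤) →ₐ[R] L) := by
    intro L _ _
    refine Nat.card_congr ?_
    exact (equivKer A m (Over.mk (Spec.map (CommRingCat.ofHom (algebraMap R L))))).trans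
      (equivAlgHom (kerπ A m) L halg)
  have h1 := key (FractionRing R)
  have h2 := key (IsLocalRing.ResidueField R)
  rw [h1]
  refine le_trans (card_algHom_le R (FractionRing R) Γ(Ker A m, ⊤)) (le_of_eq ?_)
  exact h2.symm

end Groth.Agent.S15509
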