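import Groth.Statements.S15512
import Mathlib
import Groth.Agent.Lib.Helper28ExtSelf
import Groth.Agent.Lib.Helper28RegLoc
import Groth.Agent.Lib.Helper1GlDim
import Groth.Agent.Lib.Helper28Normal
-- import your own Groth.Agent.* helpers here

set_option autoImplicit false
universe u
open CategoryTheory
open CAlg

namespace Groth.Agent.S15512
open CategoryTheory Groth.Agent.Lib.Helper28

theorem isRegularLocalRing_localization_of_le {A : Type u} [CommRing A] (p m : Ideal A) [p.IsPrime]
    [m.IsPrime] (hpm : p ≤ m) [IsRegularLocalRing (Localization.AtPrime m)] :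
    IsRegularLocalRing (Localization.AtPrime p) := by
  have hdisj : Disjoint (m.primeCompl : Set A) (p : Set A) := by
    rw [Set.disjoint_left]
    intro x hx hxp
    exact hx (hpm hxp)
  have hP : (p.map (algebraMap A (Localization.AtPrime m))).IsPrime :=
    IsLocalization.isPrime_of_isPrime_disjoint m.primeCompl _ p inferInstance hdisj
  have hcomap : (p.map (algebraMap A (Localization.AtPrime m))).comap
      (algebraMap A (Localization.AtPrime m)) = p :=
    IsLocalization.under_map_of_isPrime_disjoint m.primeCompl _ inferInstance hdisj
  have h1 : IsRegularLocalRing (Localization.AtPrime (p.map (algebraMap A (Localization.AtPrime m)))) :=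
    isRegularLocalRing_localization_of_isRegularLocalRing _ _
  have h2 : IsRegularLocalRing (Localization.AtPrime
      ((p.map (algebraMap A (Localization.AtPrime m))).comap
        (algebraMap A (Localization.AtPrime m)))) :=
    IsRegularLocalRing.of_ringEquiv
      (IsLocalization.localizationLocalizationAtPrimeIsoLocalization m.primeCompl
        (p.map (algebraMap A (Localization.AtPrime m)))).symm.toRingEquiv
  exact (isRegularLocalRing_congr_ideal hcomap).mp h2

/-- Let A be a Noetherian ring which is regular (its localization at every maximal ideal is a regular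
local ring) and of finite Krull dimension, M a finitely generated A-module and d a natural number.
If Ext^i_A(M, A) vanishes for every i > d, then the projective dimension of M is at most d. -/
theorem result (A : Type u) [CommRing A]
    [IsNoetherianRing A] (hreg : ∀ m : MaximalSpectrum A, IsRegularLocalRing (Localization.AtPrime m.asIdeal))
    (hdim : ringKrullDim A < ⊤) (M : Type u) [AddCommGroup M] [Module A M] [Module.Finite A M] (d : ℕ)
    (h : ∀ i : ℕ, d < i → Subsingleton (Abelian.Ext (ModuleCat.of A M) (ModuleCat.of A A) i)) :
    HasProjectiveDimensionLT (ModuleCat.of A M) (d + 1) := by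
  have hreg' : ∀ p : PrimeSpectrum A, IsRegularLocalRing (Localization.AtPrime p.asIdeal) := by
    intro p
    obtain ⟨m, hm, hpm⟩ := Ideal.exists_le_maximal p.asIdeal p.2.ne_top
    have := hreg ⟨m, hm⟩
    exact isRegularLocalRing_localization_of_le p.asIdeal m hpm
  rcases subsingleton_or_nontrivial A with hA | hA
  · have : Subsingleton M := Module.subsingleton A M
    have hz : Limits.IsZero (ModuleCat.of A M) := ModuleCat.isZero_of_subsingleton _
    have := hz.hasProjectiveDimensionLT_zero
    exact hasProjectiveDimensionLT_of_ge _ 0 (d + 1) (Nat.zero_le _)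
  · obtain ⟨n, hn⟩ : ∃ n : ℕ, ringKrullDim A = n := by
      have h2 : ringKrullDim A ≠ ⊥ := by
        intro hb
        have h0 : (0 : WithBot ℕ∞) ≤ ringKrullDim A := ringKrullDim_nonneg_of_nontrivial
        rw [hb] at h0
        exact absurd h0 (by simp)
      obtain ⟨a, ha⟩ := WithBot.ne_bot_iff_exists.mp h2
      have h3 : a ≠ ⊤ := fun h => (ne_of_lt hdim) (by rw [← ha, h]; rfl)
      obtain ⟨n, rfl⟩ := ENat.ne_top_iff_exists.mp h3
      exact ⟨n, ha.symm⟩
    have hpd := Groth.Agent.Lib.Helper1.GlDim.gldim_of_regular hreg' n hn M
    exact hasProjectiveDimensionLT_of_forall_subsingleton_ext_self M d (n + 1) hpd h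

end Groth.Agent.S15512
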