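import Groth.Statements.S15520
import Groth.Agent.Lib.Helper21ExtShLocFree
import Groth.Agent.Lib.Helper21RelExt

set_option autoImplicit false
universe u
open CategoryTheory CategoryTheory.Limits AlgebraicGeometry
open Coherent

namespace Groth.Agent.S15520

open Groth.Agent.Lib.Helper21.ExtShDelta Groth.Agent.Lib.Helper21.CoDeltaLib
  Groth.Agent.Lib.Helper21.ExtShLocFree

attribute [local instance] Groth.Agent.Lib.Helper21.ExtShDelta.hasSheafHom

/-- Acyclic left resolutions compute the local Ext sheaves. -/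
theorem homology_iso {C : Type u} [SmallCategory C] {J : GrothendieckTopology C}
    {O : Sheaf J CommRingCat.{u}} [HasInjectiveResolutions (ModSite.Mod O)]
    (F G : ModSite.Mod O)
    (L : ChainComplex (ModSite.Mod O) ℕ) (π : L.X 0 ⟶ F) [Epi π] (hπ : L.d 1 0 ≫ π = 0)
    (hex0 : (ShortComplex.mk (L.d 1 0) π hπ).Exact) (hex : ∀ j : ℕ, L.ExactAt (j + 1))
    (hL : ∀ (j : ℕ) (p : ℕ), 1 ≤ p → IsZero (((ModSite.sheafHom (L.X j)).rightDerived p).obj G))
    (K : CochainComplex (ModSite.Mod O) ℕ)
    (e : ∀ j : ℕ, K.X j ≅ (ModSite.sheafHom (L.X j)).obj G)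
    (hC : ∀ j : ℕ, K.d j (j + 1) ≫ (e (j + 1)).hom =
      (e j).hom ≫ (ExtSupp.sheafHomMap (L.d (j + 1) j)).app G)
    (i : ℕ) :
    Nonempty (K.homology i ≅ ((ModSite.sheafHom F).rightDerived i).obj G) := by
  let R : Resn F := Resn.ofChainComplex L π hπ hex0 hex
  let Δ := extShDelta G
  have hiso : ∀ j : ℕ, IsIso ((ModSite.sheafHom (L.X j)).toRightDerivedZero.app G) := fun j => by
    haveI := sheafHom_preservesFiniteLimits O (L.X j)
    infer_instance
  let e' : ∀ j : ℕ, K.X j ≅ Δ.E 0 (R.X j) := fun j =>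
    e j ≪≫ @asIso _ _ _ _ ((ModSite.sheafHom (L.X j)).toRightDerivedZero.app G) (hiso j)
  have hC' : ∀ j : ℕ, K.d j (j + 1) ≫ (e' (j + 1)).hom = (e' j).hom ≫ Δ.map 0 (R.d j) := by
    intro j
    dsimp only [e', Iso.trans_hom, asIso_hom]
    rw [← Category.assoc, hC j, Category.assoc, Category.assoc]
    congr 1
    haveI := sheafHom_preservesFiniteLimits O (L.X j)
    haveI := sheafHom_preservesFiniteLimits O (L.X (j + 1))
    exact Groth.Agent.Lib.Helper21.RelExt.toRightDerivedZero_nat
      (ExtSupp.sheafHomMap (L.d (j + 1) j)) G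
  exact CoDelta.homology_iso Δ R K e' hC' (fun j p hp => hL j p hp) i

/-- Let X be a scheme, F and G O_X-modules, and E_• → F → 0 a resolution of F whose terms E_i are finite
locally free O_X-modules: E is a chain complex indexed by the natural numbers with an augmentation π
: E_0 → F such that E is exact in every positive degree and E_1 → E_0 → F → 0 is exact. Let C be the
cochain complex Hom_{O_X}(E_•, G), given with identifications C^i ≅ Hom_{O_X}(E_i, G) under which
its differentials are the maps induced by the differentials of E (contravariant functoriality of the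
internal Hom). Then for every i the i-th cohomology object of C is isomorphic to the Ext sheaf
Ext^i_{O_X}(F, G), the i-th right derived functor of the internal Hom functor Hom(F, -) evaluated at
G. (Existence of an isomorphism of O_X-modules only; the published statement is for a ringed space.
The internal Hom functors and injective resolutions are the stated instance hypotheses, all true.) -/
theorem result (X : Scheme.{u}) (F G : X.Modules)
    (E : ChainComplex X.Modules ℕ) (π : E.X 0 ⟶ F) [Epi π] (hπ : E.d 1 0 ≫ π = 0)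
    (hex0 : (ShortComplex.mk (E.d 1 0) π hπ).Exact) (hex : ∀ j : ℕ, E.ExactAt (j + 1))
    (hE : ∀ j : ℕ, FlatMod.IsFinLocFree (E.X j))
    [∀ j : ℕ, ModSite.HasSheafHom (O := X.sheaf) (E.X j)] [ModSite.HasSheafHom (O := X.sheaf) F]
    [HasInjectiveResolutions (ModSite.Mod X.sheaf)]
    (C : CochainComplex X.Modules ℕ) (e : ∀ j : ℕ, C.X j ≅ (ModSite.sheafHom (O := X.sheaf) (E.X j)).obj G)
    (hC : ∀ j : ℕ, C.d j (j + 1) ≫ (e (j + 1)).hom =
      (e j).hom ≫ (ExtSupp.sheafHomMap (O := X.sheaf) (E.d (j + 1) j)).app G)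
    (i : ℕ) :
    Nonempty (C.homology i ≅ (ModSite.extSh (O := X.sheaf) F i).obj G) := by
  have hepi : @Epi (ModSite.Mod X.sheaf) _ _ _ π := ‹Epi π›
  have hL : ∀ (j : ℕ) (p : ℕ), 1 ≤ p →
      IsZero (((ModSite.sheafHom (O := X.sheaf) (E.X j)).rightDerived p).obj G) := by
    intro j p hp
    obtain ⟨q, rfl⟩ : ∃ k, p = k + 1 := ⟨p - 1, by omega⟩
    exact isZero_extSh_of_isFinLocFree (E.X j) G (hE j) q
  exact @homology_iso _ _ _ X.sheaf _ F G E π hepi hπ hex0 hex hL C e hC i

end Groth.Agent.S15520
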