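import Groth.Statements.S15524
import Groth.Agent.Lib.LeadRH1

set_option autoImplicit false
open Finset
open Zeta

namespace Groth.Agent.S15524

/-- Let q ≥ 1 and let α_1, …, α_{2g} be complex numbers permuted by α ↦ q/α, i.e. α_{σ(i)} α_i = q for a
permutation σ of the indices; these play the role of the inverse roots of the numerator of the zeta
function of a curve over a field with q elements, for which #X(F_{q^N}) = q^N + 1 − Σ_i α_i^N. If
for some d ≥ 1 and real C one has |Σ_i α_i^{dN}| ≤ C q^{dN/2} for every N ≥ 1, then |α_i|^2 = q for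
every i (the Riemann hypothesis for the curve). -/
theorem result {g : ℕ} (q : ℕ) (hq : 0 < q)
    (α : Fin (2 * g) → ℂ) (σ : Equiv.Perm (Fin (2 * g))) (hσ : ∀ i, α (σ i) * α i = q)
    (d : ℕ) (hd : 0 < d) (C : ℝ)
    (hC : ∀ N : ℕ, 1 ≤ N → ‖∑ i, α i ^ (d * N)‖ ≤ C * (q : ℝ) ^ ((d : ℝ) * N / 2))
    (i : Fin (2 * g)) : ‖α i‖ ^ 2 = q := by
  have hq0 : (0 : ℝ) < q := by exact_mod_cast hq
  set B : ℝ := Real.sqrt q ^ d with hB
  have hsq0 : 0 < Real.sqrt q := Real.sqrt_pos.mpr hq0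
  have hB0 : 0 < B := pow_pos hsq0 d
  have hpow : ∀ N : ℕ, (q : ℝ) ^ ((d : ℝ) * N / 2) = B ^ N := by
    intro N
    rw [hB, ← pow_mul, Real.sqrt_eq_rpow, ← Real.rpow_natCast, ← Real.rpow_mul hq0.le]
    congr 1
    push_cast
    ring
  have hle : ∀ j, ‖α j ^ d‖ ≤ B := by
    apply Groth.Agent.Lib.LeadRH.norm_le_of_power_sums (fun j => α j ^ d) B C hB0 1
    intro s hs
    have := hC s hs
    rw [hpow] at this
    simpa [← pow_mul] using this
  have hle' : ∀ j, ‖α j‖ ≤ Real.sqrt q := by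
    intro j
    have := hle j
    rw [norm_pow, hB] at this
    exact le_of_pow_le_pow_left₀ hd.ne' hsq0.le this
  have h1 := hle' i
  have h2 := hle' (σ i)
  have hprod : ‖α (σ i)‖ * ‖α i‖ = q := by
    rw [← norm_mul, hσ i]
    simp
  have hss : Real.sqrt q * Real.sqrt q = q := Real.mul_self_sqrt hq0.le
  have hn0 : 0 ≤ ‖α i‖ := norm_nonneg _
  have hn1 : 0 ≤ ‖α (σ i)‖ := norm_nonneg _
  have heq : ‖α i‖ = Real.sqrt q := by
    apply le_antisymm h1
    by_contra hlt
    push_neg at hlt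
    have : ‖α (σ i)‖ * ‖α i‖ < Real.sqrt q * Real.sqrt q := by
      calc ‖α (σ i)‖ * ‖α i‖ ≤ Real.sqrt q * ‖α i‖ := mul_le_mul_of_nonneg_right h2 hn0
        _ < Real.sqrt q * Real.sqrt q := mul_lt_mul_of_pos_left hlt hsq0
    rw [hprod, hss] at this
    exact lt_irrefl _ this
  rw [heq, sq, hss]

end Groth.Agent.S15524
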