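import Groth.Statements.S15525
import Mathlib

set_option autoImplicit false
universe u
open Zeta

namespace Groth.Agent.S15525

/-- Let L be a field with a ring embedding ι into ℂ and M an r × r matrix over L all of whose
eigenvalues, the complex roots of its characteristic polynomial mapped along ι, have absolute value
1. Then every coefficient of the characteristic polynomial of the block-diagonal matrix with blocks
M and the inverse transpose of M is mapped by ι into ℝ. This is the pointwise content of the
assertion that for a lisse sheaf F pure of weight 0 the sum of F and its dual is real, the Frobenius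
of the dual acting by the inverse transpose. -/
theorem result (L : Type u) [Field L] (ι : L →+* ℂ)
    {r : ℕ} (M : Matrix (Fin r) (Fin r) L)
    (hM : ∀ z ∈ ((Matrix.charpoly M).map ι).roots, ‖z‖ = 1) (n : ℕ) :
    (ι ((Matrix.fromBlocks M 0 0 (M⁻¹).transpose).charpoly.coeff n)).im = 0 := by
  classical
  have hrev : ∀ s : Multiset ℂ, Polynomial.reverse (s.map (fun z => Polynomial.X - Polynomial.C z)).prod =
      (s.map (fun z => 1 - Polynomial.C z * Polynomial.X)).prod := by
    intro s
    induction s using Multiset.induction_on with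
    | empty =>
      rw [Multiset.map_zero, Multiset.prod_zero, Multiset.map_zero, Multiset.prod_zero]
      have h3 : (1 : Polynomial ℂ) = Polynomial.C 1 := by simp
      rw [h3, Polynomial.reverse_C]
    | cons z s ih =>
      rw [Multiset.map_cons, Multiset.prod_cons, Multiset.map_cons, Multiset.prod_cons,
        Polynomial.reverse_mul_of_domain, ih]
      congr 1
      have h1 : (Polynomial.X - Polynomial.C z : Polynomial ℂ) = Polynomial.X + Polynomial.C (-z) := by
        rw [Polynomial.C_neg, sub_eq_add_neg]
      have h2 : Polynomial.reverse (Polynomial.X : Polynomial ℂ) = 1 := by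
        have := Polynomial.reverse_mul_X (1 : Polynomial ℂ)
        rw [one_mul] at this
        rw [this]
        have h3 : (1 : Polynomial ℂ) = Polynomial.C 1 := by simp
        rw [h3, Polynomial.reverse_C]
      rw [h1, Polynomial.reverse_add_C, h2, Polynomial.natDegree_X, pow_one, Polynomial.C_neg]
      ring
  have hG : ∀ s : Multiset ℂ, (∀ z ∈ s, ‖z‖ = 1) →
      (-1 : Polynomial ℂ) ^ (Multiset.card s) * Polynomial.C ((s.prod)⁻¹) *
        (s.map (fun z => 1 - Polynomial.C z * Polynomial.X)).prod =
      (s.map (fun z => Polynomial.X - Polynomial.C ((starRingEnd ℂ) z))).prod := by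
    intro s
    induction s using Multiset.induction_on with
    | empty => intro _; simp
    | cons z s ih =>
      intro h
      have hz : ‖z‖ = 1 := h z (Multiset.mem_cons_self z s)
      have hz0 : z ≠ 0 := by
        intro h0; rw [h0, norm_zero] at hz; exact zero_ne_one hz
      have ih' := ih (fun w hw => h w (Multiset.mem_cons_of_mem hw))
      rw [Multiset.map_cons, Multiset.prod_cons, Multiset.map_cons, Multiset.prod_cons,
        Multiset.card_cons, Multiset.prod_cons, ← ih', ← Complex.inv_eq_conj hz, mul_inv,
        Polynomial.C_mul, pow_succ]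
      have h1 : (Polynomial.C z⁻¹ * Polynomial.C z : Polynomial ℂ) = 1 := by
        rw [← Polynomial.C_mul, inv_mul_cancel₀ hz0, Polynomial.C_1]
      linear_combination ((-1 : Polynomial ℂ) ^ (Multiset.card s) * Polynomial.C ((s.prod)⁻¹) *
        (s.map (fun z => 1 - Polynomial.C z * Polynomial.X)).prod * Polynomial.X) * h1
  set M' : Matrix (Fin r) (Fin r) ℂ := M.map ι with hM'
  have hchar : M'.charpoly = (Matrix.charpoly M).map ι := Matrix.charpoly_map M ι
  have hsplit : M'.charpoly.Splits := IsAlgClosed.splits _
  have hprod : M'.charpoly = (M'.charpoly.roots.map (fun z => Polynomial.X - Polynomial.C z)).prod :=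
    hsplit.eq_prod_roots_of_monic (Matrix.charpoly_monic M')
  have hnorm : ∀ z ∈ M'.charpoly.roots, ‖z‖ = 1 := by rw [hchar]; exact hM
  have hdet : M'.det = M'.charpoly.roots.prod := Matrix.det_eq_prod_roots_charpoly M'
  have hdet0 : M'.det ≠ 0 := by
    rw [hdet]; intro h0
    have h1 := Multiset.prod_eq_zero_iff.mp h0
    have h2 := hnorm 0 h1
    rw [norm_zero] at h2
    exact zero_ne_one h2
  have hMunit' : IsUnit M' := (Matrix.isUnit_iff_isUnit_det _).mpr (isUnit_iff_ne_zero.mpr hdet0)
  have hdetM : ι M.det = M'.det := by
    rw [hM', RingHom.map_det]; rfl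
  have hMdet : IsUnit M.det := by
    rw [isUnit_iff_ne_zero]
    intro h0; apply hdet0; rw [← hdetM, h0, map_zero]
  have hinv : (M⁻¹).map ι = M'⁻¹ := by
    symm
    apply Matrix.inv_eq_right_inv
    rw [hM', ← Matrix.map_mul, Matrix.mul_nonsing_inv _ hMdet,
      Matrix.map_one ι (map_zero ι) (map_one ι)]
  have hblock : (Matrix.fromBlocks M 0 0 (M⁻¹).transpose).map ι =
      Matrix.fromBlocks M' 0 0 (M'⁻¹).transpose := by
    rw [Matrix.fromBlocks_map, ← hinv, Matrix.transpose_map, hM']
    simp
  have hcoeff : ι ((Matrix.fromBlocks M 0 0 (M⁻¹).transpose).charpoly.coeff n) =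
      ((Matrix.fromBlocks M' 0 0 (M'⁻¹).transpose).charpoly).coeff n := by
    rw [← hblock, Matrix.charpoly_map, Polynomial.coeff_map]
  rw [hcoeff, Matrix.charpoly_fromBlocks_zero₁₂, Matrix.charpoly_transpose]
  have hcard : Multiset.card M'.charpoly.roots = r := by
    rw [← hsplit.natDegree_eq_card_roots, Matrix.charpoly_natDegree_eq_dim, Fintype.card_fin]
  have hkey : (M'⁻¹).charpoly = M'.charpoly.map (starRingEnd ℂ) := by
    rw [Matrix.charpoly_inv M' hMunit', ← Matrix.reverse_charpoly]
    conv_lhs => rw [hprod]
    conv_rhs => rw [hprod]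
    rw [hrev, Polynomial.map_multiset_prod, Multiset.map_map, Fintype.card_fin,
      Ring.inverse_eq_inv', hdet]
    have := hG _ hnorm
    rw [hcard] at this
    rw [this]
    congr 1
    refine Multiset.map_congr rfl (fun z _ => ?_)
    simp
  rw [hkey, ← Complex.conj_eq_iff_im, ← Polynomial.coeff_map, Polynomial.map_mul,
    Polynomial.map_map]
  have hcc : (starRingEnd ℂ).comp (starRingEnd ℂ) = RingHom.id ℂ := by
    ext z <;> simp
  rw [hcc, Polynomial.map_id, mul_comm]

end Groth.Agent.S15525
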