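import Groth.Statements.S15526
import Mathlib
-- import your own Groth.Agent.* helpers here

set_option autoImplicit false
universe u
open MvPolynomial
open CAlg

namespace Groth.Agent.S15526

section aux
variable {R : Type*} {A : Type*} [CommRing R] [CommRing A] [Algebra R A]

/-- the generating set -/
def gens (R : Type*) {A : Type*} [CommRing R] [CommRing A] [Algebra R A]
    (g : ℕ) (x y z : A) : Set A :=
  {a | ∃ i n : ℕ, i ≤ 2 * g ∧ (a = x ^ i * y ^ n ∨ a = x ^ i * z ^ n)}

theorem mem_H (g : ℕ) (x y z : A) (hyz : y * z = 1) (i a b : ℕ) (hi : i ≤ 2 * g) :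
    x ^ i * y ^ a * z ^ b ∈ Submodule.span R (gens R g x y z) := by
  rcases le_total b a with h | h
  · obtain ⟨c, rfl⟩ := Nat.exists_eq_add_of_le h
    have : x ^ i * y ^ (b + c) * z ^ b = x ^ i * y ^ c := by
      calc x ^ i * y ^ (b + c) * z ^ b = x ^ i * y ^ c * (y * z) ^ b := by ring
        _ = x ^ i * y ^ c := by rw [hyz, one_pow, mul_one]
    rw [this]
    exact Submodule.subset_span ⟨i, c, hi, Or.inl rfl⟩
  · obtain ⟨c, rfl⟩ := Nat.exists_eq_add_of_le h
    have : x ^ i * y ^ a * z ^ (a + c) = x ^ i * z ^ c := by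
      calc x ^ i * y ^ a * z ^ (a + c) = x ^ i * z ^ c * (y * z) ^ a := by ring
        _ = x ^ i * z ^ c := by rw [hyz, one_pow, mul_one]
    rw [this]
    exact Submodule.subset_span ⟨i, c, hi, Or.inr rfl⟩

theorem gens_subset (g : ℕ) (x y z : A) (a : A) (ha : a ∈ gens R g x y z) :
    ∃ i p q : ℕ, i ≤ 2 * g ∧ a = x ^ i * y ^ p * z ^ q := by
  obtain ⟨i, n, hi, h | h⟩ := ha
  · exact ⟨i, n, 0, hi, by rw [h, pow_zero, mul_one]⟩
  · exact ⟨i, 0, n, hi, by rw [h, pow_zero, mul_one]⟩

theorem stable_of_gens (g : ℕ) (x y z w : A)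
    (hw : ∀ i p q : ℕ, i ≤ 2 * g → x ^ i * y ^ p * z ^ q * w ∈ Submodule.span R (gens R g x y z))
    (s : A) (hs : s ∈ Submodule.span R (gens R g x y z)) :
    s * w ∈ Submodule.span R (gens R g x y z) := by
  induction hs using Submodule.span_induction with
  | mem a ha =>
    obtain ⟨i, p, q, hi, rfl⟩ := gens_subset g x y z a ha
    exact hw i p q hi
  | zero => simp
  | add a b _ _ ha hb => rw [add_mul]; exact Submodule.add_mem _ ha hb
  | smul r a _ ha => rw [smul_mul_assoc]; exact Submodule.smul_mem _ r ha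

theorem x_pow_top (g : ℕ) (P : Polynomial R) (hP : P.Monic) (hdeg : P.natDegree = 2 * g + 1)
    (x y : A) (hy : y ^ 2 = Polynomial.aeval x P) :
    x ^ (2 * g + 1) = y ^ 2 - ∑ k ∈ Finset.range (2 * g + 1), P.coeff k • x ^ k := by
  have h := congrArg (Polynomial.aeval x) hP.as_sum
  rw [hdeg] at h
  simp only [map_add, map_pow, Polynomial.aeval_X, map_sum, map_mul, Polynomial.aeval_C] at h
  rw [hy, h]
  simp only [Algebra.smul_def]
  ring

theorem stable_x (g : ℕ) (P : Polynomial R) (hP : P.Monic) (hdeg : P.natDegree = 2 * g + 1)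
    (x y z : A) (hy : y ^ 2 = Polynomial.aeval x P) (hyz : y * z = 1)
    (s : A) (hs : s ∈ Submodule.span R (gens R g x y z)) :
    s * x ∈ Submodule.span R (gens R g x y z) := by
  refine stable_of_gens g x y z x ?_ s hs
  intro i p q hi
  rcases Nat.lt_or_ge i (2 * g) with h | h
  · have : x ^ i * y ^ p * z ^ q * x = x ^ (i + 1) * y ^ p * z ^ q := by ring
    rw [this]
    exact mem_H g x y z hyz (i + 1) p q h
  · have hi2 : i = 2 * g := le_antisymm hi h
    subst hi2
    have : x ^ (2 * g) * y ^ p * z ^ q * x = x ^ (2 * g + 1) * (y ^ p * z ^ q) := by ring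
    rw [this, x_pow_top g P hP hdeg x y hy, sub_mul, Finset.sum_mul]
    refine Submodule.sub_mem _ ?_ (Submodule.sum_mem _ ?_)
    · have : y ^ 2 * (y ^ p * z ^ q) = x ^ 0 * y ^ (p + 2) * z ^ q := by ring
      rw [this]
      exact mem_H g x y z hyz 0 (p + 2) q (Nat.zero_le _)
    · intro k hk
      rw [smul_mul_assoc]
      refine Submodule.smul_mem _ _ ?_
      have : x ^ k * (y ^ p * z ^ q) = x ^ k * y ^ p * z ^ q := by ring
      rw [this]
      exact mem_H g x y z hyz k p q (by have := Finset.mem_range.mp hk; omega)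

theorem stable_y (g : ℕ) (x y z : A) (hyz : y * z = 1)
    (s : A) (hs : s ∈ Submodule.span R (gens R g x y z)) :
    s * y ∈ Submodule.span R (gens R g x y z) := by
  refine stable_of_gens g x y z y ?_ s hs
  intro i p q hi
  have : x ^ i * y ^ p * z ^ q * y = x ^ i * y ^ (p + 1) * z ^ q := by ring
  rw [this]
  exact mem_H g x y z hyz i (p + 1) q hi

theorem stable_z (g : ℕ) (x y z : A) (hyz : y * z = 1)
    (s : A) (hs : s ∈ Submodule.span R (gens R g x y z)) :
    s * z ∈ Submodule.span R (gens R g x y z) := by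
  refine stable_of_gens g x y z z ?_ s hs
  intro i p q hi
  have : x ^ i * y ^ p * z ^ q * z = x ^ i * y ^ p * z ^ (q + 1) := by ring
  rw [this]
  exact mem_H g x y z hyz i p (q + 1) hi

end aux

/-- Let R be a commutative ring, P ∈ R[x] a monic polynomial of degree 2g + 1, and A = R[x, y, z]/(y^2 −
P(x), yz − 1). Then every element of A is a finite sum Σ_n Q_n(x) y^n over integers n, negative
powers of y meaning powers of z, with each Q_n ∈ R[x] of degree at most 2g: the R-submodule of A
spanned by the classes of x^i y^n and x^i z^n with i ≤ 2g and n ≥ 0 is all of A. (The published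
statement takes for R the ring of Witt vectors of a finite field and for P a lift of a separable
polynomial; the argument uses only that P is monic of degree 2g + 1.) -/
theorem result (R : Type u) [CommRing R] (g : ℕ)
    (P : Polynomial R) (hP : P.Monic) (hdeg : P.natDegree = 2 * g + 1) :
    Submodule.span R {a : MvPolynomial (Fin 3) R ⧸
        Ideal.span ({X 1 ^ 2 - Polynomial.aeval (X 0 : MvPolynomial (Fin 3) R) P, X 1 * X 2 - 1} :
          Set (MvPolynomial (Fin 3) R)) |
        ∃ i n : ℕ, i ≤ 2 * g ∧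
          (a = Ideal.Quotient.mk _ (X 0 ^ i * X 1 ^ n) ∨ a = Ideal.Quotient.mk _ (X 0 ^ i * X 2 ^ n))} =
      ⊤ := by
  set I : Ideal (MvPolynomial (Fin 3) R) :=
    Ideal.span ({X 1 ^ 2 - Polynomial.aeval (X 0 : MvPolynomial (Fin 3) R) P, X 1 * X 2 - 1} :
          Set (MvPolynomial (Fin 3) R)) with hI
  let mk : MvPolynomial (Fin 3) R →+* MvPolynomial (Fin 3) R ⧸ I := Ideal.Quotient.mk I
  set x := mk (X 0) with hx
  set y := mk (X 1) with hyd
  set z := mk (X 2) with hz
  have hy : y ^ 2 = Polynomial.aeval x P := by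
    have h1 : mk (X 1 ^ 2 - Polynomial.aeval (X 0 : MvPolynomial (Fin 3) R) P) = 0 :=
      Ideal.Quotient.eq_zero_iff_mem.mpr (Ideal.subset_span (by simp))
    rw [map_sub, sub_eq_zero, map_pow] at h1
    rw [h1]
    exact (Polynomial.aeval_algHom_apply (Ideal.Quotient.mkₐ R I) (X 0) P).symm
  have hyz : y * z = 1 := by
    have h1 : mk (X 1 * X 2 - 1) = 0 :=
      Ideal.Quotient.eq_zero_iff_mem.mpr (Ideal.subset_span (by simp))
    rw [map_sub, sub_eq_zero, map_mul, map_one] at h1
    exact h1
  have hset : {a : MvPolynomial (Fin 3) R ⧸ I |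
        ∃ i n : ℕ, i ≤ 2 * g ∧
          (a = Ideal.Quotient.mk _ (X 0 ^ i * X 1 ^ n) ∨ a = Ideal.Quotient.mk _ (X 0 ^ i * X 2 ^ n))}
      = gens R g x y z := by
    ext a
    simp only [gens, Set.mem_ofPred_eq, map_mul, map_pow]
    rfl
  rw [hset, eq_top_iff]
  intro a ha
  clear ha
  obtain ⟨p, rfl⟩ := Ideal.Quotient.mk_surjective a
  induction p using MvPolynomial.induction_on with
  | C r =>
    have h1 : (Ideal.Quotient.mk I) (C r) = r • (x ^ 0 * y ^ 0 * z ^ 0) := by
      simp only [pow_zero, mul_one]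
      have h2 : (C r : MvPolynomial (Fin 3) R) = r • 1 := by
        rw [MvPolynomial.smul_eq_C_mul, mul_one]
      rw [h2]
      show (Ideal.Quotient.mkₐ R I) (r • 1) = _
      rw [map_smul, map_one]
    rw [h1]
    exact Submodule.smul_mem _ _ (mem_H g x y z hyz 0 0 0 (Nat.zero_le _))
  | add p q hp hq =>
    rw [map_add]
    exact Submodule.add_mem _ hp hq
  | mul_X p n hp =>
    rw [map_mul]
    fin_cases n
    · exact stable_x g P hP hdeg x y z hy hyz _ hp
    · exact stable_y g x y z hyz _ hp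
    · exact stable_z g x y z hyz _ hp

end Groth.Agent.S15526
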