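import Groth.Statements.S15544
import Mathlib
import Groth.Agent.S2422
import Groth.Agent.Lib.Helper23ZarConnB4
-- import your own Groth.Agent.* helpers here

set_option autoImplicit false
open CategoryTheory AlgebraicGeometry
universe u
open Coherent

namespace Groth.Agent.S15544


theorem isIso_stalkSpecializes_of_eq {Y : Scheme.{u}} {x y : Y} (e : x = y) (h : x ⤳ y) :
    IsIso (Y.presheaf.stalkSpecializes h) := by
  subst e
  rw [TopCat.Presheaf.stalkSpecializes_refl]
  infer_instance

/-- Let X and Y be integral schemes, Y locally Noetherian with all local rings integrally closed, and f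
: X ⟶ Y a proper birational morphism (the generic point of X maps to that of Y and the stalk map
there is an isomorphism). Then every fibre of f is connected and nonempty. (The published statement
takes X and Y Noetherian; over a locally Noetherian Y this is the same assertion fibre by fibre.) -/
theorem result {X Y : Scheme.{u}} [IsIntegral X]
    [IsIntegral Y] [IsLocallyNoetherian Y] (hY : Pi1.IsNormalScheme Y) (f : X ⟶ Y) [IsProper f]
    (hgen : f.base (genericPoint X) = genericPoint Y) (hbir : IsIso (f.stalkMap (genericPoint X)))
    (y : Y) : ConnectedSpace ↥(f.fiber y) := by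
  haveI : IsLocallyNoetherian X := LocallyOfFiniteType.isLocallyNoetherian f
  have hdom : f.base (genericPoint X) ⤳ genericPoint Y := hgen ▸ specializes_rfl
  haveI := isIso_stalkSpecializes_of_eq hgen hdom
  have hsurj : Function.Surjective (CohIII.stalkToFunctionField f (genericPoint Y) hdom) := by
    change Function.Surjective ((f.stalkMap (genericPoint X)).hom.comp
      (Y.presheaf.stalkSpecializes hdom).hom)
    rw [RingHom.coe_comp]
    exact (ConcreteCategory.bijective_of_isIso (f.stalkMap (genericPoint X))).2.comp
      (ConcreteCategory.bijective_of_isIso (Y.presheaf.stalkSpecializes hdom)).2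
  have hiso := Groth.Agent.S2422.result hY f hdom (fun x _ => hsurj x)
  exact Groth.Agent.Lib.Helper23.ZarConnB4.connectedSpace_fiber f hiso y

end Groth.Agent.S15544
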