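import Groth.Statements.S15546
import Mathlib
import Groth.Agent.Lib.Helper12SepGen
-- import your own Groth.Agent.* helpers here

set_option autoImplicit false
open scoped TensorProduct
universe u
open Unram

namespace Groth.Agent.S15546

/-- Let E be a finite extension of a field k which is not separable over k, and K an algebraic closure
of k. Then E ⊗_k K has a nonzero nilpotent element. -/
theorem result (k E K : Type u) [Field k] [Field E]
    [Algebra k E] [FiniteDimensional k E] [Field K] [Algebra k K] [IsAlgClosure k K]
    (h : ¬ Algebra.IsSeparable k E) : ∃ x : E ⊗[k] K, x ≠ 0 ∧ IsNilpotent x := by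
  by_contra hcon
  push Not at hcon
  have hred : IsReduced (E ⊗[k] K) := ⟨fun x hx => by
    by_contra hx0
    exact hcon x hx0 hx⟩
  let e1 : AlgebraicClosure k ≃ₐ[k] K := IsAlgClosure.equiv k (AlgebraicClosure k) K
  let e2 : AlgebraicClosure k ⊗[k] E ≃ₐ[k] K ⊗[k] E :=
    Algebra.TensorProduct.congr e1 AlgEquiv.refl
  let e3 : K ⊗[k] E ≃ₐ[k] E ⊗[k] K := Algebra.TensorProduct.comm k K E
  have hred' : IsReduced (AlgebraicClosure k ⊗[k] E) :=
    isReduced_of_injective (e2.trans e3) (e2.trans e3).injective
  have hgr : Algebra.IsGeometricallyReduced k E :=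
    (Algebra.isGeometricallyReduced_field_iff k E).mpr hred'
  obtain ⟨s, hs, hsep⟩ := Groth.Agent.Lib.Helper12.SepGen.exists_isTranscendenceBasis_and_isSeparable k E
  have hempty : s = ∅ := by
    apply Finset.eq_empty_of_forall_notMem
    intro x hx
    have htr : Transcendental k ((fun y : s => (y : E)) ⟨x, hx⟩) := hs.1.transcendental ⟨x, hx⟩
    exact htr (Algebra.IsAlgebraic.isAlgebraic _)
  subst hempty
  have hbot : IntermediateField.adjoin k ((∅ : Finset E) : Set E) = ⊥ := by
    simp
  rw [hbot] at hsep
  have h1 : Algebra.IsSeparable k (⊥ : IntermediateField k E) := IntermediateField.isSeparable_bot k E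
  exact h (Algebra.IsSeparable.trans k (⊥ : IntermediateField k E) E)

end Groth.Agent.S15546
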