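import Groth.Statements.S15547
import Mathlib
import Groth.Agent.Lib.Helper20OnePtStalk

set_option autoImplicit false
open CategoryTheory AlgebraicGeometry TopologicalSpace
universe u
open Coherent

namespace Groth.Agent.S15547

open CategoryTheory AlgebraicGeometry TopologicalSpace

variable {Z X : Scheme.{u}} (g : Z ⟶ X)

/-- the pushforward presheaf of rings -/
noncomputable abbrev P : TopCat.Presheaf CommRingCat X := g.base _* Z.presheaf

/-- the comparison map from the stalk of the pushforward to the local ring at a point of the fibre -/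
noncomputable def ψ (x : X) (z : {z : Z // g.base z = x}) :
    (P g).stalk x ⟶ Z.presheaf.stalk z.1 :=
  ((P g).stalkCongr (Inseparable.of_eq z.2)).inv ≫
    TopCat.Presheaf.stalkPushforward CommRingCat g.base Z.presheaf z.1

theorem ψ_germ (x : X) (z : {z : Z // g.base z = x}) (W : X.Opens) (hx : x ∈ W)
    (s : Γ(Z, g ⁻¹ᵁ W)) :
    (ψ g x z).hom ((P g).germ W x hx s) =
      Z.presheaf.germ (g ⁻¹ᵁ W) z.1 (by change g.base z.1 ∈ W; rw [z.2]; exact hx) s := by
  obtain ⟨z, rfl⟩ := z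
  have h1 : ((P g).stalkCongr (Inseparable.of_eq (rfl : g.base z = g.base z))).inv = 𝟙 _ := by
    exact TopCat.Presheaf.stalkSpecializes_refl (P g) (g.base z)
  have h2 := TopCat.Presheaf.stalkPushforward_germ CommRingCat g.base Z.presheaf W z hx
  rw [ψ, h1, Category.id_comp]
  exact congrArg (fun k => k.hom s) h2

/-- the structure map from the local ring of `X` at `x` -/
noncomputable def θ (x : X) : X.presheaf.stalk x ⟶ (P g).stalk x :=
  (TopCat.Presheaf.stalkFunctor CommRingCat x).map g.c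

theorem θ_germ (x : X) (W : X.Opens) (hx : x ∈ W) (a : Γ(X, W)) :
    (θ g x).hom (X.presheaf.germ W x hx a) = (P g).germ W x hx (g.app W a) := by
  have h := TopCat.Presheaf.stalkFunctor_map_germ W x hx g.c
  exact congrArg (fun k => k.hom a) h

theorem θ_ψ (x : X) (z : {z : Z // g.base z = x}) :
    θ g x ≫ ψ g x z =
      (X.presheaf.stalkCongr (Inseparable.of_eq z.2)).inv ≫ g.stalkMap z.1 := by
  obtain ⟨z, rfl⟩ := z
  have h1 : ((P g).stalkCongr (Inseparable.of_eq (rfl : g.base z = g.base z))).inv = 𝟙 _ := by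
    exact TopCat.Presheaf.stalkSpecializes_refl (P g) (g.base z)
  have h2 : (X.presheaf.stalkCongr (Inseparable.of_eq (rfl : g.base z = g.base z))).inv = 𝟙 _ := by
    exact TopCat.Presheaf.stalkSpecializes_refl X.presheaf (g.base z)
  rw [ψ, h1, h2, Category.id_comp, Category.id_comp]
  rfl

/-- every element of the stalk of the pushforward is a germ over an affine open -/
theorem exists_affine_germ (x : X) (c : (P g).stalk x) :
    ∃ (W : X.Opens) (_ : IsAffineOpen W) (hx : x ∈ W) (s : Γ(Z, g ⁻¹ᵁ W)),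
      (P g).germ W x hx s = c := by
  obtain ⟨W₀, hxW₀, s₀, rfl⟩ := (P g).exists_germ_eq c
  obtain ⟨_, ⟨W, hW, rfl⟩, hxW, hWW₀⟩ :=
    X.isBasis_affineOpens.exists_subset_of_mem_open hxW₀ W₀.isOpen
  refine ⟨W, hW, hxW, (P g).map (homOfLE hWW₀).op s₀, ?_⟩
  exact TopCat.Presheaf.germ_res_apply (P g) (homOfLE hWW₀) x hxW s₀

theorem θ_isIntegral [IsFinite g] (x : X) : (θ g x).hom.IsIntegral := by
  intro c
  obtain ⟨W, hW, hx, s, rfl⟩ := exists_affine_germ g x c
  have hfin : (g.app W).hom.Finite := IsFinite.finite_app g W hW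
  have hint : (g.app W).hom.IsIntegralElem s := hfin.to_isIntegral s
  obtain ⟨p, hp, hps⟩ := hint
  refine ⟨p.map (X.presheaf.germ W x hx).hom, hp.map _, ?_⟩
  rw [Polynomial.eval₂_map]
  have hcomp : (θ g x).hom.comp (X.presheaf.germ W x hx).hom =
      ((P g).germ W x hx).hom.comp (g.app W).hom := by
    ext a
    exact θ_germ g x W hx a
  rw [hcomp, ← Polynomial.hom_eval₂, hps, map_zero]

/-- the ideal attached to a point of the fibre -/
noncomputable def Pz (x : X) (z : {z : Z // g.base z = x}) : Ideal ((P g).stalk x) :=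
  Ideal.comap (ψ g x z).hom (IsLocalRing.maximalIdeal (Z.presheaf.stalk z.1))

instance (x : X) (z : {z : Z // g.base z = x}) : (Pz g x z).IsPrime := by
  unfold Pz
  infer_instance

theorem comap_θ_Pz (x : X) (z : {z : Z // g.base z = x}) :
    Ideal.comap (θ g x).hom (Pz g x z) = IsLocalRing.maximalIdeal (X.presheaf.stalk x) := by
  rw [Pz, Ideal.comap_comap, ← CommRingCat.hom_comp, θ_ψ]
  haveI : IsLocalHom ((X.presheaf.stalkCongr (Inseparable.of_eq z.2)).inv ≫ g.stalkMap z.1).hom :=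
    inferInstance
  exact ((IsLocalRing.local_hom_TFAE _).out 0 4).1 this

theorem Pz_isMaximal [IsFinite g] (x : X) (z : {z : Z // g.base z = x}) :
    (Pz g x z).IsMaximal := by
  apply Ideal.isMaximal_of_isIntegral_of_isMaximal_comap' (θ g x).hom (θ_isIntegral g x)
  rw [comap_θ_Pz]
  infer_instance

theorem exists_mul_pow_eq (x : X) (U : X.Opens) (hU : IsAffineOpen U) (hV : IsAffineOpen (g ⁻¹ᵁ U))
    (hxU : x ∈ U) (c : (P g).stalk x) :
    ∃ (a : Γ(X, U)) (n : ℕ) (b : Γ(Z, g ⁻¹ᵁ U)), x ∈ X.basicOpen a ∧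
      c * ((P g).germ U x hxU (g.app U a)) ^ n = (P g).germ U x hxU b := by
  obtain ⟨W₀, hxW₀, s₀, rfl⟩ := (P g).exists_germ_eq c
  obtain ⟨a, haW, hxa⟩ := hU.exists_basicOpen_le (V := W₀) ⟨x, hxW₀⟩ hxU
  have hDU : X.basicOpen a ≤ U := X.basicOpen_le a
  have e : g ⁻¹ᵁ (X.basicOpen a) = Z.basicOpen (g.app U a) := Scheme.preimage_basicOpen g a
  let i : g ⁻¹ᵁ (X.basicOpen a) ⟶ g ⁻¹ᵁ U := (Opens.map g.base).map (homOfLE hDU)
  have hloc := hV.isLocalization_of_eq_basicOpen (f := g.app U a) i e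
  letI : Algebra Γ(Z, g ⁻¹ᵁ U) Γ(Z, g ⁻¹ᵁ (X.basicOpen a)) := (Z.presheaf.map i.op).hom.toAlgebra
  let t : Γ(Z, g ⁻¹ᵁ (X.basicOpen a)) := (P g).map (homOfLE haW).op s₀
  obtain ⟨⟨b, m⟩, hbm⟩ := IsLocalization.surj (Submonoid.powers (g.app U a)) t
  obtain ⟨n, hn⟩ := m.2
  refine ⟨a, n, b, hxa, ?_⟩
  have h1 : (P g).germ (X.basicOpen a) x hxa t = (P g).germ W₀ x hxW₀ s₀ :=
    TopCat.Presheaf.germ_res_apply (P g) (homOfLE haW) x hxa s₀
  have h2 : ∀ y : Γ(Z, g ⁻¹ᵁ U), (P g).germ (X.basicOpen a) x hxa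
      (algebraMap Γ(Z, g ⁻¹ᵁ U) Γ(Z, g ⁻¹ᵁ (X.basicOpen a)) y) = (P g).germ U x hxU y :=
    fun y => TopCat.Presheaf.germ_res_apply (P g) (homOfLE hDU) x hxa y
  have h3 := congrArg ((P g).germ (X.basicOpen a) x hxa).hom hbm
  rw [map_mul] at h3
  change (P g).germ (X.basicOpen a) x hxa t * (P g).germ (X.basicOpen a) x hxa
    (algebraMap Γ(Z, g ⁻¹ᵁ U) Γ(Z, g ⁻¹ᵁ (X.basicOpen a)) m.1) = (P g).germ (X.basicOpen a) x hxa
    (algebraMap Γ(Z, g ⁻¹ᵁ U) Γ(Z, g ⁻¹ᵁ (X.basicOpen a)) b) at h3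
  rw [h1, h2, h2, ← hn, map_pow] at h3
  exact h3

open Groth.Agent.Lib.Helper20.OnePt in
theorem germ_mem_Pz_iff (x : X) (z : {z : Z // g.base z = x}) (U : X.Opens)
    (hV : IsAffineOpen (g ⁻¹ᵁ U)) (hxU : x ∈ U) (b : Γ(Z, g ⁻¹ᵁ U)) :
    (P g).germ U x hxU b ∈ Pz g x z ↔
      b ∈ (hV.primeIdealOf ⟨z.1, by change g.base z.1 ∈ U; rw [z.2]; exact hxU⟩).asIdeal := by
  have hz : z.1 ∈ g ⁻¹ᵁ U := by change g.base z.1 ∈ U; rw [z.2]; exact hxU
  rw [mem_primeIdealOf_iff hV ⟨z.1, hz⟩ b, Scheme.mem_basicOpen Z b z.1 hz, Pz, Ideal.mem_comap,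
    ψ_germ g x z U hxU b, IsLocalRing.mem_maximalIdeal, mem_nonunits_iff]

theorem primeIdealOf_injective {Y : Scheme.{u}} {V : Y.Opens} (hV : IsAffineOpen V) (y y' : V)
    (h : hV.primeIdealOf y = hV.primeIdealOf y') : y = y' := by
  have h1 := hV.fromSpec_primeIdealOf y
  have h2 := hV.fromSpec_primeIdealOf y'
  rw [h] at h1
  exact Subtype.ext (h1.symm.trans h2)

open Groth.Agent.Lib.Helper20.OnePt in

/-- Let g : Z ⟶ X be a finite morphism of schemes (Z is the spectrum of the finite quasi-coherent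
O_X-algebra C = g_*O_Z) and x a point of X. Then the points of Z over x correspond bijectively to
the maximal ideals of the stalk C_x = (g_*O_Z)_x: the map sending z with g(z) = x to the preimage of
the maximal ideal of O_{Z,z} under the canonical map (g_*O_Z)_x ⟶ O_{Z,z} is a bijection from the
fibre onto the set of maximal ideals. -/
theorem result {Z X : Scheme.{u}} (g : Z ⟶ X)
    [IsFinite g] (x : X) :
    Set.BijOn (fun z : {z : Z // g.base z = x} =>
        Ideal.comap (((g.base _* Z.presheaf).stalkCongr (Inseparable.of_eq z.2)).inv ≫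
            TopCat.Presheaf.stalkPushforward CommRingCat g.base Z.presheaf z.1).hom
          (IsLocalRing.maximalIdeal (Z.presheaf.stalk z.1)))
      Set.univ {I : Ideal ((g.base _* Z.presheaf).stalk x) | I.IsMaximal} := by
  change Set.BijOn (fun z : {z : Z // g.base z = x} => Pz g x z) Set.univ
    {I : Ideal ((P g).stalk x) | I.IsMaximal}
  obtain ⟨_, ⟨U, hU, rfl⟩, hxU, -⟩ :=
    X.isBasis_affineOpens.exists_subset_of_mem_open (Set.mem_univ x) isOpen_univ
  have hV : IsAffineOpen (g ⁻¹ᵁ U) := hU.preimage g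
  refine ⟨fun z _ => Pz_isMaximal g x z, ?_, ?_⟩
  · -- injectivity
    intro z _ z' _ hzz'
    have hz : z.1 ∈ g ⁻¹ᵁ U := by change g.base z.1 ∈ U; rw [z.2]; exact hxU
    have hz' : z'.1 ∈ g ⁻¹ᵁ U := by change g.base z'.1 ∈ U; rw [z'.2]; exact hxU
    have h1 : hV.primeIdealOf ⟨z.1, hz⟩ = hV.primeIdealOf ⟨z'.1, hz'⟩ := by
      apply PrimeSpectrum.ext
      ext b
      rw [← germ_mem_Pz_iff g x z U hV hxU b, ← germ_mem_Pz_iff g x z' U hV hxU b]
      rw [show Pz g x z = Pz g x z' from hzz']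
    have h2 := primeIdealOf_injective hV _ _ h1
    exact Subtype.ext (Subtype.mk.inj h2)
  · -- surjectivity
    intro M hM
    have hM' : M.IsMaximal := hM
    haveI := hM'
    haveI : M.IsPrime := hM'.isPrime
    have hθM : Ideal.comap (θ g x).hom M = IsLocalRing.maximalIdeal (X.presheaf.stalk x) := by
      have := Ideal.isMaximal_comap_of_isIntegral_of_isMaximal' (θ g x).hom (θ_isIntegral g x) M
      exact IsLocalRing.eq_maximalIdeal this
    let q : PrimeSpectrum Γ(Z, g ⁻¹ᵁ U) :=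
      ⟨Ideal.comap ((P g).germ U x hxU).hom M, inferInstance⟩
    let z : Z := hV.fromSpec q
    have hz : z ∈ g ⁻¹ᵁ U := by
      have : z ∈ Set.range hV.fromSpec := ⟨q, rfl⟩
      rw [hV.range_fromSpec] at this
      exact this
    have hqz : hV.primeIdealOf ⟨z, hz⟩ = q := by
      apply hV.fromSpec.isOpenEmbedding.injective
      exact hV.fromSpec_primeIdealOf ⟨z, hz⟩
    have hgz : g.base z = x := by
      have hgzU : g.base z ∈ U := hz
      have h1 : (hV.primeIdealOf ⟨z, hz⟩).comap (g.app U).hom = hU.primeIdealOf ⟨g.base z, hgzU⟩ := by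
        have := IsAffineOpen.comap_primeIdealOf_appLE (f := g) (x := z) U hU (g ⁻¹ᵁ U) hV le_rfl hz
        rw [← Scheme.Hom.app_eq_appLE] at this
        exact this
      have h2 : hU.primeIdealOf ⟨g.base z, hgzU⟩ = hU.primeIdealOf ⟨x, hxU⟩ := by
        rw [← h1, hqz]
        apply PrimeSpectrum.ext
        ext a
        rw [mem_primeIdealOf_iff hU ⟨x, hxU⟩ a, Scheme.mem_basicOpen X a x hxU]
        change (P g).germ U x hxU (g.app U a) ∈ M ↔ _
        rw [← θ_germ g x U hxU a, ← Ideal.mem_comap, hθM, IsLocalRing.mem_maximalIdeal,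
          mem_nonunits_iff]
      exact congrArg Subtype.val (primeIdealOf_injective hU _ _ h2)
    refine ⟨⟨z, hgz⟩, Set.mem_univ _, ?_⟩
    change Pz g x ⟨z, hgz⟩ = M
    symm
    apply hM'.eq_of_le (Pz_isMaximal g x ⟨z, hgz⟩).ne_top
    intro c hc
    obtain ⟨a, n, b, hxa, hcab⟩ := exists_mul_pow_eq g x U hU hV hxU c
    have hbM : (P g).germ U x hxU b ∈ M := by
      rw [← hcab]
      exact M.mul_mem_right _ hc
    have hbq : b ∈ (hV.primeIdealOf ⟨z, hz⟩).asIdeal := by
      rw [hqz]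
      exact hbM
    have hbP : (P g).germ U x hxU b ∈ Pz g x ⟨z, hgz⟩ :=
      (germ_mem_Pz_iff g x ⟨z, hgz⟩ U hV hxU b).2 hbq
    rw [← hcab] at hbP
    rcases Ideal.IsPrime.mem_or_mem inferInstance hbP with h | h
    · exact h
    · exfalso
      have h' := Ideal.IsPrime.mem_of_pow_mem inferInstance n h
      rw [← θ_germ g x U hxU a, ← Ideal.mem_comap, comap_θ_Pz, IsLocalRing.mem_maximalIdeal,
        mem_nonunits_iff] at h'
      exact h' ((Scheme.mem_basicOpen X a x hxU).1 hxa)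

end Groth.Agent.S15547
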