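import Groth.Statements.S15549
import Groth.Agent.Lib.Helper2GrModZero

set_option autoImplicit false
universe u
open CategoryTheory AlgebraicGeometry
open LocCoh

namespace Groth.Agent.S15549

open Groth.Agent.Lib.Helper2GrModSect in
theorem aux {R σ : Type u} [CommRing R] [IsNoetherianRing R] [SetLike σ R] [AddSubgroupClass σ R]
    (𝒜 : ℕ → σ) [GradedRing 𝒜] {M τ : Type u} [AddCommGroup M] [Module R M] [SetLike τ M] [AddSubgroupClass τ M]
    (ℳ : ℕ → τ) [SetLike.GradedSMul 𝒜 ℳ] [DirectSum.Decomposition ℳ]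
    (i : ℕ) (m : ℳ i) :
    GrMod.alpha 𝒜 ℳ i m = 0 ↔
      ∃ k : ℕ, ∀ r : R, r ∈ (HomogeneousIdeal.irrelevant 𝒜).toIdeal ^ k → r • (m : M) = 0 := by
  classical
  constructor
  · intro h0
    have H0 : ∀ y : ProjectiveSpectrum 𝒜, ∃ u : R, u ∉ y.asHomogeneousIdeal ∧ u • (m : M) = 0 := by
      intro y
      have h1 : (((GrMod.alpha 𝒜 ℳ i m).1 ⟨y, trivial⟩ : GrMod.tildeAt 𝒜 ℳ i y) :
          GrMod.LocMod 𝒜 (M := M) y) = 0 := by
        rw [h0]; rfl
      have h2 : (LocalizedModule.mk (m : M) 1 : GrMod.LocMod 𝒜 (M := M) y) = 0 := h1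
      rw [← LocalizedModule.zero_mk (1 : y.asHomogeneousIdeal.toIdeal.primeCompl),
        LocalizedModule.mk_eq] at h2
      obtain ⟨u, hu⟩ := h2
      refine ⟨u.1, u.2, ?_⟩
      have hu' := hu
      simp only [one_smul, smul_zero] at hu'
      exact hu' 
    have hrad : (HomogeneousIdeal.irrelevant 𝒜).toIdeal ≤ (Ideal.torsionOf R M (m : M)).radical := by
      intro a ha
      rw [← DirectSum.sum_support_decompose 𝒜 a]
      refine Ideal.sum_mem _ (fun e _ => ?_)
      by_cases he : e = 0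
      · subst he
        have : (DirectSum.decompose 𝒜 a 0 : R) = 0 := by
          have := (HomogeneousIdeal.mem_irrelevant_iff 𝒜 a).mp ha
          rwa [GradedRing.proj_apply] at this
        rw [this]
        exact Ideal.zero_mem _
      · obtain ⟨N, hN⟩ := exists_pow_smul_eq_zero 𝒜 ℳ (Nat.pos_of_ne_zero he)
          (SetLike.coe_mem (DirectSum.decompose 𝒜 a e)) m.2 (fun y _ => H0 y)
        exact ⟨N, (Ideal.mem_torsionOf_iff _ _).mpr (hN N le_rfl)⟩
    obtain ⟨k, hk⟩ := Ideal.exists_pow_le_of_le_radical_of_fg hrad (IsNoetherian.noetherian _)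
    exact ⟨k, fun r hr => (Ideal.mem_torsionOf_iff _ _).mp (hk hr)⟩
  · rintro ⟨k, hk⟩
    refine Subtype.ext (funext fun x => Subtype.ext ?_)
    change (LocalizedModule.mk (m : M) 1 : GrMod.LocMod 𝒜 (M := M) x.1) = 0
    obtain ⟨d, f, hd, hf, hfx⟩ := exists_homogeneous_pos_not_mem 𝒜 x.1
    have hfirr : f ∈ (HomogeneousIdeal.irrelevant 𝒜).toIdeal := by
      change f ∈ HomogeneousIdeal.irrelevant 𝒜
      rw [HomogeneousIdeal.mem_irrelevant_iff, GradedRing.proj_apply,
        DirectSum.decompose_of_mem_ne 𝒜 hf (Nat.pos_iff_ne_zero.mp hd)]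
    have h3 := hk _ (Ideal.pow_mem_pow hfirr k)
    rw [← LocalizedModule.zero_mk (1 : x.1.asHomogeneousIdeal.toIdeal.primeCompl),
      LocalizedModule.mk_eq]
    refine ⟨⟨f ^ k, fun h => hfx (x.1.isPrime.mem_of_pow_mem k h)⟩, ?_⟩
    simp only [one_smul, smul_zero, Submonoid.smul_def]
    exact h3

/-- Let R be a Noetherian commutative ring, positively graded by additive subgroups R_d, with irrelevant
ideal R_+ and X = Proj R, and let M be a graded R-module which is the direct sum of its pieces M_i,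
i ≥ 0 (non-negatively graded here). For every i and every m ∈ M_i, the global section of M(i)~
defined by m (the value m/1 at every point) is zero if and only if some power of R_+ annihilates m.
Equivalently, degree by degree, the kernel of the canonical map from M to the direct sum over all n
of Γ(X, M(n)~) is the R_+-power-torsion submodule H^0_{R_+}(M). -/
theorem result {R σ : Type u} [CommRing R] [IsNoetherianRing R] [SetLike σ R] [AddSubgroupClass σ R]
    (𝒜 : ℕ → σ) [GradedRing 𝒜] {M τ : Type u} [AddCommGroup M] [Module R M] [SetLike τ M] [AddSubgroupClass τ M]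
    (ℳ : ℕ → τ) [SetLike.GradedSMul 𝒜 ℳ] [DirectSum.Decomposition ℳ]
    (i : ℕ) (m : ℳ i) :
    GrMod.alpha 𝒜 ℳ i m = 0 ↔
      ∃ k : ℕ, ∀ r : R, r ∈ (HomogeneousIdeal.irrelevant 𝒜).toIdeal ^ k → r • (m : M) = 0 := by
  exact aux 𝒜 ℳ i m

end Groth.Agent.S15549
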