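import Groth.Statements.S15550
import Groth.Agent.Lib.Helper8PuncC

set_option autoImplicit false
universe u
open CategoryTheory AlgebraicGeometry Opposite
open LocCoh

namespace Groth.Agent.S15550

open Groth.Agent.Lib.Helper8.Punc in
theorem exists_gens {R σ : Type u} [CommRing R] [IsNoetherianRing R] [SetLike σ R] [AddSubgroupClass σ R]
    (𝒜 : ℕ → σ) [GradedRing 𝒜] :
    ∃ (r : ℕ) (fs : Fin r → R) (ds : Fin r → ℕ), (∀ j, 0 < ds j) ∧ (∀ j, fs j ∈ 𝒜 (ds j)) ∧
      Ideal.span (Set.range fs) = (HomogeneousIdeal.irrelevant 𝒜).toIdeal := by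
  classical
  have hfg : (HomogeneousIdeal.irrelevant 𝒜).toIdeal.FG := IsNoetherian.noetherian _
  rw [HomogeneousIdeal.irrelevant_eq_span] at hfg ⊢
  obtain ⟨T, hT, hspan⟩ := (Submodule.fg_span_iff_fg_span_finset_subset _).mp hfg
  have hex : ∀ t : T, ∃ i : ℕ, 0 < i ∧ (t : R) ∈ 𝒜 i := by
    intro t
    obtain ⟨i, hi⟩ := Set.mem_iUnion.mp (hT t.2)
    obtain ⟨hi0, hti⟩ := Set.mem_iUnion.mp hi
    exact ⟨i, hi0, hti⟩
  choose d hd0 hd using hex
  refine ⟨T.card, fun j => (T.equivFin.symm j : R), fun j => d (T.equivFin.symm j),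
    fun j => hd0 _, fun j => hd _, ?_⟩
  refine Eq.trans ?_ hspan.symm
  change Submodule.span R _ = Submodule.span R _
  congr 1
  ext x
  simp only [Set.mem_range, Finset.mem_coe]
  constructor
  · rintro ⟨j, rfl⟩
    exact (T.equivFin.symm j).2
  · intro hx
    exact ⟨T.equivFin ⟨x, hx⟩, by rw [Equiv.symm_apply_apply]⟩

open Groth.Agent.Lib.Helper8.Punc in
theorem aux {R σ : Type u} [CommRing R] [IsNoetherianRing R] [SetLike σ R] [AddSubgroupClass σ R]
    (𝒜 : ℕ → σ) [GradedRing 𝒜] {M τ : Type u} [AddCommGroup M] [Module R M] [SetLike τ M] [AddSubgroupClass τ M]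
    (ℳ : ℕ → τ) [SetLike.GradedSMul 𝒜 ℳ] [DirectSum.Decomposition ℳ] :
    Nonempty ((DirectSum ℤ (fun n : ℤ => ((GrMod.tilde 𝒜 ℳ n).val.obj (op ⊤) : Type u)) ⧸
        AddSubgroup.closure (⋃ i : ℕ, Set.range (fun m : ℳ i =>
          DirectSum.of (fun n : ℤ => ((GrMod.tilde 𝒜 ℳ n).val.obj (op ⊤) : Type u)) (i : ℤ)
            (GrMod.alpha 𝒜 ℳ i m)))) ≃+
      LocCoh.H (HomogeneousIdeal.irrelevant 𝒜).toIdeal 1 M) := by
  classical
  obtain ⟨r, fs, ds, hd, hf, hspan⟩ := exists_gens 𝒜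
  have hcov : ∀ x : ProjectiveSpectrum 𝒜, ∃ j, fs j ∉ x.asHomogeneousIdeal := by
    intro x
    by_contra hcon
    push Not at hcon
    apply x.not_irrelevant_le
    change (HomogeneousIdeal.irrelevant 𝒜).toIdeal ≤ x.asHomogeneousIdeal.toIdeal
    rw [← hspan, Ideal.span_le]
    rintro _ ⟨j, rfl⟩
    exact hcon j
  let e : DirectSum ℤ (fun n : ℤ => ((GrMod.tilde 𝒜 ℳ n).val.obj (op ⊤) : Type u)) ≃+ Z fs M :=
    AddEquiv.ofBijective (Φ 𝒜 ℳ hd hf) (Φ_bijective 𝒜 ℳ hd hf hcov)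
  have hmap : (AddSubgroup.closure (⋃ i : ℕ, Set.range (fun m : ℳ i =>
          DirectSum.of (fun n : ℤ => ((GrMod.tilde 𝒜 ℳ n).val.obj (op ⊤) : Type u)) (i : ℤ)
            (GrMod.alpha 𝒜 ℳ i m)))).map (e : _ →+ Z fs M) =
      (LinearMap.range (η fs M)).toAddSubgroup := by
    rw [AddMonoidHom.map_closure]
    apply le_antisymm
    · rw [AddSubgroup.closure_le]
      rintro _ ⟨_, hx, rfl⟩
      obtain ⟨i, hi⟩ := Set.mem_iUnion.mp hx
      obtain ⟨m, rfl⟩ := hi
      exact ⟨(m : M), (Φ_alpha 𝒜 ℳ hd hf i m).symm⟩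
    · rintro _ ⟨m, rfl⟩
      rw [← DirectSum.sum_support_decompose ℳ m, map_sum]
      refine AddSubgroup.sum_mem _ (fun i _ => ?_)
      apply AddSubgroup.subset_closure
      refine ⟨_, Set.mem_iUnion.mpr ⟨i, ⟨DirectSum.decompose ℳ m i, rfl⟩⟩, ?_⟩
      exact Φ_alpha 𝒜 ℳ hd hf i _
  have e1 := QuotientAddGroup.congr _ _ e hmap
  obtain ⟨e2⟩ := nonempty_coker_η_equiv fs M
  rw [hspan] at e2
  exact ⟨e1.trans e2.toAddEquiv⟩

/-- Let R be a Noetherian commutative ring, positively graded by additive subgroups R_d, with irrelevant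
ideal R_+ and X = Proj R, and let M be a graded R-module which is the direct sum of its pieces M_i,
i ≥ 0 (non-negatively graded here). Consider the canonical map from M to the direct sum over all
integers n of the groups of global sections Γ(X, M(n)~), which on M_i is m ↦ m/1. Its cokernel — the
quotient of that direct sum by the subgroup generated by the images of all the M_i — is isomorphic
to the first local cohomology module H^1_{R_+}(M) of M with support in R_+. Together with the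
description of the kernel as H^0_{R_+}(M) this is the four-term exact sequence 0 → H^0_{R_+}(M) → M
→ ⊕_n Γ(X, M(n)~) → H^1_{R_+}(M) → 0. (The published statement's isomorphism is canonical and linear
over R_0; this row asserts only the existence of an additive isomorphism.) -/
theorem result {R σ : Type u} [CommRing R] [IsNoetherianRing R] [SetLike σ R] [AddSubgroupClass σ R]
    (𝒜 : ℕ → σ) [GradedRing 𝒜] {M τ : Type u} [AddCommGroup M] [Module R M] [SetLike τ M] [AddSubgroupClass τ M]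
    (ℳ : ℕ → τ) [SetLike.GradedSMul 𝒜 ℳ] [DirectSum.Decomposition ℳ] :
    Nonempty ((DirectSum ℤ (fun n : ℤ => ((GrMod.tilde 𝒜 ℳ n).val.obj (op ⊤) : Type u)) ⧸
        AddSubgroup.closure (⋃ i : ℕ, Set.range (fun m : ℳ i =>
          DirectSum.of (fun n : ℤ => ((GrMod.tilde 𝒜 ℳ n).val.obj (op ⊤) : Type u)) (i : ℤ)
            (GrMod.alpha 𝒜 ℳ i m)))) ≃+
      LocCoh.H (HomogeneousIdeal.irrelevant 𝒜).toIdeal 1 M) := by
  exact aux 𝒜 ℳ

end Groth.Agent.S15550
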