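import Groth.Statements.S15555
import Mathlib
-- import your own Groth.Agent.* helpers here

set_option autoImplicit false
set_option linter.style.haveILetI false
set_option linter.unusedSectionVars false
universe u
open CategoryTheory AlgebraicGeometry
open Zeta

namespace Groth.Agent.S15555

section testring
variable (k : Type u) [Field k] (q : ℕ)

/-- the modulus -/
noncomputable abbrev fq : Polynomial (DualNumber k) := Polynomial.X ^ (q + 1)
/-- the test ring `k[ε][t]/(t^(q+1))` -/
abbrev BB : Type u := AdjoinRoot (fq k q)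
/-- `ε` -/
noncomputable def ss : BB k q := AdjoinRoot.of (fq k q) DualNumber.eps
/-- `t` -/
noncomputable def tt : BB k q := AdjoinRoot.root (fq k q)

theorem ss_sq : ss k q * ss k q = 0 := by
  rw [ss, ← map_mul, DualNumber.eps_mul_eps, map_zero]

theorem tt_pow : tt k q ^ (q + 1) = 0 := by
  have h := AdjoinRoot.eval₂_root (fq k q)
  rwa [fq, Polynomial.eval₂_pow, Polynomial.eval₂_X] at h

theorem eps_ne_zero : (DualNumber.eps : DualNumber k) ≠ 0 := by
  intro h
  have := congrArg TrivSqZeroExt.snd h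
  simp at this

theorem ss_tt_ne : ss k q * tt k q ^ q ≠ 0 := by
  have h1 : ss k q * tt k q ^ q
      = AdjoinRoot.mk (fq k q) (Polynomial.C DualNumber.eps * Polynomial.X ^ q) := by
    rw [map_mul, map_pow, AdjoinRoot.mk_C, AdjoinRoot.mk_X]
    rfl
  rw [h1, Ne, AdjoinRoot.mk_eq_zero]
  have hq : (fq k q).Monic := Polynomial.monic_X_pow _
  have h0 : (Polynomial.C DualNumber.eps * Polynomial.X ^ q : Polynomial (DualNumber k)) ≠ 0 := by
    intro h0
    have := congrArg (fun f => f.coeff q) h0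
    simp at this
    exact eps_ne_zero k this
  refine hq.not_dvd_of_natDegree_lt h0 ?_
  rw [fq, Polynomial.natDegree_X_pow]
  calc (Polynomial.C DualNumber.eps * Polynomial.X ^ q : Polynomial (DualNumber k)).natDegree
      ≤ q := Polynomial.natDegree_C_mul_X_pow_le _ _
    _ < q + 1 := Nat.lt_succ_self q

/-- the square-zero ideal -/
noncomputable def II : Ideal (BB k q) := Ideal.span {ss k q * tt k q ^ q}

theorem II_mul_ss (h : BB k q) (hh : h ∈ II k q) : h * ss k q = 0 := by
  obtain ⟨a, rfl⟩ := Ideal.mem_span_singleton'.1 hh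
  have : a * (ss k q * tt k q ^ q) * ss k q = a * tt k q ^ q * (ss k q * ss k q) := by ring
  rw [this, ss_sq, mul_zero]

theorem II_mul_tt (h : BB k q) (hh : h ∈ II k q) : h * tt k q = 0 := by
  obtain ⟨a, rfl⟩ := Ideal.mem_span_singleton'.1 hh
  have : a * (ss k q * tt k q ^ q) * tt k q = a * ss k q * tt k q ^ (q + 1) := by ring
  rw [this, tt_pow, mul_zero]

theorem II_mul_II (h h' : BB k q) (hh : h ∈ II k q) (hh' : h' ∈ II k q) : h * h' = 0 := by
  obtain ⟨a, rfl⟩ := Ideal.mem_span_singleton'.1 hh'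
  have : h * (a * (ss k q * tt k q ^ q)) = (h * ss k q) * (a * tt k q ^ q) := by ring
  rw [this, II_mul_ss k q h hh, zero_mul]

theorem II_nilp : IsNilpotent (II k q) := by
  refine ⟨2, ?_⟩
  rw [II, Ideal.span_singleton_pow, pow_two]
  have : ss k q * tt k q ^ q * (ss k q * tt k q ^ q) = (ss k q * ss k q) * (tt k q ^ q * tt k q ^ q) := by
    ring
  rw [this, ss_sq, zero_mul]
  simp

end testring

section pert
variable {B : Type*} [CommRing B]

theorem pert (q : ℕ) (hq : 2 ≤ q) (hadd : ∀ x y : B, (x + y) ^ q = x ^ q + y ^ q)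
    (ξ η h h' : B) (h1 : h * η = 0) (h2 : h' * ξ = 0) (h3 : h * h = 0) (h4 : h' * h' = 0) :
    (ξ + h) * (η + h') ^ q - (η + h') * (ξ + h) ^ q = ξ * η ^ q - η * ξ ^ q := by
  obtain ⟨r, rfl⟩ : ∃ r, q = r + 2 := ⟨q - 2, by omega⟩
  have e1 : h ^ (r + 2) = 0 := by rw [pow_add, pow_two, h3, mul_zero]
  have e2 : h' ^ (r + 2) = 0 := by rw [pow_add, pow_two, h4, mul_zero]
  have e3 : h * η ^ (r + 2) = 0 := by rw [pow_succ', ← mul_assoc, h1, zero_mul]
  have e4 : h' * ξ ^ (r + 2) = 0 := by rw [pow_succ', ← mul_assoc, h2, zero_mul]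
  rw [hadd, hadd, e1, e2, add_zero, add_zero, add_mul, add_mul, e3, e4, add_zero, add_zero]

end pert

section ident
variable {k : Type u} [Field k] [Fintype k] {n : ℕ} {B : Type*} [CommRing B] [Algebra k B]
  [Nontrivial B]

theorem frob_add (x y : B) :
    (x + y) ^ Fintype.card k = x ^ Fintype.card k + y ^ Fintype.card k := by
  obtain ⟨p, hp⟩ := CharP.exists k
  obtain ⟨m, hpr, hm⟩ := FiniteField.card k p
  haveI : Fact p.Prime := ⟨hpr⟩
  haveI : CharP B p := charP_of_injective_algebraMap (algebraMap k B).injective p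
  rw [hm]
  exact add_pow_char_pow x y p m

theorem frob_sum {ι : Type*} (s : Finset ι) (f : ι → B) :
    (∑ i ∈ s, f i) ^ Fintype.card k = ∑ i ∈ s, f i ^ Fintype.card k := by
  obtain ⟨p, hp⟩ := CharP.exists k
  obtain ⟨m, hpr, hm⟩ := FiniteField.card k p
  haveI : Fact p.Prime := ⟨hpr⟩
  haveI : CharP B p := charP_of_injective_algebraMap (algebraMap k B).injective p
  rw [hm]
  exact sum_pow_char_pow _ _ _ _

theorem frob_algebraMap (a : k) :
    (algebraMap k B a) ^ Fintype.card k = algebraMap k B a := by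
  rw [← map_pow, FiniteField.pow_card]

theorem term_identity (a b : k) (ξ η : B) :
    (algebraMap k B (-b) + ξ) * (algebraMap k B a + η) ^ Fintype.card k
      - (algebraMap k B a + η) * (algebraMap k B (-b) + ξ) ^ Fintype.card k
    = (algebraMap k B a * ξ + algebraMap k B b * η)
      - (algebraMap k B a * ξ ^ Fintype.card k + algebraMap k B b * η ^ Fintype.card k)
      + (ξ * η ^ Fintype.card k - η * ξ ^ Fintype.card k) := by
  rw [frob_add, frob_add, frob_algebraMap, frob_algebraMap, map_neg]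
  ring

/-- the rational point `P = (-b, a)` -/
def PP (c : Fin (n + 1) ⊕ Fin (n + 1) → k) : Fin (n + 1) ⊕ Fin (n + 1) → k :=
  Sum.elim (fun i => -c (Sum.inr i)) (fun i => c (Sum.inl i))

/-- evaluation of `F` at a point -/
def Fv (β : Fin (n + 1) ⊕ Fin (n + 1) → B) : B :=
  ∑ i : Fin (n + 1), (β (Sum.inl i) * β (Sum.inr i) ^ Fintype.card k
    - β (Sum.inr i) * β (Sum.inl i) ^ Fintype.card k)

/-- evaluation of `L` at a point -/
def Lv (c : Fin (n + 1) ⊕ Fin (n + 1) → k) (β : Fin (n + 1) ⊕ Fin (n + 1) → B) : B :=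
  ∑ v, algebraMap k B (c v) * β v

theorem Lv_shift (c : Fin (n + 1) ⊕ Fin (n + 1) → k) (β : Fin (n + 1) ⊕ Fin (n + 1) → B) :
    Lv c (fun v => algebraMap k B (PP c v) + β v) = Lv c β := by
  simp only [Lv, mul_add, Finset.sum_add_distrib, Fintype.sum_sum_type, PP, Sum.elim_inl,
    Sum.elim_inr, map_neg]
  have : ∑ x : Fin (n + 1), algebraMap k B (c (Sum.inl x)) * -algebraMap k B (c (Sum.inr x))
      + ∑ x : Fin (n + 1), algebraMap k B (c (Sum.inr x)) * algebraMap k B (c (Sum.inl x)) = 0 := by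
    rw [← Finset.sum_add_distrib]
    exact Finset.sum_eq_zero fun i _ => by ring
  rw [this, zero_add]

theorem Fv_shift (c : Fin (n + 1) ⊕ Fin (n + 1) → k) (β : Fin (n + 1) ⊕ Fin (n + 1) → B) :
    Fv (k := k) (fun v => algebraMap k B (PP c v) + β v)
      = Lv c β - (Lv c β) ^ Fintype.card k + Fv (k := k) β := by
  have h1 : (Lv c β) ^ Fintype.card k
      = ∑ i : Fin (n + 1), (algebraMap k B (c (Sum.inl i)) * β (Sum.inl i) ^ Fintype.card k
        + algebraMap k B (c (Sum.inr i)) * β (Sum.inr i) ^ Fintype.card k) := by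
    rw [Lv, frob_sum, Fintype.sum_sum_type, Finset.sum_add_distrib]
    simp only [mul_pow, frob_algebraMap]
  have h2 : Lv c β = ∑ i : Fin (n + 1), (algebraMap k B (c (Sum.inl i)) * β (Sum.inl i)
        + algebraMap k B (c (Sum.inr i)) * β (Sum.inr i)) := by
    rw [Lv, Fintype.sum_sum_type, Finset.sum_add_distrib]
  rw [h1, h2, Fv, Fv, ← Finset.sum_sub_distrib, ← Finset.sum_add_distrib]
  refine Finset.sum_congr rfl fun i _ => ?_
  simp only [PP, Sum.elim_inl, Sum.elim_inr]
  exact term_identity _ _ _ _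

theorem aeval_F (F : MvPolynomial (Fin (n + 1) ⊕ Fin (n + 1)) k)
    (hF : F = ∑ i : Fin (n + 1), (MvPolynomial.X (Sum.inl i) * MvPolynomial.X (Sum.inr i) ^ Fintype.card k -
      MvPolynomial.X (Sum.inr i) * MvPolynomial.X (Sum.inl i) ^ Fintype.card k))
    (b : Fin (n + 1) ⊕ Fin (n + 1) → B) : MvPolynomial.aeval b F = Fv (k := k) b := by
  rw [hF, Fv, map_sum]
  simp only [map_sub, map_mul, map_pow, MvPolynomial.aeval_X]

theorem aeval_L (c : Fin (n + 1) ⊕ Fin (n + 1) → k) (L : MvPolynomial (Fin (n + 1) ⊕ Fin (n + 1)) k)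
    (hL : L = ∑ v, MvPolynomial.C (c v) * MvPolynomial.X v)
    (b : Fin (n + 1) ⊕ Fin (n + 1) → B) : MvPolynomial.aeval b L = Lv c b := by
  rw [hL, Lv, map_sum]
  simp only [map_mul, MvPolynomial.aeval_X, MvPolynomial.aeval_C]

end ident

section core
variable (k : Type u) [Field k] [Fintype k] (n : ℕ)
variable (c : Fin (n + 1) ⊕ Fin (n + 1) → k) (z : Fin (n + 1) ⊕ Fin (n + 1)) (i₁ : Fin (n + 1))

instance : Nontrivial (BB k (Fintype.card k)) := ⟨⟨_, 0, ss_tt_ne k (Fintype.card k)⟩⟩

/-- correction term -/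
noncomputable def zeta : BB k (Fintype.card k) :=
  algebraMap k (BB k (Fintype.card k)) (-(c z)⁻¹) *
    (algebraMap k (BB k (Fintype.card k)) (c (Sum.inl i₁)) * ss k (Fintype.card k)
      + algebraMap k (BB k (Fintype.card k)) (c (Sum.inr i₁)) * tt k (Fintype.card k))

/-- the tangent direction -/
noncomputable def VV : Fin (n + 1) ⊕ Fin (n + 1) → BB k (Fintype.card k) := fun v =>
  (Pi.single (Sum.inl i₁) (ss k (Fintype.card k)) :
      Fin (n + 1) ⊕ Fin (n + 1) → BB k (Fintype.card k)) v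
    + (Pi.single (Sum.inr i₁) (tt k (Fintype.card k)) :
      Fin (n + 1) ⊕ Fin (n + 1) → BB k (Fintype.card k)) v
    + (Pi.single z (zeta k n c z i₁) : Fin (n + 1) ⊕ Fin (n + 1) → BB k (Fintype.card k)) v

theorem sum_single {B : Type*} [CommRing B] {ι : Type*} [Fintype ι] [DecidableEq ι]
    (f : ι → B) (a : ι) (x : B) : ∑ v, f v * (Pi.single a x : ι → B) v = f a * x := by
  rw [Finset.sum_eq_single a]
  · rw [Pi.single_eq_same]
  · intro b _ hb
    rw [Pi.single_eq_of_ne hb, mul_zero]
  · intro h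
    exact absurd (Finset.mem_univ a) h

theorem Lv_VV (hz : c z ≠ 0) : Lv c (VV k n c z i₁) = 0 := by
  simp only [Lv, VV, mul_add, Finset.sum_add_distrib, sum_single]
  rw [zeta, ← mul_assoc, ← map_mul, mul_neg, mul_inv_cancel₀ hz, map_neg, map_one]
  ring

theorem II_mul_VV (h : BB k (Fintype.card k)) (hh : h ∈ II k (Fintype.card k))
    (v : Fin (n + 1) ⊕ Fin (n + 1)) : h * VV k n c z i₁ v = 0 := by
  have hs := II_mul_ss k _ h hh
  have ht := II_mul_tt k _ h hh
  have hζ : h * zeta k n c z i₁ = 0 := by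
    rw [zeta]
    have : h * (algebraMap k (BB k (Fintype.card k)) (-(c z)⁻¹) *
      (algebraMap k (BB k (Fintype.card k)) (c (Sum.inl i₁)) * ss k (Fintype.card k)
        + algebraMap k (BB k (Fintype.card k)) (c (Sum.inr i₁)) * tt k (Fintype.card k)))
      = algebraMap k (BB k (Fintype.card k)) (-(c z)⁻¹) *
        (algebraMap k (BB k (Fintype.card k)) (c (Sum.inl i₁)) * (h * ss k (Fintype.card k))
        + algebraMap k (BB k (Fintype.card k)) (c (Sum.inr i₁)) * (h * tt k (Fintype.card k))) := by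
      ring
    rw [this, hs, ht, mul_zero, mul_zero, add_zero, mul_zero]
  simp only [VV, Pi.single_apply, mul_add]
  split_ifs <;> simp [hs, ht, hζ]

theorem VV_zero (w : Fin (n + 1) ⊕ Fin (n + 1)) (h1 : w ≠ Sum.inl i₁) (h2 : w ≠ Sum.inr i₁)
    (h3 : w ≠ z) : VV k n c z i₁ w = 0 := by
  simp [VV, Pi.single_apply, h1, h2, h3]

theorem Fv_VV (hz1 : z ≠ Sum.inl i₁) (hz2 : z ≠ Sum.inr i₁) :
    Fv (k := k) (VV k n c z i₁) = ss k (Fintype.card k) * tt k (Fintype.card k) ^ Fintype.card k := by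
  have hq2 : 2 ≤ Fintype.card k := Fintype.one_lt_card
  have hs : ss k (Fintype.card k) ^ Fintype.card k = 0 := by
    obtain ⟨r, hr⟩ : ∃ r, Fintype.card k = r + 2 := ⟨Fintype.card k - 2, by omega⟩
    rw [hr, pow_add, pow_two, ss_sq, mul_zero]
  rw [Fv, Finset.sum_eq_single i₁]
  · have e1 : VV k n c z i₁ (Sum.inl i₁) = ss k (Fintype.card k) := by
      simp [VV, Pi.single_apply, hz1.symm]
    have e2 : VV k n c z i₁ (Sum.inr i₁) = tt k (Fintype.card k) := by
      simp [VV, Pi.single_apply, hz2.symm]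
    rw [e1, e2, hs, mul_zero, sub_zero]
  · intro i _ hi
    have hq0 : Fintype.card k ≠ 0 := by omega
    have e1 : VV k n c z i₁ (Sum.inl i) = if Sum.inl i = z then zeta k n c z i₁ else 0 := by
      simp [VV, Pi.single_apply, hi]
    have e2 : VV k n c z i₁ (Sum.inr i) = if Sum.inr i = z then zeta k n c z i₁ else 0 := by
      simp [VV, Pi.single_apply, hi]
    rw [e1, e2]
    rcases z with j | j
    · simp [hq0]
    · simp [hq0]
  · intro h
    exact absurd (Finset.mem_univ i₁) h

theorem not_formallySmooth (hz : c z ≠ 0) (hz1 : z ≠ Sum.inl i₁) (hz2 : z ≠ Sum.inr i₁)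
    (F L : MvPolynomial (Fin (n + 1) ⊕ Fin (n + 1)) k)
    (hF : F = ∑ i : Fin (n + 1), (MvPolynomial.X (Sum.inl i) * MvPolynomial.X (Sum.inr i) ^ Fintype.card k -
      MvPolynomial.X (Sum.inr i) * MvPolynomial.X (Sum.inl i) ^ Fintype.card k))
    (hL : L = ∑ v, MvPolynomial.C (c v) * MvPolynomial.X v)
    (S : Type u) [CommRing S] [Algebra k S] (x : Fin (n + 1) ⊕ Fin (n + 1) → S)
    (hxF : MvPolynomial.aeval x F = 0) (hxL : MvPolynomial.aeval x L = 0)
    (g : S →ₐ[k] BB k (Fintype.card k) ⧸ II k (Fintype.card k))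
    (hg : ∀ v, g (x v) = Ideal.Quotient.mk _
      (algebraMap k (BB k (Fintype.card k)) (PP c v) + VV k n c z i₁ v)) :
    ¬ Algebra.FormallySmooth k S := by
  intro hS
  have hq2 : 2 ≤ Fintype.card k := Fintype.one_lt_card
  obtain ⟨f, hf⟩ := Algebra.FormallySmooth.exists_lift (II k (Fintype.card k))
    (II_nilp k (Fintype.card k)) g
  have hb : ∀ v, f (x v) - (algebraMap k (BB k (Fintype.card k)) (PP c v) + VV k n c z i₁ v)
      ∈ II k (Fintype.card k) := fun v => by
    rw [← Ideal.Quotient.eq, ← hg v, ← hf]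
    rfl
  set h : Fin (n + 1) ⊕ Fin (n + 1) → BB k (Fintype.card k) :=
    fun v => f (x v) - (algebraMap k (BB k (Fintype.card k)) (PP c v) + VV k n c z i₁ v) with hh
  have hbv : (fun v => f (x v)) = fun v => algebraMap k (BB k (Fintype.card k)) (PP c v)
      + (VV k n c z i₁ v + h v) := by
    funext v
    simp only [hh]
    ring
  have e1 : MvPolynomial.aeval (fun v => f (x v)) F = 0 := by
    rw [← MvPolynomial.comp_aeval_apply, hxF, map_zero]
  have e2 : MvPolynomial.aeval (fun v => f (x v)) L = 0 := by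
    rw [← MvPolynomial.comp_aeval_apply, hxL, map_zero]
  have e3 : MvPolynomial.aeval (fun v => f (x v)) F = Fv (k := k) (fun v => f (x v)) := by
    rw [hF, Fv, map_sum]
    simp only [map_sub, map_mul, map_pow, MvPolynomial.aeval_X]
  have e4 : MvPolynomial.aeval (fun v => f (x v)) L = Lv c (fun v => f (x v)) := by
    rw [hL, Lv, map_sum]
    simp only [map_mul, MvPolynomial.aeval_X, MvPolynomial.aeval_C]
  rw [e3, hbv, Fv_shift] at e1
  rw [e4, hbv, Lv_shift] at e2
  rw [e2, zero_pow (by omega), sub_zero, zero_add] at e1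
  have e5 : Fv (k := k) (fun v => VV k n c z i₁ v + h v) = Fv (k := k) (VV k n c z i₁) := by
    rw [Fv, Fv]
    refine Finset.sum_congr rfl fun i _ => ?_
    refine pert _ hq2 frob_add _ _ _ _ ?_ ?_ ?_ ?_
    · exact II_mul_VV k n c z i₁ _ (hb _) _
    · exact II_mul_VV k n c z i₁ _ (hb _) _
    · exact II_mul_II k _ _ _ (hb _) (hb _)
    · exact II_mul_II k _ _ _ (hb _) (hb _)
  rw [e5, Fv_VV k n c z i₁ hz1 hz2] at e1
  exact ss_tt_ne k _ e1

end core


/-- Let k be a finite field with q elements and n ≥ 1 a natural number; in the 2n + 2 variables X_0, …,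
X_n, Y_0, …, Y_n (indexed by Fin (n+1) ⊕ Fin (n+1), the left summand carrying the X_i) let F = Σ_i
(X_i Y_i^q − Y_i X_i^q), a form of degree q + 1 defining the hypersurface Hyp ⊂ P^{2n+1}_k. Then no
hyperplane of P^{2n+1}_k defined over k meets Hyp transversally: for every linear form L = Σ_v c_v
x_v with a nonzero coefficient vector c over k, the scheme-theoretic intersection Hyp ∩ (L = 0) ⊂
P^{2n+1}_k is not smooth over k. The intersection is presented through the standard open pieces of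
its affine cone: with R = k[X, Y]/(F, L), the piece x_w ≠ 0 of the cone Spec R is (Hyp ∩ (L = 0) ∩
D₊(x_w)) × 𝔾_m, so Hyp ∩ (L = 0) is smooth over k exactly when every localisation R[1/x_w] is a
smooth k-algebra, and the row states that not all of them are. (The published example is stated for
every n ≥ 0; for n = 0 the hypersurface is the set of the q + 1 rational points of P^1_k, it
contains every rational point H, and Hyp ∩ H = H is a reduced point, smooth over k; so this row
takes n ≥ 1, where no rational hyperplane is contained in Hyp and each one is tangent to Hyp at a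
rational point, at which the intersection is singular.) -/
theorem result (k : Type u) [Field k] [Fintype k] (n : ℕ) (hn : 1 ≤ n)
    (F L : MvPolynomial (Fin (n + 1) ⊕ Fin (n + 1)) k)
    (hF : F = ∑ i : Fin (n + 1), (MvPolynomial.X (Sum.inl i) * MvPolynomial.X (Sum.inr i) ^ Fintype.card k -
      MvPolynomial.X (Sum.inr i) * MvPolynomial.X (Sum.inl i) ^ Fintype.card k))
    (c : Fin (n + 1) ⊕ Fin (n + 1) → k) (hc : c ≠ 0)
    (hL : L = ∑ v, MvPolynomial.C (c v) * MvPolynomial.X v) :
    ¬ ∀ w : Fin (n + 1) ⊕ Fin (n + 1),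
      Smooth (Spec.map (CommRingCat.ofHom (algebraMap k
        (Localization.Away (Ideal.Quotient.mk (Ideal.span {F, L}) (MvPolynomial.X w)))))) := by
  intro hall
  obtain ⟨z, hz0⟩ := Function.ne_iff.1 hc
  have hz : c z ≠ 0 := hz0
  haveI : Nontrivial (Fin (n + 1)) := Fin.nontrivial_iff_two_le.2 (by omega)
  obtain ⟨i₁, hz1, hz2⟩ : ∃ i₁ : Fin (n + 1), z ≠ Sum.inl i₁ ∧ z ≠ Sum.inr i₁ := by
    rcases z with j | j
    · obtain ⟨i, hi⟩ := exists_ne j
      exact ⟨i, by simpa using hi.symm, by simp⟩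
    · obtain ⟨i, hi⟩ := exists_ne j
      exact ⟨i, by simp, by simpa using hi.symm⟩
  have hw1 : Sum.swap z ≠ Sum.inl i₁ := by
    rcases z with j | j
    · simp
    · simpa using hz2
  have hw2 : Sum.swap z ≠ Sum.inr i₁ := by
    rcases z with j | j
    · simpa using hz1
    · simp
  have hw3 : Sum.swap z ≠ z := by
    rcases z with j | j <;> simp
  have hPw : PP c (Sum.swap z) ≠ 0 := by
    rcases z with j | j
    · simpa [PP] using hz
    · simpa [PP] using hz
  have hsm := hall (Sum.swap z)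
  rw [HasRingHomProperty.Spec_iff (P := @Smooth), CommRingCat.hom_ofHom,
    RingHom.smooth_algebraMap] at hsm
  have hfs : Algebra.FormallySmooth k (Localization.Away
      (Ideal.Quotient.mk (Ideal.span {F, L}) (MvPolynomial.X (Sum.swap z)))) := hsm.formallySmooth
  -- the point
  set β₀ : Fin (n + 1) ⊕ Fin (n + 1) → BB k (Fintype.card k) :=
    fun v => algebraMap k (BB k (Fintype.card k)) (PP c v) + VV k n c z i₁ v with hβ₀
  have hLβ : MvPolynomial.aeval β₀ L = 0 := by
    rw [aeval_L c L hL, hβ₀, Lv_shift, Lv_VV k n c z i₁ hz]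
  have hFβ : MvPolynomial.aeval β₀ F = ss k (Fintype.card k) * tt k (Fintype.card k) ^ Fintype.card k := by
    have hq2 : 2 ≤ Fintype.card k := Fintype.one_lt_card
    rw [aeval_F F hF, hβ₀, Fv_shift, Lv_VV k n c z i₁ hz, zero_pow (by omega), sub_zero, zero_add,
      Fv_VV k n c z i₁ hz1 hz2]
  let g₀ : MvPolynomial (Fin (n + 1) ⊕ Fin (n + 1)) k →ₐ[k]
      BB k (Fintype.card k) ⧸ II k (Fintype.card k) :=
    (Ideal.Quotient.mkₐ k (II k (Fintype.card k))).comp (MvPolynomial.aeval β₀)
  have hg₀ : ∀ a ∈ Ideal.span {F, L}, g₀ a = 0 := by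
    intro a ha
    induction ha using Submodule.span_induction with
    | mem y hy =>
      rcases hy with rfl | rfl
      · change Ideal.Quotient.mk _ (MvPolynomial.aeval β₀ y) = 0
        rw [hFβ]
        exact Ideal.Quotient.eq_zero_iff_mem.2 (Ideal.subset_span rfl)
      · change Ideal.Quotient.mk _ (MvPolynomial.aeval β₀ y) = 0
        rw [hLβ, map_zero]
    | zero => exact map_zero _
    | add y y' _ _ hy hy' => rw [map_add, hy, hy', add_zero]
    | smul a y _ hy => rw [smul_eq_mul, map_mul, hy, mul_zero]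
  let g₁ : (MvPolynomial (Fin (n + 1) ⊕ Fin (n + 1)) k ⧸ Ideal.span {F, L}) →ₐ[k]
      BB k (Fintype.card k) ⧸ II k (Fintype.card k) :=
    Ideal.Quotient.liftₐ (Ideal.span {F, L}) g₀ hg₀
  have hg₁ : ∀ v, g₁ (Ideal.Quotient.mk (Ideal.span {F, L}) (MvPolynomial.X v))
      = Ideal.Quotient.mk _ (β₀ v) := by
    intro v
    change Ideal.Quotient.mk _ (MvPolynomial.aeval β₀ (MvPolynomial.X v)) = _
    rw [MvPolynomial.aeval_X]
  have hunit : IsUnit (g₁ (Ideal.Quotient.mk (Ideal.span {F, L}) (MvPolynomial.X (Sum.swap z)))) := by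
    rw [hg₁, hβ₀]
    simp only
    rw [VV_zero k n c z i₁ _ hw1 hw2 hw3, add_zero]
    exact (IsUnit.mk0 _ hPw).map ((Ideal.Quotient.mk (II k (Fintype.card k))).comp
      (algebraMap k (BB k (Fintype.card k))))
  let g := IsLocalization.Away.liftAlgHom (S := Localization.Away
      (Ideal.Quotient.mk (Ideal.span {F, L}) (MvPolynomial.X (Sum.swap z))))
    (Ideal.Quotient.mk (Ideal.span {F, L}) (MvPolynomial.X (Sum.swap z))) (f := g₁) hunit
  refine not_formallySmooth k n c z i₁ hz hz1 hz2 F L hF hL _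
    (fun v => algebraMap _ _ (Ideal.Quotient.mk (Ideal.span {F, L}) (MvPolynomial.X v)))
    ?_ ?_ g ?_ hfs
  · have := MvPolynomial.comp_aeval_apply (f := MvPolynomial.X)
      ((IsScalarTower.toAlgHom k (MvPolynomial (Fin (n + 1) ⊕ Fin (n + 1)) k ⧸ Ideal.span {F, L})
        (Localization.Away (Ideal.Quotient.mk (Ideal.span {F, L})
          (MvPolynomial.X (Sum.swap z))))).comp (Ideal.Quotient.mkₐ k (Ideal.span {F, L}))) F
    rw [MvPolynomial.aeval_X_left_apply] at this
    refine Eq.trans this.symm ?_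
    change algebraMap (MvPolynomial (Fin (n + 1) ⊕ Fin (n + 1)) k ⧸ Ideal.span {F, L})
      (Localization.Away (Ideal.Quotient.mk (Ideal.span {F, L}) (MvPolynomial.X (Sum.swap z))))
      (Ideal.Quotient.mk (Ideal.span {F, L}) F) = 0
    have h0 : Ideal.Quotient.mk (Ideal.span {F, L}) F = 0 :=
      Ideal.Quotient.eq_zero_iff_mem.2 (Ideal.subset_span (by simp))
    rw [h0, map_zero]
  · have := MvPolynomial.comp_aeval_apply (f := MvPolynomial.X)
      ((IsScalarTower.toAlgHom k (MvPolynomial (Fin (n + 1) ⊕ Fin (n + 1)) k ⧸ Ideal.span {F, L})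
        (Localization.Away (Ideal.Quotient.mk (Ideal.span {F, L})
          (MvPolynomial.X (Sum.swap z))))).comp (Ideal.Quotient.mkₐ k (Ideal.span {F, L}))) L
    rw [MvPolynomial.aeval_X_left_apply] at this
    refine Eq.trans this.symm ?_
    change algebraMap (MvPolynomial (Fin (n + 1) ⊕ Fin (n + 1)) k ⧸ Ideal.span {F, L})
      (Localization.Away (Ideal.Quotient.mk (Ideal.span {F, L}) (MvPolynomial.X (Sum.swap z))))
      (Ideal.Quotient.mk (Ideal.span {F, L}) L) = 0
    have h0 : Ideal.Quotient.mk (Ideal.span {F, L}) L = 0 :=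
      Ideal.Quotient.eq_zero_iff_mem.2 (Ideal.subset_span (by simp))
    rw [h0, map_zero]
  · intro v
    change IsLocalization.Away.lift _ hunit (algebraMap _ _ _) = _
    rw [IsLocalization.Away.lift_eq]
    exact hg₁ v

end Groth.Agent.S15555
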