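import Groth.Statements.S15560
import Groth.Agent.Lib.Helper23Kron
-- import your own Groth.Agent.* helpers here

set_option autoImplicit false
universe u v w
open KronMod

namespace Groth.Agent.S15560

/-- Let f be a Kronecker module with n arrows over a field K, from a space V of dimension d₋₁ > 0 to a
space W of dimension d₀ > 0. If n·d₋₁ < d₀ or n·d₀ < d₋₁, then f is not semistable; that is, there
are no semistable Kronecker modules of dimension vector (d₋₁, d₀). (The published statement assumes
K algebraically closed of characteristic zero and n ≥ 2; this row allows any field K and any number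
n of arrows.) -/
theorem result (K : Type u) [Field K] (V : Type v) (W : Type w)
    [AddCommGroup V] [Module K V] [FiniteDimensional K V]
    [AddCommGroup W] [Module K W] [FiniteDimensional K W]
    (n : ℕ) (f : Fin n → (V →ₗ[K] W))
    (hV : 0 < Module.finrank K V) (hW : 0 < Module.finrank K W)
    (h : n * Module.finrank K V < Module.finrank K W ∨ n * Module.finrank K W < Module.finrank K V) :
    ¬ KronMod.IsSemistable f := by
  open Groth.Agent.Lib.Helper23 Module in
  intro hf
  rcases h with h | h
  · -- the image of the sum map is too small
    have hr : finrank K (LinearMap.range (sumMap f)) ≤ n * finrank K V := by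
      have := LinearMap.finrank_range_le (sumMap f)
      rwa [finrank_fin_fun_eq] at this
    have hne : LinearMap.range (sumMap f) ≠ ⊤ := by
      intro htop
      rw [htop, finrank_top] at hr
      omega
    have h1 := hf.2 ⊤ (LinearMap.range (sumMap f)) (isSubrep_top_range f)
      (fun h => by
        have : finrank K (⊤ : Submodule K V) = 0 := by rw [h.1]; simp
        rw [finrank_top] at this
        omega)
      (fun h => hne h.2)
    rw [finrank_top, mul_comm] at h1
    have h2 : finrank K W ≤ finrank K (LinearMap.range (sumMap f)) :=
      Nat.le_of_mul_le_mul_left h1 hV
    omega
  · -- the common kernel is too big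
    have hr : finrank K (LinearMap.range (piMap f)) ≤ n * finrank K W := by
      have := Submodule.finrank_le (LinearMap.range (piMap f))
      rwa [finrank_fin_fun_eq] at this
    have hk := LinearMap.finrank_range_add_finrank_ker (piMap f)
    have hpos : 0 < finrank K (LinearMap.ker (piMap f)) := by omega
    have hne : LinearMap.ker (piMap f) ≠ ⊥ := by
      intro hbot
      rw [hbot, finrank_bot] at hpos
      omega
    have h1 := hf.2 (LinearMap.ker (piMap f)) ⊥ (isSubrep_ker_bot f)
      (fun h => hne h.1)
      (fun h => by
        have : finrank K (⊤ : Submodule K W) = 0 := by rw [← h.2]; simp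
        rw [finrank_top] at this
        omega)
    rw [finrank_bot, mul_zero] at h1
    have := Nat.mul_pos hW hpos
    omega

end Groth.Agent.S15560
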