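import Groth.Statements.S15568
import Mathlib

set_option autoImplicit false
universe u
open QuiverStab

namespace Groth.Agent.S15568

/-- Walls and chambers for stability weights of a quiver. Let I be the finite vertex set, d ∈ ℕ^I a
dimension vector, and call two weights θ₁, θ₂ ∈ ℝ^I orthogonal to d numerically equivalent when, for
every d′ ≤ d in ℕ^I, the numbers θ₁·d′ and θ₂·d′ are both positive, both negative or both zero. The
walls are the hyperplanes W(d′) = {θ ⊥ d : θ·d′ = 0} of d^⊥ for d′ ≤ d such that d is not a multiple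
of d′. Then θ₁ and θ₂ are numerically equivalent if and only if there is a set J₁ of such d′ for
which θ₁ and θ₂ lie in the same connected component of the locally closed subset of d^⊥ consisting
of the weights lying on W(d₁) for every d₁ ∈ J₁ and off W(d₂) for every other wall W(d₂). (Only the
quiver's vertex set enters; multiples are taken with natural-number factors.) -/
theorem result
    (I : Type u) [Fintype I] (d : I → ℕ) (θ₁ θ₂ : I → ℝ)
    (h₁ : ∑ i, θ₁ i * (d i : ℝ) = 0) (h₂ : ∑ i, θ₂ i * (d i : ℝ) = 0) :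
    (∀ d' : I → ℕ, d' ≤ d →
        SignType.sign (∑ i, θ₁ i * (d' i : ℝ)) = SignType.sign (∑ i, θ₂ i * (d' i : ℝ))) ↔
    ∃ J₁ : Set (I → ℕ), J₁ ⊆ {d' | d' ≤ d ∧ ¬ ∃ m : ℕ, d = m • d'} ∧
      θ₂ ∈ connectedComponentIn
        {θ : I → ℝ | ∑ i, θ i * (d i : ℝ) = 0 ∧ (∀ d₁ ∈ J₁, ∑ i, θ i * (d₁ i : ℝ) = 0) ∧
          ∀ d₂ : I → ℕ, d₂ ≤ d → (¬ ∃ m : ℕ, d = m • d₂) → d₂ ∉ J₁ →
            ∑ i, θ i * (d₂ i : ℝ) ≠ 0} θ₁ := by
  classical
  have hfc : ∀ d' : I → ℕ, Continuous (fun θ : I → ℝ => ∑ i, θ i * (d' i : ℝ)) := by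
    intro d'
    exact continuous_finset_sum _ (fun i _ => (continuous_apply i).mul continuous_const)
  constructor
  · intro H
    refine ⟨{d' | (d' ≤ d ∧ ¬ ∃ m : ℕ, d = m • d') ∧ ∑ i, θ₁ i * (d' i : ℝ) = 0},
      fun d' h => h.1, ?_⟩
    refine (convex_segment θ₁ θ₂).isPreconnected.subset_connectedComponentIn
      (left_mem_segment ℝ θ₁ θ₂) ?_ (right_mem_segment ℝ θ₁ θ₂)
    rintro θ ⟨a, b, ha, hb, hab, rfl⟩
    have hlin : ∀ d' : I → ℕ, ∑ i, (a • θ₁ + b • θ₂) i * (d' i : ℝ) =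
        a * (∑ i, θ₁ i * (d' i : ℝ)) + b * (∑ i, θ₂ i * (d' i : ℝ)) := by
      intro d'
      rw [Finset.mul_sum, Finset.mul_sum, ← Finset.sum_add_distrib]
      refine Finset.sum_congr rfl (fun i _ => ?_)
      simp only [Pi.add_apply, Pi.smul_apply, smul_eq_mul]
      ring
    refine ⟨?_, ?_, ?_⟩
    · rw [hlin, h₁, h₂]
      ring
    · rintro d₁ ⟨hd₁, h0⟩
      have h0' : ∑ i, θ₂ i * (d₁ i : ℝ) = 0 := by
        have := H d₁ hd₁.1
        rw [h0, sign_zero] at this
        exact sign_eq_zero_iff.mp this.symm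
      rw [hlin, h0, h0']
      ring
    · intro d₂ hd₂ hnm hnot
      have hne : ∑ i, θ₁ i * (d₂ i : ℝ) ≠ 0 := fun h0 => hnot ⟨⟨hd₂, hnm⟩, h0⟩
      have hs := H d₂ hd₂
      rw [hlin]
      rcases lt_or_gt_of_ne hne with hneg | hpos
      · have h2neg : ∑ i, θ₂ i * (d₂ i : ℝ) < 0 := by
          have : SignType.sign (∑ i, θ₂ i * (d₂ i : ℝ)) = -1 := by
            rw [← hs]
            exact sign_neg hneg
          exact sign_eq_neg_one_iff.mp this
        have : a * (∑ i, θ₁ i * (d₂ i : ℝ)) + b * (∑ i, θ₂ i * (d₂ i : ℝ)) < 0 := by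
          rcases eq_or_lt_of_le ha with ha0 | ha0
          · have hb1 : b = 1 := by linarith
            rw [← ha0, hb1]
            linarith
          · have t1 := mul_neg_of_pos_of_neg ha0 hneg
            have t2 := mul_nonpos_of_nonneg_of_nonpos hb h2neg.le
            linarith
        exact this.ne
      · have h2pos : 0 < ∑ i, θ₂ i * (d₂ i : ℝ) := by
          have : SignType.sign (∑ i, θ₂ i * (d₂ i : ℝ)) = 1 := by
            rw [← hs]
            exact sign_pos hpos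
          exact sign_eq_one_iff.mp this
        have : 0 < a * (∑ i, θ₁ i * (d₂ i : ℝ)) + b * (∑ i, θ₂ i * (d₂ i : ℝ)) := by
          rcases eq_or_lt_of_le ha with ha0 | ha0
          · have hb1 : b = 1 := by linarith
            rw [← ha0, hb1]
            linarith
          · have t1 := mul_pos ha0 hpos
            have t2 := mul_nonneg hb h2pos.le
            linarith
        exact this.ne'
  · rintro ⟨J₁, hJ, hmem⟩
    have hC := isPreconnected_connectedComponentIn
      (F := {θ : I → ℝ | ∑ i, θ i * (d i : ℝ) = 0 ∧ (∀ d₁ ∈ J₁, ∑ i, θ i * (d₁ i : ℝ) = 0) ∧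
          ∀ d₂ : I → ℕ, d₂ ≤ d → (¬ ∃ m : ℕ, d = m • d₂) → d₂ ∉ J₁ →
            ∑ i, θ i * (d₂ i : ℝ) ≠ 0}) (x := θ₁)
    have hsub := connectedComponentIn_subset
      {θ : I → ℝ | ∑ i, θ i * (d i : ℝ) = 0 ∧ (∀ d₁ ∈ J₁, ∑ i, θ i * (d₁ i : ℝ) = 0) ∧
          ∀ d₂ : I → ℕ, d₂ ≤ d → (¬ ∃ m : ℕ, d = m • d₂) → d₂ ∉ J₁ →
            ∑ i, θ i * (d₂ i : ℝ) ≠ 0} θ₁
    have hθ₁ : θ₁ ∈ connectedComponentIn
        {θ : I → ℝ | ∑ i, θ i * (d i : ℝ) = 0 ∧ (∀ d₁ ∈ J₁, ∑ i, θ i * (d₁ i : ℝ) = 0) ∧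
          ∀ d₂ : I → ℕ, d₂ ≤ d → (¬ ∃ m : ℕ, d = m • d₂) → d₂ ∉ J₁ →
            ∑ i, θ i * (d₂ i : ℝ) ≠ 0} θ₁ := by
      apply mem_connectedComponentIn
      by_contra hnot
      rw [connectedComponentIn_eq_empty hnot] at hmem
      exact hmem
    intro d' hd'
    by_cases hm : ∃ m : ℕ, d = m • d'
    · obtain ⟨m, hm⟩ := hm
      have key : ∀ θ : I → ℝ, ∑ i, θ i * (d i : ℝ) = 0 → ∑ i, θ i * (d' i : ℝ) = 0 := by
        intro θ h0
        rcases Nat.eq_zero_or_pos m with hm0 | hmpos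
        · have hd0 : ∀ i, d i = 0 := by
            intro i
            rw [hm, hm0, zero_smul]
            rfl
          have hd'0 : ∀ i, d' i = 0 := by
            intro i
            have := hd' i
            rw [hd0 i] at this
            exact Nat.le_zero.mp this
          refine Finset.sum_eq_zero (fun i _ => ?_)
          rw [hd'0 i]
          simp
        · have hdm : ∀ i, (d i : ℝ) = (m : ℝ) * (d' i : ℝ) := by
            intro i
            have : d i = m * d' i := by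
              have := congrFun hm i
              simpa using this
            rw [this]
            push_cast
            ring
          have : ∑ i, θ i * (d i : ℝ) = (m : ℝ) * ∑ i, θ i * (d' i : ℝ) := by
            rw [Finset.mul_sum]
            refine Finset.sum_congr rfl (fun i _ => ?_)
            rw [hdm i]
            ring
          rw [this] at h0
          rcases mul_eq_zero.mp h0 with h | h
          · exact absurd (by exact_mod_cast h : m = 0) hmpos.ne'
          · exact h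
      rw [key θ₁ h₁, key θ₂ h₂]
    · by_cases hJ1 : d' ∈ J₁
      · rw [(hsub hθ₁).2.1 d' hJ1, (hsub hmem).2.1 d' hJ1]
      · have hnz : ∀ θ ∈ connectedComponentIn
            {θ : I → ℝ | ∑ i, θ i * (d i : ℝ) = 0 ∧ (∀ d₁ ∈ J₁, ∑ i, θ i * (d₁ i : ℝ) = 0) ∧
              ∀ d₂ : I → ℕ, d₂ ≤ d → (¬ ∃ m : ℕ, d = m • d₂) → d₂ ∉ J₁ →
                ∑ i, θ i * (d₂ i : ℝ) ≠ 0} θ₁, ∑ i, θ i * (d' i : ℝ) ≠ 0 :=
          fun θ hθ => (hsub hθ).2.2 d' hd' hm hJ1
        have hcont := (hfc d').continuousOn (s := connectedComponentIn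
            {θ : I → ℝ | ∑ i, θ i * (d i : ℝ) = 0 ∧ (∀ d₁ ∈ J₁, ∑ i, θ i * (d₁ i : ℝ) = 0) ∧
              ∀ d₂ : I → ℕ, d₂ ≤ d → (¬ ∃ m : ℕ, d = m • d₂) → d₂ ∉ J₁ →
                ∑ i, θ i * (d₂ i : ℝ) ≠ 0} θ₁)
        have x1 := hnz θ₁ hθ₁
        have x2 := hnz θ₂ hmem
        rcases lt_or_gt_of_ne x1 with a1 | a1 <;> rcases lt_or_gt_of_ne x2 with a2 | a2
        · rw [sign_neg a1, sign_neg a2]
        · exfalso
          obtain ⟨θ, hθ, h0⟩ := hC.intermediate_value hθ₁ hmem hcont ⟨a1.le, a2.le⟩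
          exact hnz θ hθ h0
        · exfalso
          obtain ⟨θ, hθ, h0⟩ := hC.intermediate_value hmem hθ₁ hcont ⟨a2.le, a1.le⟩
          exact hnz θ hθ h0
        · rw [sign_pos a1, sign_pos a2]

end Groth.Agent.S15568
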