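import Groth.Statements.S15573
import Mathlib
-- import your own Groth.Agent.* helpers here

set_option autoImplicit false
universe u v
open RInv

namespace Groth.Agent.S15573

/-- Let `R` be a commutative ring with an involution `lam` and let `S` be its fixed ring. If there is an
element `r` of `R` such that `r - lam r` is a unit, then `R` is a quadratic etale `S`-algebra. -/
theorem result (S : Type u) (R : Type v) [CommRing S] [CommRing R]
    [Algebra S R] (lam : R ≃+* R) (hlam : Function.Involutive lam) (hS : RInv.IsFixedRing S R lam)
    (h : ∃ r : R, IsUnit (r - lam r)) : RInv.IsQuadEtale S R := by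
  classical
  obtain ⟨hinj, hfix⟩ := hS
  obtain ⟨r, hr⟩ := h
  obtain ⟨v, hv⟩ := hr.exists_right_inv
  set u := r - lam r with hu
  have hlamu : lam u = -u := by rw [hu, map_sub, hlam r]; ring
  have hlamv : lam v = -v := by
    have h1 : lam u * lam v = 1 := by rw [← map_mul, hv, map_one]
    rw [hlamu] at h1
    have h2 : u * (-(lam v)) = 1 := by rw [mul_neg, ← neg_mul]; exact h1
    have h3 : -(lam v) = v := by
      calc -(lam v) = (v * u) * (-(lam v)) := by rw [mul_comm v u, hv, one_mul]
        _ = v * (u * (-(lam v))) := by ring
        _ = v := by rw [h2, mul_one]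
    have h4 : lam v = -(-(lam v)) := (neg_neg _).symm
    rw [h4, h3]
  have hlin : ∀ (s : S) (x : R), lam (s • x) = s • lam x := by
    intro s x
    rw [Algebra.smul_def, map_mul, Algebra.smul_def]
    congr 1
    exact (hfix _).mpr ⟨s, rfl⟩
  -- coordinates
  have hcoord : ∀ x : R, ∃ a b : S, x = a • (1 : R) + b • r := by
    intro x
    have hb : lam ((x - lam x) * v) = (x - lam x) * v := by
      rw [map_mul, map_sub, hlam x, hlamv]; ring
    obtain ⟨b, hb'⟩ := (hfix _).mp hb
    have ha : lam (x - (x - lam x) * v * r) = x - (x - lam x) * v * r := by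
      rw [map_sub, map_mul, hb]
      have : (x - lam x) * v * r - (x - lam x) * v * lam r = x - lam x := by
        have : (x - lam x) * v * r - (x - lam x) * v * lam r = (x - lam x) * (u * v) := by
          rw [hu]; ring
        rw [this, hv, mul_one]
      linear_combination this
    obtain ⟨a, ha'⟩ := (hfix _).mp ha
    refine ⟨a, b, ?_⟩
    rw [Algebra.smul_def, Algebra.smul_def, ha', hb']
    ring
  have hli : LinearIndependent S ![(1 : R), r] := by
    rw [LinearIndependent.pair_iff]
    intro s t hst
    have h1 := congrArg lam hst
    rw [map_add, hlin, hlin, map_one, map_zero] at h1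
    have h2 : t • u = 0 := by
      rw [hu, smul_sub]
      have := congrArg₂ (· - ·) hst h1
      simp only [sub_self] at this
      rw [← this]; abel
    have ht : t = 0 := by
      apply hinj
      rw [map_zero]
      have h3 : algebraMap S R t * u = 0 := by rw [← Algebra.smul_def]; exact h2
      calc algebraMap S R t = algebraMap S R t * (u * v) := by rw [hv, mul_one]
        _ = (algebraMap S R t * u) * v := by ring
        _ = 0 := by rw [h3, zero_mul]
    subst ht
    rw [zero_smul, add_zero] at hst
    refine ⟨?_, rfl⟩
    apply hinj
    rw [map_zero, ← mul_one (algebraMap S R s), ← Algebra.smul_def]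
    exact hst
  have hsp : ⊤ ≤ Submodule.span S (Set.range ![(1 : R), r]) := by
    intro x _
    obtain ⟨a, b, rfl⟩ := hcoord x
    rw [Submodule.mem_span_range_iff_exists_fun]
    exact ⟨![a, b], by simp [Fin.sum_univ_two]⟩
  let bas : Module.Basis (Fin 2) S R := Module.Basis.mk hli hsp
  have hfree : Module.Free S R := Module.Free.of_basis bas
  have hfin : Module.Finite S R := Module.Finite.of_basis bas
  refine ⟨hfin, inferInstance, ?_, ?_⟩
  · -- formally unramified: the module of differentials vanishes
    constructor
    have hD0 : ∀ s : S, KaehlerDifferential.D S R (algebraMap S R s) = 0 := fun s =>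
      (KaehlerDifferential.D S R).map_algebraMap s
    -- trace and norm come from `S`
    obtain ⟨t, ht⟩ := (hfix (r + lam r)).mp (by rw [map_add, hlam r, add_comm])
    obtain ⟨n, hn⟩ := (hfix (r * lam r)).mp (by rw [map_mul, hlam r, mul_comm])
    have hquad : r * r = algebraMap S R t * r - algebraMap S R n := by
      rw [ht, hn]; ring
    have hDr : KaehlerDifferential.D S R r = 0 := by
      have h1 := congrArg (KaehlerDifferential.D S R) hquad
      rw [Derivation.leibniz, map_sub, Derivation.leibniz, hD0, hD0, smul_zero, add_zero,
        sub_zero] at h1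
      have h2 : u • KaehlerDifferential.D S R r = 0 := by
        have : u = r + r - algebraMap S R t := by rw [ht, hu]; ring
        rw [this, sub_smul, add_smul, h1, sub_self]
      calc KaehlerDifferential.D S R r = (v * u) • KaehlerDifferential.D S R r := by
            rw [mul_comm v u, hv, one_smul]
        _ = v • (u • KaehlerDifferential.D S R r) := by rw [mul_smul]
        _ = 0 := by rw [h2, smul_zero]
    have hDall : ∀ x : R, KaehlerDifferential.D S R x = 0 := by
      intro x
      obtain ⟨a, b, rfl⟩ := hcoord x
      rw [map_add, Derivation.map_smul, Derivation.map_smul, hDr, smul_zero, add_zero,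
        Derivation.map_one_eq_zero, smul_zero]
    have htop : (⊤ : Submodule R (Ω[R⁄S])) = ⊥ := by
      rw [← KaehlerDifferential.span_range_derivation, Submodule.span_eq_bot]
      rintro _ ⟨x, rfl⟩
      exact hDall x
    refine ⟨fun x y => ?_⟩
    have hx : x ∈ (⊤ : Submodule R (Ω[R⁄S])) := trivial
    have hy : y ∈ (⊤ : Submodule R (Ω[R⁄S])) := trivial
    rw [htop, Submodule.mem_bot] at hx hy
    rw [hx, hy]
  · intro p
    rw [Module.rankAtStalk_eq_finrank_of_free]
    have : Nontrivial S := ⟨⟨0, 1, fun h01 => p.isPrime.ne_top (by
      rw [Ideal.eq_top_iff_one]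
      have : (1 : S) = 0 := h01.symm
      rw [this]; exact Ideal.zero_mem _)⟩⟩
    simp only [Pi.natCast_def, Nat.cast_id]
    rw [Module.finrank_eq_card_basis bas]
    simp

end Groth.Agent.S15573
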