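import Groth.Statements.S15575
import Mathlib
import Groth.Agent.Lib.Helper15QuadEtale
import Groth.Agent.S15573
import Groth.Agent.S15586
-- import your own Groth.Agent.* helpers here

set_option autoImplicit false
universe u v
open scoped TensorProduct
open RInv

namespace Groth.Agent.S15575.Aux

set_option autoImplicit false

namespace QE6
universe w
open Groth.Agent.Lib.Helper15.QuadEtale
open scoped TensorProduct

section
variable {S : Type u} {R : Type v} [CommRing S] [CommRing R] [Algebra S R]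
  (lam : R ≃+* R) (hlam : Function.Involutive lam) (hS : RInv.IsFixedRing S R lam)

/-- the involution as an algebra automorphism. -/
noncomputable def lamA : R ≃ₐ[S] R :=
  AlgEquiv.ofRingEquiv (f := lam) (fun s => lam_algebraMap lam hS s)

theorem lamA_apply (r : R) : lamA lam hS r = lam r := rfl

variable (T : Type w) [CommRing T] [Algebra S T]

/-- the base-changed involution. -/
noncomputable def lamT : (T ⊗[S] R) ≃+* (T ⊗[S] R) :=
  (Algebra.TensorProduct.congr (AlgEquiv.refl : T ≃ₐ[S] T) (lamA lam hS)).toRingEquiv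

theorem lamT_tmul (a : T) (r : R) : lamT lam hS T (a ⊗ₜ r) = a ⊗ₜ lam r := rfl

include hlam in
theorem lamT_involutive : Function.Involutive (lamT lam hS T) := by
  intro y
  induction y using TensorProduct.induction_on with
  | zero => simp
  | tmul a r => rw [lamT_tmul, lamT_tmul, hlam r]
  | add y z hy hz => rw [map_add, map_add, hy, hz]

include hlam in
theorem lamT_fixed [Module.Flat S T] : RInv.IsFixedRing T (T ⊗[S] R) (lamT lam hS T) :=
  Groth.Agent.S15586.result S R T (lamA lam hS) (fun r => hlam r) hS (Or.inl inferInstance)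

theorem lamT_smul (s : S) (y : T ⊗[S] R) : lamT lam hS T (s • y) = s • lamT lam hS T y := by
  induction y using TensorProduct.induction_on with
  | zero => simp
  | tmul a r => rw [TensorProduct.smul_tmul', lamT_tmul, lamT_tmul, TensorProduct.smul_tmul']
  | add y z hy hz => rw [smul_add, map_add, map_add, hy, hz, smul_add]

end

theorem main (S : Type u) (R : Type v) [CommRing S] [CommRing R]
    [Algebra S R] (lam : R ≃+* R) (hlam : Function.Involutive lam) (hS : RInv.IsFixedRing S R lam)
    (p : PrimeSpectrum S)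
    (hp : RInv.IsQuadEtale (Localization.AtPrime p.asIdeal) (Localization.AtPrime p.asIdeal ⊗[S] R)) :
    ∃ s : S, s ∉ p.asIdeal ∧
      RInv.IsQuadEtale (Localization.Away s) (Localization.Away s ⊗[S] R) := by
  set Sp := Localization.AtPrime p.asIdeal with hSp
  -- step 1-2
  obtain ⟨ρ, hρ⟩ := isUnit_sub_lam (lamT lam hS Sp) (lamT_involutive lam hlam hS Sp)
    (lamT_fixed lam hlam hS Sp) hp
  obtain ⟨v, hv⟩ := hρ.exists_right_inv
  -- step 3
  haveI : IsLocalizedModule p.asIdeal.primeCompl (TensorProduct.mk S Sp R 1) :=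
    (isLocalizedModule_iff_isBaseChange p.asIdeal.primeCompl Sp _).mpr
      (TensorProduct.isBaseChange S R Sp)
  obtain ⟨⟨r1, s1⟩, h1⟩ := IsLocalizedModule.surj p.asIdeal.primeCompl
    (TensorProduct.mk S Sp R 1) ρ
  obtain ⟨⟨r2, s2⟩, h2⟩ := IsLocalizedModule.surj p.asIdeal.primeCompl
    (TensorProduct.mk S Sp R 1) v
  simp only [TensorProduct.mk_apply] at h1 h2
  have h1' : (s1 : S) • ρ = (1 : Sp) ⊗ₜ[S] r1 := h1
  have h2' : (s2 : S) • v = (1 : Sp) ⊗ₜ[S] r2 := h2
  have hprod : (TensorProduct.mk S Sp R 1) ((r1 - lam r1) * r2)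
      = (TensorProduct.mk S Sp R 1) (((s1 : S) * (s2 : S)) • (1 : R)) := by
    simp only [TensorProduct.mk_apply]
    have e1 : (1 : Sp) ⊗ₜ[S] ((r1 - lam r1) * r2)
        = ((1 : Sp) ⊗ₜ[S] r1 - lamT lam hS Sp ((1 : Sp) ⊗ₜ[S] r1)) * ((1 : Sp) ⊗ₜ[S] r2) := by
      rw [lamT_tmul, ← TensorProduct.tmul_sub, Algebra.TensorProduct.tmul_mul_tmul, one_mul]
    have hR : (1 : Sp) ⊗ₜ[S] (((s1 : S) * (s2 : S)) • (1 : R))
        = algebraMap S (Sp ⊗[S] R) ((s1 : S) * (s2 : S)) := by
      rw [TensorProduct.tmul_smul, Algebra.algebraMap_eq_smul_one, Algebra.TensorProduct.one_def]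
    rw [e1, ← h1', ← h2', lamT_smul, hR, map_mul]
    simp only [Algebra.smul_def]
    linear_combination (algebraMap S (Sp ⊗[S] R) (s1 : S) * algebraMap S (Sp ⊗[S] R) (s2 : S)) * hv
  obtain ⟨s3, h3⟩ := IsLocalizedModule.exists_of_eq (S := p.asIdeal.primeCompl) hprod
  -- step 4
  set s : S := (s3 : S) * ((s1 : S) * (s2 : S)) with hs
  have hsp : s ∉ p.asIdeal := by
    have : s ∈ p.asIdeal.primeCompl := mul_mem s3.2 (mul_mem s1.2 s2.2)
    exact this
  refine ⟨s, hsp, ?_⟩
  set T := Localization.Away s with hT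
  apply Groth.Agent.S15573.result T (T ⊗[S] R) (lamT lam hS T) (lamT_involutive lam hlam hS T)
    (lamT_fixed lam hlam hS T)
  refine ⟨(1 : T) ⊗ₜ[S] r1, ?_⟩
  rw [lamT_tmul, ← TensorProduct.tmul_sub]
  -- z := 1 ⊗ ((r1 - lam r1) r2)
  have hz : algebraMap S (T ⊗[S] R) (s3 : S) * ((1 : T) ⊗ₜ[S] ((r1 - lam r1) * r2))
      = algebraMap S (T ⊗[S] R) s := by
    have h3' : (s3 : S) • ((r1 - lam r1) * r2) = (s3 : S) • (((s1 : S) * (s2 : S)) • (1 : R)) := h3
    rw [← Algebra.smul_def, ← TensorProduct.tmul_smul, h3', smul_smul, ← hs,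
      TensorProduct.tmul_smul, Algebra.algebraMap_eq_smul_one, Algebra.TensorProduct.one_def]
  have hsu : IsUnit (algebraMap S (T ⊗[S] R) s) := by
    rw [IsScalarTower.algebraMap_apply S T (T ⊗[S] R)]
    exact (IsLocalization.Away.algebraMap_isUnit s).map _
  rw [← hz] at hsu
  have hzu : IsUnit ((1 : T) ⊗ₜ[S] ((r1 - lam r1) * r2)) := isUnit_of_mul_isUnit_right hsu
  have : (1 : T) ⊗ₜ[S] ((r1 - lam r1) * r2)
      = ((1 : T) ⊗ₜ[S] (r1 - lam r1)) * ((1 : T) ⊗ₜ[S] r2) := by
    rw [Algebra.TensorProduct.tmul_mul_tmul, one_mul]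
  rw [this] at hzu
  exact isUnit_of_mul_isUnit_left hzu

end QE6

end Groth.Agent.S15575.Aux

namespace Groth.Agent.S15575

/-- Let `R` be a commutative ring with an involution `lam` and fixed ring `S` (no finiteness assumed).
If the localisation of `R` at a prime `p` of `S` is quadratic etale over `S_p`, then there is `s ∉
p` with `R[1/s]` quadratic etale over `S[1/s]`; in particular the set of such primes is open in
`Spec S`. Localisations of `R` are written as base changes `S_p ⊗ R` and `S_s ⊗ R`. -/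
theorem result (S : Type u) (R : Type v) [CommRing S] [CommRing R]
    [Algebra S R] (lam : R ≃+* R) (hlam : Function.Involutive lam) (hS : RInv.IsFixedRing S R lam)
    (p : PrimeSpectrum S)
    (hp : RInv.IsQuadEtale (Localization.AtPrime p.asIdeal) (Localization.AtPrime p.asIdeal ⊗[S] R)) :
    ∃ s : S, s ∉ p.asIdeal ∧
      RInv.IsQuadEtale (Localization.Away s) (Localization.Away s ⊗[S] R) := by
  exact Aux.QE6.main S R lam hlam hS p hp

end Groth.Agent.S15575
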