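import Groth.Statements.S15576
import Mathlib
import Groth.Agent.Lib.Helper15QuadEtale
import Groth.Agent.S15573
-- import your own Groth.Agent.* helpers here

set_option autoImplicit false
universe u v
open RInv

namespace Groth.Agent.S15576.Aux

set_option autoImplicit false

namespace QE2
open Groth.Agent.Lib.Helper15.QuadEtale

theorem main (S : Type u) (R : Type v) [CommRing S] [CommRing R]
    [Algebra S R] (lam : R ≃+* R) (hlam : Function.Involutive lam) (hS : RInv.IsFixedRing S R lam)
    [IsLocalRing S] (h : ∃ r : R, lam r - r ∉ Ring.jacobson R) : RInv.IsQuadEtale S R := by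
  obtain ⟨r, hr⟩ := h
  apply Groth.Agent.S15573.result S R lam hlam hS
  refine ⟨lam r, ?_⟩
  rw [hlam r]
  have hanti : lam (lam r - r) = -(lam r - r) := by
    rw [map_sub, hlam r]; ring
  rw [← Ideal.jacobson_bot, Ideal.jacobson, Submodule.mem_sInf] at hr
  push Not at hr
  obtain ⟨M, ⟨-, hM⟩, hrM⟩ := hr
  haveI := hM
  exact isUnit_of_anti_of_notMem lam hlam hS _ hanti M hrM

end QE2

end Groth.Agent.S15576.Aux

namespace Groth.Agent.S15576

/-- Let `R` be a commutative ring with an involution `lam` whose fixed ring `S` is local. If the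
automorphism induced by `lam` on `R` modulo its Jacobson radical is not the identity, then `R` is a
quadratic etale `S`-algebra. -/
theorem result (S : Type u) (R : Type v) [CommRing S] [CommRing R]
    [Algebra S R] (lam : R ≃+* R) (hlam : Function.Involutive lam) (hS : RInv.IsFixedRing S R lam)
    [IsLocalRing S] (h : ∃ r : R, lam r - r ∉ Ring.jacobson R) : RInv.IsQuadEtale S R := by
  exact Aux.QE2.main S R lam hlam hS h

end Groth.Agent.S15576
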