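import Groth.Statements.S15577
import Mathlib
import Groth.Agent.Lib.Helper15QuadEtale
-- import your own Groth.Agent.* helpers here

set_option autoImplicit false
universe u v
open RInv

namespace Groth.Agent.S15577.Aux

set_option autoImplicit false

namespace QE3
open Groth.Agent.Lib.Helper15.QuadEtale

theorem main (S : Type u) (R : Type v) [CommRing S] [CommRing R]
    [Algebra S R] (lam : R ≃+* R) (hlam : Function.Involutive lam) (hS : RInv.IsFixedRing S R lam)
    [IsLocalRing S] (h : ∀ r : R, lam r - r ∈ Ring.jacobson R) :
    IsLocalRing R ∧ ¬ RInv.IsQuadEtale S R := by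
  haveI : Nontrivial R := hS.1.nontrivial
  have hjac : ∀ (M : Ideal R), M.IsMaximal → Ring.jacobson R ≤ M := by
    intro M hM
    rw [← Ideal.jacobson_bot]
    exact sInf_le ⟨bot_le, hM⟩
  constructor
  · obtain ⟨M, hM⟩ := Ideal.exists_maximal R
    apply IsLocalRing.of_unique_max_ideal
    refine ⟨M, hM, ?_⟩
    intro N hN
    haveI := hM
    haveI := hN
    rcases maximal_orbit lam hlam hS M N with h1 | h1
    · exact h1
    · rw [h1]
      ext r
      rw [Ideal.mem_comap]
      have hmem : lam r - r ∈ M := hjac M hM (h r)
      constructor
      · intro hl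
        have : r = lam r - (lam r - r) := by ring
        rw [this]
        exact sub_mem hl hmem
      · intro hr
        have : (lam : R →+* R) r = (lam r - r) + r := by
          show lam r = _
          ring
        rw [this]
        exact add_mem hmem hr
  · intro hq
    obtain ⟨r, hr⟩ := isUnit_sub_lam lam hlam hS hq
    obtain ⟨M, hM⟩ := Ideal.exists_maximal R
    have hmem : lam r - r ∈ M := hjac M hM (h r)
    have : r - lam r ∈ M := by
      have : r - lam r = -(lam r - r) := by ring
      rw [this]
      exact M.neg_mem hmem
    exact hM.ne_top (Ideal.eq_top_of_isUnit_mem _ this hr)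

end QE3

end Groth.Agent.S15577.Aux

namespace Groth.Agent.S15577

/-- Let `R` be a commutative ring with an involution `lam` whose fixed ring `S` is local. If `lam`
induces the identity on `R` modulo its Jacobson radical, then `R` is a local ring and is not a
quadratic etale `S`-algebra. -/
theorem result (S : Type u) (R : Type v) [CommRing S] [CommRing R]
    [Algebra S R] (lam : R ≃+* R) (hlam : Function.Involutive lam) (hS : RInv.IsFixedRing S R lam)
    [IsLocalRing S] (h : ∀ r : R, lam r - r ∈ Ring.jacobson R) :
    IsLocalRing R ∧ ¬ RInv.IsQuadEtale S R := by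
  exact Aux.QE3.main S R lam hlam hS h

end Groth.Agent.S15577
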