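import Groth.Statements.S15580
import Mathlib
import Groth.Agent.Lib.Helper15QuadEtale
-- import your own Groth.Agent.* helpers here

set_option autoImplicit false
universe u v
open RInv

namespace Groth.Agent.S15580.Aux

set_option autoImplicit false

namespace QE5
open Groth.Agent.Lib.Helper15.QuadEtale

theorem main (S : Type u) (R : Type v) [CommRing S] [CommRing R]
    [Algebra S R] (lam : R ≃+* R) (hlam : Function.Involutive lam) (hS : RInv.IsFixedRing S R lam)
    [IsLocalRing S] (hq : RInv.IsQuadEtale S R) (r : Rˣ) (hr : lam r * r = 1) :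
    ∃ a : Rˣ, (r : R) = (a⁻¹ : Rˣ) * lam a := by
  obtain ⟨x, hx⟩ := isUnit_sub_lam lam hlam hS hq
  set u := x - lam x with hu
  have hlr : lam (r : R) = (↑r⁻¹ : R) := by
    calc lam (r : R) = lam r * (r * ↑r⁻¹) := by rw [Units.mul_inv, mul_one]
      _ = (lam r * r) * ↑r⁻¹ := by ring
      _ = ↑r⁻¹ := by rw [hr, one_mul]
  have hlri : lam (↑r⁻¹ : R) = (r : R) := by rw [← hlr, hlam]
  -- the Hilbert 90 candidate
  let A : R → R := fun c => c + lam c * ↑r⁻¹
  have hA : ∀ c, lam (A c) = r * A c := by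
    intro c
    show lam (c + lam c * ↑r⁻¹) = r * (c + lam c * ↑r⁻¹)
    rw [map_add, map_mul, hlam c, hlri, mul_add, ← mul_assoc, mul_comm (r : R) (lam c),
      mul_assoc, Units.mul_inv, mul_one]
    ring
  have hAadd : ∀ c d, A (c + d) = A c + A d := by
    intro c d
    show (c + d) + lam (c + d) * ↑r⁻¹ = (c + lam c * ↑r⁻¹) + (d + lam d * ↑r⁻¹)
    rw [map_add]; ring
  suffices h : ∃ c, IsUnit (A c) by
    obtain ⟨c, hc⟩ := h
    refine ⟨hc.unit, ?_⟩
    have h1 : lam (hc.unit : R) = r * (hc.unit : R) := hA c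
    rw [h1, mul_comm (r : R), ← mul_assoc, Units.inv_mul, one_mul]
  have h21 : A x - x * A 1 = -(u * ↑r⁻¹) := by
    show (x + lam x * ↑r⁻¹) - x * (1 + lam 1 * ↑r⁻¹) = -((x - lam x) * ↑r⁻¹)
    rw [map_one]; ring
  have hur : IsUnit (-(u * (↑r⁻¹ : R))) := (hx.mul (r⁻¹).isUnit).neg
  by_cases h1 : IsUnit (A 1)
  · exact ⟨1, h1⟩
  obtain ⟨M, hM, h1M⟩ := exists_max_ideal_of_mem_nonunits h1
  haveI := hM
  have hM' : (M.comap (lam : R →+* R)).IsMaximal :=
    Ideal.comap_isMaximal_of_surjective _ lam.surjective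
  have key : ∀ y : R, y ∉ M → y ∉ M.comap (lam : R →+* R) → IsUnit y := by
    intro y hy1 hy2
    by_contra hnu
    obtain ⟨N, hN, hyN⟩ := exists_max_ideal_of_mem_nonunits hnu
    haveI := hN
    rcases maximal_orbit lam hlam hS M N with h | h
    · exact hy1 (h ▸ hyN)
    · exact hy2 (h ▸ hyN)
  have h2M : A x ∉ M := by
    intro h
    have : -(u * (↑r⁻¹ : R)) ∈ M := by
      rw [← h21]
      exact sub_mem h (Ideal.mul_mem_left _ _ h1M)
    exact hM.ne_top (Ideal.eq_top_of_isUnit_mem _ this hur)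
  by_cases h2 : A x ∈ M.comap (lam : R →+* R)
  · have h1M' : A 1 ∉ M.comap (lam : R →+* R) := by
      intro h
      have : -(u * (↑r⁻¹ : R)) ∈ M.comap (lam : R →+* R) := by
        rw [← h21]
        exact sub_mem h2 (Ideal.mul_mem_left _ _ h)
      exact hM'.ne_top (Ideal.eq_top_of_isUnit_mem _ this hur)
    refine ⟨1 + x, ?_⟩
    rw [hAadd]
    apply key
    · intro h
      apply h2M
      have : A x = (A 1 + A x) - A 1 := by ring
      rw [this]
      exact sub_mem h h1M
    · intro h
      apply h1M'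
      have : A 1 = (A 1 + A x) - A x := by ring
      rw [this]
      exact sub_mem h h2
  · exact ⟨x, key _ h2M h2⟩

end QE5

end Groth.Agent.S15580.Aux

namespace Groth.Agent.S15580

/-- Let `S` be a local ring, `R` a quadratic etale `S`-algebra and `lam` an involution of `R` with fixed
ring `S`. Then every unit `r` of `R` with `lam r * r = 1` can be written `a⁻¹ * lam a` for a unit
`a` of `R`. -/
theorem result (S : Type u) (R : Type v) [CommRing S] [CommRing R]
    [Algebra S R] (lam : R ≃+* R) (hlam : Function.Involutive lam) (hS : RInv.IsFixedRing S R lam)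
    [IsLocalRing S] (hq : RInv.IsQuadEtale S R) (r : Rˣ) (hr : lam r * r = 1) :
    ∃ a : Rˣ, (r : R) = (a⁻¹ : Rˣ) * lam a := by
  exact Aux.QE5.main S R lam hlam hS hq r hr

end Groth.Agent.S15580
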