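import Groth.Statements.S15581
import Mathlib
-- import your own Groth.Agent.* helpers here

set_option autoImplicit false
universe u v
open RInv

namespace Groth.Agent.S15581

/-- Let `A` be a commutative ring with an involution `lam` whose fixed ring `B` is local with `2`
invertible. Then `Jac(A)^2 ⊆ Jac(B) A`. -/
theorem result (B : Type u) (A : Type v) [CommRing B]
    [CommRing A] [Algebra B A] (lam : A ≃+* A) (hlam : Function.Involutive lam)
    (hB : RInv.IsFixedRing B A lam) [IsLocalRing B] (h2 : IsUnit (2 : B)) :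
    (Ring.jacobson A) ^ 2 ≤ (IsLocalRing.maximalIdeal B).map (algebraMap B A) := by
  obtain ⟨hinj, hfix⟩ := hB
  have hnt : Nontrivial A := hinj.nontrivial
  set J := Ring.jacobson A with hJ
  set mA := (IsLocalRing.maximalIdeal B).map (algebraMap B A) with hmA
  have hmemJ : ∀ x : A, x ∈ J ↔ ∀ y, IsUnit (x * y + 1) := by
    intro x
    rw [hJ, ← Ideal.jacobson_bot]
    exact Ideal.mem_jacobson_bot
  -- the involution preserves the radical
  have hlamJ : ∀ x ∈ J, lam x ∈ J := by
    intro x hx
    rw [hmemJ] at hx ⊢
    intro y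
    have h1 := hx (lam y)
    have h2 : lam (x * lam y + 1) = lam x * y + 1 := by
      rw [map_add, map_mul, map_one, hlam y]
    rw [← h2]
    exact h1.map lam
  -- fixed elements of the radical come from the maximal ideal
  have hfixJ : ∀ x ∈ J, lam x = x → x ∈ mA := by
    intro x hx hfx
    obtain ⟨b, rfl⟩ := (hfix x).mp hfx
    have hb : b ∈ IsLocalRing.maximalIdeal B := by
      by_contra hnot
      have hbu : IsUnit b := by
        have := (IsLocalRing.mem_maximalIdeal b).not.mp hnot
        simpa [mem_nonunits_iff] using this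
      have hu : IsUnit (algebraMap B A b) := hbu.map (algebraMap B A)
      obtain ⟨c, hc⟩ := hu.exists_right_inv
      have h1 := (hmemJ _).mp hx (-c)
      rw [mul_neg, hc, neg_add_cancel] at h1
      exact not_isUnit_zero h1
    exact Ideal.mem_map_of_mem _ hb
  -- one half
  obtain ⟨t, ht⟩ := h2.exists_right_inv
  set η : A := algebraMap B A t with hη
  have hη2 : 2 * η = 1 := by
    rw [hη, ← map_ofNat (algebraMap B A) 2, ← map_mul, ht, map_one]
  have hlamη : lam η = η := (hfix η).mpr ⟨t, rfl⟩
  rw [pow_two, Ideal.mul_le]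
  intro x hx y hy
  have hxp : η * (x + lam x) ∈ mA := by
    apply hfixJ
    · exact Ideal.mul_mem_left _ _ (Ideal.add_mem _ hx (hlamJ x hx))
    · rw [map_mul, map_add, hlam x, hlamη, add_comm]
  have hyp : η * (y + lam y) ∈ mA := by
    apply hfixJ
    · exact Ideal.mul_mem_left _ _ (Ideal.add_mem _ hy (hlamJ y hy))
    · rw [map_mul, map_add, hlam y, hlamη, add_comm]
  have hmm : (η * (x - lam x)) * (η * (y - lam y)) ∈ mA := by
    apply hfixJ
    · exact Ideal.mul_mem_right _ _
        (Ideal.mul_mem_left _ _ (Ideal.sub_mem _ hx (hlamJ x hx)))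
    · simp only [map_mul, map_sub, hlam x, hlam y, hlamη]
      ring
  have hx_eq : x = η * (x + lam x) + η * (x - lam x) := by
    have : η * (x + lam x) + η * (x - lam x) = (2 * η) * x := by ring
    rw [this, hη2, one_mul]
  have hy_eq : y = η * (y + lam y) + η * (y - lam y) := by
    have : η * (y + lam y) + η * (y - lam y) = (2 * η) * y := by ring
    rw [this, hη2, one_mul]
  have key : x * y = (η * (x + lam x)) * y + (η * (x - lam x)) * (η * (y + lam y))
      + (η * (x - lam x)) * (η * (y - lam y)) := by
    have e1 : (η * (x + lam x)) * y + (η * (x - lam x)) * (η * (y + lam y))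
      + (η * (x - lam x)) * (η * (y - lam y))
      = (η * (x + lam x)) * y + (η * (x - lam x)) * (η * (y + lam y) + η * (y - lam y)) := by ring
    rw [e1, ← hy_eq, ← add_mul, ← hx_eq]
  rw [key]
  exact Ideal.add_mem _ (Ideal.add_mem _ (Ideal.mul_mem_right _ _ hxp)
    (Ideal.mul_mem_left _ _ hyp)) hmm

end Groth.Agent.S15581
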