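import Groth.Statements.S15582
import Mathlib
-- import your own Groth.Agent.* helpers here

set_option autoImplicit false
set_option linter.style.haveILetI false
set_option linter.unusedSectionVars false
universe u
open CategoryTheory TopologicalSpace
open CohTop

namespace Groth.Agent.S15582
open CategoryTheory.Limits Opposite

lemma locSurj_iff {Y : TopCat.{u}} {A B : Y.Sheaf (Type u)} (g : A ⟶ B) :
    Epi g ↔ ∀ (V : Opens Y) (t : B.obj.obj (op V)) (x : Y), x ∈ V →
      ∃ (V' : Opens Y) (h : V' ≤ V), (∃ s : A.obj.obj (op V'),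
        g.hom.app (op V') s = B.obj.map (homOfLE h).op t) ∧ x ∈ V' := by
  have h1 : TopCat.Presheaf.IsLocallySurjective g.hom ↔ Epi g :=
    TopCat.Sheaf.isLocallySurjective_iff_epi (F := A) (G := B) g
  exact h1.symm.trans (TopCat.Presheaf.isLocallySurjective_iff g.hom)

lemma subsingleton_of_eq_bot {Y : TopCat.{u}} (G : Y.Sheaf (Type u)) {W : Opens Y} (h : W = ⊥) :
    Subsingleton (G.obj.obj (op W)) := by
  have hT : IsTerminal (G.obj.obj (op W)) := TopCat.Sheaf.isTerminalOfEqEmpty G h
  exact ((Types.isTerminalEquivUnique _).1 hT).instSubsingleton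

lemma map_map_apply {Y : TopCat.{u}} (H : Y.Sheaf (Type u)) {A B C : Opens Y} (f : B ⟶ A) (g : C ⟶ B)
    (h : C ⟶ A) (s : H.obj.obj (op A)) : H.obj.map g.op (H.obj.map f.op s) = H.obj.map h.op s := by
  have : h = g ≫ f := Subsingleton.elim _ _
  rw [this, op_comp, H.obj.map_comp]
  rfl

lemma nat_apply {Y : TopCat.{u}} {A B : Y.Sheaf (Type u)} (g : A ⟶ B) {V W : Opens Y} (f : W ⟶ V)
    (s : A.obj.obj (op V)) :
    g.hom.app (op W) (A.obj.map f.op s) = B.obj.map f.op (g.hom.app (op V) s) :=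
  ConcreteCategory.congr_hom (g.hom.naturality f.op) s


/-- Let `π : X → Y` be a continuous map such that every open set containing a fibre `π⁻¹(y)` contains
the preimage of an open neighbourhood of `y`, and such that every fibre is finite with its points
separated by pairwise disjoint open sets of `X`. Then the direct image of sheaves of sets along `π`
preserves epimorphisms. -/
theorem result
    {X Y : TopCat.{u}} (π : X ⟶ Y)
    (h1 : ∀ (y : Y) (U : Set X), IsOpen U → π ⁻¹' {y} ⊆ U →
      ∃ V : Set Y, IsOpen V ∧ y ∈ V ∧ π ⁻¹' V ⊆ U)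
    (h2 : ∀ y : Y, (π ⁻¹' {y}).Finite ∧ ∃ U : X → Set X,
      (∀ x ∈ π ⁻¹' {y}, IsOpen (U x) ∧ x ∈ U x) ∧ (π ⁻¹' {y}).PairwiseDisjoint U) :
    (TopCat.Sheaf.pushforward (Type u) π).PreservesEpimorphisms := by
  constructor
  intro A B g hgE
  have hg := (locSurj_iff g).1 hgE
  rw [locSurj_iff]
  intro V t y hy
  obtain ⟨_, Uf, hUf, hdisj⟩ := h2 y
  -- local lifts around the points of the fibre
  have key : ∀ x : (π ⁻¹' {y} : Set X), ∃ (W : Opens X) (h : W ≤ (Opens.map π).obj V),
      (∃ s : A.obj.obj (op W), g.hom.app (op W) s = B.obj.map (homOfLE h).op t) ∧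
        (x : X) ∈ W ∧ (W : Set X) ⊆ Uf x := by
    intro x
    have hxV : (x : X) ∈ (Opens.map π).obj V := by
      change π (x : X) ∈ V
      have : π (x : X) = y := x.2
      rw [this]; exact hy
    obtain ⟨W, hW, ⟨s, hs⟩, hxW⟩ := hg ((Opens.map π).obj V) t x hxV
    let Ux : Opens X := ⟨Uf x, (hUf x x.2).1⟩
    refine ⟨W ⊓ Ux, inf_le_left.trans hW, ⟨A.obj.map (homOfLE inf_le_left).op s, ?_⟩,
      ⟨hxW, (hUf x x.2).2⟩, fun z hz => hz.2⟩
    rw [nat_apply, hs]
    exact map_map_apply B _ _ _ t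
  choose W hW hs hxW hWU using key
  choose s hs using hs
  -- compatibility
  have hcompat : TopCat.Presheaf.IsCompatible A.obj W s := by
    intro x x'
    by_cases hxx : x = x'
    · subst hxx
      rfl
    · have hbot : W x ⊓ W x' = ⊥ := by
        ext z
        simp only [Opens.coe_inf, Set.mem_inter_iff, SetLike.mem_coe, Opens.coe_bot,
          Set.mem_empty_iff_false, iff_false]
        rintro ⟨hz, hz'⟩
        have hne : (x : X) ≠ (x' : X) := fun h => hxx (Subtype.ext h)
        have := hdisj x.2 x'.2 hne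
        exact Set.disjoint_left.1 this (hWU x hz) (hWU x' hz')
      haveI := subsingleton_of_eq_bot A hbot
      exact Subsingleton.elim _ _
  obtain ⟨t', ht', -⟩ := A.existsUnique_gluing W s hcompat
  -- g t' = t restricted
  have hle : iSup W ≤ (Opens.map π).obj V := iSup_le hW
  have hgt : g.hom.app (op (iSup W)) t' = B.obj.map (homOfLE hle).op t := by
    apply B.eq_of_locally_eq W
    intro x
    have e1 : B.obj.map (Opens.leSupr W x).op (g.hom.app (op (iSup W)) t') = g.hom.app (op (W x)) (s x) := by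
      rw [← nat_apply, ht' x]
    refine e1.trans ((hs x).trans ?_)
    exact (map_map_apply B _ _ _ t).symm
  -- neighbourhood of y
  have hsub : π ⁻¹' {y} ⊆ ((iSup W : Opens X) : Set X) := by
    intro z hz
    exact Opens.mem_iSup.2 ⟨⟨z, hz⟩, hxW ⟨z, hz⟩⟩
  obtain ⟨V0, hV0, hyV0, hV0W⟩ := h1 y _ (iSup W).2 hsub
  let V' : Opens Y := V ⊓ ⟨V0, hV0⟩
  have hle' : (Opens.map π).obj V' ≤ iSup W := fun z hz => hV0W hz.2
  refine ⟨V', inf_le_left, ⟨A.obj.map (homOfLE hle').op t', ?_⟩, ⟨hy, hyV0⟩⟩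
  change g.hom.app (op ((Opens.map π).obj V')) (A.obj.map (homOfLE hle').op t') =
    B.obj.map ((Opens.map π).map (homOfLE (inf_le_left : V' ≤ V))).op t
  rw [nat_apply, hgt]
  exact map_map_apply B _ _ _ t

end Groth.Agent.S15582
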