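import Groth.Statements.S15585
import Mathlib
import Groth.Agent.Lib.Helper15QuadEtale
-- import your own Groth.Agent.* helpers here

set_option autoImplicit false
universe u v
open RInv

namespace Groth.Agent.S15585.Aux

set_option autoImplicit false

namespace QE10
open Groth.Agent.Lib.Helper15.QuadEtale IsLocalRing

section
variable {S : Type u} {R : Type v} [CommRing S] [CommRing R] [Algebra S R] [IsLocalRing S]
  {x : R} (hx : IsGen S x) {t n : S}
  (hq : x * x = algebraMap S R t * x - algebraMap S R n)

theorem cA_one : cA hx (1 : R) = 1 :=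
  cA_eq hx (c := 0) (by rw [map_one, map_zero, zero_mul, add_zero])

theorem cX_one : cX hx (1 : R) = 0 :=
  cX_eq hx (a := 1) (by rw [map_one, map_zero, zero_mul, add_zero])

theorem cA_alg (s : S) : cA hx (algebraMap S R s) = s :=
  cA_eq hx (c := 0) (by rw [map_zero, zero_mul, add_zero])

theorem cX_alg (s : S) : cX hx (algebraMap S R s) = 0 :=
  cX_eq hx (a := s) (by rw [map_zero, zero_mul, add_zero])

include hq in
/-- evaluation at a root of the reduction of the quadratic. -/
noncomputable def ev (γ : S) (hγ : γ * γ - t * γ + n ∈ maximalIdeal S) :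
    R →+* (S ⧸ maximalIdeal S) where
  toFun y := Ideal.Quotient.mk _ (cA hx y + cX hx y * γ)
  map_one' := by rw [cA_one, cX_one, zero_mul, add_zero, map_one]
  map_mul' y z := by
    rw [← map_mul, Ideal.Quotient.eq, cA_mul hx hq, cX_mul hx hq]
    have : cA hx y * cA hx z - cX hx y * cX hx z * n +
        (cA hx y * cX hx z + cX hx y * cA hx z + cX hx y * cX hx z * t) * γ -
        (cA hx y + cX hx y * γ) * (cA hx z + cX hx z * γ)
        = -(cX hx y * cX hx z) * (γ * γ - t * γ + n) := by ring
    rw [this]
    exact Ideal.mul_mem_left _ _ hγ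
  map_zero' := by
    have h1 : cA hx (0 : R) = 0 := (cAlin hx).map_zero
    have h2 : cX hx (0 : R) = 0 := (cXlin hx).map_zero
    rw [h1, h2, zero_mul, add_zero, map_zero]
  map_add' y z := by
    have h1 : cA hx (y + z) = cA hx y + cA hx z := (cAlin hx).map_add y z
    have h2 : cX hx (y + z) = cX hx y + cX hx z := (cXlin hx).map_add y z
    rw [h1, h2, ← map_add]
    congr 1
    ring

theorem ev_apply (γ : S) (hγ : γ * γ - t * γ + n ∈ maximalIdeal S) (y : R) :
    ev hx hq γ hγ y = Ideal.Quotient.mk _ (cA hx y + cX hx y * γ) := rfl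

include hx hq in
/-- the discriminant is a unit. -/
theorem disc_unit (hδ : IsUnit (2 * x - algebraMap S R t)) : IsUnit (t * t - 4 * n) := by
  haveI : Nontrivial R := nontrivial_of_gen hx
  by_contra hcon
  have hm : t * t - 4 * n ∈ maximalIdeal S := (mem_maximalIdeal _).mpr hcon
  have h1 : algebraMap S R (t * t - 4 * n)
      = (2 * x - algebraMap S R t) * (2 * x - algebraMap S R t) := by
    simp only [map_sub, map_mul, map_ofNat]
    linear_combination (-4 : R) * hq
  have h2 : IsUnit (algebraMap S R (t * t - 4 * n)) := by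
    rw [h1]; exact hδ.mul hδ
  obtain ⟨w, hw⟩ := h2.exists_right_inv
  -- 1 ∈ m R, so its coordinate 1 lies in m
  have h3 : (1 : R) ∈ (maximalIdeal S).map (algebraMap S R) := by
    rw [← hw]
    exact Ideal.mul_mem_right _ _ (Ideal.mem_map_of_mem _ hm)
  rw [mem_map_iff hx hq, cA_one] at h3
  exact (maximalIdeal.isMaximal S).ne_top ((Ideal.eq_top_iff_one _).mpr h3.1)

end

theorem main (S : Type u) (R : Type v) [CommRing S]
    [CommRing R] [Algebra S R] [IsLocalRing S] (hq : RInv.IsQuadEtale S R) :
    (IsField (R ⧸ (IsLocalRing.maximalIdeal S).map (algebraMap S R)) ∧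
      Module.finrank (S ⧸ IsLocalRing.maximalIdeal S)
        (R ⧸ (IsLocalRing.maximalIdeal S).map (algebraMap S R)) = 2 ∧
      Algebra.IsSeparable (S ⧸ IsLocalRing.maximalIdeal S)
        (R ⧸ (IsLocalRing.maximalIdeal S).map (algebraMap S R))) ∨
    Nonempty ((R ⧸ (IsLocalRing.maximalIdeal S).map (algebraMap S R)) ≃ₐ[S ⧸ IsLocalRing.maximalIdeal S]
      ((S ⧸ IsLocalRing.maximalIdeal S) × (S ⧸ IsLocalRing.maximalIdeal S))) := by
  obtain ⟨x, hx⟩ := exists_gen hq
  obtain ⟨t, n, hqd⟩ := exists_quadratic hx
  haveI : Algebra.FormallyUnramified S R := hq.2.2.1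
  haveI : Nontrivial R := nontrivial_of_gen hx
  have hδ := isUnit_of_unramified hx hqd
  have hd := disc_unit hx hqd hδ
  set I := (maximalIdeal S).map (algebraMap S R) with hI
  have hmk0 : ∀ y : R, Ideal.Quotient.mk I y = 0 ↔
      cA hx y ∈ maximalIdeal S ∧ cX hx y ∈ maximalIdeal S := by
    intro y
    rw [Ideal.Quotient.eq_zero_iff_mem, hI, mem_map_iff hx hqd]
  have hunit_of : ∀ s : S, s ∉ maximalIdeal S → IsUnit s := by
    intro s hs
    by_contra h
    exact hs ((mem_maximalIdeal _).mpr h)
  by_cases hroot : ∃ α : S, α * α - t * α + n ∈ maximalIdeal S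
  · right
    obtain ⟨α, hα⟩ := hroot
    have hβ : (t - α) * (t - α) - t * (t - α) + n ∈ maximalIdeal S := by
      have : (t - α) * (t - α) - t * (t - α) + n = α * α - t * α + n := by ring
      rw [this]; exact hα
    -- α - β is a unit
    have hdiff : IsUnit (α - (t - α)) := by
      apply hunit_of
      intro hmem
      have : t * t - 4 * n = (α - (t - α)) * (α - (t - α)) - 4 * (α * α - t * α + n) := by ring
      have h2 : t * t - 4 * n ∈ maximalIdeal S := by
        rw [this]
        exact sub_mem (Ideal.mul_mem_left _ _ hmem) (Ideal.mul_mem_left _ _ hα)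
      exact (mem_maximalIdeal _).mp h2 hd
    let ψ : R →+* (S ⧸ maximalIdeal S) × (S ⧸ maximalIdeal S) :=
      (ev hx hqd α hα).prod (ev hx hqd (t - α) hβ)
    have hψ : ∀ y, ψ y = (Ideal.Quotient.mk _ (cA hx y + cX hx y * α),
        Ideal.Quotient.mk _ (cA hx y + cX hx y * (t - α))) := fun y => rfl
    have hker : ∀ y ∈ I, ψ y = 0 := by
      intro y hy
      rw [hI, mem_map_iff hx hqd] at hy
      rw [hψ]
      ext
      · exact Ideal.Quotient.eq_zero_iff_mem.mpr
          (add_mem hy.1 (Ideal.mul_mem_right _ _ hy.2))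
      · exact Ideal.Quotient.eq_zero_iff_mem.mpr
          (add_mem hy.1 (Ideal.mul_mem_right _ _ hy.2))
    let Ψ : (R ⧸ I) →+* (S ⧸ maximalIdeal S) × (S ⧸ maximalIdeal S) :=
      Ideal.Quotient.lift I ψ hker
    have hΨ : ∀ y, Ψ (Ideal.Quotient.mk I y) = ψ y := fun y => Ideal.Quotient.lift_mk I ψ hker
    let ΨA : (R ⧸ I) →ₐ[S ⧸ maximalIdeal S] (S ⧸ maximalIdeal S) × (S ⧸ maximalIdeal S) :=
      { Ψ with
        commutes' := by
          intro c
          obtain ⟨s, rfl⟩ := Ideal.Quotient.mk_surjective c
          show Ψ (algebraMap _ _ (Ideal.Quotient.mk _ s)) = _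
          rw [Ideal.Quotient.algebraMap_quotient_map_quotient, hΨ, hψ, cA_alg, cX_alg]
          simp [Prod.algebraMap_apply] }
    have hΨA : ∀ z, ΨA z = Ψ z := fun z => rfl
    refine ⟨AlgEquiv.ofBijective ΨA ⟨?_, ?_⟩⟩
    · rw [injective_iff_map_eq_zero]
      intro z hz
      obtain ⟨y, rfl⟩ := Ideal.Quotient.mk_surjective z
      rw [hΨA, hΨ, hψ, Prod.mk_eq_zero, Ideal.Quotient.eq_zero_iff_mem,
        Ideal.Quotient.eq_zero_iff_mem] at hz
      rw [hmk0]
      have hC : cX hx y ∈ maximalIdeal S := by
        have h3 : cX hx y * (α - (t - α)) ∈ maximalIdeal S := by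
          have : cX hx y * (α - (t - α))
              = (cA hx y + cX hx y * α) - (cA hx y + cX hx y * (t - α)) := by ring
          rw [this]
          exact sub_mem hz.1 hz.2
        rcases (maximalIdeal.isMaximal S).isPrime.mem_or_mem h3 with h | h
        · exact h
        · exact absurd hdiff ((mem_maximalIdeal _).mp h)
      refine ⟨?_, hC⟩
      have : cA hx y = (cA hx y + cX hx y * α) - cX hx y * α := by ring
      rw [this]
      exact sub_mem hz.1 (Ideal.mul_mem_right _ _ hC)
    · rintro ⟨c1, c2⟩
      obtain ⟨u, rfl⟩ := Ideal.Quotient.mk_surjective c1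
      obtain ⟨w, rfl⟩ := Ideal.Quotient.mk_surjective c2
      obtain ⟨e, he⟩ := hdiff.exists_left_inv
      -- C = (u - w) e, A = u - C α
      refine ⟨Ideal.Quotient.mk I
        (algebraMap S R (u - (u - w) * e * α) + algebraMap S R ((u - w) * e) * x), ?_⟩
      rw [hΨA, hΨ, hψ]
      have h1 : cA hx (algebraMap S R (u - (u - w) * e * α) + algebraMap S R ((u - w) * e) * x)
          = u - (u - w) * e * α := cA_eq hx rfl
      have h2 : cX hx (algebraMap S R (u - (u - w) * e * α) + algebraMap S R ((u - w) * e) * x)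
          = (u - w) * e := cX_eq hx rfl
      rw [h1, h2]
      ext
      · simp only
        congr 1
        ring
      · simp only
        congr 1
        linear_combination (-(u - w)) * he
  · left
    push Not at hroot
    -- norm argument
    have hinv : ∀ y : R, Ideal.Quotient.mk I y ≠ 0 → ∃ z : R, Ideal.Quotient.mk I (y * z) = 1 := by
      intro y hy
      set A := cA hx y with hA
      set C := cX hx y with hC
      have hyc : y = algebraMap S R A + algebraMap S R C * x := c_spec hx y
      have hN : IsUnit (A * A + A * C * t + C * C * n) := by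
        apply hunit_of
        intro hmem
        by_cases hCm : C ∈ maximalIdeal S
        · have hAm : A ∈ maximalIdeal S := by
            have h3 : A * A ∈ maximalIdeal S := by
              have : A * A = (A * A + A * C * t + C * C * n) - (A * t + C * n) * C := by ring
              rw [this]
              exact sub_mem hmem (Ideal.mul_mem_left _ _ hCm)
            rcases (maximalIdeal.isMaximal S).isPrime.mem_or_mem h3 with h | h <;> exact h
          exact hy ((hmk0 y).mpr ⟨hAm, hCm⟩)
        · obtain ⟨C', hC'⟩ := (hunit_of C hCm).exists_left_inv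
          apply hroot (-(C' * A))
          have : -(C' * A) * -(C' * A) - t * -(C' * A) + n
              = C' * C' * (A * A + A * C * t + C * C * n)
                + (1 - C' * C) * ((1 + C' * C) * n + t * C' * A) := by ring
          rw [this, hC', sub_self, zero_mul, add_zero]
          exact Ideal.mul_mem_left _ _ hmem
      obtain ⟨N', hN'⟩ := hN.exists_right_inv
      refine ⟨(algebraMap S R A + algebraMap S R C * (algebraMap S R t - x)) * algebraMap S R N', ?_⟩
      have : y * ((algebraMap S R A + algebraMap S R C * (algebraMap S R t - x)) * algebraMap S R N')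
          = 1 := by
        have h1 : algebraMap S R (A * A + A * C * t + C * C * n) * algebraMap S R N' = 1 := by
          rw [← map_mul, hN', map_one]
        rw [hyc]
        simp only [map_add, map_mul] at h1
        linear_combination h1 - (algebraMap S R C * algebraMap S R C * algebraMap S R N') * hqd
      rw [this, map_one]
    have hne : (1 : R ⧸ I) ≠ 0 := by
      intro h
      have : Ideal.Quotient.mk I (1 : R) = 0 := by rw [map_one]; exact h
      rw [hmk0, cA_one] at this
      exact (maximalIdeal.isMaximal S).ne_top ((Ideal.eq_top_iff_one _).mpr this.1)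
    have hfield : IsField (R ⧸ I) := by
      refine ⟨⟨0, 1, hne.symm⟩, mul_comm, ?_⟩
      intro z hz
      obtain ⟨y, rfl⟩ := Ideal.Quotient.mk_surjective z
      obtain ⟨w, hw⟩ := hinv y hz
      exact ⟨Ideal.Quotient.mk I w, by rw [← map_mul, hw]⟩
    -- the basis 1, x
    have hsm : ∀ (s : S) (z : R ⧸ I), (Ideal.Quotient.mk (maximalIdeal S) s) • z
        = Ideal.Quotient.mk I (algebraMap S R s) * z := by
      intro s z
      rw [Algebra.smul_def, Ideal.Quotient.algebraMap_quotient_map_quotient]
    have hli : LinearIndependent (S ⧸ maximalIdeal S)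
        ![(1 : R ⧸ I), Ideal.Quotient.mk I x] := by
      rw [LinearIndependent.pair_iff]
      intro a c hac
      obtain ⟨a0, rfl⟩ := Ideal.Quotient.mk_surjective a
      obtain ⟨c0, rfl⟩ := Ideal.Quotient.mk_surjective c
      rw [hsm, hsm, mul_one, ← map_mul, ← map_add, hmk0] at hac
      have h1 : cA hx (algebraMap S R a0 + algebraMap S R c0 * x) = a0 := cA_eq hx rfl
      have h2 : cX hx (algebraMap S R a0 + algebraMap S R c0 * x) = c0 := cX_eq hx rfl
      rw [h1, h2] at hac
      exact ⟨Ideal.Quotient.eq_zero_iff_mem.mpr hac.1, Ideal.Quotient.eq_zero_iff_mem.mpr hac.2⟩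
    have hsp : ⊤ ≤ Submodule.span (S ⧸ maximalIdeal S)
        (Set.range ![(1 : R ⧸ I), Ideal.Quotient.mk I x]) := by
      intro z _
      obtain ⟨y, rfl⟩ := Ideal.Quotient.mk_surjective z
      have : Ideal.Quotient.mk I y
          = (Ideal.Quotient.mk (maximalIdeal S) (cA hx y)) • (1 : R ⧸ I)
            + (Ideal.Quotient.mk (maximalIdeal S) (cX hx y)) • Ideal.Quotient.mk I x := by
        rw [hsm, hsm, mul_one, ← map_mul, ← map_add, ← c_spec hx y]
      rw [this]
      refine add_mem (Submodule.smul_mem _ _ (Submodule.subset_span ⟨0, rfl⟩))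
        (Submodule.smul_mem _ _ (Submodule.subset_span ⟨1, rfl⟩))
    let b : Module.Basis (Fin 2) (S ⧸ maximalIdeal S) (R ⧸ I) := Module.Basis.mk hli hsp
    have hfin : Module.finrank (S ⧸ maximalIdeal S) (R ⧸ I) = 2 := by
      rw [Module.finrank_eq_card_basis b, Fintype.card_fin]
    refine ⟨hfield, hfin, ?_⟩
    haveI : Module.Finite (S ⧸ maximalIdeal S) (R ⧸ I) := Module.Finite.of_basis b
    letI : Field (S ⧸ maximalIdeal S) := Ideal.Quotient.field _
    letI : Field (R ⧸ I) := hfield.toField
    exact Algebra.FormallyUnramified.isSeparable (S ⧸ maximalIdeal S) (R ⧸ I)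

end QE10

end Groth.Agent.S15585.Aux

namespace Groth.Agent.S15585

/-- For a local ring `S` (maximal ideal `m`, residue field `k`) and a quadratic etale `S`-algebra `R`,
the ring `R/mR` is a field that is a separable extension of `k` of degree 2, or else it is
isomorphic as a `k`-algebra to `k × k`. -/
theorem result (S : Type u) (R : Type v) [CommRing S]
    [CommRing R] [Algebra S R] [IsLocalRing S] (hq : RInv.IsQuadEtale S R) :
    (IsField (R ⧸ (IsLocalRing.maximalIdeal S).map (algebraMap S R)) ∧
      Module.finrank (S ⧸ IsLocalRing.maximalIdeal S)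
        (R ⧸ (IsLocalRing.maximalIdeal S).map (algebraMap S R)) = 2 ∧
      Algebra.IsSeparable (S ⧸ IsLocalRing.maximalIdeal S)
        (R ⧸ (IsLocalRing.maximalIdeal S).map (algebraMap S R))) ∨
    Nonempty ((R ⧸ (IsLocalRing.maximalIdeal S).map (algebraMap S R)) ≃ₐ[S ⧸ IsLocalRing.maximalIdeal S]
      ((S ⧸ IsLocalRing.maximalIdeal S) × (S ⧸ IsLocalRing.maximalIdeal S))) := by
  exact Aux.QE10.main S R hq

end Groth.Agent.S15585
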