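import Groth.Statements.S15588
import Mathlib
import Groth.Agent.Lib.Helper15QuadEtale
import Groth.Agent.S15575
-- import your own Groth.Agent.* helpers here

set_option autoImplicit false
universe u v
open scoped TensorProduct
open RInv

namespace Groth.Agent.S15588.Aux

set_option autoImplicit false

namespace QE7
universe w
open Groth.Agent.Lib.Helper15.QuadEtale
open Groth.Agent.S15575.Aux.QE6
open scoped TensorProduct

section
variable {S : Type u} {R : Type v} [CommRing S] [CommRing R] [Algebra S R]
  (lam : R ≃+* R) (hlam : Function.Involutive lam) (hS : RInv.IsFixedRing S R lam)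

include hlam hS in
/-- the square of `lam r - r` comes from `S`. -/
theorem exists_sq (r : R) : ∃ d : S, algebraMap S R d = (lam r - r) ^ 2 := by
  have h : lam ((lam r - r) ^ 2) = (lam r - r) ^ 2 := by
    rw [map_pow, map_sub, hlam r]; ring
  exact (hS.2 _).mp h

include hlam hS in
/-- Lemma H: if the square of `lam r - r` becomes a unit in a flat `S`-algebra `T`, then
`T ⊗ R` is quadratic etale over `T`. -/
theorem quadEtale_of_isUnit (T : Type w) [CommRing T] [Algebra S T] [Module.Flat S T]
    (r : R) (d : S) (hd : algebraMap S R d = (lam r - r) ^ 2) (hu : IsUnit (algebraMap S T d)) :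
    RInv.IsQuadEtale T (T ⊗[S] R) := by
  apply Groth.Agent.S15573.result T (T ⊗[S] R) (lamT lam hS T) (lamT_involutive lam hlam hS T)
    (lamT_fixed lam hlam hS T)
  refine ⟨(1 : T) ⊗ₜ[S] lam r, ?_⟩
  rw [lamT_tmul, hlam r, ← TensorProduct.tmul_sub]
  have hsq : ((1 : T) ⊗ₜ[S] (lam r - r)) * ((1 : T) ⊗ₜ[S] (lam r - r))
      = algebraMap T (T ⊗[S] R) (algebraMap S T d) := by
    rw [Algebra.TensorProduct.tmul_mul_tmul, one_mul, ← pow_two, ← hd,
      Algebra.algebraMap_eq_smul_one d, TensorProduct.tmul_smul,
      ← IsScalarTower.algebraMap_apply S T (T ⊗[S] R), Algebra.algebraMap_eq_smul_one,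
      Algebra.TensorProduct.one_def]
  have : IsUnit (((1 : T) ⊗ₜ[S] (lam r - r)) * ((1 : T) ⊗ₜ[S] (lam r - r))) := by
    rw [hsq]
    exact hu.map _
  exact isUnit_of_mul_isUnit_left this

end

theorem main (S : Type u) (R : Type v) [CommRing S] [CommRing R]
    [Algebra S R] (lam : R ≃+* R) (hlam : Function.Involutive lam) (hS : RInv.IsFixedRing S R lam)
    (W : Set (PrimeSpectrum S))
    (hW : W = {p : PrimeSpectrum S | ¬ RInv.IsQuadEtale (Localization.AtPrime p.asIdeal) (Localization.AtPrime p.asIdeal ⊗[S] R)})
    (r : R) :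
    lam r - r ∈ ((PrimeSpectrum.vanishingIdeal W).map (algebraMap S R)).radical := by
  obtain ⟨d, hd⟩ := exists_sq lam hlam hS r
  have hdI : d ∈ PrimeSpectrum.vanishingIdeal W := by
    rw [PrimeSpectrum.mem_vanishingIdeal]
    intro p hp
    by_contra hdp
    rw [hW] at hp
    apply hp
    apply quadEtale_of_isUnit lam hlam hS (Localization.AtPrime p.asIdeal) r d hd
    exact IsLocalization.map_units (Localization.AtPrime p.asIdeal)
      (⟨d, hdp⟩ : p.asIdeal.primeCompl)
  refine ⟨2, ?_⟩
  rw [← hd]
  exact Ideal.mem_map_of_mem _ hdI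

end QE7

end Groth.Agent.S15588.Aux

namespace Groth.Agent.S15588

/-- Let `R` be a commutative ring with an involution `lam` and fixed ring `S`, let `W ⊆ Spec S` be the
branch locus (the primes `p` with `S_p ⊗_S R` not quadratic etale over `S_p`) and `I` its vanishing
ideal. Then `lam` is the identity on `R/rad(IR)`, i.e. on the reduced closed subscheme `π⁻¹(W)` of
`Spec R`: `lam r - r ∈ rad(IR)` for all `r`. Affine-local form of the statement for a good quotient
of schemes by an involution. -/
theorem result (S : Type u) (R : Type v) [CommRing S] [CommRing R]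
    [Algebra S R] (lam : R ≃+* R) (hlam : Function.Involutive lam) (hS : RInv.IsFixedRing S R lam)
    (W : Set (PrimeSpectrum S))
    (hW : W = {p : PrimeSpectrum S | ¬ RInv.IsQuadEtale (Localization.AtPrime p.asIdeal) (Localization.AtPrime p.asIdeal ⊗[S] R)})
    (r : R) :
    lam r - r ∈ ((PrimeSpectrum.vanishingIdeal W).map (algebraMap S R)).radical := by
  exact Aux.QE7.main S R lam hlam hS W hW r

end Groth.Agent.S15588
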