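import Groth.Statements.S15587
import Mathlib
import Groth.Agent.Lib.Helper15QuadEtale
import Groth.Agent.S15575
import Groth.Agent.S15588
-- import your own Groth.Agent.* helpers here

set_option autoImplicit false
universe u v
open scoped TensorProduct
open RInv

namespace Groth.Agent.S15587.Aux

set_option autoImplicit false

namespace QE8
universe w
open Groth.Agent.Lib.Helper15.QuadEtale
open Groth.Agent.S15575.Aux.QE6
open Groth.Agent.S15588.Aux.QE7
open scoped TensorProduct
open Polynomial

section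
variable {S : Type u} {R : Type v} [CommRing S] [CommRing R] [Algebra S R]
  (lam : R ≃+* R) (hlam : Function.Involutive lam) (hS : RInv.IsFixedRing S R lam)

include hlam hS in
theorem isIntegral : Algebra.IsIntegral S R := by
  constructor
  intro r
  obtain ⟨a, ha⟩ := exists_trace lam hlam hS r
  obtain ⟨b, hb⟩ := exists_norm lam hlam hS r
  refine ⟨X ^ 2 + (C (-a) * X + C b), ?_, ?_⟩
  · apply Polynomial.monic_X_pow_add
    exact lt_of_le_of_lt (Polynomial.degree_linear_le) (by norm_num)
  · simp only [eval₂_add, eval₂_pow, eval₂_X, eval₂_mul, eval₂_C, map_neg, eval₂_neg]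
    rw [ha, hb]
    ring

include hlam hS in
/-- G2: at a prime where the localisation is quadratic etale there is a "good" element. -/
theorem exists_good (p : PrimeSpectrum S)
    (hp : RInv.IsQuadEtale (Localization.AtPrime p.asIdeal) (Localization.AtPrime p.asIdeal ⊗[S] R)) :
    ∃ (r1 r2 : R) (s : S), s ∉ p.asIdeal ∧ (r1 - lam r1) * r2 = algebraMap S R s := by
  set Sp := Localization.AtPrime p.asIdeal with hSp
  obtain ⟨ρ, hρ⟩ := isUnit_sub_lam (lamT lam hS Sp) (lamT_involutive lam hlam hS Sp)
    (lamT_fixed lam hlam hS Sp) hp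
  obtain ⟨v, hv⟩ := hρ.exists_right_inv
  haveI : IsLocalizedModule p.asIdeal.primeCompl (TensorProduct.mk S Sp R 1) :=
    (isLocalizedModule_iff_isBaseChange p.asIdeal.primeCompl Sp _).mpr
      (TensorProduct.isBaseChange S R Sp)
  obtain ⟨⟨r1, s1⟩, h1⟩ := IsLocalizedModule.surj p.asIdeal.primeCompl
    (TensorProduct.mk S Sp R 1) ρ
  obtain ⟨⟨r2, s2⟩, h2⟩ := IsLocalizedModule.surj p.asIdeal.primeCompl
    (TensorProduct.mk S Sp R 1) v
  simp only [TensorProduct.mk_apply] at h1 h2
  have h1' : (s1 : S) • ρ = (1 : Sp) ⊗ₜ[S] r1 := h1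
  have h2' : (s2 : S) • v = (1 : Sp) ⊗ₜ[S] r2 := h2
  have hprod : (TensorProduct.mk S Sp R 1) ((r1 - lam r1) * r2)
      = (TensorProduct.mk S Sp R 1) (((s1 : S) * (s2 : S)) • (1 : R)) := by
    simp only [TensorProduct.mk_apply]
    have e1 : (1 : Sp) ⊗ₜ[S] ((r1 - lam r1) * r2)
        = ((1 : Sp) ⊗ₜ[S] r1 - lamT lam hS Sp ((1 : Sp) ⊗ₜ[S] r1)) * ((1 : Sp) ⊗ₜ[S] r2) := by
      rw [lamT_tmul, ← TensorProduct.tmul_sub, Algebra.TensorProduct.tmul_mul_tmul, one_mul]
    have hR : (1 : Sp) ⊗ₜ[S] (((s1 : S) * (s2 : S)) • (1 : R))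
        = algebraMap S (Sp ⊗[S] R) ((s1 : S) * (s2 : S)) := by
      rw [TensorProduct.tmul_smul, Algebra.algebraMap_eq_smul_one, Algebra.TensorProduct.one_def]
    rw [e1, ← h1', ← h2', lamT_smul, hR, map_mul]
    simp only [Algebra.smul_def]
    linear_combination (algebraMap S (Sp ⊗[S] R) (s1 : S) * algebraMap S (Sp ⊗[S] R) (s2 : S)) * hv
  obtain ⟨s3, h3⟩ := IsLocalizedModule.exists_of_eq (S := p.asIdeal.primeCompl) hprod
  have h3' : (s3 : S) • ((r1 - lam r1) * r2) = (s3 : S) • (((s1 : S) * (s2 : S)) • (1 : R)) := h3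
  refine ⟨r1, (s3 : S) • r2, (s3 : S) * ((s1 : S) * (s2 : S)), ?_, ?_⟩
  · have : (s3 : S) * ((s1 : S) * (s2 : S)) ∈ p.asIdeal.primeCompl :=
      mul_mem s3.2 (mul_mem s1.2 s2.2)
    exact this
  · rw [mul_smul_comm, h3', smul_smul, Algebra.algebraMap_eq_smul_one]

end

theorem main (S : Type u) (R : Type v) [CommRing S] [CommRing R]
    [Algebra S R] (lam : R ≃+* R) (hlam : Function.Involutive lam) (hS : RInv.IsFixedRing S R lam)
    (p : PrimeSpectrum S) :
    ¬ RInv.IsQuadEtale (Localization.AtPrime p.asIdeal) (Localization.AtPrime p.asIdeal ⊗[S] R) ↔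
      ∃ q : PrimeSpectrum R, q.asIdeal.comap (algebraMap S R) = p.asIdeal ∧
        (∀ q' : PrimeSpectrum R, q'.asIdeal.comap (algebraMap S R) = p.asIdeal → q' = q) ∧
        ∀ r : R, lam r - r ∈ q.asIdeal := by
  constructor
  · intro hnq
    haveI : Algebra.IsIntegral S R := isIntegral lam hlam hS
    -- every prime over p is stable
    have hstab : ∀ q : PrimeSpectrum R, q.asIdeal.comap (algebraMap S R) = p.asIdeal →
        ∀ r : R, lam r - r ∈ q.asIdeal := by
      intro q hq r
      obtain ⟨d, hd⟩ := exists_sq lam hlam hS r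
      have hdp : d ∈ p.asIdeal := by
        by_contra hdp
        apply hnq
        apply quadEtale_of_isUnit lam hlam hS (Localization.AtPrime p.asIdeal) r d hd
        exact IsLocalization.map_units (Localization.AtPrime p.asIdeal)
          (⟨d, hdp⟩ : p.asIdeal.primeCompl)
      rw [← hq, Ideal.mem_comap, hd] at hdp
      exact q.2.mem_of_pow_mem 2 hdp
    have hle : ∀ q q' : PrimeSpectrum R, q.asIdeal.comap (algebraMap S R) = p.asIdeal →
        q'.asIdeal.comap (algebraMap S R) = p.asIdeal → q'.asIdeal ≤ q.asIdeal := by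
      intro q q' hq hq' y hy
      obtain ⟨n, hn⟩ := exists_norm lam hlam hS y
      have hnp : n ∈ p.asIdeal := by
        rw [← hq', Ideal.mem_comap, hn]
        exact Ideal.mul_mem_right _ _ hy
      rw [← hq, Ideal.mem_comap, hn] at hnp
      rcases q.2.mem_or_mem hnp with h | h
      · exact h
      · have h2 := hstab q hq y
        have : y = lam y - (lam y - y) := by ring
        rw [this]
        exact sub_mem h h2
    obtain ⟨Q, -, hQp, hQ⟩ := Ideal.exists_ideal_over_prime_of_isIntegral p.asIdeal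
      (⊥ : Ideal R) (by
        intro s hs
        rw [Ideal.mem_comap, Ideal.mem_bot] at hs
        have : s = 0 := hS.1 (by rw [hs, map_zero])
        rw [this]
        exact zero_mem _)
    refine ⟨⟨Q, hQp⟩, hQ, ?_, hstab ⟨Q, hQp⟩ hQ⟩
    intro q' hq'
    apply PrimeSpectrum.ext
    exact le_antisymm (hle ⟨Q, hQp⟩ q' hQ hq') (hle q' ⟨Q, hQp⟩ hq' hQ)
  · rintro ⟨q, hq, -, hstab⟩ hqe
    obtain ⟨r1, r2, s, hsp, hgood⟩ := exists_good lam hlam hS p hqe
    apply hsp
    rw [← hq, Ideal.mem_comap, ← hgood]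
    have h := hstab r1
    have : r1 - lam r1 = -(lam r1 - r1) := by ring
    rw [this]
    exact Ideal.mul_mem_right _ _ (q.asIdeal.neg_mem h)

end QE8

end Groth.Agent.S15587.Aux

namespace Groth.Agent.S15587

/-- (b) ⇔ (d): let `R` be a commutative ring with an involution `lam` and fixed ring `S`, so that `Spec
R → Spec S` is a good quotient by the involution, and let `p` be a prime of `S`. Then `p` is a
branch point, i.e. the localisation `S_p ⊗_S R` is not quadratic etale over `S_p`, if and only if
exactly one prime `q` of `R` lies over `p` and `lam` induces the identity on the residue field of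
`q` (equivalently `lam r - r ∈ q` for all `r`). This is the affine-local form of the statement for a
good quotient of schemes, to which the general case reduces since such quotients are affine
morphisms. -/
theorem result (S : Type u) (R : Type v) [CommRing S] [CommRing R]
    [Algebra S R] (lam : R ≃+* R) (hlam : Function.Involutive lam) (hS : RInv.IsFixedRing S R lam)
    (p : PrimeSpectrum S) :
    ¬ RInv.IsQuadEtale (Localization.AtPrime p.asIdeal) (Localization.AtPrime p.asIdeal ⊗[S] R) ↔
      ∃ q : PrimeSpectrum R, q.asIdeal.comap (algebraMap S R) = p.asIdeal ∧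
        (∀ q' : PrimeSpectrum R, q'.asIdeal.comap (algebraMap S R) = p.asIdeal → q' = q) ∧
        ∀ r : R, lam r - r ∈ q.asIdeal := by
  exact Aux.QE8.main S R lam hlam hS p

end Groth.Agent.S15587
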