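import Groth.Statements.S15589
import Mathlib
import Groth.Agent.Lib.Helper15QuadEtale
import Groth.Agent.S15575
import Groth.Agent.S15588
import Groth.Agent.S15587
-- import your own Groth.Agent.* helpers here

set_option autoImplicit false
universe u v
open scoped TensorProduct
open RInv

namespace Groth.Agent.S15589.Aux

set_option autoImplicit false

namespace QE9
universe w
open Groth.Agent.Lib.Helper15.QuadEtale
open Groth.Agent.S15575.Aux.QE6
open Groth.Agent.S15588.Aux.QE7
open Groth.Agent.S15587.Aux.QE8
open scoped TensorProduct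
open Polynomial

theorem main (S : Type u) (R : Type v) [CommRing S] [CommRing R]
    [Algebra S R] (lam : R ≃+* R) (hlam : Function.Involutive lam) (hS : RInv.IsFixedRing S R lam)
    (W : Set (PrimeSpectrum S))
    (hW : W = {p : PrimeSpectrum S | ¬ RInv.IsQuadEtale (Localization.AtPrime p.asIdeal) (Localization.AtPrime p.asIdeal ⊗[S] R)})
    (J : Ideal R) (hJ : J = ((PrimeSpectrum.vanishingIdeal W).map (algebraMap S R)).radical)
    (hIJ : PrimeSpectrum.vanishingIdeal W ≤ J.comap (algebraMap S R)) :
    IsHomeomorph (PrimeSpectrum.comap (Ideal.quotientMap J (algebraMap S R) hIJ)) ∧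
      (IsUnit (2 : S) → Function.Bijective (Ideal.quotientMap J (algebraMap S R) hIJ)) := by
  set I := PrimeSpectrum.vanishingIdeal W with hI
  set φ := Ideal.quotientMap J (algebraMap S R) hIJ with hφ
  haveI : Algebra.IsIntegral S R := isIntegral lam hlam hS
  have hstabJ : ∀ r : R, lam r - r ∈ J := by
    intro r
    rw [hJ]
    exact Groth.Agent.S15588.result S R lam hlam hS W hW r
  have hφmk : ∀ s : S, φ (Ideal.Quotient.mk I s) = Ideal.Quotient.mk J (algebraMap S R s) :=
    fun s => Ideal.quotientMap_mk
  -- primes containing J with the same contraction are equal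
  have hle : ∀ q q' : Ideal R, q.IsPrime → q'.IsPrime → J ≤ q → J ≤ q' →
      q.comap (algebraMap S R) = q'.comap (algebraMap S R) → q' ≤ q := by
    intro q q' hq hq' hJq hJq' hcom y hy
    obtain ⟨n, hn⟩ := exists_norm lam hlam hS y
    have hnq' : n ∈ q'.comap (algebraMap S R) := by
      rw [Ideal.mem_comap, hn]
      exact Ideal.mul_mem_right _ _ hy
    rw [← hcom, Ideal.mem_comap, hn] at hnq'
    rcases hq.mem_or_mem hnq' with h | h
    · exact h
    · have h2 := hJq (hstabJ y)
      have : y = lam y - (lam y - y) := by ring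
      rw [this]
      exact sub_mem h h2
  -- lying over with J ≤ q
  have hlie : ∀ p : Ideal S, p.IsPrime → I ≤ p →
      ∃ q : Ideal R, q.IsPrime ∧ J ≤ q ∧ q.comap (algebraMap S R) = p := by
    intro p hp hIp
    obtain ⟨Q, -, hQp, hQ⟩ := Ideal.exists_ideal_over_prime_of_isIntegral p
      (⊥ : Ideal R) (by
        intro s hs
        rw [Ideal.mem_comap, Ideal.mem_bot] at hs
        have : s = 0 := hS.1 (by rw [hs, map_zero])
        rw [this]
        exact zero_mem _)
    refine ⟨Q, hQp, ?_, hQ⟩
    rw [hJ]
    apply hQp.radical_le_iff.mpr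
    rw [Ideal.map_le_iff_le_comap, hQ]
    exact hIp
  have hφint : φ.IsIntegral := by
    intro y
    obtain ⟨r, rfl⟩ := Ideal.Quotient.mk_surjective y
    obtain ⟨P, hPm, hP⟩ := Algebra.IsIntegral.isIntegral (R := S) r
    refine ⟨P.map (Ideal.Quotient.mk I), hPm.map _, ?_⟩
    rw [Polynomial.eval₂_map]
    have : φ.comp (Ideal.Quotient.mk I) = (Ideal.Quotient.mk J).comp (algebraMap S R) := by
      ext s
      exact hφmk s
    rw [this, ← Polynomial.hom_eval₂, hP, map_zero]
  constructor
  · rw [isHomeomorph_iff_continuous_isClosedMap_bijective]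
    refine ⟨PrimeSpectrum.continuous_comap φ, ?_, ?_, ?_⟩
    · exact PrimeSpectrum.isClosedMap_comap_of_isIntegral φ hφint
    · -- injective
      intro Q1 Q2 h
      have hcomap : ∀ Q : PrimeSpectrum (R ⧸ J),
          (Q.asIdeal.comap (Ideal.Quotient.mk J)).comap (algebraMap S R)
          = ((PrimeSpectrum.comap φ Q).asIdeal).comap (Ideal.Quotient.mk I) := by
        intro Q
        ext s
        simp only [Ideal.mem_comap, PrimeSpectrum.comap_asIdeal, hφmk]
      have hJle : ∀ Q : PrimeSpectrum (R ⧸ J), J ≤ Q.asIdeal.comap (Ideal.Quotient.mk J) := by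
        intro Q r hr
        rw [Ideal.mem_comap, Ideal.Quotient.eq_zero_iff_mem.mpr hr]
        exact zero_mem _
      have hc : (Q1.asIdeal.comap (Ideal.Quotient.mk J)).comap (algebraMap S R)
          = (Q2.asIdeal.comap (Ideal.Quotient.mk J)).comap (algebraMap S R) := by
        rw [hcomap, hcomap, h]
      have heq : Q1.asIdeal.comap (Ideal.Quotient.mk J) = Q2.asIdeal.comap (Ideal.Quotient.mk J) :=
        le_antisymm
          (hle _ _ (Ideal.comap_isPrime _ _) (Ideal.comap_isPrime _ _) (hJle Q2) (hJle Q1) hc.symm)
          (hle _ _ (Ideal.comap_isPrime _ _) (Ideal.comap_isPrime _ _) (hJle Q1) (hJle Q2) hc)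
      apply PrimeSpectrum.ext
      exact Ideal.comap_injective_of_surjective _ Ideal.Quotient.mk_surjective heq
    · -- surjective
      intro P
      have hIP : I ≤ P.asIdeal.comap (Ideal.Quotient.mk I) := by
        intro s hs
        rw [Ideal.mem_comap, Ideal.Quotient.eq_zero_iff_mem.mpr hs]
        exact zero_mem _
      obtain ⟨q, hqp, hJq, hq⟩ := hlie _ (Ideal.comap_isPrime _ _) hIP
      have hker : RingHom.ker (Ideal.Quotient.mk J) ≤ q := by
        rw [Ideal.mk_ker]; exact hJq
      have hQprime : (q.map (Ideal.Quotient.mk J)).IsPrime :=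
        Ideal.map_isPrime_of_surjective Ideal.Quotient.mk_surjective hker
      refine ⟨⟨q.map (Ideal.Quotient.mk J), hQprime⟩, ?_⟩
      apply PrimeSpectrum.ext
      apply Ideal.comap_injective_of_surjective _ (Ideal.Quotient.mk_surjective (I := I))
      ext s
      simp only [Ideal.mem_comap, PrimeSpectrum.comap_asIdeal, hφmk]
      rw [← Ideal.mem_comap, Ideal.comap_map_of_surjective _ Ideal.Quotient.mk_surjective,
        ← RingHom.ker_eq_comap_bot, sup_eq_left.mpr hker, ← Ideal.mem_comap, hq, Ideal.mem_comap]
  · intro h2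
    constructor
    · rw [injective_iff_map_eq_zero]
      intro x hx
      obtain ⟨s, rfl⟩ := Ideal.Quotient.mk_surjective x
      rw [hφmk, Ideal.Quotient.eq_zero_iff_mem] at hx
      rw [Ideal.Quotient.eq_zero_iff_mem, PrimeSpectrum.mem_vanishingIdeal]
      intro p hp
      have hIp : I ≤ p.asIdeal := by
        intro t ht
        rw [hI, PrimeSpectrum.mem_vanishingIdeal] at ht
        exact ht p hp
      obtain ⟨q, hqp, hJq, hq⟩ := hlie p.asIdeal p.2 hIp
      rw [← hq, Ideal.mem_comap]
      exact hJq hx
    · intro y
      obtain ⟨r, rfl⟩ := Ideal.Quotient.mk_surjective y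
      obtain ⟨c, hc⟩ := h2.exists_left_inv
      obtain ⟨a, ha⟩ := exists_trace lam hlam hS r
      refine ⟨Ideal.Quotient.mk I (c * a), ?_⟩
      rw [hφmk, Ideal.Quotient.eq]
      have h1 : algebraMap S R c * 2 = 1 := by
        have := congrArg (algebraMap S R) hc
        rw [map_mul, map_one, map_ofNat] at this
        exact this
      have : algebraMap S R (c * a) - r = algebraMap S R c * (lam r - r) := by
        rw [map_mul, ha]
        linear_combination r * h1
      rw [this]
      exact Ideal.mul_mem_left _ _ (hstabJ r)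

end QE9

end Groth.Agent.S15589.Aux

namespace Groth.Agent.S15589

/-- Let `R` be a commutative ring with an involution `lam` and fixed ring `S`, `W ⊆ Spec S` the branch
locus (primes `p` with `S_p ⊗_S R` not quadratic etale over `S_p`), `I` its vanishing ideal and `J =
rad(IR)`. Then `Spec(R/J) → Spec(S/I)` is a homeomorphism; if `2` is a unit of `S`, the ring map
`S/I → R/J` is moreover bijective, so the reduced preimage of the branch locus maps isomorphically
onto it. Affine-local form of the statement for a good quotient of schemes by an involution (the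
hypothesis `I ≤ J ∩ S` holds automatically and only serves to write down the map). -/
theorem result (S : Type u) (R : Type v) [CommRing S] [CommRing R]
    [Algebra S R] (lam : R ≃+* R) (hlam : Function.Involutive lam) (hS : RInv.IsFixedRing S R lam)
    (W : Set (PrimeSpectrum S))
    (hW : W = {p : PrimeSpectrum S | ¬ RInv.IsQuadEtale (Localization.AtPrime p.asIdeal) (Localization.AtPrime p.asIdeal ⊗[S] R)})
    (J : Ideal R) (hJ : J = ((PrimeSpectrum.vanishingIdeal W).map (algebraMap S R)).radical)
    (hIJ : PrimeSpectrum.vanishingIdeal W ≤ J.comap (algebraMap S R)) :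
    IsHomeomorph (PrimeSpectrum.comap (Ideal.quotientMap J (algebraMap S R) hIJ)) ∧
      (IsUnit (2 : S) → Function.Bijective (Ideal.quotientMap J (algebraMap S R) hIJ)) := by
  exact Aux.QE9.main S R lam hlam hS W hW J hJ hIJ

end Groth.Agent.S15589
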