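import Groth.Statements.S15590
import Mathlib

set_option autoImplicit false
universe u v
open CAlg

namespace Groth.Agent.S15590

open Polynomial

/- The next two lemmas are copied from `Lib/Helper6EtNormal` (helper6/helper3), to avoid its import chain. -/

/-- elementwise normality criterion -/
def NC (A : Type*) [CommRing A] : Prop :=
  ∀ (a b : A) (p : A[X]), p.Monic → b ≠ 0 → (p.scaleRoots b).eval a = 0 → b ∣ a

theorem isIntegrallyClosed_iff_nc (A : Type*) [CommRing A] [IsDomain A] :
    IsIntegrallyClosed A ↔ NC A := by
  constructor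
  · intro h a b p hp hb hab
    let Kf := FractionRing A
    have hinj : Function.Injective (algebraMap A Kf) := IsFractionRing.injective A Kf
    have hb' : algebraMap A Kf b ≠ 0 := fun h0 => hb (hinj (h0.trans (map_zero _).symm))
    have hx : IsIntegral A (algebraMap A Kf a / algebraMap A Kf b) := by
      refine ⟨p, hp, ?_⟩
      have h1 := scaleRoots_eval₂_mul (p := p) (algebraMap A Kf)
        (algebraMap A Kf a / algebraMap A Kf b) b
      rw [mul_div_cancel₀ _ hb'] at h1
      have h2 : eval₂ (algebraMap A Kf) (algebraMap A Kf a) (p.scaleRoots b) = 0 := by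
        rw [eval₂_at_apply, hab, map_zero]
      rw [h2] at h1
      exact (mul_eq_zero.mp h1.symm).resolve_left (pow_ne_zero _ hb')
    obtain ⟨y, hy⟩ := (isIntegrallyClosed_iff Kf).mp h hx
    refine ⟨y, ?_⟩
    apply hinj
    rw [map_mul, hy, mul_div_cancel₀ _ hb']
  · intro h
    rw [isIntegrallyClosed_iff (FractionRing A)]
    intro x hx
    obtain ⟨p, hp, hpx⟩ := hx
    have hinj : Function.Injective (algebraMap A (FractionRing A)) :=
      IsFractionRing.injective A (FractionRing A)
    obtain ⟨a, b, hb, rfl⟩ := IsFractionRing.div_surjective (A := A) x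
    have hb0 : b ≠ 0 := nonZeroDivisors.ne_zero hb
    have h1 := scaleRoots_eval₂_eq_zero_of_eval₂_div_eq_zero hinj hpx hb
    rw [eval₂_at_apply] at h1
    have h2 : (p.scaleRoots b).eval a = 0 := hinj (h1.trans (map_zero _).symm)
    obtain ⟨y, hy⟩ := h a b p hp hb0 h2
    refine ⟨y, ?_⟩
    have hb' : algebraMap A (FractionRing A) b ≠ 0 :=
      fun h0 => hb0 (hinj (h0.trans (map_zero _).symm))
    rw [hy, map_mul, mul_div_cancel_left₀ _ hb']

/-- normality descends along faithfully flat maps of domains -/
theorem normal_of_faithfullyFlat (A B : Type*) [CommRing A] [CommRing B] [Algebra A B]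
    [Module.FaithfullyFlat A B] (h : IsDomain B ∧ IsIntegrallyClosed B) :
    IsDomain A ∧ IsIntegrallyClosed A := by
  obtain ⟨hd, hic⟩ := h
  have hinj : Function.Injective (algebraMap A B) := FaithfulSMul.algebraMap_injective A B
  haveI : IsDomain A := Function.Injective.isDomain (algebraMap A B) hinj
  refine ⟨inferInstance, (isIntegrallyClosed_iff_nc A).mpr ?_⟩
  intro a b p hp hb hab
  have hB := (isIntegrallyClosed_iff_nc B).mp hic
  have hb' : algebraMap A B b ≠ 0 := fun h0 => hb (hinj (h0.trans (map_zero _).symm))
  have h1 : ((p.map (algebraMap A B)).scaleRoots (algebraMap A B b)).eval (algebraMap A B a)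
      = 0 := by
    rw [← map_scaleRoots p b (algebraMap A B) (by rw [hp.leadingCoeff, map_one]; exact one_ne_zero),
      eval_map, eval₂_at_apply, hab, map_zero]
  obtain ⟨y, hy⟩ := hB _ _ _ (hp.map _) hb' h1
  have hmem : algebraMap A B a ∈ (Ideal.span {b}).map (algebraMap A B) := by
    rw [Ideal.map_span, Set.image_singleton, Ideal.mem_span_singleton]
    exact ⟨y, hy⟩
  have h2 : a ∈ ((Ideal.span {b}).map (algebraMap A B)).comap (algebraMap A B) := hmem
  rw [Ideal.comap_map_eq_self_of_faithfullyFlat, Ideal.mem_span_singleton] at h2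
  exact h2

/-- Let A → B be an injective homomorphism of commutative rings which makes B a finite flat A-module,
and suppose B is a Dedekind domain (Noetherian, integrally closed, of Krull dimension at most one; a
field is allowed). Then A is a Dedekind domain. -/
theorem result (A : Type u) (B : Type v)
    [CommRing A] [CommRing B] [Algebra A B] [IsDedekindDomain B]
    (hinj : Function.Injective (algebraMap A B)) [Module.Finite A B] [Module.Flat A B] :
    IsDedekindDomain A := by
  haveI : FaithfulSMul A B := (faithfulSMul_iff_algebraMap_injective A B).mpr hinj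
  haveI : Algebra.IsIntegral A B := Algebra.IsIntegral.of_finite A B
  haveI : Module.FaithfullyFlat A B :=
    Module.FaithfullyFlat.of_comap_surjective (Algebra.IsIntegral.comap_surjective A B)
  obtain ⟨hdom, hic⟩ := normal_of_faithfullyFlat A B ⟨inferInstance, inferInstance⟩
  haveI := hdom
  haveI := hic
  -- Noetherian
  haveI hN : IsNoetherianRing A := by
    rw [isNoetherianRing_iff, isNoetherian_iff']
    have hB : WellFoundedGT (Ideal B) := (isNoetherian_iff'.mp (inferInstance : IsNoetherian B B))
    have hmono : StrictMono (Ideal.map (algebraMap A B)) :=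
      Monotone.strictMono_of_injective (fun _ _ h => Ideal.map_mono h)
        Ideal.map_injective_of_faithfullyFlat
    exact hmono.wellFoundedGT
  -- dimension ≤ 1
  haveI hD : Ring.DimensionLEOne A := by
    refine ⟨fun {p} hp hpp => ?_⟩
    haveI := hpp
    obtain ⟨Q, hQ, hQp⟩ := Ideal.exists_isPrime_liesOver_of_faithfullyFlat (B := B) p
    have hQ0 : Q ≠ ⊥ := by
      rintro rfl
      apply hp
      rw [hQp.over, Ideal.under_def, Ideal.comap_bot_of_injective _ hinj]
    haveI : Q.IsMaximal := Ring.DimensionLEOne.maximalOfPrime hQ0 hQ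
    rw [hQp.over]
    exact Ideal.isMaximal_comap_of_isIntegral_of_isMaximal Q
  exact { }

end Groth.Agent.S15590
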