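import Groth.Statements.S5355
import Mathlib
import Groth.Agent.Lib.Helper11Homog
import Groth.Agent.Lib.Helper11SchImage

set_option autoImplicit false
universe u
open CategoryTheory CategoryTheory.Limits MonoidalCategory CartesianMonoidalCategory MonObj GrpObj AlgebraicGeometry
open SGA3

namespace Groth.Agent.S5355

open Groth.Agent.Lib.Helper11Homog Groth.Agent.Lib.Helper11SchImage


/-- Let f : G → H be a homomorphism of group schemes over a field k (not assumed of finite type) which
is quasi-compact and dominant. Then (i) f is surjective; (ii) if H is reduced, f is flat (hence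
faithfully flat). -/
theorem result (k : Type u) [Field k] (G H : Over (Spec (CommRingCat.of k))) [GrpObj G] [GrpObj H]
    (f : G ⟶ H) [IsMonHom f] [QuasiCompact f.left] (hf : DenseRange f.left.base) :
    Surjective f.left ∧ (IsReduced H.left → Flat f.left) := by
  have hdom : IsDominant f.left := ⟨hf⟩
  constructor
  · -- factor through the scheme-theoretic image
    obtain ⟨i, hi⟩ : ∃ i : Over.mk (f.left.imageι ≫ H.hom) ⟶ H, i = Over.homMk f.left.imageι rfl :=
      ⟨_, rfl⟩
    obtain ⟨f', hf'⟩ : ∃ f' : G ⟶ Over.mk (f.left.imageι ≫ H.hom),
        f' = Over.homMk f.left.toImage (by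
          change f.left.toImage ≫ f.left.imageι ≫ H.hom = G.hom
          rw [Scheme.Hom.toImage_imageι_assoc, Over.w f]) := ⟨_, rfl⟩
    have hgi : f' ≫ i = f := by
      ext1
      rw [hf', hi]
      exact f.left.toImage_imageι
    have hcl : IsClosedImmersion i.left := by
      rw [hi]
      exact inferInstanceAs (IsClosedImmersion f.left.imageι)
    have hdom' : IsSchemeTheoreticallyDominant f'.left := by
      rw [hf']
      exact inferInstanceAs (IsSchemeTheoreticallyDominant f.left.toImage)
    obtain ⟨inst, h1, h2, h3⟩ := exists_grpObj_image k G H _ f i f' hgi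
    have hisurj : Surjective i.left := by
      rw [hi]
      refine ⟨fun y => ?_⟩
      have hr : Set.range f.left.imageι = Set.univ := by
        change Set.range f.left.ker.subschemeι = Set.univ
        rw [Scheme.IdealSheafData.range_subschemeι, Scheme.Hom.support_ker]
        exact hf.closure_range
      have : y ∈ Set.range f.left.imageι := by rw [hr]; trivial
      exact this
    rw [← hgi, Over.comp_left]
    infer_instance
  · intro hred
    have hsd : IsSchemeTheoreticallyDominant f.left := IsSchemeTheoreticallyDominant.of_isDominant _
    -- a maximal point of `H`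
    have hne : Nonempty ↥(Spec (CommRingCat.of k)) := inferInstance
    obtain ⟨y₀, hy₀, -⟩ := exists_isMaxPt_specializes H.left (η[H].left hne.some)
    obtain ⟨ξ, hξ⟩ := mem_range_of_isMaxPt f.left y₀ hy₀
    have hfld : IsField (H.left.presheaf.stalk (f.left ξ)) := by
      rw [hξ]
      exact isField_stalk_of_isMaxPt H.left y₀ hy₀
    have hflat : (f.left.stalkMap ξ).hom.Flat := flat_of_isField_source _ hfld
    have hGflat : Flat G.hom := inferInstance
    have ha : Flat ((fst G H ≫ f) * snd G H).left := by
      apply flat_of_shear ((fst G H ≫ f) * snd G H) ((fst G H ≫ f)⁻¹ * snd G H)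
      · rw [MonObj.comp_mul, GrpObj.comp_inv, lift_fst_assoc, lift_snd]
        group
      · rw [MonObj.comp_mul, lift_fst_assoc, lift_snd]
        group
    refine flat_of_stalkMap_flat (fun s t => Subsingleton.elim s t) G H f
      ((fst G H ≫ f) * snd G H) ha ?_ ξ hflat
    rw [MonObj.comp_mul, whiskerLeft_fst_assoc, whiskerLeft_snd, MonObj.mul_eq_mul,
      MonObj.mul_comp]

end Groth.Agent.S5355
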