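import Groth.Statements.S15595
import Groth.Agent.Lib.Helper28FlatNormal
import Groth.Agent.Lib.Helper28RegLoc
-- import your own Groth.Agent.* helpers here

set_option autoImplicit false
universe u
open TensorProduct
attribute [local instance] RingHom.ker_isPrime
open CAlg

namespace Groth.Agent.S15595

/-- Let k ⊆ K be a field extension and A a Noetherian local k-algebra with residue field k, recorded by
a k-algebra map π : A → k whose kernel is the maximal ideal. Let π_K : K ⊗_k A → K be the induced
K-algebra map, m' its kernel, and A' the localization of K ⊗_k A at m'. Assume A' is Noetherian.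
Then A is a regular local ring if and only if A' is a regular local ring. -/
theorem result (k K A : Type u) [Field k] [Field K]
    [Algebra k K] [CommRing A] [Algebra k A] [IsLocalRing A] [IsNoetherianRing A]
    (π : A →ₐ[k] k) (hπ : RingHom.ker π = IsLocalRing.maximalIdeal A)
    [IsNoetherianRing (Localization.AtPrime (RingHom.ker
      ((Algebra.TensorProduct.rid k K K).toAlgHom.comp (Algebra.TensorProduct.map (AlgHom.id K K) π))))] :
    IsRegularLocalRing A ↔ IsRegularLocalRing (Localization.AtPrime (RingHom.ker
      ((Algebra.TensorProduct.rid k K K).toAlgHom.comp (Algebra.TensorProduct.map (AlgHom.id K K) π)))) := by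
  have hπs : Function.Surjective π := by
    intro c
    exact ⟨algebraMap k A c, by simp⟩
  set φ : K ⊗[k] A →ₐ[K] K :=
    (Algebra.TensorProduct.rid k K K).toAlgHom.comp (Algebra.TensorProduct.map (AlgHom.id K K) π)
    with hφ
  have hker : RingHom.ker φ =
      (IsLocalRing.maximalIdeal A).map
        (Algebra.TensorProduct.includeRight : A →ₐ[k] K ⊗[k] A) := by
    rw [← hπ, ← Algebra.TensorProduct.lTensor_ker (A := K) π hπs]
    ext x
    simp only [RingHom.mem_ker, hφ]
    change (Algebra.TensorProduct.rid k K K) _ = 0 ↔ _
    rw [EmbeddingLike.map_eq_zero_iff]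
    rfl
  set m' := RingHom.ker φ with hm'
  set A' := Localization.AtPrime m' with hA'
  -- `A`-algebra structure on `A'`
  let _ : Algebra A (K ⊗[k] A) := Algebra.TensorProduct.rightAlgebra
  have htower : IsScalarTower A (K ⊗[k] A) A' := inferInstance
  have hflat1 : Module.Flat A (K ⊗[k] A) := by
    let e : A ⊗[k] K ≃ₐ[A] K ⊗[k] A :=
      AlgEquiv.ofRingEquiv (f := (Algebra.TensorProduct.comm k A K).toRingEquiv) (by
        intro a
        rfl)
    exact Module.Flat.of_linearEquiv e.symm.toLinearEquiv
  have hflat2 : Module.Flat (K ⊗[k] A) A' := IsLocalization.flat A' m'.primeCompl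
  have hflat : Module.Flat A A' := Module.Flat.trans A (K ⊗[k] A) A'
  have hmax : (IsLocalRing.maximalIdeal A).map (algebraMap A A') = IsLocalRing.maximalIdeal A' := by
    rw [← IsLocalization.AtPrime.map_eq_maximalIdeal m' A']
    have h1 := congrArg (Ideal.map (algebraMap (K ⊗[k] A) A')) hker
    rw [h1, IsScalarTower.algebraMap_eq A (K ⊗[k] A) A', ← Ideal.map_map]
    rfl
  have hloc : IsLocalHom (algebraMap A A') := by
    apply ((IsLocalRing.local_hom_TFAE (algebraMap A A')).out 0 2).mpr
    exact hmax.le
  constructor
  · intro hreg
    let _ : Field (A' ⧸ IsLocalRing.maximalIdeal A') := Ideal.Quotient.field _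
    have : IsRegularLocalRing (A' ⧸ IsLocalRing.maximalIdeal A') := inferInstance
    exact Groth.Agent.Lib.Helper28.isRegularLocalRing_of_flat_of_isRegularLocalRing_fibre
      (R := A) (S := A') (IsLocalRing.maximalIdeal A') hmax.symm
  · intro hreg
    exact Groth.Agent.Lib.Helper28.isRegularLocalRing_of_flat_of_isLocalHom A A'

end Groth.Agent.S15595
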