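import Groth.Statements.S15596
import Mathlib

set_option autoImplicit false
universe u
open CategoryTheory MonoidalCategory CartesianMonoidalCategory MonObj GrpObj AlgebraicGeometry
open AlgGrp

namespace Groth.Agent.S15596


/-- Let k be an algebraically closed field, H a smooth k-group scheme of finite type, and U a dense open
subset of H. Then every k-rational point h of H is of the form u₂ · u₁⁻¹ for k-rational points u₁,
u₂ of H whose underlying points lie in U. -/
theorem result (k : Type u) [Field k] [IsAlgClosed k]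
    (H : Over (Spec (CommRingCat.of k))) [GrpObj H] [Smooth H.hom] [QuasiCompact H.hom]
    (U : H.left.Opens) (hU : Dense (U : Set ↥H.left)) (h : 𝟙_ (Over (Spec (CommRingCat.of k))) ⟶ H) :
    ∃ u₁ u₂ : 𝟙_ (Over (Spec (CommRingCat.of k))) ⟶ H,
      u₁.left.base (IsLocalRing.closedPoint k) ∈ U ∧ u₂.left.base (IsLocalRing.closedPoint k) ∈ U ∧
        h = u₂ * u₁⁻¹ := by
  -- left translation by `h`
  have hLp : ∀ (g : 𝟙_ (Over (Spec (CommRingCat.of k))) ⟶ H) {T : Over (Spec (CommRingCat.of k))}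
      (x : T ⟶ H), x ≫ lift (toUnit H ≫ g) (𝟙 H) ≫ μ[H] = (toUnit T ≫ g) * x := by
    intro g T x
    rw [← Category.assoc, comp_lift, MonObj.mul_eq_mul, MonObj.comp_mul, lift_fst, lift_snd,
      Category.comp_id, ← Category.assoc]
    congr 2
    exact toUnit_unique _ _
  obtain ⟨L, hL⟩ : ∃ L : H ⟶ H, L = lift (toUnit H ≫ h) (𝟙 H) ≫ μ[H] := ⟨_, rfl⟩
  obtain ⟨L', hL'⟩ : ∃ L' : H ⟶ H, L' = lift (toUnit H ≫ h⁻¹) (𝟙 H) ≫ μ[H] := ⟨_, rfl⟩
  have hLx : ∀ {T : Over (Spec (CommRingCat.of k))} (x : T ⟶ H), x ≫ L = (toUnit T ≫ h) * x := by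
    intro T x; rw [hL]; exact hLp h x
  have hL'x : ∀ {T : Over (Spec (CommRingCat.of k))} (x : T ⟶ H),
      x ≫ L' = (toUnit T ≫ h)⁻¹ * x := by
    intro T x; rw [hL', hLp h⁻¹ x, GrpObj.comp_inv]
  have h1 : L ≫ L' = 𝟙 H := by
    rw [hL'x, ← Category.id_comp L, hLx, inv_mul_cancel_left]
  have h2 : L' ≫ L = 𝟙 H := by
    rw [hLx, ← Category.id_comp L', hL'x, mul_inv_cancel_left]
  have hiso : IsIso L.left := by
    refine ⟨L'.left, ?_, ?_⟩
    · rw [← Over.comp_left, h1]; rfl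
    · rw [← Over.comp_left, h2]; rfl
  have hopen : IsOpenMap L.left.base := L.left.isOpenEmbedding.isOpenMap
  have hdense : Dense ((U : Set ↥H.left) ∩ L.left.base ⁻¹' (U : Set ↥H.left)) :=
    hU.inter_of_isOpen_left (hU.preimage hopen) U.isOpen
  have hne : Nonempty ↥H.left := ⟨h.left.base (IsLocalRing.closedPoint k)⟩
  have hjac : JacobsonSpace ↥H.left := LocallyOfFiniteType.jacobsonSpace H.hom
  have hlc : IsLocallyClosed ((U : Set ↥H.left) ∩ L.left.base ⁻¹' (U : Set ↥H.left)) :=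
    (U.isOpen.inter (U.isOpen.preimage L.left.base.hom.continuous)).isLocallyClosed
  obtain ⟨x, ⟨hxU, hxL⟩, hx⟩ := nonempty_inter_closedPoints hdense.nonempty hlc
  have hxc : IsClosed ({x} : Set ↥H.left) := hx
  obtain ⟨u₁, hu₁⟩ : ∃ u₁ : 𝟙_ (Over (Spec (CommRingCat.of k))) ⟶ H,
      u₁ = Over.homMk (pointOfClosedPoint H.hom x hxc) (pointOfClosedPoint_comp H.hom x hxc) :=
    ⟨_, rfl⟩
  have hu₁x : u₁.left.base (IsLocalRing.closedPoint k) = x := by
    rw [hu₁]
    exact pointOfClosedPoint_apply H.hom x hxc _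
  refine ⟨u₁, h * u₁, ?_, ?_, ?_⟩
  · rw [hu₁x]; exact hxU
  · have e : h * u₁ = u₁ ≫ L := by
      rw [hLx, toUnit_unique (toUnit _) (𝟙 _), Category.id_comp]
    rw [e, Over.comp_left, Scheme.Hom.comp_base, TopCat.coe_comp, Function.comp_apply, hu₁x]
    exact hxL
  · rw [mul_inv_cancel_right]

end Groth.Agent.S15596
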