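import Groth.Statements.S15598
import Mathlib
import Groth.Agent.Lib.Helper11Orbit
import Groth.Agent.Lib.Helper6SmGeom

set_option autoImplicit false
universe u
open CategoryTheory MonoidalCategory CartesianMonoidalCategory MonObj GrpObj AlgebraicGeometry
open AlgGrp

namespace Groth.Agent.S15598

open Groth.Agent.Lib.Helper11Orbit


/-- Let k be an algebraically closed field, G a k-group scheme of finite type, and X a smooth connected
k-scheme with an action of G. Suppose that for some k-point x₀ of X the orbit map g ↦ g · x₀ from G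
to X is surjective, and that the stabilizer of x₀, a subgroup scheme H ⟶ G whose points are exactly
the points g of G with g · x₀ = x₀, is connected. Then G is connected. (Stated over an algebraically
closed field, to which the general case reduces since a k-group scheme of finite type is connected
exactly when it is geometrically connected.) -/
theorem result (k : Type u) [Field k] [IsAlgClosed k]
    (G X : Over (Spec (CommRingCat.of k))) [GrpObj G] [LocallyOfFiniteType G.hom] [QuasiCompact G.hom]
    [Smooth X.hom] [ConnectedSpace ↥X.left] (a : AlgGrp.Action G X) (x₀ : 𝟙_ (Over (Spec (CommRingCat.of k))) ⟶ X)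
    (hsurj : Surjective (a.orbitMap x₀).left)
    (H : Over (Spec (CommRingCat.of k))) [GrpObj H] (i : H ⟶ G) [IsMonHom i] [Mono i]
    (hH : ∀ (T : Over (Spec (CommRingCat.of k))) (g : T ⟶ G), (∃ h : T ⟶ H, h ≫ i = g) ↔ g ≫ a.orbitMap x₀ = toUnit T ≫ x₀)
    [ConnectedSpace ↥H.left] : ConnectedSpace ↥G.left := by
  have hred : IsReduced X.left :=
    Groth.Agent.Lib.Helper6.SmGeom.isReduced_of_smooth_over_field k X.left X.hom
  have hflat : Flat (a.orbitMap x₀).left := flat_orbitMap_of_surjective k a x₀ hsurj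
  have hnX : IsLocallyNoetherian X.left := LocallyOfFiniteType.isLocallyNoetherian X.hom
  have hlft : LocallyOfFiniteType (a.orbitMap x₀).left := by
    have : LocallyOfFiniteType ((a.orbitMap x₀).left ≫ X.hom) := by
      rw [Over.w]; infer_instance
    exact locallyOfFiniteType_of_comp (a.orbitMap x₀).left X.hom
  have hlfp : LocallyOfFinitePresentation (a.orbitMap x₀).left := inferInstance
  have hopen : IsOpenMap (a.orbitMap x₀).left := (a.orbitMap x₀).left.isOpenMap
  have hjac : JacobsonSpace ↥X.left := LocallyOfFiniteType.jacobsonSpace X.hom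
  have hjacG : JacobsonSpace ↥G.left := LocallyOfFiniteType.jacobsonSpace G.hom
  have hne : Nonempty ↥(Spec (CommRingCat.of k)) := inferInstance
  obtain ⟨pt⟩ := hne
  have hneG : Nonempty ↥G.left := ⟨η[G].left pt⟩
  have hpre : PreconnectedSpace ↥G.left := by
    rw [preconnectedSpace_iff_clopen]
    intro s hs
    by_contra hcon
    rw [not_or] at hcon
    obtain ⟨hs1, hs2⟩ := hcon
    have hs1' : s.Nonempty := Set.nonempty_iff_ne_empty.mpr hs1
    have hs2' : sᶜ.Nonempty := Set.nonempty_compl.mpr hs2
    -- the images of `s` and `sᶜ` are open and cover `X`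
    have ho1 : IsOpen ((a.orbitMap x₀).left '' s) := hopen s hs.isOpen
    have ho2 : IsOpen ((a.orbitMap x₀).left '' sᶜ) := hopen sᶜ hs.compl.isOpen
    have hcov : (Set.univ : Set ↥X.left) ⊆ (a.orbitMap x₀).left '' s ∪ (a.orbitMap x₀).left '' sᶜ := by
      intro x _
      obtain ⟨g, rfl⟩ := (a.orbitMap x₀).left.surjective x
      by_cases hg : g ∈ s
      · exact Or.inl ⟨g, hg, rfl⟩
      · exact Or.inr ⟨g, hg, rfl⟩
    have hint := isPreconnected_univ (α := ↥X.left) _ _ ho1 ho2 hcov
      (by rw [Set.univ_inter]; exact hs1'.image _) (by rw [Set.univ_inter]; exact hs2'.image _)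
    rw [Set.univ_inter] at hint
    -- a closed point in the intersection
    obtain ⟨x, ⟨⟨g₁, hg₁, hg₁x⟩, ⟨g₂, hg₂, hg₂x⟩⟩, hxc⟩ :=
      nonempty_inter_closedPoints hint (ho1.inter ho2).isLocallyClosed
    -- a rational point of `G` over `x`
    have hfib : ((a.orbitMap x₀).left ⁻¹' {x}).Nonempty := ⟨g₁, hg₁x⟩
    have hfibc : IsClosed ((a.orbitMap x₀).left ⁻¹' {x}) :=
      IsClosed.preimage (a.orbitMap x₀).left.continuous hxc
    obtain ⟨g₀, hg₀x, hg₀c⟩ := nonempty_inter_closedPoints hfib hfibc.isLocallyClosed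
    obtain ⟨c₀, hc₀⟩ : ∃ c₀ : 𝟙_ (Over (Spec (CommRingCat.of k))) ⟶ G,
        c₀ = Over.homMk (pointOfClosedPoint G.hom g₀ hg₀c) (pointOfClosedPoint_comp G.hom g₀ hg₀c) :=
      ⟨_, rfl⟩
    have hc₀pt : c₀.left pt = g₀ := by
      rw [hc₀]
      exact pointOfClosedPoint_apply G.hom g₀ hg₀c pt
    have hc₀x : (c₀ ≫ a.orbitMap x₀).left pt = x := by
      rw [Over.comp_left, Scheme.Hom.comp_apply, hc₀pt]
      exact hg₀x
    -- the translate of `H` is connected and contains `g₁`, `g₂`
    have hm₁ := mem_range_translate_stabilizer a x₀ i hH c₀ g₁ pt (by rw [hg₁x, hc₀x])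
    have hm₂ := mem_range_translate_stabilizer a x₀ i hH c₀ g₂ pt (by rw [hg₂x, hc₀x])
    have hconn : _root_.IsPreconnected (Set.range ((toUnit H ≫ c₀) * i).left) :=
      (isConnected_range ((toUnit H ≫ c₀) * i).left.continuous).isPreconnected
    have := hconn s sᶜ hs.isOpen hs.compl.isOpen (by rw [Set.union_compl_self]; exact Set.subset_univ _)
      ⟨g₁, hm₁, hg₁⟩ ⟨g₂, hm₂, hg₂⟩
    obtain ⟨z, -, hz1, hz2⟩ := this
    exact hz2 hz1
  exact { toPreconnectedSpace := hpre, toNonempty := hneG }

end Groth.Agent.S15598
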