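import Groth.Statements.S15603
import Mathlib
import Groth.Agent.Lib.Helper11GrpLawM

set_option autoImplicit false
universe u
open CategoryTheory MonoidalCategory CartesianMonoidalCategory MonObj GrpObj AlgebraicGeometry
open AlgGrp

namespace Groth.Agent.S15603

open Groth.Agent.Lib.Helper11GrpLawM Groth.Agent.Lib.Helper27.GaGm


/-- Multiplicative case. Let k be a field and consider the affine line minus the origin over k, taken
here as the underlying k-scheme of the multiplicative group. Any two structures of k-group scheme on
it with the same unit section have the same multiplication; in particular a group law on the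
punctured line whose identity is the point 1 is the usual multiplication. -/
theorem result (k : Type u) [Field k]
    (h₁ h₂ : GrpObj (Red.Gm (Spec (CommRingCat.of k)))) (e : h₁.one = h₂.one) : h₁.mul = h₂.mul := by
  obtain ⟨c, hc⟩ : ∃ c : CoordU (Red.Gm (Spec (CommRingCat.of k))), c =
      ⟨fun X => gmEquiv X, fun g x => gmFn_comp g x⟩ := ⟨_, rfl⟩
  have key : ∀ h : GrpObj (Red.Gm (Spec (CommRingCat.of k))),
      c.E _ h.mul = c.E _ (fst _ _) * c.E _ (snd _ _) * (c.E _ (toUnit _ ≫ h.one))⁻¹ := by
    intro h
    have h3 := @CoordU.mul_formula k _ _ c h _ (fst _ _) (snd _ _)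
    rw [← @MonObj.mul_eq_mul _ _ _ _ h.toMonObj] at h3
    exact h3
  apply (c.E _).injective
  rw [key h₁, key h₂, e]

end Groth.Agent.S15603
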