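import Groth.Statements.S15604
import Mathlib
import Groth.Agent.Lib.Helper11SchImage
import Groth.Agent.Lib.Helper6SmGeom

set_option autoImplicit false
universe u
open CategoryTheory MonoidalCategory CartesianMonoidalCategory MonObj GrpObj AlgebraicGeometry
open AlgGrp

namespace Groth.Agent.S15604

open Groth.Agent.Lib.Helper11SchImage Limits

theorem ker_eq_of_isReduced {Z X : Scheme.{u}} (i : Z ⟶ X) [IsReduced Z] :
    i.ker = Scheme.IdealSheafData.vanishingIdeal (.closure (Set.range i)) := by
  rw [← Scheme.IdealSheafData.map_bot, ← Scheme.nilradical_eq_bot,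
    ← Scheme.IdealSheafData.vanishingIdeal_top, Scheme.IdealSheafData.map_vanishingIdeal]
  congr 2
  simp

theorem geometricallyReduced_of_dominant {k : Type u} [Field k] {G K : Scheme.{u}}
    (g : G ⟶ K) (q : K ⟶ Spec (CommRingCat.of k)) [QuasiCompact g] [IsSchemeTheoreticallyDominant g]
    [Smooth (g ≫ q)] : GeometricallyReduced q := by
  constructor
  intro K' _ y Z fst snd h
  have hflaty : Flat y := inferInstance
  have hflat : Flat fst := MorphismProperty.of_isPullback (P := @Flat) h.flip hflaty
  have hdom : IsSchemeTheoreticallyDominant (pullback.snd g fst) := inferInstance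
  have hqc : QuasiCompact (pullback.snd g fst) := inferInstance
  have hpb : IsPullback (pullback.fst g fst) (pullback.snd g fst ≫ snd) (g ≫ q) y :=
    (IsPullback.of_hasPullback g fst).paste_vert h
  have hsm : Smooth (pullback.snd g fst ≫ snd) :=
    MorphismProperty.of_isPullback (P := @Smooth) hpb inferInstance
  have hred : IsReduced (pullback g fst) :=
    Groth.Agent.Lib.Helper6.SmGeom.isReduced_of_smooth_over_field K' _ (pullback.snd g fst ≫ snd)
  exact IsSchemeTheoreticallyDominant.isReduced (pullback.snd g fst)


/-- Let k be a field and f : G ⟶ G' a homomorphism of k-group schemes of finite type, with G smooth over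
k. The image of f is closed (not asserted here); with its reduced induced structure it is smooth
over k: every reduced closed subscheme H of G' whose underlying set is the set-theoretic image of f
is smooth over k. -/
theorem result (k : Type u) [Field k]
    (G G' : Over (Spec (CommRingCat.of k))) [GrpObj G] [GrpObj G'] [Smooth G.hom] [QuasiCompact G.hom]
    [LocallyOfFiniteType G'.hom] [QuasiCompact G'.hom] (f : G ⟶ G') [IsMonHom f]
    (H : Scheme.{u}) (i : H ⟶ G'.left) [IsClosedImmersion i] [IsReduced H]
    (hH : Set.range i.base = Set.range f.left.base) : Smooth (i ≫ G'.hom) := by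
  have hc : CompactSpace ↥G.left := QuasiCompact.compactSpace_of_compactSpace G.hom
  have hn : IsLocallyNoetherian G'.left := LocallyOfFiniteType.isLocallyNoetherian G'.hom
  have hqs : QuasiSeparatedSpace ↥G'.left := inferInstance
  have hqc : QuasiCompact f.left := inferInstance
  obtain ⟨j, hj⟩ : ∃ j : Over.mk (f.left.imageι ≫ G'.hom) ⟶ G', j = Over.homMk f.left.imageι rfl :=
    ⟨_, rfl⟩
  obtain ⟨f', hf'⟩ : ∃ f' : G ⟶ Over.mk (f.left.imageι ≫ G'.hom),
      f' = Over.homMk f.left.toImage (by
        change f.left.toImage ≫ f.left.imageι ≫ G'.hom = G.hom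
        rw [Scheme.Hom.toImage_imageι_assoc, Over.w f]) := ⟨_, rfl⟩
  have hgi : f' ≫ j = f := by
    ext1
    rw [hf', hj]
    exact f.left.toImage_imageι
  have hjl : j.left = f.left.imageι := by rw [hj]; rfl
  have hcl : IsClosedImmersion j.left := by
    rw [hjl]
    exact inferInstanceAs (IsClosedImmersion f.left.imageι)
  have hdom : IsSchemeTheoreticallyDominant f'.left := by
    rw [hf']
    exact inferInstanceAs (IsSchemeTheoreticallyDominant f.left.toImage)
  have hqc' : QuasiCompact f'.left := by
    rw [hf']
    exact inferInstanceAs (QuasiCompact f.left.toImage)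
  obtain ⟨inst, h1, h2, h3⟩ := exists_grpObj_image k G G' _ f j f' hgi
  -- the image is smooth
  have hsmG : Smooth (f'.left ≫ (Over.mk (f.left.imageι ≫ G'.hom)).hom) := by
    rw [Over.w f']; infer_instance
  have hgr : GeometricallyReduced (Over.mk (f.left.imageι ≫ G'.hom)).hom :=
    geometricallyReduced_of_dominant f'.left _
  have hlft : LocallyOfFiniteType (Over.mk (f.left.imageι ≫ G'.hom)).hom := by
    change LocallyOfFiniteType (f.left.imageι ≫ G'.hom)
    infer_instance
  have hsmK : Smooth (Over.mk (f.left.imageι ≫ G'.hom)).hom :=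
    @smooth_of_grpObj k _ _ (Over.mk (f.left.imageι ≫ G'.hom)).hom hlft inst hgr
  -- compare with `H`
  have hredG : IsReduced G.left :=
    Groth.Agent.Lib.Helper6.SmGeom.isReduced_of_smooth_over_field k G.left G.hom
  have hredK : IsReduced (Over.mk (f.left.imageι ≫ G'.hom)).left :=
    IsSchemeTheoreticallyDominant.isReduced f'.left
  have hrange : Set.range j.left = Set.range i := by
    have e1 : Set.range f.left = Set.range j.left := by
      have e0 : f.left = f'.left ≫ j.left := by rw [← Over.comp_left, hgi]
      conv_lhs => rw [e0]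
      rw [Scheme.Hom.comp_base, TopCat.coe_comp, Set.range_comp,
        f'.left.surjective.range_eq, Set.image_univ]
    rw [← e1]
    exact hH.symm
  have hker : j.left.ker = i.ker := by
    rw [ker_eq_of_isReduced j.left, ker_eq_of_isReduced i, hrange]
  have hiso : IsIso (IsClosedImmersion.lift j.left i hker.le) :=
    IsClosedImmersion.isIso_lift j.left i hker
  have hfac : IsClosedImmersion.lift j.left i hker.le ≫ j.left = i :=
    IsClosedImmersion.lift_fac j.left i hker.le
  have hK : j.left ≫ G'.hom = (Over.mk (f.left.imageι ≫ G'.hom)).hom := Over.w j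
  rw [← hfac, Category.assoc, hK]
  infer_instance

end Groth.Agent.S15604
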