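import Groth.Statements.S15605
import Mathlib
-- import your own Groth.Agent.* helpers here

set_option autoImplicit false
universe u
open TensorProduct
open AGF

namespace Groth.Agent.S15605

/-- Affine form. Let k be a field, A and A' finitely generated commutative k-algebras and S, S' sets of
k-algebra homomorphisms A → k, A' → k. The closure of a set of rational points of Spec A is cut out
by the intersection of their kernels. Compatibility of these closures with products: in A ⊗_k A',
the intersection over (σ, σ') ∈ S × S' of the kernels of σ ⊗ σ' : A ⊗_k A' → k equals the ideal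
generated by the images of ⋂_{σ} ker σ and of ⋂_{σ'} ker σ'. -/
theorem result (k A A' : Type u) [Field k] [CommRing A] [Algebra k A]
    [Algebra.FiniteType k A] [CommRing A'] [Algebra k A'] [Algebra.FiniteType k A']
    (S : Set (A →ₐ[k] k)) (S' : Set (A' →ₐ[k] k)) :
    (⨅ σ ∈ S, ⨅ σ' ∈ S', RingHom.ker ((Algebra.TensorProduct.lmul' (S := k) k).comp
        (Algebra.TensorProduct.map σ σ'))) =
      Ideal.map (Algebra.TensorProduct.includeLeft : A →ₐ[k] A ⊗[k] A') (⨅ σ ∈ S, RingHom.ker σ) ⊔
        Ideal.map (Algebra.TensorProduct.includeRight : A' →ₐ[k] A ⊗[k] A') (⨅ σ' ∈ S', RingHom.ker σ') := by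
  classical
  set I : Ideal A := ⨅ σ ∈ S, RingHom.ker σ with hI
  set I' : Ideal A' := ⨅ σ' ∈ S', RingHom.ker σ' with hI'
  have hIσ : ∀ σ ∈ S, ∀ a ∈ I, σ a = 0 := by
    intro σ hσ a ha
    rw [hI] at ha
    simp only [Ideal.mem_iInf, RingHom.mem_ker] at ha
    exact ha σ hσ
  have hIσ' : ∀ σ' ∈ S', ∀ a ∈ I', σ' a = 0 := by
    intro σ hσ a ha
    rw [hI'] at ha
    simp only [Ideal.mem_iInf, RingHom.mem_ker] at ha
    exact ha σ hσ
  apply le_antisymm
  · -- the hard inclusion
    let q : A →ₐ[k] A ⧸ I := Ideal.Quotient.mkₐ k I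
    let q' : A' →ₐ[k] A' ⧸ I' := Ideal.Quotient.mkₐ k I'
    have hq : Function.Surjective q := Ideal.Quotient.mkₐ_surjective k I
    have hq' : Function.Surjective q' := Ideal.Quotient.mkₐ_surjective k I'
    have hker := Algebra.TensorProduct.map_ker q q' hq hq'
    have hkq : RingHom.ker q = I := Ideal.Quotient.mkₐ_ker k I
    have hkq' : RingHom.ker q' = I' := Ideal.Quotient.mkₐ_ker k I'
    rw [hkq, hkq'] at hker
    rw [← hker]
    intro z hz
    simp only [Ideal.mem_iInf, RingHom.mem_ker] at hz
    rw [RingHom.mem_ker]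
    -- descended characters
    let σb : ∀ σ : A →ₐ[k] k, σ ∈ S → (A ⧸ I →ₐ[k] k) := fun σ hσ =>
      Ideal.Quotient.liftₐ I σ (fun a ha => hIσ σ hσ a ha)
    let σb' : ∀ σ' : A' →ₐ[k] k, σ' ∈ S' → (A' ⧸ I' →ₐ[k] k) := fun σ' hσ' =>
      Ideal.Quotient.liftₐ I' σ' (fun a ha => hIσ' σ' hσ' a ha)
    have hsep : ∀ x : A ⧸ I, (∀ σ (hσ : σ ∈ S), σb σ hσ x = 0) → x = 0 := by
      intro x hx
      obtain ⟨a, rfl⟩ := hq x
      have : a ∈ I := by
        rw [hI]
        simp only [Ideal.mem_iInf, RingHom.mem_ker]
        intro σ hσ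
        have := hx σ hσ
        simpa [σb, q] using this
      exact Ideal.Quotient.eq_zero_iff_mem.mpr this
    have hsep' : ∀ x : A' ⧸ I', (∀ σ' (hσ' : σ' ∈ S'), σb' σ' hσ' x = 0) → x = 0 := by
      intro x hx
      obtain ⟨a, rfl⟩ := hq' x
      have : a ∈ I' := by
        rw [hI']
        simp only [Ideal.mem_iInf, RingHom.mem_ker]
        intro σ hσ
        have := hx σ hσ
        simpa [σb', q'] using this
      exact Ideal.Quotient.eq_zero_iff_mem.mpr this
    -- factorisation of the characters through the quotient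
    have hfac : ∀ σ (hσ : σ ∈ S) σ' (hσ' : σ' ∈ S'),
        ((Algebra.TensorProduct.lmul' (S := k) k).comp
          (Algebra.TensorProduct.map (σb σ hσ) (σb' σ' hσ')))
          (Algebra.TensorProduct.map q q' z) = 0 := by
      intro σ hσ σ' hσ'
      have h1 := hz σ hσ σ' hσ'
      have h2 : ((Algebra.TensorProduct.lmul' (S := k) k).comp
          (Algebra.TensorProduct.map (σb σ hσ) (σb' σ' hσ'))).comp
          (Algebra.TensorProduct.map q q') =
          (Algebra.TensorProduct.lmul' (S := k) k).comp (Algebra.TensorProduct.map σ σ') := by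
        apply Algebra.TensorProduct.ext'
        intro a b
        simp [σb, σb', q, q']
      have h3 := DFunLike.congr_fun h2 z
      rw [AlgHom.comp_apply] at h3
      rw [h3]
      exact h1
    set w := Algebra.TensorProduct.map q q' z with hw
    let ℬ := Module.Basis.ofVectorSpace k (A ⧸ I)
    obtain ⟨c, hc⟩ := TensorProduct.eq_repr_basis_left ℬ w
    have hc0 : c = 0 := by
      ext i
      apply hsep'
      intro σ' hσ'
      -- the element of `A ⧸ I` obtained by applying `σ'` to the coefficients
      have hu : Finsupp.linearCombination k ℬ (c.mapRange (σb' σ' hσ') (map_zero _)) = 0 := by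
        apply hsep
        intro σ hσ
        have h1 := hfac σ hσ σ' hσ'
        rw [← hc] at h1
        rw [Finsupp.sum, map_sum] at h1
        rw [Finsupp.linearCombination_apply, Finsupp.sum_mapRange_index (by intro i; simp),
          Finsupp.sum, map_sum]
        rw [← h1]
        refine Finset.sum_congr rfl (fun j _ => ?_)
        simp [mul_comm]
      have h3 := (linearIndependent_iff.mp ℬ.linearIndependent) _ hu
      have h4 := DFunLike.congr_fun h3 i
      simpa using h4
    rw [← hc, hc0]
    simp
  · refine sup_le ?_ ?_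
    · rw [Ideal.map_le_iff_le_comap]
      intro a ha
      rw [Ideal.mem_comap]
      simp only [Ideal.mem_iInf, RingHom.mem_ker]
      intro σ hσ σ' hσ'
      simp [hIσ σ hσ a ha]
    · rw [Ideal.map_le_iff_le_comap]
      intro a ha
      rw [Ideal.mem_comap]
      simp only [Ideal.mem_iInf, RingHom.mem_ker]
      intro σ hσ σ' hσ'
      simp [hIσ' σ' hσ' a ha]

end Groth.Agent.S15605
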