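import Groth.Statements.S15608
import Mathlib
import Groth.Agent.Lib.Helper11RedCl
import Groth.Agent.Lib.Helper11SubGrp

set_option autoImplicit false
universe u
open CategoryTheory MonoidalCategory CartesianMonoidalCategory MonObj GrpObj AlgebraicGeometry
open AlgGrp

namespace Groth.Agent.S15608

open Groth.Agent.Lib.Helper11RedCl Groth.Agent.Lib.Helper11SubGrp TopologicalSpace

theorem exists_redSub {X : Scheme.{u}} (Z : Closeds X) :
    ∃ (Hs : Scheme.{u}) (j : Hs ⟶ X), IsClosedImmersion j ∧ IsReduced Hs ∧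
      Set.range j.base = (Z : Set X) ∧
      (∀ (T : Scheme.{u}) (_ : IsReduced T) (x : T ⟶ X), Set.range x.base ⊆ (Z : Set X) →
        ∃ l : T ⟶ Hs, l ≫ j = x) ∧
      (∀ (W : Scheme.{u}) (w : W ⟶ X) (_ : IsClosedImmersion w), (Z : Set X) ⊆ Set.range w.base →
        ∃ l : Hs ⟶ W, l ≫ w = j) := by
  refine ⟨_, (Scheme.IdealSheafData.vanishingIdeal Z).subschemeι, inferInstance, inferInstance,
    range_subschemeι_vanishingIdeal Z, ?_, ?_⟩
  · intro T _ x hx
    exact exists_lift_of_range_subset x Z hx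
  · intro W w _ hw
    exact exists_lift_of_subset_range w Z hw


/-- Let k be a field, G a smooth k-group scheme of finite type and Σ a subgroup of the abstract group
G(k) of k-rational points. Then the Zariski closure of Σ in G, with its reduced structure, is a
smooth closed k-subgroup: there are a smooth k-group scheme H and a homomorphism H ⟶ G which is a
closed immersion whose image is the closure of the set of points of G underlying the elements of Σ.
(The published statement also asserts that forming this closure commutes with extension of the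
ground field; that clause is not stated here, its affine form being stated separately.) -/
theorem result (k : Type u) [Field k]
    (G : Over (Spec (CommRingCat.of k))) [GrpObj G] [Smooth G.hom] [QuasiCompact G.hom]
    (S : Subgroup (𝟙_ (Over (Spec (CommRingCat.of k))) ⟶ G)) :
    ∃ (H : Over (Spec (CommRingCat.of k))) (_ : GrpObj H) (i : H ⟶ G), IsMonHom i ∧ IsClosedImmersion i.left ∧ Smooth H.hom ∧
      Set.range i.left.base =
        closure ((fun s : (𝟙_ (Over (Spec (CommRingCat.of k))) ⟶ G) => s.left.base (IsLocalRing.closedPoint k)) '' (S : Set _)) := by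
  obtain ⟨pt, hpt⟩ : ∃ pt : (𝟙_ (Over (Spec (CommRingCat.of k))) ⟶ G) → ↥G.left,
      pt = fun s => s.left.base (IsLocalRing.closedPoint k) := ⟨_, rfl⟩
  rw [← hpt]
  obtain ⟨Z, hZ⟩ : ∃ Z : Closeds ↥G.left, Z = ⟨closure (pt '' (S : Set _)), isClosed_closure⟩ :=
    ⟨_, rfl⟩
  have hZc : (Z : Set ↥G.left) = closure (pt '' (S : Set _)) := by rw [hZ]; rfl
  rw [← hZc]
  obtain ⟨Hs, j, hcl, hred, hrange, hF1, hF2⟩ := exists_redSub Z
  -- every point of `Spec k` is the closed point
  have hpts : ∀ (s : 𝟙_ (Over (Spec (CommRingCat.of k))) ⟶ G)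
      (x : ↥(𝟙_ (Over (Spec (CommRingCat.of k)))).left), s.left.base x = pt s := by
    intro s x
    have hx : x = IsLocalRing.closedPoint k := Subsingleton.elim (α := PrimeSpectrum k) _ _
    rw [hpt, hx]
  have hredU : IsReduced (𝟙_ (Over (Spec (CommRingCat.of k)))).left :=
    inferInstanceAs (IsReduced (Spec (CommRingCat.of k)))
  obtain ⟨i, hi⟩ : ∃ i : Over.mk (j ≫ G.hom) ⟶ G, i = Over.homMk j rfl := ⟨_, rfl⟩
  have hil : i.left = j := by rw [hi]; rfl
  have hmono : Mono i := by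
    have : Mono i.left := by rw [hil]; infer_instance
    exact Over.mono_of_mono_left i
  -- F1 in `Over`
  have F1 : ∀ (T : Over (Spec (CommRingCat.of k))) (_ : IsReduced T.left) (x : T ⟶ G),
      Set.range x.left.base ⊆ (Z : Set ↥G.left) → ∃ z : T ⟶ Over.mk (j ≫ G.hom), z ≫ i = x := by
    intro T hT x hx
    obtain ⟨l, hl⟩ := hF1 T.left hT x.left hx
    refine ⟨Over.homMk l ?_, ?_⟩
    · change l ≫ j ≫ G.hom = T.hom
      rw [← Category.assoc, hl, Over.w x]
    · ext1
      rw [Over.comp_left, hil]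
      exact hl
  -- F3: endomorphisms preserving `S` preserve `Z`
  have F3 : ∀ (φ : G ⟶ G), (∀ s ∈ S, s ≫ φ ∈ S) → ∃ z : Over.mk (j ≫ G.hom) ⟶ Over.mk (j ≫ G.hom),
      z ≫ i = i ≫ φ := by
    intro φ hφ
    apply F1 _ hred
    rintro _ ⟨x, rfl⟩
    rw [Over.comp_left, Scheme.Hom.comp_base, TopCat.coe_comp, Function.comp_apply, hil]
    have hx : j.base x ∈ (Z : Set ↥G.left) := by rw [← hrange]; exact ⟨x, rfl⟩
    rw [hZc] at hx ⊢
    have h1 : φ.left.base (j.base x) ∈ φ.left.base '' closure (pt '' (S : Set _)) := ⟨_, hx, rfl⟩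
    have h2 := image_closure_subset_closure_image φ.left.base.hom.continuous h1
    refine closure_mono ?_ h2
    rintro _ ⟨_, ⟨s, hs, rfl⟩, rfl⟩
    refine ⟨s ≫ φ, hφ s hs, ?_⟩
    rw [hpt]
    rfl
  -- points of `S` lie on `H`
  have hS : ∀ s ∈ S, ∃ z : 𝟙_ (Over (Spec (CommRingCat.of k))) ⟶ Over.mk (j ≫ G.hom), z ≫ i = s := by
    intro s hs
    apply F1 _ hredU
    rintro _ ⟨x, rfl⟩
    rw [hpts s x, hZc]
    exact subset_closure ⟨s, hs, rfl⟩
  -- unit
  have hone : ∃ z : 𝟙_ (Over (Spec (CommRingCat.of k))) ⟶ Over.mk (j ≫ G.hom), z ≫ i = 1 :=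
    hS 1 S.one_mem
  -- inverse
  have hinv : ∀ {T : Over (Spec (CommRingCat.of k))} (a : T ⟶ Over.mk (j ≫ G.hom)),
      ∃ z : T ⟶ Over.mk (j ≫ G.hom), z ≫ i = (a ≫ i)⁻¹ := by
    obtain ⟨z, hz⟩ := F3 ι[G] (fun s hs => by
      have : s ≫ ι[G] = s⁻¹ := by rw [GrpObj.inv_eq_inv, GrpObj.comp_inv, Category.comp_id]
      rw [this]; exact S.inv_mem hs)
    intro T a
    refine ⟨a ≫ z, ?_⟩
    rw [Category.assoc, hz, ← Category.assoc, GrpObj.inv_eq_inv, GrpObj.comp_inv, Category.comp_id]
  -- right translations by elements of `S`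
  have htr : ∀ s ∈ S, ∃ z : Over.mk (j ≫ G.hom) ⟶ Over.mk (j ≫ G.hom),
      ∀ {T : Over (Spec (CommRingCat.of k))} (y : T ⟶ Over.mk (j ≫ G.hom)),
        (y ≫ z) ≫ i = (y ≫ i) * (toUnit T ≫ s) := by
    intro s hs
    obtain ⟨z, hz⟩ := F3 (lift (𝟙 G) (toUnit G ≫ s) ≫ μ[G]) (fun t ht => by
      have : t ≫ lift (𝟙 G) (toUnit G ≫ s) ≫ μ[G] = t * s := by
        rw [← Category.assoc, comp_lift, MonObj.mul_eq_mul, MonObj.comp_mul, lift_fst, lift_snd,
          Category.comp_id, ← Category.assoc]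
        congr 1
        rw [toUnit_unique (t ≫ toUnit G) (𝟙 _), Category.id_comp]
      rw [this]; exact S.mul_mem ht hs)
    refine ⟨z, fun {T} y => ?_⟩
    rw [Category.assoc, hz, ← Category.assoc, ← Category.assoc, comp_lift, MonObj.mul_eq_mul,
      MonObj.comp_mul, lift_fst, lift_snd, Category.comp_id, ← Category.assoc]
    congr 2
    exact toUnit_unique _ _
  -- multiplication, via the transporter of `H` into itself
  have hmul : ∀ {T : Over (Spec (CommRingCat.of k))} (a b : T ⟶ Over.mk (j ≫ G.hom)),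
      ∃ z : T ⟶ Over.mk (j ≫ G.hom), z ≫ i = (a ≫ i) * (b ≫ i) := by
    obtain ⟨c, hc⟩ : ∃ c : Over.mk (j ≫ G.hom) ⊗ G ⟶ G, c = (fst _ _ ≫ i) * snd _ _ := ⟨_, rfl⟩
    have hci : IsClosedImmersion i.left := by rw [hil]; exact hcl
    obtain ⟨Tr, w, hw, hTr⟩ := exists_closedImmersion_transp_over_points k (Over.mk (j ≫ G.hom)) G G
      (Over.mk (j ≫ G.hom)) c i
    have hSTr : ∀ s ∈ S, ∃ z : 𝟙_ (Over (Spec (CommRingCat.of k))) ⟶ Tr, z ≫ w = s := by
      intro s hs
      rw [hTr]
      intro T' t y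
      obtain ⟨z, hz⟩ := htr s hs
      refine ⟨y ≫ z, ?_⟩
      rw [hz y, hc, MonObj.comp_mul, ← Category.assoc, lift_fst, lift_snd]
      congr 2
      exact toUnit_unique _ _
    obtain ⟨l, hl⟩ := hF2 Tr.left w.left hw (by
      rw [hZc]
      apply closure_minimal _ (Scheme.Hom.isClosedEmbedding w.left).isClosed_range
      rintro _ ⟨s, hs, rfl⟩
      obtain ⟨z, hz⟩ := hSTr s hs
      rw [← hz, hpt]
      exact ⟨z.left.base _, rfl⟩)
    have hiTr : ∃ z : Over.mk (j ≫ G.hom) ⟶ Tr, z ≫ w = i := by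
      refine ⟨Over.homMk l ?_, ?_⟩
      · change l ≫ Tr.hom = j ≫ G.hom
        rw [← Over.w w, ← Category.assoc, hl]
      · ext1
        rw [Over.comp_left, hil]
        exact hl
    rw [hTr] at hiTr
    intro T a b
    obtain ⟨f, hf⟩ := hiTr T b a
    refine ⟨f, ?_⟩
    rw [hf, hc, MonObj.comp_mul, ← Category.assoc, lift_fst, lift_snd]
  obtain ⟨inst, hmon⟩ := exists_grpObj_of_points i hone hmul hinv
  -- geometric reducedness from the dense set of rational points
  have hgr : GeometricallyReduced (j ≫ G.hom) := by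
    refine geometricallyReduced_of_dense_points (j ≫ G.hom)
      {p | ∃ s ∈ S, p ≫ j = s.left} ?_ ?_
    · rintro p ⟨s, hs, hp⟩
      rw [← Category.assoc, hp]
      exact Over.w s
    · rw [(Scheme.Hom.isClosedEmbedding j).isInducing.dense_iff]
      intro x
      have hx : j.base x ∈ (Z : Set ↥G.left) := by rw [← hrange]; exact ⟨x, rfl⟩
      rw [hZc] at hx
      refine closure_mono ?_ hx
      rintro _ ⟨s, hs, rfl⟩
      obtain ⟨z, hz⟩ := hS s hs
      refine ⟨z.left.base (IsLocalRing.closedPoint k), ⟨z.left, ⟨s, hs, ?_⟩, rfl⟩, ?_⟩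
      · rw [← hz, Over.comp_left, hil]
      · rw [← hz, hpt]
        change j.base _ = (z ≫ i).left.base _
        rw [Over.comp_left, hil]
        rfl
  have hlft : LocallyOfFiniteType (j ≫ G.hom) := inferInstance
  have hsm : Smooth (j ≫ G.hom) :=
    @smooth_of_grpObj k _ _ (Over.mk (j ≫ G.hom)).hom hlft inst hgr
  refine ⟨Over.mk (j ≫ G.hom), inst, i, hmon, ?_, hsm, ?_⟩
  · rw [hil]; exact hcl
  · rw [hil]; exact hrange

end Groth.Agent.S15608
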