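import Groth.Statements.S1563
import Mathlib
import Groth.Agent.Lib.Helper28RegDescent
import Groth.Agent.Lib.Helper6BcGeom
-- import your own Groth.Agent.* helpers here

set_option autoImplicit false
set_option linter.style.haveILetI false
set_option linter.unusedSectionVars false
universe u
open CategoryTheory CategoryTheory.Limits AlgebraicGeometry
open Variety

namespace Groth.Agent.S1563

open TensorProduct

/-- geometric regularity descends along flat local homomorphisms. -/
theorem geomRegular_descent (k A B : Type u) [Field k] [CommRing A] [CommRing B] [Algebra k A]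
    [Algebra k B] [IsLocalRing A] [IsLocalRing B]
    (φ : A →ₐ[k] B) (hflat : φ.toRingHom.Flat) (hloc : IsLocalHom φ.toRingHom)
    (hB : CAlg.IsGeometricallyRegular k B) : CAlg.IsGeometricallyRegular k A := by
  intro k' _ _ hfin
  haveI hreg : IsRegularRing (k' ⊗[k] B) := hB k' hfin
  letI : Algebra A B := φ.toRingHom.toAlgebra
  haveI : IsScalarTower k A B := IsScalarTower.of_algebraMap_eq (fun c => (φ.commutes c).symm)
  haveI : Module.Flat A B := hflat
  haveI : IsLocalHom (algebraMap A B) := hloc
  haveI : Module.FaithfullyFlat A B := Module.FaithfullyFlat.of_flat_of_isLocalHom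
  haveI : IsRegularRing (B ⊗[k] k') :=
    IsRegularRing.of_ringEquiv (Algebra.TensorProduct.comm k k' B).toRingEquiv
  let e1 : (A ⊗[k] k') ⊗[A] B ≃+* B ⊗[A] (A ⊗[k] k') :=
    (Algebra.TensorProduct.comm A (A ⊗[k] k') B).toRingEquiv
  let e2 : B ⊗[A] (A ⊗[k] k') ≃+* B ⊗[k] k' :=
    (Algebra.TensorProduct.cancelBaseChange k A A B k').toRingEquiv
  haveI : IsRegularRing ((A ⊗[k] k') ⊗[A] B) :=
    IsRegularRing.of_ringEquiv (e1.trans e2).symm
  haveI : IsRegularRing (A ⊗[k] k') :=
    Groth.Agent.Lib.Helper28.isRegularRing_of_faithfullyFlat (R := A ⊗[k] k')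
      (S := (A ⊗[k] k') ⊗[A] B)
  exact IsRegularRing.of_ringEquiv (Algebra.TensorProduct.comm k A k').toRingEquiv


attribute [local instance] Curv2.stalkAlgebra in
open Groth.Agent.Lib.Helper6.BcGeom in

/-- Geometric regularity descends along a morphism f of locally Noetherian k-schemes which is flat at
the point x (the map of local rings at x is flat): if X has it at x then Y has it at f(x). -/
theorem result (k : Type u) [Field k] (X Y : Scheme.{u}) [X.Over (Spec (CommRingCat.of k))] [Y.Over (Spec (CommRingCat.of k))]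
    [IsLocallyNoetherian X] [IsLocallyNoetherian Y] (f : X ⟶ Y) (hf : f ≫ (Y ↘ (Spec (CommRingCat.of k))) = X ↘ (Spec (CommRingCat.of k)))
    (x : X) (hflat : (f.stalkMap x).hom.Flat) (hx : Curv2.IsGeomRegularAt k X x) :
    Curv2.IsGeomRegularAt k Y (f.base x) := by
  have hB : CAlg.IsGeometricallyRegular k (X.presheaf.stalk x) :=
    isGeometricallyRegular_stalk_of_purelyInseparable k X x (fun k' _ _ hfin hpi x' hx' =>
      hx k' (IntermediateField.fg_top k k') x' hx')
  have hcomm : ∀ c : k, (f.stalkMap x).hom (Curv2.stalkMap k Y (f x) c) =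
      Curv2.stalkMap k X x c := by
    intro c
    have h2 : (f.app ⊤).hom (Coh.toGlobal (Y ↘ Spec (CommRingCat.of k)) c) =
        Coh.toGlobal (X ↘ Spec (CommRingCat.of k)) c := by
      have h3 : (X ↘ Spec (CommRingCat.of k)).appTop =
          (Y ↘ Spec (CommRingCat.of k)).appTop ≫ f.appTop := by
        rw [← hf, Scheme.Hom.comp_appTop]
      unfold Coh.toGlobal
      rw [h3]
      rfl
    refine (Scheme.Hom.germ_stalkMap_apply f ⊤ x trivial
      (Coh.toGlobal (Y ↘ Spec (CommRingCat.of k)) c)).trans ?_
    rw [h2]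
    rfl
  let φ : Y.presheaf.stalk (f x) →ₐ[k] X.presheaf.stalk x :=
    { (f.stalkMap x).hom with commutes' := hcomm }
  have hA : CAlg.IsGeometricallyRegular k (Y.presheaf.stalk (f x)) :=
    geomRegular_descent k _ _ φ hflat (inferInstanceAs (IsLocalHom (f.stalkMap x).hom)) hB
  intro K _ _ hfg y' hy'
  haveI : Algebra.EssFiniteType k K :=
    (Algebra.EssFiniteType.iff_of_algEquiv (IntermediateField.topEquiv (F := k) (E := K))).mp
      (IntermediateField.essFiniteType_iff.mpr hfg)
  haveI : IsNoetherianRing (Y.presheaf.stalk (f x)) := inferInstance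
  exact regular_stalk_of_isRegularRing_tensor k Y K y' _ hy'
    ((Groth.Agent.Lib.Helper6.GeomBC.main2672 k (Y.presheaf.stalk (f x))).2.mp hA K inferInstance)

end Groth.Agent.S1563
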