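import Groth.Statements.S1569
import Groth.Agent.Lib.Helper2Div
import Groth.Agent.Lib.Helper5RLR

set_option autoImplicit false
universe u
open CategoryTheory CategoryTheory.Limits AlgebraicGeometry
open Divisors

namespace Groth.Agent.S1569

/-- On a Noetherian scheme, an effective Cartier divisor which is integral as a closed subscheme has a
discrete valuation ring as the local ring of the ambient scheme at its generic point. -/
theorem result (X : Scheme.{u}) [IsNoetherian X]
    (D : X.IdealSheafData) (hD : BlowUp.IsEffCartierIdeal D) [IsIntegral D.subscheme]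
    (ξ : X) (hξ : IsGenericPoint ξ (D.support : Set X)) :
    ∃ _ : IsDomain (X.presheaf.stalk ξ), IsDiscreteValuationRing (X.presheaf.stalk ξ) := by
  classical
  have hξsupp : ξ ∈ D.support := by
    have : ξ ∈ closure ({ξ} : Set X) := subset_closure (Set.mem_singleton ξ)
    rw [hξ.def] at this
    exact this
  have hgen : ∀ y ∈ D.support, y ⤳ ξ → y = ξ := by
    intro y hy hyξ
    have h1 : ξ ⤳ y := by
      rw [specializes_iff_mem_closure, hξ.def]
      exact hy
    exact (hyξ.antisymm h1).eq
  obtain ⟨U, hξU, f, hfn, hf⟩ := hD ξ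
  have hAN : IsNoetherianRing Γ(X, U.1) := IsLocallyNoetherian.component_noetherian U
  -- the section ring of the subscheme over U is a domain
  have hne : Nonempty (D.subschemeι ⁻¹ᵁ U.1 : D.subscheme.Opens) := by
    have : ξ ∈ Set.range D.subschemeι := by
      rw [Scheme.IdealSheafData.range_subschemeι]; exact hξsupp
    obtain ⟨z, hz⟩ := this
    refine ⟨⟨z, ?_⟩⟩
    change D.subschemeι z ∈ U.1
    rw [hz]; exact hξU
  have hdom : IsDomain Γ(D.subscheme, D.subschemeι ⁻¹ᵁ U.1) := IsIntegral.component_integral _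
  have hprime : (Ideal.span {f} : Ideal Γ(X, U.1)).IsPrime := by
    rw [← hf, ← Scheme.IdealSheafData.ker_subschemeι_app D U]
    exact RingHom.ker_isPrime _
  have hmin := Groth.Agent.Lib.Helper2.primeIdealOf_mem_minimalPrimes D ξ U hξU f hf hξsupp hgen
  have hp : (U.2.primeIdealOf ⟨ξ, hξU⟩).asIdeal = Ideal.span {f} := by
    rw [Ideal.minimalPrimes_eq_subsingleton_self] at hmin
    exact hmin
  have hdim := Groth.Agent.Lib.Helper2.ringKrullDim_stalk_eq_one D ξ U hξU f hf hfn hξsupp hgen
  let _ : Algebra Γ(X, U.1) (X.presheaf.stalk ξ) :=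
    TopCat.Presheaf.algebra_section_stalk X.presheaf (⟨ξ, hξU⟩ : U.1)
  have hloc : IsLocalization.AtPrime (X.presheaf.stalk ξ) (U.2.primeIdealOf ⟨ξ, hξU⟩).asIdeal :=
    U.2.isLocalization_stalk ⟨ξ, hξU⟩
  have hmax : IsLocalRing.maximalIdeal (X.presheaf.stalk ξ) =
      Ideal.span {algebraMap Γ(X, U.1) (X.presheaf.stalk ξ) f} := by
    rw [← IsLocalization.AtPrime.map_eq_maximalIdeal (U.2.primeIdealOf ⟨ξ, hξU⟩).asIdeal
      (X.presheaf.stalk ξ), hp, Ideal.map_span, Set.image_singleton]
  have hreg : IsRegularLocalRing (X.presheaf.stalk ξ) := by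
    apply IsRegularLocalRing.of_spanFinrank_maximalIdeal_le
    rw [hdim, hmax]
    have := Submodule.spanFinrank_span_le_ncard_of_finite (R := X.presheaf.stalk ξ)
      (Set.finite_singleton (algebraMap Γ(X, U.1) (X.presheaf.stalk ξ) f))
    rw [Set.ncard_singleton] at this
    exact_mod_cast this
  have hD' : IsDomain (X.presheaf.stalk ξ) :=
    Groth.Agent.Lib.Helper5.isDomain_of_isRegularLocalRing _
  refine ⟨hD', ?_⟩
  have hnf : ¬ IsField (X.presheaf.stalk ξ) := by
    intro hF
    have h0 : ringKrullDim (X.presheaf.stalk ξ) = 0 := by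
      let _ := hF.toField
      exact ringKrullDim_eq_zero_of_field _
    rw [hdim] at h0
    exact one_ne_zero h0
  have htfae := (IsDiscreteValuationRing.TFAE (X.presheaf.stalk ξ) hnf).out 0 4
  rw [htfae, hmax]
  exact ⟨⟨_, rfl⟩⟩

end Groth.Agent.S1569
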