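import Groth.Statements.S1570
import Mathlib

set_option autoImplicit false
universe u
open CategoryTheory CategoryTheory.Limits AlgebraicGeometry
open Divisors

namespace Groth.Agent.S1570

section Dev

theorem L1 {A : Type*} [CommRing A] (I : Ideal A) (hI : I.FG) (Q : Ideal A) (p : Ideal A)
    [p.IsPrime] (h : ∀ i ∈ I, ∃ u ∉ p, u * i ∈ Q) : ∃ f ∉ p, ∀ i ∈ I, f * i ∈ Q := by
  classical
  obtain ⟨s, rfl⟩ := hI
  have key : ∀ t : Finset A, (∀ i ∈ t, ∃ u ∉ p, u * i ∈ Q) → ∃ f ∉ p, ∀ i ∈ t, f * i ∈ Q := by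
    intro t
    induction t using Finset.induction_on with
    | empty => intro _; exact ⟨1, fun h1 => Ideal.IsPrime.ne_top' ((Ideal.eq_top_iff_one p).mpr h1), by simp⟩
    | insert a t _ ih =>
      intro ht
      obtain ⟨f, hf, hft⟩ := ih (fun i hi => ht i (Finset.mem_insert_of_mem hi))
      obtain ⟨u, hu, hua⟩ := ht a (Finset.mem_insert_self a t)
      refine ⟨u * f, fun hmem => ?_, ?_⟩
      · rcases Ideal.IsPrime.mem_or_mem inferInstance hmem with h1 | h1
        · exact hu h1
        · exact hf h1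
      · intro i hi
        rcases Finset.mem_insert.mp hi with rfl | hi
        · have : u * f * i = f * (u * i) := by ring
          rw [this]; exact Q.mul_mem_left _ hua
        · have : u * f * i = u * (f * i) := by ring
          rw [this]; exact Q.mul_mem_left _ (hft i hi)
  obtain ⟨f, hf, hfs⟩ := key s (fun i hi => h i (Ideal.subset_span hi))
  refine ⟨f, hf, fun i hi => ?_⟩
  induction hi using Submodule.span_induction with
  | mem x hx => exact hfs x hx
  | zero => simp
  | add x y _ _ hx hy => rw [mul_add]; exact Q.add_mem hx hy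
  | smul a x _ hx =>
    have : f * (a • x) = a * (f * x) := by simp only [smul_eq_mul]; ring
    rw [this]; exact Q.mul_mem_left _ hx

theorem core {A : Type*} [CommRing A] [IsNoetherianRing A] (I : Ideal A) (p : Ideal A) [p.IsPrime]
    (S : Type*) [CommRing S] [Algebra A S] [IsLocalization.AtPrime S p]
    (g : S) (hg : g ∈ nonZeroDivisors S) (hI : I.map (algebraMap A S) = Ideal.span {g}) :
    ∃ f ∉ p, ∃ b : A, ∀ (B : Type*) [CommRing B] [Algebra A B] [IsLocalization.Away f B],
      algebraMap A B b ∈ nonZeroDivisors B ∧ I.map (algebraMap A B) = Ideal.span {algebraMap A B b} := by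
  -- step 1
  have hgI : g ∈ I.map (algebraMap A S) := by rw [hI]; exact Ideal.mem_span_singleton_self g
  obtain ⟨⟨⟨b, hb⟩, ⟨t, ht⟩⟩, hbt⟩ := (IsLocalization.mem_map_algebraMap_iff p.primeCompl S).mp hgI
  simp only at hbt
  have htu : IsUnit (algebraMap A S t) := IsLocalization.map_units S ⟨t, ht⟩
  have hbnzd : algebraMap A S b ∈ nonZeroDivisors S := by
    rw [← hbt]
    exact mul_mem hg htu.mem_nonZeroDivisors
  have hspan : Ideal.span {g} = Ideal.span {algebraMap A S b} := by
    rw [← hbt]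
    exact (Ideal.span_singleton_mul_right_unit htu g).symm
  -- step 3
  have h3 : ∀ i ∈ I, ∃ u ∉ p, u * i ∈ Ideal.span {b} := by
    intro i hi
    have h1 : algebraMap A S i ∈ Ideal.span {algebraMap A S b} := by
      rw [← hspan, ← hI]; exact Ideal.mem_map_of_mem _ hi
    obtain ⟨c, hc⟩ := Ideal.mem_span_singleton'.mp h1
    obtain ⟨⟨a, ⟨t', ht'⟩⟩, hat⟩ := IsLocalization.surj p.primeCompl c
    simp only at hat
    have h2 : algebraMap A S (i * t') = algebraMap A S (a * b) := by
      rw [map_mul, map_mul, ← hc, ← hat]; ring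
    obtain ⟨⟨u, hu⟩, hu2⟩ := (IsLocalization.eq_iff_exists p.primeCompl S).mp h2
    simp only at hu2
    refine ⟨u * t', fun hmem => ?_, ?_⟩
    · rcases Ideal.IsPrime.mem_or_mem inferInstance hmem with h1 | h1
      · exact hu h1
      · exact ht' h1
    · have : u * t' * i = (u * a) * b := by
        calc u * t' * i = u * (i * t') := by ring
          _ = u * (a * b) := hu2
          _ = (u * a) * b := by ring
      rw [this]
      exact Ideal.mul_mem_left _ _ (Ideal.mem_span_singleton_self b)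
  obtain ⟨f₁, hf₁, hf₁I⟩ := L1 I (IsNoetherian.noetherian I) (Ideal.span {b}) p h3
  -- step 4
  let K : Ideal A := LinearMap.ker (LinearMap.mulLeft A b)
  have hK : ∀ k, k ∈ K ↔ b * k = 0 := fun k => by simp [K]
  have h4 : ∀ k ∈ K, ∃ u ∉ p, u * k ∈ (⊥ : Ideal A) := by
    intro k hk
    have h1 : algebraMap A S k = 0 := by
      have : algebraMap A S k * algebraMap A S b = 0 := by
        rw [← map_mul, mul_comm, (hK k).mp hk, map_zero]
      exact (mem_nonZeroDivisors_iff_right.mp hbnzd) _ this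
    rw [← map_zero (algebraMap A S)] at h1
    obtain ⟨⟨u, hu⟩, hu2⟩ := (IsLocalization.eq_iff_exists p.primeCompl S).mp h1
    simp only [mul_zero] at hu2
    exact ⟨u, hu, by simpa using hu2⟩
  obtain ⟨f₂, hf₂, hf₂K⟩ := L1 K (IsNoetherian.noetherian K) ⊥ p h4
  refine ⟨f₁ * f₂, fun hmem => ?_, b, ?_⟩
  · rcases Ideal.IsPrime.mem_or_mem inferInstance hmem with h1 | h1
    · exact hf₁ h1
    · exact hf₂ h1
  intro B _ _ _
  have hfu : IsUnit (algebraMap A B (f₁ * f₂)) := IsLocalization.Away.algebraMap_isUnit _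
  have hf₁u : IsUnit (algebraMap A B f₁) := by
    rw [map_mul] at hfu; exact isUnit_of_mul_isUnit_left hfu
  have hf₂u : IsUnit (algebraMap A B f₂) := by
    rw [map_mul] at hfu; exact isUnit_of_mul_isUnit_right hfu
  constructor
  · rw [mem_nonZeroDivisors_iff_right]
    intro z hz
    obtain ⟨⟨a, ⟨_, ⟨n, rfl⟩⟩⟩, hat⟩ := IsLocalization.surj (Submonoid.powers (f₁ * f₂)) z
    simp only at hat
    have h1 : algebraMap A B (a * b) = algebraMap A B 0 := by
      rw [map_mul, ← hat, map_zero]
      calc z * algebraMap A B ((f₁ * f₂) ^ n) * algebraMap A B b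
          = (z * algebraMap A B b) * algebraMap A B ((f₁ * f₂) ^ n) := by ring
        _ = 0 := by rw [hz, zero_mul]
    obtain ⟨⟨_, ⟨m, rfl⟩⟩, hm⟩ := (IsLocalization.eq_iff_exists (Submonoid.powers (f₁ * f₂)) B).mp h1
    simp only [mul_zero] at hm
    have h2 : (f₁ * f₂) ^ m * a ∈ K := by
      rw [hK]
      calc b * ((f₁ * f₂) ^ m * a) = (f₁ * f₂) ^ m * (a * b) := by ring
        _ = 0 := hm
    have h3 := hf₂K _ h2
    simp only [Ideal.mem_bot] at h3
    have h4 : algebraMap A B (f₂ * (f₁ * f₂) ^ m) * algebraMap A B a = 0 := by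
      rw [← map_mul, ← map_zero (algebraMap A B), ← h3]
      congr 1; ring
    have hunit : IsUnit (algebraMap A B (f₂ * (f₁ * f₂) ^ m)) := by
      rw [map_mul, map_pow]; exact hf₂u.mul (hfu.pow m)
    have h5 : algebraMap A B a = 0 := (hunit.mul_right_eq_zero).mp h4
    have hunit2 : IsUnit (algebraMap A B ((f₁ * f₂) ^ n)) := by rw [map_pow]; exact hfu.pow n
    rw [h5] at hat
    exact (hunit2.mul_left_eq_zero).mp hat
  · apply le_antisymm
    · rw [Ideal.map_le_iff_le_comap]
      intro i hi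
      rw [Ideal.mem_comap]
      obtain ⟨c, hc⟩ := Ideal.mem_span_singleton'.mp (hf₁I i hi)
      have h1 : algebraMap A B f₁ * algebraMap A B i = algebraMap A B c * algebraMap A B b := by
        rw [← map_mul, ← map_mul, hc]
      obtain ⟨v, hv⟩ := hf₁u
      have h2 : algebraMap A B i = (↑v⁻¹ * algebraMap A B c) * algebraMap A B b := by
        rw [mul_assoc, ← h1, ← hv, ← mul_assoc, Units.inv_mul, one_mul]
      rw [h2]
      exact Ideal.mul_mem_left _ _ (Ideal.mem_span_singleton_self _)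
    · rw [Ideal.span_singleton_le_iff_mem]
      exact Ideal.mem_map_of_mem _ hb

theorem main (X : Scheme.{u}) [IsLocallyNoetherian X]
    (D : X.IdealSheafData)
    (h : ∀ x ∈ D.support, ∀ (U : X.affineOpens) (hx : x ∈ (U : X.Opens)),
      ∃ g : X.presheaf.stalk x, g ∈ nonZeroDivisors (X.presheaf.stalk x) ∧
        (D.ideal U).map (X.presheaf.germ U x hx).hom = Ideal.span {g}) :
    BlowUp.IsEffCartierIdeal D := by
  intro x
  obtain ⟨_, ⟨U, hU, rfl⟩, hxU, -⟩ :=
    X.isBasis_affineOpens.exists_subset_of_mem_open (Set.mem_univ x) isOpen_univ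
  have hN : IsNoetherianRing Γ(X, U) := IsLocallyNoetherian.component_noetherian ⟨U, hU⟩
  by_cases hxD : x ∈ D.support
  · obtain ⟨g, hg, hgI⟩ := h x hxD ⟨U, hU⟩ hxU
    let := X.presheaf.algebra_section_stalk ⟨x, hxU⟩
    have hloc := hU.isLocalization_stalk ⟨x, hxU⟩
    obtain ⟨f, hf, b, hfb⟩ := core (D.ideal ⟨U, hU⟩) (hU.primeIdealOf ⟨x, hxU⟩).asIdeal
      (X.presheaf.stalk x) g hg hgI
    have hloc2 := hU.isLocalization_basicOpen f
    obtain ⟨h1, h2⟩ := hfb Γ(X, X.basicOpen f)
    refine ⟨X.affineBasicOpen f, ?_, algebraMap Γ(X, U) Γ(X, X.basicOpen f) b, h1, ?_⟩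
    · show x ∈ X.basicOpen f
      rw [Scheme.mem_basicOpen _ _ _ hxU]
      exact (IsLocalization.AtPrime.isUnit_to_map_iff (X.presheaf.stalk x)
        (hU.primeIdealOf ⟨x, hxU⟩).asIdeal f).mpr hf
    · rw [← D.map_ideal_basicOpen ⟨U, hU⟩ f]
      exact h2
  · rw [Scheme.IdealSheafData.mem_support_iff_of_mem (U := ⟨U, hU⟩) hxU] at hxD
    rw [Scheme.mem_zeroLocus_iff] at hxD
    have hex : ∃ f ∈ D.ideal ⟨U, hU⟩, x ∈ X.basicOpen f := by
      by_contra hcon
      apply hxD
      intro f hf hxf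
      exact hcon ⟨f, hf, hxf⟩
    obtain ⟨f, hf, hxf⟩ := hex
    have hloc2 := hU.isLocalization_basicOpen f
    refine ⟨X.affineBasicOpen f, hxf, 1, one_mem _, ?_⟩
    rw [← D.map_ideal_basicOpen ⟨U, hU⟩ f, Ideal.span_singleton_one]
    show (D.ideal ⟨U, hU⟩).map (algebraMap Γ(X, U) Γ(X, X.basicOpen f)) = ⊤
    have hfu : IsUnit (algebraMap Γ(X, U) Γ(X, X.basicOpen f) f) :=
      IsLocalization.Away.algebraMap_isUnit f
    have h1 : algebraMap Γ(X, U) Γ(X, X.basicOpen f) f ∈
        (D.ideal ⟨U, hU⟩).map (algebraMap Γ(X, U) Γ(X, X.basicOpen f)) :=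
      Ideal.mem_map_of_mem _ hf
    exact Ideal.eq_top_of_isUnit_mem _ h1 hfu

end Dev

/-- Let X be locally Noetherian and D a closed subscheme with ideal sheaf I. If for every point x of D
the ideal generated by I in the local ring at x is generated by one nonzerodivisor, then D is an
effective Cartier divisor. -/
theorem result (X : Scheme.{u}) [IsLocallyNoetherian X]
    (D : X.IdealSheafData)
    (h : ∀ x ∈ D.support, ∀ (U : X.affineOpens) (hx : x ∈ (U : X.Opens)),
      ∃ g : X.presheaf.stalk x, g ∈ nonZeroDivisors (X.presheaf.stalk x) ∧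
        (D.ideal U).map (X.presheaf.germ U x hx).hom = Ideal.span {g}) :
    BlowUp.IsEffCartierIdeal D := by
  exact main X D h

end Groth.Agent.S1570
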