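import Groth.Statements.S15701
import Mathlib

set_option autoImplicit false
universe u
open CategoryTheory AlgebraicGeometry
open RatVar

namespace Groth.Agent.S15701

open CategoryTheory.Limits

/-- the fixed locus of an automorphism, as the set of points through which a fixed field-valued point
passes. -/
def fixedSet {X : Scheme.{u}} (σ : X ⟶ X) : Set X :=
  {x | ∃ (K : Type u) (_ : Field K) (p : Spec (CommRingCat.of K) ⟶ X), x ∈ Set.range p.base ∧
    p ≫ σ = p}

lemma fixedSet_eq_range {X S : Scheme.{u}} (f : X ⟶ S) (σ : X ⟶ X) (hσ : σ ≫ f = f) :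
    fixedSet σ = Set.range (equalizer.ι (Over.homMk σ hσ : Over.mk f ⟶ Over.mk f)
      (Over.homMk (𝟙 X) (Category.id_comp _) : Over.mk f ⟶ Over.mk f)).left.base := by
  obtain ⟨ι, hι⟩ : ∃ ι, ι = equalizer.ι (Over.homMk σ hσ : Over.mk f ⟶ Over.mk f)
    (Over.homMk (𝟙 X) (Category.id_comp _) : Over.mk f ⟶ Over.mk f) := ⟨_, rfl⟩
  rw [← hι]
  ext x
  constructor
  · rintro ⟨K, _, p, ⟨y, rfl⟩, hp⟩
    let p' : Over.mk (p ≫ f) ⟶ Over.mk f := Over.homMk p rfl
    have hp' : p' ≫ (Over.homMk σ hσ : Over.mk f ⟶ Over.mk f) =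
        p' ≫ (Over.homMk (𝟙 X) (Category.id_comp _) : Over.mk f ⟶ Over.mk f) := by
      apply Over.OverMorphism.ext
      simp only [Over.comp_left, Over.homMk_left, p']
      exact hp.trans (Category.comp_id p).symm
    have h1 : (equalizer.lift p' hp').left ≫ ι.left = p := by
      rw [hι, ← Over.comp_left, equalizer.lift_ι]
      rfl
    refine ⟨(equalizer.lift p' hp').left.base y, ?_⟩
    rw [← Scheme.Hom.comp_apply, h1]
  · rintro ⟨e, rfl⟩
    have hcond : ι.left ≫ σ = ι.left := by
      have h2 := congrArg (fun m => m.left) (equalizer.condition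
        (Over.homMk σ hσ : Over.mk f ⟶ Over.mk f)
        (Over.homMk (𝟙 X) (Category.id_comp _) : Over.mk f ⟶ Over.mk f))
      simp only [Over.comp_left, Over.homMk_left] at h2
      rw [← hι] at h2
      exact h2.trans (Category.comp_id _)
    refine ⟨((equalizer (Over.homMk σ hσ : Over.mk f ⟶ Over.mk f)
        (Over.homMk (𝟙 X) (Category.id_comp _) : Over.mk f ⟶ Over.mk f)).left.residueField e : Type u),
      inferInstance, (Scheme.fromSpecResidueField _ e) ≫ ι.left, ?_, ?_⟩
    · refine ⟨IsLocalRing.closedPoint _, ?_⟩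
      exact congrArg ι.left.base (Scheme.fromSpecResidueField_apply e _)
    · rw [Category.assoc, hcond]

lemma isClosed_fixedSet {X S : Scheme.{u}} (f : X ⟶ S) [IsSeparated f] (σ : X ⟶ X)
    (hσ : σ ≫ f = f) : IsClosed (fixedSet σ) := by
  rw [fixedSet_eq_range f σ hσ]
  have : IsSeparated (Over.mk f).hom := ‹IsSeparated f›
  have hcl : IsClosedImmersion (equalizer.ι (Over.homMk σ hσ : Over.mk f ⟶ Over.mk f)
      (Over.homMk (𝟙 X) (Category.id_comp _) : Over.mk f ⟶ Over.mk f)).left := inferInstance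
  exact (Scheme.Hom.isClosedEmbedding _).isClosed_range

lemma eq_id_of_fixedSet_eq_univ {X S : Scheme.{u}} [IsReduced X] (f : X ⟶ S) [IsSeparated f]
    (σ : X ⟶ X) (hσ : σ ≫ f = f) (h : fixedSet σ = Set.univ) : σ = 𝟙 X := by
  rw [fixedSet_eq_range f σ hσ] at h
  obtain ⟨ι, hι⟩ : ∃ ι, ι = equalizer.ι (Over.homMk σ hσ : Over.mk f ⟶ Over.mk f)
    (Over.homMk (𝟙 X) (Category.id_comp _) : Over.mk f ⟶ Over.mk f) := ⟨_, rfl⟩
  rw [← hι] at h
  have hcond : ι.left ≫ σ = ι.left ≫ 𝟙 X := by
    have h2 := congrArg (fun m => m.left) (equalizer.condition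
      (Over.homMk σ hσ : Over.mk f ⟶ Over.mk f)
      (Over.homMk (𝟙 X) (Category.id_comp _) : Over.mk f ⟶ Over.mk f))
    simp only [Over.comp_left, Over.homMk_left] at h2
    rw [← hι] at h2
    exact h2
  have hdom : IsDominant ι.left := ⟨by
    rw [DenseRange, h]; exact dense_univ⟩
  exact ext_of_isDominant_of_isSeparated f (by rw [hσ, Category.id_comp]) ι.left hcond

lemma fixedSet_map {X : Scheme.{u}} (σ σ' τ : X ⟶ X) (h : τ ≫ σ' = σ ≫ τ) (x : X)
    (hx : x ∈ fixedSet σ) : τ.base x ∈ fixedSet σ' := by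
  obtain ⟨K, _, p, ⟨y, rfl⟩, hp⟩ := hx
  refine ⟨K, inferInstance, p ≫ τ, ⟨y, ?_⟩, ?_⟩
  · rw [Scheme.Hom.comp_apply]
  · rw [Category.assoc, h, ← Category.assoc, hp]


/-- A faithful action of a finite group on a geometrically integral variety is almost free. Here k is a
field of characteristic zero, X is an integral separated scheme of finite type over k, and the
finite group G acts on X by k-automorphisms through an injective homomorphism to Aut X; the
conclusion is a non-empty G-stable open subscheme U of X such that for every field K and every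
morphism Spec K → X whose image lies in U, an element of G fixing that K-point is the identity. (X
is taken separated: for the affine line with a doubled origin and the involution exchanging the two
origins the action is faithful while every point off the origins is fixed, so no such U exists;
integrality replaces geometric integrality, which is all the codimension argument uses.) -/
theorem result (k : Type u) [Field k] [CharZero k]
    (X : Scheme.{u}) (f : X ⟶ Spec (CommRingCat.of k)) [IsIntegral X] [LocallyOfFiniteType f]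
    [QuasiCompact f] [IsSeparated f]
    (G : Type u) [Group G] [Finite G] (ρ : G →* Aut X)
    (hρ : ∀ g : G, (ρ g).hom ≫ f = f) (hfaith : Function.Injective ρ) :
    ∃ U : X.Opens, (U : Set X).Nonempty ∧ (∀ g : G, (ρ g).hom ⁻¹ᵁ U = U) ∧
      ∀ (K : Type u) [Field K] (x : Spec (CommRingCat.of K) ⟶ X),
        Set.range x.base ⊆ (U : Set X) → ∀ g : G, x ≫ (ρ g).hom = x → g = 1 := by
  classical
  have hmul : ∀ a b : G, (ρ (a * b)).hom = (ρ b).hom ≫ (ρ a).hom := by
    intro a b; rw [map_mul]; rfl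
  have hone : (ρ 1).hom = 𝟙 X := by rw [map_one]; rfl
  have hcl : ∀ g : G, IsClosed (fixedSet (ρ g).hom) := fun g => isClosed_fixedSet f _ (hρ g)
  have hclU : IsClosed (⋃ g ∈ {g : G | g ≠ 1}, fixedSet (ρ g).hom) :=
    Set.Finite.isClosed_biUnion (Set.toFinite _) fun g _ => hcl g
  -- conjugation
  have hconj : ∀ (h g : G) (x : X), x ∈ fixedSet (ρ g).hom →
      (ρ h).hom.base x ∈ fixedSet (ρ (h * g * h⁻¹)).hom := by
    intro h g x hx
    refine fixedSet_map (ρ g).hom _ (ρ h).hom ?_ x hx
    rw [← hmul, ← hmul]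
    congr 2
    group
  obtain ⟨U, hU⟩ : ∃ U : X.Opens, ∀ x, x ∈ U ↔ ∀ g : G, g ≠ 1 → x ∉ fixedSet (ρ g).hom := by
    refine ⟨⟨(⋃ g ∈ {g : G | g ≠ 1}, fixedSet (ρ g).hom)ᶜ, hclU.isOpen_compl⟩, fun x => ?_⟩
    change x ∈ (⋃ g ∈ {g : G | g ≠ 1}, fixedSet (ρ g).hom)ᶜ ↔ _
    simp only [Set.mem_compl_iff, Set.mem_iUnion, not_exists]
    exact ⟨fun H g hg hx => H g hg hx, fun H g hg hx => H g hg hx⟩
  refine ⟨U, ?_, ?_, ?_⟩
  · -- nonempty
    by_contra hne
    have hall : ∀ x : X, ∃ g : G, g ≠ 1 ∧ x ∈ fixedSet (ρ g).hom := by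
      intro x
      by_contra hx
      apply hne
      refine ⟨x, (hU x).mpr ?_⟩
      intro g hg hxg
      exact hx ⟨g, hg, hxg⟩
    have : Fintype G := Fintype.ofFinite G
    have hirr : IsIrreducible (Set.univ : Set X) := IrreducibleSpace.isIrreducible_univ X
    obtain ⟨z, hz, hzu⟩ := isIrreducible_iff_sUnion_isClosed.mp hirr
      ((Finset.univ.filter (fun g : G => g ≠ 1)).image (fun g => fixedSet (ρ g).hom))
      (by
        intro z hz
        obtain ⟨g, _, rfl⟩ := Finset.mem_image.mp hz
        exact hcl g)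
      (by
        intro x _
        obtain ⟨g, hg, hx⟩ := hall x
        refine Set.mem_sUnion.mpr ⟨_, ?_, hx⟩
        exact Finset.mem_coe.mpr (Finset.mem_image.mpr ⟨g, by simp [hg], rfl⟩))
    obtain ⟨g, hg, rfl⟩ := Finset.mem_image.mp hz
    have hg1 : g ≠ 1 := by simpa using hg
    have h2 := eq_id_of_fixedSet_eq_univ f (ρ g).hom (hρ g) (Set.eq_univ_of_univ_subset hzu)
    apply hg1
    apply hfaith
    apply Iso.ext
    rw [h2, hone]
  · -- stable
    intro h
    ext x
    change (ρ h).hom.base x ∈ U ↔ x ∈ U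
    rw [hU, hU]
    constructor
    · intro H g hg hx
      refine H (h * g * h⁻¹) ?_ (hconj h g x hx)
      intro h1
      apply hg
      have : g = h⁻¹ * (h * g * h⁻¹) * h := by group
      rw [this, h1]; group
    · intro H g hg hx
      have h3 := hconj h⁻¹ g _ hx
      have h4 : (ρ h⁻¹).hom.base ((ρ h).hom.base x) = x := by
        rw [← Scheme.Hom.comp_apply, ← hmul, inv_mul_cancel, hone]
        rfl
      rw [h4] at h3
      refine H (h⁻¹ * g * h⁻¹⁻¹) ?_ h3
      intro h1
      apply hg
      have : g = h * (h⁻¹ * g * h⁻¹⁻¹) * h⁻¹ := by group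
      rw [this, h1]; group
  · intro K _ x hx g hg
    by_contra hg1
    have h1 : x.base (IsLocalRing.closedPoint K) ∈ U := hx ⟨_, rfl⟩
    rw [hU] at h1
    exact h1 g hg1 ⟨K, inferInstance, x, ⟨_, rfl⟩, hg⟩

end Groth.Agent.S15701
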