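import Groth.Statements.S15706
import Mathlib
-- import your own Groth.Agent.* helpers here

set_option autoImplicit false
universe u
open CAlg

namespace Groth.Agent.S15706

/-- Let A be a Noetherian ring with Serre's property (S_1), stated here in the equivalent form that
every associated prime of A is a minimal prime of A. Let I be an ideal of A and b an element of A/I
which is regular (a non-zero-divisor) in A/I. Then b is the image of a regular element of A. -/
theorem result (A : Type u) [CommRing A]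
    [IsNoetherianRing A] (hS1 : ∀ p ∈ associatedPrimes A A, p ∈ minimalPrimes A) (I : Ideal A)
    (b : A ⧸ I) (hb : b ∈ nonZeroDivisors (A ⧸ I)) :
    ∃ a : A, a ∈ nonZeroDivisors A ∧ Ideal.Quotient.mk I a = b := by
  classical
  obtain ⟨a₀, rfl⟩ := Ideal.Quotient.mk_surjective b
  have hfin := associatedPrimes.finite A A
  set Ass : Finset (Ideal A) := hfin.toFinset with hAss
  have hmemAss : ∀ p, p ∈ Ass ↔ p ∈ associatedPrimes A A := fun p => hfin.mem_toFinset
  have hprime : ∀ p ∈ Ass, p.IsPrime := fun p hp =>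
    IsAssociatedPrime.isPrime ((hmemAss p).mp hp)
  have hmin : ∀ p ∈ Ass, ∀ q : Ideal A, q.IsPrime → q ≤ p → p ≤ q := by
    intro p hp q hq hqp
    have h1 := hS1 p ((hmemAss p).mp hp)
    exact h1.2 ⟨hq, bot_le⟩ hqp
  set P₀ := Ass.filter (fun p => a₀ ∈ p) with hP₀
  set P₁ := Ass.filter (fun p => a₀ ∉ p) with hP₁
  -- Claim 1
  have claim1 : ∀ p ∈ P₀, ¬ I ≤ p := by
    intro p hp hIp
    rw [hP₀, Finset.mem_filter] at hp
    obtain ⟨hpA, ha₀⟩ := hp
    have hpprime := hprime p hpA
    have hpmin : p ∈ I.minimalPrimes := by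
      refine ⟨⟨hpprime, hIp⟩, fun q hq hqp => hmin p hpA q hq.1 hqp⟩
    have hann : Module.annihilator A (A ⧸ I) = I := Ideal.annihilator_quotient
    have hpass : p ∈ associatedPrimes A (A ⧸ I) := by
      apply Module.associatedPrimes.minimalPrimes_annihilator_subset_associatedPrimes A (A ⧸ I)
      rw [hann]
      exact hpmin
    rw [AssociatedPrimes.mem_iff, isAssociatedPrime_iff] at hpass
    obtain ⟨_, x, hx⟩ := hpass
    have hx0 : x ≠ 0 := by
      rintro rfl
      have : (1 : A) ∈ p := by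
        rw [hx]
        simp
      exact hpprime.ne_top ((Ideal.eq_top_iff_one p).mpr this)
    have h1 : a₀ • x = 0 := by
      have : a₀ ∈ ((⊥ : Submodule A (A ⧸ I)).colon {x}) := by rw [← hx]; exact ha₀
      rw [Submodule.mem_colon_singleton] at this
      simpa using this
    have h2 : x * Ideal.Quotient.mk I a₀ = 0 := by
      rw [mul_comm]
      obtain ⟨y, rfl⟩ := Ideal.Quotient.mk_surjective x
      rw [← map_mul]
      rw [Algebra.smul_def] at h1
      exact h1
    exact hx0 (hb.2 x h2)
  -- Claim 2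
  set K : Ideal A := I ⊓ P₁.inf id with hK
  have claim2 : ¬ ((K : Set A) ⊆ ⋃ p ∈ (P₀ : Set (Ideal A)), (id p : Ideal A)) := by
    intro hsub
    rw [Ideal.subset_union_prime (f := id) (s := P₀) ⊥ ⊥
      (fun p hp _ _ => hprime p (Finset.mem_of_mem_filter p hp))] at hsub
    obtain ⟨p, hp, hKp⟩ := hsub
    have hp' := hp
    rw [hP₀, Finset.mem_filter] at hp'
    obtain ⟨hpA, ha₀⟩ := hp'
    have hpprime := hprime p hpA
    rcases (hpprime.inf_le).mp hKp with h1 | h1
    · exact claim1 p hp h1
    · obtain ⟨p', hp', hle⟩ := (hpprime.inf_le').mp h1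
      rw [hP₁, Finset.mem_filter] at hp'
      obtain ⟨hp'A, ha₀'⟩ := hp'
      have := hmin p hpA p' (hprime p' hp'A) hle
      exact ha₀' (this ha₀)
  rw [Set.not_subset] at claim2
  obtain ⟨i, hiK, hi⟩ := claim2
  have hiI : i ∈ I := (Ideal.mem_inf.mp hiK).1
  have hiP₁ : ∀ p ∈ P₁, i ∈ p := by
    intro p hp
    have := (Ideal.mem_inf.mp hiK).2
    exact (Finset.inf_le (f := id) hp : P₁.inf id ≤ p) this
  have hiP₀ : ∀ p ∈ P₀, i ∉ p := by
    intro p hp hip
    apply hi
    simp only [Set.mem_iUnion]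
    exact ⟨p, hp, hip⟩
  refine ⟨a₀ + i, ?_, ?_⟩
  · have hcompl := biUnion_associatedPrimes_eq_compl_nonZeroDivisors A
    by_contra hnot
    have : a₀ + i ∈ (nonZeroDivisors A : Set A)ᶜ := hnot
    rw [← hcompl] at this
    simp only [Set.mem_iUnion] at this
    obtain ⟨p, hp, hmem⟩ := this
    have hpA : p ∈ Ass := (hmemAss p).mpr hp
    by_cases ha : a₀ ∈ p
    · have hp0 : p ∈ P₀ := by rw [hP₀, Finset.mem_filter]; exact ⟨hpA, ha⟩
      apply hiP₀ p hp0
      have := p.sub_mem hmem ha
      simpa using this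
    · have hp1 : p ∈ P₁ := by rw [hP₁, Finset.mem_filter]; exact ⟨hpA, ha⟩
      apply ha
      have := p.sub_mem hmem (hiP₁ p hp1)
      simpa using this
  · rw [map_add, Ideal.Quotient.eq_zero_iff_mem.mpr hiI, add_zero]

end Groth.Agent.S15706
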