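import Groth.Statements.S15708
import Mathlib
import Groth.Agent.Lib.Helper22GrAvoid

set_option autoImplicit false
universe u v
open CAlg

namespace Groth.Agent.S15708

/-- Let A be a Noetherian commutative ring graded by the natural numbers, J a homogeneous ideal, and
p_1, ..., p_r finitely many prime ideals such that no p_i contains the irrelevant ideal A_+ and no
p_i contains J. Then there is a homogeneous element z of positive degree with z in J and z in no
p_i. -/
theorem result {R : Type u} {A : Type v} [CommRing R] [CommRing A]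
    [Algebra R A] [IsNoetherianRing A] (𝒜 : ℕ → Submodule R A) [GradedRing 𝒜]
    (J : Ideal A) (hJ : J.IsHomogeneous 𝒜) (P : Finset (Ideal A))
    (hP : ∀ p ∈ P, p.IsPrime ∧ ¬ (HomogeneousIdeal.irrelevant 𝒜).toIdeal ≤ p ∧ ¬ J ≤ p) :
    ∃ (z : A) (n : ℕ), 0 < n ∧ z ∈ 𝒜 n ∧ z ∈ J ∧ ∀ p ∈ P, z ∉ p := by
  classical
  have hIh : (J ⊓ (HomogeneousIdeal.irrelevant 𝒜).toIdeal).IsHomogeneous 𝒜 :=
    hJ.inf (HomogeneousIdeal.irrelevant 𝒜).isHomogeneous
  obtain ⟨x, d, hd, hxd, hxI, hx⟩ := Groth.Agent.Lib.Helper22.GrAvoid.exists_homogeneous_avoid 𝒜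
    (J ⊓ (HomogeneousIdeal.irrelevant 𝒜).toIdeal) hIh inf_le_right P (by
      intro q hq
      obtain ⟨hq1, hq2, hq3⟩ := hP q hq
      refine ⟨hq1, fun hle => ?_⟩
      have : J * (HomogeneousIdeal.irrelevant 𝒜).toIdeal ≤ q := le_trans Ideal.mul_le_inf hle
      rcases (Ideal.IsPrime.mul_le hq1).mp this with h1 | h1
      · exact hq3 h1
      · exact hq2 h1)
  exact ⟨x, d, hd, hxd, hxI.1, hx⟩

end Groth.Agent.S15708
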