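import Groth.Statements.S1571
import Mathlib

set_option autoImplicit false
universe u
open CategoryTheory CategoryTheory.Limits AlgebraicGeometry
open Divisors

namespace Groth.Agent.S1571

/-- The open complement of an effective Cartier divisor is an affine open immersion and is
scheme-theoretically dense. -/
theorem result (S : Scheme.{u}) (D : S.IdealSheafData) (hD : BlowUp.IsEffCartierIdeal D) :
    IsAffineHom (Scheme.Opens.ι (X := S) D.support.compl) ∧ IsSchemeTheoreticallyDominant (Scheme.Opens.ι (X := S) D.support.compl) := by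
  set W : S.Opens := D.support.compl with hW
  choose V hxV f hf hDf using hD
  have key : ∀ x, W ⊓ (V x).1 = S.basicOpen (f x) := by
    intro x
    ext y
    constructor
    · rintro ⟨hyW, hyV⟩
      have h1 : y ∉ D.support := hyW
      rw [Scheme.IdealSheafData.mem_support_iff_of_mem hyV, hDf, Scheme.zeroLocus_span,
        Scheme.zeroLocus_singleton] at h1
      simpa using h1
    · intro hy
      have hyV : y ∈ (V x).1 := S.basicOpen_le _ hy
      refine ⟨?_, hyV⟩
      change y ∉ D.support
      rw [Scheme.IdealSheafData.mem_support_iff_of_mem hyV, hDf x, Scheme.zeroLocus_span,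
        Scheme.zeroLocus_singleton]
      simpa using hy
  have himg : ∀ x, W.ι ''ᵁ W.ι ⁻¹ᵁ (V x).1 = S.basicOpen (f x) := by
    intro x
    rw [Scheme.Hom.image_preimage_eq_opensRange_inf, Scheme.Opens.opensRange_ι, key]
  have haff : IsAffineHom W.ι := by
    apply isAffineHom_of_forall_exists_isAffineOpen
    intro x
    refine ⟨(V x).1, hxV x, (V x).2, ?_⟩
    rw [← W.ι.isAffineOpen_iff_of_isOpenImmersion, himg]
    exact (V x).2.basicOpen _
  refine ⟨haff, ⟨?_⟩⟩
  have hcov : ⨆ x, (V x).1 = ⊤ := top_le_iff.mp (fun x _ => by simpa using ⟨x, hxV x⟩)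
  refine Scheme.IdealSheafData.ext_of_iSup_eq_top V hcov ?_
  intro x
  rw [Scheme.Hom.ker_apply, Scheme.IdealSheafData.ideal_bot, Pi.bot_apply, eq_bot_iff]
  intro s hs
  rw [RingHom.mem_ker, Scheme.Opens.ι_app] at hs
  have e : S.basicOpen (f x) ≤ W.ι ''ᵁ W.ι ⁻¹ᵁ (V x).1 := (himg x).ge
  have hle : W.ι ''ᵁ W.ι ⁻¹ᵁ (V x).1 ≤ (V x).1 := by rw [himg]; exact S.basicOpen_le _
  have hs' : S.presheaf.map (homOfLE hle).op s = 0 := hs
  have h0 : S.presheaf.map (homOfLE (S.basicOpen_le (f x))).op s = 0 := by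
    have : S.presheaf.map (homOfLE (S.basicOpen_le (f x))).op =
        S.presheaf.map (homOfLE hle).op ≫ S.presheaf.map (homOfLE e).op := by
      rw [← Functor.map_comp]; rfl
    rw [this, CommRingCat.comp_apply, hs', map_zero]
  obtain ⟨n, hn⟩ := exists_pow_mul_eq_zero_of_res_basicOpen_eq_zero_of_isAffineOpen S (V x).2 s (f x) h0
  have hfn : f x ^ n ∈ nonZeroDivisors Γ(S, (V x).1) := pow_mem (hf x) n
  exact (mem_nonZeroDivisors_iff.mp hfn).1 s hn

end Groth.Agent.S1571
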