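import Groth.Statements.S15712
import Groth.Agent.Lib.Helper20ZClos21

set_option autoImplicit false
set_option linter.style.haveILetI false
universe u
open CategoryTheory AlgebraicGeometry TopologicalSpace
open RatSing

namespace Groth.Agent.S15712

/-- Let X be a locally Noetherian scheme with Serre's property (S_1), i.e. every local ring O_{X,x} has
depth at least min(1, dim O_{X,x}) (for instance X Cohen–Macaulay), and let U ⊆ X be open. Then
scheme-theoretic density of U in X is equivalent to U being dense as a subset. (The published
statement assumes every scheme excellent, in particular locally Noetherian.) -/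
theorem result (X : Scheme.{u}) [IsLocallyNoetherian X]
    (hS1 : ∀ x : X, min (1 : WithBot ℕ∞) (ringKrullDim (X.presheaf.stalk x)) ≤
      ((LocCoh.depth (X.presheaf.stalk x) (X.presheaf.stalk x) : ℕ∞) : WithBot ℕ∞))
    (U : X.Opens) : CInt.IsSchematicallyDense U ↔ Dense (U : Set X) := by
  constructor
  · exact Groth.Agent.Lib.Helper20.ZClosLib.dense_of_isSchematicallyDense U
  · intro hU
    apply Groth.Agent.Lib.Helper20.ZClosLib.isSchematicallyDense_of_one_le_depth
    intro x hx
    have hdim : (1 : WithBot ℕ∞) ≤ ringKrullDim (X.presheaf.stalk x) := by
      by_contra h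
      exact hx (Groth.Agent.Lib.Helper20.ZClosLib.mem_of_dense_of_dim_le_zero U hU x
        (Groth.Agent.Lib.Helper20.ZClosLib.le_zero_of_not_one_le _ h))
    have h1 := hS1 x
    rw [min_eq_left hdim] at h1
    exact WithBot.coe_le_coe.mp h1

end Groth.Agent.S15712
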