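import Groth.Statements.S15715
import Groth.Agent.Lib.Helper2QCoh
import Groth.Agent.Lib.Helper2ModExact

set_option autoImplicit false
set_option linter.style.haveILetI false
universe u
open CategoryTheory AlgebraicGeometry TopologicalSpace
open RatSing
open Opposite Groth.Agent.Lib.Helper2.QCoh Groth.Agent.Lib.Helper2.ModExact

namespace Groth.Agent.S15715

/-- Let X be a locally Noetherian scheme, φ : F → G a homomorphism of O_X-modules with F quasi-coherent
and torsion-free (over every affine open V, no nonzero section of F is killed by a regular element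
of O_X(V)), and U a scheme-theoretically dense open subset of X such that the restriction of φ to U
is injective. Then φ is injective. (The published statement allows an arbitrary O_X-module F; for
the skyscraper sheaf on the affine line over a field, placed at a closed point with value the local
ring at that point, which is torsion-free in this sense, the zero map to the zero module is
injective over the dense open complement of the point but not injective. This row takes F
quasi-coherent.) -/
theorem result (X : Scheme.{u})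
    [IsLocallyNoetherian X] (F G : X.Modules) (hF : Coh.IsQCoh F)
    (htf : ∀ V : X.affineOpens, Submodule.torsion Γ(X, V.1) (F.val.obj (Opposite.op V.1)) = ⊥)
    (φ : F ⟶ G) (U : X.Opens) (hU : CInt.IsSchematicallyDense U)
    (hφU : ∀ V : X.Opens, V ≤ U → Function.Injective ⇑(ConcreteCategory.hom (φ.val.app (Opposite.op V)))) (V : X.Opens) :
    Function.Injective ⇑(ConcreteCategory.hom (φ.val.app (Opposite.op V))) := by
  haveI : F.IsQuasicoherent := hF
  -- affine case
  have haff : ∀ (W : X.Opens) (hW : IsAffineOpen W) (s : Γ(F, W)),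
      Scheme.Modules.Hom.app φ W s = 0 → s = 0 := by
    intro W hW s hs
    haveI : IsNoetherianRing Γ(X, W) := IsLocallyNoetherian.component_noetherian ⟨W, hW⟩
    have hpow : ∀ g : Γ(X, W), X.basicOpen g ≤ U → ∃ n : ℕ, g ^ n • s = 0 := by
      intro g hg
      apply exists_pow_smul_eq_zero hW F g s
      apply hφU (X.basicOpen g) hg
      have h1 := app_map φ (homOfLE (X.basicOpen_le g)) s
      rw [hs, map_zero] at h1
      exact h1.trans (map_zero _).symm
    have hJ : ∃ t ∈ ann F s, t ∈ nonZeroDivisors Γ(X, W) := by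
      by_contra hnot
      push Not at hnot
      have hsub : ((ann F s : Ideal Γ(X, W)) : Set Γ(X, W)) ⊆
          ⋃ p ∈ associatedPrimes Γ(X, W) Γ(X, W), (p : Set Γ(X, W)) := by
        intro t ht
        rw [biUnion_associatedPrimes_eq_compl_nonZeroDivisors]
        exact hnot t ht
      have hfin : (associatedPrimes Γ(X, W) Γ(X, W)).Finite := associatedPrimes.finite _ _
      have hsub' : ((ann F s : Ideal Γ(X, W)) : Set Γ(X, W)) ⊆
          ⋃ p ∈ (↑hfin.toFinset : Set (Ideal Γ(X, W))), ((id p : Ideal Γ(X, W)) : Set Γ(X, W)) := by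
        simpa using hsub
      obtain ⟨q, hq, hJq⟩ := (Ideal.subset_union_prime (f := id) ⊤ ⊤
        (fun i hi _ _ => ((hfin.mem_toFinset.mp hi) : IsAssociatedPrime i _).isPrime)).mp hsub'
      rw [Set.Finite.mem_toFinset] at hq
      obtain ⟨hqprime, c, hc⟩ := isAssociatedPrime_iff.mp hq
      have hcq : ∀ t ∈ q, t * c = 0 := by
        intro t ht
        have : t ∈ (⊥ : Submodule Γ(X, W) Γ(X, W)).colon {c} := hc ▸ ht
        rw [Submodule.mem_colon_singleton, Submodule.mem_bot] at this
        exact this
      -- `c` vanishes on `W ⊓ U`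
      have hc0 : X.presheaf.map (homOfLE (inf_le_left : W ⊓ U ≤ W)).op c =
          X.presheaf.map (homOfLE (inf_le_left : W ⊓ U ≤ W)).op 0 := by
        refine TopCat.Sheaf.eq_of_locally_eq' X.sheaf
          (fun g : {g : Γ(X, W) // X.basicOpen g ≤ U} => X.basicOpen g.1) (W ⊓ U)
          (fun g => homOfLE (le_inf (X.basicOpen_le _) g.2)) ?_ _ _ ?_
        · rintro x ⟨hxW, hxU⟩
          obtain ⟨g, hgU, hxg⟩ := hW.exists_basicOpen_le (V := U) ⟨x, hxU⟩ hxW
          exact Opens.mem_iSup.2 ⟨⟨g, hgU⟩, hxg⟩
        · rintro ⟨g, hgU⟩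
          obtain ⟨n, hn⟩ := hpow g hgU
          have hgn : g ^ n ∈ q := hJq (mem_ann.mpr hn)
          have h0 := hcq _ hgn
          -- restrict to `D(g)`: `g` is a unit there
          have hu : IsUnit (X.presheaf.map (homOfLE (X.basicOpen_le g)).op g) :=
            X.toRingedSpace.isUnit_res_basicOpen g
          have h1 : X.presheaf.map (homOfLE (X.basicOpen_le g)).op (g ^ n * c) = 0 := by
            rw [h0, map_zero]
          rw [map_mul, map_pow] at h1
          have h2 : X.presheaf.map (homOfLE (X.basicOpen_le g)).op c = 0 :=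
            (hu.pow n).mul_right_eq_zero.mp h1
          have h3 : (X.presheaf.map (homOfLE (inf_le_left : W ⊓ U ≤ W)).op ≫
              X.presheaf.map (homOfLE (le_inf (X.basicOpen_le g) hgU) : X.basicOpen g ⟶ W ⊓ U).op) =
              X.presheaf.map (homOfLE (X.basicOpen_le g)).op := by
            rw [← Functor.map_comp]; rfl
          change (X.presheaf.map (homOfLE (inf_le_left : W ⊓ U ≤ W)).op ≫
              X.presheaf.map (homOfLE (le_inf (X.basicOpen_le g) hgU) : X.basicOpen g ⟶ W ⊓ U).op) c =
            (X.presheaf.map (homOfLE (inf_le_left : W ⊓ U ≤ W)).op ≫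
              X.presheaf.map (homOfLE (le_inf (X.basicOpen_le g) hgU) : X.basicOpen g ⟶ W ⊓ U).op) 0
          rw [h3, h2, map_zero]
      have hc00 : c = 0 := hU W hc0
      apply hqprime.ne_top
      rw [hc, hc00]
      ext t
      simp
    obtain ⟨t, htJ, htreg⟩ := hJ
    have hmem : s ∈ Submodule.torsion Γ(X, W) (F.val.obj (op W)) := ⟨⟨t, htreg⟩, mem_ann.mp htJ⟩
    rw [htf ⟨W, hW⟩] at hmem
    exact (Submodule.mem_bot _).mp hmem
  rw [injective_iff_map_eq_zero]
  intro s hs
  have hs' : Scheme.Modules.Hom.app φ V s = 0 := hs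
  refine TopCat.Sheaf.eq_of_locally_eq' ⟨F.presheaf, F.isSheaf⟩
    (fun W : {W : X.affineOpens // W.1 ≤ V} => W.1.1) V (fun W => homOfLE W.2) ?_ _ _ ?_
  · intro x hx
    obtain ⟨_, ⟨W, hW, rfl⟩, hxW, hWV⟩ :=
      X.isBasis_affineOpens.exists_subset_of_mem_open hx V.isOpen
    exact Opens.mem_iSup.2 ⟨⟨⟨W, hW⟩, hWV⟩, hxW⟩
  · rintro ⟨⟨W, hW⟩, hWV⟩
    change F.presheaf.map (homOfLE hWV).op s = F.presheaf.map (homOfLE hWV).op 0
    rw [map_zero]
    apply haff W hW
    have h1 := app_map φ (homOfLE hWV) s
    rw [hs', map_zero] at h1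
    exact h1

end Groth.Agent.S15715
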