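import Groth.Statements.S15717
import Groth.Agent.Lib.Helper28DepthCM2
-- import your own Groth.Agent.* helpers here

set_option autoImplicit false
universe u
open CAlg

namespace Groth.Agent.S15717
open Groth.Agent.Lib.Helper28
open RingTheory.Sequence

/-- Let R be a Cohen–Macaulay local ring and I an ideal of R with R/I equidimensional (all minimal
primes p over I have the same dim R/p). Then there is a regular sequence r_1, ..., r_n in I such
that the closed subscheme V(r_1, ..., r_n) of Spec R, a local complete intersection, contains V(I),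
has the same dimension as V(I), and has the irreducible components of V(I) among its irreducible
components: dim R/(r_1, ..., r_n) = dim R/I and every minimal prime over I is a minimal prime over
(r_1, ..., r_n). The sequence is asked to be weakly regular (each r_i a non-zero-divisor modulo the
previous ones), which for I proper is the same as regular and which also covers I = R with the
sequence (1). -/
theorem result (R : Type u) [CommRing R]
    [LocCoh.IsCohenMacaulayLocalRing R] (I : Ideal R)
    (hI : ∀ p ∈ I.minimalPrimes, ringKrullDim (R ⧸ p) = ringKrullDim (R ⧸ I)) :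
    ∃ rs : List R, RingTheory.Sequence.IsWeaklyRegular R rs ∧ Ideal.ofList rs ≤ I ∧
      ringKrullDim (R ⧸ Ideal.ofList rs) = ringKrullDim (R ⧸ I) ∧
      I.minimalPrimes ⊆ (Ideal.ofList rs).minimalPrimes := by
  have hCM : LocCoh.IsCohenMacaulayModule R R :=
    LocCoh.IsCohenMacaulayLocalRing.supportDim_eq_depth
  by_cases htop : I = ⊤
  · subst htop
    refine ⟨[1], ?_, le_top, ?_, ?_⟩
    · rw [isWeaklyRegular_cons_iff]
      refine ⟨?_, IsWeaklyRegular.nil _ _⟩
      intro a b hab
      simpa using hab
    · have h1 : Ideal.ofList ([1] : List R) = ⊤ := by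
        rw [Ideal.ofList_singleton, Ideal.span_singleton_one]
      rw [h1]
    · rw [Ideal.minimalPrimes_top]
      exact Set.empty_subset _
  have hIm : I ≤ IsLocalRing.maximalIdeal R := IsLocalRing.le_maximalIdeal htop
  have hIM : I • (⊤ : Submodule R R) ≠ ⊤ := smul_top_ne_top_of_le_maximalIdeal hIm
  obtain ⟨n, hn⟩ := ENat.ne_top_iff_exists.mp (idealDepth_ne_top hIM)
  obtain ⟨rs, hlen, hmem, hreg⟩ := (natCast_le_idealDepth_iff hIM n).mp (le_of_eq hn)
  have hle : Ideal.ofList rs ≤ I := ofList_le_of_forall_mem hmem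
  -- dimension count
  have hdim1 := Module.supportDim_add_length_eq_supportDim_of_isRegular rs hreg
  have hdim2 := supportDim_eq_add_idealDepth_of_isCohenMacaulayModule I htop hCM
  have hq1 : Module.supportDim R (R ⧸ (Ideal.ofList rs • ⊤ : Submodule R R)) =
      ringKrullDim (R ⧸ Ideal.ofList rs) := by
    have hI' : (Ideal.ofList rs • ⊤ : Submodule R R) = Ideal.ofList rs := by
      rw [smul_eq_mul, Ideal.mul_top]
    rw [Module.supportDim_eq_of_equiv (Submodule.quotEquivOfEq _ _ hI')]
    exact Module.supportDim_quotient_eq_ringKrullDim _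
  have hq2 : Module.supportDim R (R ⧸ (I • ⊤ : Submodule R R)) = ringKrullDim (R ⧸ I) := by
    have hI' : (I • ⊤ : Submodule R R) = I := by
      rw [smul_eq_mul, Ideal.mul_top]
    rw [Module.supportDim_eq_of_equiv (Submodule.quotEquivOfEq _ _ hI')]
    exact Module.supportDim_quotient_eq_ringKrullDim _
  have hdim : ringKrullDim (R ⧸ Ideal.ofList rs) = ringKrullDim (R ⧸ I) := by
    rw [hq1] at hdim1
    rw [hq2, ← hn, ← hdim1, hlen] at hdim2
    exact withBot_enat_add_natCast_cancel hdim2
  refine ⟨rs, hreg.toIsWeaklyRegular, hle, hdim, ?_⟩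
  intro p hp
  have hpp : p.IsPrime := hp.1.1
  refine ⟨⟨hpp, hle.trans hp.1.2⟩, ?_⟩
  intro q hq hqp
  by_contra hnle
  have hlt : q < p := lt_of_le_of_ne hqp (fun e => hnle (e ▸ le_rfl))
  have hqprime : q.IsPrime := hq.1
  have h1 := ringKrullDim_quotient_succ_le_of_lt hlt
  have h2 : ringKrullDim (R ⧸ q) ≤ ringKrullDim (R ⧸ Ideal.ofList rs) :=
    ringKrullDim_le_of_surjective (Ideal.Quotient.factor hq.2) (Ideal.Quotient.factor_surjective hq.2)
  rw [hI p hp, ← hdim] at h1
  have h3 := h1.trans h2
  -- `d + 1 ≤ d` impossible for finite `d`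
  have hfin : ringKrullDim (R ⧸ Ideal.ofList rs) ≠ ⊤ := by
    have : ringKrullDim (R ⧸ Ideal.ofList rs) ≤ ringKrullDim R := ringKrullDim_quotient_le _
    intro e
    rw [e] at this
    exact ringKrullDim_ne_top (top_le_iff.mp this)
  have hbot : ringKrullDim (R ⧸ Ideal.ofList rs) ≠ ⊥ := by
    have : Nontrivial (R ⧸ Ideal.ofList rs) :=
      Ideal.Quotient.nontrivial_iff.mpr (fun e => htop (top_le_iff.mp (e ▸ hle)))
    exact ne_bot_of_le_ne_bot (WithBot.zero_ne_bot) ringKrullDim_nonneg_of_nontrivial
  obtain ⟨d, hd⟩ := WithBot.ne_bot_iff_exists.mp hbot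
  rw [← hd] at h3 hfin
  have hd' : d ≠ ⊤ := fun e => hfin (by rw [e]; rfl)
  have : d + 1 ≤ d := by exact_mod_cast h3
  exact absurd this (not_le.mpr (ENat.lt_add_one_iff hd' |>.mpr le_rfl))

end Groth.Agent.S15717
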