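import Groth.Statements.S1573
import Mathlib
import Groth.Agent.S2851

set_option autoImplicit false
universe u
open CategoryTheory CategoryTheory.Limits AlgebraicGeometry
open Divisors

namespace Groth.Agent.S1573

open TopologicalSpace in
/-- A point of a locally Noetherian scheme without proper generisations lies in every dense open. -/
theorem mem_of_dense_of_forall_specializes (X : Scheme.{u}) [IsLocallyNoetherian X]
    (U : X.Opens) (hU : Dense (U : Set X)) (ξ : X) (hgen : ∀ y : X, y ⤳ ξ → y = ξ) : ξ ∈ U := by
  obtain ⟨W, hW, hξW, -⟩ := exists_isAffineOpen_mem_and_subset (x := ξ) (U := ⊤) trivial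
  haveI : IsNoetherianRing Γ(X, W) := IsLocallyNoetherian.component_noetherian ⟨W, hW⟩
  let S : Set X := (W : Set X)
  haveI : NoetherianSpace S := noetherianSpace_of_isAffineOpen W hW
  haveI : QuasiSober S := W.isOpen.isOpenEmbedding_subtypeVal.quasiSober
  let z : S := ⟨ξ, hξW⟩
  have hz : ∀ z' : S, z' ⤳ z → z' = z := by
    intro z' h
    apply Subtype.ext
    exact hgen _ (h.map continuous_subtype_val)
  -- the irreducible component of z is the closure of z
  have hZ := irreducibleComponent_mem_irreducibleComponents z
  obtain ⟨η, hη⟩ := QuasiSober.sober (isIrreducible_irreducibleComponent (x := z))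
    isClosed_irreducibleComponent
  have hηz : η ⤳ z := by
    rw [specializes_iff_mem_closure, hη.def]
    exact mem_irreducibleComponent
  have hcl : closure {z} = irreducibleComponent z := by
    have h := hη.def
    rwa [hz η hηz] at h
  obtain ⟨o, ho, hne, hoZ⟩ :=
    NoetherianSpace.exists_isOpen_nonempty_subset_irreducibleComponent _ hZ
  -- image of `o` in `X`
  have ho' : IsOpen (Subtype.val '' o : Set X) := W.isOpen.isOpenMap_subtype_val _ ho
  obtain ⟨y, hy⟩ := hU.inter_open_nonempty _ ho' (hne.image _)
  obtain ⟨⟨y', hy'o, rfl⟩, hyU⟩ := hy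
  have hsp : z ⤳ y' := by
    rw [specializes_iff_mem_closure, hcl]
    exact hoZ hy'o
  have hsp' : ξ ⤳ (y' : X) := hsp.map continuous_subtype_val
  exact hsp'.mem_open U.isOpen hyU

/-- Let X be locally Noetherian and U an open subscheme whose inclusion is an affine morphism. At every
point ξ outside U which is maximal under generisation among points outside U, the local ring of X
has dimension at most one; if U is dense the dimension equals one. -/
theorem result (X : Scheme.{u}) [IsLocallyNoetherian X]
    (U : X.Opens) [IsAffineHom U.ι] (ξ : X) (hξ : ξ ∉ U) (hgen : ∀ y : X, y ∉ U → y ⤳ ξ → y = ξ) :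
    ringKrullDim (X.presheaf.stalk ξ) ≤ 1 ∧ (Dense (U : Set X) → ringKrullDim (X.presheaf.stalk ξ) = 1) := by
  have h1 : ringKrullDim (X.presheaf.stalk ξ) ≤ 1 := Groth.Agent.S2851.result X U ξ hξ hgen
  refine ⟨h1, fun hU => le_antisymm h1 ?_⟩
  by_contra hlt
  have key : ∀ x : WithBot ℕ∞, ¬ (1 ≤ x) → x ≤ 0 := by
    intro x hx
    induction x using WithBot.recBotCoe with
    | bot => exact bot_le
    | coe n =>
      have : n = 0 := by
        by_contra hne
        exact hx (by exact_mod_cast Order.one_le_iff_ne_zero.mpr hne)
      subst this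
      simp
  have h0 : Ring.KrullDimLE 0 (X.presheaf.stalk ξ) := by
    rw [Ring.krullDimLE_iff]
    exact key _ hlt
  apply hξ
  refine mem_of_dense_of_forall_specializes X U hU ξ fun y hy => ?_
  have hmem : y ∈ Set.range (X.fromSpecStalk ξ) := by
    rw [Scheme.range_fromSpecStalk]; exact hy
  obtain ⟨q, rfl⟩ := hmem
  have hq : q = IsLocalRing.closedPoint (X.presheaf.stalk ξ) := by
    apply PrimeSpectrum.ext
    exact Ring.KrullDimLE.eq_maximalIdeal_of_isPrime q.asIdeal
  rw [hq]
  exact Scheme.fromSpecStalk_closedPoint

end Groth.Agent.S1573
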