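import Groth.Statements.S15737
import Mathlib.Tactic
-- import your own Groth.Agent.* helpers here

set_option autoImplicit false
open W4c2invhilbsl2

namespace Groth.Agent.S15737

/-- For a monomial X₀^d₀X₁^d₁X₂^d₂ of the polynomial ring in X₀, X₁, X₂ (X₂ standing for Xⱼ, j = 3 or 4,
of the five-variable ring) put n = d₀ − p·d₁ + q·d₂ (its weight for the torus diag(t, t^(−p), t^q)),
c = d₁ − d₂ and ω = p·d₁ − q·d₂, so that d₀ = n + ω; here 0 < p < q are coprime integers. Then n + ω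
< q − p, that is d₀ < q − p, holds if and only if ω is the least value of ω among all monomials with
the same pair (n, c). -/
theorem result (p q : ℕ) (hp : 0 < p) (hpq : p < q) (hcop : Nat.Coprime p q) (d0 d1 d2 : ℕ) :
    d0 < q - p ↔
      ∀ e0 e1 e2 : ℕ, (e0 : ℤ) - (p : ℤ) * e1 + (q : ℤ) * e2 = (d0 : ℤ) - (p : ℤ) * d1 + (q : ℤ) * d2 → (e1 : ℤ) - e2 = (d1 : ℤ) - d2 →
        (p : ℤ) * d1 - (q : ℤ) * d2 ≤ (p : ℤ) * e1 - (q : ℤ) * e2 := by
  have hpq' : (p : ℤ) < q := by exact_mod_cast hpq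
  constructor
  · intro hd e0 e1 e2 hn hc
    have hd' : (d0 : ℤ) < (q : ℤ) - p := by omega
    have he0 : (0 : ℤ) ≤ e0 := by positivity
    -- t = e2 - d2 = e1 - d1
    obtain ⟨t, ht⟩ : ∃ t : ℤ, t = (e2 : ℤ) - d2 := ⟨_, rfl⟩
    have h1 : (e1 : ℤ) = d1 + t := by rw [ht]; linarith
    have h2 : (e2 : ℤ) = d2 + t := by rw [ht]; ring
    have h0 : (e0 : ℤ) = d0 - ((q : ℤ) - p) * t := by
      rw [h1, h2] at hn
      linarith
    have htle : t ≤ 0 := by
      by_contra hcon
      push Not at hcon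
      have : ((q : ℤ) - p) * t ≥ (q : ℤ) - p := by nlinarith
      linarith
    rw [h1, h2]
    nlinarith
  · intro h
    by_contra hcon
    push Not at hcon
    have hle : p ≤ q := hpq.le
    have h1 := h (d0 - (q - p)) (d1 + 1) (d2 + 1)
      (by push_cast [Nat.cast_sub hcon, Nat.cast_sub hle]; ring)
      (by push_cast; ring)
    push_cast at h1
    linarith

end Groth.Agent.S15737
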