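import Groth.Statements.S15738
import Mathlib

set_option autoImplicit false
universe u
open W4c2invhilbsl2

namespace Groth.Agent.S15738

open MvPolynomial

section
variable {k : Type u} [Field k]

/-- the monomial -/
noncomputable abbrev Mon (d0 d1 d2 : ℕ) : MvPolynomial (Fin 3) k :=
  X (0 : Fin 3) ^ d0 * X (1 : Fin 3) ^ d1 * X (2 : Fin 3) ^ d2

noncomputable abbrev Bb (r : ℕ) : MvPolynomial (Fin 3) k :=
  X (0 : Fin 3) ^ r - X (1 : Fin 3) * X (2 : Fin 3)

lemma key (r d0 e1 e2 t : ℕ) :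
    (Mon d0 (e1 + t) (e2 + t) - Mon (d0 + r * t) e1 e2 : MvPolynomial (Fin 3) k) ∈
      Ideal.span {Bb r} := by
  rw [Ideal.mem_span_singleton]
  have h1 : (Mon d0 (e1 + t) (e2 + t) - Mon (d0 + r * t) e1 e2 : MvPolynomial (Fin 3) k)
      = - (Mon d0 e1 e2 * ((X (0 : Fin 3) ^ r) ^ t - (X (1 : Fin 3) * X (2 : Fin 3)) ^ t)) := by
    simp only [Mon]
    ring
  rw [h1, dvd_neg]
  exact Dvd.dvd.mul_left (sub_dvd_pow_sub_pow _ _ t) _

lemma i' (p q r : ℕ) (hq : q = p + r) (d0 d1 d2 e0 e1 e2 : ℕ)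
    (hn : (e0 : ℤ) - (p : ℤ) * e1 + (q : ℤ) * e2 = (d0 : ℤ) - (p : ℤ) * d1 + (q : ℤ) * d2)
    (hc : (d1 : ℤ) - d2 = (e1 : ℤ) - e2) :
    (Mon d0 d1 d2 - Mon e0 e1 e2 : MvPolynomial (Fin 3) k) ∈ Ideal.span {Bb r} := by
  subst hq
  push_cast at hn
  rcases le_total e1 d1 with h | h
  · obtain ⟨t, rfl⟩ := Nat.exists_eq_add_of_le h
    have hd2 : d2 = e2 + t := by push_cast at hc; omega
    subst hd2
    have he0 : e0 = d0 + r * t := by
      have : (e0 : ℤ) = d0 + r * t := by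
        push_cast at hn
        linear_combination hn
      exact_mod_cast this
    subst he0
    exact key r d0 e1 e2 t
  · obtain ⟨t, rfl⟩ := Nat.exists_eq_add_of_le h
    have hd2 : e2 = d2 + t := by push_cast at hc; omega
    subst hd2
    have he0 : d0 = e0 + r * t := by
      have : (d0 : ℤ) = e0 + r * t := by
        push_cast at hn
        linear_combination -hn
      exact_mod_cast this
    subst he0
    have := key (k := k) r e0 d1 d2 t
    rw [← neg_sub]
    exact (Ideal.span {Bb r}).neg_mem this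

end


/-- Let k be a field and m ≥ 1; for a monomial X₀^d₀X₁^d₁X₂^d₂ of the polynomial ring in X₀, X₁, X₂ (X₂
standing for Xⱼ, j = 3 or 4, of the five-variable ring) put n = d₀ − p·d₁ + q·d₂ (its weight for the
torus diag(t, t^(−p), t^q)), c = d₁ − d₂ and ω = p·d₁ − q·d₂, so that d₀ = n + ω; here 0 < p < q are
coprime integers. Take two monomials X₀^d₀X₁^d₁X₂^d₂ and X₀^e₀X₁^e₁X₂^e₂ with the same n and with
values c, c' of c congruent modulo m (so both lie in the same ℤ × ℤ/m-weight piece for the weights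
(1,0), (−p,−1), (q,1)). Then: (i) if c = c', the difference of the two monomials lies in the
principal ideal (X₀^(q−p) − X₁X₂); (ii) if c' < c, the monomial X₀^d₀X₁^d₁X₂^d₂ lies in the ideal
(X₀^(q−p) − X₁X₂, X₀^(mp)X₁^m); (iii) in all cases the difference lies in the ideal (X₀^(q−p) −
X₁X₂, 1 − X₀^(mp)X₁^m). -/
theorem result (k : Type u) [Field k] (p q m : ℕ) (hp : 0 < p) (hpq : p < q) (hcop : Nat.Coprime p q) (hm : 0 < m)
    (d0 d1 d2 e0 e1 e2 : ℕ) (hn : (e0 : ℤ) - (p : ℤ) * e1 + (q : ℤ) * e2 = (d0 : ℤ) - (p : ℤ) * d1 + (q : ℤ) * d2)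
    (hc : (m : ℤ) ∣ ((d1 : ℤ) - d2) - ((e1 : ℤ) - e2)) :
    ((d1 : ℤ) - d2 = (e1 : ℤ) - e2 →
      (MvPolynomial.X (0 : Fin 3) ^ d0 * MvPolynomial.X (1 : Fin 3) ^ d1 * MvPolynomial.X (2 : Fin 3) ^ d2 - MvPolynomial.X (0 : Fin 3) ^ e0 * MvPolynomial.X (1 : Fin 3) ^ e1 * MvPolynomial.X (2 : Fin 3) ^ e2 : MvPolynomial (Fin 3) k) ∈ Ideal.span {MvPolynomial.X (0 : Fin 3) ^ (q - p) - MvPolynomial.X (1 : Fin 3) * MvPolynomial.X (2 : Fin 3)}) ∧
    ((e1 : ℤ) - e2 < (d1 : ℤ) - d2 →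
      (MvPolynomial.X (0 : Fin 3) ^ d0 * MvPolynomial.X (1 : Fin 3) ^ d1 * MvPolynomial.X (2 : Fin 3) ^ d2 : MvPolynomial (Fin 3) k) ∈ Ideal.span {MvPolynomial.X (0 : Fin 3) ^ (q - p) - MvPolynomial.X (1 : Fin 3) * MvPolynomial.X (2 : Fin 3), MvPolynomial.X (0 : Fin 3) ^ (m * p) * MvPolynomial.X (1 : Fin 3) ^ m}) ∧
    ((MvPolynomial.X (0 : Fin 3) ^ d0 * MvPolynomial.X (1 : Fin 3) ^ d1 * MvPolynomial.X (2 : Fin 3) ^ d2 - MvPolynomial.X (0 : Fin 3) ^ e0 * MvPolynomial.X (1 : Fin 3) ^ e1 * MvPolynomial.X (2 : Fin 3) ^ e2 : MvPolynomial (Fin 3) k) ∈ Ideal.span {MvPolynomial.X (0 : Fin 3) ^ (q - p) - MvPolynomial.X (1 : Fin 3) * MvPolynomial.X (2 : Fin 3), 1 - MvPolynomial.X (0 : Fin 3) ^ (m * p) * MvPolynomial.X (1 : Fin 3) ^ m}) := by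
  obtain ⟨r, hr⟩ : ∃ r, q = p + r := ⟨q - p, by omega⟩
  have hqp : q - p = r := by omega
  rw [hqp]
  set G : MvPolynomial (Fin 3) k := X (0 : Fin 3) ^ (m * p) * X (1 : Fin 3) ^ m with hG
  -- M(e) * G^s is a monomial
  have hMG : ∀ (a0 a1 a2 s : ℕ), (Mon a0 a1 a2 * G ^ s : MvPolynomial (Fin 3) k)
      = Mon (a0 + m * p * s) (a1 + m * s) a2 := by
    intro a0 a1 a2 s
    simp only [Mon, hG]
    ring
  refine ⟨?_, ?_, ?_⟩
  · intro hceq
    exact i' p q r hr d0 d1 d2 e0 e1 e2 hn hceq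
  · intro hlt
    obtain ⟨s, hs⟩ := hc
    have hspos : 0 < s := by
      have hm' : (0 : ℤ) < m := by exact_mod_cast hm
      have : 0 < (m : ℤ) * s := by rw [← hs]; linarith
      exact (mul_pos_iff_of_pos_left hm').1 this
    obtain ⟨s', rfl⟩ : ∃ s' : ℕ, s = s' + 1 := ⟨(s - 1).toNat, by omega⟩
    have h1 : (Mon d0 d1 d2 - Mon (e0 + m * p * (s' + 1)) (e1 + m * (s' + 1)) e2 :
        MvPolynomial (Fin 3) k) ∈ Ideal.span {Bb r} := by
      apply i' p q r hr
      · push_cast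
        linear_combination hn
      · push_cast
        linear_combination hs
    set I := Ideal.span {Bb (k := k) r, G} with hI
    have hB : Bb r ∈ I := Ideal.subset_span (by simp)
    have hGI : G ∈ I := Ideal.subset_span (by simp)
    have hle : Ideal.span {Bb (k := k) r} ≤ I := by
      rw [Ideal.span_le, Set.singleton_subset_iff]; exact hB
    have h2 : (Mon (e0 + m * p * (s' + 1)) (e1 + m * (s' + 1)) e2 : MvPolynomial (Fin 3) k) ∈ I := by
      rw [← hMG, pow_succ, ← mul_assoc]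
      exact I.mul_mem_left _ hGI
    have := I.add_mem (hle h1) h2
    rwa [sub_add_cancel] at this
  · set I := Ideal.span {Bb (k := k) r, 1 - G} with hI
    have hB : Bb r ∈ I := Ideal.subset_span (by simp)
    have hGI : 1 - G ∈ I := Ideal.subset_span (by simp)
    have hle : Ideal.span {Bb (k := k) r} ≤ I := by
      rw [Ideal.span_le, Set.singleton_subset_iff]; exact hB
    have hGs : ∀ s : ℕ, 1 - G ^ s ∈ I := by
      intro s
      have : (1 - G) ∣ 1 ^ s - G ^ s := sub_dvd_pow_sub_pow 1 G s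
      rw [one_pow] at this
      exact Ideal.mem_of_dvd I this hGI
    obtain ⟨s, hs⟩ := hc
    rcases le_total 0 s with hs0 | hs0
    · obtain ⟨s', rfl⟩ : ∃ s' : ℕ, s = s' := ⟨s.toNat, by omega⟩
      have h1 : (Mon d0 d1 d2 - Mon (e0 + m * p * s') (e1 + m * s') e2 :
          MvPolynomial (Fin 3) k) ∈ Ideal.span {Bb r} := by
        apply i' p q r hr
        · push_cast
          linear_combination hn
        · push_cast
          linear_combination hs
      rw [← hMG] at h1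
      have h2 : (Mon e0 e1 e2 * G ^ s' - Mon e0 e1 e2 : MvPolynomial (Fin 3) k) ∈ I := by
        have : (Mon e0 e1 e2 * G ^ s' - Mon e0 e1 e2 : MvPolynomial (Fin 3) k)
            = - (Mon e0 e1 e2 * (1 - G ^ s')) := by ring
        rw [this]
        exact I.neg_mem (I.mul_mem_left _ (hGs s'))
      have := I.add_mem (hle h1) h2
      rwa [sub_add_sub_cancel] at this
    · obtain ⟨s', rfl⟩ : ∃ s' : ℕ, s = -(s' : ℤ) := ⟨(-s).toNat, by omega⟩
      have h1 : (Mon (d0 + m * p * s') (d1 + m * s') d2 - Mon e0 e1 e2 :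
          MvPolynomial (Fin 3) k) ∈ Ideal.span {Bb r} := by
        apply i' p q r hr
        · push_cast
          linear_combination hn
        · push_cast
          linear_combination hs
      rw [← hMG] at h1
      have h2 : (Mon d0 d1 d2 - Mon d0 d1 d2 * G ^ s' : MvPolynomial (Fin 3) k) ∈ I := by
        have : (Mon d0 d1 d2 - Mon d0 d1 d2 * G ^ s' : MvPolynomial (Fin 3) k)
            = Mon d0 d1 d2 * (1 - G ^ s') := by ring
        rw [this]
        exact I.mul_mem_left _ (hGs s')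
      have := I.add_mem h2 (hle h1)
      rwa [sub_add_sub_cancel] at this

end Groth.Agent.S15738
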