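import Groth.Statements.S15739
import Mathlib.Tactic
-- import your own Groth.Agent.* helpers here

set_option autoImplicit false
universe u
open W4c2invhilbsl2

namespace Groth.Agent.S15739

open MvPolynomial in
private lemma mono_sub_mem (k : Type u) [Field k] (A B d0 d1 d2 s : ℕ) :
    (X 0 ^ d0 * X 1 ^ (d1 + A * s) * X 2 ^ (d2 + B * s) - X 0 ^ d0 * X 1 ^ d1 * X 2 ^ d2 :
      MvPolynomial (Fin 3) k) ∈ Ideal.span {(1 : MvPolynomial (Fin 3) k) - X 1 ^ A * X 2 ^ B} := by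
  rw [Ideal.mem_span_singleton]
  have h := sub_dvd_pow_sub_pow (1 : MvPolynomial (Fin 3) k) (X 1 ^ A * X 2 ^ B) s
  have : (X 0 ^ d0 * X 1 ^ (d1 + A * s) * X 2 ^ (d2 + B * s) - X 0 ^ d0 * X 1 ^ d1 * X 2 ^ d2 :
      MvPolynomial (Fin 3) k) = (1 ^ s - (X 1 ^ A * X 2 ^ B) ^ s) * (-(X 0 ^ d0 * X 1 ^ d1 * X 2 ^ d2)) := by
    ring
  rw [this]; exact Dvd.dvd.mul_right h _

/-- Let k be a field and m ≥ 1, put g = gcd(m, q−p), a = m/g and b = (q−p)/g; for a monomial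
X₀^d₀X₁^d₁X₂^d₂ of the polynomial ring in X₀, X₁, X₂ (X₂ standing for Xⱼ, j = 3 or 4, of the
five-variable ring) put n = d₀ − p·d₁ + q·d₂ (its weight for the torus diag(t, t^(−p), t^q)), c = d₁
− d₂ and ω = p·d₁ − q·d₂, so that d₀ = n + ω; here 0 < p < q are coprime integers. Take two
monomials X₀^d₀X₁^d₁X₂^d₂ and X₀^e₀X₁^e₁X₂^e₂ with the same n, where 0 ≤ n < q − p, whose values c
and c' of c are both divisible by m, and with d₀ < g and e₀ < g (so each has the least ω for its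
pair (n, c), as g ≤ q − p). Then: (i) d₀ = e₀, i.e. the two values of ω agree, and m·b divides c −
c'; (ii) if c < c', then X₀^e₀X₁^e₁X₂^e₂ is a multiple of X₀^d₀X₁^d₁X₂^d₂ · X₁^(aq)X₂^(ap); (iii)
the difference of the two monomials lies in the principal ideal (1 − X₁^(aq)X₂^(ap)). -/
theorem result (k : Type u) [Field k] (p q m : ℕ) (hp : 0 < p) (hpq : p < q) (hcop : Nat.Coprime p q) (hm : 0 < m)
    (d0 d1 d2 e0 e1 e2 : ℕ) (hn : (e0 : ℤ) - (p : ℤ) * e1 + (q : ℤ) * e2 = (d0 : ℤ) - (p : ℤ) * d1 + (q : ℤ) * d2)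
    (hn0 : 0 ≤ (d0 : ℤ) - (p : ℤ) * d1 + (q : ℤ) * d2) (hnq : (d0 : ℤ) - (p : ℤ) * d1 + (q : ℤ) * d2 < (q : ℤ) - p)
    (hcd : (m : ℤ) ∣ (d1 : ℤ) - d2) (hce : (m : ℤ) ∣ (e1 : ℤ) - e2)
    (hd0 : d0 < Nat.gcd m (q - p)) (he0 : e0 < Nat.gcd m (q - p)) :
    (d0 = e0 ∧ ((m : ℤ) * ((q - p) / Nat.gcd m (q - p) : ℕ)) ∣ ((d1 : ℤ) - d2) - ((e1 : ℤ) - e2)) ∧
    ((d1 : ℤ) - d2 < (e1 : ℤ) - e2 →
      (MvPolynomial.X (0 : Fin 3) ^ d0 * MvPolynomial.X (1 : Fin 3) ^ d1 * MvPolynomial.X (2 : Fin 3) ^ d2 * (MvPolynomial.X (1 : Fin 3) ^ (m / Nat.gcd m (q - p) * q) * MvPolynomial.X (2 : Fin 3) ^ (m / Nat.gcd m (q - p) * p)) : MvPolynomial (Fin 3) k) ∣ MvPolynomial.X (0 : Fin 3) ^ e0 * MvPolynomial.X (1 : Fin 3) ^ e1 * MvPolynomial.X (2 : Fin 3) ^ e2) ∧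
    ((MvPolynomial.X (0 : Fin 3) ^ e0 * MvPolynomial.X (1 : Fin 3) ^ e1 * MvPolynomial.X (2 : Fin 3) ^ e2 - MvPolynomial.X (0 : Fin 3) ^ d0 * MvPolynomial.X (1 : Fin 3) ^ d1 * MvPolynomial.X (2 : Fin 3) ^ d2 : MvPolynomial (Fin 3) k) ∈
      Ideal.span {(1 : MvPolynomial (Fin 3) k) - MvPolynomial.X (1 : Fin 3) ^ (m / Nat.gcd m (q - p) * q) * MvPolynomial.X (2 : Fin 3) ^ (m / Nat.gcd m (q - p) * p)}) := by
  have hgpos : 0 < Nat.gcd m (q - p) := Nat.gcd_pos_of_pos_left _ hm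
  have hab : Nat.Coprime (m / Nat.gcd m (q - p)) ((q - p) / Nat.gcd m (q - p)) :=
    Nat.coprime_div_gcd_div_gcd hgpos
  have hDp : Nat.Coprime (q - p) p := ((Nat.coprime_sub_self_right hpq.le).mpr hcop).symm
  obtain ⟨a, ha⟩ := Nat.gcd_dvd_left m (q - p)
  obtain ⟨b, hb⟩ := Nat.gcd_dvd_right m (q - p)
  have hmg : m / Nat.gcd m (q - p) = a := Nat.div_eq_of_eq_mul_right hgpos ha
  have hDg : (q - p) / Nat.gcd m (q - p) = b := Nat.div_eq_of_eq_mul_right hgpos hb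
  rw [hmg, hDg] at hab
  rw [hmg, hDg]
  have hbp : Nat.Coprime b p := Nat.Coprime.coprime_dvd_left ⟨_, by rw [hb, mul_comm]⟩ hDp
  generalize Nat.gcd m (q - p) = g at *
  have hmZ : (m : ℤ) = g * a := by exact_mod_cast ha
  have hDZ : (q : ℤ) - p = g * b := by
    have : ((q - p : ℕ) : ℤ) = (q : ℤ) - p := Nat.cast_sub hpq.le
    rw [← this]; exact_mod_cast hb
  have hgZ : (0 : ℤ) < g := by exact_mod_cast hgpos
  have hbpos : 0 < b := by
    rcases Nat.eq_zero_or_pos b with h | h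
    · rw [h, mul_zero] at hb; omega
    · exact h
  have hbZ : (0 : ℤ) < b := by exact_mod_cast hbpos
  have hapos : 0 < a := by
    rcases Nat.eq_zero_or_pos a with h | h
    · rw [h, mul_zero] at ha; omega
    · exact h
  have haZ : (0 : ℤ) < a := by exact_mod_cast hapos
  obtain ⟨y1, hy1⟩ := hcd
  obtain ⟨y2, hy2⟩ := hce
  have key : (d0 : ℤ) - e0 = p * (((d1 : ℤ) - d2) - ((e1 : ℤ) - e2)) - ((q : ℤ) - p) * ((d2 : ℤ) - e2) := by
    linear_combination -hn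
  have hgd : (g : ℤ) ∣ (d0 : ℤ) - e0 := by
    refine ⟨p * a * (y1 - y2) - b * ((d2 : ℤ) - e2), ?_⟩
    rw [key, hy1, hy2, hDZ, hmZ]; ring
  have hde : (d0 : ℤ) - e0 = 0 := by
    apply Int.eq_zero_of_abs_lt_dvd hgd
    have h1 : (d0 : ℤ) < g := by exact_mod_cast hd0
    have h2 : (e0 : ℤ) < g := by exact_mod_cast he0
    rw [abs_lt]; constructor <;> omega
  have hde' : d0 = e0 := by omega
  subst hde'
  -- p a (y1 - y2) = b (d2 - e2)
  have h3 : (p : ℤ) * a * (y1 - y2) = b * ((d2 : ℤ) - e2) := by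
    have h4 : (g : ℤ) * ((p : ℤ) * a * (y1 - y2)) = g * (b * ((d2 : ℤ) - e2)) := by
      have := key
      rw [hy1, hy2, hDZ, hmZ, sub_self] at this
      linear_combination -this
    exact mul_left_cancel₀ hgZ.ne' h4
  have hcop' : IsCoprime (b : ℤ) ((p : ℤ) * a) :=
    IsCoprime.mul_right (Nat.isCoprime_iff_coprime.mpr hbp) (Nat.isCoprime_iff_coprime.mpr hab.symm)
  obtain ⟨z, hz⟩ : (b : ℤ) ∣ y1 - y2 := by
    apply hcop'.dvd_of_dvd_mul_left
    exact ⟨(d2 : ℤ) - e2, by linear_combination h3⟩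
  have hd2 : (d2 : ℤ) - e2 = a * p * z := by
    have h5 : (b : ℤ) * ((d2 : ℤ) - e2) = b * (a * p * z) := by
      rw [← h3, hz]; ring
    exact mul_left_cancel₀ hbZ.ne' h5
  have hcc : ((d1 : ℤ) - d2) - ((e1 : ℤ) - e2) = m * b * z := by
    rw [hy1, hy2, ← mul_sub, hz]; ring
  have hd1 : (d1 : ℤ) - e1 = a * q * z := by
    have hq : (q : ℤ) = g * b + p := by linarith
    have : (d1 : ℤ) - e1 = m * b * z + ((d2 : ℤ) - e2) := by linarith
    rw [this, hd2, hmZ, hq]; ring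
  have hmbpos : (0 : ℤ) < m * b := by
    have : (0 : ℤ) < m := by exact_mod_cast hm
    positivity
  refine ⟨⟨rfl, ⟨z, hcc⟩⟩, ?_, ?_⟩
  · intro hlt
    have hzneg : z < 0 := by
      have : (m : ℤ) * b * z < 0 := by linarith
      by_contra hcon
      push Not at hcon
      have : 0 ≤ (m : ℤ) * b * z := mul_nonneg hmbpos.le hcon
      linarith
    obtain ⟨s, hs⟩ : ∃ s : ℕ, z = -((s : ℤ) + 1) := ⟨(-z - 1).toNat, by omega⟩
    have he1 : e1 = d1 + a * q * (s + 1) := by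
      have : (e1 : ℤ) = d1 + a * q * (s + 1) := by rw [hs] at hd1; linarith
      exact_mod_cast this
    have he2 : e2 = d2 + a * p * (s + 1) := by
      have : (e2 : ℤ) = d2 + a * p * (s + 1) := by rw [hs] at hd2; linarith
      exact_mod_cast this
    refine ⟨MvPolynomial.X 1 ^ (a * q * s) * MvPolynomial.X 2 ^ (a * p * s), ?_⟩
    rw [he1, he2]; ring
  · rcases lt_or_ge z 0 with hzneg | hzpos
    · obtain ⟨s, hs⟩ : ∃ s : ℕ, z = -(s : ℤ) := ⟨(-z).toNat, by omega⟩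
      have he1 : e1 = d1 + a * q * s := by
        have : (e1 : ℤ) = d1 + a * q * s := by rw [hs] at hd1; linarith
        exact_mod_cast this
      have he2 : e2 = d2 + a * p * s := by
        have : (e2 : ℤ) = d2 + a * p * s := by rw [hs] at hd2; linarith
        exact_mod_cast this
      rw [he1, he2]
      exact mono_sub_mem k (a * q) (a * p) d0 d1 d2 s
    · obtain ⟨s, hs⟩ : ∃ s : ℕ, z = (s : ℤ) := ⟨z.toNat, by omega⟩
      have he1 : d1 = e1 + a * q * s := by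
        have : (d1 : ℤ) = e1 + a * q * s := by rw [hs] at hd1; linarith
        exact_mod_cast this
      have he2 : d2 = e2 + a * p * s := by
        have : (d2 : ℤ) = e2 + a * p * s := by rw [hs] at hd2; linarith
        exact_mod_cast this
      rw [he1, he2]
      have h := mono_sub_mem k (a * q) (a * p) d0 e1 e2 s
      have h2 := neg_mem h
      rwa [neg_sub] at h2

end Groth.Agent.S15739
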