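import Groth.Statements.S1574
import Mathlib
import Groth.Agent.Lib.Helper4PunctAffine2

set_option autoImplicit false
universe u
open CategoryTheory CategoryTheory.Limits AlgebraicGeometry
open Divisors

namespace Groth.Agent.S1574

open IsLocalRing in
/-- In a Noetherian local ring of dimension `≤ 1` the punctured spectrum is a basic open. -/
theorem exists_basicOpen_eq_punctured (A : Type u) [CommRing A] [IsLocalRing A]
    [IsNoetherianRing A] (h : ringKrullDim A ≤ 1) :
    ∃ f : A, ∀ p : PrimeSpectrum A, p ≠ closedPoint A ↔ f ∉ p.asIdeal := by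
  have hdim : Ring.KrullDimLE 1 A := Ring.krullDimLE_iff.mpr (by exact_mod_cast h)
  rw [Ring.krullDimLE_one_iff] at hdim
  by_cases hmin : maximalIdeal A ∈ minimalPrimes A
  · refine ⟨0, ?_⟩
    intro p
    constructor
    · intro hp
      exfalso
      apply hp
      apply PrimeSpectrum.ext
      have hle : p.asIdeal ≤ maximalIdeal A := le_maximalIdeal p.2.ne_top
      exact le_antisymm hle (hmin.2 ⟨p.2, bot_le⟩ hle)
    · intro hp
      exact (hp (zero_mem _)).elim
  · have hfin := minimalPrimes.finite_of_isNoetherianRing A
    have hav : ¬ ((maximalIdeal A : Set A) ⊆ ⋃ p ∈ (hfin.toFinset : Set (Ideal A)), (p : Set A)) := by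
      rw [Ideal.subset_union_prime (f := fun p : Ideal A => p) ⊥ ⊥]
      · rintro ⟨p, hp, hle⟩
        have hp' : p ∈ minimalPrimes A := by simpa using hp
        have : p = maximalIdeal A :=
          le_antisymm (le_maximalIdeal hp'.1.1.ne_top) hle
        exact hmin (this ▸ hp')
      · intro p hp _ _
        have hp' : p ∈ minimalPrimes A := by simpa using hp
        exact hp'.1.1
    obtain ⟨f, hfm, hf⟩ := Set.not_subset.mp hav
    refine ⟨f, ?_⟩
    intro p
    constructor
    · intro hp
      rcases hdim p.asIdeal p.2 with hpm | hpm
      · intro hfp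
        apply hf
        simp only [Set.mem_iUnion]
        exact ⟨p.asIdeal, by simpa using hpm, hfp⟩
      · exfalso
        apply hp
        apply PrimeSpectrum.ext
        exact (eq_maximalIdeal hpm)
    · intro hp hpc
      apply hp
      rw [hpc]
      exact hfm

/-- For a Noetherian local ring A, the punctured spectrum (Spec A minus the closed point, as an open
subscheme) is affine if and only if dim A ≤ 1. -/
theorem result (A : Type u) [CommRing A] [IsLocalRing A] [IsNoetherianRing A] :
    IsAffine (FEt.puncturedSpec A : Scheme.{u}) ↔ ringKrullDim A ≤ 1 := by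
  constructor
  · intro h
    apply Groth.Agent.Lib.Helper4.PunctAffine.ringKrullDim_le_one_of_isAffineOpen_punctured_spec A (FEt.puncturedSpec A) h
    · intro hmem; exact hmem rfl
    · intro q hq; exact hq
  · intro h
    obtain ⟨f, hf⟩ := exists_basicOpen_eq_punctured A h
    have hU : FEt.puncturedSpec A = (Spec (CommRingCat.of A)).basicOpen ((Scheme.ΓSpecIso (CommRingCat.of A)).inv f) := by
      rw [basicOpen_eq_of_affine]
      apply TopologicalSpace.Opens.ext
      ext p
      exact hf p
    change IsAffineOpen (FEt.puncturedSpec A)
    rw [hU]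
    exact (isAffineOpen_top (Spec (CommRingCat.of A))).basicOpen _

end Groth.Agent.S1574
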