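import Groth.Statements.S15743
import Mathlib
import Groth.Agent.Lib.Helper23SecTw
-- import your own Groth.Agent.* helpers here

set_option autoImplicit false
universe u
open QCohSup

namespace Groth.Agent.S15743


open CategoryTheory Limits AlgebraicGeometry TopologicalSpace Opposite
open Groth.Agent.Lib.Helper23.SecTw Groth.Agent.Lib.Helper23.GenLocus Groth.Agent.Lib.Helper23.QCohLocal Groth.Agent.Lib.Helper6

theorem exists_frame {X : Scheme.{u}} (L : X.Modules) (hL : PicF.IsInvertible L) (s : Coh.structureModule X ⟶ L) (x : X) :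
    ∃ (W : X.Opens), x ∈ W ∧ IsAffineOpen W ∧ ∃ (e : Γ(L, W)) (f : Γ(X, W)),
      sv s W = f • e ∧ X.basicOpen f = CohB1.genLocus L s ⊓ W := by
  obtain ⟨U, hxU, ⟨ε⟩⟩ := hL x
  obtain ⟨V, hV, hxV, -⟩ := exists_isAffineOpen_mem_and_subset (X := (↑U : Scheme.{u})) (x := ⟨x, hxU⟩)
    (U := ⊤) trivial
  exact ⟨U.ι ''ᵁ V, ⟨⟨x, hxU⟩, hxV, rfl⟩, hV.image_of_isOpenImmersion U.ι, frameE L U ε V, frameF L s U ε V,
    val_eq_frame L s U ε V, basicOpen_frameF L s U ε V⟩

theorem main
    (X : Scheme.{u}) [CompactSpace X] (L : X.Modules) (hL : PicF.IsInvertible L)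
    (s : Coh.structureModule X ⟶ L) (F : X.Modules) [Coh.IsQCoh F]
    (t : Γ(F, ⊤))
    (ht' : res F (le_top : CohB1.genLocus L s ≤ ⊤) t = 0) :
    ∃ n : ℕ, 0 < n ∧ tw F L ⊤ t (sv s ⊤) n = 0 := by
  choose W hxW hWaff e f hval hbo using exists_frame L hL s
  have hn : ∀ x, ∃ n : ℕ, (f x) ^ n • res F (le_top : W x ≤ ⊤) t = 0 := by
    intro x
    have hle : X.basicOpen (f x) ≤ CohB1.genLocus L s := by rw [hbo]; exact inf_le_left
    refine exists_pow_smul_eq_zero_qc' (hWaff x).isCompact F (f x) (X.basicOpen (f x)) rfl (X.basicOpen_le _) _ ?_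
    have h1 := res_res F (le_top : W x ≤ ⊤) (X.basicOpen_le (f x)) t
    have h2 := res_res F (le_top : CohB1.genLocus L s ≤ ⊤) hle t
    rw [ht', res_zero] at h2
    exact h1.trans h2.symm
  choose n hn using hn
  obtain ⟨T, hT⟩ : ∃ T : Finset X, (⊤ : X.Opens) ≤ ⨆ x : T, W x := by
    have hc : IsCompact ((⊤ : X.Opens) : Set X) := by
      simpa using isCompact_univ
    obtain ⟨T, hT⟩ := hc.elim_finite_subcover (fun x => (W x : Set X)) (fun x => (W x).2)
      (fun x _ => Set.mem_iUnion.2 ⟨x, hxW x⟩)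
    refine ⟨T, fun x hx => ?_⟩
    obtain ⟨y, hy⟩ := Set.mem_iUnion.1 (hT hx)
    obtain ⟨hyT, hxy⟩ := Set.mem_iUnion.1 hy
    exact Opens.mem_iSup.2 ⟨⟨y, hyT⟩, hxy⟩
  refine ⟨T.sup n + 1, Nat.succ_pos _, ?_⟩
  refine (modSheaf _).eq_of_locally_eq' (fun x : T => W x) ⊤ (fun x => homOfLE le_top) hT _ _ (fun x => ?_)
  change res _ (le_top : W x ≤ ⊤) (tw F L ⊤ t (sv s ⊤) (T.sup n + 1)) = res _ (le_top : W x ≤ ⊤) 0
  rw [res_zero, res_tw]
  rw [res_sv, hval, tw_smul]
  have hz : f x ^ (T.sup n + 1) • res F (le_top : W x.1 ≤ ⊤) t = 0 := by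
    have hle : n x ≤ T.sup n + 1 := (Finset.le_sup x.2).trans (Nat.le_succ _)
    obtain ⟨k, hk⟩ := Nat.exists_eq_add_of_le hle
    rw [hk, add_comm, pow_add, mul_smul, hn, smul_zero]
  rw [hz, tw_zero]

open AlgebraicGeometry in
open CategoryTheory in
open Opposite in
open AlgebraicGeometry in
open CategoryTheory in
open Opposite in
/-- Let `X` be a scheme whose underlying space is quasi-compact, `L` an invertible `O_X`-module, `s` a
global section of `L` and `X_s` the open where `s` generates `L`, `F` a quasi-coherent `O_X`-module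
and `t` a global section of `F` whose restriction to `X_s` is zero. Then `t ⊗ s^{⊗ n} = 0` in `Γ(X,
F ⊗ L^{⊗ n})` for some integer `n > 0`. (The published statement assumes the underlying space
Noetherian, or the scheme separated with quasi-compact underlying space; the published proof of this
part uses only quasi-compactness, so only that is assumed here.) -/
theorem result
    (X : Scheme.{u}) [CompactSpace X] (L : X.Modules) (hL : PicF.IsInvertible L)
    (s : Coh.structureModule X ⟶ L) (F : X.Modules) [Coh.IsQCoh F]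
    (t : F.val.obj (op ⊤))
    (ht : F.val.map (homOfLE (le_top : CohB1.genLocus L s ≤ ⊤)).op t = 0) :
    ∃ n : ℕ, 0 < n ∧ SecTwist.twist s n F ⊤ t = 0 := by
  obtain ⟨n, hn, h⟩ := main X L hL s F t ht
  exact ⟨n, hn, (twist_eq_tw s n F ⊤ t).trans h⟩

end Groth.Agent.S15743
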