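import Groth.Statements.S15749
import Mathlib
-- import your own Groth.Agent.* helpers here

set_option autoImplicit false
universe u
open CAlg

namespace Groth.Agent.S15749

section aux
open PowerSeries


/-- Lemma A: an idempotent power series is constant. -/
theorem idem_ps_const {S : Type u} [CommRing S] (h : S⟦X⟧) (hh : h * h = h) :
    h = C (constantCoeff h) ∧ constantCoeff h * constantCoeff h = constantCoeff h := by
  set r := constantCoeff h with hr
  have hrr : r * r = r := by
    have := congrArg constantCoeff hh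
    simpa using this
  refine ⟨?_, hrr⟩
  set u : S⟦X⟧ := h - C r with hu
  have hu0 : constantCoeff u = 0 := by simp [hu, hr]
  have hv : IsUnit (C r + C r - 1 + u) := by
    rw [isUnit_iff_constantCoeff]
    have : constantCoeff (C r + C r - 1 + u) = r + r - 1 := by
      simp [hu0]
    rw [this]
    refine IsUnit.of_mul_eq_one (r + r - 1) ?_
    have : (r + r - 1) * (r + r - 1) = 4 * (r * r) - 4 * r + 1 := by ring
    rw [this, hrr]; ring
  have key : u * (C r + C r - 1 + u) = 0 := by
    have hC : (C r : S⟦X⟧) * C r = C r := by rw [← map_mul, hrr]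
    have hh' : (C r + u) * (C r + u) = C r + u := by
      have : C r + u = h := by rw [hu]; ring
      rw [this, hh]
    have : u * (C r + C r - 1 + u) = (C r + u) * (C r + u) - (C r + u) - (C r * C r - C r) := by ring
    rw [this, hh', hC]; ring
  have hu00 : u = 0 := by
    obtain ⟨v, hv'⟩ := hv
    have := congrArg (fun z => z * (↑v⁻¹ : S⟦X⟧)) key
    simp only [zero_mul, mul_assoc] at this
    rw [← hv', Units.mul_inv, mul_one] at this
    exact this
  have : h = C r + u := by rw [hu]; ring
  rw [this, hu00, add_zero]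

theorem coeff_pow_mem {R : Type u} [CommRing R] (I : Ideal R) (d : R⟦X⟧)
    (hd : ∀ n, coeff n d ∈ I) (j : ℕ) : ∀ n, coeff n (d ^ j) ∈ I ^ j := by
  induction j with
  | zero => intro n; simp
  | succ j ih =>
    intro n
    have h1 : d ^ (j + 1) = d ^ j * d := pow_succ d j
    have h2 : I ^ (j + 1) = I ^ j * I := pow_succ I j
    rw [h1, h2, coeff_mul]
    exact Ideal.sum_mem _ fun p _ => Ideal.mul_mem_mul (ih p.1) (hd p.2)


/-- Lemma B -/
theorem ps_eq_C_mul_X_pow {R : Type u} [CommRing R] (g : R⟦X⟧) (N : ℕ)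
    (hg : g * g = X ^ N * g) : ∃ r : R, r * r = r ∧ g = C r * X ^ N := by
  classical
  -- B1: low coefficients are nilpotent
  have hnil : ∀ n, n < N → IsNilpotent (coeff n g) := by
    intro n hn
    rw [nilpotent_iff_mem_prime]
    intro p hp
    let φ : R⟦X⟧ →+* (R ⧸ p)⟦X⟧ := PowerSeries.map (Ideal.Quotient.mk p)
    have h1 : φ g * (φ g - X ^ N) = 0 := by
      have := congrArg φ hg
      simp only [map_mul, map_pow, φ, map_X] at this
      rw [mul_sub, this]; ring
    have h2 : coeff n (φ g) = 0 := by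
      rcases mul_eq_zero.mp h1 with h | h
      · rw [h]; simp
      · have : φ g = X ^ N := sub_eq_zero.mp h
        rw [this, coeff_X_pow, if_neg (ne_of_lt hn)]
    rw [show coeff n (φ g) = Ideal.Quotient.mk p (coeff n g) from coeff_map _ _ _] at h2
    exact Ideal.Quotient.eq_zero_iff_mem.mp h2
  -- B2: the ideal
  let I : Ideal R := Ideal.span ((fun n => coeff n g) '' (Finset.range N : Set ℕ))
  have hIfg : I.FG := ⟨(Finset.range N).image (fun n => coeff n g), by simp [I]⟩
  have hIle : I ≤ nilradical R := by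
    rw [Ideal.span_le]
    rintro _ ⟨n, hn, rfl⟩
    exact hnil n (Finset.mem_range.mp hn)
  obtain ⟨k, hk⟩ := hIfg.isNilpotent_iff_le_nilradical.mpr hIle
  -- B3
  let ψ : R⟦X⟧ →+* (R ⧸ I)⟦X⟧ := PowerSeries.map (Ideal.Quotient.mk I)
  have hdvd : (X : (R ⧸ I)⟦X⟧) ^ N ∣ ψ g := by
    rw [X_pow_dvd_iff]
    intro m hm
    rw [show coeff m (ψ g) = Ideal.Quotient.mk I (coeff m g) from coeff_map _ _ _]
    exact Ideal.Quotient.eq_zero_iff_mem.mpr
      (Ideal.subset_span ⟨m, Finset.mem_coe.mpr (Finset.mem_range.mpr hm), rfl⟩)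
  obtain ⟨hbar, hhbar⟩ := hdvd
  have hidem : hbar * hbar = hbar := by
    have h1 : ψ g * ψ g = X ^ N * ψ g := by
      have := congrArg ψ hg
      simpa only [map_mul, map_pow, ψ, map_X] using this
    rw [hhbar] at h1
    have h2 : (X : (R ⧸ I)⟦X⟧) ^ (N + N) * (hbar * hbar) = X ^ (N + N) * hbar := by
      rw [pow_add]
      calc X ^ N * X ^ N * (hbar * hbar) = X ^ N * hbar * (X ^ N * hbar) := by ring
        _ = X ^ N * (X ^ N * hbar) := h1
        _ = X ^ N * X ^ N * hbar := by ring
    exact X_pow_mul_cancel h2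
  obtain ⟨hconst, hrbar⟩ := idem_ps_const hbar hidem
  -- B5: lift
  have hker : ∀ x ∈ RingHom.ker (Ideal.Quotient.mk I), IsNilpotent x := by
    intro x hx
    rw [Ideal.mk_ker] at hx
    exact hIle hx
  obtain ⟨r, hr, hrrbar⟩ := exists_isIdempotentElem_eq_of_ker_isNilpotent (Ideal.Quotient.mk I) hker
    (constantCoeff hbar) (by
      obtain ⟨y, hy⟩ := Ideal.Quotient.mk_surjective (constantCoeff hbar)
      exact ⟨y, hy⟩) hrbar
  refine ⟨r, hr, ?_⟩
  -- B6
  set d : R⟦X⟧ := g - C r * X ^ N with hd
  have hψd : ψ d = 0 := by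
    rw [hd, map_sub, hhbar, hconst, map_mul, map_pow]
    simp only [ψ, map_X, map_C, hrrbar]
    ring
  have hdI : ∀ n, coeff n d ∈ I := by
    intro n
    have := congrArg (coeff n) hψd
    rw [show coeff n (ψ d) = Ideal.Quotient.mk I (coeff n d) from coeff_map _ _ _, map_zero] at this
    exact Ideal.Quotient.eq_zero_iff_mem.mp this
  have hdk : d ^ k = 0 := by
    ext n
    have := coeff_pow_mem I d hdI k n
    rw [hk] at this
    simpa using this
  have hg' : (C r * X ^ N : R⟦X⟧) * (C r * X ^ N) = X ^ N * (C r * X ^ N) := by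
    have : (C r : R⟦X⟧) * C r = C r := by rw [← map_mul, hr.eq]
    calc (C r * X ^ N : R⟦X⟧) * (C r * X ^ N) = (C r * C r) * X ^ N * X ^ N := by ring
      _ = X ^ N * (C r * X ^ N) := by rw [this]; ring
  have hd3 : d ^ 3 = X ^ (2 * N) * d := by
    set g' : R⟦X⟧ := C r * X ^ N with hg'def
    have e1 : g ^ 3 = X ^ (2 * N) * g := by
      calc g ^ 3 = (g * g) * g := by ring
        _ = (X ^ N * g) * g := by rw [hg]
        _ = X ^ N * (g * g) := by ring
        _ = X ^ N * (X ^ N * g) := by rw [hg]
        _ = X ^ (2 * N) * g := by ring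
    have e2 : g' ^ 3 = X ^ (2 * N) * g' := by
      calc g' ^ 3 = (g' * g') * g' := by ring
        _ = (X ^ N * g') * g' := by rw [hg']
        _ = X ^ N * (g' * g') := by ring
        _ = X ^ N * (X ^ N * g') := by rw [hg']
        _ = X ^ (2 * N) * g' := by ring
    have e3 : g ^ 2 * g' = X ^ N * (g * g') := by
      calc g ^ 2 * g' = (g * g) * g' := by ring
        _ = (X ^ N * g) * g' := by rw [hg]
        _ = X ^ N * (g * g') := by ring
    have e4 : g * g' ^ 2 = X ^ N * (g * g') := by
      calc g * g' ^ 2 = g * (g' * g') := by ring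
        _ = g * (X ^ N * g') := by rw [hg']
        _ = X ^ N * (g * g') := by ring
    calc d ^ 3 = g ^ 3 - 3 * (g ^ 2 * g') + 3 * (g * g' ^ 2) - g' ^ 3 := by rw [hd]; ring
      _ = X ^ (2 * N) * d := by rw [e1, e2, e3, e4, hd]; ring
  have hodd : ∀ j : ℕ, d ^ (2 * j + 1) = X ^ (2 * N * j) * d := by
    intro j
    induction j with
    | zero => simp
    | succ j ih =>
      calc d ^ (2 * (j + 1) + 1) = d ^ (2 * j + 1) * d ^ 2 := by ring
        _ = X ^ (2 * N * j) * d ^ 3 := by rw [ih]; ring
        _ = X ^ (2 * N * (j + 1)) * d := by rw [hd3]; ring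
  have hd0 : d = 0 := by
    have h1 : d ^ (2 * k + 1) = 0 := by
      have : d ^ (2 * k + 1) = d ^ k * d ^ (k + 1) := by ring
      rw [this, hdk, zero_mul]
    rw [hodd k] at h1
    have h2 : (X : R⟦X⟧) ^ (2 * N * k) * d = X ^ (2 * N * k) * 0 := by rw [h1, mul_zero]
    exact X_pow_mul_cancel h2
  exact sub_eq_zero.mp hd0


end aux

/-- For an arbitrary commutative ring R, every idempotent of the ring of formal Laurent series R((t)) is
the constant series attached to a unique idempotent of R. Equivalently, the structure map R → R((t))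
induces a bijection on idempotents, so that the spectrum of R((t)) is connected if and only if the
spectrum of R is. No reducedness is assumed. -/
theorem result (R : Type u) [CommRing R]
    (e : LaurentSeries R) (he : IsIdempotentElem e) :
    ∃! r : R, IsIdempotentElem r ∧ HahnSeries.C r = e := by
  have hex : ∃ r : R, IsIdempotentElem r ∧ HahnSeries.C r = e := by
    set o := e.order with ho
    set p := e.powerSeriesPart with hp
    have hsp : HahnSeries.single o (1 : R) * HahnSeries.ofPowerSeries ℤ R p = e :=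
      LaurentSeries.single_order_mul_powerSeriesPart e
    have hps : HahnSeries.ofPowerSeries ℤ R p = HahnSeries.single (-o) 1 * e :=
      LaurentSeries.ofPowerSeries_powerSeriesPart e
    rcases le_or_gt 0 o with h | h
    · obtain ⟨n, hn⟩ := Int.eq_ofNat_of_zero_le h
      have hq : HahnSeries.ofPowerSeries ℤ R (PowerSeries.X ^ n * p) = e :=
        LaurentSeries.X_order_mul_powerSeriesPart (by rw [← ho, hn])
      have hqq : (PowerSeries.X ^ n * p) * (PowerSeries.X ^ n * p) = PowerSeries.X ^ n * p := by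
        apply HahnSeries.ofPowerSeries_injective (Γ := ℤ)
        rw [map_mul, hq]
        exact he
      obtain ⟨hc, hr⟩ := idem_ps_const _ hqq
      refine ⟨PowerSeries.constantCoeff (PowerSeries.X ^ n * p), hr, ?_⟩
      rw [← HahnSeries.ofPowerSeries_C (Γ := ℤ), ← hc, hq]
    · obtain ⟨N, hN⟩ : ∃ N : ℕ, o = -(N : ℤ) := ⟨(-o).toNat, by omega⟩
      have hNo : -o = (N : ℤ) := by omega
      have hXN : HahnSeries.ofPowerSeries ℤ R (PowerSeries.X ^ N) = HahnSeries.single (N : ℤ) 1 :=
        HahnSeries.ofPowerSeries_X_pow N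
      have hpp : p * p = PowerSeries.X ^ N * p := by
        apply HahnSeries.ofPowerSeries_injective (Γ := ℤ)
        rw [map_mul, map_mul, hXN, hps, hNo]
        calc HahnSeries.single (N : ℤ) 1 * e * (HahnSeries.single (N : ℤ) 1 * e)
            = HahnSeries.single (N : ℤ) 1 * (HahnSeries.single (N : ℤ) 1 * (e * e)) := by ring
          _ = HahnSeries.single (N : ℤ) 1 * (HahnSeries.single (N : ℤ) 1 * e) := by rw [he.eq]
      obtain ⟨r, hr, hpr⟩ := ps_eq_C_mul_X_pow p N hpp
      refine ⟨r, hr, ?_⟩
      rw [← hsp, hpr, map_mul, hXN, HahnSeries.ofPowerSeries_C, hN]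
      calc HahnSeries.C r = HahnSeries.C r * HahnSeries.single (0 : ℤ) (1 : R) := by
            rw [← HahnSeries.C_apply, map_one, mul_one]
        _ = HahnSeries.C r * (HahnSeries.single (-(N : ℤ)) 1 * HahnSeries.single (N : ℤ) 1) := by
            rw [HahnSeries.single_mul_single, neg_add_cancel, mul_one]
        _ = HahnSeries.single (-(N : ℤ)) 1 * (HahnSeries.C r * HahnSeries.single (N : ℤ) 1) := by
            ring
  obtain ⟨r, hr, hre⟩ := hex
  refine ⟨r, ⟨hr, hre⟩, ?_⟩
  rintro r' ⟨_, hr'e⟩
  exact HahnSeries.C_injective (hr'e.trans hre.symm)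

end Groth.Agent.S15749
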