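import Groth.Statements.S15750
import Mathlib
-- import your own Groth.Agent.* helpers here

set_option autoImplicit false
universe u
open CAlg

namespace Groth.Agent.S15750

section aux
open PowerSeries


theorem isUnit_constantCoeff_of_mul_eq_X_pow {R : Type u} [CommRing R] [IsReduced R]
    (hconn : ∀ e : R, IsIdempotentElem e → e = 0 ∨ e = 1)
    (p q : R⟦X⟧) (S : ℕ) (hpq : p * q = X ^ S) (hc : coeff 0 p ≠ 0) : IsUnit (coeff 0 p) := by
  classical
  set c := coeff 0 p with hcdef
  -- Step A
  have hA : ∀ b : ℕ, b < S → c * coeff b q = 0 := by
    intro b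
    induction b using Nat.strong_induction_on with
    | _ b ih =>
      intro hb
      have h1 : coeff b (p * q) = 0 := by
        rw [hpq, coeff_X_pow, if_neg (ne_of_lt hb)]
      rw [coeff_mul] at h1
      have h2 : ∑ x ∈ Finset.HasAntidiagonal.antidiagonal b, coeff x.1 p * (c * coeff x.2 q) = 0 := by
        have := congrArg (fun z => c * z) h1
        simp only [Finset.mul_sum, mul_zero] at this
        refine (Finset.sum_congr rfl fun x _ => ?_).trans this
        ring
      rw [Finset.sum_eq_single (0, b)] at h2
      · have h3 : (c * coeff b q) ^ 2 = 0 := by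
          have : (c * coeff b q) ^ 2 = (c * (c * coeff b q)) * coeff b q := by ring
          rw [this]
          simp only at h2
          rw [← hcdef] at h2
          rw [h2, zero_mul]
        exact IsReduced.eq_zero _ ⟨2, h3⟩
      · rintro ⟨a, b'⟩ hx hne
        have hab : a + b' = b := Finset.HasAntidiagonal.mem_antidiagonal.mp hx
        have ha : a ≠ 0 := by
          rintro rfl
          apply hne
          simp at hab
          rw [hab]
        have : b' < b := by omega
        simp only
        rw [ih b' this (by omega), mul_zero]
      · intro h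
        exact absurd (Finset.HasAntidiagonal.mem_antidiagonal.mpr (by simp)) h
  -- Step B
  have hB : c * (c * coeff S q) = c := by
    have h1 : coeff S (p * q) = 1 := by
      rw [hpq, coeff_X_pow, if_pos rfl]
    rw [coeff_mul] at h1
    have h2 : ∑ x ∈ Finset.HasAntidiagonal.antidiagonal S, coeff x.1 p * (c * coeff x.2 q) = c := by
      have := congrArg (fun z => c * z) h1
      simp only [Finset.mul_sum, mul_one] at this
      refine (Finset.sum_congr rfl fun x _ => ?_).trans this
      ring
    rw [Finset.sum_eq_single (0, S)] at h2
    · simpa [hcdef] using h2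
    · rintro ⟨a, b'⟩ hx hne
      have hab : a + b' = S := Finset.HasAntidiagonal.mem_antidiagonal.mp hx
      have ha : a ≠ 0 := by
        rintro rfl
        apply hne
        simp at hab
        rw [hab]
      have : b' < S := by omega
      simp only
      rw [hA b' this, mul_zero]
    · intro h
      exact absurd (Finset.HasAntidiagonal.mem_antidiagonal.mpr (by simp)) h
  -- Step C
  have hidem : IsIdempotentElem (c * coeff S q) := by
    show c * coeff S q * (c * coeff S q) = c * coeff S q
    have : c * coeff S q * (c * coeff S q) = (c * (c * coeff S q)) * coeff S q := by ring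
    rw [this, hB]
  rcases hconn _ hidem with h0 | h1
  · exfalso
    rw [h0, mul_zero] at hB
    exact hc hB.symm
  · exact IsUnit.of_mul_eq_one _ h1


theorem coeff_single_mul_ofPS {R : Type u} [CommRing R] (n : ℤ) (u : R⟦X⟧) (m : ℤ) :
    (HahnSeries.single n (1 : R) * HahnSeries.ofPowerSeries ℤ R u).coeff m =
      if m - n < 0 then 0 else PowerSeries.coeff (m - n).natAbs u := by
  have : m = (m - n) + n := by ring
  conv_lhs => rw [this]
  rw [HahnSeries.coeff_single_mul_add, one_mul]
  exact PowerSeries.coeff_coe (f := u) (m - n)

end aux

/-- Let R be a nonzero reduced commutative ring with no idempotents other than 0 and 1. Then every unit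
of the Laurent series ring R((t)) is t^n · u for a unique integer n and a unique unit u of the power
series ring R[[t]]. (The published statement is for an arbitrary torus T over a reduced ring R, with
n replaced by a locally constant integer-valued function on Spec R, i.e. a point of the cocharacter
lattice; this row is the case where T is the multiplicative group and Spec R is connected, to which
the published proof reduces.) -/
theorem result (R : Type u) [CommRing R]
    [IsReduced R] [Nontrivial R] (hconn : ∀ e : R, IsIdempotentElem e → e = 0 ∨ e = 1)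
    (f : (LaurentSeries R)ˣ) :
    ∃! p : ℤ × (PowerSeries R)ˣ,
      (f : LaurentSeries R) = HahnSeries.single p.1 (1 : R) * HahnSeries.ofPowerSeries ℤ R (p.2 : PowerSeries R) := by
  classical
  set g : LaurentSeries R := ((f⁻¹ : (LaurentSeries R)ˣ) : LaurentSeries R) with hgdef
  have hfg : (f : LaurentSeries R) * g = 1 := by simp [hgdef]
  have hf0 : (f : LaurentSeries R) ≠ 0 := f.ne_zero
  have hg0 : g ≠ 0 := (f⁻¹).ne_zero
  set n0 := (f : LaurentSeries R).order with hn0
  set j0 := g.order with hj0
  set p := (f : LaurentSeries R).powerSeriesPart with hp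
  set q := g.powerSeriesPart with hq
  have hfp : HahnSeries.single n0 (1 : R) * HahnSeries.ofPowerSeries ℤ R p = f :=
    LaurentSeries.single_order_mul_powerSeriesPart _
  have hgq : HahnSeries.single j0 (1 : R) * HahnSeries.ofPowerSeries ℤ R q = g :=
    LaurentSeries.single_order_mul_powerSeriesPart _
  have hc : PowerSeries.coeff 0 p ≠ 0 := by
    rw [hp, LaurentSeries.powerSeriesPart_coeff]
    simpa using (HahnSeries.coeff_order_eq_zero.not.mpr hf0)
  -- product
  have hprod : HahnSeries.ofPowerSeries ℤ R (p * q) = HahnSeries.single (-(n0 + j0)) (1 : R) := by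
    have h1 : HahnSeries.single (n0 + j0) (1 : R) * HahnSeries.ofPowerSeries ℤ R (p * q) = 1 := by
      rw [← hfg, ← hfp, ← hgq, map_mul]
      have : HahnSeries.single (n0 + j0) (1 : R) =
          HahnSeries.single n0 (1 : R) * HahnSeries.single j0 (1 : R) := by
        rw [HahnSeries.single_mul_single, mul_one]
      rw [this]; ring
    have h2 : HahnSeries.single (-(n0 + j0)) (1 : R) * HahnSeries.single (n0 + j0) (1 : R) = 1 := by
      rw [HahnSeries.single_mul_single, neg_add_cancel, mul_one]; rfl
    calc HahnSeries.ofPowerSeries ℤ R (p * q)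
        = (HahnSeries.single (-(n0 + j0)) (1 : R) * HahnSeries.single (n0 + j0) (1 : R)) *
            HahnSeries.ofPowerSeries ℤ R (p * q) := by rw [h2, one_mul]
      _ = HahnSeries.single (-(n0 + j0)) (1 : R) *
            (HahnSeries.single (n0 + j0) (1 : R) * HahnSeries.ofPowerSeries ℤ R (p * q)) := by ring
      _ = HahnSeries.single (-(n0 + j0)) (1 : R) := by rw [h1, mul_one]
  have hs : 0 ≤ -(n0 + j0) := by
    by_contra hneg
    push Not at hneg
    have h1 := congrArg (fun z : LaurentSeries R => z.coeff (-(n0 + j0))) hprod
    simp only [HahnSeries.coeff_single_same] at h1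
    rw [PowerSeries.coeff_coe, if_pos hneg] at h1
    exact zero_ne_one h1
  obtain ⟨S, hS⟩ := Int.eq_ofNat_of_zero_le hs
  have hpq : p * q = PowerSeries.X ^ S := by
    apply HahnSeries.ofPowerSeries_injective (Γ := ℤ)
    rw [hprod, hS, HahnSeries.ofPowerSeries_X_pow]
  have hunit : IsUnit (PowerSeries.coeff 0 p) :=
    isUnit_constantCoeff_of_mul_eq_X_pow hconn p q S hpq hc
  have hpunit : IsUnit p := by
    rw [PowerSeries.isUnit_iff_constantCoeff]
    simpa using hunit
  obtain ⟨pu, hpu⟩ := hpunit
  refine ⟨(n0, pu), ?_, ?_⟩
  · show (f : LaurentSeries R) = HahnSeries.single n0 (1 : R) * HahnSeries.ofPowerSeries ℤ R (pu : PowerSeries R)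
    rw [hpu, hfp]
  · rintro ⟨n', u'⟩ h'
    simp only at h'
    have hu'0 : PowerSeries.coeff 0 (u' : PowerSeries R) ≠ 0 := by
      have : IsUnit (PowerSeries.constantCoeff (u' : PowerSeries R)) :=
        PowerSeries.isUnit_iff_constantCoeff.mp u'.isUnit
      simpa using this.ne_zero
    have hpu0 : PowerSeries.coeff 0 (pu : PowerSeries R) ≠ 0 := by rw [hpu]; exact hc
    have heq : HahnSeries.single n0 (1 : R) * HahnSeries.ofPowerSeries ℤ R (pu : PowerSeries R) =
        HahnSeries.single n' (1 : R) * HahnSeries.ofPowerSeries ℤ R (u' : PowerSeries R) := by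
      rw [hpu, hfp, h']
    have hn : n' = n0 := by
      rcases lt_trichotomy n' n0 with hlt | heq' | hgt
      · exfalso
        have h1 := congrArg (fun z : LaurentSeries R => z.coeff n') heq
        simp only [coeff_single_mul_ofPS] at h1
        rw [if_pos (by omega), if_neg (by omega)] at h1
        simp only [sub_self, Int.natAbs_zero] at h1
        exact hu'0 h1.symm
      · exact heq'
      · exfalso
        have h1 := congrArg (fun z : LaurentSeries R => z.coeff n0) heq
        simp only [coeff_single_mul_ofPS] at h1
        rw [if_neg (by omega), if_pos (by omega)] at h1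
        simp only [sub_self, Int.natAbs_zero] at h1
        exact hpu0 h1
    subst hn
    have h2 : HahnSeries.ofPowerSeries ℤ R (pu : PowerSeries R) =
        HahnSeries.ofPowerSeries ℤ R (u' : PowerSeries R) := by
      have hinv : HahnSeries.single (-n0) (1 : R) * HahnSeries.single n0 (1 : R) = 1 := by
        rw [HahnSeries.single_mul_single, neg_add_cancel, mul_one]; rfl
      have := congrArg (fun z => HahnSeries.single (-n0) (1 : R) * z) heq
      simp only [← mul_assoc, hinv, one_mul] at this
      exact this
    have h3 : (pu : PowerSeries R) = u' := HahnSeries.ofPowerSeries_injective (Γ := ℤ) h2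
    have h4 : u' = pu := (Units.ext h3).symm
    rw [h4]

end Groth.Agent.S15750
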