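import Groth.Statements.S15752
import Mathlib
import Groth.Agent.Lib.Helper11WeierH4

set_option autoImplicit false
universe u
open Polynomial
open CAlg

namespace Groth.Agent.S15752


/-- Let R be a Henselian local ring with maximal ideal m and let B be a henselization of R[t] along (t).
Every f ∈ B outside mB factors as f = P · u for a unique pair (P, u) with P ∈ R[t] monic whose
non-leading coefficients lie in m and u a unit of B; moreover the natural map R[t]/(P) → B/(f) is
bijective, stated as: every element of B is congruent to (the image of) a polynomial modulo f, and a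
polynomial whose image lies in fB lies in P·R[t]. -/
theorem result (R : Type u) [CommRing R]
    [HenselianLocalRing R] (B : Type u) [CommRing B] [Algebra R B] [Algebra R[X] B]
    [IsScalarTower R R[X] B] (hB : Hens2.IsPairHenselization R[X] (Ideal.span {(X : R[X])}) B)
    (f : B) (hf : f ∉ (IsLocalRing.maximalIdeal R).map (algebraMap R B)) :
    (∃! Pu : R[X] × Bˣ, Pu.1.Monic ∧ (∀ i : ℕ, i < Pu.1.natDegree → Pu.1.coeff i ∈ IsLocalRing.maximalIdeal R) ∧
        f = algebraMap R[X] B Pu.1 * (Pu.2 : B)) ∧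
    (∀ (P : R[X]) (u : Bˣ), P.Monic → (∀ i : ℕ, i < P.natDegree → P.coeff i ∈ IsLocalRing.maximalIdeal R) →
        f = algebraMap R[X] B P * (u : B) →
      (∀ b : B, ∃ q : R[X], algebraMap R[X] B q - b ∈ Ideal.span {f}) ∧
      (∀ q : R[X], algebraMap R[X] B q ∈ Ideal.span {f} → q ∈ Ideal.span {P})) := by
  open Groth.Agent.Lib.Helper11.Weier in
  -- division statements for any Weierstrass factorization
  have hdiv : ∀ (P : R[X]) (u : Bˣ), P.Monic →
      (∀ i : ℕ, i < P.natDegree → P.coeff i ∈ IsLocalRing.maximalIdeal R) →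
      f = algebraMap R[X] B P * (u : B) →
      (∀ b : B, ∃ q : R[X], algebraMap R[X] B q - b ∈ Ideal.span {f}) ∧
      (∀ q : R[X], algebraMap R[X] B q ∈ Ideal.span {f} → q ∈ Ideal.span {P}) := by
    intro P u hP hPm hfP
    have hspan : Ideal.span {f} = Ideal.span {algebraMap R[X] B P} := by
      rw [hfP]
      exact Ideal.span_singleton_mul_right_unit u.isUnit _
    rw [hspan]
    exact ⟨fun b => division_surj hB P hP hPm b, fun q hq => division_inj hB P hP hPm q hq⟩
  refine ⟨?_, hdiv⟩
  obtain ⟨N, u₀, hu₀⟩ := exists_unit_mul_sub_pow_mem hB f hf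
  obtain ⟨P, hPmonic, hPdeg, hPcoeff, v, hPv⟩ := exists_weierstrass hB (f * u₀) N hu₀
  have hfP : f = algebraMap R[X] B P * (((u₀ * v)⁻¹ : Bˣ) : B) := by
    rw [hPv, mul_assoc f, ← Units.val_mul u₀ v, mul_assoc, Units.mul_inv, mul_one]
  refine ⟨(P, (u₀ * v)⁻¹), ⟨hPmonic, fun i hi => hPcoeff i (hPdeg ▸ hi), hfP⟩, ?_⟩
  rintro ⟨P', u'⟩ ⟨hP'monic, hP'coeff, hfP'⟩
  simp only at hP'monic hP'coeff hfP'
  have hPm : ∀ i : ℕ, i < P.natDegree → P.coeff i ∈ IsLocalRing.maximalIdeal R :=
    fun i hi => hPcoeff i (hPdeg ▸ hi)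
  have hP'f : algebraMap R[X] B P' ∈ Ideal.span {f} := by
    have e : algebraMap R[X] B P' = f * ((u'⁻¹ : Bˣ) : B) := by
      rw [hfP', mul_assoc, Units.mul_inv, mul_one]
    rw [e]
    exact Ideal.mul_mem_right _ _ (Ideal.mem_span_singleton_self _)
  have hPf : algebraMap R[X] B P ∈ Ideal.span {f} := by
    have e : algebraMap R[X] B P = f * (((u₀ * v : Bˣ)) : B) := by
      rw [hfP, mul_assoc, Units.inv_mul, mul_one]
    rw [e]
    exact Ideal.mul_mem_right _ _ (Ideal.mem_span_singleton_self _)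
  have h1 : P ∣ P' := Ideal.mem_span_singleton.mp ((hdiv P _ hPmonic hPm hfP).2 P' hP'f)
  have h2 : P' ∣ P := Ideal.mem_span_singleton.mp ((hdiv P' u' hP'monic hP'coeff hfP').2 P hPf)
  have hdeg : P'.natDegree ≤ P.natDegree := by
    obtain ⟨c, hc⟩ := h2
    have hc0 : c ≠ 0 := by
      rintro rfl
      rw [mul_zero] at hc
      exact hPmonic.ne_zero hc
    rw [hc, hP'monic.natDegree_mul' hc0]
    exact Nat.le_add_right _ _
  have hPP' : P' = P := Polynomial.eq_of_monic_of_dvd_of_natDegree_le hPmonic hP'monic h1 hdeg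
  subst hPP'
  have hflat : Module.Flat R[X] B :=
    Groth.Agent.Lib.Helper26.PairHz.flat_of_isPairHenselization hB
  have hreg : IsSMulRegular B (algebraMap R[X] B P') :=
    IsSMulRegular.of_flat hP'monic.isRegular.left.isSMulRegular
  have hu : (u' : B) = (((u₀ * v)⁻¹ : Bˣ) : B) := by
    apply hreg
    show algebraMap R[X] B P' * (u' : B) = algebraMap R[X] B P' * _
    rw [← hfP', ← hfP]
  have : u' = (u₀ * v)⁻¹ := Units.ext hu
  rw [this]

end Groth.Agent.S15752
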