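import Groth.Statements.S15755
import Mathlib
import Groth.Agent.Lib.Helper7HenselFunctor
import Groth.Agent.Lib.Helper7CommAlgTransport

set_option autoImplicit false
set_option linter.style.haveILetI false
universe u
open CategoryTheory CategoryTheory.Limits
open CAlg

namespace Groth.Agent.S15755

/-- Let (A, I) be a Henselian pair with A Noetherian whose map to the I-adic completion Â is a regular
ring homomorphism, and let F be a set-valued functor on commutative A-algebras preserving filtered
colimits. Then F(A) → F(Â) is injective, and an element of F(A/I) is in the image of F(A) if and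
only if it is in the image of F(Â) under the canonical A-algebra map Â → A/I. -/
theorem result (A : Type u) [CommRing A]
    [IsNoetherianRing A] (I : Ideal A) [HenselianRing A I]
    (hreg : CAlg.IsRegularHom A (AdicCompletion I A))
    (F : CommAlgCat.{u} A ⥤ Type u) [PreservesFilteredColimitsOfSize.{u, u} F] :
    Function.Injective (F.map (CommAlgCat.ofHom (Algebra.ofId A (AdicCompletion I A)))) ∧
    ∀ xbar : F.obj (CommAlgCat.of A (A ⧸ I)),
      (∃ x : F.obj (CommAlgCat.of A A), F.map (CommAlgCat.ofHom (Ideal.Quotient.mkₐ A I)) x = xbar) ↔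
      (∃ y : F.obj (CommAlgCat.of A (AdicCompletion I A)),
        F.map (CommAlgCat.ofHom (AdicCompletion.evalOneₐ I)) y = xbar) := by
  classical
  obtain ⟨hinj, himg⟩ := Groth.Agent.Lib.Helper7.HenselFunctor.injective_and_image A I hreg
    (Groth.Agent.Lib.Helper7.CommAlgTransport.F' A F)
    (fun J _ _ => Groth.Agent.Lib.Helper7.CommAlgTransport.preserves A F J)
  refine ⟨?_, fun xbar => ⟨?_, ?_⟩⟩
  · intro x₁ x₂ h
    apply Groth.Agent.Lib.Helper7.CommAlgTransport.η_injective A F A
    apply hinj
    rw [Groth.Agent.Lib.Helper7.CommAlgTransport.η_nat,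
      Groth.Agent.Lib.Helper7.CommAlgTransport.η_nat, h]
  · rintro ⟨x, rfl⟩
    refine ⟨F.map (CommAlgCat.ofHom (Algebra.ofId A (AdicCompletion I A))) x, ?_⟩
    rw [← FunctorToTypes.map_comp_apply, ← CommAlgCat.ofHom_comp,
      show (AdicCompletion.evalOneₐ I).comp (Algebra.ofId A (AdicCompletion I A)) =
        Ideal.Quotient.mkₐ A I from AlgHom.ext fun r => by simp [Algebra.ofId_apply]]
  · rintro ⟨y, rfl⟩
    obtain ⟨x', hx'⟩ := himg (Groth.Agent.Lib.Helper7.CommAlgTransport.η A F _ y)
    obtain ⟨x, rfl⟩ := Groth.Agent.Lib.Helper7.CommAlgTransport.η_surjective A F A x'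
    refine ⟨x, ?_⟩
    apply Groth.Agent.Lib.Helper7.CommAlgTransport.η_injective A F (A ⧸ I)
    rw [← Groth.Agent.Lib.Helper7.CommAlgTransport.η_nat,
      ← Groth.Agent.Lib.Helper7.CommAlgTransport.η_nat]
    exact hx'


end Groth.Agent.S15755
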