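import Groth.Statements.S15765
import Mathlib

set_option autoImplicit false
universe u
open CategoryTheory AlgebraicGeometry
open CAlg

namespace Groth.Agent.S15765

/-- Let B be a topological ring in which the units form an open subset, B₀ → B a ring map with dense
image and X a quasi-affine scheme over B₀. Then the image of any B-point Spec B → X over B₀ is
contained in an affine open of X. (The published statement allows X ind-quasi-affine, i.e. with all
quasi-compact opens quasi-affine; since a B-point lands in a quasi-compact open, this row's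
quasi-affine case carries the content.) -/
theorem result (B : Type u) [CommRing B] [TopologicalSpace B]
    [IsTopologicalRing B] (hB : IsOpen {b : B | IsUnit b})
    (B₀ : Type u) [CommRing B₀] (φ : B₀ →+* B) (hφ : DenseRange φ)
    (X : Scheme.{u}) [X.IsQuasiAffine] (p : X ⟶ Spec (CommRingCat.of B₀))
    (f : Spec (CommRingCat.of B) ⟶ X) (hf : f ≫ p = Spec.map (CommRingCat.ofHom φ)) :
    ∃ U : X.Opens, IsAffineOpen U ∧ Set.range f.base ⊆ (U : Set X) := by
  classical
  let R : CommRingCat.{u} := Γ(X, ⊤)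
  let τ : X ⟶ Spec R := X.toSpecΓ
  let ψ : R →+* B := (f.appTop ≫ (Scheme.ΓSpecIso (CommRingCat.of B)).hom).hom
  let ρ : B₀ →+* R := ((Scheme.ΓSpecIso (CommRingCat.of B₀)).inv ≫ p.appTop).hom
  have hψρ : ∀ c, ψ (ρ c) = φ c := by
    intro c
    have h1 : (Scheme.ΓSpecIso (CommRingCat.of B₀)).inv ≫ p.appTop ≫ f.appTop ≫
        (Scheme.ΓSpecIso (CommRingCat.of B)).hom = CommRingCat.ofHom φ := by
      have h2 : p.appTop ≫ f.appTop = (Spec.map (CommRingCat.ofHom φ)).appTop := by
        rw [← hf]; rfl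
      rw [reassoc_of% h2, ← Scheme.ΓSpecIso_inv_naturality_assoc, Iso.inv_hom_id, Category.comp_id]
    exact congrArg (fun t => t.hom c) h1
  -- the set of `r` with `D(r) ⊆ range τ`
  let G : Set R := {r | (PrimeSpectrum.basicOpen r : Set (PrimeSpectrum R)) ⊆ Set.range τ}
  have hmem : ∀ (r : R) (x : Spec (CommRingCat.of B)),
      f x ∈ X.basicOpen r ↔ ψ r ∉ x.asIdeal := by
    intro r x
    change x ∈ f ⁻¹ᵁ X.basicOpen r ↔ _
    rw [Scheme.preimage_basicOpen_top, basicOpen_eq_of_affine']
    rfl
  have hspan : Ideal.span (Set.range fun g : G => ψ g.1) = ⊤ := by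
    by_contra hne
    obtain ⟨m, hm, hle⟩ := Ideal.exists_le_maximal _ hne
    let x : Spec (CommRingCat.of B) := ⟨m, hm.isPrime⟩
    have hx : τ (f x) ∈ Set.range τ := ⟨_, rfl⟩
    obtain ⟨_, ⟨r, rfl⟩, hxr, hrO⟩ :=
      (PrimeSpectrum.isTopologicalBasis_basic_opens (R := R)).exists_subset_of_mem_open hx
        τ.opensRange.2
    have hfx : f x ∈ X.basicOpen r := by
      rw [← X.toSpecΓ_preimage_basicOpen r]
      exact hxr
    have := (hmem r x).mp hfx
    exact this (hle (Ideal.subset_span ⟨⟨r, hrO⟩, rfl⟩))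
  have h1 : (1 : B) ∈ Ideal.span (Set.range fun g : G => ψ g.1) := by rw [hspan]; trivial
  rw [Finsupp.mem_ideal_span_range_iff_exists_finsupp] at h1
  obtain ⟨c, hc⟩ := h1
  -- approximate
  let F : (G → B) → B := fun b' => ∑ g ∈ c.support, b' g * ψ g.1
  have hFc : Continuous F := by
    apply continuous_finsetSum
    intro g _
    exact (continuous_apply g).mul continuous_const
  have hFc1 : F c = 1 := by
    rw [← hc]
    rfl
  have hopen : IsOpen (F ⁻¹' {b : B | IsUnit b}) := hB.preimage hFc
  have hdense : DenseRange (Pi.map (fun (_ : G) => (φ : B₀ → B))) :=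
    DenseRange.piMap fun _ => hφ
  obtain ⟨c₀, hb'⟩ := hdense.exists_mem_open hopen
    ⟨(c : G → B), by change IsUnit (F c); rw [hFc1]; exact isUnit_one⟩
  let r : R := ∑ g ∈ c.support, ρ (c₀ g) * g.1
  have hψr : IsUnit (ψ r) := by
    have : ψ r = F (Pi.map (fun (_ : G) => (φ : B₀ → B)) c₀) := by
      simp only [r, F, map_sum, map_mul, hψρ, Pi.map_apply]
    rw [this]
    exact hb'
  have hrO : (PrimeSpectrum.basicOpen r : Set (PrimeSpectrum R)) ⊆ Set.range τ := by
    intro q hq
    have hq' : r ∉ q.asIdeal := hq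
    have : ∃ g ∈ c.support, g.1 ∉ q.asIdeal := by
      by_contra hcon
      push Not at hcon
      exact hq' (Ideal.sum_mem _ fun g hg => Ideal.mul_mem_left _ _ (hcon g hg))
    obtain ⟨g, _, hgq⟩ := this
    exact g.2 hgq
  refine ⟨X.basicOpen r, ?_, ?_⟩
  · rw [← X.toSpecΓ_preimage_basicOpen r, ← Scheme.Hom.isAffineOpen_iff_of_isOpenImmersion X.toSpecΓ]
    convert! IsAffineOpen.Spec_basicOpen r
    exact SetLike.coe_injective (Set.image_preimage_eq_of_subset hrO)
  · rintro _ ⟨x, rfl⟩
    change f x ∈ X.basicOpen r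
    rw [hmem]
    intro hx
    exact x.isPrime.ne_top (Ideal.eq_top_of_isUnit_mem _ hx hψr)

end Groth.Agent.S15765
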