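import Groth.Statements.S15770
import Mathlib
-- import your own Groth.Agent.* helpers here

set_option autoImplicit false
universe u
open CAlg

namespace Groth.Agent.S15770

/-- Let B be a topological ring with Bˣ ⊂ B open and M, M' finitely generated projective B-modules, and
endow Hom_B(M, M') with the module topology (the canonical topology of a finite module). Then the
set of surjective B-linear maps M → M' is open. -/
theorem result (B : Type u) [CommRing B] [TopologicalSpace B]
    [IsTopologicalRing B] (hB : IsOpen {b : B | IsUnit b})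
    (M M' : Type u) [AddCommGroup M] [Module B M] [Module.Finite B M] [Module.Projective B M]
    [AddCommGroup M'] [Module B M'] [Module.Finite B M'] [Module.Projective B M']
    [TopologicalSpace (M →ₗ[B] M')] [IsModuleTopology B (M →ₗ[B] M')] :
    IsOpen {f : M →ₗ[B] M' | Function.Surjective f} := by
  rw [isOpen_iff_forall_mem_open]
  intro f0 hf0
  obtain ⟨s, hs⟩ := Module.projective_lifting_property f0 LinearMap.id hf0
  obtain ⟨n, π, hπ⟩ := Module.Finite.exists_fin' B M'
  obtain ⟨ι, hι⟩ := Module.projective_lifting_property π LinearMap.id hπ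
  have hs' : ∀ x, f0 (s x) = x := fun x => LinearMap.congr_fun hs x
  have hι' : ∀ x, π (ι x) = x := fun x => LinearMap.congr_fun hι x
  let L : (M →ₗ[B] M') →ₗ[B] Matrix (Fin n) (Fin n) B :=
    { toFun := fun f => LinearMap.toMatrix' (ι ∘ₗ f ∘ₗ s ∘ₗ π)
      map_add' := fun f g => by
        rw [← map_add]
        congr 1
        refine LinearMap.ext fun v => ?_
        simp
      map_smul' := fun b f => by
        rw [RingHom.id_apply, ← map_smul]
        congr 1
        refine LinearMap.ext fun v => ?_
        simp }
  have hL : Continuous L := IsModuleTopology.continuous_of_linearMap L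
  have hLdef : ∀ f, L f = LinearMap.toMatrix' (ι ∘ₗ f ∘ₗ s ∘ₗ π) := fun f => rfl
  let N : Matrix (Fin n) (Fin n) B := 1 - LinearMap.toMatrix' (ι ∘ₗ π)
  let U : Set (M →ₗ[B] M') := {f | IsUnit (L f + N).det}
  have hlin : ∀ f, Matrix.toLin' (L f + N) = ι ∘ₗ f ∘ₗ s ∘ₗ π + (LinearMap.id - ι ∘ₗ π) := by
    intro f
    rw [map_add, hLdef, Matrix.toLin'_toMatrix']
    congr 1
    show Matrix.toLin' (1 - LinearMap.toMatrix' (ι ∘ₗ π)) = _
    rw [map_sub, Matrix.toLin'_toMatrix', Matrix.toLin'_one]
  refine ⟨U, ?_, ?_, ?_⟩
  · intro f hf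
    have hu : IsUnit (L f + N) := (Matrix.isUnit_iff_isUnit_det _).mpr hf
    intro m'
    obtain ⟨u, hu'⟩ := hu
    have hsurj : ∃ v, Matrix.toLin' (L f + N) v = ι m' := by
      refine ⟨Matrix.toLin' (↑u⁻¹ : Matrix (Fin n) (Fin n) B) (ι m'), ?_⟩
      rw [← hu', ← LinearMap.comp_apply, ← Matrix.toLin'_mul, Units.mul_inv, Matrix.toLin'_one]
      rfl
    obtain ⟨v, hv⟩ := hsurj
    refine ⟨s (π v), ?_⟩
    rw [hlin] at hv
    have h2 := congrArg π hv
    simp only [LinearMap.add_apply, LinearMap.comp_apply, LinearMap.sub_apply, LinearMap.id_apply,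
      map_add, map_sub, hι'] at h2
    simpa using h2
  · have hc : Continuous fun f : M →ₗ[B] M' => (L f + N).det :=
      Continuous.matrix_det (hL.add continuous_const)
    exact hB.preimage hc
  · show IsUnit (L f0 + N).det
    have : L f0 + N = 1 := by
      apply Matrix.toLin'.injective
      rw [hlin, Matrix.toLin'_one]
      refine LinearMap.ext fun v => ?_
      simp [hs']
    rw [this, Matrix.det_one]
    exact isUnit_one

end Groth.Agent.S15770
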