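import Groth.Statements.S15771
import Mathlib
-- import your own Groth.Agent.* helpers here

set_option autoImplicit false
universe u
open TensorProduct
open CAlg

namespace Groth.Agent.S15771

/-- For a ring map B₀ → B with dense image into a topological ring B, a finitely generated B₀-module M₀
and any topological B-module structure on M = B ⊗_{B₀} M₀, the natural map M₀ → M has dense image. -/
theorem result (B₀ B : Type u) [CommRing B₀] [CommRing B] [Algebra B₀ B]
    [TopologicalSpace B] [IsTopologicalRing B] (hφ : DenseRange (algebraMap B₀ B))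
    (M₀ : Type u) [AddCommGroup M₀] [Module B₀ M₀] [Module.Finite B₀ M₀]
    [TopologicalSpace (B ⊗[B₀] M₀)] [IsTopologicalAddGroup (B ⊗[B₀] M₀)] [ContinuousSMul B (B ⊗[B₀] M₀)] :
    DenseRange (fun m : M₀ => (1 : B) ⊗ₜ[B₀] m) := by
  obtain ⟨n, s, hs⟩ := Module.Finite.exists_fin (R := B₀) (M := M₀)
  let g : (Fin n → B) → B ⊗[B₀] M₀ := fun b => ∑ i, b i • ((1 : B) ⊗ₜ[B₀] s i)
  have hg_cont : Continuous g := by
    apply continuous_finsetSum
    intro i _
    exact Continuous.smul (continuous_apply i) (continuous_const (y := (1 : B) ⊗ₜ[B₀] s i))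
  have hg_surj : Function.Surjective g := by
    intro x
    induction x using TensorProduct.induction_on with
    | zero => exact ⟨0, by simp [g]⟩
    | tmul b m =>
      have hm : m ∈ Submodule.span B₀ (Set.range s) := hs ▸ Submodule.mem_top
      obtain ⟨c, rfl⟩ := (Submodule.mem_span_range_iff_exists_fun B₀).mp hm
      refine ⟨fun i => b * algebraMap B₀ B (c i), ?_⟩
      simp only [g, TensorProduct.tmul_sum, TensorProduct.smul_tmul', smul_eq_mul, mul_one]
      refine Finset.sum_congr rfl fun i _ => ?_
      rw [Algebra.algebraMap_eq_smul_one, mul_smul_comm, mul_one, TensorProduct.smul_tmul]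
    | add x y hx hy =>
      obtain ⟨bx, rfl⟩ := hx
      obtain ⟨by', rfl⟩ := hy
      exact ⟨bx + by', by simp [g, add_smul, Finset.sum_add_distrib]⟩
  have hh : DenseRange (Pi.map (fun _ : Fin n => algebraMap B₀ B)) := DenseRange.piMap (fun _ => hφ)
  have hcomp : DenseRange (g ∘ Pi.map (fun _ : Fin n => algebraMap B₀ B)) :=
    hg_surj.denseRange.comp hh hg_cont
  refine Dense.mono ?_ hcomp
  rintro _ ⟨c, rfl⟩
  refine ⟨∑ i, c i • s i, ?_⟩
  simp only [g, Function.comp_apply, Pi.map_apply, TensorProduct.tmul_sum, TensorProduct.smul_tmul', smul_eq_mul, mul_one]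
  refine Finset.sum_congr rfl fun i _ => ?_
  rw [Algebra.algebraMap_eq_smul_one, TensorProduct.smul_tmul]

end Groth.Agent.S15771
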