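import Groth.Statements.S1578
import Mathlib.RingTheory.Ideal.AssociatedPrime.Localization
-- import your own Groth.Agent.* helpers here

set_option autoImplicit false
universe u
open CategoryTheory CategoryTheory.Limits AlgebraicGeometry
open Divisors

namespace Groth.Agent.S1578

set_option linter.style.haveILetI false

theorem aux {R : Type u} [CommRing R] {M : Type u} [AddCommGroup M] [Module R M] (p : Ideal R)
    [p.IsPrime] (R' : Type u) [CommRing R'] [IsLocalRing R'] [Algebra R R']
    [IsLocalization.AtPrime R' p] (M' : Type u) [AddCommGroup M'] [Module R M'] [Module R' M']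
    [IsScalarTower R R' M'] (f : M →ₗ[R] M') [IsLocalizedModule p.primeCompl f] :
    (p ∈ associatedPrimes R M → IsAssociatedPrime (IsLocalRing.maximalIdeal R') M') ∧
    (p.FG → IsAssociatedPrime (IsLocalRing.maximalIdeal R') M' → p ∈ associatedPrimes R M) := by
  have hc : (IsLocalRing.maximalIdeal R').comap (algebraMap R R') = p :=
    IsLocalization.AtPrime.under_maximalIdeal R' _
  constructor
  · intro h
    exact Module.associatedPrimes.mem_associatedPrimes_of_comap_mem_associatedPrimes_of_isLocalizedModule
      p.primeCompl f (IsLocalRing.maximalIdeal R') (by rw [hc]; exact h)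
  · intro hfg h
    have := Module.associatedPrimes.comap_mem_associatedPrimes_of_mem_associatedPrimes_of_isLocalizedModule_of_fg
      p.primeCompl f (IsLocalRing.maximalIdeal R') h (by rw [hc]; exact hfg)
    rwa [hc] at this

theorem aux1 (A : CommRingCat.{u}) (M : ModuleCat.{u} A) (x : PrimeSpectrum.Top A) :
    haveI : IsLocalRing ((structurePresheafInCommRingCat A).stalk x) :=
      inferInstanceAs (IsLocalRing ((Spec A).presheaf.stalk (show ↥(Spec A) from x)))
    (x.asIdeal ∈ associatedPrimes A M →
      IsAssociatedPrime (IsLocalRing.maximalIdeal ((structurePresheafInCommRingCat A).stalk x))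
        ↑(TopCat.Presheaf.stalk (moduleStructurePresheaf A M).presheaf x)) ∧
    (x.asIdeal.FG →
      IsAssociatedPrime (IsLocalRing.maximalIdeal ((structurePresheafInCommRingCat A).stalk x))
        ↑(TopCat.Presheaf.stalk (moduleStructurePresheaf A M).presheaf x) →
      x.asIdeal ∈ associatedPrimes A M) := by
  haveI : IsLocalRing ((structurePresheafInCommRingCat A).stalk x) :=
      inferInstanceAs (IsLocalRing ((Spec A).presheaf.stalk (show ↥(Spec A) from x)))
  haveI : x.asIdeal.IsPrime := x.isPrime
  haveI : IsLocalization.AtPrime ((structurePresheafInCommRingCat A).stalk x) x.asIdeal :=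
    StructureSheaf.IsLocalization.to_stalk A x
  exact aux x.asIdeal ((structurePresheafInCommRingCat A).stalk x)
    ↑(TopCat.Presheaf.stalk (moduleStructurePresheaf A M).presheaf x)
    (StructureSheaf.toStalkₗ A M x)

theorem result (A : CommRingCat.{u}) (M : ModuleCat.{u} A)
    (p : Spec A) :
    (p.asIdeal ∈ associatedPrimes A M → Curv2.IsAssPoint (tilde M) p) ∧
    (p.asIdeal.FG → Curv2.IsAssPoint (tilde M) p → p.asIdeal ∈ associatedPrimes A M) := by
  exact aux1 A M p

end Groth.Agent.S1578
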