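import Groth.Statements.S15784
import Mathlib
-- import your own Groth.Agent.* helpers here

set_option autoImplicit false
universe u
open Neron

namespace Groth.Agent.S15784

/-- Let O be a discrete valuation ring with fraction field L and uniformizer ϖ', let ϖ be an element of
the maximal ideal of O, let q = u·ϖ'^n with u a unit of O and n ≥ 1, and let m ≥ 1 be a divisor of
n. Then the following are equivalent: (i) there is a nonzero element z = w·ϖ'^a of L, with w a unit
of O and a an integer congruent to n/m modulo n, and an integer j such that z^m·q^j lies in 1 + ϖO;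
(ii) ϖ'^n/q is an m-th power in the group of units of O/ϖO, that is, u·(y^m + ϖ·r) = 1 for some y, r
∈ O. (The published statement phrases (i) geometrically, as the existence of a point of order m in
the special fibre of the Néron model of the Weil restriction of the Tate curve with parameter q from
L down to a subfield over which L is totally ramified with ϖ a uniformizer of the subfield, whose
image in the component group also has order m; this row states the equivalence between (i) and (ii)
that the printed argument establishes.) -/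
theorem result
    (O : Type u) [CommRing O] [IsDomain O] [IsDiscreteValuationRing O]
    (L : Type u) [Field L] [Algebra O L] [IsFractionRing O L]
    (ϖ' : O) (hϖ' : Irreducible ϖ') (ϖ : O) (hϖ : ϖ ∈ IsLocalRing.maximalIdeal O)
    (n : ℕ) (hn : 1 ≤ n) (u : Oˣ) (q : O) (hq : q = u * ϖ' ^ n)
    (m : ℕ) (hm : 1 ≤ m) (hmn : m ∣ n) :
    (∃ (w : Oˣ) (a j t : ℤ) (r : O), a = (n / m : ℕ) + t * n ∧
        (algebraMap O L w * algebraMap O L ϖ' ^ a) ^ m * algebraMap O L q ^ j = algebraMap O L (1 + ϖ * r)) ↔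
      ∃ y r : O, (u : O) * (y ^ m + ϖ * r) = 1 := by
  have hinj : Function.Injective (algebraMap O L) := IsFractionRing.injective O L
  have hϖ'nu : ¬ IsUnit ϖ' := hϖ'.not_isUnit
  have hP : algebraMap O L ϖ' ≠ 0 := by
    rw [Ne, map_eq_zero_iff _ hinj]; exact hϖ'.ne_zero
  have key : ∀ (N : ℤ) (x v : Oˣ),
      algebraMap O L x * algebraMap O L ϖ' ^ N = algebraMap O L v → N = 0 := by
    intro N x v h
    rcases N with N' | N'
    · simp only [Int.ofNat_eq_natCast, zpow_natCast] at h
      rw [← map_pow, ← map_mul] at h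
      have h2 := hinj h
      have hu : IsUnit (ϖ' ^ N') := by
        have : ϖ' ^ N' = ↑(x⁻¹ * v) := by rw [Units.val_mul, ← h2]; simp
        rw [this]; exact Units.isUnit _
      by_contra hne
      have hN' : N' ≠ 0 := by intro h0; apply hne; simp [h0]
      exact hϖ'nu ((isUnit_pow_iff hN').mp hu)
    · exfalso
      rw [zpow_negSucc] at h
      have hne : algebraMap O L ϖ' ^ (N' + 1) ≠ 0 := pow_ne_zero _ hP
      have h' : algebraMap O L x = algebraMap O L v * algebraMap O L ϖ' ^ (N' + 1) := by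
        rw [← h, mul_assoc, inv_mul_cancel₀ hne, mul_one]
      rw [← map_pow, ← map_mul] at h'
      have h2 := hinj h'
      have hu : IsUnit (ϖ' ^ (N' + 1)) := by
        have : ϖ' ^ (N' + 1) = ↑(v⁻¹ * x) := by rw [Units.val_mul, h2]; simp
        rw [this]; exact Units.isUnit _
      exact hϖ'nu ((isUnit_pow_iff (Nat.succ_ne_zero N')).mp hu)
  obtain ⟨k, hk⟩ := hmn
  have hm0 : 0 < m := hm
  have hnm : n / m = k := by rw [hk]; exact Nat.mul_div_cancel_left k hm0
  rw [hnm]
  have hnZ : (n : ℤ) = m * k := by exact_mod_cast hk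
  constructor
  · rintro ⟨w, a, j, t, r, ha, heq⟩
    have hv : IsUnit (1 + ϖ * r) := by
      by_contra hnu
      have h1 : (1 + ϖ * r) ∈ IsLocalRing.maximalIdeal O := (IsLocalRing.mem_maximalIdeal _).mpr hnu
      have h2 : ϖ * r ∈ IsLocalRing.maximalIdeal O := Ideal.mul_mem_right _ _ hϖ
      have h3 : (1 : O) ∈ IsLocalRing.maximalIdeal O := by
        have := Ideal.sub_mem _ h1 h2
        simpa using this
      exact (IsLocalRing.maximalIdeal.isMaximal O).ne_top ((Ideal.eq_top_iff_one _).mpr h3)
    obtain ⟨vu, hvu⟩ := hv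
    let φ : Oˣ →* Lˣ := Units.map (algebraMap O L : O →* L)
    have hφ : ∀ x : Oˣ, ((φ x : Lˣ) : L) = algebraMap O L x := fun x => rfl
    have hc : algebraMap O L ↑(w ^ m * u ^ j : Oˣ) =
        algebraMap O L w ^ m * algebraMap O L u ^ j := by
      rw [← hφ, map_mul, map_pow, map_zpow, Units.val_mul, Units.val_pow_eq_pow_val,
        Units.val_zpow_eq_zpow_val, hφ, hφ]
    have e1 : (algebraMap O L w * algebraMap O L ϖ' ^ a) ^ m * algebraMap O L q ^ j =
        (algebraMap O L w ^ m * algebraMap O L u ^ j) * algebraMap O L ϖ' ^ (a * m + n * j) := by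
      rw [hq, map_mul, map_pow, mul_pow, mul_zpow, ← zpow_natCast (algebraMap O L ϖ' ^ a) m,
        ← zpow_mul, ← zpow_natCast (algebraMap O L ϖ') n, ← zpow_mul, zpow_add₀ hP]
      ring
    rw [e1, ← hc, ← hvu] at heq
    have hN := key _ _ _ heq
    rw [hN, zpow_zero, mul_one] at heq
    have hE : (w ^ m * u ^ j : Oˣ) = vu := Units.ext (hinj heq)
    have hj : j = -1 - t * m := by
      have h0 : (n : ℤ) * (1 + t * m + j) = 0 := by
        rw [← hN, ha, hnZ]; ring
      have hn0 : (n : ℤ) ≠ 0 := by exact_mod_cast (by omega : n ≠ 0)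
      rcases mul_eq_zero.mp h0 with h | h
      · exact absurd h hn0
      · linarith
    set y : Oˣ := (w * u ^ (-t))⁻¹ with hy
    refine ⟨(y : O), r * (y : O) ^ m, ?_⟩
    have h1 : (u : O) * ((y : O) ^ m + ϖ * (r * (y : O) ^ m)) = ↑u * (y : O) ^ m * (1 + ϖ * r) := by
      ring
    rw [h1, ← hvu, ← Units.val_pow_eq_pow_val, ← Units.val_mul, ← Units.val_mul, Units.val_eq_one,
      ← hE]
    have h2 : y ^ m = (w ^ m)⁻¹ * u ^ (t * m) := by
      rw [hy, inv_pow, mul_pow, mul_inv, ← zpow_natCast (u ^ (-t)) m, ← zpow_mul, ← zpow_neg]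
      congr 2; ring
    rw [h2, hj]
    calc u * ((w ^ m)⁻¹ * u ^ (t * m)) * (w ^ m * u ^ (-1 - t * m))
        = ((w ^ m)⁻¹ * w ^ m) * (u ^ (1 : ℤ) * u ^ (t * m) * u ^ (-1 - t * m)) := by
          rw [zpow_one]; ac_rfl
      _ = 1 := by
          rw [inv_mul_cancel, one_mul, ← zpow_add, ← zpow_add]
          have : (1 : ℤ) + t * m + (-1 - t * m) = 0 := by ring
          rw [this, zpow_zero]
  · rintro ⟨y, r, hy⟩
    have hsum : IsUnit (y ^ m + ϖ * r) := IsUnit.of_mul_eq_one _ (by rw [mul_comm]; exact hy)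
    have hym : IsUnit (y ^ m) := by
      by_contra hnu
      have h1 : y ^ m ∈ IsLocalRing.maximalIdeal O := (IsLocalRing.mem_maximalIdeal _).mpr hnu
      have h2 : ϖ * r ∈ IsLocalRing.maximalIdeal O := Ideal.mul_mem_right _ _ hϖ
      have h3 := Ideal.add_mem _ h1 h2
      exact (IsLocalRing.mem_maximalIdeal _).mp h3 hsum
    have hyu : IsUnit y := (isUnit_pow_iff (by omega : m ≠ 0)).mp hym
    obtain ⟨yu, rfl⟩ := hyu
    refine ⟨yu⁻¹, (k : ℤ), -1, 0, r * ((yu⁻¹ : Oˣ) : O) ^ m, by simp, ?_⟩
    have hY : algebraMap O L ((yu⁻¹ : Oˣ) : O) * algebraMap O L (yu : O) = 1 := by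
      rw [← map_mul]; simp
    have hY0 : algebraMap O L (yu : O) ≠ 0 := right_ne_zero_of_mul_eq_one hY
    have hYinv : algebraMap O L ((yu⁻¹ : Oˣ) : O) = (algebraMap O L (yu : O))⁻¹ :=
      eq_inv_of_mul_eq_one_left hY
    have hU : algebraMap O L (u : O) * (algebraMap O L (yu : O) ^ m + algebraMap O L ϖ * algebraMap O L r) = 1 := by
      rw [← map_pow, ← map_mul, ← map_add, ← map_mul, hy, map_one]
    have hU0 : algebraMap O L (u : O) ≠ 0 := left_ne_zero_of_mul_eq_one hU
    rw [hq, zpow_natCast, mul_pow, ← pow_mul, mul_comm k m, ← hk, zpow_neg_one, hYinv]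
    simp only [map_mul, map_add, map_one, map_pow, hYinv]
    have hPn : algebraMap O L ϖ' ^ n ≠ 0 := pow_ne_zero _ hP
    simp only [inv_pow]
    have hYm : algebraMap O L (yu : O) ^ m ≠ 0 := pow_ne_zero _ hY0
    field_simp
    linear_combination (-1 : L) * hU

end Groth.Agent.S15784
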