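import Groth.Statements.S15793
import Mathlib
import Groth.Agent.Lib.Helper5RLR
-- import your own Groth.Agent.* helpers here

set_option autoImplicit false
set_option linter.style.haveILetI false
set_option linter.unusedSectionVars false
universe u v w
open WildQuot

namespace Groth.Agent.S15793

open IsLocalRing

/-- An automorphism from a ring action preserves the maximal ideal. -/
theorem smul_mem_maximalIdeal {A : Type u} [CommRing A] [IsLocalRing A]
    {G : Type w} [Group G] [MulSemiringAction G A] (σ : G) {x : A} (hx : x ∈ maximalIdeal A) :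
    σ • x ∈ maximalIdeal A := by
  rw [mem_maximalIdeal, mem_nonunits_iff] at hx ⊢
  intro hu
  apply hx
  have := hu.map (MulSemiringAction.toRingHom G A σ⁻¹)
  simpa using this

/-- If `k → A → A/m` is onto and `σ` fixes the image of `k`, then `σ a - a ∈ m`. -/
theorem smul_sub_mem_maximalIdeal {A : Type u} [CommRing A] [IsLocalRing A]
    {k : Type v} [Field k] [Algebra k A]
    (hk : Function.Surjective (IsLocalRing.residue A ∘ algebraMap k A))
    {G : Type w} [Group G] [MulSemiringAction G A]
    (hGk : ∀ (σ : G) (c : k), σ • algebraMap k A c = algebraMap k A c) (σ : G) (a : A) :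
    ∃ c : k, a - algebraMap k A c ∈ maximalIdeal A ∧
      σ • a - a = σ • (a - algebraMap k A c) - (a - algebraMap k A c) := by
  obtain ⟨c, hc⟩ := hk (residue A a)
  refine ⟨c, ?_, ?_⟩
  · rw [← residue_eq_zero_iff, map_sub, ← hc]
    simp
  · rw [smul_sub, hGk]; ring

/-- Main lemma: if `σ` fixes `v ∈ m ∖ m²`, some non-maximal prime has `σ` in its inertia group. -/
theorem exists_prime_ne_maximalIdeal_mem_inertia {A : Type u} [CommRing A] [IsRegularLocalRing A]
    {k : Type v} [Field k] [Algebra k A]
    (hk : Function.Surjective (IsLocalRing.residue A ∘ algebraMap k A))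
    {G : Type w} [Group G] [MulSemiringAction G A]
    (hGk : ∀ (σ : G) (c : k), σ • algebraMap k A c = algebraMap k A c)
    (v : A) (hv : v ∈ maximalIdeal A) (hv2 : v ∉ maximalIdeal A ^ 2)
    (σ : G) (hσv : σ • v = v) :
    ∃ P : Ideal A, P.IsPrime ∧ P ≠ maximalIdeal A ∧ σ ∈ P.inertia G := by
  classical
  -- generators of `m` containing `v`
  have hne : (maximalIdeal A).toCotangent ⟨v, hv⟩ ≠ 0 := by
    rw [Ne, Ideal.toCotangent_eq_zero]
    exact hv2
  have hli : LinearIndependent (ResidueField A)
      (fun i : Fin 1 => (maximalIdeal A).toCotangent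
        ((fun _ : Fin 1 => (⟨v, hv⟩ : maximalIdeal A)) i)) := by
    rw [linearIndependent_unique_iff]
    exact hne
  obtain ⟨s, z, hs, hsup⟩ :=
    Groth.Agent.Lib.Helper5.exists_extension_span_eq_maximalIdeal
      (fun _ : Fin 1 => (⟨v, hv⟩ : maximalIdeal A)) hli
  have hrange : (Set.range fun i : Fin 1 =>
      (((fun _ : Fin 1 => (⟨v, hv⟩ : maximalIdeal A)) i : maximalIdeal A) : A)) = {v} := by
    simp
  rw [hrange] at hsup
  -- the ideals
  set I : Ideal A := Ideal.span (Set.range fun a : A => σ • a - a) with hI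
  set w : Fin s → A := fun i => σ • (z i : A) - (z i : A) with hw
  set I₀ : Ideal A := Ideal.span (Set.range w) with hI₀
  have hI₀I : I₀ ≤ I := by
    rw [hI₀, Ideal.span_le]
    rintro _ ⟨i, rfl⟩
    exact Ideal.subset_span ⟨(z i : A), rfl⟩
  have hIm : I ≤ maximalIdeal A := by
    rw [hI, Ideal.span_le]
    rintro _ ⟨a, rfl⟩
    obtain ⟨c, hc, heq⟩ := smul_sub_mem_maximalIdeal hk hGk σ a
    change σ • a - a ∈ maximalIdeal A
    rw [heq]
    exact sub_mem (smul_mem_maximalIdeal σ hc) hc
  have hgen : ∀ b : A, σ • b - b ∈ I := fun b => Ideal.subset_span ⟨b, rfl⟩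
  -- key: `I ≤ I₀ ⊔ m • I`
  have hkey : I ≤ I₀ ⊔ maximalIdeal A • I := by
    rw [hI, Ideal.span_le]
    rintro _ ⟨a, rfl⟩
    obtain ⟨c, hc, heq⟩ := smul_sub_mem_maximalIdeal hk hGk σ a
    change σ • a - a ∈ I₀ ⊔ maximalIdeal A • I
    rw [heq]
    set m' := a - algebraMap k A c with hm'
    rw [← hsup] at hc
    obtain ⟨y, hy, t, ht, hyt⟩ := Submodule.mem_sup.mp hc
    obtain ⟨b, rfl⟩ := Ideal.mem_span_singleton'.mp ht
    obtain ⟨f, rfl⟩ := (Ideal.mem_span_range_iff_exists_fun (R := A)).mp hy
    rw [← hyt]
    have e1 : σ • (∑ i, f i * (z i : A) + b * v) - (∑ i, f i * (z i : A) + b * v) =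
        ∑ i, (σ • f i) * w i + (∑ i, (z i : A) * (σ • f i - f i) + v * (σ • b - b)) := by
      rw [smul_add, Finset.smul_sum]
      simp only [smul_mul', hσv, hw]
      rw [Finset.sum_congr rfl (fun i _ => show
        σ • f i * (σ • (z i : A) - (z i : A)) = σ • f i * σ • (z i : A) - σ • f i * (z i : A) by ring)]
      rw [Finset.sum_congr rfl (fun i _ => show
        (z i : A) * (σ • f i - f i) = σ • f i * (z i : A) - f i * (z i : A) by ring)]
      simp only [Finset.sum_sub_distrib]
      ring
    rw [e1]
    refine Submodule.add_mem_sup ?_ ?_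
    · refine Ideal.sum_mem _ fun i _ => Ideal.mul_mem_left _ _ (Ideal.subset_span ⟨i, rfl⟩)
    · refine add_mem (Ideal.sum_mem _ fun i _ => ?_) ?_
      · rw [smul_eq_mul]
        exact Ideal.mul_mem_mul (z i).2 (hgen _)
      · rw [smul_eq_mul]
        exact Ideal.mul_mem_mul hv (hgen _)
  have hII₀ : I ≤ I₀ :=
    Submodule.le_of_le_smul_of_le_jacobson_bot (IsNoetherian.noetherian I)
      (IsLocalRing.maximalIdeal_le_jacobson ⊥) hkey
  have hIeq : I = I₀ := le_antisymm hII₀ hI₀I
  -- minimal prime over `I`
  have hItop : I ≠ ⊤ := fun h => (maximalIdeal.isMaximal A).ne_top (top_le_iff.mp (h ▸ hIm))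
  obtain ⟨P, hP⟩ := Ideal.nonempty_minimalPrimes hItop
  have hPprime : P.IsPrime := hP.1.1
  have hIP : I ≤ P := hP.1.2
  refine ⟨P, hPprime, ?_, ?_⟩
  · intro hPm
    have hht : P.height ≤ ((Finset.univ.image w : Finset A).card : ℕ∞) := by
      apply Ideal.height_le_card_of_mem_minimalPrimes_span_finset
      rw [Finset.coe_image, Finset.coe_univ, Set.image_univ]
      rw [← hI₀, ← hIeq]
      exact hP
    have hcard : (Finset.univ.image w : Finset A).card ≤ s := by
      refine Finset.card_image_le.trans ?_
      simp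
    have h1 : ((maximalIdeal A).height : WithBot ℕ∞) =
        ((maximalIdeal A).spanFinrank : WithBot ℕ∞) := by
      rw [IsLocalRing.maximalIdeal_height_eq_ringKrullDim,
        IsRegularLocalRing.spanFinrank_maximalIdeal]
    have h2 : (maximalIdeal A).height = ((maximalIdeal A).spanFinrank : ℕ∞) := by
      exact_mod_cast h1
    rw [hPm, h2] at hht
    have h3 : (maximalIdeal A).spanFinrank ≤ (Finset.univ.image w : Finset A).card := by
      exact_mod_cast hht
    omega
  · intro x
    exact hIP (hgen x)


/-- Let `A` be a complete regular local ring of Krull dimension at least `2` and prime characteristic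
`p`, with maximal ideal `m`; let `k` be a field with a ring map `k → A` whose composite with `A →
A/m` is onto (a field of representatives); let `G` be a group of order `p` acting on `A` by ring
automorphisms that fix the image of `k`, ramified precisely at the origin: for every prime `P ≠ m`,
the inertia subgroup of `P` (the elements of `G` fixing every element of `A` modulo `P`) is trivial.
Then no element of `m` outside `m ^ 2` is fixed by every element of `G`; in particular the action is
not linear in any regular system of parameters. -/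
theorem result
    (p : ℕ) [Fact p.Prime] (A : Type u) [CommRing A] [IsRegularLocalRing A] [CharP A p]
    [IsAdicComplete (IsLocalRing.maximalIdeal A) A] (hdim : 2 ≤ ringKrullDim A)
    (k : Type v) [Field k] [Algebra k A]
    (hk : Function.Surjective (IsLocalRing.residue A ∘ algebraMap k A))
    (G : Type w) [Group G] [Finite G] [MulSemiringAction G A] (hcard : Nat.card G = p)
    (hGk : ∀ (σ : G) (c : k), σ • algebraMap k A c = algebraMap k A c)
    (hram : ∀ P : Ideal A, P.IsPrime → P ≠ IsLocalRing.maximalIdeal A → P.inertia G = ⊥)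
    (v : A) (hv : v ∈ IsLocalRing.maximalIdeal A) (hv2 : v ∉ IsLocalRing.maximalIdeal A ^ 2) :
    ∃ σ : G, σ • v ≠ v := by
  by_contra hcon
  push Not at hcon
  have hnt : Nontrivial G := by
    rw [← Finite.one_lt_card_iff_nontrivial, hcard]
    exact (Fact.out : p.Prime).one_lt
  obtain ⟨σ, hσ⟩ := exists_ne (1 : G)
  obtain ⟨P, hPp, hPm, hσP⟩ :=
    exists_prime_ne_maximalIdeal_mem_inertia hk hGk v hv hv2 σ (hcon σ)
  rw [hram P hPp hPm] at hσP
  exact hσ (Subgroup.mem_bot.mp hσP)

end Groth.Agent.S15793
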