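import Groth.Statements.S15794
import Mathlib
import Groth.Agent.Lib.Helper5RLR
import Groth.Agent.Lib.Helper16WildFlat
-- import your own Groth.Agent.* helpers here

set_option autoImplicit false
set_option linter.style.haveILetI false
set_option linter.unusedSectionVars false
universe u v w
open WildQuot

namespace Groth.Agent.S15794

open IsLocalRing Groth.Agent.Lib.Helper16.WildFlat

/-- An automorphism from a ring action preserves the maximal ideal. -/
theorem smul_mem_maximalIdeal {A : Type u} [CommRing A] [IsLocalRing A]
    {G : Type w} [Group G] [MulSemiringAction G A] (σ : G) {x : A} (hx : x ∈ maximalIdeal A) :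
    σ • x ∈ maximalIdeal A := by
  rw [mem_maximalIdeal, mem_nonunits_iff] at hx ⊢
  intro hu
  apply hx
  have := hu.map (MulSemiringAction.toRingHom G A σ⁻¹)
  simpa using this

/-- If `k → A → A/m` is onto and `σ` fixes the image of `k`, then `σ a - a ∈ m`. -/
theorem smul_sub_mem_maximalIdeal {A : Type u} [CommRing A] [IsLocalRing A]
    {k : Type v} [Field k] [Algebra k A]
    (hk : Function.Surjective (IsLocalRing.residue A ∘ algebraMap k A))
    {G : Type w} [Group G] [MulSemiringAction G A]
    (hGk : ∀ (σ : G) (c : k), σ • algebraMap k A c = algebraMap k A c) (σ : G) (a : A) :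
    σ • a - a ∈ maximalIdeal A := by
  obtain ⟨c, hc⟩ := hk (residue A a)
  have h1 : a - algebraMap k A c ∈ maximalIdeal A := by
    rw [← residue_eq_zero_iff, map_sub, ← hc]
    simp
  have h2 : σ • a - a = σ • (a - algebraMap k A c) - (a - algebraMap k A c) := by
    rw [smul_sub, hGk]; ring
  rw [h2]
  exact sub_mem (smul_mem_maximalIdeal σ h1) h1


/-- Let `A` be a complete regular local ring of Krull dimension at least `2` and prime characteristic
`p`, with maximal ideal `m`; let `k` be a field with a ring map `k → A` whose composite with `A →
A/m` is onto; let `G` be a group of order `p` acting on `A` by ring automorphisms fixing the image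
of `k` and ramified precisely at the origin (for every prime `P ≠ m`, the inertia subgroup of `P`
(the elements of `G` fixing every element modulo `P`) is trivial). Then `A` is not a flat module
over the ring of invariants `A^G`. (The published statement also asserts that `A^G ⊂ A` is local and
finite of degree `p` with trivial residue field extension; this row omits those clauses.) -/
theorem result
    (p : ℕ) [Fact p.Prime] (A : Type u) [CommRing A] [IsRegularLocalRing A] [CharP A p]
    [IsAdicComplete (IsLocalRing.maximalIdeal A) A] (hdim : 2 ≤ ringKrullDim A)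
    (k : Type v) [Field k] [Algebra k A]
    (hk : Function.Surjective (IsLocalRing.residue A ∘ algebraMap k A))
    (G : Type w) [Group G] [Finite G] [MulSemiringAction G A] (hcard : Nat.card G = p)
    (hGk : ∀ (σ : G) (c : k), σ • algebraMap k A c = algebraMap k A c)
    (hram : ∀ P : Ideal A, P.IsPrime → P ≠ IsLocalRing.maximalIdeal A → P.inertia G = ⊥) :
    ¬ Module.Flat (FixedPoints.subring A G) A := by
  intro hflat
  haveI := hflat
  cases nonempty_fintype G
  haveI : IsDomain A := Groth.Agent.Lib.Helper5.isDomain_of_isRegularLocalRing A
  have hram' : ∀ P : Ideal A, P.IsPrime → P ≠ maximalIdeal A →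
      ∀ σ : G, (∀ a : A, σ • a - a ∈ P) → σ = 1 := by
    intro P hP hPm σ hσ
    have hmem : σ ∈ P.inertia G := fun x => hσ x
    rw [hram P hP hPm] at hmem
    exact Subgroup.mem_bot.mp hmem
  have hbot : (⊥ : Ideal A) ≠ maximalIdeal A := by
    intro h
    have hm : ((2 : ℕ∞) : WithBot ℕ∞) ≤ ((maximalIdeal A).height : WithBot ℕ∞) := by
      rw [IsLocalRing.maximalIdeal_height_eq_ringKrullDim]; exact hdim
    rw [← h, Ideal.height_bot] at hm
    have hm' : (2 : ℕ∞) ≤ 0 := by exact_mod_cast hm
    exact absurd hm' (by norm_num)
  have hfaith : ∀ σ : G, (∀ a : A, σ • a = a) → σ = 1 := by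
    intro σ hσ
    exact hram' ⊥ Ideal.isPrime_bot hbot σ fun a => by rw [hσ a, sub_self]; exact zero_mem _
  haveI : Module.Finite (FixedPoints.subring A G) A := finite_of_flat hfaith
  haveI : IsLocalRing (FixedPoints.subring A G) := isLocalRing_fixed
  haveI : Module.Free (FixedPoints.subring A G) A := Module.free_of_flat_of_isLocalRing
  have hc : 2 ≤ Fintype.card G := by
    rw [← Nat.card_eq_fintype_card, hcard]
    exact (Fact.out : p.Prime).two_le
  exact false_of_free (A := A) (G := G) hc (smul_sub_mem_maximalIdeal hk hGk) hram' hdim

end Groth.Agent.S15794
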