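import Groth.Statements.S15795
import Mathlib

set_option autoImplicit false
universe u v
open WildQuot

namespace Groth.Agent.S15795

open IsLocalRing

section
variable {A : Type u} [CommRing A] [IsLocalRing A]
  {G : Type v} [Group G] [MulSemiringAction G A]

lemma smul_mem_max (σ : G) {x : A} (hx : x ∈ maximalIdeal A) : σ • x ∈ maximalIdeal A := by
  rw [mem_maximalIdeal, mem_nonunits_iff] at hx ⊢
  intro h
  apply hx
  have : IsUnit (σ⁻¹ • (σ • x)) := by
    have := h.map (MulSemiringAction.toRingEquiv G A σ⁻¹)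
    simpa using this
  simpa using this

lemma comap_ge (σ : G) (T : Ideal A) (S : Set A) (hS : ∀ x ∈ S, σ • x ∈ T)
    (hm : maximalIdeal A ^ 2 ≤ T) :
    ∀ x ∈ Ideal.span S ⊔ maximalIdeal A ^ 2, σ • x ∈ T := by
  have h1 : Ideal.span S ⊔ maximalIdeal A ^ 2 ≤
      T.comap (MulSemiringAction.toRingEquiv G A σ : A →+* A) := by
    refine sup_le (Ideal.span_le.2 fun x hx => hS x hx) ?_
    rw [← Ideal.map_le_iff_le_comap, Ideal.map_pow]
    refine le_trans (Ideal.pow_right_mono ?_ 2) hm
    rw [Ideal.map_le_iff_le_comap]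
    intro x hx
    exact smul_mem_max σ hx
  intro x hx
  exact h1 hx

end


/-- Let `A` be a regular local ring of Krull dimension `n` with maximal ideal `m`, let a finite group
`G` act on `A` by ring automorphisms inducing the identity on the residue field, and let `u_1, …,
u_n` generate `m`. Suppose that for every `σ ∈ G` and every `i`, `σ u_i ∈ (u_1, …, u_i) + m ^ 2`,
i.e. the induced linear maps of `m / m ^ 2` are upper triangular in the basis given by the `u_i`.
Then the system `u` is admissible: for every choice `σ_1, …, σ_n ∈ G` the elements `σ_1 u_1, …, σ_n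
u_n` generate `m`. (The published statement is for a complete regular local ring containing a
`G`-fixed field of representatives; this row drops completeness and asks only that `G` act trivially
on the residue field.) -/
theorem result
    (A : Type u) [CommRing A] [IsRegularLocalRing A]
    (G : Type v) [Group G] [Finite G] [MulSemiringAction G A]
    (hres : ∀ (σ : G) (a : A), σ • a - a ∈ IsLocalRing.maximalIdeal A)
    (n : ℕ) (hn : ringKrullDim A = n) (u : Fin n → A)
    (hu : Ideal.span (Set.range u) = IsLocalRing.maximalIdeal A)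
    (htri : ∀ (σ : G) (i : Fin n),
      σ • u i ∈ Ideal.span (u '' {j | j ≤ i}) ⊔ IsLocalRing.maximalIdeal A ^ 2) :
    ∀ τ : Fin n → G,
      Ideal.span (Set.range fun i => τ i • u i) = IsLocalRing.maximalIdeal A := by
  classical
  intro τ
  set m := maximalIdeal A with hm
  -- the flag
  set V : Fin n → Ideal A := fun i => Ideal.span (u '' {j | j ≤ i}) ⊔ m ^ 2 with hV
  set W : Fin n → Ideal A := fun i => Ideal.span (u '' {j | j < i}) ⊔ m ^ 2 with hW
  have hVW : ∀ i j, j < i → V j ≤ W i := fun i j hji =>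
    sup_le_sup_right (Ideal.span_mono (Set.image_mono fun k (hk : k ≤ j) => lt_of_le_of_lt hk hji)) _
  have hm2W : ∀ i, m ^ 2 ≤ W i := fun i => le_sup_right
  have hum : ∀ i, u i ∈ m := fun i => by
    rw [← hu]; exact Ideal.subset_span ⟨i, rfl⟩
  have hWm : ∀ i, W i ≤ m := fun i => by
    refine sup_le (Ideal.span_le.2 ?_) (Ideal.pow_le_self two_ne_zero)
    rintro _ ⟨j, -, rfl⟩
    exact hum j
  -- stability of W
  have hWstab : ∀ (σ : G) i, ∀ x ∈ W i, σ • x ∈ W i := by
    intro σ i
    refine comap_ge σ (W i) _ ?_ (hm2W i)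
    rintro _ ⟨j, hj, rfl⟩
    exact hVW i j hj (htri σ j)
  -- u i ∉ W i (Krull)
  have huW : ∀ i, u i ∉ W i := by
    intro i hi
    set s : Finset A := (Finset.univ.erase i).image u with hs
    have h1 : m ≤ Ideal.span (s : Set A) ⊔ m • m := by
      rw [← hu, Ideal.span_le]
      rintro _ ⟨j, rfl⟩
      by_cases hj : j = i
      · subst hj
        have : W j ≤ Ideal.span (s : Set A) ⊔ Ideal.span (Set.range u) • Ideal.span (Set.range u) := by
          rw [hu, smul_eq_mul, ← pow_two]
          refine sup_le_sup_right (Ideal.span_mono ?_) _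
          rintro _ ⟨k, hk, rfl⟩
          simp only [hs, Finset.coe_image, Set.mem_image, Finset.mem_coe, Finset.mem_erase]
          exact ⟨k, ⟨ne_of_lt hk, Finset.mem_univ _⟩, rfl⟩
        exact this hi
      · apply Ideal.mem_sup_left
        apply Ideal.subset_span
        simp only [hs, Finset.coe_image, Set.mem_image, Finset.mem_coe, Finset.mem_erase]
        exact ⟨j, ⟨hj, Finset.mem_univ _⟩, rfl⟩
    have h2 : m ≤ Ideal.span (s : Set A) :=
      Submodule.le_of_le_smul_of_le_jacobson_bot (IsNoetherian.noetherian m)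
        (IsLocalRing.maximalIdeal_le_jacobson ⊥) h1
    have h3 : Ideal.span (s : Set A) ≤ m := by
      rw [Ideal.span_le]
      intro x hx
      simp only [hs, Finset.coe_image, Set.mem_image] at hx
      obtain ⟨j, -, rfl⟩ := hx
      exact hum j
    have hmin : m ∈ (Ideal.span (s : Set A)).minimalPrimes := by
      refine ⟨⟨inferInstance, h3⟩, ?_⟩
      rintro q ⟨hq, hsq⟩ _
      exact h2.trans hsq
    have hht := Ideal.height_le_card_of_mem_minimalPrimes_span_finset hmin
    have hcard : s.card ≤ n - 1 := by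
      refine Finset.card_image_le.trans ?_
      simp
    have hheq : m.height = (n : ℕ∞) := by
      have := (IsLocalRing.maximalIdeal_height_eq_ringKrullDim (R := A)).trans hn
      exact_mod_cast this
    rw [hheq] at hht
    have hnpos : 0 < n := i.pos
    have : (n : ℕ∞) ≤ ((n - 1 : ℕ) : ℕ∞) := hht.trans (by exact_mod_cast hcard)
    have : n ≤ n - 1 := by exact_mod_cast this
    omega
  -- σ u i ∉ W i
  have hσW : ∀ (σ : G) i, σ • u i ∉ W i := by
    intro σ i h
    apply huW i
    have := hWstab σ⁻¹ i _ h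
    simpa using this
  -- V i = span {u i} ⊔ W i
  have hVeq : ∀ i, V i ≤ Ideal.span {u i} ⊔ W i := by
    intro i
    refine sup_le (Ideal.span_le.2 ?_) (le_sup_of_le_right le_sup_right)
    rintro _ ⟨j, hj, rfl⟩
    rcases eq_or_lt_of_le (show j ≤ i from hj) with rfl | hlt
    · exact Ideal.mem_sup_left (Ideal.subset_span rfl)
    · exact Ideal.mem_sup_right (Ideal.mem_sup_left (Ideal.subset_span ⟨j, hlt, rfl⟩))
  -- key: u i ∈ span {x} ⊔ W i for x ∈ V i \ W i
  have hkey : ∀ i x, x ∈ V i → x ∉ W i → u i ∈ Ideal.span {x} ⊔ W i := by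
    intro i x hxV hxW
    obtain ⟨c, w, hw, hcw⟩ := Ideal.mem_span_singleton_sup.1 (hVeq i hxV)
    have hc : IsUnit c := by
      by_contra hc
      have hcm : c ∈ m := hc
      apply hxW
      rw [← hcw]
      refine (W i).add_mem (hm2W i ?_) hw
      rw [pow_two]
      exact Ideal.mul_mem_mul hcm (hum i)
    obtain ⟨c', rfl⟩ := hc
    have : u i = (↑c'⁻¹ : A) * x + (-(↑c'⁻¹ : A) * w) := by
      rw [← hcw, mul_add, ← mul_assoc, Units.inv_mul, one_mul]
      ring
    rw [this]
    refine Ideal.add_mem _ (Ideal.mem_sup_left (Ideal.mul_mem_left _ _ (Ideal.subset_span rfl)))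
      (Ideal.mem_sup_right (Ideal.mul_mem_left _ _ hw))
  set I := Ideal.span (Set.range fun i => τ i • u i) with hI
  have hIm : I ≤ m := by
    rw [hI, Ideal.span_le]
    rintro _ ⟨i, rfl⟩
    exact smul_mem_max (τ i) (hum i)
  -- induction: u i ∈ I ⊔ m^2
  have hind : ∀ i : Fin n, u i ∈ I ⊔ m ^ 2 := by
    intro i
    induction i using Fin.strong_induction_on with
    | _ i ih =>
      have h1 := hkey i (τ i • u i) (htri (τ i) i) (hσW (τ i) i)
      have h2 : Ideal.span {τ i • u i} ⊔ W i ≤ I ⊔ m ^ 2 := by
        refine sup_le (le_sup_of_le_left (Ideal.span_mono ?_)) (sup_le (Ideal.span_le.2 ?_) le_sup_right)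
        · rintro _ rfl
          exact ⟨i, rfl⟩
        · rintro _ ⟨j, hj, rfl⟩
          exact ih j hj
      exact h2 h1
  refine le_antisymm hIm ?_
  have h1 : m ≤ I ⊔ m • m := by
    rw [smul_eq_mul, ← pow_two]
    conv_lhs => rw [← hu]
    rw [Ideal.span_le]
    rintro _ ⟨i, rfl⟩
    exact hind i
  exact Submodule.le_of_le_smul_of_le_jacobson_bot (IsNoetherian.noetherian m)
    (IsLocalRing.maximalIdeal_le_jacobson ⊥) h1

end Groth.Agent.S15795
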