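import Groth.Statements.S15796
import Mathlib
-- import your own Groth.Agent.* helpers here

set_option autoImplicit false
universe u v
open WildQuot

namespace Groth.Agent.S15796

/-- Let `A` be a Noetherian local ring of Krull dimension `n` whose maximal ideal `m` is generated by
`u_1, …, u_n`, and let a finite group `G` act on `A` by ring automorphisms. If some `σ ∈ G` maps
some `u_i` into the ideal generated by the `u_j` with `j ≠ i`, then the system `u` is not weakly
admissible: for some choice `σ_1, …, σ_n ∈ G` the radical of `(σ_1 u_1, …, σ_n u_n)` does not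
contain `m`. (The published statement is for a linear action on `k[[u_1, …, u_n]]` whose matrix has
a zero diagonal entry; this row assumes instead that some `σ u_i` lies in the ideal generated by the
other `u_j`.) -/
theorem result
    (A : Type u) [CommRing A] [IsLocalRing A] [IsNoetherianRing A]
    (G : Type v) [Group G] [Finite G] [MulSemiringAction G A]
    (n : ℕ) (hn : ringKrullDim A = n) (u : Fin n → A)
    (hu : Ideal.span (Set.range u) = IsLocalRing.maximalIdeal A)
    (σ : G) (i : Fin n) (hσ : σ • u i ∈ Ideal.span (u '' {j | j ≠ i})) :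
    ∃ τ : Fin n → G,
      ¬ IsLocalRing.maximalIdeal A ≤ (Ideal.span (Set.range fun j => τ j • u j)).radical := by
  classical
  refine ⟨Function.update (fun _ => (1 : G)) i σ, ?_⟩
  intro hle
  set s : Finset A := (Finset.univ.erase i).image u with hs
  have hspan_s : Ideal.span (u '' {j | j ≠ i}) = Ideal.span (s : Set A) := by
    congr 1
    ext x
    simp [hs]
  have h1 : Ideal.span (Set.range fun j => (Function.update (fun _ => (1 : G)) i σ) j • u j) ≤
      Ideal.span (s : Set A) := by
    rw [Ideal.span_le]
    rintro _ ⟨j, rfl⟩
    by_cases hj : j = i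
    · subst hj
      simp only [Function.update_self]
      rw [← hspan_s]; exact hσ
    · simp only [Function.update_of_ne hj, one_smul]
      apply Ideal.subset_span
      simp only [hs, Finset.coe_image, Set.mem_image, Finset.mem_coe, Finset.mem_erase]
      exact ⟨j, ⟨hj, Finset.mem_univ _⟩, rfl⟩
  have h2 : IsLocalRing.maximalIdeal A ≤ (Ideal.span (s : Set A)).radical :=
    hle.trans (Ideal.radical_mono h1)
  have h3 : Ideal.span (s : Set A) ≤ IsLocalRing.maximalIdeal A := by
    rw [← hu]
    apply Ideal.span_mono
    intro x hx
    simp only [hs, Finset.coe_image, Set.mem_image] at hx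
    obtain ⟨j, -, rfl⟩ := hx
    exact ⟨j, rfl⟩
  have hmin : IsLocalRing.maximalIdeal A ∈ (Ideal.span (s : Set A)).minimalPrimes := by
    refine ⟨⟨inferInstance, h3⟩, ?_⟩
    rintro q ⟨hq, hsq⟩ _
    exact h2.trans (hq.radical_le_iff.mpr hsq)
  have hht := Ideal.height_le_card_of_mem_minimalPrimes_span_finset hmin
  have hcard : s.card ≤ n - 1 := by
    refine Finset.card_image_le.trans ?_
    simp
  have hheq : (IsLocalRing.maximalIdeal A).height = (n : ℕ∞) := by
    have := (IsLocalRing.maximalIdeal_height_eq_ringKrullDim (R := A)).trans hn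
    exact_mod_cast this
  rw [hheq] at hht
  have hnpos : 0 < n := i.pos
  have : (n : ℕ∞) ≤ ((n - 1 : ℕ) : ℕ∞) := hht.trans (by exact_mod_cast hcard)
  have : n ≤ n - 1 := by exact_mod_cast this
  omega

end Groth.Agent.S15796
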