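import Groth.Statements.S15797
import Groth.Agent.Lib.Helper19NormLength
import Groth.Agent.Lib.Helper19SopRegular

set_option autoImplicit false
universe u v
open WildQuot

namespace Groth.Agent.S15797

/-- Let `A` be a regular local ring of Krull dimension `n` with maximal ideal `m` generated by `u_1, …,
u_n`, let a finite group `G` of order `g` act on `A` by ring automorphisms, and suppose `u` is
weakly admissible: for every choice `σ_1, …, σ_n ∈ G` the radical of `(σ_1 u_1, …, σ_n u_n)`
contains `m`. With `x_i = ∏_{σ ∈ G} σ u_i` the norms, the length of `A / (x_1, …, x_n)` is at least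
`g ^ n` (so the finite flat map from `k[[x_1, …, x_n]]` has degree at least `g ^ n`). (The published
statement is for a complete regular local ring containing a `G`-fixed field of representatives; this
row does not assume those.) -/
theorem result
    (A : Type u) [CommRing A] [IsRegularLocalRing A]
    (G : Type v) [Group G] [Fintype G] [MulSemiringAction G A]
    (n : ℕ) (hn : ringKrullDim A = n) (u : Fin n → A)
    (hu : Ideal.span (Set.range u) = IsLocalRing.maximalIdeal A)
    (hwa : ∀ τ : Fin n → G,
      IsLocalRing.maximalIdeal A ≤ (Ideal.span (Set.range fun i => τ i • u i)).radical) :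
    ((Fintype.card G ^ n : ℕ) : ℕ∞) ≤
      Module.length A (A ⧸ Ideal.span (Set.range fun i => ∏ σ : G, σ • u i)) := by
  classical
  have hNoeth : IsNoetherianRing A := inferInstance
  set m := IsLocalRing.maximalIdeal A with hmdef
  have hum : ∀ i, u i ∈ m := fun i => hu ▸ Ideal.subset_span ⟨i, rfl⟩
  have hsm : ∀ (σ : G) (a : A), a ∈ m → σ • a ∈ m := by
    intro σ a ha
    rw [hmdef, IsLocalRing.mem_maximalIdeal, mem_nonunits_iff] at ha ⊢
    intro hunit
    apply ha
    have := hunit.map (MulSemiringAction.toRingHom G A σ⁻¹)
    simpa using this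
  -- general facts about the families
  have F1 : ∀ T : Fin n → Finset G, (∀ i, (T i).Nonempty) →
      ∀ i, ∏ σ ∈ T i, σ • u i ∈ m := by
    intro T hT i
    obtain ⟨σ, hσ⟩ := hT i
    exact Ideal.prod_mem _ hσ (hsm σ _ (hum i))
  have F2 : ∀ T : Fin n → Finset G, (∀ i, (T i).Nonempty) →
      m ≤ (Ideal.span (Set.range fun i => ∏ σ ∈ T i, σ • u i)).radical := by
    intro T hT
    rw [Ideal.radical_eq_sInf]
    apply le_sInf
    rintro P ⟨hIP, hP⟩
    have hex : ∀ i, ∃ σ ∈ T i, σ • u i ∈ P := by
      intro i
      have : ∏ σ ∈ T i, σ • u i ∈ P := hIP (Ideal.subset_span ⟨i, rfl⟩)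
      exact (Ideal.IsPrime.prod_mem_iff).mp this
    choose τ hτ1 hτ2 using hex
    have h1 : Ideal.span (Set.range fun i => τ i • u i) ≤ P := by
      rw [Ideal.span_le]; rintro _ ⟨i, rfl⟩; exact hτ2 i
    exact (hwa τ).trans (hP.radical_le_iff.mpr h1)
  have F3 : ∀ T : Fin n → Finset G, (∀ i, (T i).Nonempty) →
      Ideal.span (Set.range fun i => ∏ σ ∈ T i, σ • u i) ≠ ⊤ := by
    intro T hT h
    have : Ideal.span (Set.range fun i => ∏ σ ∈ T i, σ • u i) ≤ m := by
      rw [Ideal.span_le]; rintro _ ⟨i, rfl⟩; exact F1 T hT i
    rw [h] at this
    exact (IsLocalRing.maximalIdeal.isMaximal A).ne_top (top_le_iff.mp this)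
  have hupd : ∀ (z : Fin n → A) (i0 : Fin n) (c : A),
      Ideal.span (Set.range (Function.update z i0 c)) =
        Ideal.span {c} ⊔ Ideal.span (z '' {j | j ≠ i0}) := by
    intro z i0 c
    rw [← Ideal.span_union]
    congr 1
    ext y
    constructor
    · rintro ⟨i, rfl⟩
      by_cases hi : i = i0
      · subst hi; left; simp
      · right; exact ⟨i, hi, by simp [Function.update_of_ne hi]⟩
    · rintro (hy | ⟨j, hj, rfl⟩)
      · exact ⟨i0, by simpa using hy.symm⟩
      · exact ⟨j, by simp [Function.update_of_ne hj]⟩
  have hfam : ∀ (S : Fin n → Finset G) (i0 : Fin n) (T : Finset G),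
      (fun i => ∏ σ ∈ Function.update S i0 T i, σ • u i) =
        Function.update (fun i => ∏ σ ∈ S i, σ • u i) i0 (∏ σ ∈ T, σ • u i0) := by
    intro S i0 T
    funext i
    by_cases hi : i = i0
    · subst hi; simp
    · simp [Function.update_of_ne hi]
  -- base case
  have base : ∀ S : Fin n → Finset G, (¬ ∃ i0, 2 ≤ (S i0).card) →
      ((∏ i, (S i).card : ℕ) : ℕ∞) ≤
        Module.length A (A ⧸ Ideal.span (Set.range fun i => ∏ σ ∈ S i, σ • u i)) := by
    intro S hS
    push Not at hS
    by_cases hempty : ∃ i, S i = ∅
    · obtain ⟨i, hi⟩ := hempty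
      have : ∏ i, (S i).card = 0 := Finset.prod_eq_zero (Finset.mem_univ i) (by simp [hi])
      rw [this]; simp
    · push Not at hempty
      have hne : ∀ i, (S i).Nonempty := hempty
      have hone : ∀ i, (S i).card = 1 := by
        intro i
        have h1 := hS i
        have h2 := (hne i).card_pos
        omega
      have : ∏ i, (S i).card = 1 := Finset.prod_eq_one (fun i _ => hone i)
      rw [this]
      have hnt : Nontrivial (A ⧸ Ideal.span (Set.range fun i => ∏ σ ∈ S i, σ • u i)) :=
        Ideal.Quotient.nontrivial_iff.mpr (F3 S hne)
      rw [Nat.cast_one, Order.one_le_iff_ne_zero, Ne, Module.length_eq_zero_iff]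
      exact not_subsingleton _
  have claim : ∀ (N : ℕ) (S : Fin n → Finset G), (∑ i, (S i).card) ≤ N →
      ((∏ i, (S i).card : ℕ) : ℕ∞) ≤
        Module.length A (A ⧸ Ideal.span (Set.range fun i => ∏ σ ∈ S i, σ • u i)) := by
    intro N
    induction N with
    | zero =>
      intro S hS
      apply base
      rintro ⟨i0, hi0⟩
      have := Finset.single_le_sum (f := fun i => (S i).card) (fun i _ => Nat.zero_le _)
        (Finset.mem_univ i0)
      omega
    | succ N ih =>
      intro S hS
      by_cases hbig : ∃ i0, 2 ≤ (S i0).card
      swap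
      · exact base S hbig
      obtain ⟨i0, hi0⟩ := hbig
      by_cases hempty : ∃ i, S i = ∅
      · obtain ⟨i, hi⟩ := hempty
        have : ∏ i, (S i).card = 0 := Finset.prod_eq_zero (Finset.mem_univ i) (by simp [hi])
        rw [this]; simp
      push Not at hempty
      have hne : ∀ i, (S i).Nonempty := hempty
      obtain ⟨σ, hσ⟩ := hne i0
      set z : Fin n → A := fun i => ∏ τ ∈ S i, τ • u i with hz
      set a : A := σ • u i0 with ha
      set b : A := ∏ τ ∈ (S i0).erase σ, τ • u i0 with hb
      have hab : z i0 = a * b := (Finset.mul_prod_erase (S i0) (fun τ => τ • u i0) hσ).symm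
      set J : Ideal A := Ideal.span (z '' {j | j ≠ i0}) with hJ
      set S' : Fin n → Finset G := Function.update S i0 {σ} with hS'
      set S'' : Fin n → Finset G := Function.update S i0 ((S i0).erase σ) with hS''
      have hS'ne : ∀ i, (S' i).Nonempty := by
        intro i
        by_cases hi : i = i0
        · subst hi; simp [hS']
        · simp [hS', Function.update_of_ne hi, hne i]
      have hz' : (fun i => ∏ τ ∈ S' i, τ • u i) = Function.update z i0 a := by
        rw [hS', hfam, Finset.prod_singleton]
      have hz'' : (fun i => ∏ τ ∈ S'' i, τ • u i) = Function.update z i0 b := by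
        rw [hS'', hfam]
      have hzz : z = Function.update z i0 (a * b) := by
        rw [← hab]; simp
      -- regularity
      have hreg : ∀ x, a * x ∈ J → x ∈ J := by
        intro x hx
        have hm' := F1 S' hS'ne
        have hrad' := F2 S' hS'ne
        rw [hz'] at hrad'
        have hm'' : ∀ i, Function.update z i0 a i ∈ m := by
          intro i
          have := hm' i
          rw [← congrFun hz' i]
          exact this
        have himg : (Function.update z i0 a) '' {j | j ≠ i0} = z '' {j | j ≠ i0} := by
          apply Set.image_congr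
          intro j hj
          exact Function.update_of_ne hj _ _
        have := Groth.Agent.Lib.Helper19SopRegular.regular_mod_others n hn
          (Function.update z i0 a) hm'' hrad' i0 x (by
            rw [himg]; simpa using hx)
        rw [himg] at this
        exact this
      have hlen := Groth.Agent.Lib.Helper19NormLength.length_mul_eq a b J hreg
      have e1 : Ideal.span (Set.range z) = Ideal.span {a * b} ⊔ J := by
        conv_lhs => rw [hzz]
        exact hupd z i0 (a * b)
      have e2 : Ideal.span (Set.range fun i => ∏ τ ∈ S' i, τ • u i) = Ideal.span {a} ⊔ J := by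
        rw [hz']; exact hupd z i0 a
      have e3 : Ideal.span (Set.range fun i => ∏ τ ∈ S'' i, τ • u i) = Ideal.span {b} ⊔ J := by
        rw [hz'']; exact hupd z i0 b
      -- sums
      have hsum' : ∑ i, (S' i).card ≤ N := by
        have h1 : ∑ i, (S' i).card + (S i0).card = ∑ i, (S i).card + 1 := by
          rw [← Finset.add_sum_erase _ (fun i => (S' i).card) (Finset.mem_univ i0),
            ← Finset.add_sum_erase _ (fun i => (S i).card) (Finset.mem_univ i0)]
          have : ∑ i ∈ Finset.univ.erase i0, (S' i).card = ∑ i ∈ Finset.univ.erase i0, (S i).card := by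
            apply Finset.sum_congr rfl
            intro i hi
            rw [hS', Function.update_of_ne (Finset.ne_of_mem_erase hi)]
          rw [this]
          simp [hS']
          ring
        omega
      have hsum'' : ∑ i, (S'' i).card ≤ N := by
        have h1 : ∑ i, (S'' i).card + 1 = ∑ i, (S i).card := by
          rw [← Finset.add_sum_erase _ (fun i => (S'' i).card) (Finset.mem_univ i0),
            ← Finset.add_sum_erase _ (fun i => (S i).card) (Finset.mem_univ i0)]
          have : ∑ i ∈ Finset.univ.erase i0, (S'' i).card = ∑ i ∈ Finset.univ.erase i0, (S i).card := by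
            apply Finset.sum_congr rfl
            intro i hi
            rw [hS'', Function.update_of_ne (Finset.ne_of_mem_erase hi)]
          rw [this]
          simp only [hS'', Function.update_self, Finset.card_erase_of_mem hσ]
          omega
        omega
      have hprod : ∏ i, (S i).card = ∏ i, (S' i).card + ∏ i, (S'' i).card := by
        rw [← Finset.mul_prod_erase _ (fun i => (S i).card) (Finset.mem_univ i0),
          ← Finset.mul_prod_erase _ (fun i => (S' i).card) (Finset.mem_univ i0),
          ← Finset.mul_prod_erase _ (fun i => (S'' i).card) (Finset.mem_univ i0)]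
        have h1 : ∏ i ∈ Finset.univ.erase i0, (S' i).card = ∏ i ∈ Finset.univ.erase i0, (S i).card := by
          apply Finset.prod_congr rfl
          intro i hi
          rw [hS', Function.update_of_ne (Finset.ne_of_mem_erase hi)]
        have h2 : ∏ i ∈ Finset.univ.erase i0, (S'' i).card = ∏ i ∈ Finset.univ.erase i0, (S i).card := by
          apply Finset.prod_congr rfl
          intro i hi
          rw [hS'', Function.update_of_ne (Finset.ne_of_mem_erase hi)]
        rw [h1, h2]
        simp only [hS', hS'', Function.update_self, Finset.card_singleton,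
          Finset.card_erase_of_mem hσ]
        have : (S i0).card = 1 + ((S i0).card - 1) := by omega
        conv_lhs => rw [this]
        ring
      have ih' := ih S' hsum'
      have ih'' := ih S'' hsum''
      rw [e2] at ih'
      rw [e3] at ih''
      show _ ≤ Module.length A (A ⧸ Ideal.span (Set.range z))
      rw [e1, hlen, hprod, Nat.cast_add]
      exact add_le_add ih' ih''
  have hfin := claim _ (fun _ => Finset.univ) le_rfl
  simpa [Finset.prod_const, Finset.card_univ] using hfin

end Groth.Agent.S15797
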