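import Groth.Statements.S15798
import Mathlib
import Groth.Agent.Lib.Helper16WildFlat
import Groth.Agent.Lib.Helper16WildInv
import Groth.Agent.Lib.Helper5RLR
import Groth.Agent.Lib.Helper5RLR3
import Groth.Agent.Lib.Helper5IntDim
import Groth.Agent.Lib.Helper28Catenary
import Groth.Agent.Lib.Helper19InvPrincipalC
import Groth.Agent.S2082
import Groth.Agent.S15794
-- import your own Groth.Agent.* helpers here

set_option autoImplicit false
set_option linter.style.haveILetI false
set_option linter.unusedSectionVars false
universe u v w
open WildQuot

namespace Groth.Agent.S15798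

open IsLocalRing Groth.Agent.Lib.Helper16.WildFlat Groth.Agent.Lib.Helper16.WildInv

theorem maximalIdeal_fixed_eq {A : Type u} [CommRing A] [IsLocalRing A]
    {G : Type w} [Group G] [MulSemiringAction G A] [IsLocalRing (FixedPoints.subring A G)] :
    maximalIdeal (FixedPoints.subring A G) = mB A G := by
  ext b
  rw [IsLocalRing.mem_maximalIdeal, mem_nonunits_iff, isUnit_fixed_iff]
  rfl

theorem ringKrullDim_quotient_map_eq_zero {A : Type u} [CommRing A] [IsLocalRing A]
    {G : Type w} [Group G] [Finite G] [MulSemiringAction G A]
    [IsLocalRing (FixedPoints.subring A G)] :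
    ringKrullDim (A ⧸ (maximalIdeal (FixedPoints.subring A G)).map
      (algebraMap (FixedPoints.subring A G) A)) = 0 := by
  cases nonempty_fintype G
  set I := (maximalIdeal (FixedPoints.subring A G)).map (algebraMap (FixedPoints.subring A G) A)
    with hI
  have hIm : I ≤ maximalIdeal A := by
    rw [hI, maximalIdeal_fixed_eq]
    exact Ideal.map_comap_le
  have hrad : maximalIdeal A ≤ I.radical := by
    rw [hI, maximalIdeal_fixed_eq]
    exact le_radical_map_mB
  haveI : Nontrivial (A ⧸ I) := by
    rw [Ideal.Quotient.nontrivial_iff]
    intro h
    exact (IsLocalRing.maximalIdeal.isMaximal A).ne_top (top_le_iff.mp (h ▸ hIm))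
  rw [← ringKrullDimZero_iff_ringKrullDim_eq_zero,
    Ideal.krullDimLE_zero_quotient_iff_forall_minimalPrimes_isMaximal]
  intro J hJ
  have hJp : J.IsPrime := hJ.1.1
  have hIJ : I ≤ J := hJ.1.2
  have hmJ : maximalIdeal A ≤ J := hrad.trans (hJp.radical_le_iff.mpr hIJ)
  rw [← (IsLocalRing.maximalIdeal.isMaximal A).eq_of_le hJp.ne_top hmJ]
  exact IsLocalRing.maximalIdeal.isMaximal A


/-- Let `A` be a complete regular local ring of Krull dimension at least `2` and prime characteristic
`p`, with maximal ideal `m`; let `k` be a field with a ring map `k → A` whose composite with `A →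
A/m` is onto; let `G` be a group of order `p` acting on `A` by ring automorphisms fixing the image
of `k` and ramified precisely at the origin (for every prime `P ≠ m`, the inertia subgroup of `P`
(the elements of `G` fixing every element modulo `P`) is trivial). Then the invariant ring `A^G` is
Noetherian, `A` is a finite `A^G`-module, `A^G` is an integrally closed domain of the same Krull
dimension as `A`, `A^G` is complete and separated for the adic topology of `m ∩ A^G`, and `A^G` is
not a regular local ring. (The published statement also asserts that `A^G` has depth `2`, that the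
extension has degree `p`, and that the singular locus of `Spec A^G` is the closed point; this row
omits those clauses.) -/
theorem result
    (p : ℕ) [Fact p.Prime] (A : Type u) [CommRing A] [IsRegularLocalRing A] [CharP A p]
    [IsAdicComplete (IsLocalRing.maximalIdeal A) A] (hdim : 2 ≤ ringKrullDim A)
    (k : Type v) [Field k] [Algebra k A]
    (hk : Function.Surjective (IsLocalRing.residue A ∘ algebraMap k A))
    (G : Type w) [Group G] [Finite G] [MulSemiringAction G A] (hcard : Nat.card G = p)
    (hGk : ∀ (σ : G) (c : k), σ • algebraMap k A c = algebraMap k A c)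
    (hram : ∀ P : Ideal A, P.IsPrime → P ≠ IsLocalRing.maximalIdeal A → P.inertia G = ⊥) :
    IsNoetherianRing (FixedPoints.subring A G) ∧ Module.Finite (FixedPoints.subring A G) A ∧
      IsIntegrallyClosed (FixedPoints.subring A G) ∧
      ringKrullDim (FixedPoints.subring A G) = ringKrullDim A ∧
      IsAdicComplete (Ideal.comap (FixedPoints.subring A G).subtype (IsLocalRing.maximalIdeal A))
        (FixedPoints.subring A G) ∧
      ¬ IsRegularLocalRing (FixedPoints.subring A G) := by
  haveI hdom : IsDomain A := Groth.Agent.Lib.Helper5.isDomain_of_isRegularLocalRing A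
  haveI hic : IsIntegrallyClosed A :=
    Groth.Agent.Lib.Helper28.isIntegrallyClosed_of_isRegularLocalRing A
  haveI hNA : IsNoetherianRing A := inferInstance
  haveI hfin : Module.Finite (FixedPoints.subring A G) A := finite_fixed hk hGk
  have hinj : Function.Injective (algebraMap (FixedPoints.subring A G) A) :=
    Subtype.val_injective
  haveI hNB : IsNoetherianRing (FixedPoints.subring A G) :=
    Groth.Agent.Lib.Helper19.InvPrincipal.isNoetherianRing_of_finite_injective hinj
  haveI hint : Algebra.IsIntegral (FixedPoints.subring A G) A := Algebra.IsIntegral.of_finite _ _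
  have hdimeq : ringKrullDim A = ringKrullDim (FixedPoints.subring A G) :=
    Groth.Agent.Lib.Helper5.ringKrullDim_eq_of_isIntegral_of_injective
      (FixedPoints.subring A G) A hinj
  refine ⟨hNB, hfin, isIntegrallyClosed_fixed, hdimeq.symm, isAdicComplete_fixed, ?_⟩
  intro hreg
  haveI := hreg
  haveI hCM : LocCoh.IsCohenMacaulayLocalRing A :=
    Groth.Agent.Lib.Helper5.isCohenMacaulayLocalRing_of_isRegularLocalRing A
  haveI hloc : IsLocalHom (algebraMap (FixedPoints.subring A G) A) := isLocalHom_fixed
  have hflat : Module.Flat (FixedPoints.subring A G) A := by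
    apply Groth.Agent.S2082.result
    rw [ringKrullDim_quotient_map_eq_zero, add_zero]
    exact hdimeq
  exact Groth.Agent.S15794.result p A hdim k hk G hcard hGk hram hflat

end Groth.Agent.S15798
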