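import Groth.Statements.S15804
import Mathlib
import Groth.Agent.Lib.Helper16PurityTwo
-- import your own Groth.Agent.* helpers here

set_option autoImplicit false
set_option linter.style.haveILetI false
set_option linter.unusedSectionVars false
universe u v w
open WildQuot

namespace Groth.Agent.S15804

open Groth.Agent.Lib.Helper16.PurityTwo

theorem pow_mem_of_ne_bot {p : ℕ} [Fact p.Prime] {H : Type w} [Group H] [Finite H]
    (hcomm : ∀ g h : H, g * h = h * g) (hcard : Nat.card H = p ^ 2)
    (K : Subgroup H) (hK : K ≠ ⊥) (h : H) : h ^ p ∈ K := by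
  have hp : p.Prime := Fact.out
  haveI : K.Normal := ⟨fun n hn g => by rw [hcomm g n, mul_inv_cancel_right]; exact hn⟩
  have hdvd : Nat.card K ∣ p ^ 2 := hcard ▸ Subgroup.card_subgroup_dvd_card K
  obtain ⟨k, hk, hkc⟩ := (Nat.dvd_prime_pow hp).mp hdvd
  have hmul := Subgroup.card_eq_card_quotient_mul_card_subgroup K
  interval_cases k
  · exact absurd (Subgroup.eq_bot_of_card_eq K (by simpa using hkc)) hK
  · -- index p
    have hq : Nat.card (H ⧸ K) = p := by
      rw [hcard, hkc, pow_one, pow_two] at hmul
      exact (Nat.eq_of_mul_eq_mul_right hp.pos hmul).symm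
    have h1 : ((h : H ⧸ K)) ^ p = 1 := by
      rw [← hq]; exact pow_card_eq_one'
    rw [← QuotientGroup.mk_pow, QuotientGroup.eq_one_iff] at h1
    exact h1
  · have : K = ⊤ := Subgroup.eq_top_of_card_eq K (by rw [hkc, hcard])
    rw [this]; exact Subgroup.mem_top _


/-- Let `R` be a regular local ring and `A` a normal local domain, finite over `R` (with `R → A`
injective) and with the same residue field; let a finite group `H` act faithfully on `A` by
`R`-algebra automorphisms with ring of invariants exactly `R` (so `Frac(A)/Frac(R)` is Galois with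
group `H`); assume `A` has Krull dimension `2`, `H` has order `p ^ 2` for a prime `p`, and `Γ ≤ H`
is a subgroup of order `p` whose intersection with the inertia subgroup of every non-maximal prime
of `A` is trivial (the action of `Γ` is ramified precisely at the origin). Then every nontrivial
inertia subgroup of a height-one prime of `A` has order `p`, and `H` is commutative with every
element satisfying `h ^ p = 1`, i.e. elementary abelian of order `p ^ 2`. (The published statement
is for `A` a complete regular local ring with an action ramified precisely at the origin, `R =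
k[[x_1, …, x_n]]` a norm subring and `H` the Galois group of `Frac(A)/Frac(R)`, when that extension
is Galois; this row assumes only the hypotheses listed above.) -/
theorem result
    (p : ℕ) [Fact p.Prime] (R : Type u) [CommRing R] [IsRegularLocalRing R]
    (A : Type v) [CommRing A] [IsDomain A] [IsIntegrallyClosed A] [IsLocalRing A]
    [Algebra R A] [Module.Finite R A] (hinj : Function.Injective (algebraMap R A))
    (hres : Function.Surjective (IsLocalRing.residue A ∘ algebraMap R A))
    (H : Type w) [Group H] [Finite H] [MulSemiringAction H A] [SMulCommClass H R A] [FaithfulSMul H A]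
    (hfix : ∀ a : A, (∀ h : H, h • a = a) → a ∈ Set.range (algebraMap R A))
    (hdim : ringKrullDim A = 2) (hcard : Nat.card H = p ^ 2)
    (Γ : Subgroup H) (hΓ : Nat.card Γ = p)
    (hram : ∀ P : Ideal A, P.IsPrime → P ≠ IsLocalRing.maximalIdeal A → P.inertia H ⊓ Γ = ⊥) :
    (∀ P : Ideal A, P.IsPrime → P.height = 1 → P.inertia H ≠ ⊥ → Nat.card (P.inertia H) = p) ∧
      (∀ g h : H, g * h = h * g) ∧ ∀ h : H, h ^ p = 1 := by
  have hp : p.Prime := Fact.out
  have hcomm : ∀ g h : H, g * h = h * g := IsPGroup.commutative_of_card_eq_prime_sq hcard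
  have hΓne : Γ ≠ ⊥ := by
    intro h
    rw [h, Subgroup.card_bot] at hΓ
    exact hp.one_lt.ne hΓ
  refine ⟨?_, hcomm, ?_⟩
  · intro P hP hPh hPne
    have hPm : P ≠ IsLocalRing.maximalIdeal A := by
      intro h
      have h2 := IsLocalRing.maximalIdeal_height_eq_ringKrullDim (R := A)
      rw [← h, hPh, hdim] at h2
      exact absurd h2 (by decide)
    have hdvd : Nat.card (P.inertia H) ∣ p ^ 2 := hcard ▸ Subgroup.card_subgroup_dvd_card _
    obtain ⟨k, hk, hkc⟩ := (Nat.dvd_prime_pow hp).mp hdvd
    interval_cases k
    · exact absurd (Subgroup.eq_bot_of_card_eq _ (by simpa using hkc)) hPne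
    · simpa using hkc
    · have htop : P.inertia H = ⊤ := Subgroup.eq_top_of_card_eq _ (by rw [hkc, hcard])
      have := hram P hP hPm
      rw [htop, top_inf_eq] at this
      exact absurd this hΓne
  · intro h
    by_contra hh
    have hall : ∀ P : Ideal A, P.IsPrime → P ≠ IsLocalRing.maximalIdeal A → P.inertia H = ⊥ := by
      intro P hP hPm
      by_contra hne
      have h1 : h ^ p ∈ P.inertia H ⊓ Γ :=
        ⟨pow_mem_of_ne_bot hcomm hcard _ hne h, pow_mem_of_ne_bot hcomm hcard _ hΓne h⟩
      rw [hram P hP hPm, Subgroup.mem_bot] at h1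
      exact hh h1
    have h1 := card_eq_one_of_inertia_trivial hinj hres hfix hdim hall
    rw [hcard] at h1
    have : 1 < p ^ 2 := Nat.one_lt_pow two_ne_zero hp.one_lt
    omega

end Groth.Agent.S15804
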