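import Groth.Statements.S15807
import Mathlib
import Groth.Agent.Lib.Helper16Diamond
import Groth.Agent.Lib.Helper16Diamond2
-- import your own Groth.Agent.* helpers here

set_option autoImplicit false
set_option linter.style.haveILetI false
set_option linter.unusedSectionVars false
universe u
open WildQuot

namespace Groth.Agent.S15807

open MvPolynomial Helper16Diamond

section psys
variable {R : Type*} [CommRing R] {σ : Type*}

/-- leading exponents of the rules `X s ^ p → C (b s) * X s + C (x s)` -/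
noncomputable def muP (p : ℕ) (s : σ) : σ →₀ ℕ := Finsupp.single s p

/-- right-hand sides of the rules -/
noncomputable def fP (b x : σ → R) (s : σ) : MvPolynomial σ R := C (b s) * X s + C (x s)

lemma gg_P (p : ℕ) (b x : σ → R) (s : σ) :
    gg (muP p) (fP b x) s = X s ^ p - C (b s) * X s - C (x s) := by
  unfold gg muP fP
  rw [X_pow_eq_monomial]; ring

lemma hf_P (p : ℕ) (hp : 2 ≤ p) (b x : σ → R) :
    ∀ s, ∀ κ ∈ (fP b x s).support, Finsupp.degree κ < Finsupp.degree (muP p s) := by
  classical
  intro s κ hκ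
  have h1 : Finsupp.degree (muP (σ := σ) p s) = p := by
    unfold muP; exact Finsupp.degree_single s p
  rw [h1]
  have h2 := MvPolynomial.support_add hκ
  rw [Finset.mem_union] at h2
  rcases h2 with h2 | h2
  · have h3 : C (b s) * X s = monomial (Finsupp.single s 1) (b s) := by
      rw [C_mul_X_eq_monomial]
    rw [h3] at h2
    have h4 := MvPolynomial.support_monomial_subset h2
    rw [Finset.mem_singleton] at h4
    rw [h4, Finsupp.degree_single]; omega
  · have h4 := MvPolynomial.support_monomial_subset (s := (0 : σ →₀ ℕ)) (a := x s) h2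
    rw [Finset.mem_singleton] at h4
    rw [h4, map_zero]; omega

lemma normal_P_iff (p : ℕ) (ν : σ →₀ ℕ) : Helper16Diamond.Normal (muP (σ := σ) p) ν ↔ ∀ s, ν s < p := by
  unfold Helper16Diamond.Normal muP
  constructor
  · intro h s
    have := h s
    rw [Finsupp.single_le_iff] at this
    · omega
  · intro h s
    rw [Finsupp.single_le_iff]
    have := h s
    omega

lemma res_P (p : ℕ) (hp : 2 ≤ p) (b x : σ → R) (s t : σ) :
    Resolvable (muP p) (fP b x) Finsupp.degree s t := by
  classical
  by_cases hst : s = t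
  · subst hst
    exact resolvable_of_eq _ _ _ rfl rfl
  · refine resolvable_of_coprime _ _ _ (hf_P p hp b x) ?_
    intro y
    unfold muP
    by_cases hy : y = s
    · right
      rw [Finsupp.single_apply, if_neg]
      rw [hy]; exact fun h => hst h.symm
    · left
      rw [Finsupp.single_apply, if_neg]
      exact fun h => hy h.symm

end psys

section minors
variable {R : Type*} [CommRing R] {n : ℕ}

noncomputable def bU (p : ℕ) (a : Fin n → R) (μ : R) (i : Fin n) : R := (μ * a i) ^ (p - 1)

noncomputable def bZ (p : ℕ) (a : Fin n → R) (μ : R) (i₀ : Fin n)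
    (j : {j : Fin n // j ≠ i₀}) : R := (μ * a i₀ * a j.1) ^ (p - 1)

noncomputable def xZ (p : ℕ) (a x : Fin n → R) (i₀ : Fin n)
    (j : {j : Fin n // j ≠ i₀}) : R := a i₀ ^ p * x j.1 - a j.1 ^ p * x i₀

noncomputable def zz (a : Fin n → R) (i₀ : Fin n) (j : {j : Fin n // j ≠ i₀}) :
    MvPolynomial (Fin n) R := C (a i₀) * X j.1 - C (a j.1) * X i₀

lemma zz_hom (a : Fin n → R) (i₀ : Fin n) (j : {j : Fin n // j ≠ i₀}) :
    (zz a i₀ j).IsHomogeneous 1 :=
  (isHomogeneous_C_mul_X _ _).sub (isHomogeneous_C_mul_X _ _)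

/-- the relations `r_j` vanish on the minor elements (modulo the ideal of `A`) -/
lemma aeval_zz_gg_mem (p : ℕ) [hp : Fact p.Prime] [CharP R p] (a x : Fin n → R) (μ : R)
    (i₀ : Fin n) (j : {j : Fin n // j ≠ i₀}) :
    aeval (zz a i₀) (gg (muP p) (fP (bZ p a μ i₀) (xZ p a x i₀)) j) ∈
      Ideal.span (Set.range (gg (muP p) (fP (bU p a μ) x))) := by
  obtain ⟨m, hm⟩ : ∃ m, p = m + 1 := ⟨p - 1, (Nat.succ_pred_eq_of_pos hp.out.pos).symm⟩
  have hm1 : p - 1 = m := by omega
  rw [gg_P]
  have h1 : bZ p a μ i₀ j * a i₀ = a i₀ ^ p * bU p a μ j.1 := by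
    unfold bZ bU; rw [hm1, hm]; ring
  have h2 : bZ p a μ i₀ j * a j.1 = a j.1 ^ p * bU p a μ i₀ := by
    unfold bZ bU; rw [hm1, hm]; ring
  have hpow : (zz a i₀ j) ^ p = C (a i₀ ^ p) * X j.1 ^ p - C (a j.1 ^ p) * X i₀ ^ p := by
    unfold zz
    rw [sub_pow_char, mul_pow, mul_pow, ← map_pow, ← map_pow]
  have key : aeval (zz a i₀) (X j ^ p - C (bZ p a μ i₀ j) * X j - C (xZ p a x i₀ j)) =
      C (a i₀ ^ p) * gg (muP p) (fP (bU p a μ) x) j.1 -
        C (a j.1 ^ p) * gg (muP p) (fP (bU p a μ) x) i₀ := by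
    rw [gg_P, gg_P]
    simp only [map_sub, map_mul, map_pow, aeval_X, aeval_C, algebraMap_eq]
    rw [hpow]
    have e1 := congrArg (C (σ := Fin n)) h1
    have e2 := congrArg (C (σ := Fin n)) h2
    rw [map_mul, map_mul] at e1 e2
    unfold xZ zz
    simp only [map_sub, map_mul, map_pow]
    simp only [map_pow] at e1 e2
    linear_combination (-(X j.1 : MvPolynomial (Fin n) R)) * e1 + (X i₀) * e2
  rw [key]
  exact Ideal.sub_mem _ (Ideal.mul_mem_left _ _ (Ideal.subset_span ⟨_, rfl⟩))
    (Ideal.mul_mem_left _ _ (Ideal.subset_span ⟨_, rfl⟩))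

/-- kill the variable `X i₀` -/
noncomputable def psi (i₀ : Fin n) :
    MvPolynomial (Fin n) R →ₐ[R] MvPolynomial {j : Fin n // j ≠ i₀} R :=
  aeval (fun i => if h : i = i₀ then 0 else X ⟨i, h⟩)

lemma psi_X_self (i₀ : Fin n) : psi (R := R) i₀ (X i₀) = 0 := by
  simp [psi]

lemma psi_X_ne (i₀ : Fin n) (i : Fin n) (h : i ≠ i₀) : psi (R := R) i₀ (X i) = X ⟨i, h⟩ := by
  simp [psi, h]

lemma sub_rename_psi_mem (i₀ : Fin n) (Q : MvPolynomial (Fin n) R) :
    Q - rename (Subtype.val : {j : Fin n // j ≠ i₀} → Fin n) (psi i₀ Q) ∈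
      Ideal.span {(X i₀ : MvPolynomial (Fin n) R)} := by
  induction Q using MvPolynomial.induction_on with
  | C r =>
    have : psi (R := R) i₀ (C r) = C r := by simp [psi]
    rw [this, rename_C, sub_self]; exact Ideal.zero_mem _
  | add q q' hq hq' =>
    have : q + q' - rename (Subtype.val : {j : Fin n // j ≠ i₀} → Fin n) (psi i₀ (q + q')) =
        (q - rename Subtype.val (psi i₀ q)) + (q' - rename Subtype.val (psi i₀ q')) := by
      simp only [map_add]; ring
    rw [this]; exact Ideal.add_mem _ hq hq'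
  | mul_X q i hq =>
    by_cases hi : i = i₀
    · subst hi
      rw [map_mul, psi_X_self, mul_zero, map_zero, sub_zero]
      exact Ideal.mul_mem_left _ _ (Ideal.subset_span rfl)
    · have : q * X i - rename (Subtype.val : {j : Fin n // j ≠ i₀} → Fin n) (psi i₀ (q * X i)) =
          (q - rename Subtype.val (psi i₀ q)) * X i := by
        rw [map_mul, psi_X_ne i₀ i hi, map_mul, rename_X]; ring
      rw [this]; exact Ideal.mul_mem_right _ _ hq

lemma coeff_mapDomain_eq (i₀ : Fin n) (Q : MvPolynomial (Fin n) R)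
    (e : {j : Fin n // j ≠ i₀} →₀ ℕ) :
    coeff (e.mapDomain Subtype.val) Q = coeff e (psi i₀ Q) := by
  classical
  have h1 := sub_rename_psi_mem i₀ Q
  obtain ⟨T, hT⟩ := Ideal.mem_span_singleton'.mp h1
  have h2 : Q = T * X i₀ + rename Subtype.val (psi i₀ Q) := by rw [hT]; ring
  have h3 : (e.mapDomain (Subtype.val : {j : Fin n // j ≠ i₀} → Fin n)) i₀ = 0 := by
    apply Finsupp.mapDomain_of_notMem_range
    rintro ⟨j, hj⟩
    exact j.2 hj
  conv_lhs => rw [h2]
  rw [coeff_add, coeff_mul_X', if_neg, zero_add,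
    coeff_rename_mapDomain _ Subtype.val_injective]
  rw [Finsupp.mem_support_iff, not_not]
  exact h3

lemma aeval_scale_monomial {τ : Type*} (c : R) (e : τ →₀ ℕ) (r : R) :
    aeval (fun j : τ => (C c * X j : MvPolynomial τ R)) (monomial e r) =
      monomial e (r * c ^ (Finsupp.degree e)) := by
  rw [aeval_monomial, algebraMap_eq]
  have : (e.prod fun i k => (C c * X i : MvPolynomial τ R) ^ k) =
      C (c ^ Finsupp.degree e) * e.prod fun i k => (X i : MvPolynomial τ R) ^ k := by
    simp only [Finsupp.prod, mul_pow, Finset.prod_mul_distrib]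
    congr 1
    rw [Finset.prod_pow_eq_pow_sum, ← map_pow, Finsupp.degree_apply]
  rw [this, ← mul_assoc, ← map_mul, ← monomial_eq]

lemma coeff_aeval_scale {τ : Type*} (c : R) (N : MvPolynomial τ R) (e : τ →₀ ℕ) :
    coeff e (aeval (fun j : τ => (C c * X j : MvPolynomial τ R)) N) =
      coeff e N * c ^ (Finsupp.degree e) := by
  classical
  conv_lhs => rw [N.as_sum]
  rw [map_sum, coeff_sum]
  simp only [aeval_scale_monomial, coeff_monomial]
  rw [Finset.sum_eq_single e]
  · rw [if_pos rfl]
  · intro e' _ hne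
    rw [if_neg hne]
  · intro hnot
    rw [if_pos rfl, notMem_support_iff.mp hnot, zero_mul]

end minors

section main
variable {R : Type*} [CommRing R] {n : ℕ}

theorem mem_iff (p : ℕ) [hp : Fact p.Prime] [CharP R p] (a x : Fin n → R) (μ : R)
    (i₀ : Fin n) (ha : ∀ r : R, r * a i₀ = 0 → r = 0)
    (P : MvPolynomial {j : Fin n // j ≠ i₀} R) :
    aeval (zz a i₀) P ∈ Ideal.span (Set.range (gg (muP p) (fP (bU p a μ) x))) ↔
      P ∈ Ideal.span (Set.range (gg (muP p) (fP (bZ p a μ i₀) (xZ p a x i₀)))) := by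
  classical
  have hp2 : 2 ≤ p := hp.out.two_le
  set IU := Ideal.span (Set.range (gg (muP p) (fP (bU p a μ) x))) with hIU
  set IZ := Ideal.span (Set.range (gg (muP p) (fP (bZ p a μ i₀) (xZ p a x i₀)))) with hIZ
  have hle : IZ ≤ Ideal.comap (aeval (zz a i₀)) IU := by
    rw [hIZ, Ideal.span_le]
    rintro _ ⟨j, rfl⟩
    exact aeval_zz_gg_mem p a x μ i₀ j
  constructor
  swap
  · intro h
    exact hle h
  · intro h
    obtain ⟨N, hN, hPN⟩ := exists_rep (muP p) (fP (bZ p a μ i₀) (xZ p a x i₀))
      Finsupp.degree (hf_P p hp2 _ _) P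
    have hQ : aeval (zz a i₀) N ∈ IU := by
      have h1 : aeval (zz a i₀) (P - N) ∈ IU := hle hPN
      have : aeval (zz a i₀) N = aeval (zz a i₀) P - aeval (zz a i₀) (P - N) := by
        rw [map_sub]; ring
      rw [this]
      exact Ideal.sub_mem _ h h1
    suffices hN0 : N = 0 by
      rw [hN0, sub_zero] at hPN
      exact hPN
    by_contra hN0
    -- top-degree exponent
    obtain ⟨e, he, hed⟩ := Finset.exists_mem_eq_sup N.support
      (MvPolynomial.support_nonempty.mpr hN0) (fun s => s.sum fun _ e => e)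
    have hd : N.totalDegree = Finsupp.degree e := hed
    set d := N.totalDegree with hdd
    have hnorm : ∀ j, e j < p := by
      have := (mem_Nspan_iff (R := R) (muP p)).mp hN e he
      exact (normal_P_iff p e).mp this
    set Q := aeval (zz a i₀) N with hQdef
    -- degree bound
    have hQsum : Q = ∑ m ∈ Finset.range (d + 1), aeval (zz a i₀) (homogeneousComponent m N) := by
      rw [hQdef, ← map_sum, sum_homogeneousComponent]
    have hhom : ∀ m, (aeval (zz a i₀) (homogeneousComponent m N)).IsHomogeneous m := by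
      intro m
      have := (homogeneousComponent_isHomogeneous m N).aeval (zz a i₀) (zz_hom a i₀)
      rwa [one_mul] at this
    have hQdeg : ∀ κ ∈ Q.support, Finsupp.degree κ ≤ d := by
      intro κ hκ
      rw [mem_support_iff, hQsum, coeff_sum] at hκ
      obtain ⟨m, hm, hne⟩ := Finset.exists_ne_zero_of_sum_ne_zero hκ
      have : Finsupp.degree κ = m := by
        by_contra hcon
        exact hne ((hhom m).coeff_eq_zero hcon)
      rw [this]
      have := Finset.mem_range.mp hm
      omega
    -- the normal exponent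
    set ν := e.mapDomain (Subtype.val : {j : Fin n // j ≠ i₀} → Fin n) with hν
    have hνdeg : Finsupp.degree ν = d := by
      rw [hν, Finsupp.degree_mapDomain, hd]
    have hνnorm : Helper16Diamond.Normal (muP (σ := Fin n) p) ν := by
      rw [normal_P_iff]
      intro i
      by_cases hi : i = i₀
      · have : ν i = 0 := by
          rw [hν]
          apply Finsupp.mapDomain_of_notMem_range
          rintro ⟨j, hj⟩
          exact j.2 (hj.trans hi)
        rw [this]; exact hp.out.pos
      · have : ν i = e ⟨i, hi⟩ := by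
          rw [hν]
          exact Finsupp.mapDomain_apply Subtype.val_injective e ⟨i, hi⟩
        rw [this]; exact hnorm _
    have hzero := coeff_eq_zero_of_mem_top (muP p) (fP (bU p a μ) x) Finsupp.degree
      (hf_P p hp2 _ _) (res_P p hp2 _ _) hQ d hQdeg ν hνnorm hνdeg
    -- compute the coefficient
    have hpsi : psi i₀ Q = aeval (fun j => (C (a i₀) * X j :
        MvPolynomial {j : Fin n // j ≠ i₀} R)) N := by
      rw [hQdef, comp_aeval_apply]
      have hfun : (fun j => psi i₀ (zz a i₀ j)) = fun j => (C (a i₀) * X j :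
          MvPolynomial {j : Fin n // j ≠ i₀} R) := by
        funext j
        unfold zz
        rw [map_sub, map_mul, map_mul, psi_X_self, mul_zero, sub_zero, psi_X_ne i₀ j.1 j.2]
        have : psi (R := R) i₀ (C (a i₀)) = C (a i₀) := by simp [psi]
        rw [this]
      rw [hfun]
    rw [hν, coeff_mapDomain_eq, hpsi, coeff_aeval_scale] at hzero
    have h1 : coeff e N = 0 := by
      have hgen : ∀ m : ℕ, ∀ r : R, r * a i₀ ^ m = 0 → r = 0 := by
        intro m
        induction m with
        | zero => intro r hr; simpa using hr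
        | succ m ih =>
          intro r hr
          apply ih
          apply ha
          rw [mul_assoc, ← pow_succ]; exact hr
      exact hgen _ _ hzero
    exact (mem_support_iff.mp he) h1

end main


open MvPolynomial in
/-- Let `k` be a field of characteristic `p > 0`, `n ≥ 3`, `R = k[[x_1, …, x_n]]`, `a_1, …, a_n ∈ R`
with zero constant term and pairwise coprime, `μ ∈ R` nonzero and coprime to each `a_i`, and `A =
R[u_1, …, u_n] / (u_i ^ p - (μ a_i) ^ (p-1) u_i - x_i : i = 1..n)`. Fix an index `i₀`. Then the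
`R`-algebra map `R[Z_j : j ≠ i₀] → A` sending `Z_j` to the minor element `z_j = a_{i₀} u_j - a_j
u_{i₀}` has kernel generated by the polynomials `Z_j ^ p - (μ a_{i₀} a_j) ^ (p-1) Z_j - (a_{i₀} ^ p
x_j - a_j ^ p x_{i₀})`; i.e. the complete intersection `R[Z_j] /` (these relations) maps
isomorphically onto the subring of `A` generated over `R` by the minor elements through `u_{i₀}`.
(The published statement uses the first index for `i₀` and allows `n ≥ 2`; this row allows any index
`i₀` and takes `n ≥ 3`.) -/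
theorem result
    (p : ℕ) [Fact p.Prime] (k : Type u) [Field k] [CharP k p] (n : ℕ) (hn : 3 ≤ n)
    (a : Fin n → MvPowerSeries (Fin n) k) (μ : MvPowerSeries (Fin n) k)
    (ham : ∀ i, MvPowerSeries.constantCoeff (a i) = 0) (hcop : ∀ i j, i ≠ j → IsRelPrime (a i) (a j))
    (hμ : μ ≠ 0) (hμa : ∀ i, IsRelPrime μ (a i)) (i₀ : Fin n) :
    let R := MvPowerSeries (Fin n) k
    let I : Ideal (MvPolynomial (Fin n) R) :=
      Ideal.span (Set.range fun i : Fin n =>
        X i ^ p - C ((μ * a i) ^ (p - 1)) * X i - C (MvPowerSeries.X i))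
    let A := MvPolynomial (Fin n) R ⧸ I
    let u : Fin n → A := fun i => Ideal.Quotient.mk I (X i)
    let z : {j : Fin n // j ≠ i₀} → A := fun j =>
      algebraMap R A (a i₀) * u j.1 - algebraMap R A (a j.1) * u i₀
    let r : {j : Fin n // j ≠ i₀} → MvPolynomial {j : Fin n // j ≠ i₀} R := fun j =>
      X j ^ p - C ((μ * a i₀ * a j.1) ^ (p - 1)) * X j
        - C (a i₀ ^ p * MvPowerSeries.X j.1 - a j.1 ^ p * MvPowerSeries.X i₀)
    RingHom.ker (MvPolynomial.aeval z : MvPolynomial {j : Fin n // j ≠ i₀} R →ₐ[R] A) =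
      Ideal.span (Set.range r) := by
  intro R I A u z r
  haveI : CharP R p := charP_of_injective_algebraMap (algebraMap k R).injective p
  -- `a i₀ ≠ 0`
  have ha0 : a i₀ ≠ 0 := by
    intro h0
    obtain ⟨j, hj⟩ : ∃ j : Fin n, i₀ ≠ j := by
      by_cases h : i₀ = ⟨0, by omega⟩
      · exact ⟨⟨1, by omega⟩, by rw [h]; simp [Fin.ext_iff]⟩
      · exact ⟨⟨0, by omega⟩, h⟩
    have h1 := hcop i₀ j hj
    rw [h0, isRelPrime_zero_left] at h1
    have h2 := (MvPowerSeries.isUnit_iff_constantCoeff).mp h1
    rw [ham j] at h2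
    exact not_isUnit_zero h2
  have ha : ∀ s : R, s * a i₀ = 0 → s = 0 := fun s h => (mul_eq_zero.mp h).resolve_right ha0
  have hz : ∀ P : MvPolynomial {j : Fin n // j ≠ i₀} R,
      aeval z P = Ideal.Quotient.mk I (aeval (zz a i₀) P) := by
    intro P
    have : (aeval z : MvPolynomial {j : Fin n // j ≠ i₀} R →ₐ[R] A) =
        (Ideal.Quotient.mkₐ R I).comp (aeval (zz a i₀)) := by
      apply MvPolynomial.algHom_ext
      intro j
      rw [AlgHom.comp_apply, aeval_X, aeval_X]
      rfl
    rw [this]; rfl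
  have hI : I = Ideal.span (Set.range (gg (muP p)
      (fP (bU p a μ) (fun i : Fin n => (MvPowerSeries.X i : R))))) := by
    show Ideal.span _ = _
    congr 2
    funext i
    rw [gg_P]; rfl
  have hr : Ideal.span (Set.range r) = Ideal.span (Set.range (gg (muP p)
      (fP (bZ p a μ i₀) (xZ p a (fun i : Fin n => (MvPowerSeries.X i : R)) i₀)))) := by
    congr 2
    funext j
    rw [gg_P]; rfl
  ext P
  rw [RingHom.mem_ker, hz, Ideal.Quotient.eq_zero_iff_mem, hI, hr]
  exact mem_iff p a _ μ i₀ ha P

end Groth.Agent.S15807
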