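import Groth.Statements.S15805
import Mathlib
import Groth.Agent.Lib.Helper16Diamond
import Groth.Agent.Lib.Helper16Diamond2
import Groth.Agent.S15807
-- import your own Groth.Agent.* helpers here

set_option autoImplicit false
set_option linter.style.haveILetI false
set_option linter.unusedSectionVars false
universe u v
open WildQuot

namespace Groth.Agent.S15805

open MvPolynomial Helper16Diamond Groth.Agent.S15807

section Basis

variable {R : Type*} [CommRing R] {n : ℕ} (p : ℕ) (hp : 2 ≤ p) (bb xx : Fin n → R)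

/-- the relation ideal -/
noncomputable abbrev Idl : Ideal (MvPolynomial (Fin n) R) :=
  Ideal.span (Set.range (gg (muP p) (fP bb xx)))

/-- the quotient algebra -/
abbrev Aq : Type _ := MvPolynomial (Fin n) R ⧸ Idl p bb xx

/-- exponent vector of an index -/
noncomputable def mon (e : Fin n → Fin p) : Fin n →₀ ℕ :=
  Finsupp.equivFunOnFinite.symm (fun i => (e i : ℕ))

lemma mon_apply (e : Fin n → Fin p) (i : Fin n) : mon p e i = (e i : ℕ) := rfl

lemma normal_mon (e : Fin n → Fin p) : Helper16Diamond.Normal (muP (σ := Fin n) p) (mon p e) :=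
  (normal_P_iff p _).mpr (fun s => (e s).2)

lemma exists_of_normal (ν : Fin n →₀ ℕ) (h : Helper16Diamond.Normal (muP (σ := Fin n) p) ν) :
    ∃ e, mon p e = ν :=
  ⟨fun i => ⟨ν i, (normal_P_iff p ν).mp h i⟩, by ext i; rfl⟩

lemma mon_injective : Function.Injective (mon (n := n) p) := by
  intro e e' h
  funext i
  have := DFunLike.congr_fun h i
  rw [mon_apply, mon_apply] at this
  exact Fin.ext this

/-- the monomial basis vectors -/
noncomputable def bvec (e : Fin n → Fin p) : Aq p bb xx :=
  Ideal.Quotient.mk _ (monomial (mon p e) 1)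

lemma sum_smul_bvec (g : (Fin n → Fin p) → R) :
    ∑ e, g e • bvec p bb xx e =
      Ideal.Quotient.mk (Idl p bb xx) (∑ e, monomial (mon p e) (g e)) := by
  rw [map_sum]
  refine Finset.sum_congr rfl fun e _ => ?_
  unfold bvec
  rw [← Ideal.Quotient.mkₐ_eq_mk R, ← map_smul, smul_monomial, smul_eq_mul, mul_one]

lemma coeff_sum_mon {K : Type*} [CommSemiring K] (g : (Fin n → Fin p) → K) (e : Fin n → Fin p) :
    coeff (mon p e) (∑ e', monomial (mon p e') (g e')) = g e := by
  classical
  rw [coeff_sum, Finset.sum_eq_single e]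
  · rw [coeff_monomial, if_pos rfl]
  · intro e' _ hne
    rw [coeff_monomial, if_neg]
    exact fun h => hne (mon_injective p h)
  · intro h; exact absurd (Finset.mem_univ e) h

include hp in
lemma linInd : LinearIndependent R (bvec p bb xx) := by
  classical
  rw [Fintype.linearIndependent_iff]
  intro g hg e
  rw [sum_smul_bvec, Ideal.Quotient.eq_zero_iff_mem] at hg
  have hN : (∑ e, monomial (mon p e) (g e)) ∈ Nspan (R := R) (muP (σ := Fin n) p) := by
    refine Submodule.sum_mem _ fun e _ => ?_
    have : monomial (mon p e) (g e) = g e • monomial (mon p e) (1 : R) := by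
      rw [smul_monomial, smul_eq_mul, mul_one]
    rw [this]
    exact Submodule.smul_mem _ _ (Submodule.subset_span ⟨mon p e, normal_mon p e, rfl⟩)
  have h0 := eq_zero_of_mem (muP p) (fP bb xx) Finsupp.degree (hf_P p hp bb xx)
    (res_P p hp bb xx) hN hg
  have := coeff_sum_mon p g e
  rw [h0, coeff_zero] at this
  exact this.symm

include hp in
lemma span_top : ⊤ ≤ Submodule.span R (Set.range (bvec p bb xx)) := by
  intro a _
  obtain ⟨F, rfl⟩ := Ideal.Quotient.mk_surjective a
  obtain ⟨r, hr, hFr⟩ := exists_rep (muP p) (fP bb xx) Finsupp.degree (hf_P p hp bb xx) F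
  have h1 : Ideal.Quotient.mk (Idl p bb xx) F = Ideal.Quotient.mk (Idl p bb xx) r :=
    Ideal.Quotient.eq.mpr hFr
  rw [h1]
  clear h1 hFr
  unfold Nspan at hr
  induction hr using Submodule.span_induction with
  | mem q hq =>
    obtain ⟨ν, hν, rfl⟩ := hq
    obtain ⟨e, rfl⟩ := exists_of_normal p ν hν
    exact Submodule.subset_span ⟨e, rfl⟩
  | zero => rw [map_zero]; exact zero_mem _
  | add x y _ _ hx hy => rw [map_add]; exact add_mem hx hy
  | smul c x _ hx =>
    rw [← Ideal.Quotient.mkₐ_eq_mk R, map_smul]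
    exact Submodule.smul_mem _ _ hx

/-- the monomial basis of the quotient algebra -/
noncomputable def bas : Module.Basis (Fin n → Fin p) R (Aq p bb xx) :=
  Module.Basis.mk (linInd p hp bb xx) (span_top p hp bb xx)

lemma bas_apply (e : Fin n → Fin p) : bas p hp bb xx e = bvec p bb xx e := by
  unfold bas; rw [Module.Basis.mk_apply]
/-- the top index -/
def topI : Fin n → Fin p := fun _ => ⟨p - 1, by omega⟩

/-- the top-coefficient functional -/
noncomputable def lam : Aq p bb xx →ₗ[R] R := (bas p hp bb xx).coord (topI p hp)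

lemma lam_bvec (e : Fin n → Fin p) :
    lam p hp bb xx (bvec p bb xx e) = if e = topI p hp then 1 else 0 := by
  classical
  unfold lam
  rw [← bas_apply p hp, Module.Basis.coord_apply, Module.Basis.repr_self, Finsupp.single_apply]

lemma lam_mk_sum (g : (Fin n → Fin p) → R) :
    lam p hp bb xx (Ideal.Quotient.mk _ (∑ e, monomial (mon p e) (g e))) = g (topI p hp) := by
  classical
  rw [← sum_smul_bvec, map_sum]
  simp only [map_smul, lam_bvec, smul_eq_mul, mul_ite, mul_one, mul_zero]
  rw [Finset.sum_ite_eq' Finset.univ (topI p hp) g, if_pos (Finset.mem_univ _)]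

include hp in
lemma exists_coeffs (F : MvPolynomial (Fin n) R) :
    ∃ g : (Fin n → Fin p) → R, F - ∑ e, monomial (mon p e) (g e) ∈ Idl p bb xx := by
  refine ⟨fun e => (bas p hp bb xx).repr (Ideal.Quotient.mk _ F) e, ?_⟩
  rw [← Ideal.Quotient.eq, ← sum_smul_bvec]
  have := (bas p hp bb xx).sum_repr (Ideal.Quotient.mk _ F)
  rw [← this]
  refine Finset.sum_congr rfl fun e _ => ?_
  rw [bas_apply, this]

/-- Reduction modulo the maximal ideal of the top-coefficient functional. -/
lemma red {K : Type*} [CommRing K] (cc : R →+* K) (hb : ∀ s, cc (bb s) = 0)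
    (hx : ∀ s, cc (xx s) = 0) (F : MvPolynomial (Fin n) R) :
    cc (lam p hp bb xx (Ideal.Quotient.mk _ F)) = coeff (mon p (topI p hp)) (map cc F) := by
  classical
  obtain ⟨g, hg⟩ := exists_coeffs p hp bb xx F
  have h1 : Ideal.Quotient.mk (Idl p bb xx) F =
      Ideal.Quotient.mk _ (∑ e, monomial (mon p e) (g e)) := Ideal.Quotient.eq.mpr hg
  rw [h1, lam_mk_sum]
  set D := F - ∑ e, monomial (mon p e) (g e) with hD
  have hF : F = D + ∑ e, monomial (mon p e) (g e) := by rw [hD]; ring
  -- the image of D lies in the monomial ideal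
  have hDbar : map cc D ∈ Ideal.span ((fun s => monomial s (1 : K)) ''
      (Set.range (muP (σ := Fin n) p))) := by
    have hle : Ideal.map (map cc) (Idl p bb xx) ≤ Ideal.span ((fun s => monomial s (1 : K)) ''
        (Set.range (muP (σ := Fin n) p))) := by
      rw [Ideal.map_span, Ideal.span_le]
      rintro _ ⟨_, ⟨s, rfl⟩, rfl⟩
      have : map cc (gg (muP p) (fP bb xx) s) = monomial (muP p s) (1 : K) := by
        unfold gg fP
        simp [hb, hx]
      rw [this]
      exact Ideal.subset_span ⟨muP p s, ⟨s, rfl⟩, rfl⟩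
    exact hle (Ideal.mem_map_of_mem _ hg)
  have hD0 : coeff (mon p (topI p hp)) (map cc D) = 0 := by
    by_contra hne
    have hmem : mon p (topI p hp) ∈ (map cc D).support := mem_support_iff.mpr hne
    obtain ⟨_, ⟨s, rfl⟩, hle⟩ := (mem_ideal_span_monomial_image.mp hDbar) _ hmem
    have := hle s
    unfold muP at this
    rw [Finsupp.single_eq_same, mon_apply] at this
    simp only [topI] at this
    omega
  rw [hF, map_add, coeff_add, hD0, zero_add, map_sum]
  simp only [map_monomial]
  rw [coeff_sum_mon p (fun e => cc (g e))]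
/-- the Gram matrix of the top-coefficient form -/
noncomputable def gram : Matrix (Fin n → Fin p) (Fin n → Fin p) R :=
  fun e e' => lam p hp bb xx (bvec p bb xx e * bvec p bb xx e')

/-- the reversal involution on indices -/
def revI (e : Fin n → Fin p) : Fin n → Fin p := fun i => Fin.rev (e i)

lemma revI_revI (e : Fin n → Fin p) : revI p (revI p e) = e := by
  funext i; simp [revI]

lemma mon_add_eq_top_iff (e e' : Fin n → Fin p) :
    mon p e + mon p e' = mon p (topI p hp) ↔ e' = revI p e := by
  constructor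
  · intro h
    funext i
    have := DFunLike.congr_fun h i
    rw [Finsupp.add_apply, mon_apply, mon_apply, mon_apply] at this
    simp only [topI] at this
    apply Fin.ext
    simp only [revI, Fin.val_rev]
    omega
  · rintro rfl
    ext i
    rw [Finsupp.add_apply, mon_apply, mon_apply, mon_apply]
    simp only [topI, revI, Fin.val_rev]
    have := (e i).2
    omega

lemma gram_red {K : Type*} [CommRing K] (cc : R →+* K) (hb : ∀ s, cc (bb s) = 0)
    (hx : ∀ s, cc (xx s) = 0) (e e' : Fin n → Fin p) :
    cc (gram p hp bb xx e e') = if e' = revI p e then 1 else 0 := by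
  classical
  unfold gram bvec
  rw [← map_mul, monomial_mul, one_mul, red p hp bb xx cc hb hx, map_monomial, map_one,
    coeff_monomial]
  simp only [mon_add_eq_top_iff]

lemma isUnit_det_gram {K : Type*} [CommRing K] (cc : R →+* K) (hb : ∀ s, cc (bb s) = 0)
    (hx : ∀ s, cc (xx s) = 0) (hloc : ∀ r, IsUnit (cc r) → IsUnit r) :
    IsUnit (gram p hp bb xx).det := by
  classical
  apply hloc
  rw [RingHom.map_det]
  apply Matrix.isUnit_det_of_right_inverse (B := cc.mapMatrix (gram p hp bb xx))
  ext e e''
  rw [Matrix.mul_apply]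
  simp only [RingHom.mapMatrix_apply, Matrix.map_apply, gram_red p hp bb xx cc hb hx]
  rw [Finset.sum_eq_single (revI p e)]
  · rw [if_pos rfl, one_mul, revI_revI, Matrix.one_apply]
    simp only [eq_comm]
  · intro e' _ hne
    rw [if_neg hne, zero_mul]
  · intro h; exact absurd (Finset.mem_univ _) h

lemma lam_bvec_mul_sum (i : Fin n → Fin p) (r : (Fin n → Fin p) → R) :
    lam p hp bb xx (bvec p bb xx i * ∑ j, r j • bvec p bb xx j) =
      (gram p hp bb xx).mulVec r i := by
  rw [Finset.mul_sum, map_sum, Matrix.mulVec, dotProduct]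
  refine Finset.sum_congr rfl fun j _ => ?_
  rw [mul_smul_comm, map_smul, smul_eq_mul, mul_comm]
  rfl

/-- nondegeneracy of the form (injectivity) -/
lemma frob_inj (hdet : IsUnit (gram p hp bb xx).det) (a : Aq p bb xx)
    (ha : ∀ c, lam p hp bb xx (c * a) = 0) : a = 0 := by
  classical
  set r : (Fin n → Fin p) → R := fun j => (bas p hp bb xx).repr a j with hr
  have hsum : a = ∑ j, r j • bvec p bb xx j := by
    have := (bas p hp bb xx).sum_repr a
    conv_lhs => rw [← this]
    refine Finset.sum_congr rfl fun e _ => ?_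
    rw [bas_apply]
  have hM : (gram p hp bb xx).mulVec r = 0 := by
    funext i
    rw [← lam_bvec_mul_sum, ← hsum, ha, Pi.zero_apply]
  have hr0 : r = 0 := by
    have := congrArg ((gram p hp bb xx)⁻¹.mulVec) hM
    rwa [Matrix.mulVec_mulVec, Matrix.nonsing_inv_mul _ hdet, Matrix.one_mulVec,
      Matrix.mulVec_zero] at this
  rw [hsum, hr0]
  simp

/-- nondegeneracy of the form (surjectivity) -/
lemma frob_surj (hdet : IsUnit (gram p hp bb xx).det) (ψ : Aq p bb xx →ₗ[R] R) :
    ∃ w : Aq p bb xx, ∀ c, ψ c = lam p hp bb xx (c * w) := by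
  classical
  set v : (Fin n → Fin p) → R := fun i => ψ (bvec p bb xx i) with hv
  set r := (gram p hp bb xx)⁻¹.mulVec v with hr
  refine ⟨∑ j, r j • bvec p bb xx j, ?_⟩
  have hlin : ψ = (lam p hp bb xx).comp (LinearMap.mulRight R (∑ j, r j • bvec p bb xx j)) := by
    apply (bas p hp bb xx).ext
    intro i
    rw [bas_apply, LinearMap.comp_apply, LinearMap.mulRight_apply, lam_bvec_mul_sum, hr,
      Matrix.mulVec_mulVec, Matrix.mul_nonsing_inv _ hdet, Matrix.one_mulVec]
  intro c
  conv_lhs => rw [hlin]
  rfl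
/-- the generators of the quotient algebra -/
noncomputable def uu (i : Fin n) : Aq p bb xx := Ideal.Quotient.mk _ (X i)

lemma bvec_eq_prod (e : Fin n → Fin p) :
    bvec p bb xx e = ∏ i, uu p bb xx i ^ (e i : ℕ) := by
  unfold bvec uu
  rw [monomial_eq, C_1, one_mul, Finsupp.prod_fintype _ _ (fun i => pow_zero _), map_prod]
  refine Finset.prod_congr rfl fun i _ => ?_
  rw [map_pow, mon_apply]

lemma lam_uprod (J : Fin n → ℕ) (hJ : ∀ i, J i < p) :
    lam p hp bb xx (∏ i, uu p bb xx i ^ J i) = if (∀ i, J i = p - 1) then 1 else 0 := by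
  have h1 : ∏ i, uu p bb xx i ^ J i = bvec p bb xx (fun i => ⟨J i, hJ i⟩) := by
    rw [bvec_eq_prod]
  rw [h1, lam_bvec]
  refine if_congr ?_ rfl rfl
  constructor
  · intro h i
    have := congrFun h i
    simpa [topI, Fin.ext_iff] using this
  · intro h
    funext i
    simp [topI, h i]

lemma lam_algebraMap_mul (r : R) (x : Aq p bb xx) :
    lam p hp bb xx (algebraMap R _ r * x) = r * lam p hp bb xx x := by
  rw [← Algebra.smul_def, map_smul, smul_eq_mul]

/-- invariance of the top-coefficient functional under translations of the generators -/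
lemma lam_inv (γ : Aq p bb xx →ₐ[R] Aq p bb xx) (cv : Fin n → R)
    (hγ : ∀ i, γ (uu p bb xx i) = uu p bb xx i + algebraMap R _ (cv i)) (a : Aq p bb xx) :
    lam p hp bb xx (γ a) = lam p hp bb xx a := by
  classical
  have hlin : (lam p hp bb xx).comp γ.toLinearMap = lam p hp bb xx := by
    apply (bas p hp bb xx).ext
    intro e
    rw [bas_apply, LinearMap.comp_apply, AlgHom.toLinearMap_apply, lam_bvec, bvec_eq_prod,
      map_prod]
    simp only [map_pow, hγ, add_pow]
    rw [Finset.prod_univ_sum, map_sum]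
    have hterm : ∀ J ∈ Fintype.piFinset (fun i : Fin n => Finset.range ((e i : ℕ) + 1)),
        lam p hp bb xx (∏ i, (uu p bb xx i ^ J i * algebraMap R (Aq p bb xx) (cv i) ^ ((e i : ℕ) - J i) *
          (((e i : ℕ).choose (J i) : ℕ) : Aq p bb xx))) =
        (∏ i, (cv i ^ ((e i : ℕ) - J i) * (((e i : ℕ).choose (J i) : ℕ) : R))) *
          (if (∀ i, J i = p - 1) then 1 else 0) := by
      intro J hJ
      rw [Fintype.mem_piFinset] at hJ
      have hJp : ∀ i, J i < p := fun i => by
        have := Finset.mem_range.mp (hJ i)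
        have := (e i).2
        omega
      have h1 : ∏ i, (uu p bb xx i ^ J i * algebraMap R (Aq p bb xx) (cv i) ^ ((e i : ℕ) - J i) *
          (((e i : ℕ).choose (J i) : ℕ) : Aq p bb xx)) =
          algebraMap R _ (∏ i, (cv i ^ ((e i : ℕ) - J i) * (((e i : ℕ).choose (J i) : ℕ) : R))) *
            ∏ i, uu p bb xx i ^ J i := by
        rw [map_prod, ← Finset.prod_mul_distrib]
        refine Finset.prod_congr rfl fun i _ => ?_
        rw [map_mul, map_pow, map_natCast]
        ring
      rw [h1, lam_algebraMap_mul, lam_uprod p hp bb xx J hJp]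
    rw [Finset.sum_congr rfl hterm]
    by_cases he : e = topI p hp
    · rw [if_pos he]
      rw [Finset.sum_eq_single (fun _ => p - 1)]
      · rw [if_pos (fun _ => rfl), mul_one]
        refine Finset.prod_eq_one fun i _ => ?_
        subst he
        simp [topI]
      · intro J _ hne
        rw [if_neg, mul_zero]
        intro h
        exact hne (funext h)
      · intro h
        exfalso
        apply h
        rw [Fintype.mem_piFinset]
        intro i
        subst he
        simp [topI]
    · rw [if_neg he]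
      refine Finset.sum_eq_zero fun J hJ => ?_
      rw [Fintype.mem_piFinset] at hJ
      rw [if_neg, mul_zero]
      intro h
      apply he
      funext i
      have h1 := Finset.mem_range.mp (hJ i)
      have h2 := (e i).2
      have h3 := h i
      apply Fin.ext
      simp only [topI]
      omega
  exact LinearMap.congr_fun hlin a
end Basis

section Skew

variable {R : Type*} [CommRing R] {A : Type*} [CommRing A] [Algebra R A]
  {G : Type*} [Group G] [Finite G] [MulSemiringAction G A] [SMulCommClass G R A]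

open SkewMonoidAlgebra in
/-- A `G`-invariant Frobenius form on `A` induces a symmetric Frobenius form on the skew group
ring `A ∗ G`. -/
theorem skew_symmetric (lam : A →ₗ[R] R)
    (hinj : ∀ a, (∀ c, lam (c * a) = 0) → a = 0)
    (hsurj : ∀ ψ : A →ₗ[R] R, ∃ w, ∀ c, ψ c = lam (c * w))
    (hinv : ∀ (h : G) a, lam (h • a) = lam a) :
    ∃ φ : SkewMonoidAlgebra A G →ₗ[R] R,
        (∀ x y : SkewMonoidAlgebra A G, φ (x * y) = φ (y * x)) ∧
        Function.Injective
          (fun y : SkewMonoidAlgebra A G => fun x : SkewMonoidAlgebra A G => φ (x * y)) ∧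
        ∀ ψ : SkewMonoidAlgebra A G →ₗ[R] R, ∃ y : SkewMonoidAlgebra A G,
          ∀ x, ψ x = φ (x * y) := by
  classical
  let φ : SkewMonoidAlgebra A G →ₗ[R] R :=
    lam.comp ((Finsupp.lapply 1).comp (coeffLinearEquiv (S := R) (k := A) (G := G)).toLinearMap)
  have hφ : ∀ x, φ x = lam (x.coeff 1) := fun x => rfl
  refine ⟨φ, ?_, ?_, ?_⟩
  · intro x y
    induction x using SkewMonoidAlgebra.induction_on with
    | zero => simp
    | single h c =>
      induction y using SkewMonoidAlgebra.induction_on with
      | zero => simp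
      | single h' c' =>
        rw [single_mul_single, single_mul_single, hφ, hφ, coeff_single_apply, coeff_single_apply]
        by_cases hh : h * h' = 1
        · have hh' : h' * h = 1 := mul_eq_one_comm.mp hh
          rw [if_pos hh, if_pos hh']
          have e1 : h' = h⁻¹ := (mul_eq_one_iff_eq_inv'.mp hh)
          subst e1
          rw [← hinv h (c' * h⁻¹ • c), smul_mul', smul_inv_smul, mul_comm]
        · have hh' : ¬ h' * h = 1 := fun h1 => hh (mul_eq_one_comm.mp h1)
          rw [if_neg hh, if_neg hh']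
      | add y₁ y₂ h₁ h₂ => rw [mul_add, add_mul, map_add, map_add, h₁, h₂]
    | add x₁ x₂ h₁ h₂ => rw [add_mul, mul_add, map_add, map_add, h₁, h₂]
  · intro y y' hyy'
    have hd : ∀ x, φ (x * (y - y')) = 0 := fun x => by
      rw [mul_sub, map_sub, sub_eq_zero]; exact congrFun hyy' x
    have h0 : y - y' = 0 := by
      apply SkewMonoidAlgebra.ext
      intro g
      have h1 : ∀ c, lam (c * g⁻¹ • (y - y').coeff g) = 0 := by
        intro c
        have := hd (single g⁻¹ c)
        rw [hφ, coeff_single_mul] at this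
        simpa using this
      have h2 := hinj _ h1
      rw [smul_eq_zero_iff_eq] at h2
      rw [h2]; rfl
    exact sub_eq_zero.mp h0
  · intro ψ
    choose w hw using fun h : G => hsurj (ψ.comp (SkewMonoidAlgebra.lsingle R h))
    let y : SkewMonoidAlgebra A G := ⟨Finsupp.equivFunOnFinite.symm (fun h => h • w h⁻¹)⟩
    have hy : ∀ h, y.coeff h = h • w h⁻¹ := fun h => rfl
    refine ⟨y, ?_⟩
    intro x
    induction x using SkewMonoidAlgebra.induction_on with
    | zero => simp
    | single g c =>
      rw [hφ, coeff_single_mul, hy, mul_one, inv_inv, smul_smul, mul_inv_cancel, one_smul]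
      exact hw g c
    | add x₁ x₂ h₁ h₂ => rw [add_mul, map_add, map_add, h₁, h₂]

end Skew
section Assemble

variable {R : Type u} [CommRing R] {n : ℕ}

theorem main_abstract (p : ℕ) (hp : 2 ≤ p) (bb xx : Fin n → R) {K : Type*} [CommRing K]
    (cc : R →+* K) (hb : ∀ s, cc (bb s) = 0) (hx : ∀ s, cc (xx s) = 0)
    (hloc : ∀ r, IsUnit (cc r) → IsUnit r)
    (I' : Ideal (MvPolynomial (Fin n) R)) (hI : I' = Idl p bb xx)
    (G : Type v) [Group G] [Finite G] [MulSemiringAction G (MvPolynomial (Fin n) R ⧸ I')]
    [SMulCommClass G R (MvPolynomial (Fin n) R ⧸ I')]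
    (g : G) (hgen : ∀ h : G, h ∈ Subgroup.zpowers g) (cv : Fin n → R)
    (hg : ∀ i, g • (Ideal.Quotient.mk I' (X i)) =
      Ideal.Quotient.mk I' (X i) + algebraMap R (MvPolynomial (Fin n) R ⧸ I') (cv i)) :
    ∃ φ : SkewMonoidAlgebra (MvPolynomial (Fin n) R ⧸ I') G →ₗ[R] R,
      (∀ x y : SkewMonoidAlgebra (MvPolynomial (Fin n) R ⧸ I') G, φ (x * y) = φ (y * x)) ∧
      Function.Injective (fun y : SkewMonoidAlgebra (MvPolynomial (Fin n) R ⧸ I') G =>
        fun x : SkewMonoidAlgebra (MvPolynomial (Fin n) R ⧸ I') G => φ (x * y)) ∧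
      ∀ ψ : SkewMonoidAlgebra (MvPolynomial (Fin n) R ⧸ I') G →ₗ[R] R,
        ∃ y : SkewMonoidAlgebra (MvPolynomial (Fin n) R ⧸ I') G, ∀ x, ψ x = φ (x * y) := by
  subst hI
  have hdet := isUnit_det_gram p hp bb xx cc hb hx hloc
  have hg1 : ∀ a : Aq p bb xx, lam p hp bb xx (g • a) = lam p hp bb xx a := fun a =>
    lam_inv p hp bb xx (MulSemiringAction.toAlgHom R (Aq p bb xx) g) cv (fun i => hg i) a
  let H : Subgroup G :=
    { carrier := {h | ∀ a : Aq p bb xx, lam p hp bb xx (h • a) = lam p hp bb xx a}
      one_mem' := fun a => by rw [one_smul]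
      mul_mem' := fun {h h'} hh hh' a => by rw [mul_smul, hh, hh']
      inv_mem' := fun {h} hh a => by
        have := hh (h⁻¹ • a)
        rw [smul_inv_smul] at this
        exact this.symm }
  have hle : Subgroup.zpowers g ≤ H := (Subgroup.zpowers_le).mpr hg1
  have hinv : ∀ (h : G) (a : Aq p bb xx), lam p hp bb xx (h • a) = lam p hp bb xx a :=
    fun h a => hle (hgen h) a
  exact skew_symmetric (lam p hp bb xx) (frob_inj p hp bb xx hdet) (frob_surj p hp bb xx hdet) hinv

end Assemble

open MvPolynomial in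

open MvPolynomial in
/-- Let `k` be a field of characteristic `p > 0`, `R = k[[x_1, …, x_n]]`, `a_1, …, a_n ∈ R` with zero
constant term and not all zero, and `A = R[u_1, …, u_n] / (u_i ^ p - a_i ^ (p-1) u_i - x_i : i =
1..n)`. Let `G` be a group of order `p` acting on `A` by `R`-algebra automorphisms, generated by an
element `g` acting by `u_i ↦ u_i + a_i`. Then the skew group ring `A∗G` (free `A`-module on `G` with
`(a g)(b h) = a g(b) gh`) is a symmetric `R`-algebra: there is an `R`-linear form `φ : A∗G → R` with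
`φ(xy) = φ(yx)` for all `x, y`, such that `y ↦ (x ↦ φ(x y))` is injective and reaches every
`R`-linear form on `A∗G` (so `Hom_R(A∗G, R) ≅ A∗G` as bimodules). -/
theorem result
    (p : ℕ) [Fact p.Prime] (k : Type u) [Field k] [CharP k p] (n : ℕ)
    (a : Fin n → MvPowerSeries (Fin n) k)
    (ham : ∀ i, MvPowerSeries.constantCoeff (a i) = 0) (hne : ∃ i, a i ≠ 0) :
    let R := MvPowerSeries (Fin n) k
    let I : Ideal (MvPolynomial (Fin n) R) :=
      Ideal.span (Set.range fun i : Fin n =>
        X i ^ p - C (a i ^ (p - 1)) * X i - C (MvPowerSeries.X i))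
    let A := MvPolynomial (Fin n) R ⧸ I
    ∀ (G : Type v) [Group G] [Finite G] [MulSemiringAction G A] [SMulCommClass G R A]
      (g : G), Nat.card G = p → (∀ h : G, h ∈ Subgroup.zpowers g) →
      (∀ i, g • (Ideal.Quotient.mk I (X i)) = Ideal.Quotient.mk I (X i) + algebraMap R A (a i)) →
      ∃ φ : SkewMonoidAlgebra A G →ₗ[R] R,
        (∀ x y : SkewMonoidAlgebra A G, φ (x * y) = φ (y * x)) ∧
        Function.Injective (fun y : SkewMonoidAlgebra A G => fun x : SkewMonoidAlgebra A G => φ (x * y)) ∧
        ∀ ψ : SkewMonoidAlgebra A G →ₗ[R] R, ∃ y : SkewMonoidAlgebra A G, ∀ x, ψ x = φ (x * y) := by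
  intro R I A G _ _ _ _ g _ hgen hg
  have hp : 2 ≤ p := (Fact.out : p.Prime).two_le
  have hI : I = Idl p (fun i => a i ^ (p - 1)) (fun i => (MvPowerSeries.X i : R)) := by
    show Ideal.span _ = Ideal.span _
    congr 2
    funext i
    rw [gg_P]
  refine main_abstract p hp (fun i => a i ^ (p - 1)) (fun i => (MvPowerSeries.X i : R))
    (MvPowerSeries.constantCoeff (σ := Fin n) (R := k)) ?_ ?_ ?_ I hI G g hgen a hg
  · intro s
    rw [map_pow, ham s, zero_pow (by omega)]
  · intro s
    exact MvPowerSeries.constantCoeff_X s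
  · intro r hr
    exact MvPowerSeries.isUnit_iff_constantCoeff.mpr hr

end Groth.Agent.S15805
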