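import Groth.Statements.S15806
import Mathlib
import Groth.Agent.Lib.Helper20MagnetSTD2

set_option autoImplicit false
universe u
open CategoryTheory AlgebraicGeometry
open WildQuot

namespace Groth.Agent.S15806

open CategoryTheory.Limits

/-- An open `V` with quasi-compact inclusion such that restriction from every affine open `W` to
`W ⊓ V` is injective is scheme-theoretically dominant. -/
theorem isSchemeTheoreticallyDominant_ι_of_affine {X : Scheme.{u}} (V : X.Opens) [QuasiCompact V.ι]
    (hV : ∀ W : X.affineOpens,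
      Function.Injective (X.presheaf.map (homOfLE (inf_le_left : W.1 ⊓ V ≤ W.1)).op)) :
    IsSchemeTheoreticallyDominant V.ι := by
  rw [isSchemeTheoreticallyDominant_iff]
  refine Scheme.IdealSheafData.ext ?_
  funext W
  rw [Scheme.Hom.ker_apply]
  simp only [Scheme.IdealSheafData.ideal_bot, Pi.bot_apply]
  rw [← RingHom.injective_iff_ker_eq_bot]
  rw [Scheme.Opens.ι_app]
  have heq : W.1 ⊓ V = V.ι ''ᵁ V.ι ⁻¹ᵁ W.1 := by
    rw [Scheme.Hom.image_preimage_eq_opensRange_inf, Scheme.Opens.opensRange_ι, inf_comm]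
  have key : ∀ (W' : X.Opens) (_ : W' = W.1 ⊓ V) (i : Opposite.op W.1 ⟶ Opposite.op W'),
      Function.Injective (X.presheaf.map i).hom := by
    intro W' hW' i
    subst hW'
    have : i = (homOfLE (inf_le_left : W.1 ⊓ V ≤ W.1)).op := Subsingleton.elim _ _
    rw [this]
    exact hV W
  exact key _ heq.symm _

theorem injective_res_of_ass {S : Scheme.{u}} [IsLocallyNoetherian S] (U : S.Opens)
    (hU : ∀ s : S, IsLocalRing.maximalIdeal (S.presheaf.stalk s) ∈
        associatedPrimes (S.presheaf.stalk s) (S.presheaf.stalk s) → s ∈ U)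
    (W : S.affineOpens) :
    Function.Injective (S.presheaf.map (homOfLE (inf_le_left : W.1 ⊓ U ≤ W.1)).op) := by
  rw [injective_iff_map_eq_zero]
  intro a ha
  by_contra hne
  have hN : IsNoetherianRing Γ(S, W.1) := IsLocallyNoetherian.component_noetherian W
  obtain ⟨P, hP, hle⟩ := exists_le_isAssociatedPrime_of_isNoetherianRing Γ(S, W.1) a hne
  have hPprime : P.IsPrime := hP.isPrime
  let y : PrimeSpectrum Γ(S, W.1) := ⟨P, hPprime⟩
  have hsW : W.2.fromSpec y ∈ W.1 := by
    have : W.2.fromSpec y ∈ Set.range W.2.fromSpec := ⟨y, rfl⟩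
    rw [W.2.range_fromSpec] at this
    exact this
  letI := TopCat.Presheaf.algebra_section_stalk S.presheaf ⟨W.2.fromSpec y, hsW⟩
  have hloc : IsLocalization.AtPrime (S.presheaf.stalk (W.2.fromSpec y)) P :=
    W.2.isLocalization_stalk' y hsW
  have hass : IsLocalRing.maximalIdeal (S.presheaf.stalk (W.2.fromSpec y)) ∈
      associatedPrimes (S.presheaf.stalk (W.2.fromSpec y)) (S.presheaf.stalk (W.2.fromSpec y)) := by
    apply Module.associatedPrimes.mem_associatedPrimes_of_comap_mem_associatedPrimes_of_isLocalizedModule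
      P.primeCompl (Algebra.linearMap Γ(S, W.1) (S.presheaf.stalk (W.2.fromSpec y)))
    have h2 := IsLocalization.AtPrime.under_maximalIdeal (S.presheaf.stalk (W.2.fromSpec y)) P
    have h3 : Ideal.comap (algebraMap Γ(S, W.1) (S.presheaf.stalk (W.2.fromSpec y)))
        (IsLocalRing.maximalIdeal (S.presheaf.stalk (W.2.fromSpec y))) = P := h2
    rw [h3]
    exact hP
  have hsU : W.2.fromSpec y ∈ U := hU _ hass
  have hgerm : algebraMap Γ(S, W.1) (S.presheaf.stalk (W.2.fromSpec y)) a = 0 := by
    show (S.presheaf.germ W.1 (W.2.fromSpec y) hsW).hom a = 0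
    have h1 := TopCat.Presheaf.germ_res_apply S.presheaf
      (homOfLE (inf_le_left : W.1 ⊓ U ≤ W.1)) (W.2.fromSpec y) ⟨hsW, hsU⟩ a
    rw [← h1, ha, map_zero]
  obtain ⟨t, ht⟩ := (IsLocalization.map_eq_zero_iff P.primeCompl _ a).mp hgerm
  apply t.2
  apply hle
  rw [Submodule.mem_colon_singleton]
  exact ht


/-- Let `S` be a Noetherian scheme, `G_1 → S` and `G_2 → S` finite flat morphisms, and `U ⊆ S` an open
subset containing every associated point of `S`, i.e. every point whose local ring has the maximal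
ideal as an associated prime (for `S` Noetherian this says exactly that `U` is dense and contains
all points at which `S` does not satisfy Serre's condition `S_1`, which is the printed hypothesis).
If two `S`-morphisms `φ, ψ : G_1 → G_2` agree on the preimage of `U`, then `φ = ψ`. -/
theorem result
    (S G₁ G₂ : Scheme.{u}) [AlgebraicGeometry.IsNoetherian S] (f₁ : G₁ ⟶ S) (f₂ : G₂ ⟶ S)
    [AlgebraicGeometry.IsFinite f₁] [AlgebraicGeometry.Flat f₁]
    [AlgebraicGeometry.IsFinite f₂] [AlgebraicGeometry.Flat f₂]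
    (U : S.Opens)
    (hU : ∀ s : S, IsLocalRing.maximalIdeal (S.presheaf.stalk s) ∈
        associatedPrimes (S.presheaf.stalk s) (S.presheaf.stalk s) → s ∈ U)
    (φ ψ : G₁ ⟶ G₂) (hφ : φ ≫ f₂ = f₁) (hψ : ψ ≫ f₂ = f₁)
    (h : (f₁ ⁻¹ᵁ U).ι ≫ φ = (f₁ ⁻¹ᵁ U).ι ≫ ψ) : φ = ψ := by
  have hqc : QuasiCompact U.ι := inferInstance
  have hUstd : IsSchemeTheoreticallyDominant U.ι :=
    isSchemeTheoreticallyDominant_ι_of_affine U (injective_res_of_ass U hU)
  have hstd : IsSchemeTheoreticallyDominant (f₁ ⁻¹ᵁ U).ι :=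
    IsSchemeTheoreticallyDominant.of_isPullback (isPullback_morphismRestrict f₁ U)
  let W : Over S := Over.mk ((f₁ ⁻¹ᵁ U).ι ≫ f₁)
  let V : Over S := Over.mk f₁
  let X : Over S := Over.mk f₂
  have hsep : IsSeparated X.hom := (inferInstance : IsSeparated f₂)
  let u : W ⟶ V := Over.homMk (f₁ ⁻¹ᵁ U).ι rfl
  have : IsSchemeTheoreticallyDominant u.left := hstd
  let g₁ : V ⟶ X := Over.homMk φ hφ
  let g₂ : V ⟶ X := Over.homMk ψ hψ
  have hg : g₁ = g₂ := by
    apply Groth.Agent.Lib.Helper20MagnetSTD.over_ext_of_isSchemeTheoreticallyDominant u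
    ext1
    exact h
  exact congrArg (fun g : V ⟶ X => g.left) hg

end Groth.Agent.S15806
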