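import Groth.Statements.S19997
import Mathlib
-- import your own Groth.Agent.* helpers here

set_option autoImplicit false
set_option linter.style.haveILetI false
set_option linter.unusedSectionVars false
universe u
open WildQuot

namespace Groth.Agent.S19997

section General

open Polynomial

variable {R A : Type*} [CommRing R] [CommRing A] [Algebra R A]

section Diff

variable (S : Subalgebra R A) (σ : A →ₐ[R] A) (hσS : ∀ s ∈ S, σ s = s) (w : A) (c : R)
  (hw : σ w = w + algebraMap R A c)

/-- The difference polynomial `P(X + c) − P(X)`. -/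
noncomputable def Qd (P : S[X]) : S[X] := taylor (algebraMap R S c) P - P

include hσS hw in
theorem aeval_Qd (P : S[X]) : aeval w (Qd S c P) = σ (aeval w P) - aeval w P := by
  have h1 : σ (aeval w P) = aeval (σ w) P := by
    rw [aeval_def, aeval_def]
    have := hom_eval₂ P (algebraMap S A) (σ : A →+* A) w
    refine this.trans ?_
    congr 1
    ext s
    exact hσS s s.2
  rw [Qd, map_sub, taylor_apply, aeval_comp, h1, hw]
  simp only [map_add, aeval_X, aeval_C]
  rfl

theorem natDegree_Qd_le (P : S[X]) (m : ℕ) (hP : P.natDegree ≤ m + 1) :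
    (Qd S c P).natDegree ≤ m := by
  rw [natDegree_le_iff_coeff_eq_zero]
  intro N hN
  rw [Qd, coeff_sub, taylor_coeff]
  have hd : (hasseDeriv N P).natDegree ≤ 0 := by
    refine (natDegree_hasseDeriv_le P N).trans ?_
    omega
  rw [eq_C_of_natDegree_le_zero hd, eval_C, hasseDeriv_coeff]
  simp only [zero_add, Nat.choose_self, Nat.cast_one, one_mul, sub_self]

theorem coeff_Qd (P : S[X]) (m : ℕ) (hP : P.natDegree ≤ m + 1) :
    (Qd S c P).coeff m = ((m + 1 : ℕ) : S) * P.coeff (m + 1) * algebraMap R S c := by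
  rw [Qd, coeff_sub, taylor_coeff]
  have hd : (hasseDeriv m P).natDegree < 2 := by
    have := natDegree_hasseDeriv_le P m
    omega
  rw [eval_eq_sum_range' hd]
  simp only [Finset.sum_range_succ, Finset.sum_range_zero, zero_add, hasseDeriv_coeff, pow_zero,
    mul_one, pow_one, Nat.choose_self, Nat.cast_one, one_mul]
  rw [add_comm 1 m, Nat.choose_succ_self_right]
  ring
include hσS hw in
/-- If `P(w) = 0` with `deg P ≤ m < p`, the coefficient of index `m` is `c`-power torsion. -/
theorem torsion_top (p : ℕ) (hunit : ∀ m : ℕ, 0 < m → m < p → IsUnit ((m : ℕ) : A)) :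
    ∀ m : ℕ, m < p → ∀ P : S[X], P.natDegree ≤ m → aeval w P = 0 →
      ∃ e : ℕ, algebraMap R A c ^ e * (P.coeff m : A) = 0 := by
  intro m
  induction m with
  | zero =>
    intro _ P hP h0
    refine ⟨0, ?_⟩
    rw [eq_C_of_natDegree_le_zero hP, aeval_C] at h0
    rw [pow_zero, one_mul]
    exact h0
  | succ m ih =>
    intro hm P hP h0
    have hQ0 : aeval w (Qd S c P) = 0 := by
      rw [aeval_Qd S σ hσS w c hw, h0, map_zero, sub_zero]
    obtain ⟨e, he⟩ := ih (by omega) (Qd S c P) (natDegree_Qd_le S c P m hP) hQ0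
    refine ⟨e + 1, ?_⟩
    rw [coeff_Qd S c P m hP] at he
    have hcast : (((m + 1 : ℕ) : S) : A) = ((m + 1 : ℕ) : A) := map_natCast S.val _
    simp only [Subalgebra.coe_mul, Subalgebra.coe_algebraMap, hcast] at he
    have hu := hunit (m + 1) (by omega) hm
    have : ((m + 1 : ℕ) : A) * (algebraMap R A c ^ (e + 1) * (P.coeff (m + 1) : A)) = 0 := by
      rw [← he]; ring
    exact (hu.mul_right_eq_zero).mp this

include hσS hw in
/-- An invariant element which is a polynomial of degree `< p` in `w` over `S`, up to a power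
of `c`, lies in `S` up to a power of `c`. -/
theorem descend (p : ℕ) (hunit : ∀ m : ℕ, 0 < m → m < p → IsUnit ((m : ℕ) : A))
    (t : A) (ht : σ t = t) :
    ∀ m : ℕ, m < p → ∀ P : S[X], P.natDegree ≤ m → ∀ N : ℕ,
      algebraMap R A c ^ N * t = aeval w P → ∃ N' : ℕ, algebraMap R A c ^ N' * t ∈ S := by
  intro m
  induction m with
  | zero =>
    intro _ P hP N hN
    refine ⟨N, ?_⟩
    rw [eq_C_of_natDegree_le_zero hP, aeval_C] at hN
    rw [hN]
    exact (P.coeff 0).2
  | succ m ih =>
    intro hm P hP N hN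
    have hinv : σ (aeval w P) = aeval w P := by
      rw [← hN, map_mul, map_pow, AlgHom.commutes, ht]
    have hQ0 : aeval w (Qd S c P) = 0 := by
      rw [aeval_Qd S σ hσS w c hw, hinv, sub_self]
    obtain ⟨e, he⟩ := torsion_top S σ hσS w c hw p hunit m (by omega) (Qd S c P)
      (natDegree_Qd_le S c P m hP) hQ0
    rw [coeff_Qd S c P m hP] at he
    have hcast : (((m + 1 : ℕ) : S) : A) = ((m + 1 : ℕ) : A) := map_natCast S.val _
    simp only [Subalgebra.coe_mul, Subalgebra.coe_algebraMap, hcast] at he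
    have hu := hunit (m + 1) (by omega) hm
    have h1 : algebraMap R A c ^ (e + 1) * (P.coeff (m + 1) : A) = 0 := by
      have : ((m + 1 : ℕ) : A) * (algebraMap R A c ^ (e + 1) * (P.coeff (m + 1) : A)) = 0 := by
        rw [← he]; ring
      exact (hu.mul_right_eq_zero).mp this
    -- new polynomial
    let P' : S[X] := C (algebraMap R S c ^ (e + 1)) * P
    have hP' : P'.natDegree ≤ m := by
      rw [natDegree_le_iff_coeff_eq_zero]
      intro K hK
      rw [coeff_C_mul]
      by_cases hK1 : K = m + 1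
      · subst hK1
        apply Subtype.ext
        simpa using h1
      · rw [coeff_eq_zero_of_natDegree_lt (by omega), mul_zero]
    refine ih (by omega) P' hP' (N + (e + 1)) ?_
    rw [map_mul, aeval_C, ← hN, pow_add]
    simp only [map_pow]
    have : (algebraMap S A) (algebraMap R S c) = algebraMap R A c := rfl
    rw [this]
    ring
end Diff

section Gen

variable {ι : Type*} (u : ι → A) (α : ι → R) (μ : R) (i₀ : ι)

/-- The minor elements. -/
def zmin : {j : ι // j ≠ i₀} → A := fun j =>
  algebraMap R A (α i₀) * u j.1 - algebraMap R A (α j.1) * u i₀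

/-- Up to a power of `c = μ α_{i₀}`, every element is a polynomial in `w = u_{i₀}` over the
subalgebra generated by minor elements. -/
theorem exists_poly (hgen : Algebra.adjoin R (Set.range u) = ⊤) (t : A) :
    ∃ (N : ℕ) (P : (Algebra.adjoin R (Set.range (zmin u α i₀)))[X]),
      algebraMap R A (μ * α i₀) ^ N * t = aeval (u i₀) P := by
  classical
  set S := Algebra.adjoin R (Set.range (zmin u α i₀)) with hS
  have ht : t ∈ Algebra.adjoin R (Set.range u) := by rw [hgen]; trivial
  have hcS : ∀ r : R, (algebraMap S A) (algebraMap R S r) = algebraMap R A r := fun _ => rfl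
  induction ht using Algebra.adjoin_induction with
  | mem x hx =>
    obtain ⟨j, rfl⟩ := hx
    by_cases hj : j = i₀
    · subst hj
      exact ⟨0, X, by simp⟩
    · let zj : S := ⟨zmin u α i₀ ⟨j, hj⟩, Algebra.subset_adjoin ⟨⟨j, hj⟩, rfl⟩⟩
      refine ⟨1, C (algebraMap R S μ * zj) + C (algebraMap R S (μ * α j)) * X, ?_⟩
      simp only [map_add, map_mul, aeval_C, aeval_X, hcS, pow_one]
      show _ = algebraMap R A μ * (zmin u α i₀ ⟨j, hj⟩) + _
      simp only [zmin]
      ring
  | algebraMap r =>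
    exact ⟨0, C (algebraMap R S r), by rw [aeval_C, hcS, pow_zero, one_mul]⟩
  | add x y _ _ hx hy =>
    obtain ⟨N₁, P₁, h₁⟩ := hx
    obtain ⟨N₂, P₂, h₂⟩ := hy
    refine ⟨N₁ + N₂, C (algebraMap R S (μ * α i₀) ^ N₂) * P₁ +
      C (algebraMap R S (μ * α i₀) ^ N₁) * P₂, ?_⟩
    simp only [map_add, map_mul, aeval_C, map_pow, hcS, ← h₁, ← h₂]
    ring
  | mul x y _ _ hx hy =>
    obtain ⟨N₁, P₁, h₁⟩ := hx
    obtain ⟨N₂, P₂, h₂⟩ := hy
    refine ⟨N₁ + N₂, P₁ * P₂, ?_⟩
    rw [_root_.map_mul (aeval (u i₀)) P₁ P₂, ← h₁, ← h₂]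
    ring

theorem general (p : ℕ) (hp : 2 ≤ p)
    (hunit : ∀ m : ℕ, 0 < m → m < p → IsUnit ((m : ℕ) : A))
    (hgen : Algebra.adjoin R (Set.range u) = ⊤) (ξ : R)
    (hrel : u i₀ ^ p = algebraMap R A ((μ * α i₀) ^ (p - 1)) * u i₀ + algebraMap R A ξ)
    (σ : A →ₐ[R] A) (hσ : ∀ i, σ (u i) = u i + algebraMap R A (μ * α i))
    (t : A) (ht : σ t = t) :
    ∃ N : ℕ, algebraMap R A (μ * α i₀) ^ N * t ∈ Algebra.adjoin R (Set.range (zmin u α i₀)) := by
  classical
  rcases subsingleton_or_nontrivial A with hA | hA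
  · exact ⟨0, by rw [Subsingleton.elim (_ * t) 0]; exact zero_mem _⟩
  set S := Algebra.adjoin R (Set.range (zmin u α i₀)) with hS
  have hσS : ∀ s ∈ S, σ s = s := by
    intro s hs
    have hle : S ≤ AlgHom.equalizer σ (AlgHom.id R A) := by
      rw [hS]
      refine Algebra.adjoin_le ?_
      rintro _ ⟨j, rfl⟩
      rw [SetLike.mem_coe, AlgHom.mem_equalizer]
      simp only [zmin, map_sub, map_mul, AlgHom.commutes, hσ, AlgHom.coe_id, id_eq]
      ring
    exact hle hs
  obtain ⟨N, P, hN⟩ := exists_poly u α μ i₀ hgen t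
  -- reduce the degree
  let q : S[X] := X ^ p - (C (algebraMap R S ((μ * α i₀) ^ (p - 1))) * X + C (algebraMap R S ξ))
  have hqm : q.Monic := by
    apply monic_X_pow_sub
    refine lt_of_le_of_lt (degree_add_le _ _) ?_
    refine max_lt ?_ ?_
    · refine lt_of_le_of_lt (degree_C_mul_X_le _) ?_
      exact_mod_cast (by omega : 1 < p)
    · refine lt_of_le_of_lt degree_C_le ?_
      exact_mod_cast (by omega : 0 < p)
  have hq0 : aeval (u i₀) q = 0 := by
    have : aeval (u i₀) q = u i₀ ^ p -
        (algebraMap R A ((μ * α i₀) ^ (p - 1)) * u i₀ + algebraMap R A ξ) := by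
      simp only [q, map_sub, map_add, _root_.map_mul (aeval (u i₀)), map_pow (aeval (u i₀)),
        aeval_X, aeval_C]
      rfl
    rw [this, hrel, sub_self]
  have hqdeg : q.natDegree ≤ p := by
    refine (natDegree_sub_le _ _).trans (max_le (natDegree_X_pow_le _) ?_)
    refine (natDegree_add_le _ _).trans (max_le ?_ ?_)
    · exact (natDegree_C_mul_le _ _).trans (natDegree_X_le.trans (by omega))
    · rw [natDegree_C]; omega
  have hq1 : q ≠ 1 := by
    intro h1
    rw [h1, map_one] at hq0
    exact one_ne_zero hq0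
  have hP' : aeval (u i₀) (P %ₘ q) = aeval (u i₀) P := by
    conv_rhs => rw [← modByMonic_add_div P q]
    rw [map_add, _root_.map_mul (aeval (u i₀)), hq0, zero_mul, add_zero]
  have hdeg : (P %ₘ q).natDegree ≤ p - 1 := by
    have := natDegree_modByMonic_lt P hqm hq1
    omega
  have hw : σ (u i₀) = u i₀ + algebraMap R A (μ * α i₀) := hσ i₀
  exact descend S σ hσS (u i₀) (μ * α i₀) hw p hunit t ht (p - 1) (by omega) (P %ₘ q) hdeg N
    (hN.trans hP'.symm)

end Gen

end General
open MvPolynomial in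

open MvPolynomial in
/-- Let `k` be a field of characteristic `p > 0`, `n ≥ 2`, `R = k[[x_1, …, x_n]]`, `a_1, …, a_n ∈ R`
with zero constant term and pairwise coprime, `μ ∈ R` nonzero and coprime to each `a_i`, `A = R[u_1,
…, u_n] / (u_i ^ p - (μ a_i) ^ (p-1) u_i - x_i : i = 1..n)`, and `σ` the `R`-algebra automorphism of
`A` with `σ u_i = u_i + μ a_i` for every `i` (it generates a group `G` of order `p`). Fix an index
`i₀` and let `A_ci ⊆ A` be the `R`-subalgebra generated by the minor elements `z_j = a_{i₀} u_j -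
a_j u_{i₀}`, `j ≠ i₀` (these are `σ`-invariant). Then `A_ci[1/(μ a_{i₀})] = A^G[1/(μ a_{i₀})]`: for
every `σ`-invariant `t ∈ A` some power `(μ a_{i₀}) ^ N t` lies in `A_ci`. (The published statement
uses the first index for `i₀`.) -/
theorem result
    (p : ℕ) [Fact p.Prime] (k : Type u) [Field k] [CharP k p] (n : ℕ) (hn : 2 ≤ n)
    (a : Fin n → MvPowerSeries (Fin n) k) (μ : MvPowerSeries (Fin n) k)
    (ham : ∀ i, MvPowerSeries.constantCoeff (a i) = 0) (hcop : ∀ i j, i ≠ j → IsRelPrime (a i) (a j))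
    (hμ : μ ≠ 0) (hμa : ∀ i, IsRelPrime μ (a i)) (i₀ : Fin n) :
    let R := MvPowerSeries (Fin n) k
    let I : Ideal (MvPolynomial (Fin n) R) :=
      Ideal.span (Set.range fun i : Fin n =>
        X i ^ p - C ((μ * a i) ^ (p - 1)) * X i - C (MvPowerSeries.X i))
    let A := MvPolynomial (Fin n) R ⧸ I
    let u : Fin n → A := fun i => Ideal.Quotient.mk I (X i)
    let z : {j : Fin n // j ≠ i₀} → A := fun j =>
      algebraMap R A (a i₀) * u j.1 - algebraMap R A (a j.1) * u i₀
    ∀ σ : A ≃ₐ[R] A, (∀ i, σ (u i) = u i + algebraMap R A (μ * a i)) →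
      ∀ t : A, σ t = t →
        ∃ N : ℕ, algebraMap R A (μ * a i₀) ^ N * t ∈ Algebra.adjoin R (Set.range z) := by
  intro R I A u z σ hσ t ht
  have hp : 2 ≤ p := (Fact.out : p.Prime).two_le
  have hgen : Algebra.adjoin R (Set.range u) = ⊤ := by
    have h1 : Set.range u = (Ideal.Quotient.mkₐ R I) '' (Set.range (X : Fin n → MvPolynomial (Fin n) R)) := by
      rw [← Set.range_comp]; rfl
    rw [h1, ← AlgHom.map_adjoin, MvPolynomial.adjoin_range_X, Algebra.map_top,
      AlgHom.range_eq_top]
    exact Ideal.Quotient.mkₐ_surjective R I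
  have hrel : u i₀ ^ p = algebraMap R A ((μ * a i₀) ^ (p - 1)) * u i₀ +
      algebraMap R A (MvPowerSeries.X i₀) := by
    have hmem : (X i₀ ^ p - C ((μ * a i₀) ^ (p - 1)) * X i₀ - C (MvPowerSeries.X i₀) :
        MvPolynomial (Fin n) R) ∈ I := Ideal.subset_span ⟨i₀, rfl⟩
    have h0 := Ideal.Quotient.eq_zero_iff_mem.mpr hmem
    rw [map_sub, map_sub, map_mul, map_pow, sub_sub, sub_eq_zero] at h0
    exact h0
  have hunit : ∀ m : ℕ, 0 < m → m < p → IsUnit ((m : ℕ) : A) := by
    intro m hm0 hmp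
    have hR : IsUnit ((m : ℕ) : R) := by
      rw [MvPowerSeries.isUnit_iff_constantCoeff, map_natCast]
      refine isUnit_iff_ne_zero.mpr ?_
      intro h0
      rw [CharP.cast_eq_zero_iff k p m] at h0
      exact absurd (Nat.le_of_dvd hm0 h0) (by omega)
    have := hR.map (algebraMap R A)
    rwa [map_natCast] at this
  exact general u a μ i₀ p hp hunit hgen _ hrel σ.toAlgHom hσ t ht

end Groth.Agent.S19997
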