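import Groth.Statements.S15808
import Mathlib
import Groth.Agent.S15807
import Groth.Agent.S19997
import Groth.Agent.Lib.Helper24ASFamA
import Groth.Agent.Lib.Helper24ASFamD
import Groth.Agent.Lib.Helper24ASFamG
import Groth.Agent.Lib.Helper28Catenary
import Groth.Agent.Lib.Helper16WildInv
-- import your own Groth.Agent.* helpers here

set_option autoImplicit false
set_option linter.style.haveILetI false
set_option linter.unusedSectionVars false
universe u
open WildQuot

namespace Groth.Agent.S15808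

open MvPolynomial

theorem isIntegrallyClosed_away {B C : Type*} [CommRing B] [CommRing C] [IsDomain C]
    [IsIntegrallyClosed C] (ι : B →+* C) (hι : Function.Injective ι) (s : B) (hs : s ≠ 0)
    (h : ∀ t : C, ∃ N : ℕ, ∃ b : B, ι s ^ N * t = ι b) :
    IsIntegrallyClosed (Localization.Away s) := by
  have hιs : ι s ≠ 0 := fun h0 => hs (hι (h0.trans (map_zero ι).symm))
  have hle : Submonoid.powers (ι s) ≤ nonZeroDivisors C :=
    Submonoid.powers_le.mpr (mem_nonZeroDivisors_of_ne_zero hιs)
  haveI : IsIntegrallyClosed (Localization.Away (ι s)) :=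
    isIntegrallyClosed_of_isLocalization (Localization.Away (ι s)) (Submonoid.powers (ι s)) hle
  have hinjC : Function.Injective (algebraMap C (Localization.Away (ι s))) :=
    IsLocalization.injective (Localization.Away (ι s)) hle
  letI : Algebra B (Localization.Away (ι s)) :=
    ((algebraMap C (Localization.Away (ι s))).comp ι).toAlgebra
  have halg : ∀ b : B, algebraMap B (Localization.Away (ι s)) b =
      algebraMap C (Localization.Away (ι s)) (ι b) := fun _ => rfl
  haveI : IsLocalization (Submonoid.powers s) (Localization.Away (ι s)) := by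
    rw [isLocalization_iff]
    refine ⟨?_, ?_, ?_⟩
    · rintro ⟨y, hy⟩
      obtain ⟨m, rfl⟩ := (Submonoid.mem_powers_iff y s).mp hy
      show IsUnit (algebraMap B (Localization.Away (ι s)) (s ^ m))
      rw [halg, map_pow, map_pow]
      exact (IsLocalization.map_units (Localization.Away (ι s))
        (⟨ι s, Submonoid.mem_powers _⟩ : Submonoid.powers (ι s))).pow m
    · intro z
      obtain ⟨⟨t, y⟩, hz⟩ := IsLocalization.surj (Submonoid.powers (ι s)) z
      obtain ⟨m, hm⟩ := (Submonoid.mem_powers_iff (y : C) (ι s)).mp y.2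
      obtain ⟨N, b, hb⟩ := h t
      refine ⟨⟨b, ⟨s ^ (N + m), (Submonoid.mem_powers_iff _ s).mpr ⟨N + m, rfl⟩⟩⟩, ?_⟩
      have hz' : z * algebraMap C (Localization.Away (ι s)) (y : C) =
          algebraMap C (Localization.Away (ι s)) t := hz
      show z * algebraMap B (Localization.Away (ι s)) (s ^ (N + m)) =
        algebraMap B (Localization.Away (ι s)) b
      rw [halg, halg, ← hb, map_pow, pow_add, map_mul, map_mul, ← hz', ← hm]
      ring
    · intro x y hxy
      rw [halg, halg] at hxy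
      exact ⟨1, by rw [hι (hinjC hxy)]⟩
  exact IsIntegrallyClosed.of_equiv (IsLocalization.algEquiv (Submonoid.powers s)
    (Localization.Away (ι s)) (Localization.Away s)).toRingEquiv

set_option maxHeartbeats 400000 in

open MvPolynomial in
/-- Let `k` be a field of characteristic `p > 0`, `n ≥ 2`, `R = k[[x_1, …, x_n]]`, `a_1, …, a_n ∈ R`
with zero constant term and pairwise coprime, `μ ∈ R` nonzero and coprime to each `a_i`; fix an
index `i₀` and let `B = R[Z_j : j ≠ i₀] / (Z_j ^ p - (μ a_{i₀} a_j) ^ (p-1) Z_j - (a_{i₀} ^ p x_j -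
a_j ^ p x_{i₀}) : j ≠ i₀)`, the complete-intersection ring of the minor elements through `u_{i₀}`.
Then `B` is a free `R`-module of rank `p ^ (n-1)`, `B` is an integral domain, and the localisation
`B[1/(μ a_{i₀})]` is integrally closed. (The published statement uses the first index for `i₀`; this
row allows any index.) -/
theorem result
    (p : ℕ) [Fact p.Prime] (k : Type u) [Field k] [CharP k p] (n : ℕ) (hn : 2 ≤ n)
    (a : Fin n → MvPowerSeries (Fin n) k) (μ : MvPowerSeries (Fin n) k)
    (ham : ∀ i, MvPowerSeries.constantCoeff (a i) = 0) (hcop : ∀ i j, i ≠ j → IsRelPrime (a i) (a j))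
    (hμ : μ ≠ 0) (hμa : ∀ i, IsRelPrime μ (a i)) (i₀ : Fin n) :
    let R := MvPowerSeries (Fin n) k
    let r : {j : Fin n // j ≠ i₀} → MvPolynomial {j : Fin n // j ≠ i₀} R := fun j =>
      X j ^ p - C ((μ * a i₀ * a j.1) ^ (p - 1)) * X j
        - C (a i₀ ^ p * MvPowerSeries.X j.1 - a j.1 ^ p * MvPowerSeries.X i₀)
    let B := MvPolynomial {j : Fin n // j ≠ i₀} R ⧸ Ideal.span (Set.range r)
    Module.Free R B ∧ Module.finrank R B = p ^ (n - 1) ∧ IsDomain B ∧
      IsIntegrallyClosed (Localization.Away (algebraMap R B (μ * a i₀))) := by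
  obtain ⟨m, rfl⟩ : ∃ m, n = m + 1 := ⟨n - 1, by omega⟩
  intro R r B
  classical
  have hp2 : 2 ≤ p := (Fact.out : p.Prime).two_le
  haveI hdomR0 : IsDomain (MvPowerSeries (Fin (m + 1)) k) := NoZeroDivisors.to_isDomain _
  haveI : IsDomain R := hdomR0
  haveI : CharP R p := charP_of_injective_algebraMap (algebraMap k R).injective p
  have ha0 : a i₀ ≠ 0 := by
    intro h0
    obtain ⟨j, hj⟩ : ∃ j : Fin (m + 1), i₀ ≠ j := by
      by_cases h : i₀ = ⟨0, by omega⟩
      · exact ⟨⟨1, by omega⟩, by rw [h]; simp [Fin.ext_iff]⟩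
      · exact ⟨⟨0, by omega⟩, h⟩
    have h1 := hcop i₀ j hj
    rw [h0, isRelPrime_zero_left] at h1
    have h2 := (MvPowerSeries.isUnit_iff_constantCoeff).mp h1
    rw [ham j] at h2
    exact not_isUnit_zero h2
  have hs0 : μ * a i₀ ≠ 0 := mul_ne_zero hμ ha0
  -- Part 1: freeness and rank
  let e : Fin m ≃ {j : Fin (m + 1) // j ≠ i₀} := finSuccAboveEquiv i₀
  let b' : Fin m → R := fun i => (μ * a i₀ * a (e i).1) ^ (p - 1)
  let c' : Fin m → R := fun i =>
    a i₀ ^ p * MvPowerSeries.X (e i).1 - a (e i).1 ^ p * MvPowerSeries.X i₀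
  let φ : MvPolynomial {j : Fin (m + 1) // j ≠ i₀} R ≃ₐ[R] MvPolynomial (Fin m) R :=
    renameEquiv R e.symm
  have hφr : ∀ j, φ (r j) = Groth.Agent.Lib.Helper24ASFamA.fam p b' c' (e.symm j) := by
    intro j
    show rename e.symm (X j ^ p - C ((μ * a i₀ * a j.1) ^ (p - 1)) * X j -
      C (a i₀ ^ p * MvPowerSeries.X j.1 - a j.1 ^ p * MvPowerSeries.X i₀)) = _
    unfold Groth.Agent.Lib.Helper24ASFamA.fam
    simp only [map_sub, map_mul, map_pow, rename_X, rename_C, b', c', Equiv.apply_symm_apply]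
  let ψ1 : B ≃ₐ[R] (MvPolynomial (Fin m) R ⧸ Groth.Agent.Lib.Helper24ASFamA.idl p b' c') :=
    Ideal.quotientEquivAlg (Ideal.span (Set.range r)) (Groth.Agent.Lib.Helper24ASFamA.idl p b' c')
      φ (by
        rw [Ideal.map_span, ← Set.range_comp]
        unfold Groth.Agent.Lib.Helper24ASFamA.idl
        congr 1
        ext q
        constructor
        · rintro ⟨i, rfl⟩
          refine ⟨e i, ?_⟩
          show φ (r (e i)) = _
          rw [hφr, Equiv.symm_apply_apply]
        · rintro ⟨j, rfl⟩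
          exact ⟨e.symm j, (hφr j).symm⟩)
  haveI hfreeQ := Groth.Agent.Lib.Helper24ASFamA.free p b' c' hp2
  have hfree : Module.Free R B := Module.Free.of_equiv ψ1.symm.toLinearEquiv
  have hrank : Module.finrank R B = p ^ (m + 1 - 1) := by
    rw [LinearEquiv.finrank_eq ψ1.toLinearEquiv,
      Groth.Agent.Lib.Helper24ASFamA.finrank_eq p b' c' hp2, Nat.add_sub_cancel]
  -- Part 2: the ring `A` and the embedding
  let a' : Fin (m + 1) → R := fun i => μ * a i
  have ham' : ∀ i, MvPowerSeries.constantCoeff (a' i) = 0 := fun i => by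
    show MvPowerSeries.constantCoeff (μ * a i) = 0
    rw [map_mul, ham i, mul_zero]
  let x : Fin (m + 1) → R := fun i => (MvPowerSeries.X i : R)
  let I : Ideal (MvPolynomial (Fin (m + 1)) R) :=
    Ideal.span (Set.range fun i : Fin (m + 1) =>
      X i ^ p - C ((μ * a i) ^ (p - 1)) * X i - C (MvPowerSeries.X i))
  let A := MvPolynomial (Fin (m + 1)) R ⧸ I
  haveI hRLR : IsRegularLocalRing A :=
    Groth.Agent.Lib.Helper24ASFamC.isRegularLocalRing (p := p) (a := a') ham'
  haveI hdomA : IsDomain A := Groth.Agent.Lib.Helper24ASFamD.isDomain (p := p) (a := a') ham'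
  haveI hicA : IsIntegrallyClosed A :=
    Groth.Agent.Lib.Helper28.isIntegrallyClosed_of_isRegularLocalRing A
  have hinjRA : Function.Injective (algebraMap R A) :=
    Groth.Agent.Lib.Helper24ASFamA.algebraMap_injective p (fun i => a' i ^ (p - 1)) x hp2
  have hI : I = Ideal.span (Set.range (Helper16Diamond.gg (Groth.Agent.S15807.muP p)
      (Groth.Agent.S15807.fP (Groth.Agent.S15807.bU p a μ) x))) := by
    show Ideal.span _ = _
    congr 2
    funext i
    rw [Groth.Agent.S15807.gg_P]; rfl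
  have hr : Ideal.span (Set.range r) = Ideal.span (Set.range (Helper16Diamond.gg
      (Groth.Agent.S15807.muP p) (Groth.Agent.S15807.fP (Groth.Agent.S15807.bZ p a μ i₀)
        (Groth.Agent.S15807.xZ p a x i₀)))) := by
    congr 2
    funext j
    rw [Groth.Agent.S15807.gg_P]; rfl
  have ha : ∀ s : R, s * a i₀ = 0 → s = 0 := fun s h => (mul_eq_zero.mp h).resolve_right ha0
  have hmem : ∀ P : MvPolynomial {j : Fin (m + 1) // j ≠ i₀} R,
      aeval (Groth.Agent.S15807.zz a i₀) P ∈ I ↔ P ∈ Ideal.span (Set.range r) := by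
    intro P
    rw [hI, hr]
    exact Groth.Agent.S15807.mem_iff p a x μ i₀ ha P
  let ψ0 : MvPolynomial {j : Fin (m + 1) // j ≠ i₀} R →ₐ[R] A :=
    (Ideal.Quotient.mkₐ R I).comp (aeval (Groth.Agent.S15807.zz a i₀))
  have hψ0 : ∀ P, ψ0 P = 0 ↔ P ∈ Ideal.span (Set.range r) := by
    intro P
    rw [← hmem P]
    exact Ideal.Quotient.eq_zero_iff_mem
  let ψ : B →ₐ[R] A := Ideal.Quotient.liftₐ (Ideal.span (Set.range r)) ψ0
    (fun P hP => (hψ0 P).mpr hP)
  have hψmk : ∀ P, ψ (Ideal.Quotient.mk _ P) = ψ0 P := fun P => rfl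
  have hψinj : Function.Injective ψ := by
    rw [injective_iff_map_eq_zero]
    intro b hb
    obtain ⟨P, rfl⟩ := Ideal.Quotient.mk_surjective b
    rw [hψmk, hψ0] at hb
    exact Ideal.Quotient.eq_zero_iff_mem.mpr hb
  haveI hdomB : IsDomain B := hψinj.isDomain ψ.toRingHom
  -- Part 4: normality away from `μ a_{i₀}`
  let u : Fin (m + 1) → A := fun i => Ideal.Quotient.mk I (X i)
  let z : {j : Fin (m + 1) // j ≠ i₀} → A := fun j =>
      algebraMap R A (a i₀) * u j.1 - algebraMap R A (a j.1) * u i₀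
  have hψ0z : ∀ P, ψ0 P = aeval z P := by
    intro P
    have h1 : ψ0 = aeval z := by
      apply MvPolynomial.algHom_ext
      intro j
      show Ideal.Quotient.mk I (aeval (Groth.Agent.S15807.zz a i₀) (X j)) = aeval z (X j)
      rw [aeval_X, aeval_X]
      rfl
    rw [h1]
  let σ : A ≃ₐ[R] A := Groth.Agent.Lib.Helper24ASFamG.tau p a' x (fun _ => 1)
  have hσu : ∀ i, σ (u i) = u i + algebraMap R A (μ * a i) := by
    intro i
    have h1 := Groth.Agent.Lib.Helper24ASFamG.tauHom_u p a' x (fun _ => 1) i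
    show Groth.Agent.Lib.Helper24ASFamG.tauHom p a' x (fun _ => 1)
      (Groth.Agent.Lib.Helper24ASFamA.u p (Groth.Agent.Lib.Helper24ASFamG.bA p a') x i) = _
    rw [h1, Groth.Agent.Lib.Helper24ASFamG.tgt, Groth.Agent.Lib.Helper24ASFamG.zc, map_one,
      one_mul]
    rfl
  have hσz : ∀ j, σ (z j) = z j := by
    intro j
    show σ (algebraMap R A (a i₀) * u j.1 - algebraMap R A (a j.1) * u i₀) =
      algebraMap R A (a i₀) * u j.1 - algebraMap R A (a j.1) * u i₀
    simp only [map_sub, map_mul, AlgEquiv.commutes, hσu]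
    ring
  have hσaeval : ∀ P : MvPolynomial {j : Fin (m + 1) // j ≠ i₀} R, σ (aeval z P) = aeval z P := by
    intro P
    induction P using MvPolynomial.induction_on with
    | C c => rw [aeval_C]; exact σ.commutes c
    | add P Q hP hQ => rw [map_add, map_add, hP, hQ]
    | mul_X P j hP => rw [map_mul, map_mul, hP, aeval_X, hσz]
  let G : Subgroup (A ≃ₐ[R] A) := Subgroup.zpowers σ
  let C : Subring A := FixedPoints.subring A ↥G
  have hmemC : ∀ t : A, σ t = t → t ∈ C := by
    intro t ht g
    have hle : G ≤ MulAction.stabilizer (A ≃ₐ[R] A) t := Subgroup.zpowers_le.mpr ht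
    exact hle g.2
  have hCσ : ∀ t : C, σ (t : A) = t := fun t => t.2 ⟨σ, Subgroup.mem_zpowers σ⟩
  haveI : IsIntegrallyClosed C :=
    Groth.Agent.Lib.Helper16.WildInv.isIntegrallyClosed_fixed (A := A) (G := ↥G)
  let ι : B →+* C := (ψ : B →+* A).codRestrict C (fun b => by
    obtain ⟨P, rfl⟩ := Ideal.Quotient.mk_surjective b
    apply hmemC
    show σ (ψ (Ideal.Quotient.mk _ P)) = ψ (Ideal.Quotient.mk _ P)
    rw [hψmk, hψ0z]
    exact hσaeval P)
  have hι : Function.Injective ι := fun b b' h => hψinj (congrArg Subtype.val h)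
  refine ⟨hfree, hrank, hdomB, ?_⟩
  refine isIntegrallyClosed_away ι hι (algebraMap R B (μ * a i₀)) ?_ ?_
  · intro h0
    have h1 : ψ (algebraMap R B (μ * a i₀)) = 0 := by rw [h0, map_zero]
    rw [AlgHom.commutes] at h1
    exact hs0 (hinjRA (h1.trans (map_zero _).symm))
  · intro t
    obtain ⟨N, hN⟩ := Groth.Agent.S19997.result p k (m + 1) hn a μ ham hcop hμ hμa i₀ σ hσu
      (t : A) (hCσ t)
    have hN' : algebraMap R A (μ * a i₀) ^ N * (t : A) ∈
        (aeval z : MvPolynomial {j : Fin (m + 1) // j ≠ i₀} R →ₐ[R] A).range := by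
      rw [← Algebra.adjoin_range_eq_range_aeval R z]
      exact hN
    obtain ⟨P, hP⟩ := hN'
    refine ⟨N, Ideal.Quotient.mk _ P, ?_⟩
    apply Subtype.ext
    show (ψ (algebraMap R B (μ * a i₀))) ^ N * (t : A) = ψ (Ideal.Quotient.mk _ P)
    rw [AlgHom.commutes, hψmk, hψ0z]
    exact hP.symm

end Groth.Agent.S15808
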