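import Groth.Statements.S1581
import Mathlib

set_option autoImplicit false
universe u
open CategoryTheory CategoryTheory.Limits AlgebraicGeometry
open Variety

namespace Groth.Agent.S1581

/-- Let X be a scheme over a field k and K a field extension of k. If X_K is proper over K then X is
proper over k. -/
theorem result (k : Type u) [Field k] (X : Scheme.{u}) [X.Over (Spec (CommRingCat.of k))] (K : Type u) [Field K] [Algebra k K]
    [IsProper (Curv2.bcSnd k X K)] : IsProper (X ↘ (Spec (CommRingCat.of k))) := by
  set f := X ↘ (Spec (CommRingCat.of k)) with hf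
  set g := Spec.map (CommRingCat.ofHom (algebraMap k K)) with hg
  have hfl : Flat g := by
    rw [hg, HasRingHomProperty.Spec_iff (P := @Flat)]
    rw [CommRingCat.hom_ofHom, RingHom.flat_algebraMap_iff]
    infer_instance
  have hsurj : Surjective g := by
    constructor
    intro x
    refine ⟨⟨⊥, Ideal.isPrime_bot⟩, ?_⟩
    exact Subsingleton.elim (α := PrimeSpectrum k) _ _
  have hQ : (@Surjective ⊓ @Flat ⊓ @QuasiCompact : MorphismProperty Scheme.{u}) g :=
    ⟨⟨hsurj, hfl⟩, inferInstance⟩
  have hprop : IsProper (pullback.snd f g) := ‹IsProper (Curv2.bcSnd k X K)›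
  have huc : UniversallyClosed f :=
    MorphismProperty.of_pullback_snd_of_descendsAlong (P := @UniversallyClosed)
      (Q := (@Surjective ⊓ @Flat ⊓ @QuasiCompact : MorphismProperty Scheme.{u})) hQ inferInstance
  have hlft : LocallyOfFiniteType f :=
    MorphismProperty.of_pullback_snd_of_descendsAlong (P := @LocallyOfFiniteType)
      (Q := (@Surjective ⊓ @Flat ⊓ @QuasiCompact : MorphismProperty Scheme.{u})) hQ inferInstance
  have hdiag : UniversallyClosed (pullback.diagonal f) := by
    have h1 : MorphismProperty.diagonal @UniversallyClosed (pullback.snd f g) := by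
      change UniversallyClosed (pullback.diagonal (pullback.snd f g))
      infer_instance
    exact MorphismProperty.of_pullback_snd_of_descendsAlong
      (P := MorphismProperty.diagonal @UniversallyClosed)
      (Q := (@Surjective ⊓ @Flat ⊓ @QuasiCompact : MorphismProperty Scheme.{u})) hQ h1
  have hsep : IsSeparated f :=
    ⟨IsClosedImmersion.of_isPreimmersion _ (pullback.diagonal f).isClosedMap.isClosed_range⟩
  exact { }

end Groth.Agent.S1581
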