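import Groth.Statements.S15810
import Mathlib
import Groth.Agent.S19997
import Groth.Agent.Lib.Helper24ASFamA
import Groth.Agent.Lib.Helper24ASFamD
import Groth.Agent.Lib.Helper19PsDim
import Groth.Agent.Lib.Helper13AusBuchUFD
-- import your own Groth.Agent.* helpers here

set_option autoImplicit false
set_option linter.style.haveILetI false
set_option linter.unusedSectionVars false
universe u
open WildQuot

namespace Groth.Agent.S15810

section Prod

variable {R A : Type*} [CommRing R] [CommRing A] [Algebra R A] {n : ℕ}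
  (σ : Fin n → (A ≃ₐ[R] A)) (u : Fin n → A) (cc : Fin n → R)
  (hσ : ∀ i j, σ i (u j) = u j + (if i = j then algebraMap R A (cc i) else 0))

include hσ in
theorem pow_apply_u (i j : Fin n) (e : ℕ) :
    (σ i ^ e) (u j) = u j + (if i = j then algebraMap R A ((e : R) * cc i) else 0) := by
  induction e with
  | zero =>
    rw [pow_zero, AlgEquiv.one_apply]
    split_ifs
    · rw [Nat.cast_zero, zero_mul, map_zero, add_zero]
    · rw [add_zero]
  | succ e ih =>
    rw [pow_succ, AlgEquiv.mul_apply, hσ, map_add, ih]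
    split_ifs with h
    · rw [AlgEquiv.commutes, add_assoc, ← map_add]
      congr 2
      push_cast
      ring
    · simp

include hσ in
theorem list_prod_apply_u (m : Fin n → ℕ) (l : Fin n) (L : List (Fin n)) :
    (L.map fun i => σ i ^ m i).prod (u l) =
      u l + algebraMap R A ((L.map fun i => if i = l then (m i : R) * cc i else 0).sum) := by
  induction L with
  | nil => simp
  | cons i L ih =>
    rw [List.map_cons, List.prod_cons, AlgEquiv.mul_apply, ih, map_add, AlgEquiv.commutes,
      pow_apply_u σ u cc hσ, List.map_cons, List.sum_cons, map_add]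
    split_ifs with h
    · rw [add_assoc]
    · rw [map_zero, add_zero, zero_add]

include hσ in
theorem ofFn_prod_apply_u (m : Fin n → ℕ) (l : Fin n) :
    (List.ofFn fun i => σ i ^ m i).prod (u l) = u l + algebraMap R A ((m l : R) * cc l) := by
  rw [List.ofFn_eq_map, list_prod_apply_u σ u cc hσ m l, ← List.ofFn_eq_map, List.sum_ofFn,
    Finset.sum_ite_eq' Finset.univ l, if_pos (Finset.mem_univ l)]

end Prod

section Gen2

open Polynomial

variable {R A : Type*} [CommRing R] [CommRing A] [Algebra R A]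

theorem exists_poly_insert (S : Subalgebra R A) (w : A) (t : A)
    (ht : t ∈ Algebra.adjoin R (insert w (S : Set A))) : ∃ P : S[X], t = aeval w P := by
  induction ht using Algebra.adjoin_induction with
  | mem x hx =>
    rcases hx with hxw | hx
    · exact ⟨X, by rw [aeval_X, hxw]⟩
    · exact ⟨C ⟨x, hx⟩, by rw [aeval_C]; rfl⟩
  | algebraMap r => exact ⟨C (algebraMap R S r), by rw [aeval_C]; rfl⟩
  | add x y _ _ hx hy =>
    obtain ⟨P, rfl⟩ := hx
    obtain ⟨Q, rfl⟩ := hy
    exact ⟨P + Q, (map_add _ _ _).symm⟩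
  | mul x y _ _ hx hy =>
    obtain ⟨P, rfl⟩ := hx
    obtain ⟨Q, rfl⟩ := hy
    exact ⟨P * Q, (map_mul _ _ _).symm⟩

variable {ι : Type*} [DecidableEq ι] (u : ι → A) (z : A) (i1 : ι)

theorem exists_pow_mem_start [Fintype ι] (hgen : Algebra.adjoin R (Set.range u) = ⊤) (d : R)
    (hd1 : algebraMap R A d * u i1 ∈
      Algebra.adjoin R (insert z (u '' ((Finset.univ.erase i1 : Finset ι) : Set ι))))
    (t : A) : ∃ N : ℕ, algebraMap R A d ^ N * t ∈
      Algebra.adjoin R (insert z (u '' ((Finset.univ.erase i1 : Finset ι) : Set ι))) := by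
  set S := Algebra.adjoin R (insert z (u '' ((Finset.univ.erase i1 : Finset ι) : Set ι))) with hS
  have ht : t ∈ Algebra.adjoin R (Set.range u) := by rw [hgen]; trivial
  induction ht using Algebra.adjoin_induction with
  | mem x hx =>
    obtain ⟨l, rfl⟩ := hx
    by_cases hl : l = i1
    · exact ⟨1, by rw [hl, pow_one]; exact hd1⟩
    · refine ⟨0, ?_⟩
      rw [pow_zero, one_mul]
      refine Algebra.subset_adjoin (Set.mem_insert_of_mem _ ⟨l, ?_, rfl⟩)
      exact Finset.mem_coe.mpr (Finset.mem_erase.mpr ⟨hl, Finset.mem_univ l⟩)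
  | algebraMap r => exact ⟨0, by rw [pow_zero, one_mul]; exact Subalgebra.algebraMap_mem _ r⟩
  | add x y _ _ hx hy =>
    obtain ⟨N₁, h₁⟩ := hx
    obtain ⟨N₂, h₂⟩ := hy
    refine ⟨N₁ + N₂, ?_⟩
    have : algebraMap R A d ^ (N₁ + N₂) * (x + y) =
        algebraMap R A d ^ N₂ * (algebraMap R A d ^ N₁ * x) +
          algebraMap R A d ^ N₁ * (algebraMap R A d ^ N₂ * y) := by ring
    rw [this]
    exact S.add_mem (S.mul_mem (S.pow_mem (S.algebraMap_mem d) _) h₁)
      (S.mul_mem (S.pow_mem (S.algebraMap_mem d) _) h₂)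
  | mul x y _ _ hx hy =>
    obtain ⟨N₁, h₁⟩ := hx
    obtain ⟨N₂, h₂⟩ := hy
    refine ⟨N₁ + N₂, ?_⟩
    have : algebraMap R A d ^ (N₁ + N₂) * (x * y) =
        (algebraMap R A d ^ N₁ * x) * (algebraMap R A d ^ N₂ * y) := by ring
    rw [this]
    exact S.mul_mem h₁ h₂

theorem descend_all (p : ℕ) (hp : 2 ≤ p)
    (hunit : ∀ m : ℕ, 0 < m → m < p → IsUnit ((m : ℕ) : A))
    (β ξ : ι → R) (hrel : ∀ j, u j ^ p = algebraMap R A (β j) * u j + algebraMap R A (ξ j))
    (cc : ι → R) (d : R) (hcd : ∀ j, j ≠ i1 → cc j ∣ d)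
    (τ : ι → A →ₐ[R] A) (hτz : ∀ j, j ≠ i1 → τ j z = z)
    (hτu : ∀ j l, j ≠ i1 → l ≠ i1 → l ≠ j → τ j (u l) = u l)
    (hτj : ∀ j, j ≠ i1 → τ j (u j) = u j + algebraMap R A (cc j))
    (t : A) (ht : ∀ j, j ≠ i1 → τ j t = t) (J : Finset ι) :
    (∀ j ∈ J, j ≠ i1) →
    (∃ N : ℕ, algebraMap R A d ^ N * t ∈ Algebra.adjoin R (insert z (u '' (J : Set ι)))) →
    ∃ N : ℕ, algebraMap R A d ^ N * t ∈ Algebra.adjoin R {z} := by
  classical
  rcases subsingleton_or_nontrivial A with hA | hA
  · intro _ _
    exact ⟨0, by rw [Subsingleton.elim (_ * t) 0]; exact zero_mem _⟩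
  induction J using Finset.induction_on with
  | empty =>
    intro _ h
    simpa using h
  | insert j J hj ih =>
    rintro hJ ⟨N, hN⟩
    have hj1 : j ≠ i1 := hJ j (Finset.mem_insert_self j J)
    have hJ' : ∀ l ∈ J, l ≠ i1 := fun l hl => hJ l (Finset.mem_insert_of_mem hl)
    apply ih hJ'
    set S := Algebra.adjoin R (insert z (u '' (J : Set ι))) with hS
    set t' := algebraMap R A d ^ N * t with ht'
    have hmem : t' ∈ Algebra.adjoin R (insert (u j) (S : Set A)) := by
      refine Algebra.adjoin_mono ?_ hN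
      intro x hx
      rcases hx with hxz | ⟨l, hl, rfl⟩
      · rw [hxz]
        exact Set.mem_insert_of_mem _ (Algebra.subset_adjoin (Set.mem_insert _ _))
      · rw [Finset.coe_insert] at hl
        rcases hl with hlj | hl
        · rw [hlj]
          exact Set.mem_insert _ _
        · exact Set.mem_insert_of_mem _
            (Algebra.subset_adjoin (Set.mem_insert_of_mem _ ⟨l, hl, rfl⟩))
    obtain ⟨P, hP⟩ := exists_poly_insert S (u j) t' hmem
    have hσS : ∀ s ∈ S, τ j s = s := by
      intro s hs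
      have hle : S ≤ AlgHom.equalizer (τ j) (AlgHom.id R A) := by
        rw [hS]
        refine Algebra.adjoin_le ?_
        intro x hx
        rw [SetLike.mem_coe, AlgHom.mem_equalizer, AlgHom.coe_id, id_eq]
        rcases hx with hxz | ⟨l, hl, rfl⟩
        · rw [hxz]
          exact hτz j hj1
        · have hlJ : l ∈ J := hl
          refine hτu j l hj1 (hJ' l hlJ) ?_
          intro hlj
          exact hj (hlj ▸ hlJ)
      exact hle hs
    have htinv : τ j t' = t' := by
      rw [ht', map_mul, map_pow, AlgHom.commutes, ht j hj1]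
    let q : S[X] := X ^ p - (C (algebraMap R S (β j)) * X + C (algebraMap R S (ξ j)))
    have hqm : q.Monic := by
      apply monic_X_pow_sub
      refine lt_of_le_of_lt (degree_add_le _ _) ?_
      refine max_lt ?_ ?_
      · refine lt_of_le_of_lt (degree_C_mul_X_le _) ?_
        exact_mod_cast (by omega : 1 < p)
      · refine lt_of_le_of_lt degree_C_le ?_
        exact_mod_cast (by omega : 0 < p)
    have hq0 : aeval (u j) q = 0 := by
      have : aeval (u j) q = u j ^ p -
          (algebraMap R A (β j) * u j + algebraMap R A (ξ j)) := by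
        simp only [q, map_sub, map_add, _root_.map_mul (aeval (u j)), map_pow (aeval (u j)),
          aeval_X, aeval_C]
        rfl
      rw [this, hrel, sub_self]
    have hqdeg : q.natDegree ≤ p := by
      refine (natDegree_sub_le _ _).trans (max_le (natDegree_X_pow_le _) ?_)
      refine (natDegree_add_le _ _).trans (max_le ?_ ?_)
      · exact (natDegree_C_mul_le _ _).trans (natDegree_X_le.trans (by omega))
      · rw [natDegree_C]; omega
    have hq1 : q ≠ 1 := by
      intro h1
      rw [h1, map_one] at hq0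
      exact one_ne_zero hq0
    have hP' : aeval (u j) (P %ₘ q) = aeval (u j) P := by
      conv_rhs => rw [← modByMonic_add_div P q]
      rw [map_add, _root_.map_mul (aeval (u j)), hq0, zero_mul, add_zero]
    have hdeg : (P %ₘ q).natDegree ≤ p - 1 := by
      have := natDegree_modByMonic_lt P hqm hq1
      omega
    obtain ⟨N', hN'⟩ := Groth.Agent.S19997.descend S (τ j) hσS (u j) (cc j) (hτj j hj1) p hunit
      t' htinv (p - 1) (by omega) (P %ₘ q) hdeg 0 (by rw [pow_zero, one_mul, hP']; exact hP)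
    obtain ⟨e, he⟩ := hcd j hj1
    refine ⟨N' + N, ?_⟩
    have : algebraMap R A d ^ (N' + N) * t =
        algebraMap R A e ^ N' * (algebraMap R A (cc j) ^ N' * t') := by
      rw [ht', he, map_mul]; ring
    rw [this]
    exact S.mul_mem (S.pow_mem (S.algebraMap_mem e) _) hN'

theorem general2 [Fintype ι] (p : ℕ) (hp : 2 ≤ p)
    (hunit : ∀ m : ℕ, 0 < m → m < p → IsUnit ((m : ℕ) : A))
    (hgen : Algebra.adjoin R (Set.range u) = ⊤)
    (β ξ : ι → R) (hrel : ∀ j, u j ^ p = algebraMap R A (β j) * u j + algebraMap R A (ξ j))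
    (cc : ι → R) (d : R) (hcd : ∀ j, j ≠ i1 → cc j ∣ d)
    (hd1 : algebraMap R A d * u i1 ∈
      Algebra.adjoin R (insert z (u '' ((Finset.univ.erase i1 : Finset ι) : Set ι))))
    (τ : ι → A →ₐ[R] A) (hτz : ∀ j, j ≠ i1 → τ j z = z)
    (hτu : ∀ j l, j ≠ i1 → l ≠ i1 → l ≠ j → τ j (u l) = u l)
    (hτj : ∀ j, j ≠ i1 → τ j (u j) = u j + algebraMap R A (cc j))
    (t : A) (ht : ∀ j, j ≠ i1 → τ j t = t) :
    ∃ N : ℕ, algebraMap R A d ^ N * t ∈ Algebra.adjoin R {z} :=
  descend_all u z i1 p hp hunit β ξ hrel cc d hcd τ hτz hτu hτj t ht (Finset.univ.erase i1)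
    (fun _ hj => Finset.ne_of_mem_erase hj) (exists_pow_mem_start u z i1 hgen d hd1 t)

end Gen2

section Coeff

open MvPolynomial Groth.Agent.Lib.Helper24ASFamA Groth.Agent.Lib.Helper24GB

variable {R : Type*} [CommRing R] [Nontrivial R] {n : ℕ} (p : ℕ) (b c : Fin n → R)

theorem dvd_coeff_mul_pow (hp : 2 ≤ p) (lam : Fin n → R) (T : Finset (Fin n)) (P : Polynomial R)
    (hP : P.natDegree < p) (d : R) (t : MvPolynomial (Fin n) R ⧸ idl p b c)
    (h : Polynomial.aeval (Ideal.Quotient.mk (idl p b c) (∑ i ∈ T, C (lam i) * X i)) P =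
      algebraMap R (MvPolynomial (Fin n) R ⧸ idl p b c) d * t) (i : Fin n) (hi : i ∈ T) (l : ℕ) :
    d ∣ P.coeff l * lam i ^ l := by
  classical
  obtain ⟨T0, rfl⟩ := Ideal.Quotient.mk_surjective t
  obtain ⟨r, hr1, hr2⟩ := exists_reduced (m := mo n) (hmon_fam p b c hp) T0
  set Z : MvPolynomial (Fin n) R := ∑ i ∈ T, C (lam i) * X i with hZ
  set PZ : MvPolynomial (Fin n) R := Polynomial.aeval Z P with hPZ
  have hmkPZ : Ideal.Quotient.mk (idl p b c) PZ =
      Polynomial.aeval (Ideal.Quotient.mk (idl p b c) Z) P :=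
    (Polynomial.aeval_algHom_apply (Ideal.Quotient.mkₐ R (idl p b c)) Z P).symm
  have hC : algebraMap R (MvPolynomial (Fin n) R ⧸ idl p b c) d =
      Ideal.Quotient.mk (idl p b c) (C d) := rfl
  have hr1' : T0 - r ∈ idl p b c := hr1
  have hQI : PZ - C d * r ∈ idl p b c := by
    rw [← Ideal.Quotient.eq_zero_iff_mem, map_sub, hmkPZ, h, hC, map_mul, ← mul_sub, ← map_sub,
      Ideal.Quotient.eq_zero_iff_mem.mpr hr1', mul_zero]
  have htd : PZ.totalDegree ≤ P.natDegree := by
    rw [hPZ, Polynomial.aeval_eq_sum_range]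
    refine totalDegree_finsetSum_le fun l hl => ?_
    refine (totalDegree_smul_le _ _).trans ?_
    refine (totalDegree_pow _ _).trans ?_
    have hZ1 : Z.totalDegree ≤ 1 := by
      rw [hZ]
      refine totalDegree_finsetSum_le fun i _ => ?_
      refine (totalDegree_mul _ _).trans ?_
      rw [totalDegree_C, totalDegree_X, zero_add]
    calc l * Z.totalDegree ≤ l * 1 := Nat.mul_le_mul_left _ hZ1
      _ = l := mul_one l
      _ ≤ P.natDegree := by have := Finset.mem_range.mp hl; omega
  have hred : Reduced (mo n) (Set.range (fam p b c)) (PZ - C d * r) := by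
    intro κ hκ g hg hle
    obtain ⟨i', rfl⟩ := hg
    rcases Finset.mem_union.mp (support_sub _ _ _ hκ) with h1 | h2
    · rw [fam_degree p b c hp] at hle
      have h3 := hle i'
      rw [Finsupp.single_eq_same] at h3
      have h4 : κ i' ≤ PZ.totalDegree :=
        (monomial_le_degreeOf i' h1).trans (degreeOf_le_totalDegree _ _)
      omega
    · rw [C_mul'] at h2
      exact (hr2.smul d) κ h2 _ ⟨i', rfl⟩ hle
  have hQ0 : PZ - C d * r = 0 := eq_zero_of_reduced (hasLM_fam p b c hp) hQI hred
  have hEq : PZ = C d * r := sub_eq_zero.mp hQ0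
  let ev : MvPolynomial (Fin n) R →ₐ[R] Polynomial R :=
    MvPolynomial.aeval (fun j => if j = i then Polynomial.X else 0)
  have hevZ : ev Z = Polynomial.C (lam i) * Polynomial.X := by
    rw [hZ, map_sum]
    simp only [map_mul, ev, aeval_C, aeval_X, mul_ite, mul_zero]
    rw [Finset.sum_ite_eq' T i, if_pos hi, ← Polynomial.C_eq_algebraMap]
  have hevPZ : ev PZ = P.comp (Polynomial.C (lam i) * Polynomial.X) := by
    rw [hPZ, ← Polynomial.aeval_algHom_apply, hevZ, Polynomial.comp_eq_aeval]
  have hevC : ev (C d) = Polynomial.C d := by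
    simp only [ev, aeval_C]
    exact (Polynomial.C_eq_algebraMap d).symm
  have hfin : P.comp (Polynomial.C (lam i) * Polynomial.X) = Polynomial.C d * ev r := by
    rw [← hevPZ, hEq, map_mul, hevC]
  have := congrArg (fun q => Polynomial.coeff q l) hfin
  simp only [Polynomial.comp_C_mul_X_coeff, Polynomial.coeff_C_mul] at this
  exact ⟨_, this⟩

end Coeff

theorem isRelPrime_pow_right {M : Type*} [CommMonoid M] [DecompositionMonoid M] {x y : M}
    (h : IsRelPrime x y) (l : ℕ) : IsRelPrime x (y ^ l) := by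
  induction l with
  | zero => rw [pow_zero]; exact isRelPrime_one_right
  | succ l ih => rw [pow_succ]; exact ih.mul_right h


section Core

variable {R A : Type*} [CommRing R] [IsDomain R] [UniqueFactorizationMonoid R]
  [CommRing A] [IsDomain A] [Algebra R A]

theorem core (p : ℕ) [Fact p.Prime] [CharP R p] (n : ℕ)
    (hinjRA : Function.Injective (algebraMap R A))
    (a : Fin n → R) (μ : R) (ha0 : ∀ j, a j ≠ 0)
    (hcop : ∀ i j, i ≠ j → IsRelPrime (a i) (a j)) (hμ : μ ≠ 0) (hμa : ∀ i, IsRelPrime μ (a i))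
    (s : Fin n → ZMod p) (hs : s ≠ 0) (γ : ZMod p →+* R) (x : Fin n → R)
    (u : Fin n → A) (hgen : Algebra.adjoin R (Set.range u) = ⊤)
    (hrel : ∀ j, u j ^ p = algebraMap R A ((μ * a j) ^ (p - 1)) * u j + algebraMap R A (x j))
    (hunit : ∀ m : ℕ, 0 < m → m < p → IsUnit ((m : ℕ) : A))
    (hkeyAbs : ∀ (lam : Fin n → R) (T : Finset (Fin n)) (P : Polynomial R), P.natDegree < p →
      ∀ (g : R) (t : A),
        Polynomial.aeval (∑ i ∈ T, algebraMap R A (lam i) * u i) P = algebraMap R A g * t →
        ∀ i ∈ T, ∀ l : ℕ, g ∣ P.coeff l * lam i ^ l)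
    (σ : Fin n → (A ≃ₐ[R] A))
    (hσ : ∀ i j, σ i (u j) = u j + (if i = j then algebraMap R A (μ * a i) else 0)) :
    let c : Fin n → R := fun i => γ (s i)
    let α : R := ∏ i ∈ Finset.univ.filter (fun i => s i ≠ 0), a i
    let αi : Fin n → R := fun i => ∏ j ∈ (Finset.univ.filter (fun j => s j ≠ 0)).erase i, a j
    let z : A := ∑ i ∈ Finset.univ.filter (fun i => s i ≠ 0), algebraMap R A (c i * αi i) * u i
    let f : Polynomial R := Polynomial.X ^ p - Polynomial.C ((μ * α) ^ (p - 1)) * Polynomial.X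
      - Polynomial.C (∑ i ∈ Finset.univ.filter (fun i => s i ≠ 0), c i * αi i ^ p * x i)
    (∀ t : A, (∀ ν : Fin n → ZMod p, ∑ i, ν i * s i = 0 →
          (List.ofFn (fun i : Fin n => σ i ^ (ν i).val)).prod t = t) ↔
        t ∈ (Polynomial.aeval z : Polynomial R →ₐ[R] A).range) ∧
      RingHom.ker (Polynomial.aeval z : Polynomial R →ₐ[R] A) = Ideal.span {f} := by
  intro c α αi z f
  have hp2 : 2 ≤ p := (Fact.out : p.Prime).two_le
  haveI : CharP A p := charP_of_injective_algebraMap hinjRA p
  haveI : ExpChar A p := ExpChar.prime (Fact.out : p.Prime)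
  let b : Fin n → R := fun i => (μ * a i) ^ (p - 1)
  -- basic data
  let supp : Finset (Fin n) := Finset.univ.filter (fun i => s i ≠ 0)
  have hcγ : ∀ i, c i = γ (s i) := fun i => rfl
  have hα : α = ∏ i ∈ supp, a i := rfl
  have hαi : ∀ i, αi i = ∏ j ∈ supp.erase i, a j := fun i => rfl
  have hz : z = ∑ i ∈ supp, algebraMap R A (c i * αi i) * u i := rfl
  have hmem_supp : ∀ i, i ∈ supp ↔ s i ≠ 0 := fun i => by simp [supp]
  obtain ⟨i1, hi1⟩ : ∃ i, s i ≠ 0 := by
    by_contra hcon
    push Not at hcon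
    exact hs (funext hcon)
  have hi1s : i1 ∈ supp := (hmem_supp i1).mpr hi1
  have hαmul : ∀ i ∈ supp, αi i * a i = α := fun i hi => by
    rw [mul_comm]
    exact Finset.mul_prod_erase supp a hi
  have hcunit : ∀ i, s i ≠ 0 → IsUnit (c i) := fun i hi => (IsUnit.mk0 (s i) hi).map γ
  have hγval : ∀ v : ZMod p, ((v.val : ℕ) : R) = γ v := fun v => by
    rw [← map_natCast γ, ZMod.natCast_zmod_val]
  have hcpow : ∀ i, c i ^ p = c i := fun i => by
    rw [hcγ, ← map_pow, ZMod.pow_card]
  have hαi0 : ∀ i, αi i ≠ 0 := fun i => Finset.prod_ne_zero_iff.mpr fun j _ => ha0 j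
  -- the action of products
  have hprod : ∀ (ν : Fin n → ZMod p) (l : Fin n),
      (List.ofFn (fun i : Fin n => σ i ^ (ν i).val)).prod (u l) =
        u l + algebraMap R A (γ (ν l) * (μ * a l)) := by
    intro ν l
    rw [ofFn_prod_apply_u σ u (fun i => μ * a i) hσ (fun i => (ν i).val) l, hγval]
  have hprodz : ∀ ν : Fin n → ZMod p,
      (List.ofFn (fun i : Fin n => σ i ^ (ν i).val)).prod z =
        z + algebraMap R A (μ * α * γ (∑ i, ν i * s i)) := by
    intro ν
    have h1 : ∀ i ∈ supp, algebraMap R A (c i * αi i) * algebraMap R A (γ (ν i) * (μ * a i)) =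
        algebraMap R A (μ * α * γ (ν i * s i)) := by
      intro i hi
      rw [← map_mul]
      congr 1
      rw [map_mul γ, ← hαmul i hi, hcγ]
      ring
    have h2 : ∑ i ∈ supp, ν i * s i = ∑ i, ν i * s i := by
      show ∑ i ∈ Finset.univ.filter (fun i => s i ≠ 0), ν i * s i = _
      rw [Finset.sum_filter]
      refine Finset.sum_congr rfl fun i _ => ?_
      split_ifs with h
      · rfl
      · rw [not_not.mp h, mul_zero]
    have h3 : ∀ i ∈ supp, (List.ofFn (fun i : Fin n => σ i ^ (ν i).val)).prod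
        (algebraMap R A (c i * αi i) * u i) =
        algebraMap R A (c i * αi i) * u i + algebraMap R A (μ * α * γ (ν i * s i)) := by
      intro i hi
      rw [_root_.map_mul (List.ofFn (fun i : Fin n => σ i ^ (ν i).val)).prod, AlgEquiv.commutes,
        hprod ν, mul_add, h1 i hi]
    rw [hz, map_sum, Finset.sum_congr rfl h3, Finset.sum_add_distrib, ← map_sum, ← Finset.mul_sum,
      ← map_sum γ, h2]
  -- f(z) = 0
  have hpp : ∀ y : R, y ^ p = y ^ (p - 1) * y := fun y => by
    rw [← pow_succ, Nat.sub_add_cancel (by omega)]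
  have hzp : z ^ p = algebraMap R A ((μ * α) ^ (p - 1)) * z +
      algebraMap R A (∑ i ∈ supp, c i * αi i ^ p * x i) := by
    rw [hz, sum_pow_char (R := A) p, Finset.mul_sum, map_sum, ← Finset.sum_add_distrib]
    refine Finset.sum_congr rfl fun i hi => ?_
    have e1 : (c i * αi i) ^ p * (μ * a i) ^ (p - 1) = (μ * α) ^ (p - 1) * (c i * αi i) := by
      rw [mul_pow, hcpow, hpp (αi i), ← hαmul i hi]
      simp only [mul_pow]
      ring
    have e2 : (c i * αi i) ^ p * x i = c i * αi i ^ p * x i := by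
      rw [mul_pow, hcpow]
    calc (algebraMap R A (c i * αi i) * u i) ^ p
        = algebraMap R A ((c i * αi i) ^ p * (μ * a i) ^ (p - 1)) * u i +
            algebraMap R A ((c i * αi i) ^ p * x i) := by
          have h5 : (algebraMap R A (c i * αi i) * u i) ^ p =
              algebraMap R A (c i * αi i) ^ p * u i ^ p := mul_pow _ _ _
          have hrel' : u i ^ p = algebraMap R A ((μ * a i) ^ (p - 1)) * u i +
              algebraMap R A (x i) := hrel i
          rw [h5, hrel']
          simp only [map_mul, map_pow]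
          ring
      _ = _ := by
          rw [e1, e2, map_mul]
          ring
  have hfz : Polynomial.aeval z f = 0 := by
    show Polynomial.aeval z (Polynomial.X ^ p - Polynomial.C ((μ * α) ^ (p - 1)) * Polynomial.X -
      Polynomial.C (∑ i ∈ supp, c i * αi i ^ p * x i)) = 0
    rw [map_sub, map_sub, Polynomial.aeval_X_pow, map_mul, Polynomial.aeval_C, Polynomial.aeval_X,
      Polynomial.aeval_C, hzp]
    ring
  have hfeq : f = Polynomial.X ^ p - (Polynomial.C ((μ * α) ^ (p - 1)) * Polynomial.X +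
      Polynomial.C (∑ i ∈ supp, c i * αi i ^ p * x i)) := sub_sub _ _ _
  have hfm : f.Monic := by
    rw [hfeq]
    apply Polynomial.monic_X_pow_sub
    refine lt_of_le_of_lt (Polynomial.degree_add_le _ _) ?_
    refine max_lt ?_ ?_
    · refine lt_of_le_of_lt (Polynomial.degree_C_mul_X_le _) ?_
      exact_mod_cast (by omega : 1 < p)
    · refine lt_of_le_of_lt Polynomial.degree_C_le ?_
      exact_mod_cast (by omega : 0 < p)
  have hfdeg : f.natDegree ≤ p := by
    rw [hfeq]
    refine (Polynomial.natDegree_sub_le _ _).trans (max_le (Polynomial.natDegree_X_pow_le _) ?_)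
    refine (Polynomial.natDegree_add_le _ _).trans (max_le ?_ ?_)
    · exact (Polynomial.natDegree_C_mul_le _ _).trans (Polynomial.natDegree_X_le.trans (by omega))
    · rw [Polynomial.natDegree_C]; omega
  have hf1 : f ≠ 1 := by
    intro h1
    rw [h1, map_one] at hfz
    exact one_ne_zero hfz
  have hmodz : ∀ P0 : Polynomial R, Polynomial.aeval z (P0 %ₘ f) = Polynomial.aeval z P0 := by
    intro P0
    conv_rhs => rw [← Polynomial.modByMonic_add_div P0 f]
    rw [map_add, map_mul, hfz, zero_mul, add_zero]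
  have hmoddeg : ∀ P0 : Polynomial R, (P0 %ₘ f).natDegree < p := by
    intro P0
    have := Polynomial.natDegree_modByMonic_lt P0 hfm hf1
    omega
  -- the key divisibility
  have hkey : ∀ (P : Polynomial R), P.natDegree < p → ∀ (g : R) (t : A),
      Polynomial.aeval z P = algebraMap R A g * t → ∀ i ∈ supp, ∀ l : ℕ,
        g ∣ P.coeff l * (c i * αi i) ^ l := by
    intro P hP g t h i hi l
    exact hkeyAbs (fun i => c i * αi i) supp P hP g t h i hi l
  set Rz := (Polynomial.aeval z : Polynomial R →ₐ[R] A).range with hRz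
  have hcore : ∀ (g : R) (i : Fin n), i ∈ supp → g ≠ 0 → IsRelPrime g (αi i) →
      ∀ t : A, algebraMap R A g * t ∈ Rz → t ∈ Rz := by
    rintro g i hi hg0 hrp t ⟨P0, hP0⟩
    have hPz : Polynomial.aeval z (P0 %ₘ f) = algebraMap R A g * t := by
      rw [hmodz]; exact hP0
    have hrp' : IsRelPrime g (c i * αi i) :=
      (hcunit i ((hmem_supp i).mp hi)).isRelPrime_right.mul_right hrp
    have hdvd : ∀ l, g ∣ (P0 %ₘ f).coeff l := fun l =>
      (isRelPrime_pow_right hrp' l).dvd_of_dvd_mul_right
        (hkey (P0 %ₘ f) (hmoddeg P0) g t hPz i hi l)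
    obtain ⟨P', hP'⟩ := (Polynomial.C_dvd_iff_dvd_coeff g (P0 %ₘ f)).mpr hdvd
    refine ⟨P', ?_⟩
    have h3 : algebraMap R A g * Polynomial.aeval z P' = algebraMap R A g * t := by
      rw [← hPz, hP', map_mul, Polynomial.aeval_C]
    exact mul_left_cancel₀ (fun h0 => hg0 (hinjRA (h0.trans (map_zero _).symm))) h3
  have hrpa : ∀ j i, j ∉ supp.erase i → IsRelPrime (a j) (αi i) := by
    intro j i hj
    refine IsRelPrime.prod_right fun j' hj' => ?_
    exact hcop j j' (fun h => hj (h ▸ hj'))
  have hrpμ : ∀ i, IsRelPrime μ (αi i) := fun i => IsRelPrime.prod_right fun j' _ => hμa j'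
  have hgoodμ : ∀ t, algebraMap R A μ * t ∈ Rz → t ∈ Rz := hcore μ i1 hi1s hμ (hrpμ i1)
  have hgooda : ∀ j t, algebraMap R A (a j) * t ∈ Rz → t ∈ Rz := by
    intro j
    by_cases hj : j ∈ supp
    · exact hcore (a j) j hj (ha0 j) (hrpa j j (Finset.notMem_erase j supp))
    · exact hcore (a j) i1 hi1s (ha0 j) (hrpa j i1 (fun h => hj (Finset.mem_of_mem_erase h)))
  have hgoodprod : ∀ (T : Finset (Fin n)) t, algebraMap R A (∏ j ∈ T, a j) * t ∈ Rz → t ∈ Rz := by
    intro T
    induction T using Finset.induction_on with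
    | empty =>
      intro t ht
      rwa [Finset.prod_empty, map_one, one_mul] at ht
    | insert j T hj ih =>
      intro t ht
      rw [Finset.prod_insert hj, map_mul, mul_assoc] at ht
      exact ih t (hgooda j _ ht)
  let d : R := μ * ∏ j, a j
  have hgoodd : ∀ t, algebraMap R A d * t ∈ Rz → t ∈ Rz := by
    intro t ht
    have ht' : algebraMap R A μ * (algebraMap R A (∏ j, a j) * t) ∈ Rz := by
      rw [← mul_assoc, ← map_mul]; exact ht
    exact hgoodprod Finset.univ t (hgoodμ _ ht')
  have hgoodpow : ∀ (N : ℕ) t, algebraMap R A d ^ N * t ∈ Rz → t ∈ Rz := by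
    intro N
    induction N with
    | zero =>
      intro t ht
      rwa [pow_zero, one_mul] at ht
    | succ N ih =>
      intro t ht
      rw [pow_succ, mul_assoc] at ht
      exact hgoodd t (ih _ ht)
  refine ⟨fun t => ⟨?_, ?_⟩, ?_⟩
  · -- invariants are polynomials in z
    intro hfix
    let νj : Fin n → (Fin n → ZMod p) := fun j l =>
      if l = j then 1 else if l = i1 then -(s j / s i1) else 0
    have hνsum : ∀ j, j ≠ i1 → ∑ l, νj j l * s l = 0 := by
      intro j hj
      have h1 : ∀ l, νj j l * s l = (if l = j then s j else 0) +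
          (if l = i1 then -(s j / s i1) * s i1 else 0) := by
        intro l
        show (if l = j then (1 : ZMod p) else if l = i1 then -(s j / s i1) else 0) * s l = _
        by_cases h1 : l = j
        · rw [if_pos h1, if_pos h1, h1, if_neg hj, one_mul, add_zero]
        · rw [if_neg h1, if_neg h1, zero_add]
          by_cases h2 : l = i1
          · rw [if_pos h2, if_pos h2, h2]
          · rw [if_neg h2, if_neg h2, zero_mul]
      simp only [h1, Finset.sum_add_distrib, Finset.sum_ite_eq', Finset.mem_univ, if_true]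
      rw [neg_mul, div_mul_cancel₀ _ hi1, add_neg_cancel]
    let τ : Fin n → A →ₐ[R] A := fun j =>
      ((List.ofFn (fun i : Fin n => σ i ^ (νj j i).val)).prod : A ≃ₐ[R] A)
    have hτapp : ∀ j y, τ j y = (List.ofFn (fun i : Fin n => σ i ^ (νj j i).val)).prod y :=
      fun _ _ => rfl
    have hτz : ∀ j, j ≠ i1 → τ j z = z := by
      intro j hj
      rw [hτapp, hprodz, hνsum j hj, map_zero, mul_zero, map_zero, add_zero]
    have hτu : ∀ j l, j ≠ i1 → l ≠ i1 → l ≠ j → τ j (u l) = u l := by
      intro j l _ hl1 hlj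
      rw [hτapp, hprod]
      have : νj j l = 0 := by
        show (if l = j then (1 : ZMod p) else if l = i1 then -(s j / s i1) else 0) = 0
        rw [if_neg hlj, if_neg hl1]
      rw [this, map_zero, zero_mul, map_zero, add_zero]
    have hτj : ∀ j, j ≠ i1 → τ j (u j) = u j + algebraMap R A (μ * a j) := by
      intro j _
      rw [hτapp, hprod]
      have : νj j j = 1 := by
        show (if j = j then (1 : ZMod p) else if j = i1 then -(s j / s i1) else 0) = 1
        rw [if_pos rfl]
      rw [this, map_one, one_mul]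
    have htfix : ∀ j, j ≠ i1 → τ j t = t := fun j hj => by
      rw [hτapp]; exact hfix (νj j) (hνsum j hj)
    have hcd : ∀ j, j ≠ i1 → (fun i => μ * a i) j ∣ d := fun j _ =>
      mul_dvd_mul_left μ (Finset.dvd_prod_of_mem a (Finset.mem_univ j))
    have hd1 : algebraMap R A d * u i1 ∈
        Algebra.adjoin R (insert z (u '' ((Finset.univ.erase i1 : Finset (Fin n)) : Set (Fin n)))) := by
      set S0 := Algebra.adjoin R
        (insert z (u '' ((Finset.univ.erase i1 : Finset (Fin n)) : Set (Fin n)))) with hS0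
      have he : algebraMap R A (c i1 * αi i1) * u i1 ∈ S0 := by
        have h1 : algebraMap R A (c i1 * αi i1) * u i1 =
            z - ∑ i ∈ supp.erase i1, algebraMap R A (c i * αi i) * u i := by
          rw [hz, ← Finset.add_sum_erase supp _ hi1s, add_sub_cancel_right]
        rw [h1]
        refine S0.sub_mem (Algebra.subset_adjoin (Set.mem_insert _ _)) ?_
        refine S0.sum_mem fun i hi => ?_
        refine S0.mul_mem (S0.algebraMap_mem _) ?_
        refine Algebra.subset_adjoin (Set.mem_insert_of_mem _ ⟨i, ?_, rfl⟩)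
        exact Finset.mem_coe.mpr
          (Finset.mem_erase.mpr ⟨Finset.ne_of_mem_erase hi, Finset.mem_univ i⟩)
      have hdvd : c i1 * αi i1 ∣ d := by
        have h2 : αi i1 ∣ ∏ j, a j :=
          Finset.prod_dvd_prod_of_subset _ _ a (Finset.subset_univ _)
        exact (hcunit i1 hi1).mul_left_dvd.mpr (Dvd.dvd.mul_left h2 μ)
      obtain ⟨e', he'⟩ := hdvd
      have h3 : algebraMap R A d * u i1 =
          algebraMap R A e' * (algebraMap R A (c i1 * αi i1) * u i1) := by
        rw [he', map_mul]; ring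
      rw [h3]
      exact S0.mul_mem (S0.algebraMap_mem _) he
    obtain ⟨N, hN⟩ := general2 (R := R) (A := A) (ι := Fin n) u z i1 p hp2 hunit hgen b x hrel
      (fun i => μ * a i) d hcd hd1 τ hτz hτu hτj t htfix
    rw [Algebra.adjoin_singleton_eq_range_aeval R z] at hN
    exact hgoodpow N t hN
  · -- polynomials in z are invariant
    rintro ⟨P, rfl⟩ ν hν
    have h1 := Polynomial.aeval_algHom_apply
      ((List.ofFn (fun i : Fin n => σ i ^ (ν i).val)).prod : A ≃ₐ[R] A) z P
    rw [hprodz ν, hν, map_zero, mul_zero, map_zero, add_zero] at h1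
    exact h1.symm
  · -- the kernel
    apply le_antisymm
    · intro g hg
      rw [RingHom.mem_ker] at hg
      have h0 : Polynomial.aeval z (g %ₘ f) = algebraMap R A 0 * 0 := by
        rw [hmodz, mul_zero]; exact hg
      have hzero : g %ₘ f = 0 := by
        ext l
        have h1 := hkey (g %ₘ f) (hmoddeg g) 0 0 h0 i1 hi1s l
        rw [zero_dvd_iff] at h1
        rcases mul_eq_zero.mp h1 with h | h
        · rw [h, Polynomial.coeff_zero]
        · exact absurd h (pow_ne_zero l (mul_ne_zero (hcunit i1 hi1).ne_zero (hαi0 i1)))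
      rw [Ideal.mem_span_singleton]
      exact (Polynomial.modByMonic_eq_zero_iff_dvd hfm).mp hzero
    · rw [Ideal.span_singleton_le_iff_mem, RingHom.mem_ker]
      exact hfz


end Core

open MvPolynomial in

open MvPolynomial in
/-- Let `k` be a field of characteristic `p > 0`, `n ≥ 2`, `R = k[[x_1, …, x_n]]`, `a_1, …, a_n ∈ R`
with zero constant term and pairwise coprime, `μ ∈ R` nonzero and coprime to each `a_i`, `A = R[u_1,
…, u_n] / (u_i ^ p - (μ a_i) ^ (p-1) u_i - x_i : i = 1..n)`, and `σ_1, …, σ_n` the `R`-algebra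
automorphisms of `A` with `σ_i u_j = u_j + δ_{ij} μ a_i` (they generate an elementary abelian group
`H` of order `p ^ n`). For a nonzero vector `s ∈ (ℤ/p)^n` let `H_s = {ν : Σ ν_i s_i = 0}`, `α =
∏_{s_i ≠ 0} a_i`, `α_i = ∏_{j ≠ i, s_j ≠ 0} a_j`, `z_s = Σ_{s_i ≠ 0} s_i α_i u_i` and `f_s(T) = T ^
p - (μ α) ^ (p-1) T - Σ_{s_i ≠ 0} s_i α_i ^ p x_i`. Then an element of `A` is fixed by `∏_i σ_i ^
{ν_i}` for every `ν ∈ H_s` if and only if it is a polynomial over `R` in `z_s`, and the kernel of
`R[T] → A`, `T ↦ z_s`, is generated by `f_s`: the ring of invariants of `H_s` is `R[T]/(f_s)`, in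
particular free of rank `p` over `R`. -/
theorem result
    (p : ℕ) [Fact p.Prime] (k : Type u) [Field k] [CharP k p] (n : ℕ) (hn : 2 ≤ n)
    (a : Fin n → MvPowerSeries (Fin n) k) (μ : MvPowerSeries (Fin n) k)
    (ham : ∀ i, MvPowerSeries.constantCoeff (a i) = 0) (hcop : ∀ i j, i ≠ j → IsRelPrime (a i) (a j))
    (hμ : μ ≠ 0) (hμa : ∀ i, IsRelPrime μ (a i))
    (s : Fin n → ZMod p) (hs : s ≠ 0) :
    let R := MvPowerSeries (Fin n) k
    let I : Ideal (MvPolynomial (Fin n) R) :=
      Ideal.span (Set.range fun i : Fin n =>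
        X i ^ p - C ((μ * a i) ^ (p - 1)) * X i - C (MvPowerSeries.X i))
    let A := MvPolynomial (Fin n) R ⧸ I
    let u : Fin n → A := fun i => Ideal.Quotient.mk I (X i)
    let c : Fin n → R := fun i => algebraMap k R (ZMod.castHom (dvd_refl p) k (s i))
    let α : R := ∏ i ∈ Finset.univ.filter (fun i => s i ≠ 0), a i
    let αi : Fin n → R := fun i => ∏ j ∈ (Finset.univ.filter (fun j => s j ≠ 0)).erase i, a j
    let z : A := ∑ i ∈ Finset.univ.filter (fun i => s i ≠ 0), algebraMap R A (c i * αi i) * u i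
    let f : Polynomial R := Polynomial.X ^ p - Polynomial.C ((μ * α) ^ (p - 1)) * Polynomial.X
      - Polynomial.C (∑ i ∈ Finset.univ.filter (fun i => s i ≠ 0), c i * αi i ^ p * MvPowerSeries.X i)
    ∀ σ : Fin n → (A ≃ₐ[R] A),
      (∀ i j, σ i (u j) = u j + (if i = j then algebraMap R A (μ * a i) else 0)) →
      (∀ t : A, (∀ ν : Fin n → ZMod p, ∑ i, ν i * s i = 0 →
          (List.ofFn (fun i : Fin n => σ i ^ (ν i).val)).prod t = t) ↔
        t ∈ (Polynomial.aeval z : Polynomial R →ₐ[R] A).range) ∧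
      RingHom.ker (Polynomial.aeval z : Polynomial R →ₐ[R] A) = Ideal.span {f} := by
  intro R I A u c α αi z f σ hσ
  have hp2 : 2 ≤ p := (Fact.out : p.Prime).two_le
  haveI hdomR0 : IsDomain (MvPowerSeries (Fin n) k) := NoZeroDivisors.to_isDomain _
  haveI : IsDomain R := hdomR0
  haveI : CharP R p := charP_of_injective_algebraMap (algebraMap k R).injective p
  haveI hufd0 : UniqueFactorizationMonoid (MvPowerSeries (Fin n) k) :=
    Groth.Agent.Helper13AusBuch.ufd_of_isRegularLocalRing _
  haveI : UniqueFactorizationMonoid R := hufd0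
  let a' : Fin n → R := fun i => μ * a i
  have ham' : ∀ i, MvPowerSeries.constantCoeff (a' i) = 0 := fun i => by
    show MvPowerSeries.constantCoeff (μ * a i) = 0
    rw [map_mul, ham i, mul_zero]
  let x : Fin n → R := fun i => (MvPowerSeries.X i : R)
  let b : Fin n → R := fun i => (μ * a i) ^ (p - 1)
  haveI hdomA : IsDomain A := Groth.Agent.Lib.Helper24ASFamD.isDomain (p := p) (a := a') ham'
  have hinjRA : Function.Injective (algebraMap R A) :=
    Groth.Agent.Lib.Helper24ASFamA.algebraMap_injective p b x hp2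
  have ha0 : ∀ j, a j ≠ 0 := by
    intro j h0
    obtain ⟨j', hj'⟩ : ∃ j' : Fin n, j ≠ j' := by
      by_cases h : j = ⟨0, by omega⟩
      · exact ⟨⟨1, by omega⟩, by rw [h]; simp [Fin.ext_iff]⟩
      · exact ⟨⟨0, by omega⟩, h⟩
    have h1 := hcop j j' hj'
    rw [h0, isRelPrime_zero_left] at h1
    have h2 := (MvPowerSeries.isUnit_iff_constantCoeff).mp h1
    rw [ham j'] at h2
    exact not_isUnit_zero h2
  have hgen : Algebra.adjoin R (Set.range u) = ⊤ := by
    have h1 : Set.range u = (Ideal.Quotient.mkₐ R I) '' (Set.range (X : Fin n → MvPolynomial (Fin n) R)) := by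
      rw [← Set.range_comp]; rfl
    rw [h1, ← AlgHom.map_adjoin, MvPolynomial.adjoin_range_X, Algebra.map_top,
      AlgHom.range_eq_top]
    exact Ideal.Quotient.mkₐ_surjective R I
  have hrel : ∀ j, u j ^ p = algebraMap R A ((μ * a j) ^ (p - 1)) * u j + algebraMap R A (x j) := by
    intro j
    have hmem : (X j ^ p - C ((μ * a j) ^ (p - 1)) * X j - C (MvPowerSeries.X j) :
        MvPolynomial (Fin n) R) ∈ I := Ideal.subset_span ⟨j, rfl⟩
    have h0 := Ideal.Quotient.eq_zero_iff_mem.mpr hmem
    rw [map_sub, map_sub, map_mul, map_pow, sub_sub, sub_eq_zero] at h0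
    exact h0
  have hunit : ∀ m : ℕ, 0 < m → m < p → IsUnit ((m : ℕ) : A) := by
    intro m hm0 hmp
    have hR : IsUnit ((m : ℕ) : R) := by
      rw [MvPowerSeries.isUnit_iff_constantCoeff, map_natCast]
      refine isUnit_iff_ne_zero.mpr ?_
      intro h0
      rw [CharP.cast_eq_zero_iff k p m] at h0
      exact absurd (Nat.le_of_dvd hm0 h0) (by omega)
    have := hR.map (algebraMap R A)
    rwa [map_natCast] at this
  have hkeyAbs : ∀ (lam : Fin n → R) (T : Finset (Fin n)) (P : Polynomial R), P.natDegree < p →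
      ∀ (g : R) (t : A),
        Polynomial.aeval (∑ i ∈ T, algebraMap R A (lam i) * u i) P = algebraMap R A g * t →
        ∀ i ∈ T, ∀ l : ℕ, g ∣ P.coeff l * lam i ^ l := by
    intro lam T P hP g t h i hi l
    have hzmk : Ideal.Quotient.mk I (∑ i ∈ T, C (lam i) * X i) =
        ∑ i ∈ T, algebraMap R A (lam i) * u i := by
      rw [map_sum]
      refine Finset.sum_congr rfl fun i _ => ?_
      rw [map_mul]
      rfl
    refine dvd_coeff_mul_pow p b x hp2 lam T P hP g t ?_ i hi l
    rw [← hzmk] at h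
    exact h
  let γ : ZMod p →+* R := (algebraMap k R).comp (ZMod.castHom (dvd_refl p) k)
  have key := core (R := R) (A := A) p n hinjRA a μ ha0 hcop hμ hμa s hs γ x u hgen hrel hunit hkeyAbs
  have key2 := key σ
  have key3 := key2 hσ
  exact key3

end Groth.Agent.S15810
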