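import Groth.Statements.S15811
import Mathlib
-- import your own Groth.Agent.* helpers here

set_option autoImplicit false
universe u
open WildQuot

namespace Groth.Agent.S15811

/-- Let `R` be an integrally closed domain of prime characteristic `p` with fraction field `K`, and `α ∈
R`. Then `α ≠ 0` and the polynomial `T ^ p - α T` splits into linear factors over `K` — which says
that the finite flat group scheme `Spec R[T]/(T ^ p - α T)` of order `p` has constant generic fibre
(its `p` roots are then distinct) — if and only if `α = a ^ (p-1)` for some nonzero `a ∈ R`. (The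
published statement is that the generic fibre of the finite flat group scheme of order `p` with
parameters `α, β` satisfying `α β = 0`, whose underlying scheme is `Spec R[T]/(T ^ p - α T)`, is
constant if and only if `β = 0` and `α` is the `(p-1)`-th power of a nonzero element of `R`; this
row states the polynomial condition, in which `α ≠ 0` already forces `β = 0` over a domain.) -/
theorem result
    (p : ℕ) [Fact p.Prime] (R : Type u) [CommRing R] [IsDomain R] [IsIntegrallyClosed R]
    [CharP R p] (α : R) :
    (α ≠ 0 ∧ (Polynomial.map (algebraMap R (FractionRing R))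
        (Polynomial.X ^ p - Polynomial.C α * Polynomial.X)).Splits) ↔
      ∃ a : R, a ≠ 0 ∧ α = a ^ (p - 1) := by
  classical
  have hp := (Fact.out : p.Prime)
  have hp1 : 1 < p := hp.one_lt
  have hinj : Function.Injective (algebraMap R (FractionRing R)) := IsFractionRing.injective R _
  haveI : CharP (FractionRing R) p := charP_of_injective_algebraMap hinj p
  have hmap : Polynomial.map (algebraMap R (FractionRing R)) (Polynomial.X ^ p - Polynomial.C α * Polynomial.X) =
      Polynomial.X ^ p - Polynomial.C (algebraMap R (FractionRing R) α) * Polynomial.X := by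
    simp [Polynomial.map_sub, Polynomial.map_pow, Polynomial.map_mul]
  rw [hmap]
  constructor
  · rintro ⟨hα, hs⟩
    have hfac : (Polynomial.X ^ p - Polynomial.C (algebraMap R (FractionRing R) α) * Polynomial.X :
        Polynomial (FractionRing R)) =
        Polynomial.X * (Polynomial.X ^ (p - 1) - Polynomial.C (algebraMap R (FractionRing R) α)) := by
      have hpp : p = (p - 1) + 1 := by omega
      conv_lhs => rw [hpp, pow_succ]
      ring
    have hg_ne : (Polynomial.X ^ (p - 1) - Polynomial.C (algebraMap R (FractionRing R) α) :
        Polynomial (FractionRing R)) ≠ 0 :=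
      (Polynomial.monic_X_pow_sub_C _ (by omega)).ne_zero
    have hF_ne : (Polynomial.X ^ p - Polynomial.C (algebraMap R (FractionRing R) α) * Polynomial.X :
        Polynomial (FractionRing R)) ≠ 0 := by
      rw [hfac]; exact mul_ne_zero Polynomial.X_ne_zero hg_ne
    have hg : (Polynomial.X ^ (p - 1) - Polynomial.C (algebraMap R (FractionRing R) α) :
        Polynomial (FractionRing R)).Splits :=
      hs.of_dvd hF_ne ⟨Polynomial.X, by rw [hfac]; ring⟩
    have hdeg : (Polynomial.X ^ (p - 1) - Polynomial.C (algebraMap R (FractionRing R) α) :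
        Polynomial (FractionRing R)).degree ≠ 0 := by
      rw [Polynomial.degree_X_pow_sub_C (by omega : 0 < p - 1)]
      have : p - 1 ≠ 0 := by omega
      exact_mod_cast this
    obtain ⟨b, hb⟩ := hg.exists_eval_eq_zero hdeg
    simp only [Polynomial.eval_sub, Polynomial.eval_pow, Polynomial.eval_X, Polynomial.eval_C] at hb
    have hbint : IsIntegral R b := by
      refine ⟨Polynomial.X ^ (p - 1) - Polynomial.C α, Polynomial.monic_X_pow_sub_C _ (by omega), ?_⟩
      simp only [Polynomial.eval₂_sub, Polynomial.eval₂_pow, Polynomial.eval₂_X, Polynomial.eval₂_C]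
      exact hb
    obtain ⟨a, rfl⟩ := IsIntegrallyClosed.isIntegral_iff.mp hbint
    have hαa : α = a ^ (p - 1) := by
      apply hinj
      rw [map_pow]
      exact (sub_eq_zero.mp hb).symm
    refine ⟨a, ?_, hαa⟩
    rintro rfl
    apply hα
    rw [hαa, zero_pow (by omega)]
  · rintro ⟨a, ha, rfl⟩
    refine ⟨pow_ne_zero _ ha, ?_⟩
    have hb : algebraMap R (FractionRing R) a ≠ 0 := by
      rw [Ne, map_eq_zero_iff _ hinj]; exact ha
    rw [map_pow]
    generalize algebraMap R (FractionRing R) a = b at hb ⊢
    have hZ : (Polynomial.X ^ p - Polynomial.X : Polynomial (ZMod p)).Splits := by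
      have h1 : Polynomial.roots (Polynomial.X ^ p - Polynomial.X : Polynomial (ZMod p)) = Finset.univ.val := by
        have := FiniteField.roots_X_pow_card_sub_X (ZMod p)
        rwa [ZMod.card] at this
      rw [Polynomial.splits_iff_card_roots, h1, ← Finset.card_def, Finset.card_univ, ZMod.card,
        FiniteField.X_pow_card_sub_X_natDegree_eq (ZMod p) hp1]
    have hK := hZ.map (ZMod.castHom (dvd_refl p) (FractionRing R))
    have hK' : (Polynomial.X ^ p - Polynomial.X : Polynomial (FractionRing R)).Splits := by
      simpa using hK
    have hcomp := hK'.comp_of_natDegree_le_one (g := Polynomial.C b⁻¹ * Polynomial.X)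
      ((Polynomial.natDegree_C_mul_le _ _).trans Polynomial.natDegree_X_le)
    have hfin := hcomp.C_mul (b ^ p)
    have h1 : b ^ p * (b⁻¹) ^ p = 1 := by rw [← mul_pow, mul_inv_cancel₀ hb, one_pow]
    have h2 : b ^ p * b⁻¹ = b ^ (p - 1) := by
      have hpp : p = (p - 1) + 1 := by omega
      conv_lhs => rw [hpp, pow_succ]
      rw [mul_assoc, mul_inv_cancel₀ hb, mul_one]
    have heq : (Polynomial.X ^ p - Polynomial.C (b ^ (p - 1)) * Polynomial.X : Polynomial (FractionRing R)) =
        Polynomial.C (b ^ p) * (Polynomial.X ^ p - Polynomial.X : Polynomial (FractionRing R)).comp (Polynomial.C b⁻¹ * Polynomial.X) := by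
      simp only [Polynomial.sub_comp, Polynomial.pow_comp, Polynomial.X_comp, mul_pow, ← Polynomial.C_pow,
        mul_sub, ← mul_assoc, ← Polynomial.C_mul, h1, h2, Polynomial.C_1, one_mul]
    rw [heq]
    exact hfin

end Groth.Agent.S15811
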