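import Groth.Statements.S15814
import Mathlib
import Groth.Agent.Lib.Helper16Coprod
import Groth.Agent.Lib.Helper5RLR3
import Groth.Agent.Lib.Helper28RegLoc
import Groth.Agent.S5783
-- import your own Groth.Agent.* helpers here

set_option autoImplicit false
set_option linter.style.haveILetI false
set_option linter.unusedSectionVars false
universe u v w
open WildQuot

namespace Groth.Agent.S15814

open TensorProduct IsLocalRing Groth.Agent.Lib.Helper16.Coprod

/-- A regular local ring finite over a regular local subring is free over it. -/
theorem free_of_regular {R : Type u} [CommRing R] [IsRegularLocalRing R] {A : Type v} [CommRing A]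
    [IsRegularLocalRing A] [Algebra R A] [Module.Finite R A]
    (hinj : Function.Injective (algebraMap R A)) : Module.Free R A := by
  let R₀ : Subring A := (algebraMap R A).range
  let e : R ≃+* R₀ := RingEquiv.ofBijective (algebraMap R A).rangeRestrict
    ⟨fun x y h => hinj (congrArg Subtype.val h), (algebraMap R A).rangeRestrict_surjective⟩
  haveI : IsRegularLocalRing R₀ := IsRegularLocalRing.of_ringEquiv e
  letI : Algebra R R₀ := (algebraMap R A).rangeRestrict.toAlgebra
  haveI : IsScalarTower R R₀ A := IsScalarTower.of_algebraMap_eq fun x => rfl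
  haveI : Module.Finite R₀ A := Module.Finite.of_restrictScalars_finite R R₀ A
  haveI : Algebra.IsIntegral R₀ A := Algebra.IsIntegral.of_finite _ _
  haveI : IsLocalHom (algebraMap R₀ A) :=
    RingHom.IsIntegral.isLocalHom (algebraMap_isIntegral_iff.mpr inferInstance)
      Subtype.val_injective
  haveI : LocCoh.IsCohenMacaulayLocalRing A :=
    Groth.Agent.Lib.Helper5.isCohenMacaulayLocalRing_of_isRegularLocalRing A
  haveI hfree : Module.Free R₀ A :=
    (Groth.Agent.S5783.result R₀ A).mpr ⟨inferInstance, Subtype.val_injective⟩
  let b := Module.Free.chooseBasis R₀ A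
  refine Module.Free.of_basis (b.mapCoeffs e.symm ?_)
  intro c x
  rw [Algebra.smul_def, Subring.smul_def, smul_eq_mul]
  congr 1
  have : (e (e.symm c) : A) = c := by rw [RingEquiv.apply_symm_apply]
  exact this

theorem main {R : Type u} [CommRing R] [IsRegularLocalRing R] {A : Type v} [CommRing A]
    [IsRegularLocalRing A] [Algebra R A] [Module.Finite R A]
    (hinj : Function.Injective (algebraMap R A))
    {ι : Type} [Fintype ι] [DecidableEq ι] (Bs : ι → Subalgebra R A) (hco : IsCoprod Bs) (i : ι) :
    Module.Free R (Bs i) ∧ IsRegularLocalRing (Bs i) := by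
  haveI hfreeA : Module.Free R A := free_of_regular hinj
  haveI : IsNoetherianRing R := inferInstance
  haveI : IsNoetherian R A := isNoetherian_of_isNoetherianRing_of_finite R A
  haveI hfinB : ∀ j, Module.Finite R (Bs j) := fun j =>
    Module.Finite.of_injective (Bs j).val.toLinearMap Subtype.val_injective
  have hbij := theta_bijective Bs hco i
  let eΘ : Bs i ⊗[R] TT Bs i ≃ₗ[R] A := LinearEquiv.ofBijective (Theta Bs i).toLinearMap hbij
  haveI : Module.Free R (Bs i ⊗[R] TT Bs i) := Module.Free.of_equiv eΘ.symm
  haveI : Module.Free R (TT Bs i ⊗[R] Bs i) :=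
    Module.Free.of_equiv (TensorProduct.comm R (Bs i) (TT Bs i))
  haveI : Nontrivial (TT Bs i) := (muT Bs i).toRingHom.domain_nontrivial
  haveI : Nontrivial (Bs i) := (Bs i).val.toRingHom.domain_nontrivial
  haveI : Module.Finite R (TT Bs i) := inferInstance
  haveI hfreeB : Module.Free R (Bs i) := free_of_tensor_free (Bs i) (TT Bs i)
  haveI hfreeT : Module.Free R (TT Bs i) := free_of_tensor_free (TT Bs i) (Bs i)
  refine ⟨hfreeB, ?_⟩
  -- flatness of `A` over `B_i`
  let eΘ' : Bs i ⊗[R] TT Bs i ≃ₗ[Bs i] A := LinearEquiv.ofBijective (ThetaLin Bs i) hbij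
  haveI : Module.Flat (Bs i) (Bs i ⊗[R] TT Bs i) := inferInstance
  haveI : Module.Flat (Bs i) A := Module.Flat.of_linearEquiv eΘ'.symm
  haveI : Algebra.IsIntegral R A := Algebra.IsIntegral.of_finite _ _
  haveI : Algebra.IsIntegral (Bs i) A := Algebra.IsIntegral.tower_top (R := R)
  haveI : IsLocalHom (algebraMap (Bs i) A) :=
    RingHom.IsIntegral.isLocalHom (algebraMap_isIntegral_iff.mpr inferInstance)
      Subtype.val_injective
  haveI : IsLocalRing (Bs i) := RingHom.domain_isLocalRing (algebraMap (Bs i) A)
  haveI : IsNoetherianRing (Bs i) :=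
    isNoetherian_of_tower R (isNoetherian_of_isNoetherianRing_of_finite R (Bs i))
  exact Groth.Agent.Lib.Helper28.isRegularLocalRing_of_flat_of_isLocalHom (Bs i) A


/-- Let `R` be a regular local ring and `A` a regular local ring, finite over `R` (with `R → A`
injective) and with the same residue field; let a finite commutative group `H` of order `p ^ n` (`p`
prime) act faithfully on `A` by `R`-algebra automorphisms with ring of invariants exactly `R`, and
let `G_1, …, G_n ≤ H` be subgroups of order `p` generating `H`, each the inertia subgroup of some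
height-one prime of `A`. Put `G_i^⊥ =` the subgroup generated by the `G_j` with `j ≠ i` and `B_i =
A^{G_i^⊥}`. Suppose `A` is the coproduct of the `R`-algebras `B_1, …, B_n`: every family of
`R`-algebra maps `B_i → C` into a commutative `R`-algebra `C` is the restriction of a unique
`R`-algebra map `A → C` (that is, the product map `B_1 ⊗_R ⋯ ⊗_R B_n → A` is an isomorphism). Then
every `B_i` is a free `R`-module and a regular local ring. (The published statement is for `A`
complete regular with an action ramified precisely at the origin, `R` a norm subring and `H` the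
Galois group of `Frac(A)/Frac(R)`, when that extension is Galois, and adds that the branch-locus
equations `a_1, …, a_n` of the `B_i` over `R` form a system of parameters of `R`; that last clause
is not included, and the test algebras `C` are taken in one universe large enough to contain the
tensor product.) -/
theorem result
    (p : ℕ) [Fact p.Prime] (R : Type u) [CommRing R] [IsRegularLocalRing R]
    (A : Type v) [CommRing A] [IsRegularLocalRing A]
    [Algebra R A] [Module.Finite R A] (hinj : Function.Injective (algebraMap R A))
    (hres : Function.Surjective (IsLocalRing.residue A ∘ algebraMap R A))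
    (H : Type w) [Group H] [Finite H] [MulSemiringAction H A] [SMulCommClass H R A] [FaithfulSMul H A]
    (hfix : ∀ a : A, (∀ h : H, h • a = a) → a ∈ Set.range (algebraMap R A))
    (hcomm : ∀ g h : H, g * h = h * g)
    (n : ℕ) (hcard : Nat.card H = p ^ n) (Gi : Fin n → Subgroup H)
    (hGi : ∀ i, Nat.card (Gi i) = p) (hsup : (⨆ i, Gi i) = ⊤)
    (hinert : ∀ i, ∃ P : Ideal A, P.IsPrime ∧ P.height = 1 ∧ P.inertia H = Gi i)
    (hcoprod : ∀ (C : Type (max u v)) [CommRing C] [Algebra R C]
      (φ : ∀ i : Fin n,
        FixedPoints.subalgebra R A ↥(⨆ j ∈ (Finset.univ.erase i : Finset (Fin n)), Gi j : Subgroup H) →ₐ[R] C),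
      ∃! ψ : A →ₐ[R] C, ∀ i
        (x : FixedPoints.subalgebra R A ↥(⨆ j ∈ (Finset.univ.erase i : Finset (Fin n)), Gi j : Subgroup H)),
        ψ x = φ i x) :
    ∀ i, Module.Free R
        (FixedPoints.subalgebra R A ↥(⨆ j ∈ (Finset.univ.erase i : Finset (Fin n)), Gi j : Subgroup H)) ∧
      IsRegularLocalRing
        (FixedPoints.subalgebra R A ↥(⨆ j ∈ (Finset.univ.erase i : Finset (Fin n)), Gi j : Subgroup H)) := by
  classical
  intro i
  exact main hinj
    (fun i : Fin n => FixedPoints.subalgebra R A
      ↥(⨆ j ∈ (Finset.univ.erase i : Finset (Fin n)), Gi j : Subgroup H)) hcoprod i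

end Groth.Agent.S15814
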