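import Groth.Statements.S15832
import Mathlib
-- import your own Groth.Agent.* helpers here

set_option autoImplicit false
universe u
open TopGrp

namespace Groth.Agent.S15832

section aux

variable {T : Type u} [Group T]

/-- the subbasis -/
def gen (𝒢 : Set (Subgroup T)) : Set (Set T) :=
  {S | ∃ Γ ∈ 𝒢, ∃ x y : T, S = (fun g : T => x * g * y) '' (Γ : Set T)}

theorem mem_gen_iff (𝒢 : Set (Subgroup T)) (S : Set T) :
    S ∈ gen 𝒢 ↔ ∃ Γ ∈ 𝒢, ∃ x y : T, ∀ g, g ∈ S ↔ x⁻¹ * g * y⁻¹ ∈ Γ := by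
  constructor
  · rintro ⟨Γ, hΓ, x, y, rfl⟩
    refine ⟨Γ, hΓ, x, y, fun g => ?_⟩
    constructor
    · rintro ⟨γ, hγ, rfl⟩
      have : x⁻¹ * (x * γ * y) * y⁻¹ = γ := by group
      rw [this]
      exact hγ
    · intro h
      exact ⟨x⁻¹ * g * y⁻¹, h, by group⟩
  · rintro ⟨Γ, hΓ, x, y, h⟩
    refine ⟨Γ, hΓ, x, y, ?_⟩
    ext g
    rw [h g]
    constructor
    · intro h'
      exact ⟨x⁻¹ * g * y⁻¹, h', by group⟩
    · rintro ⟨γ, hγ, rfl⟩
      have : x⁻¹ * (x * γ * y) * y⁻¹ = γ := by group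
      rw [this]
      exact hγ

/-- a coset description: `{g | x⁻¹ g y⁻¹ ∈ Γ}` is in gen -/
theorem setOf_mem_gen (𝒢 : Set (Subgroup T)) (Γ : Subgroup T) (hΓ : Γ ∈ 𝒢) (x y : T) :
    {g : T | x * g * y ∈ Γ} ∈ gen 𝒢 := by
  rw [mem_gen_iff]
  refine ⟨Γ, hΓ, x⁻¹, y⁻¹, fun g => ?_⟩
  simp

theorem nonarch (𝒢 : Set (Subgroup T)) :
    @NonarchimedeanGroup T _ (TopologicalSpace.generateFrom (gen 𝒢)) := by
  letI τ : TopologicalSpace T := TopologicalSpace.generateFrom (gen 𝒢)
  have hopen : ∀ S ∈ gen 𝒢, IsOpen S := fun S hS => TopologicalSpace.isOpen_generateFrom_of_mem hS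
  have hinv : Continuous fun a : T => a⁻¹ := by
    apply continuous_generateFrom_iff.mpr
    intro S hS
    obtain ⟨Γ, hΓ, x, y, h⟩ := (mem_gen_iff 𝒢 S).mp hS
    apply hopen
    have : (fun a : T => a⁻¹) ⁻¹' S = {g : T | y * g * x ∈ Γ} := by
      ext g
      simp only [Set.mem_preimage, Set.mem_ofPred_eq, h]
      rw [← Γ.inv_mem_iff]
      have : (x⁻¹ * g⁻¹ * y⁻¹)⁻¹ = y * g * x := by group
      rw [this]
    rw [this]
    exact setOf_mem_gen 𝒢 Γ hΓ y x
  have hmul : Continuous fun p : T × T => p.1 * p.2 := by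
    apply continuous_generateFrom_iff.mpr
    intro S hS
    obtain ⟨Γ, hΓ, x, y, h⟩ := (mem_gen_iff 𝒢 S).mp hS
    rw [isOpen_prod_iff]
    intro a b hab
    have hab' : x⁻¹ * (a * b) * y⁻¹ ∈ Γ := (h _).mp hab
    -- u = {a' | x⁻¹ a' b y⁻¹ ∈ Γ}, v = {b' | (x⁻¹ a b y⁻¹)⁻¹ ... }
    refine ⟨{a' : T | x⁻¹ * a' * (b * y⁻¹) ∈ Γ}, {b' : T | (y * b⁻¹) * b' * y⁻¹ ∈ Γ},
      hopen _ (setOf_mem_gen 𝒢 Γ hΓ _ _), hopen _ (setOf_mem_gen 𝒢 Γ hΓ _ _), ?_, ?_, ?_⟩
    · show x⁻¹ * a * (b * y⁻¹) ∈ Γ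
      have : x⁻¹ * a * (b * y⁻¹) = x⁻¹ * (a * b) * y⁻¹ := by group
      rw [this]; exact hab'
    · show (y * b⁻¹) * b * y⁻¹ ∈ Γ
      have : (y * b⁻¹) * b * y⁻¹ = 1 := by group
      rw [this]; exact Γ.one_mem
    · rintro ⟨a', b'⟩ ⟨ha', hb'⟩
      show a' * b' ∈ S
      rw [h]
      have : x⁻¹ * (a' * b') * y⁻¹ = (x⁻¹ * a' * (b * y⁻¹)) * ((y * b⁻¹) * b' * y⁻¹) := by group
      rw [this]
      exact Γ.mul_mem ha' hb'
  haveI : IsTopologicalGroup T := { continuous_mul := hmul, continuous_inv := hinv }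
  refine { is_nonarchimedean := ?_ }
  intro U hU
  have hbasis := TopologicalSpace.isTopologicalBasis_of_subbasis (s := gen 𝒢) rfl
  obtain ⟨t, ⟨F, ⟨hFfin, hFsub⟩, rfl⟩, h1t, htU⟩ := hbasis.mem_nhds_iff.mp hU
  -- finite intersection of generators containing 1
  have key : ∀ F : Set (Set T), F.Finite → F ⊆ gen 𝒢 → (1 : T) ∈ ⋂₀ F →
      ∃ V : OpenSubgroup T, (V : Set T) ⊆ ⋂₀ F := by
    intro F hF
    induction F, hF using Set.Finite.induction_on with
    | empty =>
      intro _ _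
      exact ⟨⊤, by simp⟩
    | @insert S F hSF hFfin ih =>
      intro hsub h1
      have hS : S ∈ gen 𝒢 := hsub (Set.mem_insert _ _)
      have h1S : (1 : T) ∈ S := h1 S (Set.mem_insert _ _)
      obtain ⟨V, hV⟩ := ih (fun s hs => hsub (Set.mem_insert_of_mem _ hs))
        (fun s hs => h1 s (Set.mem_insert_of_mem _ hs))
      obtain ⟨Γ, hΓ, x, y, h⟩ := (mem_gen_iff 𝒢 S).mp hS
      -- S = {g | x⁻¹ g y⁻¹ ∈ Γ} ∋ 1, so x⁻¹ y⁻¹ ∈ Γ; S = conjugate subgroup y Γ y⁻¹ as a set
      have hxy : x⁻¹ * y⁻¹ ∈ Γ := by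
        have := (h 1).mp h1S
        simpa using this
      let Δ : Subgroup T :=
        { carrier := S
          one_mem' := h1S
          mul_mem' := by
            intro a b ha hb
            rw [h] at ha hb ⊢
            have : x⁻¹ * (a * b) * y⁻¹ = (x⁻¹ * a * y⁻¹) * (x⁻¹ * y⁻¹)⁻¹ * (x⁻¹ * b * y⁻¹) := by
              group
            rw [this]
            exact Γ.mul_mem (Γ.mul_mem ha (Γ.inv_mem hxy)) hb
          inv_mem' := by
            intro a ha
            rw [h] at ha ⊢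
            have : x⁻¹ * a⁻¹ * y⁻¹ = (x⁻¹ * y⁻¹) * (x⁻¹ * a * y⁻¹)⁻¹ * (x⁻¹ * y⁻¹) := by group
            rw [this]
            exact Γ.mul_mem (Γ.mul_mem hxy (Γ.inv_mem ha)) hxy }
      let ΔO : OpenSubgroup T := ⟨Δ, hopen S hS⟩
      refine ⟨V ⊓ ΔO, ?_⟩
      intro g hg
      rw [Set.sInter_insert]
      exact ⟨hg.2, hV hg.1⟩
  exact (key F hFfin hFsub h1t).imp fun V hV => hV.trans htU

end aux

/-- For a group T with a topology, let B be the family of two-sided translates x Γ y, where Γ runs over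
the subgroups of T open in the given topology and x, y over T; the topology generated by B makes T a
topological group in which every neighbourhood of the identity contains a subgroup open for that
topology. (The published statement is for the free topological product of two Noohi groups whose
open subgroups form a basis of neighbourhoods of the identity; the argument uses only the group
structure and the chosen family of subgroups, so the row is stated for an arbitrary group with a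
topology. The published conventions include Hausdorffness in the word topological group; this row
does not assert it, and the published argument does not prove it.) -/
theorem result (T : Type u) [Group T]
    [TopologicalSpace T] :
    @NonarchimedeanGroup T _ (TopologicalSpace.generateFrom
      {S : Set T | ∃ (Γ : OpenSubgroup T) (x y : T), S = (fun g : T => x * g * y) '' (Γ : Set T)}) := by
  have : {S : Set T | ∃ (Γ : OpenSubgroup T) (x y : T), S = (fun g : T => x * g * y) '' (Γ : Set T)}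
      = gen {Γ : Subgroup T | IsOpen (Γ : Set T)} := by
    ext S
    constructor
    · rintro ⟨Γ, x, y, rfl⟩
      exact ⟨Γ.toSubgroup, Γ.isOpen, x, y, rfl⟩
    · rintro ⟨Γ, hΓ, x, y, rfl⟩
      exact ⟨⟨Γ, hΓ⟩, x, y, rfl⟩
  rw [this]
  exact nonarch _

end Groth.Agent.S15832
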