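import Groth.Statements.S15833
import Mathlib
import Groth.Agent.Lib.Helper22Thick2

set_option autoImplicit false
universe u
open EtBase

namespace Groth.Agent.S15833

open CategoryTheory CategoryTheory.Limits AlgebraicGeometry

/-- the valuative criterion is stable under base change -/
theorem valuativeCriterion_snd {X X₀ Y : Scheme.{u}} (i : X₀ ⟶ X) (f : Y ⟶ X)
    (h : ValuativeCriterion f) : ValuativeCriterion (pullback.snd f i) := by
  rw [ValuativeCriterion.iff] at h ⊢
  obtain ⟨hex, hun⟩ := h
  have hsq : ∀ S : ValuativeCommSq (pullback.snd f i),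
      (S.i₁ ≫ pullback.fst f i) ≫ f =
        Spec.map (CommRingCat.ofHom (algebraMap S.R S.K)) ≫ (S.i₂ ≫ i) := by
    intro S
    rw [Category.assoc, pullback.condition, ← Category.assoc, S.commSq.w, Category.assoc]
  constructor
  · intro S
    let S' : ValuativeCommSq f := ⟨S.R, S.K, S.i₁ ≫ pullback.fst f i, S.i₂ ≫ i, ⟨hsq S⟩⟩
    obtain ⟨⟨m⟩⟩ := hex S'
    refine ⟨⟨⟨pullback.lift m.l S.i₂ m.fac_right, ?_, ?_⟩⟩⟩
    · apply pullback.hom_ext
      · rw [Category.assoc, pullback.lift_fst]; exact m.fac_left
      · rw [Category.assoc, pullback.lift_snd]; exact S.commSq.w.symm ▸ rfl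
    · exact pullback.lift_snd _ _ _
  · intro S
    let S' : ValuativeCommSq f := ⟨S.R, S.K, S.i₁ ≫ pullback.fst f i, S.i₂ ≫ i, ⟨hsq S⟩⟩
    constructor
    intro l l'
    have hl : ∀ k : S.commSq.LiftStruct,
        Spec.map (CommRingCat.ofHom (algebraMap S.R S.K)) ≫ (k.l ≫ pullback.fst f i) =
          S.i₁ ≫ pullback.fst f i ∧ (k.l ≫ pullback.fst f i) ≫ f = S.i₂ ≫ i := by
      intro k
      constructor
      · rw [← Category.assoc, k.fac_left]
      · rw [Category.assoc, pullback.condition, ← Category.assoc, k.fac_right]
    let L : S'.commSq.LiftStruct := ⟨l.l ≫ pullback.fst f i, (hl l).1, (hl l).2⟩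
    let L' : S'.commSq.LiftStruct := ⟨l'.l ≫ pullback.fst f i, (hl l').1, (hl l').2⟩
    have hLL : L = L' := (hun S').elim L L'
    have h1 : l.l ≫ pullback.fst f i = l'.l ≫ pullback.fst f i := congrArg CommSq.LiftStruct.l hLL
    ext1
    apply pullback.hom_ext h1
    rw [l.fac_right, l'.fac_right]

open CategoryTheory CategoryTheory.Limits AlgebraicGeometry in
/-- Let i : X₀ ⟶ X be a surjective closed immersion of schemes and f : Y ⟶ X a morphism. Then f
satisfies the valuative criterion (existence and uniqueness of a lift in every valuative square,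
over arbitrary valuation rings) if and only if its base change Y ×_X X₀ ⟶ X₀ does. (The published
statement takes X locally Noetherian and connected, X₀ the reduced closed subscheme with the same
underlying space and f étale, and combines this step with the equivalence between étale schemes over
X and over X₀ to identify the geometric coverings, i.e. the étale morphisms satisfying the valuative
criterion, of X and of X₀; the argument for this step uses only that X₀ ⟶ X is a surjective closed
immersion and that valuation rings are reduced.) -/
theorem result {X X₀ Y : Scheme.{u}} (i : X₀ ⟶ X)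
    [IsClosedImmersion i] [Surjective i] (f : Y ⟶ X) :
    ValuativeCriterion f ↔ ValuativeCriterion (pullback.snd f i) := by
  constructor
  · exact valuativeCriterion_snd i f
  · intro h
    exact Groth.Agent.Lib.Helper22.Thick.valuativeCriterion_of_isPullback
      (IsPullback.of_hasPullback f i) h

end Groth.Agent.S15833
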