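import Groth.Statements.S15835
import Mathlib
-- import your own Groth.Agent.* helpers here

set_option autoImplicit false
universe u
open SprIso

namespace Groth.Agent.S15835

/-- Over a commutative ring R of prime characteristic p, let n ≥ 1 and let p^m be the largest power of p
dividing n. The locus of n × n matrices with characteristic polynomial t^n is stable under adding a
scalar matrix a·1 with n·a = 0 exactly when a^(p^m) = 0: for X with characteristic polynomial t^n
and such an a, the matrix X + a·1 has characteristic polynomial t^n if and only if a^(p^m) = 0.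
(Stated on points with values in an arbitrary ring of characteristic p; the scheme-theoretic
assertion about the nilpotent scheme of SL_n is this statement for all such rings.) -/
theorem result (p : ℕ) [Fact p.Prime] (R : Type u) [CommRing R]
    [CharP R p] (n : ℕ) (hn : 0 < n) (X : Matrix (Fin n) (Fin n) R) (hX : X.charpoly = Polynomial.X ^ n)
    (a : R) (ha : (n : R) * a = 0) :
    (X + Matrix.scalar (Fin n) a).charpoly = Polynomial.X ^ n ↔ a ^ (p ^ padicValNat p n) = 0 := by
  have hp := (Fact.out : p.Prime)
  set m := padicValNat p n with hm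
  have hfac : n.factorization p = m := Nat.factorization_def n hp
  set n' := n / p ^ m with hn'def
  have hnn' : p ^ m * n' = n := by
    rw [hn'def, ← hfac]; exact Nat.ordProj_mul_ordCompl_eq_self n p
  have hpn' : ¬ p ∣ n' := by
    rw [hn'def, ← hfac]; exact Nat.not_dvd_ordCompl hp hn.ne'
  have hn'pos : 0 < n' := Nat.pos_of_ne_zero (by
    intro h; rw [h, mul_zero] at hnn'; omega)
  have hunit : IsUnit (n' : R) := by
    have hcop : Nat.Coprime n' p := ((Nat.Prime.coprime_iff_not_dvd hp).mpr hpn').symm
    have := (ZMod.unitOfCoprime n' hcop).isUnit.map (ZMod.castHom (dvd_refl p) R)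
    simpa using this
  have hch : (X + Matrix.scalar (Fin n) a).charpoly = (Polynomial.X + Polynomial.C (-a)) ^ n := by
    have := Matrix.charpoly_sub_scalar X (-a)
    rw [map_neg, sub_neg_eq_add] at this
    rw [this, hX, Polynomial.X_pow_comp]
  rw [hch]
  have hexp : (Polynomial.X + Polynomial.C (-a)) ^ n =
      Polynomial.expand R (p ^ m) ((Polynomial.X + Polynomial.C ((-a) ^ (p ^ m))) ^ n') := by
    rw [← hnn', pow_mul, add_pow_char_pow, map_pow, map_add, Polynomial.expand_X,
      Polynomial.expand_C, Polynomial.C_pow]
  have hexp2 : (Polynomial.X : Polynomial R) ^ n =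
      Polynomial.expand R (p ^ m) (Polynomial.X ^ n') := by
    rw [map_pow, Polynomial.expand_X, ← pow_mul, hnn']
  rw [hexp, hexp2, (Polynomial.expand_injective (pow_pos hp.pos m)).eq_iff]
  constructor
  · intro h
    have h1 := congrArg (fun q => Polynomial.coeff q (n' - 1)) h
    simp only [Polynomial.coeff_X_add_C_pow, Polynomial.coeff_X_pow] at h1
    have h2 : n' - (n' - 1) = 1 := by omega
    have h3 : n'.choose (n' - 1) = n' := by
      rw [Nat.choose_symm (by omega : 1 ≤ n'), Nat.choose_one_right]
    rw [h2, h3, pow_one, if_neg (by omega)] at h1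
    have h4 : (-a) ^ (p ^ m) = 0 := (hunit.mul_left_eq_zero).mp h1
    rw [neg_pow] at h4
    rcases neg_one_pow_eq_or R (p ^ m) with h5 | h5
    · rwa [h5, one_mul] at h4
    · rw [h5] at h4; simpa using h4
  · intro h
    have : (-a) ^ (p ^ m) = 0 := by rw [neg_pow, h, mul_zero]
    rw [this, map_zero, add_zero]

end Groth.Agent.S15835
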