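import Groth.Statements.S15838
import Mathlib

set_option autoImplicit false
universe u
open scoped TensorProduct
open SprIso

namespace Groth.Agent.S15838

/-- General linear group case: this is the case G = GL(V), to which the general case reduces along a
closed embedding. Let k be a perfect field and V a finite-dimensional k-vector space. If an
invertible endomorphism g of V has multiplicative Jordan decomposition g = t u (t semisimple, u
unipotent, t and u commuting), then the scheme-theoretic centralizer of g in GL(V) is the
centralizer of u inside the centralizer of t: for every commutative k-algebra R, an R-linear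
endomorphism h of R ⊗ V commutes with g_R if and only if it commutes with both t_R and u_R.
Likewise, if an endomorphism X of V has additive Jordan decomposition X = Y + N (Y semisimple, N
nilpotent, commuting), then h commutes with X_R if and only if it commutes with both Y_R and N_R. -/
theorem result (k : Type u) [Field k] [PerfectField k]
    (V : Type u) [AddCommGroup V] [Module k V] [FiniteDimensional k V]
    (R : Type u) [CommRing R] [Algebra k R] (h : Module.End R (R ⊗[k] V)) :
    (∀ (g t u : Module.End k V), IsUnit g → t.IsSemisimple → IsNilpotent (u - 1) → Commute t u → g = t * u →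
      (Commute h (g.baseChange R) ↔ Commute h (t.baseChange R) ∧ Commute h (u.baseChange R))) ∧
    (∀ (X Y N : Module.End k V), Y.IsSemisimple → IsNilpotent N → Commute Y N → X = Y + N →
      (Commute h (X.baseChange R) ↔ Commute h (Y.baseChange R) ∧ Commute h (N.baseChange R))) := by
  classical
  let β : Module.End k V →ₐ[k] Module.End R (R ⊗[k] V) := Module.End.baseChangeHom k R V
  have hβ : ∀ g : Module.End k V, g.baseChange R = β g := fun _ => rfl
  -- additive key: `h` commuting with `β X` commutes with `β Y`
  have key : ∀ (X Y N : Module.End k V), Y.IsSemisimple → IsNilpotent N → Commute Y N → X = Y + N →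
      Commute h (β X) → Commute h (β Y) := by
    intro X Y N hY hN hYN hX hcomm
    obtain ⟨n₀, hn₀, s₀, hs₀, hnil, hss, hdec⟩ := X.exists_isNilpotent_isSemisimple
    have hXn : Commute X n₀ :=
      Algebra.commute_of_mem_adjoin_singleton_of_commute hn₀ (Commute.refl X)
    have hns : Commute n₀ s₀ :=
      Algebra.commute_of_mem_adjoin_singleton_of_commute hs₀ hXn.symm
    have huniq := Module.End.isNilpotent_isSemisimple_unique hN hY hnil hss hYN.symm hns
      (by rw [add_comm, ← hX, hdec])
    have hYs : Y = s₀ := huniq.2
    rw [hYs]
    rw [Algebra.adjoin_singleton_eq_range_aeval] at hs₀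
    obtain ⟨P, hP⟩ := hs₀
    have hP' : s₀ = Polynomial.aeval X P := hP.symm
    rw [hP', ← Polynomial.aeval_algHom_apply]
    exact Algebra.commute_of_mem_adjoin_singleton_of_commute
      (Polynomial.aeval_mem_adjoin_singleton k (β X)) hcomm
  constructor
  · intro g t u hg ht hu htu hgtu
    simp only [hβ]
    constructor
    · intro hcomm
      have hdec : g = t + t * (u - 1) := by rw [hgtu, mul_sub, mul_one]; abel
      have hnil : IsNilpotent (t * (u - 1)) :=
        (htu.sub_right (Commute.one_right t)).isNilpotent_mul_left hu
      have hct : Commute t (t * (u - 1)) :=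
        (Commute.refl t).mul_right (htu.sub_right (Commute.one_right t))
      have h1 : Commute h (β t) := key g t (t * (u - 1)) ht hnil hct hdec hcomm
      refine ⟨h1, ?_⟩
      -- t is a unit
      have hu_unit : IsUnit u := by
        have : IsUnit (1 + (u - 1)) := (hu.isUnit_one_add)
        simpa using this
      have ht_unit : IsUnit t := by
        have : IsUnit (t * u) := hgtu ▸ hg
        exact isUnit_of_mul_isUnit_left this
      have hβt : IsUnit (β t) := ht_unit.map β
      obtain ⟨w, hw⟩ := hβt
      have hβu : β u = ↑w⁻¹ * β g := by
        rw [hgtu, map_mul, ← hw, ← mul_assoc, Units.inv_mul, one_mul]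
      rw [hβu]
      have h2 : Commute h (↑w) := by rw [hw]; exact h1
      exact (Commute.units_inv_right h2).mul_right hcomm
    · rintro ⟨h1, h2⟩
      rw [hgtu, map_mul]
      exact h1.mul_right h2
  · intro X Y N hY hN hYN hX
    simp only [hβ]
    constructor
    · intro hcomm
      have h1 : Commute h (β Y) := key X Y N hY hN hYN hX hcomm
      refine ⟨h1, ?_⟩
      have hN' : N = X - Y := by rw [hX]; abel
      rw [hN', map_sub]
      show h * (β X - β Y) = (β X - β Y) * h
      have e1 : h * (β X) = (β X) * h := hcomm.eq
      have e2 : h * (β Y) = (β Y) * h := h1.eq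
      simp only [Module.End.mul_eq_comp] at e1 e2 ⊢
      rw [LinearMap.comp_sub, LinearMap.sub_comp, e1, e2]
    · rintro ⟨h1, h2⟩
      rw [hX, map_add]
      exact h1.add_right h2

end Groth.Agent.S15838
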