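import Groth.Statements.S15839
import Mathlib
import Groth.Agent.Lib.Helper6LfpComp

set_option autoImplicit false
universe u
open CategoryTheory MonoidalCategory CartesianMonoidalCategory MonObj GrpObj AlgebraicGeometry
open SprIso

namespace Groth.Agent.S15839

open CategoryTheory.Limits in
/-- the equalizer of two morphisms into a separated, locally finite type `K`-scheme is a closed
subscheme of finite presentation -/
theorem exists_equalizer_closedImmersion_lfp {K W P : Scheme.{u}} (w : W ⟶ K) [IsSeparated w]
    [LocallyOfFiniteType w]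
    (a b : P ⟶ W) (hab : a ≫ w = b ≫ w) :
    ∃ (E : Scheme.{u}) (e₀ : E ⟶ P), IsClosedImmersion e₀ ∧ LocallyOfFinitePresentation e₀ ∧
      e₀ ≫ a = e₀ ≫ b ∧
      ∀ {M : Scheme.{u}} (m : M ⟶ P), m ≫ a = m ≫ b → ∃ l : M ⟶ E, l ≫ e₀ = m := by
  let d : P ⟶ pullback w w := pullback.lift a b hab
  have : LocallyOfFinitePresentation (pullback.diagonal w) :=
    Groth.Agent.Lib.Helper6.locallyOfFinitePresentation_diagonal w
  refine ⟨pullback d (pullback.diagonal w), pullback.fst d (pullback.diagonal w),
    inferInstance, inferInstance, ?_, ?_⟩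
  · have h1 := pullback.condition (f := d) (g := pullback.diagonal w)
    have ha : pullback.fst d (pullback.diagonal w) ≫ a =
        pullback.snd d (pullback.diagonal w) := by
      have := congr($h1 ≫ pullback.fst w w)
      simpa [d, pullback.lift_fst] using this
    have hb : pullback.fst d (pullback.diagonal w) ≫ b =
        pullback.snd d (pullback.diagonal w) := by
      have := congr($h1 ≫ pullback.snd w w)
      simpa [d, pullback.lift_snd] using this
    rw [ha, hb]
  · intro M m hm
    refine ⟨pullback.lift m (m ≫ a) ?_, pullback.lift_fst _ _ _⟩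
    apply pullback.hom_ext
    · simp [d, pullback.lift_fst]
    · simp [d, pullback.lift_snd, hm]


/-- Let S be a scheme, G an S-group scheme which is affine and of finite presentation over S, and g a
section of G over S. Then the centralizer of g — the subfunctor of G whose points with values in an
S-scheme T are the points x of G with x g_T = g_T x — is represented by a closed subscheme of G
whose inclusion is of finite presentation. -/
theorem result (S : Scheme.{u}) (G : Over S) [GrpObj G]
    [IsAffineHom G.hom] [LocallyOfFinitePresentation G.hom] (g : 𝟙_ (Over S) ⟶ G) :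
    ∃ (Z : Over S) (j : Z ⟶ G), IsClosedImmersion j.left ∧ LocallyOfFinitePresentation j.left ∧
      ∀ (T : Over S) (x : T ⟶ G), (∃ z : T ⟶ Z, z ≫ j = x) ↔
        x * (toUnit T ≫ g) = (toUnit T ≫ g) * x := by
  obtain ⟨α, hα⟩ : ∃ α : G ⟶ G, α = 𝟙 G * (toUnit G ≫ g) := ⟨_, rfl⟩
  obtain ⟨β, hβ⟩ : ∃ β : G ⟶ G, β = (toUnit G ≫ g) * 𝟙 G := ⟨_, rfl⟩
  obtain ⟨E, e₀, hcl, hfp, heq, huniv⟩ := exists_equalizer_closedImmersion_lfp G.hom α.left β.left
    (by rw [Over.w α, Over.w β])
  have key : ∀ {T : Over S} (x : T ⟶ G),
      (x.left ≫ α.left = x.left ≫ β.left) ↔ x * (toUnit T ≫ g) = (toUnit T ≫ g) * x := by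
    intro T x
    have e1 : x ≫ α = x * (toUnit T ≫ g) := by
      rw [hα, MonObj.comp_mul, Category.comp_id, ← Category.assoc, toUnit_unique (x ≫ toUnit G)]
    have e2 : x ≫ β = (toUnit T ≫ g) * x := by
      rw [hβ, MonObj.comp_mul, Category.comp_id, ← Category.assoc, toUnit_unique (x ≫ toUnit G)]
    rw [← e1, ← e2]
    constructor
    · intro h
      ext1
      exact h
    · intro h
      exact congrArg (fun f => f.left) h
  refine ⟨Over.mk (e₀ ≫ G.hom), Over.homMk e₀ rfl, hcl, hfp, fun T x => ?_⟩
  rw [← key]
  constructor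
  · rintro ⟨z, rfl⟩
    change (z.left ≫ e₀) ≫ α.left = (z.left ≫ e₀) ≫ β.left
    rw [Category.assoc, Category.assoc, heq]
  · intro h
    obtain ⟨l, hl⟩ := huniv x.left h
    refine ⟨Over.homMk l ?_, ?_⟩
    · change l ≫ e₀ ≫ G.hom = T.hom
      rw [← Category.assoc, hl, Over.w x]
    · ext1
      exact hl

end Groth.Agent.S15839
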