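import Groth.Statements.S15840
import Mathlib
-- import your own Groth.Agent.* helpers here

set_option autoImplicit false
universe u
open SprIso

namespace Groth.Agent.S15840

/-- For G = SL_n (n = r + 1) over a field of characteristic p > 0, write n = m p^e with m prime to p, so
that the identity component of the centre of G is μ_{p^e} embedded diagonally. The character of the
i-th exterior power of the standard representation takes the value C(n, i) α^i at a point α of
μ_{p^e}, and this is constant: for every commutative ring R of characteristic p and every α in R
with α^(p^e) = 1 one has C(n, i) α^i = C(n, i) in R, for all i. -/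
theorem result (p : ℕ) [Fact p.Prime] (R : Type u) [CommRing R]
    [CharP R p] (n : ℕ) (hn : 0 < n) (α : R) (hα : α ^ (p ^ padicValNat p n) = 1) (i : ℕ) :
    (n.choose i : R) * α ^ i = (n.choose i : R) := by
  have hp := (Fact.out : p.Prime)
  obtain ⟨m, hm⟩ : p ^ padicValNat p n ∣ n := pow_padicValNat_dvd
  generalize padicValNat p n = e at *
  by_cases hdiv : p ^ e ∣ i
  · obtain ⟨j, rfl⟩ := hdiv
    rw [pow_mul, hα, one_pow, mul_one]
  · have hz : (n.choose i : R) = 0 := by
      have h1 : ((1 + Polynomial.X : Polynomial R) ^ n).coeff i = (n.choose i : R) :=
        Polynomial.coeff_one_add_X_pow R n i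
      have h2 : (1 + Polynomial.X : Polynomial R) ^ n =
          Polynomial.expand R (p ^ e) ((1 + Polynomial.X) ^ m) := by
        rw [hm, pow_mul, add_pow_char_pow, one_pow, map_pow, map_add, map_one, Polynomial.expand_X]
      rw [← h1, h2, Polynomial.coeff_expand (pow_pos hp.pos e), if_neg hdiv]
    rw [hz, zero_mul]

end Groth.Agent.S15840
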