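import Groth.Statements.S15841
import Mathlib.Tactic
-- import your own Groth.Agent.* helpers here

set_option autoImplicit false
universe u
open scoped TensorProduct
open SprIso

namespace Groth.Agent.S15841

section aux

variable {ι M N : Type u} [AddCommGroup M] [AddCommGroup N] (P : RootPairing ι ℤ M N)
  (k : Type u) [Field k]

/-- `z ↦ z • α_i^∨`. -/
private noncomputable def tau (i : ι) : ℤ →ₗ[ℤ] N := LinearMap.toSpanSingleton ℤ N (P.coroot i)

private lemma corefl_eq (i : ι) :
    ((P.coreflection i : N ≃ₗ[ℤ] N) : N →ₗ[ℤ] N) = LinearMap.id - (tau P i) ∘ₗ (P.root' i) := by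
  ext x
  simp [tau, RootPairing.coreflection_apply]

private lemma corefl_bc (i : ι) (x : k ⊗[ℤ] N) :
    (((P.coreflection i : N ≃ₗ[ℤ] N) : N →ₗ[ℤ] N).baseChange k) x =
      x - (tau P i).baseChange k ((P.root' i).baseChange k x) := by
  rw [corefl_eq, LinearMap.baseChange_sub, LinearMap.baseChange_id, LinearMap.baseChange_comp]
  rfl

private lemma func_tau_bc (φ : N →ₗ[ℤ] ℤ) (i : ι) (c : ℤ) (hφ : φ (P.coroot i) = c)
    (t : k ⊗[ℤ] ℤ) : φ.baseChange k ((tau P i).baseChange k t) = c • t := by
  have h : φ ∘ₗ tau P i = c • LinearMap.id := by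
    ext
    simp [tau, hφ]
  rw [← LinearMap.comp_apply, ← LinearMap.baseChange_comp, h, LinearMap.baseChange_smul,
    LinearMap.baseChange_id]
  rfl

private lemma func_prod_bc (φ : N →ₗ[ℤ] ℤ) (l : List ι) (hφ : ∀ j ∈ l, φ (P.coroot j) = 0)
    (x : k ⊗[ℤ] N) :
    φ.baseChange k (((l.map (fun i => ((P.coreflection i : N ≃ₗ[ℤ] N) : N →ₗ[ℤ] N))).prod).baseChange k x) =
      φ.baseChange k x := by
  induction l generalizing x with
  | nil => simp [Module.End.one_eq_id, LinearMap.baseChange_id]
  | cons j l ih =>
    rw [List.map_cons, List.prod_cons, Module.End.mul_eq_comp, LinearMap.baseChange_comp,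
      LinearMap.comp_apply, corefl_bc, map_sub, func_tau_bc P k φ j 0 (hφ j (by simp)), zero_smul,
      sub_zero]
    exact ih (fun j' hj' => hφ j' (by simp [hj'])) x

private lemma main (S : Finset ι)
    (hsc : ∀ i ∈ S, ∃ ω : M, P.coroot' i ω = 1 ∧ ∀ j ∈ S, j ≠ i → P.coroot' j ω = 0)
    (l : List ι) (hl : l.Nodup) (hlS : ∀ i ∈ l, i ∈ S) (H : k ⊗[ℤ] N)
    (hH : ((l.map (fun i => ((P.coreflection i : N ≃ₗ[ℤ] N) : N →ₗ[ℤ] N))).prod).baseChange k H = H) :
    ∀ i ∈ l, (P.root' i).baseChange k H = 0 := by
  induction l with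
  | nil => simp
  | cons i l ih =>
    have hi : i ∈ S := hlS i (by simp)
    obtain ⟨ω, hω1, hω0⟩ := hsc i hi
    rw [List.nodup_cons] at hl
    rw [List.map_cons, List.prod_cons, Module.End.mul_eq_comp, LinearMap.baseChange_comp,
      LinearMap.comp_apply, corefl_bc] at hH
    have hφj : ∀ j ∈ l, (P.toLinearMap ω) (P.coroot j) = 0 := fun j hj =>
      hω0 j (hlS j (by simp [hj])) (by rintro rfl; exact hl.1 hj)
    have h1 := congrArg ((P.toLinearMap ω).baseChange k) hH
    rw [map_sub, func_tau_bc P k (P.toLinearMap ω) i 1 hω1, one_smul,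
      func_prod_bc P k (P.toLinearMap ω) l hφj] at h1
    have hay := sub_eq_self.mp h1
    rw [hay, map_zero, sub_zero] at hH
    intro i' hi'
    rcases List.mem_cons.mp hi' with rfl | hi'
    · rw [← hH]; exact hay
    · exact ih hl.2 (fun j hj => hlS j (by simp [hj])) hH i' hi'

end aux

/-- For a connected reductive group G with maximal torus T whose derived group is simply connected, and
a Coxeter element w (the product of the simple reflections, each once, in any order), an element of
Lie T = k ⊗ X_*(T) fixed by Ad(w) is killed by the differential of every simple root, i.e. lies in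
the centre of Lie G. In root-datum form: let P be a root pairing over ℤ with character lattice M and
cocharacter lattice N, b a base, and suppose each simple coroot has a dual character ω_i in M with
⟨ω_i, α_i^∨⟩ = 1 and ⟨ω_i, α_j^∨⟩ = 0 for every other simple j (the simply connected derived group
hypothesis). If l lists the simple roots without repetition, w^∨ is the composite of the
coreflections along l acting on N, k is a field and H in k ⊗ N satisfies w^∨_k H = H, then (α_i)_k H
= 0 for every simple root α_i, where (α_i)_k is the base change to k of the functional ⟨α_i, −⟩ on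
N. (Stated for an arbitrary field k; the published setting is an algebraically closed field, and the
argument does not depend on k.) -/
theorem result {ι M N : Type u} [AddCommGroup M] [AddCommGroup N]
    (P : RootPairing ι ℤ M N) (b : P.Base)
    (hsc : ∀ i ∈ b.support, ∃ ω : M, P.coroot' i ω = 1 ∧ ∀ j ∈ b.support, j ≠ i → P.coroot' j ω = 0)
    (l : List ι) (hl : l.Nodup) (hlb : ∀ i : ι, i ∈ l ↔ i ∈ b.support)
    (k : Type u) [Field k] (H : k ⊗[ℤ] N)
    (hH : ((l.map (fun i => ((P.coreflection i : N ≃ₗ[ℤ] N) : N →ₗ[ℤ] N))).prod).baseChange k H = H) :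
    ∀ i ∈ b.support, (P.root' i).baseChange k H = 0 := by
  intro i hi
  exact main P k b.support hsc l hl (fun j hj => (hlb j).mp hj) H hH i ((hlb i).mpr hi)

end Groth.Agent.S15841
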