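import Groth.Statements.S15845
import Mathlib

set_option autoImplicit false
universe u
open SprIso

namespace Groth.Agent.S15845

/-- General linear group case: this is the case G = GL_n with its upper-triangular Borel subgroup B
(derived group SL_n simply connected, all primes good, so the hypotheses on the characteristic
hold), together with the companion statement for a regular nilpotent element of Lie B. Let k be a
field and u an n × n upper-triangular matrix over k whose diagonal entries are all equal and whose
superdiagonal entries u_{i,i+1} are all non-zero — for diagonal 1 this is a regular unipotent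
element of B(k), for diagonal 0 a regular nilpotent element of Lie B. Then the centralizer of u in
GL_n is contained in B and is the product of the centre with the centralizer in the unipotent
radical: for every commutative k-algebra R and every invertible x ∈ M_n(R) commuting with u_R, x is
upper triangular and its diagonal entries are all equal. (The smoothness of the centralizer in the
unipotent radical, also part of the published statement, is not stated here.) -/
theorem result (k : Type u) [Field k] (n : ℕ)
    (u : Matrix (Fin n) (Fin n) k) (htri : ∀ i j : Fin n, j < i → u i j = 0) (hdiag : ∀ i j : Fin n, u i i = u j j)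
    (hreg : ∀ (i j : Fin n), j.val = i.val + 1 → u i j ≠ 0)
    (R : Type u) [CommRing R] [Algebra k R] (x : Matrix (Fin n) (Fin n) R) (hx : IsUnit x)
    (hxu : x * u.map (algebraMap k R) = u.map (algebraMap k R) * x) :
    (∀ i j : Fin n, j < i → x i j = 0) ∧ (∀ i j : Fin n, x i i = x j j) := by
  classical
  let c : k := if h : 0 < n then u ⟨0, h⟩ ⟨0, h⟩ else 0
  have hc : ∀ i : Fin n, u i i = c := by
    intro i
    have h0 : 0 < n := Nat.lt_of_le_of_lt (Nat.zero_le _) i.2
    show u i i = if h : 0 < n then u ⟨0, h⟩ ⟨0, h⟩ else 0
    rw [dif_pos h0]
    exact hdiag i ⟨0, h0⟩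
  let U : Matrix (Fin n) (Fin n) R := u.map (algebraMap k R)
  let N : Matrix (Fin n) (Fin n) R := U - (algebraMap k R c) • (1 : Matrix (Fin n) (Fin n) R)
  have hN0 : ∀ l j : Fin n, j ≤ l → N l j = 0 := by
    intro l j hjl
    show U l j - (algebraMap k R c • (1 : Matrix (Fin n) (Fin n) R)) l j = 0
    rw [Matrix.smul_apply, Matrix.one_apply]
    rcases lt_or_eq_of_le hjl with h | h
    · rw [if_neg (ne_of_gt h), smul_zero, sub_zero]
      show algebraMap k R (u l j) = 0
      rw [htri l j h, map_zero]
    · subst h
      rw [if_pos rfl, smul_eq_mul, mul_one]
      show algebraMap k R (u j j) - _ = 0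
      rw [hc, sub_self]
  have hNunit : ∀ l j : Fin n, j.val = l.val + 1 → IsUnit (N l j) := by
    intro l j hjl
    have hne : l ≠ j := fun h => by rw [h] at hjl; omega
    show IsUnit (U l j - (algebraMap k R c • (1 : Matrix (Fin n) (Fin n) R)) l j)
    rw [Matrix.smul_apply, Matrix.one_apply, if_neg hne, smul_zero, sub_zero]
    show IsUnit (algebraMap k R (u l j))
    exact (isUnit_iff_ne_zero.mpr (hreg l j hjl)).map _
  have hcomm : x * N = N * x := by
    show x * (U - (algebraMap k R c) • (1 : Matrix (Fin n) (Fin n) R)) =
      (U - (algebraMap k R c) • (1 : Matrix (Fin n) (Fin n) R)) * x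
    rw [mul_sub, sub_mul, hxu, Matrix.mul_smul, Matrix.smul_mul, mul_one, one_mul]
  have hentry : ∀ i j : Fin n, ∑ l, x i l * N l j = ∑ l, N i l * x l j := by
    intro i j
    have := congrFun (congrFun hcomm i) j
    simpa [Matrix.mul_apply] using this
  -- lower triangular part vanishes
  have P : ∀ d : ℕ, ∀ i : Fin n, n - i.val = d → ∀ j : Fin n, j < i → x i j = 0 := by
    intro d
    induction d using Nat.strong_induction_on with
    | _ d ihd =>
      intro i hid
      have Q : ∀ e : ℕ, ∀ j : Fin n, j.val = e → j < i → x i j = 0 := by
        intro e
        induction e using Nat.strong_induction_on with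
        | _ e ihe =>
          intro j hje hji
          have hj1 : j.val + 1 < n := Nat.lt_of_le_of_lt (Nat.succ_le_of_lt hji) i.2
          let j' : Fin n := ⟨j.val + 1, hj1⟩
          have hj'i : j' ≤ i := Nat.succ_le_of_lt hji
          have h1 := hentry i j'
          have hL : ∑ l, x i l * N l j' = x i j * N j j' := by
            apply Finset.sum_eq_single j
            · intro l _ hlj
              rcases lt_or_gt_of_ne hlj with h | h
              · rw [ihe l.val (by rw [← hje]; exact h) l rfl (lt_trans h hji), zero_mul]
              · rw [hN0 l j' (Nat.succ_le_of_lt h), mul_zero]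
            · intro h; exact absurd (Finset.mem_univ _) h
          have hR : ∑ l, N i l * x l j' = 0 := by
            apply Finset.sum_eq_zero
            intro l _
            rcases le_or_gt l i with h | h
            · rw [hN0 i l h, zero_mul]
            · have hlt : n - l.val < d := by
                rw [← hid]
                have := l.2
                have : i.val < l.val := h
                omega
              rw [ihd _ hlt l rfl j' (lt_of_le_of_lt hj'i h), mul_zero]
          rw [hL, hR] at h1
          exact (hNunit j j' rfl).mul_left_eq_zero.mp h1
      intro j hji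
      exact Q j.val j rfl hji
  have hlow : ∀ i j : Fin n, j < i → x i j = 0 := fun i j hji => P _ i rfl j hji
  refine ⟨hlow, ?_⟩
  -- consecutive diagonal entries agree
  have hstep : ∀ i i' : Fin n, i'.val = i.val + 1 → x i i = x i' i' := by
    intro i i' hii'
    have hlt : i < i' := by show i.val < i'.val; omega
    have h1 := hentry i i'
    have hL : ∑ l, x i l * N l i' = x i i * N i i' := by
      apply Finset.sum_eq_single i
      · intro l _ hli
        rcases lt_or_gt_of_ne hli with h | h
        · rw [hlow i l h, zero_mul]
        · rw [hN0 l i' (by show i'.val ≤ l.val; have : i.val < l.val := h; omega), mul_zero]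
      · intro h; exact absurd (Finset.mem_univ _) h
    have hR : ∑ l, N i l * x l i' = N i i' * x i' i' := by
      apply Finset.sum_eq_single i'
      · intro l _ hli
        rcases lt_or_gt_of_ne hli with h | h
        · rw [hN0 i l (by show l.val ≤ i.val; have : l.val < i'.val := h; omega), zero_mul]
        · rw [hlow l i' h, mul_zero]
      · intro h; exact absurd (Finset.mem_univ _) h
    rw [hL, hR, mul_comm] at h1
    exact (hNunit i i' hii').mul_right_injective h1
  have hall : ∀ m : ℕ, ∀ hm : m < n, x ⟨m, hm⟩ ⟨m, hm⟩ = x ⟨0, Nat.lt_of_le_of_lt (Nat.zero_le _) hm⟩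
      ⟨0, Nat.lt_of_le_of_lt (Nat.zero_le _) hm⟩ := by
    intro m
    induction m with
    | zero => intro _; rfl
    | succ m ih =>
      intro hm
      rw [← ih (Nat.lt_of_succ_lt hm)]
      exact (hstep ⟨m, Nat.lt_of_succ_lt hm⟩ ⟨m + 1, hm⟩ rfl).symm
  intro i j
  have hi := hall i.val i.2
  have hj := hall j.val j.2
  exact hi.trans hj.symm

end Groth.Agent.S15845
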