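import Groth.Statements.S15870
import Groth.Agent.S6630
import Groth.Agent.Lib.Helper3EtTorsA
import Groth.Agent.Lib.Helper3PSTors
import Groth.Agent.Lib.Helper20SmoothSec
import Mathlib

set_option autoImplicit false
set_option linter.style.haveILetI false
universe u
open CategoryTheory MonoidalCategory CartesianMonoidalCategory MonObj GrpObj AlgebraicGeometry
open NonAbH1

namespace Groth.Agent.S15870

open Limits

-- gluing morphisms along a cover by pairwise disjoint opens
theorem exists_glue_of_disjoint {T Y : Scheme.{u}} {J : Type u} (W : J → T.Opens)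
    (hd : ∀ a b, a ≠ b → Disjoint (W a) (W b)) (hc : (⨆ a, W a) = ⊤)
    (σ : ∀ a, ((W a : T.Opens) : Scheme.{u}) ⟶ Y) :
    ∃ s : T ⟶ Y, ∀ a, (W a).ι ≫ s = σ a := by
  let 𝒰 : T.OpenCover := T.openCoverOfIsOpenCover W hc
  have hf : ∀ x y : J, pullback.fst (𝒰.f x) (𝒰.f y) ≫ σ x = pullback.snd (𝒰.f x) (𝒰.f y) ≫ σ y := by
    intro x y
    by_cases hxy : x = y
    · subst hxy
      have h1 : pullback.fst (𝒰.f x) (𝒰.f x) = pullback.snd (𝒰.f x) (𝒰.f x) := by
        haveI : Mono (𝒰.f x) := by
          change Mono (W x).ι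
          infer_instance
        rw [← cancel_mono (𝒰.f x)]
        exact pullback.condition
      rw [h1]
    · haveI : IsEmpty ↥(pullback (𝒰.f x) (𝒰.f y)) := by
        refine ⟨fun z => ?_⟩
        have h1 : (𝒰.f x) ((pullback.fst (𝒰.f x) (𝒰.f y)) z) =
            (𝒰.f y) ((pullback.snd (𝒰.f x) (𝒰.f y)) z) := by
          rw [← Scheme.Hom.comp_apply, ← Scheme.Hom.comp_apply, pullback.condition]
        have h2 : (𝒰.f x) ((pullback.fst (𝒰.f x) (𝒰.f y)) z) ∈ W x :=
          ((pullback.fst (𝒰.f x) (𝒰.f y)) z).2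
        have h3 : (𝒰.f y) ((pullback.snd (𝒰.f x) (𝒰.f y)) z) ∈ W y :=
          ((pullback.snd (𝒰.f x) (𝒰.f y)) z).2
        rw [← h1] at h3
        exact (Set.disjoint_left.mp (by
          have := hd x y hxy
          rw [disjoint_iff] at this
          rw [Set.disjoint_iff_inter_eq_empty]
          have h4 := congrArg (fun O : T.Opens => (O : Set T)) this
          simpa using h4) h2 h3)
      exact (isInitialOfIsEmpty (X := pullback (𝒰.f x) (𝒰.f y))).hom_ext _ _
  refine ⟨𝒰.glueMorphisms σ hf, fun a => ?_⟩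
  exact 𝒰.ι_glueMorphisms σ hf a

/-- Let π : S' → S be finite locally free (finite, flat, locally of finite presentation), G a smooth
S'-group scheme and E an fppf G-torsor over S'. Then E trivializes fppf locally on S: some fppf
covering family of S consists of morphisms U → S such that E has a section over U ×_S S' → S'. (The
published statement is for a variable S-scheme T, torsors over S' ×_S T and G a group algebraic
space; this row is the case T = S with G a scheme, to which the general case reduces by base change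
of π.) -/
theorem result
    {S S' : Scheme.{u}} (π : S' ⟶ S) [IsFinite π] [Flat π] [LocallyOfFinitePresentation π]
    (G : Over S') [GrpObj G] [Smooth G.hom]
    (E : NonAbH1.TorsorSch G Scheme.fppfPrecoverage) :
    ∃ R ∈ Scheme.fppfPrecoverage S, ∀ ⦃U : Scheme.{u}⦄ (g : U ⟶ S), R g →
      NonAbH1.HasSectionOver E.X (Limits.pullback.snd g π) := by
  have hE := E.isTorsor
  haveI hsm : Smooth E.X.hom :=
    Groth.Agent.Lib.Helper3.EtTorsA.prop_of_isTorsorFor E.act @Smooth hE inferInstance
  haveI hsj : Surjective E.X.hom :=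
    Groth.Agent.Lib.Helper3.EtTorsA.prop_of_isTorsorFor E.act @Surjective hE
      (Groth.Agent.Lib.Helper3.PSTors.surjective_of_grpObj G)
  -- local sections
  have hloc : ∀ x : S', ∃ (U : Scheme.{u}) (g : U ⟶ S') (_ : Etale g) (h : U ⟶ E.X.left),
      x ∈ Set.range g.base ∧ h ≫ E.X.hom = g := by
    intro x
    obtain ⟨e, he⟩ := E.X.hom.surjective x
    obtain ⟨U, g, s', hg, hgs, h, hh⟩ :=
      Groth.Agent.Lib.Helper20.SmoothSec.exists_etale_section_of_smooth E.X.hom e
    exact ⟨U, g, hg, h, ⟨s', by rw [← he]; exact hgs⟩, hh⟩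
  choose U g hg h hx hh using hloc
  have hB := Groth.Agent.S6630.result π
  haveI : IsIso (pullback.fst π (𝟙 S)) := inferInstance
  obtain ⟨κ, V', v', hv', hcov, hdec⟩ := hB S (𝟙 S) S' U
    (fun x => g x ≫ inv (pullback.fst π (𝟙 S))) (fun x => by haveI := hg x; infer_instance)
    (fun z => by
      obtain ⟨w, hw⟩ := hx ((pullback.fst π (𝟙 S)) z)
      refine ⟨_, w, ?_⟩
      rw [Scheme.Hom.comp_apply, hw, ← Scheme.Hom.comp_apply, IsIso.hom_inv_id]
      rfl)
  refine ⟨Presieve.ofArrows V' v', ?_, ?_⟩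
  · refine ⟨(Presieve.mem_comap_jointlySurjectivePrecoverage_iff Scheme.forget).2 ?_, ?_⟩
    · intro s
      obtain ⟨j, w, hw⟩ := hcov s
      exact ⟨V' j, v' j, ⟨j⟩, w, hw⟩
    · intro Y f hf
      obtain ⟨j⟩ := hf
      haveI := hv' j
      exact ⟨inferInstance, inferInstance⟩
  · intro Y f hf
    obtain ⟨j⟩ := hf
    obtain ⟨J, W, hdisj, hcovW, hW⟩ := hdec j
    choose i k hk using hW
    obtain ⟨s, hs⟩ := exists_glue_of_disjoint W hdisj hcovW (fun a => k a ≫ h (i a))
    refine ⟨pullback.lift (pullback.snd (v' j) π) (pullback.fst (v' j) π)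
      (by rw [Category.comp_id]; exact pullback.condition.symm) ≫ s, ?_⟩
    have hs2 : s ≫ E.X.hom = pullback.fst π (v' j ≫ 𝟙 S) := by
      refine ((pullback π (v' j ≫ 𝟙 S)).openCoverOfIsOpenCover W hcovW).hom_ext _ _ ?_
      intro a
      change (W a).ι ≫ s ≫ E.X.hom = (W a).ι ≫ _
      rw [← Category.assoc, hs a, Category.assoc, hh]
      have h1 := hk a
      have h2 := congrArg (fun t => t ≫ pullback.fst π (𝟙 S)) h1
      simp only [Category.assoc, IsIso.inv_hom_id, Category.comp_id, pullback.lift_fst] at h2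
      exact h2
    rw [Category.assoc, hs2, pullback.lift_fst]

end Groth.Agent.S15870
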