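import Groth.Statements.S15873
import Groth.Agent.Lib.Helper3EtTorsA
import Groth.Agent.Lib.Helper3EtTorsB
import Groth.Agent.S9812
import Mathlib

set_option autoImplicit false
set_option linter.style.haveILetI false
universe u
open CategoryTheory MonoidalCategory CartesianMonoidalCategory MonObj GrpObj AlgebraicGeometry
open NonAbH1

namespace Groth.Agent.S15873

/-- Let G be an étale k-group scheme, S a normal integral k-scheme with generic point η and E an fppf
torsor over S under G. Then every point of E over S with values in Spec κ(η) extends to a unique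
section of E over S: E(S) → E(κ(η)) is bijective. (The published statement takes S merely integral;
for the nodal cubic over an algebraically closed field and the connected étale double cover, a
torsor under the constant group of order 2, the generic fibre has rational points while there is no
section, and the published proof extends generic points of finite étale schemes, which requires
normality, so S is taken normal here.) -/
theorem result (k : Type u) [Field k]
    (G : Over (Spec (CommRingCat.of k))) [GrpObj G] [Etale G.hom]
    (S : Scheme.{u}) [IsIntegral S] (hS : Pi1.IsNormalScheme S) (s : S ⟶ Spec (CommRingCat.of k))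
    (E : NonAbH1.TorsorSch (Red.bc s G) Scheme.fppfPrecoverage) :
    (∀ σ₁ σ₂ : S ⟶ E.X.left, σ₁ ≫ E.X.hom = 𝟙 S → σ₂ ≫ E.X.hom = 𝟙 S →
        S.fromSpecResidueField (genericPoint S) ≫ σ₁ = S.fromSpecResidueField (genericPoint S) ≫ σ₂ → σ₁ = σ₂) ∧
    (∀ x : Spec (S.residueField (genericPoint S)) ⟶ E.X.left,
        x ≫ E.X.hom = S.fromSpecResidueField (genericPoint S) →
        ∃ σ : S ⟶ E.X.left, σ ≫ E.X.hom = 𝟙 S ∧ S.fromSpecResidueField (genericPoint S) ≫ σ = x) := by
  obtain ⟨het, hsep, hsp⟩ :=
    Groth.Agent.Lib.Helper3.EtTorsA.props_of_torsor_etale_field k G s E.act E.isTorsor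
  have hgu : ∀ t : S, CAlg2.IsGeomUnibranch (S.presheaf.stalk t) := by
    intro t
    haveI := (hS t).1
    haveI := (hS t).2
    exact Groth.Agent.S9812.result _
  refine ⟨?_, ?_⟩
  · intro σ₁ σ₂ h₁ h₂ h
    apply Groth.Agent.Lib.Helper3.EtTorsB.section_ext E.X.hom hgu hsp σ₁ σ₂ h₁ h₂
    have h1 := congrArg (fun φ : Spec (S.residueField (genericPoint S)) ⟶ E.X.left =>
      φ (default : Spec (S.residueField (genericPoint S)))) h
    simp only [Scheme.Hom.comp_apply, Scheme.fromSpecResidueField_apply] at h1
    exact h1
  · intro x hx
    exact Groth.Agent.Lib.Helper3.EtTorsB.exists_section E.X.hom hgu hsp x hx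

end Groth.Agent.S15873
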