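import Groth.Statements.S15874
import Groth.Agent.Lib.Helper4Tors
import Groth.Agent.S15873
import Mathlib

set_option autoImplicit false
set_option linter.style.haveILetI false
universe u
open CategoryTheory MonoidalCategory CartesianMonoidalCategory MonObj GrpObj AlgebraicGeometry
open NonAbH1

namespace Groth.Agent.S15874

-- whether the torsors of a class have a global section
def HasSec {S : Scheme.{u}} {G : Over S} [GrpObj G] (K : Precoverage Scheme.{u}) :
    NonAbH1.H1Sch G K → Prop :=
  Quot.lift (fun P => NonAbH1.HasSectionOver P.X (𝟙 S)) (by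
    rintro P Q ⟨e⟩
    apply propext
    constructor
    · rintro ⟨σ, hσ⟩
      exact ⟨σ ≫ e.iso.hom.left, by rw [Category.assoc, Over.w, hσ]⟩
    · rintro ⟨σ, hσ⟩
      exact ⟨σ ≫ e.iso.inv.left, by rw [Category.assoc, Over.w, hσ]⟩)

theorem hasSec_one {S : Scheme.{u}} {G : Over S} [GrpObj G] (K : Precoverage Scheme.{u})
    [K.HasIsos] : HasSec K (1 : NonAbH1.H1Sch G K) :=
  ⟨η[G].left, Over.w η[G]⟩

-- a torsor with a section is trivial
theorem cl_eq_one_of_section {S : Scheme.{u}} {G : Over S} [GrpObj G]
    (K : Precoverage Scheme.{u}) [K.HasIsos] (P : NonAbH1.TorsorSch G K)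
    (σ : S ⟶ P.X.left) (hσ : σ ≫ P.X.hom = 𝟙 S) : P.cl = 1 := by
  obtain ⟨o, ho⟩ : ∃ o : 𝟙_ (Over S) ⟶ P.X, o.left = σ := ⟨Over.homMk σ hσ, rfl⟩
  haveI := Groth.Agent.Lib.Helper4.Tors.isIso_orb P.act P.isTorsor.1 o
  have e : NonAbH1.EquivIso (NonAbH1.trivialAction G) P.act :=
    ⟨asIso (Groth.Agent.Lib.Helper4.Tors.orb P.act o),
      Groth.Agent.Lib.Helper4.Tors.orb_equivariant P.act o⟩
  exact (Quot.sound (⟨e⟩ : Nonempty (NonAbH1.EquivIso (NonAbH1.trivialAction G) P.act))).symm

/-- Let G be an étale k-group scheme and S a normal integral k-scheme with generic point η. Then an fppf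
torsor over S under G whose base change to Spec κ(η) is trivial is itself trivial: the kernel of
H¹(S, G) → H¹(κ(η), G) on classes of torsors that are schemes is the base point. (The published
statement takes S merely integral; the connected étale double cover of a nodal cubic over an
algebraically closed field is a non-trivial torsor under the constant group of order 2 that is
trivial at the generic point, so S is taken normal here, which is what the published proof uses.) -/
theorem result (k : Type u) [Field k]
    (G : Over (Spec (CommRingCat.of k))) [GrpObj G] [Etale G.hom]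
    (S : Scheme.{u}) [IsIntegral S] (hS : Pi1.IsNormalScheme S) (s : S ⟶ Spec (CommRingCat.of k))
    (c : NonAbH1.H1Sch (Red.bc s G) Scheme.fppfPrecoverage)
    (hc : NonAbH1.H1Sch.bcMap (S.fromSpecResidueField (genericPoint S)) (Red.bc s G) Scheme.fppfPrecoverage c = 1) :
    c = 1 := by
  induction c using Quot.ind with
  | mk P =>
    have h1 := congrArg (HasSec Scheme.fppfPrecoverage) hc
    have h2 : NonAbH1.HasSectionOver (Red.bc (S.fromSpecResidueField (genericPoint S)) P.X)
        (𝟙 _) := by
      have h3 : HasSec Scheme.fppfPrecoverage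
          (NonAbH1.H1Sch.bcMap (S.fromSpecResidueField (genericPoint S)) (Red.bc s G)
            Scheme.fppfPrecoverage (Quot.mk _ P)) := by
        rw [h1]; exact hasSec_one _
      exact h3
    obtain ⟨σ', hσ'⟩ := h2
    have hσ'' : σ' ≫ Limits.pullback.snd P.X.hom (S.fromSpecResidueField (genericPoint S)) =
        𝟙 _ := hσ'
    obtain ⟨σ, hσ, -⟩ := (Groth.Agent.S15873.result k G S hS s P).2
      (σ' ≫ Limits.pullback.fst P.X.hom (S.fromSpecResidueField (genericPoint S)))
      (by rw [Category.assoc, Limits.pullback.condition, ← Category.assoc, hσ'', Category.id_comp])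
    exact cl_eq_one_of_section _ P σ hσ

end Groth.Agent.S15874
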