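import Groth.Statements.S15893
import Mathlib
-- import your own Groth.Agent.* helpers here

set_option autoImplicit false
universe u v w
open CartDual

namespace Groth.Agent.S15893

/-- Let R be a commutative ring and A, B commutative and cocommutative Hopf algebras over R, each
finitely generated and projective as an R-module (finite locally free commutative group schemes G =
Spec A, H = Spec B over Spec R). Then Cartier duality is a fully faithful contravariant functor: the
map sending a bialgebra homomorphism f : A → B (a homomorphism of group schemes H → G) to its
transpose between the dual Hopf algebras, Hom_R(B, R) → Hom_R(A, R) (the dual homomorphism G^D →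
H^D), is a bijection between bialgebra homomorphisms A → B and bialgebra homomorphisms Hom_R(B, R) →
Hom_R(A, R). (The published statement also asserts that the canonical map to the double dual is an
isomorphism, which makes duality an involutory anti-equivalence; that part is not restated here. The
published notes work over a Noetherian base ring; the row allows any commutative base ring.) -/
theorem result (R : Type u) [CommRing R] (A : Type v) (B : Type w)
    [CommRing A] [HopfAlgebra R A] [Coalgebra.IsCocomm R A] [Module.Finite R A] [Module.Projective R A]
    [CommRing B] [HopfAlgebra R B] [Coalgebra.IsCocomm R B] [Module.Finite R B] [Module.Projective R B] :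
    Function.Bijective (fun f : A →ₐc[R] B => CartDual.transpose R f) := by
  constructor
  · intro f g hfg
    apply DFunLike.ext
    intro a
    rw [← sub_eq_zero, ← Module.forall_dual_apply_eq_zero_iff R]
    intro φ
    have h1 := congrArg (fun t => (t (WithConv.toConv φ)) a) hfg
    simp only [CartDual.transpose_apply] at h1
    rw [map_sub, sub_eq_zero]
    exact h1
  · intro φ
    have hbij : Function.Bijective (CartDual.eval R B) := by
      change Function.Bijective (CartDual.evalLin R B)
      unfold CartDual.evalLin
      rw [LinearMap.coe_comp, LinearMap.coe_comp]
      exact (CartDual.toDual R (CartDual.D R B)).symm.bijective.comp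
        ((CartDual.toDual R B).dualMap.bijective.comp (Module.bijective_dual_eval R B))
    let eB := BialgEquiv.ofBijective (R := R) (A := B) (B := CartDual.D R (CartDual.D R B))
      (CartDual.eval R B) hbij
    let f : A →ₐc[R] B := (eB.symm.toBialgHom).comp
      ((CartDual.transpose R φ).comp (CartDual.eval R A))
    have key : ∀ a, CartDual.eval R B (f a) = CartDual.transpose R φ (CartDual.eval R A a) := by
      intro a
      exact eB.apply_symm_apply _
    refine ⟨f, ?_⟩
    apply DFunLike.ext
    intro x
    apply WithConv.ext
    apply LinearMap.ext
    intro a
    have h1 : (CartDual.transpose R f x) a = x (f a) := CartDual.transpose_apply R f x a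
    have h2 : x (f a) = (CartDual.eval R B (f a)) x := (CartDual.eval_apply R B (f a) x).symm
    have h3 : (CartDual.transpose R φ (CartDual.eval R A a)) x = (CartDual.eval R A a) (φ x) :=
      CartDual.transpose_apply R φ _ x
    have h4 : (CartDual.eval R A a) (φ x) = (φ x) a := CartDual.eval_apply R A a (φ x)
    change (CartDual.transpose R f x) a = (φ x) a
    rw [h1, h2, key, h3, h4]

end Groth.Agent.S15893
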