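import Groth.Statements.S15895
import Groth.Prelude.Def_CartDual2
import Mathlib
-- import your own Groth.Agent.* helpers here

set_option autoImplicit false
universe u
open scoped TensorProduct
open Versch

namespace Groth.Agent.S15895

/-- In the group algebra of `ℤ/p` over a ring of characteristic `p`, the `p`-th power map is
`a ↦ ε(a)^p · 1`. -/
private lemma pow_p_eq (p : ℕ) [Fact p.Prime] (R : Type u) [CommRing R] [CharP R p]
    (a : MonoidAlgebra R (Multiplicative (ZMod p))) :
    a ^ p = algebraMap R (MonoidAlgebra R (Multiplicative (ZMod p)))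
      ((Coalgebra.counit (R := R) a) ^ p) := by
  haveI : CharP (MonoidAlgebra R (Multiplicative (ZMod p))) p :=
    charP_of_injective_algebraMap (R := R) (A := MonoidAlgebra R (Multiplicative (ZMod p)))
      (by
        intro r s h
        simpa [MonoidAlgebra.coe_algebraMap, MonoidAlgebra.single_right_inj] using h) p
  induction a using MonoidAlgebra.induction_linear with
  | zero => simp [zero_pow (Fact.out : p.Prime).ne_zero]
  | add a b ha hb =>
    rw [add_pow_char, ha, hb, map_add, add_pow_char, map_add]
  | single g c =>
    rw [MonoidAlgebra.single_pow, MonoidAlgebra.counit_single]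
    have hg : g ^ p = 1 := by
      apply Multiplicative.toAdd.injective
      simp
    rw [hg]
    simp [MonoidAlgebra.coe_algebraMap, MonoidAlgebra.one_def]

/-- Let p be a prime, R a commutative ring of characteristic p and B = Hom_R(R[ℤ/p], R) the dual Hopf
algebra of the group algebra of the cyclic group of order p: the Hopf algebra of the constant group
scheme ℤ/p over Spec R (the Cartier dual of μ_p). Let v : B → B ⊗_R R^(Frob) be the comorphism of
the Verschiebung V : (ℤ/p)^(p) → ℤ/p (the ring map whose transpose under the canonical pairing is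
the relative Frobenius of the dual Hopf algebra of B). Then V is the trivial homomorphism: v is the
composite of the counit ε : B → R, the identity of underlying rings R → R^(Frob) and the inclusion
of the twisted factor R^(Frob) → B ⊗_R R^(Frob), i.e. v(b) = 1 ⊗ ε(b). -/
theorem result (p : ℕ) [Fact p.Prime] (R : Type u) [CommRing R]
    [CharP R p] (v : CartDual.D R (MonoidAlgebra R (Multiplicative (ZMod p))) →+* FrobAlg.BaseChange p R (CartDual.D R (MonoidAlgebra R (Multiplicative (ZMod p)))))
    (hv : Versch.IsVerschiebung p R (CartDual.D R (MonoidAlgebra R (Multiplicative (ZMod p)))) v) :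
    v = ((Algebra.TensorProduct.includeRight (R := R) (A := CartDual.D R (MonoidAlgebra R (Multiplicative (ZMod p))))
            (B := FrobAlg.Twist p R)).toRingHom.comp (FrobAlg.toTwist p R).toRingHom).comp
          (Bialgebra.counitAlgHom R (CartDual.D R (MonoidAlgebra R (Multiplicative (ZMod p))))).toRingHom := by
  set A := MonoidAlgebra R (Multiplicative (ZMod p)) with hA
  refine Versch.IsVerschiebung.unique p R (CartDual.D R A) hv ?_
  rw [Versch.isVerschiebung_iff]
  intro b x
  have hbij : Function.Bijective (CartDual.eval R A) := by
    change Function.Bijective (CartDual.evalLin R A)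
    unfold CartDual.evalLin
    rw [LinearMap.coe_comp, LinearMap.coe_comp]
    exact (CartDual.toDual R (CartDual.D R A)).symm.bijective.comp
      ((CartDual.toDual R A).dualMap.bijective.comp (Module.bijective_dual_eval R A))
  obtain ⟨a, rfl⟩ := hbij.2 x
  have hw : ((Algebra.TensorProduct.includeRight (R := R) (A := CartDual.D R A)
      (B := FrobAlg.Twist p R)).toRingHom.comp (FrobAlg.toTwist p R).toRingHom).comp
      (Bialgebra.counitAlgHom R (CartDual.D R A)).toRingHom b =
      (1 : CartDual.D R A) ⊗ₜ[R] FrobAlg.toTwist p R (b 1) := rfl
  rw [hw, Versch.evTw_tmul', ← map_mul]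
  congr 1
  have h1 : ((CartDual.eval R A a) ^ p) = CartDual.eval R A (a ^ p) := (map_pow _ _ _).symm
  have h2 : ∀ (a' : A) (y : CartDual.D R A), ((CartDual.eval R A a').ofConv y) = y.ofConv a' :=
    fun _ _ => rfl
  have h3 : (1 : CartDual.D R A).ofConv a = Coalgebra.counit (R := R) a := rfl
  change ((CartDual.eval R A a).ofConv 1) ^ p * b.ofConv 1 = ((CartDual.eval R A a) ^ p).ofConv b
  rw [h1, h2, h2, h3, pow_p_eq p R a, Algebra.algebraMap_eq_smul_one, map_smul, smul_eq_mul]

end Groth.Agent.S15895
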