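import Groth.Statements.S15896
import Groth.Agent.Lib.Helper25EtConn

set_option autoImplicit false
universe u
open scoped TensorProduct
open Hopf

namespace Groth.Agent.S15896

/-- Let R be a henselian Noetherian local ring and A a commutative and cocommutative Hopf algebra over R
which is finitely generated and projective as an R-module (a finite flat commutative R-group G =
Spec A). Let e ∈ A be an idempotent with ε(e) = 1 such that the ideal (1 − e) is a Hopf ideal and A⁰
= A/(1 − e) is a local ring, projective over R, with cocommutative quotient structure (G⁰ = Spec A⁰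
is the connected component of the unit section). Let B = Hom_R(A⁰, R) be the dual Hopf algebra (the
Cartier dual (G⁰)^D) and e' ∈ B an idempotent with ε(e') = 1 and B/(1 − e') local (the unit
component of (G⁰)^D). Say that x ∈ B is invariant when (id ⊗ (multiplication by e'))(Δ x) = x ⊗ e',
i.e. x is invariant under translation by the unit component of (G⁰)^D, so that the invariant
elements form the Hopf algebra of the maximal étale quotient of (G⁰)^D; the ideal in A⁰ of the
closed subgroup G_μ ⊆ G⁰ ⊆ G consists of the elements annihilated by every invariant x (G_μ is the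
Cartier dual of the étale quotient of (G⁰)^D, a connected multiplicative subgroup of G). Then G_μ is
the largest connected multiplicative closed subgroup of G: for every Hopf ideal J of A such that A/J
is a local ring, projective over R, cocommutative, and has étale dual Hopf algebra Hom_R(A/J, R) (H
= Spec A/J a connected closed subgroup with étale Cartier dual), every a ∈ A whose image in A⁰ is
annihilated by all invariant x lies in J, i.e. H ⊆ G_μ. -/
theorem result (R : Type u) [CommRing R]
    [HenselianLocalRing R] [IsNoetherianRing R] (A : Type u) [CommRing A] [HopfAlgebra R A] [Coalgebra.IsCocomm R A]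
    [Module.Finite R A] [Module.Projective R A] (e : A) (he : IsIdempotentElem e)
    (hε : Bialgebra.counitAlgHom R A e = 1) [(Ideal.span ({1 - e} : Set A)).IsHopfIdeal R] [IsLocalRing (A ⧸ Ideal.span ({1 - e} : Set A))]
    [Module.Projective R (A ⧸ Ideal.span ({1 - e} : Set A))] [Coalgebra.IsCocomm R (A ⧸ Ideal.span ({1 - e} : Set A))]
    (e' : CartDual.D R (A ⧸ Ideal.span ({1 - e} : Set A))) (he' : IsIdempotentElem e')
    (hε' : Bialgebra.counitAlgHom R (CartDual.D R (A ⧸ Ideal.span ({1 - e} : Set A))) e' = 1)
    [IsLocalRing (CartDual.D R (A ⧸ Ideal.span ({1 - e} : Set A)) ⧸ Ideal.span ({1 - e'} : Set (CartDual.D R (A ⧸ Ideal.span ({1 - e} : Set A)))))]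
    (J : Ideal A) [J.IsHopfIdeal R] [IsLocalRing (A ⧸ J)] [Module.Projective R (A ⧸ J)]
    [Coalgebra.IsCocomm R (A ⧸ J)] [Algebra.Etale R (CartDual.D R (A ⧸ J))]
    (a : A) (ha : ∀ x : CartDual.D R (A ⧸ Ideal.span ({1 - e} : Set A)), LinearMap.lTensor (CartDual.D R (A ⧸ Ideal.span ({1 - e} : Set A))) (LinearMap.mulLeft R e') (Coalgebra.comul (R := R) x) = x ⊗ₜ[R] e' → x (Ideal.Quotient.mk (Ideal.span ({1 - e} : Set A)) a) = 0) :
    a ∈ J := by
  classical
  -- abbreviations
  obtain ⟨h1, -⟩ := Groth.Agent.Lib.Helper25.EtConn.connectedEtale_universal R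
    (CartDual.D R (A ⧸ Ideal.span ({1 - e} : Set A))) e' hε'
  obtain ⟨-, h2⟩ := Groth.Agent.Lib.Helper25.EtConn.connectedEtale_universal R A e hε
  haveI : Module.Finite R (A ⧸ J) :=
    Module.Finite.of_surjective (Ideal.Quotient.mkₐ R J).toLinearMap Ideal.Quotient.mk_surjective
  haveI : Module.Finite R (A ⧸ Ideal.span ({1 - e} : Set A)) :=
    Module.Finite.of_surjective (Ideal.Quotient.mkₐ R (Ideal.span ({1 - e} : Set A))).toLinearMap
      Ideal.Quotient.mk_surjective
  -- step 1: (1 - e) ⊆ J
  have hle : Ideal.span ({1 - e} : Set A) ≤ J := by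
    rw [Ideal.span_le, Set.singleton_subset_iff, SetLike.mem_coe]
    have h3 := h2 (A ⧸ J) (Bialgebra.Quotient.mkBialgHom (R := R) J) he
    rw [Bialgebra.Quotient.mkBialgHom_apply] at h3
    rw [← Ideal.Quotient.eq_zero_iff_mem, map_sub, map_one, h3, sub_self]
  -- step 2: the bialgebra map A⁰ → A/J
  let q₀ : (A ⧸ Ideal.span ({1 - e} : Set A)) →ₐ[R] A ⧸ J := Ideal.Quotient.factorₐ R hle
  have hq₀ : ∀ b : A, q₀ (Ideal.Quotient.mk _ b) = Ideal.Quotient.mk J b := fun b => rfl
  let q : (A ⧸ Ideal.span ({1 - e} : Set A)) →ₐc[R] A ⧸ J :=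
    BialgHom.ofAlgHom q₀ (by
      apply Ideal.Quotient.algHom_ext
      ext b
      rfl) (by
      apply Ideal.Quotient.algHom_ext
      apply AlgHom.ext
      intro b
      simp only [AlgHom.comp_apply, Ideal.Quotient.mkₐ_eq_mk, Bialgebra.comulAlgHom_apply]
      rw [hq₀, Bialgebra.Quotient.comul_mk, Bialgebra.Quotient.comul_mk]
      generalize CoalgebraStruct.comul (R := R) b = z
      induction z using TensorProduct.induction_on with
      | zero => simp
      | add x y hx hy => simp only [map_add, hx, hy]
      | tmul x y => rfl)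
  have hq : ∀ b : A, q (Ideal.Quotient.mk _ b) = Ideal.Quotient.mk J b := fun b => rfl
  -- step 5 first: it suffices that all linear forms kill the class of a
  rw [← Ideal.Quotient.eq_zero_iff_mem]
  rw [← Module.forall_dual_apply_eq_zero_iff R]
  intro y
  have h4 := h1 (CartDual.D R (A ⧸ J)) (CartDual.transpose R q)
    ((CartDual.toDual R (A ⧸ J)).symm y)
  rw [AlgHom.mem_equalizer] at h4
  have h5 := ha (CartDual.transpose R q ((CartDual.toDual R (A ⧸ J)).symm y)) ?_
  · rw [CartDual.transpose_apply, hq] at h5
    exact h5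
  · obtain ⟨x, hx⟩ : ∃ x, x = CartDual.transpose R q ((CartDual.toDual R (A ⧸ J)).symm y) :=
      ⟨_, rfl⟩
    rw [← hx] at h4 ⊢
    let ι₀ : (CartDual.D R (A ⧸ Ideal.span ({1 - e} : Set A)) ⧸ Ideal.span ({1 - e'} :
        Set (CartDual.D R (A ⧸ Ideal.span ({1 - e} : Set A))))) →ₗ[CartDual.D R
          (A ⧸ Ideal.span ({1 - e} : Set A))] CartDual.D R (A ⧸ Ideal.span ({1 - e} : Set A)) :=
      Submodule.liftQ (Ideal.span ({1 - e'} : Set (CartDual.D R (A ⧸ Ideal.span ({1 - e} : Set A)))))
        (LinearMap.mulLeft (CartDual.D R (A ⧸ Ideal.span ({1 - e} : Set A))) e') (by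
          intro z hz
          obtain ⟨r, rfl⟩ := Ideal.mem_span_singleton'.mp hz
          rw [LinearMap.mem_ker, LinearMap.mulLeft_apply]
          rw [mul_comm r, ← mul_assoc, mul_sub, mul_one, he'.eq, sub_self, zero_mul])
    have hι : ∀ z, (ι₀.restrictScalars R) (Ideal.Quotient.mkₐ R (Ideal.span ({1 - e'} :
        Set (CartDual.D R (A ⧸ Ideal.span ({1 - e} : Set A))))) z) = LinearMap.mulLeft R e' z :=
      fun z => rfl
    have h6 : ∀ w : CartDual.D R (A ⧸ Ideal.span ({1 - e} : Set A)) ⊗[R]
        CartDual.D R (A ⧸ Ideal.span ({1 - e} : Set A)),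
        LinearMap.lTensor _ (LinearMap.mulLeft R e') w =
        LinearMap.lTensor _ (ι₀.restrictScalars R)
          (Algebra.TensorProduct.map (AlgHom.id R _)
            (Ideal.Quotient.mkₐ R (Ideal.span ({1 - e'} :
              Set (CartDual.D R (A ⧸ Ideal.span ({1 - e} : Set A)))))) w) := by
      intro w
      induction w using TensorProduct.induction_on with
      | zero => simp
      | add x y hx hy => simp only [map_add, hx, hy]
      | tmul x y =>
        rw [Algebra.TensorProduct.map_tmul, LinearMap.lTensor_tmul, LinearMap.lTensor_tmul, hι]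
        rfl
    rw [h6]
    have h7 : (Algebra.TensorProduct.map (AlgHom.id R _)
            (Ideal.Quotient.mkₐ R (Ideal.span ({1 - e'} :
              Set (CartDual.D R (A ⧸ Ideal.span ({1 - e} : Set A))))))
            (Coalgebra.comul (R := R) x)) = x ⊗ₜ[R] 1 := h4
    rw [h7, LinearMap.lTensor_tmul]
    congr 1
    change ι₀ (Ideal.Quotient.mk _ 1) = e'
    change e' * 1 = e'
    rw [mul_one]

end Groth.Agent.S15896
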