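import Groth.Statements.S15908
import Mathlib
import Groth.Agent.Lib.Helper16E8
import Groth.Agent.Lib.Helper16Conic
import Groth.Agent.Lib.Helper16ConicB
-- import your own Groth.Agent.* helpers here

set_option autoImplicit false
set_option linter.style.haveILetI false
set_option linter.unusedSectionVars false
open Surf

namespace Groth.Agent.S15908

open W4c3severiratdp Groth.Agent.Lib.Helper16E8 Groth.Agent.Lib.Helper16Conic
  Groth.Agent.Lib.Helper16ConicB

/-- Representative of the first orbit: `(5; 1, 0, 2, 2, 2, 2, 2, 2)`. -/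
def repA : DP 8 := ![5, 1, 0, 2, 2, 2, 2, 2, 2]

/-- Representative of the second orbit: `(4; 0, 1, 1, 1, 1, 2, 2, 2)`. -/
def repB : DP 8 := ![4, 0, 1, 1, 1, 1, 2, 2, 2]

/-- Half of `q + repA`. -/
def uVec : DP 8 := ![3, 1, 0, 1, 1, 1, 1, 1, 1]

theorem isConic_repA : IsConic repA := by
  unfold IsConic form canon repA
  decide

theorem isConic_repB : IsConic repB := by
  unfold IsConic form canon repB
  decide

theorem form_repA : form repA (qVec (0 : Fin 8)) = 4 := by
  rw [form_qVec_right]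
  decide

theorem form_repB : form repB (qVec (0 : Fin 8)) = 4 := by
  rw [form_qVec_right]
  decide

theorem term_repA : ∀ i j : Fin 8, i ≠ 0 → j ≠ 0 → i ≠ j → repA i.succ + repA j.succ ≤ 4 := by
  unfold repA
  decide

theorem term_repB : ∀ i j : Fin 8, i ≠ 0 → j ≠ 0 → i ≠ j → repB i.succ + repB j.succ ≤ 4 := by
  unfold repB
  decide

theorem type_repA : ∃ l : Fin 8, l ≠ 0 ∧ repA l.succ = 0 := ⟨1, by decide, by decide⟩

theorem type_repB : ¬ ∃ l : Fin 8, l ≠ 0 ∧ repB l.succ = 0 := by
  unfold repB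
  decide

theorem sum_repA : qVec (0 : Fin 8) + repA = (2 : ℤ) • uVec := by
  funext k
  fin_cases k <;> simp [qVec, repA, uVec, Pi.single_apply]

theorem coord_repB : (qVec (0 : Fin 8) + repB) 2 = 1 := by
  simp [qVec, repB, Pi.single_apply]


open W4c3severiratdp in
/-- Work in the lattice of vectors (a; b_1, …, b_δ), standing for divisor classes a ℓ − Σ b_i e_i on the
blow-up of the projective plane at δ points written in a standard basis, with intersection form a a'
− Σ b_i b_i' and canonical class K = (−3; −1, …, −1); a conic class is a class Q with Q·Q = 0 and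
K·Q = −2, an exceptional class (the class of a (−1)-curve) is a class E with E·E = −1 and K·E = −1,
and the Weyl group W_δ is the group of additive automorphisms of the lattice preserving the form and
fixing K. For δ = 8 the ordered pairs (Q_1, Q_2) of conic classes with Q_1·Q_2 = 4 form exactly two
W_8-orbits: there are two such pairs that no element of W_8 carries one to the other, and every such
pair is carried by an element of W_8 to one of these two. -/
theorem result :
    ∃ p₁ p₂ q₁ q₂ : DP 8, IsConic p₁ ∧ IsConic p₂ ∧ IsConic q₁ ∧ IsConic q₂ ∧ form p₁ p₂ = 4 ∧ form q₁ q₂ = 4 ∧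
      (¬ ∃ g : DP 8 ≃ₗ[ℤ] DP 8, IsWeyl g ∧ g p₁ = q₁ ∧ g p₂ = q₂) ∧
      ∀ v₁ v₂ : DP 8, IsConic v₁ → IsConic v₂ → form v₁ v₂ = 4 →
        ∃ g : DP 8 ≃ₗ[ℤ] DP 8, IsWeyl g ∧ ((g v₁ = p₁ ∧ g v₂ = p₂) ∨ (g v₁ = q₁ ∧ g v₂ = q₂)) := by
  refine ⟨qVec 0, repA, qVec 0, repB, isConic_qVec 0, isConic_repA, isConic_qVec 0, isConic_repB,
    ?_, ?_, ?_, ?_⟩
  · rw [form_comm]
    exact form_repA
  · rw [form_comm]
    exact form_repB
  · rintro ⟨g, _, hgq, hgA⟩
    have h1 : g (qVec 0 + repA) = qVec 0 + repB := by rw [map_add, hgq, hgA]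
    rw [sum_repA, map_zsmul] at h1
    have h2 := congrFun h1 2
    rw [coord_repB, Pi.smul_apply, smul_eq_mul] at h2
    omega
  · intro v₁ v₂ hv₁ hv₂ hm
    obtain ⟨g, hg, hg1, hgc, hgm, hgt⟩ := pair_to_terminal (le_refl 8) (0 : Fin 8) v₁ v₂ hv₁ hv₂
    rw [hm] at hgm hgt
    by_cases hA : ∃ l : Fin 8, l ≠ 0 ∧ g v₂ l.succ = 0
    · obtain ⟨σ, hσ, hσv⟩ := terminal_perm (by norm_num) (le_refl 8) (0 : Fin 8) (g v₂) repA hgc
        isConic_repA 4 hgm form_repA hgt term_repA (Or.inr (iff_of_true hA type_repA))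
      refine ⟨g.trans (permEquiv σ), isWeyl_trans hg (isWeyl_permEquiv σ), Or.inl ⟨?_, ?_⟩⟩
      · rw [LinearEquiv.trans_apply, hg1, permEquiv_qVec σ 0 hσ]
      · rw [LinearEquiv.trans_apply, hσv]
    · obtain ⟨σ, hσ, hσv⟩ := terminal_perm (by norm_num) (le_refl 8) (0 : Fin 8) (g v₂) repB hgc
        isConic_repB 4 hgm form_repB hgt term_repB (Or.inr (iff_of_false hA type_repB))
      refine ⟨g.trans (permEquiv σ), isWeyl_trans hg (isWeyl_permEquiv σ), Or.inr ⟨?_, ?_⟩⟩
      · rw [LinearEquiv.trans_apply, hg1, permEquiv_qVec σ 0 hσ]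
      · rw [LinearEquiv.trans_apply, hσv]

end Groth.Agent.S15908
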