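import Groth.Statements.S15909
import Mathlib
import Groth.Agent.Lib.Helper16E8
-- import your own Groth.Agent.* helpers here

set_option autoImplicit false
set_option linter.style.haveILetI false
set_option linter.unusedSectionVars false
open Surf

namespace Groth.Agent.S15909

open W4c3severiratdp Groth.Agent.Lib.Helper16E8

theorem form_canon_canon : form (canon 8) (canon 8) = 1 := by
  rw [form_canon]
  simp [canon_zero, canon_succ]

theorem core (L L₁ L₂ : DP 8) (hL : IsExc L) (hL₁ : IsExc L₁) (hL₂ : IsExc L₂) (c : ℤ)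
    (hc : c = 0 ∨ c = 1) (h1 : form L₁ L = c) (h2 : form L₂ L = c) :
    ∃ g : DP 8 ≃ₗ[ℤ] DP 8, IsWeyl g ∧ g L = L ∧ g L₁ = L₂ := by
  obtain ⟨g₀, hg₀, a0, a1, a2⟩ := normal_form_zero (δ := 8) le_rfl Finset.univ (by simp)
    (Fin.last 7) (Finset.mem_univ _) L hL (by simp) (by simp)
  have hE : g₀ L = Pi.single (Fin.last 7).succ (-1) := by
    funext m
    refine Fin.cases ?_ (fun j => ?_) m
    · rw [a0]
      simp [Pi.single_apply, (Fin.succ_ne_zero _).symm]
    · by_cases hj : j = Fin.last 7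
      · subst hj
        rw [a1]
        simp
      · rw [a2 j (Finset.mem_univ _) hj, Pi.single_apply,
          if_neg (fun h => hj (Fin.succ_injective _ h))]
  have hM : ∀ M : DP 8, form M L = c → (g₀ M) (Fin.last 7).succ = c := by
    intro M hMc
    have := hg₀.1.1 M L
    rw [hE, form_single_succ_right, hMc] at this
    linarith
  set J : Finset (Fin 8) := Finset.univ.erase (Fin.last 7) with hJ
  have hlast : Fin.last 7 ∉ J := by
    rw [hJ]
    simp
  have hJc : Jᶜ = {Fin.last 7} := by
    rw [hJ]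
    ext x
    simp
  have hJcard : 3 ≤ J.card := by
    rw [hJ, Finset.card_erase_of_mem (Finset.mem_univ _)]
    simp
  have ht : (0 : Fin 8) ∈ J := by
    rw [hJ]
    simp [Fin.ext_iff]
  have hs1 : ∀ M : DP 8, form M L = c → ∑ l ∈ Jᶜ, (g₀ M) l.succ = c := by
    intro M hMc
    rw [hJc, Finset.sum_singleton, hM M hMc]
  have hs2 : ∀ M : DP 8, form M L = c → ∑ l ∈ Jᶜ, (g₀ M) l.succ ^ 2 = c := by
    intro M hMc
    rw [hJc, Finset.sum_singleton, hM M hMc]
    rcases hc with rfl | rfl <;> norm_num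
  have stepB : ∀ M : DP 8, IsExc M → form M L = c → ∃ h, Adm J h ∧ (h (g₀ M)) 0 = c ∧
      (h (g₀ M)) (0 : Fin 8).succ = (if c = 0 then -1 else 1) ∧
      ∀ l ∈ J, l ≠ 0 → (h (g₀ M)) l.succ = 0 := by
    intro M hMe hMc
    rcases hc with rfl | rfl
    · obtain ⟨h, hh, b0, b1, b2⟩ := normal_form_zero (δ := 8) le_rfl J hJcard 0 ht (g₀ M)
        (isWeyl_isExc hg₀.1 hMe) (hs1 M hMc) (hs2 M hMc)
      exact ⟨h, hh, b0, by simpa using b1, b2⟩
    · obtain ⟨h, hh, b0, b1, b2⟩ := normal_form_one (δ := 8) le_rfl J hJcard 0 ht (g₀ M)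
        (isWeyl_isExc hg₀.1 hMe) (hs1 M hMc) (hs2 M hMc)
      exact ⟨h, hh, b0, by simpa using b1, b2⟩
  obtain ⟨k₁, hk₁, p0, p1, p2⟩ := stepB L₁ hL₁ h1
  obtain ⟨k₂, hk₂, q0, q1, q2⟩ := stepB L₂ hL₂ h2
  have heq : k₁ (g₀ L₁) = k₂ (g₀ L₂) := by
    funext m
    refine Fin.cases ?_ (fun j => ?_) m
    · rw [p0, q0]
    · by_cases hjJ : j ∈ J
      · by_cases hj0 : j = 0
        · subst hj0
          rw [p1, q1]
        · rw [p2 j hjJ hj0, q2 j hjJ hj0]
      · rw [adm_coord hk₁ _ j hjJ, adm_coord hk₂ _ j hjJ]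
        have : j = Fin.last 7 := by
          rw [hJ] at hjJ
          simpa using hjJ
        subst this
        rw [hM L₁ h1, hM L₂ h2]
  have hfix : ∀ k, Adm J k → k (g₀ L) = g₀ L := by
    intro k hk
    rw [hE]
    have := hk.2 (Fin.last 7) hlast
    have e : (Pi.single (Fin.last 7).succ (-1) : DP 8) = -(Pi.single (Fin.last 7).succ 1) := by
      rw [← Pi.single_neg]
    rw [e, map_neg, this]
  refine ⟨g₀.trans (k₁.trans (k₂.symm.trans g₀.symm)),
    isWeyl_trans hg₀.1 (isWeyl_trans hk₁.1 (isWeyl_trans (isWeyl_symm hk₂.1) (isWeyl_symm hg₀.1))),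
    ?_, ?_⟩
  · simp only [LinearEquiv.trans_apply]
    have e2 : k₂.symm (g₀ L) = g₀ L := by
      rw [LinearEquiv.symm_apply_eq]
      exact (hfix k₂ hk₂).symm
    rw [hfix k₁ hk₁, e2, LinearEquiv.symm_apply_apply]
  · simp only [LinearEquiv.trans_apply]
    rw [heq, LinearEquiv.symm_apply_apply, LinearEquiv.symm_apply_apply]


open W4c3severiratdp in
/-- Work in the lattice of vectors (a; b_1, …, b_δ), standing for divisor classes a ℓ − Σ b_i e_i on the
blow-up of the projective plane at δ points written in a standard basis, with intersection form a a'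
− Σ b_i b_i' and canonical class K = (−3; −1, …, −1); a conic class is a class Q with Q·Q = 0 and
K·Q = −2, an exceptional class (the class of a (−1)-curve) is a class E with E·E = −1 and K·E = −1,
and the Weyl group W_δ is the group of additive automorphisms of the lattice preserving the form and
fixing K. Let δ = 8 (a del Pezzo surface of degree one) and let L be an exceptional class. If L_1
and L_2 are exceptional classes with L_1·L = L_2·L, then L_1 and L_2 lie in the same orbit of the
stabilizer of L in W_8. -/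
theorem result (L L₁ L₂ : DP 8) (hL : IsExc L) (hL₁ : IsExc L₁)
    (hL₂ : IsExc L₂) (h : form L₁ L = form L₂ L) :
    ∃ g : DP 8 ≃ₗ[ℤ] DP 8, IsWeyl g ∧ g L = L ∧ g L₁ = L₂ := by
  have hKK := form_canon_canon
  have key : ∀ M : DP 8, IsExc M → (-1 ≤ form M L ∧ (form M L = -1 → M = L)) ∧
      (form M L ≤ 3 ∧ (form M L = 3 → M = -L - (2 : ℤ) • canon 8)) := by
    intro M hM
    constructor
    · have hK : form (canon 8) (M - L) = 0 := by
        rw [form_sub_right, hM.2, hL.2]
        norm_num
      obtain ⟨hle, heq0⟩ := form_self_nonpos_of_orth (δ := 8) le_rfl (M - L) hK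
      have hexp : form (M - L) (M - L) = -2 - 2 * form M L := by
        rw [form_sub_left, form_sub_right, form_sub_right, hM.1, hL.1, form_comm L M]
        ring
      rw [hexp] at hle heq0
      refine ⟨by linarith, fun hc1 => ?_⟩
      have := heq0 (by rw [hc1]; norm_num)
      exact sub_eq_zero.mp this
    · have hK : form (canon 8) (M + L + (2 : ℤ) • canon 8) = 0 := by
        rw [form_add_right, form_add_right, form_smul_right, hM.2, hL.2, hKK]
        norm_num
      obtain ⟨hle, heq0⟩ := form_self_nonpos_of_orth (δ := 8) le_rfl _ hK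
      have hexp : form (M + L + (2 : ℤ) • canon 8) (M + L + (2 : ℤ) • canon 8) = 2 * form M L - 6 := by
        simp only [form_add_left, form_add_right, form_smul_left, form_smul_right, hM.1, hL.1,
          hKK, hM.2, hL.2, form_comm L M, form_comm M (canon 8), form_comm L (canon 8)]
        ring
      rw [hexp] at hle heq0
      refine ⟨by linarith, fun hc3 => ?_⟩
      have := heq0 (by rw [hc3]; norm_num)
      rw [← sub_eq_zero, ← this]
      abel
  obtain ⟨⟨hlo, hm1⟩, ⟨hhi, hp3⟩⟩ := key L₂ hL₂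
  obtain ⟨⟨_, hm1'⟩, ⟨_, hp3'⟩⟩ := key L₁ hL₁
  have hcases : form L₂ L = -1 ∨ form L₂ L = 0 ∨ form L₂ L = 1 ∨ form L₂ L = 2 ∨
      form L₂ L = 3 := by omega
  rcases hcases with hc | hc | hc | hc | hc
  · exact ⟨LinearEquiv.refl ℤ _, isWeyl_id, rfl, by
      rw [LinearEquiv.refl_apply, hm1' (h.trans hc), hm1 hc]⟩
  · exact core L L₁ L₂ hL hL₁ hL₂ 0 (Or.inl rfl) (h.trans hc) hc
  · exact core L L₁ L₂ hL hL₁ hL₂ 1 (Or.inr rfl) (h.trans hc) hc
  · have hL' : IsExc (-L - (2 : ℤ) • canon 8) := by
      constructor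
      · simp only [form_sub_left, form_sub_right, form_neg_left, form_neg_right, form_smul_left,
          form_smul_right, hL.1, hL.2, hKK, form_comm L (canon 8)]
        norm_num
      · simp only [form_sub_right, form_neg_right, form_smul_right, hL.2, hKK]
        norm_num
    have hf : ∀ M : DP 8, IsExc M → form M L = 2 → form M (-L - (2 : ℤ) • canon 8) = 0 := by
      intro M hM hMc
      simp only [form_sub_right, form_neg_right, form_smul_right, hMc, form_comm M (canon 8),
        hM.2]
      norm_num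
    obtain ⟨g, hg, hgL, hg12⟩ := core (-L - (2 : ℤ) • canon 8) L₁ L₂ hL' hL₁ hL₂ 0 (Or.inl rfl)
      (hf L₁ hL₁ (h.trans hc)) (hf L₂ hL₂ hc)
    refine ⟨g, hg, ?_, hg12⟩
    have e : g (-L - (2 : ℤ) • canon 8) = -(g L) - (2 : ℤ) • canon 8 := by
      simp only [map_sub, map_neg, map_smul, hg.2]
    rw [e] at hgL
    have h3 : -(g L) = -L := sub_left_injective hgL
    exact neg_injective h3
  · exact ⟨LinearEquiv.refl ℤ _, isWeyl_id, rfl, by
      rw [LinearEquiv.refl_apply, hp3' (h.trans hc), hp3 hc]⟩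

end Groth.Agent.S15909
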