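import Groth.Statements.S15910
import Mathlib
import Groth.Agent.Lib.Helper16E8
import Groth.Agent.Lib.Helper16E8b
-- import your own Groth.Agent.* helpers here

set_option autoImplicit false
set_option linter.style.haveILetI false
set_option linter.unusedSectionVars false
open Surf

namespace Groth.Agent.S15910

open W4c3severiratdp Groth.Agent.Lib.Helper16E8 Groth.Agent.Lib.Helper16E8b

theorem form_two_nsmul_right (v w : DP 8) : form v (2 • w) = 2 * form v w := by
  rw [two_nsmul, form_add_right]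
  ring

theorem form_two_nsmul_left (v w : DP 8) : form (2 • v) w = 2 * form v w := by
  rw [two_nsmul, form_add_left]
  ring


open W4c3severiratdp in
/-- Work in the lattice of vectors (a; b_1, …, b_δ), standing for divisor classes a ℓ − Σ b_i e_i on the
blow-up of the projective plane at δ points written in a standard basis, with intersection form a a'
− Σ b_i b_i' and canonical class K = (−3; −1, …, −1); a conic class is a class Q with Q·Q = 0 and
K·Q = −2, an exceptional class (the class of a (−1)-curve) is a class E with E·E = −1 and K·E = −1,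
and the Weyl group W_δ is the group of additive automorphisms of the lattice preserving the form and
fixing K. Let δ = 8 and let L be an exceptional class. Let B be the set of unordered triples {λ_1,
λ_2, λ_3} of exceptional classes (repetitions allowed) with λ_1 + λ_2 + λ_3 = −2K + L. Then the
stabilizer of L in W_8 has exactly four orbits on B. Triples are written as maps Fin 3 → lattice and
compared up to reordering: there are four members of B, no two of which are identified by an element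
of the stabilizer followed by a reordering, and every member of B is so identified with one of the
four. -/
theorem result (L : DP 8) (hL : IsExc L) :
    ∃ r : Fin 4 → (Fin 3 → DP 8),
      (∀ j, (∀ i, IsExc (r j i)) ∧ r j 0 + r j 1 + r j 2 = L - 2 • canon 8) ∧
      (∀ j j', (∃ g : DP 8 ≃ₗ[ℤ] DP 8, IsWeyl g ∧ g L = L ∧ ∃ σ : Equiv.Perm (Fin 3), ∀ i, g (r j (σ i)) = r j' i) → j = j') ∧
      ∀ t : Fin 3 → DP 8, (∀ i, IsExc (t i)) → t 0 + t 1 + t 2 = L - 2 • canon 8 →
        ∃ j, ∃ g : DP 8 ≃ₗ[ℤ] DP 8, IsWeyl g ∧ g L = L ∧ ∃ σ : Equiv.Perm (Fin 3), ∀ i, g (t (σ i)) = r j i := by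
  obtain ⟨g₀, hg₀, hgL⟩ := exists_weyl_to_e8 L hL
  have hg₀s := isWeyl_symm hg₀
  have hsL : g₀.symm (eVec (Fin.last 7)) = L := by
    rw [LinearEquiv.symm_apply_eq, hgL]
  have hsT : g₀.symm T8 = L - 2 • canon 8 := by
    rw [T8, map_sub, map_nsmul, hsL, hg₀s.2]
  have hKK := form_canon_canon
  refine ⟨fun j i => g₀.symm (R j i), fun j => ⟨fun i => isWeyl_isExc hg₀s (isExc_R j i), ?_⟩,
    ?_, ?_⟩
  · show g₀.symm (R j 0) + g₀.symm (R j 1) + g₀.symm (R j 2) = _
    rw [← map_add, ← map_add, ← hsT]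
    congr 1
    show R0 j + R1 j + (T8 - R0 j - R1 j) = T8
    abel
  · rintro j j' ⟨g, hg, hgLL, σ, hσ⟩
    apply Groth.Agent.Lib.Helper16E8b.inv_injective
    have hc : ∀ (j : Fin 4) (i : Fin 3), form (g₀.symm (R j i)) L = cval j i := by
      intro j i
      rw [cval, ← hsL, hg₀s.1]
    have hσ' : ∀ i, g (g₀.symm (R j (σ i))) = g₀.symm (R j' i) := hσ
    have h1 : ∀ i, cval j' i = cval j (σ i) := by
      intro i
      rw [← hc, ← hc, ← hσ' i]
      conv_lhs => rw [← hgLL]
      rw [hg.1]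
    unfold inv
    rw [← Equiv.sum_comp σ (fun i => cval j i ^ 2)]
    exact Finset.sum_congr rfl fun i _ => by rw [h1 i]
  · intro t ht hsum
    -- intersection numbers with L
    have hb : ∀ i, (-1 ≤ form (t i) L ∧ (form (t i) L = -1 → t i = L)) ∧
        (form (t i) L ≤ 3 ∧ (form (t i) L = 3 → t i = -L - (2 : ℤ) • canon 8)) :=
      fun i => exc_pair_bounds L (t i) hL (ht i)
    have hcsum : form (t 0) L + form (t 1) L + form (t 2) L = 1 := by
      rw [← form_add_left, ← form_add_left, hsum, form_sub_left, form_two_nsmul_left, hL.1, hL.2]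
      norm_num
    set σ₀ := Tuple.sort (fun i => form (t i) L) with hσ₀
    have hmono : Monotone ((fun i => form (t i) L) ∘ σ₀) := Tuple.monotone_sort _
    have h01 : form (t (σ₀ 0)) L ≤ form (t (σ₀ 1)) L := hmono (by decide)
    have h12 : form (t (σ₀ 1)) L ≤ form (t (σ₀ 2)) L := hmono (by decide)
    have hcsum' : form (t (σ₀ 0)) L + form (t (σ₀ 1)) L + form (t (σ₀ 2)) L = 1 := by
      have := Equiv.sum_comp σ₀ (fun i => form (t i) L)
      rw [Fin.sum_univ_three, Fin.sum_univ_three] at this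
      linarith
    have hsum' : t (σ₀ 0) + t (σ₀ 1) + t (σ₀ 2) = L - 2 • canon 8 := by
      have := Equiv.sum_comp σ₀ t
      rw [Fin.sum_univ_three, Fin.sum_univ_three] at this
      rw [this, hsum]
    -- finishing lemma
    have finish : ∀ (j : Fin 4) (h : DP 8 ≃ₗ[ℤ] DP 8), IsWeyl h → h L = eVec (Fin.last 7) →
        h (t (σ₀ 0)) = R0 j → h (t (σ₀ 1)) = R1 j →
        ∃ j, ∃ g : DP 8 ≃ₗ[ℤ] DP 8, IsWeyl g ∧ g L = L ∧ ∃ σ : Equiv.Perm (Fin 3),
          ∀ i, g (t (σ i)) = g₀.symm (R j i) := by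
      intro j h hh hhL h0 h1
      have hgw : IsWeyl (h.trans g₀.symm) := isWeyl_trans hh hg₀s
      have hgLL : (h.trans g₀.symm) L = L := by
        rw [LinearEquiv.trans_apply, hhL, hsL]
      refine ⟨j, h.trans g₀.symm, hgw, hgLL, σ₀, fun i => ?_⟩
      have e0 : (h.trans g₀.symm) (t (σ₀ 0)) = g₀.symm (R j 0) := by
        rw [LinearEquiv.trans_apply, h0]
        rfl
      have e1 : (h.trans g₀.symm) (t (σ₀ 1)) = g₀.symm (R j 1) := by
        rw [LinearEquiv.trans_apply, h1]
        rfl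
      fin_cases i
      · exact e0
      · exact e1
      · show (h.trans g₀.symm) (t (σ₀ 2)) = g₀.symm (T8 - R0 j - R1 j)
        have e2 : t (σ₀ 2) = L - 2 • canon 8 - t (σ₀ 0) - t (σ₀ 1) := by
          rw [← hsum']
          abel
        rw [e2, map_sub, map_sub, map_sub, map_nsmul, hgLL, hgw.2, e0, e1, map_sub, map_sub, hsT]
        rfl
    obtain ⟨⟨hlo0, hm0⟩, _⟩ := hb (σ₀ 0)
    obtain ⟨⟨hlo1, hm1⟩, _⟩ := hb (σ₀ 1)
    obtain ⟨_, ⟨hhi2, _⟩⟩ := hb (σ₀ 2)
    have hcases : (form (t (σ₀ 0)) L = -1 ∧ form (t (σ₀ 1)) L = -1) ∨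
        (form (t (σ₀ 0)) L = -1 ∧ form (t (σ₀ 1)) L = 0) ∨
        (form (t (σ₀ 0)) L = -1 ∧ form (t (σ₀ 1)) L = 1) ∨
        (form (t (σ₀ 0)) L = 0 ∧ form (t (σ₀ 1)) L = 0) := by omega
    rcases hcases with ⟨c0, c1⟩ | ⟨c0, c1⟩ | ⟨c0, c1⟩ | ⟨c0, c1⟩
    · refine finish 0 g₀ hg₀ hgL ?_ ?_
      · rw [hm0 c0, hgL]
        rfl
      · rw [hm1 c1, hgL]
        rfl
    · obtain ⟨h, hh, hhL, hh1⟩ := exists_weyl_pair_zero L (t (σ₀ 1)) hL (ht _) c1
      refine finish 1 h hh hhL ?_ ?_
      · rw [hm0 c0, hhL]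
        rfl
      · rw [hh1]
        rfl
    · obtain ⟨h, hh, hhL, hh1⟩ := exists_weyl_pair_one L (t (σ₀ 1)) hL (ht _) c1
      refine finish 2 h hh hhL ?_ ?_
      · rw [hm0 c0, hhL]
        rfl
      · rw [hh1]
        rfl
    · have c2 : form (t (σ₀ 2)) L = 1 := by linarith
      have h10 : form (t (σ₀ 1)) (t (σ₀ 0)) = 1 := by
        have e2 : t (σ₀ 2) = L - 2 • canon 8 - t (σ₀ 0) - t (σ₀ 1) := by
          rw [← hsum']
          abel
        have hex := (ht (σ₀ 2)).1
        rw [e2] at hex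
        simp only [form_sub_left, form_sub_right, form_two_nsmul_left, form_two_nsmul_right,
          hL.1, hL.2, hKK, (ht (σ₀ 0)).1, (ht (σ₀ 1)).1, (ht (σ₀ 0)).2, (ht (σ₀ 1)).2, c0, c1,
          form_comm L (canon 8), form_comm L (t (σ₀ 0)), form_comm L (t (σ₀ 1)),
          form_comm (t (σ₀ 0)) (canon 8), form_comm (t (σ₀ 1)) (canon 8),
          form_comm (t (σ₀ 0)) (t (σ₀ 1))] at hex
        linarith
      obtain ⟨h, hh, hhL, hh0, hh1⟩ := exists_weyl_triple L (t (σ₀ 0)) (t (σ₀ 1)) hL (ht _) (ht _)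
        c0 c1 h10
      refine finish 3 h hh hhL ?_ ?_
      · rw [hh0]
        rfl
      · rw [hh1]
        rfl

end Groth.Agent.S15910
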