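import Groth.Statements.S1592
import Groth.Agent.Lib.Helper3NodeEtC
import Mathlib

set_option autoImplicit false
set_option linter.style.haveILetI false
universe u
open CategoryTheory CategoryTheory.Limits AlgebraicGeometry
open Curves

namespace Groth.Agent.S1592

/-- If f : X → S is at-worst-nodal of relative dimension one and g : Y → X is étale, then g ≫ f is
at-worst-nodal of relative dimension one. -/
theorem result {X Y S : Scheme.{u}} (f : X ⟶ S) (hf : Curv2.IsNodalFamily f) (g : Y ⟶ X) [Etale g] :
    Curv2.IsNodalFamily (g ≫ f) := by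
  obtain ⟨hflat, hlfp, hfib⟩ := hf
  haveI := hflat
  haveI := hlfp
  refine ⟨inferInstance, inferInstance, fun s => ⟨?_, ?_⟩⟩
  · exact Groth.Agent.Lib.Helper3.NodeEtC.topologicalKrullDim_eq_of_etale g f 1 s (hfib s).1
  · exact Groth.Agent.Lib.Helper3.NodeEtC.atWorstNodal_of_etale (S.residueField s)
      (f.fiberToSpecResidueField s) ((g ≫ f).fiberToSpecResidueField s)
      (Groth.Agent.Lib.Helper3.NodeEtC.fibreMap g f s)
      (Groth.Agent.Lib.Helper3.NodeEtC.fibreMap_toSpec g f s) (hfib s).2

end Groth.Agent.S1592
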