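import Groth.Statements.S1593
import Groth.Agent.Lib.Helper3NodeEtD
import Mathlib

set_option autoImplicit false
set_option linter.style.haveILetI false
universe u
open CategoryTheory CategoryTheory.Limits AlgebraicGeometry
open Curves

namespace Groth.Agent.S1593

/-- Being an at-worst-nodal family of curves is étale local on the source: let f : X → S be a morphism
and g_i : U_i → X a jointly surjective family of étale morphisms. If every composite g_i ≫ f is
at-worst-nodal of relative dimension one, then so is f. -/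
theorem result {X S : Scheme.{u}} (f : X ⟶ S) (ι : Type u) (U : ι → Scheme.{u})
    (g : ∀ i, U i ⟶ X) [∀ i, Etale (g i)] (hsurj : ∀ x : X, ∃ i, x ∈ Set.range (g i).base)
    (h : ∀ i, Curv2.IsNodalFamily (g i ≫ f)) : Curv2.IsNodalFamily f := by
  let G : ∐ U ⟶ X := Sigma.desc g
  haveI : Etale G := IsZariskiLocalAtSource.sigmaDesc (fun i => inferInstance)
  haveI : Surjective G := by
    refine ⟨fun x => ?_⟩
    obtain ⟨i, u, rfl⟩ := hsurj x
    refine ⟨Sigma.ι U i u, ?_⟩
    rw [← Scheme.Hom.comp_apply, Sigma.ι_desc]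
  have hGf : G ≫ f = Sigma.desc (fun i => g i ≫ f) := by
    refine Sigma.hom_ext _ _ fun i => ?_
    rw [Sigma.ι_desc_assoc, Sigma.ι_desc]
  haveI : Flat (G ≫ f) := by
    rw [hGf]
    haveI : ∀ i, Flat (g i ≫ f) := fun i => (h i).1
    infer_instance
  haveI : LocallyOfFinitePresentation (G ≫ f) := by
    rw [hGf]
    exact IsZariskiLocalAtSource.sigmaDesc (fun i => (h i).2.1)
  haveI : Flat f := Groth.Agent.Lib.Helper12.flat_of_comp_of_flat_of_surjective G f
  haveI : LocallyOfFinitePresentation f :=
    Groth.Agent.Lib.Helper12.FPDescent.locallyOfFinitePresentation_of_etale_cover_source G f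
  refine ⟨inferInstance, inferInstance, fun s => ⟨?_, ?_⟩⟩
  · exact Groth.Agent.Lib.Helper3.NodeEtD.topologicalKrullDim_eq_of_etale_cover f U g hsurj 1 s
      (fun i => ((h i).2.2 s).1)
  · refine Groth.Agent.Lib.Helper3.NodeEtD.atWorstNodal_of_etale_cover (S.residueField s)
      (f.fiberToSpecResidueField s) (fun i => (g i ≫ f).fiber s)
      (fun i => (g i ≫ f).fiberToSpecResidueField s)
      (fun i => Groth.Agent.Lib.Helper3.NodeEtC.fibreMap (g i) f s)
      (fun i => Groth.Agent.Lib.Helper3.NodeEtC.fibreMap_toSpec (g i) f s) ?_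
      (fun i => ((h i).2.2 s).2)
    intro x
    obtain ⟨i, u, hu⟩ := hsurj (f.fiberι s x)
    have hxs : f (f.fiberι s x) = s := by
      have : f.fiberι s x ∈ Set.range (f.fiberι s) := ⟨x, rfl⟩
      rw [f.range_fiberι] at this
      exact this
    have hus : (g i ≫ f) u = s := by
      change f ((g i) u) = s
      rw [hu]
      exact hxs
    have : u ∈ Set.range ((g i ≫ f).fiberι s) := by rw [(g i ≫ f).range_fiberι]; exact hus
    obtain ⟨z, rfl⟩ := this
    refine ⟨i, z, ?_⟩
    apply (f.fiberι s).isEmbedding.injective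
    rw [← Scheme.Hom.comp_apply, Groth.Agent.Lib.Helper3.NodeEtC.fibreMap_fiberι,
      Scheme.Hom.comp_apply]
    exact hu

end Groth.Agent.S1593
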