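import Groth.Statements.S15933
import Mathlib
import Groth.Agent.Lib.Helper27BMCohVanish

set_option autoImplicit false
universe u
open CategoryTheory AlgebraicGeometry Opposite
open BMCoh

namespace Groth.Agent.S15933

/-- Let T be a twisted Borel–Moore cohomology theory with coefficients in A (a full subcategory of
R-modules containing R) on a constructible class V of Noetherian schemes, X an object of V, M a
coefficient module; H^i(F_kX, M(n)) denotes the colimit of H^i(U, M(n)) over the open subschemes U
of X containing every point of codimension at most k (codimension of a point = dim X minus the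
dimension of its closure), and H^i(x, M(n)) the group of a point x (colimit over the nonempty opens
of its reduced closure); for each level p let push-forward data at level p be the maps ι_x : H^k(x,
M(l)) → H^{k+2p}(F_pX, M(l+p)) for the points x of codimension p, agreeing with proper push-forward
along pieces of the closure of x, with total map ι_*, and residue data at level p the maps ∂_x :
H^k(F_pX, M(l)) → H^{k+1−2(p+1)}(x, M(l−(p+1))) for the points x of codimension p + 1, agreeing with
the residue maps of the Gysin sequences of decompositions and finitely supported, with total map ∂.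
Assume that X is reduced, of dimension d, and that there is a natural number c such that for every
point y of X the groups H^k(y, M(l)) vanish for all l and all k > dim(closure of y) + c. Let q be a
natural number, P₀, Q₀ push-forward and residue data at level q, P₁, Q₁ push-forward and residue
data at level q + 1, and fix integers with e + (q + 1) = d + c (the degree on the points of
codimension q + 1), a = e + 2(q + 1) and n = m + (q + 1) (so ι_* maps ⊕_x H^e(x, M(m)) over the
points of codimension q + 1 to H^a(F_{q+1}X, M(n))), e' = a + 1 − 2(q + 2) and m' = n − (q + 2) (the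
target bidegree of ∂ at level q + 1), a₀ = b + 2q and n₀ = k + q, e = a₀ + 1 − 2(q + 1) and m = n₀ −
(q + 1) (so ∂ ∘ ι_* maps ⊕_x H^b(x, M(k)) over the points of codimension q to ⊕_x H^e(x, M(m)) over
those of codimension q + 1). Then: (i) every class of H^a(F_{q+1}X, M(n)) in the image of
H^a(F_{q+2}X, M(n)) — the refined unramified group in degree a = d + c + q + 1 at level q + 1 —
equals ι_*ξ for some ξ in ⊕_x H^e(x, M(m)) with ∂(ι_*ξ) = 0; and (ii) every ξ in that direct sum
with ∂(ι_*ξ) = 0 and ι_*ξ = 0 equals ∂(ι_*ζ) for some ζ in ⊕_x H^b(x, M(k)) over the points of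
codimension q. In words: ι_* induces a bijection from the kernel of ∂ ∘ ι_* modulo the image of ∂ ∘
ι_* onto that refined unramified group. (The published corollary is stated for the finite
Tate-twisted coefficients of an ℓ-adic theory and for every codimension j ≥ 0, with no reducedness
hypothesis; its printed derivation uses only the Gysin sequences and the vanishing of H^k(F_pX) in
degrees k > d + p + c, which involve neither the coefficient ring nor the twist, so the statement is
made here for any theory and coefficient module, for codimension j = q + 1 ≥ 1, and with X reduced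
because that vanishing is available here for reduced X.) -/
theorem result (V : ObjectProperty Scheme.{u}) [BMCoh.IsConstructible V] (R : Type u) [CommRing R] (A : BMCoh.Coefs R) (T : BMCoh.TheoryOn V R A) (X : BMCoh.Obj V) [IsReduced X.scheme] (M : A.Cat) (c : ℕ) (hc : ∀ (y : X.scheme) (k l : ℤ), (WeilCoh.pdim X.scheme y : ℤ) + c < k → Limits.IsZero (T.ptGp X y M k l)) (q : ℕ) (P₀ : T.PushData X q) (Q₀ : T.ResData X q) (P₁ : T.PushData X (q + 1)) (Q₁ : T.ResData X (q + 1)) (e m a n e' m' b k a₀ n₀ : ℤ) (hd : e + ((q + 1 : ℕ) : ℤ) = (WeilCoh.dim X.scheme : ℤ) + c) (ha : a = e + 2 * ((q + 1 : ℕ) : ℤ)) (hn : n = m + ((q + 1 : ℕ) : ℤ)) (he' : e' = a + 1 - 2 * (((q + 1 : ℕ) : ℤ) + 1)) (hm' : m' = n - (((q + 1 : ℕ) : ℤ) + 1)) (hb : a₀ = b + 2 * (q : ℤ)) (hk : n₀ = k + (q : ℤ)) (he : e = a₀ + 1 - 2 * ((q : ℤ) + 1)) (hm : m = n₀ - ((q : ℤ) + 1)) : (∀ α : T.fjGp X (q + 1) M a n, α ∈ T.nr X (q + 1) a n M → ∃ ξ : T.ptSum X (q + 1) M e m, (Q₁.tot M a n e' m' he' hm').hom ((P₁.tot M e m a n ha hn).hom ξ) = 0 ∧ (P₁.tot M e m a n ha hn).hom ξ = α) ∧ (∀ ξ : T.ptSum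 X (q + 1) M e m, (Q₁.tot M a n e' m' he' hm').hom ((P₁.tot M e m a n ha hn).hom ξ) = 0 → (P₁.tot M e m a n ha hn).hom ξ = 0 → ∃ ζ : T.ptSum X q M b k, (Q₀.tot M a₀ n₀ e m he hm).hom ((P₀.tot M b k a₀ n₀ hb hk).hom ζ) = ξ) := by
  have hvan : ∀ (j : ℕ) (i n : ℤ), (WeilCoh.dim X.scheme : ℤ) + j + c < i →
      Limits.IsZero (T.fjGp X j M i n) := fun j i n h =>
    Groth.Agent.Lib.Helper27BMCoh.fjGp_isZero_of_dim_add_lt T.toPreTheory (X := X) M c hc j i n h
  constructor
  · intro α hα
    obtain ⟨α', rfl⟩ := hα
    have hex := Groth.Agent.Lib.Helper27BMCoh.exact_pushTot_fjRes T.toPreTheory P₁ M e m a n ha hn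
    have hz : Limits.IsZero (T.fjGp X q M a n) := hvan q a n (by push_cast at hd ha ⊢; omega)
    have h0 : ((T.fjRes X (Nat.le_succ q) a n).app M).hom
        (((T.fjRes X (Nat.le_succ (q + 1)) a n).app M).hom α') = 0 := by
      have := (ModuleCat.isZero_iff_subsingleton.mp hz)
      exact Subsingleton.elim _ _
    obtain ⟨ξ, hξ⟩ := (hex _).mp h0
    refine ⟨ξ, ?_, hξ⟩
    rw [hξ]
    exact (Groth.Agent.Lib.Helper27BMCoh.exact_fjRes_resTot T.toPreTheory Q₁ M a n e' m' he' hm').apply_apply_eq_zero α'
  · intro ξ _ hξ0
    obtain rfl : a = a₀ + 1 := by push_cast at ha he; omega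
    obtain rfl : n = n₀ := by push_cast at hn hm; omega
    have hex := Groth.Agent.Lib.Helper27BMCoh.exact_resTot_pushTot T.toPreTheory Q₀ P₁ M a₀ n e m he hm ha hn
    obtain ⟨α₀, hα₀⟩ := (hex ξ).mp hξ0
    have hsurj : Function.Surjective (P₀.tot M b k a₀ n hb hk).hom := by
      cases q with
      | zero =>
        have hb0 : a₀ = b := by simpa using hb
        have hk0 : n = k := by simpa using hk
        subst hb0 hk0
        exact Groth.Agent.Lib.Helper27BMCoh.pushTot_zero_surjective T.toPreTheory P₀ M _ _ hb hk
      | succ q' =>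
        have hex0 := Groth.Agent.Lib.Helper27BMCoh.exact_pushTot_fjRes T.toPreTheory P₀ M b k a₀ n hb hk
        have hz : Limits.IsZero (T.fjGp X q' M a₀ n) :=
          hvan q' a₀ n (by push_cast at hd he ⊢; omega)
        intro β
        have h0 : ((T.fjRes X (Nat.le_succ q') a₀ n).app M).hom β = 0 := by
          have := (ModuleCat.isZero_iff_subsingleton.mp hz)
          exact Subsingleton.elim _ _
        exact (hex0 β).mp h0
    obtain ⟨ζ, hζ⟩ := hsurj α₀
    exact ⟨ζ, by rw [hζ, hα₀]⟩

end Groth.Agent.S15933
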