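import Groth.Statements.S15938
import Groth.Agent.Lib.Helper2CanonEvA
import Groth.Agent.Lib.Helper2CanonEvB
import Groth.Agent.Lib.Helper23SecTw6
import Groth.Agent.Lib.Helper26QProjLim

set_option autoImplicit false
universe u
open CategoryTheory CategoryTheory.Limits AlgebraicGeometry
open Canon

namespace Groth.Agent.S15938

/-- Let S be a locally Noetherian scheme, f : X ⟶ S locally projective and smooth of relative dimension
n with non-empty geometrically connected fibres, ω an n-th exterior power of the relative
differentials (the relative canonical sheaf K_{X/S}), and m ≥ 1 such that the evaluation map f^* f_*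
K^{⊗m} ⟶ K^{⊗m} is an isomorphism. Then the formation of f_* K^{⊗m} commutes with base change: for
every morphism g : S′ ⟶ S with S′ locally Noetherian, writing f′ : X ×_S S′ ⟶ S′ and g′ : X ×_S S′ ⟶
X for the projections, the base-change morphism g^* f_* K^{⊗m} ⟶ f′_* g′^* K^{⊗m} (adjoint to g′^*
of the evaluation map, through the canonical identifications of iterated pullbacks) is an
isomorphism. (The published statement has f projective and smooth, of possibly varying relative
dimension; this row takes f locally projective of constant relative dimension n and base changes by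
locally Noetherian schemes.) -/
theorem result
    {X S : Scheme.{u}} [IsLocallyNoetherian S] (f : X ⟶ S)
    (hproj : RedSub.IsLocallyProjective (Over.mk f))
    (n : ℕ) [SmoothOfRelativeDimension n f] [GeometricallyConnected f]
    (ω : X.Modules) (hω : Canon.IsTopDiff f n ω) (m : ℕ) (hm : 1 ≤ m)
    (hev : IsIso ((Scheme.Modules.pullbackPushforwardAdjunction f).counit.app (CohB1.tensorPow ω m)))
    {S' : Scheme.{u}} [IsLocallyNoetherian S'] (g : S' ⟶ S) :
    IsIso (((Scheme.Modules.pullbackPushforwardAdjunction (pullback.snd f g)).homEquiv _ _)
      ((Scheme.Modules.pullbackComp (pullback.snd f g) g).hom.app _ ≫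
        (Scheme.Modules.pullbackCongr (pullback.condition (f := f) (g := g))).inv.app _ ≫
        (Scheme.Modules.pullbackComp (pullback.fst f g) f).inv.app _ ≫
        (Scheme.Modules.pullback (pullback.fst f g)).map
          ((Scheme.Modules.pullbackPushforwardAdjunction f).counit.app (CohB1.tensorPow ω m)))) := by
  haveI : IsProper f := Groth.Agent.Lib.Helper2.CanonEvA.isProper_of_isLocallyProjective f hproj
  haveI : Smooth f := SmoothOfRelativeDimension.smooth n f
  haveI : Flat f := inferInstance
  haveI : QuasiSeparated f := inferInstance
  haveI : QuasiCompact f := inferInstance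
  haveI : Surjective f := inferInstance
  have hinv := Groth.Agent.Lib.Helper23.SecTw.isInvertible_tensorPow
    (Groth.Agent.Lib.Helper2.TopDiffD.isInvertible_of_isTopDiff f n ω hω) m
  have hE := Groth.Agent.Lib.Helper2.CanonEvB.isFinLocFreeOfRank_one_push f _ hinv hev
  haveI : (CohB1.tensorPow ω m).IsQuasicoherent :=
    Groth.Agent.Lib.Helper23.SecTw.isQuasicoherent_of_isInvertible _ hinv
  haveI qc : ((Scheme.Modules.pushforward f).obj (CohB1.tensorPow ω m)).IsQuasicoherent :=
    Groth.Agent.Lib.Helper23.QCohLocal.isQuasicoherent_pushforward f _
  have hgE : FlatMod.IsFinLocFree ((Scheme.Modules.pullback g).obj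
      ((Scheme.Modules.pushforward f).obj (CohB1.tensorPow ω m))) :=
    Groth.Agent.Lib.Helper26.QProjLim.isFinLocFree_of_isFinLocFreeOfRank _
      (Groth.Agent.Lib.Helper26.ModRank.isFinLocFreeOfRank_pullback g _ hE)
  -- the base-changed morphism
  haveI : IsProper (pullback.snd f g) := inferInstance
  haveI : Smooth (pullback.snd f g) := inferInstance
  haveI : GeometricallyConnected (pullback.snd f g) := inferInstance
  haveI : Flat (pullback.snd f g) := inferInstance
  haveI : LocallyOfFinitePresentation (pullback.snd f g) := inferInstance
  have hbO := Groth.Agent.Lib.Helper2.CanonEvA.betti_zero_eq_one (pullback.snd f g)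
  have hfpO := Groth.Agent.Lib.Helper2.SurfFibB.isFP_structureModule (pullback f g)
  have hflO := Groth.Agent.Lib.Helper2.SurfFibB.isFlatOver_structureModule (pullback.snd f g)
  have hunit : IsIso (ClSub.unitToPush (pullback.snd f g)) :=
    Groth.Agent.Lib.Helper2.R1RankF.isIso_unitToPush (pullback.snd f g) hfpO hflO hbO
  have hbij : ∀ U : S'.Opens, Function.Bijective ((pullback.snd f g).app U) := by
    intro U
    have h1 := (Scheme.Modules.Hom.isIso_iff_isIso_app
      (φ := ClSub.unitToPush (pullback.snd f g))).1 hunit U
    have h2 := (ConcreteCategory.isIso_iff_bijective _).1 h1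
    exact h2
  haveI hη := Groth.Agent.Helper18PBUnit.isIso_unit (pullback.snd f g) hbij _ hgE
  haveI := hev
  rw [Adjunction.homEquiv_unit]
  haveI : IsIso ((Scheme.Modules.pullbackPushforwardAdjunction (pullback.snd f g)).unit.app
      ((Scheme.Modules.pullback g).obj
        ((Scheme.Modules.pushforward f).obj (CohB1.tensorPow ω m)))) := hη
  infer_instance

end Groth.Agent.S15938
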