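import Groth.Statements.S15942
import Mathlib
import Groth.Agent.Lib.Helper20NeronLft2
import Groth.Agent.Lib.Helper11SmInt
import Groth.Agent.S7919

set_option autoImplicit false
universe u
open Neron

namespace Groth.Agent.S15942
open CategoryTheory AlgebraicGeometry CategoryTheory.Limits
open Groth.Agent.Lib.Helper20.NeronCat Groth.Agent.Lib.Helper20NeronLft

theorem eq_genericPoint_or_isClosed {S : Scheme.{u}} [IsIntegral S]
    (hdim : topologicalKrullDim S = 1) (s : S) :
    s = genericPoint S ∨ IsClosed ({s} : Set S) := by
  by_contra h
  push Not at h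
  obtain ⟨h1, h2⟩ := h
  have hex : ∃ t, s ⤳ t ∧ ¬ t ⤳ s := by
    by_contra hc
    push Not at hc
    apply h2
    rw [← closure_eq_iff_isClosed]
    apply Set.Subset.antisymm _ subset_closure
    intro t ht
    have hst : s ⤳ t := specializes_iff_mem_closure.mpr ht
    have hts := hc t hst
    exact ((hst.antisymm hts).eq).symm
  obtain ⟨t, hst, hts⟩ := hex
  have hη : genericPoint S ⤳ s := genericPoint_specializes s
  have hsη : ¬ s ⤳ genericPoint S := fun h => h1 ((h.antisymm hη).eq)
  have := Groth.Agent.S7919.two_le_dim_of_chain t s (genericPoint S) hη hsη hst hts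
  rw [hdim] at this
  exact absurd this (by decide)

theorem Ext.of_isIso {C : Type*} [Category C] [HasPullbacks C] {X Y : C} (f : X ⟶ Y) [IsIso f]
    (Z N : Over Y) : Ext f Z N := by
  intro u hu
  have hw : (inv (pullback.fst Z.hom f) ≫ u) ≫ N.hom = Z.hom := by
    rw [Category.assoc, hu, IsIso.inv_hom_id_assoc]
  refine ⟨Over.homMk (inv (pullback.fst Z.hom f) ≫ u) hw, ?_, ?_⟩
  · change pullback.fst Z.hom f ≫ inv (pullback.fst Z.hom f) ≫ u = u
    rw [IsIso.hom_inv_id_assoc]
  · intro g hg
    apply Over.OverMorphism.ext
    change g.left = inv (pullback.fst Z.hom f) ≫ u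
    rw [← hg, IsIso.inv_hom_id_assoc]

theorem isIso_specMap_stalkSpecializes {S : Scheme.{u}} (η s : S) (h : η ⤳ s) (hs : s = η) :
    IsIso (Spec.map (S.presheaf.stalkSpecializes h)) := by
  subst hs
  have : S.presheaf.stalkSpecializes h = 𝟙 _ := TopCat.Presheaf.stalkSpecializes_refl _ _
  rw [this]
  infer_instance

theorem isReduced_of_smooth_field {X : Scheme.{u}} (k : Type u) [Field k]
    (f : X ⟶ Spec (CommRingCat.of k)) [Smooth f] : IsReduced X := by
  have : ∀ x : X, _root_.IsReduced (X.presheaf.stalk x) := fun x => by
    have := Groth.Agent.Lib.Helper11SmInt.isDomain_stalk_of_smooth k f x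
    infer_instance
  exact isReduced_of_isReduced_stalk X


open CategoryTheory AlgebraicGeometry in
/-- Let S be a Dedekind scheme (integral, Noetherian, separated, of dimension one, with regular local
rings), K its function field with generic point η : Spec K → S, and G → S a smooth separated
S-scheme. Suppose that for every closed point p of S the base change G_p = G ×_S Spec O_{S,p} is a
Néron lft-model of its generic fibre over Spec O_{S,p}: for every smooth scheme Y over Spec O_{S,p},
restricting to generic fibres is a bijection from morphisms Y → G_p over Spec O_{S,p} onto morphisms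
of generic fibres over K. Then G is a Néron lft-model of its generic fibre over S: for every smooth
S-scheme Y, restriction along η is a bijection from S-morphisms Y → G onto K-morphisms Y_η → G_η.
(The published statement is for a smooth separated group scheme; the group structure plays no part
in the property or in its proof and is not assumed here.) -/
theorem result
    {S : Scheme.{u}} [IsIntegral S] [IsNoetherian S] [S.IsSeparated]
    (hreg : ∀ s : S, IsRegularLocalRing (S.presheaf.stalk s)) (hdim : topologicalKrullDim S = 1)
    (G : Over S) [Smooth G.hom] [IsSeparated G.hom]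
    (hloc : ∀ p : S, IsClosed ({p} : Set S) →
      ∀ Y : Over (Spec (S.presheaf.stalk p)), Smooth Y.hom →
        Function.Bijective (fun g : Y ⟶ (Over.pullback (S.fromSpecStalk p)).obj G =>
          (Over.pullback (Spec.map (S.presheaf.stalkSpecializes (genericPoint_specializes p)))).map g)) :
    ∀ Y : Over S, Smooth Y.hom →
      Function.Bijective (fun g : Y ⟶ G => (Over.pullback (S.fromSpecStalk (genericPoint S))).map g) := by
  intro Y hY
  rw [bijective_map_iff]
  have hgen : ∀ s : S, genericPoint S ⤳ s := genericPoint_specializes
  have hlocAll : ∀ s : S, ∀ Y' : Over (Spec (S.presheaf.stalk s)), Smooth Y'.hom →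
      Ext (Spec.map (S.presheaf.stalkSpecializes (hgen s))) Y'
        ((Over.pullback (S.fromSpecStalk s)).obj G) := by
    intro s Y' hY'
    rcases eq_genericPoint_or_isClosed hdim s with hs | hs
    · have := isIso_specMap_stalkSpecializes _ s (hgen s) hs
      exact Ext.of_isIso _ _ _
    · exact (bijective_map_iff _ _ _).mp (hloc s hs Y' hY')
  have : IsSchemeTheoreticallyDominant (S.fromSpecStalk (genericPoint S)) :=
    std_fromSpecStalk_genericPoint S
  have : QuasiCompact (S.fromSpecStalk (genericPoint S)) := quasiCompact_fromSpecStalk S _
  have : IsLocallyNoetherian Y.left := LocallyOfFiniteType.isLocallyNoetherian Y.hom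
  have : IsReduced (pullback Y.hom (S.fromSpecStalk (genericPoint S))) :=
    isReduced_of_smooth_field S.functionField
      (pullback.snd Y.hom (S.fromSpecStalk (genericPoint S)))
  have key := ext_of_local (genericPoint S) hgen Y.hom G.hom (fun y =>
    hlocAll (Y.hom.base y) (Over.mk (pullback.snd Y.hom (S.fromSpecStalk (Y.hom.base y))))
      (by dsimp; infer_instance))
  exact key

end Groth.Agent.S15942
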