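import Groth.Statements.S1595
import Groth.Agent.Lib.Helper3NodeEtF
import Mathlib

set_option autoImplicit false
set_option linter.style.haveILetI false
universe u
open CategoryTheory CategoryTheory.Limits AlgebraicGeometry
open Curves

namespace Groth.Agent.S1595

/-- If S' → S is étale and f : X → S' is at-worst-nodal of relative dimension one, then the composite X
→ S is at-worst-nodal of relative dimension one. -/
theorem result {X S S' : Scheme.{u}} (e : S' ⟶ S) [Etale e] (f : X ⟶ S') (hf : Curv2.IsNodalFamily f) :
    Curv2.IsNodalFamily (f ≫ e) := by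
  obtain ⟨hflat, hlfp, hfib⟩ := hf
  haveI := hflat
  haveI := hlfp
  refine ⟨inferInstance, inferInstance, fun s => ⟨?_, ?_⟩⟩
  · exact Groth.Agent.Lib.Helper3.NodeEtF.topologicalKrullDim_comp_etale f e 1
      (fun s' => (hfib s').1) s
  · intro z hcl
    have hs : e (f ((f ≫ e).fiberι s z)) = s := by
      have : (f ≫ e).fiberι s z ∈ Set.range ((f ≫ e).fiberι s) := ⟨z, rfl⟩
      rw [(f ≫ e).range_fiberι] at this
      exact this
    exact Groth.Agent.Lib.Helper3.NodeEtF.atWorstNodal_key f e (f ((f ≫ e).fiberι s z))
      (hfib _).2 s hs z rfl hcl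

end Groth.Agent.S1595
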