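import Groth.Statements.S15954
import Mathlib
import Groth.Agent.Lib.Helper22FerrandBC6
import Groth.Agent.S15945

set_option autoImplicit false
universe u
open Pinch

namespace Groth.Agent.S15954

open Pinch
open CategoryTheory AlgebraicGeometry Limits TensorProduct TopologicalSpace
open Groth.Agent.Lib.Helper22.Ferrand Groth.Agent.Lib.Helper22.SpPO

set_option maxHeartbeats 800000 in

open CategoryTheory AlgebraicGeometry in
/-- Let Y be a scheme, f : X → Y a morphism, t : T → Y a scheme affine over Y, ξ : Z → T a morphism with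
Z affine over Y via ξ followed by t, and ι : Z → X a closed immersion over Y; assume every point of
Y has an affine open neighbourhood U together with an affine open V of X inside the preimage of U
containing the image under ι of the part of Z over U; assume moreover that Y is locally Noetherian,
f and t are of finite type and ξ is finite, and let X → P ← T be a push-out of ι and ξ in the
category of schemes; assume finally that ξ is faithfully flat and that over every affine open U of Y
the cokernel of the map from functions on t⁻¹(U) to functions on the part of Z over U is a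
projective module over the functions on U. Let p : P → Y be the induced morphism. Then the push-out
commutes with every base change: for every morphism Y' → Y the square obtained by pulling back Z →
X, Z → T, X → P and T → P along Y' → Y is a push-out square in the category of schemes. -/
theorem result {X Y T Z : Scheme.{u}} (f : X ⟶ Y) (t : T ⟶ Y) (ξ : Z ⟶ T) (ι : Z ⟶ X)
    [IsAffineHom t] [IsAffineHom (ξ ≫ t)] [IsClosedImmersion ι] (hsq : ι ≫ f = ξ ≫ t)
    (hstd : ∀ y : Y, ∃ U : Y.Opens, IsAffineOpen U ∧ y ∈ U ∧ ∃ V : X.Opens, IsAffineOpen V ∧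
      V ≤ f ⁻¹ᵁ U ∧ ∀ z : Z, (ξ ≫ t).base z ∈ U → ι.base z ∈ V)
    [IsLocallyNoetherian Y] [LocallyOfFiniteType f] [QuasiCompact f] [LocallyOfFiniteType t] [QuasiCompact t]
    [IsFinite ξ] {P : Scheme.{u}} (a : X ⟶ P) (b : T ⟶ P) (hP : IsPushout ι ξ a b)
    [Flat ξ] [Surjective ξ]
    (hv : ∀ U : Y.affineOpens, @Pinch.CokerProjective Γ(Y, U) Γ(Z, (ξ ≫ t) ⁻¹ᵁ U) Γ(T, t ⁻¹ᵁ U) _ _ _
      ((ξ ≫ t).app U).hom.toAlgebra (ξ.app (t ⁻¹ᵁ U)).hom)
    (p : P ⟶ Y) (hap : a ≫ p = f) (hbp : b ≫ p = t) {Y' : Scheme.{u}} (g : Y' ⟶ Y) :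
    IsPushout ((Over.pullback g).map (Over.homMk ι hsq : Over.mk (ξ ≫ t) ⟶ Over.mk f)).left
      ((Over.pullback g).map (Over.homMk ξ rfl : Over.mk (ξ ≫ t) ⟶ Over.mk t)).left
      ((Over.pullback g).map (Over.homMk a hap : Over.mk f ⟶ Over.mk p)).left
      ((Over.pullback g).map (Over.homMk b hbp : Over.mk t ⟶ Over.mk p)).left := by
  have hY := Groth.Agent.S15945.hT_of_hstd f t ξ ι hsq hstd
  obtain ⟨ch⟩ := exists_charts_of_isPushout ι ξ hY a b hP
  have hPT : IsPullback (pullback.fst p g) (pullback.snd p g) p g := IsPullback.of_hasPullback _ _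
  have hF1 : IsPullback (pullback.fst f g) (pullback.snd f g) f g := IsPullback.of_hasPullback _ _
  have hF2 : IsPullback (pullback.fst t g) (pullback.snd t g) t g := IsPullback.of_hasPullback _ _
  have hF0 : IsPullback (pullback.fst (ξ ≫ t) g) (pullback.snd (ξ ≫ t) g) (ξ ≫ t) g :=
    IsPullback.of_hasPullback _ _
  have hFX : IsPullback (pullback.fst f g)
      ((Over.pullback g).map (Over.homMk a hap : Over.mk f ⟶ Over.mk p)).left a
      (pullback.fst p g) := by
    refine IsPullback.of_bot ?_ ?_ hPT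
    · convert hF1 using 1
      exact pullback.lift_snd _ _ _
    · exact (pullback.lift_fst _ _ _).symm
  have hFY : IsPullback (pullback.fst t g)
      ((Over.pullback g).map (Over.homMk b hbp : Over.mk t ⟶ Over.mk p)).left b
      (pullback.fst p g) := by
    refine IsPullback.of_bot ?_ ?_ hPT
    · convert hF2 using 1
      exact pullback.lift_snd _ _ _
    · exact (pullback.lift_fst _ _ _).symm
  have hFZ : IsPullback (pullback.fst (ξ ≫ t) g)
      ((Over.pullback g).map (Over.homMk ι hsq : Over.mk (ξ ≫ t) ⟶ Over.mk f)).left ι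
      (pullback.fst f g) := by
    refine IsPullback.of_bot ?_ ?_ hF1
    · convert hF0 using 1
      exact pullback.lift_snd _ _ _
    · exact (pullback.lift_fst _ _ _).symm
  have h1 : ((Over.pullback g).map (Over.homMk ξ rfl : Over.mk (ξ ≫ t) ⟶ Over.mk t)).left ≫
      pullback.fst t g = pullback.fst (ξ ≫ t) g ≫ ξ := pullback.lift_fst _ _ _
  have h2 : ((Over.pullback g).map (Over.homMk ξ rfl : Over.mk (ξ ≫ t) ⟶ Over.mk t)).left ≫
      ((Over.pullback g).map (Over.homMk b hbp : Over.mk t ⟶ Over.mk p)).left =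
      ((Over.pullback g).map (Over.homMk ι hsq : Over.mk (ξ ≫ t) ⟶ Over.mk f)).left ≫
      ((Over.pullback g).map (Over.homMk a hap : Over.mk f ⟶ Over.mk p)).left := by
    apply pullback.hom_ext
    · simp only [Category.assoc]
      erw [pullback.lift_fst, pullback.lift_fst, pullback.lift_fst_assoc, pullback.lift_fst_assoc]
      simp only [Category.assoc]
      exact congrArg _ hP.w.symm
    · simp only [Category.assoc]
      erw [pullback.lift_snd, pullback.lift_snd, pullback.lift_snd, pullback.lift_snd]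
  refine isPushout_of_fcharts ch (pullback.fst p g) hFX hFY hFZ h1 h2 ?_
  intro x
  obtain ⟨U, hU, hyU, V, hV, hVU, hzV⟩ := hstd (p.base ((pullback.fst p g).base x))
  have heq : ι ⁻¹ᵁ V = ξ ⁻¹ᵁ (t ⁻¹ᵁ U) := by
    ext z
    constructor
    · intro hz
      have e1 : f.base (ι.base z) ∈ U := hVU hz
      have e2 : f.base (ι.base z) = t.base (ξ.base z) := congr($(hsq).base z)
      rw [e2] at e1
      exact e1
    · intro hz
      exact hzV z hz
  let kU : AdPair ι ξ := ⟨V, t ⁻¹ᵁ U, hV, hU.preimage t, heq⟩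
  have hxU : (pullback.snd p g).base x ∈ g ⁻¹ᵁ U := by
    have e1 : g.base ((pullback.snd p g).base x) = p.base ((pullback.fst p g).base x) :=
      (congr($(hPT.w).base x)).symm
    show g.base ((pullback.snd p g).base x) ∈ U
    rw [e1]; exact hyU
  obtain ⟨D', hD', hxD', hD'le⟩ := (Opens.isBasis_iff_nbhd.mp Y'.isBasis_affineOpens) hxU
  have hD' : IsAffineOpen D' := hD'
  by_cases hzc : (pullback.fst p g).base x ∈ Set.range (ch.c kU).base
  · -- Case A
    have hUle : kU.U ≤ (a ≫ p) ⁻¹ᵁ U := by rw [hap]; exact hVU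
    have hVle : kU.V ≤ (b ≫ p) ⁻¹ᵁ U := by rw [hbp]
    obtain ⟨lR, hl1, hl2, hl3⟩ := ch.chart_factor hP.w p kU U hU hUle hVle
    let _ : Algebra Γ(Y, U) Γ(Y', D') := (g.appLE U D' hD'le).hom.toAlgebra
    let _ : Algebra Γ(Y, U) kU.R := lR.toAlgebra
    let _ : Algebra Γ(Y, U) kU.A' := (kU.φA.comp lR).toAlgebra
    let _ : Algebra Γ(Y, U) kU.B := (kU.φB.comp lR).toAlgebra
    let _ : Algebra Γ(Y, U) kU.A := (kU.p.comp (kU.φA.comp lR)).toAlgebra
    let pA : kU.A' →ₐ[Γ(Y, U)] kU.A := { kU.p with commutes' := fun _ => rfl }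
    let qA : kU.B →ₐ[Γ(Y, U)] kU.A := { kU.q with commutes' := fun r => kU.fs.comm (lR r) }
    let φBA : kU.R →ₐ[Γ(Y, U)] kU.B := { kU.φB with commutes' := fun _ => rfl }
    let φAA : kU.R →ₐ[Γ(Y, U)] kU.A' := { kU.φA with commutes' := fun _ => rfl }
    have hs : FS pA.toRingHom qA.toRingHom φBA.toRingHom φAA.toRingHom := kU.fs
    have hps : Function.Surjective pA := kU.p_surjective
    have hqinj : Function.Injective qA := q_injective ι ξ kU
    have hφAinj : Function.Injective φAA := φA_injective_of_q_injective hs hqinj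
    -- the projective quotient
    let _ : Algebra Γ(Y, U) Γ(Z, (ξ ≫ t) ⁻¹ᵁ U) := ((ξ ≫ t).app U).hom.toAlgebra
    let c : Γ(T, t ⁻¹ᵁ U) →+* Γ(Z, (ξ ≫ t) ⁻¹ᵁ U) := (ξ.app (t ⁻¹ᵁ U)).hom
    have hproj : Module.Projective Γ(Y, U) (Γ(Z, (ξ ≫ t) ⁻¹ᵁ U) ⧸
        Submodule.span Γ(Y, U) (Set.range c)) := hv ⟨U, hU⟩
    obtain ⟨e, he⟩ : ∃ e : Γ(Z, (ξ ≫ t) ⁻¹ᵁ U) ≃+* kU.A, kU.q = e.toRingHom.comp c :=
      q_eq ι ξ kU
    have hkey : ∀ l : Γ(Y, U), kU.p (kU.φA (lR l)) = e (((ξ ≫ t).app U).hom l) := by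
      intro l
      rw [← kU.fs.comm (lR l)]
      have e1 : kU.φB (lR l) = ((b ≫ p).appLE U kU.V hVle).hom l := congr($(hl2) l)
      rw [e1, he]
      show e ((ξ.app kU.V).hom (((b ≫ p).appLE U kU.V hVle).hom l)) = _
      congr 1
      rw [Scheme.Hom.comp_app]
      show _ = (ξ.app (t ⁻¹ᵁ U)).hom ((t.app U).hom l)
      congr 1
      rw [appLE_congr_hom hbp U kU.V hVle le_rfl, ← Scheme.Hom.app_eq_appLE]
    have hkey' : ∀ l : Γ(Y, U), e.symm (kU.p (kU.φA (lR l))) = ((ξ ≫ t).app U).hom l := by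
      intro l
      rw [hkey l]
      exact e.symm_apply_apply _
    have hqc : ∀ b' : kU.B, kU.q b' = e (c b') := fun b' => congr($(he) b')
    have hcl : ∀ (l : Γ(Y, U)) (b' : kU.B), c (kU.φB (lR l) * b') = ((ξ ≫ t).app U).hom l * c b' := by
      intro l b'
      rw [map_mul]
      congr 1
      apply e.injective
      rw [← hqc, ← hkey l]
      exact kU.fs.comm (lR l)
    let esl : kU.A →ₗ[Γ(Y, U)] Γ(Z, (ξ ≫ t) ⁻¹ᵁ U) :=
      { toFun := e.symm
        map_add' := map_add e.symm
        map_smul' := fun l x => by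
          show e.symm (kU.p (kU.φA (lR l)) * x) = ((ξ ≫ t).app U).hom l * e.symm x
          rw [map_mul, hkey' l] }
    let π : kU.A' →ₗ[Γ(Y, U)] (Γ(Z, (ξ ≫ t) ⁻¹ᵁ U) ⧸ Submodule.span Γ(Y, U) (Set.range c)) :=
      (Submodule.mkQ _) ∘ₗ esl ∘ₗ pA.toLinearMap
    have hπ : Function.Surjective π := by
      intro y
      obtain ⟨s, rfl⟩ := Submodule.mkQ_surjective _ y
      obtain ⟨a', ha'⟩ := hps (e s)
      refine ⟨a', ?_⟩
      show Submodule.mkQ _ (e.symm (kU.p a')) = _
      rw [show kU.p a' = e s from ha']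
      congr 1
      exact e.symm_apply_apply _
    have hspan : ∀ s ∈ Submodule.span Γ(Y, U) (Set.range c), s ∈ Set.range c := by
      intro s hs'
      induction hs' using Submodule.span_induction with
      | mem s hs'' => exact hs''
      | zero => exact ⟨0, map_zero c⟩
      | add s s' _ _ h1 h2 =>
        obtain ⟨b1, rfl⟩ := h1
        obtain ⟨b2, rfl⟩ := h2
        exact ⟨b1 + b2, map_add c b1 b2⟩
      | smul l s _ h1 =>
        obtain ⟨b1, rfl⟩ := h1
        exact ⟨kU.φB (lR l) * b1, hcl l b1⟩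
    have hex : Function.Exact φAA.toLinearMap π := by
      intro a'
      constructor
      · intro h0
        have h1 : e.symm (kU.p a') ∈ Submodule.span Γ(Y, U) (Set.range c) :=
          (Submodule.Quotient.mk_eq_zero _).mp h0
        obtain ⟨b', hb'⟩ := hspan _ h1
        have h2 : kU.q b' = kU.p a' := by
          rw [hqc, hb']
          exact e.apply_symm_apply _
        obtain ⟨r, -, hr⟩ := kU.fs.ex b' a' h2
        exact ⟨r, hr⟩
      · rintro ⟨r, rfl⟩
        apply (Submodule.Quotient.mk_eq_zero _).mpr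
        apply Submodule.subset_span
        refine ⟨kU.φB r, ?_⟩
        show c (kU.φB r) = e.symm (kU.p (kU.φA r))
        rw [← kU.fs.comm r, hqc]
        exact (e.symm_apply_apply _).symm
    have hinj := lTensor_fι_injective_of_exact (φB := φBA) π hπ hφAinj hex Γ(Y', D')
    obtain ⟨fc, hfc⟩ := exists_fchart_base_core ch p g hPT kU U hU D' hD' hD'le rfl
      pA qA φBA φAA rfl rfl rfl rfl hl3 hinj
    exact ⟨fc, hfc x hzc hxD'⟩
  · -- Case B: the point lies over `X` outside `V`, away from `Z`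
    have hzX : (pullback.fst p g).base x ∈ Set.range a.base := by
      rcases ch.jointly_surjective ((pullback.fst p g).base x) with h | h
      · exact h
      · exfalso
        obtain ⟨t', ht'⟩ := h
        apply hzc
        have ht'U : t' ∈ (kU.V : Set T) := by
          show t.base t' ∈ U
          have : t.base t' = p.base (b.base t') := (congr($(hbp).base t')).symm
          rw [this, ht']; exact hyU
        rw [← kU.range_cY] at ht'U
        obtain ⟨w', hw'⟩ := ht'U
        refine ⟨(sp kU.φB).base w', ?_⟩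
        have := congr($(ch.cY_b kU).base w')
        rw [← ht', ← hw']
        exact this.symm
    obtain ⟨x', hx'⟩ := hzX
    have hx'V : x' ∉ (V : Set X) := by
      intro hx'V
      apply hzc
      have hx'U : x' ∈ (kU.U : Set X) := hx'V
      rw [← kU.range_cX] at hx'U
      obtain ⟨w', hw'⟩ := hx'U
      refine ⟨(sp kU.φA).base w', ?_⟩
      have := congr($(ch.cX_a kU).base w')
      rw [← hx', ← hw']
      exact this.symm
    have hfx' : f.base x' ∈ U := by
      have : f.base x' = p.base (a.base x') := (congr($(hap).base x')).symm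
      rw [this, hx']; exact hyU
    have hx'Z : x' ∉ Set.range ι.base := by
      rintro ⟨z', rfl⟩
      apply hx'V
      apply hzV z'
      have : (ξ ≫ t).base z' = f.base (ι.base z') := (congr($(hsq).base z')).symm
      rw [this]; exact hfx'
    have hcl : IsClosed (Set.range ι.base) := ι.isClosedEmbedding.isClosed_range
    let O : X.Opens := ⟨(Set.range ι.base)ᶜ, hcl.isOpen_compl⟩
    obtain ⟨V', hV', hx'V', hV'le⟩ := Opens.isBasis_iff_nbhd.mp X.isBasis_affineOpens
      (show x' ∈ O ⊓ f ⁻¹ᵁ U from ⟨hx'Z, hfx'⟩)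
    have hV' : IsAffineOpen V' := hV'
    have heq' : ι ⁻¹ᵁ V' = ξ ⁻¹ᵁ (⊥ : T.Opens) := by
      ext z
      constructor
      · intro hz
        exact absurd ⟨z, rfl⟩ (hV'le hz).1
      · intro hz
        exact absurd hz (by simp)
    let k' : AdPair ι ξ := ⟨V', ⊥, hV', isAffineOpen_bot T, heq'⟩
    have hzc' : (pullback.fst p g).base x ∈ Set.range (ch.c k').base := by
      have hx'U : x' ∈ (k'.U : Set X) := hx'V'
      rw [← k'.range_cX] at hx'U
      obtain ⟨w', hw'⟩ := hx'U
      refine ⟨(sp k'.φA).base w', ?_⟩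
      have := congr($(ch.cX_a k').base w')
      rw [← hx', ← hw']
      exact this.symm
    have hUle : k'.U ≤ (a ≫ p) ⁻¹ᵁ U := by
      rw [hap]; exact fun _ h => (hV'le h).2
    have hVle : k'.V ≤ (b ≫ p) ⁻¹ᵁ U := bot_le
    obtain ⟨lR, hl1, hl2, hl3⟩ := ch.chart_factor hP.w p k' U hU hUle hVle
    let _ : Algebra Γ(Y, U) Γ(Y', D') := (g.appLE U D' hD'le).hom.toAlgebra
    let _ : Algebra Γ(Y, U) k'.R := lR.toAlgebra
    let _ : Algebra Γ(Y, U) k'.A' := (k'.φA.comp lR).toAlgebra
    let _ : Algebra Γ(Y, U) k'.B := (k'.φB.comp lR).toAlgebra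
    let _ : Algebra Γ(Y, U) k'.A := (k'.p.comp (k'.φA.comp lR)).toAlgebra
    let pA : k'.A' →ₐ[Γ(Y, U)] k'.A := { k'.p with commutes' := fun _ => rfl }
    let qA : k'.B →ₐ[Γ(Y, U)] k'.A := { k'.q with commutes' := fun r => k'.fs.comm (lR r) }
    let φBA : k'.R →ₐ[Γ(Y, U)] k'.B := { k'.φB with commutes' := fun _ => rfl }
    let φAA : k'.R →ₐ[Γ(Y, U)] k'.A' := { k'.φA with commutes' := fun _ => rfl }
    have hs : FS pA.toRingHom qA.toRingHom φBA.toRingHom φAA.toRingHom := k'.fs
    have hps : Function.Surjective pA := k'.p_surjective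
    have hW : k'.W = ⊥ := by
      show ι ⁻¹ᵁ V' = ⊥
      rw [heq']; rfl
    have hsub : Subsingleton k'.A := by
      show Subsingleton Γ(Z, k'.W)
      rw [hW]; infer_instance
    have : Module.Free Γ(Y, U) k'.A := Module.Free.of_subsingleton _ _
    have hinj := lTensor_fι_injective_of_flat hs hps Γ(Y', D')
    obtain ⟨fc, hfc⟩ := exists_fchart_base_core ch p g hPT k' U hU D' hD' hD'le rfl
      pA qA φBA φAA rfl rfl rfl rfl hl3 hinj
    exact ⟨fc, hfc x hzc' hxD'⟩

end Groth.Agent.S15954
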