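import Groth.Statements.S18510
import Mathlib
import Groth.Agent.Lib.Helper12BundleMap
import Groth.Agent.Lib.Helper12Descent
import Groth.Agent.Lib.Helper12Torsor
import Groth.Agent.S14884

set_option autoImplicit false
universe u
open CategoryTheory MonoidalCategory CartesianMonoidalCategory MonObj GrpObj AlgebraicGeometry Topology
open EqInt

namespace Groth.Agent.S18510


open Groth.Agent.Lib.Helper12 Groth.Agent.Lib.Helper12.BundleMap

/-- `f ▷ U` is a base change of `f`. -/
lemma isPullback_whiskerRight {C : Type*} [Category C] [CartesianMonoidalCategory C] (U : C)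
    {X Y : C} (f : X ⟶ Y) : IsPullback (f ▷ U) (fst X U) (fst Y U) f := by
  refine isPullback_of_existsUnique_sq (by simp) ?_
  intro T p x hpx
  refine ⟨lift x (p ≫ snd Y U), ⟨?_, by simp⟩, ?_⟩
  · apply CartesianMonoidalCategory.hom_ext
    · simp [hpx]
    · simp
  · rintro a ⟨ha1, ha2⟩
    apply CartesianMonoidalCategory.hom_ext
    · rw [lift_fst, ha2]
    · rw [lift_snd, ← ha1]; simp



/-- Over a field k, let an affine group scheme G of finite type act on X, on Y and on U (quasi-separated
schemes of finite type over k), let f : X → Y be G-equivariant, and let q_X : X × U → X_G and q_Y :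
Y × U → Y_G be principal bundle quotients for the diagonal actions (each is invariant, flat and
surjective, and (σ, p₂) into the fibre square over the quotient is an isomorphism), X_G and Y_G
being quasi-separated of finite type over k. Let f_G : X_G → Y_G satisfy f_G ∘ q_X = q_Y ∘ (f ×
id_U) as maps X × U → Y_G. If f is proper, resp. flat, resp. smooth, then so is f_G. (Stated for
schemes; the source allows algebraic spaces and also treats regular embeddings and local complete
intersection morphisms, which are not stated here.) -/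
theorem result (k : Type u) [Field k]
    (G X Y U XG YG : Over (Spec (CommRingCat.of k))) [GrpObj G] [IsAffine G.left] [LocallyOfFiniteType G.hom]
    [LocallyOfFiniteType X.hom] [QuasiCompact X.hom] [QuasiSeparated X.hom]
    [LocallyOfFiniteType Y.hom] [QuasiCompact Y.hom] [QuasiSeparated Y.hom]
    [LocallyOfFiniteType U.hom] [QuasiCompact U.hom] [QuasiSeparated U.hom]
    [LocallyOfFiniteType XG.hom] [QuasiCompact XG.hom] [QuasiSeparated XG.hom]
    [LocallyOfFiniteType YG.hom] [QuasiCompact YG.hom] [QuasiSeparated YG.hom]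
    (a : AlgGrp.Action G X) (aY : AlgGrp.Action G Y) (b : AlgGrp.Action G U)
    (f : X ⟶ Y) (hf : AlgGrp.Action.IsEquivariant a aY f)
    (qX : X ⊗ U ⟶ XG) (hqX : GIT.IsInvariant (a.prod b) qX) [Flat qX.left] [Surjective qX.left]
    (hcX : IsIso (GIT.PsiY (a.prod b) qX hqX))
    (qY : Y ⊗ U ⟶ YG) (hqY : GIT.IsInvariant (aY.prod b) qY) [Flat qY.left] [Surjective qY.left]
    (hcY : IsIso (GIT.PsiY (aY.prod b) qY hqY))
    (fG : XG ⟶ YG) (hfG : qX ≫ fG = (f ▷ U) ≫ qY) :
    (IsProper f.left → IsProper fG.left) ∧ (Flat f.left → Flat fG.left) ∧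
      (Smooth f.left → Smooth fG.left) := by
  have cX := isPullback_of_isIso_PsiY (a.prod b) qX hqX hcX
  have cY := isPullback_of_isIso_PsiY (aY.prod b) qY hqY hcY
  haveI : QuasiCompact (X ⊗ U).hom := quasiCompact_tensor_hom X U
  haveI : QuasiCompact (Y ⊗ U).hom := quasiCompact_tensor_hom Y U
  haveI : QuasiCompact qX.left := Groth.Agent.S14884.quasiCompact_left qX
  haveI : QuasiCompact qY.left := Groth.Agent.S14884.quasiCompact_left qY
  have hfpt : ∀ {T : Over (Spec (CommRingCat.of k))} (g : T ⟶ G) (x : T ⟶ X),
      (lift g x ≫ a.act) ≫ f = lift g (x ≫ f) ≫ aY.act := by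
    intro T g x
    have hf' : a.act ≫ f = (G ◁ f) ≫ aY.act := hf
    rw [Category.assoc, hf', ← Category.assoc]
    congr 1
    apply CartesianMonoidalCategory.hom_ext <;> simp
  have hequiv : (a.prod b).act ≫ (f ▷ U) = (G ◁ (f ▷ U)) ≫ (aY.prod b).act := by
    apply AlgGrp.Action.hom_ext_lift₂
    intro T g p
    have ep : p = lift (p ≫ fst X U) (p ≫ snd X U) := by
      apply CartesianMonoidalCategory.hom_ext <;> simp
    have e1 : lift g (lift (p ≫ fst X U) (p ≫ snd X U)) ≫ (G ◁ (f ▷ U)) =
        lift g (lift ((p ≫ fst X U) ≫ f) (p ≫ snd X U)) := by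
      apply CartesianMonoidalCategory.hom_ext
      · simp
      · rw [Category.assoc, whiskerLeft_snd, lift_snd_assoc, lift_snd]
        apply CartesianMonoidalCategory.hom_ext <;> simp
    have e2 : ∀ (x' : T ⟶ X) (u' : T ⟶ U), lift x' u' ≫ (f ▷ U) = lift (x' ≫ f) u' := by
      intro x' u'
      apply CartesianMonoidalCategory.hom_ext <;> simp
    rw [ep, AlgGrp.Action.lift_prod_act_assoc, e2, hfpt, ← Category.assoc, e1,
      AlgGrp.Action.lift_prod_act]
  have sq := isPullback_of_equivariant (a.prod b) (aY.prod b) qX qY cX cY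
    (isLocallyTrivialFor_of_fpqc qX.left) (f ▷ U) hequiv fG hfG
  have sq' : IsPullback qX.left (f ▷ U).left fG.left qY.left := sq.map (Over.forget _)
  have bc : IsPullback (fst X U).left (f ▷ U).left f.left (fst Y U).left :=
    ((isPullback_whiskerRight U f).map (Over.forget _)).flip
  have hQ : (@Surjective ⊓ @Flat ⊓ @QuasiCompact : MorphismProperty Scheme.{u}) qY.left :=
    ⟨⟨‹Surjective qY.left›, ‹Flat qY.left›⟩, ‹QuasiCompact qY.left›⟩
  refine ⟨fun hp => ?_, fun hp => ?_, fun hp => ?_⟩
  · haveI := descendsAlong_isProper.{u}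
    exact MorphismProperty.of_isPullback_of_descendsAlong (P := @IsProper) sq'.flip hQ
      (MorphismProperty.of_isPullback (P := @IsProper) bc hp)
  · haveI := descendsAlong_flat.{u}
    exact MorphismProperty.of_isPullback_of_descendsAlong (P := @Flat) sq'.flip hQ
      (MorphismProperty.of_isPullback (P := @Flat) bc hp)
  · exact MorphismProperty.of_isPullback_of_descendsAlong (P := @Smooth) sq'.flip hQ
      (MorphismProperty.of_isPullback (P := @Smooth) bc hp)

end Groth.Agent.S18510
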