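import Groth.Statements.S15958
import Mathlib
import Groth.Agent.S13431
import Groth.Agent.S18510
import Groth.Agent.Lib.Helper12Kernel
import Groth.Agent.Lib.Helper12BundleMap
import Groth.Agent.Lib.Helper6LfpComp

set_option autoImplicit false
universe u
open Neron

namespace Groth.Agent.S15958


open CategoryTheory AlgebraicGeometry Limits MonoidalCategory CartesianMonoidalCategory MonObj
  GrpObj Groth.Agent.S13431 Groth.Agent.Lib.Helper12.Kernel Groth.Agent.Lib.Helper12.BundleMap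

variable {S : Scheme.{u}} {G' G G'' : Over S} [GrpObj G'] [GrpObj G] [GrpObj G'']
  (i : G' ⟶ G) (q : G ⟶ G'')

/-- the difference of two points of `G` with the same image in `G''`. -/
lemma ker_diff (hK : IsPullback ((G ◁ i) ≫ μ[G]) (fst G G') q q) {W : Over S} (t₁ t₂ : W ⟶ G)
    (h : t₁ ≫ q = t₂ ≫ q) : ∃! n : W ⟶ G', t₂ * (n ≫ i) = t₁ := by
  refine ⟨hK.lift t₁ t₂ h ≫ snd G G', ?_, ?_⟩
  · have e : hK.lift t₁ t₂ h = lift t₂ (hK.lift t₁ t₂ h ≫ snd G G') := by
      apply CartesianMonoidalCategory.hom_ext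
      · rw [lift_fst]; exact hK.lift_snd _ _ _
      · rw [lift_snd]
    have h1 := hK.lift_fst t₁ t₂ h
    rw [e, lift_act'] at h1
    exact h1
  · intro n hn
    have h1 : lift t₂ n = hK.lift t₁ t₂ h := by
      apply hK.hom_ext
      · rw [lift_act', hn, hK.lift_fst]
      · rw [lift_fst, hK.lift_snd]
    rw [← h1, lift_snd]

variable [IsMonHom i] [IsMonHom q]

include i in
theorem extP_of_extension (hK : IsPullback ((G ◁ i) ≫ μ[G]) (fst G G') q q) (hiq : i ≫ q = 1)
    (hq : NonAbH1.IsLocallyTrivialFor Scheme.fpqcPrecoverage (Over.mk q.left : Over G''.left))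
    (O : Over S) (Good : Over S → Prop)
    (hGood : ∀ (Z : Over S) (v : Z ⟶ G''), Good Z → Good (Limits.pullback q v))
    (hG' : ∀ Z, Good Z → ExtP O Z G') (hG'' : ∀ Z, Good Z → ExtP O Z G'')
    (Y : Over S) (hY : Good Y) : ExtP O Y G := by
  intro u
  obtain ⟨v, hv, hvu⟩ := hG'' Y hY (u ≫ q)
  have hv : fst Y O ≫ v = u ≫ q := hv
  -- the torsor T over Y
  obtain ⟨T, hT⟩ : ∃ T : Over S, T = Limits.pullback q v := ⟨_, rfl⟩
  have hTgood : Good T := hT ▸ hGood Y v hY
  obtain ⟨a, b, sq⟩ : ∃ (a : T ⟶ G) (b : T ⟶ Y), IsPullback a b q v := by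
    subst hT
    exact ⟨_, _, IsPullback.of_hasPullback q v⟩
  have hb : NonAbH1.IsLocallyTrivialFor Scheme.fpqcPrecoverage
      (Over.mk b.left : Over Y.left) :=
    isLocallyTrivialFor_of_isPullback (sq.flip.map (Over.forget S)) hq
  -- the two maps on T ⊗ O
  have hA : (fst T O ≫ a) ≫ q = ((b ▷ O) ≫ u) ≫ q := by
    rw [Category.assoc, sq.w, Category.assoc, ← hv, whiskerRight_fst_assoc]
  obtain ⟨w, hw, hwu⟩ := ker_diff i q hK ((b ▷ O) ≫ u) (fst T O ≫ a) hA.symm
  have hw : (fst T O ≫ a) * (w ≫ i) = (b ▷ O) ≫ u := hw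
  obtain ⟨d, hd, hdu⟩ := hG' T hTgood w
  have hd : fst T O ≫ d = w := hd
  obtain ⟨m', hm'⟩ : ∃ m' : T ⟶ G, m' = a * (d ≫ i) := ⟨_, rfl⟩
  have hB : fst T O ≫ m' = (b ▷ O) ≫ u := by
    rw [hm', MonObj.comp_mul, ← Category.assoc, hd, hw]
  have hC : m' ≫ q = b ≫ v := by
    rw [hm', MonObj.mul_comp, Category.assoc, hiq, MonObj.comp_one, _root_.mul_one, sq.w]
  -- the fibre square of T over Y
  obtain ⟨T₂, hT₂⟩ : ∃ T₂ : Over S, T₂ = Limits.pullback q (b ≫ v) := ⟨_, rfl⟩
  have hT₂good : Good T₂ := hT₂ ▸ hGood T (b ≫ v) hTgood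
  obtain ⟨a₁, c, sq₂⟩ : ∃ (a₁ : T₂ ⟶ G) (c : T₂ ⟶ T), IsPullback a₁ c q (b ≫ v) := by
    subst hT₂
    exact ⟨_, _, IsPullback.of_hasPullback q (b ≫ v)⟩
  obtain ⟨c', hc'⟩ : ∃ c' : T₂ ⟶ T,
      c' = sq.lift a₁ (c ≫ b) (by rw [sq₂.w]; simp) := ⟨_, rfl⟩
  have hc'a : c' ≫ a = a₁ := by rw [hc']; exact sq.lift_fst _ _ _
  have hc'b : c' ≫ b = c ≫ b := by rw [hc']; exact sq.lift_snd _ _ _
  have hconst : c' ≫ m' = c ≫ m' := by
    have hν0 : (c ≫ a) ≫ q = a₁ ≫ q := by rw [Category.assoc, sq.w, sq₂.w]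
    obtain ⟨ν, hν, -⟩ := ker_diff i q hK (c ≫ a) a₁ hν0
    have hν : a₁ * (ν ≫ i) = c ≫ a := hν
    have h1 : fst T₂ O ≫ c' = (c' ▷ O) ≫ fst T O := by simp
    have h2 : fst T₂ O ≫ c = (c ▷ O) ≫ fst T O := by simp
    have e1 : c' ≫ d = ν * (c ≫ d) := by
      obtain ⟨r, -, hru⟩ := hG' T₂ hT₂good (fst T₂ O ≫ c' ≫ d)
      rw [hru (c' ≫ d) rfl]
      symm
      apply hru
      change fst T₂ O ≫ (ν * (c ≫ d)) = fst T₂ O ≫ c' ≫ d
      rw [MonObj.comp_mul, reassoc_of% h1, reassoc_of% h2, hd]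
      have hA' : ((c' ▷ O) ≫ (b ▷ O) ≫ u) ≫ q = ((c' ▷ O) ≫ fst T O ≫ a) ≫ q := by
        have hA2 := congrArg (fun t => (c' ▷ O) ≫ t) hA
        simp only [Category.assoc] at hA2 ⊢
        exact hA2.symm
      obtain ⟨r', -, hr'u⟩ := ker_diff i q hK ((c' ▷ O) ≫ (b ▷ O) ≫ u)
        ((c' ▷ O) ≫ fst T O ≫ a) hA'
      rw [hr'u ((c' ▷ O) ≫ w) (by
        change ((c' ▷ O) ≫ fst T O ≫ a) * (((c' ▷ O) ≫ w) ≫ i) = (c' ▷ O) ≫ (b ▷ O) ≫ u
        rw [Category.assoc, ← MonObj.comp_mul, hw])]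
      apply hr'u
      change ((c' ▷ O) ≫ fst T O ≫ a) * (((fst T₂ O ≫ ν) * ((c ▷ O) ≫ w)) ≫ i) =
        (c' ▷ O) ≫ (b ▷ O) ≫ u
      rw [← reassoc_of% h1, hc'a, MonObj.mul_comp, ← _root_.mul_assoc, Category.assoc,
        ← MonObj.comp_mul, hν, reassoc_of% h2, Category.assoc, ← MonObj.comp_mul, hw,
        ← comp_whiskerRight_assoc, ← comp_whiskerRight_assoc, hc'b]
    rw [hm', MonObj.comp_mul, MonObj.comp_mul, hc'a, ← Category.assoc, e1, MonObj.mul_comp,
      ← _root_.mul_assoc, hν, Category.assoc]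
  obtain ⟨g, hg, hgu⟩ := existsUnique_desc_over b hb m' (by
    intro W p₁ p₂ h12
    have hr : (p₁ ≫ a) ≫ q = p₂ ≫ (b ≫ v) := by
      rw [Category.assoc, sq.w, ← Category.assoc, h12, Category.assoc]
    have e1 : sq₂.lift (p₁ ≫ a) p₂ hr ≫ c = p₂ := sq₂.lift_snd _ _ _
    have e2 : sq₂.lift (p₁ ≫ a) p₂ hr ≫ c' = p₁ := by
      apply sq.hom_ext
      · rw [Category.assoc, hc'a, sq₂.lift_fst]
      · rw [Category.assoc, hc'b, ← Category.assoc, e1, h12]
    calc p₁ ≫ m' = (sq₂.lift (p₁ ≫ a) p₂ hr ≫ c') ≫ m' := by rw [e2]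
      _ = sq₂.lift (p₁ ≫ a) p₂ hr ≫ c ≫ m' := by rw [Category.assoc, hconst]
      _ = p₂ ≫ m' := by rw [← Category.assoc, e1])
  have hg : b ≫ g = m' := hg
  haveI hbepi : Epi b := epi_of_isLocallyTrivialFor b hb
  have hbO : NonAbH1.IsLocallyTrivialFor Scheme.fpqcPrecoverage
      (Over.mk (b ▷ O).left : Over (Y ⊗ O).left) :=
    isLocallyTrivialFor_of_isPullback
      ((Groth.Agent.S18510.isPullback_whiskerRight O b).map (Over.forget S)) hb
  haveI : Epi (b ▷ O) := epi_of_isLocallyTrivialFor _ hbO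
  have hgq : g ≫ q = v := by rw [← cancel_epi b, ← Category.assoc, hg, hC]
  have hg0 : fst Y O ≫ g = u := by
    rw [← cancel_epi (b ▷ O), whiskerRight_fst_assoc, hg, hB]
  refine ⟨g, hg0, ?_⟩
  intro g₁ hg₁
  have hg₁ : fst Y O ≫ g₁ = u := hg₁
  have hg₁q : g₁ ≫ q = v := hvu _ (by
    change fst Y O ≫ g₁ ≫ q = u ≫ q
    rw [reassoc_of% hg₁])
  obtain ⟨δ₀, hδ₀, -⟩ := ker_diff i q hK g₁ g (by rw [hg₁q, hgq])
  have hδ₀ : g * (δ₀ ≫ i) = g₁ := hδ₀
  have h1 : δ₀ = 1 := by
    obtain ⟨r, -, hru⟩ := hG' Y hY (fst Y O ≫ (1 : Y ⟶ G'))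
    rw [hru 1 rfl]
    apply hru
    change fst Y O ≫ δ₀ = fst Y O ≫ 1
    rw [MonObj.comp_one]
    obtain ⟨r', -, hr'u⟩ := ker_diff i q hK u u rfl
    rw [hr'u (fst Y O ≫ δ₀) (by
      have h3 := congrArg (fun t => fst Y O ≫ t) hδ₀
      simp only [MonObj.comp_mul, hg0, hg₁] at h3
      change u * ((fst Y O ≫ δ₀) ≫ i) = u
      rw [Category.assoc]
      exact h3), hr'u 1 (by
      change u * ((1 : Y ⊗ O ⟶ G') ≫ i) = u
      rw [MonObj.one_comp, _root_.mul_one])]
  rw [h1, MonObj.one_comp, _root_.mul_one] at hδ₀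
  exact hδ₀.symm



open CategoryTheory AlgebraicGeometry MonObj in
/-- Let S be a Dedekind scheme (integral, Noetherian, separated, of dimension one, with regular local
rings) with generic point η : Spec K → S, and let G', G and G'' be smooth separated group schemes
over S sitting in a short exact sequence 0 → G' → G → G'' → 0: i : G' → G and q : G → G'' are
homomorphisms, i identifies G' with the kernel of q, and q is flat and surjective. If G' and G'' are
Néron lft-models of their generic fibres (for every smooth S-scheme Y, restriction to η is a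
bijection from S-morphisms into them onto K-morphisms of generic fibres), then so is G. -/
theorem result
    {S : Scheme.{u}} [IsIntegral S] [IsNoetherian S] [S.IsSeparated]
    (hreg : ∀ s : S, IsRegularLocalRing (S.presheaf.stalk s)) (hdim : topologicalKrullDim S = 1)
    (G' G G'' : Over S) [GrpObj G'] [GrpObj G] [GrpObj G'']
    [Smooth G'.hom] [IsSeparated G'.hom] [Smooth G.hom] [IsSeparated G.hom] [Smooth G''.hom] [IsSeparated G''.hom]
    (i : G' ⟶ G) (q : G ⟶ G'') [IsMonHom i] [IsMonHom q]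
    (hker : AlgGrp.IsKernel i q) [Flat q.left] [Surjective q.left]
    (hG' : ∀ Y : Over S, Smooth Y.hom →
        Function.Bijective (fun g : Y ⟶ G' => (Over.pullback (S.fromSpecStalk (genericPoint S))).map g))
    (hG'' : ∀ Y : Over S, Smooth Y.hom →
        Function.Bijective (fun g : Y ⟶ G'' => (Over.pullback (S.fromSpecStalk (genericPoint S))).map g)) :
    ∀ Y : Over S, Smooth Y.hom →
        Function.Bijective (fun g : Y ⟶ G => (Over.pullback (S.fromSpecStalk (genericPoint S))).map g) := by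
  intro Y hY
  have hK := isPullback_act_of_isKernel i q hker
  have hiq : i ≫ q = 1 := by
    have h1 : i ≫ q = toUnit G' ≫ η[G''] := hker.w
    rw [h1, Hom.one_def]
  haveI hqlfp : LocallyOfFinitePresentation q.left :=
    Groth.Agent.Lib.Helper6.locallyOfFinitePresentation_of_comp (g := G''.hom) inferInstance
      (by rw [Over.w q]; infer_instance)
  have hR : Presieve.singleton q.left ∈ Scheme.fpqcPrecoverage G''.left :=
    Scheme.fppfPrecoverage_le_fpqcPrecoverage _ q.left.singleton_mem_fppfPrecoverage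
  have hqloc : NonAbH1.IsLocallyTrivialFor Scheme.fpqcPrecoverage
      (Over.mk q.left : Over G''.left) := by
    refine ⟨Presieve.singleton q.left, hR, ?_⟩
    rintro T _ ⟨⟩
    exact ⟨𝟙 _, Category.id_comp _⟩
  have hqsm : Smooth q.left := by
    refine Groth.Agent.Lib.Helper12.of_mem_fpqcPrecoverage (P := @Smooth) inferInstance q.left _
      hR ?_
    rintro T _ ⟨⟩
    have hK' : IsPullback ((G ◁ i) ≫ μ[G]).left (fst G G').left q.left q.left :=
      hK.map (Over.forget S)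
    have h3 : pullback.snd q.left q.left = hK'.isoPullback.inv ≫ (fst G G').left := by
      rw [Iso.eq_inv_comp]
      exact hK'.isoPullback_hom_snd
    rw [h3]
    haveI : Smooth (fst G G').left := by
      change Smooth (pullback.fst G.hom G'.hom)
      infer_instance
    infer_instance
  rw [extP_iff]
  refine extP_of_extension i q hK hiq hqloc _ (fun Z => Smooth Z.hom) ?_ ?_ ?_ Y hY
  · intro Z v hZ
    have sqZ : IsPullback (pullback.fst q v).left (pullback.snd q v).left q.left v.left :=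
      (IsPullback.of_hasPullback q v).map (Over.forget S)
    have h1 : (pullback q v).hom = (pullback.snd q v).left ≫ Z.hom := (Over.w _).symm
    change Smooth (pullback q v).hom
    rw [h1]
    haveI : Smooth Z.hom := hZ
    haveI : Smooth (pullback.snd q v).left :=
      MorphismProperty.of_isPullback (P := @Smooth) sqZ hqsm
    infer_instance
  · intro Z hZ
    rw [← extP_iff]
    exact hG' Z hZ
  · intro Z hZ
    rw [← extP_iff]
    exact hG'' Z hZ

end Groth.Agent.S15958
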