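import Groth.Statements.S15976
import Mathlib
import Groth.Agent.Lib.Helper11RegSecA
import Groth.Agent.Lib.Helper11RegSecB

set_option autoImplicit false
universe u
open IntSh

namespace Groth.Agent.S15976

open CategoryTheory CategoryTheory.Limits AlgebraicGeometry Opposite in

open CategoryTheory CategoryTheory.Limits AlgebraicGeometry Opposite in
/-- Let A be a Noetherian local ring with infinite residue field, V a Noetherian scheme over Spec A, L
an invertible O_V-module generated by finitely many global sections σ_0, …, σ_N (at every point some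
σ_i generates L), and F_1, …, F_m coherent O_V-modules. Then some A-linear combination σ of the σ_i
is F_j-regular for every j, regularity of a global section σ of L with respect to F meaning that the
map F ⊗ O_V → F ⊗ L induced by σ is injective. The combination is expressed through the global
sections σ(1), σ_i(1) ∈ Γ(V, L) and the images in Γ(V, O_V) of the coefficients from A. -/
theorem result
    {A : Type u} [CommRing A] [IsNoetherianRing A] [IsLocalRing A]
    (hA : Infinite (IsLocalRing.ResidueField A))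
    {V : Scheme.{u}} [IsNoetherian V] (f : V ⟶ Spec (CommRingCat.of A))
    (L : V.Modules) (hL : PicF.IsInvertible L)
    {N : ℕ} (σ : Fin (N + 1) → (Coh.structureModule V ⟶ L))
    (hgen : ∀ x : V, ∃ i, x ∈ CohB1.genLocus L (σ i))
    {m : ℕ} (F : Fin m → V.Modules) (hF : ∀ j, Coh.IsCoh (F j)) :
    ∃ (τ : Coh.structureModule V ⟶ L) (a : Fin (N + 1) → A),
      τ.val.app (op ⊤) (1 : V.ringCatSheaf.obj.obj (op ⊤)) =
        ∑ i, f.appTop ((Scheme.ΓSpecIso (CommRingCat.of A)).inv (a i)) •
          (σ i).val.app (op ⊤) (1 : V.ringCatSheaf.obj.obj (op ⊤)) ∧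
      ∀ j, Mono (((DCoh.tensorBi (X := V)).obj (F j)).map τ) := by
  classical
  obtain ⟨φ, hφ⟩ : ∃ φ : A →+* Γ(V, ⊤), φ = Coh.toGlobal f := ⟨_, rfl⟩
  let Z : Set V := ⋃ j, {x | Curv2.IsAssPoint (F j) x}
  have hZ : Z.Finite := Set.finite_iUnion
    (fun j => Groth.Agent.Lib.Helper4.NegTwist.finite_assPoints (F j) (hF j))
  obtain ⟨a, ha⟩ := Groth.Agent.Lib.Helper11.RegSec.exists_comb φ hA L hL σ hgen Z hZ
  refine ⟨Groth.Agent.Lib.Helper23.SecTw.secHom L
    (∑ i, φ (a i) • Groth.Agent.Lib.Helper23.SecTw.sv (σ i) ⊤), a, ?_, fun j => ?_⟩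
  · have h1 := Groth.Agent.Lib.Helper23.SecTw.sv_secHom L
      (∑ i, φ (a i) • Groth.Agent.Lib.Helper23.SecTw.sv (σ i) ⊤) ⊤
    rw [Groth.Agent.Lib.Helper23.SecTw.res_self] at h1
    subst hφ
    exact h1
  · haveI : (F j).IsQuasicoherent := (hF j).1
    exact Groth.Agent.Lib.Helper11.RegSec.mono_tensorBi_map (F j) L _
      (fun y hy => ha y (Set.mem_iUnion.2 ⟨j, hy⟩))

end Groth.Agent.S15976
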