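import Groth.Statements.S15987
import Mathlib.Tactic
-- import your own Groth.Agent.* helpers here

set_option autoImplicit false
universe u v
open Deform

namespace Groth.Agent.S15987

section Aux

open TrivSqZeroExt

variable {k : Type u} [Field k] {A : Type u} [CommRing A] [Algebra k A]

/-- The derivation attached to an automorphism of `A[ε]` which is the identity modulo `ε`. -/
private noncomputable def toD (φ : DualNumber A ≃ₐ[k] DualNumber A)
    (h1 : ∀ x, (φ x).fst = x.fst) : Derivation k A A :=
  Derivation.mk'
    { toFun := fun a => (φ (inl a : DualNumber A)).snd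
      map_add' := fun a b => by rw [inl_add, map_add, snd_add]
      map_smul' := fun r a => by
        rw [RingHom.id_apply, inl_smul, map_smul, snd_smul] }
    (fun a b => by
      change (φ (inl (a * b) : DualNumber A)).snd =
        a • (φ (inl b : DualNumber A)).snd + b • (φ (inl a : DualNumber A)).snd
      rw [inl_mul, map_mul, DualNumber.snd_mul, h1, h1, fst_inl, fst_inl, smul_eq_mul, smul_eq_mul]
      ring)

private theorem toD_apply (φ : DualNumber A ≃ₐ[k] DualNumber A)
    (h1 : ∀ x, (φ x).fst = x.fst) (a : A) : toD φ h1 a = (φ (inl a : DualNumber A)).snd := rfl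

/-- The automorphism `a + b ε ↦ a + (b + D a) ε` attached to a derivation. -/
private noncomputable def phi (D : Derivation k A A) : DualNumber A ≃ₐ[k] DualNumber A where
  toFun x := inl x.fst + inr (x.snd + D x.fst)
  invFun x := inl x.fst + inr (x.snd - D x.fst)
  left_inv x := by
    ext <;> simp
  right_inv x := by
    ext <;> simp
  map_mul' x y := by
    ext
    · simp
    · simp only [snd_add, snd_inl, snd_inr, zero_add, DualNumber.snd_mul, fst_add, fst_inl, fst_inr,
        add_zero, fst_mul, Derivation.leibniz, smul_eq_mul]
      ring
  map_add' x y := by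
    ext <;> simp [add_add_add_comm]
  commutes' r := by
    ext
    · simp [algebraMap_eq_inl']
    · simp [algebraMap_eq_inl']

private theorem phi_apply (D : Derivation k A A) (x : DualNumber A) :
    phi D x = inl x.fst + inr (x.snd + D x.fst) := rfl

private theorem snd_apply_eq (φ : DualNumber A ≃ₐ[k] DualNumber A)
    (hε : φ DualNumber.eps = DualNumber.eps) (h1 : ∀ x, (φ x).fst = x.fst) (x : DualNumber A) :
    (φ x).snd = x.snd + (φ (inl x.fst : DualNumber A)).snd := by
  have hx : x = inl x.fst + inl x.snd * DualNumber.eps := by
    ext <;> simp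
  conv_lhs => rw [hx]
  rw [map_add, map_mul, hε, snd_add, DualNumber.snd_mul, h1, fst_inl, DualNumber.snd_eps,
    DualNumber.fst_eps, mul_one, mul_zero, add_zero, add_comm]

end Aux

open TrivSqZeroExt in
/-- Let k be a field, A a commutative k-algebra and q_i : A → k (i ∈ ι) k-algebra maps (marked k-points
of Spec A). The k-algebra automorphisms φ of the ring of dual numbers A[ε] that fix ε (so are
k[ε]-linear), are the identity modulo ε, and satisfy q_i((φ x)_ε) = q_i(x_ε) for all i and x
(compatibility with the trivial lifts A[ε] → k[ε] of the marked points) are in bijection with the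
k-derivations D : A → A such that q_i ∘ D = 0 for every i, the bijection sending φ to a ↦ (φ(a))_ε.
(The source identifies the right-hand side with the global vector fields vanishing at the marked
points; the condition the computation yields is q_i ∘ D = 0, which is the same for Spec A smooth
over k but is weaker in general, e.g. for A = k[x]/(x^2) with 2 invertible in k.) -/
theorem result
    (k : Type u) [Field k] (A : Type u) [CommRing A] [Algebra k A] {ι : Type v} (q : ι → (A →ₐ[k] k)) :
    ∃ e : {φ : DualNumber A ≃ₐ[k] DualNumber A //
            φ DualNumber.eps = DualNumber.eps ∧ (∀ x, (φ x).fst = x.fst) ∧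
              ∀ i x, q i (φ x).snd = q i x.snd} ≃
          {D : Derivation k A A // ∀ i a, q i (D a) = 0},
      ∀ φ (a : A), (e φ).1 a = (φ.1 (inl a : DualNumber A)).snd := by
  refine ⟨
    { toFun := fun φ => ⟨toD φ.1 φ.2.2.1, fun i a => by
        rw [toD_apply, φ.2.2.2, snd_inl, map_zero]⟩
      invFun := fun D => ⟨phi D.1, ?_, ?_, ?_⟩
      left_inv := ?_
      right_inv := ?_ }, fun φ a => rfl⟩
  · rw [phi_apply]
    ext <;> simp
  · intro x
    rw [phi_apply]
    simp
  · intro i x
    rw [phi_apply]
    simp [D.2 i]
  · intro φ
    apply Subtype.ext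
    apply AlgEquiv.ext
    intro x
    change phi (toD φ.1 φ.2.2.1) x = φ.1 x
    rw [phi_apply, toD_apply]
    ext
    · simp [φ.2.2.1 x]
    · rw [snd_apply_eq φ.1 φ.2.1 φ.2.2.1 x]
      simp
  · intro D
    apply Subtype.ext
    apply Derivation.ext
    intro a
    change (phi D.1 (inl a : DualNumber A)).snd = D.1 a
    rw [phi_apply]
    simp

end Groth.Agent.S15987
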