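import Groth.Statements.S15988
import Mathlib

set_option autoImplicit false
universe u v
open Deform

namespace Groth.Agent.S15988

open TrivSqZeroExt

section
variable (k : Type u) [Field k] (A : Type u) [CommRing A] [Algebra k A]

/-- the automorphism-like endomorphism of `A[ε]` attached to a derivation -/
noncomputable def homOfDer (D : Derivation k A A) : DualNumber A →ₐ[k] DualNumber A where
  toFun x := inl x.fst + inr (x.snd - D x.fst)
  map_one' := by
    ext <;> simp
  map_mul' x y := by
    ext
    · simp
    · simp only [snd_add, snd_inl, snd_inr, zero_add, fst_mul, snd_mul, fst_add, fst_inl, fst_inr,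
        add_zero, Derivation.leibniz, smul_eq_mul, MulOpposite.smul_eq_mul_unop,
        MulOpposite.unop_op]
      ring
  map_zero' := by
    ext <;> simp
  map_add' x y := by
    ext
    · simp
    · simp only [snd_add, snd_inl, snd_inr, zero_add, fst_add, map_add]
      abel
  commutes' r := by
    ext
    · simp [algebraMap_eq_inl']
    · simp [algebraMap_eq_inl']

@[simp] lemma homOfDer_fst (D : Derivation k A A) (x : DualNumber A) :
    (homOfDer k A D x).fst = x.fst := by
  simp [homOfDer]

@[simp] lemma homOfDer_snd (D : Derivation k A A) (x : DualNumber A) :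
    (homOfDer k A D x).snd = x.snd - D x.fst := by
  simp [homOfDer]

noncomputable def equivOfDer (D : Derivation k A A) : DualNumber A ≃ₐ[k] DualNumber A :=
  AlgEquiv.ofAlgHom (homOfDer k A D) (homOfDer k A (-D))
    (by
      apply AlgHom.ext
      intro x
      ext <;> simp)
    (by
      apply AlgHom.ext
      intro x
      ext <;> simp)

variable [Algebra.Smooth k A]

/-- a point derivation lifts to a global derivation -/
lemma exists_derivation (q : A →ₐ[k] k) (δ : A →ₗ[k] k)
    (hδ : ∀ a b, δ (a * b) = q a * δ b + q b * δ a) :
    ∃ D : Derivation k A A, ∀ a, q (D a) = δ a := by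
  let : Module A k := Module.compHom k (q : A →+* k)
  have hsmul : ∀ (a : A) (x : k), a • x = q a * x := fun a x => rfl
  have : IsScalarTower k A k := ⟨fun r a x => by
    rw [hsmul, hsmul, map_smul, smul_eq_mul, smul_eq_mul, mul_assoc]⟩
  have h1 : δ 1 = 0 := by
    have := hδ 1 1
    simp only [mul_one, map_one, one_mul] at this
    linear_combination -this
  let δ' : Derivation k A k :=
    { toLinearMap := δ
      map_one_eq_zero' := h1
      leibniz' := fun a b => by
        change δ (a * b) = a • δ b + b • δ a
        rw [hsmul, hsmul, hδ] }
  let f : A →ₗ[A] k :=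
    { toFun := q
      map_add' := map_add q
      map_smul' := fun a b => by
        change q (a • b) = a • q b
        rw [hsmul, smul_eq_mul, map_mul] }
  have hf : Function.Surjective f := by
    intro x
    refine ⟨algebraMap k A x, ?_⟩
    change q (algebraMap k A x) = x
    rw [AlgHom.commutes]
    rfl
  obtain ⟨h, hh⟩ := Module.projective_lifting_property f δ'.liftKaehlerDifferential hf
  refine ⟨h.compDer (KaehlerDifferential.D k A), fun a => ?_⟩
  have := LinearMap.congr_fun hh (KaehlerDifferential.D k A a)
  simp only [LinearMap.coe_comp, Function.comp_apply,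
    Derivation.liftKaehlerDifferential_comp_D] at this
  exact this

omit [Algebra.Smooth k A] in
/-- Lagrange idempotents for finitely many distinct points -/
lemma exists_idem {ι : Type v} [Fintype ι] [DecidableEq ι] (q : ι → (A →ₐ[k] k))
    (hq : Function.Injective q) :
    ∃ e : ι → A, ∀ i j, q j (e i) = if i = j then 1 else 0 := by
  have hex : ∀ i j : ι, ∃ a : A, i ≠ j → q i a ≠ q j a := by
    intro i j
    by_cases hij : i = j
    · exact ⟨0, fun h => (h hij).elim⟩
    · have : q i ≠ q j := fun h => hij (hq h)
      obtain ⟨a, ha⟩ := DFunLike.exists_ne this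
      exact ⟨a, fun _ => ha⟩
  choose a ha using hex
  refine ⟨fun i => ∏ j ∈ Finset.univ.erase i,
    ((q i (a i j) - q j (a i j))⁻¹ • (a i j - algebraMap k A (q j (a i j)))), fun i l => ?_⟩
  rw [map_prod]
  split_ifs with hil
  · subst hil
    apply Finset.prod_eq_one
    intro j hj
    have hne : i ≠ j := fun h => (Finset.ne_of_mem_erase hj) h.symm
    rw [map_smul, map_sub, AlgHom.commutes, smul_eq_mul]
    change (q i (a i j) - q j (a i j))⁻¹ * (q i (a i j) - q j (a i j)) = 1
    exact inv_mul_cancel₀ (sub_ne_zero.2 (ha i j hne))
  · apply Finset.prod_eq_zero (i := l)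
    · exact Finset.mem_erase.2 ⟨fun h => hil h.symm, Finset.mem_univ _⟩
    · rw [map_smul, map_sub, AlgHom.commutes]
      change (q i (a i l) - q l (a i l))⁻¹ • (q l (a i l) - q l (a i l)) = 0
      rw [sub_self, smul_zero]

end


open TrivSqZeroExt in
/-- Let k be a field, A a smooth commutative k-algebra, q_i : A → k (i ∈ ι, ι finite) pairwise distinct
k-algebra maps, and q'_i : A[ε] → k[ε] k-algebra maps with q'_i(ε) = ε which reduce to q_i modulo ε
(marked points of a first-order deformation with underlying trivial deformation). Then some
k-algebra automorphism φ of A[ε] with φ(ε) = ε and φ = id modulo ε carries every q'_i to the trivial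
lift of q_i: q'_i(φ x) = (q_i(x_0), q_i(x_ε)) for all i and x. Together with the triviality of
first-order deformations of a smooth affine scheme this gives the source's statement that
first-order deformations of a smooth affine scheme with marked points are trivial. (The published
statement does not say that the finitely many marked points are distinct; for two coincident points
with different lifts no such automorphism exists, so the points are taken pairwise distinct here,
and the source's non-singular is read as smooth over k.) -/
theorem result
    (k : Type u) [Field k] (A : Type u) [CommRing A] [Algebra k A] [Algebra.Smooth k A]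
    {ι : Type v} [Finite ι] (q : ι → (A →ₐ[k] k)) (hq : Function.Injective q)
    (q' : ι → (DualNumber A →ₐ[k] DualNumber k))
    (hε : ∀ i, q' i DualNumber.eps = DualNumber.eps) (hq' : ∀ i x, (q' i x).fst = q i x.fst) :
    ∃ φ : DualNumber A ≃ₐ[k] DualNumber A,
      φ DualNumber.eps = DualNumber.eps ∧ (∀ x, (φ x).fst = x.fst) ∧
        ∀ i x, (q' i (φ x)).fst = q i x.fst ∧ (q' i (φ x)).snd = q i x.snd := by
  classical
  have := Fintype.ofFinite ι
  -- the point derivations
  let δ : ι → (A →ₗ[k] k) := fun i =>
    { toFun := fun a => (q' i (inl a)).snd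
      map_add' := fun a b => by
        rw [inl_add, map_add, snd_add]
      map_smul' := fun r a => by
        rw [inl_smul, map_smul, snd_smul, RingHom.id_apply] }
  have hδ : ∀ i a b, δ i (a * b) = q i a * δ i b + q i b * δ i a := by
    intro i a b
    change (q' i (inl (a * b))).snd = q i a * (q' i (inl b)).snd + q i b * (q' i (inl a)).snd
    rw [inl_mul, map_mul, DualNumber.snd_mul, hq', hq', fst_inl, fst_inl]
    ring
  choose D hD using fun i => exists_derivation k A (q i) (δ i) (hδ i)
  obtain ⟨e, he⟩ := exists_idem k A q hq
  let D₀ : Derivation k A A := ∑ i, e i • D i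
  have hD₀ : ∀ j a, q j (D₀ a) = δ j a := by
    intro j a
    have hsum : D₀ a = ∑ i, e i * D i a := by
      have := congrFun (map_sum (Derivation.coeFnAddMonoidHom (R := k) (A := A) (M := A))
        (fun i => e i • D i) Finset.univ) a
      rw [Finset.sum_apply] at this
      exact this
    rw [hsum, map_sum]
    rw [Finset.sum_eq_single j]
    · rw [map_mul, he, if_pos rfl, one_mul, hD]
    · intro i _ hij
      rw [map_mul, he, if_neg hij, zero_mul]
    · intro h; exact (h (Finset.mem_univ _)).elim
  -- general formula for q'
  have hq'snd : ∀ i (x : DualNumber A), (q' i x).snd = δ i x.fst + q i x.snd := by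
    intro i x
    have hx : x = inl x.fst + inl x.snd * DualNumber.eps := by
      ext
      · simp
      · simp
    conv_lhs => rw [hx]
    rw [map_add, map_mul, hε, snd_add, DualNumber.snd_mul, hq', fst_inl, DualNumber.fst_eps,
      DualNumber.snd_eps, mul_zero, mul_one, add_zero]
    rfl
  refine ⟨equivOfDer k A D₀, ?_, ?_, ?_⟩
  · change homOfDer k A D₀ DualNumber.eps = DualNumber.eps
    ext
    · simp
    · simp [DualNumber.fst_eps, DualNumber.snd_eps]
  · intro x
    change (homOfDer k A D₀ x).fst = x.fst
    simp
  · intro i x
    change (q' i (homOfDer k A D₀ x)).fst = q i x.fst ∧ (q' i (homOfDer k A D₀ x)).snd = q i x.snd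
    constructor
    · rw [hq', homOfDer_fst]
    · rw [hq'snd, homOfDer_fst, homOfDer_snd, map_sub, hD₀]
      ring

end Groth.Agent.S15988
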