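import Groth.Statements.S15990
import Groth.Agent.Lib.Helper18SecJ

set_option autoImplicit false
universe u
open SDiv

namespace Groth.Agent.S15990

open AlgebraicGeometry CategoryTheory in
/-- Let f : X → Y be separated and smooth of relative dimension 1 and let σ : Y → X be a section of f.
Then σ(Y) is a relative effective Cartier divisor on X/Y: the kernel ideal sheaf of the closed
immersion σ is the ideal sheaf of an effective Cartier divisor (locally on affine opens generated by
one nonzerodivisor) and the closed subscheme it defines is flat over Y. (The source adds the special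
case of the diagonal of X ×_Y X, a section of the first projection.) -/
theorem result
    {X Y : Scheme.{u}} (f : X ⟶ Y) [IsSeparated f] [SmoothOfRelativeDimension 1 f]
    (σ : Y ⟶ X) (hσ : σ ≫ f = 𝟙 Y) :
    BlowUp.IsEffCartierIdeal σ.ker ∧ Flat (σ.ker.subschemeι ≫ f) := by
  haveI : IsClosedImmersion (σ ≫ f) := by rw [hσ]; infer_instance
  haveI : IsClosedImmersion σ := IsClosedImmersion.of_comp σ f
  refine ⟨?_, ?_⟩
  · intro x
    by_cases hx : x ∈ σ.ker.support
    · have hx' : x ∈ Set.range σ := by
        have h := Scheme.Hom.support_ker σ
        rw [σ.isClosedEmbedding.isClosed_range.closure_eq] at h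
        have h2 : x ∈ (σ.ker.support : Set X) := hx
        rwa [h] at h2
      obtain ⟨y, rfl⟩ := hx'
      exact Groth.Agent.Helper18Sec.isEffCartier_on_section f σ hσ y
    · exact Groth.Agent.Helper18Sec.isEffCartier_off_support σ.ker x hx
  · have h1 : σ.ker.subschemeι ≫ f = inv σ.toImage := by
      rw [← cancel_epi σ.toImage, IsIso.hom_inv_id]
      have : σ.toImage ≫ σ.ker.subschemeι = σ := Scheme.Hom.toImage_imageι σ
      rw [← Category.assoc, this, hσ]
    rw [h1]
    infer_instance

end Groth.Agent.S15990
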