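import Groth.Statements.S16000
import Mathlib
-- import your own Groth.Agent.* helpers here

set_option autoImplicit false
set_option linter.style.haveILetI false
set_option linter.unusedSectionVars false
universe u
open FrobAlg

namespace Groth.Agent.S16000

open TensorProduct

section Abstract

variable {R : Type*} [CommRing R] {ι : Type*} {N : ι → Type*} [∀ i, AddCommGroup (N i)]
  [∀ i, Module R (N i)] {L : Type*} [AddCommGroup L] [Module R L] (ev : ∀ i, L →ₗ[R] N i)

theorem free_case (hev : ∀ l, (∀ i, ev i l = 0) → l = 0) (κ : Type*) (z : (κ →₀ R) ⊗[R] L)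
    (hz : ∀ i, LinearMap.lTensor (κ →₀ R) (ev i) z = 0) : z = 0 := by
  classical
  have nat : ∀ (i : ι) (z : (κ →₀ R) ⊗[R] L) (k : κ),
      TensorProduct.finsuppScalarLeft R (N i) κ (LinearMap.lTensor (κ →₀ R) (ev i) z) k =
        ev i (TensorProduct.finsuppScalarLeft R L κ z k) := by
    intro i z k
    induction z using TensorProduct.induction_on with
    | zero => simp
    | tmul f l =>
      rw [LinearMap.lTensor_tmul, TensorProduct.finsuppScalarLeft_apply_tmul_apply,
        TensorProduct.finsuppScalarLeft_apply_tmul_apply, map_smul]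
    | add a b ha hb => simp only [map_add, Finsupp.add_apply, ha, hb]
  apply (TensorProduct.finsuppScalarLeft R L κ).injective
  rw [map_zero]
  ext k
  apply hev
  intro i
  rw [← nat, hz i, map_zero]; rfl

theorem proj_case (hev : ∀ l, (∀ i, ev i l = 0) → l = 0) (P : Type*) [AddCommGroup P]
    [Module R P] [hP : Module.Projective R P] (z : P ⊗[R] L)
    (hz : ∀ i, LinearMap.lTensor P (ev i) z = 0) : z = 0 := by
  obtain ⟨s, hs⟩ := Module.projective_def'.mp hP
  have h1 : LinearMap.rTensor L s z = 0 := by
    apply free_case ev hev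
    intro i
    rw [← LinearMap.comp_apply, LinearMap.lTensor_comp_rTensor, ← LinearMap.rTensor_comp_lTensor,
      LinearMap.comp_apply, hz i, map_zero]
  have h2 : LinearMap.rTensor L (Finsupp.linearCombination R id) (LinearMap.rTensor L s z) = z := by
    rw [← LinearMap.comp_apply, ← LinearMap.rTensor_comp, hs, LinearMap.rTensor_id,
      LinearMap.id_apply]
  rw [← h2, h1, map_zero]

theorem retract_case (hev : ∀ l, (∀ i, ev i l = 0) → l = 0) {R' Q : Type*} [AddCommGroup R']
    [Module R R'] [AddCommGroup Q] [Module R Q] [Module.Projective R Q] (inc : Q →ₗ[R] R')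
    (ret : R' →ₗ[R] Q) (h : ret ∘ₗ inc = LinearMap.id) (z' : Q ⊗[R] L)
    (hz : ∀ i, LinearMap.lTensor R' (ev i) (LinearMap.rTensor L inc z') = 0) : z' = 0 := by
  apply proj_case ev hev Q
  intro i
  have h1 : LinearMap.rTensor (N i) ret (LinearMap.rTensor (N i) inc
      (LinearMap.lTensor Q (ev i) z')) = LinearMap.lTensor Q (ev i) z' := by
    rw [← LinearMap.comp_apply, ← LinearMap.rTensor_comp, h, LinearMap.rTensor_id,
      LinearMap.id_apply]
  rw [← h1]
  have h2 : LinearMap.rTensor (N i) inc (LinearMap.lTensor Q (ev i) z') =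
      LinearMap.lTensor R' (ev i) (LinearMap.rTensor L inc z') := by
    rw [← LinearMap.comp_apply, ← LinearMap.comp_apply, LinearMap.rTensor_comp_lTensor,
      LinearMap.lTensor_comp_rTensor]
  rw [h2, hz i, map_zero]

end Abstract

theorem projective_trans (R S M : Type*) [CommRing R] [CommRing S] [Algebra R S] [AddCommGroup M]
    [Module S M] [Module R M] [IsScalarTower R S M] [Module.Projective R S]
    [hM : Module.Projective S M] : Module.Projective R M := by
  classical
  obtain ⟨s, hs⟩ := Module.projective_def'.mp hM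
  haveI : Module.Projective R (M →₀ S) :=
    Module.Projective.of_equiv' (finsuppLequivDFinsupp R).symm
  exact Module.Projective.of_split (s.restrictScalars R)
    ((Finsupp.linearCombination S id).restrictScalars R) (by ext x; exact LinearMap.congr_fun hs x)


section Split

variable (p : ℕ) [Fact p.Prime] (R : Type u) [CommRing R] [CharP R p]

theorem exists_splitting [hP : Module.Projective R (FrobAlg.Twist p R)] :
    ∃ φ : FrobAlg.Twist p R →ₗ[R] R, φ 1 = 1 := by
  classical
  let I : Ideal R :=
    LinearMap.range (LinearMap.applyₗ (1 : FrobAlg.Twist p R) : (FrobAlg.Twist p R →ₗ[R] R) →ₗ[R] R)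
  by_cases hI : I = ⊤
  · have h1 : (1 : R) ∈ I := hI ▸ Submodule.mem_top
    obtain ⟨φ, hφ⟩ := h1
    exact ⟨φ, hφ⟩
  · exfalso
    obtain ⟨m, hm, hIm⟩ := Ideal.exists_le_maximal I hI
    obtain ⟨s, hs⟩ := Module.projective_def'.mp hP
    have h1 : (1 : FrobAlg.Twist p R) = (s 1).sum fun j c => c • j := by
      have := LinearMap.congr_fun hs 1
      rw [LinearMap.comp_apply, Finsupp.linearCombination_apply, LinearMap.id_apply] at this
      exact this.symm
    let m' : Ideal (FrobAlg.Twist p R) := m.comap ((toTwist p R).symm : FrobAlg.Twist p R →+* R)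
    have h2 : (1 : FrobAlg.Twist p R) ∈ m' := by
      rw [h1]
      apply Ideal.sum_mem
      intro j _
      have hc : s 1 j ∈ m := hIm ⟨Finsupp.lapply j ∘ₗ s, rfl⟩
      show (s 1 j) • j ∈ m'
      rw [Algebra.smul_def, FrobAlg.algebraMap_twist]
      apply Ideal.mul_mem_right
      show (toTwist p R).symm (toTwist p R (s 1 j ^ p)) ∈ m
      rw [RingEquiv.symm_apply_apply]
      exact Ideal.pow_mem_of_mem m hc p (Fact.out : p.Prime).pos
    have h3 : (1 : R) ∈ m := by
      have : (toTwist p R).symm 1 ∈ m := h2
      rwa [map_one] at this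
    exact hm.ne_top (m.eq_top_of_isUnit_mem h3 isUnit_one)

end Split

set_option linter.unusedVariables false in
/-- A copy of `R`, an `R`-algebra through `F^n`. -/
@[nolint unusedArguments] def Q (p : ℕ) (R : Type u) (n : ℕ) : Type u := R

section Main

variable (p : ℕ) [Fact p.Prime] (R : Type u) [CommRing R] [CharP R p]

instance (n : ℕ) : CommRing (Q p R n) := inferInstanceAs (CommRing R)
instance (n : ℕ) : CharP (Q p R n) p := inferInstanceAs (CharP R p)

/-- identity -/
def toQ (n : ℕ) : R ≃+* Q p R n := RingEquiv.refl R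

instance algQ (n : ℕ) : Algebra R (Q p R n) :=
  ((toQ p R n : R →+* Q p R n).comp (iterateFrobenius R p n)).toAlgebra

theorem algebraMap_Q (n : ℕ) (a : R) : algebraMap R (Q p R n) a = toQ p R n (a ^ p ^ n) := rfl

theorem smul_Q (n : ℕ) (a : R) (x : Q p R n) : a • x = toQ p R n (a ^ p ^ n) * x := by
  rw [Algebra.smul_def]; rfl

instance algQQ (n : ℕ) : Algebra (Q p R n) (Q p R (n + 1)) :=
  ((toQ p R (n + 1) : R →+* Q p R (n + 1)).comp
    ((frobenius R p).comp ((toQ p R n).symm : Q p R n →+* R))).toAlgebra

instance (n : ℕ) : IsScalarTower R (Q p R n) (Q p R (n + 1)) :=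
  IsScalarTower.of_algebraMap_eq (fun a => by
    show toQ p R (n + 1) (a ^ p ^ (n + 1)) =
      toQ p R (n + 1) (((toQ p R n).symm (toQ p R n (a ^ p ^ n))) ^ p)
    rw [RingEquiv.symm_apply_apply, ← pow_mul, ← pow_succ])

theorem projective_Q [h : Module.Projective R (FrobAlg.Twist p R)] (n : ℕ) :
    Module.Projective R (Q p R n) := by
  induction n with
  | zero =>
    let e : R ≃ₗ[R] Q p R 0 :=
      { toFun := toQ p R 0
        invFun := (toQ p R 0).symm
        map_add' := fun x y => map_add _ x y
        map_smul' := fun a x => by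
          rw [RingHom.id_apply, smul_Q, pow_zero, pow_one, smul_eq_mul, map_mul]
        left_inv := fun x => (toQ p R 0).symm_apply_apply x
        right_inv := fun x => (toQ p R 0).apply_symm_apply x }
    exact Module.Projective.of_equiv' e
  | succ n ih =>
    haveI := ih
    haveI : Module.Projective (Q p R n) (Q p R (n + 1)) := h
    exact projective_trans R (Q p R n) (Q p R (n + 1))


/-- The algebra structure on the perfect closure. -/
@[reducible] noncomputable def perfAlg : Algebra R (PerfectClosure R p) :=
  (PerfectClosure.of R p).toAlgebra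

attribute [local instance] perfAlg

theorem smul_perf (a : R) (y : PerfectClosure R p) : a • y = PerfectClosure.of R p a * y := by
  rw [Algebra.smul_def]; rfl

/-- `ι_n`. -/
noncomputable def inc (n : ℕ) : Q p R n →ₗ[R] PerfectClosure R p where
  toFun x := (iterateFrobeniusEquiv (PerfectClosure R p) p n).symm
    (PerfectClosure.of R p ((toQ p R n).symm x))
  map_add' x y := by simp only [map_add]
  map_smul' a x := by
    simp only [RingHom.id_apply]
    rw [smul_Q, smul_perf, map_mul, map_mul, map_mul, RingEquiv.symm_apply_apply]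
    congr 1
    rw [RingEquiv.symm_apply_eq, iterateFrobeniusEquiv_def, map_pow]

theorem inc_apply (n : ℕ) (x : Q p R n) : inc p R n x =
    (iterateFrobeniusEquiv (PerfectClosure R p) p n).symm
      (PerfectClosure.of R p ((toQ p R n).symm x)) := rfl

theorem inc_pow (n : ℕ) (x : Q p R n) : (inc p R n x) ^ p ^ n =
    PerfectClosure.of R p ((toQ p R n).symm x) := by
  rw [inc_apply, ← iterateFrobeniusEquiv_def, RingEquiv.apply_symm_apply]

theorem exists_inc (y : PerfectClosure R p) : ∃ (n : ℕ) (x : Q p R n), inc p R n x = y := by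
  induction y using PerfectClosure.induction_on with
  | h y =>
    obtain ⟨n, x⟩ := y
    refine ⟨n, toQ p R n x, ?_⟩
    rw [inc_apply, RingEquiv.symm_apply_apply, RingEquiv.symm_apply_eq,
      coe_iterateFrobeniusEquiv, coe_iterateFrobenius, PerfectClosure.iterate_frobenius_mk]

/-- transition maps -/
noncomputable def tr (n k : ℕ) (h : n ≤ k) : Q p R n →ₗ[R] Q p R k where
  toFun x := toQ p R k (((toQ p R n).symm x) ^ p ^ (k - n))
  map_add' x y := by
    rw [map_add, add_pow_char_pow, map_add]
  map_smul' a x := by
    rw [RingHom.id_apply, smul_Q, smul_Q, map_mul, RingEquiv.symm_apply_apply, mul_pow, map_mul,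
      ← pow_mul, ← pow_add, Nat.add_sub_cancel' h]

theorem inc_tr (n k : ℕ) (h : n ≤ k) (x : Q p R n) : inc p R k (tr p R n k h x) = inc p R n x := by
  rw [inc_apply, RingEquiv.symm_apply_eq, iterateFrobeniusEquiv_def]
  have : k = n + (k - n) := (Nat.add_sub_cancel' h).symm
  conv_rhs => rw [this, pow_add, pow_mul, inc_pow]
  rw [← map_pow]
  rfl

section Ret

variable {p R}
variable (φ : FrobAlg.Twist p R →ₗ[R] R)

/-- `φ` as an additive endomorphism of `R`. -/
def phi : R →+ R := φ.toAddMonoidHom.comp (toTwist p R : R →+* FrobAlg.Twist p R).toAddMonoidHom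

theorem phi_apply (x : R) : phi φ x = φ (toTwist p R x) := rfl

theorem phi_frob_mul (a x : R) : phi φ (a ^ p * x) = a * phi φ x := by
  rw [phi_apply, phi_apply, map_mul, ← FrobAlg.algebraMap_twist, ← Algebra.smul_def, map_smul,
    smul_eq_mul]

variable (hφ : φ 1 = 1)

include hφ in
theorem phi_frob (a : R) : phi φ (a ^ p) = a := by
  have := phi_frob_mul φ a 1
  rw [mul_one] at this
  rw [this, phi_apply, map_one, hφ, mul_one]

theorem phi_iter (m : ℕ) (a x : R) : (phi φ)^[m] (a ^ p ^ m * x) = a * (phi φ)^[m] x := by
  induction m generalizing x with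
  | zero => simp
  | succ m ih =>
    rw [Function.iterate_succ_apply, Function.iterate_succ_apply, pow_succ, pow_mul,
      phi_frob_mul, ih]

include hφ in
theorem phi_iter_pow (m : ℕ) (x : R) : (phi φ)^[m] (x ^ p ^ m) = x := by
  have := phi_iter φ m x 1
  rw [mul_one] at this
  rw [this]
  have h1 : phi φ 1 = 1 := by
    have := phi_frob φ hφ 1
    rwa [one_pow] at this
  rw [Function.iterate_fixed h1, mul_one]

/-- The retraction `R' → R`. -/
noncomputable def retFun : PerfectClosure R p → R := fun y =>
  PerfectClosure.liftOn y (fun mx => (phi φ)^[mx.1] mx.2) (by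
    rintro _ _ ⟨m, x⟩
    show (phi φ)^[m] x = (phi φ)^[m + 1] (frobenius R p x)
    rw [Function.iterate_succ_apply, frobenius_def, phi_frob φ hφ])

theorem retFun_mk (m : ℕ) (x : R) :
    retFun φ hφ (PerfectClosure.mk R p (m, x)) = (phi φ)^[m] x := rfl

theorem retFun_add (y z : PerfectClosure R p) :
    retFun φ hφ (y + z) = retFun φ hφ y + retFun φ hφ z := by
  induction y using PerfectClosure.induction_on with
  | h y =>
  induction z using PerfectClosure.induction_on with
  | h z =>
  obtain ⟨m, a⟩ := y
  obtain ⟨m', b⟩ := z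
  rw [PerfectClosure.mk_add_mk, retFun_mk, retFun_mk, retFun_mk]
  simp only
  rw [iterate_map_add, iterate_frobenius, iterate_frobenius]
  congr 1
  · rw [Function.iterate_add_apply, phi_iter_pow φ hφ]
  · rw [add_comm, Function.iterate_add_apply, phi_iter_pow φ hφ]

theorem retFun_smul (a : R) (y : PerfectClosure R p) :
    retFun φ hφ (PerfectClosure.of R p a * y) = a * retFun φ hφ y := by
  induction y using PerfectClosure.induction_on with
  | h y =>
  obtain ⟨m, x⟩ := y
  rw [PerfectClosure.of_apply, PerfectClosure.mk_mul_mk, retFun_mk, retFun_mk]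
  simp only [zero_add, Function.iterate_zero, id]
  rw [iterate_frobenius, phi_iter]

attribute [local instance] perfAlg

/-- `ρ_n`. -/
noncomputable def ret (n : ℕ) : PerfectClosure R p →ₗ[R] Q p R n where
  toFun y := toQ p R n (retFun φ hφ (y ^ p ^ n))
  map_add' y z := by rw [add_pow_char_pow, retFun_add, map_add]
  map_smul' a y := by
    rw [RingHom.id_apply, smul_perf, mul_pow, ← map_pow, retFun_smul, smul_Q, map_mul]

theorem ret_inc (n : ℕ) : ret φ hφ n ∘ₗ inc p R n = LinearMap.id := by
  ext x
  show toQ p R n (retFun φ hφ ((inc p R n x) ^ p ^ n)) = x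
  rw [inc_pow, PerfectClosure.of_apply, retFun_mk]
  exact (toQ p R n).apply_symm_apply x

end Ret

attribute [local instance] perfAlg

theorem general [Module.Projective R (FrobAlg.Twist p R)] {ι : Type*} (N : ι → Type*)
    [∀ i, AddCommGroup (N i)] [∀ i, Module R (N i)] (L : Type*) [AddCommGroup L] [Module R L]
    (ev : ∀ i, L →ₗ[R] N i) (hev : ∀ l, (∀ i, ev i l = 0) → l = 0) :
    Function.Injective (LinearMap.pi fun i => LinearMap.lTensor (PerfectClosure R p) (ev i)) := by
  obtain ⟨φ, hφ⟩ := exists_splitting p R
  rw [injective_iff_map_eq_zero]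
  intro z hz
  have hz' : ∀ i, LinearMap.lTensor (PerfectClosure R p) (ev i) z = 0 := fun i => congr_fun hz i
  have hex : ∀ z : PerfectClosure R p ⊗[R] L, ∃ n, ∃ z' : Q p R n ⊗[R] L,
      LinearMap.rTensor L (inc p R n) z' = z := by
    intro z
    induction z using TensorProduct.induction_on with
    | zero => exact ⟨0, 0, map_zero _⟩
    | tmul y l =>
      obtain ⟨n, x, rfl⟩ := exists_inc p R y
      exact ⟨n, x ⊗ₜ l, rfl⟩
    | add a b ha hb =>
      obtain ⟨n, a', rfl⟩ := ha
      obtain ⟨m, b', rfl⟩ := hb
      refine ⟨n + m, LinearMap.rTensor L (tr p R n (n + m) (Nat.le_add_right n m)) a' +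
        LinearMap.rTensor L (tr p R m (n + m) (Nat.le_add_left m n)) b', ?_⟩
      rw [map_add, ← LinearMap.comp_apply, ← LinearMap.comp_apply, ← LinearMap.rTensor_comp,
        ← LinearMap.rTensor_comp]
      congr 2
      · congr 1
        ext x
        exact inc_tr p R n (n + m) _ x
      · congr 1
        ext x
        exact inc_tr p R m (n + m) _ x
  obtain ⟨n, z', rfl⟩ := hex z
  haveI := projective_Q p R n
  have : z' = 0 := retract_case ev hev (inc p R n) (ret φ hφ n) (ret_inc φ hφ n) z' hz'
  rw [this, map_zero]

end Main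


open TensorProduct in
/-- Let p be a prime, R a commutative ring of characteristic p such that R is a projective R-module
through its absolute Frobenius, and A a commutative R-algebra of characteristic p, with Frobenius
twists A^{p^i/R} = R ⊗_{F^i,R} A, relative Frobenius maps A^{p^{i+1}/R} → A^{p^i/R} and
preperfection A^{p^∞/R} = lim_i A^{p^i/R} ⊆ Π_i A^{p^i/R}. Let R' be the direct-limit perfection
colim(R → R → ⋯) of R along Frobenius, an R-module through the canonical map R → R'. Then the
natural map R' ⊗_R A^{p^∞/R} → Π_i (R' ⊗_R A^{p^i/R}), r ⊗ x ↦ (r ⊗ x_i)_i, is injective; in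
particular the base-change map R' ⊗_R lim_i A^{p^i/R} → lim_i (R' ⊗_R A^{p^i/R}) is injective. (The
published statement identifies the target limit with the preperfection of A ⊗_R R' over R'; that
identification is not part of this row.) -/
theorem result
    (p : ℕ) [Fact p.Prime] (R : Type u) [CommRing R] [CharP R p]
    (A : Type u) [CommRing A] [Algebra R A] [CharP A p]
    [Module.Projective R (FrobAlg.Twist p R)] :
    letI : Algebra R (PerfectClosure R p) := (PerfectClosure.of R p).toAlgebra
    Function.Injective
      (LinearMap.pi fun i : ℕ =>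
        LinearMap.lTensor (PerfectClosure R p)
          (((Pi.evalAlgHom R (fun k => W4c1imperftorsors.Twist p R A k) i).comp
            (W4c1imperftorsors.prePerf p R A).val).toLinearMap) :
        PerfectClosure R p ⊗[R] ↥(W4c1imperftorsors.prePerf p R A) →ₗ[R]
          (Π i : ℕ, PerfectClosure R p ⊗[R] W4c1imperftorsors.Twist p R A i)) := by
  exact general p R (fun i => W4c1imperftorsors.Twist p R A i)
    (↥(W4c1imperftorsors.prePerf p R A))
    (fun i => ((Pi.evalAlgHom R (fun k => W4c1imperftorsors.Twist p R A k) i).comp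
            (W4c1imperftorsors.prePerf p R A).val).toLinearMap)
    (by
      intro l hl
      apply Subtype.ext
      funext i
      exact hl i)

end Groth.Agent.S16000
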