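import Groth.Statements.S1601
import Mathlib
-- import your own Groth.Agent.* helpers here

set_option autoImplicit false
set_option linter.style.haveILetI false
set_option linter.unusedSectionVars false
universe u
open Resolve

namespace Groth.Agent.S1601
open MvPolynomial

section general
variable {κ : Type u} [Field κ]

local notation "AA" => MvPolynomial (Fin 2) κ

lemma pderiv_mem (I : Ideal AA) (p : AA) (hp : p ∈ I ^ 2) (i : Fin 2) : pderiv i p ∈ I := by
  rw [pow_two] at hp
  refine Submodule.mul_induction_on hp ?_ ?_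
  · intro m hm n hn
    rw [Derivation.leibniz]
    simp only [smul_eq_mul]
    exact I.add_mem (I.mul_mem_right _ hm) (I.mul_mem_right _ hn)
  · intro x y hx hy
    rw [map_add]
    exact I.add_mem hx hy

/-- If `I` contains `X 0 - C x₀` and `X 1 - C y₀` then the quotient has dimension ≤ 1. -/
lemma small_of_point (I : Ideal AA) (x₀ y₀ : κ) (h0 : X 0 - C x₀ ∈ I) (h1 : X 1 - C y₀ ∈ I) :
    Module.Finite κ (AA ⧸ I) ∧ Module.finrank κ (AA ⧸ I) ≤ 1 := by
  have key : ∀ p : AA, p - C (eval ![x₀, y₀] p) ∈ I := by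
    intro p
    induction p using MvPolynomial.induction_on with
    | C c => simp
    | add p q hp hq =>
      have : p + q - C (eval ![x₀, y₀] (p + q)) =
          (p - C (eval ![x₀, y₀] p)) + (q - C (eval ![x₀, y₀] q)) := by
        simp only [map_add]; ring
      rw [this]; exact I.add_mem hp hq
    | mul_X p i hp =>
      have hi : X i - C (![x₀, y₀] i) ∈ I := by
        fin_cases i
        · simpa using h0
        · simpa using h1
      have : p * X i - C (eval ![x₀, y₀] (p * X i)) =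
          (p - C (eval ![x₀, y₀] p)) * X i + C (eval ![x₀, y₀] p) * (X i - C (![x₀, y₀] i)) := by
        simp only [map_mul, eval_X]; ring
      rw [this]
      exact I.add_mem (I.mul_mem_right _ hp) (I.mul_mem_left _ hi)
  let φ : κ →ₗ[κ] (AA ⧸ I) := (Algebra.linearMap κ (AA ⧸ I))
  have hφ : Function.Surjective φ := by
    intro z
    obtain ⟨p, rfl⟩ := Ideal.Quotient.mk_surjective z
    refine ⟨eval ![x₀, y₀] p, ?_⟩
    show algebraMap κ (AA ⧸ I) _ = _
    rw [IsScalarTower.algebraMap_apply κ AA (AA ⧸ I), Ideal.Quotient.algebraMap_eq, algebraMap_eq]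
    symm
    rw [Ideal.Quotient.eq]
    exact key p
  haveI : Module.Finite κ (AA ⧸ I) := Module.Finite.of_surjective φ hφ
  refine ⟨inferInstance, ?_⟩
  have := LinearMap.finrank_le_finrank_of_surjective hφ
  simpa using this

lemma small_of_const (I : Ideal AA) (c : κ) (hc : c ≠ 0) (h : (C c : AA) ∈ I) :
    Module.Finite κ (AA ⧸ I) ∧ Module.finrank κ (AA ⧸ I) ≤ 1 := by
  have htop : I = ⊤ := by
    rw [Ideal.eq_top_iff_one]
    have : (1 : AA) = C c⁻¹ * C c := by rw [← map_mul, inv_mul_cancel₀ hc, map_one]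
    rw [this]; exact I.mul_mem_left _ h
  subst htop
  haveI : Subsingleton (AA ⧸ (⊤ : Ideal AA)) := Ideal.Quotient.subsingleton_iff.mpr rfl
  refine ⟨inferInstance, ?_⟩
  rw [Module.finrank_zero_of_subsingleton]; exact Nat.zero_le _

/-- The linear polynomials in `I` all have proportional coefficient vectors. -/
lemma minors (I : Ideal AA)
    (hI : ¬ (Module.Finite κ (AA ⧸ I) ∧ Module.finrank κ (AA ⧸ I) ≤ 1))
    (α₁ β₁ γ₁ α₂ β₂ γ₂ : κ)
    (h1 : (C α₁ + C β₁ * X 0 + C γ₁ * X 1 : AA) ∈ I)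
    (h2 : (C α₂ + C β₂ * X 0 + C γ₂ * X 1 : AA) ∈ I) :
    α₁ * β₂ = α₂ * β₁ ∧ α₁ * γ₂ = α₂ * γ₁ ∧ β₁ * γ₂ = β₂ * γ₁ := by
  have hΔ : β₁ * γ₂ = β₂ * γ₁ := by
    by_contra hne
    have hΔ : β₁ * γ₂ - β₂ * γ₁ ≠ 0 := sub_ne_zero.mpr hne
    apply hI
    set Δ := β₁ * γ₂ - β₂ * γ₁ with hΔdef
    refine small_of_point I (-(α₁ * γ₂ - α₂ * γ₁) / Δ) (-(α₂ * β₁ - α₁ * β₂) / Δ) ?_ ?_
    · have : (X 0 - C (-(α₁ * γ₂ - α₂ * γ₁) / Δ) : AA) =
          C (γ₂ / Δ) * (C α₁ + C β₁ * X 0 + C γ₁ * X 1) -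
            C (γ₁ / Δ) * (C α₂ + C β₂ * X 0 + C γ₂ * X 1) := by
        have e1 : (C (-(α₁ * γ₂ - α₂ * γ₁) / Δ) : AA) = -(C (γ₂ / Δ) * C α₁ - C (γ₁ / Δ) * C α₂) := by
          simp only [← map_mul, ← map_sub, ← map_neg]; congr 1; field_simp
        have e2 : (C (γ₂ / Δ) * C β₁ - C (γ₁ / Δ) * C β₂ : AA) = 1 := by
          simp only [← map_mul, ← map_sub]
          rw [show γ₂ / Δ * β₁ - γ₁ / Δ * β₂ = 1 by field_simp; rw [hΔdef]; ring, map_one]
        have e3 : (C (γ₂ / Δ) * C γ₁ - C (γ₁ / Δ) * C γ₂ : AA) = 0 := by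
          simp only [← map_mul, ← map_sub]
          rw [show γ₂ / Δ * γ₁ - γ₁ / Δ * γ₂ = 0 by ring, map_zero]
        rw [e1]
        linear_combination (-(X 0 : AA)) * e2 - (X 1 : AA) * e3
      rw [this]
      exact I.sub_mem (I.mul_mem_left _ h1) (I.mul_mem_left _ h2)
    · have : (X 1 - C (-(α₂ * β₁ - α₁ * β₂) / Δ) : AA) =
          C (β₁ / Δ) * (C α₂ + C β₂ * X 0 + C γ₂ * X 1) -
            C (β₂ / Δ) * (C α₁ + C β₁ * X 0 + C γ₁ * X 1) := by
        have e1 : (C (-(α₂ * β₁ - α₁ * β₂) / Δ) : AA) = -(C (β₁ / Δ) * C α₂ - C (β₂ / Δ) * C α₁) := by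
          simp only [← map_mul, ← map_sub, ← map_neg]; congr 1; field_simp
        have e2 : (C (β₁ / Δ) * C γ₂ - C (β₂ / Δ) * C γ₁ : AA) = 1 := by
          simp only [← map_mul, ← map_sub]
          rw [show β₁ / Δ * γ₂ - β₂ / Δ * γ₁ = 1 by field_simp; rw [hΔdef], map_one]
        have e3 : (C (β₁ / Δ) * C β₂ - C (β₂ / Δ) * C β₁ : AA) = 0 := by
          simp only [← map_mul, ← map_sub]
          rw [show β₁ / Δ * β₂ - β₂ / Δ * β₁ = 0 by ring, map_zero]
        rw [e1]
        linear_combination (-(X 1 : AA)) * e2 - (X 0 : AA) * e3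
      rw [this]
      exact I.sub_mem (I.mul_mem_left _ h2) (I.mul_mem_left _ h1)
  refine ⟨?_, ?_, hΔ⟩
  · by_contra hne
    apply hI
    refine small_of_const I (α₁ * β₂ - α₂ * β₁) (sub_ne_zero.mpr hne) ?_
    have : (C (α₁ * β₂ - α₂ * β₁) : AA) =
        C β₂ * (C α₁ + C β₁ * X 0 + C γ₁ * X 1) - C β₁ * (C α₂ + C β₂ * X 0 + C γ₂ * X 1) := by
      have e : (C β₁ * C γ₂ : AA) = C β₂ * C γ₁ := by rw [← map_mul, ← map_mul, hΔ]
      simp only [map_sub, map_mul]
      linear_combination (X 1 : AA) * e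
    rw [this]
    exact I.sub_mem (I.mul_mem_left _ h1) (I.mul_mem_left _ h2)
  · by_contra hne
    apply hI
    refine small_of_const I (α₁ * γ₂ - α₂ * γ₁) (sub_ne_zero.mpr hne) ?_
    have : (C (α₁ * γ₂ - α₂ * γ₁) : AA) =
        C γ₂ * (C α₁ + C β₁ * X 0 + C γ₁ * X 1) - C γ₁ * (C α₂ + C β₂ * X 0 + C γ₂ * X 1) := by
      have e : (C β₁ * C γ₂ : AA) = C β₂ * C γ₁ := by rw [← map_mul, ← map_mul, hΔ]
      simp only [map_sub, map_mul]
      linear_combination (-(X 0 : AA)) * e
    rw [this]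
    exact I.sub_mem (I.mul_mem_left _ h1) (I.mul_mem_left _ h2)

end general


lemma claim {A P : Type*} [CommRing A] [IsDomain A] [CommRing P] [IsDomain P]
    [IsPrincipalIdealRing P] (ev : A →+* P) (hs : Function.Surjective ev) (ℓ : A)
    (hk : RingHom.ker ev = Ideal.span {ℓ}) (J : Ideal A) (h : ℓ ^ 2 ∈ J ^ 2) : ℓ ∈ J := by
  by_cases hℓ : ℓ = 0
  · rw [hℓ]; exact J.zero_mem
  have hevℓ : ev ℓ = 0 := by
    have : ℓ ∈ RingHom.ker ev := by rw [hk]; exact Ideal.mem_span_singleton_self ℓ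
    exact this
  have hker : ∀ z : A, ev z = 0 → ∃ w, z = w * ℓ := by
    intro z hz
    have : z ∈ RingHom.ker ev := hz
    rw [hk, Ideal.mem_span_singleton'] at this
    obtain ⟨w, hw⟩ := this
    exact ⟨w, hw.symm⟩
  obtain ⟨gb, hgb⟩ := (IsPrincipalIdealRing.principal (J.map ev)).principal
  have hgbmem : gb ∈ J.map ev := by rw [hgb]; exact Submodule.mem_span_singleton_self gb
  obtain ⟨u₀, hu₀, hu₀g⟩ := (Ideal.mem_map_iff_of_surjective ev hs).mp hgbmem
  rw [pow_two J] at h
  by_cases hg : gb = 0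
  · -- every element of J is a multiple of ℓ
    have hdec : ∀ u ∈ J, ∃ α, u = α * ℓ := by
      intro u hu
      apply hker
      have : ev u ∈ J.map ev := Ideal.mem_map_of_mem ev hu
      rw [hgb, hg] at this
      simpa using this
    have hQ : ∀ z ∈ J * J, ∃ S₁, z = ℓ ^ 2 * S₁ ∧ ℓ * S₁ ∈ J := by
      intro z hz
      refine Submodule.mul_induction_on hz ?_ ?_
      · intro m hm n hn
        obtain ⟨α, rfl⟩ := hdec m hm
        obtain ⟨γ, rfl⟩ := hdec n hn
        refine ⟨α * γ, by ring, ?_⟩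
        have : ℓ * (α * γ) = (α * ℓ) * γ := by ring
        rw [this]; exact J.mul_mem_right _ hm
      · rintro x y ⟨S, hS, hS'⟩ ⟨T, hT, hT'⟩
        refine ⟨S + T, by rw [hS, hT]; ring, ?_⟩
        rw [mul_add]; exact J.add_mem hS' hT'
    obtain ⟨S₁, hS₁, hS₁'⟩ := hQ _ h
    have : S₁ = 1 := by
      have h2 : ℓ ^ 2 ≠ 0 := pow_ne_zero 2 hℓ
      have : ℓ ^ 2 * S₁ = ℓ ^ 2 * 1 := by rw [← hS₁, mul_one]
      exact mul_left_cancel₀ h2 this
    rw [this, mul_one] at hS₁'
    exact hS₁'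
  · have hdec : ∀ u ∈ J, ∃ α β, u = α * ℓ + β * u₀ ∧ α * ℓ ∈ J := by
      intro u hu
      have : ev u ∈ J.map ev := Ideal.mem_map_of_mem ev hu
      rw [hgb] at this
      obtain ⟨βb, hβb⟩ := Ideal.mem_span_singleton'.mp this
      obtain ⟨β, rfl⟩ := hs βb
      have hz : ev (u - β * u₀) = 0 := by
        rw [map_sub, map_mul, hu₀g, hβb, sub_self]
      obtain ⟨α, hα⟩ := hker _ hz
      refine ⟨α, β, by rw [← hα]; ring, ?_⟩
      rw [← hα]
      exact J.sub_mem hu (J.mul_mem_left _ hu₀)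
    have hQ : ∀ z ∈ J * J, ∃ S₁ S₂ S₃, z = ℓ ^ 2 * S₁ + ℓ * u₀ * S₂ + u₀ ^ 2 * S₃ ∧ ℓ * S₁ ∈ J := by
      intro z hz
      refine Submodule.mul_induction_on hz ?_ ?_
      · intro m hm n hn
        obtain ⟨α, β, rfl, hα⟩ := hdec m hm
        obtain ⟨γ, δ, rfl, -⟩ := hdec n hn
        refine ⟨α * γ, α * δ + β * γ, β * δ, by ring, ?_⟩
        have : ℓ * (α * γ) = (α * ℓ) * γ := by ring
        rw [this]; exact J.mul_mem_right _ hα
      · rintro x y ⟨S₁, S₂, S₃, hS, hS'⟩ ⟨T₁, T₂, T₃, hT, hT'⟩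
        refine ⟨S₁ + T₁, S₂ + T₂, S₃ + T₃, by rw [hS, hT]; ring, ?_⟩
        rw [mul_add]; exact J.add_mem hS' hT'
    obtain ⟨S₁, S₂, S₃, hS, hS₁⟩ := hQ _ h
    -- step 1
    have h1 : ev S₃ = 0 := by
      have h' : gb ^ 2 * ev S₃ = 0 := by
        have := congrArg ev hS
        simp only [map_add, map_mul, map_pow, hevℓ, hu₀g] at this
        linear_combination -this
      rcases mul_eq_zero.mp h' with h'' | h''
      · exact absurd h'' (pow_ne_zero 2 hg)
      · exact h''
    obtain ⟨S₃', rfl⟩ := hker _ h1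
    have hS2 : ℓ = ℓ * S₁ + u₀ * S₂ + u₀ ^ 2 * S₃' := by
      have : ℓ * ℓ = ℓ * (ℓ * S₁ + u₀ * S₂ + u₀ ^ 2 * S₃') := by
        rw [← pow_two, hS]; ring
      exact mul_left_cancel₀ hℓ this
    have h2 : ev (S₂ + u₀ * S₃') = 0 := by
      have h' : gb * (ev S₂ + gb * ev S₃') = 0 := by
        have := congrArg ev hS2
        simp only [map_add, map_mul, map_pow, hevℓ, hu₀g] at this
        linear_combination -this
      rcases mul_eq_zero.mp h' with h'' | h''
      · exact absurd h'' hg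
      · rw [map_add, map_mul, hu₀g]; exact h''
    obtain ⟨S₂', hS₂'⟩ := hker _ h2
    have : ℓ = ℓ * S₁ + u₀ * (S₂' * ℓ) := by
      linear_combination hS2 + u₀ * hS₂'
    rw [this]
    exact J.add_mem hS₁ (J.mul_mem_right _ hu₀)


section general
variable {κ : Type u} [Field κ]

local notation "AA" => MvPolynomial (Fin 2) κ

lemma exists_ev (α β γ : κ) (i₀ j₀ : Fin 2) (hij : i₀ ≠ j₀) (hβ : β ≠ 0) :
    ∃ ev : AA →+* Polynomial κ, Function.Surjective ev ∧
      RingHom.ker ev = Ideal.span {(C α + C β * X i₀ + C γ * X j₀ : AA)} := by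
  have hcases : ∀ k : Fin 2, k = i₀ ∨ k = j₀ := by
    intro k
    rcases i₀ with ⟨i, hi⟩
    rcases j₀ with ⟨j, hj⟩
    rcases k with ⟨k, hk⟩
    simp only [Fin.mk.injEq, ne_eq] at hij ⊢
    omega
  let v : Fin 2 → Polynomial κ := fun k =>
    if k = i₀ then Polynomial.C (-α / β) + Polynomial.C (-γ / β) * Polynomial.X else Polynomial.X
  have hvi : v i₀ = Polynomial.C (-α / β) + Polynomial.C (-γ / β) * Polynomial.X := by
    simp [v]
  have hvj : v j₀ = Polynomial.X := by
    simp [v, hij.symm]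
  let ev : AA →ₐ[κ] Polynomial κ := aeval v
  let ι : Polynomial κ →ₐ[κ] AA := Polynomial.aeval (X j₀ : AA)
  have h1 : ∀ p, ev (ι p) = p := by
    intro p
    have : ev.comp ι = AlgHom.id κ (Polynomial κ) := by
      apply Polynomial.algHom_ext
      simp [ev, ι, hvj]
    exact DFunLike.congr_fun this p
  set ℓ : AA := C α + C β * X i₀ + C γ * X j₀ with hℓ
  have h2 : ∀ p : AA, p - ι (ev p) ∈ Ideal.span {ℓ} := by
    intro p
    induction p using MvPolynomial.induction_on with
    | C c => simp [ev, ι]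
    | add p q hp hq =>
      have : p + q - ι (ev (p + q)) = (p - ι (ev p)) + (q - ι (ev q)) := by
        simp only [map_add]; ring
      rw [this]; exact Ideal.add_mem _ hp hq
    | mul_X p k hp =>
      have hk : X k - ι (ev (X k)) ∈ Ideal.span {ℓ} := by
        rcases hcases k with rfl | rfl
        · have : (X k : AA) - ι (ev (X k)) = C (1 / β) * ℓ := by
            have e1 : (C (1 / β) * C β : AA) = 1 := by
              rw [← map_mul, one_div, inv_mul_cancel₀ hβ, map_one]
            have e2 : (C (-α / β) : AA) = - (C (1 / β) * C α) := by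
              rw [← map_mul, ← map_neg]; congr 1; field_simp
            have e3 : (C (-γ / β) : AA) = - (C (1 / β) * C γ) := by
              rw [← map_mul, ← map_neg]; congr 1; field_simp
            simp only [ev, ι, aeval_X, hvi, map_add, map_mul, Polynomial.aeval_C,
              Polynomial.aeval_X, algebraMap_eq, hℓ]
            rw [e2, e3]
            linear_combination (-(X k : AA)) * e1
          rw [this]
          exact Ideal.mul_mem_left _ _ (Ideal.mem_span_singleton_self ℓ)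
        · simp [ev, ι, hvj]
      have : p * X k - ι (ev (p * X k)) =
          (p - ι (ev p)) * X k + ι (ev p) * (X k - ι (ev (X k))) := by
        simp only [map_mul]; ring
      rw [this]
      exact Ideal.add_mem _ (Ideal.mul_mem_right _ _ hp) (Ideal.mul_mem_left _ _ hk)
  refine ⟨ev.toRingHom, fun p => ⟨ι p, h1 p⟩, ?_⟩
  apply le_antisymm
  · intro p hp
    have hp' : ev p = 0 := hp
    have := h2 p
    rw [hp', map_zero, sub_zero] at this
    exact this
  · rw [Ideal.span_le, Set.singleton_subset_iff]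
    show ev ℓ = 0
    simp only [ev, hℓ, map_add, map_mul, aeval_C, aeval_X, hvi, hvj, Polynomial.algebraMap_eq]
    have e1 : (Polynomial.C β * Polynomial.C (-α / β) : Polynomial κ) = - Polynomial.C α := by
      rw [← map_mul, ← map_neg]; congr 1; field_simp
    have e2 : (Polynomial.C β * Polynomial.C (-γ / β) : Polynomial κ) = - Polynomial.C γ := by
      rw [← map_mul, ← map_neg]; congr 1; field_simp
    linear_combination e1 + Polynomial.X * e2

end general


/-- `κ` with scalar multiplication twisted by Frobenius. -/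
def Fr (κ : Type u) : Type u := κ

section char2
variable {κ : Type u} [Field κ] [CharP κ 2]

instance : AddCommGroup (Fr κ) := inferInstanceAs (AddCommGroup κ)

noncomputable instance : Module κ (Fr κ) :=
  (Module.compHom κ (frobenius κ 2) : Module κ κ)

def toFr : κ →+ Fr κ := AddMonoidHom.id κ

lemma toFr_sq_mul (c t : κ) : toFr (c ^ 2 * t) = c • toFr t := rfl

lemma toFr_eq_zero (t : κ) (h : toFr t = 0) : t = 0 := h

/-- a semilinear functional -/
noncomputable def lam (φ : Module.Dual κ (Fr κ)) : κ →+ κ := φ.toAddMonoidHom.comp toFr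

lemma lam_sq_mul (φ : Module.Dual κ (Fr κ)) (c t : κ) : lam φ (c ^ 2 * t) = c * lam φ t := by
  show φ (toFr (c ^ 2 * t)) = c * φ (toFr t)
  rw [toFr_sq_mul, map_smul, smul_eq_mul]

lemma exists_lam_ne (t : κ) (ht : t ≠ 0) : ∃ φ : Module.Dual κ (Fr κ), lam φ t ≠ 0 := by
  have : toFr t ≠ 0 := fun h => ht (toFr_eq_zero t h)
  obtain ⟨φ, hφ⟩ := Module.Projective.exists_dual_ne_zero κ this
  exact ⟨φ, hφ⟩

lemma semi (s t : κ) (ht : t ≠ 0)
    (h : ∀ φ φ' : Module.Dual κ (Fr κ), lam φ s * lam φ' t = lam φ' s * lam φ t) :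
    ∃ g : κ, s = g ^ 2 * t := by
  obtain ⟨φ₀, h₀⟩ := exists_lam_ne t ht
  refine ⟨lam φ₀ s / lam φ₀ t, ?_⟩
  by_contra hne
  have hne' : s - (lam φ₀ s / lam φ₀ t) ^ 2 * t ≠ 0 := sub_ne_zero.mpr hne
  obtain ⟨φ, hφ⟩ := exists_lam_ne _ hne'
  apply hφ
  rw [map_sub, lam_sq_mul]
  have := h φ φ₀
  field_simp
  linear_combination this

local notation "AA" => MvPolynomial (Fin 2) κ

/-- coefficientwise application of an additive map -/
noncomputable def Lam (l : κ →+ κ) : AA →+ AA :=
  (AddMonoidAlgebra.coeffAddEquiv.symm.toAddMonoidHom).comp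
    ((Finsupp.mapRange.addMonoidHom l).comp AddMonoidAlgebra.coeffAddEquiv.toAddMonoidHom)

lemma Lam_monomial (l : κ →+ κ) (m : Fin 2 →₀ ℕ) (c : κ) :
    Lam l (monomial m c) = monomial m (l c) := by
  apply MvPolynomial.ext
  intro n
  classical
  simp only [coeff_monomial]
  show (Finsupp.mapRange l l.map_zero (AddMonoidAlgebra.coeff (monomial m c))) n = _
  rw [Finsupp.mapRange_apply]
  have : (AddMonoidAlgebra.coeff (monomial m c)) n = coeff n (monomial m c) := rfl
  rw [this, coeff_monomial]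
  split_ifs <;> simp

lemma Lam_semi (l : κ →+ κ) (hl : ∀ c t, l (c ^ 2 * t) = c * l t) (p r : AA) :
    Lam l (MvPolynomial.map (frobenius κ 2) p * r) = p * Lam l r := by
  induction p using MvPolynomial.induction_on' with
  | monomial m c =>
    induction r using MvPolynomial.induction_on' with
    | monomial n s =>
      rw [map_monomial, monomial_mul, Lam_monomial, Lam_monomial, monomial_mul, frobenius_def, hl]
    | add r₁ r₂ h₁ h₂ => rw [mul_add, map_add, h₁, h₂, map_add, mul_add]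
  | add p₁ p₂ h₁ h₂ => rw [map_add, add_mul, map_add, h₁, h₂, add_mul]

lemma Lam_mem (l : κ →+ κ) (hl : ∀ c t, l (c ^ 2 * t) = c * l t) (I : Ideal AA) (z : AA)
    (hz : z ∈ Ideal.map (MvPolynomial.map (frobenius κ 2)) I) : Lam l z ∈ I := by
  have key : ∀ r : AA, Lam l (r * z) ∈ I := by
    unfold Ideal.map at hz
    refine Submodule.span_induction ?_ ?_ ?_ ?_ hz
    · rintro _ ⟨u, hu, rfl⟩ r
      rw [mul_comm, Lam_semi l hl]
      exact I.mul_mem_right _ hu
    · intro r; rw [mul_zero, map_zero]; exact I.zero_mem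
    · intro x y _ _ hx hy r
      rw [mul_add, map_add]; exact I.add_mem (hx r) (hy r)
    · intro a x _ hx r
      rw [smul_eq_mul, ← mul_assoc]; exact hx _
  simpa using key 1

lemma Lam_linear (l : κ →+ κ) (a d f : κ) :
    Lam l (C a + C d * X 0 + C f * X 1 : AA) = C (l a) + C (l d) * X 0 + C (l f) * X 1 := by
  rw [map_add, map_add, C_mul_X_eq_monomial, C_mul_X_eq_monomial, C_apply, Lam_monomial,
    Lam_monomial, Lam_monomial, C_mul_X_eq_monomial, C_mul_X_eq_monomial, C_apply]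

end char2



/-- Let κ be a field and I an ideal of κ[x, y] whose colength is greater than one (the quotient is not
of dimension at most one over κ). If a nonzero polynomial a + bx + cy + dx^2 + exy + fy^2 lies in
I^2, then it equals j (g + hx + iy)^2 for some scalars j, g, h, i. -/
theorem result (κ : Type u) [Field κ] (I : Ideal (MvPolynomial (Fin 2) κ))
    (hI : ¬ (Module.Finite κ (MvPolynomial (Fin 2) κ ⧸ I) ∧ Module.finrank κ (MvPolynomial (Fin 2) κ ⧸ I) ≤ 1))
    (a b c d e f : κ) (hne : (a, b, c, d, e, f) ≠ (0, 0, 0, 0, 0, 0))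
    (hmem : (MvPolynomial.C a + MvPolynomial.C b * MvPolynomial.X 0 + MvPolynomial.C c * MvPolynomial.X 1 +
      MvPolynomial.C d * MvPolynomial.X 0 ^ 2 + MvPolynomial.C e * MvPolynomial.X 0 * MvPolynomial.X 1 +
      MvPolynomial.C f * MvPolynomial.X 1 ^ 2 : MvPolynomial (Fin 2) κ) ∈ I ^ 2) :
    ∃ j g h i : κ, (MvPolynomial.C a + MvPolynomial.C b * MvPolynomial.X 0 + MvPolynomial.C c * MvPolynomial.X 1 +
      MvPolynomial.C d * MvPolynomial.X 0 ^ 2 + MvPolynomial.C e * MvPolynomial.X 0 * MvPolynomial.X 1 +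
      MvPolynomial.C f * MvPolynomial.X 1 ^ 2 : MvPolynomial (Fin 2) κ) =
      MvPolynomial.C j * (MvPolynomial.C g + MvPolynomial.C h * MvPolynomial.X 0 + MvPolynomial.C i * MvPolynomial.X 1) ^ 2 := by
  have hqI := Ideal.pow_le_self two_ne_zero hmem
  have hx := pderiv_mem I _ hmem 0
  have hy := pderiv_mem I _ hmem 1
  have hpx : pderiv (0 : Fin 2) (C a + C b * X 0 + C c * X 1 + C d * X 0 ^ 2 + C e * X 0 * X 1 +
      C f * X 1 ^ 2 : MvPolynomial (Fin 2) κ) = C b + C (2 * d) * X 0 + C e * X 1 := by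
    simp [pderiv_X, Pi.single_apply, map_mul, show (C (2:κ) : MvPolynomial (Fin 2) κ) = 2 from map_ofNat C 2] <;> ring
  have hpy : pderiv (1 : Fin 2) (C a + C b * X 0 + C c * X 1 + C d * X 0 ^ 2 + C e * X 0 * X 1 +
      C f * X 1 ^ 2 : MvPolynomial (Fin 2) κ) = C c + C e * X 0 + C (2 * f) * X 1 := by
    simp [pderiv_X, Pi.single_apply, map_mul, show (C (2:κ) : MvPolynomial (Fin 2) κ) = 2 from map_ofNat C 2] <;> ring
  rw [hpx] at hx
  rw [hpy] at hy
  have hr : (C (2 * a) + C b * X 0 + C c * X 1 : MvPolynomial (Fin 2) κ) ∈ I := by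
    have : (C (2 * a) + C b * X 0 + C c * X 1 : MvPolynomial (Fin 2) κ) =
        2 * (C a + C b * X 0 + C c * X 1 + C d * X 0 ^ 2 + C e * X 0 * X 1 + C f * X 1 ^ 2) -
          X 0 * (C b + C (2 * d) * X 0 + C e * X 1) - X 1 * (C c + C e * X 0 + C (2 * f) * X 1) := by
      simp only [map_mul, map_ofNat]; ring
    rw [this]
    exact I.sub_mem (I.sub_mem (I.mul_mem_left _ hqI) (I.mul_mem_left _ hx)) (I.mul_mem_left _ hy)
  obtain ⟨m1, m2, m3⟩ := minors I hI (2 * a) b c b (2 * d) e hr hx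
  obtain ⟨n1, n2, n3⟩ := minors I hI (2 * a) b c c e (2 * f) hr hy
  obtain ⟨k1, k2, k3⟩ := minors I hI b (2 * d) e c e (2 * f) hx hy
  by_cases h2 : (2 : κ) = 0
  · -- characteristic two
    have hb : b = 0 := by
      have : b * b = 0 := by rw [← m1, h2]; ring
      exact mul_self_eq_zero.mp this
    have hc : c = 0 := by
      have : c * c = 0 := by rw [← n2, h2]; ring
      exact mul_self_eq_zero.mp this
    have he : e = 0 := by
      have : e * e = 0 := by rw [← k3, h2]; ring
      exact mul_self_eq_zero.mp this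
    subst hb hc he
    haveI : CharP κ 2 := CharTwo.of_one_ne_zero_of_two_eq_zero one_ne_zero h2
    have h2A : (2 : MvPolynomial (Fin 2) κ) = 0 := by
      rw [← map_ofNat (C : κ →+* MvPolynomial (Fin 2) κ) 2, h2, map_zero]
    by_cases hdf : d = 0 ∧ f = 0
    · obtain ⟨rfl, rfl⟩ := hdf
      exact ⟨a, 1, 0, 0, by simp⟩
    · set ℓ₁ : MvPolynomial (Fin 2) κ := C a + C d * X 0 + C f * X 1 with hℓ₁
      have hΦq : MvPolynomial.map (frobenius κ 2) (C a + C 0 * X 0 + C 0 * X 1 + C d * X 0 ^ 2 +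
          C 0 * X 0 * X 1 + C f * X 1 ^ 2 : MvPolynomial (Fin 2) κ) = ℓ₁ ^ 2 := by
        simp only [map_add, map_mul, map_pow, map_C, map_X, map_zero, zero_mul, add_zero,
          frobenius_def, hℓ₁]
        linear_combination (-(C a * C d * X 0 + C a * C f * X 1 + C d * C f * X 0 * X 1)) * h2A
      have hmemΦ : ℓ₁ ^ 2 ∈ (Ideal.map (MvPolynomial.map (frobenius κ 2)) I) ^ 2 := by
        rw [← hΦq, ← Ideal.map_pow]
        exact Ideal.mem_map_of_mem _ hmem
      have hℓmem : ℓ₁ ∈ Ideal.map (MvPolynomial.map (frobenius κ 2)) I := by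
        by_cases hd : d = 0
        · have hf : f ≠ 0 := fun hf => hdf ⟨hd, hf⟩
          obtain ⟨ev, hs, hk⟩ := exists_ev a f d 1 0 (by decide) hf
          have : (C a + C f * X 1 + C d * X 0 : MvPolynomial (Fin 2) κ) = ℓ₁ := by
            rw [hℓ₁]; ring
          rw [this] at hk
          exact claim ev hs ℓ₁ hk _ hmemΦ
        · obtain ⟨ev, hs, hk⟩ := exists_ev a d f 0 1 (by decide) hd
          exact claim ev hs ℓ₁ hk _ hmemΦ
      have hlin : ∀ φ : Module.Dual κ (Fr κ),
          (C (lam φ a) + C (lam φ d) * X 0 + C (lam φ f) * X 1 : MvPolynomial (Fin 2) κ) ∈ I := by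
        intro φ
        rw [← Lam_linear]
        exact Lam_mem _ (lam_sq_mul φ) I _ hℓmem
      have hmin : ∀ φ φ' : Module.Dual κ (Fr κ),
          lam φ a * lam φ' d = lam φ' a * lam φ d ∧ lam φ a * lam φ' f = lam φ' a * lam φ f ∧
            lam φ d * lam φ' f = lam φ' d * lam φ f :=
        fun φ φ' => minors I hI _ _ _ _ _ _ (hlin φ) (hlin φ')
      by_cases hd : d = 0
      · have hf : f ≠ 0 := fun hf => hdf ⟨hd, hf⟩
        obtain ⟨g, hg⟩ := semi a f hf (fun φ φ' => (hmin φ φ').2.1)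
        refine ⟨f, g, 0, 1, ?_⟩
        rw [hd, hg]
        simp only [map_mul, map_pow, map_zero, map_one, zero_mul, add_zero, one_mul]
        linear_combination (-(C f * (C g * X 1))) * h2A
      · obtain ⟨g, hg⟩ := semi a d hd (fun φ φ' => (hmin φ φ').1)
        obtain ⟨i, hi⟩ := semi f d hd (fun φ φ' => by
          have := (hmin φ' φ).2.2
          linear_combination this)
        refine ⟨d, g, 1, i, ?_⟩
        rw [hg, hi]
        simp only [map_mul, map_pow, map_zero, map_one, zero_mul, add_zero, one_mul]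
        linear_combination (-(C d * (C g * X 0 + C g * C i * X 1 + C i * X 0 * X 1))) * h2A
  · -- characteristic ≠ 2
    have h4 : (4 : κ) ≠ 0 := by
      have : (4 : κ) = 2 * 2 := by norm_num
      rw [this]; exact mul_ne_zero h2 h2
    have hC2 : (C (2 : κ) : MvPolynomial (Fin 2) κ) = 2 := map_ofNat C 2
    by_cases ha : a = 0
    · have hb : b = 0 := by
        have : b * b = 0 := by rw [← m1, ha]; ring
        exact mul_self_eq_zero.mp this
      have hc : c = 0 := by
        have : c * c = 0 := by rw [← n2, ha]; ring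
        exact mul_self_eq_zero.mp this
      subst ha hb hc
      by_cases hd : d = 0
      · have he : e = 0 := by
          have : e * e = 0 := by rw [← k3, hd]; ring
          exact mul_self_eq_zero.mp this
        subst hd he
        exact ⟨f, 0, 0, 1, by simp⟩
      · refine ⟨1 / (4 * d), 0, 2 * d, e, ?_⟩
        have hJ : (C (1 / (4 * d)) * (4 * C d) : MvPolynomial (Fin 2) κ) = 1 := by
          have : (4 : MvPolynomial (Fin 2) κ) = C 4 := (map_ofNat C 4).symm
          rw [this, ← map_mul, ← map_mul]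
          rw [show 1 / (4 * d) * (4 * d) = 1 by field_simp, map_one]
        have E : (C e * C e : MvPolynomial (Fin 2) κ) = 4 * C d * C f := by
          rw [← map_mul, ← k3]; simp only [map_mul, hC2]; ring
        simp only [map_mul, hC2, map_zero, zero_mul, add_zero, zero_add]
        linear_combination (-(C d * X 0 ^ 2 + C e * X 0 * X 1 + C f * X 1 ^ 2)) * hJ -
          C (1 / (4 * d)) * X 1 ^ 2 * E
    · refine ⟨1 / (4 * a), 2 * a, b, c, ?_⟩
      have hJ : (C (1 / (4 * a)) * (4 * C a) : MvPolynomial (Fin 2) κ) = 1 := by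
        have : (4 : MvPolynomial (Fin 2) κ) = C 4 := (map_ofNat C 4).symm
        rw [this, ← map_mul, ← map_mul]
        rw [show 1 / (4 * a) * (4 * a) = 1 by field_simp, map_one]
      have E1 : (C b * C b : MvPolynomial (Fin 2) κ) = 4 * C a * C d := by
        rw [← map_mul, ← m1]; simp only [map_mul, hC2]; ring
      have E2 : (C c * C c : MvPolynomial (Fin 2) κ) = 4 * C a * C f := by
        rw [← map_mul, ← n2]; simp only [map_mul, hC2]; ring
      have E3 : (C b * C c : MvPolynomial (Fin 2) κ) = 2 * C a * C e := by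
        rw [← map_mul, ← m2]; simp only [map_mul, hC2]
      simp only [map_mul, hC2]
      linear_combination (-(C a + C b * X 0 + C c * X 1 + C d * X 0 ^ 2 + C e * X 0 * X 1 +
        C f * X 1 ^ 2)) * hJ - C (1 / (4 * a)) * X 0 ^ 2 * E1 - C (1 / (4 * a)) * X 1 ^ 2 * E2 -
          2 * C (1 / (4 * a)) * X 0 * X 1 * E3

end Groth.Agent.S1601
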