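import Groth.Statements.S16015
import Mathlib.RingTheory.Ideal.Quotient.Operations
import Mathlib.RingTheory.Ideal.Maps

set_option autoImplicit false
universe u v w
open W4c3ghconstell

namespace Groth.Agent.S16015

open TensorProduct in
theorem key {B : Type u} [CommRing B]
    {E : Type v} [AddCommGroup E] [Module B E]
    {F : Type w} [AddCommGroup F] [Module B F] [Module.Projective B F]
    (β : E →ₗ[B] F) (C : Type u) [CommRing C] [Algebra B C] :
    LinearMap.baseChange C β = 0 ↔
      Ideal.span {b : B | ∃ (ℓ : F →ₗ[B] B) (e : E), b = ℓ (β e)} ≤ RingHom.ker (algebraMap B C) := by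
  constructor
  · intro h
    rw [Ideal.span_le]
    rintro b ⟨ℓ, e, rfl⟩
    rw [SetLike.mem_coe, RingHom.mem_ker]
    have h1 : (LinearMap.baseChange C β) ((1 : C) ⊗ₜ[B] e) = 0 := by rw [h]; rfl
    rw [LinearMap.baseChange_tmul] at h1
    have h2 := congrArg (fun x => TensorProduct.rid B C ((LinearMap.baseChange C ℓ) x)) h1
    simp only [LinearMap.baseChange_tmul, TensorProduct.rid_tmul, map_zero] at h2
    rw [Algebra.smul_def, mul_one] at h2
    exact h2
  · intro h
    rw [Ideal.span_le] at h
    obtain ⟨s, hs⟩ := (Module.projective_def' (R := B) (P := F)).mp inferInstance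
    ext e
    simp only [TensorProduct.AlgebraTensorModule.curry_apply,
      TensorProduct.curry_apply, LinearMap.coe_restrictScalars, LinearMap.baseChange_tmul,
      LinearMap.zero_apply]
    have hβe : β e = Finsupp.linearCombination B id (s (β e)) := by
      have := LinearMap.congr_fun hs (β e)
      simpa using this.symm
    rw [hβe, Finsupp.linearCombination_apply, Finsupp.sum, TensorProduct.tmul_sum]
    apply Finset.sum_eq_zero
    intro f _
    have hmem : ((s (β e)) f) ∈ {b : B | ∃ (ℓ : F →ₗ[B] B) (e : E), b = ℓ (β e)} :=
      ⟨(Finsupp.lapply f).comp s, e, rfl⟩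
    have h0 := h hmem
    rw [SetLike.mem_coe, RingHom.mem_ker] at h0
    rw [id, TensorProduct.tmul_smul, TensorProduct.smul_tmul', Algebra.smul_def, h0, zero_mul,
      TensorProduct.zero_tmul]

/-- Let B be a commutative ring, E a B-module, F a finitely generated projective B-module and β : E → F
a B-linear map. Then there is a unique ideal I of B such that for every commutative B-algebra C the
base change β_C : C ⊗ E → C ⊗ F is zero if and only if the structure map B → C kills I. (The
published statement is for a homomorphism of modules on a scheme T into a locally free module and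
produces a closed subscheme T₀ through which a morphism factors exactly when the pulled-back
homomorphism vanishes; this row is the case of an affine T with affine test schemes and F of finite
rank, to which it reduces.) -/
theorem result {B : Type u} [CommRing B]
    {E : Type v} [AddCommGroup E] [Module B E]
    {F : Type w} [AddCommGroup F] [Module B F] [Module.Finite B F] [Module.Projective B F]
    (β : E →ₗ[B] F) :
    ∃! I : Ideal B, ∀ (C : Type u) [CommRing C] [Algebra B C],
      LinearMap.baseChange C β = 0 ↔ I ≤ RingHom.ker (algebraMap B C) := by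
  refine ⟨Ideal.span {b : B | ∃ (ℓ : F →ₗ[B] B) (e : E), b = ℓ (β e)}, fun C _ _ => key β C, ?_⟩
  intro I' hI'
  set I := Ideal.span {b : B | ∃ (ℓ : F →ₗ[B] B) (e : E), b = ℓ (β e)} with hIdef
  have hk : ∀ J : Ideal B, RingHom.ker (algebraMap B (B ⧸ J)) = J := fun J => by rw [Ideal.Quotient.algebraMap_eq]; exact Ideal.mk_ker
  apply le_antisymm
  · have h1 := (key β (B ⧸ I')).mp ((hI' (B ⧸ I')).mpr (by rw [hk]))
    rw [hk] at h1
    -- h1 : I ≤ I'
    have h2 := (hI' (B ⧸ I)).mp ((key β (B ⧸ I)).mpr (by rw [hk]))
    rw [hk] at h2
    exact h2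
  · have h1 := (key β (B ⧸ I')).mp ((hI' (B ⧸ I')).mpr (by rw [hk]))
    rw [hk] at h1
    exact h1

end Groth.Agent.S16015
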