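import Groth.Statements.S16016
import Mathlib.Tactic.LinearCombination
import Mathlib.Tactic.FinCases

set_option autoImplicit false
universe u
open W4c3ghconstell

namespace Groth.Agent.S16016

open Matrix in
theorem entry_eq (k : Type u) [Field k] (A : Matrix (Fin 3 ⊕ Fin 3) (Fin 3 ⊕ Fin 3) k)
    (i j : Fin 3 ⊕ Fin 3) :
    (A.transpose * Matrix.fromBlocks (0 : Matrix (Fin 3) (Fin 3) k) 1 1 0 +
        Matrix.fromBlocks (0 : Matrix (Fin 3) (Fin 3) k) 1 1 0 * A :
          Matrix (Fin 3 ⊕ Fin 3) (Fin 3 ⊕ Fin 3) k) i j =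
      A (Sum.swap j) i + A (Sum.swap i) j := by
  rcases i with i | i <;> rcases j with j | j <;>
    simp [Matrix.mul_apply, Fintype.sum_sum_type, Matrix.one_apply]

theorem range_iff (k : Type u) [Field k] (A : Matrix (Fin 3 ⊕ Fin 3) (Fin 3 ⊕ Fin 3) k) :
    LinearMap.range (Matrix.mulVecLin A.transpose) ≤
        Submodule.span k {Pi.single (Sum.inl 0 : Fin 3 ⊕ Fin 3) (1 : k),
          Pi.single (Sum.inl 1 : Fin 3 ⊕ Fin 3) (1 : k)} ↔
      ∀ j i : Fin 3 ⊕ Fin 3, i ≠ Sum.inl 0 → i ≠ Sum.inl 1 → A j i = 0 := by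
  constructor
  · intro h j i hi0 hi1
    have hm : A.transpose.mulVecLin (Pi.single j 1) ∈ Submodule.span k
        {Pi.single (Sum.inl 0 : Fin 3 ⊕ Fin 3) (1 : k),
          Pi.single (Sum.inl 1 : Fin 3 ⊕ Fin 3) (1 : k)} := h ⟨_, rfl⟩
    rw [Submodule.mem_span_pair] at hm
    obtain ⟨a, b, hab⟩ := hm
    have := congrFun hab i
    rw [Matrix.mulVecLin_apply, Matrix.mulVec_single_one] at this
    simp only [Pi.add_apply, Pi.smul_apply, Pi.single_apply, if_neg hi0, if_neg hi1, smul_zero,
      add_zero, Matrix.col_apply, Matrix.transpose_apply] at this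
    exact this.symm
  · intro h
    rintro _ ⟨v, rfl⟩
    rw [Submodule.mem_span_pair]
    refine ⟨(A.transpose.mulVecLin v) (Sum.inl 0), (A.transpose.mulVecLin v) (Sum.inl 1), ?_⟩
    funext i
    simp only [Pi.add_apply, Pi.smul_apply, Pi.single_apply, smul_eq_mul, mul_ite, mul_one, mul_zero]
    by_cases hi0 : i = Sum.inl 0
    · subst hi0; simp
    by_cases hi1 : i = Sum.inl 1
    · subst hi1; simp
    rw [if_neg hi0, if_neg hi1, add_zero, Matrix.mulVecLin_apply, Matrix.mulVec, dotProduct]
    symm
    apply Finset.sum_eq_zero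
    intro j _
    rw [Matrix.transpose_apply, h j i hi0 hi1, zero_mul]

/-- Let k be a field with 2 ≠ 0, index k⁶ by two copies of {0,1,2} (basis vectors p₁, p₂, p₃ in the
first copy and p₄, p₅, p₆ in the second), let Q be the symmetric matrix with blocks ((0, 1), (1,
0)), so that the form it defines pairs pᵢ with pᵢ₊₃, and let W₀ be the span of p₁ and p₂. Then a 6 ×
6 matrix A satisfies AᵀQ + QA = 0 (A lies in the orthogonal Lie algebra of Q) and has the image of
Aᵀ contained in W₀ if and only if A = a · (E₄₂ − E₅₁) for some scalar a, where Eᵢⱼ is the matrix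
unit. (The lemma in the source concludes that the set of such A inside a certain nilpotent orbit
closure of this Lie algebra is one-dimensional; this row is the computation its proof performs,
which determines all such A in the Lie algebra. Characteristic 2 is excluded: there E₁₄ᵀ also
qualifies.) -/
theorem result (k : Type u) [Field k] (h2 : (2 : k) ≠ 0)
    (A : Matrix (Fin 3 ⊕ Fin 3) (Fin 3 ⊕ Fin 3) k) :
    (A.transpose * Matrix.fromBlocks (0 : Matrix (Fin 3) (Fin 3) k) 1 1 0 +
        Matrix.fromBlocks (0 : Matrix (Fin 3) (Fin 3) k) 1 1 0 * A = 0 ∧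
      LinearMap.range (Matrix.mulVecLin A.transpose) ≤
        Submodule.span k {Pi.single (Sum.inl 0 : Fin 3 ⊕ Fin 3) (1 : k), Pi.single (Sum.inl 1 : Fin 3 ⊕ Fin 3) (1 : k)}) ↔
    ∃ a : k, A = a • (Matrix.single (Sum.inr 0) (Sum.inl 1) (1 : k) - Matrix.single (Sum.inr 1) (Sum.inl 0) (1 : k)) := by
  rw [range_iff]
  constructor
  · rintro ⟨h1, hr⟩
    have h1' : ∀ i j, A (Sum.swap j) i + A (Sum.swap i) j = 0 := by
      intro i j
      rw [← entry_eq, h1]; rfl
    have e1 : ∀ i j, A i j = - A (Sum.swap j) (Sum.swap i) := by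
      intro i j
      have := h1' j (Sum.swap i)
      rw [Sum.swap_swap] at this
      linear_combination this
    refine ⟨A (Sum.inr 0) (Sum.inl 1), ?_⟩
    ext i j
    simp only [Matrix.smul_apply, Matrix.sub_apply, Matrix.single_apply, smul_eq_mul]
    by_cases hj : j = Sum.inl 0 ∨ j = Sum.inl 1
    · by_cases hi : i = Sum.inr 0 ∨ i = Sum.inr 1
      · rcases hj with rfl | rfl <;> rcases hi with rfl | rfl
        · have := e1 (Sum.inr 0) (Sum.inl 0)
          simp only [Sum.swap_inl, Sum.swap_inr] at this
          have h2x : (2 : k) * A (Sum.inr 0) (Sum.inl 0) = 0 := by linear_combination this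
          rcases mul_eq_zero.mp h2x with h | h
          · exact absurd h h2
          · rw [h]; simp
        · have := e1 (Sum.inr 1) (Sum.inl 0)
          simp only [Sum.swap_inl, Sum.swap_inr] at this
          rw [this]; simp
        · simp
        · have := e1 (Sum.inr 1) (Sum.inl 1)
          simp only [Sum.swap_inl, Sum.swap_inr] at this
          have h2x : (2 : k) * A (Sum.inr 1) (Sum.inl 1) = 0 := by linear_combination this
          rcases mul_eq_zero.mp h2x with h | h
          · exact absurd h h2
          · rw [h]; simp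
      · push Not at hi
        have hs0 : Sum.swap i ≠ Sum.inl 0 := by
          intro h; apply hi.1; rw [← Sum.swap_swap i, h]; rfl
        have hs1 : Sum.swap i ≠ Sum.inl 1 := by
          intro h; apply hi.2; rw [← Sum.swap_swap i, h]; rfl
        rw [e1 i j, hr _ _ hs0 hs1]
        simp [hi.1.symm, hi.2.symm]
    · push Not at hj
      rw [hr i j hj.1 hj.2]
      simp [hj.1.symm, hj.2.symm]
  · rintro ⟨a, rfl⟩
    constructor
    · ext i j
      rw [entry_eq]
      simp only [Matrix.smul_apply, Matrix.sub_apply, Matrix.single_apply, smul_eq_mul,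
        Matrix.zero_apply]
      rcases i with i | i <;> rcases j with j | j <;> fin_cases i <;> fin_cases j <;> simp
    · intro j i hi0 hi1
      simp [Matrix.single_apply, Ne.symm hi0, Ne.symm hi1]

end Groth.Agent.S16016
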