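import Groth.Statements.S16017
import Mathlib.Topology.Algebra.InfiniteSum.Order
import Mathlib.Topology.Algebra.InfiniteSum.ENNReal
import Mathlib.Topology.Order.Basic
import Mathlib.Tactic.Linarith
import Mathlib.Tactic.Positivity
import Mathlib.Tactic.FieldSimp

set_option autoImplicit false
universe u
open W4c3ghconstell

namespace Groth.Agent.S16017

/-- Let ι index the irreducible representations, θ : ι → ℚ a weight negative at only finitely many
indices (the finite set D₋), h h' : ι → ℕ with h' ≤ h pointwise (the isotypic dimensions of an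
object and of a sub-object) and Σ_i θ_i h_i summable. For a finite set D of indices put S_D = Σ_{i ∉
D} θ_i h_i, d = #(D ∖ D₋), and θ̃_D = Σ_{i ∈ D} θ_i h'_i + (S_D / d) · Σ_{i ∈ D ∖ D₋} h'_i / h_i,
the modified weight attached to the parameters chosen for D (for D ⊇ D₋ the first sum is the
negative part plus the part over D ∖ D₋). Then θ̃_D tends to Σ_i θ_i h'_i as D grows through the
finite subsets of ι. (Here D runs over all finite sets of indices and a quotient by zero is zero;
the source lets D run over the finite subsets of the locus θ ≠ 0 containing D₋, and the same tail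
estimate gives both.) -/
theorem result {ι : Type u} [DecidableEq ι] (θ : ι → ℚ) (h h' : ι → ℕ)
    (hle : ∀ i, h' i ≤ h i) (hfin : {i | θ i < 0}.Finite)
    (hsum : Summable (fun i => (θ i : ℝ) * (h i : ℝ))) :
    Filter.Tendsto
      (fun D : Finset ι =>
        (∑ i ∈ D, (θ i : ℝ) * (h' i : ℝ)) +
          ((∑' i, if i ∈ D then (0 : ℝ) else (θ i : ℝ) * (h i : ℝ)) / ((D \ hfin.toFinset).card : ℝ)) *
            ∑ i ∈ D \ hfin.toFinset, ((h' i : ℝ) / (h i : ℝ)))
      Filter.atTop (nhds (∑' i, (θ i : ℝ) * (h' i : ℝ))) := by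
  classical
  set f : ι → ℝ := fun i => (θ i : ℝ) * (h i : ℝ) with hf
  set g : ι → ℝ := fun i => (θ i : ℝ) * (h' i : ℝ) with hg
  -- g is summable
  have hgs : Summable g := by
    apply Summable.of_abs
    refine Summable.of_nonneg_of_le (fun i => abs_nonneg _) (fun i => ?_) hsum.abs
    simp only [hg, hf, abs_mul]
    apply mul_le_mul_of_nonneg_left _ (abs_nonneg _)
    rw [abs_of_nonneg (Nat.cast_nonneg _), abs_of_nonneg (Nat.cast_nonneg _)]
    exact_mod_cast hle i
  have h1 : Filter.Tendsto (fun D : Finset ι => ∑ i ∈ D, g i) Filter.atTop (nhds (∑' i, g i)) :=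
    hgs.hasSum
  -- the tail
  set T : Finset ι → ℝ := fun D => ∑' i, if i ∈ D then (0 : ℝ) else f i with hT
  have hTeq : ∀ D : Finset ι, T D = (∑' i, f i) - ∑ i ∈ D, f i := by
    intro D
    have hs1 : Summable (fun i => if i ∈ D then f i else 0) :=
      summable_of_ne_finset_zero (s := D) (fun i hi => by simp [hi])
    have hs2 : Summable (fun i => if i ∈ D then (0 : ℝ) else f i) := by
      have : (fun i => if i ∈ D then (0 : ℝ) else f i) = fun i => f i - (if i ∈ D then f i else 0) := by
        funext i; by_cases hi : i ∈ D <;> simp [hi]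
      rw [this]; exact hsum.sub hs1
    have e1 : (∑' i, if i ∈ D then f i else 0) = ∑ i ∈ D, f i := by
      rw [tsum_eq_sum (s := D) (fun i hi => by simp [hi])]
      exact Finset.sum_congr rfl (fun i hi => by simp [hi])
    have e2 : (∑' i, f i) = (∑' i, if i ∈ D then f i else 0) + ∑' i, if i ∈ D then (0 : ℝ) else f i := by
      rw [← hs1.tsum_add hs2]
      congr 1; funext i; by_cases hi : i ∈ D <;> simp [hi]
    simp only [hT]; rw [e2, e1]; ring
  have hT0 : Filter.Tendsto T Filter.atTop (nhds 0) := by
    have : Filter.Tendsto (fun D : Finset ι => (∑' i, f i) - ∑ i ∈ D, f i) Filter.atTop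
        (nhds ((∑' i, f i) - ∑' i, f i)) := tendsto_const_nhds.sub hsum.hasSum
    rw [sub_self] at this
    exact this.congr (fun D => (hTeq D).symm)
  -- the correction term is bounded by |T D|
  set X : Finset ι → ℝ := fun D =>
    (T D / ((D \ hfin.toFinset).card : ℝ)) * ∑ i ∈ D \ hfin.toFinset, ((h' i : ℝ) / (h i : ℝ)) with hX
  have hbound : ∀ D, |X D| ≤ |T D| := by
    intro D
    have hS0 : 0 ≤ ∑ i ∈ D \ hfin.toFinset, ((h' i : ℝ) / (h i : ℝ)) :=
      Finset.sum_nonneg (fun i _ => by positivity)
    have hS1 : ∑ i ∈ D \ hfin.toFinset, ((h' i : ℝ) / (h i : ℝ)) ≤ ((D \ hfin.toFinset).card : ℝ) := by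
      calc ∑ i ∈ D \ hfin.toFinset, ((h' i : ℝ) / (h i : ℝ))
          ≤ ∑ _i ∈ D \ hfin.toFinset, (1 : ℝ) := by
            apply Finset.sum_le_sum
            intro i _
            apply div_le_one_of_le₀ _ (Nat.cast_nonneg _)
            exact_mod_cast hle i
        _ = ((D \ hfin.toFinset).card : ℝ) := by simp
    simp only [hX]
    rcases Nat.eq_zero_or_pos (D \ hfin.toFinset).card with hd | hd
    · rw [hd]; simp
    · have hd' : (0 : ℝ) < ((D \ hfin.toFinset).card : ℝ) := by exact_mod_cast hd
      rw [abs_mul, abs_div, abs_of_pos hd', abs_of_nonneg hS0, div_mul_eq_mul_div,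
        div_le_iff₀ hd']
      exact mul_le_mul_of_nonneg_left hS1 (abs_nonneg _)
  have hX0 : Filter.Tendsto X Filter.atTop (nhds 0) := by
    have habs : Filter.Tendsto (fun D => |T D|) Filter.atTop (nhds 0) := by
      have := hT0.abs; simpa using this
    have hneg : Filter.Tendsto (fun D => -|T D|) Filter.atTop (nhds 0) := by
      have := habs.neg; simpa using this
    exact tendsto_of_tendsto_of_tendsto_of_le_of_le hneg habs
      (fun D => (abs_le.mp (hbound D)).1) (fun D => (abs_le.mp (hbound D)).2)
  have := h1.add hX0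
  rw [add_zero] at this
  exact this

end Groth.Agent.S16017
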