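import Groth.Statements.S16030


set_option autoImplicit false
universe u
open CAlg

namespace Groth.Agent.S16030

/-- For a finite set F of points of the spectrum of a commutative ring A and an open subset U containing
F, some basic open D(a) contains F and is contained in U. -/
theorem result
    (A : Type u) [CommRing A] (F : Set (PrimeSpectrum A)) (hF : F.Finite)
    (U : TopologicalSpace.Opens (PrimeSpectrum A)) (hFU : F ⊆ (U : Set (PrimeSpectrum A))) :
    ∃ a : A, F ⊆ (PrimeSpectrum.basicOpen a : Set (PrimeSpectrum A)) ∧ PrimeSpectrum.basicOpen a ≤ U := by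
  classical
  rcases F.eq_empty_or_nonempty with hFe | ⟨p₀, hp₀⟩
  · refine ⟨0, by simp [hFe], ?_⟩
    simp
  -- U is the complement of a zero locus V(I)
  obtain ⟨I, hI⟩ : ∃ I : Ideal A, (U : Set (PrimeSpectrum A)) = (PrimeSpectrum.zeroLocus (I : Set A))ᶜ := by
    have hU : IsClosed ((U : Set (PrimeSpectrum A))ᶜ) := U.2.isClosed_compl
    obtain ⟨I, hI⟩ := (PrimeSpectrum.isClosed_iff_zeroLocus_ideal _).mp hU
    exact ⟨I, by rw [← hI, compl_compl]⟩
  -- prime avoidance
  have hnot : ¬ ((I : Set A) ⊆ ⋃ p ∈ (hF.toFinset : Set (PrimeSpectrum A)), (p.asIdeal : Set A)) := by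
    intro hsub
    have := (Ideal.subset_union_prime (s := hF.toFinset) (f := fun p : PrimeSpectrum A => p.asIdeal)
      p₀ p₀ (fun p _ _ _ => p.isPrime)).mp hsub
    obtain ⟨p, hp, hIp⟩ := this
    have hpF : p ∈ F := by simpa using hp
    have hpU : p ∈ (U : Set (PrimeSpectrum A)) := hFU hpF
    rw [hI] at hpU
    exact hpU ((PrimeSpectrum.mem_zeroLocus _ _).mpr hIp)
  rw [Set.not_subset] at hnot
  obtain ⟨a, haI, ha⟩ := hnot
  refine ⟨a, ?_, ?_⟩
  · intro p hp
    rw [SetLike.mem_coe, PrimeSpectrum.mem_basicOpen]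
    intro hap
    apply ha
    simp only [Set.mem_iUnion, exists_prop]
    exact ⟨p, by simpa using hp, hap⟩
  · intro p hp
    rw [PrimeSpectrum.mem_basicOpen] at hp
    change p ∈ (U : Set (PrimeSpectrum A))
    rw [hI]
    intro hpz
    exact hp ((PrimeSpectrum.mem_zeroLocus _ _).mp hpz haI)

end Groth.Agent.S16030
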