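import Groth.Statements.S16031
import Mathlib
import Groth.Agent.Lib.Helper22FerrandFT
import Groth.Agent.Lib.Helper22FerrandIntegral
import Groth.Agent.S0432
import Groth.Agent.S15945

set_option autoImplicit false
universe u
open CategoryTheory CategoryTheory.Limits AlgebraicGeometry
open FlatMor

namespace Groth.Agent.S16031

open CategoryTheory CategoryTheory.Limits AlgebraicGeometry PrimeSpectrum
open Groth.Agent.Lib.Helper22.Ferrand Groth.Agent.Lib.Helper22.SpPO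

/-- **Prime avoidance for cosets**: if `I` is contained in none of finitely many primes, every
coset `x + I` contains an element outside all of them. -/
theorem exists_add_notMem {A : Type u} [CommRing A] (I : Ideal A) :
    ∀ (F : Finset (PrimeSpectrum A)), (∀ 𝔭 ∈ F, ¬ I ≤ 𝔭.asIdeal) → ∀ x : A,
      ∃ y ∈ I, ∀ 𝔭 ∈ F, x + y ∉ 𝔭.asIdeal := by
  classical
  intro F
  induction' hn : F.card with n ih generalizing F
  · intro _ x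
    rw [Finset.card_eq_zero] at hn
    subst hn
    exact ⟨0, I.zero_mem, fun 𝔭 h𝔭 => absurd h𝔭 (Finset.notMem_empty _)⟩
  · intro hF x
    have hne : F.Nonempty := Finset.card_pos.mp (by omega)
    obtain ⟨𝔭₀, h𝔭₀, hmin⟩ := F.exists_minimal hne
    have hcard : (F.erase 𝔭₀).card = n := by rw [Finset.card_erase_of_mem h𝔭₀, hn]; rfl
    obtain ⟨y', hy'I, hy'⟩ := ih (F.erase 𝔭₀) hcard
      (fun 𝔭 h𝔭 => hF 𝔭 (Finset.mem_of_mem_erase h𝔭)) x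
    by_cases hx : x + y' ∈ 𝔭₀.asIdeal
    · -- correction term
      obtain ⟨cI, hcI, hcI'⟩ := SetLike.not_le_iff_exists.mp (hF 𝔭₀ h𝔭₀)
      have hc : ∀ 𝔭 ∈ F.erase 𝔭₀, ∃ c ∈ 𝔭.asIdeal, c ∉ 𝔭₀.asIdeal := by
        intro 𝔭 h𝔭
        apply SetLike.not_le_iff_exists.mp
        intro hle
        have h1 : 𝔭 ≤ 𝔭₀ := hle
        have h2 : 𝔭 ≠ 𝔭₀ := Finset.ne_of_mem_erase h𝔭
        exact h2 (le_antisymm h1 (hmin (Finset.mem_of_mem_erase h𝔭) h1))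
      choose! c hc1 hc2 using hc
      let z : A := cI * ∏ 𝔭 ∈ F.erase 𝔭₀, c 𝔭
      have hzI : z ∈ I := I.mul_mem_right _ hcI
      have hz0 : z ∉ 𝔭₀.asIdeal := by
        intro hz
        rcases 𝔭₀.2.mem_or_mem hz with h | h
        · exact hcI' h
        · obtain ⟨𝔭, h𝔭, hmem⟩ := (𝔭₀.2.prod_mem_iff).mp h
          exact hc2 𝔭 h𝔭 hmem
      have hz : ∀ 𝔭 ∈ F.erase 𝔭₀, z ∈ 𝔭.asIdeal := by
        intro 𝔭 h𝔭
        apply Ideal.mul_mem_left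
        exact Ideal.mem_of_dvd _ (Finset.dvd_prod_of_mem c h𝔭) (hc1 𝔭 h𝔭)
      refine ⟨y' + z, I.add_mem hy'I hzI, ?_⟩
      intro 𝔭 h𝔭 hmem
      by_cases h0 : 𝔭 = 𝔭₀
      · subst h0
        have : z = (x + (y' + z)) - (x + y') := by ring
        exact hz0 (this ▸ Ideal.sub_mem _ hmem hx)
      · have h𝔭' : 𝔭 ∈ F.erase 𝔭₀ := Finset.mem_erase.mpr ⟨h0, h𝔭⟩
        have : x + y' = (x + (y' + z)) - z := by ring
        exact hy' 𝔭 h𝔭' (this ▸ Ideal.sub_mem _ hmem (hz 𝔭 h𝔭'))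
    · refine ⟨y', hy'I, ?_⟩
      intro 𝔭 h𝔭
      by_cases h0 : 𝔭 = 𝔭₀
      · subst h0; exact hx
      · exact hy' 𝔭 (Finset.mem_erase.mpr ⟨h0, h𝔭⟩)

/-- Coset prime avoidance on a finite set of points of a spectrum. -/
theorem exists_add_notMem' {A : Type u} [CommRing A] (I : Ideal A) (h₀ : A)
    (T : Set (PrimeSpectrum A)) (hT : T.Finite)
    (h : ∀ 𝔭 ∈ T, I ≤ 𝔭.asIdeal → h₀ ∉ 𝔭.asIdeal) :
    ∃ y ∈ I, ∀ 𝔭 ∈ T, h₀ + y ∉ 𝔭.asIdeal := by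
  classical
  obtain ⟨y, hyI, hy⟩ := exists_add_notMem I (hT.toFinset.filter (fun 𝔭 => ¬ I ≤ 𝔭.asIdeal))
    (fun 𝔭 h𝔭 => (Finset.mem_filter.mp h𝔭).2) h₀
  refine ⟨y, hyI, fun 𝔭 h𝔭 => ?_⟩
  by_cases hI : I ≤ 𝔭.asIdeal
  · intro hmem
    have : h₀ = (h₀ + y) - y := by ring
    exact h 𝔭 h𝔭 hI (this ▸ Ideal.sub_mem _ hmem (hI hyI))
  · exact hy 𝔭 (Finset.mem_filter.mpr ⟨hT.mem_toFinset.mpr h𝔭, hI⟩)

/-- Finite sets of points of an affine open disjoint from a closed set are separated from it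
by a basic open. -/
theorem exists_basicOpen_finite {X : Scheme.{u}} (U : X.Opens) (hU : IsAffineOpen U) (E' : Set X)
    (hE' : E'.Finite) (hE'U : E' ⊆ (U : Set X)) (C : Set X) (hC : IsClosed C)
    (hdisj : ∀ x ∈ E', x ∉ C) :
    ∃ f : Γ(X, U), E' ⊆ (X.basicOpen f : Set X) ∧ ∀ x ∈ X.basicOpen f, x ∉ C := by
  let C' : Set (PrimeSpectrum Γ(X, U)) := hU.fromSpec.base ⁻¹' C
  have hC' : IsClosed C' := hC.preimage hU.fromSpec.continuous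
  let I : Ideal Γ(X, U) := vanishingIdeal C'
  have hI : zeroLocus (I : Set Γ(X, U)) = C' := by
    rw [zeroLocus_vanishingIdeal_eq_closure, hC'.closure_eq]
  let T : Set (PrimeSpectrum Γ(X, U)) := hU.fromSpec.base ⁻¹' E'
  have hT : T.Finite := hE'.preimage (hU.fromSpec.isOpenEmbedding.injective.injOn)
  obtain ⟨y, hyI, hy⟩ := exists_add_notMem' I 0 T hT (by
    intro 𝔭 h𝔭 hle
    exfalso
    have : 𝔭 ∈ zeroLocus (I : Set Γ(X, U)) := hle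
    rw [hI] at this
    exact hdisj _ h𝔭 this)
  simp only [zero_add] at hy
  refine ⟨y, ?_, ?_⟩
  · intro e he
    have heU : e ∈ (U : Set X) := hE'U he
    rw [← hU.range_fromSpec] at heU
    obtain ⟨𝔭, rfl⟩ := heU
    have : 𝔭 ∈ hU.fromSpec ⁻¹ᵁ X.basicOpen y := by
      rw [hU.fromSpec_preimage_basicOpen]; exact hy 𝔭 he
    exact this
  · intro x hx hxC
    have hxU : x ∈ (U : Set X) := X.basicOpen_le _ hx
    rw [← hU.range_fromSpec] at hxU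
    obtain ⟨𝔭, rfl⟩ := hxU
    have h1 : 𝔭 ∈ hU.fromSpec ⁻¹ᵁ X.basicOpen y := hx
    rw [hU.fromSpec_preimage_basicOpen] at h1
    have h2 : 𝔭 ∈ zeroLocus (I : Set Γ(X, U)) := by rw [hI]; exact hxC
    exact h1 (h2 hyI)

/-- Let θ₁ : Y ⟶ X₁ and θ₂ : Y ⟶ X₂ be closed immersions of schemes and let X, with φ₁ : X₁ ⟶ X and φ₂ :
X₂ ⟶ X, be their pushout in the category of schemes. If a finite set E of points of X has each
preimage φᵢ⁻¹(E) contained in an affine open of Xᵢ, then E is contained in an affine open of X. -/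
theorem result
    {Y X₁ X₂ X : Scheme.{u}} (θ₁ : Y ⟶ X₁) (θ₂ : Y ⟶ X₂) [IsClosedImmersion θ₁] [IsClosedImmersion θ₂]
    (φ₁ : X₁ ⟶ X) (φ₂ : X₂ ⟶ X) (hX : IsPushout θ₁ θ₂ φ₁ φ₂)
    (E : Set ↥X) (hE : E.Finite)
    (h₁ : ∃ U₁ : X₁.Opens, IsAffineOpen U₁ ∧ φ₁ ⁻¹' E ⊆ (U₁ : Set ↥X₁))
    (h₂ : ∃ U₂ : X₂.Opens, IsAffineOpen U₂ ∧ φ₂ ⁻¹' E ⊆ (U₂ : Set ↥X₂)) :
    ∃ U : X.Opens, IsAffineOpen U ∧ E ⊆ (U : Set ↥X) := by
  obtain ⟨U₁, hU₁, hE₁⟩ := h₁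
  obtain ⟨U₂, hU₂, hE₂⟩ := h₂
  have hY := Groth.Agent.S0432.exists_adPair θ₁ θ₂
  obtain ⟨ch⟩ := exists_charts_of_isPushout θ₁ θ₂ hY φ₁ φ₂ hX
  obtain ⟨-, hφ₂, hφ₁', -, -⟩ := Groth.Agent.S15945.props_of_isPushout θ₁ θ₂ hY φ₁ φ₂ hX
  have hφ₁ : IsClosedImmersion φ₁ := hφ₁' inferInstance
  have fin₁ : (φ₁.base ⁻¹' E).Finite := hE.preimage φ₁.isClosedEmbedding.injective.injOn
  have fin₂ : (φ₂.base ⁻¹' E).Finite := hE.preimage φ₂.isClosedEmbedding.injective.injOn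
  have key : ∀ z : Y, θ₁.base z ∈ φ₁.base ⁻¹' E ↔ θ₂.base z ∈ φ₂.base ⁻¹' E := by
    intro z
    show φ₁.base (θ₁.base z) ∈ E ↔ φ₂.base (θ₂.base z) ∈ E
    rw [show φ₁.base (θ₁.base z) = φ₂.base (θ₂.base z) from congr($(hX.w).base z)]
  -- Step 1
  obtain ⟨f, hf1, hf2⟩ := exists_basicOpen_finite U₁ hU₁ (φ₁.base ⁻¹' E) fin₁ hE₁
    (θ₁.base '' ((θ₂ ⁻¹ᵁ U₂ : Y.Opens) : Set Y)ᶜ)
    (θ₁.isClosedEmbedding.isClosedMap _ (θ₂ ⁻¹ᵁ U₂).2.isClosed_compl)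
    (by
      rintro x hx ⟨z, hz, rfl⟩
      exact hz (hE₂ ((key z).mp hx)))
  have hU₁' : IsAffineOpen (X₁.basicOpen f) := hU₁.basicOpen f
  have hf3 : θ₁ ⁻¹ᵁ X₁.basicOpen f ≤ θ₂ ⁻¹ᵁ U₂ := by
    intro z hz
    by_contra hcon
    exact hf2 _ hz ⟨z, hcon, rfl⟩
  -- Step 2
  obtain ⟨g, hg1, hg2⟩ := exists_basicOpen_finite U₂ hU₂ (φ₂.base ⁻¹' E) fin₂ hE₂
    (θ₂.base '' ((θ₁ ⁻¹ᵁ X₁.basicOpen f : Y.Opens) : Set Y)ᶜ)
    (θ₂.isClosedEmbedding.isClosedMap _ (θ₁ ⁻¹ᵁ X₁.basicOpen f).2.isClosed_compl)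
    (by
      rintro y hy ⟨z, hz, rfl⟩
      exact hz (hf1 ((key z).mpr hy)))
  have hV : IsAffineOpen (X₂.basicOpen g) := hU₂.basicOpen g
  have hg3 : θ₂ ⁻¹ᵁ X₂.basicOpen g ≤ θ₁ ⁻¹ᵁ X₁.basicOpen f := by
    intro z hz
    by_contra hcon
    exact hg2 _ hz ⟨z, hcon, rfl⟩
  -- Step 3
  let g' : Γ(Y, θ₁ ⁻¹ᵁ X₁.basicOpen f) := (θ₂.appLE U₂ (θ₁ ⁻¹ᵁ X₁.basicOpen f) hf3).hom g
  have hg' : Y.basicOpen g' = θ₂ ⁻¹ᵁ X₂.basicOpen g := by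
    show Y.basicOpen ((θ₂.appLE U₂ (θ₁ ⁻¹ᵁ X₁.basicOpen f) hf3).hom g) = _
    rw [Scheme.basicOpen_appLE]
    exact inf_eq_right.mpr hg3
  obtain ⟨h₀, hh₀⟩ := θ₁.app_surjective (X₁.basicOpen f) hU₁' g'
  let I : Ideal Γ(X₁, X₁.basicOpen f) := RingHom.ker (θ₁.app (X₁.basicOpen f)).hom
  have hpre : ∀ h : Γ(X₁, X₁.basicOpen f), h - h₀ ∈ I → θ₁ ⁻¹ᵁ X₁.basicOpen h = Y.basicOpen g' := by
    intro h hh
    rw [Scheme.preimage_basicOpen]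
    congr 1
    have : (θ₁.app (X₁.basicOpen f)).hom (h - h₀) = 0 := hh
    rw [map_sub, sub_eq_zero] at this
    rw [← hh₀]
    exact this
  let T : Set (PrimeSpectrum Γ(X₁, X₁.basicOpen f)) := hU₁'.fromSpec.base ⁻¹' (φ₁.base ⁻¹' E)
  have hT : T.Finite := fin₁.preimage (hU₁'.fromSpec.isOpenEmbedding.injective.injOn)
  have hW : IsAffineOpen (θ₁ ⁻¹ᵁ X₁.basicOpen f) := hU₁'.preimage θ₁
  obtain ⟨y, hyI, hy⟩ := exists_add_notMem' I h₀ T hT (by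
    intro 𝔭 h𝔭 hle
    -- `𝔭` comes from a point of `Y`
    have hmem : 𝔭 ∈ zeroLocus (I : Set Γ(X₁, X₁.basicOpen f)) := hle
    rw [← range_comap_of_surjective _ _ (θ₁.app_surjective (X₁.basicOpen f) hU₁')] at hmem
    obtain ⟨𝔮, rfl⟩ := hmem
    have hsq : hU₁'.fromSpec.base (comap (θ₁.app (X₁.basicOpen f)).hom 𝔮) =
        θ₁.base (hW.fromSpec.base 𝔮) := by
      have := IsAffineOpen.SpecMap_appLE_fromSpec θ₁ hU₁' hW le_rfl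
      rw [Scheme.Hom.appLE_eq_app] at this
      exact congr($(this).base 𝔮)
    have h1 : θ₁.base (hW.fromSpec.base 𝔮) ∈ φ₁.base ⁻¹' E := by rw [← hsq]; exact h𝔭
    have h2 : θ₂.base (hW.fromSpec.base 𝔮) ∈ X₂.basicOpen g := hg1 ((key _).mp h1)
    have h3 : hW.fromSpec.base 𝔮 ∈ Y.basicOpen g' := by rw [hg']; exact h2
    have h4 : hW.fromSpec.base 𝔮 ∈ θ₁ ⁻¹ᵁ X₁.basicOpen h₀ := by
      rw [hpre h₀ (by rw [sub_self]; exact I.zero_mem)]; exact h3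
    have h5 : comap (θ₁.app (X₁.basicOpen f)).hom 𝔮 ∈ hU₁'.fromSpec ⁻¹ᵁ X₁.basicOpen h₀ := by
      show hU₁'.fromSpec.base _ ∈ X₁.basicOpen h₀
      rw [hsq]; exact h4
    rw [hU₁'.fromSpec_preimage_basicOpen] at h5
    exact h5)
  -- the adapted pair
  have heq : θ₁ ⁻¹ᵁ X₁.basicOpen (h₀ + y) = θ₂ ⁻¹ᵁ X₂.basicOpen g := by
    rw [hpre (h₀ + y) (by rw [add_sub_cancel_left]; exact hyI), hg']
  let k : AdPair θ₁ θ₂ := ⟨X₁.basicOpen (h₀ + y), X₂.basicOpen g, hU₁'.basicOpen _, hV, heq⟩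
  refine ⟨(ch.c k).opensRange, isAffineOpen_opensRange _, ?_⟩
  intro e he
  rcases ch.jointly_surjective e with ⟨x, rfl⟩ | ⟨x, rfl⟩
  · have hxU : x ∈ X₁.basicOpen (h₀ + y) := by
      have hxf : x ∈ (X₁.basicOpen f : Set X₁) := hf1 he
      rw [← hU₁'.range_fromSpec] at hxf
      obtain ⟨𝔭, rfl⟩ := hxf
      have : 𝔭 ∈ hU₁'.fromSpec ⁻¹ᵁ X₁.basicOpen (h₀ + y) := by
        rw [hU₁'.fromSpec_preimage_basicOpen]; exact hy 𝔭 he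
      exact this
    have hxk : x ∈ (k.U : Set X₁) := hxU
    rw [← k.range_cX] at hxk
    obtain ⟨x', rfl⟩ := hxk
    exact ⟨comap k.φA x', (congr($(ch.cX_a k).base x')).symm⟩
  · have hxk : x ∈ (k.V : Set X₂) := hg1 he
    rw [← k.range_cY] at hxk
    obtain ⟨x', rfl⟩ := hxk
    exact ⟨comap k.φB x', (congr($(ch.cY_b k).base x')).symm⟩

end Groth.Agent.S16031
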