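import Groth.Statements.S16045
import Mathlib
import Groth.Agent.Lib.Helper22FerrandBC3
import Groth.Agent.S0432

set_option autoImplicit false
universe u
open CategoryTheory CategoryTheory.Limits AlgebraicGeometry
open FlatMor

namespace Groth.Agent.S16045

open CategoryTheory CategoryTheory.Limits AlgebraicGeometry
open FlatMor
open Groth.Agent.Lib.Helper22.Ferrand

/-- Let θ₁ : Y ⟶ X₁ and θ₂ : Y ⟶ X₂ be closed immersions of schemes over S and X their pushout in
schemes over S. For a flat morphism g : S' ⟶ S, the square obtained by base change along g is a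
pushout in schemes over S': pinching along a closed subscheme commutes with flat base change. -/
theorem result
    {S S' : Scheme.{u}} (g : S' ⟶ S) [Flat g]
    {Y X₁ X₂ X : Over S} (θ₁ : Y ⟶ X₁) (θ₂ : Y ⟶ X₂) [IsClosedImmersion θ₁.left] [IsClosedImmersion θ₂.left]
    (φ₁ : X₁ ⟶ X) (φ₂ : X₂ ⟶ X) (hX : IsPushout θ₁ θ₂ φ₁ φ₂) :
    IsPushout ((Over.pullback g).map θ₁) ((Over.pullback g).map θ₂)
      ((Over.pullback g).map φ₁) ((Over.pullback g).map φ₂) := by
  have : PreservesColimitsOfSize.{0, 0} (Over.forget S) :=
    (Over.forgetAdjStar S).leftAdjoint_preservesColimits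
  have hP : IsPushout θ₁.left θ₂.left φ₁.left φ₂.left := hX.map (Over.forget S)
  have hY := Groth.Agent.S0432.exists_adPair θ₁.left θ₂.left
  have hF : IsPullback (pullback.fst X.hom g) (pullback.snd X.hom g) X.hom g :=
    IsPullback.of_hasPullback _ _
  have hF1 : IsPullback (pullback.fst X₁.hom g) (pullback.snd X₁.hom g) X₁.hom g :=
    IsPullback.of_hasPullback _ _
  have hF2 : IsPullback (pullback.fst X₂.hom g) (pullback.snd X₂.hom g) X₂.hom g :=
    IsPullback.of_hasPullback _ _
  have hF0 : IsPullback (pullback.fst Y.hom g) (pullback.snd Y.hom g) Y.hom g :=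
    IsPullback.of_hasPullback _ _
  have hFX : IsPullback (pullback.fst X₁.hom g) ((Over.pullback g).map φ₁).left φ₁.left
      (pullback.fst X.hom g) := by
    refine IsPullback.of_bot ?_ ?_ hF
    · convert hF1 using 1
      · exact pullback.lift_snd _ _ _
      · exact Over.w φ₁
    · exact (pullback.lift_fst _ _ _).symm
  have hFY : IsPullback (pullback.fst X₂.hom g) ((Over.pullback g).map φ₂).left φ₂.left
      (pullback.fst X.hom g) := by
    refine IsPullback.of_bot ?_ ?_ hF
    · convert hF2 using 1
      · exact pullback.lift_snd _ _ _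
      · exact Over.w φ₂
    · exact (pullback.lift_fst _ _ _).symm
  have hFZ : IsPullback (pullback.fst Y.hom g) ((Over.pullback g).map θ₁).left θ₁.left
      (pullback.fst X₁.hom g) := by
    refine IsPullback.of_bot ?_ ?_ hF1
    · convert hF0 using 1
      · exact pullback.lift_snd _ _ _
      · exact Over.w θ₁
    · exact (pullback.lift_fst _ _ _).symm
  have hcomm : (Over.pullback g).map θ₁ ≫ (Over.pullback g).map φ₁ =
      (Over.pullback g).map θ₂ ≫ (Over.pullback g).map φ₂ := by
    rw [← Functor.map_comp, ← Functor.map_comp, hX.w]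
  have : Flat (pullback.fst X.hom g) := inferInstance
  have key : IsPushout ((Over.pullback g).map θ₁).left ((Over.pullback g).map θ₂).left
      ((Over.pullback g).map φ₁).left ((Over.pullback g).map φ₂).left := by
    refine isPushout_of_flat θ₁.left θ₂.left hY hP (pullback.fst X.hom g) hFX hFY hFZ ?_ ?_
    · exact pullback.lift_fst _ _ _
    · exact (congrArg (fun m => m.left) hcomm).symm
  exact IsPushout.of_map (Over.forget S') hcomm key

end Groth.Agent.S16045
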