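import Groth.Statements.S16057
import Groth.Agent.Lib.Helper29ReesGrE

set_option autoImplicit false
set_option synthInstance.maxHeartbeats 400000
set_option maxHeartbeats 1000000
universe u
open GrLC

namespace Groth.Agent.S16057

theorem length_eq_zero_of_eq_bot {R₀ W : Type*} [Ring R₀] [AddCommGroup W] [Module R₀ W]
    (p : Submodule R₀ W) (h : p = ⊥) : Module.length R₀ p = 0 := by
  subst h
  exact Module.length_bot

/-- Let A be a Noetherian local ring with maximal ideal m, and I an ideal of A whose radical is m (an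
m-primary ideal), and M a finitely generated A-module; let R(I) = ⊕_{n ≥ 0} Iⁿ Xⁿ ⊆ A[X] be the Rees
algebra, graded by the powers of X, with irrelevant ideal R(I)_+ = ⊕_{n ≥ 1} Iⁿ Xⁿ, and M* = ⊕_{n ≥
0} IⁿM Xⁿ the Rees module of M, a graded R(I)-module; let P ∈ ℚ[t] be the Hilbert–Samuel polynomial
of M with respect to I, that is, P(n) = ℓ_A(M/IⁿM) for all sufficiently large n. Then for every
integer n ≥ 0, writing H^i_{R(I)_+}(M*)_n for the degree-n homogeneous piece of the i-th graded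
local cohomology module of M* with support in R(I)_+ (computed from any *injective resolution of M*
in the category of graded R(I)-modules), a module over R(I)_0 = A: each H^i_{R(I)_+}(M*)_n has
finite length, only finitely many of them are nonzero, and P(n) − ℓ_A(M/IⁿM) = Σ_{i ≥ 0} (−1)^i
ℓ(H^i_{R(I)_+}(M*)_n). -/
theorem result (A : Type u) [CommRing A]
    [IsNoetherianRing A] [IsLocalRing A] (I : Ideal A) (hI : I.radical = IsLocalRing.maximalIdeal A)
    (M : Type u) [AddCommGroup M] [Module A M] [Module.Finite A M] (P : Polynomial ℚ)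
    (hP : ∃ N : ℕ, ∀ n : ℕ, N ≤ n →
      P.eval (n : ℚ) = ((Module.length A (M ⧸ (I ^ n • (⊤ : Submodule A M)))).toNat : ℚ))
    (E : GrLC.StarInjRes (Rees.degZ (reesAlgebra I)) (Rees.mdegZ (Rees.powFilt I M))) (n : ℕ) :
    (∀ i : ℕ, IsFiniteLength (GrLC.deg0 (Rees.degZ (reesAlgebra I))) (E.Hcomp (GrSyz.irrel (Rees.degZ (reesAlgebra I))) i (n : ℤ))) ∧
      Set.Finite {i : ℕ | E.Hcomp (GrSyz.irrel (Rees.degZ (reesAlgebra I))) i (n : ℤ) ≠ ⊥} ∧
      P.eval (n : ℚ) - ((Module.length A (M ⧸ (I ^ n • (⊤ : Submodule A M)))).toNat : ℚ) =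
        finsum (fun i : ℕ => (-1 : ℚ) ^ i *
          ((Module.length (GrLC.deg0 (Rees.degZ (reesAlgebra I))) (E.Hcomp (GrSyz.irrel (Rees.degZ (reesAlgebra I))) i (n : ℤ))).toNat : ℚ)) := by
  classical
  open Groth.Agent.Lib.Helper29ReesGr Groth.Agent.Lib.Helper29GrConv
    Groth.Agent.Lib.Helper29GrSerre Groth.Agent.Lib.Helper29GrEulerAdd in
  obtain ⟨D, hD⟩ := Groth.Agent.Lib.Helper8.Cd.exists_bound (aa I).toIdeal
  let EN : GrLC.StarInjRes (gA I) (gN I M) := resAS E
  obtain ⟨hfin, hform⟩ := main I hI M P hP EN D hD n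
  -- lengths computed from `E` and from `resAS E` agree
  have hlen : ∀ i : ℕ, Module.length (GrLC.deg0 (Rees.degZ (reesAlgebra I)))
      (E.Hcomp (GrSyz.irrel (Rees.degZ (reesAlgebra I))) i (n : ℤ)) =
      Module.length (GrLC.deg0 (gA I)) (EN.Hcomp (aa I) i (n : ℤ)) := by
    intro i
    cases i <;> rfl
  have hvanEN : ∀ i : ℕ, D < i → EN.Hcomp (aa I) i (n : ℤ) = ⊥ := fun i hi =>
    Groth.Agent.Lib.Helper29GrCMEnd.Hcomp_eq_bot_of_H_eq_zero (aa I) EN i (hD _ i hi) (n : ℤ)
  have hvan : ∀ i : ℕ, D < i →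
      E.Hcomp (GrSyz.irrel (Rees.degZ (reesAlgebra I))) i (n : ℤ) = ⊥ := by
    intro i hi
    rw [← Hcomp_resAS_eq_bot_iff]
    exact hvanEN i hi
  refine ⟨fun i => ?_, ?_, ?_⟩
  · rw [← Module.length_ne_top_iff, hlen i]
    exact hfin i
  · refine (Finset.range (D + 1)).finite_toSet.subset ?_
    intro i hi
    rw [Finset.coe_range, Set.mem_Iio]
    by_contra hlt
    exact hi (hvan i (by omega))
  · show P.eval (n : ℚ) - (Hs I M n : ℚ) = _
    rw [hform]
    unfold chi hl
    rw [finsum_eq_sum_of_support_subset (s := Finset.range (D + 1))]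
    · push_cast
      refine Finset.sum_congr rfl fun i _ => ?_
      rw [hlen i]
    · intro i hi
      rw [Finset.coe_range, Set.mem_Iio]
      by_contra hlt
      apply hi
      show (-1 : ℚ) ^ i * ((Module.length (GrLC.deg0 (Rees.degZ (reesAlgebra I)))
        (E.Hcomp (GrSyz.irrel (Rees.degZ (reesAlgebra I))) i (n : ℤ))).toNat : ℚ) = 0
      rw [hlen i, length_eq_zero_of_eq_bot _ (hvanEN i (by omega))]
      simp

end Groth.Agent.S16057
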