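import Groth.Statements.S1607
import Groth.Agent.Lib.Helper4DimOneAffine
import Groth.Agent.Lib.Helper4GenFinite2

set_option autoImplicit false
set_option linter.style.haveILetI false
universe u
open CategoryTheory CategoryTheory.Limits AlgebraicGeometry
open Variety

namespace Groth.Agent.S1607

/-- If X is affine and each of its local rings is Noetherian of dimension at most one, then every
quasi-compact open subscheme of X is affine. -/
theorem result (X : Scheme.{u}) [IsAffine X]
    (hX : ∀ x : X, IsNoetherianRing (X.presheaf.stalk x) ∧ ringKrullDim (X.presheaf.stalk x) ≤ 1)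
    (U : X.Opens) (hU : IsCompact (U : Set X)) : IsAffineOpen U := by
  obtain ⟨s, hsfin, hs⟩ :=
    isCompact_and_isOpen_iff_finite_and_eq_biUnion_basicOpen.mp ⟨hU, U.isOpen⟩
  have hA := isAffineOpen_top X
  have hloc : ∀ x : X, ∃ f g : Γ(X, ⊤), x ∈ X.basicOpen f ∧
      U ⊓ X.basicOpen f = X.basicOpen g := by
    intro x
    let x' : (⊤ : X.Opens) := ⟨x, trivial⟩
    letI : Algebra Γ(X, ⊤) (X.presheaf.stalk x) := (X.presheaf.germ ⊤ x trivial).hom.toAlgebra
    haveI : IsLocalization.AtPrime (X.presheaf.stalk x) (hA.primeIdealOf x').asIdeal :=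
      hA.isLocalization_stalk x'
    haveI := (hX x).1
    obtain ⟨f, g, hf, hfg⟩ := Groth.Agent.Lib.Helper4.DimOneAffine.exists_basicOpen_inter_eq
      (R := X.presheaf.stalk x) (hA.primeIdealOf x').asIdeal (hX x).2 hsfin.toFinset
    refine ⟨f, g, ?_, ?_⟩
    · exact (Groth.Agent.Lib.Helper4.GenFinite.mem_basicOpen_iff_not_mem_primeIdealOf hA x
        trivial f).mpr hf
    · ext y
      have hmem := fun r : Γ(X, ⊤) =>
        Groth.Agent.Lib.Helper4.GenFinite.mem_basicOpen_iff_not_mem_primeIdealOf hA y trivial r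
      have hyU : y ∈ U ↔ ∃ a ∈ hsfin.toFinset,
          a ∉ (hA.primeIdealOf ⟨y, trivial⟩).asIdeal := by
        have : y ∈ U ↔ y ∈ (U : Set X) := Iff.rfl
        rw [this, hs]
        simp only [Set.mem_iUnion, SetLike.mem_coe, Set.Finite.mem_toFinset, exists_prop]
        exact exists_congr fun a => and_congr Iff.rfl (hmem a)
      have h1 := hfg (hA.primeIdealOf ⟨y, trivial⟩).asIdeal inferInstance
      change (y ∈ U ∧ y ∈ X.basicOpen f) ↔ y ∈ X.basicOpen g
      rw [hmem g, ← h1, hmem f, hyU, and_comm]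
  haveI : IsAffineHom U.ι := by
    apply isAffineHom_of_forall_exists_isAffineOpen
    intro x
    obtain ⟨f, g, hxf, hfg⟩ := hloc x
    refine ⟨X.basicOpen f, hxf, hA.basicOpen f, ?_⟩
    rw [← U.ι.isAffineOpen_iff_of_isOpenImmersion,
      Scheme.Hom.image_preimage_eq_opensRange_inf, Scheme.Opens.opensRange_ι, hfg]
    exact hA.basicOpen g
  exact isAffine_of_isAffineHom U.ι

end Groth.Agent.S1607
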