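import Groth.Statements.S16071
import Groth.Agent.Lib.Helper24AlphaP

set_option autoImplicit false
universe u
open CartDual

namespace Groth.Agent.S16071

open TensorProduct Finset Groth.Agent.Lib.Helper24

section Aux

variable (p : ℕ) [hp : Fact p.Prime] (R : Type u) [CommRing R] [CharP R p]

theorem δ_one_pow_p : (δ p R 1) ^ p = 0 :=
  D_ext p R fun i hi => by
    rw [δ_one_pow_apply p R p i hi, if_neg (by omega)]; rfl

/-- the algebra map `x ↦ δ 1` from alpha_p to its dual -/
noncomputable def gAlg : AlphaP.A p R →ₐ[R] CartDual.D R (AlphaP.A p R) :=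
  AlphaP.lift p R (δ p R 1) (δ_one_pow_p p R)

theorem gAlg_x : gAlg p R (AlphaP.x p R) = δ p R 1 := AlphaP.lift_x _ _

theorem gAlg_x_pow (n : ℕ) : gAlg p R (AlphaP.x p R ^ n) = (δ p R 1) ^ n := by
  rw [map_pow, gAlg_x]

theorem one_apply_x_pow (j : ℕ) :
    (1 : CartDual.D R (AlphaP.A p R)) (AlphaP.x p R ^ j) = if j = 0 then 1 else 0 := by
  rw [LinearMap.convOne_apply, counit_x_pow]
  split_ifs <;> simp

theorem comul_δ_one :
    Coalgebra.comul (R := R) (δ p R 1) = δ p R 1 ⊗ₜ[R] 1 + 1 ⊗ₜ[R] δ p R 1 := by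
  apply (CartDual.ev₂ R (AlphaP.A p R)).injective
  apply tensor_ext p R
  intro i j hi hj
  rw [CartDual.ev₂_coalgebra_comul_tmul, map_add, LinearMap.add_apply, CartDual.ev₂_tmul,
    CartDual.ev₂_tmul, ← pow_add, δ_one_apply, δ_one_apply, δ_one_apply, one_apply_x_pow,
    one_apply_x_pow]
  by_cases h1 : i + j = 1
  · rw [if_pos h1]
    rcases Nat.eq_zero_or_pos i with rfl | hi0
    · have : j = 1 := by omega
      subst this
      simp
    · have h2 : i = 1 := by omega
      have h3 : j = 0 := by omega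
      subst h2 h3
      simp
  · rw [if_neg h1]
    by_cases h2 : i = 1
    · have : ¬ j = 0 := by omega
      simp [h2, this]
    · by_cases h3 : j = 1
      · have : ¬ i = 0 := by omega
        simp [h3, this]
      · simp [h2, h3]

/-- the bialgebra map `x ↦ δ 1` -/
noncomputable def gHom : AlphaP.A p R →ₐc[R] CartDual.D R (AlphaP.A p R) :=
  BialgHom.ofAlgHom (gAlg p R)
    (by
      apply AlphaP.algHom_ext
      rw [AlgHom.comp_apply, gAlg_x, Bialgebra.counitAlgHom_apply, Bialgebra.counitAlgHom_apply,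
        CartDual.coalgebra_counit_apply, AlphaP.counit_x, δ_apply_one, if_neg one_ne_zero])
    (by
      apply AlphaP.algHom_ext
      rw [AlgHom.comp_apply, AlgHom.comp_apply, gAlg_x, Bialgebra.comulAlgHom_apply,
        Bialgebra.comulAlgHom_apply, AlphaP.comul_x, comul_δ_one, map_add,
        Algebra.TensorProduct.map_tmul, Algebra.TensorProduct.map_tmul, gAlg_x, map_one])

theorem gHom_apply (a : AlphaP.A p R) : gHom p R a = gAlg p R a := rfl

theorem gAlg_apply_x_pow (a : AlphaP.A p R) (m : ℕ) (hm : m < p) :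
    (gAlg p R a) (AlphaP.x p R ^ m) = δ p R m a * (m.factorial : R) := by
  conv_lhs => rw [← sum_δ_smul p R a]
  rw [map_sum]
  have : ∀ i : Fin p, (gAlg p R (δ p R (i : ℕ) a • AlphaP.x p R ^ (i : ℕ))) (AlphaP.x p R ^ m) =
      δ p R (i : ℕ) a * (if (i : ℕ) = m then ((i : ℕ).factorial : R) else 0) := by
    intro i
    rw [map_smul, gAlg_x_pow, CartDual.coe_apply, WithConv.ofConv_smul, LinearMap.smul_apply,
      ← CartDual.coe_apply, δ_one_pow_apply p R _ m hm, smul_eq_mul]
  rw [CartDual.coe_apply, WithConv.ofConv_sum, LinearMap.sum_apply]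
  rw [sum_congr rfl fun i _ => this i]
  rw [sum_eq_single (⟨m, hm⟩ : Fin p)]
  · simp
  · intro i _ hi
    have : ¬ (i : ℕ) = m := fun h => hi (Fin.ext h)
    rw [if_neg this, mul_zero]
  · intro h; exact absurd (mem_univ _) h

theorem gHom_injective : Function.Injective (gHom p R) := by
  intro a b hab
  have key : ∀ m, m < p → δ p R m a = δ p R m b := by
    intro m hm
    have h1 := gAlg_apply_x_pow p R a m hm
    have h2 := gAlg_apply_x_pow p R b m hm
    rw [← gHom_apply, hab, gHom_apply, h2] at h1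
    exact ((factorial_isUnit p R m hm).mul_left_injective h1).symm
  rw [← sum_δ_smul p R a, ← sum_δ_smul p R b]
  exact sum_congr rfl fun i _ => by rw [key i i.2]

theorem gHom_surjective : Function.Surjective (gHom p R) := by
  intro y
  refine ⟨∑ i : Fin p, (y (AlphaP.x p R ^ (i : ℕ)) *
    ((factorial_isUnit p R i i.2).unit⁻¹ : Rˣ)) • AlphaP.x p R ^ (i : ℕ), ?_⟩
  apply D_ext p R
  intro m hm
  rw [gHom_apply, gAlg_apply_x_pow p R _ m hm, map_sum]
  rw [sum_eq_single (⟨m, hm⟩ : Fin p)]
  · rw [map_smul, δ_apply, if_pos ⟨rfl, hm⟩, smul_eq_mul, mul_one, mul_assoc,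
      IsUnit.val_inv_mul, mul_one]
  · intro i _ hi
    have : ¬ (m = (i : ℕ) ∧ (i : ℕ) < p) := fun h => hi (Fin.ext h.1.symm)
    rw [map_smul, δ_apply, if_neg this, smul_zero]
  · intro h; exact absurd (mem_univ _) h

end Aux

/-- Let p be a prime, R a commutative ring of characteristic p and A = R[X]/(X^p) the Hopf algebra of
α_p over Spec R, with X primitive. Then the Cartier dual of α_p is again α_p: there is a bialgebra
isomorphism e from the dual Hopf algebra Hom_R(A, R), with the transposed structure maps, to A,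
whose inverse sends X to the linear form dual to X with respect to the basis 1, X, …, X^{p-1} of A
(so e⁻¹(X) takes the value 1 on X and 0 on the other powers X^i, i < p). (Any commutative base ring
of characteristic p is allowed.) -/
theorem result (p : ℕ) [Fact p.Prime] (R : Type u) [CommRing R] [CharP R p] :
    ∃ e : CartDual.D R (AlphaP.A p R) ≃ₐc[R] AlphaP.A p R,
      ∀ i : ℕ, i < p → (e.symm (AlphaP.x p R)) (AlphaP.x p R ^ i) = if i = 1 then 1 else 0 := by
  refine ⟨(BialgEquiv.ofBijective (gHom p R) ⟨gHom_injective p R, gHom_surjective p R⟩).symm, ?_⟩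
  intro i _
  change (gAlg p R (AlphaP.x p R)) (AlphaP.x p R ^ i) = _
  rw [gAlg_x, δ_one_apply]

end Groth.Agent.S16071
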