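import Groth.Statements.S16072
-- import your own Groth.Agent.* helpers here

set_option autoImplicit false
universe u
open Hopf

namespace Groth.Agent.S16072

/-- An algebra map from the group algebra of a group of exponent `p` to a field of characteristic `p`
sends every group element to `1`. -/
theorem algHom_single_eq_one {p : ℕ} [Fact p.Prime] {R : Type u} [CommRing R]
    {k : Type u} [Field k] [Algebra R k] [CharP k p]
    (χ : MonoidAlgebra R (Multiplicative (ZMod p)) →ₐ[R] k) (g : Multiplicative (ZMod p)) :
    χ (MonoidAlgebra.single g 1) = 1 := by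
  have h1 : χ (MonoidAlgebra.single g 1) ^ p = 1 := by
    rw [← map_pow, MonoidAlgebra.single_pow, one_pow]
    have : g ^ p = 1 := by
      have : p • (Multiplicative.toAdd g) = 0 := by
        rw [nsmul_eq_mul, CharP.cast_eq_zero (ZMod p) p, zero_mul]
      rw [← ofAdd_toAdd g, ← ofAdd_nsmul, this, ofAdd_zero]
    rw [this, ← MonoidAlgebra.one_def, map_one]
  have h2 : (χ (MonoidAlgebra.single g 1) - 1) ^ p = 0 := by
    rw [sub_pow_char, h1, one_pow, sub_self]
  exact sub_eq_zero.mp (pow_eq_zero_iff (Fact.out : p.Prime).ne_zero |>.mp h2)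

/-- Let p be a prime and R a commutative ring of characteristic p (p = 0 in R, R nonzero). Then the
constant group scheme ℤ/p and the group scheme μ_p of p-th roots of unity over Spec R are not
isomorphic: there is no R-bialgebra isomorphism between the Hopf algebra Maps(ℤ/p, R) of functions
on the cyclic group of order p and the group algebra R[ℤ/p]. (Any nonzero commutative base ring of
characteristic p is allowed. The published statement allows any ring R with p·R = 0; over the zero
ring both Hopf algebras are the zero ring and hence isomorphic, so R is assumed nonzero here.) -/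
theorem result (p : ℕ) [Fact p.Prime] (R : Type u) [CommRing R]
    [CharP R p] :
    IsEmpty (ConstGrp.F R (Multiplicative (ZMod p)) ≃ₐc[R] MonoidAlgebra R (Multiplicative (ZMod p))) := by
  constructor
  intro φ
  have hp : p.Prime := Fact.out
  have : Nontrivial R := CharP.nontrivial_of_char_ne_one (v := p) hp.ne_one
  obtain ⟨m, hm⟩ := Ideal.exists_maximal R
  let _ : Field (R ⧸ m) := Ideal.Quotient.field m
  have hpk : (p : R ⧸ m) = 0 := by
    rw [← map_natCast (algebraMap R (R ⧸ m)) p, CharP.cast_eq_zero R p, map_zero]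
  have : CharP (R ⧸ m) p := (CharP.charP_iff_prime_eq_zero hp).2 hpk
  let ψ : Multiplicative (ZMod p) → (MonoidAlgebra R (Multiplicative (ZMod p)) →ₐ[R] (R ⧸ m)) :=
    fun g => ((Algebra.ofId R (R ⧸ m)).comp (ConstGrp.ev R g)).comp
      (φ.symm.toAlgEquiv : MonoidAlgebra R (Multiplicative (ZMod p)) →ₐ[R] _)
  have hψ : ∀ g h, ψ g = ψ h := by
    intro g h
    apply MonoidAlgebra.algHom_ext
    · intro x
      rw [algHom_single_eq_one, algHom_single_eq_one]
    · exact Subsingleton.elim (α := R →ₐ[R] R ⧸ m) _ _
  have h01 : (Multiplicative.ofAdd (0 : ZMod p)) ≠ Multiplicative.ofAdd (1 : ZMod p) := by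
    have : Fact (1 < p) := ⟨hp.one_lt⟩
    intro h
    exact zero_ne_one (Multiplicative.ofAdd.injective h)
  have key := congrArg (fun χ => χ (φ (ConstGrp.e R (Multiplicative.ofAdd (0 : ZMod p)))))
    (hψ (Multiplicative.ofAdd (0 : ZMod p)) (Multiplicative.ofAdd (1 : ZMod p)))
  simp only [ψ, AlgHom.comp_apply] at key
  have hsymm : (φ.symm.toAlgEquiv : MonoidAlgebra R (Multiplicative (ZMod p)) →ₐ[R] _)
      (φ (ConstGrp.e R (Multiplicative.ofAdd (0 : ZMod p)))) =
      ConstGrp.e R (Multiplicative.ofAdd (0 : ZMod p)) := φ.symm_apply_apply _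
  rw [hsymm, ConstGrp.ev_apply, ConstGrp.ev_apply, ConstGrp.e_apply_self,
    ConstGrp.e_apply_of_ne h01.symm, map_one, map_zero] at key
  exact one_ne_zero key

end Groth.Agent.S16072
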