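import Groth.Statements.S16073
-- import your own Groth.Agent.* helpers here

set_option autoImplicit false
universe u
open Hopf

namespace Groth.Agent.S16073

/-- Let p be a prime and R a commutative ring of characteristic p (p = 0 in R, R nonzero). Then the
constant group scheme ℤ/p and α_p over Spec R are not isomorphic: there is no R-bialgebra
isomorphism between the Hopf algebra Maps(ℤ/p, R) of functions on the cyclic group of order p and
the Hopf algebra R[X]/(X^p) of α_p (X primitive). (Any nonzero commutative base ring of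
characteristic p is allowed. The published statement allows any ring R with p·R = 0; over the zero
ring both Hopf algebras are the zero ring and hence isomorphic, so R is assumed nonzero here.) -/
theorem result (p : ℕ) [Fact p.Prime] (R : Type u) [CommRing R] [CharP R p] :
    IsEmpty (ConstGrp.F R (Multiplicative (ZMod p)) ≃ₐc[R] AlphaP.A p R) := by
  constructor
  intro φ
  have hp : p.Prime := Fact.out
  have : Nontrivial R := CharP.nontrivial_of_char_ne_one (v := p) hp.ne_one
  obtain ⟨m, hm⟩ := Ideal.exists_maximal R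
  let _ : Field (R ⧸ m) := Ideal.Quotient.field m
  let ψ : Multiplicative (ZMod p) → (AlphaP.A p R →ₐ[R] (R ⧸ m)) :=
    fun g => ((Algebra.ofId R (R ⧸ m)).comp (ConstGrp.ev R g)).comp
      (φ.symm.toAlgEquiv : AlphaP.A p R →ₐ[R] _)
  have hx : ∀ χ : AlphaP.A p R →ₐ[R] (R ⧸ m), χ (AlphaP.x p R) = 0 := by
    intro χ
    have h : χ (AlphaP.x p R) ^ p = 0 := by rw [← map_pow, AlphaP.x_pow, map_zero]
    exact (pow_eq_zero_iff hp.ne_zero).mp h
  have hψ : ∀ g h, ψ g = ψ h := by
    intro g h
    apply AlphaP.algHom_ext
    rw [hx, hx]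
  have h01 : (Multiplicative.ofAdd (0 : ZMod p)) ≠ Multiplicative.ofAdd (1 : ZMod p) := by
    have : Fact (1 < p) := ⟨hp.one_lt⟩
    intro h
    exact zero_ne_one (Multiplicative.ofAdd.injective h)
  have key := congrArg (fun χ => χ (φ (ConstGrp.e R (Multiplicative.ofAdd (0 : ZMod p)))))
    (hψ (Multiplicative.ofAdd (0 : ZMod p)) (Multiplicative.ofAdd (1 : ZMod p)))
  simp only [ψ, AlgHom.comp_apply] at key
  have hsymm : (φ.symm.toAlgEquiv : AlphaP.A p R →ₐ[R] _)
      (φ (ConstGrp.e R (Multiplicative.ofAdd (0 : ZMod p)))) =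
      ConstGrp.e R (Multiplicative.ofAdd (0 : ZMod p)) := φ.symm_apply_apply _
  rw [hsymm, ConstGrp.ev_apply, ConstGrp.ev_apply, ConstGrp.e_apply_self,
    ConstGrp.e_apply_of_ne h01.symm, map_one, map_zero] at key
  exact one_ne_zero key

end Groth.Agent.S16073
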