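import Groth.Statements.S16074
-- import your own Groth.Agent.* helpers here

set_option autoImplicit false
universe u
open Hopf

namespace Groth.Agent.S16074

open TensorProduct

section Prim

variable {R : Type u} [CommRing R] {G : Type*} [Group G] [DecidableEq G]

/-- coefficient functional -/
noncomputable def cf (g : G) : MonoidAlgebra R G →ₗ[R] R :=
  (Finsupp.lapply g) ∘ₗ (MonoidAlgebra.coeffLinearEquiv R).toLinearMap

theorem cf_single (g h : G) (r : R) : cf g (MonoidAlgebra.single h r) = if h = g then r else 0 := by
  simp [cf, Finsupp.single_apply]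

/-- the functional `c_g ⊗ c_g` followed by multiplication -/
noncomputable def Tf (g : G) : MonoidAlgebra R G ⊗[R] MonoidAlgebra R G →ₗ[R] R :=
  LinearMap.mul' R R ∘ₗ TensorProduct.map (cf g) (cf g)

theorem Tf_tmul (g : G) (a b : MonoidAlgebra R G) : Tf g (a ⊗ₜ[R] b) = cf g a * cf g b := by
  simp [Tf]

theorem Tf_comul (g : G) (a : MonoidAlgebra R G) : Tf g (Coalgebra.comul (R := R) a) = cf g a := by
  induction a using MonoidAlgebra.induction_linear with
  | zero => simp
  | add x y hx hy => simp only [map_add, hx, hy]
  | single h r =>
    rw [MonoidAlgebra.comul_single, CommSemiring.comul_apply, TensorProduct.map_tmul,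
      MonoidAlgebra.lsingle_apply, MonoidAlgebra.lsingle_apply, Tf_tmul, cf_single, cf_single]
    split_ifs <;> simp

/-- The group algebra has no nonzero primitive element. -/
theorem primitive_eq_zero (a : MonoidAlgebra R G)
    (ha : Coalgebra.comul (R := R) a = a ⊗ₜ[R] 1 + 1 ⊗ₜ[R] a) : a = 0 := by
  have key : ∀ g : G, cf g a = 0 := by
    intro g
    have h := congrArg (Tf g) ha
    rw [Tf_comul, map_add, Tf_tmul, Tf_tmul, MonoidAlgebra.one_def, cf_single] at h
    by_cases hg : (1 : G) = g
    · rw [if_pos hg, mul_one, one_mul] at h
      have : cf g a + cf g a = cf g a + 0 := by rw [add_zero]; exact h.symm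
      exact add_left_cancel this
    · rw [if_neg hg, mul_zero, zero_mul, add_zero] at h
      exact h
  apply (MonoidAlgebra.coeffLinearEquiv R).injective
  ext g
  simpa [cf] using key g

end Prim

/-- Let p be a prime and R a commutative ring of characteristic p (p = 0 in R, R nonzero). Then μ_p and
α_p over Spec R are not isomorphic: there is no R-bialgebra isomorphism between the group algebra
R[ℤ/p] of the cyclic group of order p (group elements group-like) and the Hopf algebra R[X]/(X^p) of
α_p (X primitive), although the underlying R-algebras R[ℤ/p] = R[Y]/(Y^p) and R[X]/(X^p) are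
isomorphic. (Any nonzero commutative base ring of characteristic p is allowed. The published
statement allows any ring R with p·R = 0; over the zero ring both Hopf algebras are the zero ring
and hence isomorphic, so R is assumed nonzero here.) -/
theorem result (p : ℕ) [Fact p.Prime] (R : Type u) [CommRing R] [CharP R p] :
    IsEmpty (MonoidAlgebra R (Multiplicative (ZMod p)) ≃ₐc[R] AlphaP.A p R) := by
  constructor
  intro φ
  have hp : p.Prime := Fact.out
  have : Nontrivial R := CharP.nontrivial_of_char_ne_one (v := p) hp.ne_one
  have hprim : Coalgebra.comul (R := R) (φ.symm (AlphaP.x p R)) =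
      φ.symm (AlphaP.x p R) ⊗ₜ[R] 1 + 1 ⊗ₜ[R] φ.symm (AlphaP.x p R) := by
    rw [← CoalgHomClass.map_comp_comul_apply, AlphaP.comul_x, map_add, TensorProduct.map_tmul,
      TensorProduct.map_tmul]
    simp
  have h0 := primitive_eq_zero _ hprim
  have hx0 : AlphaP.x p R = 0 := by
    have := congrArg φ h0
    rwa [φ.apply_symm_apply, map_zero] at this
  have hne : AlphaP.x p R ≠ 0 := by
    have h1 := (AlphaP.basis p R).ne_zero ⟨1, hp.one_lt⟩
    rwa [AlphaP.basis_apply, pow_one] at h1
  exact hne hx0

end Groth.Agent.S16074
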