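import Groth.Statements.S16075
import Groth.Agent.Lib.Helper24AlphaP

set_option autoImplicit false
universe u
open Hopf

namespace Groth.Agent.S16075

open TensorProduct Finset Groth.Agent.Lib.Helper24

section Aux

set_option linter.unusedSectionVars false

variable (p : ℕ) [hp : Fact p.Prime] (T : Type u) [CommRing T] [CharP T p]

theorem δ_one_mul_δ (k : ℕ) :
    δ p T 1 * δ p T k = ((k + 1 : ℕ) : T) • δ p T (k + 1) := by
  apply D_ext p T
  intro m hm
  rw [conv_apply_x_pow, CartDual.coe_apply, WithConv.ofConv_smul, LinearMap.smul_apply,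
    ← CartDual.coe_apply, δ_apply, smul_eq_mul]
  rcases Nat.eq_zero_or_pos m with rfl | hm0
  · rw [sum_range_one, δ_one_apply, if_neg (by omega), if_neg (by omega)]
    simp
  · rw [sum_eq_single 1]
    · rw [δ_one_apply, if_pos rfl, Nat.choose_one_right, δ_apply, one_mul]
      by_cases h : k = m - 1
      · have h2 : k + 1 = m := by omega
        rw [if_pos ⟨h, by omega⟩, if_pos ⟨h2, hm⟩, h2]
      · have h2 : ¬ k + 1 = m := by omega
        rw [if_neg (fun hh => h hh.1), if_neg (fun hh => h2 hh.1)]
        simp
    · intro j _ hj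
      rw [δ_one_apply, if_neg hj]
      simp
    · intro h
      exact absurd (mem_range.mpr (by omega)) h

theorem δ_zero_apply (a : AlphaP.A p T) : δ p T 0 a = Coalgebra.counit (R := T) a := by
  have : (δ p T 0).ofConv = Coalgebra.counit (R := T) := by
    apply dual_ext p T
    intro i hi
    rw [← CartDual.coe_apply, δ_apply, counit_x_pow]
    by_cases h : i = 0
    · rw [if_pos h, if_pos ⟨h.symm, hi⟩]
    · rw [if_neg h, if_neg (fun hh => h hh.1.symm)]
  rw [CartDual.coe_apply, this]

/-- a primitive element of alpha_p with vanishing counit is a multiple of `x` -/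
theorem primitive_eq (a : AlphaP.A p T)
    (ha : Coalgebra.comul (R := T) a = a ⊗ₜ[T] 1 + 1 ⊗ₜ[T] a)
    (hε : Coalgebra.counit (R := T) a = 0) : a = (δ p T 1 a) • AlphaP.x p T := by
  have hconv : ∀ y z : CartDual.D T (AlphaP.A p T), (y * z) a = y a * z 1 + y 1 * z a := by
    intro y z
    rw [LinearMap.convMul_apply, ha, map_add, map_add, TensorProduct.map_tmul,
      TensorProduct.map_tmul, LinearMap.mul'_apply, LinearMap.mul'_apply]
  have hzero : ∀ i, i < p → i ≠ 1 → δ p T i a = 0 := by
    intro i hi hi1
    rcases Nat.eq_zero_or_pos i with rfl | hi0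
    · rw [δ_zero_apply, hε]
    · obtain ⟨k, rfl⟩ : ∃ k, i = k + 1 := ⟨i - 1, by omega⟩
      have hk : k ≠ 0 := by omega
      have h1 := hconv (δ p T 1) (δ p T k)
      rw [δ_one_mul_δ, δ_apply_one, δ_apply_one, if_neg hk, if_neg one_ne_zero, mul_zero,
        zero_mul, add_zero, CartDual.coe_apply, WithConv.ofConv_smul, LinearMap.smul_apply,
        ← CartDual.coe_apply, smul_eq_mul] at h1
      have hu : IsUnit ((k + 1 : ℕ) : T) := by
        rw [CharP.isUnit_natCast_iff hp.out]
        exact Nat.not_dvd_of_pos_of_lt (by omega) hi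
      exact (hu.mul_right_eq_zero).mp h1
  conv_lhs => rw [← sum_δ_smul p T a]
  rw [sum_eq_single (⟨1, hp.out.one_lt⟩ : Fin p)]
  · simp
  · intro i _ hi
    have : (i : ℕ) ≠ 1 := fun h => hi (Fin.ext h)
    rw [hzero i i.2 this, zero_smul]
  · intro h; exact absurd (mem_univ _) h

theorem smul_x_pow (c : T) : (c • AlphaP.x p T) ^ p = 0 := by
  rw [smul_pow, AlphaP.x_pow, smul_zero]

/-- the scaling endomorphism of alpha_p -/
noncomputable def scale (c : T) : AlphaP.A p T →ₐc[T] AlphaP.A p T :=
  BialgHom.ofAlgHom (AlphaP.lift p T (c • AlphaP.x p T) (smul_x_pow p T c))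
    (by
      apply AlphaP.algHom_ext
      rw [AlgHom.comp_apply, AlphaP.lift_x, Bialgebra.counitAlgHom_apply, map_smul,
        AlphaP.counit_x, smul_zero, Bialgebra.counitAlgHom_apply, AlphaP.counit_x])
    (by
      apply AlphaP.algHom_ext
      rw [AlgHom.comp_apply, AlgHom.comp_apply, AlphaP.lift_x, Bialgebra.comulAlgHom_apply,
        Bialgebra.comulAlgHom_apply, map_smul, AlphaP.comul_x, map_add,
        Algebra.TensorProduct.map_tmul, Algebra.TensorProduct.map_tmul, AlphaP.lift_x, map_one,
        smul_add, TensorProduct.smul_tmul', TensorProduct.tmul_smul])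

theorem scale_x (c : T) : scale p T c (AlphaP.x p T) = c • AlphaP.x p T :=
  AlphaP.lift_x (p := p) (c • AlphaP.x p T) (smul_x_pow p T c)

end Aux

/-- Let p be a prime, T a commutative ring of characteristic p (p = 0 in T, T nonzero) and A =
T[X]/(X^p) the Hopf algebra of α_p over Spec T, with X primitive. Then the endomorphisms of the
T-group α_{p,T} are exactly the scalings: every T-bialgebra endomorphism f of A has f(X) = λ·X for a
unique λ ∈ T, and for every λ ∈ T there is a T-bialgebra endomorphism f of A with f(X) = λ·X. So the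
endomorphisms of α_{p,T} correspond bijectively to the elements of T. (Only this bijection is
stated; that it turns addition and composition of endomorphisms into addition and multiplication in
T, and its naturality in T, are not stated here. The zero ring, allowed as T in the published
statement, is excluded by the characteristic hypothesis here.) -/
theorem result (p : ℕ) [Fact p.Prime] (T : Type u) [CommRing T] [CharP T p] :
    (∀ f : AlphaP.A p T →ₐc[T] AlphaP.A p T, ∃! c : T, f (AlphaP.x p T) = c • AlphaP.x p T) ∧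
      (∀ c : T, ∃ f : AlphaP.A p T →ₐc[T] AlphaP.A p T, f (AlphaP.x p T) = c • AlphaP.x p T) := by
  refine ⟨fun f => ?_, fun c => ⟨scale p T c, scale_x p T c⟩⟩
  have hprim : Coalgebra.comul (R := T) (f (AlphaP.x p T)) =
      f (AlphaP.x p T) ⊗ₜ[T] 1 + 1 ⊗ₜ[T] f (AlphaP.x p T) := by
    rw [← CoalgHomClass.map_comp_comul_apply, AlphaP.comul_x, map_add, TensorProduct.map_tmul,
      TensorProduct.map_tmul]
    simp
  have hε : Coalgebra.counit (R := T) (f (AlphaP.x p T)) = 0 := by
    rw [CoalgHomClass.counit_comp_apply, AlphaP.counit_x]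
  refine ⟨δ p T 1 (f (AlphaP.x p T)), primitive_eq p T _ hprim hε, ?_⟩
  intro c hc
  rw [hc, map_smul, ← pow_one (AlphaP.x p T), δ_one_apply, if_pos rfl, smul_eq_mul, mul_one]

end Groth.Agent.S16075
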