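import Groth.Statements.S16076
import Groth.Agent.Lib.Helper24AlphaP

set_option autoImplicit false
universe u
open scoped TensorProduct
open Versch

namespace Groth.Agent.S16076

open TensorProduct Finset Groth.Agent.Lib.Helper24

section Aux

variable (p : ℕ) [hp : Fact p.Prime] (R : Type u) [CommRing R] [CharP R p]

/-- the `p`-th convolution power of a linear form on alpha_p -/
theorem pow_p_eq (y : CartDual.D R (AlphaP.A p R)) :
    y ^ p = algebraMap R (CartDual.D R (AlphaP.A p R)) ((y 1) ^ p) := by
  set n : CartDual.D R (AlphaP.A p R) := y - algebraMap R (CartDual.D R (AlphaP.A p R)) (y 1) with hn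
  have hn1 : n 1 = 0 := by
    rw [hn, CartDual.coe_apply, WithConv.ofConv_sub, LinearMap.sub_apply, ← CartDual.coe_apply,
      ← CartDual.coe_apply, LinearMap.convAlgebraMap_apply]
    simp
  have hnp : n ^ p = 0 := by
    apply D_ext p R
    intro i hi
    rw [pow_apply_eq_zero p R n hn1 p i hi]; rfl
  have hy : y = n + algebraMap R (CartDual.D R (AlphaP.A p R)) (y 1) := by rw [hn]; ring
  conv_lhs => rw [hy]
  rw [add_pow_char, hnp, zero_add, map_pow]

end Aux

/-- Let p be a prime, R a commutative ring of characteristic p and A = R[X]/(X^p) the Hopf algebra of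
α_p over Spec R, with X primitive. Let v : A → A ⊗_R R^(Frob) be the comorphism of the Verschiebung
V : α_p^(p) → α_p (the ring map whose transpose under the canonical pairing is the relative
Frobenius of the dual Hopf algebra Hom_R(A, R)). Then V is the trivial homomorphism: v is the
composite of the counit ε : A → R, the identity of underlying rings R → R^(Frob) and the inclusion
of the twisted factor R^(Frob) → A ⊗_R R^(Frob), i.e. v(a) = 1 ⊗ ε(a). (Any commutative base ring of
characteristic p is allowed.) -/
theorem result (p : ℕ) [Fact p.Prime] (R : Type u) [CommRing R] [CharP R p]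
    (v : AlphaP.A p R →+* FrobAlg.BaseChange p R (AlphaP.A p R))
    (hv : Versch.IsVerschiebung p R (AlphaP.A p R) v) :
    v = ((Algebra.TensorProduct.includeRight (R := R) (A := AlphaP.A p R) (B := FrobAlg.Twist p R)).toRingHom.comp
          (FrobAlg.toTwist p R).toRingHom).comp (Bialgebra.counitAlgHom R (AlphaP.A p R)).toRingHom := by
  apply Versch.IsVerschiebung.unique p R (AlphaP.A p R) hv
  rw [Versch.isVerschiebung_iff]
  intro a y
  have h1 : (((Algebra.TensorProduct.includeRight (R := R) (A := AlphaP.A p R)
      (B := FrobAlg.Twist p R)).toRingHom.comp (FrobAlg.toTwist p R).toRingHom).comp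
        (Bialgebra.counitAlgHom R (AlphaP.A p R)).toRingHom) a =
      (1 : AlphaP.A p R) ⊗ₜ[R] FrobAlg.toTwist p R (Coalgebra.counit (R := R) a) := rfl
  rw [h1, Versch.evTw_tmul', pow_p_eq, LinearMap.convAlgebraMap_apply, ← map_mul]
  simp

end Groth.Agent.S16076
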