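import Groth.Statements.S16082
import Groth.Agent.Lib.Helper28HomShStalk2
import Groth.Agent.Lib.Helper2FPAff

set_option autoImplicit false
universe u
open CategoryTheory CategoryTheory.Limits AlgebraicGeometry TopologicalSpace
open SDiv

namespace Groth.Agent.S16082

/-- Let X be an integral scheme and F, G quasi-coherent O_X-modules with F of finite presentation and G
torsion free (every stalk G_x is a torsion-free module over the domain O_{X,x}). Then every stalk of
the sheaf Hom 𝓗om_{O_X}(F, G) is torsion free as well. -/
theorem result (X : Scheme.{u}) [IsIntegral X] (F G : X.Modules) (hF : Coh.IsQCoh F)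
    (hFp : CohB1.IsFP F) (hG : Coh.IsQCoh G) (hGt : TorSh.IsTorsionFree G) :
    TorSh.IsTorsionFree (RefHull.homSh F G) := by
  intro x
  haveI : SheafOfModules.IsFinitePresentation (R := X.ringCatSheaf) F := hFp
  haveI : F.IsQuasicoherent := hF
  obtain ⟨U, hU0, hx, -⟩ :=
    (TopologicalSpace.Opens.isBasis_iff_nbhd.1 X.isBasis_affineOpens)
      (TopologicalSpace.Opens.mem_top x)
  have hU : IsAffineOpen U := hU0
  haveI : Module.FinitePresentation Γ(X, U) Γ(F, U) :=
    Groth.Agent.Lib.Helper2.FPAff.finitePresentation_sections F hU
  have hinj : Function.Injective (RefHull.evalStalk F G x) :=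
    Groth.Agent.Lib.Helper28.HomSh.evalStalk_injective_of_finite F G hU x hx
  haveI := hGt x
  refine ⟨fun r hr a b hab => hinj ?_⟩
  refine LinearMap.ext fun v => ?_
  have h1 : r • RefHull.evalStalk F G x a = r • RefHull.evalStalk F G x b := by
    rw [← map_smul, ← map_smul]
    exact congrArg _ hab
  have h2 := LinearMap.congr_fun h1 v
  rw [LinearMap.smul_apply, LinearMap.smul_apply] at h2
  exact (Module.IsTorsionFree.isSMulRegular hr) h2

end Groth.Agent.S16082
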