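import Groth.Statements.S16083
import Groth.Agent.Lib.Helper28GenHom
import Groth.Agent.Lib.Helper28BidStalk
import Groth.Agent.Lib.Helper20CDivOrd

set_option autoImplicit false
universe u
open CategoryTheory CategoryTheory.Limits AlgebraicGeometry TopologicalSpace
open SDiv

namespace Groth.Agent.S16083

/-- Suppose X is a normal scheme that is integral and locally Noetherian, write η for its generic point,
let F and G be coherent O_X-modules, and let T : G_η → F_η be an O_{X,η}-linear map of generic
stalks. Then T extends to a morphism G ⟶ F^** — there is a morphism ψ whose stalk map at η is T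
followed by the stalk map at η of the canonical map F ⟶ F^** — if and only if for every point x with
dim O_{X,x} = 1 the map T sends the image of G_x in G_η into the image of F_x in F_η. -/
theorem result (X : Scheme.{u}) [IsIntegral X] [IsLocallyNoetherian X]
    (hX : Pi1.IsNormalScheme X) (F G : X.Modules) (hF : Coh.IsCoh F) (hG : Coh.IsCoh G)
    (T : ↑(G.presheaf.stalk (genericPoint ↥X)) →ₗ[↑(X.presheaf.stalk (genericPoint ↥X))]
      ↑(F.presheaf.stalk (genericPoint ↥X))) :
    (∃ ψ : G ⟶ RefHull.ddual F, RefHull.stalkMapₗ ψ (genericPoint ↥X) =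
        (RefHull.stalkMapₗ (RefHull.bidualMap F) (genericPoint ↥X)).comp T) ↔
      ∀ x : ↥X, ringKrullDim ↑(X.presheaf.stalk x) = 1 →
        Set.MapsTo ⇑T
          (Set.range ⇑(G.presheaf.stalkSpecializes ((genericPoint_spec ↥X).specializes (Set.mem_univ x))).hom)
          (Set.range ⇑(F.presheaf.stalkSpecializes ((genericPoint_spec ↥X).specializes (Set.mem_univ x))).hom) := by
  open Groth.Agent.Lib.Helper28.GenHom Groth.Agent.Lib.Helper28.BidStalk
    Groth.Agent.Lib.Helper28.ReflNormal Groth.Agent.Lib.Helper28.HomSh in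
  have hco : ∀ x : ↥X, ringKrullDim ↑(X.presheaf.stalk x) = 1 ↔ Order.coheight x = 1 := by
    intro x
    rw [ringKrullDim_stalk_eq_coheight]
    constructor
    · intro h; exact_mod_cast h
    · intro h; rw [h]; rfl
  constructor
  · rintro ⟨ψ, hψ⟩ x hx v ⟨g, rfl⟩
    have hx1 := (hco x).1 hx
    haveI := Groth.Agent.Lib.Helper20.CDivOrd.isDiscreteValuationRing_stalk hX x hx1
    obtain ⟨w, hw⟩ := surjective_stalkMapₗ_bidualMap_of_pid F hF x (RefHull.stalkMapₗ ψ x g)
    refine ⟨w, ?_⟩
    haveI := finite_stalk_of_isCoh F hF (genericPoint ↥X)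
    haveI : Module.Free (X.presheaf.stalk (genericPoint ↥X)) (F.presheaf.stalk (genericPoint ↥X)) :=
      Module.Free.of_divisionRing (X.presheaf.stalk (genericPoint ↥X))
        (F.presheaf.stalk (genericPoint ↥X))
    apply injective_stalkMapₗ_bidualMap_of_projective F hF (genericPoint ↥X)
    have h1 := stalkSpecializes_stalkMapₗ (RefHull.bidualMap F)
      ((genericPoint_spec ↥X).specializes (Set.mem_univ x)) w
    have h2 := stalkSpecializes_stalkMapₗ ψ
      ((genericPoint_spec ↥X).specializes (Set.mem_univ x)) g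
    rw [hw] at h1
    rw [hψ, LinearMap.comp_apply] at h2
    exact h1.symm.trans h2
  · intro h
    refine exists_hom_of_generic hX G (RefHull.ddual F) (isCoh_ddual F hF) (isReflexive_ddual F hF)
      ((RefHull.stalkMapₗ (RefHull.bidualMap F) (genericPoint ↥X)).comp T) ?_
    intro y hy v
    obtain ⟨w, hw⟩ := h y ((hco y).2 hy) ⟨v, rfl⟩
    refine ⟨RefHull.stalkMapₗ (RefHull.bidualMap F) y w, ?_⟩
    rw [stalkSpecializes_stalkMapₗ, LinearMap.comp_apply]
    congr 1

end Groth.Agent.S16083
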