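import Groth.Statements.S16085
import Groth.Agent.Lib.Helper28RefGroup

set_option autoImplicit false
universe u
open CategoryTheory CategoryTheory.Limits AlgebraicGeometry TopologicalSpace
open SDiv

namespace Groth.Agent.S16085

/-- Let X be an integral locally Noetherian normal scheme. Sending (F, G) to the reflexive hull (F
⊗_{O_X} G)^** makes the isomorphism classes of rank one coherent reflexive O_X-modules into an
abelian group: on that set there are a commutative and associative composition law, a neutral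
element and inverses, such that the product of the classes of F and G is the class of the reflexive
hull of F ⊗_{O_X} G, the neutral element is the class of O_X, and the inverse of the class of F is
the class of its dual 𝓗om_{O_X}(F, O_X). -/
theorem result (X : Scheme.{u}) [IsIntegral X] [IsLocallyNoetherian X] (hX : Pi1.IsNormalScheme X) :
    ∃ (mul : {c : PicF.Cl X // ∃ F : X.Modules, PicF.cl F = c ∧ RefHull.IsRef1 F} →
          {c : PicF.Cl X // ∃ F : X.Modules, PicF.cl F = c ∧ RefHull.IsRef1 F} →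
            {c : PicF.Cl X // ∃ F : X.Modules, PicF.cl F = c ∧ RefHull.IsRef1 F})
      (one : {c : PicF.Cl X // ∃ F : X.Modules, PicF.cl F = c ∧ RefHull.IsRef1 F})
      (inv : {c : PicF.Cl X // ∃ F : X.Modules, PicF.cl F = c ∧ RefHull.IsRef1 F} →
          {c : PicF.Cl X // ∃ F : X.Modules, PicF.cl F = c ∧ RefHull.IsRef1 F}),
      (∀ a b, mul a b = mul b a) ∧ (∀ a b c, mul (mul a b) c = mul a (mul b c)) ∧ (∀ a, mul one a = a) ∧
        (∀ a, mul (inv a) a = one) ∧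
        (∀ (F G : X.Modules) (hF : RefHull.IsRef1 F) (hG : RefHull.IsRef1 G),
          (mul ⟨PicF.cl F, F, rfl, hF⟩ ⟨PicF.cl G, G, rfl, hG⟩).1 = PicF.cl (RefHull.ddual (CohB1.tensorMod F G))) ∧
        one.1 = PicF.cl (Coh.structureModule X) ∧
        (∀ (F : X.Modules) (hF : RefHull.IsRef1 F), (inv ⟨PicF.cl F, F, rfl, hF⟩).1 = PicF.cl (RefHull.dual F)) := by
  classical
  open Groth.Agent.Lib.Helper28.RefGroup Groth.Agent.Lib.Helper28.HomShFun
    Groth.Agent.Lib.Helper23.AmpleIso in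
  have cl_eq : ∀ {A B : X.Modules}, Nonempty (A ≅ B) → PicF.cl A = PicF.cl B := fun h => Quot.sound h
  have cl_exact : ∀ {A B : X.Modules}, PicF.cl A = PicF.cl B → Nonempty (A ≅ B) := by
    intro A B h
    have heq : Equivalence fun L L' : X.Modules => Nonempty (L ≅ L') :=
      ⟨fun L => ⟨Iso.refl L⟩, fun ⟨e⟩ => ⟨e.symm⟩, fun ⟨e⟩ ⟨e'⟩ => ⟨e ≪≫ e'⟩⟩
    exact (heq.eqvGen_iff).1 (Quot.eqvGen_exact h)
  let rep : {c : PicF.Cl X // ∃ F : X.Modules, PicF.cl F = c ∧ RefHull.IsRef1 F} → X.Modules :=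
    fun a => Classical.choose a.2
  have hrep : ∀ a : {c : PicF.Cl X // ∃ F : X.Modules, PicF.cl F = c ∧ RefHull.IsRef1 F},
      PicF.cl (rep a) = a.1 ∧ RefHull.IsRef1 (rep a) := fun a => Classical.choose_spec a.2
  have hrepIso : ∀ (a : {c : PicF.Cl X // ∃ F : X.Modules, PicF.cl F = c ∧ RefHull.IsRef1 F})
      (F : X.Modules), PicF.cl F = a.1 → Nonempty (rep a ≅ F) :=
    fun a F h => cl_exact ((hrep a).1.trans h.symm)
  refine ⟨fun a b => ⟨PicF.cl (RefHull.ddual (CohB1.tensorMod (rep a) (rep b))), _, rfl,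
      isRef1_ddual_tensorMod hX _ _ (hrep a).2 (hrep b).2⟩,
    ⟨PicF.cl (Coh.structureModule X), _, rfl, isRef1_structureModule⟩,
    fun a => ⟨PicF.cl (RefHull.dual (rep a)), _, rfl, isRef1_dual hX _ (hrep a).2⟩,
    ?_, ?_, ?_, ?_, ?_, rfl, ?_⟩
  · intro a b
    exact Subtype.ext (cl_eq ⟨ddualIso (tensorBraid _ _)⟩)
  · intro a b c
    refine Subtype.ext (cl_eq ?_)
    obtain ⟨e1⟩ := hrepIso ⟨PicF.cl (RefHull.ddual (CohB1.tensorMod (rep a) (rep b))), _, rfl,
      isRef1_ddual_tensorMod hX _ _ (hrep a).2 (hrep b).2⟩ _ rfl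
    obtain ⟨e2⟩ := hrepIso ⟨PicF.cl (RefHull.ddual (CohB1.tensorMod (rep b) (rep c))), _, rfl,
      isRef1_ddual_tensorMod hX _ _ (hrep b).2 (hrep c).2⟩ _ rfl
    obtain ⟨e3⟩ := nonempty_assoc_iso hX (rep a) (rep b) (rep c) (hrep a).2 (hrep b).2 (hrep c).2
    exact ⟨ddualIso (tensorModIso e1 (Iso.refl _)) ≪≫ e3 ≪≫
      (ddualIso (tensorModIso (Iso.refl _) e2)).symm⟩
  · intro a
    refine Subtype.ext ((cl_eq ?_).trans (hrep a).1)
    obtain ⟨e1⟩ := hrepIso ⟨PicF.cl (Coh.structureModule X), _, rfl, isRef1_structureModule⟩ _ rfl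
    obtain ⟨e2⟩ := nonempty_unit_iso (rep a) (hrep a).2
    exact ⟨ddualIso (tensorModIso e1 (Iso.refl _)) ≪≫ e2⟩
  · intro a
    refine Subtype.ext (cl_eq ?_)
    obtain ⟨e1⟩ := hrepIso ⟨PicF.cl (RefHull.dual (rep a)), _, rfl, isRef1_dual hX _ (hrep a).2⟩ _ rfl
    obtain ⟨e2⟩ := nonempty_inv_iso hX (rep a) (hrep a).2
    exact ⟨ddualIso (tensorModIso e1 (Iso.refl _)) ≪≫ e2⟩
  · intro F G hF hG
    refine cl_eq ?_
    obtain ⟨e1⟩ := hrepIso ⟨PicF.cl F, F, rfl, hF⟩ F rfl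
    obtain ⟨e2⟩ := hrepIso ⟨PicF.cl G, G, rfl, hG⟩ G rfl
    exact ⟨ddualIso (tensorModIso e1 e2)⟩
  · intro F hF
    refine cl_eq ?_
    obtain ⟨e1⟩ := hrepIso ⟨PicF.cl F, F, rfl, hF⟩ F rfl
    exact ⟨dualIso e1⟩

end Groth.Agent.S16085
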