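import Groth.Statements.S16090
import Groth.Agent.Lib.Helper28RefOrd

set_option autoImplicit false
universe u
open CategoryTheory CategoryTheory.Limits AlgebraicGeometry TopologicalSpace
open SDiv

namespace Groth.Agent.S16090

/-- The class map is additive for the reflexive tensor product: suppose X is a scheme that is integral,
normal and locally Noetherian, write η for its generic point, and take F and G to be rank one
coherent reflexive O_X-modules with s ∈ F_η, t ∈ G_η nonzero rational sections, with orders
ord_{x,F}(s), ord_{x,G}(t) at the points x of codimension 1 taken with respect to generators of the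
free rank one stalks. Then the reflexive hull (F ⊗_{O_X} G)^** admits a nonzero rational section w
whose order at every codimension-1 point x is ord_{x,F}(s) + ord_{x,G}(t); so the Weil divisor class
of (F ⊗ G)^** is the sum of the classes of F and G. -/
theorem result (X : Scheme.{u}) [IsIntegral X] [IsLocallyNoetherian X]
    (hX : Pi1.IsNormalScheme X) (F G : X.Modules) (hF : RefHull.IsRef1 F) (hG : RefHull.IsRef1 G)
    (s : Cyc.secFibre F (genericPoint ↥X)) (hs : s ≠ 0) (t : Cyc.secFibre G (genericPoint ↥X)) (ht : t ≠ 0) :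
    ∃ w : Cyc.secFibre (RefHull.ddual (CohB1.tensorMod F G)) (genericPoint ↥X), w ≠ 0 ∧
      ∀ (x : ↥X), Order.coheight x = 1 →
        Cyc.secOrdAt (RefHull.ddual (CohB1.tensorMod F G)) (genericPoint ↥X) x
            ((genericPoint_spec ↥X).specializes (Set.mem_univ x)) w =
          Cyc.secOrdAt F (genericPoint ↥X) x ((genericPoint_spec ↥X).specializes (Set.mem_univ x)) s +
            Cyc.secOrdAt G (genericPoint ↥X) x ((genericPoint_spec ↥X).specializes (Set.mem_univ x)) t := by
  open Groth.Agent.Lib.Helper28.RefGroup Groth.Agent.Lib.Helper28.RefOrd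
    Groth.Agent.Lib.Helper2.CycC1Tensor Groth.Agent.Lib.Helper2.CycC1
    Groth.Agent.Lib.Helper26.TensStalk TensorProduct in
  obtain ⟨s', rfl⟩ := Submodule.Quotient.mk_surjective _ s
  obtain ⟨t', rfl⟩ := Submodule.Quotient.mk_surjective _ t
  have hfield : IsField (X.presheaf.stalk (genericPoint ↥X)) := Field.toIsField X.functionField
  have hmax : IsLocalRing.maximalIdeal (X.presheaf.stalk (genericPoint ↥X)) = ⊥ :=
    IsLocalRing.isField_iff_maximalIdeal_eq.1 hfield
  haveI : IsDomain (X.presheaf.stalk (genericPoint ↥X)) := hfield.isDomain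
  have hres : ∀ a : X.presheaf.stalk (genericPoint ↥X), a ≠ 0 → X.residue (genericPoint ↥X) a ≠ 0 := by
    intro a ha h0
    have h1 : a ∈ IsLocalRing.maximalIdeal (X.presheaf.stalk (genericPoint ↥X)) :=
      (IsLocalRing.residue_eq_zero_iff _).1 h0
    rw [hmax, Ideal.mem_bot] at h1
    exact ha h1
  -- the local computation
  have key : ∀ (x : ↥X) (_ : x ∈ trivLocus F ⊓ trivLocus G) (h : genericPoint ↥X ⤳ x),
      ∃ (a b : X.presheaf.stalk (genericPoint ↥X))
        (r : (RefHull.ddual (CohB1.tensorMod F G)).presheaf.stalk x), a ≠ 0 ∧ b ≠ 0 ∧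
        Function.Bijective (fun c : X.presheaf.stalk x => c • r) ∧
        Function.Bijective (fun c : X.presheaf.stalk (genericPoint ↥X) =>
          c • (RefHull.ddual (CohB1.tensorMod F G)).presheaf.stalkSpecializes h r) ∧
        RefHull.stalkMapₗ (RefHull.bidualMap (CohB1.tensorMod F G)) (genericPoint ↥X)
            ((tensorStalk F G (genericPoint ↥X)).symm
              (s' ⊗ₜ[X.presheaf.stalk (genericPoint ↥X)] t')) =
          (a * b) • (RefHull.ddual (CohB1.tensorMod F G)).presheaf.stalkSpecializes h r ∧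
        Cyc.secOrdAt F (genericPoint ↥X) x h (Submodule.Quotient.mk s') =
          Cyc.ordAt x (genericPoint ↥X) h (X.residue (genericPoint ↥X) a) ∧
        Cyc.secOrdAt G (genericPoint ↥X) x h (Submodule.Quotient.mk t') =
          Cyc.ordAt x (genericPoint ↥X) h (X.residue (genericPoint ↥X) b) := by
    intro x hxV h
    obtain ⟨W, tF, tG, hxW, hgF, hgG⟩ := exists_local_generators F G x hxV
    have hηW : genericPoint ↥X ∈ W := h.mem_open W.isOpen hxW
    obtain ⟨a, ha⟩ := (hgF _ hηW).2 s'
    obtain ⟨b, hb⟩ := (hgG _ hηW).2 t'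
    have ha' : a • F.presheaf.germ W (genericPoint ↥X) hηW tF = s' := ha
    have hb' : b • G.presheaf.germ W (genericPoint ↥X) hηW tG = t' := hb
    have hspF : F.presheaf.stalkSpecializes h (F.presheaf.germ W x hxW tF) =
        F.presheaf.germ W (genericPoint ↥X) hηW tF :=
      ConcreteCategory.congr_hom (TopCat.Presheaf.germ_stalkSpecializes F.presheaf hxW h) tF
    have hspG : G.presheaf.stalkSpecializes h (G.presheaf.germ W x hxW tG) =
        G.presheaf.germ W (genericPoint ↥X) hηW tG :=
      ConcreteCategory.congr_hom (TopCat.Presheaf.germ_stalkSpecializes G.presheaf hxW h) tG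
    have hspR : (RefHull.ddual (CohB1.tensorMod F G)).presheaf.stalkSpecializes h
        ((RefHull.ddual (CohB1.tensorMod F G)).presheaf.germ W x hxW
          ((RefHull.bidualMap (CohB1.tensorMod F G)).app W (tgen F G W tF tG))) =
        (RefHull.ddual (CohB1.tensorMod F G)).presheaf.germ W (genericPoint ↥X) hηW
          ((RefHull.bidualMap (CohB1.tensorMod F G)).app W (tgen F G W tF tG)) :=
      ConcreteCategory.congr_hom (TopCat.Presheaf.germ_stalkSpecializes
        (RefHull.ddual (CohB1.tensorMod F G)).presheaf hxW h) _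
    refine ⟨a, b, (RefHull.ddual (CohB1.tensorMod F G)).presheaf.germ W x hxW
      ((RefHull.bidualMap (CohB1.tensorMod F G)).app W (tgen F G W tF tG)), ?_, ?_,
      bijective_smul_germ_bidual F G hF.1 hG.1 W tF tG hgF hgG x hxW, ?_, ?_, ?_, ?_⟩
    · rintro rfl
      rw [zero_smul] at ha'
      exact hs (by rw [← ha']; rfl)
    · rintro rfl
      rw [zero_smul] at hb'
      exact ht (by rw [← hb']; rfl)
    · rw [hspR]
      exact bijective_smul_germ_bidual F G hF.1 hG.1 W tF tG hgF hgG _ hηW
    · rw [hspR, ← ha', ← hb']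
      exact stalkMapₗ_bidualMap_tmul F G W tF tG _ hηW a b
    · rw [← ha', ← hspF]
      exact secOrdAt_mk F _ x h _ (hgF x hxW) (by rw [hspF]; exact hgF _ hηW) a
    · rw [← hb', ← hspG]
      exact secOrdAt_mk G _ x h _ (hgG x hxW) (by rw [hspG]; exact hgG _ hηW) b
  have hbig : BigOpen (trivLocus F ⊓ trivLocus G) :=
    (bigOpen_trivLocus hX F hF).inf (bigOpen_trivLocus hX G hG)
  refine ⟨Submodule.Quotient.mk (RefHull.stalkMapₗ (RefHull.bidualMap (CohB1.tensorMod F G))
    (genericPoint ↥X) ((tensorStalk F G (genericPoint ↥X)).symm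
      (s' ⊗ₜ[X.presheaf.stalk (genericPoint ↥X)] t'))), ?_, ?_⟩
  · obtain ⟨a, b, r, ha, hb, -, hbij, hw, -, -⟩ := key (genericPoint ↥X) hbig.nonempty specializes_rfl
    rw [hw]
    intro h0
    rw [Submodule.Quotient.mk_eq_zero, hmax, Submodule.bot_smul, Submodule.mem_bot] at h0
    have h1 : a * b = 0 := hbij.1 (by simpa using h0)
    exact mul_ne_zero ha hb h1
  · intro x hx
    have hdim : ringKrullDim (X.presheaf.stalk x) = 1 := by
      rw [ringKrullDim_stalk_eq_coheight, hx]; rfl
    have hxV : x ∈ trivLocus F ⊓ trivLocus G := by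
      by_contra hcon
      have := hbig x hcon
      rw [hdim] at this
      exact absurd this (by norm_num)
    obtain ⟨a, b, r, ha, hb, hbijx, hbij, hw, hsF, hsG⟩ :=
      key x hxV ((genericPoint_spec ↥X).specializes (Set.mem_univ x))
    rw [hw, hsF, hsG, secOrdAt_mk _ _ x _ r hbijx hbij (a * b), map_mul]
    exact ordAt_mul x _ _ _ _ (hres a ha) (hres b hb)

end Groth.Agent.S16090
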