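import Groth.Statements.S1610
import Groth.Agent.Lib.Helper6BcRed

set_option autoImplicit false
universe u
open CategoryTheory CategoryTheory.Limits AlgebraicGeometry
open Variety

namespace Groth.Agent.S1610

/-- Let k have characteristic p > 0, X a scheme over k and x a point. Then X is geometrically reduced at
x if and only if for every finite purely inseparable extension k' of k and every point x' of X_{k'}
over x, the local ring of X_{k'} at x' is reduced. -/
theorem result (k : Type u) [Field k] (p : ℕ) [Fact p.Prime] [CharP k p]
    (X : Scheme.{u}) [X.Over (Spec (CommRingCat.of k))] (x : X) :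
    Curv2.IsGeomReducedAt k X x ↔
      ∀ (k' : Type u) [Field k'] [Algebra k k'] [FiniteDimensional k k'] [IsPurelyInseparable k k']
        (x' : Curv2.bc k X k'), Curv2.bcFst k X k' x' = x → IsReduced ((Curv2.bc k X k').presheaf.stalk x') := by
  constructor
  · intro h k' _ _ _ _ x' hx'
    exact h k' x' hx'
  · intro h2
    haveI := Groth.Agent.Lib.Helper6.BcRed.isGeometricallyReduced_stalk_of_purelyInseparable k X x h2
    exact Groth.Agent.Lib.Helper6.BcRed.isGeomReducedAt_of_isGeometricallyReduced_stalk k X x

end Groth.Agent.S1610
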