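import Groth.Statements.S16103
import Groth.Agent.Lib.Helper21NNBC2

set_option autoImplicit false
universe u
open Coherent

namespace Groth.Agent.S16103

open AlgebraicGeometry CategoryTheory Scheme.Modules in
/-- Let π : X → Y be proper of finite presentation, F a quasi-coherent O_X-module of finite
presentation, flat over Y, and q a natural number such that H^q(X_y, F|_{X_y}) = 0 and H^{q+2}(X_y,
F|_{X_y}) = 0 for every point y of Y (cohomology of the restriction of F to the scheme-theoretic
fibre). Then R^{q+1} π_* F, the (q+1)-st right derived functor of π_* on O_X-modules applied to F,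
is a finite locally free O_Y-module. (The source's statement, with p = q + 2, asks instead of the
vanishing in degree q only that the degree-q base change map to the fibre be surjective at every
point; the vanishing assumed here is the special case in which that map has zero target.) -/
theorem result
    {X Y : Scheme.{u}} (π : X ⟶ Y) [IsProper π] [LocallyOfFinitePresentation π]
    [HasInjectiveResolutions X.Modules]
    (F : X.Modules) [Coh.IsQCoh F] (hfp : CohB1.IsFP F) (hfl : FlatMod.IsFlatOver π F) (q : ℕ)
    (hq : ∀ y : Y, Subsingleton (CohIII.fiberH π F y q))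
    (hq2 : ∀ y : Y, Subsingleton (CohIII.fiberH π F y (q + 2))) :
    FlatMod.IsFinLocFree ((Coh.Rpush π (q + 1)).obj F) := by
  have hb : ∀ y : Y, PerfAux.betti π F y q = 0 := fun y => by
    haveI : Subsingleton (PerfAux.fiberH π F y q) := hq y
    exact Module.finrank_zero_of_subsingleton
  have hb2 : ∀ y : Y, PerfAux.betti π F y (q + 2) = 0 := fun y => by
    haveI : Subsingleton (PerfAux.fiberH π F y (q + 2)) := hq2 y
    exact Module.finrank_zero_of_subsingleton
  refine Groth.Agent.Lib.Helper1.SPL.isFinLocFree_of_local _ (fun y => ?_)
  refine ⟨_, (⊤ : Y.Opens).ι, inferInstance, ?_, ?_⟩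
  · rw [Scheme.Opens.opensRange_ι]
    trivial
  · exact Groth.Agent.Lib.Helper21.NNBC.isFinLocFree_restrict_Rpush π F hfp hfl (q + 1) ⊤
      (fun s _ => hb2 s) (Or.inr (fun s _ => hb s))

end Groth.Agent.S16103
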