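import Groth.Statements.S16104
import Mathlib.RingTheory.Nakayama
import Mathlib.RingTheory.HopkinsLevitzki
import Mathlib.RingTheory.LocalRing.Quotient
import Mathlib.RingTheory.Ideal.Quotient.Noetherian

set_option autoImplicit false
universe u v
open LunaSt

namespace Groth.Agent.S16104

open IsLocalRing

section Aux

set_option linter.unusedSectionVars false

variable {A : Type u} {B : Type v} [CommRing A] [CommRing B] [IsLocalRing A] [IsLocalRing B]
  [IsNoetherianRing A] [IsNoetherianRing B] (φ : A →+* B) [IsLocalHom φ]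

/-- first step: every element of `B` is congruent to an element of `φ A` modulo `m_B`,
with control. -/
theorem step0 (h1 : Function.Surjective ((Ideal.Quotient.mk (maximalIdeal B ^ 2)).comp φ)) (b : B) :
    ∃ a : A, b - φ a ∈ maximalIdeal B ^ 2 := by
  obtain ⟨a, ha⟩ := h1 (Ideal.Quotient.mk _ b)
  refine ⟨a, ?_⟩
  rw [RingHom.comp_apply, Ideal.Quotient.eq] at ha
  rw [← neg_sub]
  exact neg_mem ha

theorem map_max_eq (h1 : Function.Surjective ((Ideal.Quotient.mk (maximalIdeal B ^ 2)).comp φ)) :
    (maximalIdeal A).map φ = maximalIdeal B := by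
  apply le_antisymm (map_maximalIdeal_le φ)
  apply Submodule.le_of_le_smul_of_le_jacobson_bot (I := maximalIdeal B)
    (IsNoetherian.noetherian _) (maximalIdeal_le_jacobson _)
  intro b hb
  obtain ⟨a, ha⟩ := step0 φ h1 b
  have ha2 : b - φ a ∈ maximalIdeal B := Ideal.pow_le_self two_ne_zero ha
  have hφa : φ a ∈ maximalIdeal B := by
    have := sub_mem hb ha2
    rwa [sub_sub_cancel] at this
  have haA : a ∈ maximalIdeal A := by
    rw [← maximalIdeal_comap φ]
    exact hφa
  have : b = φ a + (b - φ a) := by ring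
  rw [this]
  refine Submodule.add_mem_sup (Ideal.mem_map_of_mem φ haA) ?_
  rw [smul_eq_mul, ← sq]
  exact ha

theorem stepn (h1 : Function.Surjective ((Ideal.Quotient.mk (maximalIdeal B ^ 2)).comp φ)) (n : ℕ)
    (c : B) (hc : c ∈ maximalIdeal B ^ n) :
    ∃ a ∈ maximalIdeal A ^ n, c - φ a ∈ maximalIdeal B ^ (n + 1) := by
  rw [← map_max_eq φ h1, ← Ideal.map_pow, Ideal.map, ] at hc
  induction hc using Submodule.span_induction with
  | mem x hx =>
    obtain ⟨a, ha, rfl⟩ := hx
    exact ⟨a, ha, by simp⟩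
  | zero => exact ⟨0, zero_mem _, by simp⟩
  | add x y _ _ hx hy =>
    obtain ⟨a, ha, hxa⟩ := hx
    obtain ⟨a', ha', hya⟩ := hy
    refine ⟨a + a', add_mem ha ha', ?_⟩
    have : x + y - φ (a + a') = (x - φ a) + (y - φ a') := by rw [map_add]; ring
    rw [this]
    exact add_mem hxa hya
  | smul b x _ hx =>
    obtain ⟨a, ha, hxa⟩ := hx
    obtain ⟨a', ha'⟩ := step0 φ h1 b
    have ha'2 : b - φ a' ∈ maximalIdeal B := Ideal.pow_le_self two_ne_zero ha'
    refine ⟨a' * a, Ideal.mul_mem_left _ _ ha, ?_⟩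
    have : b • x - φ (a' * a) = b * (x - φ a) + (b - φ a') * φ a := by
      rw [map_mul, smul_eq_mul]; ring
    rw [this]
    refine add_mem (Ideal.mul_mem_left _ _ hxa) ?_
    have hφa : φ a ∈ maximalIdeal B ^ n := by
      rw [← map_max_eq φ h1, ← Ideal.map_pow]
      exact Ideal.mem_map_of_mem φ ha
    rw [pow_succ']
    exact Ideal.mul_mem_mul ha'2 hφa

theorem surj (h1 : Function.Surjective ((Ideal.Quotient.mk (maximalIdeal B ^ 2)).comp φ)) (n : ℕ)
    (b : B) : ∃ a : A, b - φ a ∈ maximalIdeal B ^ (n + 1) := by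
  induction n with
  | zero =>
    obtain ⟨a, ha⟩ := step0 φ h1 b
    exact ⟨a, Ideal.pow_le_pow_right (by omega) ha⟩
  | succ n ih =>
    obtain ⟨a, ha⟩ := ih
    obtain ⟨a', _, ha'⟩ := stepn φ h1 (n + 1) _ ha
    refine ⟨a + a', ?_⟩
    have : b - φ (a + a') = b - φ a - φ a' := by rw [map_add]; ring
    rw [this]
    exact ha'

theorem finite_length_quot (A : Type u) [CommRing A] [IsLocalRing A] [IsNoetherianRing A] (n : ℕ) :
    Module.length A (A ⧸ maximalIdeal A ^ (n + 1)) ≠ ⊤ := by
  have hne : maximalIdeal A ^ (n + 1) ≠ ⊤ := by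
    intro h
    have h2 : maximalIdeal A ^ (n + 1) ≤ maximalIdeal A := Ideal.pow_le_self (by omega)
    rw [h] at h2
    exact (maximalIdeal.isMaximal A).ne_top (top_le_iff.mp h2)
  have : Nontrivial (A ⧸ maximalIdeal A ^ (n + 1)) := Ideal.Quotient.nontrivial_iff.mpr hne
  have : IsLocalRing (A ⧸ maximalIdeal A ^ (n + 1)) :=
    IsLocalRing.of_surjective' (Ideal.Quotient.mk _) Ideal.Quotient.mk_surjective
  have : IsLocalHom (Ideal.Quotient.mk (maximalIdeal A ^ (n + 1))) :=
    IsLocalHom.of_surjective _ Ideal.Quotient.mk_surjective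
  have hmax : (maximalIdeal A).map (Ideal.Quotient.mk (maximalIdeal A ^ (n + 1))) =
      maximalIdeal (A ⧸ maximalIdeal A ^ (n + 1)) := by
    ext x
    obtain ⟨x, rfl⟩ := Ideal.Quotient.mk_surjective x
    simp [sup_eq_left.mpr (le_maximalIdeal hne)]
  have : IsArtinianRing (A ⧸ maximalIdeal A ^ (n + 1)) := by
    rw [isArtinianRing_iff_isNilpotent_maximalIdeal]
    refine ⟨n + 1, ?_⟩
    rw [← hmax, ← Ideal.map_pow, Ideal.zero_eq_bot, Ideal.map_eq_bot_iff_le_ker, Ideal.mk_ker]
  rw [Module.length_eq_of_surjective (S := A) (R := A ⧸ maximalIdeal A ^ (n + 1))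
    Ideal.Quotient.mk_surjective]
  exact Module.length_ne_top

theorem ker_eq (h1 : Function.Surjective ((Ideal.Quotient.mk (maximalIdeal B ^ 2)).comp φ))
    (hlen : ∀ n : ℕ, Module.length A (A ⧸ maximalIdeal A ^ (n + 1)) =
      Module.length B (B ⧸ maximalIdeal B ^ (n + 1))) (n : ℕ) :
    Function.Surjective ((Ideal.Quotient.mk (maximalIdeal B ^ (n + 1))).comp φ) ∧
    RingHom.ker ((Ideal.Quotient.mk (maximalIdeal B ^ (n + 1))).comp φ) =
      maximalIdeal A ^ (n + 1) := by
  set ψ := (Ideal.Quotient.mk (maximalIdeal B ^ (n + 1))).comp φ with hψ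
  have hψs : Function.Surjective ψ := by
    intro x
    obtain ⟨b, rfl⟩ := Ideal.Quotient.mk_surjective x
    obtain ⟨a, ha⟩ := surj φ h1 n b
    refine ⟨a, ?_⟩
    rw [hψ, RingHom.comp_apply, Ideal.Quotient.eq, ← neg_sub]
    exact neg_mem ha
  refine ⟨hψs, ?_⟩
  have hle : maximalIdeal A ^ (n + 1) ≤ RingHom.ker ψ := by
    intro a ha
    rw [RingHom.mem_ker, hψ, RingHom.comp_apply, Ideal.Quotient.eq_zero_iff_mem]
    have := Ideal.mem_map_of_mem φ ha
    rw [Ideal.map_pow] at this
    exact Ideal.pow_right_mono (map_maximalIdeal_le φ) _ this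
  apply le_antisymm _ hle
  let _ : Algebra A (B ⧸ maximalIdeal B ^ (n + 1)) := ψ.toAlgebra
  let f : A →ₗ[A] (B ⧸ maximalIdeal B ^ (n + 1)) := Algebra.linearMap A _
  have hf : Function.Surjective f := hψs
  have hker : LinearMap.ker f = RingHom.ker ψ := by
    ext a; rfl
  let e : (A ⧸ RingHom.ker ψ) ≃ₗ[A] (B ⧸ maximalIdeal B ^ (n + 1)) :=
    (Submodule.quotEquivOfEq _ _ hker).symm ≪≫ₗ f.quotKerEquivOfSurjective hf
  have hl1 : Module.length A (A ⧸ RingHom.ker ψ) =
      Module.length A (B ⧸ maximalIdeal B ^ (n + 1)) := e.length_eq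
  have hl2 : Module.length A (B ⧸ maximalIdeal B ^ (n + 1)) =
      Module.length (B ⧸ maximalIdeal B ^ (n + 1)) (B ⧸ maximalIdeal B ^ (n + 1)) :=
    Module.length_eq_of_surjective hψs
  have hl3 : Module.length B (B ⧸ maximalIdeal B ^ (n + 1)) =
      Module.length (B ⧸ maximalIdeal B ^ (n + 1)) (B ⧸ maximalIdeal B ^ (n + 1)) :=
    Module.length_eq_of_surjective Ideal.Quotient.mk_surjective
  have hl : Module.length A (A ⧸ RingHom.ker ψ) =
      Module.length A (A ⧸ maximalIdeal A ^ (n + 1)) := by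
    rw [hl1, hl2, ← hl3, hlen]
  let g : (A ⧸ maximalIdeal A ^ (n + 1)) →ₗ[A] (A ⧸ RingHom.ker ψ) :=
    Submodule.mapQ _ _ LinearMap.id hle
  have hg : Function.Surjective g := by
    intro x
    obtain ⟨a, rfl⟩ := Submodule.Quotient.mk_surjective _ x
    exact ⟨Submodule.Quotient.mk a, rfl⟩
  have hadd := Module.length_eq_add_of_exact (LinearMap.ker g).subtype g
    (Submodule.subtype_injective _) hg (LinearMap.exact_subtype_ker_map g)
  rw [← hl] at hadd
  have hfin : Module.length A (A ⧸ RingHom.ker ψ) ≠ ⊤ := hl ▸ finite_length_quot A n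
  have h0 : Module.length A (LinearMap.ker g) = 0 := by
    generalize Module.length A (A ⧸ RingHom.ker ψ) = x at hadd hfin
    generalize Module.length A (LinearMap.ker g) = y at hadd
    lift x to ℕ using hfin
    cases y using ENat.recTopCoe with
    | top => simp at hadd
    | coe y =>
      have : x = y + x := by exact_mod_cast hadd
      have : y = 0 := by omega
      simp [this]
  rw [Module.length_eq_zero_iff] at h0
  intro a ha
  have hmem : (Submodule.Quotient.mk a : A ⧸ maximalIdeal A ^ (n + 1)) ∈ LinearMap.ker g := by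
    rw [LinearMap.mem_ker]
    change (Submodule.Quotient.mk a : A ⧸ RingHom.ker ψ) = 0
    rw [Submodule.Quotient.mk_eq_zero]
    exact ha
  have h2 := Subsingleton.elim (⟨_, hmem⟩ : LinearMap.ker g) 0
  have h3 : (Submodule.Quotient.mk a : A ⧸ maximalIdeal A ^ (n + 1)) = 0 := congrArg Subtype.val h2
  rwa [Submodule.Quotient.mk_eq_zero] at h3

end Aux

/-- Case of local rings. Let φ : A → B be a local homomorphism of Noetherian local rings whose composite
A → B/m_B² is surjective (the first infinitesimal neighbourhoods give a closed immersion), and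
assume that A/m_A^(n+1) and B/m_B^(n+1) have the same length for every n (the associated graded
modules of the two maximal ideals have pieces of the same dimension over the common residue field).
Then for every n the composite A → B/m_B^(n+1) is surjective with kernel m_A^(n+1): φ identifies all
infinitesimal neighbourhoods. (The published statement is for a pointed morphism of Noetherian local
algebraic stacks; its proof reduces to this case of local rings.) -/
theorem result
    (A : Type u) (B : Type v) [CommRing A] [CommRing B] [IsLocalRing A] [IsLocalRing B]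
    [IsNoetherianRing A] [IsNoetherianRing B] (φ : A →+* B) [IsLocalHom φ]
    (h1 : Function.Surjective ((Ideal.Quotient.mk (IsLocalRing.maximalIdeal B ^ 2)).comp φ))
    (hlen : ∀ n : ℕ, Module.length A (A ⧸ IsLocalRing.maximalIdeal A ^ (n + 1)) =
      Module.length B (B ⧸ IsLocalRing.maximalIdeal B ^ (n + 1))) (n : ℕ) :
    Function.Surjective ((Ideal.Quotient.mk (IsLocalRing.maximalIdeal B ^ (n + 1))).comp φ) ∧
      RingHom.ker ((Ideal.Quotient.mk (IsLocalRing.maximalIdeal B ^ (n + 1))).comp φ) =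
        IsLocalRing.maximalIdeal A ^ (n + 1) := by
  exact ker_eq φ h1 hlen n

end Groth.Agent.S16104
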