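import Groth.Statements.S16124
import Mathlib
import Groth.Agent.S4381
import Groth.Agent.Lib.Helper23SecTw9
-- import your own Groth.Agent.* helpers here

set_option autoImplicit false
universe u
open CategoryTheory MonoidalCategory CartesianMonoidalCategory MonObj GrpObj AlgebraicGeometry CategoryTheory.Limits
open AlgGrp

namespace Groth.Agent.S16124


/-- Over an algebraically closed field k, let X be a quasi-projective variety (a reduced separated
k-scheme, quasi-projective over k) with an action of a finite group Γ by k-automorphisms. Then X is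
covered by Γ-stable affine open subschemes: every point x of X lies in an affine open U with σ⁻¹(U)
= U for every σ in Γ. -/
theorem result (k : Type u) [Field k] [IsAlgClosed k]
    (X : Over (Spec (CommRingCat.of k))) [IsReduced X.left] [IsSeparated X.hom] (hX : RelProj.IsQuasiProjective X.hom)
    (Γgrp : Type u) [Group Γgrp] [Finite Γgrp] (ρ : Γgrp →* Aut X.left)
    (hρ : ∀ σ : Γgrp, (ρ σ).hom ≫ X.hom = X.hom) (x : ↥X.left) :
    ∃ U : X.left.Opens, x ∈ U ∧ IsAffineOpen U ∧ ∀ σ : Γgrp, (ρ σ).hom ⁻¹ᵁ U = U := by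
  obtain ⟨hlft, hqc, L, hL⟩ := hX
  have hamp : CohB1.IsAmple L := (Groth.Agent.S4381.result X.hom L).1 hL
  haveI : CompactSpace X.left := hamp.2.1
  haveI : X.left.IsSeparated := ⟨by rw [← terminal.comp_from X.hom]; infer_instance⟩
  obtain ⟨n, s, hZs, -, haff⟩ := Groth.Agent.Lib.Helper23.SecTw.exists_affine_genLocus_of_finite L hamp
    (Set.range fun σ : Γgrp => (ρ σ).hom.base x) (Set.finite_range _) ⊤ (fun _ _ => trivial)
  set U₀ := CohB1.genLocus _ s with hU₀
  refine ⟨⨅ τ : Γgrp, (ρ τ).hom ⁻¹ᵁ U₀, ?_, ?_, ?_⟩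
  · rw [← SetLike.mem_coe, TopologicalSpace.Opens.coe_iInf]
    refine Set.mem_iInter.2 (fun τ => ?_)
    exact hZs ⟨τ, rfl⟩
  · exact IsAffineOpen.iInf (fun τ => haff.preimage_of_isIso (ρ τ).hom)
  · intro σ
    ext y
    simp only [Scheme.Hom.coe_preimage, TopologicalSpace.Opens.coe_iInf, Set.mem_preimage, Set.mem_iInter,
      SetLike.mem_coe]
    constructor
    · intro h τ
      have h1 := h (τ * σ⁻¹)
      have h2 : (ρ (τ * σ⁻¹)).hom.base ((ρ σ).hom.base y) = (ρ τ).hom.base y := by
        rw [← Scheme.Hom.comp_apply]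
        have : (ρ σ).hom ≫ (ρ (τ * σ⁻¹)).hom = (ρ τ).hom := by
          have h3 : ρ (τ * σ⁻¹) * ρ σ = ρ τ := by rw [← map_mul, inv_mul_cancel_right]
          rw [← h3]; rfl
        rw [this]
      rw [h2] at h1
      exact h1
    · intro h τ
      have h1 := h (τ * σ)
      have h2 : (ρ (τ * σ)).hom.base y = (ρ τ).hom.base ((ρ σ).hom.base y) := by
        rw [← Scheme.Hom.comp_apply]
        have : (ρ σ).hom ≫ (ρ τ).hom = (ρ (τ * σ)).hom := by
          rw [map_mul]; rfl
        rw [this]
      rw [h2] at h1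
      exact h1

end Groth.Agent.S16124
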