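import Groth.Statements.S16127
import Mathlib
import Groth.Agent.S18859

set_option autoImplicit false
universe u
open CategoryTheory MonoidalCategory CartesianMonoidalCategory MonObj GrpObj AlgebraicGeometry CategoryTheory.Limits
open AlgGrp

namespace Groth.Agent.S16127


open Groth.Agent.S18859



/-- Over an algebraically closed field k, let G be an algebraic group (a smooth k-group scheme of finite
type) acting by σ on a variety X, and let f : X → Y be a principal G-bundle over a variety Y (X, Y
reduced separated k-schemes of finite type; f flat and surjective, the square σ, p₂ : G × X → X, f,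
f cartesian). Then f^* identifies Γ(Y, O_Y) with the invariants Γ(X, O_X)^G: f^* on global sections
is injective and its range is the set of global functions s on X with σ^*(s) = p₂^*(s). -/
theorem result (k : Type u) [Field k] [IsAlgClosed k]
    (G X Y : Over (Spec (CommRingCat.of k))) [GrpObj G] [Smooth G.hom] [QuasiCompact G.hom]
    [IsReduced X.left] [IsSeparated X.hom] [LocallyOfFiniteType X.hom] [QuasiCompact X.hom]
    [IsReduced Y.left] [IsSeparated Y.hom] [LocallyOfFiniteType Y.hom] [QuasiCompact Y.hom]
    (a : AlgGrp.Action G X) (f : X ⟶ Y) [Flat f.left] [Surjective f.left]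
    (hsq : IsPullback a.act.left (snd G X).left f.left f.left) :
    Function.Injective (f.left.appTop) ∧
      Set.range (f.left.appTop) = {s : Γ(X.left, ⊤) | a.act.left.appTop s = (snd G X).left.appTop s} := by
  haveI hqc : QuasiCompact f.left := by
    haveI : QuasiCompact (f.left ≫ Y.hom) := by rw [Over.w f]; infer_instance
    exact QuasiCompact.of_comp f.left Y.hom
  have hcov : Sieve.generate (Presieve.singleton f.left) ∈ Scheme.fpqcTopology Y.left :=
    Precoverage.generate_mem_toGrothendieck f.left.singleton_mem_fpqcPrecoverage
  have hsh : Presieve.IsSheaf Scheme.fpqcTopology (yoneda.obj A1.{u}) :=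
    GrothendieckTopology.Subcanonical.isSheaf_of_isRepresentable _
  have hshf := hsh _ hcov
  rw [← Presieve.isSheafFor_iff_generate] at hshf
  have hsep := hshf.isSeparatedFor
  rw [Presieve.isSeparatedFor_singleton] at hsep
  rw [Presieve.isSheafFor_singleton] at hshf
  constructor
  · intro r₁ r₂ h
    apply tilde_injective
    apply hsep
    change f.left ≫ tilde r₁ = f.left ≫ tilde r₂
    rw [comp_tilde, comp_tilde]
    exact congrArg S18859.tilde h
  · ext s
    constructor
    · rintro ⟨r, rfl⟩
      have := congrArg (fun m => m ≫ tilde r) hsq.w
      simp only [Category.assoc, comp_tilde] at this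
      exact tilde_injective this
    · intro hs
      have hs' : a.act.left ≫ tilde s = (snd G X).left ≫ tilde s := by
        rw [comp_tilde, comp_tilde]
        exact congrArg S18859.tilde hs
      obtain ⟨r', hr', -⟩ := hshf (tilde s) (by
        intro Z p₁ p₂ hp
        change p₁ ≫ tilde s = p₂ ≫ tilde s
        obtain ⟨l, hl⟩ : ∃ l, l = hsq.lift p₁ p₂ hp := ⟨_, rfl⟩
        have e1 : p₁ = l ≫ a.act.left := by rw [hl]; exact (hsq.lift_fst _ _ _).symm
        have e2 : p₂ = l ≫ (snd G X).left := by rw [hl]; exact (hsq.lift_snd _ _ _).symm
        rw [e1, e2, Category.assoc, Category.assoc, hs'])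
      obtain ⟨r, rfl⟩ := tilde_surjective r'
      refine ⟨r, ?_⟩
      apply tilde_injective
      rw [← comp_tilde]
      exact hr'

end Groth.Agent.S16127
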