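import Groth.Statements.S1614
import Mathlib
import Groth.Agent.Lib.Helper27TwistGen

set_option autoImplicit false
universe u
open CategoryTheory CategoryTheory.Limits AlgebraicGeometry
open Constr

namespace Groth.Agent.S1614

/-- Let A be a graded ring, X = Proj A, and f homogeneous of degree d > 0. For every integer n the
restriction of the twisting sheaf O(nd) to the standard open D_+(f) is isomorphic to the structure
sheaf (in particular invertible). -/
theorem result {R A : Type u} [CommRing R] [CommRing A] [Algebra R A] (𝒜 : ℕ → Submodule R A) [GradedAlgebra 𝒜]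
    (d : ℕ) (hd : 0 < d) (f : A) (hf : f ∈ 𝒜 d) (n : ℤ) :
    Nonempty ((Twist.twist 𝒜 (n * d)).restrict (Proj.basicOpen 𝒜 f).ι ≅ Coh.structureModule ↑(Proj.basicOpen 𝒜 f)) := by
  have hpq : ((n.toNat : ℕ) : ℤ) - ((-n).toNat : ℕ) = n := by omega
  generalize n.toNat = p at hpq
  generalize (-n).toNat = q at hpq
  have hnum : f ^ p ∈ 𝒜 (p • d) := SetLike.pow_mem_graded p hf
  have hden : f ^ q ∈ 𝒜 (q • d) := SetLike.pow_mem_graded q hf
  have hdeg : ((p • d : ℕ) : ℤ) = ((q • d : ℕ) : ℤ) + n * d := by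
    rw [← hpq]
    simp only [smul_eq_mul]
    push_cast
    ring
  have hW : ∀ (k : ℕ) (y : (Proj.basicOpen 𝒜 f : (Proj 𝒜).Opens)),
      f ^ k ∉ y.1.asHomogeneousIdeal := fun k y h =>
    (ProjectiveSpectrum.mem_basicOpen 𝒜 f y.1).mp y.2 (y.1.isPrime.mem_of_pow_mem _ h)
  have hgen := Groth.Agent.Lib.Helper27GrTildeSect.isGen_fracSec 𝒜 (n * d)
    (Proj.basicOpen 𝒜 f) hnum hden hdeg (hW q) (hW p)
  exact Groth.Agent.Lib.Helper23.SecTw.nonempty_restrict_iso_of_isGen
    (GrTilde.tilde 𝒜 𝒜 (n * d)) (Proj.basicOpen 𝒜 f) _ hgen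

end Groth.Agent.S1614
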