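import Groth.Statements.S16149
import Groth.Agent.Lib.Helper20GenOpen

set_option autoImplicit false
universe u
open CategoryTheory CategoryTheory.Limits AlgebraicGeometry TopologicalSpace
open SDiv

namespace Groth.Agent.S16149

set_option linter.style.haveILetI false
open Groth.Agent.Lib.Helper2.QCoh Groth.Agent.Lib.Helper20.RegMero Groth.Agent.Lib.Helper20.GenOpen

variable {X : Scheme.{u}} {F : X.Modules}

/-- morphisms of modules commute with restriction. -/
theorem app_map {F G : X.Modules} (ψ : F ⟶ G) {V U : X.Opens} (i : V ⟶ U) (x : Γ(F, U)) :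
    ψ.app V (F.presheaf.map i.op x) = G.presheaf.map i.op (ψ.app U x) := by
  have h1 := ψ.mapPresheaf.naturality i.op
  exact ConcreteCategory.congr_hom h1 x

/-- functions as sections of the module `O_X`. -/
def toO (V : X.Opens) (a : Γ(X, V)) : Γ(Coh.structureModule X, V) := a

/-- sections of the module `O_X` as functions. -/
def ofO (V : X.Opens) (a : Γ(Coh.structureModule X, V)) : Γ(X, V) := a

theorem toO_ofO (V : X.Opens) (a : Γ(Coh.structureModule X, V)) : toO V (ofO V a) = a := rfl

theorem ofO_toO (V : X.Opens) (a : Γ(X, V)) : ofO V (toO V a) = a := rfl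

theorem eq_smul_one (V : X.Opens) (a : Γ(Coh.structureModule X, V)) :
    a = ofO V a • toO V 1 := (mul_one (ofO V a)).symm

theorem map_toO {V U : X.Opens} (i : V ⟶ U) (a : Γ(X, U)) :
    (Coh.structureModule X).presheaf.map i.op (toO U a) = toO V (X.presheaf.map i.op a) := rfl

theorem toO_zero (V : X.Opens) : toO V (0 : Γ(X, V)) = 0 := rfl

/-- the stalk map of `s : O_X ⟶ F` on germs. -/
theorem stalkMap_germ (s : Coh.structureModule X ⟶ F) (y : X) (V : X.Opens) (hy : y ∈ V)
    (a : Γ(Coh.structureModule X, V)) :
    RefHull.stalkMapₗ s y ((Coh.structureModule X).presheaf.germ V y hy a) =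
      X.presheaf.germ V y hy (ofO V a) • F.presheaf.germ ⊤ y trivial (s.app ⊤ (toO ⊤ 1)) := by
  rw [RefHull.stalkMapₗ_germ]
  have h2 : s.app V (toO V 1) =
      F.presheaf.map (homOfLE (le_top : V ≤ ⊤)).op (s.app ⊤ (toO ⊤ 1)) := by
    rw [← app_map, map_toO, map_one]
  conv_lhs => rw [eq_smul_one V a]
  rw [Scheme.Modules.Hom.app_smul, germ_smul, h2, TopCat.Presheaf.germ_res_apply]

/-- germs of the structure sheaf as a module vanish iff they vanish as functions. -/
theorem germ_module_eq_zero_iff (y : X) (V : X.Opens) (hy : y ∈ V) (a : Γ(X, V)) :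
    (Coh.structureModule X).presheaf.germ V y hy (toO V a) = 0 ↔
      X.presheaf.germ V y hy a = 0 := by
  constructor
  · intro h
    rw [← map_zero ((Coh.structureModule X).presheaf.germ V y hy).hom] at h
    obtain ⟨W, hyW, i₁, i₂, hW⟩ :=
      TopCat.Presheaf.germ_eq (Coh.structureModule X).presheaf y hy hy _ _ h
    rw [map_zero, map_toO] at hW
    have h2 : X.presheaf.map i₁.op a = 0 := hW
    rw [← TopCat.Presheaf.germ_res_apply X.presheaf i₁ y hyW a, h2, map_zero]
  · intro h
    rw [← map_zero (X.presheaf.germ V y hy).hom] at h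
    obtain ⟨W, hyW, i₁, i₂, hW⟩ := TopCat.Presheaf.germ_eq X.presheaf y hy hy _ _ h
    rw [map_zero] at hW
    rw [← TopCat.Presheaf.germ_res_apply (Coh.structureModule X).presheaf i₁ y hyW, map_toO, hW,
      toO_zero, map_zero]

theorem mem_isoLocus_iff (s : Coh.structureModule X ⟶ F) (y : X) :
    y ∈ RefPow.isoLocus s ↔
      IsGen F y (F.presheaf.germ ⊤ y trivial (s.app ⊤ (toO ⊤ 1))) := by
  rw [RefPow.mem_isoLocus]
  constructor
  · intro hb
    constructor
    · have hinj : ∀ c : X.presheaf.stalk y,
          c • F.presheaf.germ ⊤ y trivial (s.app ⊤ (toO ⊤ 1)) = 0 → c = 0 := by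
        intro c hc
        obtain ⟨V, hyV, a, rfl⟩ := X.presheaf.exists_germ_eq c
        rw [← ofO_toO V a, ← stalkMap_germ] at hc
        have h0 := hb.1 (hc.trans (map_zero _).symm)
        exact (germ_module_eq_zero_iff y V hyV a).1 h0
      intro c c' h
      have : (c - c') • F.presheaf.germ ⊤ y trivial (s.app ⊤ (toO ⊤ 1)) = 0 := by
        rw [sub_smul]; exact sub_eq_zero.2 h
      exact sub_eq_zero.1 (hinj _ this)
    · intro z
      obtain ⟨t, rfl⟩ := hb.2 z
      obtain ⟨V, hyV, a, rfl⟩ := (Coh.structureModule X).presheaf.exists_germ_eq t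
      exact ⟨X.presheaf.germ V y hyV (ofO V a), (stalkMap_germ s y V hyV a).symm⟩
  · intro hg
    constructor
    · rw [injective_iff_map_eq_zero]
      intro t ht
      obtain ⟨V, hyV, a, rfl⟩ := (Coh.structureModule X).presheaf.exists_germ_eq t
      have h1 := stalkMap_germ s y V hyV a
      rw [ht] at h1
      have h2 : X.presheaf.germ V y hyV (ofO V a) = 0 := by
        apply hg.1
        change X.presheaf.germ V y hyV (ofO V a) • _ = (0 : X.presheaf.stalk y) • _
        rw [← h1, zero_smul]
      rw [← toO_ofO V a]
      exact (germ_module_eq_zero_iff y V hyV (ofO V a)).2 h2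
    · intro z
      obtain ⟨c, hc⟩ := hg.2 z
      obtain ⟨V, hyV, a, rfl⟩ := X.presheaf.exists_germ_eq c
      refine ⟨(Coh.structureModule X).presheaf.germ V y hyV (toO V a), ?_⟩
      rw [stalkMap_germ, ofO_toO]
      exact hc

/-- Let X be a locally Noetherian scheme, F a coherent O_X-module (quasi-coherent of finite type) and s
: O_X → F a global section of F. Then the set of points x of X at which the stalk map (O_X)_x → F_x
of s is bijective is open. (The published statement assumes moreover X integral and normal and F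
reflexive of rank one; the openness assertion uses only that F is coherent on a locally Noetherian
scheme, and it can fail for F quasi-coherent of finite type on a scheme that is not locally
Noetherian.) -/
theorem result (X : Scheme.{u}) [IsLocallyNoetherian X] (F : X.Modules) (hF : Coh.IsCoh F)
    (s : Coh.structureModule X ⟶ F) : IsOpen (RefPow.isoLocus s) := by
  obtain ⟨hqc, hft⟩ := hF
  haveI : F.IsQuasicoherent := hqc
  haveI : SheafOfModules.IsFiniteType (R := X.ringCatSheaf) F := hft
  have h : RefPow.isoLocus s =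
      {y : X | IsGen F y (F.presheaf.germ ⊤ y trivial (s.app ⊤ (toO ⊤ 1)))} := by
    ext y
    exact mem_isoLocus_iff s y
  rw [h]
  exact isOpen_setOf_isGen F _

end Groth.Agent.S16149
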