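import Groth.Statements.S1615
import Mathlib

set_option autoImplicit false
universe u
open CategoryTheory CategoryTheory.Limits AlgebraicGeometry
open Constr

namespace Groth.Agent.S1615

/-- For a graded ring A, quasi-compactness of Proj A is equivalent to the existence of finitely many
homogeneous elements of positive degree generating an ideal whose radical contains the irrelevant
ideal A_+. -/
theorem result {R A : Type u} [CommRing R] [CommRing A] [Algebra R A] (𝒜 : ℕ → Submodule R A) [GradedAlgebra 𝒜] :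
    CompactSpace ↥(Proj 𝒜) ↔ ∃ s : Finset A, (∀ f ∈ s, ∃ d : ℕ, 0 < d ∧ f ∈ 𝒜 d) ∧
      (HomogeneousIdeal.irrelevant 𝒜).toIdeal ≤ (Ideal.span (s : Set A)).radical := by
  classical
  constructor
  · intro hc
    have hpt : ∀ x : Proj 𝒜, ∃ f : A, (∃ d : ℕ, 0 < d ∧ f ∈ 𝒜 d) ∧ x ∈ Proj.basicOpen 𝒜 f := by
      intro x
      have h1 := x.not_irrelevant_le
      rw [SetLike.not_le_iff_exists] at h1
      obtain ⟨a, ha, hax⟩ := h1
      have h2 : ¬ ∀ i, (DirectSum.decompose 𝒜 a i : A) ∈ x.asHomogeneousIdeal := by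
        intro h
        apply hax
        rw [← DirectSum.sum_support_decompose 𝒜 a]
        exact Ideal.sum_mem _ (fun i _ => h i)
      rw [not_forall] at h2
      obtain ⟨i, hi⟩ := h2
      have hi0 : i ≠ 0 := by
        rintro rfl
        apply hi
        have : (DirectSum.decompose 𝒜 a 0 : A) = 0 := (HomogeneousIdeal.mem_irrelevant_iff 𝒜 a).mp ha
        rw [this]
        exact zero_mem _
      exact ⟨(DirectSum.decompose 𝒜 a i : A), ⟨i, Nat.pos_of_ne_zero hi0, SetLike.coe_mem _⟩, hi⟩
    choose f hf hxf using hpt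
    obtain ⟨t, ht⟩ := isCompact_univ.elim_finite_subcover (fun x : Proj 𝒜 => (Proj.basicOpen 𝒜 (f x) : Set (Proj 𝒜)))
      (fun x => (Proj.basicOpen 𝒜 (f x)).2) (fun x _ => Set.mem_iUnion.mpr ⟨x, hxf x⟩)
    refine ⟨t.image f, ?_, ?_⟩
    · intro g hg
      obtain ⟨x, _, rfl⟩ := Finset.mem_image.mp hg
      exact hf x
    · have hhom : (Ideal.span ((t.image f : Finset A) : Set A)).IsHomogeneous 𝒜 := by
        apply Ideal.homogeneous_span
        intro g hg
        obtain ⟨x, _, rfl⟩ := Finset.mem_image.mp (Finset.mem_coe.mp hg)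
        obtain ⟨d, _, hd⟩ := hf x
        exact ⟨d, hd⟩
      rw [hhom.radical_eq]
      refine le_sInf ?_
      rintro J ⟨hJh, hJle, hJp⟩
      by_contra hcon
      let y : Proj 𝒜 := ⟨⟨J, hJh⟩, hJp, hcon⟩
      have hy := ht (Set.mem_univ y)
      simp only [Set.mem_iUnion] at hy
      obtain ⟨x, hxt, hyx⟩ := hy
      apply hyx
      apply hJle
      apply Ideal.subset_span
      exact Finset.mem_coe.mpr (Finset.mem_image_of_mem f hxt)
  · rintro ⟨s, hs, hrad⟩
    have hcov : ∀ x : Proj 𝒜, ∃ g ∈ s, x ∈ Proj.basicOpen 𝒜 g := by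
      intro x
      by_contra hcon
      simp only [not_exists, not_and] at hcon
      apply x.not_irrelevant_le
      have h1 : Ideal.span (s : Set A) ≤ x.asHomogeneousIdeal.toIdeal := by
        rw [Ideal.span_le]
        intro g hg
        have := hcon g hg
        rw [Proj.mem_basicOpen, not_not] at this
        exact this
      have h2 : (Ideal.span (s : Set A)).radical ≤ x.asHomogeneousIdeal.toIdeal :=
        (Ideal.IsPrime.radical_le_iff x.isPrime).mpr h1
      exact hrad.trans h2
    rw [← isCompact_univ_iff]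
    have huniv : (Set.univ : Set (Proj 𝒜)) = ⋃ g ∈ s, (Proj.basicOpen 𝒜 g : Set (Proj 𝒜)) := by
      ext x
      simp only [Set.mem_univ, Set.mem_iUnion, true_iff]
      obtain ⟨g, hg, hx⟩ := hcov x
      exact ⟨g, hg, hx⟩
    rw [huniv]
    apply s.isCompact_biUnion
    intro g hg
    obtain ⟨d, hd, hgd⟩ := hs g hg
    exact (Proj.isAffineOpen_basicOpen 𝒜 g hgd hd).isCompact

end Groth.Agent.S1615
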