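import Groth.Statements.S16154
import Groth.Agent.Lib.Helper4CIEulerB
import Groth.Agent.Lib.Helper4SmoothDim

set_option autoImplicit false
universe u
open CategoryTheory CategoryTheory.Limits AlgebraicGeometry
open WGauss

namespace Groth.Agent.S16154

/-- Let k be a field and X in projective n-space over k the common zero scheme of m forms G_j of degrees
d_1 >= d_2 >= ... >= d_m >= 2 (m >= 1), smooth over k of relative dimension kk >= 1 with kk + m = n,
so that X is a smooth complete intersection of dimension kk whose twisted conormal bundle N_X^*(t)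
is the direct sum of the O_X(t - d_j). Then, for an integer t, H^1(X, O_X(t - d_j)) = 0 for every j
(that is, H^1(X, N_X^*(t)) = 0) if and only if either kk >= 2, or kk = 1 and t > 2 d_1 + d_2 + ... +
d_m - n - 1. Here O_X(c) is the pullback of O(c) from projective space along the inclusion of X.
(The source works over the complex numbers with X smooth projective; the statement is given over any
field.) -/
theorem result
    (k : Type u) [Field k] (n kk m : ℕ) (hkk : 1 ≤ kk) (hm : 1 ≤ m) (hn : kk + m = n)
    (d : Fin m → ℕ) (hd2 : ∀ j, 2 ≤ d j) (hanti : Antitone d)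
    (G : ∀ j : Fin m, LefPen.Form n k (d j))
    [SmoothOfRelativeDimension kk ((LefPen.ciIdeal G).subschemeι ≫ CohB1.ProjSpace.toSpec n k)]
    (t : ℤ) :
    (∀ j : Fin m, Subsingleton (Coh.HH (LefPen.ciIdeal G).subscheme
        ((Scheme.Modules.pullback (LefPen.ciIdeal G).subschemeι).obj
          (Twist.twistProjSpace n k (t - (d j : ℤ)))) 1)) ↔
      (2 ≤ kk ∨ (kk = 1 ∧ ((d ⟨0, hm⟩ : ℤ) + ∑ j : Fin m, (d j : ℤ)) - (n : ℤ) - 1 < t)) := by
  have hdim : topologicalKrullDim ↥(LefPen.ciIdeal G).subscheme ≤ (kk : WithBot ℕ∞) :=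
    Groth.Agent.Lib.Helper4.SmoothDim.topologicalKrullDim_le_of_smooth k
      ((LefPen.ciIdeal G).subschemeι ≫ CohB1.ProjSpace.toSpec n k) kk
  have ha : ∀ j, 1 ≤ d j := fun j => le_trans (by norm_num) (hd2 j)
  by_cases h2 : 2 ≤ kk
  · refine ⟨fun _ => Or.inl h2, fun _ j => ?_⟩
    have hdim' : topologicalKrullDim ↥(LefPen.ciIdeal G).subscheme ≤
        ((n - m : ℕ) : WithBot ℕ∞) := by
      have : n - m = kk := by omega
      rw [this]
      exact hdim
    exact Groth.Agent.Lib.Helper4.CICoh.van_ciIdeal m (by omega) d ha G hdim'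
      (t - (d j : ℤ)) 1 (by omega) (by omega)
  · have hk1 : kk = 1 := by omega
    subst hk1
    have hdim1 : topologicalKrullDim ↥(LefPen.ciIdeal G).subscheme ≤ 1 := by
      exact_mod_cast hdim
    have key := fun j : Fin m =>
      Groth.Agent.Lib.Helper4.CIEuler.h1_curve_subsingleton_iff m (by omega) d ha G hdim1
        (t - (d j : ℤ))
    constructor
    · intro h
      refine Or.inr ⟨rfl, ?_⟩
      have h0 := (key ⟨0, hm⟩).mp (h ⟨0, hm⟩)
      linarith
    · rintro (h | ⟨-, h⟩)
      · omega
      · intro j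
        refine (key j).mpr ?_
        have hj : d j ≤ d ⟨0, hm⟩ := hanti (Fin.mk_le_mk.mpr (Nat.zero_le _))
        have hj' : (d j : ℤ) ≤ (d ⟨0, hm⟩ : ℤ) := by exact_mod_cast hj
        linarith

end Groth.Agent.S16154
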