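import Groth.Statements.S16156
import Mathlib
-- import your own Groth.Agent.* helpers here

set_option autoImplicit false
universe u
open MukaiVec

namespace Groth.Agent.S16156.Aux

set_option autoImplicit false

namespace MukaiWall


/-- pure integer core -/
theorem core (n r d χ p q h : ℤ) (hn : 0 < n) (hr : 2 ≤ r) (hd : 0 < d) (hχ : χ < 0) (hp : 0 ≤ p)
    (hodge : 4 * n * p * q ≤ h ^ 2)
    (he1 : d * h - r * q - χ * p ≠ 0)
    (he2 : -2 ≤ d * h - r * q - χ * p) (he3 : d * h - r * q - χ * p ≤ 2)
    (hexc : ¬ (d = 1 ∧ χ = -1 ∧ h = 1 ∧ 2 * p * q = 0))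
    (hr2 : r = 2 → ¬ (p = 0 ∧ h = 0)) :
    (0 ≤ 2 * n * d * p - r * h ↔ 0 ≤ χ * h - 2 * n * d * q) := by
  have hnd : 0 < n * d := mul_pos hn hd
  rcases hp.eq_or_lt with hp0 | hp1
  · -- p = 0
    subst hp0
    simp only [mul_zero, zero_sub, sub_zero] at *
    rcases lt_trichotomy h 0 with hh | hh | hh
    · -- h ≤ -1
      have hq : q ≤ 0 := by
        by_contra hq
        push Not at hq
        have : 2 * 1 ≤ r * q := mul_le_mul hr hq (by norm_num) (by linarith)
        nlinarith
      constructor
      · intro _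
        have h1 : 0 ≤ χ * h := by nlinarith
        have h2 : 0 ≤ (n * d) * (-q) := mul_nonneg hnd.le (by linarith)
        nlinarith
      · intro _; nlinarith
    · subst hh
      exfalso
      simp only [mul_zero, zero_sub] at *
      have hq0 : q ≠ 0 := by
        rintro rfl; simp at he1
      rcases lt_or_gt_of_ne hq0 with hq | hq
      · have : r * q ≤ r * (-1) := mul_le_mul_of_nonneg_left (by linarith) (by linarith)
        have hr' : r = 2 := by nlinarith
        exact hr2 hr' ⟨trivial, trivial⟩
      · have : r * 1 ≤ r * q := mul_le_mul_of_nonneg_left (by linarith) (by linarith)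
        have hr' : r = 2 := by nlinarith
        exact hr2 hr' ⟨trivial, trivial⟩
    · -- h ≥ 1
      have hq : 0 ≤ q := by
        by_contra hq
        push Not at hq
        have : r * q ≤ r * (-1) := mul_le_mul_of_nonneg_left (by linarith) (by linarith)
        have : d * 1 ≤ d * h := mul_le_mul_of_nonneg_left (by linarith) hd.le
        nlinarith
      constructor
      · intro h0; exfalso; nlinarith
      · intro h0
        exfalso
        have h1 : χ * h < 0 := by nlinarith
        have h2 : 0 ≤ (n * d) * q := mul_nonneg hnd.le hq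
        nlinarith
  · -- p ≥ 1
    have hp1' : 1 ≤ p := hp1
    have hcp : 1 ≤ (-χ) * p := by nlinarith
    rcases lt_trichotomy h 0 with hh | hh | hh
    · -- h ≤ -1 : a > 0 and b ≥ 0
      have ha : 0 ≤ 2 * n * d * p - r * h := by
        have : 0 ≤ (n * d) * p := mul_nonneg hnd.le hp
        nlinarith
      have hb : 0 ≤ χ * h - 2 * n * d * q := by
        by_contra hb
        push Not at hb
        have hχh : 0 < χ * h := mul_pos_of_neg_of_neg hχ hh
        have hq : 1 ≤ q := by
          by_contra hq
          push Not at hq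
          have : 0 ≤ (n * d) * (-q) := mul_nonneg hnd.le (by linarith)
          nlinarith
        -- c p = r q + d g + e
        set e := d * h - r * q - χ * p with he
        have hcpe : (-χ) * p = r * q - d * h + e := by rw [he]; ring
        -- c h^2 ≥ 4 n q (c p)
        have h1 : (-χ) * (4 * n * p * q) ≤ (-χ) * h ^ 2 :=
          mul_le_mul_of_nonneg_left hodge (by linarith)
        have h2 : (-χ) * (4 * n * p * q) = 4 * n * q * (r * q - d * h + e) := by
          rw [← hcpe]; ring
        have h3 : 2 * n * d * q ≥ χ * h + 1 := by linarith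
        have h4 : (-h) * (2 * n * d * q) ≥ (-h) * (χ * h + 1) :=
          mul_le_mul_of_nonneg_left h3 (by linarith)
        have h5 : 0 ≤ r * q + e := by nlinarith
        have h6 : 0 ≤ (4 * n * q) * (r * q + e) := mul_nonneg (by positivity) h5
        nlinarith
      exact ⟨fun _ => hb, fun _ => ha⟩
    · subst hh
      have ha : 0 ≤ 2 * n * d * p - r * 0 := by
        have : 0 ≤ (n * d) * p := mul_nonneg hnd.le hp
        nlinarith
      have hq : q ≤ 0 := by
        by_contra hq
        push Not at hq
        have : 0 < n * p * q := by positivity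
        nlinarith
      have hb : 0 ≤ χ * 0 - 2 * n * d * q := by
        have : 0 ≤ (n * d) * (-q) := mul_nonneg hnd.le (by linarith)
        nlinarith
      exact ⟨fun _ => hb, fun _ => ha⟩
    · -- h ≥ 1 : b < 0 and a < 0
      have hh1 : 1 ≤ h := hh
      have hdh : 1 ≤ d * h := by nlinarith
      set e := d * h - r * q - χ * p with he
      have hrq : r * q = d * h + (-χ) * p - e := by rw [he]; ring
      have hq : 0 ≤ q := by
        by_contra hq
        push Not at hq
        have : r * q ≤ r * (-1) := mul_le_mul_of_nonneg_left (by linarith) (by linarith)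
        nlinarith
      have hb : ¬ (0 ≤ χ * h - 2 * n * d * q) := by
        intro hb
        have h1 : χ * h < 0 := by nlinarith
        have h2 : 0 ≤ (n * d) * q := mul_nonneg hnd.le hq
        nlinarith
      have ha : ¬ (0 ≤ 2 * n * d * p - r * h) := by
        intro ha
        have h1 : r * (4 * n * p * q) ≤ r * h ^ 2 :=
          mul_le_mul_of_nonneg_left hodge (by linarith)
        have h2 : h * (r * h) ≤ h * (2 * n * d * p) :=
          mul_le_mul_of_nonneg_left (by linarith) (by linarith)
        have h3 : (2 * n * p) * (2 * (r * q)) ≤ (2 * n * p) * (d * h) := by nlinarith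
        have hnp : 0 < 2 * n * p := by positivity
        have h4 : 2 * (r * q) ≤ d * h := le_of_mul_le_mul_left h3 hnp
        rw [hrq] at h4
        -- d h + 2 c p ≤ 2 e
        have he2' : e = 2 := by omega
        have hcp1 : (-χ) * p = 1 := by omega
        have hdh2 : d * h ≤ 2 := by omega
        have hχ1 : χ = -1 := by
          have : (-χ) * 1 ≤ (-χ) * p := mul_le_mul_of_nonneg_left hp1' (by linarith)
          omega
        have hp1'' : p = 1 := by
          rw [hχ1] at hcp1; omega
        have hrq' : r * q = d * h - 1 := by rw [hrq, hcp1, he2']; ring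
        have hd1 : d * h = 1 ∨ d * h = 2 := by omega
        rcases hd1 with hd1 | hd1
        · have hq0 : q = 0 := by
            have : r * q = 0 := by rw [hrq', hd1]; ring
            rcases mul_eq_zero.mp this with h | h
            · omega
            · exact h
          have hd1' : d = 1 := by
            have : d * 1 ≤ d * h := mul_le_mul_of_nonneg_left hh1 hd.le
            omega
          have hh1' : h = 1 := by rw [hd1'] at hd1; omega
          exact hexc ⟨hd1', hχ1, hh1', by rw [hq0]; ring⟩
        · have hrq1 : r * q = 1 := by rw [hrq', hd1]; ring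
          rcases hq.eq_or_lt with hq0 | hq0
          · rw [← hq0] at hrq1; omega
          · have : r * 1 ≤ r * q := mul_le_mul_of_nonneg_left hq0 (by linarith)
            omega
      exact ⟨fun h => absurd h ha, fun h => absurd h hb⟩

theorem main
    (N : Type u) [AddCommGroup N] (B : LinearMap.BilinForm ℤ N) (hB : ∀ x y : N, B x y = B y x)
    (H : N) (n : ℤ) (hn : 0 < n) (hH : B H H = 2 * n) (hodge : ∀ x : N, B x H = 0 → B x x ≤ 0)
    (r d χ p q : ℤ) (η : N) (hr : 2 ≤ r) (hd : 0 < d) (hχ : χ < 0) (hp : 0 ≤ p)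
    (hiso : B η η = 2 * p * q)
    (hvu : 1 ≤ |d * B H η - r * q - χ * p| ∧ |d * B H η - r * q - χ * p| ≤ 2)
    (hexc : ¬ (d = 1 ∧ χ = -1 ∧ B H η = 1 ∧ B η η = 0))
    (hr2 : r = 2 → ¬ (p = 0 ∧ B H η = 0)) :
    (0 ≤ 2 * n * d * p - r * B H η ↔ 0 ≤ χ * B H η - 2 * n * d * q) := by
  set h := B H η with hh
  have hηH : B η H = h := hB η H
  have hx := hodge ((2 * n) • η - h • H) (by
    simp only [map_sub, map_smul, LinearMap.sub_apply, LinearMap.smul_apply, smul_eq_mul, hηH, hH]
    ring)
  simp only [map_sub, map_smul, LinearMap.sub_apply, LinearMap.smul_apply, smul_eq_mul, hηH, hH,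
    hiso, ← hh] at hx
  have hodge' : 4 * n * p * q ≤ h ^ 2 := by
    have : (2 * n) * (4 * n * p * q) ≤ (2 * n) * h ^ 2 := by nlinarith
    exact le_of_mul_le_mul_left this (by linarith)
  obtain ⟨hv1, hv2⟩ := hvu
  rw [abs_le] at hv2
  have he1 : d * h - r * q - χ * p ≠ 0 := by
    intro h0; rw [h0] at hv1; simp at hv1
  rw [hiso] at hexc
  exact core n r d χ p q h hn hr hd hχ hp hodge' he1 hv2.1 hv2.2 hexc hr2

end MukaiWall

end Groth.Agent.S16156.Aux

namespace Groth.Agent.S16156

/-- Let N be an abelian group with a symmetric integer-valued bilinear form and H an element with H·H =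
2n for some n > 0 such that every x with x·H = 0 satisfies x·x ≤ 0 (the Hodge index inequality). Fix
integers r ≥ 2, d > 0 and χ < 0 (a Mukai vector v = (r, dH, χ)) and an isotropic Mukai vector u =
(p, η, q), p ≥ 0, η ∈ N, η·η = 2pq, whose pairing ⟨v, u⟩ = d(H·η) − rq − χp has absolute value 1 or
2. Exclude the case d = 1, χ = −1, H·η = 1, η·η = 0, and when r = 2 also the case p = 0, H·η = 0.
Then the pairings of u∨ = (p, −η, q) with w₀ = (0, rH, −2nd) and with w₁ = (2nd, −χH, 0) are both
non-negative or both negative: 2ndp − r(H·η) ≥ 0 holds if and only if χ(H·η) − 2ndq ≥ 0 holds. -/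
theorem result
    (N : Type u) [AddCommGroup N] (B : LinearMap.BilinForm ℤ N) (hB : ∀ x y : N, B x y = B y x)
    (H : N) (n : ℤ) (hn : 0 < n) (hH : B H H = 2 * n) (hodge : ∀ x : N, B x H = 0 → B x x ≤ 0)
    (r d χ p q : ℤ) (η : N) (hr : 2 ≤ r) (hd : 0 < d) (hχ : χ < 0) (hp : 0 ≤ p)
    (hiso : B η η = 2 * p * q)
    (hvu : 1 ≤ |d * B H η - r * q - χ * p| ∧ |d * B H η - r * q - χ * p| ≤ 2)
    (hexc : ¬ (d = 1 ∧ χ = -1 ∧ B H η = 1 ∧ B η η = 0))
    (hr2 : r = 2 → ¬ (p = 0 ∧ B H η = 0)) :
    (0 ≤ 2 * n * d * p - r * B H η ↔ 0 ≤ χ * B H η - 2 * n * d * q) := by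
  exact Aux.MukaiWall.main N B hB H n hn hH hodge r d χ p q η hr hd hχ hp hiso hvu hexc hr2

end Groth.Agent.S16156
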