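import Groth.Statements.S16158
import Mathlib

set_option autoImplicit false
universe u v w
open MadRed

namespace Groth.Agent.S16158

open Submodule in

/-- Let R be a commutative Noetherian ring and M a finitely generated R-module. Then there is a natural
number n such that in every decomposition of M as an internal direct sum of a family of submodules,
at most n of the summands are nonzero (the nonzero summands are indexed by a finite set of size at
most n). -/
theorem result (R : Type u) [CommRing R] [IsNoetherianRing R]
    (M : Type v) [AddCommGroup M] [Module R M] [Module.Finite R M] :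
    ∃ n : ℕ, ∀ (ι : Type w) [DecidableEq ι] (N : ι → Submodule R M), DirectSum.IsInternal N →
      ∃ s : Finset ι, s.card ≤ n ∧ ∀ i, N i ≠ ⊥ → i ∈ s := by
  classical
  have hfin := associatedPrimes.finite R M
  have hfg : ∀ q : Ideal R, ∃ W : Finset M,
      Submodule.span R (W : Set M) = Submodule.torsionBySet R M (q : Set R) :=
    fun q => IsNoetherian.noetherian _
  choose W hW using hfg
  refine ⟨∑ q ∈ hfin.toFinset, (W q).card, ?_⟩
  intro ι _ N hN
  have hch : ∀ i, ∃ (q : Ideal R) (x : M), N i ≠ ⊥ →
      (q ∈ associatedPrimes R M ∧ x ∈ N i ∧ q.IsPrime ∧ ∀ r, r ∈ q ↔ r • x = 0) := by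
    intro i
    by_cases hi : N i = ⊥
    · exact ⟨⊥, 0, fun h => absurd hi h⟩
    · obtain ⟨y, hy, hy0⟩ := Submodule.exists_mem_ne_zero_of_ne_bot hi
      have hy0' : (⟨y, hy⟩ : N i) ≠ 0 := fun h => hy0 (congrArg Subtype.val h)
      obtain ⟨P, hP, -⟩ := exists_le_isAssociatedPrime_of_isNoetherianRing R (⟨y, hy⟩ : N i) hy0'
      have hP' := hP
      rw [isAssociatedPrime_iff] at hP
      obtain ⟨hPp, x, hx⟩ := hP
      refine ⟨P, x.1, fun _ => ⟨?_, x.2, hPp, fun r => ?_⟩⟩
      · exact associatedPrimes.subset_of_injective (f := (N i).subtype) (Subtype.val_injective) hP'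
      · rw [hx, mem_colon_singleton, mem_bot]
        constructor
        · intro h; exact congrArg Subtype.val h
        · intro h; exact Subtype.ext h
  choose Q X hQX using hch
  -- for each q, bound
  have key : ∀ q : Ideal R, q ∈ associatedPrimes R M → ∃ sq : Finset ι, sq.card ≤ (W q).card ∧
      ∀ i, N i ≠ ⊥ → Q i = q → i ∈ sq := by
    intro q hq
    haveI : q.IsPrime := hq.1
    let T := {i : ι // N i ≠ ⊥ ∧ Q i = q}
    have hmem : ∀ j : T, X j.1 ∈ Submodule.torsionBySet R M (q : Set R) := by
      intro j
      rw [Submodule.mem_torsionBySet_iff]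
      rintro ⟨a, ha⟩
      have := (hQX j.1 j.2.1).2.2.2 a
      rw [j.2.2] at this
      exact this.mp ha
    let y : T → Submodule.torsionBySet R M (q : Set R) := fun j => ⟨X j.1, hmem j⟩
    have hind : iSupIndep (fun j : T => N j.1) :=
      hN.submodule_iSupIndep.comp Subtype.val_injective
    have hli : LinearIndependent (R ⧸ q) y := by
      rw [linearIndependent_iff']
      intro s g hg j hj
      have hlift : ∀ j : T, ∃ r : R, Ideal.Quotient.mk q r = g j := fun j => Ideal.Quotient.mk_surjective _
      choose r hr using hlift
      have hsum : ∑ j ∈ s, r j • X j.1 = 0 := by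
        have := congrArg Subtype.val hg
        simp only [Submodule.coe_sum, ZeroMemClass.coe_zero] at this
        rw [← this]
        refine Finset.sum_congr rfl fun j _ => ?_
        rw [← hr j, Submodule.torsionBySet.mk_smul]
        rfl
      have hz := (iSupIndep_iff_finsetSum_eq_zero_imp_eq_zero _).mp hind s (fun j => r j • X j.1)
        (fun j _ => Submodule.smul_mem _ _ (hQX j.1 j.2.1).2.1) hsum j hj
      have : r j ∈ q := by
        have := (hQX j.1 j.2.1).2.2.2 (r j)
        rw [j.2.2] at this
        exact this.mpr hz
      rw [← hr j]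
      exact Ideal.Quotient.eq_zero_iff_mem.mpr this
    -- spanning set in torsionBySet
    have hWsub : ∀ m ∈ W q, m ∈ Submodule.torsionBySet R M (q : Set R) := by
      intro m hm
      rw [← hW q]
      exact Submodule.subset_span hm
    let W' : Finset (Submodule.torsionBySet R M (q : Set R)) :=
      (W q).attach.image fun m => ⟨m.1, hWsub m.1 m.2⟩
    have hspan : Submodule.span (R ⧸ q) (W' : Set (Submodule.torsionBySet R M (q : Set R))) = ⊤ := by
      rw [eq_top_iff]
      rintro ⟨m, hm⟩ -
      have hm' : m ∈ Submodule.span R (W q : Set M) := by rw [hW q]; exact hm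
      -- induction on span
      have : ∀ m (hm : m ∈ Submodule.span R (W q : Set M)) (hm2 : m ∈ Submodule.torsionBySet R M (q : Set R)),
          (⟨m, hm2⟩ : Submodule.torsionBySet R M (q : Set R)) ∈
            Submodule.span (R ⧸ q) (W' : Set (Submodule.torsionBySet R M (q : Set R))) := by
        intro m hm
        induction hm using Submodule.span_induction with
        | mem x hx =>
          intro hm2
          refine Submodule.subset_span ?_
          simp only [W', Finset.coe_image, Set.mem_image, Finset.mem_coe, Finset.mem_attach, true_and]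
          exact ⟨⟨x, hx⟩, rfl⟩
        | zero =>
          intro hm2
          exact Submodule.zero_mem _
        | add x z hx hz ihx ihz =>
          intro hm2
          have hx2 : x ∈ Submodule.torsionBySet R M (q : Set R) := by
            rw [← hW q]; exact hx
          have hz2 : z ∈ Submodule.torsionBySet R M (q : Set R) := by
            rw [← hW q]; exact hz
          have : (⟨x + z, hm2⟩ : Submodule.torsionBySet R M (q : Set R)) = ⟨x, hx2⟩ + ⟨z, hz2⟩ := rfl
          rw [this]
          exact Submodule.add_mem _ (ihx hx2) (ihz hz2)
        | smul a x hx ihx =>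
          intro hm2
          have hx2 : x ∈ Submodule.torsionBySet R M (q : Set R) := by
            rw [← hW q]; exact hx
          have : (⟨a • x, hm2⟩ : Submodule.torsionBySet R M (q : Set R))
              = Ideal.Quotient.mk q a • ⟨x, hx2⟩ := rfl
          rw [this]
          exact Submodule.smul_mem _ _ (ihx hx2)
      exact this m hm' hm
    have hcard := linearIndependent_le_span_finset y hli W' hspan
    have hW'card : W'.card ≤ (W q).card := by
      refine (Finset.card_image_le).trans ?_
      simp
    have hTfin : Finite T := by
      have : Cardinal.mk T < Cardinal.aleph0 := lt_of_le_of_lt hcard (Cardinal.nat_lt_aleph0 _)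
      exact Cardinal.lt_aleph0_iff_finite.mp this
    letI := Fintype.ofFinite T
    refine ⟨Finset.univ.image (fun j : T => j.1), ?_, ?_⟩
    · refine (Finset.card_image_le).trans ?_
      rw [Finset.card_univ]
      have h1 : (Fintype.card T : Cardinal) ≤ (W'.card : Cardinal) := by
        rw [← Cardinal.mk_fintype]; exact hcard
      exact (Nat.cast_le.mp h1).trans hW'card
    · intro i hi hqi
      exact Finset.mem_image.mpr ⟨⟨i, hi, hqi⟩, Finset.mem_univ _, rfl⟩
  choose! S hS using key
  refine ⟨hfin.toFinset.biUnion S, ?_, ?_⟩
  · refine Finset.card_biUnion_le.trans (Finset.sum_le_sum fun q hq => ?_)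
    exact (hS q (hfin.mem_toFinset.mp hq)).1
  · intro i hi
    have hq := (hQX i hi).1
    exact Finset.mem_biUnion.mpr ⟨Q i, hfin.mem_toFinset.mpr hq, (hS (Q i) hq).2 i hi rfl⟩

end Groth.Agent.S16158
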