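import Groth.Statements.S16162
import Mathlib

set_option autoImplicit false
open CategoryTheory MonoidalCategory CartesianMonoidalCategory MonObj GrpObj AlgebraicGeometry
universe u
open MadRed

namespace Groth.Agent.S16162


/-- Let S be a scheme, G a group scheme over S, and X an S-scheme with an action of G making X → S a
principal G-bundle (a torsor in the representable fppf sense: X → S surjective, flat and locally of
finite presentation, and G ×_S X → X ×_S X, (g, x) ↦ (g·x, x), an isomorphism). Let P be a closed
subset of X stable under the action: the action map sends into P every point of G ×_S X whose second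
projection lies in P. Then the image of P in S is closed, and P is the full preimage of its image.
(The source works with varieties over the complex numbers and an affine algebraic group; the
assertion holds over any base. Its second assertion, that P → image is again a principal bundle for
the induced reduced structures, then comes from base change and is not part of this row.) -/
theorem result {S : Scheme.{u}}
    {G X : Over S} [GrpObj G] (a : AlgGrp.Action G X) (ha : RedSub.IsTorsor a)
    (P : Set X.left) (hP : IsClosed P)
    (hstab : ∀ w : (G ⊗ X).left, (snd G X).left.base w ∈ P → a.act.left.base w ∈ P) :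
    IsClosed (X.hom.base '' P) ∧ X.hom.base ⁻¹' (X.hom.base '' P) = P := by
  obtain ⟨hsurj, hflat, hlfp, hiso⟩ := ha
  have hsat : X.hom.base ⁻¹' (X.hom.base '' P) = P := by
    apply Set.Subset.antisymm
    · rintro x ⟨p, hp, hpx⟩
      -- the point (x, p) of X ×_S X
      obtain ⟨z, hz1, hz2⟩ :=
        Scheme.Pullback.exists_preimage_pullback (f := X.hom) (g := X.hom) x p hpx.symm
      have hz1' : (fst X X).left.base z = x := hz1
      have hz2' : (snd X X).left.base z = p := hz2
      -- its preimage in G ×_S X
      have : IsIso (lift a.act (snd G X)).left := by
        have := hiso
        exact inferInstanceAs (IsIso ((Over.forget S).map (lift a.act (snd G X))))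
      let e := (asIso (lift a.act (snd G X)).left)
      obtain ⟨w, hw⟩ : ∃ w : (G ⊗ X).left, (lift a.act (snd G X)).left.base w = z :=
        ⟨e.inv.base z, by
          rw [← Scheme.Hom.comp_apply]
          change (e.inv ≫ e.hom).base z = z
          rw [e.inv_hom_id]
          rfl⟩
      have h1 : a.act.left.base w = x := by
        rw [← hz1', ← hw, ← Scheme.Hom.comp_apply, ← Over.comp_left, lift_fst]
      have h2 : (snd G X).left.base w = p := by
        rw [← hz2', ← hw, ← Scheme.Hom.comp_apply, ← Over.comp_left, lift_snd]
      rw [← h1]
      exact hstab w (by rw [h2]; exact hp)
    · intro x hx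
      exact ⟨x, hx, rfl⟩
  refine ⟨?_, hsat⟩
  have hopen : IsOpenMap X.hom.base := X.hom.isOpenMap
  have hq : Topology.IsQuotientMap X.hom.base :=
    hopen.isQuotientMap X.hom.continuous X.hom.surjective
  rw [← hq.isClosed_preimage, hsat]
  exact hP

end Groth.Agent.S16162
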