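import Groth.Statements.S16170
import Groth.Agent.Lib.Helper24Lattice
import Mathlib.LinearAlgebra.Matrix.SesquilinearForm
import Mathlib.LinearAlgebra.Matrix.ToLin

set_option autoImplicit false
open Neron

namespace Groth.Agent.S16170

open Matrix

/-- one half of the statement -/
theorem idem_left
    {ι : Type} [Fintype ι] [DecidableEq ι]
    (M N χ₁ χ₂ : Matrix ι ι ℤ) (hM : M.IsSymm) (hN : N.IsSymm)
    (hMpos : ∀ v : ι → ℤ, 0 ≤ v ⬝ᵥ M.mulVec v) (hNpos : ∀ v : ι → ℤ, 0 ≤ v ⬝ᵥ N.mulVec v)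
    (hpos : ∀ v : ι → ℤ, v ≠ 0 → 0 < v ⬝ᵥ (M + N).mulVec v)
    (hsum : χ₁ + χ₂ = 1) (hrel : M * χ₂ = N * χ₁) :
    χ₁ * χ₁ = χ₁ := by
  have hS1 : (M + N) * χ₁ = M := by
    rw [add_mul, ← hrel, ← mul_add, hsum, mul_one]
  have hS2 : (M + N) * χ₂ = N := by
    rw [add_mul, hrel, ← mul_add, hsum, mul_one]
  have hSsymm : (M + N)ᵀ = M + N := by
    rw [transpose_add, hM.eq, hN.eq]
  have hadjM : χ₁ᵀ * (M + N) = (M + N) * χ₁ := by
    have h := congrArg transpose hS1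
    rw [transpose_mul, hSsymm, hM.eq] at h
    rw [h, hS1]
  have hχ₂ : χ₂ = 1 - χ₁ := by rw [← hsum]; abel
  have key := Groth.Agent.Lib.Helper24.lattice_idem
    (Matrix.toLinearMap₂' ℤ (M + N)) (Matrix.toLin' χ₁)
    (by
      intro v hv
      rw [Matrix.toLinearMap₂'_apply']
      exact hpos v hv)
    (by
      intro v w
      rw [Matrix.toLinearMap₂'_apply', Matrix.toLinearMap₂'_apply', Matrix.toLin'_apply,
        Matrix.toLin'_apply, dotProduct_mulVec, ← vecMul_transpose, vecMul_vecMul, hadjM,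
        ← vecMul_vecMul, ← dotProduct_mulVec, ← dotProduct_mulVec, mulVec_mulVec])
    (by
      intro v
      rw [Matrix.toLinearMap₂'_apply', Matrix.toLin'_apply, mulVec_mulVec, hS1]
      exact hMpos v)
    (by
      intro v
      have : v - Matrix.toLin' χ₁ v = χ₂ *ᵥ v := by
        rw [Matrix.toLin'_apply, hχ₂, sub_mulVec, one_mulVec]
      rw [Matrix.toLinearMap₂'_apply', this, mulVec_mulVec, hS2]
      exact hNpos v)
  apply Matrix.toLin'.injective
  apply LinearMap.ext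
  intro v
  rw [Matrix.toLin'_mul, LinearMap.comp_apply]
  exact key v

/-- Let M and N be symmetric positive-semidefinite integer matrices on the same finite index set whose
sum M + N is positive definite, and let χ₁, χ₂ be integer matrices with χ₁ + χ₂ = 1 and M χ₂ = N χ₁.
Then χ₁ and χ₂ are idempotent. (In the intended application M = Pᵀ Ψ₁ P and N = Qᵀ Ψ₂ Q for
surjective integer matrices P, Q and positive-definite Ψ₁, Ψ₂.) -/
theorem result
    {ι : Type} [Fintype ι] [DecidableEq ι]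
    (M N χ₁ χ₂ : Matrix ι ι ℤ) (hM : M.IsSymm) (hN : N.IsSymm)
    (hMpos : ∀ v : ι → ℤ, 0 ≤ v ⬝ᵥ M.mulVec v) (hNpos : ∀ v : ι → ℤ, 0 ≤ v ⬝ᵥ N.mulVec v)
    (hpos : ∀ v : ι → ℤ, v ≠ 0 → 0 < v ⬝ᵥ (M + N).mulVec v)
    (hsum : χ₁ + χ₂ = 1) (hrel : M * χ₂ = N * χ₁) :
    χ₁ * χ₁ = χ₁ ∧ χ₂ * χ₂ = χ₂ := by
  refine ⟨idem_left M N χ₁ χ₂ hM hN hMpos hNpos hpos hsum hrel, ?_⟩
  refine idem_left N M χ₂ χ₁ hN hM hNpos hMpos ?_ ?_ hrel.symm
  · intro v hv
    rw [add_comm]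
    exact hpos v hv
  · rw [add_comm]; exact hsum

end Groth.Agent.S16170
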