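import Groth.Statements.S16164
import Groth.Agent.S16170
import Mathlib.Tactic

set_option autoImplicit false
open Neron

namespace Groth.Agent.S16164

open Matrix

/-- Let X, Y₁, Y₂ be finitely generated free abelian groups with chosen bases, so that homomorphisms are
integer matrices acting on column vectors and each group is identified with its dual; let P : X → Y₁
and Q : X → Y₂ be surjective with A = (P over Q) : X → Y₁ ⊕ Y₂ injective, and let Ψ₁, Ψ₂ be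
symmetric positive-definite integer matrices on Y₁ and Y₂, Ψ their block-diagonal sum. If the image
of Aᵀ Ψ : Y₁ ⊕ Y₂ → X coincides with the image of Aᵀ Ψ A : X → X (the reverse inclusion always
holds), then A is bijective. (In the source X, Y₁, Y₂ are character groups of maximal tori, P and Q
specialization maps, Ψ₁ and Ψ₂ monodromy pairings, and the hypothesis expresses that two groups of
components coincide.) -/
theorem result
    {ι κ₁ κ₂ : Type} [Fintype ι] [Fintype κ₁] [Fintype κ₂]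
    (P : Matrix κ₁ ι ℤ) (Q : Matrix κ₂ ι ℤ)
    (hP : Function.Surjective P.mulVec) (hQ : Function.Surjective Q.mulVec)
    (hA : Function.Injective (Matrix.fromRows P Q).mulVec)
    (Ψ₁ : Matrix κ₁ κ₁ ℤ) (Ψ₂ : Matrix κ₂ κ₂ ℤ) (hΨ₁ : Ψ₁.IsSymm) (hΨ₂ : Ψ₂.IsSymm)
    (hΨ₁pos : ∀ y : κ₁ → ℤ, y ≠ 0 → 0 < y ⬝ᵥ Ψ₁.mulVec y)
    (hΨ₂pos : ∀ y : κ₂ → ℤ, y ≠ 0 → 0 < y ⬝ᵥ Ψ₂.mulVec y)
    (himage : LinearMap.range ((Matrix.fromRows P Q).transpose * Matrix.fromBlocks Ψ₁ 0 0 Ψ₂).mulVecLin =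
      LinearMap.range ((Matrix.fromRows P Q).transpose * Matrix.fromBlocks Ψ₁ 0 0 Ψ₂ * Matrix.fromRows P Q).mulVecLin) :
    Function.Bijective (Matrix.fromRows P Q).mulVec := by
  classical
  refine ⟨hA, ?_⟩
  set M : Matrix ι ι ℤ := Pᵀ * Ψ₁ * P with hMdef
  set N : Matrix ι ι ℤ := Qᵀ * Ψ₂ * Q with hNdef
  have hATΨ : (fromRows P Q)ᵀ * fromBlocks Ψ₁ 0 0 Ψ₂ = fromCols (Pᵀ * Ψ₁) (Qᵀ * Ψ₂) := by
    rw [transpose_fromRows, fromCols_mul_fromBlocks]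
    simp
  have hS : (fromRows P Q)ᵀ * fromBlocks Ψ₁ 0 0 Ψ₂ * fromRows P Q = M + N := by
    rw [hATΨ, fromCols_mul_fromRows]
  rw [hS, hATΨ] at himage
  have hqM : ∀ v : ι → ℤ, v ⬝ᵥ M *ᵥ v = (P *ᵥ v) ⬝ᵥ Ψ₁ *ᵥ (P *ᵥ v) := by
    intro v
    rw [hMdef, ← mulVec_mulVec, ← mulVec_mulVec, dotProduct_mulVec v, vecMul_transpose]
  have hqN : ∀ v : ι → ℤ, v ⬝ᵥ N *ᵥ v = (Q *ᵥ v) ⬝ᵥ Ψ₂ *ᵥ (Q *ᵥ v) := by
    intro v
    rw [hNdef, ← mulVec_mulVec, ← mulVec_mulVec, dotProduct_mulVec v, vecMul_transpose]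
  have hΨ₁nn : ∀ y : κ₁ → ℤ, 0 ≤ y ⬝ᵥ Ψ₁ *ᵥ y := by
    intro y
    by_cases hy : y = 0
    · subst hy; simp
    · exact (hΨ₁pos y hy).le
  have hΨ₂nn : ∀ y : κ₂ → ℤ, 0 ≤ y ⬝ᵥ Ψ₂ *ᵥ y := by
    intro y
    by_cases hy : y = 0
    · subst hy; simp
    · exact (hΨ₂pos y hy).le
  have hMsymm : M.IsSymm := by
    unfold Matrix.IsSymm
    rw [hMdef, transpose_mul, transpose_mul, transpose_transpose, hΨ₁.eq, Matrix.mul_assoc]
  have hNsymm : N.IsSymm := by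
    unfold Matrix.IsSymm
    rw [hNdef, transpose_mul, transpose_mul, transpose_transpose, hΨ₂.eq, Matrix.mul_assoc]
  have hMnn : ∀ v : ι → ℤ, 0 ≤ v ⬝ᵥ M *ᵥ v := fun v => by rw [hqM]; exact hΨ₁nn _
  have hNnn : ∀ v : ι → ℤ, 0 ≤ v ⬝ᵥ N *ᵥ v := fun v => by rw [hqN]; exact hΨ₂nn _
  have hposS : ∀ v : ι → ℤ, v ≠ 0 → 0 < v ⬝ᵥ (M + N) *ᵥ v := by
    intro v hv
    rw [add_mulVec, dotProduct_add, hqM, hqN]
    have hne : fromRows P Q *ᵥ v ≠ 0 := fun h => hv (hA (h.trans (mulVec_zero _).symm))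
    rw [fromRows_mulVec] at hne
    by_cases hPv : P *ᵥ v = 0
    · have hQv : Q *ᵥ v ≠ 0 := by
        intro h
        apply hne
        rw [hPv, h]
        ext (i | i) <;> rfl
      have := hΨ₂pos _ hQv
      have := hΨ₁nn (P *ᵥ v)
      linarith
    · have := hΨ₁pos _ hPv
      have := hΨ₂nn (Q *ᵥ v)
      linarith
  have hSinj : ∀ X Y : Matrix ι ι ℤ, (M + N) * X = (M + N) * Y → X = Y := by
    intro X Y h
    apply Matrix.toLin'.injective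
    apply LinearMap.ext
    intro v
    rw [toLin'_apply, toLin'_apply]
    by_contra hne
    have hne' : X *ᵥ v - Y *ᵥ v ≠ 0 := sub_ne_zero.mpr hne
    have := hposS _ hne'
    rw [mulVec_sub, mulVec_mulVec, mulVec_mulVec, h, sub_self, dotProduct_zero] at this
    exact lt_irrefl _ this
  have hcol : ∀ (T : Matrix ι ι ℤ), (∀ j : ι, ∃ x : ι → ℤ, (M + N) *ᵥ x = T *ᵥ (Pi.single j 1)) →
      ∃ χ : Matrix ι ι ℤ, (M + N) * χ = T := by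
    intro T hT
    choose x hx using hT
    refine ⟨Matrix.of fun i j => x j i, ?_⟩
    ext i j
    have := congrFun (hx j) i
    rw [mulVec_single_one] at this
    exact this
  have hex1 : ∃ χ₁ : Matrix ι ι ℤ, (M + N) * χ₁ = M := by
    apply hcol
    intro j
    have hmem : M *ᵥ (Pi.single j 1) ∈
        LinearMap.range (fromCols (Pᵀ * Ψ₁) (Qᵀ * Ψ₂)).mulVecLin := by
      refine ⟨Sum.elim (P *ᵥ Pi.single j 1) 0, ?_⟩
      rw [mulVecLin_apply, fromCols_mulVec_sumElim, mulVec_zero, add_zero, mulVec_mulVec]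
    rw [himage] at hmem
    obtain ⟨x, hx⟩ := hmem
    exact ⟨x, hx⟩
  have hex2 : ∃ χ₂ : Matrix ι ι ℤ, (M + N) * χ₂ = N := by
    apply hcol
    intro j
    have hmem : N *ᵥ (Pi.single j 1) ∈
        LinearMap.range (fromCols (Pᵀ * Ψ₁) (Qᵀ * Ψ₂)).mulVecLin := by
      refine ⟨Sum.elim 0 (Q *ᵥ Pi.single j 1), ?_⟩
      rw [mulVecLin_apply, fromCols_mulVec_sumElim, mulVec_zero, zero_add, mulVec_mulVec]
    rw [himage] at hmem
    obtain ⟨x, hx⟩ := hmem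
    exact ⟨x, hx⟩
  obtain ⟨χ₁, h1⟩ := hex1
  obtain ⟨χ₂, h2⟩ := hex2
  have hsum : χ₁ + χ₂ = 1 := hSinj _ _ (by rw [mul_add, h1, h2, mul_one])
  have hχ₂ : χ₂ = 1 - χ₁ := by rw [← hsum]; abel
  have hcomm : χ₁ * χ₂ = χ₂ * χ₁ := by rw [hχ₂]; noncomm_ring
  have hrel : M * χ₂ = N * χ₁ := by
    calc M * χ₂ = (M + N) * χ₁ * χ₂ := by rw [h1]
      _ = (M + N) * (χ₂ * χ₁) := by rw [mul_assoc, hcomm]
      _ = N * χ₁ := by rw [← mul_assoc, h2]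
  obtain ⟨hi1, hi2⟩ := Groth.Agent.S16170.result M N χ₁ χ₂ hMsymm hNsymm hMnn hNnn hposS hsum hrel
  have hD : χ₁ * χ₂ = 0 := by rw [hχ₂, mul_sub, mul_one, hi1, sub_self]
  have hD' : χ₂ * χ₁ = 0 := by rw [← hcomm, hD]
  have hMχ₂ : M * χ₂ = 0 := by rw [← h1, mul_assoc, hD, mul_zero]
  have hNχ₁ : N * χ₁ = 0 := by rw [← h2, mul_assoc, hD', mul_zero]
  have hPχ₂ : ∀ v : ι → ℤ, P *ᵥ (χ₂ *ᵥ v) = 0 := by
    intro v
    by_contra hne
    have := hΨ₁pos _ hne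
    rw [← hqM, mulVec_mulVec, hMχ₂, zero_mulVec, dotProduct_zero] at this
    exact lt_irrefl _ this
  have hQχ₁ : ∀ v : ι → ℤ, Q *ᵥ (χ₁ *ᵥ v) = 0 := by
    intro v
    by_contra hne
    have := hΨ₂pos _ hne
    rw [← hqN, mulVec_mulVec, hNχ₁, zero_mulVec, dotProduct_zero] at this
    exact lt_irrefl _ this
  intro y
  obtain ⟨x₁, hx₁⟩ := hP (y ∘ Sum.inl)
  obtain ⟨x₂, hx₂⟩ := hQ (y ∘ Sum.inr)
  refine ⟨χ₁ *ᵥ x₁ + χ₂ *ᵥ x₂, ?_⟩
  have hdec : ∀ x : ι → ℤ, x = χ₁ *ᵥ x + χ₂ *ᵥ x := by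
    intro x
    rw [← add_mulVec, hsum, one_mulVec]
  have e1 : P *ᵥ (χ₁ *ᵥ x₁) = y ∘ Sum.inl := by
    rw [← hx₁]
    conv_rhs => rw [hdec x₁, mulVec_add, hPχ₂, add_zero]
  have e2 : Q *ᵥ (χ₂ *ᵥ x₂) = y ∘ Sum.inr := by
    rw [← hx₂]
    conv_rhs => rw [hdec x₂, mulVec_add, hQχ₁, zero_add]
  change fromRows P Q *ᵥ (χ₁ *ᵥ x₁ + χ₂ *ᵥ x₂) = y
  rw [fromRows_mulVec, mulVec_add, mulVec_add, hPχ₂, hQχ₁, add_zero, zero_add, e1, e2]
  ext (i | i) <;> rfl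

end Groth.Agent.S16164
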