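import Groth.Statements.S16185
import Groth.Agent.Lib.Helper5SpecialFibre

set_option autoImplicit false
universe u
open CategoryTheory CategoryTheory.Limits AlgebraicGeometry
open Dual3

namespace Groth.Agent.S16185

/-- Let A be an Artinian local ring with maximal ideal m and let f : P → Spec A be a flat morphism of
schemes whose closed fibre X = P ×_{Spec A} Spec (A/m) is a Gorenstein scheme (locally Noetherian,
all local rings Gorenstein). Then f is a Gorenstein morphism: flat at every point with Gorenstein
local rings on its fibres. (The source takes A to be a local Artinian algebra over a field k with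
residue field k and X a k-scheme deformed flatly over A; the k-algebra structure plays no role, so
the residue field of A is used directly.) -/
theorem result
    {A : Type u} [CommRing A] [IsArtinianRing A] [IsLocalRing A]
    {P X : Scheme.{u}} (f : P ⟶ Spec (CommRingCat.of A)) [Flat f]
    (i : X ⟶ P) (q : X ⟶ Spec (CommRingCat.of (IsLocalRing.ResidueField A)))
    (hsq : IsPullback i q f (Spec.map (CommRingCat.ofHom (IsLocalRing.residue A))))
    (hX : Dual3.IsGorenstein X) : Dual3.IsGorensteinMor f := by
  intro x
  refine ⟨Flat.stalkMap f x, ?_⟩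
  have hsub : Subsingleton ↥(Spec (CommRingCat.of A)) := by
    refine ⟨fun a b => ?_⟩
    have ha : a.asIdeal = IsLocalRing.maximalIdeal A :=
      IsLocalRing.eq_maximalIdeal (IsArtinianRing.isPrime_iff_isMaximal _ |>.mp a.isPrime)
    have hb : b.asIdeal = IsLocalRing.maximalIdeal A :=
      IsLocalRing.eq_maximalIdeal (IsArtinianRing.isPrime_iff_isMaximal _ |>.mp b.isPrime)
    exact PrimeSpectrum.ext (ha.trans hb.symm)
  haveI : Surjective (Spec.map (CommRingCat.ofHom
      (algebraMap A (IsLocalRing.ResidueField A)))) :=
    ⟨fun y => ⟨IsLocalRing.closedPoint (IsLocalRing.ResidueField A), Subsingleton.elim _ _⟩⟩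
  obtain ⟨x₀, rfl⟩ := (inferInstance : Surjective (Limits.pullback.fst f (Spec.map
    (CommRingCat.ofHom (algebraMap A (IsLocalRing.ResidueField A)))))).surj x
  obtain ⟨e1⟩ := Groth.Agent.Lib.Helper5.SpecialFibre.nonempty_stalk_equiv f x₀
  let e : X ≅ Groth.Agent.Lib.Helper5.SpecialFibre.closedFibre f := hsq.isoPullback
  have e2 : X.presheaf.stalk (e.inv x₀) ≃+*
      (Groth.Agent.Lib.Helper5.SpecialFibre.closedFibre f).presheaf.stalk x₀ :=
    (asIso (e.inv.stalkMap x₀)).commRingCatIsoToRingEquiv
  exact Groth.Agent.Lib.Helper5.FiberMor.isoInv_gor _ _ (e2.trans e1) (hX.2 (e.inv x₀))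

end Groth.Agent.S16185
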