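import Groth.Statements.S16188
import Mathlib

set_option autoImplicit false
universe u
open CategoryTheory AlgebraicGeometry TopologicalSpace
open SchMor

namespace Groth.Agent.S16188

/-- Let f : X → Y be a morphism of schemes with X reduced and irreducible. Then f factors through an
irreducible component of Y carrying its reduced closed-subscheme structure: there are an irreducible
component Z of Y and a morphism g from X to the closed subscheme of Y cut out by the vanishing ideal
sheaf of Z with g followed by the inclusion equal to f; that closed subscheme is integral. -/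
theorem result
    {X Y : Scheme.{u}} (f : X ⟶ Y) [IsReduced X] [IrreducibleSpace X] :
    ∃ (Z : Closeds Y) (_ : (Z : Set Y) ∈ irreducibleComponents Y)
      (_ : IsIntegral (Scheme.IdealSheafData.vanishingIdeal Z).subscheme)
      (g : X ⟶ (Scheme.IdealSheafData.vanishingIdeal Z).subscheme),
      g ≫ (Scheme.IdealSheafData.vanishingIdeal Z).subschemeι = f := by
  classical
  -- the closure of the range of `f` is irreducible
  have hirr : IsIrreducible (closure (Set.range f)) := by
    have h1 : IsIrreducible (Set.range f) := by
      rw [← Set.image_univ]
      exact (IrreducibleSpace.isIrreducible_univ X).image f f.continuous.continuousOn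
    exact h1.closure
  obtain ⟨t, ht, hst, hmax⟩ := exists_preirreducible _ hirr.isPreirreducible
  have htirr : IsIrreducible t := ⟨hirr.nonempty.mono hst, ht⟩
  have htc : t ∈ irreducibleComponents Y := by
    refine ⟨htirr, fun u hu htu => ?_⟩
    exact (hmax u hu.isPreirreducible htu).le
  let Z : Closeds Y := ⟨t, isClosed_of_mem_irreducibleComponents t htc⟩
  have hle : Scheme.IdealSheafData.vanishingIdeal Z ≤ f.ker := by
    have h2 := Scheme.IdealSheafData.map_vanishingIdeal f ⊤
    rw [Scheme.IdealSheafData.vanishingIdeal_top, Scheme.nilradical_eq_bot,
      Scheme.IdealSheafData.map_bot] at h2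
    rw [h2]
    apply Scheme.IdealSheafData.vanishingIdeal_antimono
    rw [TopologicalSpace.Closeds.closure_le]
    intro y hy
    exact hst (subset_closure (by
      obtain ⟨x, -, rfl⟩ := hy
      exact ⟨x, rfl⟩))
  have hred : IsReduced (Scheme.IdealSheafData.vanishingIdeal Z).subscheme := by
    have : ∀ i, IsReduced
        ((Scheme.IdealSheafData.vanishingIdeal Z).subschemeCover.openCover.X i) := by
      intro (U : Y.affineOpens)
      change IsReduced (Spec (.of (Γ(Y, U.1) ⧸ (Scheme.IdealSheafData.vanishingIdeal Z).ideal U)))
      have : _root_.IsReduced (Γ(Y, U.1) ⧸ (Scheme.IdealSheafData.vanishingIdeal Z).ideal U) := by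
        rw [← Ideal.isRadical_iff_quotient_reduced]
        rw [Scheme.IdealSheafData.vanishingIdeal_ideal]
        exact PrimeSpectrum.isRadical_vanishingIdeal _
      infer_instance
    exact IsReduced.of_openCover _ (Scheme.IdealSheafData.vanishingIdeal Z).subschemeCover.openCover
  have hirrsp : IrreducibleSpace (Scheme.IdealSheafData.vanishingIdeal Z).subscheme := by
    have : IrreducibleSpace ((Scheme.IdealSheafData.vanishingIdeal Z).support : Set Y) := by
      rw [Scheme.IdealSheafData.coe_support_vanishingIdeal]
      exact Subtype.irreducibleSpace htirr
    exact this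
  refine ⟨Z, htc, isIntegral_of_irreducibleSpace_of_isReduced _,
    f.toImage ≫ Scheme.IdealSheafData.inclusion hle, ?_⟩
  rw [Category.assoc, Scheme.IdealSheafData.inclusion_subschemeι]
  exact f.toImage_imageι

end Groth.Agent.S16188
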