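import Groth.Statements.S16195
import Mathlib

set_option autoImplicit false
universe u v w
open DivAlg

namespace Groth.Agent.S16195

/-- Let R be a ring (associative, unital, not necessarily commutative) and M, N left R-modules. For an
R-module P write BiEnd_R(P) for the ring of endomorphisms of P that are linear over the ring
End_R(P), which acts on P through evaluation. Then every T in BiEnd_R(M × N) preserves the two
summands and is induced by a pair (T₁, T₂) with T₁ in BiEnd_R(M) and T₂ in BiEnd_R(N). -/
theorem result {R : Type u} [Ring R] (M : Type v) (N : Type w)
    [AddCommGroup M] [Module R M] [AddCommGroup N] [Module R N]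
    (T : Module.End (Module.End R (M × N)) (M × N)) :
    ∃ (T₁ : Module.End (Module.End R M) M) (T₂ : Module.End (Module.End R N) N),
      ∀ (m : M) (n : N), T (m, n) = (T₁ m, T₂ n) := by
  -- key: `T (φ x) = φ (T x)` for every `R`-endomorphism `φ` of `M × N`
  have hT : ∀ (φ : Module.End R (M × N)) (x : M × N), T (φ x) = φ (T x) := by
    intro φ x
    have := T.map_smul φ x
    simpa using this
  let T₁ : Module.End (Module.End R M) M :=
    { toFun := fun m => (T (m, 0)).1
      map_add' := by
        intro m m'
        have : ((m + m', 0) : M × N) = (m, 0) + (m', 0) := by simp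
        rw [this, map_add, Prod.fst_add]
      map_smul' := by
        intro φ m
        have h1 := hT (φ.prodMap 0) (m, 0)
        simp only [LinearMap.prodMap_apply, LinearMap.zero_apply] at h1
        simp only [Module.End.smul_def, RingHom.id_apply]
        rw [h1] }
  let T₂ : Module.End (Module.End R N) N :=
    { toFun := fun n => (T (0, n)).2
      map_add' := by
        intro n n'
        have : ((0, n + n') : M × N) = (0, n) + (0, n') := by simp
        rw [this, map_add, Prod.snd_add]
      map_smul' := by
        intro φ n
        have h1 := hT ((0 : Module.End R M).prodMap φ) (0, n)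
        simp only [LinearMap.prodMap_apply, LinearMap.zero_apply] at h1
        simp only [Module.End.smul_def, RingHom.id_apply]
        rw [h1] }
  refine ⟨T₁, T₂, fun m n => ?_⟩
  have h1 := hT ((LinearMap.id : Module.End R M).prodMap (0 : Module.End R N)) (m, 0)
  have h2 := hT ((0 : Module.End R M).prodMap (LinearMap.id : Module.End R N)) (0, n)
  simp only [LinearMap.prodMap_apply, LinearMap.zero_apply, LinearMap.id_apply] at h1 h2
  have h3 : ((m, n) : M × N) = (m, 0) + (0, n) := by simp
  rw [h3, map_add, h1, h2]
  simp [T₁, T₂]

end Groth.Agent.S16195
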