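import Groth.Statements.S16196
import Mathlib

set_option autoImplicit false
universe u v
open DivAlg

namespace Groth.Agent.S16196

/-- Let R be a ring (associative, unital, not necessarily commutative) and M a left R-module which is a
generator, in the form: for some n there is an R-linear surjection from M^n onto R. Then the natural
ring homomorphism from R to the double endomorphism ring BiEnd_R(M) = End_{End_R(M)}(M)
(endomorphisms of M commuting with every R-linear endomorphism), r ↦ multiplication by r, is
bijective. (The printed form takes R an algebra over a commutative ring k, embeds R in E = End_k(M)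
and asserts R = C_E(C_E(R)); the double centralizer there is BiEnd_R(M).) -/
theorem result {R : Type u} [Ring R] (M : Type v)
    [AddCommGroup M] [Module R M]
    (hgen : ∃ (n : ℕ) (f : (Fin n → M) →ₗ[R] R), Function.Surjective f) :
    Function.Bijective (Module.toModuleEnd (Module.End R M) (S := R) M) := by
  classical
  obtain ⟨n, f, hf⟩ := hgen
  obtain ⟨x, hx⟩ := hf 1
  -- components of `f`
  let fi : Fin n → (M →ₗ[R] R) := fun i => f ∘ₗ LinearMap.single R (fun _ => M) i
  have hsum : ∀ y : Fin n → M, f y = ∑ i, fi i (y i) := by
    intro y
    conv_lhs => rw [← Finset.univ_sum_single y]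
    rw [map_sum]
    rfl
  have h1 : ∑ i, fi i (x i) = 1 := by rw [← hsum, hx]
  constructor
  · -- injective
    rw [injective_iff_map_eq_zero]
    intro r hr
    have hrm : ∀ m : M, r • m = 0 := fun m => by
      have := LinearMap.congr_fun hr m
      simpa using this
    have : r • (1 : R) = 0 := by
      rw [← h1, Finset.smul_sum]
      refine Finset.sum_eq_zero fun i _ => ?_
      rw [← map_smul, hrm, map_zero]
    simpa using this
  · -- surjective
    intro T
    have hT : ∀ (φ : Module.End R M) (m : M), T (φ m) = φ (T m) := by
      intro φ m
      have := T.map_smul φ m
      simpa using this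
    refine ⟨∑ i, fi i (T (x i)), ?_⟩
    refine LinearMap.ext fun m => ?_
    have key : ∀ i, T (fi i (x i) • m) = fi i (T (x i)) • m := by
      intro i
      have := hT ((LinearMap.toSpanSingleton R M m) ∘ₗ fi i) (x i)
      simpa using this
    have hm : m = ∑ i, fi i (x i) • m := by rw [← Finset.sum_smul, h1, one_smul]
    conv_rhs => rw [hm, map_sum]
    simp only [Module.toModuleEnd_apply, DistribSMul.toLinearMap_apply, Finset.sum_smul]
    exact Finset.sum_congr rfl fun i _ => (key i).symm

end Groth.Agent.S16196
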