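import Groth.Statements.S16197
import Mathlib

set_option autoImplicit false
universe u v w
open DivAlg

namespace Groth.Agent.S16197

/-- A linear form taking the value `1` splits off a free rank one summand. -/
noncomputable def splitEquiv {R : Type*} [Ring R] {P : Type*} [AddCommGroup P] [Module R P]
    (g : P →ₗ[R] R) (x : P) (hx : g x = 1) : P ≃ₗ[R] (R × LinearMap.ker g) where
  toFun y := (g y, ⟨y - g y • x, by simp [LinearMap.mem_ker, hx]⟩)
  map_add' y z := by
    ext
    · simp
    · simp only [map_add, add_smul, Prod.snd_add, Submodule.coe_add]
      abel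
  map_smul' r y := by
    ext
    · simp
    · simp only [map_smul, smul_eq_mul, RingHom.id_apply, Prod.smul_snd, Submodule.coe_smul,
        smul_sub, mul_smul]
  invFun p := p.1 • x + p.2.1
  left_inv y := by simp
  right_inv p := by
    obtain ⟨r, ⟨q, hq⟩⟩ := p
    rw [LinearMap.mem_ker] at hq
    ext
    · simp [hx, hq]
    · simp [hx, hq]

/-- Let R be a ring (associative, unital, not necessarily commutative) and M a left R-module which is a
generator, used here only through the existence of an R-linear surjection from a direct sum of
copies of M, indexed by an arbitrary type, onto R. Then some finite power M^n decomposes as R × Q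
for a submodule Q of M^n. (The published statement is an equivalence; this row states only the
implication from the existence of such a surjection to the splitting.) -/
theorem result {R : Type u} [Ring R] (M : Type v)
    [AddCommGroup M] [Module R M]
    (hgen : ∃ (ι : Type w) (f : (ι →₀ M) →ₗ[R] R), Function.Surjective f) :
    ∃ (n : ℕ) (Q : Submodule R (Fin n → M)), Nonempty ((Fin n → M) ≃ₗ[R] (R × Q)) := by
  classical
  obtain ⟨ι, f, hf⟩ := hgen
  obtain ⟨x, hx⟩ := hf 1
  let s := x.support
  let e : Fin s.card ≃ s := s.equivFin.symm
  let g : (Fin s.card → M) →ₗ[R] R :=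
    ∑ j, (f ∘ₗ Finsupp.lsingle (e j).1) ∘ₗ LinearMap.proj j
  let x' : Fin s.card → M := fun j => x (e j).1
  have hg : g x' = 1 := by
    rw [← hx]
    simp only [g, x', LinearMap.sum_apply, LinearMap.comp_apply, LinearMap.proj_apply,
      Finsupp.lsingle_apply]
    rw [← map_sum]
    congr 1
    rw [Equiv.sum_comp e (fun i : s => Finsupp.single i.1 (x i.1))]
    rw [Finset.sum_coe_sort s (fun i => Finsupp.single i (x i))]
    exact Finsupp.sum_single x
  exact ⟨s.card, LinearMap.ker g, ⟨splitEquiv g x' hg⟩⟩

end Groth.Agent.S16197
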