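import Groth.Statements.S16198
import Mathlib
-- import your own Groth.Agent.* helpers here

set_option autoImplicit false
set_option linter.style.haveILetI false
set_option linter.unusedSectionVars false
universe u v
open DivAlg

namespace Groth.Agent.S16198

open TensorProduct PiTensorProduct CommRing

section
variable {R : Type u} [CommRing R] (N : Type v) [AddCommGroup N] [Module R N]

lemma tp_inv [Module.Invertible R N] (n : ℕ) :
    ∃ (_ : Module.Invertible R (⨂[R]^n N)), Pic.mk R (⨂[R]^n N) = Pic.mk R N ^ n := by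
  induction n with
  | zero =>
    haveI : Module.Invertible R (⨂[R]^0 N) :=
      Module.Invertible.congr (isEmptyEquiv (R := R) (s := fun _ : Fin 0 => N) (Fin 0)).symm
    refine ⟨this, ?_⟩
    rw [pow_zero]
    exact Pic.mk_eq_one_iff.2 ⟨isEmptyEquiv (Fin 0)⟩
  | succ n ih =>
    obtain ⟨inst, h⟩ := ih
    haveI := inst
    let e : ⨂[R]^(n+1) N ≃ₗ[R] (⨂[R]^n N) ⊗[R] N :=
      (TensorPower.mulEquiv (R := R) (M := N) (n := n) (m := 1)).symm ≪≫ₗ
        TensorProduct.congr (LinearEquiv.refl R _) (subsingletonEquiv (0 : Fin 1))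
    haveI : Module.Invertible R (⨂[R]^(n+1) N) := Module.Invertible.congr e.symm
    refine ⟨this, ?_⟩
    rw [pow_succ, ← h, ← Pic.mk_tensor]
    exact Pic.mk_eq_mk_iff.2 ⟨e⟩

/-- the determinant multilinear map -/
noncomputable def D (n : ℕ) (e : (Fin n → N) →ₗ[R] (Fin n → R)) :
    MultilinearMap R (fun _ : Fin n => N) R :=
  (Matrix.detRowAlternating (R := R) (n := Fin n)).toMultilinearMap.compLinearMap
    (fun j => e ∘ₗ LinearMap.single R (fun _ => N) j)

lemma D_apply (n : ℕ) (e : (Fin n → N) →ₗ[R] (Fin n → R)) (x : Fin n → N) :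
    D N n e x = Matrix.det (Matrix.of fun j i => e (Pi.single j (x j)) i) := rfl


lemma exists_gen [Module.Invertible R N] (m : Ideal R) [hm : m.IsMaximal] :
    ∃ x₀ : N, ∀ y : N, ∃ c : R, y - c • x₀ ∈ (m • ⊤ : Submodule R N) := by
  letI : Field (R ⧸ m) := Ideal.Quotient.field m
  haveI : Module.Free (R ⧸ m) ((R ⧸ m) ⊗[R] N) := Module.Free.of_divisionRing _ _
  obtain ⟨ε⟩ := Module.Invertible.free_iff_linearEquiv.1 this
  have hsurj : Function.Surjective (TensorProduct.mk R (R ⧸ m) N 1) :=
    TensorProduct.mk_surjective R N (R ⧸ m) Ideal.Quotient.mk_surjective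
  obtain ⟨x₀, hx₀⟩ := hsurj (ε.symm 1)
  refine ⟨x₀, fun y => ?_⟩
  obtain ⟨c, hc⟩ := Ideal.Quotient.mk_surjective (ε ((1 : R ⧸ m) ⊗ₜ[R] y))
  refine ⟨c, ?_⟩
  have h1 : (1 : R ⧸ m) ⊗ₜ[R] (y - c • x₀) = 0 := by
    rw [TensorProduct.tmul_sub, sub_eq_zero]
    apply ε.injective
    rw [← hc]
    have h2 : (1 : R ⧸ m) ⊗ₜ[R] (c • x₀) = (Ideal.Quotient.mk m c) • ((1 : R ⧸ m) ⊗ₜ[R] x₀) := by
      rw [TensorProduct.tmul_smul, TensorProduct.smul_tmul', TensorProduct.smul_tmul', smul_eq_mul,
        mul_one, Algebra.smul_def, mul_one]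
      rfl
    rw [h2, map_smul]
    have h3 : (1 : R ⧸ m) ⊗ₜ[R] x₀ = ε.symm 1 := hx₀
    rw [h3, LinearEquiv.apply_symm_apply, smul_eq_mul, mul_one]
  have h4 := congrArg (TensorProduct.quotTensorEquivQuotSMul N m) h1
  rw [map_zero] at h4
  have h5 : TensorProduct.quotTensorEquivQuotSMul N m ((1 : R ⧸ m) ⊗ₜ[R] (y - c • x₀))
      = Submodule.Quotient.mk ((1 : R) • (y - c • x₀)) :=
    TensorProduct.quotTensorEquivQuotSMul_mk_tmul m 1 (y - c • x₀)
  rw [h5, one_smul, Submodule.Quotient.mk_eq_zero] at h4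
  exact h4

lemma apply_mem_of_mem_smul (n : ℕ) (e : (Fin n → N) →ₗ[R] (Fin n → R)) (m : Ideal R) (z : N)
    (hz : z ∈ (m • ⊤ : Submodule R N)) (j i : Fin n) : e (Pi.single j z) i ∈ m := by
  refine Submodule.smul_induction_on hz ?_ ?_
  · intro r hr x _
    have : (Pi.single j (r • x) : Fin n → N) = r • Pi.single j x := by
      rw [← Pi.single_smul]
    rw [this, map_smul, Pi.smul_apply, smul_eq_mul]
    exact m.mul_mem_right _ hr
  · intro x y hx hy
    rw [Pi.single_add, map_add, Pi.add_apply]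
    exact m.add_mem hx hy

lemma det_not_mem [Module.Invertible R N] (n : ℕ) (e : (Fin n → N) ≃ₗ[R] (Fin n → R))
    (m : Ideal R) [hm : m.IsMaximal] :
    ∃ x₀ : N, D N n e.toLinearMap (fun _ => x₀) ∉ m := by
  classical
  obtain ⟨x₀, hx₀⟩ := exists_gen N m
  refine ⟨x₀, ?_⟩
  rw [D_apply]
  set A : Matrix (Fin n) (Fin n) R := Matrix.of fun j i => e.toLinearMap (Pi.single j x₀) i with hA
  -- coefficients
  have hcz : ∀ l j : Fin n, ∃ c : R, (e.symm (Pi.single l 1)) j - c • x₀ ∈ (m • ⊤ : Submodule R N) :=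
    fun l j => hx₀ _
  choose C hC using hcz
  have hmem : ∀ l i, ((1 : Matrix (Fin n) (Fin n) R) - (Matrix.of C) * A) l i ∈ m := by
    intro l i
    have h1 : (Pi.single l (1 : R) : Fin n → R) i
        = ∑ j, e.toLinearMap (Pi.single j ((e.symm (Pi.single l 1)) j)) i := by
      have h2 : e.symm (Pi.single l 1) = ∑ j, Pi.single j ((e.symm (Pi.single l 1)) j) := by
        ext t
        simp [Finset.sum_apply, Pi.single_apply]
      conv_lhs => rw [← e.apply_symm_apply (Pi.single l 1), h2]
      rw [map_sum, Finset.sum_apply]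
      rfl
    rw [Matrix.sub_apply, Matrix.mul_apply, Matrix.one_apply]
    have h3 : (if l = i then (1 : R) else 0) = (Pi.single l (1 : R) : Fin n → R) i := by
      rw [Pi.single_apply]
      simp only [eq_comm]
    rw [h3, h1, ← Finset.sum_sub_distrib]
    refine m.sum_mem (fun j _ => ?_)
    have h4 := apply_mem_of_mem_smul N n e.toLinearMap m _ (hC l j) j i
    rw [Pi.single_sub, map_sub, Pi.sub_apply] at h4
    have h5 : (Pi.single j (C l j • x₀) : Fin n → N) = C l j • Pi.single j x₀ := by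
      rw [← Pi.single_smul]
    rw [h5, map_smul, Pi.smul_apply, smul_eq_mul] at h4
    exact h4
  intro hdet
  have h2 : (Ideal.Quotient.mk m).mapMatrix ((Matrix.of C) * A) = 1 := by
    ext l i
    have := hmem l i
    rw [← Ideal.Quotient.eq_zero_iff_mem, Matrix.sub_apply, map_sub, sub_eq_zero] at this
    rw [RingHom.mapMatrix_apply, Matrix.map_apply, ← this, Matrix.one_apply, Matrix.one_apply]
    split_ifs <;> simp
  have h3 := congrArg Matrix.det h2
  rw [← RingHom.map_det, Matrix.det_mul, map_mul, Matrix.det_one,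
    Ideal.Quotient.eq_zero_iff_mem.2 hdet, mul_zero] at h3
  exact zero_ne_one h3

end


/-- In the case of a commutative ring R, let N be an invertible R-module such that the direct sum N^n is
isomorphic to R^n for some natural number n. Then the class of N in Pic(R) satisfies [N]^n = 1. (The
published statement is for invertible modules on an arbitrary ringed site; this row states the case
of a commutative ring.) -/
theorem result {R : Type u} [CommRing R] (N : Type v)
    [AddCommGroup N] [Module R N] [Module.Invertible R N] (n : ℕ)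
    (e : (Fin n → N) ≃ₗ[R] (Fin n → R)) :
    CommRing.Pic.mk R N ^ n = 1 := by
  obtain ⟨inst, h⟩ := tp_inv (R := R) N n
  haveI := inst
  rw [← h, Pic.mk_eq_one_iff]
  let L : ⨂[R]^n N →ₗ[R] R := PiTensorProduct.lift (D N n e.toLinearMap)
  have hsurj : Function.Surjective L := by
    rw [← LinearMap.range_eq_top]
    by_contra hne
    obtain ⟨m, hm, hle⟩ := Ideal.exists_le_maximal (LinearMap.range L) hne
    obtain ⟨x₀, hx₀⟩ := det_not_mem N n e m
    apply hx₀
    apply hle
    exact ⟨tprod R (fun _ => x₀), PiTensorProduct.lift.tprod _⟩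
  exact ⟨LinearEquiv.ofBijective L (Module.Invertible.bijective_of_surjective hsurj)⟩

end Groth.Agent.S16198
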