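import Groth.Statements.S16201
import Mathlib
import Groth.Agent.Lib.Helper10GenFibre
import Groth.Agent.Lib.Helper2Constr
-- import your own Groth.Agent.* helpers here

set_option autoImplicit false
open CategoryTheory AlgebraicGeometry
open Variety

namespace Groth.Agent.S16201

/-- Let f : Y → Z be a morphism of schemes of finite type over ℂ, with Z irreducible. Suppose that the
general fibre of f is irreducible, in the sense that there is a nonempty open subset V of Z such
that the fibre of f over every closed point of V is an irreducible topological space, and that each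
irreducible component of Y has dense image in Z. Then Y is irreducible. (The published statement is
for a morphism of projective varieties; only finiteness of type over the field is used, and the row
is stated in that generality.) -/
theorem result
    (Y Z : Scheme.{0}) (g : Z ⟶ Spec (CommRingCat.of ℂ)) (f : Y ⟶ Z)
    [LocallyOfFiniteType g] [QuasiCompact g] [LocallyOfFiniteType f] [QuasiCompact f]
    [IrreducibleSpace Z]
    (hgen : ∃ V : Z.Opens, (V : Set Z).Nonempty ∧
      ∀ z ∈ V, IsClosed ({z} : Set Z) → IsIrreducible (f.base ⁻¹' {z}))
    (hdom : ∀ W ∈ irreducibleComponents Y, Dense (f.base '' W)) :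
    IrreducibleSpace Y := by
  classical
  haveI : IsLocallyNoetherian Z := LocallyOfFiniteType.isLocallyNoetherian g
  haveI : CompactSpace Z := QuasiCompact.compactSpace_of_compactSpace g
  haveI : IsNoetherian Z := ⟨⟩
  haveI : IsLocallyNoetherian Y := LocallyOfFiniteType.isLocallyNoetherian f
  haveI : CompactSpace Y := QuasiCompact.compactSpace_of_compactSpace f
  haveI : IsNoetherian Y := ⟨⟩
  haveI : JacobsonSpace Z := LocallyOfFiniteType.jacobsonSpace g
  haveI : LocallyOfFinitePresentation f := inferInstance
  obtain ⟨V, hVne, hV⟩ := hgen
  refine Groth.Agent.Lib.Helper10.GenFibre.irreducibleSpace_of_general_fibre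
    (f := f.base) f.continuous
    TopologicalSpace.NoetherianSpace.finite_irreducibleComponents ?_
    (fun z => IsClosed ({z} : Set Z)) ?_ ⟨V, V.2, hVne, hV⟩ hdom
  · intro O hO hdense
    have hOc : Topology.IsConstructible O :=
      (TopologicalSpace.NoetherianSpace.isCompact O).isConstructible hO
    have hE : Topology.IsConstructible (f.base '' O) := f.isConstructible_image hOc
    obtain ⟨U, hU, hne, hsub⟩ := Groth.Agent.Lib.Helper2.Constr.exists_open_subset_of_dense hE
      (Y := Set.univ) (IrreducibleSpace.isIrreducible_univ Z)
      (by rw [Set.inter_univ]; exact fun z _ => hdense z)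
    rw [Set.inter_univ] at hne hsub
    exact ⟨U, hU, hne, hsub⟩
  · intro U hU hne
    obtain ⟨z, hzU, hz⟩ := nonempty_inter_closedPoints hne hU.isLocallyClosed
    exact ⟨z, hzU, hz⟩

end Groth.Agent.S16201
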