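import Groth.Statements.S16211
import Mathlib

set_option autoImplicit false
universe u v
open InvTh

namespace Groth.Agent.S16211



/-- Let R be a commutative ring, O a formally smooth R-algebra and G a finite group whose order is
invertible in R, acting on O by R-algebra automorphisms. Then the largest quotient algebra of O on
which G acts trivially, namely the quotient of O by the ideal generated by all g • f - f (the
coordinate ring of the subscheme of G-fixed points of Spec O), is again formally smooth over R:
invariant homomorphisms lift along square-zero extensions. The published statement is about a scheme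
X smooth and of finite presentation over the base and concludes that its fixed-point scheme is
smooth; this row, the affine step of its proof, assumes only that O is formally smooth over R and
concludes only formal smoothness. -/
theorem result (R : Type u) [CommRing R]
    (O : Type u) [CommRing O] [Algebra R O] [Algebra.FormallySmooth R O]
    (G : Type v) [Group G] [Finite G] [MulSemiringAction G O] [SMulCommClass G R O]
    (hG : IsUnit (Nat.card G : R)) :
    Algebra.FormallySmooth R (O ⧸ Ideal.span {x : O | ∃ (g : G) (f : O), x = g • f - f}) := by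
  classical
  cases nonempty_fintype G
  set J := Ideal.span {x : O | ∃ (g : G) (f : O), x = g • f - f} with hJ
  refine Algebra.FormallySmooth.of_comp_surjective fun B _ _ I hI φbar => ?_
  let ψbar : O →ₐ[R] B ⧸ I := φbar.comp (Ideal.Quotient.mkₐ R J)
  obtain ⟨ψ, hψ⟩ := Algebra.FormallySmooth.comp_surjective R O I hI ψbar
  let act : G → (O →ₐ[R] O) := fun g => (MulSemiringAction.toAlgEquiv R O g : O ≃ₐ[R] O).toAlgHom
  have hact : ∀ g x, act g x = g • x := fun g x => rfl
  have hinv : ∀ (g : G) (x : O), ψbar (g • x) = ψbar x := by
    intro g x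
    show φbar (Ideal.Quotient.mk J (g • x)) = φbar (Ideal.Quotient.mk J x)
    congr 1
    rw [Ideal.Quotient.eq]
    exact Ideal.subset_span ⟨g, x, rfl⟩
  let _ : Algebra O B := ψ.toRingHom.toAlgebra
  have : IsScalarTower R O B := IsScalarTower.of_algebraMap_eq (fun r => (ψ.commutes r).symm)
  have hmk : ∀ x : O, Ideal.Quotient.mk I (ψ x) = ψbar x := fun x => by
    have := congrArg (fun F => F x) hψ
    exact this
  have he : ∀ g : G, (Ideal.Quotient.mkₐ R I).comp (ψ.comp (act g)) =
      IsScalarTower.toAlgHom R O (B ⧸ I) := by
    intro g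
    ext x
    show Ideal.Quotient.mk I (ψ (g • x)) = Ideal.Quotient.mk I (ψ x)
    rw [hmk, hmk, hinv]
  obtain ⟨c, hc⟩ := hG.exists_left_inv
  let D : G → Derivation R O I := fun g => derivationToSquareZeroOfLift I hI (ψ.comp (act g)) (he g)
  have hD : ∀ g x, ((D g x : I) : B) = ψ (g • x) - ψ x := fun g x => rfl
  let Dbar : Derivation R O I := c • ∑ g : G, D g
  let ψ' : O →ₐ[R] B := liftOfDerivationToSquareZero I hI Dbar
  have hψ' : ∀ x, ψ' x = (Dbar x : B) + ψ x := fun x => rfl
  have hDbar : ∀ x, ((Dbar x : I) : B) = c • ∑ g : G, ψ (g • x) - ψ x := by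
    intro x
    have hsum : (∑ g : G, D g) x = ∑ g : G, D g x := by
      have h1 := congrFun (map_sum (Derivation.coeFnAddMonoidHom (R := R) (A := O) (M := I)) D
        Finset.univ) x
      rw [Finset.sum_apply] at h1
      exact h1
    have h2 : ((Dbar x : I) : B) = c • ∑ g : G, ((D g x : I) : B) := by
      show (((c • ∑ g : G, D g) x : I) : B) = _
      rw [Derivation.smul_apply, hsum, Submodule.coe_smul_of_tower,
        AddSubmonoidClass.coe_finsetSum]
    rw [h2]
    simp only [hD, Finset.sum_sub_distrib, Finset.sum_const, Finset.card_univ, smul_sub]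
    congr 1
    rw [← Nat.card_eq_fintype_card, ← Nat.cast_smul_eq_nsmul R, smul_smul, hc, one_smul]
  have key : ∀ x, ψ' x = c • ∑ g : G, ψ (g • x) := by
    intro x
    rw [hψ', hDbar, sub_add_cancel]
  have hinv' : ∀ (h : G) (x : O), ψ' (h • x) = ψ' x := by
    intro h x
    rw [key, key]
    congr 1
    simp_rw [← mul_smul]
    exact Fintype.sum_equiv (Equiv.mulRight h) _ _ (fun g => rfl)
  have hkill : ∀ a ∈ J, ψ' a = 0 := by
    intro a ha
    have : J ≤ RingHom.ker ψ'.toRingHom := by
      rw [hJ, Ideal.span_le]
      rintro _ ⟨g, f, rfl⟩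
      rw [SetLike.mem_coe, RingHom.mem_ker]
      show ψ' (g • f - f) = 0
      rw [map_sub, hinv', sub_self]
    exact this ha
  refine ⟨Ideal.Quotient.liftₐ J ψ' hkill, ?_⟩
  apply Ideal.Quotient.algHom_ext
  ext x
  show Ideal.Quotient.mk I (ψ' x) = φbar (Ideal.Quotient.mk J x)
  rw [hψ', map_add, hmk, Ideal.Quotient.eq_zero_iff_mem.mpr (Dbar x).2, zero_add]
  rfl

end Groth.Agent.S16211
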