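import Groth.Statements.S16222
import Groth.Agent.Lib.Helper19DieudonneB

set_option autoImplicit false
universe u v
open Disp
open Groth.Agent.Lib.Helper19Dieudonne

namespace Groth.Agent.S16222

theorem result (p : ℕ) [Fact p.Prime] (k : Type u) [CommRing k]
    [CharP k p] [PerfectRing k p]
    (M : Type v) [AddCommGroup M] [Module (WittVector p k) M] [Module.Finite (WittVector p k) M] [Module.Projective (WittVector p k) M]
    (F : M →ₛₗ[(WittVector.frobenius : WittVector p k →+* WittVector p k)] M)
    (V : M →ₛₗ[((WittVector.frobeniusEquiv p k).symm : WittVector p k →+* WittVector p k)] M)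
    (hFV : ∀ m : M, F (V m) = (p : WittVector p k) • m) (hVF : ∀ m : M, V (F m) = (p : WittVector p k) • m) :
    ((Ideal.span {(p : WittVector p k)} • (⊤ : Submodule (WittVector p k) M)).comap F =
        Submodule.span (WittVector p k) (Set.range V) ⊔ Ideal.span {(p : WittVector p k)} • (⊤ : Submodule (WittVector p k) M) ∧
      (Ideal.span {(p : WittVector p k)} • (⊤ : Submodule (WittVector p k) M)).comap V =
        Submodule.span (WittVector p k) (Set.range F) ⊔ Ideal.span {(p : WittVector p k)} • (⊤ : Submodule (WittVector p k) M)) ∧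
    Module.Projective (WittVector p k ⧸ Ideal.span {(p : WittVector p k)})
      ((M ⧸ (Ideal.span {(p : WittVector p k)} • (⊤ : Submodule (WittVector p k) M))) ⧸
        Submodule.span (WittVector p k ⧸ Ideal.span {(p : WittVector p k)})
          (Set.range fun m : M => (Ideal.span {(p : WittVector p k)} • (⊤ : Submodule (WittVector p k) M)).mkQ (V m))) := by
  have htf : ∀ x : M, (p : WittVector p k) • x = 0 → x = 0 :=
    eq_zero_of_smul_eq_zero (p : WittVector p k)
      (fun w hw => WittVector.eq_zero_of_p_mul_eq_zero w (by rwa [mul_comm]))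
  refine ⟨⟨?_, ?_⟩, ?_⟩
  · apply le_antisymm
    · intro x hx
      rw [Submodule.mem_comap, mem_p_smul_top_iff] at hx
      obtain ⟨y, hy⟩ := hx
      have h1 : F (x - V y) = 0 := by rw [map_sub, hy, hFV, sub_self]
      have h2 : (p : WittVector p k) • (x - V y) = 0 := by rw [← hVF, h1, map_zero]
      have h3 : x = V y := sub_eq_zero.1 (htf _ h2)
      rw [h3]
      exact Submodule.mem_sup_left (Submodule.subset_span ⟨y, rfl⟩)
    · rw [sup_le_iff]
      constructor
      · rw [Submodule.span_le]
        rintro _ ⟨m, rfl⟩
        rw [SetLike.mem_coe, Submodule.mem_comap, hFV]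
        exact (mem_p_smul_top_iff _).2 ⟨m, rfl⟩
      · intro x hx
        rw [mem_p_smul_top_iff] at hx
        obtain ⟨y, rfl⟩ := hx
        rw [Submodule.mem_comap, F_p_smul]
        exact (mem_p_smul_top_iff _).2 ⟨F y, rfl⟩
  · apply le_antisymm
    · intro x hx
      rw [Submodule.mem_comap, mem_p_smul_top_iff] at hx
      obtain ⟨y, hy⟩ := hx
      have h1 : V (x - F y) = 0 := by rw [map_sub, hy, hVF, sub_self]
      have h2 : (p : WittVector p k) • (x - F y) = 0 := by rw [← hFV, h1, map_zero]
      have h3 : x = F y := sub_eq_zero.1 (htf _ h2)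
      rw [h3]
      exact Submodule.mem_sup_left (Submodule.subset_span ⟨y, rfl⟩)
    · rw [sup_le_iff]
      constructor
      · rw [Submodule.span_le]
        rintro _ ⟨m, rfl⟩
        rw [SetLike.mem_coe, Submodule.mem_comap, hVF]
        exact (mem_p_smul_top_iff _).2 ⟨m, rfl⟩
      · intro x hx
        rw [mem_p_smul_top_iff] at hx
        obtain ⟨y, rfl⟩ := hx
        rw [Submodule.mem_comap, V_p_smul]
        exact (mem_p_smul_top_iff _).2 ⟨V y, rfl⟩
  · have hfin : Module.Finite (WittVector p k ⧸ Ideal.span {(p : WittVector p k)})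
        (M ⧸ (Ideal.span {(p : WittVector p k)} • (⊤ : Submodule (WittVector p k) M))) :=
      Module.Finite.of_restrictScalars_finite (WittVector p k) _ _
    have hproj : Module.Projective (WittVector p k ⧸ Ideal.span {(p : WittVector p k)})
        (M ⧸ (Ideal.span {(p : WittVector p k)} • (⊤ : Submodule (WittVector p k) M))) :=
      Module.Projective.of_equiv
        ((TensorProduct.quotTensorEquivQuotSMul M
          (Ideal.span {(p : WittVector p k)})).extendScalarsOfSurjective
            Ideal.Quotient.mk_surjective)
    exact projective_quot_V F V hFV hVF (fun 𝔮 _ x hx =>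
      Submodule.mem_sup_left (mem_smul_top_of_smul_mem _ (p : WittVector p k)
        (fun w hw => mem_wIdeal_of_p_mul_mem 𝔮 w hw) x hx))

end Groth.Agent.S16222
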