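import Groth.Statements.S16226
import Mathlib
import Groth.Agent.Lib.Helper12BundleMap
import Groth.Agent.Lib.Helper12PseudoTorsor
import Groth.Agent.S16227
import Groth.Prelude.Def_ActBC

set_option autoImplicit false
universe u
open CategoryTheory MonoidalCategory CartesianMonoidalCategory MonObj AlgebraicGeometry
open PrincBund

namespace Groth.Agent.S16226


open Groth.Agent.Lib.Helper12 Groth.Agent.Lib.Helper12.BundleMap
  Groth.Agent.Lib.Helper12.RelTorsor Groth.Agent.Lib.Helper12.PseudoTorsor

/-- an action which is simply transitive on points is a pseudo-torsor. -/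
lemma isPseudoTorsorSch_of_existsUnique {S : Scheme.{u}} {G E : Over S} [GrpObj G]
    (aE : AlgGrp.Action G E)
    (H : ∀ {T : Over S} (e₁ e₂ : T ⟶ E), ∃! g : T ⟶ G, lift g e₂ ≫ aE.act = e₁) :
    NonAbH1.IsPseudoTorsorSch aE := by
  unfold NonAbH1.IsPseudoTorsorSch
  rw [isIso_iff_yoneda_map_bijective]
  intro T
  have hpt : ∀ (p : T ⟶ G ⊗ E), p ≫ lift aE.act (snd G E) =
      lift (lift (p ≫ fst G E) (p ≫ snd G E) ≫ aE.act) (p ≫ snd G E) := by
    intro p
    apply CartesianMonoidalCategory.hom_ext
    · rw [Category.assoc, lift_fst, lift_fst]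
      congr 1
      apply CartesianMonoidalCategory.hom_ext <;> simp
    · simp
  constructor
  · intro p₁ p₂ h12
    have h12 : p₁ ≫ lift aE.act (snd G E) = p₂ ≫ lift aE.act (snd G E) := h12
    rw [hpt, hpt] at h12
    have h2 : p₁ ≫ snd G E = p₂ ≫ snd G E := by
      have := congrArg (· ≫ snd E E) h12
      simpa using this
    have h1 : lift (p₁ ≫ fst G E) (p₁ ≫ snd G E) ≫ aE.act =
        lift (p₂ ≫ fst G E) (p₂ ≫ snd G E) ≫ aE.act := by
      have := congrArg (· ≫ fst E E) h12
      simpa using this
    obtain ⟨g, -, hgu⟩ := H (lift (p₁ ≫ fst G E) (p₁ ≫ snd G E) ≫ aE.act) (p₁ ≫ snd G E)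
    have e1 := hgu (p₁ ≫ fst G E) rfl
    have e2 := hgu (p₂ ≫ fst G E) (by
      change lift (p₂ ≫ fst G E) (p₁ ≫ snd G E) ≫ aE.act =
        lift (p₁ ≫ fst G E) (p₁ ≫ snd G E) ≫ aE.act
      rw [h2] at h1 ⊢
      exact h1.symm)
    apply CartesianMonoidalCategory.hom_ext
    · rw [e1, e2]
    · exact h2
  · intro q
    obtain ⟨g, hg, -⟩ := H (q ≫ fst E E) (q ≫ snd E E)
    refine ⟨lift g (q ≫ snd E E), ?_⟩
    change lift g (q ≫ snd E E) ≫ lift aE.act (snd G E) = q
    apply CartesianMonoidalCategory.hom_ext
    · rw [Category.assoc, lift_fst, hg]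
    · rw [Category.assoc, lift_snd, lift_snd]



/-- Let i : G → H be a homomorphism of group schemes over a base scheme S which is a closed immersion, F
an H-torsor over S for the etale topology with action aF, and π : F → Q a morphism of S-schemes
exhibiting Q as the quotient F/G, in the sense that the square formed by the restricted action G ×_S
F → F, the projection G ×_S F → F and π twice is cartesian and π acquires sections etale-locally on
Q. Then for every section σ of Q over S there are a G-torsor E over S for the etale topology and an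
i-equivariant morphism φ : E → F over S such that the square (φ, E → S; π, σ) is cartesian; that is,
σ comes from a reduction of the structure group of F to G. (Stated over an arbitrary base scheme and
for arbitrary group schemes; the quotient F/G is taken as data through its torsor property rather
than constructed.) -/
theorem result
    {S : Scheme.{u}} {G H F Q : Over S} [GrpObj G] [GrpObj H]
    (i : G ⟶ H) [IsMonHom i] [IsClosedImmersion i.left]
    (aF : AlgGrp.Action H F) (hF : NonAbH1.IsTorsorFor Scheme.etalePrecoverage aF)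
    (π : F ⟶ Q)
    (hsq : IsPullback (aF.restrict i).act (snd G F) π π)
    (hloc : NonAbH1.IsLocallyTrivialFor Scheme.etalePrecoverage (Over.mk π.left : Over Q.left))
    (σ : 𝟙_ (Over S) ⟶ Q) :
    ∃ (E : Over S) (aE : AlgGrp.Action G E) (φ : E ⟶ F),
      NonAbH1.IsTorsorFor Scheme.etalePrecoverage aE ∧
      AlgGrp.Action.IsEquivariant aE (aF.restrict i) φ ∧
      IsPullback φ (toUnit E) π σ := by
  set b := aF.restrict i with hb
  let E : Over S := Limits.pullback π σ
  let φ : E ⟶ F := Limits.pullback.fst π σ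
  have hcondE : φ ≫ π = toUnit E ≫ σ := by
    rw [toUnit_unique (toUnit E) (Limits.pullback.snd π σ)]
    exact Limits.pullback.condition
  have hpb : IsPullback φ (toUnit E) π σ := by
    rw [toUnit_unique (toUnit E) (Limits.pullback.snd π σ)]
    exact IsPullback.of_hasPullback π σ
  have hext : ∀ {T : Over S} (e₁ e₂ : T ⟶ E), e₁ ≫ φ = e₂ ≫ φ → e₁ = e₂ := by
    intro T e₁ e₂ h12
    exact hpb.hom_ext h12 (toUnit_unique _ _)
  have hw : ((G ◁ φ) ≫ b.act) ≫ π = toUnit (G ⊗ E) ≫ σ := by
    rw [Category.assoc, hsq.w, ← Category.assoc, whiskerLeft_snd, Category.assoc, hcondE,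
      ← Category.assoc]
    congr 1
    exact toUnit_unique _ _
  let act : G ⊗ E ⟶ E := hpb.lift ((G ◁ φ) ≫ b.act) (toUnit (G ⊗ E)) hw
  have hact : act ≫ φ = (G ◁ φ) ≫ b.act := hpb.lift_fst _ _ _
  let aE : AlgGrp.Action G E :=
    { act := act
      one_act := by
        apply hext
        rw [Category.assoc, hact, ← whisker_exchange_assoc, b.one_act, leftUnitor_naturality]
      mul_act := by
        apply hext
        rw [Category.assoc, hact, ← whisker_exchange_assoc, b.mul_act, Category.assoc,
          Category.assoc, hact, ← MonoidalCategory.whiskerLeft_comp_assoc, hact,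
          MonoidalCategory.whiskerLeft_comp, Category.assoc, associator_naturality_right_assoc] }
  have haE : aE.act ≫ φ = (G ◁ φ) ≫ b.act := hact
  have hφpt : ∀ {W : Over S} (g : W ⟶ G) (e : W ⟶ E),
      (lift g e ≫ aE.act) ≫ φ = lift g (e ≫ φ) ≫ b.act := by
    intro W g e
    rw [Category.assoc, haE, ← Category.assoc]
    congr 1
    apply CartesianMonoidalCategory.hom_ext <;> simp
  refine ⟨E, aE, φ, ⟨?_, ?_⟩, haE, hpb⟩
  · -- pseudo-torsor
    apply isPseudoTorsorSch_of_existsUnique
    intro T e₁ e₂
    have h12 : (e₁ ≫ φ) ≫ π = (e₂ ≫ φ) ≫ π := by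
      rw [Category.assoc, Category.assoc, hcondE, ← Category.assoc, ← Category.assoc]
      congr 1
      exact toUnit_unique _ _
    obtain ⟨g, hg, hgu⟩ := existsUnique_of_isPullback hsq (e₁ ≫ φ) (e₂ ≫ φ) h12
    refine ⟨g, ?_, ?_⟩
    · apply hext
      rw [hφpt]
      exact hg
    · intro g' hg'
      apply hgu
      change lift g' (e₂ ≫ φ) ≫ b.act = e₁ ≫ φ
      rw [← hφpt, hg']
  · -- local triviality
    obtain ⟨R, hR, hsec⟩ := hloc
    refine ⟨R.pullbackArrows σ.left, Precoverage.pullbackArrows_mem σ.left hR, ?_⟩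
    rintro W' _ ⟨Z, k, hk⟩
    obtain ⟨τ, hτ⟩ := hsec k hk
    have hτ' : τ ≫ π.left = k := hτ
    have hσ : σ.left ≫ Q.hom = 𝟙 S := Over.w σ
    let W : Over S := Over.mk (Limits.pullback.snd k σ.left)
    have h1 : (Limits.pullback.fst k σ.left ≫ τ) ≫ F.hom = W.hom := by
      rw [← Over.w π, Category.assoc, reassoc_of% hτ', Limits.pullback.condition_assoc, hσ]
      exact Category.comp_id _
    let wF : W ⟶ F := Over.homMk (Limits.pullback.fst k σ.left ≫ τ) h1
    have hcond : wF ≫ π = toUnit W ≫ σ := by
      ext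
      change (Limits.pullback.fst k σ.left ≫ τ) ≫ π.left = W.hom ≫ σ.left
      rw [Category.assoc, hτ', Limits.pullback.condition]
      rfl
    exact ⟨(hpb.lift wF (toUnit W) hcond).left, Over.w _⟩

end Groth.Agent.S16226
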