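import Groth.Statements.S1623
import Mathlib
import Groth.Agent.S1436
import Groth.Agent.S1438
import Groth.Agent.Lib.Helper2ReesBlowUp
import Groth.Agent.Lib.Helper2BlowGlue
-- import your own Groth.Agent.* helpers here

set_option autoImplicit false
set_option linter.style.haveILetI false
set_option linter.unusedSectionVars false
universe u
open CategoryTheory CategoryTheory.Limits AlgebraicGeometry
open Resolve

namespace Groth.Agent.S1623

open Groth.Agent.Lib.Helper2.ReesBlowUp Groth.Agent.Lib.Helper2.ReesChart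
open Groth.Agent.Lib.Helper2.BlowGlue

theorem aX_mem_span {A : Type u} [CommRing A] (I : Ideal A) {ι : Type*} (g : ι → A)
    (hgI : ∀ i, g i ∈ I) (hg : Ideal.span (Set.range g) = I) (a : A) (ha : a ∈ I) :
    aX I a ha ∈ Ideal.span (Set.range fun i => aX I (g i) (hgI i)) := by
  have ha' : a ∈ Ideal.span (Set.range g) := hg ▸ ha
  revert ha
  refine Submodule.span_induction (p := fun a _ => ∀ ha : a ∈ I,
    aX I a ha ∈ Ideal.span (Set.range fun i => aX I (g i) (hgI i))) ?_ ?_ ?_ ?_ ha'
  · rintro _ ⟨i, rfl⟩ ha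
    exact Ideal.subset_span ⟨i, rfl⟩
  · intro ha
    have : aX I 0 ha = 0 := Subtype.ext (by simp [coe_aX])
    rw [this]
    exact zero_mem _
  · intro x y hx hy ihx ihy ha
    have hxI : x ∈ I := hg ▸ hx
    have hyI : y ∈ I := hg ▸ hy
    have : aX I (x + y) ha = aX I x hxI + aX I y hyI := Subtype.ext (by simp [coe_aX])
    rw [this]
    exact add_mem (ihx hxI) (ihy hyI)
  · intro r x hx ihx ha
    have hxI : x ∈ I := hg ▸ hx
    have : aX I (r • x) ha = algebraMap A (reesAlgebra I) r * aX I x hxI := by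
      apply Subtype.ext
      simp [coe_aX, Polynomial.C_mul_monomial]
    rw [this]
    exact Ideal.mul_mem_left _ _ (ihx hxI)

/-- a blow-up of `Spec A` in an ideal generated by `n + 1` elements is separated and covered by
`n + 1` affine opens. -/
theorem sep_and_cover {A : Type u} [CommRing A] (I : Ideal A) {n : ℕ} (g : Fin (n + 1) → A)
    (hg : Ideal.span (Set.range g) = I) {X : Scheme.{u}} (b : X ⟶ Spec (CommRingCat.of A))
    (hb : BlowUp.IsBlowUp b (Curv2.idealSheaf A I)) :
    X.IsSeparated ∧ ∃ U : Fin (n + 1) → X.Opens, (∀ i, IsAffineOpen (U i)) ∧ ⨆ i, U i = ⊤ := by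
  have hgI : ∀ i, g i ∈ I := fun i => hg ▸ Ideal.subset_span ⟨i, rfl⟩
  have hP := isBlowUp_piMap I
  obtain ⟨φ, hφ, -⟩ := hP.2 X b hb.1
  haveI : IsIso φ := isIso_of_isBlowUp hb hP φ hφ
  refine ⟨?_, fun i => φ ⁻¹ᵁ Proj.basicOpen _ (aX I (g i) (hgI i)), fun i => ?_, ?_⟩
  · constructor
    rw [← terminal.comp_from φ]
    infer_instance
  · exact (Proj.isAffineOpen_basicOpen _ (aX I (g i) (hgI i)) (aX_mem_deg I _ _)
      one_pos).preimage_of_isIso φ
  · have hspan : (HomogeneousIdeal.irrelevant (Rees.deg (reesAlgebra I))).toIdeal ≤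
        Ideal.span (Set.range fun i => aX I (g i) (hgI i)) := by
      refine (irrelevant_le_span I).trans (Ideal.span_le.2 ?_)
      rintro _ ⟨a, rfl⟩
      exact aX_mem_span I g hgI hg a.1 a.2
    have h := Proj.iSup_basicOpen_eq_top (Rees.deg (reesAlgebra I))
      (fun i => aX I (g i) (hgI i)) hspan
    refine top_le_iff.1 fun x _ => ?_
    have hx : φ x ∈ (⨆ i, Proj.basicOpen (Rees.deg (reesAlgebra I)) (aX I (g i) (hgI i))) := by
      rw [h]; trivial
    obtain ⟨i, hi⟩ := TopologicalSpace.Opens.mem_iSup.1 hx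
    exact TopologicalSpace.Opens.mem_iSup.2 ⟨i, hi⟩

theorem exists_two_gens (A : Type u) [CommRing A] [IsRegularLocalRing A] (hA : ringKrullDim A = 2) :
    ∃ g : Fin 2 → A, Ideal.span (Set.range g) = IsLocalRing.maximalIdeal A := by
  classical
  have h1 : ((IsLocalRing.maximalIdeal A).spanFinrank : WithBot ℕ∞) = 2 := by
    rw [IsRegularLocalRing.spanFinrank_maximalIdeal, hA]
  have h2 : (IsLocalRing.maximalIdeal A).spanFinrank = 2 := by exact_mod_cast h1
  have hfg : (IsLocalRing.maximalIdeal A).FG := IsNoetherian.noetherian _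
  obtain ⟨s, hs, hspan⟩ := Submodule.FG.exists_span_finset_card_eq_spanFinrank hfg
  rw [h2] at hs
  obtain ⟨x, y, -, hxy⟩ := Finset.card_eq_two.1 hs
  subst hxy
  refine ⟨![x, y], ?_⟩
  rw [← hspan]
  congr 1
  ext z
  simp only [Finset.coe_insert, Finset.coe_singleton, Set.mem_range, Set.mem_insert_iff,
    Set.mem_singleton_iff, Fin.exists_fin_two]
  simp [eq_comm]


/-- Let A be a regular local ring of dimension two and b : X → Spec A a blowing up in the maximal ideal.
For every quasi-coherent O_X-module F and every p ≥ 2, H^p(X, F) = 0. -/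
theorem result (A : Type u) [CommRing A] [IsRegularLocalRing A] (hA : ringKrullDim A = 2)
    (X : Scheme.{u}) (b : X ⟶ Spec (CommRingCat.of A)) (hb : BlowUp.IsBlowUp b (Curv2.idealSheaf A (IsLocalRing.maximalIdeal A)))
    (F : X.Modules) (hF : Coh.IsQCoh F) (p : ℕ) (hp : 2 ≤ p) : Subsingleton (Coh.HH X F p) := by
  obtain ⟨g, hg⟩ := exists_two_gens A hA
  obtain ⟨hsep, U, hU, hcov⟩ := sep_and_cover (IsLocalRing.maximalIdeal A) (n := 1) g hg b hb
  exact Groth.Agent.S1436.result X 1 (Groth.Agent.S1438.result X 1 U hU hcov) F hF p (by omega)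

end Groth.Agent.S1623
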