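import Groth.Statements.S16233
import Groth.Agent.S4239
import Mathlib

set_option autoImplicit false
open NCTr

namespace Groth.Agent.S16233

section
variable {Λ : Type*} [Ring Λ] {G : Type*} [Group G]
  {P : Type*} [AddCommGroup P] [Module Λ P] [Module (MonoidAlgebra Λ G) P]
  [IsScalarTower Λ (MonoidAlgebra Λ G) P] {ι : Type*}

/-- The `Λ`-basis `g • b i` of a free `Λ[G]`-module with basis `b`. -/
noncomputable def bigBasis (b : Module.Basis ι (MonoidAlgebra Λ G) P) : Module.Basis (ι × G) Λ P :=
  Module.Basis.ofRepr <|
    (b.repr.restrictScalars Λ).trans <|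
    (Finsupp.mapRange.linearEquiv (MonoidAlgebra.coeffLinearEquiv Λ)).trans <|
    (Finsupp.curryLinearEquiv Λ).symm

theorem bigBasis_repr_apply (b : Module.Basis ι (MonoidAlgebra Λ G) P) (x : P) (i : ι) (g : G) :
    (bigBasis b).repr x (i, g) = (b.repr x i).coeff g := by
  simp [bigBasis, Finsupp.curryLinearEquiv]

theorem bigBasis_apply [DecidableEq ι] (b : Module.Basis ι (MonoidAlgebra Λ G) P) (i : ι) (g : G) :
    bigBasis b (i, g) = (MonoidAlgebra.single g (1 : Λ)) • b i := by
  classical
  rw [Module.Basis.apply_eq_iff]
  ext ⟨j, h⟩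
  rw [bigBasis_repr_apply, map_smul, Module.Basis.repr_self, Finsupp.smul_apply, smul_eq_mul]
  by_cases hij : i = j
  · subst hij
    rw [Finsupp.single_eq_same, mul_one]
    by_cases hgh : g = h
    · subst hgh
      simp
    · simp [hgh, Prod.ext_iff]
  · simp [hij, Prod.ext_iff]

end

/-- Let Λ be a ring, not necessarily commutative, G a finite group, P a left Λ[G]-module with a finite
Λ[G]-basis b, regarded also as a Λ-module by restriction of scalars and equipped with any finite
Λ-basis c, and u a Λ[G]-linear endomorphism of P with diagonal matrix entries u_ii = (b.repr (u (b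
i))) i in Λ[G]. Then the trace of u as a Λ-linear endomorphism, taken in Λ modulo additive
commutators with respect to c, equals |G| times the class of the sum over i of the coefficients of
the identity element of G in the u_ii (that sum of coefficients is the value at the identity class
of the Λ[G]-trace of u, the G-trace of u). The source states this for P finitely generated
projective over Λ[G]; this row is the free case. -/
theorem result
    (Λ : Type*) [Ring Λ] (G : Type*) [Group G] [Fintype G]
    (P : Type*) [AddCommGroup P] [Module Λ P] [Module (MonoidAlgebra Λ G) P]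
    [IsScalarTower Λ (MonoidAlgebra Λ G) P]
    {ι κ : Type*} [Fintype ι] [Fintype κ]
    (b : Module.Basis ι (MonoidAlgebra Λ G) P) (c : Module.Basis κ Λ P)
    (u : P →ₗ[MonoidAlgebra Λ G] P) :
    NCTr.hsTrace c (u.restrictScalars Λ) =
      Fintype.card G • ∑ i, (QuotientAddGroup.mk ((b.repr (u (b i)) i).coeff 1) : NCTr.Abel Λ) := by
  classical
  rw [Groth.Agent.S4239.result Λ P c (bigBasis b) (u.restrictScalars Λ)]
  unfold NCTr.hsTrace
  rw [Fintype.sum_prod_type, Finset.smul_sum]
  refine Finset.sum_congr rfl fun i _ => ?_
  have key : ∀ g : G, (bigBasis b).repr ((u.restrictScalars Λ) (bigBasis b (i, g))) (i, g) =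
      (b.repr (u (b i)) i).coeff 1 := by
    intro g
    rw [bigBasis_repr_apply, bigBasis_apply, LinearMap.restrictScalars_apply, map_smul, map_smul,
      Finsupp.smul_apply, smul_eq_mul, MonoidAlgebra.coeff_single_mul_apply, one_mul,
      inv_mul_cancel]
  simp_rw [key]
  rw [Finset.sum_const, Finset.card_univ]

end Groth.Agent.S16233
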