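import Groth.Statements.S16234
import Mathlib

set_option autoImplicit false
universe u v
open CAlg

namespace Groth.Agent.S16234

/-- For a finitely generated module M over a Noetherian commutative ring A, every prime ideal in the
support of M is a maximal ideal if and only if M has finite length. -/
theorem result (A : Type u) [CommRing A] [IsNoetherianRing A]
    (M : Type v) [AddCommGroup M] [Module A M] [Module.Finite A M] :
    (∀ p ∈ Module.support A M, p.asIdeal.IsMaximal) ↔ IsFiniteLength A M := by
  constructor
  · intro hsupp
    rw [isFiniteLength_iff_isNoetherian_isArtinian]
    refine ⟨inferInstance, ?_⟩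
    revert hsupp
    induction ‹Module.Finite A M› using
      IsNoetherianRing.induction_on_isQuotientEquivQuotientPrime A with
    | subsingleton N => intro _; infer_instance
    | quotient N p f =>
      intro hsupp
      have hp : p ∈ Module.support A N := by
        rw [f.support_eq, Module.support_eq_zeroLocus, Ideal.annihilator_quotient,
          PrimeSpectrum.mem_zeroLocus]
      have hmax : p.asIdeal.IsMaximal := hsupp p hp
      have : IsSimpleModule A (A ⧸ p.asIdeal) := by
        rw [isSimpleModule_iff_quot_maximal]
        exact ⟨p.asIdeal, hmax, ⟨LinearEquiv.refl _ _⟩⟩
      have : IsArtinian A (A ⧸ p.asIdeal) := inferInstance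
      exact isArtinian_of_injective f.toLinearMap f.injective
    | exact N₁ N₂ N₃ f g hf hg hfg h₁ h₃ =>
      intro hsupp
      have hs := Module.support_of_exact hfg hf hg
      have i1 : IsArtinian A N₁ := h₁ fun p hp => hsupp p (by rw [hs]; exact Or.inl hp)
      have i3 : IsArtinian A N₃ := h₃ fun p hp => hsupp p (by rw [hs]; exact Or.inr hp)
      exact isArtinian_of_range_eq_ker f g hfg.linearMap_ker_eq.symm
  · intro h
    clear ‹Module.Finite A M›
    induction h with
    | of_subsingleton =>
      intro p hp
      exfalso
      rw [Module.support_eq_empty] at hp
      exact hp
    | @of_simple_quotient M _ _ N _ _ ih =>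
      intro p hp
      have hs := Module.support_of_exact (LinearMap.exact_subtype_mkQ N)
        (Submodule.injective_subtype N) (Submodule.mkQ_surjective N)
      rw [hs] at hp
      rcases hp with hp | hp
      · exact ih p hp
      · have hle := Module.annihilator_le_of_mem_support hp
        have hmax : (Module.annihilator A (M ⧸ N)).IsMaximal :=
          IsSimpleModule.annihilator_isMaximal
        have : Module.annihilator A (M ⧸ N) = p.asIdeal :=
          hmax.eq_of_le p.2.ne_top hle
        rw [← this]
        exact hmax

end Groth.Agent.S16234
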