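import Groth.Statements.S16235
import Mathlib

set_option autoImplicit false
universe u
open CAlg

namespace Groth.Agent.S16235

open RingTheory.Sequence in
theorem annihilator_quot_smul_top {A : Type*} [CommRing A] (J : Ideal A) :
    Module.annihilator A (A ⧸ (J • ⊤ : Submodule A A)) = J := by
  have : (J • ⊤ : Submodule A A) = J := by simp
  rw [this]
  exact Ideal.annihilator_quotient

open RingTheory.Sequence in
/-- A prime containing a weakly regular sequence of length `n` has height at least `n`. -/
theorem length_le_height {A : Type*} [CommRing A] (rs : List A) (h : IsWeaklyRegular A rs) :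
    ∀ p : Ideal A, p.IsPrime → Ideal.ofList rs ≤ p → (rs.length : ℕ∞) ≤ p.height := by
  induction rs using List.reverseRecOn with
  | nil => intro p _ _; simp
  | append_singleton rs a ih =>
    intro p hp hle
    rw [isWeaklyRegular_append_iff, isWeaklyRegular_singleton_iff] at h
    obtain ⟨h1, h2⟩ := h
    rw [Ideal.ofList_append, Ideal.ofList_singleton] at hle
    have hJ : Ideal.ofList rs ≤ p := le_sup_left.trans hle
    have ha : a ∈ p := hle (Ideal.mem_sup_right (Ideal.mem_span_singleton_self a))
    obtain ⟨q, hq, hqp⟩ := Ideal.exists_minimalPrimes_le hJ
    have hqprime : q.IsPrime := hq.1.1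
    have hnot : a ∉ q := by
      apply h2.notMem_of_mem_minimalPrimes
      rw [annihilator_quot_smul_top]
      exact hq
    have hlt : q < p := lt_of_le_of_ne hqp (fun h => hnot (h ▸ ha))
    have := Ideal.height_add_one_le_of_lt_of_isPrime hlt
    have ih' := ih h1 q hqprime hq.1.2
    simp only [List.length_append, List.length_singleton, Nat.cast_add, Nat.cast_one]
    exact (add_le_add_left ih' 1).trans this

/-- Let A be a Noetherian commutative ring and x_1, …, x_r a regular sequence on A (each x_i a
non-zero-divisor on A/(x_1, …, x_{i-1})) generating an ideal I ≠ A. Then the height of I, the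
infimum of the heights of the minimal primes over I, equals r. -/
theorem result (A : Type u) [CommRing A] [IsNoetherianRing A]
    (r : ℕ) (x : Fin r → A) (hx : RingTheory.Sequence.IsWeaklyRegular A (List.ofFn x))
    (hI : Ideal.span (Set.range x) ≠ ⊤) :
    (Ideal.span (Set.range x)).height = r := by
  classical
  have hof : Ideal.ofList (List.ofFn x) = Ideal.span (Set.range x) := by
    unfold Ideal.ofList
    congr 1
    ext a
    simp [List.mem_ofFn]
  apply le_antisymm
  · -- Krull's height theorem
    obtain ⟨p, hp⟩ := Ideal.nonempty_minimalPrimes hI
    rw [Ideal.height_eq_inf_minimalPrimes]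
    refine (iInf₂_le p hp).trans ?_
    have hfin : (Set.range x).Finite := Set.finite_range x
    refine (Ideal.height_le_card_of_mem_minimalPrimes_span hfin hp).trans ?_
    have : (Set.range x).ncard ≤ r := by
      have h1 : (Set.range x).ncard ≤ (Set.univ : Set (Fin r)).ncard := by
        rw [← Set.image_univ]
        exact Set.ncard_image_le Set.finite_univ
      simpa using h1
    exact_mod_cast this
  · rw [Ideal.height_eq_inf_minimalPrimes]
    refine le_iInf₂ fun p hp => ?_
    have := length_le_height (List.ofFn x) hx p hp.1.1 (hof ▸ hp.1.2)
    simpa using this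

end Groth.Agent.S16235
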