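import Groth.Statements.S16238
import Mathlib
import Groth.Agent.Lib.Helper13TorBal

set_option autoImplicit false
universe u
open CategoryTheory
open CAlg

namespace Groth.Agent.S16238

open CategoryTheory CategoryTheory.Limits MonoidalCategory Groth.Agent.Helper13Tor
open RingTheory.Sequence

lemma homologyMap_smul_gen {A : Type u} [CommRing A] {ι : Type} {c : ComplexShape ι}
    {K L : HomologicalComplex (ModuleCat.{u} A) c}
    (a : A) (φ : K ⟶ L) (i : ι) :
    HomologicalComplex.homologyMap (a • φ) i = a • HomologicalComplex.homologyMap φ i := by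
  have h : (HomologicalComplex.shortComplexFunctor (ModuleCat.{u} A) c i).map
      (a • φ) = a • (HomologicalComplex.shortComplexFunctor (ModuleCat.{u} A) c i).map φ := rfl
  show ShortComplex.homologyMap ((HomologicalComplex.shortComplexFunctor (ModuleCat.{u} A) c i).map
    (a • φ)) = a • ShortComplex.homologyMap
    ((HomologicalComplex.shortComplexFunctor (ModuleCat.{u} A) c i).map φ)
  rw [h]
  exact ShortComplex.homologyMap_smul _ _

/-- `Tor_i(x • 𝟙, Y) = x • 𝟙`. -/
theorem tor_map_smul_id {A : Type u} [CommRing A] (N Y : ModuleCat.{u} A) (x : A) (i : ℕ) :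
    ((Tor (ModuleCat.{u} A) i).map (x • 𝟙 N)).app Y = x • 𝟙 _ := by
  let Q := ProjectiveResolution.of Y
  rw [tor_map_app_eq Q (x • 𝟙 N) i]
  have h1 : tCmap (x • 𝟙 N) Q.complex = x • 𝟙 (tC N Q.complex) := by
    refine HomologicalComplex.hom_ext _ _ fun j => ?_
    show (x • 𝟙 N) ▷ (Q.complex.X j) = x • 𝟙 _
    rw [MonoidalLinear.smul_whiskerRight, id_whiskerRight]
    rfl
  rw [h1, homologyMap_smul_gen, HomologicalComplex.homologyMap_id, Linear.smul_comp,
    Linear.comp_smul, Category.id_comp, Iso.hom_inv_id]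

/-- abbreviation: `Tor_i(X, Y)` as a type -/
noncomputable abbrev T {A : Type u} [CommRing A] (Y : ModuleCat.{u} A) (i : ℕ) (X : ModuleCat.{u} A) :
    ModuleCat.{u} A := ((Tor (ModuleCat.{u} A) i).obj X).obj Y

/-- the long exact sequence for `0 → N --x--> N → Q → 0`. -/
theorem les_x {A : Type u} [CommRing A] {N Q Y : ModuleCat.{u} A} (x : A) (π : N ⟶ Q)
    (hinj : Function.Injective (x • 𝟙 N : N ⟶ N).hom) (hsurj : Function.Surjective π.hom)
    (hex : Function.Exact (x • 𝟙 N : N ⟶ N).hom π.hom) (i : ℕ) :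
    ∃ (δ : T Y (i + 1) Q →ₗ[A] T Y i N) (g : T Y i N →ₗ[A] T Y i Q)
      (g' : T Y (i + 1) N →ₗ[A] T Y (i + 1) Q),
      Function.Exact g' δ ∧ Function.Exact δ (LinearMap.lsmul A (T Y i N) x) ∧
        Function.Exact (LinearMap.lsmul A (T Y i N) x) g := by
  let S : ShortComplex (ModuleCat.{u} A) := ShortComplex.mk (x • 𝟙 N) π (by
    ext y
    exact hex.apply_apply_eq_zero y)
  have hS : S.ShortExact := ModuleCat.shortComplex_shortExact S hex hinj hsurj
  obtain ⟨δ, w₁, w₂, h1, h2⟩ := exists_δ S hS Y i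
  have h3 := tor_exact₂ S hS Y i
  rw [ShortComplex.moduleCat_exact_iff_range_eq_ker] at h1 h2 h3
  dsimp only at h1 h2 h3
  have hx : (((Tor (ModuleCat.{u} A) i).map S.f).app Y).hom = LinearMap.lsmul A (T Y i N) x := by
    show (((Tor (ModuleCat.{u} A) i).map (x • 𝟙 N)).app Y).hom = _
    rw [tor_map_smul_id]
    rfl
  rw [hx] at h2 h3
  refine ⟨δ.hom, (((Tor (ModuleCat.{u} A) i).map S.g).app Y).hom,
    (((Tor (ModuleCat.{u} A) (i + 1)).map S.g).app Y).hom, ?_, ?_, ?_⟩
  · rw [LinearMap.exact_iff]; exact h1.symm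
  · rw [LinearMap.exact_iff]; exact h2.symm
  · rw [LinearMap.exact_iff]; exact h3.symm

theorem les_ideal {A : Type u} [CommRing A] (Y : ModuleCat.{u} A) (J' : Ideal A) (x : A)
    (hreg : IsSMulRegular (A ⧸ J') x) (J : Ideal A) (hJ : J = J' ⊔ Ideal.span {x}) (i : ℕ) :
    ∃ (δ : T Y (i + 1) (ModuleCat.of A (A ⧸ J)) →ₗ[A] T Y i (ModuleCat.of A (A ⧸ J')))
      (g : T Y i (ModuleCat.of A (A ⧸ J')) →ₗ[A] T Y i (ModuleCat.of A (A ⧸ J)))
      (g' : T Y (i + 1) (ModuleCat.of A (A ⧸ J')) →ₗ[A] T Y (i + 1) (ModuleCat.of A (A ⧸ J))),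
      Function.Exact g' δ ∧
        Function.Exact δ (LinearMap.lsmul A (T Y i (ModuleCat.of A (A ⧸ J'))) x) ∧
        Function.Exact (LinearMap.lsmul A (T Y i (ModuleCat.of A (A ⧸ J'))) x) g := by
  subst hJ
  have hle : J' ≤ J' ⊔ Ideal.span {x} := le_sup_left
  refine les_x (N := ModuleCat.of A (A ⧸ J')) (Q := ModuleCat.of A (A ⧸ (J' ⊔ Ideal.span {x})))
    x (ModuleCat.ofHom (Submodule.factor hle)) ?_ ?_ ?_ i
  · exact hreg
  · intro y
    obtain ⟨a, rfl⟩ := Ideal.Quotient.mk_surjective y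
    exact ⟨Ideal.Quotient.mk J' a, rfl⟩
  · intro y
    obtain ⟨a, rfl⟩ := Ideal.Quotient.mk_surjective y
    constructor
    · intro hy
      have h1 : Ideal.Quotient.mk (J' ⊔ Ideal.span {x}) a = 0 := hy
      rw [Ideal.Quotient.eq_zero_iff_mem, Submodule.mem_sup] at h1
      obtain ⟨j, hj, s, hs, rfl⟩ := h1
      obtain ⟨c, rfl⟩ := Ideal.mem_span_singleton'.mp hs
      refine ⟨Ideal.Quotient.mk J' c, ?_⟩
      show x • Ideal.Quotient.mk J' c = Ideal.Quotient.mk J' (j + c * x)
      rw [map_add, Ideal.Quotient.eq_zero_iff_mem.mpr hj, zero_add, mul_comm, ← smul_eq_mul,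
        ← Ideal.Quotient.mkₐ_eq_mk A, map_smul]
    · rintro ⟨z, hz⟩
      obtain ⟨c, rfl⟩ := Ideal.Quotient.mk_surjective z
      rw [← hz]
      show (Submodule.factor hle) (x • Ideal.Quotient.mk J' c) = 0
      rw [map_smul]
      show x • Ideal.Quotient.mk (J' ⊔ Ideal.span {x}) c = 0
      rw [← Ideal.Quotient.mkₐ_eq_mk A, ← map_smul, Ideal.Quotient.mkₐ_eq_mk,
        Ideal.Quotient.eq_zero_iff_mem, smul_eq_mul]
      exact Ideal.mul_mem_right _ _ (Ideal.mem_sup_right (Ideal.mem_span_singleton_self x))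

/-- `Tor_0(A/I', A/J) ≃ (A/J)/(I'(A/J))`. -/
theorem tor_zero_equiv {A : Type u} [CommRing A] (J I' : Ideal A) :
    Nonempty (T (ModuleCat.of A (A ⧸ J)) 0 (ModuleCat.of A (A ⧸ I')) ≃ₗ[A]
      ((A ⧸ J) ⧸ (I' • ⊤ : Submodule A (A ⧸ J)))) := by
  have e1 := ((torLZeroIso (ModuleCat.of A (A ⧸ J))).app
      (ModuleCat.of A (A ⧸ I'))).toLinearEquiv
  have e2 : (TensorProduct A (A ⧸ I') (A ⧸ J)) ≃ₗ[A] ((A ⧸ J) ⧸ (I' • ⊤ : Submodule A (A ⧸ J))) :=
    TensorProduct.quotTensorEquivQuotSMul (A ⧸ J) I'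
  exact ⟨e1.trans e2⟩


theorem reg_iff {A : Type u} [CommRing A] (J I' : Ideal A) (r : A) :
    IsSMulRegular (T (ModuleCat.of A (A ⧸ J)) 0 (ModuleCat.of A (A ⧸ I'))) r ↔
      IsSMulRegular ((A ⧸ J) ⧸ (I' • ⊤ : Submodule A (A ⧸ J))) r := by
  obtain ⟨e⟩ := tor_zero_equiv J I'
  exact e.isSMulRegular_congr r

theorem hx_of {A : Type u} [CommRing A] (rs : List A) (r : A)
    (h2 : IsSMulRegular (A ⧸ (Ideal.ofList rs • ⊤ : Submodule A A)) r) :
    IsSMulRegular (A ⧸ Ideal.ofList rs) r := by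
  have heq : (Ideal.ofList rs • ⊤ : Submodule A A) = Ideal.ofList rs := by
    rw [smul_eq_mul, Ideal.mul_top]
  exact ((Submodule.quotEquivOfEq _ _ heq).isSMulRegular_congr r).mp h2

theorem fwd {A : Type u} [CommRing A] (J : Ideal A) (rs : List A) :
    IsWeaklyRegular A rs → IsWeaklyRegular (A ⧸ J) rs →
    ∀ i ≥ 1, IsZero (T (ModuleCat.of A (A ⧸ J)) i (ModuleCat.of A (A ⧸ Ideal.ofList rs))) := by
  induction rs using List.reverseRecOn with
  | nil =>
    intro _ _ i hi
    rw [Ideal.ofList_nil]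
    have e0 : (A ⧸ (⊥ : Ideal A)) ≃ₗ[A] A := Submodule.quotEquivOfEqBot _ rfl
    haveI : Module.Flat A (A ⧸ (⊥ : Ideal A)) := Module.Flat.of_linearEquiv e0
    exact isZero_tor_of_flat _ (ModuleCat.of A (A ⧸ (⊥ : Ideal A))) i hi
  | append_singleton rs r ih =>
    intro hA hB i hi
    rw [isWeaklyRegular_append_iff, isWeaklyRegular_singleton_iff] at hA hB
    have hx := hx_of rs r hA.2
    have hJ : Ideal.ofList (rs ++ [r]) = Ideal.ofList rs ⊔ Ideal.span {r} := by
      rw [Ideal.ofList_append, Ideal.ofList_singleton]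
    have ih' := ih hA.1 hB.1
    obtain ⟨j, rfl⟩ : ∃ j, i = j + 1 := ⟨i - 1, by omega⟩
    obtain ⟨δ, g, g', h1, h2, h3⟩ :=
      les_ideal (ModuleCat.of A (A ⧸ J)) (Ideal.ofList rs) r hx _ hJ j
    rw [ModuleCat.isZero_iff_subsingleton]
    have hδ : ∀ z, δ z = 0 := by
      intro z
      have hz : r • δ z = 0 := (h2 (δ z)).mpr ⟨z, rfl⟩
      rcases Nat.eq_zero_or_pos j with rfl | hj
      · have hreg0 := (reg_iff J (Ideal.ofList rs) r).mpr hB.2
        exact hreg0 (by show r • δ z = r • 0; rw [hz, smul_zero])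
      · haveI := (ModuleCat.isZero_iff_subsingleton.mp (ih' j hj))
        exact Subsingleton.elim _ _
    have key : ∀ z : T (ModuleCat.of A (A ⧸ J)) (j + 1)
        (ModuleCat.of A (A ⧸ Ideal.ofList (rs ++ [r]))), z = 0 := by
      intro z
      obtain ⟨w, rfl⟩ := (h1 z).mp (hδ z)
      haveI := (ModuleCat.isZero_iff_subsingleton.mp (ih' (j + 1) (by omega)))
      rw [Subsingleton.elim w 0, map_zero]
    exact ⟨fun a b => by rw [key a, key b]⟩

theorem noeth {A : Type u} [CommRing A] [IsNoetherianRing A] (J : Ideal A) (rs : List A) :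
    IsWeaklyRegular A rs →
    ∀ i, IsNoetherian A (T (ModuleCat.of A (A ⧸ J)) i (ModuleCat.of A (A ⧸ Ideal.ofList rs))) := by
  induction rs using List.reverseRecOn with
  | nil =>
    intro _ i
    rcases Nat.eq_zero_or_pos i with rfl | hi
    · obtain ⟨e⟩ := tor_zero_equiv J (Ideal.ofList ([] : List A))
      exact isNoetherian_of_linearEquiv e.symm
    · rw [Ideal.ofList_nil]
      have e0 : (A ⧸ (⊥ : Ideal A)) ≃ₗ[A] A := Submodule.quotEquivOfEqBot _ rfl
      haveI : Module.Flat A (A ⧸ (⊥ : Ideal A)) := Module.Flat.of_linearEquiv e0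
      haveI := ModuleCat.isZero_iff_subsingleton.mp
        (isZero_tor_of_flat (ModuleCat.of A (A ⧸ J)) (ModuleCat.of A (A ⧸ (⊥ : Ideal A))) i hi)
      infer_instance
  | append_singleton rs r ih =>
    intro hA i
    rw [isWeaklyRegular_append_iff, isWeaklyRegular_singleton_iff] at hA
    have hx := hx_of rs r hA.2
    have hJ : Ideal.ofList (rs ++ [r]) = Ideal.ofList rs ⊔ Ideal.span {r} := by
      rw [Ideal.ofList_append, Ideal.ofList_singleton]
    have ih' := ih hA.1
    rcases Nat.eq_zero_or_pos i with rfl | hi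
    · obtain ⟨e⟩ := tor_zero_equiv J (Ideal.ofList (rs ++ [r]))
      exact isNoetherian_of_linearEquiv e.symm
    · obtain ⟨j, rfl⟩ : ∃ j, i = j + 1 := ⟨i - 1, by omega⟩
      obtain ⟨δ, g, g', h1, h2, h3⟩ :=
        les_ideal (ModuleCat.of A (A ⧸ J)) (Ideal.ofList rs) r hx _ hJ j
      haveI := ih' j
      haveI := ih' (j + 1)
      exact isNoetherian_of_range_eq_ker g' δ ((LinearMap.exact_iff.mp h1).symm)

theorem bwd {A : Type u} [CommRing A] [IsNoetherianRing A] [IsLocalRing A] (J : Ideal A)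
    (rs : List A) :
    IsWeaklyRegular A rs → (∀ r ∈ rs, r ∈ IsLocalRing.maximalIdeal A) →
    (∀ i ≥ 1, IsZero (T (ModuleCat.of A (A ⧸ J)) i (ModuleCat.of A (A ⧸ Ideal.ofList rs)))) →
    IsWeaklyRegular (A ⧸ J) rs := by
  induction rs using List.reverseRecOn with
  | nil =>
    intro _ _ _
    exact IsWeaklyRegular.nil A (A ⧸ J)
  | append_singleton rs r ih =>
    intro hA hm hT
    have hA' := hA
    rw [isWeaklyRegular_append_iff, isWeaklyRegular_singleton_iff] at hA'
    have hx := hx_of rs r hA'.2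
    have hJ : Ideal.ofList (rs ++ [r]) = Ideal.ofList rs ⊔ Ideal.span {r} := by
      rw [Ideal.ofList_append, Ideal.ofList_singleton]
    have hr : r ∈ IsLocalRing.maximalIdeal A := hm r (by simp)
    have hvan : ∀ i ≥ 1, IsZero (T (ModuleCat.of A (A ⧸ J)) i
        (ModuleCat.of A (A ⧸ Ideal.ofList rs))) := by
      intro i hi
      obtain ⟨δ, g, g', h1, h2, h3⟩ :=
        les_ideal (ModuleCat.of A (A ⧸ J)) (Ideal.ofList rs) r hx _ hJ i
      haveI := noeth J rs hA'.1 i
      haveI := ModuleCat.isZero_iff_subsingleton.mp (hT i hi)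
      have htop : (⊤ : Submodule A (T (ModuleCat.of A (A ⧸ J)) i
          (ModuleCat.of A (A ⧸ Ideal.ofList rs)))) ≤ Ideal.span {r} • ⊤ := by
        intro y _
        obtain ⟨w, hw⟩ := (h3 y).mp (Subsingleton.elim _ _)
        rw [← hw]
        exact Submodule.smul_mem_smul (Ideal.mem_span_singleton_self r) Submodule.mem_top
      have hbot := Submodule.eq_bot_of_le_smul_of_le_jacobson_bot (Ideal.span {r}) _
        (IsNoetherian.noetherian _) htop (by
          rw [IsLocalRing.jacobson_eq_maximalIdeal ⊥ bot_ne_top, Ideal.span_le]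
          simpa using hr)
      rw [ModuleCat.isZero_iff_subsingleton]
      exact ⟨fun a b => by
        have ha : a ∈ (⊤ : Submodule A _) := Submodule.mem_top
        have hb : b ∈ (⊤ : Submodule A _) := Submodule.mem_top
        rw [hbot, Submodule.mem_bot] at ha hb
        rw [ha, hb]⟩
    have ih' := ih hA'.1 (fun s hs => hm s (by simp [hs])) hvan
    have hreg0 : IsSMulRegular (T (ModuleCat.of A (A ⧸ J)) 0
        (ModuleCat.of A (A ⧸ Ideal.ofList rs))) r := by
      obtain ⟨δ, g, g', h1, h2, h3⟩ :=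
        les_ideal (ModuleCat.of A (A ⧸ J)) (Ideal.ofList rs) r hx _ hJ 0
      haveI := ModuleCat.isZero_iff_subsingleton.mp (hT 1 le_rfl)
      intro a b hab
      have h0 : r • (a - b) = 0 := by rw [smul_sub]; exact sub_eq_zero.mpr hab
      obtain ⟨w, hw⟩ := (h2 (a - b)).mp h0
      rw [Subsingleton.elim w 0, map_zero] at hw
      exact sub_eq_zero.mp hw.symm
    exact (isWeaklyRegular_append_iff _ _ _).mpr ⟨ih',
      (isWeaklyRegular_singleton_iff _ _).mpr ((reg_iff J (Ideal.ofList rs) r).mp hreg0)⟩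

/-- Let A be a Noetherian local ring, x_1, …, x_n a regular sequence on A (each x_i a non-zero-divisor
on A/(x_1, …, x_{i-1})) generating the ideal I, and J an ideal with I + J ≠ A. Then the images of
x_1, …, x_n form a regular sequence on A/J if and only if Tor_i^A(A/I, A/J) = 0 for all i ≥ 1 (in
degree 0 the Tor is A/(I + J) in any case). (The published statement does not ask the x_i to form a
regular sequence on A itself; without this the equivalence fails, for instance for A = k[e]/(e²), n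
= 1, x_1 = e and J = 0, where every higher Tor of A/(e) against the free module A vanishes although
e is a zero-divisor.) -/
theorem result (A : Type u) [CommRing A] [IsNoetherianRing A] [IsLocalRing A]
    (n : ℕ) (x : Fin n → A) (hx : RingTheory.Sequence.IsWeaklyRegular A (List.ofFn x))
    (J : Ideal A) (hIJ : Ideal.span (Set.range x) ⊔ J ≠ ⊤) :
    RingTheory.Sequence.IsWeaklyRegular (A ⧸ J) (List.ofFn (fun i : Fin n => Ideal.Quotient.mk J (x i))) ↔
      ∀ i : ℕ, 1 ≤ i → Limits.IsZero (((Tor (ModuleCat.{u} A) i).obj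
        (ModuleCat.of A (A ⧸ Ideal.span (Set.range x)))).obj (ModuleCat.of A (A ⧸ J))) := by
  have hlist : (List.ofFn fun i => Ideal.Quotient.mk J (x i)) =
      (List.ofFn x).map (algebraMap A (A ⧸ J)) := by
    rw [List.map_ofFn]
    rfl
  have hI : Ideal.span (Set.range x) = Ideal.ofList (List.ofFn x) := by
    unfold Ideal.ofList
    congr 1
    ext r
    simp [List.mem_ofFn]
  rw [hlist, isWeaklyRegular_map_algebraMap_iff, hI]
  constructor
  · intro h i hi
    exact fwd J _ hx h i hi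
  · intro h
    refine bwd J _ hx ?_ h
    intro r hr
    obtain ⟨i, rfl⟩ := List.mem_ofFn.mp hr
    by_contra hnot
    have hu : IsUnit (x i) := by
      rwa [IsLocalRing.mem_maximalIdeal, mem_nonunits_iff, not_not] at hnot
    apply hIJ
    rw [eq_top_iff]
    refine le_trans ?_ le_sup_left
    rw [← Ideal.span_singleton_eq_top.mpr hu]
    exact Ideal.span_mono (by simp)

end Groth.Agent.S16238
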