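import Groth.Statements.S1624
import Mathlib
import Groth.Agent.S1623
import Groth.Agent.Lib.Helper16BlowH1b
import Groth.Agent.Lib.Helper16StratCoh
import Groth.Agent.Lib.Helper16CohCoprod
import Groth.Agent.Lib.Helper23Serre
import Groth.Agent.Lib.Helper23QCohAbelian
-- import your own Groth.Agent.* helpers here

set_option autoImplicit false
set_option linter.style.haveILetI false
set_option linter.unusedSectionVars false
universe u
open CategoryTheory CategoryTheory.Limits AlgebraicGeometry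
open Resolve

namespace Groth.Agent.S1624

open Groth.Agent.Lib.Helper2.ReesBlowUp Groth.Agent.Lib.Helper2.ReesChart
open Groth.Agent.Lib.Helper2.BlowGlue Groth.Agent.Lib.Helper16.BlowH1
open Groth.Agent.Lib.Helper23.QCohLocal Groth.Agent.Lib.Helper6 Opposite

/-- vanishing of the right term. -/
theorem subsingleton_right {X : Scheme.{u}} (S : ShortComplex X.Modules) (hS : S.ShortExact) (i : ℕ)
    (h2 : Subsingleton (Coh.HH X S.X₂ i)) (h1 : Subsingleton (Coh.HH X S.X₁ (i + 1))) :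
    Subsingleton (Coh.HH X S.X₃ i) := by
  have key : ∀ x : Coh.HH X S.X₃ i, x = 0 := by
    intro x
    obtain ⟨y, hy⟩ := Abelian.Ext.covariant_sequence_exact₃ _ (shortExact_toAbF S hS) x rfl
      (Subsingleton.elim (α := Coh.HH X S.X₁ (i + 1)) _ _)
    have hy0 : y = 0 := @Subsingleton.elim _ h2 _ _
    rw [← hy, hy0, Abelian.Ext.zero_comp]
    rfl
  exact ⟨fun x y => (key x).trans (key y).symm⟩

/-- transport of the decomposition property along an isomorphism. -/
theorem decomp_transport {X P : Scheme.{u}} (φ : X ⟶ P) [IsIso φ] (V₁ V₂ W : P.Opens)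
    (hW : W = V₁ ⊓ V₂) (h1 : W ≤ V₁) (h2 : W ≤ V₂)
    (hP : ∀ s : Γ(P, W), ∃ (a : Γ(P, V₁)) (b : Γ(P, V₂)),
      s = (P.presheaf.map (homOfLE h1).op).hom a + (P.presheaf.map (homOfLE h2).op).hom b)
    (s : Γ(X, φ ⁻¹ᵁ V₁ ⊓ φ ⁻¹ᵁ V₂)) :
    ∃ (a : Γ(X, φ ⁻¹ᵁ V₁)) (b : Γ(X, φ ⁻¹ᵁ V₂)),
      s = (X.presheaf.map (homOfLE (inf_le_left : φ ⁻¹ᵁ V₁ ⊓ φ ⁻¹ᵁ V₂ ≤ φ ⁻¹ᵁ V₁)).op).hom a -
        (X.presheaf.map (homOfLE (inf_le_right : φ ⁻¹ᵁ V₁ ⊓ φ ⁻¹ᵁ V₂ ≤ φ ⁻¹ᵁ V₂)).op).hom b := by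
  subst hW
  obtain ⟨σ, rfl⟩ : ∃ σ, (φ.app (V₁ ⊓ V₂)).hom σ = s :=
    ⟨(inv (φ.app (V₁ ⊓ V₂))).hom s, by
      have : inv (φ.app (V₁ ⊓ V₂)) ≫ φ.app (V₁ ⊓ V₂) = 𝟙 _ := IsIso.inv_hom_id _
      exact congrArg (fun ψ => ψ.hom s) this⟩
  obtain ⟨a, b, rfl⟩ := hP σ
  refine ⟨(φ.app V₁).hom a, -(φ.app V₂).hom b, ?_⟩
  rw [map_add, map_neg, sub_neg_eq_add]
  have n1 := φ.naturality (homOfLE h1).op
  have n2 := φ.naturality (homOfLE h2).op
  congr 1
  · exact congrArg (fun ψ => ψ.hom a) n1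
  · exact congrArg (fun ψ => ψ.hom b) n2

/-- `H¹(X, O_X) = 0` for a blow-up of `Spec A` in a two-generated ideal. -/
theorem subsingleton_HH_one_unit {A : Type u} [CommRing A] (x y : A) {X : Scheme.{u}}
    (b : X ⟶ Spec (CommRingCat.of A))
    (hb : BlowUp.IsBlowUp b (Curv2.idealSheaf A (Ideal.span {x, y}))) :
    Subsingleton (Coh.HH X (Coh.structureModule X) 1) := by
  set I : Ideal A := Ideal.span {x, y} with hI
  have hx : x ∈ I := Ideal.subset_span (by simp)
  have hy : y ∈ I := Ideal.subset_span (by simp)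
  have hP := isBlowUp_piMap I
  obtain ⟨φ, hφ, -⟩ := hP.2 X b hb.1
  haveI : IsIso φ := isIso_of_isBlowUp hb hP φ hφ
  let f := aX I x hx
  let g := aX I y hy
  have hf : f ∈ Rees.deg (reesAlgebra I) 1 := aX_mem_deg I x hx
  have hg : g ∈ Rees.deg (reesAlgebra I) 1 := aX_mem_deg I y hy
  let V₁ := Proj.basicOpen (Rees.deg (reesAlgebra I)) f
  let V₂ := Proj.basicOpen (Rees.deg (reesAlgebra I)) g
  have hV₁ : IsAffineOpen (φ ⁻¹ᵁ V₁) :=
    (Proj.isAffineOpen_basicOpen _ f hf one_pos).preimage_of_isIso φ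
  have hV₂ : IsAffineOpen (φ ⁻¹ᵁ V₂) :=
    (Proj.isAffineOpen_basicOpen _ g hg one_pos).preimage_of_isIso φ
  have hcov : (⊤ : X.Opens) ≤ φ ⁻¹ᵁ V₁ ⊔ φ ⁻¹ᵁ V₂ := by
    have hgI : ∀ i, (![x, y] : Fin 2 → A) i ∈ I := by
      intro i; fin_cases i
      · exact hx
      · exact hy
    have hgs : Ideal.span (Set.range (![x, y] : Fin 2 → A)) = I := by
      rw [hI]; congr 1; ext z
      simp only [Set.mem_range, Fin.exists_fin_two, Set.mem_insert_iff, Set.mem_singleton_iff]
      simp [eq_comm]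
    have hspan : (HomogeneousIdeal.irrelevant (Rees.deg (reesAlgebra I))).toIdeal ≤
        Ideal.span (Set.range fun i => aX I ((![x, y] : Fin 2 → A) i) (hgI i)) := by
      refine (irrelevant_le_span I).trans (Ideal.span_le.2 ?_)
      rintro _ ⟨a, rfl⟩
      exact Groth.Agent.S1623.aX_mem_span I _ hgI hgs a.1 a.2
    have h := Proj.iSup_basicOpen_eq_top (Rees.deg (reesAlgebra I))
      (fun i => aX I ((![x, y] : Fin 2 → A) i) (hgI i)) hspan
    intro z _
    have hz : φ z ∈ (⨆ i, Proj.basicOpen (Rees.deg (reesAlgebra I))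
        (aX I ((![x, y] : Fin 2 → A) i) (hgI i))) := by
      rw [h]; trivial
    obtain ⟨i, hi⟩ := TopologicalSpace.Opens.mem_iSup.1 hz
    fin_cases i
    · exact Or.inl hi
    · exact Or.inr hi
  haveI : (Coh.structureModule X).IsQuasicoherent :=
    Groth.Agent.Lib.Helper23.Serre.isQuasicoherent_structureModule' X
  refine subsingleton_HH_one_of_decomp (Coh.structureModule X) (φ ⁻¹ᵁ V₁) (φ ⁻¹ᵁ V₂) hV₁ hV₂ hcov ?_
  intro s
  exact decomp_transport φ V₁ V₂ (Proj.basicOpen _ (f * g)) (Proj.basicOpen_mul _ f g)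
    (Proj.basicOpen_mono _ f (f * g) ⟨g, rfl⟩) (Proj.basicOpen_mono _ g (f * g) ⟨f, mul_comm f g⟩)
    (proj_decomp (Rees.deg (reesAlgebra I)) hf hg (rees_H I x y hI hx hy)) s


/-- Let A be a regular local ring of dimension two and b : X → Spec A the blowing up in the maximal
ideal. If F is a quasi-coherent O_X-module which is globally generated, then H¹(X, F) = 0. -/
theorem result (A : Type u) [CommRing A] [IsRegularLocalRing A] (hA : ringKrullDim A = 2)
    (X : Scheme.{u}) (b : X ⟶ Spec (CommRingCat.of A)) (hb : BlowUp.IsBlowUp b (Curv2.idealSheaf A (IsLocalRing.maximalIdeal A)))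
    (F : X.Modules) (hF : Coh.IsQCoh F) (hgg : Curv2.IsGloballyGenerated F) : Subsingleton (Coh.HH X F 1) := by
  obtain ⟨g, hg⟩ := Groth.Agent.S1623.exists_two_gens A hA
  obtain ⟨hsep, U, hU, hcov⟩ := Groth.Agent.S1623.sep_and_cover (IsLocalRing.maximalIdeal A)
    (n := 1) g hg b hb
  have hxy : IsLocalRing.maximalIdeal A = Ideal.span {g 0, g 1} := by
    rw [← hg]; congr 1; ext z
    simp only [Set.mem_range, Fin.exists_fin_two, Set.mem_insert_iff, Set.mem_singleton_iff]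
    simp [eq_comm]
  have hO : Subsingleton (Coh.HH X (Coh.structureModule X) 1) :=
    subsingleton_HH_one_unit (g 0) (g 1) b (hxy ▸ hb)
  obtain ⟨ι, p₀, hp₀⟩ := hgg
  let Fr : X.Modules := SheafOfModules.free ι
  let p : Fr ⟶ F := p₀
  have hp : Epi p := hp₀
  haveI : F.IsQuasicoherent := hF
  haveI hOq : (Coh.structureModule X).IsQuasicoherent :=
    Groth.Agent.Lib.Helper23.Serre.isQuasicoherent_structureModule' X
  haveI : CompactSpace X := by
    rw [← isCompact_univ_iff]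
    have h1 : (Set.univ : Set X) = ⋃ i, (U i : Set X) := by
      have := congrArg (fun V : X.Opens => (V : Set X)) hcov
      simp only [TopologicalSpace.Opens.coe_iSup, TopologicalSpace.Opens.coe_top] at this
      exact this.symm
    rw [h1]
    exact isCompact_iUnion (fun i => (hU i).isCompact)
  haveI : QuasiSeparatedSpace X := inferInstance
  have hfree : Subsingleton (Coh.HH X Fr 1) :=
    Groth.Agent.Lib.Helper16.CohCoprod.subsingleton_HH_coprod_qcqs
      (fun _ : ι => Coh.structureModule X) (fun _ => hOq) 1 (fun _ => hO)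
  haveI hfq : Fr.IsQuasicoherent :=
    isQuasicoherent_colimit (Discrete.functor fun _ : ι => Coh.structureModule X) (fun _ => hOq)
  haveI hK : (kernel p).IsQuasicoherent := isQuasicoherent_kernel p
  have hK2 : Subsingleton (Coh.HH X (kernel p) 2) :=
    Groth.Agent.S1623.result A hA X b hb (kernel p) hK 2 le_rfl
  let S : ShortComplex X.Modules := ShortComplex.mk (kernel.ι p) p (kernel.condition p)
  have hS : S.ShortExact :=
    { exact := ShortComplex.exact_of_f_is_kernel _ (kernelIsKernel p)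
      mono_f := (inferInstance : Mono (kernel.ι p))
      epi_g := hp }
  exact subsingleton_right S hS 1 hfree hK2

end Groth.Agent.S1624
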