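import Groth.Statements.S16243
import Mathlib
import Groth.Agent.Lib.Helper13Node
import Groth.Agent.S14414
-- import your own Groth.Agent.* helpers here

set_option autoImplicit false
universe u
open CategoryTheory
open CAlg

namespace Groth.Agent.S16243

open MvPolynomial

section concrete
variable (k : Type u) [Field k]

local notation "Rk" => MvPolynomial (Fin 2) k
local notation "I₀" => Ideal.span {(MvPolynomial.X 0 * MvPolynomial.X 1 : MvPolynomial (Fin 2) k)}

theorem not_X0_dvd_X1 : ¬ ((X 0 : Rk) ∣ X 1) := by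
  rintro ⟨s, hs⟩
  have := congrArg (MvPolynomial.eval (![0, 1] : Fin 2 → k)) hs
  simp at this

theorem not_X1_dvd_X0 : ¬ ((X 1 : Rk) ∣ X 0) := by
  rintro ⟨s, hs⟩
  have := congrArg (MvPolynomial.eval (![1, 0] : Fin 2 → k)) hs
  simp at this

theorem hyx : Ideal.Quotient.mk I₀ (X 1) * Ideal.Quotient.mk I₀ (X 0) = 0 := by
  rw [← map_mul, Ideal.Quotient.eq_zero_iff_mem, mul_comm]
  exact Ideal.subset_span rfl

theorem ha (a : Rk ⧸ I₀) (h : a * Ideal.Quotient.mk I₀ (X 0) = 0) :
    a ∈ Ideal.span {Ideal.Quotient.mk I₀ (X 1)} := by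
  obtain ⟨p, rfl⟩ := Ideal.Quotient.mk_surjective a
  rw [← map_mul, Ideal.Quotient.eq_zero_iff_mem, Ideal.mem_span_singleton'] at h
  obtain ⟨q, hq⟩ := h
  have : p = q * X 1 := by
    have h2 : p * X 0 = (q * X 1) * X 0 := by rw [← hq]; ring
    exact mul_right_cancel₀ (X_ne_zero 0) h2
  rw [this, map_mul]
  exact Ideal.mem_span_singleton'.2 ⟨_, rfl⟩

theorem hb (a : Rk ⧸ I₀) (h : a * Ideal.Quotient.mk I₀ (X 1) = 0) :
    a ∈ Ideal.span {Ideal.Quotient.mk I₀ (X 0)} := by
  obtain ⟨p, rfl⟩ := Ideal.Quotient.mk_surjective a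
  rw [← map_mul, Ideal.Quotient.eq_zero_iff_mem, Ideal.mem_span_singleton'] at h
  obtain ⟨q, hq⟩ := h
  have : p = q * X 0 := by
    have h2 : p * X 1 = (q * X 0) * X 1 := by rw [← hq]; ring
    exact mul_right_cancel₀ (X_ne_zero 1) h2
  rw [this, map_mul]
  exact Ideal.mem_span_singleton'.2 ⟨_, rfl⟩

theorem hc (a b : Rk ⧸ I₀)
    (h : a * Ideal.Quotient.mk I₀ (X 0) = b * Ideal.Quotient.mk I₀ (X 1)) :
    a * Ideal.Quotient.mk I₀ (X 0) = 0 := by
  obtain ⟨p, rfl⟩ := Ideal.Quotient.mk_surjective a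
  obtain ⟨q, rfl⟩ := Ideal.Quotient.mk_surjective b
  rw [h]
  rw [← map_mul, ← map_mul, Ideal.Quotient.eq, Ideal.mem_span_singleton'] at h
  obtain ⟨r, hr⟩ := h
  have h1 : (X 0 : Rk) ∣ q * X 1 := ⟨p - r * X 1, by linear_combination hr⟩
  have h2 : (X 0 : Rk) ∣ q := ((X_prime (R := k) (σ := Fin 2) (i := 0)).dvd_or_dvd h1).resolve_right
    (not_X0_dvd_X1 k)
  obtain ⟨q', rfl⟩ := h2
  rw [← map_mul, Ideal.Quotient.eq_zero_iff_mem, Ideal.mem_span_singleton']
  exact ⟨q', by ring⟩

theorem hmax : (Ideal.span {Ideal.Quotient.mk I₀ (X 0), Ideal.Quotient.mk I₀ (X 1)}).IsMaximal := by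
  let φ : (Rk ⧸ I₀) →+* k := Ideal.Quotient.lift I₀ (MvPolynomial.constantCoeff) (by
    intro a ha
    rw [Ideal.mem_span_singleton'] at ha
    obtain ⟨b, rfl⟩ := ha
    simp)
  have hφ : Function.Surjective φ := by
    intro c
    exact ⟨Ideal.Quotient.mk I₀ (C c), by simp [φ]⟩
  have hker : RingHom.ker φ =
      Ideal.span {Ideal.Quotient.mk I₀ (X 0), Ideal.Quotient.mk I₀ (X 1)} := by
    apply le_antisymm
    · intro a ha
      obtain ⟨p, rfl⟩ := Ideal.Quotient.mk_surjective a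
      rw [RingHom.mem_ker] at ha
      have hp : constantCoeff p = 0 := by simpa [φ] using ha
      have hp' : p ∈ idealOfVars (Fin 2) k := by
        have := (mem_pow_idealOfVars_iff' (σ := Fin 2) (R := k) 1 p).2 (by
          intro x hx
          have hx0 : x = 0 := by
            have : x.degree = 0 := by omega
            exact (Finsupp.degree_eq_zero_iff x).1 this
          rw [hx0]
          exact hp)
        simpa using this
      have hmap : Ideal.map (Ideal.Quotient.mk I₀) (idealOfVars (Fin 2) k) =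
          Ideal.span {Ideal.Quotient.mk I₀ (X 0), Ideal.Quotient.mk I₀ (X 1)} := by
        rw [idealOfVars, Ideal.map_span]
        congr 1
        ext z
        simp only [Set.mem_image, Set.mem_range, exists_exists_eq_and, Set.mem_insert_iff,
          Set.mem_singleton_iff]
        constructor
        · rintro ⟨i, rfl⟩
          fin_cases i
          · exact Or.inl rfl
          · exact Or.inr rfl
        · rintro (rfl | rfl)
          · exact ⟨0, rfl⟩
          · exact ⟨1, rfl⟩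
      rw [← hmap]
      exact Ideal.mem_map_of_mem _ hp'
    · rw [Ideal.span_le]
      intro z hz
      simp only [Set.mem_insert_iff, Set.mem_singleton_iff] at hz
      rcases hz with rfl | rfl
      · simp [φ]
      · simp [φ]
  rw [← hker]
  exact RingHom.ker_isMaximal_of_surjective φ hφ

end concrete

theorem no_fin_pd {A : Type u} [CommRing A] (κ : ModuleCat.{u} A)
    (h : ∀ i : ℕ, Module.length A (((Tor (ModuleCat.{u} A) (i + 1)).obj κ).obj κ) = 2) :
    ∀ n : ℕ, ¬ HasProjectiveDimensionLT κ n := by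
  intro n hn
  have h1 : HasProjectiveDimensionLT κ (n + 1) := hasProjectiveDimensionLT_of_ge κ n (n + 1) (by omega)
  have h2 : HasProjectiveDimensionLE κ n := h1
  have hz := Groth.Agent.S14414.result A κ κ n (n + 1) (by omega)
  have h3 := h n
  have : Subsingleton (((Tor (ModuleCat.{u} A) (n + 1)).obj κ).obj κ) :=
    ModuleCat.subsingleton_of_isZero hz
  rw [Module.length_eq_zero] at h3
  exact absurd h3 (by norm_num)

/-- Let k be a field, A = k[x, y]/(xy) (x = X_0, y = X_1) and κ = A/(x, y) the residue field at the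
origin, viewed as an A-module. Then for every i ≥ 1 the A-module Tor_i^A(κ, κ) has length 2 (it is a
two-dimensional κ-vector space; Tor_0 is κ), and κ admits no finite projective resolution over A:
for no n is its projective dimension less than n. -/
theorem result (k : Type u) [Field k] :
    (∀ i : ℕ, 1 ≤ i →
      Module.length (MvPolynomial (Fin 2) k ⧸ Ideal.span {(MvPolynomial.X 0 * MvPolynomial.X 1 : MvPolynomial (Fin 2) k)}) ((((Tor (ModuleCat.{u} (MvPolynomial (Fin 2) k ⧸ Ideal.span {(MvPolynomial.X 0 * MvPolynomial.X 1 : MvPolynomial (Fin 2) k)})) i).obj (ModuleCat.of (MvPolynomial (Fin 2) k ⧸ Ideal.span {(MvPolynomial.X 0 * MvPolynomial.X 1 : MvPolynomial (Fin 2) k)}) ((MvPolynomial (Fin 2) k ⧸ Ideal.span {(MvPolynomial.X 0 * MvPolynomial.X 1 : MvPolynomial (Fin 2) k)}) ⧸ Ideal.span {Ideal.Quotient.mk (Ideal.span {(MvPolynomial.X 0 * MvPolynomial.X 1 : MvPolynomial (Fin 2) k)}) (MvPolynomial.X 0), Ideal.Quotient.mk (Ideal.span {(MvPolynomial.X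 0 * MvPolynomial.X 1 : MvPolynomial (Fin 2) k)}) (MvPolynomial.X 1)}))).obj (ModuleCat.of (MvPolynomial (Fin 2) k ⧸ Ideal.span {(MvPolynomial.X 0 * MvPolynomial.X 1 : MvPolynomial (Fin 2) k)}) ((MvPolynomial (Fin 2) k ⧸ Ideal.span {(MvPolynomial.X 0 * MvPolynomial.X 1 : MvPolynomial (Fin 2) k)}) ⧸ Ideal.span {Ideal.Quotient.mk (Ideal.span {(MvPolynomial.X 0 * MvPolynomial.X 1 : MvPolynomial (Fin 2) k)}) (MvPolynomial.X 0), Ideal.Quotient.mk (Ideal.span {(MvPolynomial.X 0 * MvPolynomial.X 1 : MvPolynomial (Fin 2) k)}) (MvPolynomial.X 1)}))) : Type u) = 2) ∧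
    ∀ n : ℕ, ¬ HasProjectiveDimensionLT (ModuleCat.of (MvPolynomial (Fin 2) k ⧸ Ideal.span {(MvPolynomial.X 0 * MvPolynomial.X 1 : MvPolynomial (Fin 2) k)}) ((MvPolynomial (Fin 2) k ⧸ Ideal.span {(MvPolynomial.X 0 * MvPolynomial.X 1 : MvPolynomial (Fin 2) k)}) ⧸ Ideal.span {Ideal.Quotient.mk (Ideal.span {(MvPolynomial.X 0 * MvPolynomial.X 1 : MvPolynomial (Fin 2) k)}) (MvPolynomial.X 0), Ideal.Quotient.mk (Ideal.span {(MvPolynomial.X 0 * MvPolynomial.X 1 : MvPolynomial (Fin 2) k)}) (MvPolynomial.X 1)})) n := by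
  have := hmax k
  have key : ∀ i : ℕ, _ := fun i => Groth.Agent.Helper13Node.length_tor_eq_two
    (A := MvPolynomial (Fin 2) k ⧸ Ideal.span {(MvPolynomial.X 0 * MvPolynomial.X 1 : MvPolynomial (Fin 2) k)})
    (Ideal.Quotient.mk _ (MvPolynomial.X 0)) (Ideal.Quotient.mk _ (MvPolynomial.X 1))
    (hyx k) (ha k) (hb k) (hc k) i
  constructor
  · intro i hi
    obtain ⟨j, rfl⟩ : ∃ j, i = j + 1 := ⟨i - 1, by omega⟩
    exact key j
  · exact no_fin_pd _ key

end Groth.Agent.S16243
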