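import Groth.Statements.S16244
import Mathlib

set_option autoImplicit false
universe u
open Curves

namespace Groth.Agent.S16244

open WeierstrassCurve

section
variable (k : Type u) [Field k]

lemma stab_iff (h2 : (2 : k) ≠ 0) (h3 : (3 : k) ≠ 0)
    (W : WeierstrassCurve k) [W.IsShortNF] (C : VariableChange k) :
    C • W = W ↔ (C.r = 0 ∧ C.s = 0 ∧ C.t = 0 ∧
      ((C.u⁻¹ : kˣ) : k) ^ 4 * W.a₄ = W.a₄ ∧ ((C.u⁻¹ : kˣ) : k) ^ 6 * W.a₆ = W.a₆) := by
  have hv : ((C.u⁻¹ : kˣ) : k) ≠ 0 := Units.ne_zero _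
  rw [WeierstrassCurve.ext_iff, variableChange_a₁, variableChange_a₂, variableChange_a₃,
    variableChange_a₄, variableChange_a₆, a₁_of_isShortNF, a₂_of_isShortNF, a₃_of_isShortNF]
  constructor
  · rintro ⟨e1, e2, e3, e4, e6⟩
    have hs : C.s = 0 := by
      rcases mul_eq_zero.1 e1 with h | h
      · exact (hv h).elim
      · rw [zero_add] at h
        exact (mul_eq_zero.1 h).resolve_left h2
    have hr : C.r = 0 := by
      rcases mul_eq_zero.1 e2 with h | h
      · exact (hv (pow_eq_zero_iff (two_ne_zero) |>.1 h)).elim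
      · rw [hs] at h
        have : 3 * C.r = 0 := by linear_combination h
        exact (mul_eq_zero.1 this).resolve_left h3
    have ht : C.t = 0 := by
      rcases mul_eq_zero.1 e3 with h | h
      · exact (hv (pow_eq_zero_iff (three_ne_zero) |>.1 h)).elim
      · have : 2 * C.t = 0 := by linear_combination h
        exact (mul_eq_zero.1 this).resolve_left h2
    refine ⟨hr, hs, ht, ?_, ?_⟩
    · rw [hr, hs, ht] at e4
      linear_combination e4
    · rw [hr, ht] at e6
      linear_combination e6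
  · rintro ⟨hr, hs, ht, e4, e6⟩
    rw [hr, hs, ht]
    refine ⟨by ring, by ring, by ring, ?_, ?_⟩
    · linear_combination e4
    · linear_combination e6

lemma inv_pow_eq_one_iff (u : kˣ) (n : ℕ) : ((u⁻¹ : kˣ) : k) ^ n = 1 ↔ u ^ n = 1 := by
  rw [← Units.val_pow_eq_pow_val, Units.val_eq_one, inv_pow, inv_eq_one]

variable [IsAlgClosed k]

lemma main (W : WeierstrassCurve k) (n : ℕ) [NeZero (n : k)]
    (h : ∀ C : VariableChange k, C • W = W ↔ (C.r = 0 ∧ C.s = 0 ∧ C.t = 0 ∧ C.u ^ n = 1)) :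
    IsCyclic ↥(MulAction.stabilizer (VariableChange k) W) ∧
      Nat.card ↥(MulAction.stabilizer (VariableChange k) W) = n := by
  have hn : NeZero n := .of_neZero_natCast k
  let e : ↥(MulAction.stabilizer (VariableChange k) W) ≃* rootsOfUnity n k :=
    { toFun := fun C => ⟨C.1.u, (mem_rootsOfUnity _ _).2
        ((h C.1).1 (MulAction.mem_stabilizer_iff.1 C.2)).2.2.2⟩
      invFun := fun ζ => ⟨⟨ζ.1, 0, 0, 0⟩, MulAction.mem_stabilizer_iff.2
        ((h _).2 ⟨rfl, rfl, rfl, (mem_rootsOfUnity _ _).1 ζ.2⟩)⟩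
      left_inv := fun C => by
        obtain ⟨hr, hs, ht, -⟩ := (h C.1).1 (MulAction.mem_stabilizer_iff.1 C.2)
        apply Subtype.ext
        apply VariableChange.ext
        · rfl
        · exact hr.symm
        · exact hs.symm
        · exact ht.symm
      right_inv := fun ζ => rfl
      map_mul' := fun C C' => rfl }
  refine ⟨?_, ?_⟩
  · exact (MulEquiv.isCyclic e).2 inferInstance
  · rw [Nat.card_congr e.toEquiv]
    exact HasEnoughRootsOfUnity.natCard_rootsOfUnity k n

end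


/-- Let k be an algebraically closed field in which 2 and 3 are nonzero, and W a short Weierstrass
equation y² = x³ + a₄x + a₆ over k with nonzero discriminant. The admissible changes of variables
(u, r, s, t) that fix W form a cyclic group, of order 6 when a₄ = 0, of order 4 when a₆ = 0, and of
order 2 when a₄ and a₆ are both nonzero. (The published statement says the automorphism group of the
elliptic curve is cyclic of order 2, 4 or 6; the automorphisms are rendered here as the changes of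
variables preserving the equation, and the case distinction is the one the computation gives.) -/
theorem result
    (k : Type u) [Field k] [IsAlgClosed k] (h2 : (2 : k) ≠ 0) (h3 : (3 : k) ≠ 0)
    (W : WeierstrassCurve k) [W.IsShortNF] (hΔ : W.Δ ≠ 0) :
    IsCyclic ↥(MulAction.stabilizer (WeierstrassCurve.VariableChange k) W) ∧
      (W.a₄ = 0 → Nat.card ↥(MulAction.stabilizer (WeierstrassCurve.VariableChange k) W) = 6) ∧
      (W.a₆ = 0 → Nat.card ↥(MulAction.stabilizer (WeierstrassCurve.VariableChange k) W) = 4) ∧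
      (W.a₄ ≠ 0 → W.a₆ ≠ 0 → Nat.card ↥(MulAction.stabilizer (WeierstrassCurve.VariableChange k) W) = 2) := by
  have hne : ¬ (W.a₄ = 0 ∧ W.a₆ = 0) := by
    rintro ⟨h4, h6⟩
    apply hΔ
    rw [Δ_of_isShortNF, h4, h6]
    ring
  have i2 : NeZero ((2 : ℕ) : k) := ⟨by exact_mod_cast h2⟩
  have i4 : NeZero ((4 : ℕ) : k) := ⟨by
    have : (4 : k) = 2 * 2 := by norm_num
    push_cast
    rw [this]
    exact mul_ne_zero h2 h2⟩
  have i6 : NeZero ((6 : ℕ) : k) := ⟨by
    have : (6 : k) = 2 * 3 := by norm_num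
    push_cast
    rw [this]
    exact mul_ne_zero h2 h3⟩
  -- case a₄ = 0
  have c1 : W.a₄ = 0 → IsCyclic ↥(MulAction.stabilizer (VariableChange k) W) ∧
      Nat.card ↥(MulAction.stabilizer (VariableChange k) W) = 6 := by
    intro h4
    have h6 : W.a₆ ≠ 0 := fun h6 => hne ⟨h4, h6⟩
    apply main k W 6
    intro C
    rw [stab_iff k h2 h3 W C, h4, mul_zero, ← inv_pow_eq_one_iff]
    constructor
    · rintro ⟨hr, hs, ht, -, e6⟩
      refine ⟨hr, hs, ht, ?_⟩
      exact mul_right_cancel₀ h6 (by rw [e6, one_mul])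
    · rintro ⟨hr, hs, ht, e⟩
      exact ⟨hr, hs, ht, rfl, by rw [e, one_mul]⟩
  have c2 : W.a₆ = 0 → IsCyclic ↥(MulAction.stabilizer (VariableChange k) W) ∧
      Nat.card ↥(MulAction.stabilizer (VariableChange k) W) = 4 := by
    intro h6
    have h4 : W.a₄ ≠ 0 := fun h4 => hne ⟨h4, h6⟩
    apply main k W 4
    intro C
    rw [stab_iff k h2 h3 W C, h6, mul_zero, ← inv_pow_eq_one_iff]
    constructor
    · rintro ⟨hr, hs, ht, e4, -⟩
      refine ⟨hr, hs, ht, ?_⟩
      exact mul_right_cancel₀ h4 (by rw [e4, one_mul])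
    · rintro ⟨hr, hs, ht, e⟩
      exact ⟨hr, hs, ht, by rw [e, one_mul], rfl⟩
  have c3 : W.a₄ ≠ 0 → W.a₆ ≠ 0 → IsCyclic ↥(MulAction.stabilizer (VariableChange k) W) ∧
      Nat.card ↥(MulAction.stabilizer (VariableChange k) W) = 2 := by
    intro h4 h6
    apply main k W 2
    intro C
    rw [stab_iff k h2 h3 W C, ← inv_pow_eq_one_iff]
    constructor
    · rintro ⟨hr, hs, ht, e4, e6⟩
      refine ⟨hr, hs, ht, ?_⟩
      have e4' : ((C.u⁻¹ : kˣ) : k) ^ 4 = 1 := mul_right_cancel₀ h4 (by rw [e4, one_mul])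
      have e6' : ((C.u⁻¹ : kˣ) : k) ^ 6 = 1 := mul_right_cancel₀ h6 (by rw [e6, one_mul])
      have : ((C.u⁻¹ : kˣ) : k) ^ 6 = ((C.u⁻¹ : kˣ) : k) ^ 4 * ((C.u⁻¹ : kˣ) : k) ^ 2 := by ring
      rw [e4', one_mul] at this
      rw [← this, e6']
    · rintro ⟨hr, hs, ht, e⟩
      refine ⟨hr, hs, ht, ?_, ?_⟩
      · have : ((C.u⁻¹ : kˣ) : k) ^ 4 = (((C.u⁻¹ : kˣ) : k) ^ 2) ^ 2 := by ring
        rw [this, e, one_pow, one_mul]
      · have : ((C.u⁻¹ : kˣ) : k) ^ 6 = (((C.u⁻¹ : kˣ) : k) ^ 2) ^ 3 := by ring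
        rw [this, e, one_pow, one_mul]
  refine ⟨?_, fun h => (c1 h).2, fun h => (c2 h).2, fun h h' => (c3 h h').2⟩
  by_cases h4 : W.a₄ = 0
  · exact (c1 h4).1
  · by_cases h6 : W.a₆ = 0
    · exact (c2 h6).1
    · exact (c3 h4 h6).1

end Groth.Agent.S16244
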