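import Groth.Statements.S1625
import Mathlib
import Groth.Agent.S1667
import Groth.Agent.Lib.Helper11SchImage
import Groth.Agent.Lib.Helper6DimAff
import Groth.Agent.Lib.Helper23ClPic3
import Groth.Agent.Lib.Helper27ProjSpaceFibres

set_option autoImplicit false
universe u
open CategoryTheory CategoryTheory.Limits AlgebraicGeometry
open Variety

namespace Groth.Agent.S1625


/-- Let X be separated of finite type over k with dim X ≤ 1. Then there are a closed subscheme Y of some
projective space P^d_k and an open immersion j : X → Y over k whose image is dense and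
scheme-theoretically dense and whose complement is a finite set of closed points. -/
theorem result (k : Type u) [Field k] (X : Scheme.{u}) [X.Over (Spec (CommRingCat.of k))] [IsSeparated (X ↘ (Spec (CommRingCat.of k)))] [LocallyOfFiniteType (X ↘ (Spec (CommRingCat.of k)))] [QuasiCompact (X ↘ (Spec (CommRingCat.of k)))] (hdim : topologicalKrullDim X ≤ 1) :
    ∃ (d : ℕ) (Y : Scheme.{u}) (c : Y ⟶ CohB1.ProjSpace d k) (j : X ⟶ Y), IsClosedImmersion c ∧ IsOpenImmersion j ∧
      j ≫ c ≫ CohB1.ProjSpace.toSpec d k = X ↘ (Spec (CommRingCat.of k)) ∧ Dense (Set.range j.base) ∧ IsSchemeTheoreticallyDominant j ∧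
      (Set.range j.base)ᶜ.Finite ∧ ∀ y ∈ (Set.range j.base)ᶜ, IsClosed ({y} : Set Y) := by
  classical
  obtain ⟨n, i, hi, hif⟩ := Groth.Agent.S1667.result k X hdim
  haveI := hi
  haveI : CompactSpace X :=
    QuasiCompact.compactSpace_of_compactSpace (X ↘ Spec (CommRingCat.of k))
  haveI : IsProper (CohB1.ProjSpace.toSpec n k) :=
    Groth.Agent.Lib.Helper27ProjSpaceFibres.isProper_projSpace_toSpec n k
  haveI : QuasiCompact i := by
    haveI : QuasiCompact (i ≫ CohB1.ProjSpace.toSpec n k) := by rw [hif]; infer_instance
    exact QuasiCompact.of_comp i (CohB1.ProjSpace.toSpec n k)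
  refine ⟨n, i.image, i.imageι, i.toImage, inferInstance, inferInstance, ?_, ?_, ?_, ?_⟩
  · rw [Scheme.Hom.toImage_imageι_assoc, hif]
  · exact i.toImage.denseRange
  · infer_instance
  · letI : i.image.Over (Spec (CommRingCat.of k)) :=
      ⟨i.imageι ≫ CohB1.ProjSpace.toSpec n k⟩
    have hYS : i.image ↘ Spec (CommRingCat.of k) = i.imageι ≫ CohB1.ProjSpace.toSpec n k := rfl
    haveI : IsProper (i.image ↘ Spec (CommRingCat.of k)) := by rw [hYS]; infer_instance
    haveI : IsLocallyNoetherian i.image :=
      LocallyOfFiniteType.isLocallyNoetherian (i.image ↘ Spec (CommRingCat.of k))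
    haveI : CompactSpace i.image :=
      QuasiCompact.compactSpace_of_compactSpace (i.image ↘ Spec (CommRingCat.of k))
    haveI : IsNoetherian i.image := { }
    set U : i.image.Opens := i.toImage.opensRange with hUdef
    have hUr : (U : Set i.image) = Set.range i.toImage.base := rfl
    have hUd : Dense (U : Set i.image) := i.toImage.denseRange
    have hdimY : topologicalKrullDim i.image ≤ 1 := by
      rw [Groth.Agent.Lib.Helper6.DimAff.topologicalKrullDim_eq_of_dense k
        (i.image ↘ Spec (CommRingCat.of k)) U hUd]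
      have h1 := IsHomeomorph.topologicalKrullDim_eq _
        (Scheme.homeoOfIso i.toImage.isoOpensRange).isHomeomorph
      exact h1 ▸ hdim
    have hdisc := Groth.Agent.Lib.Helper23.ClPic.discreteTopology_compl_of_dense hdimY U.2 hUd
    have hcl : IsClosed ((U : Set i.image)ᶜ) := U.2.isClosed_compl
    rw [← hUr]
    have hfin : ((U : Set i.image)ᶜ).Finite := by
      have hc : IsCompact ((U : Set i.image)ᶜ) := hcl.isCompact
      haveI : CompactSpace ↥((U : Set i.image)ᶜ) := isCompact_iff_compactSpace.mp hc
      haveI : Finite ↥((U : Set i.image)ᶜ) := finite_of_compact_of_discrete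
      exact Set.toFinite _
    refine ⟨hfin, fun y hy => ?_⟩
    have h1 : IsClosed ({⟨y, hy⟩} : Set ↥((U : Set i.image)ᶜ)) := isClosed_discrete _
    have h2 := hcl.isClosedEmbedding_subtypeVal.isClosedMap _ h1
    simpa using h2

end Groth.Agent.S1625
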