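import Groth.Statements.S16251
import Mathlib
import Groth.Agent.Lib.Helper23ConstrSub
import Groth.Agent.S0132
-- import your own Groth.Agent.* helpers here

set_option autoImplicit false
set_option backward.isDefEq.respectTransparency.types false
open CategoryTheory CategoryTheory.Limits AlgebraicGeometry Opposite
universe u
open EtPBC

namespace Groth.Agent.S16251


open Groth.Agent.Lib.Helper23ConstrSub Groth.Agent.Lib.Helper23ConstrGen Groth.Agent.Lib.Helper23Constr

/-- locally Noetherian `X`: a quotient of a constructible sheaf killed by `n > 0` is constructible -/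
theorem isConstructible_of_epi_locNoeth {X : Scheme.{u}} [IsLocallyNoetherian X] {F Q : EtCoh.Ab X}
    (π : F ⟶ Q) [Epi π] (n : ℕ) (hn : 0 < n) (hFn : n • 𝟙 F = 0) (hF : EtPBC.IsConstructible F) :
    EtPBC.IsConstructible Q := by
  refine isConstructible_of_openCover Q (fun U : X.affineOpens => U.1) (iSup_affineOpens_eq_top X)
    (fun U => ?_)
  haveI : IsAffine U.1.toScheme := U.2
  haveI : IsNoetherian U.1.toScheme := {}
  haveI : (EtCoh.pull U.1.ι).IsLeftAdjoint := (EtCoh.pullPushAdj U.1.ι).isLeftAdjoint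
  haveI : Epi ((EtCoh.pull U.1.ι).map π) := inferInstance
  refine isConstructible_of_epi ((EtCoh.pull U.1.ι).map π) n hn ?_ (isConstructible_pull _ _ hF)
  rw [killedBy_iff]
  have : n • 𝟙 ((EtCoh.pull U.1.ι).obj F) = (EtCoh.pull U.1.ι).map (n • 𝟙 F) := by
    rw [Functor.map_nsmul, CategoryTheory.Functor.map_id]
  rw [this, hFn, Functor.map_zero]

theorem main {X : Scheme.{u}} [IsLocallyNoetherian X] (ℓ : ℕ) (hℓ : 0 < ℓ) :
    ∀ (N : ℕ) (A : EtCoh.Ab X), (ℓ ^ N) • 𝟙 A = 0 →
      EtPBC.IsConstructible (cokernel (ℓ • 𝟙 A)) → EtPBC.IsConstructible A := by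
  intro N
  induction N with
  | zero =>
    intro A h0 hc
    rw [pow_zero, one_smul] at h0
    have hμ : ℓ • 𝟙 A = 0 := by rw [h0, smul_zero]
    rw [hμ] at hc
    exact Groth.Agent.S0133.isConstructible_of_iso cokernelZeroIsoTarget hc
  | succ N ih =>
    intro A hA hc
    set μ : A ⟶ A := ℓ • 𝟙 A with hμ
    let e : A ⟶ Limits.image μ := factorThruImage μ
    let ι : Limits.image μ ⟶ A := Limits.image.ι μ
    have heι : e ≫ ι = μ := Limits.image.fac μ
    have hcomm : ∀ k : ℕ, (k • 𝟙 A) ≫ e = e ≫ (k • 𝟙 (Limits.image μ)) := by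
      intro k
      rw [Preadditive.nsmul_comp, Preadditive.comp_nsmul, Category.id_comp, Category.comp_id]
    -- (1) the image is killed by ℓ^N
    have h1 : (ℓ ^ N) • 𝟙 (Limits.image μ) = 0 := by
      rw [← cancel_epi e, ← cancel_mono ι, comp_zero, zero_comp, ← hcomm, Category.assoc, heι, hμ,
        Preadditive.nsmul_comp, Category.id_comp, smul_smul, ← pow_succ, hA]
    -- (2) the cokernel of ℓ on the image is a quotient of the cokernel of ℓ on A
    have hck : ℓ • 𝟙 (cokernel μ) = 0 := by
      rw [← cancel_epi (cokernel.π μ), comp_zero, Preadditive.comp_nsmul, Category.comp_id]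
      have : ℓ • cokernel.π μ = μ ≫ cokernel.π μ := by
        rw [hμ, Preadditive.nsmul_comp, Category.id_comp]
      rw [this, cokernel.condition]
    let c : cokernel μ ⟶ cokernel (ℓ • 𝟙 (Limits.image μ)) :=
      cokernel.map μ (ℓ • 𝟙 (Limits.image μ)) e e (hcomm ℓ)
    haveI : Epi c := by
      have : cokernel.π μ ≫ c = e ≫ cokernel.π _ := by simp [c]
      haveI : Epi (cokernel.π μ ≫ c) := by rw [this]; infer_instance
      exact epi_of_epi (cokernel.π μ) c
    have h2 : EtPBC.IsConstructible (cokernel (ℓ • 𝟙 (Limits.image μ))) :=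
      isConstructible_of_epi_locNoeth c ℓ hℓ hck hc
    -- (3) induction
    have h3 := ih (Limits.image μ) h1 h2
    -- (4) extension
    have h4 : EtPBC.IsConstructible (cokernel ι) :=
      Groth.Agent.S0133.isConstructible_of_iso (cokernelEpiComp e ι)
        (Groth.Agent.S0133.isConstructible_of_iso (cokernelIsoOfEq heι.symm) hc)
    let S : ShortComplex (EtCoh.Ab X) := ShortComplex.mk ι (cokernel.π ι) (cokernel.condition ι)
    have hS : S.ShortExact :=
      { exact := ShortComplex.exact_of_g_is_cokernel S (cokernelIsCokernel ι)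
        mono_f := inferInstanceAs (Mono ι)
        epi_g := inferInstanceAs (Epi (cokernel.π ι)) }
    exact Groth.Agent.S0132.isConstructible_of_shortExact S hS h3 h4

/-- Let ℓ be a prime, X a locally Noetherian scheme and F = (F_n) an ℓ-adic projective system of abelian
sheaves on the small étale site of X, indexed from 0 (so ℓ^(n+1) F_n = 0 and, for n ≤ m, the
transition map F_m ⟶ F_n is a quotient map modulo ℓ^(n+1)). If the first member F_0 is
constructible, then every member F_n is constructible. (The converse is trivial. The published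
statement indexes the system from 1, with ℓ^n killing the n-th member; the statement here indexes it
from 0.) -/
theorem result (ℓ : ℕ) [Fact ℓ.Prime]
    (X : Scheme.{u}) [IsLocallyNoetherian X]
    (F : ARSys.PS (EtCoh.Ab X)) (hF : ARSys.IsAdic (Ideal.span {(ℓ : ℤ)}) F)
    (h0 : EtPBC.IsConstructible (F.obj (op 0))) (n : ℕ) :
    EtPBC.IsConstructible (F.obj (op n)) := by
  have hℓ : 0 < ℓ := (Fact.out : ℓ.Prime).pos
  obtain ⟨hkill, hquot⟩ := hF
  set A := F.obj (op n) with hA
  -- A is killed by ℓ^(n+1)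
  have hAk : (ℓ ^ (n + 1)) • 𝟙 A = 0 := by
    have h := hkill n (((ℓ : ℤ)) ^ (n + 1))
      (Ideal.pow_mem_pow (Ideal.mem_span_singleton_self _) _)
    rw [← natCast_zsmul]
    push_cast
    exact h
  apply main ℓ hℓ (n + 1) A hAk
  -- the cokernel of ℓ on A is a quotient of F_0
  obtain ⟨hk0, huniv⟩ := hquot 0 n (Nat.zero_le n)
  have hπ : ARSys.HomKilledBy (Ideal.span {(ℓ : ℤ)} ^ (0 + 1)) (cokernel.π (ℓ • 𝟙 A)) := by
    intro a ha
    rw [zero_add, pow_one, Ideal.mem_span_singleton] at ha
    obtain ⟨b, rfl⟩ := ha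
    rw [mul_comm, mul_smul]
    have : ((ℓ : ℤ)) • cokernel.π (ℓ • 𝟙 A) = (ℓ • 𝟙 A) ≫ cokernel.π (ℓ • 𝟙 A) := by
      rw [natCast_zsmul, Preadditive.nsmul_comp, Category.id_comp]
    rw [this, cokernel.condition, smul_zero]
  obtain ⟨ψ, hψ, -⟩ := huniv _ _ hπ
  haveI : Epi ψ := by
    haveI : Epi (ARSys.tr F (Nat.zero_le n) ≫ ψ) := by rw [hψ]; infer_instance
    exact epi_of_epi (ARSys.tr F (Nat.zero_le n)) ψ
  have hk0' : ℓ • 𝟙 (F.obj (op 0)) = 0 := by
    have h := hk0 (ℓ : ℤ) (by rw [zero_add, pow_one]; exact Ideal.mem_span_singleton_self _)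
    rw [← natCast_zsmul]
    exact h
  exact isConstructible_of_epi_locNoeth ψ ℓ hℓ hk0' h0

end Groth.Agent.S16251
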