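import Groth.Statements.S16254
import Groth.Agent.Lib.Helper19MinorsKer

set_option autoImplicit false
universe u
open LefPen
open scoped BigOperators
open MvPolynomial Groth.Agent.Lib.Helper19MinorsKer

namespace Groth.Agent.S16254

theorem exists_retraction {A : Type u} [CommRing A] {N s : ℕ} (m : Fin s → (Fin (N + 1) → A))
    (hli : LinearIndependent A m)
    (hproj : Module.Projective A ((Fin (N + 1) → A) ⧸ Submodule.span A (Set.range m))) :
    ∃ R : Fin s → Fin (N + 1) → A, ∀ i i', ∑ j, R i j * m i' j = if i = i' then 1 else 0 := by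
  classical
  set W := Submodule.span A (Set.range m) with hW
  obtain ⟨σ, hσ⟩ := Module.projective_lifting_property W.mkQ LinearMap.id
    (Submodule.mkQ_surjective W)
  have hσ' : ∀ q, W.mkQ (σ q) = q := fun q => LinearMap.congr_fun hσ q
  have hπ : ∀ x, x - σ (W.mkQ x) ∈ W := by
    intro x
    rw [← Submodule.Quotient.mk_eq_zero, Submodule.Quotient.mk_sub]
    have := hσ' (W.mkQ x)
    rw [Submodule.mkQ_apply, Submodule.mkQ_apply] at this
    rw [Submodule.mkQ_apply, this, sub_self]
  let π : (Fin (N + 1) → A) →ₗ[A] W :=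
    LinearMap.codRestrict W (LinearMap.id - σ.comp W.mkQ) (fun x => by simpa using hπ x)
  let r : (Fin (N + 1) → A) →ₗ[A] (Fin s →₀ A) := hli.repr.comp π
  have hr : ∀ i, r (m i) = Finsupp.single i 1 := by
    intro i
    have hmi : m i ∈ W := Submodule.subset_span ⟨i, rfl⟩
    have h0 : W.mkQ (m i) = 0 := by
      rw [Submodule.mkQ_apply]; exact (Submodule.Quotient.mk_eq_zero W).2 hmi
    have hπi : ((π (m i) : W) : Fin (N + 1) → A) = m i := by
      simp [π, h0]
    simp only [r, LinearMap.comp_apply]
    exact hli.repr_eq_single i _ hπi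
  refine ⟨fun i j => r (fun j' => if j = j' then 1 else 0) i, fun i i' => ?_⟩
  have h1 := LinearMap.pi_apply_eq_sum_univ r (m i')
  rw [hr i'] at h1
  have h2 := DFunLike.congr_fun h1 i
  rw [Finsupp.finset_sum_apply] at h2
  simp only [Finsupp.smul_apply, smul_eq_mul] at h2
  rw [Finsupp.single_apply] at h2
  have h3 : ∑ j, r (fun j' => if j = j' then 1 else 0) i * m i' j =
      ∑ j, m i' j * r (fun j' => if j = j' then 1 else 0) i :=
    Finset.sum_congr rfl fun j _ => mul_comm _ _
  rw [h3, ← h2]
  by_cases h : i = i'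
  · subst h; simp
  · rw [if_neg h, if_neg (Ne.symm h)]

theorem result
    (A : Type u) [CommRing A] (N s : ℕ) (m : Fin s → (Fin (N + 1) → A))
    (hli : LinearIndependent A m)
    (hproj : Module.Projective A ((Fin (N + 1) → A) ⧸ Submodule.span A (Set.range m))) :
    RingHom.ker (MvPolynomial.aeval (R := A) (S₁ := MvPolynomial (Fin s) A)
        (fun j : Fin (N + 1) => ∑ i : Fin s, MvPolynomial.C (m i j) * MvPolynomial.X i)) =
      Ideal.span (Set.range fun c : Fin (s + 1) → Fin (N + 1) =>
        (Matrix.of fun (i : Fin (s + 1)) (j : Fin (s + 1)) =>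
          (Fin.snoc (α := fun _ => MvPolynomial (Fin (N + 1)) A)
            (fun i' : Fin s => MvPolynomial.C (m i' (c j))) (MvPolynomial.X (c j)) i)).det) := by
  classical
  obtain ⟨R, hR⟩ := exists_retraction m hli hproj
  have hgen0 := gen_mem (S := MvPolynomial (Fin (N + 1)) A)
    (fun i j => C (m i j)) (fun j => X j) (fun i j => C (R i j))
    (by
      intro i i'
      simp only [← C_mul]
      rw [← map_sum, hR i i']
      split_ifs <;> simp)
  generalize hJ : Ideal.span (Set.range fun c : Fin (s + 1) → Fin (N + 1) =>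
        (Matrix.of fun (i : Fin (s + 1)) (j : Fin (s + 1)) =>
          (Fin.snoc (α := fun _ => MvPolynomial (Fin (N + 1)) A)
            (fun i' : Fin s => MvPolynomial.C (m i' (c j))) (MvPolynomial.X (c j)) i)).det) = J
    at hgen0 ⊢
  generalize hφ : MvPolynomial.aeval (R := A) (S₁ := MvPolynomial (Fin s) A)
        (fun j : Fin (N + 1) => ∑ i : Fin s, MvPolynomial.C (m i j) * MvPolynomial.X i) = φ
  let L : Fin s → MvPolynomial (Fin (N + 1)) A := fun i => ∑ j, C (R i j) * X j
  let ψ : MvPolynomial (Fin s) A →ₐ[A] MvPolynomial (Fin (N + 1)) A := aeval L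
  have hφX : ∀ j, φ (X j) = ∑ i : Fin s, C (m i j) * X i := fun j => by
    rw [← hφ, aeval_X]
  have hψX : ∀ i, ψ (X i) = L i := fun i => aeval_X _ _
  have hgen : ∀ j, X j - ψ (φ (X j)) ∈ J := by
    intro j
    have := hgen0 j
    have h2 : ψ (φ (X j)) = ∑ i, C (m i j) * ∑ j', C (R i j') * X j' := by
      rw [hφX, map_sum]
      refine Finset.sum_congr rfl fun i _ => ?_
      rw [map_mul, hψX]
      congr 1
      exact algHom_C ψ (m i j)
    rw [h2]; exact this
  apply le_antisymm
  · intro f hf
    rw [RingHom.mem_ker] at hf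
    have key : ∀ g : MvPolynomial (Fin (N + 1)) A, g - ψ (φ g) ∈ J := by
      intro g
      have hEq : (Ideal.Quotient.mkₐ A J) = ((Ideal.Quotient.mkₐ A J).comp (ψ.comp φ)) := by
        apply MvPolynomial.algHom_ext
        intro j
        simp only [AlgHom.comp_apply, Ideal.Quotient.mkₐ_eq_mk]
        rw [Ideal.Quotient.eq]
        exact hgen j
      have h2 := DFunLike.congr_fun hEq g
      simp only [AlgHom.comp_apply, Ideal.Quotient.mkₐ_eq_mk] at h2
      exact Ideal.Quotient.eq.1 h2
    have := key f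
    rwa [hf, map_zero, sub_zero] at this
  · rw [← hJ, Ideal.span_le]
    rintro _ ⟨c, rfl⟩
    rw [SetLike.mem_coe, RingHom.mem_ker]
    have hdet := (RingHom.map_det (φ : MvPolynomial (Fin (N + 1)) A →+* MvPolynomial (Fin s) A)
      (Matrix.of fun (i : Fin (s + 1)) (j : Fin (s + 1)) =>
          (Fin.snoc (α := fun _ => MvPolynomial (Fin (N + 1)) A)
            (fun i' : Fin s => MvPolynomial.C (m i' (c j))) (MvPolynomial.X (c j)) i)))
    rw [RingHom.coe_coe] at hdet
    rw [hdet]
    apply det_eq_zero_of_last_row_comb _ (fun i => X i)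
    intro j
    simp only [RingHom.mapMatrix_apply, Matrix.map_apply, Matrix.of_apply, Fin.snoc_last,
      Fin.snoc_castSucc, RingHom.coe_coe]
    rw [hφX]
    refine Finset.sum_congr rfl fun i _ => ?_
    rw [mul_comm]
    congr 1
    exact (algHom_C φ _).symm

end Groth.Agent.S16254
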