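import Groth.Statements.S7645
import Mathlib
import Groth.Agent.Lib.Helper11CurveAmpleF
import Groth.Agent.S1496
import Groth.Agent.Lib.Helper27ProjSpaceBC2

set_option autoImplicit false
universe u
open CategoryTheory CategoryTheory.Limits AlgebraicGeometry
open Variety

namespace Groth.Agent.S7645


/-- A proper scheme of dimension at most one over a field k is H-projective over k, i.e. admits a closed
immersion into P^n_k over k for some n. -/
theorem result (k : Type u) [Field k] (X : Scheme.{u}) [X.Over (Spec (CommRingCat.of k))] [IsProper (X ↘ (Spec (CommRingCat.of k)))]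
    (hdim : topologicalKrullDim X ≤ 1) :
    ∃ (n : ℕ) (i : X ⟶ CohB1.ProjSpace n k), IsClosedImmersion i ∧
      i ≫ CohB1.ProjSpace.toSpec n k = X ↘ (Spec (CommRingCat.of k)) := by
  haveI : IsLocallyNoetherian X :=
    LocallyOfFiniteType.isLocallyNoetherian (X ↘ (Spec (CommRingCat.of k)))
  haveI : CompactSpace X := QuasiCompact.compactSpace_of_compactSpace (X ↘ (Spec (CommRingCat.of k)))
  haveI : IsNoetherian X := { }
  haveI : X.IsSeparated := by
    constructor
    have : terminal.from X = (X ↘ (Spec (CommRingCat.of k))) ≫ terminal.from _ :=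
      Subsingleton.elim _ _
    rw [this]
    infer_instance
  obtain ⟨L, hL⟩ := Groth.Agent.Lib.Helper11.CurveAmple.exists_isAmple_of_dim_le_one X hdim
  have hS : ∃ N : (Spec (CommRingCat.of k)).Modules, CohB1.IsAmple N :=
    ⟨_, (Groth.Agent.Lib.Helper23.AmpleIso.isQuasiAffine_iff_isAmple_structureModule _).1 inferInstance⟩
  obtain ⟨n, i, hi, hif⟩ := (Groth.Agent.S1496.result hS (X ↘ (Spec (CommRingCat.of k)))).1.2
    ⟨inferInstance, L, hL⟩
  haveI := hi
  refine ⟨n, i ≫ (Groth.Agent.Lib.Helper27ProjSpaceBC.overIso n k).inv, inferInstance, ?_⟩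
  rw [Category.assoc, Groth.Agent.Lib.Helper27ProjSpaceBC.overIso_inv_toSpec]
  exact hif

end Groth.Agent.S7645
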