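import Groth.Statements.S1626
import Mathlib
import Groth.Agent.S1625
import Groth.Agent.S7645
import Groth.Agent.S9676
import Groth.Agent.S7616
import Groth.Agent.Lib.Helper4NormFinite
import Groth.Agent.Lib.Helper6DimAff
import Groth.Agent.Lib.Helper23ClPic3
import Groth.Agent.Lib.Helper27ProjSpaceFibres
import Groth.Agent.Lib.Helper4FibDimL

set_option autoImplicit false
universe u
open CategoryTheory CategoryTheory.Limits AlgebraicGeometry
open Variety

namespace Groth.Agent.S1626


/-- Let X be reduced, separated and of finite type over k with dim X ≤ 1. Then there are a closed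
subscheme Y of some P^d_k and a dense, scheme-theoretically dense open immersion j : X → Y over k
whose complement is a finite set of closed points at each of which the local ring of Y is a discrete
valuation ring. -/
theorem result (k : Type u) [Field k] (X : Scheme.{u}) [X.Over (Spec (CommRingCat.of k))] [IsReduced X] [IsSeparated (X ↘ (Spec (CommRingCat.of k)))] [LocallyOfFiniteType (X ↘ (Spec (CommRingCat.of k)))] [QuasiCompact (X ↘ (Spec (CommRingCat.of k)))] (hdim : topologicalKrullDim X ≤ 1) :
    ∃ (d : ℕ) (Y : Scheme.{u}) (c : Y ⟶ CohB1.ProjSpace d k) (j : X ⟶ Y), IsClosedImmersion c ∧ IsOpenImmersion j ∧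
      j ≫ c ≫ CohB1.ProjSpace.toSpec d k = X ↘ (Spec (CommRingCat.of k)) ∧ Dense (Set.range j.base) ∧ IsSchemeTheoreticallyDominant j ∧
      (Set.range j.base)ᶜ.Finite ∧ ∀ y ∈ (Set.range j.base)ᶜ, IsClosed ({y} : Set Y) ∧
        ∃ _ : IsDomain (Y.presheaf.stalk y), IsDiscreteValuationRing (Y.presheaf.stalk y) := by
  classical
  obtain ⟨d₀, Y₀, c₀, j₀, hc₀, hj₀, hcomp₀, hdense₀, hsd₀, hfin₀, hcl₀⟩ :=
    Groth.Agent.S1625.result k X hdim
  haveI := hc₀
  haveI := hj₀
  haveI := hsd₀
  haveI : IsProper (CohB1.ProjSpace.toSpec d₀ k) :=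
    Groth.Agent.Lib.Helper27ProjSpaceFibres.isProper_projSpace_toSpec d₀ k
  letI : Y₀.Over (Spec (CommRingCat.of k)) := ⟨c₀ ≫ CohB1.ProjSpace.toSpec d₀ k⟩
  have hY₀S : Y₀ ↘ Spec (CommRingCat.of k) = c₀ ≫ CohB1.ProjSpace.toSpec d₀ k := rfl
  haveI : IsProper (Y₀ ↘ Spec (CommRingCat.of k)) := by rw [hY₀S]; infer_instance
  haveI : IsLocallyNoetherian Y₀ :=
    LocallyOfFiniteType.isLocallyNoetherian (Y₀ ↘ Spec (CommRingCat.of k))
  haveI : CompactSpace Y₀ :=
    QuasiCompact.compactSpace_of_compactSpace (Y₀ ↘ Spec (CommRingCat.of k))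
  haveI : IsNoetherian Y₀ := { }
  haveI : CompactSpace X :=
    QuasiCompact.compactSpace_of_compactSpace (X ↘ Spec (CommRingCat.of k))
  haveI : QuasiCompact j₀ := inferInstance
  have hNag : ∀ U : Y₀.affineOpens, CAlg.IsNagata Γ(Y₀, U) := fun U =>
    Groth.Agent.S7616.isNagata_sections_of_locallyOfFiniteType_field k Y₀ U.1 U.2
  haveI hfinν : IsFinite j₀.fromNormalization :=
    Groth.Agent.Lib.Helper4.NormFinite.isFinite_fromNormalization_of_finite j₀ (fun U hU =>
      Groth.Agent.Lib.Helper4.NormFinite.finite_integralClosure_sections j₀ U hU (hNag ⟨U, hU⟩))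
  letI : j₀.normalization.Over (Spec (CommRingCat.of k)) :=
    ⟨j₀.fromNormalization ≫ (Y₀ ↘ Spec (CommRingCat.of k))⟩
  have hNS : j₀.normalization ↘ Spec (CommRingCat.of k) =
      j₀.fromNormalization ≫ (Y₀ ↘ Spec (CommRingCat.of k)) := rfl
  haveI : IsProper (j₀.normalization ↘ Spec (CommRingCat.of k)) := by rw [hNS]; infer_instance
  haveI : IsOpenImmersion j₀.toNormalization := inferInstance
  haveI : IsLocallyNoetherian j₀.normalization :=
    LocallyOfFiniteType.isLocallyNoetherian (j₀.normalization ↘ Spec (CommRingCat.of k))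
  haveI : CompactSpace j₀.normalization :=
    QuasiCompact.compactSpace_of_compactSpace (j₀.normalization ↘ Spec (CommRingCat.of k))
  haveI : IsNoetherian j₀.normalization := { }
  set U : j₀.normalization.Opens := j₀.toNormalization.opensRange with hUdef
  have hUr : (U : Set j₀.normalization) = Set.range j₀.toNormalization.base := rfl
  have hUd : Dense (U : Set j₀.normalization) := j₀.toNormalization.denseRange
  have hdimN : topologicalKrullDim j₀.normalization ≤ 1 := by
    rw [Groth.Agent.Lib.Helper6.DimAff.topologicalKrullDim_eq_of_dense k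
      (j₀.normalization ↘ Spec (CommRingCat.of k)) U hUd]
    have h1 := IsHomeomorph.topologicalKrullDim_eq _
      (Scheme.homeoOfIso j₀.toNormalization.isoOpensRange).isHomeomorph
    exact h1 ▸ hdim
  obtain ⟨d, c, hc, hcs⟩ := Groth.Agent.S7645.result k j₀.normalization hdimN
  refine ⟨d, j₀.normalization, c, j₀.toNormalization, hc, inferInstance, ?_, hUd,
    ⟨j₀.ker_toNormalization⟩, ?_⟩
  · rw [hcs, hNS, Scheme.Hom.toNormalization_fromNormalization_assoc, hY₀S, hcomp₀]
  · have hdisc := Groth.Agent.Lib.Helper23.ClPic.discreteTopology_compl_of_dense hdimN U.2 hUd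
    have hcl : IsClosed ((U : Set j₀.normalization)ᶜ) := U.2.isClosed_compl
    rw [← hUr]
    have hfin : ((U : Set j₀.normalization)ᶜ).Finite := by
      have hcpt : IsCompact ((U : Set j₀.normalization)ᶜ) := hcl.isCompact
      haveI : CompactSpace ↥((U : Set j₀.normalization)ᶜ) := isCompact_iff_compactSpace.mp hcpt
      haveI : Finite ↥((U : Set j₀.normalization)ᶜ) := finite_of_compact_of_discrete
      exact Set.toFinite _
    refine ⟨hfin, fun y hy => ⟨?_, ?_⟩⟩
    · have h1 : IsClosed ({⟨y, hy⟩} : Set ↥((U : Set j₀.normalization)ᶜ)) := isClosed_discrete _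
      have h2 := hcl.isClosedEmbedding_subtypeVal.isClosedMap _ h1
      simpa using h2
    · have hyU : y ∉ Set.range j₀.toNormalization.base := hy
      obtain ⟨η, hη, hηy⟩ := Groth.Agent.Lib.Helper23.ClPic.exists_genericPoints_specializes y
      have hηU : η ∈ (U : Set j₀.normalization) :=
        Groth.Agent.Lib.Helper23.ClPic.genericPoints_subset_of_dense U.2 hUd hη
      have hne : η ≠ y := fun h => hy (h ▸ hηU)
      have hd1 : ringKrullDim (j₀.normalization.presheaf.stalk y) = 1 := by
        apply le_antisymm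
        · exact (Groth.Agent.Lib.Helper4.FibDim.ringKrullDim_stalk_le_topologicalKrullDim
            j₀.normalization y).trans hdimN
        · obtain ⟨p, hp⟩ : η ∈ Set.range (j₀.normalization.fromSpecStalk y) := by
            rw [Scheme.range_fromSpecStalk]; exact hηy
          have hpne : p ≠ IsLocalRing.closedPoint (j₀.normalization.presheaf.stalk y) := by
            rintro rfl
            rw [Scheme.fromSpecStalk_closedPoint] at hp
            exact hne hp.symm
          let p' : PrimeSpectrum (j₀.normalization.presheaf.stalk y) := p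
          have hlt : p' < IsLocalRing.closedPoint (j₀.normalization.presheaf.stalk y) := by
            refine lt_of_le_of_ne ?_ hpne
            exact IsLocalRing.le_maximalIdeal p'.2.ne_top
          exact Order.one_le_krullDim_iff.2 ⟨p', _, hlt⟩
      exact Groth.Agent.S9676.result j₀ hNag y hd1 hyU

end Groth.Agent.S1626
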