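import Groth.Statements.S16265
import Mathlib
import Groth.Agent.Lib.Helper27Ell1

set_option autoImplicit false
open FunFld

namespace Groth.Agent.S16265

/-- Let `K/k` be a function field of one variable over an algebraically closed field `k` of
characteristic zero (the function field of a smooth projective curve), `D` a divisor and `V ⊆ L(D)`
a linear system of dimension `r + 1`; write `V(-mP-nQ) = V ∩ L(D - mP - nQ)` for the members
vanishing to the indicated orders. Assume `V` has no special ramification point, i.e. no place of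
weight at least two: for every place `R`, `dim V(-rR) ≤ 1` and `V(-(r+2)R) = 0`. Let `P ≠ Q` be
places and `a, b ≥ 1` with `a + b = r + 1` (so that `V(-aP)` and `V(-bQ)` have dimensions `b` and
`a`). Then the following are equivalent: (1) the system `V(-aP)` has weight at least two at `Q`,
that is `dim V(-aP-(b-1)Q) ≥ 2` or `dim V(-aP-(b+1)Q) ≥ 1`, and the system `V(-bQ)` has weight at
least two at `P`, that is `dim V(-(a-1)P-bQ) ≥ 2` or `dim V(-(a+1)P-bQ) ≥ 1`; (2) one of (a) `dim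
V(-(a+1)P-(b+1)Q) ≥ 1`, (b) `dim V(-(a-1)P-(b-1)Q) ≥ 3`, (c) `dim V(-aP-(b+1)Q) ≥ 1` and `dim
V(-(a-1)P-bQ) ≥ 2`, (d) `dim V(-(a+1)P-bQ) ≥ 1` and `dim V(-aP-(b-1)Q) ≥ 2`. (The published
statement is for a smooth curve over the complex numbers.) -/
theorem result
    (k K : Type*) [Field k] [IsAlgClosed k] [CharZero k] [Field K] [Algebra k K]
    (hK : FunFld.IsFunctionField k K) (D : FunFld.Divisor k K)
    (V : Submodule k K) (hVD : V ≤ FunFld.L D) (r : ℕ) (hr : Module.finrank k ↥V = r + 1)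
    (hns : ∀ R : FunFld.Place k K,
      Module.finrank k ↥(V ⊓ FunFld.L (D - Finsupp.single R (r : ℤ))) ≤ 1 ∧
        V ⊓ FunFld.L (D - Finsupp.single R ((r : ℤ) + 2)) = ⊥)
    (P Q : FunFld.Place k K) (hPQ : P ≠ Q) (a b : ℕ) (ha : 1 ≤ a) (hb : 1 ≤ b) (hab : a + b = r + 1) :
    ((2 ≤ Module.finrank k ↥(V ⊓ FunFld.L (D - Finsupp.single P (a : ℤ) - Finsupp.single Q ((b : ℤ) - 1 : ℤ))) ∨
        1 ≤ Module.finrank k ↥(V ⊓ FunFld.L (D - Finsupp.single P (a : ℤ) - Finsupp.single Q ((b : ℤ) + 1 : ℤ)))) ∧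
      (2 ≤ Module.finrank k ↥(V ⊓ FunFld.L (D - Finsupp.single P ((a : ℤ) - 1 : ℤ) - Finsupp.single Q (b : ℤ))) ∨
        1 ≤ Module.finrank k ↥(V ⊓ FunFld.L (D - Finsupp.single P ((a : ℤ) + 1 : ℤ) - Finsupp.single Q (b : ℤ))))) ↔
    (1 ≤ Module.finrank k ↥(V ⊓ FunFld.L (D - Finsupp.single P ((a : ℤ) + 1 : ℤ) - Finsupp.single Q ((b : ℤ) + 1 : ℤ))) ∨
      3 ≤ Module.finrank k ↥(V ⊓ FunFld.L (D - Finsupp.single P ((a : ℤ) - 1 : ℤ) - Finsupp.single Q ((b : ℤ) - 1 : ℤ))) ∨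
      (1 ≤ Module.finrank k ↥(V ⊓ FunFld.L (D - Finsupp.single P (a : ℤ) - Finsupp.single Q ((b : ℤ) + 1 : ℤ))) ∧
        2 ≤ Module.finrank k ↥(V ⊓ FunFld.L (D - Finsupp.single P ((a : ℤ) - 1 : ℤ) - Finsupp.single Q (b : ℤ)))) ∨
      (1 ≤ Module.finrank k ↥(V ⊓ FunFld.L (D - Finsupp.single P ((a : ℤ) + 1 : ℤ) - Finsupp.single Q (b : ℤ))) ∧
        2 ≤ Module.finrank k ↥(V ⊓ FunFld.L (D - Finsupp.single P (a : ℤ) - Finsupp.single Q ((b : ℤ) - 1 : ℤ))))) := by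
  classical
  have hPd := Groth.Agent.Lib.LeadFF.deg_eq_one_of_algClosed hK P
  have hQd := Groth.Agent.Lib.LeadFF.deg_eq_one_of_algClosed hK Q
  set U : ℤ → ℤ → Submodule k K := fun i j =>
    V ⊓ FunFld.L (D - Finsupp.single P i - Finsupp.single Q j) with hU
  set N : ℤ → ℤ → ℕ := fun i j => Module.finrank k ↥(U i j) with hN
  have hfin : ∀ i j, FiniteDimensional k ↥(U i j) := fun i j =>
    Groth.Agent.Lib.Helper27LinSer.fin_inf hK V _
  -- monotonicity
  have hUP : ∀ i j, U (i + 1) j ≤ U i j := by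
    intro i j
    refine inf_le_inf_left V (Groth.Agent.Lib.LeadFF.L_mono ?_)
    intro R
    simp only [Finsupp.sub_apply]
    by_cases hR : R = P
    · subst hR
      rw [Groth.Agent.Lib.LeadFF.single_apply_self, Groth.Agent.Lib.LeadFF.single_apply_self]
      omega
    · rw [Groth.Agent.Lib.LeadFF.single_apply_ne hR, Groth.Agent.Lib.LeadFF.single_apply_ne hR]
  have hUQ : ∀ i j, U i (j + 1) ≤ U i j := by
    intro i j
    refine inf_le_inf_left V (Groth.Agent.Lib.LeadFF.L_mono ?_)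
    intro R
    simp only [Finsupp.sub_apply]
    by_cases hR : R = Q
    · subst hR
      rw [Groth.Agent.Lib.LeadFF.single_apply_self, Groth.Agent.Lib.LeadFF.single_apply_self]
      omega
    · rw [Groth.Agent.Lib.LeadFF.single_apply_ne hR, Groth.Agent.Lib.LeadFF.single_apply_ne hR]
  have hNP : ∀ i j, N (i + 1) j ≤ N i j := fun i j => Submodule.finrank_mono (hUP i j)
  have hNQ : ∀ i j, N i (j + 1) ≤ N i j := fun i j => Submodule.finrank_mono (hUQ i j)
  -- steps of size at most one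
  have hSP : ∀ i j, N i j ≤ N (i + 1) j + 1 := by
    intro i j
    have h := Groth.Agent.Lib.LeadFF.inter_step_le hK V
      (D - Finsupp.single P i - Finsupp.single Q j) P hPd
    have e : D - Finsupp.single P i - Finsupp.single Q j - Finsupp.single P 1 =
        D - Finsupp.single P (i + 1) - Finsupp.single Q j := by
      rw [Finsupp.single_add]; abel
    rw [e] at h
    exact h
  have hSQ : ∀ i j, N i j ≤ N i (j + 1) + 1 := by
    intro i j
    have h := Groth.Agent.Lib.LeadFF.inter_step_le hK V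
      (D - Finsupp.single P i - Finsupp.single Q j) Q hQd
    have e : D - Finsupp.single P i - Finsupp.single Q j - Finsupp.single Q 1 =
        D - Finsupp.single P i - Finsupp.single Q (j + 1) := by
      rw [Finsupp.single_add]; abel
    rw [e] at h
    exact h
  -- intersections
  have hInt : ∀ i j, U (i + 1) j ⊓ U i (j + 1) = U (i + 1) (j + 1) := by
    intro i j
    simp only [hU]
    rw [← inf_inf_distrib_left, Groth.Agent.Lib.Helper27Ell.L_inf]
    congr 2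
    ext R
    simp only [Finsupp.inf_apply, Finsupp.sub_apply]
    by_cases hRP : R = P
    · subst hRP
      rw [Groth.Agent.Lib.LeadFF.single_apply_self, Groth.Agent.Lib.LeadFF.single_apply_self,
        Groth.Agent.Lib.LeadFF.single_apply_ne hPQ, Groth.Agent.Lib.LeadFF.single_apply_ne hPQ]
      rw [inf_eq_left.mpr (by omega)]
    · by_cases hRQ : R = Q
      · subst hRQ
        rw [Groth.Agent.Lib.LeadFF.single_apply_self, Groth.Agent.Lib.LeadFF.single_apply_self,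
          Groth.Agent.Lib.LeadFF.single_apply_ne hRP, Groth.Agent.Lib.LeadFF.single_apply_ne hRP]
        rw [inf_eq_right.mpr (by omega)]
      · rw [Groth.Agent.Lib.LeadFF.single_apply_ne hRP, Groth.Agent.Lib.LeadFF.single_apply_ne hRP,
          Groth.Agent.Lib.LeadFF.single_apply_ne hRQ, Groth.Agent.Lib.LeadFF.single_apply_ne hRQ]
        simp
  -- rewrite the goal in terms of `N`
  have ea : ((a : ℤ) - 1) + 1 = (a : ℤ) := by ring
  have eb : ((b : ℤ) - 1) + 1 = (b : ℤ) := by ring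
  change ((2 ≤ N (a : ℤ) ((b : ℤ) - 1) ∨ 1 ≤ N (a : ℤ) ((b : ℤ) + 1)) ∧
      (2 ≤ N ((a : ℤ) - 1) (b : ℤ) ∨ 1 ≤ N ((a : ℤ) + 1) (b : ℤ))) ↔
    (1 ≤ N ((a : ℤ) + 1) ((b : ℤ) + 1) ∨ 3 ≤ N ((a : ℤ) - 1) ((b : ℤ) - 1) ∨
      (1 ≤ N (a : ℤ) ((b : ℤ) + 1) ∧ 2 ≤ N ((a : ℤ) - 1) (b : ℤ)) ∨
      (1 ≤ N ((a : ℤ) + 1) (b : ℤ) ∧ 2 ≤ N (a : ℤ) ((b : ℤ) - 1)))
  -- auxiliary instances of the step/monotonicity facts
  have m1 := hNP (a : ℤ) ((b : ℤ) + 1)          -- N(a+1,b+1) ≤ N(a,b+1)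
  have m2 := hNQ ((a : ℤ) + 1) (b : ℤ)          -- N(a+1,b+1) ≤ N(a+1,b)
  have m3 := hSP ((a : ℤ) - 1) ((b : ℤ) - 1)    -- N(a-1,b-1) ≤ N(a,b-1)+1
  have m4 := hSQ ((a : ℤ) - 1) ((b : ℤ) - 1)    -- N(a-1,b-1) ≤ N(a-1,b)+1
  rw [ea] at m3
  rw [eb] at m4
  have m5 := hSQ (a : ℤ) (b : ℤ)                -- N(a,b) ≤ N(a,b+1)+1
  have m6 := hNP ((a : ℤ) - 1) (b : ℤ)          -- N(a,b) ≤ N(a-1,b)
  rw [ea] at m6
  have m7 := hNQ (a : ℤ) ((b : ℤ) - 1)          -- N(a,b) ≤ N(a,b-1)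
  rw [eb] at m7
  constructor
  · rintro ⟨h1 | h1, h2 | h2⟩
    · -- LL
      by_cases h3 : 3 ≤ N ((a : ℤ) - 1) ((b : ℤ) - 1)
      · exact Or.inr (Or.inl h3)
      · -- all three spaces coincide
        have i1 := hUP ((a : ℤ) - 1) ((b : ℤ) - 1)
        have i2 := hUQ ((a : ℤ) - 1) ((b : ℤ) - 1)
        rw [ea] at i1
        rw [eb] at i2
        have hf := hfin ((a : ℤ) - 1) ((b : ℤ) - 1)
        have e1 : U (a : ℤ) ((b : ℤ) - 1) = U ((a : ℤ) - 1) ((b : ℤ) - 1) :=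
          Submodule.eq_of_le_of_finrank_le i1 (by
            show N ((a : ℤ) - 1) ((b : ℤ) - 1) ≤ N (a : ℤ) ((b : ℤ) - 1)
            omega)
        have e2 : U ((a : ℤ) - 1) (b : ℤ) = U ((a : ℤ) - 1) ((b : ℤ) - 1) :=
          Submodule.eq_of_le_of_finrank_le i2 (by
            show N ((a : ℤ) - 1) ((b : ℤ) - 1) ≤ N ((a : ℤ) - 1) (b : ℤ)
            omega)
        have e3 := hInt ((a : ℤ) - 1) ((b : ℤ) - 1)
        rw [ea, eb, e1, e2, inf_idem] at e3
        have e4 : N (a : ℤ) (b : ℤ) = N ((a : ℤ) - 1) ((b : ℤ) - 1) := by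
          show Module.finrank k ↥(U (a : ℤ) (b : ℤ)) = _
          rw [← e3]
        have e5 : N ((a : ℤ) - 1) ((b : ℤ) - 1) = N (a : ℤ) ((b : ℤ) - 1) := by
          show Module.finrank k ↥(U ((a : ℤ) - 1) ((b : ℤ) - 1)) = _
          rw [← e1]
        exact Or.inr (Or.inr (Or.inl ⟨by omega, h2⟩))
    · exact Or.inr (Or.inr (Or.inr ⟨h2, h1⟩))
    · exact Or.inr (Or.inr (Or.inl ⟨h1, h2⟩))
    · -- RR
      by_cases h3 : 2 ≤ N (a : ℤ) (b : ℤ)
      · exact Or.inr (Or.inr (Or.inr ⟨h2, by omega⟩))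
      · have i1 := hUP (a : ℤ) (b : ℤ)
        have i2 := hUQ (a : ℤ) (b : ℤ)
        have hf := hfin (a : ℤ) (b : ℤ)
        have n1 := hNP (a : ℤ) (b : ℤ)
        have n2 := hNQ (a : ℤ) (b : ℤ)
        have e1 : U ((a : ℤ) + 1) (b : ℤ) = U (a : ℤ) (b : ℤ) :=
          Submodule.eq_of_le_of_finrank_le i1 (by
            show N (a : ℤ) (b : ℤ) ≤ N ((a : ℤ) + 1) (b : ℤ)
            omega)
        have e2 : U (a : ℤ) ((b : ℤ) + 1) = U (a : ℤ) (b : ℤ) :=
          Submodule.eq_of_le_of_finrank_le i2 (by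
            show N (a : ℤ) (b : ℤ) ≤ N (a : ℤ) ((b : ℤ) + 1)
            omega)
        have e3 := hInt (a : ℤ) (b : ℤ)
        rw [e1, e2, inf_idem] at e3
        have e4 : N ((a : ℤ) + 1) ((b : ℤ) + 1) = N (a : ℤ) (b : ℤ) := by
          show Module.finrank k ↥(U ((a : ℤ) + 1) ((b : ℤ) + 1)) = _
          rw [← e3]
        have e5 : N (a : ℤ) (b : ℤ) = N ((a : ℤ) + 1) (b : ℤ) := by
          show Module.finrank k ↥(U (a : ℤ) (b : ℤ)) = _
          rw [← e1]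
        exact Or.inl (by omega)
  · rintro (h | h | ⟨h1, h2⟩ | ⟨h1, h2⟩)
    · exact ⟨Or.inr (by omega), Or.inr (by omega)⟩
    · exact ⟨Or.inl (by omega), Or.inl (by omega)⟩
    · exact ⟨Or.inr h1, Or.inl h2⟩
    · exact ⟨Or.inl h2, Or.inr h1⟩

end Groth.Agent.S16265
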