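import Groth.Statements.S16266
import Mathlib
import Groth.Agent.Lib.Helper27Ell1

set_option autoImplicit false
open FunFld

namespace Groth.Agent.S16266

/-- Let `K/k` be a function field of one variable over an algebraically closed field `k` of
characteristic zero, `D` a divisor, `V ⊆ L(D)` a linear system of dimension `r + 1` with `r ≥ 1`,
and `P` a place with `V' = V(-P) = V ∩ L(D - P) ≠ V`, an `r`-dimensional system in `L(D - P)`.
Assume that neither `V` nor `V'` has a special ramification point (a place of weight at least two):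
for every place `R`, `dim V ∩ L(D - rR) ≤ 1`, `V ∩ L(D - (r+2)R) = 0`, `dim V' ∩ L(D - P - (r-1)R) ≤
1` and `V' ∩ L(D - P - (r+1)R) = 0`. Then no place `Q ≠ P` is a ramification point of both `V` and
`V'`: for no such `Q` are both `V ∩ L(D - (r+1)Q)` and `V' ∩ L(D - P - rQ)` nonzero. (The published
statement is for a smooth curve over the complex numbers.) -/
theorem result
    (k K : Type*) [Field k] [IsAlgClosed k] [CharZero k] [Field K] [Algebra k K]
    (hK : FunFld.IsFunctionField k K) (D : FunFld.Divisor k K)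
    (V : Submodule k K) (hVD : V ≤ FunFld.L D) (r : ℕ) (hr : Module.finrank k ↥V = r + 1) (hr1 : 1 ≤ r)
    (P : FunFld.Place k K) (hP : V ⊓ FunFld.L (D - Finsupp.single P 1) ≠ V)
    (hns : ∀ R : FunFld.Place k K,
      Module.finrank k ↥(V ⊓ FunFld.L (D - Finsupp.single R (r : ℤ))) ≤ 1 ∧
        V ⊓ FunFld.L (D - Finsupp.single R ((r : ℤ) + 2)) = ⊥)
    (hns' : ∀ R : FunFld.Place k K,
      Module.finrank k ↥(V ⊓ FunFld.L (D - Finsupp.single P 1 - Finsupp.single R ((r : ℤ) - 1))) ≤ 1 ∧
        V ⊓ FunFld.L (D - Finsupp.single P 1 - Finsupp.single R ((r : ℤ) + 1)) = ⊥)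
    (Q : FunFld.Place k K) (hQP : Q ≠ P) :
    ¬ (V ⊓ FunFld.L (D - Finsupp.single Q ((r : ℤ) + 1)) ≠ ⊥ ∧
       V ⊓ FunFld.L (D - Finsupp.single P 1 - Finsupp.single Q (r : ℤ)) ≠ ⊥) := by
  classical
  rintro ⟨h1, h2⟩
  obtain ⟨hW, -⟩ := hns Q
  obtain ⟨-, hZ⟩ := hns' Q
  set U1 := V ⊓ FunFld.L (D - Finsupp.single Q ((r : ℤ) + 1)) with hU1
  set U2 := V ⊓ FunFld.L (D - Finsupp.single P 1 - Finsupp.single Q (r : ℤ)) with hU2
  set W := V ⊓ FunFld.L (D - Finsupp.single Q (r : ℤ)) with hWdef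
  have hWfin : FiniteDimensional k ↥W := Groth.Agent.Lib.Helper27LinSer.fin_inf hK V _
  have hU1fin : FiniteDimensional k ↥U1 := Groth.Agent.Lib.Helper27LinSer.fin_inf hK V _
  have hU2fin : FiniteDimensional k ↥U2 := Groth.Agent.Lib.Helper27LinSer.fin_inf hK V _
  have le1 : U1 ≤ W := by
    refine inf_le_inf_left V (Groth.Agent.Lib.LeadFF.L_mono ?_)
    intro R
    simp only [Finsupp.sub_apply]
    by_cases hR : R = Q
    · subst hR
      rw [Groth.Agent.Lib.LeadFF.single_apply_self, Groth.Agent.Lib.LeadFF.single_apply_self]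
      omega
    · rw [Groth.Agent.Lib.LeadFF.single_apply_ne hR, Groth.Agent.Lib.LeadFF.single_apply_ne hR]
  have le2 : U2 ≤ W := by
    refine inf_le_inf_left V (Groth.Agent.Lib.LeadFF.L_mono ?_)
    intro R
    simp only [Finsupp.sub_apply]
    by_cases hR : R = P
    · subst hR
      rw [Groth.Agent.Lib.LeadFF.single_apply_self]
      omega
    · rw [Groth.Agent.Lib.LeadFF.single_apply_ne hR]
      omega
  have p1 : 1 ≤ Module.finrank k ↥U1 := by
    rw [Nat.succ_le_iff, Nat.pos_iff_ne_zero]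
    intro h0
    exact h1 (Submodule.finrank_eq_zero.mp h0)
  have p2 : 1 ≤ Module.finrank k ↥U2 := by
    rw [Nat.succ_le_iff, Nat.pos_iff_ne_zero]
    intro h0
    exact h2 (Submodule.finrank_eq_zero.mp h0)
  have e1 : U1 = W := Submodule.eq_of_le_of_finrank_le le1 (by omega)
  have e2 : U2 = W := Submodule.eq_of_le_of_finrank_le le2 (by omega)
  have e3 : U1 ⊓ U2 = V ⊓ FunFld.L (D - Finsupp.single P 1 - Finsupp.single Q ((r : ℤ) + 1)) := by
    rw [hU1, hU2, ← inf_inf_distrib_left, Groth.Agent.Lib.Helper27Ell.L_inf]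
    congr 2
    ext R
    simp only [Finsupp.inf_apply, Finsupp.sub_apply]
    by_cases hRP : R = P
    · subst hRP
      rw [Groth.Agent.Lib.LeadFF.single_apply_self, Groth.Agent.Lib.LeadFF.single_apply_ne hQP.symm,
        Groth.Agent.Lib.LeadFF.single_apply_ne hQP.symm]
      rw [inf_eq_right.mpr (by omega)]
    · by_cases hRQ : R = Q
      · subst hRQ
        rw [Groth.Agent.Lib.LeadFF.single_apply_self, Groth.Agent.Lib.LeadFF.single_apply_self,
          Groth.Agent.Lib.LeadFF.single_apply_ne hRP]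
        rw [inf_eq_left.mpr (by omega)]
        omega
      · rw [Groth.Agent.Lib.LeadFF.single_apply_ne hRP, Groth.Agent.Lib.LeadFF.single_apply_ne hRQ,
          Groth.Agent.Lib.LeadFF.single_apply_ne hRQ]
        simp
  rw [hZ, e1, e2, inf_idem] at e3
  rw [e3] at e1
  exact h1 e1

end Groth.Agent.S16266
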