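import Groth.Statements.S16268
import Mathlib

set_option autoImplicit false
universe u w
open CategoryTheory CategoryTheory.Limits AlgebraicGeometry Opposite
open EtCore

namespace Groth.Agent.S16268

/-- Let X be a scheme, Y an etale X-scheme with Y -> X surjective, and G a finite group acting on Y by
X-automorphisms such that the morphisms (id, g) : Y -> Y x_X Y exhibit Y x_X Y as the coproduct of
copies of Y indexed by G (Y -> X is a Galois covering with group G). Let P be a presheaf of sets on
the small etale site of X which takes this coproduct to a product: s |-> (g |-> (id, g)^* s) is a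
bijection from P(Y x_X Y) onto the G-indexed families in P(Y). Then P satisfies the sheaf condition
for the covering consisting of the single morphism Y -> X if and only if the restriction P(X) ->
P(Y) is injective and its image is the set of G-invariant elements of P(Y). -/
theorem result (X : Scheme.{u})
    (Y : X.Etale) (hY : Function.Surjective Y.hom.base)
    {G : Type u} [Group G] [Finite G] (σ : G →* Aut Y)
    (hgal : Nonempty (IsColimit (Cofan.mk (Y ⨯ Y) (fun g : G => prod.lift (𝟙 Y) (σ g).hom))))
    (P : X.Etaleᵒᵖ ⥤ Type w)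
    (hP : Function.Bijective (fun s : P.obj (op (Y ⨯ Y)) => fun g : G => P.map (prod.lift (𝟙 Y) (σ g).hom).op s)) :
    Presieve.IsSheafFor P (Presieve.singleton ((EtCore.topIsTerminal X).from Y)) ↔
      (Function.Injective (P.map ((EtCore.topIsTerminal X).from Y).op) ∧
        Set.range (P.map ((EtCore.topIsTerminal X).from Y).op) = {s | ∀ g : G, P.map (σ g).hom.op s = s}) := by
  have _h1 := hY
  have _h2 := hgal
  set f := (EtCore.topIsTerminal X).from Y with hf
  have hterm : ∀ {Z : X.Etale} (a b : Z ⟶ EtCoh.top X), a = b :=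
    fun a b => (EtCore.topIsTerminal X).hom_ext a b
  have hmap : ∀ {A B D : X.Etale} (a : A ⟶ B) (b : B ⟶ D) (x : P.obj (op D)),
      P.map a.op (P.map b.op x) = P.map (a ≫ b).op x := by
    intro A B D a b x
    rw [op_comp, Functor.map_comp]
    rfl
  -- invariance is the same as compatibility
  have key : ∀ x : P.obj (op Y),
      (∀ {Z : X.Etale} (p₁ p₂ : Z ⟶ Y), p₁ ≫ f = p₂ ≫ f → P.map p₁.op x = P.map p₂.op x) ↔
        ∀ g : G, P.map (σ g).hom.op x = x := by
    intro x
    constructor
    · intro h g
      have := h (σ g).hom (𝟙 Y) (hterm _ _)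
      simpa using this
    · intro h Z p₁ p₂ _
      have h12 : P.map (prod.fst : Y ⨯ Y ⟶ Y).op x = P.map (prod.snd : Y ⨯ Y ⟶ Y).op x := by
        apply hP.1
        funext g
        simp only
        rw [hmap, hmap, prod.lift_fst, prod.lift_snd, h g]
        simp
      have e1 : p₁ = prod.lift p₁ p₂ ≫ prod.fst := (prod.lift_fst p₁ p₂).symm
      have e2 : p₂ = prod.lift p₁ p₂ ≫ prod.snd := (prod.lift_snd p₁ p₂).symm
      rw [e1, ← hmap, h12, hmap, ← e2]
  rw [Presieve.isSheafFor_singleton]
  constructor
  · intro h
    refine ⟨?_, ?_⟩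
    · intro t t' htt
      have hc : ∀ {Z : X.Etale} (p₁ p₂ : Z ⟶ Y), p₁ ≫ f = p₂ ≫ f →
          P.map p₁.op (P.map f.op t) = P.map p₂.op (P.map f.op t) := by
        intro Z p₁ p₂ h12
        rw [hmap, hmap, h12]
      obtain ⟨y, _, hy⟩ := h (P.map f.op t) hc
      rw [hy t rfl, hy t' htt.symm]
    · ext x
      simp only [Set.mem_range, Set.mem_ofPred_eq]
      constructor
      · rintro ⟨t, rfl⟩ g
        rw [hmap, hterm ((σ g).hom ≫ f) f]
      · intro hx
        obtain ⟨y, hy, _⟩ := h x ((key x).2 hx)
        exact ⟨y, hy⟩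
  · rintro ⟨hinj, hrange⟩ x hx
    have hx' : x ∈ Set.range (P.map f.op) := by
      rw [hrange]
      exact (key x).1 hx
    obtain ⟨y, hy⟩ := hx'
    exact ⟨y, hy, fun y' hy' => hinj (hy'.trans hy.symm)⟩

end Groth.Agent.S16268
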