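import Groth.Statements.S16269
import Mathlib
import Groth.Agent.Lib.Helper24GalCov
import Groth.Agent.S16268

set_option autoImplicit false
universe u w
open CategoryTheory CategoryTheory.Limits AlgebraicGeometry Opposite
open EtCore

namespace Groth.Agent.S16269

/-- Let X be a scheme, Y an etale X-scheme with Y -> X surjective, and G a finite group acting on Y by
X-automorphisms such that the morphisms (id, g) : Y -> Y x_X Y exhibit Y x_X Y as the coproduct of
copies of Y indexed by G (a Galois covering with group G). For an abelian sheaf F on the small etale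
site of X, the restriction map F(X) -> F(Y) is injective and its image is the set of sections of F
over Y fixed by every element of G. -/
theorem result (X : Scheme.{u})
    (Y : X.Etale) (hY : Function.Surjective Y.hom.base)
    {G : Type u} [Group G] [Finite G] (σ : G →* Aut Y)
    (hgal : Nonempty (IsColimit (Cofan.mk (Y ⨯ Y) (fun g : G => prod.lift (𝟙 Y) (σ g).hom))))
    (F : EtCoh.Ab X) :
    Function.Injective (F.obj.map ((EtCore.topIsTerminal X).from Y).op) ∧
      Set.range (F.obj.map ((EtCore.topIsTerminal X).from Y).op) =
        {s : EtCoh.sect F Y | ∀ g : G, F.obj.map (σ g).hom.op s = s} := by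
  let P : X.Etaleᵒᵖ ⥤ Type (u + 1) := F.obj ⋙ forget AddCommGrpCat
  have hPsh : Presieve.IsSheaf X.smallEtaleTopology P :=
    (isSheaf_iff_isSheaf_of_type _ _).1
      ((Presheaf.isSheaf_iff_isSheaf_forget _ _ (forget AddCommGrpCat)).1 F.cond)
  obtain ⟨hc⟩ := hgal
  have hP := Groth.Agent.Lib.Helper24GalCov.bijective_of_isColimit P hPsh (fun _ : G => Y)
    (fun g => prod.lift (𝟙 Y) (σ g).hom) hc
    (fun g => mono_of_mono_fac (prod.lift_fst (𝟙 Y) (σ g).hom))
  have := (Groth.Agent.S16268.result X Y hY σ ⟨hc⟩ P hP).1
    (Groth.Agent.Lib.Helper24GalCov.isSheafFor_singleton P hPsh Y hY)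
  exact this

end Groth.Agent.S16269
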