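import Groth.Statements.S1627
import Mathlib
import Groth.Agent.S1667
import Groth.Agent.Lib.Helper6Reduced
import Groth.Agent.Lib.Helper23UCAffine
import Groth.Agent.Lib.Helper27ProjSpaceFibres
import Groth.Agent.Lib.Helper4VarDim2
import Groth.Agent.Lib.Helper6CurveDeg
import Groth.Agent.Lib.Helper4CurveAsym
import Groth.Agent.Lib.Helper23OpenPic
import Groth.Agent.Lib.Helper23ClPic3
import Groth.Agent.Lib.Helper4FibDimL

set_option autoImplicit false
universe u
open CategoryTheory CategoryTheory.Limits AlgebraicGeometry
open Variety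

namespace Groth.Agent.S1627


/-- A curve X over k (integral, separated, of finite type, of dimension one) is either affine or
H-projective, i.e. admits a closed immersion into some P^d_k over k. -/
theorem result (k : Type u) [Field k] (X : Scheme.{u}) [X.Over (Spec (CommRingCat.of k))] [IsIntegral X] [IsSeparated (X ↘ (Spec (CommRingCat.of k)))] [LocallyOfFiniteType (X ↘ (Spec (CommRingCat.of k)))] [QuasiCompact (X ↘ (Spec (CommRingCat.of k)))] (hdim : topologicalKrullDim X = 1) :
    IsAffine X ∨ ∃ (d : ℕ) (c : X ⟶ CohB1.ProjSpace d k), IsClosedImmersion c ∧ c ≫ CohB1.ProjSpace.toSpec d k = X ↘ (Spec (CommRingCat.of k)) := by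
  classical
  obtain ⟨n, i, hi, hif⟩ := Groth.Agent.S1667.result k X hdim.le
  haveI := hi
  obtain ⟨W, j, c, hj, hc, hWred, hrange, hjc⟩ :=
    Groth.Agent.Lib.Helper6.exists_factor_openImmersion_closedImmersion_of_isReduced i
  haveI := hj
  haveI := hc
  haveI := hWred
  letI : W.Over (Spec (CommRingCat.of k)) := ⟨c ≫ CohB1.ProjSpace.toSpec n k⟩
  have hWS : W ↘ Spec (CommRingCat.of k) = c ≫ CohB1.ProjSpace.toSpec n k := rfl
  haveI : IsProper (CohB1.ProjSpace.toSpec n k) :=
    Groth.Agent.Lib.Helper27ProjSpaceFibres.isProper_projSpace_toSpec n k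
  haveI : IsProper (W ↘ Spec (CommRingCat.of k)) := by rw [hWS]; infer_instance
  -- `j` has dense range
  have hjd : DenseRange j := by
    have h1 : Set.range c = closure (c '' Set.range j) := by
      rw [hrange, ← hjc, Scheme.Hom.comp_base, TopCat.coe_comp, Set.range_comp]
    have h2 : c '' closure (Set.range j) = closure (c '' Set.range j) :=
      (c.isClosedEmbedding.closure_image_eq _).symm
    rw [← h2, ← Set.image_univ] at h1
    have h3 := c.isClosedEmbedding.injective.image_injective h1
    exact dense_iff_closure_eq.2 h3.symm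
  haveI : IrreducibleSpace W := by
    haveI : IrreducibleSpace X := inferInstance
    have h1 : IsIrreducible (Set.range j) := by
      rw [← Set.image_univ]
      exact (IrreducibleSpace.isIrreducible_univ X).image j j.continuous.continuousOn
    have h2 := h1.closure
    rw [hjd.closure_range] at h2
    obtain ⟨x, -⟩ := h2.1
    exact { isPreirreducible_univ := h2.2, toNonempty := ⟨x⟩ }
  haveI : IsIntegral W := isIntegral_of_irreducibleSpace_of_isReduced W
  by_cases hU : j.opensRange = ⊤
  · right
    haveI : IsIso j := isIso_of_isOpenImmersion_of_opensRange_eq_top j hU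
    refine ⟨n, i, ?_, hif⟩
    rw [← hjc]
    infer_instance
  · left
    set U : W.Opens := j.opensRange with hUdef
    haveI : IsLocallyNoetherian W :=
      LocallyOfFiniteType.isLocallyNoetherian (W ↘ Spec (CommRingCat.of k))
    haveI : CompactSpace W :=
      QuasiCompact.compactSpace_of_compactSpace (W ↘ Spec (CommRingCat.of k))
    haveI : IsNoetherian W := { }
    have hUne : (U : Set W).Nonempty := by
      obtain ⟨x⟩ := (inferInstance : Nonempty X)
      exact ⟨j x, ⟨x, rfl⟩⟩
    have hdimW : topologicalKrullDim W = 1 := by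
      rw [← Groth.Agent.Lib.Helper4.VarDim.topologicalKrullDim_opens_eq_of_irreducible k W U hUne,
        ← hdim]
      exact (IsHomeomorph.topologicalKrullDim_eq _
        (Scheme.homeoOfIso j.isoOpensRange).isHomeomorph).symm
    have hUd : Dense (U : Set W) := hjd
    have hdisc := Groth.Agent.Lib.Helper23.ClPic.discreteTopology_compl_of_dense hdimW.le U.2 hUd
    obtain ⟨L, s, hL, hLs⟩ := Groth.Agent.Lib.Helper23.OpenPic.exists_invertible_section W U hdisc
      (fun x _ => ⟨inferInstance,
        (Groth.Agent.Lib.Helper4.FibDim.ringKrullDim_stalk_le_topologicalKrullDim W x).trans hdimW.le⟩)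
    obtain ⟨x, hx⟩ : ∃ x, x ∉ U := by
      by_contra h
      push Not at h
      exact hU (eq_top_iff.2 fun x _ => h x)
    have hs : s ≠ 0 := by
      rintro rfl
      obtain ⟨p, hp⟩ := hUne
      rw [← hLs] at hp
      obtain ⟨V, hpV, hV⟩ := (Groth.Agent.Lib.Helper23.GenLocus.mem_genLocus_iff L 0 p).1 hp
      have hiso : IsIso ((0 : Coh.structureModule W ⟶ L).app V) := hV V le_rfl
      have hbij := ConcreteCategory.bijective_of_isIso ((0 : Coh.structureModule W ⟶ L).app V)
      have h10 : Groth.Agent.Lib.Helper23.GenLocus.toS V (1 : Γ(W, V)) =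
          Groth.Agent.Lib.Helper23.GenLocus.toS V 0 := hbij.1 rfl
      have h10' : (1 : Γ(W, V)) = 0 := h10
      have h2 := congrArg (W.presheaf.germ V p hpV).hom h10'
      rw [map_one, map_zero] at h2
      exact one_ne_zero h2
    have hdeg := Groth.Agent.Lib.Helper6.CurveDeg.deg_pos k W hdimW L hL s hs x
      (by rw [hLs]; exact hx)
    have hA := Groth.Agent.Lib.Helper4.CurveAsym.isAmple_of_deg_pos k W hdimW L hL hdeg
    have haff := Groth.Agent.Lib.Helper23.UCAffine.isAffineOpen_genLocus_of_universallyClosed
      (W ↘ Spec (CommRingCat.of k)) L hA s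
    rw [hLs] at haff
    haveI : IsAffine U.toScheme := haff
    exact .of_isIso j.isoOpensRange.hom

end Groth.Agent.S1627
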