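import Groth.Statements.S16272
import Mathlib

set_option autoImplicit false
universe w' w v u
open CategoryTheory
open NonAbH1

namespace Groth.Agent.S16272

/-- The class map is well defined: let C be a category with a Grothendieck topology J, G a sheaf of
groups and U a family of objects. A G-torsor P with a section over every U_i has exactly one Cech
class on U: choosing sections s_i of P over the U_i cuts out a 1-cocycle of G on U, and its class in
the Cech cohomology set H^1(U, G) does not depend on the choice. (The published statement is for an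
etale covering of a scheme; this row is stated for any family of objects of any site.) -/
theorem result {C : Type u} [Category.{v} C]
    {J : GrothendieckTopology C} {G : Sheaf J GrpCat.{w}} (P : NonAbH1.Torsor G)
    {I : Type w'} (U : I → C) (hP : P.TrivialisedBy U) :
    ∃! c : PresheafOfGroups.H1 G.obj U, P.HasCechClass U c := by
  classical
  have hpt := P.isTorsor.1
  -- freeness of the action
  have hfree : ∀ (V : Cᵒᵖ) (g g' : G.obj.obj V) (x : P.P.obj.obj V),
      P.smul g x = P.smul g' x → g = g' := by
    intro V g g' x h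
    obtain ⟨g₀, _, hg₀⟩ := hpt V x (P.smul g' x)
    rw [hg₀ g h, hg₀ g' rfl]
  -- functoriality of restriction on `P`
  have hcomp : ∀ {T T' V : C} (φ : T ⟶ T') (a : T' ⟶ V) (x : P.P.obj.obj (Opposite.op V)),
      P.P.obj.map φ.op (P.P.obj.map a.op x) = P.P.obj.map (φ ≫ a).op x := by
    intro T T' V φ a x
    rw [op_comp, Functor.map_comp]
    rfl
  -- existence
  have key : ∀ (s : ∀ i, P.P.obj.obj (Opposite.op (U i))),
      ∃ γ : PresheafOfGroups.OneCocycle G.obj U, P.IsCocycleOf U s γ := by
    intro s
    have hex : ∀ (i j : I) ⦃T : C⦄ (a : T ⟶ U i) (b : T ⟶ U j),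
        ∃ g : G.obj.obj (Opposite.op T),
          P.smul g (P.P.obj.map b.op (s j)) = P.P.obj.map a.op (s i) :=
      fun i j T a b => (hpt (Opposite.op T) _ _).exists
    refine ⟨{ ev := fun i j T a b => (hex i j a b).choose
              ev_precomp := ?_
              ev_trans := ?_ }, ?_⟩
    · intro i j T T' φ a b
      apply hfree _ _ _ (P.P.obj.map (φ ≫ b).op (s j))
      rw [(hex i j (φ ≫ a) (φ ≫ b)).choose_spec]
      rw [← hcomp φ b, ← P.map_smul, (hex i j a b).choose_spec, hcomp]
    · intro i j k T a b c
      apply hfree _ _ _ (P.P.obj.map c.op (s k))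
      rw [P.mul_smul, (hex j k b c).choose_spec, (hex i j a b).choose_spec,
        (hex i k a c).choose_spec]
    · intro i j T a b
      exact (hex i j a b).choose_spec
  have s : ∀ i, P.P.obj.obj (Opposite.op (U i)) := fun i => (hP i).some
  obtain ⟨γ, hγ⟩ := key s
  refine ⟨γ.class, ⟨s, γ, hγ, rfl⟩, ?_⟩
  rintro c ⟨s', γ', hγ', rfl⟩
  -- the two cocycles are cohomologous
  rw [PresheafOfGroups.OneCocycle.class_eq_iff]
  have hα : ∀ i, ∃ g : G.obj.obj (Opposite.op (U i)), P.smul g (s' i) = s i :=
    fun i => (hpt _ _ _).exists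
  choose α hα using hα
  refine ⟨α, ?_⟩
  intro i j T a b
  apply hfree _ _ _ (P.P.obj.map b.op (s' j))
  rw [P.mul_smul, P.mul_smul, hγ' i j a b, ← P.map_smul, ← P.map_smul, hα, hα, hγ i j a b]

end Groth.Agent.S16272
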