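import Groth.Statements.S16289
import Groth.Agent.Lib.Helper21SheafHomLES

set_option autoImplicit false
universe u
open CategoryTheory CategoryTheory.Limits AlgebraicGeometry
open Coherent

namespace Groth.Agent.S16289

open Groth.Agent.Lib.Helper21.SheafHomLES Groth.Agent.Lib.Helper21.DerLES2
  Groth.Agent.Lib.Helper21.GammaZ

/-- the pushforward, typed on `ModSite.Mod`. -/
noncomputable abbrev pf {X Y : Scheme.{u}} (f : X ⟶ Y) : ModSite.Mod X.sheaf ⥤ Y.Modules :=
  Scheme.Modules.pushforward f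

/-- the pullback, typed on `ModSite.Mod`. -/
noncomputable abbrev pb {X Y : Scheme.{u}} (f : X ⟶ Y) : Y.Modules ⥤ ModSite.Mod X.sheaf :=
  Scheme.Modules.pullback f

noncomputable def pbpfAdj {X Y : Scheme.{u}} (f : X ⟶ Y) : pb f ⊣ pf f :=
  Scheme.Modules.pullbackPushforwardAdjunction f

theorem pf_preservesFiniteLimits {X Y : Scheme.{u}} (f : X ⟶ Y) :
    PreservesFiniteLimits (pf f) := by
  haveI : PreservesLimitsOfSize.{0, 0} (pf f) := (pbpfAdj f).rightAdjoint_preservesLimits
  exact PreservesLimitsOfSize.preservesFiniteLimits.{0, 0} _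

theorem sheafHom_preservesFiniteLimits {X : Scheme.{u}} (M : ModSite.Mod X.sheaf)
    [ModSite.HasSheafHom (O := X.sheaf) M] :
    PreservesFiniteLimits (ModSite.sheafHom (O := X.sheaf) M) := by
  haveI : PreservesLimitsOfSize.{0, 0} (ModSite.sheafHom (O := X.sheaf) M) :=
    (ModSite.sheafHomAdj (O := X.sheaf) M).rightAdjoint_preservesLimits
  exact PreservesLimitsOfSize.preservesFiniteLimits.{0, 0} _

theorem epi_pf_map {X Y : Scheme.{u}} (f : X ⟶ Y) {M N : ModSite.Mod X.sheaf} (φ : M ⟶ N)
    (h : ∀ V : X.Opens, Function.Surjective (φ.val.app (Opposite.op V)).hom) :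
    Epi ((pf f).map φ) := by
  apply epi_of_surjective_app (R := Y.ringCatSheaf)
  intro W
  exact h (f ⁻¹ᵁ W.unop)

theorem map_comp_eq_zero {C D : Type*} [Category C] [Category D] [Limits.HasZeroMorphisms C]
    [Limits.HasZeroMorphisms D] (F : C ⥤ D) [F.PreservesZeroMorphisms] {A B E : C} (a : A ⟶ B)
    (b : B ⟶ E) (h : a ≫ b = 0) : F.map a ≫ F.map b = 0 := by
  rw [← Functor.map_comp, h, Functor.map_zero]

theorem main {X Y : Scheme.{u}} (f : X ⟶ Y) (S : ShortComplex (ModSite.Mod X.sheaf))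
    (hS : S.ShortExact) (G : ModSite.Mod X.sheaf)
    [ModSite.HasSheafHom (O := X.sheaf) S.X₁] [ModSite.HasSheafHom (O := X.sheaf) S.X₂]
    [ModSite.HasSheafHom (O := X.sheaf) S.X₃]
    [HasInjectiveResolutions (ModSite.Mod X.sheaf)]
    [(ModSite.sheafHom (O := X.sheaf) S.X₁ ⋙ pf f).Additive]
    [(ModSite.sheafHom (O := X.sheaf) S.X₂ ⋙ pf f).Additive]
    [(ModSite.sheafHom (O := X.sheaf) S.X₃ ⋙ pf f).Additive] :
    Mono ((NatTrans.rightDerived (Functor.whiskerRight (ExtSupp.sheafHomMap (O := X.sheaf) S.g) (pf f)) 0).app G) ∧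
    (∀ p : ℕ, ∃ w : (NatTrans.rightDerived (Functor.whiskerRight (ExtSupp.sheafHomMap (O := X.sheaf) S.g) (pf f)) p).app G ≫ (NatTrans.rightDerived (Functor.whiskerRight (ExtSupp.sheafHomMap (O := X.sheaf) S.f) (pf f)) p).app G = 0,
      (ShortComplex.mk _ _ w).Exact) ∧
    ∃ δ : ∀ p : ℕ, ((ModSite.sheafHom (O := X.sheaf) S.X₁ ⋙ pf f).rightDerived p).obj G ⟶ ((ModSite.sheafHom (O := X.sheaf) S.X₃ ⋙ pf f).rightDerived (p + 1)).obj G,
      ∀ p : ℕ,
        (∃ w : (NatTrans.rightDerived (Functor.whiskerRight (ExtSupp.sheafHomMap (O := X.sheaf) S.f) (pf f)) p).app G ≫ δ p = 0, (ShortComplex.mk _ _ w).Exact) ∧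
        (∃ w : δ p ≫ (NatTrans.rightDerived (Functor.whiskerRight (ExtSupp.sheafHomMap (O := X.sheaf) S.g) (pf f)) (p + 1)).app G = 0, (ShortComplex.mk _ _ w).Exact) := by
  haveI := pf_preservesFiniteLimits f
  haveI := sheafHom_preservesFiniteLimits S.X₃
  haveI := sheafHom_preservesFiniteLimits S.X₂
  haveI : (pf f).PreservesZeroMorphisms := by
    haveI : (pf f).IsRightAdjoint := (pbpfAdj f).isRightAdjoint
    exact Functor.preservesZeroMorphisms_of_isRightAdjoint (pf f)
  let α := Functor.whiskerRight (ExtSupp.sheafHomMap (O := X.sheaf) S.g) (pf f)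
  let β := Functor.whiskerRight (ExtSupp.sheafHomMap (O := X.sheaf) S.f) (pf f)
  have w : α ≫ β = 0 := by
    ext Q : 2
    exact map_comp_eq_zero (pf f) _ _ (sheafHomMap_comp (O := X.sheaf) S Q)
  have hmono : ∀ Q : ModSite.Mod X.sheaf, Mono (α.app Q) := by
    intro Q
    haveI := mono_sheafHomMap_g (O := X.sheaf) S hS Q
    change Mono ((pf f).map ((ExtSupp.sheafHomMap (O := X.sheaf) S.g).app Q))
    infer_instance
  have hex : ∀ Q : ModSite.Mod X.sheaf, Injective Q → (ShortComplex.mk (α.app Q) (β.app Q) (by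
      rw [← NatTrans.comp_app, w]; rfl)).ShortExact := by
    intro Q hQ
    haveI := mono_sheafHomMap_g (O := X.sheaf) S hS Q
    refine ShortComplex.ShortExact.mk' ?_ (hmono Q) ?_
    · exact (sheafHomMap_exact (O := X.sheaf) S hS Q).map_of_mono_of_preservesKernel
        (pf f) inferInstance inferInstance
    · exact epi_pf_map f _ (fun V => sheafHomMap_f_surjective (O := X.sheaf) S hS Q V)
  exact les α β w hex G (hmono G)

/-- For relative Ext sheaves in the first variable; let f : X → Y be a morphism of schemes, 0 → F' → F →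
F'' → 0 a short exact sequence of O_X-modules (S below, with S.X₁ = F', S.X₂ = F, S.X₃ = F'') and G
an O_X-module. For an O_X-module M write Ext^p_f(M, -) for the p-th right derived functor of the
left exact functor G ↦ f_* Hom_{O_X}(M, G), and for u : M' → M write u^* : Ext^p_f(M, G) →
Ext^p_f(M', G) for the map induced (right derived natural transformation) by Hom(M, -) → Hom(M', -).
Then Ext^0_f(F'', G) → Ext^0_f(F, G) is a monomorphism, for every p the pair Ext^p_f(F'', G) →
Ext^p_f(F, G) → Ext^p_f(F', G) composes to zero and is exact, and there are connecting morphisms δ_p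
: Ext^p_f(F', G) → Ext^{p+1}_f(F'', G) making Ext^p_f(F, G) → Ext^p_f(F', G) → Ext^{p+1}_f(F'', G)
and Ext^p_f(F', G) → Ext^{p+1}_f(F'', G) → Ext^{p+1}_f(F, G) compose to zero and exact. (Stated for
schemes, the published statement being for ringed spaces; the connecting maps are asserted to exist
only. The internal Hom functors, injective resolutions and additivity of the composite functors are
the stated instance hypotheses, all true.) -/
theorem result (X Y : Scheme.{u}) (f : X ⟶ Y) (S : ShortComplex X.Modules) (hS : S.ShortExact)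
    (G : X.Modules)
    [ModSite.HasSheafHom (O := X.sheaf) S.X₁] [ModSite.HasSheafHom (O := X.sheaf) S.X₂] [ModSite.HasSheafHom (O := X.sheaf) S.X₃]
    [HasInjectiveResolutions (ModSite.Mod X.sheaf)]
    [(ModSite.sheafHom (O := X.sheaf) S.X₁ ⋙ Scheme.Modules.pushforward f).Additive]
    [(ModSite.sheafHom (O := X.sheaf) S.X₂ ⋙ Scheme.Modules.pushforward f).Additive]
    [(ModSite.sheafHom (O := X.sheaf) S.X₃ ⋙ Scheme.Modules.pushforward f).Additive] :
    Mono ((NatTrans.rightDerived (Functor.whiskerRight (ExtSupp.sheafHomMap (O := X.sheaf) S.g) (Scheme.Modules.pushforward f)) 0).app G) ∧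
    (∀ p : ℕ, ∃ w : (NatTrans.rightDerived (Functor.whiskerRight (ExtSupp.sheafHomMap (O := X.sheaf) S.g) (Scheme.Modules.pushforward f)) p).app G ≫ (NatTrans.rightDerived (Functor.whiskerRight (ExtSupp.sheafHomMap (O := X.sheaf) S.f) (Scheme.Modules.pushforward f)) p).app G = 0,
      (ShortComplex.mk _ _ w).Exact) ∧
    ∃ δ : ∀ p : ℕ, ((ModSite.sheafHom (O := X.sheaf) S.X₁ ⋙ Scheme.Modules.pushforward f).rightDerived p).obj G ⟶ ((ModSite.sheafHom (O := X.sheaf) S.X₃ ⋙ Scheme.Modules.pushforward f).rightDerived (p + 1)).obj G,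
      ∀ p : ℕ,
        (∃ w : (NatTrans.rightDerived (Functor.whiskerRight (ExtSupp.sheafHomMap (O := X.sheaf) S.f) (Scheme.Modules.pushforward f)) p).app G ≫ δ p = 0, (ShortComplex.mk _ _ w).Exact) ∧
        (∃ w : δ p ≫ (NatTrans.rightDerived (Functor.whiskerRight (ExtSupp.sheafHomMap (O := X.sheaf) S.g) (Scheme.Modules.pushforward f)) (p + 1)).app G = 0, (ShortComplex.mk _ _ w).Exact) := by
  exact main f S hS G

end Groth.Agent.S16289
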