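import Groth.Statements.S1629
import Mathlib
import Groth.Agent.Lib.Helper6BcRed5
import Groth.Agent.Lib.Helper6PInsep2
import Groth.Agent.Lib.Helper6Reduced
import Groth.Agent.Lib.Helper16PInsepLen
import Groth.Agent.Lib.Helper6SepClosedPts
-- import your own Groth.Agent.* helpers here

set_option autoImplicit false
set_option linter.style.haveILetI false
set_option linter.unusedSectionVars false
universe u
open CategoryTheory CategoryTheory.Limits AlgebraicGeometry
open Variety

namespace Groth.Agent.S1629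

open TensorProduct
open Groth.Agent.Lib.Helper6.PInsep

/-- persistence of the radical condition under enlarging the finite level. -/
theorem isRadical_mono (k K : Type u) [Field k] [Field K] [Algebra k K]
    {E₁ E₂ : IntermediateField k (AlgebraicClosure k)} (h : E₁ ≤ E₂)
    (h1 : ((nilradical (E₁ ⊗[k] K)).map (jE k K E₁)).IsRadical) :
    ((nilradical (E₂ ⊗[k] K)).map (jE k K E₂)).IsRadical := by
  have hle : (nilradical (E₂ ⊗[k] K)).map (jE k K E₂) ≤
      nilradical (AlgebraicClosure k ⊗[k] K) := map_nilradical_le k K E₂ _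
  have hge : nilradical (AlgebraicClosure k ⊗[k] K) ≤
      (nilradical (E₂ ⊗[k] K)).map (jE k K E₂) := by
    intro x hx
    obtain ⟨n, hn⟩ := mem_nilradical.mp hx
    have hx1 : x ∈ (nilradical (E₁ ⊗[k] K)).map (jE k K E₁) := h1 ⟨n, hn ▸ zero_mem _⟩
    have hmm : (nilradical (E₁ ⊗[k] K)).map (jE k K E₁) ≤
        (nilradical (E₂ ⊗[k] K)).map (jE k K E₂) := by
      rw [Ideal.map_le_iff_le_comap]
      intro y hy
      rw [Ideal.mem_comap]
      obtain ⟨y', hy'⟩ := range_jE_mono k K h ⟨y, rfl⟩
      have hy'' : y' ∈ nilradical (E₂ ⊗[k] K) := by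
        apply mem_nilradical_of_j k K E₂ (AlgebraicClosure k) y'
        have : j k K E₂ (AlgebraicClosure k) y' = jE k K E₁ y := hy'
        rw [this]
        exact isNilpotent_j k K E₁ (AlgebraicClosure k) y (mem_nilradical.mp hy)
      have := Ideal.mem_map_of_mem (jE k K E₂) hy''
      rwa [show (jE k K E₂) y' = jE k K E₁ y from hy'] at this
    exact hmm hx1
  rw [le_antisymm hle hge]
  exact Ideal.radical_isRadical _

/-- a common finite purely inseparable extension for finitely many function fields. -/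
theorem exists_common (k : Type u) [Field k] (ι : Type u) [Finite ι] (K : ι → Type u)
    [∀ i, Field (K i)] [∀ i, Algebra k (K i)] [∀ i, Algebra.EssFiniteType k (K i)] :
    ∃ (k' : Type u) (_ : Field k') (_ : Algebra k k'), FiniteDimensional k k' ∧
      IsPurelyInseparable k k' ∧
      ∀ i (m : Ideal (k' ⊗[k] K i)), m.IsMaximal →
        Algebra.IsGeometricallyReduced k' ((k' ⊗[k] K i) ⧸ m) := by
  choose E hfin hpi hrad using fun i => exists_separable k (K i)
  haveI := hfin
  haveI := hpi
  haveI : IsPurelyInseparable k ↥(⨆ i, E i) :=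
    IntermediateField.isPurelyInseparable_iSup k (AlgebraicClosure k)
  refine ⟨↥(⨆ i, E i), inferInstance, inferInstance,
    IntermediateField.finiteDimensional_iSup_of_finite, inferInstance, fun i m hm => ?_⟩
  have := isRadical_mono k (K i) (le_iSup E i) (hrad i)
  exact geomReduced_quot k (K i) _ (AlgebraicClosure k) this m hm


section GRabs

attribute [local instance] Curv2.stalkAlgebra Curv2.resAlgebra

/-- a field generated by `k'` and the image of the local ring at `x` (through its residue field)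
is geometrically reduced over `k'`. -/
theorem geomReduced_of_local (k : Type u) [Field k] (X : Scheme.{u})
    [X.Over (Spec (CommRingCat.of k))] (k' : Type u) [Field k'] [Algebra k k'] (x : X)
    (h : ∀ m : Ideal (k' ⊗[k] X.residueField x), m.IsMaximal →
      Algebra.IsGeometricallyReduced k' ((k' ⊗[k] X.residueField x) ⧸ m))
    (B : Type u) [CommRing B] (hB : IsField B) [Algebra k' B] [Algebra k B]
    [IsScalarTower k k' B] (ψ : X.presheaf.stalk x →ₐ[k] B)
    (hloc : ∀ a ∈ IsLocalRing.maximalIdeal (X.presheaf.stalk x), ψ a = 0)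
    (hspan : ∀ b : B, b ∈ Submodule.span k' (Set.range ψ)) :
    Algebra.IsGeometricallyReduced k' B := by
  letI := hB.toField
  haveI : IsLocalHom ψ.toRingHom := ⟨fun a ha => by
    by_contra hna
    have h0 := hloc a ((IsLocalRing.mem_maximalIdeal a).mpr hna)
    rw [show ψ.toRingHom a = ψ a from rfl, h0] at ha
    exact not_isUnit_zero ha⟩
  let φ0 : X.residueField x →+* B := IsLocalRing.ResidueField.lift ψ.toRingHom
  have hφ0 : ∀ a, φ0 ((X.residue x).hom a) = ψ a := fun a =>
    IsLocalRing.ResidueField.lift_residue_apply ψ.toRingHom a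
  let φ : X.residueField x →ₐ[k] B := { φ0 with
    commutes' := fun c => by
      change φ0 ((X.residue x).hom (Curv2.stalkMap k X x c)) = _
      rw [hφ0]
      exact ψ.commutes c }
  have hφ : ∀ a, φ ((X.residue x).hom a) = ψ a := hφ0
  let Φ : k' ⊗[k] X.residueField x →ₐ[k'] B :=
    Algebra.TensorProduct.lift (Algebra.ofId k' B) φ (fun _ _ => Commute.all _ _)
  have hΦ : Function.Surjective Φ := by
    intro b
    have hb := hspan b
    induction hb using Submodule.span_induction with
    | mem y hy =>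
      obtain ⟨a, rfl⟩ := hy
      refine ⟨1 ⊗ₜ (X.residue x).hom a, ?_⟩
      simp only [Φ, Algebra.TensorProduct.lift_tmul, map_one, one_mul]
      exact hφ a
    | zero => exact ⟨0, map_zero _⟩
    | add y₁ y₂ _ _ h₁ h₂ =>
      obtain ⟨t₁, rfl⟩ := h₁
      obtain ⟨t₂, rfl⟩ := h₂
      exact ⟨t₁ + t₂, map_add _ _ _⟩
    | smul c y _ h₁ =>
      obtain ⟨t, rfl⟩ := h₁
      exact ⟨c • t, map_smul _ _ _⟩
  haveI hmax : (RingHom.ker Φ).IsMaximal := RingHom.ker_isMaximal_of_surjective Φ hΦ
  haveI := h _ hmax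
  let e := Ideal.quotientKerAlgEquivOfSurjective hΦ
  exact Algebra.IsGeometricallyReduced.of_injective e.symm.toAlgHom e.symm.injective

end GRabs

section RL

variable (k k' R : Type u) [Field k] [Field k'] [Algebra k k'] [CommRing R] [Algebra k R]

/-- `R → (k' ⊗ R)_red`. -/
noncomputable def incl : R →ₐ[k] ((k' ⊗[k] R) ⧸ nilradical (k' ⊗[k] R)) :=
  (Ideal.Quotient.mkₐ k _).comp (Algebra.TensorProduct.includeRight : R →ₐ[k] k' ⊗[k] R)

theorem incl_apply (r : R) :
    incl k k' R r = Ideal.Quotient.mk (nilradical (k' ⊗[k] R)) ((1 : k') ⊗ₜ[k] r) := rfl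

instance : IsReduced ((k' ⊗[k] R) ⧸ nilradical (k' ⊗[k] R)) :=
  (Ideal.isRadical_iff_quotient_reduced _).mp (Ideal.radical_isRadical _)

variable [IsPurelyInseparable k k']

theorem exists_pow_eq_incl (s : (k' ⊗[k] R) ⧸ nilradical (k' ⊗[k] R)) :
    ∃ (n : ℕ) (r : R), s ^ (n + 1) = incl k k' R r := by
  obtain ⟨t, rfl⟩ := Ideal.Quotient.mk_surjective s
  obtain ⟨n, hn, r, hr⟩ := IsPurelyInseparable.exists_pow_mem_range_tensorProduct (k := k)
    (K := k') (R := R) ((Algebra.TensorProduct.comm k k' R) t)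
  obtain ⟨m, rfl⟩ : ∃ m, n = m + 1 := ⟨n - 1, by omega⟩
  refine ⟨m, r, ?_⟩
  have h1 : t ^ (m + 1) = (1 : k') ⊗ₜ[k] r := by
    apply (Algebra.TensorProduct.comm k k' R).injective
    rw [map_pow, ← hr]
    simp [Algebra.TensorProduct.algebraMap_apply]
  rw [incl_apply, ← h1, map_pow]

theorem isHomeomorph_comap_incl :
    IsHomeomorph (PrimeSpectrum.comap (incl k k' R).toRingHom) := by
  refine PrimeSpectrum.isHomeomorph_comap _ (fun s => ?_) ?_
  · obtain ⟨n, r, hr⟩ := exists_pow_eq_incl k k' R s
    exact ⟨n + 1, Nat.succ_pos _, r, hr.symm⟩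
  · intro r hr
    rw [RingHom.mem_ker] at hr
    have h1 : (1 : k') ⊗ₜ[k] r ∈ nilradical (k' ⊗[k] R) := Ideal.Quotient.eq_zero_iff_mem.mp hr
    obtain ⟨m, hm⟩ := mem_nilradical.mp h1
    rw [mem_nilradical]
    refine ⟨m, ?_⟩
    have hinj : Function.Injective (Algebra.TensorProduct.includeRight : R →ₐ[k] k' ⊗[k] R) :=
      Algebra.TensorProduct.includeRight_injective (algebraMap k k').injective
    apply hinj
    rw [map_pow, map_zero]
    exact hm

theorem comap_incl_mem_minimalPrimes (z : Ideal ((k' ⊗[k] R) ⧸ nilradical (k' ⊗[k] R)))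
    [z.IsPrime] (hz : z ∈ minimalPrimes ((k' ⊗[k] R) ⧸ nilradical (k' ⊗[k] R))) :
    z.comap (incl k k' R) ∈ minimalPrimes R := by
  have hH := isHomeomorph_comap_incl k k' R
  refine ⟨⟨inferInstance, bot_le⟩, fun P' hP' hle => ?_⟩
  haveI : P'.IsPrime := hP'.1
  obtain ⟨z', hz'⟩ := hH.surjective ⟨P', inferInstance⟩
  have hz'P : z'.asIdeal.comap (incl k k' R) = P' := congrArg PrimeSpectrum.asIdeal hz'
  have hspec : (PrimeSpectrum.comap (incl k k' R).toRingHom z') ⤳
      (PrimeSpectrum.comap (incl k k' R).toRingHom ⟨z, inferInstance⟩) := by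
    rw [← PrimeSpectrum.le_iff_specializes, hz']
    exact hle
  have hspec' : z' ⤳ ⟨z, inferInstance⟩ := hH.isInducing.specializes_iff.mp hspec
  have hle' : z'.asIdeal ≤ z := (PrimeSpectrum.le_iff_specializes z' ⟨z, inferInstance⟩).mpr hspec'
  have heq : z ≤ z'.asIdeal := hz.2 ⟨z'.isPrime, bot_le⟩ hle'
  rw [← hz'P]
  exact Ideal.comap_mono heq


theorem exists_lambda (z : Ideal ((k' ⊗[k] R) ⧸ nilradical (k' ⊗[k] R)))
    [z.IsPrime] (hz : z ∈ minimalPrimes ((k' ⊗[k] R) ⧸ nilradical (k' ⊗[k] R))) :
    ∃ lam : Localization.AtPrime (z.comap (incl k k' R)) →ₐ[k] Localization.AtPrime z,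
      (∀ a ∈ IsLocalRing.maximalIdeal (Localization.AtPrime (z.comap (incl k k' R))),
        lam a = 0) ∧
      ∀ b : Localization.AtPrime z, b ∈ Submodule.span k' (Set.range lam) := by
  have hF : IsField (Localization.AtPrime z) :=
    Groth.Agent.Lib.Helper16.PInsepLen.isField_localization_of_minimal z hz
  let θ : R →ₐ[k] Localization.AtPrime z :=
    (IsScalarTower.toAlgHom k ((k' ⊗[k] R) ⧸ nilradical (k' ⊗[k] R))
      (Localization.AtPrime z)).comp (incl k k' R)
  have hθ : ∀ r, θ r = algebraMap _ (Localization.AtPrime z) (incl k k' R r) := fun _ => rfl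
  have hθunit : ∀ y : (z.comap (incl k k' R)).primeCompl, IsUnit (θ y) := by
    intro y
    have hy : incl k k' R y ∈ z.primeCompl := y.2
    exact IsLocalization.map_units (Localization.AtPrime z) ⟨_, hy⟩
  let lam : Localization.AtPrime (z.comap (incl k k' R)) →ₐ[k] Localization.AtPrime z :=
    IsLocalization.liftAlgHom (M := (z.comap (incl k k' R)).primeCompl) (f := θ) hθunit
  have hlam : ∀ r : R, lam (algebraMap R _ r) = θ r := fun r => IsLocalization.lift_eq _ r
  refine ⟨lam, ?_, ?_⟩
  · have hmaxF : IsLocalRing.maximalIdeal (Localization.AtPrime z) = ⊥ :=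
      IsLocalRing.isField_iff_maximalIdeal_eq.mp hF
    have hle : IsLocalRing.maximalIdeal (Localization.AtPrime (z.comap (incl k k' R))) ≤
        RingHom.ker lam := by
      rw [← Localization.AtPrime.map_eq_maximalIdeal, Ideal.map_le_iff_le_comap]
      intro r hr
      rw [Ideal.mem_comap, RingHom.mem_ker, hlam, hθ]
      have h1 : algebraMap _ (Localization.AtPrime z) (incl k k' R r) ∈
          IsLocalRing.maximalIdeal (Localization.AtPrime z) :=
        (IsLocalization.AtPrime.to_map_mem_maximal_iff (Localization.AtPrime z) z _).mpr hr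
      rw [hmaxF] at h1
      exact h1
    exact fun a ha => hle ha
  · -- generation
    have key1 : ∀ (t : k' ⊗[k] R) (w : Localization.AtPrime (z.comap (incl k k' R))),
        algebraMap _ (Localization.AtPrime z) (Ideal.Quotient.mk (nilradical (k' ⊗[k] R)) t) *
          lam w ∈ Submodule.span k' (Set.range lam) := by
      intro t w
      induction t using TensorProduct.induction_on with
      | zero => simp
      | tmul c r =>
        have h1 : (c ⊗ₜ[k] r : k' ⊗[k] R) = c • ((1 : k') ⊗ₜ[k] r) := by
          rw [TensorProduct.smul_tmul', smul_eq_mul, mul_one]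
        have h2 : algebraMap _ (Localization.AtPrime z)
            (Ideal.Quotient.mk (nilradical (k' ⊗[k] R)) (c ⊗ₜ[k] r)) = c • θ r := by
          rw [h1, hθ, incl_apply]
          rw [show Ideal.Quotient.mk (nilradical (k' ⊗[k] R)) (c • ((1 : k') ⊗ₜ[k] r)) =
            c • Ideal.Quotient.mk (nilradical (k' ⊗[k] R)) ((1 : k') ⊗ₜ[k] r) from rfl]
          rw [Algebra.algebraMap_eq_smul_one, Algebra.algebraMap_eq_smul_one, smul_assoc]
        rw [h2, smul_mul_assoc, ← hlam, ← map_mul]
        exact Submodule.smul_mem _ _ (Submodule.subset_span ⟨_, rfl⟩)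
      | add t₁ t₂ h₁ h₂ =>
        rw [map_add, map_add, add_mul]
        exact Submodule.add_mem _ h₁ h₂
    intro b
    obtain ⟨a, s, rfl⟩ := IsLocalization.exists_mk'_eq z.primeCompl b
    obtain ⟨n, r, hr⟩ := exists_pow_eq_incl k k' R (s : (k' ⊗[k] R) ⧸ nilradical (k' ⊗[k] R))
    have hrP : r ∈ (z.comap (incl k k' R)).primeCompl := by
      intro hmem
      have h1 : incl k k' R r ∈ z := hmem
      rw [← hr] at h1
      exact s.2 (Ideal.IsPrime.mem_of_pow_mem inferInstance _ h1)
    obtain ⟨t, ht⟩ := Ideal.Quotient.mk_surjective (a * (s : _ ⧸ _) ^ n)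
    have hgoal := key1 t (IsLocalization.mk' _ (1 : R) ⟨r, hrP⟩)
    have hunit : IsUnit (algebraMap _ (Localization.AtPrime z)
        ((s : (k' ⊗[k] R) ⧸ nilradical (k' ⊗[k] R)) ^ (n + 1))) :=
      IsLocalization.map_units (Localization.AtPrime z) (s ^ (n + 1))
    have heq : IsLocalization.mk' (Localization.AtPrime z) a s =
        algebraMap _ (Localization.AtPrime z) (Ideal.Quotient.mk (nilradical (k' ⊗[k] R)) t) *
          lam (IsLocalization.mk' _ (1 : R) ⟨r, hrP⟩) := by
      apply hunit.mul_left_injective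
      dsimp only
      have e1 : lam (IsLocalization.mk' _ (1 : R) ⟨r, hrP⟩) *
          algebraMap _ (Localization.AtPrime z)
            ((s : (k' ⊗[k] R) ⧸ nilradical (k' ⊗[k] R)) ^ (n + 1)) = 1 := by
        rw [hr, ← hθ, ← hlam, ← map_mul, IsLocalization.mk'_spec, map_one, map_one]
      rw [mul_assoc, e1, mul_one, ht, map_mul, map_pow, map_pow, pow_succ, ← mul_assoc,
        mul_comm (IsLocalization.mk' (Localization.AtPrime z) a s), mul_assoc (_ ^ n),
        IsLocalization.mk'_spec, mul_comm]
    rw [heq]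
    exact hgoal

end RL


theorem finite_genericPoints (X : Scheme.{u})
    (hirr : (irreducibleComponents (X : Type u)).Finite) :
    {x : X | closure {x} ∈ irreducibleComponents (X : Type u)}.Finite := by
  refine Set.Finite.of_injOn (f := fun x : X => closure ({x} : Set X)) (fun x hx => hx) ?_ hirr
  intro x _ y _ hxy
  exact (inseparable_iff_closure_eq.mpr hxy).eq

theorem eq_of_specializes_of_generic {T : Type*} [TopologicalSpace T] [T0Space T] {η y : T}
    (hη : closure {η} ∈ irreducibleComponents T) (h : y ⤳ η) : y = η := by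
  have h1 : closure ({η} : Set T) ⊆ closure {y} := by
    rw [← specializes_iff_closure_subset]
    exact h
  have h2 : closure ({y} : Set T) ⊆ closure {η} :=
    hη.2 isIrreducible_singleton.closure h1
  have h3 : η ⤳ y := by
    rw [specializes_iff_closure_subset]
    exact h2
  exact (h.antisymm h3).eq

/-- a morphism between reduced surjective closed subschemes lying over an open immersion is an
open immersion (generalising `Helper6.isOpenImmersion_red_of_isOpenImmersion`). -/
theorem isOpenImmersion_of_closedImmersions {X Y X' Y' : Scheme.{u}} (f : X ⟶ Y)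
    [IsOpenImmersion f] (jX : X' ⟶ X) [IsClosedImmersion jX] (jY : Y' ⟶ Y) [IsClosedImmersion jY]
    [IsReduced X'] [IsReduced Y'] (hX : Set.range jX = Set.univ) (hY : Set.range jY = Set.univ)
    (g : X' ⟶ Y') (hg : g ≫ jY = jX ≫ f) : IsOpenImmersion g := by
  let W : Y'.Opens := jY ⁻¹ᵁ f.opensRange
  let c : W.toScheme ⟶ X := (jY ∣_ f.opensRange) ≫ f.isoOpensRange.inv
  have hc : c ≫ f = W.ι ≫ jY := by
    simp only [c, Category.assoc, Scheme.Hom.isoOpensRange_inv_comp]
    exact morphismRestrict_ι _ _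
  have hcrange : Set.range c = Set.univ := by
    rw [Set.eq_univ_iff_forall]
    intro x
    obtain ⟨y, hy⟩ : f x ∈ Set.range jY := by
      rw [hY]; trivial
    have hyW : y ∈ W := by
      change jY y ∈ f.opensRange
      rw [hy]
      exact ⟨x, rfl⟩
    refine ⟨⟨y, hyW⟩, ?_⟩
    apply f.isOpenEmbedding.injective
    have e1 : (c ≫ f) ⟨y, hyW⟩ = (W.ι ≫ jY) ⟨y, hyW⟩ := by rw [hc]
    exact e1.trans hy
  obtain ⟨b, hb⟩ := Groth.Agent.Lib.Helper6.exists_lift_of_isReduced_of_range_subset c jX
    (by rw [hX]; exact Set.subset_univ _)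
  obtain ⟨a, ha⟩ := Groth.Agent.Lib.Helper6.exists_lift_of_isReduced_of_range_subset jX c
    (by rw [hcrange]; exact Set.subset_univ _)
  have hba : b ≫ a = 𝟙 _ := by
    rw [← cancel_mono c, Category.assoc, ha, hb, Category.id_comp]
  have hab : a ≫ b = 𝟙 _ := by
    rw [← cancel_mono jX, Category.assoc, hb, ha, Category.id_comp]
  have : IsIso a := ⟨b, hab, hba⟩
  have hga : g = a ≫ W.ι := by
    rw [← cancel_mono jY, hg, Category.assoc, ← hc, ← Category.assoc, ha]
  rw [hga]
  infer_instance


section Main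

attribute [local instance] Curv2.stalkAlgebra Curv2.resAlgebra

open Groth.Agent.Lib.Helper6 Groth.Agent.Lib.Helper6.BcBridge Groth.Agent.Lib.Helper6.BcRed
  Groth.Agent.Lib.Helper6.BcRed5

variable (k : Type u) [Field k] (X : Scheme.{u}) [X.Over (Spec (CommRingCat.of k))]

variable (k' : Type u) [Field k'] [Algebra k k']

theorem chartMap'_snd' {R : Type u} [CommRing R] [Algebra k R]
    (ι : Spec (CommRingCat.of R) ⟶ X)
    (hι : ι ≫ (X ↘ Spec (CommRingCat.of k)) = Spec.map (CommRingCat.ofHom (algebraMap k R))) :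
    chartMap' k X k' ι hι ≫ Curv2.bcSnd k X k' =
      Spec.map (CommRingCat.ofHom (algebraMap k' (k' ⊗[k] R))) := by
  unfold chartMap' chartMap
  rw [Category.assoc, Category.assoc, pullback.lift_snd, Category.comp_id,
    pullbackSpecIso_inv_snd, ← Spec.map_comp]
  congr 1

theorem local_claim [IsPurelyInseparable k k']
    (hGR : ∀ x : X, closure {x} ∈ irreducibleComponents (X : Type u) →
      ∀ m : Ideal (k' ⊗[k] X.residueField x), m.IsMaximal →
        Algebra.IsGeometricallyReduced k' ((k' ⊗[k] X.residueField x) ⧸ m))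
    (η : ↥(Curv2.bc k X k').nilradical.subscheme)
    (hη : closure {η} ∈
      irreducibleComponents (↥(Curv2.bc k X k').nilradical.subscheme)) :
    letI : (Curv2.bc k X k').nilradical.subscheme.Over (Spec (CommRingCat.of k')) :=
      ⟨(Curv2.bc k X k').nilradical.subschemeι ≫ Curv2.bcSnd k X k'⟩
    Algebra.IsGeometricallyReduced k'
      ((Curv2.bc k X k').nilradical.subscheme.presheaf.stalk η) := by
  letI : (Curv2.bc k X k').nilradical.subscheme.Over (Spec (CommRingCat.of k')) :=
    ⟨(Curv2.bc k X k').nilradical.subschemeι ≫ Curv2.bcSnd k X k'⟩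
  -- chart of `X`
  obtain ⟨R, _, _, ι, _, hι, z₀', hz₀'⟩ :=
    exists_chart k X (Curv2.bcFst k X k' ((Curv2.bc k X k').nilradical.subschemeι η))
  -- chart of `X'`
  have hx' : (Curv2.bc k X k').nilradical.subschemeι η ∈ Set.range (chartMap' k X k' ι hι) := by
    rw [range_chartMap']
    exact ⟨z₀', hz₀'⟩
  obtain ⟨Q, hQ⟩ := hx'
  -- chart of `Y`
  haveI : IsClosedImmersion (Spec.map (CommRingCat.ofHom
      (Ideal.Quotient.mk (nilradical (k' ⊗[k] R))))) :=
    IsClosedImmersion.spec_of_surjective _ Ideal.Quotient.mk_surjective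
  have hjA : Set.range (Spec.map (CommRingCat.ofHom
      (Ideal.Quotient.mk (nilradical (k' ⊗[k] R))))) = Set.univ := by
    change Set.range (PrimeSpectrum.comap (Ideal.Quotient.mk (nilradical (k' ⊗[k] R)))) = _
    rw [_root_.range_comap_of_surjective _ _ Ideal.Quotient.mk_surjective,
      Ideal.mk_ker]
    exact (PrimeSpectrum.zeroLocus_eq_univ_iff _).mpr subset_rfl
  haveI : IsReduced (Spec (CommRingCat.of ((k' ⊗[k] R) ⧸ nilradical (k' ⊗[k] R)))) :=
    (affine_isReduced_iff _).mpr (inferInstanceAs (_root_.IsReduced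
      ((k' ⊗[k] R) ⧸ nilradical (k' ⊗[k] R))))
  obtain ⟨g, hg⟩ := exists_lift_of_isReduced_of_range_subset
    (Spec.map (CommRingCat.ofHom (Ideal.Quotient.mk (nilradical (k' ⊗[k] R)))) ≫
      chartMap' k X k' ι hι) (Curv2.bc k X k').nilradical.subschemeι
    (by rw [range_nilradical_subschemeι]; exact Set.subset_univ _)
  haveI : IsOpenImmersion g := isOpenImmersion_of_closedImmersions (chartMap' k X k' ι hι)
    (Spec.map (CommRingCat.ofHom (Ideal.Quotient.mk (nilradical (k' ⊗[k] R)))))
    (Curv2.bc k X k').nilradical.subschemeι hjA (range_nilradical_subschemeι _) g hg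
  have hgk : g ≫ ((Curv2.bc k X k').nilradical.subscheme ↘ Spec (CommRingCat.of k')) =
      Spec.map (CommRingCat.ofHom
        (algebraMap k' ((k' ⊗[k] R) ⧸ nilradical (k' ⊗[k] R)))) := by
    change g ≫ (Curv2.bc k X k').nilradical.subschemeι ≫ Curv2.bcSnd k X k' = _
    rw [← Category.assoc, hg, Category.assoc, chartMap'_snd', ← Spec.map_comp]
    rfl
  -- the point `z`
  obtain ⟨z, hz⟩ : ∃ z, (Spec.map (CommRingCat.ofHom
      (Ideal.Quotient.mk (nilradical (k' ⊗[k] R))))) z = Q := by
    have : Q ∈ Set.range (Spec.map (CommRingCat.ofHom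
        (Ideal.Quotient.mk (nilradical (k' ⊗[k] R))))) := by rw [hjA]; trivial
    exact this
  have hgz : g z = η := by
    apply (Curv2.bc k X k').nilradical.subschemeι.isClosedEmbedding.injective
    have e1 : (g ≫ (Curv2.bc k X k').nilradical.subschemeι) z =
        ((Spec.map (CommRingCat.ofHom (Ideal.Quotient.mk (nilradical (k' ⊗[k] R)))) ≫
          chartMap' k X k' ι hι)) z := by rw [hg]
    refine e1.trans ?_
    change chartMap' k X k' ι hι ((Spec.map (CommRingCat.ofHom
      (Ideal.Quotient.mk (nilradical (k' ⊗[k] R))))) z) = _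
    rw [hz, hQ]
  -- `z` is minimal
  have hzmin : z.asIdeal ∈ minimalPrimes ((k' ⊗[k] R) ⧸ nilradical (k' ⊗[k] R)) := by
    refine ⟨⟨z.isPrime, bot_le⟩, fun q hq hle => ?_⟩
    let zq : PrimeSpectrum ((k' ⊗[k] R) ⧸ nilradical (k' ⊗[k] R)) := ⟨q, hq.1⟩
    have hspec : zq ⤳ z := (PrimeSpectrum.le_iff_specializes zq z).mp hle
    have hspec' : g zq ⤳ g z := hspec.map g.continuous
    rw [hgz] at hspec'
    have h1 : g zq = η := eq_of_specializes_of_generic hη hspec'
    have h2 : zq = z := g.isOpenEmbedding.injective (h1.trans hgz.symm)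
    rw [← h2]
  haveI := z.isPrime
  obtain ⟨lam, hlam0, hlamspan⟩ := exists_lambda k k' R z.asIdeal hzmin
  have hPmin := comap_incl_mem_minimalPrimes k k' R z.asIdeal hzmin
  have hx : closure {ι ⟨z.asIdeal.comap (incl k k' R), inferInstance⟩} ∈
      irreducibleComponents (X : Type u) :=
    closure_mem_irreducibleComponents X ι ⟨z.asIdeal.comap (incl k k' R), inferInstance⟩ hPmin
  have hF := Groth.Agent.Lib.Helper16.PInsepLen.isField_localization_of_minimal z.asIdeal hzmin
  have hGRF : Algebra.IsGeometricallyReduced k' (Localization.AtPrime z.asIdeal) := by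
    refine geomReduced_of_local k X k' (ι ⟨z.asIdeal.comap (incl k k' R), inferInstance⟩)
      (hGR _ hx) _ hF
      (lam.comp (stalkAlgEquiv k X ι hι ⟨z.asIdeal.comap (incl k k' R), inferInstance⟩).toAlgHom)
      ?_ ?_
    · intro a ha
      apply hlam0
      rw [IsLocalRing.mem_maximalIdeal, mem_nonunits_iff] at ha ⊢
      intro hu
      exact ha ((isUnit_map_iff
        (stalkAlgEquiv k X ι hι ⟨z.asIdeal.comap (incl k k' R), inferInstance⟩) a).mp hu)
    · intro b
      have hr : Set.range (lam.comp (stalkAlgEquiv k X ι hι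
          ⟨z.asIdeal.comap (incl k k' R), inferInstance⟩).toAlgHom) = Set.range lam := by
        ext b'
        constructor
        · rintro ⟨a, rfl⟩
          exact ⟨_, rfl⟩
        · rintro ⟨w, rfl⟩
          refine ⟨(stalkAlgEquiv k X ι hι
            ⟨z.asIdeal.comap (incl k k' R), inferInstance⟩).symm w, ?_⟩
          simp
      rw [hr]
      exact hlamspan b
  have hfin := Algebra.IsGeometricallyReduced.of_injective
    (stalkAlgEquiv k' (Curv2.bc k X k').nilradical.subscheme g hgk z).toAlgHom
    (stalkAlgEquiv k' (Curv2.bc k X k').nilradical.subscheme g hgk z).injective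
  exact hgz ▸ hfin

end Main


open Groth.Agent.Lib.Helper6 Groth.Agent.Lib.Helper6.BcRed Groth.Agent.Lib.Helper6.BcRed5 in

/-- Let X be a k-scheme locally of finite type, having only finitely many irreducible components. There
is then a finite purely inseparable extension k' of k for which the reduction of X_{k'} (the closed
subscheme defined by the nilradical) is geometrically reduced over k'. -/
theorem result (k : Type u) [Field k] (X : Scheme.{u}) [X.Over (Spec (CommRingCat.of k))] [LocallyOfFiniteType (X ↘ (Spec (CommRingCat.of k)))]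
    (hirr : (irreducibleComponents (X : Type u)).Finite) :
    ∃ (k' : Type u) (_ : Field k') (_ : Algebra k k'), FiniteDimensional k k' ∧ IsPurelyInseparable k k' ∧
      GeometricallyReduced ((Curv2.bc k X k').nilradical.subschemeι ≫ Curv2.bcSnd k X k') := by
  have hG := finite_genericPoints X hirr
  haveI : Finite ↥{x : X | closure {x} ∈ irreducibleComponents (X : Type u)} := hG.to_subtype
  letI : ∀ i : ↥{x : X | closure {x} ∈ irreducibleComponents (X : Type u)},
      Algebra k (X.residueField i.1) := fun i => Curv2.resAlgebra k X i.1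
  haveI : ∀ i : ↥{x : X | closure {x} ∈ irreducibleComponents (X : Type u)},
      Algebra.EssFiniteType k (X.residueField i.1) := fun i =>
    Groth.Agent.Lib.Helper6.SepClosedPts.essFiniteType_resMap k X i.1
  obtain ⟨k', hk'F, hk'A, hfin, hpi, hGR⟩ := exists_common k
    ↥{x : X | closure {x} ∈ irreducibleComponents (X : Type u)} (fun i => X.residueField i.1)
  refine ⟨k', hk'F, hk'A, hfin, hpi, ?_⟩
  letI : (Curv2.bc k X k').nilradical.subscheme.Over (Spec (CommRingCat.of k')) :=
    ⟨(Curv2.bc k X k').nilradical.subschemeι ≫ Curv2.bcSnd k X k'⟩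
  change GeometricallyReduced
    ((Curv2.bc k X k').nilradical.subscheme ↘ Spec (CommRingCat.of k'))
  haveI : IsReduced (Curv2.bc k X k').nilradical.subscheme := isReduced_nilradical_subscheme _
  apply geometricallyReduced_of_generic k' _
  intro Z hZ η hη
  rw [isGeomReducedAt_iff]
  have hη' : closure {η} ∈
      irreducibleComponents (↥(Curv2.bc k X k').nilradical.subscheme) := by
    rw [hη.def]; exact hZ
  exact local_claim k X k' (fun x hx m hm => hGR ⟨x, hx⟩ m hm) η hη'

end Groth.Agent.S1629
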