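import Groth.Statements.S16298
import Groth.Agent.S1585
import Groth.Agent.Lib.Helper6GenusLe
import Groth.Agent.S0002
set_option linter.style.haveILetI false

set_option autoImplicit false
universe u
open CategoryTheory CategoryTheory.Limits AlgebraicGeometry
open Curves

namespace Groth.Agent.S16298

/-- Let k be a field and X a genus-zero curve over k, that is, an integral scheme proper over k of
dimension one with H^1(X, O_X) = 0. Then the normalization Y of X again satisfies H^1(Y, O_Y) = 0,
so Y is again a genus-zero curve. (The two instance binders on the morphism from the generic point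
always hold; they are only needed to form the normalization.) -/
theorem result (k : Type u) [Field k] (X : Scheme.{u}) [X.Over (Spec (CommRingCat.of k))]
    [IsIntegral X] [IsProper (X ↘ (Spec (CommRingCat.of k)))] (hdim : topologicalKrullDim X = 1)
    (h1 : Subsingleton (Coh.HH X (Coh.structureModule X) 1))
    [QuasiCompact (X.fromSpecStalk (genericPoint X))] [QuasiSeparated (X.fromSpecStalk (genericPoint X))] :
    Subsingleton (Coh.HH (Curv2.normalization X) (Coh.structureModule (Curv2.normalization X)) 1) := by
  obtain ⟨hfin, -, ⟨V, hV, hiso⟩, hint, -⟩ := Groth.Agent.S1585.result k X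
  letI : (Curv2.normalization X).Over (Spec (CommRingCat.of k)) :=
    ⟨Curv2.normalizationι X ≫ (X ↘ (Spec (CommRingCat.of k)))⟩
  haveI : IsProper ((Curv2.normalization X) ↘ (Spec (CommRingCat.of k))) := by
    change IsProper (Curv2.normalizationι X ≫ (X ↘ (Spec (CommRingCat.of k))))
    infer_instance
  have hVd : Dense (V : Set X) := V.2.dense hV
  have hle := Groth.Agent.Lib.Helper6.GenusLe.genus_le_of_finite k X (Curv2.normalization X) hdim.le
    (Curv2.normalizationι X) rfl V hVd inferInstance
  have h0 : Curv2.genus k X = 0 := by
    unfold Curv2.genus
    exact Module.finrank_zero_of_subsingleton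
  rw [h0] at hle
  haveI : IsLocallyNoetherian (Curv2.normalization X) :=
    LocallyOfFiniteType.isLocallyNoetherian ((Curv2.normalization X) ↘ (Spec (CommRingCat.of k)))
  have cO := Groth.Agent.Lib.Helper4.Dev.isCoh_structureModule (Curv2.normalization X)
  haveI : Module.Finite k (Coh.HH (Curv2.normalization X) (Coh.structureModule (Curv2.normalization X)) 1) :=
    Groth.Agent.S0002.result k (Curv2.normalization X) _ cO 1
  exact Module.finrank_zero_iff.1 (Nat.le_zero.1 hle)

end Groth.Agent.S16298
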