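import Groth.Statements.S16312
import Mathlib

set_option autoImplicit false
universe u
open W4c3irrattreebun

namespace Groth.Agent.S16312

/-- Let N be a closed cone in real n-space, f a function continuous on N, positive at the nonzero points
of N and homogeneous of degree one under scaling by nonnegative reals, and Λ a discrete additive
subgroup. Then for every real c the set of points H of Λ lying in N with f(H) ≤ c is finite. (The
published statement takes Λ to be a lattice; this row allows any discrete additive subgroup.) -/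
theorem result (n : ℕ)
    (N : Set (EuclideanSpace ℝ (Fin n))) (hN : IsClosed N)
    (hcone : ∀ x ∈ N, ∀ r : ℝ, 0 ≤ r → r • x ∈ N)
    (f : EuclideanSpace ℝ (Fin n) → ℝ) (hf : ContinuousOn f N)
    (hpos : ∀ x ∈ N, x ≠ 0 → 0 < f x)
    (hhom : ∀ x ∈ N, ∀ r : ℝ, 0 ≤ r → f (r • x) = r * f x)
    (Λ : Submodule ℤ (EuclideanSpace ℝ (Fin n))) [DiscreteTopology Λ] (c : ℝ) :
    ({x : EuclideanSpace ℝ (Fin n) | x ∈ N ∧ f x ≤ c} ∩ (Λ : Set (EuclideanSpace ℝ (Fin n)))).Finite := by
  classical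
  have hΛclosed : IsClosed (Λ : Set (EuclideanSpace ℝ (Fin n))) := by
    have : DiscreteTopology Λ.toAddSubgroup := inferInstanceAs (DiscreteTopology Λ)
    rw [← Submodule.coe_toAddSubgroup]
    exact AddSubgroup.isClosed_of_discrete
  have hΛdisc : IsDiscrete (Λ : Set (EuclideanSpace ℝ (Fin n))) := DiscreteTopology.isDiscrete
  suffices hb : Bornology.IsBounded {x : EuclideanSpace ℝ (Fin n) | x ∈ N ∧ f x ≤ c} from
    Metric.finite_isBounded_inter_isClosed hΛdisc hb hΛclosed
  -- the compact set `N ∩ sphere`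
  set S : Set (EuclideanSpace ℝ (Fin n)) := N ∩ Metric.sphere 0 1 with hS
  have hScomp : IsCompact S := (isCompact_sphere 0 1).inter_left hN
  by_cases hSne : S.Nonempty
  · obtain ⟨x₀, hx₀S, hx₀min⟩ := hScomp.exists_isMinOn hSne (hf.mono Set.inter_subset_left)
    have hx₀ne : x₀ ≠ 0 := by
      intro h
      have : ‖x₀‖ = 1 := by simpa using hx₀S.2
      rw [h, norm_zero] at this
      exact zero_ne_one this
    have hm : 0 < f x₀ := hpos x₀ hx₀S.1 hx₀ne
    refine (Metric.isBounded_closedBall (x := (0 : EuclideanSpace ℝ (Fin n)))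
      (r := |c| / f x₀)).subset ?_
    rintro x ⟨hxN, hxc⟩
    rw [mem_closedBall_zero_iff]
    by_cases hx0 : x = 0
    · rw [hx0, norm_zero]
      positivity
    have hnorm : 0 < ‖x‖ := norm_pos_iff.mpr hx0
    have hyN : (‖x‖⁻¹ • x) ∈ N := hcone x hxN _ (inv_nonneg.mpr hnorm.le)
    have hyS : (‖x‖⁻¹ • x) ∈ S := by
      refine ⟨hyN, ?_⟩
      rw [mem_sphere_zero_iff_norm, norm_smul, norm_inv, norm_norm, inv_mul_cancel₀ hnorm.ne']
    have h1 : f x₀ ≤ f (‖x‖⁻¹ • x) := hx₀min hyS
    have h2 : f x = ‖x‖ * f (‖x‖⁻¹ • x) := by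
      rw [← hhom _ hyN _ hnorm.le, smul_smul, mul_inv_cancel₀ hnorm.ne', one_smul]
    rw [le_div_iff₀ hm]
    calc ‖x‖ * f x₀ ≤ ‖x‖ * f (‖x‖⁻¹ • x) := mul_le_mul_of_nonneg_left h1 hnorm.le
      _ = f x := h2.symm
      _ ≤ c := hxc
      _ ≤ |c| := le_abs_self c
  · refine (Metric.isBounded_closedBall (x := (0 : EuclideanSpace ℝ (Fin n))) (r := 0)).subset ?_
    rintro x ⟨hxN, -⟩
    rw [mem_closedBall_zero_iff]
    by_contra hx
    have hx0 : x ≠ 0 := by
      intro h
      rw [h, norm_zero] at hx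
      exact hx le_rfl
    have hnorm : 0 < ‖x‖ := norm_pos_iff.mpr hx0
    apply hSne
    refine ⟨‖x‖⁻¹ • x, hcone x hxN _ (inv_nonneg.mpr hnorm.le), ?_⟩
    rw [mem_sphere_zero_iff_norm, norm_smul, norm_inv, norm_norm, inv_mul_cancel₀ hnorm.ne']

end Groth.Agent.S16312
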