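import Groth.Statements.S16323
import Mathlib
import Groth.Agent.Lib.Helper13AB
import Groth.Agent.Lib.Helper13Syzygy
import Groth.Agent.Lib.Helper13RegResidue
import Groth.Agent.Lib.Helper13FreeRes
import Groth.Agent.S15436
-- import your own Groth.Agent.* helpers here

set_option autoImplicit false
universe u
open GrSyz

namespace Groth.Agent.S16323

open CategoryTheory CategoryTheory.Limits MonoidalCategory in
/-- `Tor_0(X, R) ≠ 0` for a nontrivial module `X`. -/
theorem not_isZero_tor_zero_self {R : Type u} [CommRing R] (X : ModuleCat.{u} R) [Nontrivial X] :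
    ¬ IsZero (((Tor (ModuleCat.{u} R) 0).obj X).obj (ModuleCat.of R R)) := by
  intro hz
  have e1 : ((Tor (ModuleCat.{u} R) 0).obj X).obj (ModuleCat.of R R) ≅
      X ⊗ (ModuleCat.of R R) :=
    (Groth.Agent.Helper13Tor.torZeroIso.app X).app (ModuleCat.of R R)
  have e2 : X ⊗ (ModuleCat.of R R) ≅ X := ρ_ X
  have hz' : IsZero X := hz.of_iso (e1 ≪≫ e2).symm
  have := ModuleCat.subsingleton_of_isZero hz'
  exact not_subsingleton X this

open CategoryTheory CategoryTheory.Limits in
/-- `Tor_{n+1}(k, k) ≠ 0` over `k[x_0, …, x_n]`. -/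
theorem not_isZero_tor_residue_residue (k : Type u) [Field k] (n : ℕ) :
    ¬ IsZero (((Tor (ModuleCat.{u} (MvPolynomial (Fin n) k)) n).obj
      (ModuleCat.of (MvPolynomial (Fin n) k)
        (MvPolynomial (Fin n) k ⧸ (GrSyz.irrel (GrSyz.stdGr k (Fin n))).toIdeal))).obj
      (ModuleCat.of (MvPolynomial (Fin n) k)
        (MvPolynomial (Fin n) k ⧸ (GrSyz.irrel (GrSyz.stdGr k (Fin n))).toIdeal))) := by
  haveI hmax := Groth.Agent.Helper13FreeRes.isMaximal_irrel_stdGr k (Fin n)
  haveI : Nontrivial (ModuleCat.of (MvPolynomial (Fin n) k)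
      (MvPolynomial (Fin n) k ⧸ (GrSyz.irrel (GrSyz.stdGr k (Fin n))).toIdeal)) :=
    Ideal.Quotient.nontrivial_iff.2 hmax.ne_top
  have h0 := not_isZero_tor_zero_self (ModuleCat.of (MvPolynomial (Fin n) k)
      (MvPolynomial (Fin n) k ⧸ (GrSyz.irrel (GrSyz.stdGr k (Fin n))).toIdeal))
  have h1 := Groth.Agent.Helper13AB.not_isZero_tor_add_length _
    (Groth.Agent.Helper13RegResidue.isWeaklyRegular_X k n) (by
      intro r hr x
      apply Groth.Agent.Helper13AB.smul_quot_eq_zero
      rw [← Groth.Agent.Helper13RegResidue.ofList_ofFn_X]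
      exact Ideal.subset_span hr) 0 h0
  intro hz
  apply h1
  have hlen : 0 + (List.ofFn (fun l : Fin n => (MvPolynomial.X l : MvPolynomial (Fin n) k))).length
      = n := by simp
  rw [hlen]
  have e : (MvPolynomial (Fin n) k ⧸
      (Ideal.ofList (List.ofFn (fun l : Fin n => (MvPolynomial.X l : MvPolynomial (Fin n) k))) •
        (⊤ : Submodule (MvPolynomial (Fin n) k) (MvPolynomial (Fin n) k)))) ≃ₗ[MvPolynomial (Fin n) k]
      (MvPolynomial (Fin n) k ⧸ (GrSyz.irrel (GrSyz.stdGr k (Fin n))).toIdeal) :=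
    Submodule.quotEquivOfEq _ _ (by
      rw [Groth.Agent.Helper13RegResidue.ofList_ofFn_X, smul_eq_mul, Ideal.mul_top])
  exact hz.of_iso ((((Tor (ModuleCat.{u} (MvPolynomial (Fin n) k)) n).obj _).mapIso
    e.toModuleIso))

/-- Let k be an algebraically closed field of characteristic zero, S = k[x_0, …, x_n] graded by degree,
𝔪 = (x_0, …, x_n), M a finitely generated ℤ-graded S-module and F a minimal graded free resolution
of M (finite-rank free modules with homogeneous bases, every matrix entry of every differential in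
𝔪) of length exactly ℓ: F_ℓ ≠ 0 and F_i = 0 for i > ℓ, so that ℓ is the projective dimension of M.
Then ℓ + depth(𝔪, M) = n + 1, where depth(𝔪, M) is the 𝔪-depth of M (supremum in ℕ∞ of the lengths
of M-regular sequences with terms in 𝔪). (The published statement is pd M = depth(𝔪, S) − depth(𝔪,
M) for a graded ring S with maximal ideal 𝔪 and a finitely generated module of finite projective
dimension; stated here, as the text then specialises it, for the polynomial ring, where depth(𝔪, S)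
= n + 1 and the projective dimension is the length of a minimal graded free resolution.) -/
theorem result (k : Type u) [Field k] [IsAlgClosed k] [CharZero k] (n : ℕ)
    (M : Type u) [AddCommGroup M] [Module k M] [Module (MvPolynomial (Fin (n + 1)) k) M]
    [IsScalarTower k (MvPolynomial (Fin (n + 1)) k) M] [Module.Finite (MvPolynomial (Fin (n + 1)) k) M]
    (ℳ : ℤ → Submodule k M) [DirectSum.Decomposition ℳ] [SetLike.GradedSMul (GrSyz.stdGr k (Fin (n + 1))) ℳ]
    (F : GrSyz.FreeRes (GrSyz.stdGr k (Fin (n + 1))) ℳ) (hF : F.IsMinimal (GrSyz.irrel (GrSyz.stdGr k (Fin (n + 1)))).toIdeal)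
    (ℓ : ℕ) (hℓ : F.HasLengthLE ℓ) (hℓ' : F.rk ℓ ≠ 0) :
    (ℓ : ℕ∞) + LocCoh.idealDepth (GrSyz.irrel (GrSyz.stdGr k (Fin (n + 1)))).toIdeal M = ((n + 1 : ℕ) : ℕ∞) := by
  classical
  haveI hmax := Groth.Agent.Helper13FreeRes.isMaximal_irrel_stdGr k (Fin (n + 1))
  have hN : ∀ (Y : ModuleCat.{u} (MvPolynomial (Fin (n + 1)) k)) (i : ℕ), n + 1 < i →
      CategoryTheory.Limits.IsZero (((CategoryTheory.Tor (ModuleCat.{u} (MvPolynomial (Fin (n + 1)) k)) i).obj
        (ModuleCat.of _ (MvPolynomial (Fin (n + 1)) k ⧸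
          (GrSyz.irrel (GrSyz.stdGr k (Fin (n + 1)))).toIdeal))).obj Y) :=
    fun Y i hi => Groth.Agent.Helper13Syzygy.isZero_tor_residue k (n + 1) Y i hi
  have hN' := not_isZero_tor_residue_residue k (n + 1)
  have hlen : ∀ i, Module.length (MvPolynomial (Fin (n + 1)) k)
        (((CategoryTheory.Tor (ModuleCat.{u} (MvPolynomial (Fin (n + 1)) k)) i).obj
            (ModuleCat.of (MvPolynomial (Fin (n + 1)) k) ((MvPolynomial (Fin (n + 1)) k) ⧸ (GrSyz.irrel (GrSyz.stdGr k (Fin (n + 1)))).toIdeal))).obj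
          (ModuleCat.of (MvPolynomial (Fin (n + 1)) k) M)) = (F.rk i : ℕ∞) :=
    fun i => Groth.Agent.S15436.result k n M ℳ F hF i
  have hTorℓ : ¬ CategoryTheory.Limits.IsZero
      (((CategoryTheory.Tor (ModuleCat.{u} (MvPolynomial (Fin (n + 1)) k)) ℓ).obj
        (ModuleCat.of (MvPolynomial (Fin (n + 1)) k) ((MvPolynomial (Fin (n + 1)) k) ⧸ (GrSyz.irrel (GrSyz.stdGr k (Fin (n + 1)))).toIdeal))).obj
          (ModuleCat.of (MvPolynomial (Fin (n + 1)) k) M)) := by
    intro hz
    have := ModuleCat.subsingleton_of_isZero hz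
    have h0 := hlen ℓ
    rw [Module.length_eq_zero_iff.2 this] at h0
    exact hℓ' (by exact_mod_cast h0.symm)
  have hTorgt : ∀ i, ℓ < i → CategoryTheory.Limits.IsZero
      (((CategoryTheory.Tor (ModuleCat.{u} (MvPolynomial (Fin (n + 1)) k)) i).obj
        (ModuleCat.of (MvPolynomial (Fin (n + 1)) k) ((MvPolynomial (Fin (n + 1)) k) ⧸ (GrSyz.irrel (GrSyz.stdGr k (Fin (n + 1)))).toIdeal))).obj
          (ModuleCat.of (MvPolynomial (Fin (n + 1)) k) M)) := by
    intro i hi
    have h0 := hlen i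
    rw [hℓ i hi, Nat.cast_zero, Module.length_eq_zero_iff] at h0
    exact ModuleCat.isZero_of_subsingleton _
  have hℓn : ℓ ≤ n + 1 := by
    by_contra hcon
    exact hTorℓ (hN _ ℓ (by omega))
  have hne : (GrSyz.irrel (GrSyz.stdGr k (Fin (n + 1)))).toIdeal •
      (⊤ : Submodule (MvPolynomial (Fin (n + 1)) k) M) ≠ ⊤ := by
    intro htop
    exact hTorℓ (Groth.Agent.Helper13AB.isZero_tor_of_smul_top_eq_top _ M htop ℓ)
  unfold LocCoh.idealDepth
  rw [if_neg hne]
  have hsup : (⨆ (rs : List (MvPolynomial (Fin (n + 1)) k))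
      (_ : RingTheory.Sequence.IsWeaklyRegular M rs ∧
        ∀ r ∈ rs, r ∈ (GrSyz.irrel (GrSyz.stdGr k (Fin (n + 1)))).toIdeal), (rs.length : ℕ∞)) =
      ((n + 1 - ℓ : ℕ) : ℕ∞) := by
    apply le_antisymm
    · apply iSup₂_le
      rintro rs ⟨hrs, hmem⟩
      have h1 := Groth.Agent.Helper13AB.not_isZero_tor_add_length _ hrs
        (fun r hr x => Groth.Agent.Helper13AB.smul_quot_eq_zero _ r (hmem r hr) x) ℓ hTorℓ
      have h2 : ℓ + rs.length ≤ n + 1 := by
        by_contra hcon
        exact h1 (hN _ _ (by omega))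
      exact_mod_cast (show rs.length ≤ n + 1 - ℓ by omega)
    · obtain ⟨rs, hrs, hmem, hl⟩ := Groth.Agent.Helper13AB.exists_regular_seq
        (GrSyz.irrel (GrSyz.stdGr k (Fin (n + 1)))).toIdeal (n + 1) hN hN' (n + 1 - ℓ) M ℓ
        (by omega) hTorgt
      rw [← hl]
      exact le_iSup₂ (f := fun (rs : List (MvPolynomial (Fin (n + 1)) k))
        (_ : RingTheory.Sequence.IsWeaklyRegular M rs ∧
          ∀ r ∈ rs, r ∈ (GrSyz.irrel (GrSyz.stdGr k (Fin (n + 1)))).toIdeal) => (rs.length : ℕ∞))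
        rs ⟨hrs, hmem⟩
  rw [hsup]
  exact_mod_cast (show ℓ + (n + 1 - ℓ) = n + 1 by omega)

end Groth.Agent.S16323
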