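import Groth.Statements.S16324
import Groth.Agent.S16323
import Groth.Agent.Lib.Helper29GrEGFinal
import Groth.Agent.Lib.Helper29GrConv2
import Groth.Agent.Lib.Helper29GrSerre3
import Groth.Agent.Lib.Helper29GrStdPolyLen
import Groth.Agent.Lib.Helper29GrCMEnd
import Groth.Agent.Lib.Helper8GV
import Groth.Agent.Lib.Helper8LCDepth

set_option autoImplicit false
universe u
open GrSyz

namespace Groth.Agent.S16324

/-- Let k be an algebraically closed field of characteristic zero, S = k[x_0, …, x_n] graded by degree,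
𝔪 = (x_0, …, x_n), and M a finitely generated ℤ-graded S-module which is Cohen–Macaulay: the Krull
dimension of its support equals its 𝔪-depth. Let F be a minimal graded free resolution of M of
length exactly ℓ (F_ℓ ≠ 0, F_i = 0 for i > ℓ; so ℓ = pd M) and let ρ be its regularity: every basis
vector of F_i has degree at most ρ + i, with equality for some i and some basis vector (so ρ = reg
M). Let P be the Hilbert polynomial of M, i.e. a polynomial over ℚ with dim_k M_d = P(d) for all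
sufficiently large d. Then dim_k M_d ≠ P(d) for d = ρ + ℓ − n − 1: the bound d ≥ reg M + pd M − n
beyond which the Hilbert function agrees with the Hilbert polynomial is sharp for Cohen–Macaulay
modules. (Part (1) of the published statement, the agreement for d ≥ reg M + pd M − n, follows from
the agreement for d at least the largest generator degree minus n and is not restated.) -/
theorem result (k : Type u) [Field k] [IsAlgClosed k] [CharZero k] (n : ℕ)
    (M : Type u) [AddCommGroup M] [Module k M] [Module (MvPolynomial (Fin (n + 1)) k) M]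
    [IsScalarTower k (MvPolynomial (Fin (n + 1)) k) M] [Module.Finite (MvPolynomial (Fin (n + 1)) k) M]
    (ℳ : ℤ → Submodule k M) [DirectSum.Decomposition ℳ] [SetLike.GradedSMul (GrSyz.stdGr k (Fin (n + 1))) ℳ]
    (hCM : Module.supportDim (MvPolynomial (Fin (n + 1)) k) M = ((LocCoh.idealDepth (GrSyz.irrel (GrSyz.stdGr k (Fin (n + 1)))).toIdeal M : ℕ∞) : WithBot ℕ∞))
    (F : GrSyz.FreeRes (GrSyz.stdGr k (Fin (n + 1))) ℳ) (hF : F.IsMinimal (GrSyz.irrel (GrSyz.stdGr k (Fin (n + 1)))).toIdeal)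
    (ℓ : ℕ) (hℓ : F.HasLengthLE ℓ) (hℓ' : F.rk ℓ ≠ 0)
    (ρ : ℤ) (hρ : F.IsGenLE ρ) (hρ' : ∃ (i : ℕ) (b : Fin (F.rk i)), F.deg i b = ρ + i)
    (P : Polynomial ℚ) (hP : ∃ d₁ : ℤ, ∀ d : ℤ, d₁ ≤ d → ((Module.finrank k ↥(ℳ d) : ℤ) : ℚ) = P.eval (d : ℚ)) :
    ((Module.finrank k ↥(ℳ (ρ + ℓ - n - 1)) : ℤ) : ℚ) ≠ P.eval ((ρ + ℓ - n - 1 : ℤ) : ℚ) := by
  classical
  have hAB := Groth.Agent.S16323.result k n M ℳ F hF ℓ hℓ hℓ'
  obtain ⟨δ, hδ⟩ : ∃ δ : ℕ, LocCoh.idealDepth
      (GrSyz.irrel (GrSyz.stdGr k (Fin (n + 1)))).toIdeal M = (δ : ℕ∞) := by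
    have hne : LocCoh.idealDepth (GrSyz.irrel (GrSyz.stdGr k (Fin (n + 1)))).toIdeal M ≠ ⊤ := by
      intro h
      rw [h, add_top] at hAB
      exact ENat.coe_ne_top _ hAB.symm
    exact ⟨_, (ENat.coe_toNat hne).symm⟩
  have hδℓ : ℓ + δ = n + 1 := by
    rw [hδ] at hAB
    exact_mod_cast hAB
  have hIM : (GrSyz.irrel (GrSyz.stdGr k (Fin (n + 1)))).toIdeal •
      (⊤ : Submodule (MvPolynomial (Fin (n + 1)) k) M) ≠ ⊤ := by
    intro h
    have h1 : LocCoh.idealDepth (GrSyz.irrel (GrSyz.stdGr k (Fin (n + 1)))).toIdeal M = ⊤ := by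
      unfold LocCoh.idealDepth
      rw [if_pos h]
    rw [hδ] at h1
    exact ENat.coe_ne_top _ h1
  obtain ⟨E⟩ : Nonempty (GrLC.StarInjRes (GrSyz.stdGr k (Fin (n + 1))) ℳ) :=
    Groth.Agent.Lib.Helper29GrConv2.exists_res (GrSyz.stdGr k (Fin (n + 1)))
  -- vanishing away from `δ`
  have hvan : ∀ i : ℕ, i ≠ δ → ∀ e : ℤ,
      E.Hcomp (GrSyz.irrel (GrSyz.stdGr k (Fin (n + 1)))) i e = ⊥ := by
    intro i hi e
    refine (Groth.Agent.Lib.Helper29GrConv.Hcomp_resAS_eq_bot_iff E _ i e).mp ?_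
    refine Groth.Agent.Lib.Helper29GrCMEnd.Hcomp_eq_bot_of_H_eq_zero
      (Groth.Agent.Lib.Helper29GrStdPoly.mm k (n + 1))
      (Groth.Agent.Lib.Helper29GrConv.resAS E) i ?_ e
    rcases lt_or_gt_of_ne hi with h | h
    · intro y
      refine Groth.Agent.Lib.Helper8.LC.H_eq_zero_of_lt_depth
        (GrSyz.irrel (GrSyz.stdGr k (Fin (n + 1)))).toIdeal (i + 1) M hIM ?_ i
        (Nat.lt_succ_self i) y
      rw [hδ]
      exact_mod_cast h
    · refine Groth.Agent.Lib.Helper8.GV.H_eq_zero_of_supportDim_lt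
        (GrSyz.irrel (GrSyz.stdGr k (Fin (n + 1)))).toIdeal i M ?_
      rw [hCM, hδ]
      exact_mod_cast h
  -- regularity
  have hreg := Groth.Agent.Lib.Helper29GrEG.reg_of_genLE F ℓ hℓ ρ hρ
  have hnreg : ¬ Groth.Agent.Lib.Helper29GrFree.Reg (Groth.Agent.Lib.Helper29GrStdPoly.mm k (n + 1))
      (Groth.Agent.Lib.Helper29GrEG.XM (n := n + 1) ℳ) (ρ - 1) := by
    intro h
    obtain ⟨i, b, hb⟩ := hρ'
    have h1 := (Groth.Agent.Lib.Helper29GrEG.genLE_of_reg F hF (ρ - 1) h i).2 b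
    omega
  rw [Groth.Agent.Lib.Helper29GrEGFinal.reg_iff_Hcomp E] at hreg hnreg
  push_neg at hnreg
  obtain ⟨i, e, hie, hne⟩ := hnreg
  have hiδ : i = δ := by
    by_contra hne'
    exact hne (hvan i hne' e)
  subst hiδ
  have he : ρ + ℓ - n - 1 = e := by
    by_contra h
    have h1 : ρ - (i : ℤ) < e := by omega
    exact hne (hreg i e h1)
  rw [he]
  -- the Serre formula
  obtain ⟨D₀, hD₀⟩ := Groth.Agent.Lib.Helper8.Cd.exists_bound
    (Groth.Agent.Lib.Helper29GrStdPoly.mm k (n + 1)).toIdeal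
  have hD : Groth.Agent.Lib.Helper8.Cd.Bound
      (Groth.Agent.Lib.Helper29GrStdPoly.mm k (n + 1)).toIdeal (max D₀ i) :=
    fun Y _ _ j hj y => hD₀ Y j (lt_of_le_of_lt (le_max_left _ _) hj) y
  have hhf : ∀ d : ℤ, Groth.Agent.Lib.Helper29GrSerre.hf
      (Groth.Agent.Lib.Helper29GrStdPoly.A k (n + 1))
      (Groth.Agent.Lib.Helper29GrConv.asGr ℳ) d = Module.finrank k ↥(ℳ d) := fun d =>
    Groth.Agent.Lib.Helper29GrStdPolyLen.toNat_length_comp ℳ d
  have hP' : ∃ N₀ : ℤ, ∀ d : ℤ, N₀ ≤ d → P.eval (d : ℚ) =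
      (Groth.Agent.Lib.Helper29GrSerre.hf (Groth.Agent.Lib.Helper29GrStdPoly.A k (n + 1))
        (Groth.Agent.Lib.Helper29GrConv.asGr ℳ) d : ℚ) := by
    obtain ⟨d₁, hd₁⟩ := hP
    refine ⟨d₁, fun d hd => ?_⟩
    rw [hhf d, ← hd₁ d hd, Int.cast_natCast]
  have key := Groth.Agent.Lib.Helper29GrSerre.serre_aux
    (Groth.Agent.Lib.Helper29GrStdPoly.mm k (n + 1))
    (Groth.Agent.Lib.Helper29GrStdPoly.hpos k (n + 1))
    (Groth.Agent.Lib.Helper29GrStdPoly.ha k (n + 1)) (max D₀ i) hD M ⊥ M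
    (Groth.Agent.Lib.Helper29GrConv.asGr ℳ) LinearMap.id Function.surjective_id LinearMap.ker_id
    (Groth.Agent.Lib.Helper29GrConv.resAS E) P hP' e
  intro heq
  rw [hhf e, ← heq, Int.cast_natCast, sub_self] at key
  have hchi : Groth.Agent.Lib.Helper29GrSerre.chi
      (Groth.Agent.Lib.Helper29GrStdPoly.mm k (n + 1)) (max D₀ i)
      (Groth.Agent.Lib.Helper29GrConv.resAS E) e = 0 := by exact_mod_cast key.symm
  unfold Groth.Agent.Lib.Helper29GrSerre.chi Groth.Agent.Lib.Helper29GrEulerAdd.hl at hchi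
  rw [Finset.sum_eq_single_of_mem i
    (Finset.mem_range.mpr (Nat.lt_succ_of_le (le_max_right D₀ i)))] at hchi
  swap
  · intro j _ hji
    have hbot : (Groth.Agent.Lib.Helper29GrConv.resAS E).Hcomp
        (Groth.Agent.Lib.Helper29GrStdPoly.mm k (n + 1)) j e = ⊥ :=
      (Groth.Agent.Lib.Helper29GrConv.Hcomp_resAS_eq_bot_iff E _ j e).mpr (hvan j hji e)
    haveI : Subsingleton ↥((Groth.Agent.Lib.Helper29GrConv.resAS E).Hcomp
        (Groth.Agent.Lib.Helper29GrStdPoly.mm k (n + 1)) j e) :=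
      Submodule.subsingleton_iff_eq_bot.mpr hbot
    have hz : Module.length (GrLC.deg0 (Groth.Agent.Lib.Helper29GrStdPoly.A k (n + 1)))
        ↥((Groth.Agent.Lib.Helper29GrConv.resAS E).Hcomp
          (Groth.Agent.Lib.Helper29GrStdPoly.mm k (n + 1)) j e) = 0 := Module.length_eq_zero
    rw [hz]
    simp
  rcases mul_eq_zero.mp hchi with h | h
  · exact absurd h (pow_ne_zero _ (by norm_num))
  · have h1 : (Module.length (GrLC.deg0 (Groth.Agent.Lib.Helper29GrStdPoly.A k (n + 1)))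
        ↥((Groth.Agent.Lib.Helper29GrConv.resAS E).Hcomp
          (Groth.Agent.Lib.Helper29GrStdPoly.mm k (n + 1)) i e)).toNat = 0 := by exact_mod_cast h
    rcases (ENat.toNat_eq_zero).mp h1 with h2 | h2
    · exact hne ((Groth.Agent.Lib.Helper29GrConv.Hcomp_resAS_eq_bot_iff E _ i e).mp
        (Submodule.subsingleton_iff_eq_bot.mp (Module.length_eq_zero_iff.mp h2)))
    · exact Groth.Agent.Lib.Helper29GrSerre.length_Hcomp_ne_top
        (Groth.Agent.Lib.Helper29GrStdPoly.mm k (n + 1))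
        (Groth.Agent.Lib.Helper29GrStdPoly.hpos k (n + 1))
        (Groth.Agent.Lib.Helper29GrStdPoly.ha k (n + 1))
        (Groth.Agent.Lib.Helper29GrConv.resAS E) i e h2

end Groth.Agent.S16324
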