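import Groth.Statements.S16328
import Mathlib
import Groth.Agent.Lib.Helper24Chain

set_option autoImplicit false
universe v
open CategoryTheory
open W4c3biextchow

namespace Groth.Agent.S16328

/-- Let f : A' ⟶ A and p : A ⟶ A'' be chain maps of ℕ-indexed chain complexes of free abelian groups
forming a short exact sequence in every degree (f injective, p surjective, image of f equal to the
kernel of p), and assume f is a quasi-isomorphism. Then there is a chain map h : A'' ⟶ A such that
in every degree q the map (a'', a') ↦ h(a'') + f(a') is a bijection from A''_q × A'_q onto A_q, so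
that A is the direct sum of the subcomplexes f(A') and h(A''). (The source allows complexes indexed
by all integers; stated here for complexes in non-negative degrees.) -/
theorem result
    (A' A A'' : ChainComplex (ModuleCat.{v} ℤ) ℕ) (f : A' ⟶ A) (p : A ⟶ A'')
    [∀ q, Module.Free ℤ (A'.X q)] [∀ q, Module.Free ℤ (A.X q)] [∀ q, Module.Free ℤ (A''.X q)]
    (hf : ∀ q, Function.Injective (f.f q).hom) (hp : ∀ q, Function.Surjective (p.f q).hom)
    (hfp : ∀ q, Function.Exact (f.f q).hom (p.f q).hom) [QuasiIso f] :
    ∃ h : A'' ⟶ A, ∀ q : ℕ,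
      Function.Bijective (fun x : A''.X q × A'.X q => (h.f q).hom x.1 + (f.f q).hom x.2) := by
  have hproj : ∀ n, Projective (A''.X n) := fun n =>
    (IsProjective.iff_projective (R := ℤ) (P := A''.X n)).1 inferInstance
  obtain ⟨_, h, hh⟩ := Groth.Agent.Lib.Helper24Chain.exists_section f p hf hp hfp
  refine ⟨h, fun q => ?_⟩
  have hph : ∀ x : A''.X q, (p.f q).hom ((h.f q).hom x) = x := by
    intro x
    have h1 : (h ≫ p).f q = (𝟙 A'' : A'' ⟶ A'').f q := by rw [hh]
    have h2 := congrArg (fun φ : A''.X q ⟶ A''.X q => φ.hom x) h1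
    simpa using h2
  have hpf : ∀ a' : A'.X q, (p.f q).hom ((f.f q).hom a') = 0 := (hfp q).apply_apply_eq_zero
  constructor
  · rintro ⟨x, a'⟩ ⟨y, b'⟩ hxy
    have hxy' : (h.f q).hom x + (f.f q).hom a' = (h.f q).hom y + (f.f q).hom b' := hxy
    have h1 := congrArg (p.f q).hom hxy'
    rw [map_add, map_add, hph, hph, hpf, hpf, add_zero, add_zero] at h1
    subst h1
    have h2 : (f.f q).hom a' = (f.f q).hom b' := add_left_cancel hxy'
    rw [hf q h2]
  · intro a
    have h1 : (p.f q).hom (a - (h.f q).hom ((p.f q).hom a)) = 0 := by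
      rw [map_sub, hph, sub_self]
    obtain ⟨a', ha'⟩ := (hfp q _).1 h1
    refine ⟨((p.f q).hom a, a'), ?_⟩
    show (h.f q).hom ((p.f q).hom a) + (f.f q).hom a' = a
    rw [ha']; abel

end Groth.Agent.S16328
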