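import Groth.Statements.S16331
import Mathlib
import Groth.Agent.Lib.Helper24Chain
import Groth.Agent.Lib.Helper24CxGroupoid

set_option autoImplicit false
universe v
open CategoryTheory
open W4c3biextchow

namespace Groth.Agent.S16331

/-- Let f : A' ⟶ A be a chain map of ℕ-indexed chain complexes of free abelian groups which is injective
in every degree, with free degreewise quotients A_q / f(A'_q), and a quasi-isomorphism; let h' : A'
⟶ B be a chain map to another complex of free abelian groups and g₁, g₂ : A ⟶ A' two chain maps with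
f ≫ g₁ = f ≫ g₂ = 𝟙. Consider the functors induced by g₁ ≫ h' and g₂ ≫ h' between the groupoids
attached to A and B (objects: degree-0 elements; morphisms a ⟶ b: degree-1 elements with boundary b
- a, modulo boundaries of degree-2 elements). Then there is a natural isomorphism between these two
functors whose component at every object of the form f(a'), a' a degree-0 element of A', is the zero
class, i.e. the identity morphism of h'(a'). -/
theorem result
    (A' A B : ChainComplex (ModuleCat.{v} ℤ) ℕ) (f : A' ⟶ A) (h' : A' ⟶ B)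
    [∀ q, Module.Free ℤ (A'.X q)] [∀ q, Module.Free ℤ (A.X q)] [∀ q, Module.Free ℤ (B.X q)]
    (hf : ∀ q, Function.Injective (f.f q).hom)
    (hq : ∀ q, Module.Free ℤ ((A.X q) ⧸ LinearMap.range (f.f q).hom)) [QuasiIso f]
    (g₁ g₂ : A ⟶ A') (h₁ : f ≫ g₁ = 𝟙 A') (h₂ : f ≫ g₂ = 𝟙 A') :
    ∃ N : W4c3biextchow.cxFunctor (g₁ ≫ h') ≅ W4c3biextchow.cxFunctor (g₂ ≫ h'),
      ∀ a : W4c3biextchow.Obj A',
        (N.hom.app ((W4c3biextchow.cxFunctor f).obj a) : W4c3biextchow.Hom B _ _).cl = 0 := by
  have hproj : ∀ q, Projective ((Limits.cokernel f).X q) := fun q => by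
    have := hq q
    have hfree : Module.Free ℤ ((Limits.cokernel f).X q) :=
      Module.Free.of_equiv (AddEquiv.toIntLinearEquiv
        (Groth.Agent.Lib.Helper24Chain.cokernelXAddEquiv f hf q))
    exact (IsProjective.iff_projective (R := ℤ) (P := (Limits.cokernel f).X q)).1 inferInstance
  obtain ⟨H, hH⟩ := Groth.Agent.Lib.Helper24Chain.exists_homotopy_retractions f hf g₁ g₂ h₁ h₂
  obtain ⟨N, hN⟩ := Groth.Agent.Lib.Helper24CxGroupoid.exists_natIso_of_homotopy (H.compRight h')
  refine ⟨N, fun a => ?_⟩
  rw [hN]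
  have h0 : (H.hom 0 1).hom ((f.f 0).hom a.pt) = 0 := by
    have := congrArg (fun m : A'.X 0 ⟶ A'.X 1 => m.hom a.pt) (hH 0 1)
    simpa using this
  have h1 : ((H.compRight h').hom 0 1).hom ((W4c3biextchow.cxFunctor f).obj a).pt = 0 := by
    rw [Homotopy.compRight_hom, W4c3biextchow.cxFunctor_obj_pt, ModuleCat.hom_comp,
      LinearMap.comp_apply, h0, map_zero]
  rw [h1, neg_zero, Submodule.Quotient.mk_zero]

end Groth.Agent.S16331
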