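import Groth.Statements.S16335
import Mathlib

set_option autoImplicit false
universe u v w w'
open TensorProduct
open InvTh

namespace Groth.Agent.S16335

/-- Let `R` be a commutative ring with an action of a finite group `Γ` by ring automorphisms such that
the order of `Γ` is invertible in `R`, and let `A → R` be injective with image exactly the
invariants `R^Γ`, the action being `A`-linear. Then for every commutative `A`-algebra `S`, with `Γ`
acting on `S ⊗_A R` through the factor `R`, the map `S → S ⊗_A R`, `s ↦ s ⊗ 1`, is injective and its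
image is exactly the set of `Γ`-fixed elements: `S ≅ (S ⊗_A R)^Γ`. No flatness of `S` over `A` is
assumed; the invertibility of the order of `Γ` replaces it. This is the affine statement that for a
tame quotient the coarse space commutes with arbitrary base change. (The published lemma is the
statement that the coarse moduli space of a tame Deligne–Mumford stack commutes with arbitrary base
change, whose proof reduces to this ring statement. The published lemma also asserts the analogous
statement for the reduced fibre product when the base-change scheme is reduced; that clause is not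
part of this row.) -/
theorem result
    (A : Type u) [CommRing A] (R : Type v) [CommRing R] [Algebra A R]
    (Γ : Type w) [Group Γ] [Finite Γ] [MulSemiringAction Γ R] [SMulCommClass Γ A R]
    [Algebra.IsInvariant A R Γ] (hinj : Function.Injective (algebraMap A R))
    (hΓ : IsUnit (Nat.card Γ : R))
    (S : Type w') [CommRing S] [Algebra A S] :
    Function.Injective (fun s : S => s ⊗ₜ[A] (1 : R)) ∧
      ∀ x : S ⊗[A] R,
        (∀ γ : Γ, Algebra.TensorProduct.map (AlgHom.id A S) (MulSemiringAction.toAlgHom A R γ) x = x) →
          x ∈ Set.range (fun s : S => s ⊗ₜ[A] (1 : R)) := by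
  classical
  have := Fintype.ofFinite Γ
  -- the order of Γ is invertible already in A
  obtain ⟨v, hv⟩ : ∃ v : A, v * (Fintype.card Γ : A) = 1 := by
    obtain ⟨u, hu⟩ := hΓ
    have hfix : ∀ γ : Γ, γ • (↑(u⁻¹) : R) = ↑(u⁻¹) := by
      intro γ
      have h1 : γ • (u : R) = u := by
        rw [hu]
        exact map_natCast (MulSemiringAction.toRingHom Γ R γ) _
      have h2 : (γ • (↑(u⁻¹) : R)) * u = 1 := by
        calc (γ • (↑(u⁻¹) : R)) * u = (γ • (↑(u⁻¹) : R)) * (γ • (u : R)) := by rw [h1]
          _ = γ • ((↑(u⁻¹) : R) * u) := (smul_mul' γ _ _).symm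
          _ = 1 := by rw [Units.inv_mul, smul_one]
      calc γ • (↑(u⁻¹) : R) = (γ • (↑(u⁻¹) : R)) * (u * ↑(u⁻¹)) := by rw [Units.mul_inv, mul_one]
        _ = ↑(u⁻¹) := by rw [← mul_assoc, h2, one_mul]
    obtain ⟨a₀, ha₀⟩ := Algebra.IsInvariant.isInvariant (A := A) (G := Γ) (↑(u⁻¹) : R) hfix
    refine ⟨a₀, hinj ?_⟩
    rw [map_mul, ha₀, map_natCast, map_one, ← Nat.card_eq_fintype_card, ← hu, Units.inv_mul]
  -- averaging operator on R
  let avgR : R →ₗ[A] R := v • ∑ γ : Γ, (MulSemiringAction.toAlgHom A R γ).toLinearMap
  have havg_apply : ∀ r : R, avgR r = v • ∑ γ : Γ, γ • r := by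
    intro r
    simp only [avgR, LinearMap.smul_apply, LinearMap.sum_apply, AlgHom.toLinearMap_apply,
      MulSemiringAction.toAlgHom_apply]
  have havg_fixed : ∀ (r : R) (γ' : Γ), γ' • avgR r = avgR r := by
    intro r γ'
    rw [havg_apply, smul_comm, Finset.smul_sum]
    congr 1
    simp_rw [← mul_smul]
    exact Fintype.sum_bijective (fun γ => γ' * γ) (Group.mulLeft_bijective γ') _ _ (fun _ => rfl)
  have havg_of_fixed : ∀ r : R, (∀ γ : Γ, γ • r = r) → avgR r = r := by
    intro r hr
    rw [havg_apply]
    simp_rw [hr]
    rw [Finset.sum_const, Finset.card_univ, ← Nat.cast_smul_eq_nsmul A, ← mul_smul, hv, one_smul]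
  let ι : A →ₗ[A] R := Algebra.linearMap A R
  have hrange : ∀ r, avgR r ∈ LinearMap.range ι := by
    intro r
    obtain ⟨a, ha⟩ := Algebra.IsInvariant.isInvariant (A := A) (G := Γ) (avgR r) (havg_fixed r)
    exact ⟨a, ha⟩
  let ρ : R →ₗ[A] A :=
    (LinearEquiv.ofInjective ι hinj).symm.toLinearMap ∘ₗ (avgR.codRestrict (LinearMap.range ι) hrange)
  have hρ : ∀ r, algebraMap A R (ρ r) = avgR r := by
    intro r
    have := (LinearEquiv.ofInjective ι hinj).apply_symm_apply
      (avgR.codRestrict (LinearMap.range ι) hrange r)
    exact congrArg Subtype.val this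
  have hρ1 : ρ 1 = 1 := by
    apply hinj
    rw [hρ, havg_of_fixed 1 (fun γ => smul_one γ), map_one]
  constructor
  · -- injectivity through the retraction
    let T : S ⊗[A] R →ₗ[A] S := (TensorProduct.rid A S).toLinearMap ∘ₗ (LinearMap.lTensor S ρ)
    have hT : ∀ s : S, T (s ⊗ₜ[A] (1 : R)) = s := by
      intro s
      simp [T, hρ1]
    intro s s' hss
    have := congrArg T hss
    simpa [hT] using this
  · intro x hx
    have hmap : ∀ (γ : Γ) (y : S ⊗[A] R),
        Algebra.TensorProduct.map (AlgHom.id A S) (MulSemiringAction.toAlgHom A R γ) y =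
          LinearMap.lTensor S (MulSemiringAction.toAlgHom A R γ).toLinearMap y := by
      intro γ y
      induction y using TensorProduct.induction_on with
      | zero => simp
      | tmul s r => simp
      | add y z hy hz => rw [map_add, map_add, hy, hz]
    have hx' : LinearMap.lTensor S avgR x = x := by
      have h5 : LinearMap.lTensor S avgR =
          v • ∑ γ : Γ, LinearMap.lTensor S (MulSemiringAction.toAlgHom A R γ).toLinearMap := by
        simp only [avgR, LinearMap.lTensor_smul]
        congr 1
        rw [← LinearMap.coe_lTensorHom, map_sum]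
      rw [h5]
      simp only [LinearMap.smul_apply, LinearMap.sum_apply]
      simp_rw [← hmap, hx]
      rw [Finset.sum_const, Finset.card_univ, ← Nat.cast_smul_eq_nsmul A, ← mul_smul, hv, one_smul]
    rw [← hx']
    clear hx' hx
    induction x using TensorProduct.induction_on with
    | zero => exact ⟨0, by simp⟩
    | tmul s r =>
      refine ⟨ρ r • s, ?_⟩
      simp only [LinearMap.lTensor_tmul]
      rw [← hρ, Algebra.algebraMap_eq_smul_one, TensorProduct.smul_tmul]
    | add y z hy hz =>
      obtain ⟨a, ha⟩ := hy
      obtain ⟨b, hb⟩ := hz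
      refine ⟨a + b, ?_⟩
      simp only at ha hb ⊢
      rw [map_add, TensorProduct.add_tmul, ha, hb]

end Groth.Agent.S16335
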