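import Groth.Statements.S16337
import Mathlib

set_option autoImplicit false
universe u v w
open InvTh

namespace Groth.Agent.S16337

/-- Let `A` be a commutative ring, `Γ` a finite group whose order is invertible in `A`, `M` an
`A`-module with an `A`-linear action of `Γ`, and `I` an ideal of `A`. Then reduction modulo `I`
induces a bijection `M^Γ / I·M^Γ ≅ (M / IM)^Γ`: (a) an element of `M` fixed by `Γ` modulo `IM` is
congruent modulo `IM` to a `Γ`-fixed element, and (b) a `Γ`-fixed element lying in `IM` lies in
`I·M^Γ`, where `M^Γ` is the submodule of `Γ`-fixed elements. (The published lemma says that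
push-forward to the coarse space of a tame stack over a complete local base commutes with reduction
modulo powers of the maximal ideal; this row is the module statement its proof establishes, for an
arbitrary ideal.) -/
theorem result
    (A : Type u) [CommRing A] (Γ : Type v) [Group Γ] [Finite Γ] (hΓ : IsUnit (Nat.card Γ : A))
    (M : Type w) [AddCommGroup M] [Module A M] [DistribMulAction Γ M] [SMulCommClass Γ A M]
    (I : Ideal A) :
    (∀ x : M, (∀ γ : Γ, γ • x - x ∈ I • (⊤ : Submodule A M)) →
        ∃ y : M, (∀ γ : Γ, γ • y = y) ∧ x - y ∈ I • (⊤ : Submodule A M)) ∧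
      ∀ y : M, (∀ γ : Γ, γ • y = y) → y ∈ I • (⊤ : Submodule A M) →
        y ∈ I • Submodule.span A {m : M | ∀ γ : Γ, γ • m = m} := by
  classical
  have := Fintype.ofFinite Γ
  obtain ⟨u, hu⟩ := hΓ
  have hcard : (↑(u⁻¹) : A) * (Fintype.card Γ : A) = 1 := by
    rw [← Nat.card_eq_fintype_card, ← hu]
    exact Units.inv_mul u
  -- the averaging operator
  let e : M →ₗ[A] M := (↑(u⁻¹) : A) • ∑ γ : Γ, DistribSMul.toLinearMap A M γ
  have he_apply : ∀ m : M, e m = (↑(u⁻¹) : A) • ∑ γ : Γ, γ • m := by
    intro m
    simp only [e, LinearMap.smul_apply, LinearMap.sum_apply, DistribSMul.toLinearMap_apply]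
  have he_fixed : ∀ (m : M) (γ' : Γ), γ' • e m = e m := by
    intro m γ'
    rw [he_apply, smul_comm, Finset.smul_sum]
    congr 1
    simp_rw [← mul_smul]
    exact Fintype.sum_bijective (fun γ => γ' * γ) (Group.mulLeft_bijective γ') _ _ (fun _ => rfl)
  have he_of_fixed : ∀ y : M, (∀ γ : Γ, γ • y = y) → e y = y := by
    intro y hy
    rw [he_apply]
    simp_rw [hy]
    rw [Finset.sum_const, Finset.card_univ, ← Nat.cast_smul_eq_nsmul A, ← mul_smul, hcard, one_smul]
  constructor
  · intro x hx
    refine ⟨e x, he_fixed x, ?_⟩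
    have : x - e x = (↑(u⁻¹) : A) • ∑ γ : Γ, (x - γ • x) := by
      rw [he_apply, Finset.sum_sub_distrib, smul_sub, Finset.sum_const, Finset.card_univ,
        ← Nat.cast_smul_eq_nsmul A, ← mul_smul, hcard, one_smul]
    rw [this]
    refine Submodule.smul_mem _ _ (Submodule.sum_mem _ fun γ _ => ?_)
    have := hx γ
    rw [← neg_sub] at this
    exact (Submodule.neg_mem_iff _).mp this
  · intro y hy hyI
    rw [← he_of_fixed y hy]
    have hmap : Submodule.map e (I • (⊤ : Submodule A M)) ≤
        I • Submodule.span A {m : M | ∀ γ : Γ, γ • m = m} := by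
      rw [Submodule.map_smul'']
      refine Submodule.smul_mono le_rfl ?_
      rintro _ ⟨m, -, rfl⟩
      exact Submodule.subset_span (he_fixed m)
    exact hmap ⟨y, hyI, rfl⟩

end Groth.Agent.S16337
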