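import Groth.Statements.S16343
import Mathlib
import Groth.Agent.Lib.Helper24PSplit

set_option autoImplicit false
open KatoHom

namespace Groth.Agent.S16343

/-- Let P be a set of primes and π : A → T a surjection of abelian groups whose kernel is ℓ-divisible
for every ℓ ∈ P, with T a torsion group; let T(P) be the subgroup of elements of T killed by a
positive integer all of whose prime factors lie in P, and T' the subgroup of elements killed by a
positive integer none of whose prime factors lies in P. Then the preimage π⁻¹(T') is ℓ-divisible for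
every ℓ ∈ P, and π has a section s over T(P) for which (d, t) ↦ d + s(t) is a bijection from π⁻¹(T')
× T(P) onto A, so that A is the direct sum of π⁻¹(T') and a copy of T(P). (The decomposition is
expressed through a section of π over T(P).) -/
theorem result
    {A T : Type*} [AddCommGroup A] [AddCommGroup T] (P : Set ℕ) (hP : ∀ p ∈ P, p.Prime)
    (π : A →+ T) (hπ : Function.Surjective π) (hT : ∀ t : T, ∃ n : ℕ, 0 < n ∧ n • t = 0)
    (hD : ∀ ℓ ∈ P, ∀ x ∈ π.ker, ∃ y ∈ π.ker, ℓ • y = x)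
    (TP T' : AddSubgroup T)
    (hTP : ∀ t, t ∈ TP ↔ ∃ n : ℕ, 0 < n ∧ (∀ p : ℕ, p.Prime → p ∣ n → p ∈ P) ∧ n • t = 0)
    (hT' : ∀ t, t ∈ T' ↔ ∃ n : ℕ, 0 < n ∧ (∀ p : ℕ, p.Prime → p ∣ n → p ∉ P) ∧ n • t = 0) :
    (∀ ℓ ∈ P, ∀ x ∈ T'.comap π, ∃ y ∈ T'.comap π, ℓ • y = x) ∧
    ∃ s : TP →+ A, (∀ t : TP, π (s t) = (t : T)) ∧
      Function.Bijective (fun q : (T'.comap π) × TP => (q.1 : A) + s q.2) := by
  have h := Groth.Agent.Lib.Helper24PSplit.main (P := P) π hπ hT hD TP T'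
    (fun t => (hTP t).trans ⟨fun ⟨n, h0, hp, hn⟩ => ⟨n, ⟨h0, hp⟩, hn⟩,
      fun ⟨n, ⟨h0, hp⟩, hn⟩ => ⟨n, h0, hp, hn⟩⟩)
    (fun t => (hT' t).trans ⟨fun ⟨n, h0, hp, hn⟩ => ⟨n, ⟨h0, hp⟩, hn⟩,
      fun ⟨n, ⟨h0, hp⟩, hn⟩ => ⟨n, h0, hp, hn⟩⟩)
  exact ⟨fun ℓ hℓ => h.1 ℓ hℓ (hP ℓ hℓ), h.2⟩

end Groth.Agent.S16343
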