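import Groth.Statements.S16344
import Mathlib

set_option autoImplicit false
universe u v
open IdeleMod

namespace Groth.Agent.S16344

theorem exists_compatible {ι : Type u} [Preorder ι] [IsDirected ι (· ≤ ·)]
    (G : ι → Type v) [∀ i, AddCommGroup (G i)] [∀ i, TopologicalSpace (G i)]
    [∀ i, CompactSpace (G i)] [∀ i, T2Space (G i)]
    (f : ∀ ⦃i j : ι⦄, i ≤ j → (G j →+ G i)) (hf : ∀ i j (h : i ≤ j), Continuous (f h))
    (hcomp : ∀ i j k (hij : i ≤ j) (hjk : j ≤ k) (x : G k), f hij (f hjk x) = f (hij.trans hjk) x)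
    (A : ∀ i, Set (G i)) (hA : ∀ i, IsClosed (A i))
    (hne : ∀ k, ∃ a : G k, ∀ i (h : i ≤ k), f h a ∈ A i) :
    ∃ z : ∀ i, G i, (∀ i j (h : i ≤ j), f h (z j) = z i) ∧ ∀ i, z i ∈ A i := by
  classical
  rcases isEmpty_or_nonempty ι with hι | hι
  · exact ⟨fun i => (hι.false i).elim, fun i => (hι.false i).elim, fun i => (hι.false i).elim⟩
  let T : {p : ι × ι // p.1 ≤ p.2} → Set (∀ i, G i) :=
    fun p => {z | f p.2 (z p.1.2) = z p.1.1 ∧ z p.1.1 ∈ A p.1.1}
  have hT : ∀ p, IsClosed (T p) := by
    intro p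
    apply IsClosed.inter
    · exact isClosed_eq ((hf _ _ p.2).comp (continuous_apply _)) (continuous_apply _)
    · exact (hA _).preimage (continuous_apply _)
  have key := isCompact_univ.inter_iInter_nonempty T hT ?_
  · obtain ⟨z, -, hz⟩ := key
    rw [Set.mem_iInter] at hz
    exact ⟨z, fun i j h => (hz ⟨(i, j), h⟩).1, fun i => (hz ⟨(i, i), le_refl i⟩).2⟩
  · intro u
    obtain ⟨k, hk⟩ := (u.image (fun p => p.1.2)).exists_le
    obtain ⟨a, ha⟩ := hne k
    refine ⟨fun i => if h : i ≤ k then f h a else 0, Set.mem_univ _, ?_⟩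
    simp only [Set.mem_iInter]
    intro p hp
    have hjk : p.1.2 ≤ k := hk _ (Finset.mem_image_of_mem _ hp)
    have hik : p.1.1 ≤ k := p.2.trans hjk
    constructor
    · simp only [dif_pos hjk, dif_pos hik]
      exact hcomp _ _ _ _ _ _
    · simp only [dif_pos hik]
      exact ha _ hik

/-- Let (G_i) be an inverse system, indexed by a directed preorder, of compact Hausdorff topological
abelian groups with continuous surjective transition maps, let G be its limit (the group of
compatible families) and let m be a natural number. Then the canonical map G/mG → lim G_i/mG_i is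
bijective: a compatible family that lies in mG_i at every index is m times a compatible family
(injectivity), and every family that is compatible modulo m agrees modulo m, index by index, with a
compatible family (surjectivity). -/
theorem result
    {ι : Type u} [Preorder ι] [IsDirected ι (· ≤ ·)]
    (G : ι → Type v) [∀ i, AddCommGroup (G i)] [∀ i, TopologicalSpace (G i)]
    [∀ i, IsTopologicalAddGroup (G i)] [∀ i, CompactSpace (G i)] [∀ i, T2Space (G i)]
    (f : ∀ ⦃i j : ι⦄, i ≤ j → (G j →+ G i)) (hf : ∀ i j (h : i ≤ j), Continuous (f h))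
    (hid : ∀ i (x : G i), f (le_refl i) x = x)
    (hcomp : ∀ i j k (hij : i ≤ j) (hjk : j ≤ k) (x : G k), f hij (f hjk x) = f (hij.trans hjk) x)
    (hsurj : ∀ i j (h : i ≤ j), Function.Surjective (f h)) (m : ℕ) :
    (∀ x : ∀ i, G i, (∀ i j (h : i ≤ j), f h (x j) = x i) → (∀ i, ∃ y : G i, m • y = x i) →
        ∃ z : ∀ i, G i, (∀ i j (h : i ≤ j), f h (z j) = z i) ∧ ∀ i, m • z i = x i) ∧
    (∀ y : ∀ i, G i, (∀ i j (h : i ≤ j), ∃ w : G i, f h (y j) - y i = m • w) →
        ∃ x : ∀ i, G i, (∀ i j (h : i ≤ j), f h (x j) = x i) ∧ ∀ i, ∃ w : G i, x i - y i = m • w) := by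
  refine ⟨?_, ?_⟩
  · intro x hx hdiv
    have hne : ∀ k, ∃ a : G k, ∀ i (h : i ≤ k), f h a ∈ {y | m • y = x i} := by
      intro k
      obtain ⟨y, hy⟩ := hdiv k
      refine ⟨y, fun i h => ?_⟩
      show m • f h y = x i
      rw [← map_nsmul, hy, hx]
    obtain ⟨z, hz, hzA⟩ := exists_compatible G f hf hcomp (fun i => {y | m • y = x i})
      (fun i => isClosed_eq (continuous_const_smul m) continuous_const) hne
    exact ⟨z, hz, hzA⟩
  · intro y hy
    have hcl : ∀ i, IsClosed ((fun z : G i => z - y i) ⁻¹' Set.range (fun w : G i => m • w)) := by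
      intro i
      exact ((isCompact_range (continuous_const_smul m)).isClosed).preimage
        (continuous_id.sub continuous_const)
    have hne : ∀ k, ∃ a : G k, ∀ i (h : i ≤ k),
        f h a ∈ (fun z : G i => z - y i) ⁻¹' Set.range (fun w : G i => m • w) := by
      intro k
      refine ⟨y k, fun i h => ?_⟩
      obtain ⟨w, hw⟩ := hy i k h
      exact ⟨w, hw.symm⟩
    obtain ⟨z, hz, hzA⟩ := exists_compatible G f hf hcomp
      (fun i => (fun z : G i => z - y i) ⁻¹' Set.range (fun w : G i => m • w)) hcl hne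
    refine ⟨z, hz, fun i => ?_⟩
    obtain ⟨w, hw⟩ := hzA i
    exact ⟨w, hw.symm⟩

end Groth.Agent.S16344
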