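import Groth.Statements.S16346
import Mathlib

set_option autoImplicit false
universe u v
open KatoHom

namespace Groth.Agent.S16346

/-- Let P be a set of primes and I_P the set of positive integers all of whose prime factors lie in P.
Let A be an abelian group, (B_n)_{n ∈ I_P} an inverse system of abelian groups with transition maps
B_n → B_m for m ∣ n, and φ_n : A → B_n homomorphisms vanishing on nA and compatible with the
transition maps, so that they induce φ̂ : Â → B̂ on the limits Â = lim A/nA and B̂ = lim B_n (limits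
taken as compatible families). Suppose some N ∈ I_P kills the torsion subgroup of B̂ and kills the
kernel of φ̂ (the latter meaning: a compatible family of residues (a_n) with φ_n(a_n) = 0 for all n
has N a_n ∈ nA for all n). Then the subgroup ⋂_{n ∈ I_P} nA is ℓ-divisible for every ℓ ∈ P, and it
contains every subgroup of A that is ℓ-divisible for all ℓ ∈ P; that is, it is the largest
P-divisible subgroup of A. -/
theorem result
    {A : Type u} [AddCommGroup A] (P : Set ℕ) (hP : ∀ p ∈ P, p.Prime)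
    (IP : Set ℕ) (hIP : ∀ n, n ∈ IP ↔ 0 < n ∧ ∀ p : ℕ, p.Prime → p ∣ n → p ∈ P)
    (B : IP → Type v) [∀ n, AddCommGroup (B n)]
    (g : ∀ ⦃m n : IP⦄, (m : ℕ) ∣ (n : ℕ) → (B n →+ B m))
    (hgid : ∀ (n : IP) (b : B n), g (dvd_refl (n : ℕ)) b = b)
    (hgcomp : ∀ (k m n : IP) (hkm : (k : ℕ) ∣ (m : ℕ)) (hmn : (m : ℕ) ∣ (n : ℕ)) (b : B n),
      g hkm (g hmn b) = g (hkm.trans hmn) b)
    (φ : ∀ n : IP, A →+ B n) (hφ : ∀ (n : IP) (a : A), φ n ((n : ℕ) • a) = 0)
    (hφg : ∀ (m n : IP) (h : (m : ℕ) ∣ (n : ℕ)) (a : A), g h (φ n a) = φ m a)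
    (N : ℕ) (hN : N ∈ IP)
    (htor : ∀ b : ∀ n : IP, B n, (∀ (m n : IP) (h : (m : ℕ) ∣ (n : ℕ)), g h (b n) = b m) →
      (∃ k : ℕ, 0 < k ∧ ∀ n, k • b n = 0) → ∀ n, N • b n = 0)
    (hker : ∀ a : IP → A, (∀ m n : IP, (m : ℕ) ∣ (n : ℕ) → ∃ c : A, a n - a m = (m : ℕ) • c) →
      (∀ n, φ n (a n) = 0) → ∀ n : IP, ∃ c : A, N • a n = (n : ℕ) • c) :
    (∀ ℓ ∈ P, ∀ x : A, (∀ n ∈ IP, ∃ y : A, x = n • y) →
        ∃ y : A, (∀ n ∈ IP, ∃ z : A, y = n • z) ∧ ℓ • y = x) ∧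
    (∀ H : AddSubgroup A, (∀ ℓ ∈ P, ∀ x ∈ H, ∃ y ∈ H, ℓ • y = x) →
        ∀ x ∈ H, ∀ n ∈ IP, ∃ y : A, x = n • y) := by
  classical
  have hIPmul : ∀ a b, a ∈ IP → b ∈ IP → a * b ∈ IP := by
    intro a b ha hb
    rw [hIP] at ha hb ⊢
    refine ⟨Nat.mul_pos ha.1 hb.1, fun q hq hdvd => ?_⟩
    rcases (Nat.Prime.dvd_mul hq).mp hdvd with h | h
    · exact ha.2 q hq h
    · exact hb.2 q hq h
  have hIPprime : ∀ ℓ ∈ P, ℓ ∈ IP := by
    intro ℓ hℓ
    rw [hIP]
    refine ⟨(hP ℓ hℓ).pos, fun q hq hdvd => ?_⟩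
    have : q = ℓ := (Nat.prime_dvd_prime_iff_eq hq (hP ℓ hℓ)).mp hdvd
    rw [this]; exact hℓ
  have htors : ∀ u : A, (∃ k : ℕ, 0 < k ∧ k • u = 0) →
      ∀ n : IP, ∃ c : A, (N * N) • u = (n : ℕ) • c := by
    rintro u ⟨k, hk, hku⟩ n
    have h1 : ∀ n : IP, N • φ n u = 0 := by
      apply htor (fun n => φ n u)
      · intro m n h; exact hφg m n h u
      · exact ⟨k, hk, fun n => by rw [← map_nsmul, hku, map_zero]⟩
    have h2 := hker (fun _ => N • u) (fun m n _ => ⟨0, by simp⟩)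
      (fun n => by rw [map_nsmul]; exact h1 n) n
    obtain ⟨c, hc⟩ := h2
    exact ⟨c, by rw [mul_smul]; exact hc⟩
  refine ⟨?_, ?_⟩
  · intro ℓ hℓ x hx
    have hℓIP := hIPprime ℓ hℓ
    have hK : ℓ * (N * N) ∈ IP := hIPmul _ _ hℓIP (hIPmul _ _ hN hN)
    obtain ⟨w, hw⟩ := hx _ hK
    refine ⟨(N * N) • w, ?_, ?_⟩
    · intro n hn
      obtain ⟨z, hz⟩ := hx _ (hIPmul _ _ hK hn)
      have hu : (ℓ * (N * N)) • (w - n • z) = 0 := by
        rw [smul_sub, ← hw, ← mul_smul, ← hz, sub_self]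
      have hKpos : 0 < ℓ * (N * N) := ((hIP _).mp hK).1
      obtain ⟨c, hc⟩ := htors (w - n • z) ⟨_, hKpos, hu⟩ ⟨n, hn⟩
      refine ⟨(N * N) • z + c, ?_⟩
      have : (N * N) • w = (N * N) • (n • z) + (N * N) • (w - n • z) := by
        rw [← smul_add]; congr 1; abel
      rw [this, hc, smul_add, smul_comm]
    · rw [← mul_smul]; exact hw.symm
  · intro H hH
    have key : ∀ n : ℕ, n ∈ IP → ∀ x ∈ H, ∃ y ∈ H, x = n • y := by
      intro n
      induction n using Nat.strong_induction_on with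
      | _ n ih =>
        intro hn x hx
        rcases Nat.lt_or_ge n 2 with h2 | h2
        · have hpos := ((hIP n).mp hn).1
          have : n = 1 := by omega
          subst this
          exact ⟨x, hx, (one_smul _ _).symm⟩
        · obtain ⟨q, hq, hqn⟩ := Nat.exists_prime_and_dvd (by omega : n ≠ 1)
          obtain ⟨n', rfl⟩ := hqn
          have hqP : q ∈ P := ((hIP _).mp hn).2 q hq (dvd_mul_right _ _)
          have hn'pos : 0 < n' := Nat.pos_of_mul_pos_left ((hIP _).mp hn).1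
          have hn'IP : n' ∈ IP := by
            rw [hIP]
            exact ⟨hn'pos, fun r hr hdvd => ((hIP _).mp hn).2 r hr (dvd_mul_of_dvd_right hdvd _)⟩
          obtain ⟨y, hy, hqy⟩ := hH q hqP x hx
          obtain ⟨z, hz, hyz⟩ := ih n' (by nlinarith [hq.two_le]) hn'IP y hy
          exact ⟨z, hz, by rw [mul_smul, ← hyz, hqy]⟩
    intro x hx n hn
    obtain ⟨y, _, hy⟩ := key n hn x hx
    exact ⟨y, hy⟩

end Groth.Agent.S16346
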