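import Groth.Statements.S16351
import Mathlib

set_option autoImplicit false
universe u
open Cubic

namespace Groth.Agent.S16351

/-- Let K be a field of characteristic zero and S = V(F) ⊂ P^3_K a cone over a plane cubic curve C,
normalised so that the vertex is [1 : 0 : 0 : 0], i.e. F is a homogeneous cubic in K[x_0, …, x_3]
not involving x_0 and C = V(F) in the plane P^2 of the coordinates x_1, x_2, x_3. If C has five
K-rational points no three of which are collinear, then S has five K-rational points in general
position (no four coplanar: any four representing vectors linearly independent). -/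
theorem result (K : Type u) [Field K] [CharZero K]
    (G : MvPolynomial (Fin 3) K) (hG : G.IsHomogeneous 3) (F : MvPolynomial (Fin 4) K)
    (hF : F = MvPolynomial.rename Fin.succ G)
    (b : Fin 5 → (Fin 3 → K)) (hb : ∀ j : Fin 5, MvPolynomial.eval (b j) G = 0)
    (h3 : ∀ i j l : Fin 5, i ≠ j → j ≠ l → i ≠ l → LinearIndependent K ![b i, b j, b l]) :
    ∃ p : Fin 5 → (Fin 4 → K), (∀ j : Fin 5, MvPolynomial.eval (p j) F = 0) ∧
      ∀ j : Fin 5, LinearIndependent K (fun i : Fin 4 => p (j.succAbove i)) := by
  classical
  subst hF
  let d : Fin 5 → Fin 4 → K := fun j i =>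
    Matrix.det (Matrix.of fun l : Fin 3 => b (j.succAbove (i.succAbove l)))
  have hd : ∀ j i, d j i ≠ 0 := by
    intro j i
    have hinj : Function.Injective (fun l : Fin 3 => j.succAbove (i.succAbove l)) :=
      (Fin.succAbove_right_injective).comp (Fin.succAbove_right_injective)
    have hli := h3 (j.succAbove (i.succAbove 0)) (j.succAbove (i.succAbove 1))
      (j.succAbove (i.succAbove 2)) (fun h => by simpa using hinj h)
      (fun h => by simpa using hinj h) (fun h => by simpa using hinj h)
    have heq : (fun l : Fin 3 => b (j.succAbove (i.succAbove l))) =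
        ![b (j.succAbove (i.succAbove 0)), b (j.succAbove (i.succAbove 1)),
          b (j.succAbove (i.succAbove 2))] := by
      funext l; fin_cases l <;> rfl
    have hunit : IsUnit (Matrix.of fun l : Fin 3 => b (j.succAbove (i.succAbove l))) := by
      rw [← Matrix.linearIndependent_rows_iff_isUnit, heq]
      exact hli
    exact ((Matrix.isUnit_iff_isUnit_det _).mp hunit).ne_zero
  let P : Fin 5 → Polynomial K := fun j =>
    ∑ i : Fin 4, Polynomial.C ((-1) ^ (i : ℕ) * d j i) * Polynomial.X ^ ((j.succAbove i : Fin 5) : ℕ)
  have hP : ∀ j, P j ≠ 0 := by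
    intro j hzero
    have hc := congrArg (fun q => Polynomial.coeff q ((j.succAbove 0 : Fin 5) : ℕ)) hzero
    simp only [P, Polynomial.finsetSum_coeff, Polynomial.coeff_C_mul_X_pow, Polynomial.coeff_zero] at hc
    rw [Finset.sum_eq_single (0 : Fin 4)] at hc
    · simp only [if_true, Fin.val_zero, pow_zero, one_mul] at hc
      exact hd j 0 hc
    · intro i _ hi
      rw [if_neg]
      intro h
      exact hi ((Fin.succAbove_right_injective (Fin.val_injective h)).symm)
    · intro h; exact absurd (Finset.mem_univ _) h
  have hprod : (∏ j, P j) ≠ 0 := Finset.prod_ne_zero_iff.mpr fun j _ => hP j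
  obtain ⟨s, hs⟩ : ∃ s : K, Polynomial.eval s (∏ j, P j) ≠ 0 := by
    by_contra hcon
    push_neg at hcon
    exact hprod (Polynomial.zero_of_eval_zero _ hcon)
  rw [Polynomial.eval_prod, Finset.prod_ne_zero_iff] at hs
  refine ⟨fun j => Fin.cons (s ^ (j : ℕ)) (b j), ?_, ?_⟩
  · intro j
    rw [MvPolynomial.eval_rename]
    have : ((Fin.cons (s ^ (j : ℕ)) (b j) : Fin 4 → K) ∘ Fin.succ) = b j := by
      funext l; simp
    rw [this]
    exact hb j
  · intro j
    have hdet : Matrix.det (Matrix.of fun i : Fin 4 =>
        (Fin.cons (s ^ ((j.succAbove i : Fin 5) : ℕ)) (b (j.succAbove i)) : Fin 4 → K)) ≠ 0 := by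
      rw [Matrix.det_succ_column_zero]
      have hsj := hs j (Finset.mem_univ _)
      simp only [P, Polynomial.eval_finsetSum, Polynomial.eval_mul, Polynomial.eval_C,
        Polynomial.eval_pow, Polynomial.eval_X] at hsj
      convert hsj using 2
      rename_i i _
      have hsub : (Matrix.submatrix (Matrix.of fun i : Fin 4 =>
          (Fin.cons (s ^ ((j.succAbove i : Fin 5) : ℕ)) (b (j.succAbove i)) : Fin 4 → K))
          i.succAbove Fin.succ) = Matrix.of fun l : Fin 3 => b (j.succAbove (i.succAbove l)) := by
        ext l c
        simp [Matrix.submatrix_apply]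
      rw [hsub]
      simp only [Matrix.of_apply, Fin.cons_zero]
      ring
    exact Matrix.linearIndependent_rows_of_det_ne_zero hdet

end Groth.Agent.S16351
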