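import Groth.Statements.S16353
import Mathlib

set_option autoImplicit false
universe u
open DegLoci

namespace Groth.Agent.S16353

open MvPolynomial in
theorem coeff_contract {k : Type*} [CommSemiring k] {σ : Type*} (D G : MvPolynomial σ k)
    (δ : σ →₀ ℕ) :
    coeff δ (W4c3degenlocivb.contract D G) =
      ∑ γ ∈ D.support, coeff γ D * coeff (δ + γ) G *
        (((δ + γ).support.prod fun i => Nat.descFactorial ((δ + γ) i) (γ i) : ℕ) : k) := by
  classical
  unfold W4c3degenlocivb.contract
  rw [MvPolynomial.coeff_sum]
  refine Finset.sum_congr rfl fun γ _ => ?_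
  rw [MvPolynomial.coeff_sum]
  by_cases hmem : δ + γ ∈ G.support
  · rw [Finset.sum_eq_single (δ + γ)]
    · rw [if_pos le_add_self, coeff_monomial, if_pos (add_tsub_cancel_right δ γ)]
    · intro β _ hβ
      split_ifs with hle
      · rw [coeff_monomial, if_neg]
        intro h
        apply hβ
        rw [← h, tsub_add_cancel_of_le hle]
      · simp
    · intro h; exact absurd hmem h
  · rw [Finset.sum_eq_zero]
    · rw [notMem_support_iff.mp hmem]; simp
    · intro β hβ
      split_ifs with hle
      · rw [coeff_monomial, if_neg]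
        intro h
        apply hmem
        rw [← h, tsub_add_cancel_of_le hle]; exact hβ
      · simp

theorem prod_support_eq {m : ℕ} (β γ : Fin m →₀ ℕ) (h : γ ≤ β) :
    (β.support.prod fun i => Nat.descFactorial (β i) (γ i)) =
      ∏ i : Fin m, Nat.descFactorial (β i) (γ i) := by
  apply Finset.prod_subset (Finset.subset_univ _)
  intro i _ hi
  rw [Finsupp.notMem_support_iff] at hi
  have h1 : γ i ≤ β i := h i
  rw [hi] at h1 ⊢
  have : γ i = 0 := by omega
  rw [this]
  rfl

theorem nat_identity {m : ℕ} (α γ : Fin m →₀ ℕ) :
    ((0 + γ + α).support.prod fun i => Nat.descFactorial ((0 + γ + α) i) (α i)) *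
      ((0 + γ).support.prod fun i => Nat.descFactorial ((0 + γ) i) (γ i)) =
    (∏ i : Fin m, (α i).factorial) *
      ((α + γ).support.prod fun i => Nat.descFactorial ((α + γ) i) (γ i)) := by
  rw [prod_support_eq _ _ (le_add_self), prod_support_eq _ _ (le_add_self),
    prod_support_eq _ _ (le_add_self), ← Finset.prod_mul_distrib, ← Finset.prod_mul_distrib]
  refine Finset.prod_congr rfl fun i _ => ?_
  simp only [Finsupp.coe_add, Pi.add_apply, Finsupp.coe_zero, Pi.zero_apply, zero_add]
  rw [Nat.descFactorial_self]
  have h1 := Nat.factorial_mul_descFactorial (Nat.le_add_left (α i) (γ i))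
  have h2 := Nat.factorial_mul_descFactorial (Nat.le_add_left (γ i) (α i))
  rw [Nat.add_sub_cancel] at h1 h2
  rw [mul_comm, h1, h2, add_comm]

/-- Let k be a field of characteristic zero, R = k[y_0, …, y_{m−1}] acting on S = k[∂_0, …, ∂_{m−1}] by
apolarity (y_i acts as the derivative with respect to ∂_i), F ∈ S homogeneous of degree e and d ≤ e.
Then the degree-d part of the apolar ideal of F is the orthogonal complement of the partial
derivatives of F of order e − d: a homogeneous D ∈ R_d satisfies D(F) = 0 if and only if D(y^α(F)) =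
0 for every multi-index α with |α| = e − d (each D(y^α(F)) being a constant, the value of the
apolarity pairing of D with y^α(F)). -/
theorem result (k : Type u) [Field k] [CharZero k] (m : ℕ)
    (F : MvPolynomial (Fin m) k) (e : ℕ) (hF : F.IsHomogeneous e) (d : ℕ) (hd : d ≤ e)
    (D : MvPolynomial (Fin m) k) (hD : D.IsHomogeneous d) :
    W4c3degenlocivb.contract D F = 0 ↔
      ∀ α : Fin m →₀ ℕ, α.degree = e - d → W4c3degenlocivb.contract D (W4c3degenlocivb.contract (MvPolynomial.monomial α 1) F) = 0 := by
  classical
  -- degree of exponents in the supports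
  have hDdeg : ∀ γ ∈ D.support, γ.degree = d := by
    intro γ hγ
    by_contra hne
    exact (MvPolynomial.mem_support_iff.mp hγ) (hD.coeff_eq_zero hne)
  have hsupp : ∀ α : Fin m →₀ ℕ, (MvPolynomial.monomial α (1 : k)).support = {α} := by
    intro α
    rw [MvPolynomial.support_monomial, if_neg one_ne_zero]
  -- coefficients of the inner contraction
  have hinner : ∀ (α ε : Fin m →₀ ℕ),
      MvPolynomial.coeff ε (W4c3degenlocivb.contract (MvPolynomial.monomial α 1) F) =
        MvPolynomial.coeff (ε + α) F *
          (((ε + α).support.prod fun i => Nat.descFactorial ((ε + α) i) (α i) : ℕ) : k) := by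
    intro α ε
    rw [coeff_contract, hsupp, Finset.sum_singleton, MvPolynomial.coeff_monomial, if_pos rfl,
      one_mul]
  -- coefficients of the double contraction
  have hdouble : ∀ (α : Fin m →₀ ℕ), α.degree = e - d → ∀ δ : Fin m →₀ ℕ,
      MvPolynomial.coeff δ (W4c3degenlocivb.contract D
        (W4c3degenlocivb.contract (MvPolynomial.monomial α 1) F)) =
      if δ = 0 then ((∏ i : Fin m, (α i).factorial : ℕ) : k) *
        MvPolynomial.coeff α (W4c3degenlocivb.contract D F) else 0 := by
    intro α hα δ
    rw [coeff_contract]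
    split_ifs with hδ
    · subst hδ
      rw [coeff_contract, Finset.mul_sum]
      refine Finset.sum_congr rfl fun γ _ => ?_
      rw [hinner]
      have hid := congrArg (fun n : ℕ => (n : k)) (nat_identity α γ)
      simp only [Nat.cast_mul] at hid
      have hzero : (0 : Fin m →₀ ℕ) + γ + α = α + γ := by rw [zero_add, add_comm]
      rw [hzero] at hid ⊢
      linear_combination (MvPolynomial.coeff γ D * MvPolynomial.coeff (α + γ) F) * hid
    · apply Finset.sum_eq_zero
      intro γ hγ
      rw [hinner]
      have hdeg : (δ + γ + α).degree ≠ e := by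
        rw [map_add, map_add, hDdeg γ hγ, hα]
        have : δ.degree ≠ 0 := by
          rw [Ne, Finsupp.degree_eq_zero_iff]; exact hδ
        omega
      rw [hF.coeff_eq_zero hdeg]
      ring
  constructor
  · intro hH α hα
    ext δ
    rw [hdouble α hα δ, hH]
    simp
  · intro hall
    ext δ
    rw [MvPolynomial.coeff_zero]
    by_cases hδ : δ.degree = e - d
    · have h0 := hdouble δ hδ 0
      rw [hall δ hδ, MvPolynomial.coeff_zero, if_pos rfl] at h0
      have hne : ((∏ i : Fin m, (δ i).factorial : ℕ) : k) ≠ 0 := by
        rw [Nat.cast_ne_zero]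
        exact Finset.prod_ne_zero_iff.mpr fun i _ => Nat.factorial_ne_zero _
      exact (mul_eq_zero.mp h0.symm).resolve_left hne
    · rw [coeff_contract]
      apply Finset.sum_eq_zero
      intro γ hγ
      have hdeg : (δ + γ).degree ≠ e := by
        rw [map_add, hDdeg γ hγ]
        omega
      rw [hF.coeff_eq_zero hdeg]
      ring

end Groth.Agent.S16353
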