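import Groth.Statements.S16356
import Mathlib

set_option autoImplicit false
universe u
open OrdAV

namespace Groth.Agent.S16356

theorem constCoeff_apply (p : ℕ) [Fact p.Prime] (k : Type u) [CommRing k] (x : WittVector p k) :
    WittVector.constantCoeff x = x.coeff 0 := rfl

theorem exists_eq_one_add_p_mul (p : ℕ) [Fact p.Prime]
    (k : Type u) [Field k] [CharP k p] [PerfectRing k p]
    (x : WittVector p k) (h0 : x.coeff 0 = 1) : ∃ z : WittVector p k, x = 1 + (p : WittVector p k) * z := by
  have h : ∀ i < 1, (x - 1).coeff i = 0 := by
    intro i hi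
    obtain rfl : i = 0 := by omega
    have := map_sub (WittVector.constantCoeff (p := p) (R := k)) x 1
    rw [constCoeff_apply, constCoeff_apply, constCoeff_apply, h0, WittVector.one_coeff_zero,
      sub_self] at this
    exact this
  have h1 := WittVector.eq_iterate_verschiebung h
  obtain ⟨w, hw⟩ := (WittVector.frobenius_bijective p k).2 ((x - 1).shift 1)
  refine ⟨w, ?_⟩
  have h2 : x - 1 = w * p := by
    rw [h1, ← hw, Function.iterate_one, WittVector.verschiebung_frobenius]
  linear_combination h2

/-- For an odd prime p and a perfect field k of characteristic p, a root of unity in the ring of Witt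
vectors W(k) whose residue in k is 1 is itself 1: if x ^ n = 1 with n ≥ 1 and the zeroth Witt
component of x is 1, then x = 1. (For p = 2 this fails: -1 in W(F_2).) -/
theorem result (p : ℕ) [Fact p.Prime] (hp : p ≠ 2)
    (k : Type u) [Field k] [CharP k p] [PerfectRing k p]
    (x : WittVector p k) (n : ℕ) (hn : 0 < n) (hx : x ^ n = 1) (h0 : x.coeff 0 = 1) : x = 1 := by
  induction n using Nat.strong_induction_on generalizing x with
  | _ n ih =>
  have hpp : p.Prime := Fact.out
  by_cases hpn : p ∣ n
  · obtain ⟨n', rfl⟩ := hpn
    have hn' : 0 < n' := Nat.pos_of_mul_pos_left hn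
    have hlt : n' < p * n' := by nlinarith [hpp.two_le]
    have hxp : x ^ p = 1 := by
      apply ih n' hlt (x ^ p) hn' (by rw [← pow_mul]; exact hx)
      have := map_pow (WittVector.constantCoeff (p := p) (R := k)) x p
      rw [constCoeff_apply, constCoeff_apply, h0, one_pow] at this
      exact this
    obtain ⟨z, rfl⟩ := exists_eq_one_add_p_mul p k x h0
    have hodd : Odd p := hpp.odd_of_ne_two hp
    obtain ⟨t, ht⟩ := odd_sq_dvd_geom_sum₂_sub (R := WittVector p k) 1 z hodd
    simp only [one_pow, mul_one] at ht
    have hgeom := geom_sum_mul (1 + (p : WittVector p k) * z) p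
    rw [hxp, sub_self] at hgeom
    rcases mul_eq_zero.mp hgeom with h | h
    · exfalso
      have hs : ∑ i ∈ Finset.range p, (1 + (p : WittVector p k) * z) ^ i
          = (p : WittVector p k) * (1 + p * t) := by linear_combination ht
      rw [hs] at h
      rcases mul_eq_zero.mp h with h | h
      · exact WittVector.p_nonzero p k h
      · have h3 := congrArg (WittVector.constantCoeff (p := p) (R := k)) h
        rw [map_add, map_one, map_zero, constCoeff_apply, mul_comm,
          WittVector.mul_charP_coeff_zero, add_zero] at h3
        exact one_ne_zero h3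
    · linear_combination h
  · have hgeom := geom_sum_mul x n
    rw [hx, sub_self] at hgeom
    rcases mul_eq_zero.mp hgeom with h | h
    · exfalso
      have h3 := congrArg (WittVector.constantCoeff (p := p) (R := k)) h
      rw [map_sum, map_zero] at h3
      simp only [map_pow, constCoeff_apply, h0, one_pow, Finset.sum_const, Finset.card_range,
        nsmul_eq_mul, mul_one] at h3
      exact hpn ((CharP.cast_eq_zero_iff k p n).mp h3)
    · exact sub_eq_zero.mp h

end Groth.Agent.S16356
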