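import Groth.Statements.S16357
import Mathlib

set_option autoImplicit false
universe u
open OrdAV

namespace Groth.Agent.S16357

/-- Over a field L of characteristic zero, a monic polynomial h whose square has rational coefficients
has rational coefficients itself. -/
theorem result (L : Type u) [Field L] [CharZero L]
    (h : Polynomial L) (hm : h.Monic) (f : Polynomial ℚ)
    (hf : h ^ 2 = Polynomial.map (algebraMap ℚ L) f) :
    ∃ g : Polynomial ℚ, Polynomial.map (algebraMap ℚ L) g = h := by
  classical
  set n := h.natDegree with hn
  set S : Subring L := (algebraMap ℚ L).range with hS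
  have hhalf : (2 : L)⁻¹ ∈ S := ⟨(2 : ℚ)⁻¹, by simp⟩
  have hsq : ∀ m : ℕ, (h * h).coeff m ∈ S := by
    intro m
    rw [← sq, hf, Polynomial.coeff_map]
    exact ⟨f.coeff m, rfl⟩
  -- all coefficients of `h` are rational, by downward induction
  have key : ∀ j : ℕ, j ≤ n → h.coeff (n - j) ∈ S := by
    intro j
    induction j using Nat.strong_induction_on with
    | _ j ih =>
      intro hj
      rcases Nat.eq_zero_or_pos j with rfl | hjpos
      · rw [Nat.sub_zero, hn, hm.coeff_natDegree]
        exact S.one_mem
      · -- split the convolution sum
        have hmem1 : (n - j, n) ∈ Finset.HasAntidiagonal.antidiagonal (2 * n - j) := by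
          rw [Finset.HasAntidiagonal.mem_antidiagonal]; simp only; omega
        have hmem2 : (n, n - j) ∈ (Finset.HasAntidiagonal.antidiagonal (2 * n - j)).erase (n - j, n) := by
          rw [Finset.mem_erase, Finset.HasAntidiagonal.mem_antidiagonal]
          refine ⟨?_, by simp only; omega⟩
          intro h'
          have := congrArg Prod.fst h'
          simp only at this
          omega
        have hsum := Polynomial.coeff_mul h h (2 * n - j)
        rw [← Finset.add_sum_erase _ _ hmem1, ← Finset.add_sum_erase _ _ hmem2] at hsum
        simp only at hsum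
        have hlead : h.coeff n = 1 := hm.coeff_natDegree
        rw [hlead, mul_one, one_mul] at hsum
        have hrest : ∑ x ∈ ((Finset.HasAntidiagonal.antidiagonal (2 * n - j)).erase (n - j, n)).erase (n, n - j),
            h.coeff x.1 * h.coeff x.2 ∈ S := by
          refine S.sum_mem fun x hx => ?_
          obtain ⟨a, b⟩ := x
          simp only [Finset.mem_erase, Finset.HasAntidiagonal.mem_antidiagonal, ne_eq, Prod.mk.injEq, not_and] at hx
          obtain ⟨hx2, hx1, hab⟩ := hx
          by_cases ha : n < a
          · rw [Polynomial.coeff_eq_zero_of_natDegree_lt ha, zero_mul]; exact S.zero_mem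
          by_cases hb : n < b
          · rw [Polynomial.coeff_eq_zero_of_natDegree_lt hb, mul_zero]; exact S.zero_mem
          have ha' : a ≠ n := fun h' => hx2 h' (by omega)
          have hb' : b ≠ n := fun h' => hx1 (by omega) h'
          have e1 : a = n - (n - a) := by omega
          have e2 : b = n - (n - b) := by omega
          rw [e1, e2]
          exact S.mul_mem (ih (n - a) (by omega) (by omega)) (ih (n - b) (by omega) (by omega))
        have h2 : (2 : L) * h.coeff (n - j) ∈ S := by
          have : (2 : L) * h.coeff (n - j) = (h * h).coeff (2 * n - j) -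
              ∑ x ∈ ((Finset.HasAntidiagonal.antidiagonal (2 * n - j)).erase (n - j, n)).erase (n, n - j),
                h.coeff x.1 * h.coeff x.2 := by
            rw [hsum]; ring
          rw [this]
          exact S.sub_mem (hsq _) hrest
        have : h.coeff (n - j) = (2 : L)⁻¹ * ((2 : L) * h.coeff (n - j)) := by
          rw [← mul_assoc, inv_mul_cancel₀ (two_ne_zero), one_mul]
        rw [this]
        exact S.mul_mem hhalf h2
  have hall : ∀ i : ℕ, h.coeff i ∈ S := by
    intro i
    by_cases hi : i ≤ n
    · have := key (n - i) (Nat.sub_le n i)
      rwa [Nat.sub_sub_self hi] at this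
    · rw [Polynomial.coeff_eq_zero_of_natDegree_lt (by omega)]
      exact S.zero_mem
  -- assemble the rational polynomial
  have hlift : h ∈ Polynomial.lifts (algebraMap ℚ L) := by
    rw [Polynomial.lifts_iff_coeff_lifts]
    intro i
    exact hall i
  obtain ⟨g, hg⟩ := hlift
  exact ⟨g, hg⟩

end Groth.Agent.S16357
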