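import Groth.Statements.S16362
import Mathlib

set_option autoImplicit false
universe u
open MovLem

namespace Groth.Agent.S16362

theorem reflect_sum {R : Type*} [CommRing R] (z w : R) (N : ℕ) (c : ℕ → R) :
    ∑ i ∈ Finset.range (N + 1), c i * z ^ i * w ^ (N - i) =
      c N * z ^ N + ∑ i ∈ Finset.Icc 1 N, c (N - i) * z ^ (N - i) * w ^ i := by
  rw [Finset.sum_range_succ, Nat.sub_self, pow_zero, mul_one, add_comm]
  congr 1
  refine Finset.sum_nbij' (fun i => N - i) (fun i => N - i) ?_ ?_ ?_ ?_ ?_
  · intro i hi
    simp only [Finset.mem_range, Finset.mem_Icc] at hi ⊢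
    omega
  · intro i hi
    simp only [Finset.mem_range, Finset.mem_Icc] at hi ⊢
    omega
  · intro i hi
    simp only [Finset.mem_range] at hi
    omega
  · intro i hi
    simp only [Finset.mem_Icc] at hi
    omega
  · intro i hi
    simp only [Finset.mem_range] at hi
    have : N - (N - i) = i := by omega
    rw [this]

/-- Let A be a commutative ring, p a prime ideal of A, and ζ, u elements of A with u not in p. Then the
quotient of the classes of ζ and u in the fraction field of the domain A ⧸ p is integral over A ⧸ p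
if and only if there exist a natural number N and elements a_1, …, a_N of A such that ζ^N + a_1
ζ^(N-1) u + ⋯ + a_N u^N lies in p; equivalently, some binary form of degree N with coefficients in
A, monic in the first variable, evaluated at (ζ, u), lies in p. -/
theorem result
    {A : Type u} [CommRing A] (p : Ideal A) [p.IsPrime] (ζ u : A) (hu : u ∉ p) :
    IsIntegral (A ⧸ p)
        (algebraMap (A ⧸ p) (FractionRing (A ⧸ p)) (Ideal.Quotient.mk p ζ) /
          algebraMap (A ⧸ p) (FractionRing (A ⧸ p)) (Ideal.Quotient.mk p u)) ↔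
      ∃ (N : ℕ) (a : ℕ → A),
        ζ ^ N + ∑ i ∈ Finset.Icc 1 N, a i * ζ ^ (N - i) * u ^ i ∈ p := by
  classical
  set R := A ⧸ p with hR
  set K := FractionRing R with hK
  set z : R := Ideal.Quotient.mk p ζ with hz
  set w : R := Ideal.Quotient.mk p u with hw
  have hw0 : w ≠ 0 := by
    intro h
    exact hu (Ideal.Quotient.eq_zero_iff_mem.mp h)
  have hinj : Function.Injective (algebraMap R K) := IsFractionRing.injective R K
  have hw0' : algebraMap R K w ≠ 0 := fun h => hw0 (hinj (by rw [h, map_zero]))
  -- key computation in K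
  have hkey : ∀ (N i : ℕ), i ≤ N → ∀ c : R, (algebraMap R K w) ^ N * (algebraMap R K c *
        (algebraMap R K z / algebraMap R K w) ^ i) =
      algebraMap R K (c * z ^ i * w ^ (N - i)) := by
    intro N i hiN c
    rw [div_pow, map_mul, map_mul, map_pow, map_pow]
    have : (algebraMap R K w) ^ N = (algebraMap R K w) ^ (N - i) * (algebraMap R K w) ^ i := by
      rw [← pow_add, Nat.sub_add_cancel hiN]
    rw [this]
    have hwi : (algebraMap R K w) ^ i ≠ 0 := pow_ne_zero _ hw0'
    have h5 : (algebraMap R K z) ^ i / (algebraMap R K w) ^ i * (algebraMap R K w) ^ i =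
        (algebraMap R K z) ^ i := div_mul_cancel₀ _ hwi
    calc (algebraMap R K w) ^ (N - i) * (algebraMap R K w) ^ i *
          (algebraMap R K c * ((algebraMap R K z) ^ i / (algebraMap R K w) ^ i))
        = algebraMap R K c * ((algebraMap R K z) ^ i / (algebraMap R K w) ^ i *
            (algebraMap R K w) ^ i) * (algebraMap R K w) ^ (N - i) := by ring
      _ = algebraMap R K c * (algebraMap R K z) ^ i * (algebraMap R K w) ^ (N - i) := by rw [h5]
  constructor
  · rintro ⟨q, hqm, hq⟩
    set N := q.natDegree with hN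
    have hlift : ∀ i : ℕ, ∃ a : A, Ideal.Quotient.mk p a = q.coeff (N - i) :=
      fun i => Ideal.Quotient.mk_surjective _
    choose a ha using hlift
    refine ⟨N, a, ?_⟩
    rw [← Ideal.Quotient.eq_zero_iff_mem]
    rw [Polynomial.eval₂_eq_sum_range] at hq
    have h1 : (algebraMap R K w) ^ N *
        ∑ i ∈ Finset.range (N + 1), algebraMap R K (q.coeff i) *
          (algebraMap R K z / algebraMap R K w) ^ i = 0 := by rw [hq, mul_zero]
    rw [Finset.mul_sum] at h1
    rw [Finset.sum_congr rfl (fun i hi => hkey N i (Nat.lt_succ_iff.mp (Finset.mem_range.mp hi))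
      (q.coeff i)), ← map_sum] at h1
    have h3 := hinj (h1.trans (map_zero _).symm)
    rw [reflect_sum z w N q.coeff, hqm.coeff_natDegree, one_mul] at h3
    rw [map_add, map_pow, map_sum]
    rw [← h3]
    congr 1
    refine Finset.sum_congr rfl fun i _ => ?_
    rw [map_mul, map_mul, map_pow, map_pow, ha]
  · rintro ⟨N, a, hrel⟩
    have hN : N ≠ 0 := by
      rintro rfl
      simp at hrel
      exact (Ideal.IsPrime.ne_top ‹p.IsPrime›) ((Ideal.eq_top_iff_one p).mpr hrel)
    set r : Polynomial R := ∑ i ∈ Finset.Icc 1 N,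
      Polynomial.C (Ideal.Quotient.mk p (a i)) * Polynomial.X ^ (N - i) with hr
    have hdeg : r.degree < (N : WithBot ℕ) := by
      rw [Polynomial.degree_lt_iff_coeff_zero]
      intro m hm
      rw [hr, Polynomial.finsetSum_coeff]
      refine Finset.sum_eq_zero fun i hi => ?_
      simp only [Finset.mem_Icc] at hi
      rw [Polynomial.coeff_C_mul_X_pow, if_neg (by omega)]
    refine ⟨Polynomial.X ^ N + r, Polynomial.monic_X_pow_add hdeg, ?_⟩
    rw [Polynomial.eval₂_add, Polynomial.eval₂_X_pow, hr, Polynomial.eval₂_finsetSum]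
    simp only [Polynomial.eval₂_mul, Polynomial.eval₂_C, Polynomial.eval₂_X_pow]
    have hwN : (algebraMap R K w) ^ N ≠ 0 := pow_ne_zero _ hw0'
    apply mul_left_cancel₀ hwN
    rw [mul_zero, mul_add, Finset.mul_sum]
    have e1 := hkey N N le_rfl 1
    rw [map_one, one_mul, Nat.sub_self, pow_zero, mul_one, one_mul] at e1
    rw [e1]
    rw [Finset.sum_congr rfl (fun i hi => hkey N (N - i) (Nat.sub_le N i)
      (Ideal.Quotient.mk p (a i)))]
    rw [← map_sum, ← map_add]
    have hrel' := Ideal.Quotient.eq_zero_iff_mem.mpr hrel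
    rw [map_add, map_pow, map_sum] at hrel'
    rw [← map_zero (algebraMap R K)]
    congr 1
    rw [← hrel']
    congr 1
    refine Finset.sum_congr rfl fun i hi => ?_
    simp only [Finset.mem_Icc] at hi
    have : N - (N - i) = i := by omega
    rw [this, map_mul, map_mul, map_pow, map_pow]

end Groth.Agent.S16362
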