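import Groth.Statements.S16367
import Mathlib

set_option autoImplicit false
universe u
open MovLem

namespace Groth.Agent.S16367

theorem term_generic {Q : Type*} [CommRing Q] (I : Ideal Q) {d n : ℕ} (A T : Q)
    (x b : Fin d → Q) (w : Fin n → Q) (hb : ∀ i, b i ∈ I) (e : Fin d → ℕ) (e' : Fin n → ℕ)
    (N : ℕ) (he : ∑ i, e i ≤ N) :
    Ideal.Quotient.mk I (A * T ^ (N - ∑ i, e i) * (∏ i, (T * x i + b i) ^ e i) * ∏ j, w j ^ e' j) =
    Ideal.Quotient.mk I (T ^ N * (A * (∏ i, x i ^ e i) * ∏ j, w j ^ e' j)) := by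
  have h0 : ∀ i, Ideal.Quotient.mk I (T * x i + b i) =
      Ideal.Quotient.mk I T * Ideal.Quotient.mk I (x i) := by
    intro i
    rw [map_add, map_mul, Ideal.Quotient.eq_zero_iff_mem.mpr (hb i), add_zero]
  simp only [map_mul, map_pow, map_prod, h0]
  simp only [mul_pow, Finset.prod_mul_distrib, Finset.prod_pow_eq_pow_sum]
  have hX : (Ideal.Quotient.mk I T) ^ N =
      (Ideal.Quotient.mk I T) ^ (N - ∑ i, e i) * (Ideal.Quotient.mk I T) ^ (∑ i, e i) := by
    rw [← pow_add, Nat.sub_add_cancel he]
  rw [hX]; ring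

theorem C_eq_sum_monomials {k : Type u} [CommRing k] (d n : ℕ)
    (f : MvPolynomial (Fin d ⊕ Fin n) k) :
    (Polynomial.C f : Polynomial (MvPolynomial (Fin d ⊕ Fin n) k)) =
      ∑ m ∈ f.support, Polynomial.C (MvPolynomial.C (MvPolynomial.coeff m f)) *
        (∏ i : Fin d, Polynomial.C (MvPolynomial.X (Sum.inl i)) ^ m (Sum.inl i)) *
        ∏ j : Fin n, Polynomial.C (MvPolynomial.X (Sum.inr j)) ^ m (Sum.inr j) := by
  conv_lhs => rw [← MvPolynomial.support_sum_monomial_coeff f]
  rw [map_sum]
  refine Finset.sum_congr rfl fun m _ => ?_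
  rw [MvPolynomial.monomial_eq, Finsupp.prod_fintype _ _ (fun _ => pow_zero _),
    Fintype.prod_sum_type, map_mul, map_mul, map_prod, map_prod]
  simp only [map_pow, mul_assoc]

/-- The chart computation of its proof: let k be a commutative ring, P = k[x_1, …, x_d, w_1, …, w_n] a
polynomial ring in two groups of variables, u a polynomial in the x-variables alone, v a vector in
k^d, J a set of indices among the w-variables with ζ = ∏_{j ∈ J} w_j, and N ≤ s natural numbers. Let
(f_λ) be a finite family of elements of P, each of total degree at most N in the x-variables, and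
assume that ζ^N + c_1 ζ^(N-1) u + ⋯ + c_N u^N lies in the ideal generated by the f_λ for some c_1,
…, c_N ∈ P. For each λ let φ_λ ∈ P[τ] be the polynomial τ^N · f_λ(x + u^s v/τ, w), written out
monomial by monomial: a monomial a·x^m·w^m' of x-degree e = |m| contributes a · τ^(N-e) · ∏_i (τ x_i
+ u^s v_i)^(m_i) · w^m'. Then there are c'_1, …, c'_N ∈ P[τ] with (τζ)^N + c'_1 (τζ)^(N-1) u + ⋯ +
c'_N u^N in the ideal of P[τ] generated by the φ_λ. (This identity is what shows that translating a
cycle by t·u^s·v preserves the modulus condition on the chart whose coordinates are the z_i and the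
1/z_j, with τ = 1/t; integrality of ζ/u, resp. τζ/u, is expressed by such monic binary forms.) -/
theorem result
    {k : Type u} [CommRing k] (d n : ℕ) (u : MvPolynomial (Fin d) k) (v : Fin d → k)
    (J : Finset (Fin n)) (N s : ℕ) (hs : N ≤ s)
    {Λ : Type u} [Fintype Λ] (f : Λ → MvPolynomial (Fin d ⊕ Fin n) k)
    (hdeg : ∀ l, ∀ m ∈ (f l).support, ∑ i : Fin d, m (Sum.inl i) ≤ N)
    (c : ℕ → MvPolynomial (Fin d ⊕ Fin n) k)
    (hE : (∏ j ∈ J, MvPolynomial.X (Sum.inr j)) ^ N +
        ∑ i ∈ Finset.Icc 1 N, c i * (∏ j ∈ J, MvPolynomial.X (Sum.inr j)) ^ (N - i) *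
          MvPolynomial.rename Sum.inl u ^ i ∈ Ideal.span (Set.range f)) :
    ∃ c' : ℕ → Polynomial (MvPolynomial (Fin d ⊕ Fin n) k),
      (Polynomial.X * Polynomial.C (∏ j ∈ J, MvPolynomial.X (Sum.inr j))) ^ N +
        ∑ i ∈ Finset.Icc 1 N, c' i *
          (Polynomial.X * Polynomial.C (∏ j ∈ J, MvPolynomial.X (Sum.inr j))) ^ (N - i) *
            Polynomial.C (MvPolynomial.rename Sum.inl u) ^ i ∈
      Ideal.span (Set.range fun l : Λ =>
        ∑ m ∈ (f l).support,
          Polynomial.C (MvPolynomial.C (MvPolynomial.coeff m (f l))) *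
            Polynomial.X ^ (N - ∑ i : Fin d, m (Sum.inl i)) *
            (∏ i : Fin d, (Polynomial.X * Polynomial.C (MvPolynomial.X (Sum.inl i)) +
                Polynomial.C (MvPolynomial.rename Sum.inl u ^ s * MvPolynomial.C (v i))) ^ m (Sum.inl i)) *
            ∏ j : Fin n, Polynomial.C (MvPolynomial.X (Sum.inr j)) ^ m (Sum.inr j)) := by
  classical
  generalize hζ : (∏ j ∈ J, MvPolynomial.X (Sum.inr j) : MvPolynomial (Fin d ⊕ Fin n) k) = ζ
    at hE ⊢
  generalize hU : (MvPolynomial.rename Sum.inl u : MvPolynomial (Fin d ⊕ Fin n) k) = U at hE ⊢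
  obtain ⟨g, hg⟩ := (Ideal.mem_span_range_iff_exists_fun).mp hE
  obtain ⟨φ, hφ⟩ : ∃ φ : Λ → Polynomial (MvPolynomial (Fin d ⊕ Fin n) k), φ = fun l : Λ =>
        ∑ m ∈ (f l).support,
          Polynomial.C (MvPolynomial.C (MvPolynomial.coeff m (f l))) *
            Polynomial.X ^ (N - ∑ i : Fin d, m (Sum.inl i)) *
            (∏ i : Fin d, (Polynomial.X * Polynomial.C (MvPolynomial.X (Sum.inl i)) +
                Polynomial.C (U ^ s * MvPolynomial.C (v i))) ^ m (Sum.inl i)) *
            ∏ j : Fin n, Polynomial.C (MvPolynomial.X (Sum.inr j)) ^ m (Sum.inr j) := ⟨_, rfl⟩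
  rw [← hφ]
  have hφl : ∀ l, φ l = ∑ m ∈ (f l).support,
          Polynomial.C (MvPolynomial.C (MvPolynomial.coeff m (f l))) *
            Polynomial.X ^ (N - ∑ i : Fin d, m (Sum.inl i)) *
            (∏ i : Fin d, (Polynomial.X * Polynomial.C (MvPolynomial.X (Sum.inl i)) +
                Polynomial.C (U ^ s * MvPolynomial.C (v i))) ^ m (Sum.inl i)) *
            ∏ j : Fin n, Polynomial.C (MvPolynomial.X (Sum.inr j)) ^ m (Sum.inr j) := by
    intro l; rw [hφ]
  rcases Nat.eq_zero_or_pos N with hN0 | hNpos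
  · -- the degenerate case `N = 0`
    subst hN0
    refine ⟨fun _ => 0, ?_⟩
    have hφC : ∀ l, φ l = Polynomial.C (f l) := by
      intro l
      rw [hφl, C_eq_sum_monomials d n (f l)]
      refine Finset.sum_congr rfl fun m hm => ?_
      have he := hdeg l m hm
      have hz : ∀ i : Fin d, m (Sum.inl i) = 0 := by
        intro i
        have : m (Sum.inl i) ≤ ∑ i : Fin d, m (Sum.inl i) :=
          Finset.single_le_sum (f := fun i : Fin d => m (Sum.inl i)) (fun _ _ => Nat.zero_le _)
            (Finset.mem_univ i)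
        omega
      simp only [hz, pow_zero, Finset.prod_const_one, Finset.sum_const_zero, Nat.sub_zero, mul_one]
    have hone : (1 : MvPolynomial (Fin d ⊕ Fin n) k) = ∑ l, g l * f l := by
      rw [hg]; simp
    have : ((Polynomial.X * Polynomial.C ζ) ^ 0 +
        ∑ i ∈ Finset.Icc 1 0, (fun _ => (0 : Polynomial (MvPolynomial (Fin d ⊕ Fin n) k))) i *
          (Polynomial.X * Polynomial.C ζ) ^ (0 - i) * Polynomial.C U ^ i) =
        ∑ l, Polynomial.C (g l) * φ l := by
      simp only [pow_zero, zero_mul, Finset.sum_const_zero, add_zero]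
      rw [← Polynomial.C_1, hone, map_sum]
      refine Finset.sum_congr rfl fun l _ => ?_
      rw [map_mul, hφC]
    rw [this]
    exact Ideal.sum_mem _ fun l _ => Ideal.mul_mem_left _ _ (Ideal.subset_span ⟨l, rfl⟩)
  · -- the main case
    have step1 : ∀ l, ∃ r, φ l = Polynomial.X ^ N * Polynomial.C (f l) + r * Polynomial.C (U ^ s) := by
      intro l
      obtain ⟨I, hI⟩ : ∃ I : Ideal (Polynomial (MvPolynomial (Fin d ⊕ Fin n) k)),
        I = Ideal.span {Polynomial.C (U ^ s)} := ⟨_, rfl⟩
      have hmem : φ l - Polynomial.X ^ N * Polynomial.C (f l) ∈ I := by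
        rw [← Ideal.Quotient.eq]
        rw [hφl, C_eq_sum_monomials d n (f l), Finset.mul_sum, map_sum, map_sum]
        refine Finset.sum_congr rfl fun m hm => ?_
        have he := hdeg l m hm
        refine term_generic I _ _ (fun i => Polynomial.C (MvPolynomial.X (Sum.inl i)))
          (fun i => Polynomial.C (U ^ s * MvPolynomial.C (v i)))
          (fun j => Polynomial.C (MvPolynomial.X (Sum.inr j))) ?_ (fun i => m (Sum.inl i))
          (fun j => m (Sum.inr j)) N he
        intro i
        rw [Polynomial.C_mul, hI]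
        exact Ideal.mul_mem_right _ _ (Ideal.subset_span rfl)
      rw [hI] at hmem
      obtain ⟨r, hr⟩ := Ideal.mem_span_singleton'.mp hmem
      exact ⟨r, by rw [hr]; ring⟩
    choose r hr using step1
    obtain ⟨R, hR⟩ : ∃ R : Polynomial (MvPolynomial (Fin d ⊕ Fin n) k),
      R = ∑ l, Polynomial.C (g l) * r l := ⟨_, rfl⟩
    refine ⟨fun i => Polynomial.C (c i) * Polynomial.X ^ i +
      if i = N then Polynomial.C (U ^ (s - N)) * R else 0, ?_⟩
    have key : ((Polynomial.X * Polynomial.C ζ) ^ N +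
        ∑ i ∈ Finset.Icc 1 N, (Polynomial.C (c i) * Polynomial.X ^ i +
          if i = N then Polynomial.C (U ^ (s - N)) * R else 0) *
          (Polynomial.X * Polynomial.C ζ) ^ (N - i) * Polynomial.C U ^ i) =
        ∑ l, Polynomial.C (g l) * φ l := by
      have hsum : ∑ l, Polynomial.C (g l) * φ l =
          Polynomial.X ^ N * Polynomial.C (∑ l, g l * f l) + R * Polynomial.C (U ^ s) := by
        rw [map_sum, Finset.mul_sum, hR, Finset.sum_mul, ← Finset.sum_add_distrib]
        refine Finset.sum_congr rfl fun l _ => ?_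
        rw [hr l, map_mul]; ring
      have hUs : Polynomial.C (U ^ s) = Polynomial.C (U ^ (s - N)) * Polynomial.C U ^ N := by
        rw [← Polynomial.C_pow, ← Polynomial.C_mul, ← pow_add, Nat.sub_add_cancel hs]
      have hterm : ∀ i ∈ Finset.Icc 1 N,
          Polynomial.C (c i) * Polynomial.X ^ i * (Polynomial.X * Polynomial.C ζ) ^ (N - i) *
            Polynomial.C U ^ i =
          Polynomial.X ^ N * Polynomial.C (c i * ζ ^ (N - i) * U ^ i) := by
        intro i hi
        have hiN : i ≤ N := (Finset.mem_Icc.mp hi).2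
        have hX : (Polynomial.X : Polynomial (MvPolynomial (Fin d ⊕ Fin n) k)) ^ N =
            Polynomial.X ^ i * Polynomial.X ^ (N - i) := by
          rw [← pow_add, Nat.add_sub_cancel' hiN]
        rw [hX, Polynomial.C_mul, Polynomial.C_mul, Polynomial.C_pow, Polynomial.C_pow, mul_pow]
        ring
      have h1 : ∑ i ∈ Finset.Icc 1 N, (Polynomial.C (c i) * Polynomial.X ^ i +
          if i = N then Polynomial.C (U ^ (s - N)) * R else 0) *
          (Polynomial.X * Polynomial.C ζ) ^ (N - i) * Polynomial.C U ^ i =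
          ∑ i ∈ Finset.Icc 1 N, Polynomial.X ^ N * Polynomial.C (c i * ζ ^ (N - i) * U ^ i) +
            Polynomial.C (U ^ (s - N)) * R * Polynomial.C U ^ N := by
        simp only [add_mul, Finset.sum_add_distrib]
        congr 1
        · exact Finset.sum_congr rfl hterm
        · rw [Finset.sum_eq_single N]
          · rw [if_pos rfl, Nat.sub_self, pow_zero, mul_one]
          · intro i _ hi
            rw [if_neg hi, zero_mul, zero_mul]
          · intro h
            exact absurd (Finset.mem_Icc.mpr ⟨hNpos, le_refl N⟩) h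
      have h2 : Polynomial.X ^ N * Polynomial.C (ζ ^ N + ∑ i ∈ Finset.Icc 1 N, c i * ζ ^ (N - i) * U ^ i) =
          (Polynomial.X * Polynomial.C ζ) ^ N +
            ∑ i ∈ Finset.Icc 1 N, Polynomial.X ^ N * Polynomial.C (c i * ζ ^ (N - i) * U ^ i) := by
        rw [Polynomial.C_add, mul_add, map_sum, Finset.mul_sum, Polynomial.C_pow, mul_pow]
      rw [hsum, hg, h1, h2, hUs]
      ring
    rw [key]
    exact Ideal.sum_mem _ fun l _ => Ideal.mul_mem_left _ _ (Ideal.subset_span ⟨l, rfl⟩)

end Groth.Agent.S16367
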