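import Groth.Statements.S16371
import Mathlib

set_option autoImplicit false
universe u v w
open FrobAlg

namespace Groth.Agent.S16371

/-- Let p be a prime, A a commutative ring and B, C commutative A-algebras with p² = 0 in B. If two
A-algebra maps g₁, g₂ : C → B agree modulo p, then they agree on every element of C which is
congruent modulo p to an element of the A-subalgebra generated by the p-th powers. (The source
states this for liftings over a flat ℤ/p²-thickening of two smooth schemes and the subsheaf of
functions whose reduction lies in the image of the relative Frobenius; the smoothness and lifting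
hypotheses are not needed for the identity.) -/
theorem result
    (p : ℕ) [Fact p.Prime] (A : Type u) [CommRing A] (B : Type v) [CommRing B] [Algebra A B]
    (C : Type w) [CommRing C] [Algebra A C] (hp : (p : B) ^ 2 = 0)
    (g₁ g₂ : C →ₐ[A] B) (hg : ∀ x : C, g₁ x - g₂ x ∈ Ideal.span ({(p : B)} : Set B))
    (x y : C) (hy : y ∈ Algebra.adjoin A (Set.range fun c : C => c ^ p))
    (hxy : x - y ∈ Ideal.span ({(p : C)} : Set C)) :
    g₁ x = g₂ x := by
  have hp1 : 1 < p := (Fact.out : p.Prime).one_lt
  have hpp : (p : B) * (p : B) = 0 := by rw [← sq]; exact hp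
  -- the two maps agree on `p`-th powers
  have hpow : ∀ c : C, g₁ (c ^ p) = g₂ (c ^ p) := by
    intro c
    obtain ⟨b, hb⟩ := Ideal.mem_span_singleton'.mp (hg c)
    have h1 : g₁ c = (p : B) * b + g₂ c := by rw [mul_comm, hb]; ring
    rw [map_pow, map_pow, h1, add_pow]
    rw [Finset.sum_range_succ', Finset.sum_eq_zero]
    · simp
    · intro i _
      -- each term with a positive power of `p b` vanishes
      rcases Nat.eq_zero_or_pos i with hi | hi
      · subst hi
        have hch : (p.choose (0 + 1) : B) = (p : B) := by simp
        rw [hch]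
        simp only [zero_add, pow_one]
        calc (p : B) * b * g₂ c ^ (p - 1) * (p : B)
            = ((p : B) * (p : B)) * (g₂ c ^ (p - 1) * b) := by ring
          _ = 0 := by rw [hpp, zero_mul]
      · have h2 : ((p : B) * b) ^ (i + 1) = 0 := by
          have : i + 1 = 2 + (i - 1) := by omega
          rw [this, pow_add, mul_pow, hp, zero_mul, zero_mul]
        rw [h2, zero_mul, zero_mul]
  -- hence on the subalgebra generated by them
  have hy' : g₁ y = g₂ y := by
    have hle : Algebra.adjoin A (Set.range fun c : C => c ^ p) ≤ AlgHom.equalizer g₁ g₂ := by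
      rw [Algebra.adjoin_le_iff]
      rintro _ ⟨c, rfl⟩
      exact hpow c
    exact hle hy
  obtain ⟨c, hc⟩ := Ideal.mem_span_singleton'.mp hxy
  have hx : x = y + (p : C) * c := by rw [mul_comm, hc]; ring
  obtain ⟨b, hb⟩ := Ideal.mem_span_singleton'.mp (hg c)
  have h1 : g₁ c = g₂ c + (p : B) * b := by rw [mul_comm, hb]; ring
  rw [hx, map_add, map_add, map_mul, map_mul, map_natCast, map_natCast, hy', h1]
  calc g₂ y + (p : B) * (g₂ c + (p : B) * b) = g₂ y + (p : B) * g₂ c + ((p : B) * (p : B)) * b := by ring
    _ = g₂ y + (p : B) * g₂ c := by rw [hpp, zero_mul, add_zero]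

end Groth.Agent.S16371
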