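import Groth.Statements.S16373
import Mathlib
import Groth.Agent.S16372

set_option autoImplicit false
universe u
open FrobAlg

namespace Groth.Agent.S16373

section helpers

variable (p : ℕ) [Fact p.Prime] (m : ℕ) (R : Type u) [CommRing R]

/-- `p * y = V (F (ȳ))` in truncated Witt vectors in characteristic `p`. -/
theorem p_mul_eq [CharP R p] (hp : (p : R) = 0) (y : TruncatedWittVector p (m + 1) R) :
    (p : TruncatedWittVector p (m + 1) R) * y =
      WittGrp.shift p (Nat.le_succ m)
        (WittGrp.frob p m hp (TruncatedWittVector.truncate (Nat.le_succ m) y)) := by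
  obtain ⟨Y, rfl⟩ := WittVector.truncate_surjective p (m + 1) R y
  rw [TruncatedWittVector.truncate_wittVector_truncate, WittGrp.frob_truncate,
    WittGrp.shift_truncate]
  have h1 : m + 1 - m = 1 := by omega
  rw [h1, Function.iterate_one, WittVector.verschiebung_frobenius, map_mul, map_natCast, mul_comm]

theorem coeff_zero_shift (x : TruncatedWittVector p m R) :
    (WittGrp.shift p (Nat.le_succ m) x).coeff 0 = 0 := by
  rw [WittGrp.coeff_shift, dif_neg]
  simp

theorem coeff_succ_shift (x : TruncatedWittVector p m R) (i : Fin m) :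
    (WittGrp.shift p (Nat.le_succ m) x).coeff i.succ = x.coeff i := by
  rw [WittGrp.coeff_shift, dif_pos (by simp)]
  congr 1
  ext
  simp

theorem shift_injective :
    Function.Injective (WittGrp.shift p (Nat.le_succ m) :
      TruncatedWittVector p m R → TruncatedWittVector p (m + 1) R) := by
  intro x y h
  apply TruncatedWittVector.ext
  intro i
  rw [← coeff_succ_shift p m R x i, ← coeff_succ_shift p m R y i, h]

theorem exists_shift_of_coeff_zero (w : TruncatedWittVector p (m + 1) R) (h : w.coeff 0 = 0) :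
    ∃ x : TruncatedWittVector p m R, w = WittGrp.shift p (Nat.le_succ m) x := by
  refine ⟨TruncatedWittVector.mk p fun i => w.coeff i.succ, ?_⟩
  apply TruncatedWittVector.ext
  intro i
  refine Fin.cases ?_ (fun j => ?_) i
  · rw [h, coeff_zero_shift]
  · rw [coeff_succ_shift, TruncatedWittVector.coeff_mk]

end helpers

/-- Let p be a prime, m ≥ 1, R a commutative ring with p = 0 in R and σ : W_m(R) → R a quasi-F-splitting
of level m (additive, σ(1) = 1, σ(F(x)·y) = x₀·σ(y) with F the componentwise p-th power). Let I ⊆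
W_{m+1}(R) be the ideal generated by the shifts V(x) of the x with σ(x) = 0, and Q = W_{m+1}(R)/I.
Then Q is a flat lifting of R modulo p²: an element of Q lies in pQ exactly when the first Witt
component of a representative vanishes (so Q/pQ is R through the first component), and an element of
Q is killed by p exactly when it lies in pQ. (Stated for a ring; the source has a scheme over the
prime field. For m = 1 this is the lifting attached to a Frobenius splitting.) -/
theorem result
    (p : ℕ) [Fact p.Prime] (m : ℕ) (hm : 0 < m) (R : Type u) [CommRing R] (hp : (p : R) = 0)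
    (σ : TruncatedWittVector p m R →+ R) (h1 : σ 1 = 1)
    (hF : ∀ x y : TruncatedWittVector p m R, σ (WittGrp.frob p m hp x * y) = x.coeff ⟨0, hm⟩ * σ y)
    (I : Ideal (TruncatedWittVector p (m + 1) R))
    (hI : I = Ideal.span (WittGrp.shift p (Nat.le_succ m) '' {x : TruncatedWittVector p m R | σ x = 0})) :
    (∀ w : TruncatedWittVector p (m + 1) R,
        Ideal.Quotient.mk I w ∈ Ideal.span ({(p : TruncatedWittVector p (m + 1) R ⧸ I)} : Set _) ↔
          w.coeff 0 = 0) ∧
    (∀ q : TruncatedWittVector p (m + 1) R ⧸ I,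
        (p : TruncatedWittVector p (m + 1) R ⧸ I) * q = 0 ↔
          q ∈ Ideal.span ({(p : TruncatedWittVector p (m + 1) R ⧸ I)} : Set _)) := by
  classical
  rcases subsingleton_or_nontrivial R with hR | hR
  · have hsub : Subsingleton (TruncatedWittVector p (m + 1) R) :=
      ⟨fun a b => TruncatedWittVector.ext fun i => Subsingleton.elim _ _⟩
    have hsubQ : Subsingleton (TruncatedWittVector p (m + 1) R ⧸ I) :=
      ⟨fun a b => by
        obtain ⟨a, rfl⟩ := Ideal.Quotient.mk_surjective a
        obtain ⟨b, rfl⟩ := Ideal.Quotient.mk_surjective b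
        rw [Subsingleton.elim a b]⟩
    refine ⟨fun w => ⟨fun _ => Subsingleton.elim _ _, fun _ => ?_⟩,
      fun q => ⟨fun _ => ?_, fun _ => Subsingleton.elim _ _⟩⟩
    · rw [Subsingleton.elim (Ideal.Quotient.mk I w) 0]; exact Submodule.zero_mem _
    · rw [Subsingleton.elim q 0]; exact Submodule.zero_mem _
  have hchar : CharP R p := (CharP.charP_iff_prime_eq_zero (Fact.out)).mpr hp
  -- `σ (F a) = a₀`
  have hσF : ∀ a : TruncatedWittVector p m R, σ (WittGrp.frob p m hp a) = a.coeff ⟨0, hm⟩ := by
    intro a
    have := hF a 1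
    rwa [mul_one, h1, mul_one] at this
  -- the ideal is the image of the kernel
  have hImem : ∀ w, w ∈ I ↔ ∃ x : TruncatedWittVector p m R, σ x = 0 ∧
      w = WittGrp.shift p (Nat.le_succ m) x := by
    intro w
    constructor
    · intro hw
      rw [hI] at hw
      induction hw using Submodule.span_induction with
      | mem w hw =>
        obtain ⟨x, hx, rfl⟩ := hw
        exact ⟨x, hx, rfl⟩
      | zero => exact ⟨0, map_zero σ, (map_zero _).symm⟩
      | add a b _ _ ha hb =>
        obtain ⟨x, hx, rfl⟩ := ha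
        obtain ⟨y, hy, rfl⟩ := hb
        exact ⟨x + y, by rw [map_add, hx, hy, add_zero], (map_add _ _ _).symm⟩
      | smul a b _ hb =>
        obtain ⟨x, hx, rfl⟩ := hb
        obtain ⟨x', hx', h⟩ := Groth.Agent.S16372.result p m hm R hp σ h1 hF a x hx
        exact ⟨x', hx', h⟩
    · rintro ⟨x, hx, rfl⟩
      rw [hI]
      exact Ideal.subset_span ⟨x, hx, rfl⟩
  -- `p * z ∈ I` when `z₀ = 0`
  have hcoeff_trunc : ∀ z : TruncatedWittVector p (m + 1) R,
      (TruncatedWittVector.truncate (Nat.le_succ m) z).coeff ⟨0, hm⟩ = z.coeff 0 := by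
    intro z
    rw [TruncatedWittVector.coeff_truncate]
    rfl
  -- (⇐) of part 1
  have part1 : ∀ w : TruncatedWittVector p (m + 1) R, w.coeff 0 = 0 →
      Ideal.Quotient.mk I w ∈ Ideal.span ({(p : TruncatedWittVector p (m + 1) R ⧸ I)} : Set _) := by
    intro w hw
    obtain ⟨x, rfl⟩ := exists_shift_of_coeff_zero p m R w hw
    let a : TruncatedWittVector p m R :=
      TruncatedWittVector.mk p fun i => if i = ⟨0, hm⟩ then σ x else 0
    have ha0 : a.coeff ⟨0, hm⟩ = σ x := by
      rw [TruncatedWittVector.coeff_mk, if_pos rfl]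
    obtain ⟨y, hy⟩ := TruncatedWittVector.truncate_surjective (p := p) (R := R) (Nat.le_succ m) a
    have hker : σ (x - WittGrp.frob p m hp a) = 0 := by
      rw [map_sub, hσF, ha0, sub_self]
    have hdecomp : WittGrp.shift p (Nat.le_succ m) x =
        (p : TruncatedWittVector p (m + 1) R) * y +
          WittGrp.shift p (Nat.le_succ m) (x - WittGrp.frob p m hp a) := by
      rw [p_mul_eq p m R hp y, hy, ← map_add]
      congr 1
      abel
    rw [hdecomp, map_add, map_mul, map_natCast]
    have hzero : Ideal.Quotient.mk I (WittGrp.shift p (Nat.le_succ m) (x - WittGrp.frob p m hp a)) = 0 :=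
      Ideal.Quotient.eq_zero_iff_mem.mpr ((hImem _).mpr ⟨_, hker, rfl⟩)
    rw [hzero, add_zero]
    exact Ideal.mul_mem_right _ _ (Ideal.subset_span rfl)
  refine ⟨fun w => ⟨fun hw => ?_, part1 w⟩, fun q => ⟨fun hq => ?_, fun hq => ?_⟩⟩
  · -- (⇒) of part 1
    rw [Ideal.mem_span_singleton'] at hw
    obtain ⟨q', hq'⟩ := hw
    obtain ⟨y, rfl⟩ := Ideal.Quotient.mk_surjective q'
    have hmem : w - y * (p : TruncatedWittVector p (m + 1) R) ∈ I := by
      rw [← Ideal.Quotient.eq_zero_iff_mem, map_sub, map_mul, map_natCast, hq', sub_self]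
    obtain ⟨x, _, hx⟩ := (hImem _).mp hmem
    have hw' : w = (p : TruncatedWittVector p (m + 1) R) * y + WittGrp.shift p (Nat.le_succ m) x := by
      rw [← hx]; ring
    rw [hw', p_mul_eq p m R hp y, ← map_add, coeff_zero_shift]
  · -- (⇒) of part 2
    obtain ⟨w, rfl⟩ := Ideal.Quotient.mk_surjective q
    apply part1
    have hmem : (p : TruncatedWittVector p (m + 1) R) * w ∈ I := by
      rw [← Ideal.Quotient.eq_zero_iff_mem, map_mul, map_natCast, hq]
    obtain ⟨x, hx0, hx⟩ := (hImem _).mp hmem
    rw [p_mul_eq p m R hp w] at hx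
    have := shift_injective p m R hx
    rw [← hcoeff_trunc, ← hσF, this, hx0]
  · -- (⇐) of part 2
    rw [Ideal.mem_span_singleton'] at hq
    obtain ⟨q', rfl⟩ := hq
    obtain ⟨y, rfl⟩ := Ideal.Quotient.mk_surjective q'
    have hmem : (p : TruncatedWittVector p (m + 1) R) * (y * p) ∈ I := by
      rw [hImem]
      refine ⟨_, ?_, p_mul_eq p m R hp _⟩
      rw [hσF, hcoeff_trunc, mul_comm y, p_mul_eq p m R hp y, coeff_zero_shift]
    rw [← map_natCast (Ideal.Quotient.mk I), ← map_mul, ← map_mul]
    exact Ideal.Quotient.eq_zero_iff_mem.mpr hmem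

end Groth.Agent.S16373
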