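import Groth.Statements.S16374
import Mathlib

set_option autoImplicit false
universe u v w
open FrobAlg

namespace Groth.Agent.S16374

/-- Let p be a prime, A a commutative ring, B and C commutative A-algebras with p² = 0 in B, and g : C →
B an A-algebra map such that every g(c) is congruent modulo p to an element of the A-subalgebra of B
generated by the p-th powers (g lifts a relative Frobenius). Then d(g(x)) = 0 in the module of
Kähler differentials of B over A for every x ∈ C that is congruent modulo p to an element of the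
A-subalgebra of C generated by the p-th powers. (The source works with a lifting of the relative
Frobenius of a smooth scheme over a ℤ/p²-thickening and the subsheaf of functions whose reduction
comes from the Frobenius twist; smoothness is not needed for this vanishing.) -/
theorem result
    (p : ℕ) [Fact p.Prime] (A : Type u) [CommRing A] (B : Type v) [CommRing B] [Algebra A B]
    (C : Type w) [CommRing C] [Algebra A C] (hp : (p : B) ^ 2 = 0)
    (g : C →ₐ[A] B)
    (hg : ∀ c : C, ∃ u ∈ Algebra.adjoin A (Set.range fun b : B => b ^ p),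
      g c - u ∈ Ideal.span ({(p : B)} : Set B))
    (x y : C) (hy : y ∈ Algebra.adjoin A (Set.range fun c : C => c ^ p))
    (hxy : x - y ∈ Ideal.span ({(p : C)} : Set C)) :
    KaehlerDifferential.D A B (g x) = 0 := by
  have hpp : (p : B) * (p : B) = 0 := by rw [← sq]; exact hp
  set D := KaehlerDifferential.D A B with hD
  have hDp : ∀ b : B, D ((p : B) * b) = (p : B) • D b := by
    intro b
    rw [D.leibniz, D.map_natCast, smul_zero, add_zero]
  -- Step 1: `D` of an element of the subalgebra generated by `p`-th powers is divisible by `p`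
  have step1 : ∀ u ∈ Algebra.adjoin A (Set.range fun b : B => b ^ p),
      ∃ ω : Ω[B⁄A], D u = (p : B) • ω := by
    intro u hu
    induction hu using Algebra.adjoin_induction with
    | mem u hu =>
      obtain ⟨b, rfl⟩ := hu
      refine ⟨b ^ (p - 1) • D b, ?_⟩
      simp only
      rw [D.leibniz_pow, Nat.cast_smul_eq_nsmul B]
    | algebraMap a => exact ⟨0, by simp⟩
    | add u v _ _ hu hv =>
      obtain ⟨ω₁, h₁⟩ := hu
      obtain ⟨ω₂, h₂⟩ := hv
      exact ⟨ω₁ + ω₂, by rw [map_add, h₁, h₂, smul_add]⟩
    | mul u v _ _ hu hv =>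
      obtain ⟨ω₁, h₁⟩ := hu
      obtain ⟨ω₂, h₂⟩ := hv
      refine ⟨u • ω₂ + v • ω₁, ?_⟩
      rw [D.leibniz, h₁, h₂, smul_add, smul_comm u, smul_comm v]
  -- Step 2
  have step2 : ∀ c : C, ∃ ω : Ω[B⁄A], D (g c) = (p : B) • ω := by
    intro c
    obtain ⟨u, hu, hcu⟩ := hg c
    obtain ⟨b, hb⟩ := Ideal.mem_span_singleton'.mp hcu
    obtain ⟨ω, hω⟩ := step1 u hu
    have h1 : g c = u + (p : B) * b := by rw [mul_comm, hb]; ring
    exact ⟨ω + D b, by rw [h1, map_add, hω, hDp, smul_add]⟩
  -- Step 3
  have step3 : ∀ c : C, D (g (c ^ p)) = 0 := by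
    intro c
    obtain ⟨ω, hω⟩ := step2 c
    rw [map_pow, D.leibniz_pow, hω, ← Nat.cast_smul_eq_nsmul B, smul_smul, smul_smul]
    have : (p : B) * g c ^ (p - 1) * (p : B) = g c ^ (p - 1) * ((p : B) * (p : B)) := by ring
    rw [this, hpp, mul_zero, zero_smul]
  -- Step 4
  have step4 : ∀ y ∈ Algebra.adjoin A (Set.range fun c : C => c ^ p), D (g y) = 0 := by
    intro y hy
    induction hy using Algebra.adjoin_induction with
    | mem y hy =>
      obtain ⟨c, rfl⟩ := hy
      exact step3 c
    | algebraMap a => rw [AlgHom.commutes, D.map_algebraMap]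
    | add u v _ _ hu hv => rw [map_add, map_add, hu, hv, add_zero]
    | mul u v _ _ hu hv => rw [map_mul, D.leibniz, hu, hv, smul_zero, smul_zero, add_zero]
  obtain ⟨c, hc⟩ := Ideal.mem_span_singleton'.mp hxy
  have hx : x = y + (p : C) * c := by rw [mul_comm, hc]; ring
  obtain ⟨ω, hω⟩ := step2 c
  rw [hx, map_add, map_mul, map_natCast, map_add, step4 y hy, hDp, hω, smul_smul, hpp, zero_smul,
    add_zero]

end Groth.Agent.S16374
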