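import Groth.Statements.S1639
import Mathlib
import Groth.Agent.Lib.Helper23FFNorm2
import Groth.Agent.Lib.Helper23Norm2
import Groth.Agent.Lib.Helper23PB
-- import your own Groth.Agent.* helpers here

set_option autoImplicit false
universe u
open CategoryTheory CategoryTheory.Limits AlgebraicGeometry
open Divisors

namespace Groth.Agent.S1639


/-- Let π : X → Y be finite and surjective, with Y integral and normal. If X has an ample invertible
module then so does Y. -/
theorem result {X Y : Scheme.{u}} (π : X ⟶ Y) [IsFinite π] [Surjective π]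
    [IsIntegral Y] (hY : Pi1.IsNormalScheme Y) (L : X.Modules) (hL : CohB1.IsAmple L) :
    ∃ M : Y.Modules, CohB1.IsAmple M := by
  obtain ⟨X', ι, d, hι, ⟨N⟩⟩ := Groth.Agent.Lib.Helper23.FFNorm.exists_closed_hasNorm π hY
  haveI := hι
  have hL' : CohB1.IsAmple ((Scheme.Modules.pullback ι).obj L) :=
    Groth.Agent.Lib.Helper23.PB.isAmple_pullback_of_isAffineHom ι L hL
  exact Groth.Agent.Lib.Helper23.Norm.exists_isAmple_of_norm (ι ≫ π) N _ hL'

end Groth.Agent.S1639
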