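import Groth.Statements.S16390
import Mathlib

set_option autoImplicit false
open AbVar

namespace Groth.Agent.S16390

/-- the key real inequality: `p ^ 2 / 4 < p ^ r`. -/
theorem key_ineq (p r : ℕ) [Fact p.Prime] (hr : 2 < r) : ((p : ℝ) ^ 2) / 4 < (p : ℝ) ^ r := by
  have hp2 : (2 : ℝ) ≤ p := by exact_mod_cast (Fact.out : p.Prime).two_le
  have h1 : (p : ℝ) ^ 2 ≤ (p : ℝ) ^ r := pow_le_pow_right₀ (by linarith) hr.le
  have h2 : (0 : ℝ) < (p : ℝ) ^ 2 := by positivity
  linarith

theorem no_real_root (p r : ℕ) [Fact p.Prime] (hr : 2 < r) (x : ℝ) :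
    x ^ 2 - (p : ℝ) * x + (p : ℝ) ^ r ≠ 0 := by
  have := key_ineq p r hr
  nlinarith [sq_nonneg (x - (p : ℝ) / 2)]

theorem val_of_norm (p : ℕ) [Fact p.Prime] (x : ℚ_[p]) (n : ℤ) (h : ‖x‖ = (p : ℝ) ^ (-n)) :
    x.valuation = n := by
  have hp1 : (1 : ℝ) < p := by exact_mod_cast (Fact.out : p.Prime).one_lt
  have hx : x ≠ 0 := by
    intro h0
    rw [h0, norm_zero] at h
    have : (0 : ℝ) < (p : ℝ) ^ (-n) := by positivity
    linarith
  rw [Padic.norm_eq_zpow_neg_valuation hx] at h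
  have := (zpow_right_inj₀ (by linarith) (ne_of_gt hp1)).mp h
  linarith

/-- Let p be a prime number, r > 2 and q = p^r. The polynomial x² − p x + q is irreducible over ℚ, each
of its complex roots has absolute value √q (so its roots are Weil q-numbers), and it has two
distinct roots in ℚ_p, of p-adic valuations 1 and r − 1. The published lemma also computes the index
of the endomorphism algebra of the simple abelian variety attached to a root; this row does not
state that part. -/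
theorem result (p r : ℕ) [Fact p.Prime] (hr : 2 < r) :
    Irreducible (Polynomial.X ^ 2 - Polynomial.C (p : ℚ) * Polynomial.X + Polynomial.C ((p : ℚ) ^ r)) ∧
      (∀ π : ℂ, π ^ 2 - (p : ℂ) * π + (p : ℂ) ^ r = 0 → ‖π‖ = Real.sqrt ((p : ℝ) ^ r)) ∧
      ∃ a b : ℚ_[p], a ≠ b ∧ a ^ 2 - (p : ℚ_[p]) * a + (p : ℚ_[p]) ^ r = 0 ∧
        b ^ 2 - (p : ℚ_[p]) * b + (p : ℚ_[p]) ^ r = 0 ∧ a.valuation = 1 ∧ b.valuation = (r : ℤ) - 1 := by
  have hpp : p.Prime := Fact.out
  have hp1 : (1 : ℝ) < p := by exact_mod_cast hpp.one_lt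
  refine ⟨?_, ?_, ?_⟩
  · -- irreducibility
    have hform : (Polynomial.X ^ 2 - Polynomial.C (p : ℚ) * Polynomial.X +
        Polynomial.C ((p : ℚ) ^ r)) =
        Polynomial.C (1 : ℚ) * Polynomial.X ^ 2 + Polynomial.C (-(p : ℚ)) * Polynomial.X +
          Polynomial.C ((p : ℚ) ^ r) := by
      rw [Polynomial.C_1, Polynomial.C_neg]; ring
    apply Polynomial.irreducible_of_degree_le_three_of_not_isRoot
    · rw [hform, Polynomial.natDegree_quadratic one_ne_zero]
      simp
    · intro x hx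
      rw [Polynomial.IsRoot.def] at hx
      simp only [Polynomial.eval_add, Polynomial.eval_sub, Polynomial.eval_pow, Polynomial.eval_X,
        Polynomial.eval_mul, Polynomial.eval_C] at hx
      have h2 := no_real_root p r hr (x : ℝ)
      apply h2
      have := congrArg (Rat.cast : ℚ → ℝ) hx
      push_cast at this
      exact this
  · -- complex roots
    intro π hπ
    have hre := congrArg Complex.re hπ
    have him := congrArg Complex.im hπ
    simp only [Complex.add_re, Complex.sub_re, Complex.mul_re, Complex.add_im, Complex.sub_im,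
      Complex.mul_im, Complex.zero_re, Complex.zero_im, sq, Complex.natCast_re,
      Complex.natCast_im, zero_mul, sub_zero, add_zero] at hre him
    have hpr_re : ((p : ℂ) ^ r).re = (p : ℝ) ^ r := by
      rw [← Complex.ofReal_natCast, ← Complex.ofReal_pow, Complex.ofReal_re]
    have hpr_im : ((p : ℂ) ^ r).im = 0 := by
      rw [← Complex.ofReal_natCast, ← Complex.ofReal_pow, Complex.ofReal_im]
    rw [hpr_re] at hre
    rw [hpr_im] at him
    have hy : π.im ≠ 0 := by
      intro h0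
      rw [h0] at hre
      apply no_real_root p r hr π.re
      nlinarith
    have hx : 2 * π.re = p := by
      have : π.im * (2 * π.re - p) = 0 := by nlinarith
      rcases mul_eq_zero.mp this with h | h
      · exact absurd h hy
      · linarith
    have hnorm : Complex.normSq π = (p : ℝ) ^ r := by
      rw [Complex.normSq_apply]
      nlinarith
    rw [Complex.norm_def, hnorm]
  · -- p-adic roots
    have hr2 : 1 ≤ r - 2 := by omega
    obtain ⟨c, hc⟩ : ∃ c : ℤ_[p], c = (p : ℤ_[p]) ^ (r - 2) := ⟨_, rfl⟩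
    set g : Polynomial ℤ_[p] :=
      Polynomial.X ^ 2 - Polynomial.X + Polynomial.C c with hg
    have hgeval : ∀ z : ℤ_[p], Polynomial.aeval z g = z ^ 2 - z + c := by
      intro z
      simp [hg]
    have hgder : ∀ z : ℤ_[p], Polynomial.aeval z (Polynomial.derivative g) = 2 * z - 1 := by
      intro z
      simp [hg]
      left
      norm_num
    have hsmall : ‖c‖ < 1 := by
      rw [hc, PadicInt.norm_p_pow]
      apply zpow_lt_one_of_neg₀ hp1
      omega
    -- the root near 1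
    have hn1 : ‖Polynomial.aeval (1 : ℤ_[p]) g‖ <
        ‖Polynomial.aeval (1 : ℤ_[p]) (Polynomial.derivative g)‖ ^ 2 := by
      rw [hgeval, hgder]
      norm_num
      exact hsmall
    obtain ⟨y₁, hy₁, hy₁d, -, -⟩ := hensels_lemma hn1
    rw [hgeval] at hy₁
    rw [hgder] at hy₁d
    have hy₁d' : ‖y₁ - 1‖ < 1 := by
      have : ‖(2 * 1 - 1 : ℤ_[p])‖ = 1 := by norm_num
      rwa [this] at hy₁d
    have hy₁norm : ‖y₁‖ = 1 := by
      have h1 : y₁ = (y₁ - 1) + 1 := by ring
      rw [h1, PadicInt.norm_add_eq_max_of_ne (by rw [norm_one]; exact ne_of_lt hy₁d'), norm_one]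
      exact max_eq_right hy₁d'.le
    -- the root near 0
    have hn0 : ‖Polynomial.aeval (0 : ℤ_[p]) g‖ <
        ‖Polynomial.aeval (0 : ℤ_[p]) (Polynomial.derivative g)‖ ^ 2 := by
      rw [hgeval, hgder]
      norm_num
      exact hsmall
    obtain ⟨y₀, hy₀, hy₀d, -, -⟩ := hensels_lemma hn0
    rw [hgeval] at hy₀
    rw [hgder] at hy₀d
    have hy₀d' : ‖y₀‖ < 1 := by
      have : ‖(2 * 0 - 1 : ℤ_[p])‖ = 1 := by norm_num
      rwa [this, sub_zero] at hy₀d
    have h1y₀ : ‖1 - y₀‖ = 1 := by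
      have h1 : (1 : ℤ_[p]) - y₀ = 1 + (-y₀) := by ring
      rw [h1, PadicInt.norm_add_eq_max_of_ne (by rw [norm_one, norm_neg]; exact (ne_of_lt hy₀d').symm),
        norm_one, norm_neg]
      exact max_eq_left hy₀d'.le
    have hy₀norm : ‖y₀‖ = (p : ℝ) ^ (-((r - 2 : ℕ) : ℤ)) := by
      have h2 : y₀ * (1 - y₀) = (p : ℤ_[p]) ^ (r - 2) := by rw [← hc]; linear_combination -hy₀
      have h3 := congrArg norm h2
      rw [norm_mul, h1y₀, mul_one, PadicInt.norm_p_pow] at h3
      exact h3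
    -- assemble
    have hprq : (p : ℚ_[p]) ^ r = (p : ℚ_[p]) ^ 2 * (p : ℚ_[p]) ^ (r - 2) := by
      rw [← pow_add]; congr 1; omega
    have hroot : ∀ y : ℤ_[p], y ^ 2 - y + c = 0 →
        ((p : ℚ_[p]) * (y : ℚ_[p])) ^ 2 - (p : ℚ_[p]) * ((p : ℚ_[p]) * (y : ℚ_[p])) +
          (p : ℚ_[p]) ^ r = 0 := by
      intro y hy
      have h : ((y ^ 2 - y + (p : ℤ_[p]) ^ (r - 2) : ℤ_[p]) : ℚ_[p]) = ((0 : ℤ_[p]) : ℚ_[p]) := by
        rw [← hc, hy]
      push_cast at h
      rw [hprq]
      linear_combination ((p : ℚ_[p]) ^ 2) * h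
    have hva : ((p : ℚ_[p]) * (y₁ : ℚ_[p])).valuation = 1 := by
      apply val_of_norm
      rw [norm_mul, Padic.norm_p, PadicInt.padic_norm_e_of_padicInt, hy₁norm, mul_one, zpow_neg,
        zpow_one]
    have hvb : ((p : ℚ_[p]) * (y₀ : ℚ_[p])).valuation = (r : ℤ) - 1 := by
      apply val_of_norm
      rw [norm_mul, Padic.norm_p, PadicInt.padic_norm_e_of_padicInt, hy₀norm]
      have hp0 : (p : ℝ) ≠ 0 := by positivity
      rw [← zpow_neg_one, ← zpow_add₀ hp0]
      congr 1
      have : ((r - 2 : ℕ) : ℤ) = (r : ℤ) - 2 := by omega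
      rw [this]; ring
    refine ⟨(p : ℚ_[p]) * (y₁ : ℚ_[p]), (p : ℚ_[p]) * (y₀ : ℚ_[p]), ?_, hroot y₁ hy₁, hroot y₀ hy₀,
      hva, hvb⟩
    intro hab
    rw [hab, hvb] at hva
    omega

end Groth.Agent.S16390
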