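import Groth.Statements.S16396
import Mathlib

set_option autoImplicit false
universe u
open CAlg

namespace Groth.Agent.S16396

open Polynomial in
/-- For a commutative ℚ-algebra A, a ℚ-subalgebra B of the polynomial algebra A[X] that contains X and
is closed under d/dX consists exactly of the polynomials each of whose coefficients is the value at
0 of some element of B; in other words B = ev(B)[X], with ev the evaluation at 0. -/
theorem result
    (A : Type u) [CommRing A] [Algebra ℚ A] (B : Subalgebra ℚ A[X])
    (hX : (X : A[X]) ∈ B) (hD : ∀ P ∈ B, Polynomial.derivative P ∈ B) (P : A[X]) :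
    P ∈ B ↔ ∀ i : ℕ, ∃ Q ∈ B, Polynomial.eval 0 Q = P.coeff i := by
  classical
  have key : ∀ n : ℕ, ∀ Q ∈ B, Q.natDegree ≤ n → ∀ j, (C (Q.coeff j) : A[X]) ∈ B := by
    intro n
    induction n with
    | zero =>
      intro Q hQ hdeg j
      rcases Nat.eq_zero_or_pos j with rfl | hj
      · rw [← Polynomial.eq_C_of_natDegree_le_zero hdeg]; exact hQ
      · rw [Polynomial.coeff_eq_zero_of_natDegree_lt (by omega), map_zero]
        exact B.zero_mem
    | succ n ih =>
      intro Q hQ hdeg j
      have hder : ∀ j, (C (Q.coeff (j + 1)) : A[X]) ∈ B := by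
        intro j
        have h1 := ih (derivative Q) (hD Q hQ)
          ((Polynomial.natDegree_derivative_le Q).trans (by omega)) j
        rw [Polynomial.coeff_derivative] at h1
        have h2 : (C (Q.coeff (j + 1)) : A[X]) =
            (((j : ℚ) + 1)⁻¹) • (C (Q.coeff (j + 1) * ((j : A) + 1)) : A[X]) := by
          have h3 : Q.coeff (j + 1) * ((j : A) + 1) = ((j : ℚ) + 1) • Q.coeff (j + 1) := by
            rw [Algebra.smul_def, mul_comm]
            simp
          rw [h3, ← Polynomial.smul_C, smul_smul, inv_mul_cancel₀ (by positivity), one_smul]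
        rw [h2]
        exact B.smul_mem h1 _
      rcases Nat.eq_zero_or_pos j with rfl | hj
      · have hsum := Polynomial.as_sum_range' Q (n + 2) (by omega)
        rw [Finset.sum_range_succ'] at hsum
        have h0 : (C (Q.coeff 0) : A[X]) =
            Q - ∑ i ∈ Finset.range (n + 1), monomial (i + 1) (Q.coeff (i + 1)) := by
          rw [eq_sub_iff_add_eq, add_comm]
          conv_rhs => rw [hsum]
          rfl
        rw [h0]
        refine B.sub_mem hQ (B.sum_mem fun i _ => ?_)
        rw [← Polynomial.C_mul_X_pow_eq_monomial]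
        exact B.mul_mem (hder i) (B.pow_mem hX _)
      · obtain ⟨j', rfl⟩ : ∃ j', j = j' + 1 := ⟨j - 1, by omega⟩
        exact hder j'
  constructor
  · intro hP i
    exact ⟨C (P.coeff i), key P.natDegree P hP le_rfl i, by simp⟩
  · intro h
    rw [Polynomial.as_sum_range_C_mul_X_pow P]
    refine B.sum_mem fun i _ => ?_
    obtain ⟨Q, hQ, hQi⟩ := h i
    have := key Q.natDegree Q hQ le_rfl 0
    rw [Polynomial.coeff_zero_eq_eval_zero, hQi] at this
    exact B.mul_mem this (B.pow_mem hX _)

end Groth.Agent.S16396
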