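import Groth.Statements.S16397
import Mathlib
-- import your own Groth.Agent.* helpers here

set_option autoImplicit false
set_option linter.style.haveILetI false
set_option linter.unusedSectionVars false
open W4c3tautjacobian

namespace Groth.Agent.S16397

open MvPolynomial

/-- first-degree weight, ℕ-valued -/
def w1n (g : ℕ) : Var g → ℕ := fun v => (wt g v).1
/-- first-degree weight, ℤ-valued -/
def w1 (g : ℕ) : Var g → ℤ := fun v => ((w1n g v : ℕ) : ℤ)

lemma weight_w1n (g : ℕ) (d : Var g →₀ ℕ) :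
    Finsupp.weight (w1n g) d = (Finsupp.weight (wt g) d).1 := by
  simp only [Finsupp.weight_apply, Finsupp.sum, Prod.fst_sum]
  refine Finset.sum_congr rfl fun i _ => ?_
  simp [w1n]

lemma weight_w1 (g : ℕ) (d : Var g →₀ ℕ) :
    Finsupp.weight (w1 g) d = ((Finsupp.weight (w1n g) d : ℕ) : ℤ) := by
  simp only [Finsupp.weight_apply, Finsupp.sum, Nat.cast_sum]
  refine Finset.sum_congr rfl fun i _ => ?_
  simp [w1]

lemma wh_of_bihom (g : ℕ) (P : RelRing g) (m n : ℕ)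
    (h : IsWeightedHomogeneous (wt g) P ((m, n) : ℕ × ℕ)) :
    IsWeightedHomogeneous (w1 g) P (m : ℤ) := by
  intro d hd
  rw [weight_w1, weight_w1n, h hd]

lemma whn_of_wh (g : ℕ) (P : RelRing g) (m : ℕ)
    (h : IsWeightedHomogeneous (w1 g) P (m : ℤ)) :
    IsWeightedHomogeneous (w1n g) P m := by
  intro d hd
  have := h hd
  rw [weight_w1] at this
  exact_mod_cast this

lemma eq_zero_of_wh_neg (g : ℕ) (P : RelRing g) (m : ℤ) (hm : m < 0)
    (h : IsWeightedHomogeneous (w1 g) P m) : P = 0 := by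
  by_contra hP
  obtain ⟨d, hd⟩ := MvPolynomial.ne_zero_iff.mp hP
  have := h hd
  rw [weight_w1] at this
  omega

lemma wh_congr (g : ℕ) {P : RelRing g} {m m' : ℤ} (h : IsWeightedHomogeneous (w1 g) P m)
    (e : m = m') : IsWeightedHomogeneous (w1 g) P m' := e ▸ h

lemma xv_wh (g : ℕ) (i j : ℤ) : IsWeightedHomogeneous (w1 g) (xv g i j) i := by
  unfold xv
  split_ifs with h0 h1
  · rw [h0.1]
    have : ((g : ℕ) : RelRing g) = C ((g : ℕ) : ℚ) := (map_natCast C g).symm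
    rw [this]; exact isWeightedHomogeneous_C _ _
  · have := isWeightedHomogeneous_X ℚ (w1 g) (some ⟨(i.toNat, j.toNat), h1.2.2⟩)
    convert this using 1
    simp [w1, w1n, wt, Int.toNat_of_nonneg h1.1]
  · exact isWeightedHomogeneous_zero _ _ _

noncomputable def dvD (g : ℕ) (p : ℕ × ℕ) : Derivation ℚ (RelRing g) (RelRing g) :=
  if h : Valid g p then MvPolynomial.pderiv (some ⟨p, h⟩) else 0

lemma dv_eq (g : ℕ) (p : ℕ × ℕ) (P : RelRing g) : dv g p P = dvD g p P := by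
  unfold dv dvD; split_ifs <;> rfl

lemma dv_wh (g : ℕ) (p : ℕ × ℕ) (P : RelRing g) (m : ℤ)
    (h : IsWeightedHomogeneous (w1 g) P m) :
    IsWeightedHomogeneous (w1 g) (dv g p P) (m - p.1) := by
  unfold dv
  split_ifs with hv
  · exact IsWeightedHomogeneous.pderiv h (by simp [w1, w1n, wt])
  · exact isWeightedHomogeneous_zero _ _ _

noncomputable def Cf (g : ℕ) (p q : ℕ × ℕ) : RelRing g :=
  MvPolynomial.X none * xv g ((p.1 : ℤ) - 1) ((p.2 : ℤ) - 1)
      * xv g ((q.1 : ℤ) - 1) ((q.2 : ℤ) - 1)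
    - (mergeCoeff p.1 q.1 : RelRing g) * xv g ((p.1 : ℤ) + q.1 - 2) ((p.2 : ℤ) + q.2)

lemma F_def (g : ℕ) (P : RelRing g) :
    F g P = (1 / 2 : ℚ) • (∑ p ∈ idx g, ∑ q ∈ idx g, Cf g p q * dv g p (dv g q P))
      + ∑ p ∈ idx g, xv g ((p.1 : ℤ) - 2) (p.2 : ℤ) * dv g p P := rfl

lemma Cf_wh (g : ℕ) (p q : ℕ × ℕ) :
    IsWeightedHomogeneous (w1 g) (Cf g p q) (((p.1 : ℤ) - 1) + ((q.1 : ℤ) - 1)) := by
  unfold Cf
  refine IsWeightedHomogeneous.sub ?_ ?_
  · have := ((isWeightedHomogeneous_X ℚ (w1 g) none).mul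
      (xv_wh g ((p.1 : ℤ) - 1) ((p.2 : ℤ) - 1))).mul (xv_wh g ((q.1 : ℤ) - 1) ((q.2 : ℤ) - 1))
    refine wh_congr g this ?_
    simp [w1, w1n, wt]
  · have hc : ((mergeCoeff p.1 q.1 : ℕ) : RelRing g) = C ((mergeCoeff p.1 q.1 : ℕ) : ℚ) :=
      (map_natCast C _).symm
    rw [hc]
    have := (isWeightedHomogeneous_C (w1 g) ((mergeCoeff p.1 q.1 : ℕ) : ℚ)).mul
      (xv_wh g ((p.1 : ℤ) + q.1 - 2) ((p.2 : ℤ) + q.2))
    refine wh_congr g this ?_
    ring

lemma F_wh (g : ℕ) (P : RelRing g) (m : ℤ) (h : IsWeightedHomogeneous (w1 g) P m) :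
    IsWeightedHomogeneous (w1 g) (F g P) (m - 2) := by
  rw [F_def]
  refine IsWeightedHomogeneous.add ?_ ?_
  · refine (weightedHomogeneousSubmodule ℚ (w1 g) (m - 2)).smul_mem _ ?_
    refine Submodule.sum_mem _ fun p _ => Submodule.sum_mem _ fun q _ => ?_
    rw [mem_weightedHomogeneousSubmodule]
    have := (Cf_wh g p q).mul (dv_wh g p _ _ (dv_wh g q P m h))
    refine wh_congr g this ?_
    ring
  · refine IsWeightedHomogeneous.sum _ _ _ fun p _ => ?_
    have := (xv_wh g ((p.1 : ℤ) - 2) p.2).mul (dv_wh g p P m h)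
    refine wh_congr g this ?_
    ring

lemma F_iter_wh (g : ℕ) (P : RelRing g) (m : ℤ) (h : IsWeightedHomogeneous (w1 g) P m)
    (k : ℕ) : IsWeightedHomogeneous (w1 g) ((F g)^[k] P) (m - 2 * k) := by
  induction k with
  | zero => simpa using h
  | succ k ih =>
    rw [Function.iterate_succ_apply']
    have := F_wh g _ _ ih
    refine wh_congr g this ?_
    push_cast; ring

lemma F_add (g : ℕ) (P Q : RelRing g) : F g (P + Q) = F g P + F g Q := by
  rw [F_def, F_def, F_def]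
  simp only [dv_eq, map_add, mul_add, Finset.sum_add_distrib, smul_add]
  abel

lemma F_smul (g : ℕ) (c : ℚ) (P : RelRing g) : F g (c • P) = c • F g P := by
  rw [F_def, F_def]
  simp only [dv_eq, Derivation.map_smul, mul_smul_comm, ← Finset.smul_sum, smul_add]
  rw [smul_comm]


lemma valid20 (g : ℕ) (hg : 1 ≤ g) : Valid g (2, 0) := by
  refine ⟨by simp, by simp; omega, ⟨1, rfl⟩, by simp⟩

lemma xv20 (g : ℕ) (hg : 1 ≤ g) : xv g 2 0 = X (some ⟨(2, 0), valid20 g hg⟩) := by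
  unfold xv
  rw [if_neg (by norm_num), dif_pos ⟨by norm_num, le_refl _, by simpa using valid20 g hg⟩]
  rfl

lemma xv00 (g : ℕ) : xv g 0 0 = (g : RelRing g) := by
  simp [xv]

lemma xv1m1 (g : ℕ) : xv g 1 (-1) = 0 := by
  simp [xv]

lemma dvD_e (g : ℕ) (hg : 1 ≤ g) (p : ℕ × ℕ) :
    dvD g p (xv g 2 0) = if p = (2, 0) then 1 else 0 := by
  rw [xv20 g hg]
  unfold dvD
  by_cases hp : p = (2, 0)
  · subst hp
    rw [dif_pos (valid20 g hg), if_pos rfl, pderiv_X_self]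
  · rw [if_neg hp]
    by_cases hv : Valid g p
    · rw [dif_pos hv, pderiv_X_of_ne]
      intro h
      apply hp
      have := Option.some.inj h
      exact (congrArg Subtype.val this).symm
    · rw [dif_neg hv]; rfl

lemma dv_E (g : ℕ) (hg : 1 ≤ g) (p : ℕ × ℕ) (P : RelRing g) :
    dv g p (E g P) = xv g 2 0 * dv g p P + (if p = (2, 0) then P else 0) := by
  unfold E
  rw [dv_eq, dv_eq, Derivation.leibniz, dvD_e g hg, smul_eq_mul, smul_eq_mul]
  split_ifs <;> simp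

lemma dv_dv_E (g : ℕ) (hg : 1 ≤ g) (p q : ℕ × ℕ) (P : RelRing g) :
    dv g p (dv g q (E g P)) = xv g 2 0 * dv g p (dv g q P)
      + (if p = (2, 0) then dv g q P else 0) + (if q = (2, 0) then dv g p P else 0) := by
  rw [dv_E g hg q P, dv_eq g p, map_add, Derivation.leibniz, dvD_e g hg, smul_eq_mul, smul_eq_mul,
    ← dv_eq, ← dv_eq]
  have : dv g p (if q = (2, 0) then P else 0) = if q = (2, 0) then dv g p P else 0 := by
    split_ifs
    · rfl
    · simp [dv_eq]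
  rw [this]
  split_ifs <;> simp

lemma mergeCoeff_two_left (k : ℕ) : mergeCoeff 2 k = k := by
  unfold mergeCoeff
  rcases k with _ | k
  · simp
  · simp

lemma mergeCoeff_two_right (k : ℕ) : mergeCoeff k 2 = k := by
  unfold mergeCoeff
  rcases k with _ | k
  · simp
  · simp [Nat.choose_succ_self_right]

lemma Cf_left (g : ℕ) (q : ℕ × ℕ) :
    Cf g (2, 0) q = -((q.1 : RelRing g) * xv g q.1 q.2) := by
  unfold Cf
  have h1 : xv g ((((2, 0) : ℕ × ℕ).1 : ℤ) - 1) ((((2, 0) : ℕ × ℕ).2 : ℤ) - 1) = 0 := by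
    have : xv g 1 (-1) = 0 := xv1m1 g
    simpa using this
  have h2 : (((2, 0) : ℕ × ℕ).1 : ℤ) + q.1 - 2 = q.1 := by push_cast; ring
  have h3 : (((2, 0) : ℕ × ℕ).2 : ℤ) + q.2 = q.2 := by simp
  have h4 : mergeCoeff ((2, 0) : ℕ × ℕ).1 q.1 = q.1 := mergeCoeff_two_left _
  rw [h1, h2, h3, h4]
  ring

lemma Cf_right (g : ℕ) (p : ℕ × ℕ) :
    Cf g p (2, 0) = -((p.1 : RelRing g) * xv g p.1 p.2) := by
  unfold Cf
  have h1 : xv g ((((2, 0) : ℕ × ℕ).1 : ℤ) - 1) ((((2, 0) : ℕ × ℕ).2 : ℤ) - 1) = 0 := by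
    have : xv g 1 (-1) = 0 := xv1m1 g
    simpa using this
  have h2 : (p.1 : ℤ) + (((2, 0) : ℕ × ℕ).1 : ℕ) - 2 = p.1 := by push_cast; ring
  have h3 : (p.2 : ℤ) + (((2, 0) : ℕ × ℕ).2 : ℕ) = p.2 := by simp
  have h4 : mergeCoeff p.1 ((2, 0) : ℕ × ℕ).1 = p.1 := mergeCoeff_two_right _
  rw [h1, h2, h3, h4]
  ring

lemma Lf_20 (g : ℕ) :
    xv g ((((2, 0) : ℕ × ℕ).1 : ℤ) - 2) (((2, 0) : ℕ × ℕ).2 : ℤ) = (g : RelRing g) := by
  have := xv00 g
  simpa using this

lemma F_E (g : ℕ) (hg : 1 ≤ g) (P : RelRing g) :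
    F g (E g P) = E g (F g P) + (g : RelRing g) * P
      - ∑ p ∈ idx g, (p.1 : RelRing g) * (xv g p.1 p.2 * dv g p P) := by
  have hmem : ((2, 0) : ℕ × ℕ) ∈ idx g := by
    simp only [idx, Finset.mem_product, Finset.mem_range]; omega
  have e2 : ∑ p ∈ idx g, ∑ q ∈ idx g, Cf g p q * (if p = (2, 0) then dv g q P else 0)
      = -∑ q ∈ idx g, (q.1 : RelRing g) * (xv g q.1 q.2 * dv g q P) := by
    rw [Finset.sum_eq_single_of_mem (2, 0) hmem]
    · rw [← Finset.sum_neg_distrib]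
      refine Finset.sum_congr rfl fun q _ => ?_
      rw [if_pos rfl, Cf_left]; ring
    · intro p _ hp; simp [hp]
  have e3 : ∑ p ∈ idx g, ∑ q ∈ idx g, Cf g p q * (if q = (2, 0) then dv g p P else 0)
      = -∑ p ∈ idx g, (p.1 : RelRing g) * (xv g p.1 p.2 * dv g p P) := by
    rw [← Finset.sum_neg_distrib]
    refine Finset.sum_congr rfl fun p _ => ?_
    rw [Finset.sum_eq_single_of_mem (2, 0) hmem]
    · rw [if_pos rfl, Cf_right]; ring
    · intro q _ hq; simp [hq]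
  have e4 : ∑ p ∈ idx g, xv g ((p.1 : ℤ) - 2) (p.2 : ℤ) * (if p = (2, 0) then P else 0)
      = (g : RelRing g) * P := by
    rw [Finset.sum_eq_single_of_mem (2, 0) hmem]
    · rw [if_pos rfl, Lf_20]
    · intro p _ hp; simp [hp]
  rw [F_def]
  simp only [dv_dv_E g hg]
  simp only [dv_E g hg, mul_add, Finset.sum_add_distrib, e2, e3, e4]
  unfold E
  rw [F_def]
  have hA : ∑ x ∈ idx g, ∑ x_1 ∈ idx g, Cf g x x_1 * (xv g 2 0 * dv g x (dv g x_1 P))
      = xv g 2 0 * ∑ p ∈ idx g, ∑ q ∈ idx g, Cf g p q * dv g p (dv g q P) := by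
    rw [Finset.mul_sum]
    refine Finset.sum_congr rfl fun p _ => ?_
    rw [Finset.mul_sum]
    refine Finset.sum_congr rfl fun q _ => ?_
    ring
  have hB : ∑ x ∈ idx g, xv g ((x.1 : ℤ) - 2) (x.2 : ℤ) * (xv g 2 0 * dv g x P)
      = xv g 2 0 * ∑ p ∈ idx g, xv g ((p.1 : ℤ) - 2) (p.2 : ℤ) * dv g p P := by
    rw [Finset.mul_sum]
    refine Finset.sum_congr rfl fun p _ => ?_
    ring
  rw [hA, hB, mul_add, mul_smul_comm]
  generalize (∑ q ∈ idx g, (q.1 : RelRing g) * (xv g q.1 q.2 * dv g q P)) = S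
  generalize xv g 2 0 * ∑ p ∈ idx g, ∑ q ∈ idx g, Cf g p q * dv g p (dv g q P) = A
  generalize xv g 2 0 * ∑ p ∈ idx g, xv g ((p.1 : ℤ) - 2) (p.2 : ℤ) * dv g p P = B
  module


lemma xv_valid (g : ℕ) (a : {p : ℕ × ℕ // Valid g p}) :
    xv g (a.1.1 : ℤ) (a.1.2 : ℤ) = X (some a) := by
  unfold xv
  have hne : ¬ (((a.1.1 : ℕ) : ℤ) = 0 ∧ ((a.1.2 : ℕ) : ℤ) = 0) := by
    rintro ⟨h1, h2⟩
    apply a.2.2.2.2
    exact Prod.ext (by exact_mod_cast h1) (by exact_mod_cast h2)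
  rw [if_neg hne, dif_pos ⟨Int.natCast_nonneg _, Int.natCast_nonneg _, by simpa using a.2⟩]
  congr 2

lemma euler (g : ℕ) (P : RelRing g) (m : ℕ) (h : IsWeightedHomogeneous (w1n g) P m) :
    ∑ p ∈ idx g, (p.1 : RelRing g) * (xv g p.1 p.2 * dv g p P) = (m : RelRing g) * P := by
  classical
  have hiff : ∀ x : ℕ × ℕ, x ∈ (idx g).filter (Valid g) ↔ Valid g x := by
    intro x
    simp only [Finset.mem_filter, idx, Finset.mem_product, Finset.mem_range]
    constructor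
    · exact fun h => h.2
    · intro hx
      have h1 := hx.1
      have h2 := hx.2.1
      exact ⟨⟨by omega, by omega⟩, hx⟩
  haveI : Fintype {p : ℕ × ℕ // Valid g p} := Fintype.subtype _ hiff
  have hE := h.sum_weight_X_mul_pderiv
  rw [Fintype.sum_option] at hE
  have h0 : w1n g none = 0 := rfl
  rw [h0, zero_smul, zero_add] at hE
  rw [← Finset.sum_filter_of_ne (p := Valid g), Finset.sum_subtype _ hiff, nsmul_eq_mul] at *
  · rw [← hE]
    refine Finset.sum_congr rfl fun a _ => ?_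
    rw [xv_valid, nsmul_eq_mul]
    unfold dv
    rw [dif_pos a.2]
    rfl
  · intro x _ hx
    by_contra hv
    apply hx
    unfold dv
    rw [dif_neg hv]; simp

lemma euler' (g : ℕ) (P : RelRing g) (m : ℤ) (h : IsWeightedHomogeneous (w1 g) P m) :
    ∑ p ∈ idx g, (p.1 : RelRing g) * (xv g p.1 p.2 * dv g p P) = (m : ℚ) • P := by
  rcases lt_or_ge m 0 with hm | hm
  · have := eq_zero_of_wh_neg g P m hm h
    subst this
    simp [dv_eq]
  · obtain ⟨m', rfl⟩ := Int.eq_ofNat_of_zero_le hm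
    rw [euler g P m' (whn_of_wh g P m' h), MvPolynomial.smul_eq_C_mul]
    congr 1

lemma F_E_wh (g : ℕ) (hg : 1 ≤ g) (Q : RelRing g) (m : ℤ)
    (h : IsWeightedHomogeneous (w1 g) Q m) :
    F g (E g Q) = E g (F g Q) + ((g : ℚ) - (m : ℚ)) • Q := by
  rw [F_E g hg, euler' g Q m h, sub_smul, add_sub_assoc]
  congr 2
  rw [MvPolynomial.smul_eq_C_mul]
  congr 1

lemma F_iter_E (g : ℕ) (hg : 1 ≤ g) (β : RelRing g) (m : ℤ)
    (h : IsWeightedHomogeneous (w1 g) β m) (k : ℕ) :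
    (F g)^[k + 1] (E g β) = E g ((F g)^[k + 1] β)
      + (((k : ℚ) + 1) * ((g : ℚ) - (m : ℚ) + k)) • (F g)^[k] β := by
  induction k with
  | zero =>
    simp only [zero_add, Function.iterate_one, Function.iterate_zero, id]
    rw [F_E_wh g hg β m h]
    congr 2
    push_cast; ring
  | succ k ih =>
    have e1 : (F g)^[k + 1 + 1] (E g β) = F g ((F g)^[k + 1] (E g β)) :=
      Function.iterate_succ_apply' _ _ _
    have e2 : (F g)^[k + 1 + 1] β = F g ((F g)^[k + 1] β) :=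
      Function.iterate_succ_apply' _ _ _
    have e3 : (F g)^[k + 1] β = F g ((F g)^[k] β) :=
      Function.iterate_succ_apply' _ _ _
    rw [e1, ih, F_add, F_smul, F_E_wh g hg _ _ (F_iter_wh g β m h (k + 1)), ← e2, ← e3,
      add_assoc, ← add_smul]
    congr 2
    push_cast; ring


/-- In the formal relation ring of genus g ≥ 1, for every element β which is bihomogeneous of bidegree
(2g, n), the (g+1)-st iterate of the operator F kills x 2 0 · β. (Stated for every bihomogeneous β;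
the case of a monomial β is equivalent by linearity.) -/
theorem result
    (g : ℕ) (hg : 1 ≤ g) (n : ℕ) (β : W4c3tautjacobian.RelRing g)
    (hβ : MvPolynomial.IsWeightedHomogeneous (W4c3tautjacobian.wt g) β ((2 * g, n) : ℕ × ℕ)) :
    (W4c3tautjacobian.F g)^[g + 1] (W4c3tautjacobian.E g β) = 0 := by
  have hw := wh_of_bihom g β (2 * g) n hβ
  rw [F_iter_E g hg β _ hw g]
  have hz : (F g)^[g + 1] β = 0 := by
    refine eq_zero_of_wh_neg g _ _ ?_ (F_iter_wh g β _ hw (g + 1))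
    push_cast; linarith
  rw [hz]
  have hc : (((g : ℚ) + 1) * ((g : ℚ) - (((2 * g : ℕ) : ℤ) : ℚ) + g)) = 0 := by
    push_cast; ring
  rw [hc, zero_smul, add_zero]
  unfold E
  rw [mul_zero]

end Groth.Agent.S16397
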