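import Groth.Statements.S16400
import Mathlib

set_option autoImplicit false
universe u v
open CAlgX

namespace Groth.Agent.S16400

open Matrix

section helpers

variable {K : Type*} [Field K]

/-- choose a sub-family which is linearly independent and spans the same subspace -/
theorem select {J : Type*} [Fintype J] [DecidableEq J] {V : Type*} [AddCommGroup V] [Module K V]
    (c : J → V) :
    ∃ J' : Finset J, LinearIndependent K (fun j : ↥J' => c j) ∧
      ∀ j, c j ∈ Submodule.span K (Set.range fun j : ↥J' => c j) := by
  classical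
  obtain ⟨b, -, -, hspan, hli⟩ := exists_linearIndepOn_extension (K := K) (v := c) (s := ∅)
    (t := Set.univ) (linearIndepOn_empty K c) (Set.empty_subset _)
  refine ⟨Finset.univ.filter (· ∈ b), ?_, ?_⟩
  · have hmem : ∀ j : ↥(Finset.univ.filter (· ∈ b)), (j : J) ∈ b :=
      fun j => (Finset.mem_filter.mp j.2).2
    have hinj : Function.Injective
        (fun j : ↥(Finset.univ.filter (· ∈ b)) => (⟨j.1, hmem j⟩ : b)) := by
      intro x y h
      exact Subtype.ext (congrArg (fun z : b => (z : J)) h)
    exact LinearIndependent.comp hli _ hinj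
  · intro j
    have h1 := hspan ⟨j, Set.mem_univ j, rfl⟩
    refine Submodule.span_mono ?_ h1
    rintro _ ⟨x, hx, rfl⟩
    exact ⟨⟨x, Finset.mem_filter.mpr ⟨Finset.mem_univ _, hx⟩⟩, rfl⟩

/-- two-sided inverse gives bijectivity -/
theorem bij_of_inv {I J : Type*} [Fintype I] [Fintype J] [DecidableEq I] [DecidableEq J]
    (M : Matrix I J K) (M' : Matrix J I K) (h1 : M * M' = 1) (h2 : M' * M = 1) :
    Function.Bijective M.mulVecLin := by
  constructor
  · intro v w hvw
    have h3 : M' *ᵥ (M *ᵥ v) = M' *ᵥ (M *ᵥ w) := by
      have : M *ᵥ v = M *ᵥ w := hvw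
      rw [this]
    rwa [Matrix.mulVec_mulVec, Matrix.mulVec_mulVec, h2, Matrix.one_mulVec,
      Matrix.one_mulVec] at h3
  · intro w
    refine ⟨M' *ᵥ w, ?_⟩
    show M *ᵥ (M' *ᵥ w) = w
    rw [Matrix.mulVec_mulVec, h1, Matrix.one_mulVec]

theorem inv_of_bij {I J : Type*} [Fintype I] [Fintype J] [DecidableEq I] [DecidableEq J]
    (M : Matrix I J K) (h : Function.Bijective M.mulVecLin) :
    ∃ M' : Matrix J I K, M * M' = 1 ∧ M' * M = 1 := by
  let e := LinearEquiv.ofBijective M.mulVecLin h
  refine ⟨LinearMap.toMatrix' (e.symm : (I → K) →ₗ[K] (J → K)), ?_, ?_⟩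
  · apply Matrix.toLin'.injective
    rw [Matrix.toLin'_mul, Matrix.toLin'_toMatrix', Matrix.toLin'_one, Matrix.toLin'_apply']
    refine LinearMap.ext fun w => ?_
    exact e.apply_symm_apply w
  · apply Matrix.toLin'.injective
    rw [Matrix.toLin'_mul, Matrix.toLin'_toMatrix', Matrix.toLin'_one, Matrix.toLin'_apply']
    refine LinearMap.ext fun w => ?_
    exact e.symm_apply_apply w

theorem bij_transpose {I J : Type*} [Fintype I] [Fintype J] [DecidableEq I] [DecidableEq J]
    (M : Matrix I J K) (h : Function.Bijective M.mulVecLin) :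
    Function.Bijective Mᵀ.mulVecLin := by
  obtain ⟨M', h1, h2⟩ := inv_of_bij M h
  refine bij_of_inv Mᵀ M'ᵀ ?_ ?_
  · rw [← Matrix.transpose_mul, h2, Matrix.transpose_one]
  · rw [← Matrix.transpose_mul, h1, Matrix.transpose_one]

/-- choose columns: a surjective matrix has a bijective column-submatrix -/
theorem choose_cols {I J : Type*} [Fintype I] [Fintype J] [DecidableEq I] [DecidableEq J]
    (C : Matrix I J K) (h : Function.Surjective C.mulVecLin) :
    ∃ J' : Finset J, Function.Bijective
      (C.submatrix id (Subtype.val : ↥J' → J)).mulVecLin := by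
  obtain ⟨J', hli, hspan⟩ := select (K := K) C.col
  refine ⟨J', ?_, ?_⟩
  · have : Function.Injective (C.submatrix id (Subtype.val : ↥J' → J)).mulVec :=
      Matrix.mulVec_injective_iff.mpr hli
    exact this
  · rw [← LinearMap.range_eq_top, Matrix.range_mulVecLin, eq_top_iff,
      ← LinearMap.range_eq_top.mpr h, Matrix.range_mulVecLin, Submodule.span_le]
    rintro _ ⟨j, rfl⟩
    exact hspan j

/-- choose rows: an injective matrix has a bijective row-submatrix -/
theorem choose_rows {I J : Type*} [Fintype I] [Fintype J] [DecidableEq I] [DecidableEq J]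
    (B : Matrix I J K) (h : Function.Injective B.mulVecLin) :
    ∃ I' : Finset I, Function.Bijective
      (B.submatrix (Subtype.val : ↥I' → I) id).mulVecLin := by
  have hsurj : Function.Surjective Bᵀ.mulVecLin := by
    rw [← LinearMap.range_eq_top]
    apply Submodule.eq_top_of_finrank_eq
    have h1 : Bᵀ.rank = B.rank := Matrix.rank_transpose B
    have h2 : B.rank = Module.finrank K (J → K) := LinearMap.finrank_range_of_inj h
    rw [← h2, ← h1]
    rfl
  obtain ⟨I', hI'⟩ := choose_cols Bᵀ hsurj
  refine ⟨I', ?_⟩
  have := bij_transpose _ hI'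
  exact this

end helpers

/-- Let K be a field, N a finite index set and A a square matrix over K indexed by N whose linear map on
column vectors has kernel equal to its range (so A composed with A is zero and the three-term
sequence it defines is exact in the middle). Then there are subsets N₁₂, N₂₁, N₃₁ of N such that the
block of A with rows in N₃₁ and columns in N₂₁, and the block of A with rows outside N₂₁ and columns
in N₁₂, both act bijectively on column vectors. (In the original setting K is the prime field and
middle exactness is supplied by the Cartier isomorphism; here exactness is the hypothesis and K is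
any field.) -/
theorem result
    {K : Type u} [Field K] {N : Type v} [Fintype N] [DecidableEq N]
    (A : Matrix N N K)
    (hA : LinearMap.ker A.mulVecLin = LinearMap.range A.mulVecLin) :
    ∃ N₁₂ N₂₁ N₃₁ : Finset N,
      Function.Bijective (A.submatrix (Subtype.val : ↥N₃₁ → N) (Subtype.val : ↥N₂₁ → N)).mulVecLin ∧
      Function.Bijective
        (A.submatrix (Subtype.val : {x : N // x ∉ N₂₁} → N) (Subtype.val : ↥N₁₂ → N)).mulVecLin := by
  classical
  -- step 1: the columns `N₂₁`
  obtain ⟨N₂₁, hli, hspan⟩ := select (K := K) A.col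
  have hBinj : Function.Injective (A.submatrix id (Subtype.val : ↥N₂₁ → N)).mulVecLin := by
    have : Function.Injective (A.submatrix id (Subtype.val : ↥N₂₁ → N)).mulVec :=
      Matrix.mulVec_injective_iff.mpr hli
    exact this
  obtain ⟨N₃₁, hN₃₁⟩ := choose_rows _ hBinj
  -- dimension count
  have hspan_eq : Submodule.span K (Set.range fun j : ↥N₂₁ => A.col j) =
      LinearMap.range A.mulVecLin := by
    rw [Matrix.range_mulVecLin]
    apply le_antisymm
    · apply Submodule.span_mono
      rintro _ ⟨j, rfl⟩
      exact ⟨j.1, rfl⟩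
    · rw [Submodule.span_le]
      rintro _ ⟨j, rfl⟩
      exact hspan j
  have hcard : (N₂₁.card : ℕ) = Module.finrank K (LinearMap.range A.mulVecLin) := by
    rw [← hspan_eq, finrank_span_eq_card hli, Fintype.card_coe]
  have hrn := LinearMap.finrank_range_add_finrank_ker A.mulVecLin
  rw [hA, Module.finrank_fintype_fun_eq_card] at hrn
  -- step 2: the rows outside `N₂₁`
  have hker : LinearMap.ker (A.submatrix (Subtype.val : {x : N // x ∉ N₂₁} → N) id).mulVecLin =
      LinearMap.ker A.mulVecLin := by
    apply le_antisymm
    · intro v hv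
      rw [LinearMap.mem_ker] at hv ⊢
      -- `w = A v` is supported on `N₂₁`
      obtain ⟨w, hw⟩ : ∃ w : N → K, w = A *ᵥ v := ⟨_, rfl⟩
      have hw0 : ∀ i, i ∉ N₂₁ → w i = 0 := by
        intro i hi
        rw [hw]
        have := congrFun hv ⟨i, hi⟩
        exact this
      have hwker : A *ᵥ w = 0 := by
        have : w ∈ LinearMap.range A.mulVecLin := ⟨v, hw.symm⟩
        rw [← hA] at this
        exact this
      have hrestr : (A.submatrix id (Subtype.val : ↥N₂₁ → N)).mulVecLin
          (fun j : ↥N₂₁ => w j) = 0 := by
        rw [← hwker]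
        ext i
        simp only [Matrix.mulVecLin_apply, Matrix.mulVec, dotProduct, Matrix.submatrix_apply, id]
        rw [Finset.sum_coe_sort N₂₁ (fun j => A i j * w j)]
        apply Finset.sum_subset (Finset.subset_univ _)
        intro j _ hj
        rw [hw0 j hj, mul_zero]
      have hz := hBinj (hrestr.trans (map_zero _).symm)
      show A *ᵥ v = 0
      rw [← hw]
      ext i
      by_cases hi : i ∈ N₂₁
      · exact congrFun hz ⟨i, hi⟩
      · exact hw0 i hi
    · intro v hv
      rw [LinearMap.mem_ker] at hv ⊢
      ext i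
      exact congrFun hv i.1
  have hCsurj : Function.Surjective
      (A.submatrix (Subtype.val : {x : N // x ∉ N₂₁} → N) id).mulVecLin := by
    rw [← LinearMap.range_eq_top]
    apply Submodule.eq_top_of_finrank_eq
    have h1 := LinearMap.finrank_range_add_finrank_ker
      (A.submatrix (Subtype.val : {x : N // x ∉ N₂₁} → N) id).mulVecLin
    rw [hker, hA, Module.finrank_fintype_fun_eq_card] at h1
    rw [Module.finrank_fintype_fun_eq_card, Fintype.card_subtype_compl, Fintype.card_coe]
    omega
  obtain ⟨N₁₂, hN₁₂⟩ := choose_cols _ hCsurj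
  exact ⟨N₁₂, N₂₁, N₃₁, hN₃₁, hN₁₂⟩

end Groth.Agent.S16400
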