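import Groth.Statements.S16401
import Mathlib

set_option autoImplicit false
universe u v
open CAlgX

namespace Groth.Agent.S16401

theorem prod_mem_graded {R : Type u} [CommRing R] {ι : Type v} [AddCommGroup ι]
    (E : ι → AddSubgroup R) (h0 : E 0 = ⊤)
    (hmul : ∀ a b : ι, ∀ x ∈ E a, ∀ y ∈ E b, x * y ∈ E (a + b))
    {κ : Type*} (s : Finset κ) (f : κ → R) (a : κ → ι) (hf : ∀ c ∈ s, f c ∈ E (a c)) :
    ∏ c ∈ s, f c ∈ E (∑ c ∈ s, a c) := by
  classical
  induction s using Finset.induction_on with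
  | empty => simp [h0]
  | insert c s hc ih =>
    rw [Finset.prod_insert hc, Finset.sum_insert hc]
    exact hmul _ _ _ (hf c (Finset.mem_insert_self c s)) _
      (ih fun c' hc' => hf c' (Finset.mem_insert_of_mem hc'))

theorem adjugate_mem {R : Type u} [CommRing R] {ι : Type v} [AddCommGroup ι]
    (E : ι → AddSubgroup R) (h0 : E 0 = ⊤)
    (hmul : ∀ a b : ι, ∀ x ∈ E a, ∀ y ∈ E b, x * y ∈ E (a + b))
    {r : ℕ} (wβ wγ : Fin r → ι) (hsum : ∑ j, wβ j = ∑ i, wγ i)
    (ϑ : Matrix (Fin r) (Fin r) R) (hϑ : ∀ i j, ϑ i j ∈ E (wγ i - wβ j)) (j i : Fin r) :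
    ϑ.adjugate j i ∈ E (wβ j - wγ i) := by
  classical
  rw [Matrix.adjugate_apply, Matrix.det_apply]
  refine AddSubgroup.sum_mem _ fun σ _ => ?_
  rw [Units.smul_def]
  refine AddSubgroup.zsmul_mem _ ?_ _
  by_cases hσ : σ j = i
  · -- the weights
    have hmem : ∏ c, (ϑ.updateRow i (Pi.single j 1)) (σ c) c ∈
        E (∑ c, ((wγ (σ c) - wβ c) - if c = j then (wγ (σ c) - wβ c) else 0)) := by
      apply prod_mem_graded E h0 hmul
      intro c _
      by_cases hc : c = j
      · subst hc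
        rw [if_pos rfl, sub_self, h0]
        exact AddSubgroup.mem_top _
      · rw [if_neg hc, sub_zero]
        have hσc : σ c ≠ i := by
          intro h
          apply hc
          apply σ.injective
          rw [h, hσ]
        rw [Matrix.updateRow_ne hσc]
        exact hϑ _ _
    have hw : (∑ c, ((wγ (σ c) - wβ c) - if c = j then (wγ (σ c) - wβ c) else 0)) =
        wβ j - wγ i := by
      rw [Finset.sum_sub_distrib, Finset.sum_ite_eq' Finset.univ j, if_pos (Finset.mem_univ _),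
        Finset.sum_sub_distrib, Equiv.sum_comp σ wγ, hsum, hσ]
      abel
    rw [hw] at hmem
    exact hmem
  · have hzero : ∏ c, (ϑ.updateRow i (Pi.single j 1)) (σ c) c = 0 := by
      apply Finset.prod_eq_zero (Finset.mem_univ (σ⁻¹ i))
      have h1 : σ (σ⁻¹ i) = i := by simp
      rw [h1, Matrix.updateRow_self, Pi.single_apply, if_neg]
      intro h
      apply hσ
      rw [← h]
      simp
    rw [hzero]
    exact AddSubgroup.zero_mem _

/-- Let R be a commutative ring and (E_a), a ∈ ι, a family of additive subgroups of R indexed by an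
additive commutative group ι, with E_0 = R and E_a · E_b ⊆ E_{a+b}. Let β, γ : Fin r → ι be weight
vectors with Σ_j β_j = Σ_i γ_i, and let ϑ be an r × r matrix over R with ϑ_{ij} ∈ E_{γ_i − β_j} for
all i, j and with unit determinant. Then a column vector u satisfies u_j ∈ E_{β_j} for every j if
and only if (ϑ u)_i ∈ E_{γ_i} for every i; since ϑ is invertible this says that ϑ maps the box Π_j
E_{β_j} bijectively onto the box Π_i E_{γ_i}. -/
theorem result
    {R : Type u} [CommRing R] {ι : Type v} [AddCommGroup ι]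
    (E : ι → AddSubgroup R) (h0 : E 0 = ⊤)
    (hmul : ∀ a b : ι, ∀ x ∈ E a, ∀ y ∈ E b, x * y ∈ E (a + b))
    {r : ℕ} (wβ wγ : Fin r → ι) (hsum : ∑ j, wβ j = ∑ i, wγ i)
    (ϑ : Matrix (Fin r) (Fin r) R) (hϑ : ∀ i j, ϑ i j ∈ E (wγ i - wβ j))
    (hdet : IsUnit ϑ.det) (u : Fin r → R) :
    (∀ j, u j ∈ E (wβ j)) ↔ ∀ i, ϑ.mulVec u i ∈ E (wγ i) := by
  classical
  constructor
  · intro hu i
    rw [Matrix.mulVec, dotProduct]
    refine AddSubgroup.sum_mem _ fun j _ => ?_
    have := hmul _ _ _ (hϑ i j) _ (hu j)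
    rwa [sub_add_cancel] at this
  · intro hw j
    have hinv : ϑ⁻¹ * ϑ = 1 := Matrix.nonsing_inv_mul ϑ hdet
    have hu : u = ϑ⁻¹.mulVec (ϑ.mulVec u) := by
      rw [Matrix.mulVec_mulVec, hinv, Matrix.one_mulVec]
    rw [hu, Matrix.mulVec, dotProduct]
    refine AddSubgroup.sum_mem _ fun i _ => ?_
    have h1 : ϑ⁻¹ j i ∈ E (wβ j - wγ i) := by
      rw [Matrix.inv_def, Matrix.smul_apply, smul_eq_mul]
      have h2 := hmul 0 _ (Ring.inverse ϑ.det) (by rw [h0]; exact AddSubgroup.mem_top _) _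
        (adjugate_mem E h0 hmul wβ wγ hsum ϑ hϑ j i)
      rwa [zero_add] at h2
    have := hmul _ _ _ h1 _ (hw i)
    rwa [sub_add_cancel] at this

end Groth.Agent.S16401
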