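import Groth.Statements.S16402
import Mathlib
import Groth.Agent.Lib.Helper16Stair
-- import your own Groth.Agent.* helpers here

set_option autoImplicit false
set_option linter.style.haveILetI false
set_option linter.unusedSectionVars false
open SymBasis

namespace Groth.Agent.S16402

open Groth.Agent.Lib.Helper16Stair


/-- For n ≥ 2, the polynomial ring ℤ[t_1, …, t_n] is a free module of rank n! over ℤ[c_1, …, c_n] acting
through c_i ↦ e_i(t), the i-th elementary symmetric polynomial in the t_j, and the monomials
t_1^{d_1} ⋯ t_n^{d_n} with 0 ≤ d_i ≤ n − i form a basis: every polynomial is in exactly one way a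
sum Σ_d f(p_d) · t^d with p_d ∈ ℤ[c_1, …, c_n], f the substitution c_i ↦ e_i(t). The published
statement is phrased for the Chow ring of the classifying stack of the diagonal torus as a module
over that of the classifying stack of GL_n, identified with ℤ[t_1, …, t_n] ⊇ ℤ[c_1, …, c_n] in this
way. -/
theorem result (n : ℕ) (hn : 2 ≤ n) :
    Function.Bijective (fun p : (Π i : Fin n, Fin (n - (i : ℕ))) → MvPolynomial (Fin n) ℤ =>
      ∑ d : (Π i : Fin n, Fin (n - (i : ℕ))),
        (MvPolynomial.aeval (fun i : Fin n => MvPolynomial.esymm (Fin n) ℤ ((i : ℕ) + 1))) (p d) *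
          ∏ i : Fin n, MvPolynomial.X i ^ ((d i : ℕ))) := by
  let f : MvPolynomial (Fin n) ℤ →ₐ[ℤ] MvPolynomial (Fin n) ℤ :=
    MvPolynomial.aeval (fun i : Fin n => MvPolynomial.esymm (Fin n) ℤ ((i : ℕ) + 1))
  let Φ : (Stair n → MvPolynomial (Fin n) ℤ) → MvPolynomial (Fin n) ℤ := fun p =>
    ∑ d : Stair n, f (p d) * smon (fun i => (MvPolynomial.X i : MvPolynomial (Fin n) ℤ)) d
  change Function.Bijective Φ
  constructor
  · -- injective
    have hker : ∀ p, Φ p = 0 → p = 0 := by
      intro p hp
      obtain ⟨M⟩ := nonempty_stairModel n (MvPolynomial (Fin n) ℤ)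
        (fun i => (MvPolynomial.X i : MvPolynomial (Fin n) ℤ))
      letI := M.ring
      letI := M.alg
      let ev : MvPolynomial (Fin n) ℤ →+* M.T :=
        MvPolynomial.eval₂Hom (Int.castRingHom M.T) M.t
      have hevX : ∀ i, ev (MvPolynomial.X i) = M.t i := by
        intro i; simp [ev]
      have hcomp : ev.comp f.toRingHom = algebraMap (MvPolynomial (Fin n) ℤ) M.T := by
        apply MvPolynomial.ringHom_ext
        · intro z
          simp
        · intro i
          simp only [RingHom.coe_comp, Function.comp_apply, AlgHom.toRingHom_eq_coe,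
            RingHom.coe_coe, f, MvPolynomial.aeval_X]
          rw [map_esymm_eq]
          simp only [hevX]
          exact M.esymm_eq i
      have hev : ∀ q, ev (f q) = algebraMap (MvPolynomial (Fin n) ℤ) M.T q := by
        intro q
        rw [← hcomp]; rfl
      have h0 : ev (Φ p) = 0 := by rw [hp, map_zero]
      simp only [Φ, map_sum] at h0
      have h1 : ∑ d : Stair n, (p d) • smon M.t d = 0 := by
        rw [← h0]
        apply Finset.sum_congr rfl
        intro d _
        rw [map_mul, hev, map_smon, Algebra.smul_def]
        simp only [hevX]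
      funext d
      exact Fintype.linearIndependent_iff.1 M.indep _ h1 d
    intro p q hpq
    have : Φ (p - q) = 0 := by
      have : Φ (p - q) = Φ p - Φ q := by
        simp only [Φ, Pi.sub_apply, map_sub, sub_mul, Finset.sum_sub_distrib]
      rw [this, hpq, sub_self]
    have := hker _ this
    exact sub_eq_zero.1 this
  · -- surjective
    intro x
    let S : Subring (MvPolynomial (Fin n) ℤ) := f.toRingHom.range
    let t : Fin n → MvPolynomial (Fin n) ℤ := fun i => MvPolynomial.X i
    have hE : ∀ k, (Finset.univ.val.map t).esymm k ∈ S := by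
      intro k
      have h1 : (Finset.univ.val.map t).esymm k = MvPolynomial.esymm (Fin n) ℤ k := by
        rw [MvPolynomial.esymm_eq_multiset_esymm]
      rcases Nat.eq_zero_or_pos k with h0 | h0
      · subst h0
        rw [esymm_zero']
        exact S.one_mem
      · rcases Nat.lt_or_ge n k with hk | hk
        · rw [esymm_of_card_lt _ _ (by simpa using hk)]
          exact S.zero_mem
        · rw [h1]
          refine ⟨MvPolynomial.X ⟨k - 1, by omega⟩, ?_⟩
          simp only [AlgHom.toRingHom_eq_coe, RingHom.coe_coe, f, MvPolynomial.aeval_X]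
          rw [show k - 1 + 1 = k by omega]
    have hcl : ∀ p : MvPolynomial (Fin n) ℤ,
        p ∈ Subring.closure ((S : Set (MvPolynomial (Fin n) ℤ)) ∪ Set.range t) := by
      intro p
      induction p using MvPolynomial.induction_on with
      | C r =>
        refine Subring.subset_closure (Or.inl ⟨MvPolynomial.C r, ?_⟩)
        simp [f]
      | add p q hp hq => exact Subring.add_mem _ hp hq
      | mul_X p i hp =>
        exact Subring.mul_mem _ hp (Subring.subset_closure (Or.inr ⟨i, rfl⟩))
    have h1 := span_stair n _ S t hE x (hcl x)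
    obtain ⟨c, hc⟩ := (Submodule.mem_span_range_iff_exists_fun S).1 h1
    choose r hr using fun d => (c d).2
    refine ⟨r, ?_⟩
    change Φ r = x
    rw [← hc]
    apply Finset.sum_congr rfl
    intro d _
    rw [Subring.smul_def, smul_eq_mul, ← hr d]
    rfl

end Groth.Agent.S16402
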