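import Groth.Statements.S16414
import Mathlib

set_option autoImplicit false
open Dieud

namespace Groth.Agent.S16414

theorem aux (μ : ℚ) (hμ0 : 0 < μ) (hμ1 : μ ≤ 1) (F a : ℚ) (h0 : 0 ≤ F) (h1 : -a ≤ F) :
    0 ≤ F + a * μ := by
  rcases le_or_gt 0 a with ha | ha
  · have := mul_nonneg ha hμ0.le
    linarith
  · have h2 : 0 ≤ (-a) * (1 - μ) := mul_nonneg (by linarith) (by linarith)
    nlinarith

/-- Let μ be a rational number with 0 < μ ≤ 1 and i an integer, and put f(i,j) = max(−i−j, −j, 0) for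
integers j. Then min over all integers j of f(i,j) + jμ exists and equals max(−iμ, 0). -/
theorem result (μ : ℚ) (hμ0 : 0 < μ) (hμ1 : μ ≤ 1) (i : ℤ) :
    IsLeast (Set.range fun j : ℤ => ((max (max (-i - j) (-j)) 0 : ℤ) : ℚ) + (j : ℚ) * μ)
      (max (-(i : ℚ) * μ) 0) := by
  constructor
  · rcases le_or_gt 0 i with hi | hi
    · refine ⟨0, ?_⟩
      have h1 : max (max (-i - 0) (-0)) 0 = (0 : ℤ) := by omega
      have h2 : max (-(i : ℚ) * μ) 0 = 0 := by
        apply max_eq_right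
        have : (0 : ℚ) ≤ (i : ℚ) := by exact_mod_cast hi
        nlinarith
      simp only [h1, h2, Int.cast_zero, zero_mul, add_zero]
    · refine ⟨-i, ?_⟩
      have h1 : max (max (-i - -i) (- -i)) 0 = (0 : ℤ) := by omega
      have h2 : max (-(i : ℚ) * μ) 0 = -(i : ℚ) * μ := by
        apply max_eq_left
        have : (i : ℚ) < 0 := by exact_mod_cast hi
        nlinarith
      simp only [h1, h2, Int.cast_zero, zero_add, Int.cast_neg]
  · rintro _ ⟨j, rfl⟩
    simp only
    have hF0 : (0 : ℚ) ≤ ((max (max (-i - j) (-j)) 0 : ℤ) : ℚ) := by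
      exact_mod_cast le_max_right _ _
    have hF1 : -(j : ℚ) ≤ ((max (max (-i - j) (-j)) 0 : ℤ) : ℚ) := by
      have : -j ≤ max (max (-i - j) (-j)) 0 := by omega
      exact_mod_cast this
    have hF2 : -((i : ℚ) + j) ≤ ((max (max (-i - j) (-j)) 0 : ℤ) : ℚ) := by
      have : -(i + j) ≤ max (max (-i - j) (-j)) 0 := by omega
      exact_mod_cast this
    apply max_le
    · have := aux μ hμ0 hμ1 _ ((i : ℚ) + j) hF0 hF2
      linarith
    · exact aux μ hμ0 hμ1 _ (j : ℚ) hF0 hF1

end Groth.Agent.S16414
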