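import Groth.Statements.S16415
import Mathlib

set_option autoImplicit false
open Dieud

namespace Groth.Agent.S16415

/-- Let μ be a rational number with 0 < μ ≤ 1, N a natural number and i an integer. The minimum of m +
jμ over all pairs of integers (m, j) with m ≥ max(−i−j, −j, 0) and 2m + i + 2j ≥ N exists and equals
μ · max(⌈(N−i)/2⌉, −i, 0). (The published statement prints the value as max(⌈(N−i)/2⌉, −iμ, 0),
without the factor μ on the first term; the printed argument computes μ · max(⌈(N−i)/2⌉, −i, 0),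
attained at m = 0, and for N = 2, i = 0, μ = 1/2 the pair (m, j) = (0, 1) gives 1/2 < 1, so the
value with the factor μ is stated here.) -/
theorem result (μ : ℚ) (hμ0 : 0 < μ) (hμ1 : μ ≤ 1)
    (N : ℕ) (i : ℤ) :
    IsLeast {x : ℚ | ∃ m j : ℤ, max (max (-i - j) (-j)) 0 ≤ m ∧ (N : ℤ) ≤ 2 * m + i + 2 * j ∧
        x = (m : ℚ) + (j : ℚ) * μ}
      (((max (max ⌈((N : ℚ) - i) / 2⌉ (-i)) 0 : ℤ) : ℚ) * μ) := by
  set c : ℤ := ⌈((N : ℚ) - i) / 2⌉ with hc
  have hcle : ((N : ℚ) - i) / 2 ≤ (c : ℚ) := Int.le_ceil _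
  constructor
  · refine ⟨0, max (max c (-i)) 0, ?_, ?_, ?_⟩
    · omega
    · have h1 : c ≤ max (max c (-i)) 0 := by omega
      have h2 : ((N : ℚ) - i) / 2 ≤ ((max (max c (-i)) 0 : ℤ) : ℚ) :=
        hcle.trans (by exact_mod_cast h1)
      have h3 : ((N : ℤ) : ℚ) ≤ ((2 * 0 + i + 2 * max (max c (-i)) 0 : ℤ) : ℚ) := by
        push_cast at h2 ⊢
        linarith
      exact_mod_cast h3
    · push_cast
      ring
  · rintro x ⟨m, j, hm, hN, rfl⟩
    have hm0 : 0 ≤ m := by omega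
    have hmj1 : -i ≤ m + j := by omega
    have hmj0 : 0 ≤ m + j := by omega
    have hcmj : c ≤ m + j := by
      rw [hc, Int.ceil_le]
      have : ((N : ℤ) : ℚ) ≤ ((2 * m + i + 2 * j : ℤ) : ℚ) := by exact_mod_cast hN
      push_cast at this ⊢
      linarith
    have hT : max (max c (-i)) 0 ≤ m + j := by omega
    have hTq : ((max (max c (-i)) 0 : ℤ) : ℚ) ≤ (m : ℚ) + j := by exact_mod_cast hT
    have hmq : (0 : ℚ) ≤ m := by exact_mod_cast hm0
    have h1 : ((max (max c (-i)) 0 : ℤ) : ℚ) * μ ≤ ((m : ℚ) + j) * μ :=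
      mul_le_mul_of_nonneg_right hTq hμ0.le
    have h2 : (m : ℚ) * μ ≤ m := by nlinarith
    linarith

end Groth.Agent.S16415
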