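import Groth.Statements.S1642
import Mathlib
import Groth.Agent.Lib.Helper27CMRegPn

set_option autoImplicit false
universe u
open CategoryTheory CategoryTheory.Limits AlgebraicGeometry
open Variety

namespace Groth.Agent.S1642

/-- A coherent module on P^n_k which is m-regular in the sense of Castelnuovo–Mumford is also (m +
1)-regular. -/
theorem result (k : Type u) [Field k] (n : ℕ) (F : (CohB1.ProjSpace n k).Modules) (hF : Coh.IsCoh F) (m : ℤ)
    (h : Curv2.IsMRegular k n F m) : Curv2.IsMRegular k n F (m + 1) := by
  have hq : F.IsQuasicoherent := hF.1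
  have hreg : ∀ q : ℕ, 1 ≤ q → Subsingleton (Coh.HH (CohB1.ProjSpace n k)
      (CohB1.tensorMod F (Twist.twistProjSpace n k (m - q))) q) := by
    intro q hq1
    by_cases hqn : q ≤ n
    · exact h q hq1 hqn
    · haveI := hq
      haveI : (Twist.twistProjSpace n k (m - q)).IsQuasicoherent :=
        (Groth.Agent.Lib.Helper27TwistCoh.isCoh_twist n k _).1
      exact Groth.Agent.Lib.Helper27CMRegPn.subsingleton_HH_gt n k _
        (Groth.Agent.Lib.Helper23.TensorQCoh.isQuasicoherent_tensorMod F _) q (by omega)
  intro i hi1 _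
  exact Groth.Agent.Lib.Helper27CMRegPn.regular_succ_pn n k F hq m hreg i hi1

end Groth.Agent.S1642
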