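import Groth.Statements.S16421
import Mathlib
import Groth.Agent.Lib.Helper7PerfFlat

set_option autoImplicit false
universe u
open FrobAlg

namespace Groth.Agent.S16421

/-- Let p be a prime and R a commutative ring of characteristic p with a p-basis (x_i), meaning that the
monomials ∏ x_i^(e i) with every exponent e i < p form a basis of R as a module over itself through
the Frobenius, i.e. the map sending a finitely supported family of coefficients c to ∑_e (c e)^p · ∏
x_i^(e i) is a bijection onto R. Then the canonical ring map from R to its perfect closure is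
faithfully flat. -/
theorem result (p : ℕ) [Fact p.Prime]
    (R : Type u) [CommRing R] [CharP R p] (ι : Type u) (x : ι → R)
    (hx : Function.Bijective
      (fun c : {e : ι →₀ ℕ // ∀ i, e i < p} →₀ R =>
        c.sum (fun e r => r ^ p * e.1.prod (fun i n => x i ^ n)))) :
    (PerfectClosure.of R p).FaithfullyFlat := by
  classical
  have hp : p.Prime := Fact.out
  have hflat : (frobenius R p).Flat :=
    Groth.Agent.Lib.Helper7.PerfFlat.flat_of_bijective (frobenius R p)
      (fun e : {e : ι →₀ ℕ // ∀ i, e i < p} => e.1.prod (fun i n => x i ^ n)) hx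
  haveI : IsReduced R := by
    rw [isReduced_iff_pow_one_lt p hp.one_lt]
    intro r hr
    let e0 : {e : ι →₀ ℕ // ∀ i, e i < p} := ⟨0, fun i => hp.pos⟩
    have h1 : (fun c : {e : ι →₀ ℕ // ∀ i, e i < p} →₀ R =>
        c.sum (fun e r => r ^ p * e.1.prod (fun i n => x i ^ n))) (Finsupp.single e0 r) =
        (fun c : {e : ι →₀ ℕ // ∀ i, e i < p} →₀ R =>
        c.sum (fun e r => r ^ p * e.1.prod (fun i n => x i ^ n))) 0 := by
      simp only [Finsupp.sum_zero_index]
      rw [Finsupp.sum_single_index (by rw [zero_pow hp.ne_zero, zero_mul]), hr, zero_mul]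
    have h2 := hx.1 h1
    have h3 := congrArg (fun c => c e0) h2
    simpa using h3
  exact Groth.Agent.Lib.Helper7.PerfFlat.of_faithfullyFlat p R hflat


end Groth.Agent.S16421
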