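import Groth.Statements.S16428
import Groth.Agent.Lib.Helper4TSDG

set_option autoImplicit false
set_option linter.style.haveILetI false
universe u
open CategoryTheory CategoryTheory.Limits AlgebraicGeometry TopologicalSpace
open RhoSh

namespace Groth.Agent.S16428

/-- Let X be a smooth, proper, geometrically irreducible scheme over a field k admitting an ample
invertible sheaf, S a k-scheme, and U a big open subset of X ×_k S, i.e. at every point outside U
the local ring of the fibre over S has Krull dimension at least 2. Then U is schematically dense in
X ×_k S: restriction of functions from any open V to V ∩ U is injective. -/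
theorem result
    (k : Type u) [Field k] (X S : Scheme.{u})
    (a : X ⟶ Spec (CommRingCat.of k)) (b : S ⟶ Spec (CommRingCat.of k))
    [Smooth a] [IsProper a] [GeometricallyIrreducible a]
    (hproj : ∃ H : X.Modules, CohB1.IsAmple H)
    (U : (pullback a b).Opens)
    (hU : ∀ x : ↥(pullback a b), x ∉ U →
      (2 : WithBot ℕ∞) ≤ ringKrullDim ↑(CInt.fiberStalk (pullback.snd a b) x)) :
    CInt.IsSchematicallyDense U := by
  have h1 : Smooth (pullback.snd a b) := inferInstance
  refine Groth.Agent.Lib.Helper4.TorsSD.schDense_of_big_open (pullback.snd a b) (fun s => ?_) U
    (fun x hx => le_trans (by norm_num) (hU x hx))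
  have h2 : Smooth (pullback.snd (pullback.snd a b) (S.fromSpecResidueField s)) :=
    smooth_isStableUnderBaseChange.of_isPullback (IsPullback.of_hasPullback _ _) h1
  haveI : Smooth ((pullback.snd a b).fiberToSpecResidueField s) := h2
  exact Groth.Agent.Lib.Helper12.Reduced.isReduced_of_smooth
    ((pullback.snd a b).fiberToSpecResidueField s)

end Groth.Agent.S16428
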