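import Groth.Statements.S16431
import Groth.Agent.Lib.Helper3BrEq
import Groth.Agent.Lib.Helper3BrEq2
import Groth.Agent.S9237
import Groth.Agent.S9238
import Mathlib

set_option autoImplicit false
universe u
open Hensel

namespace Groth.Agent.S16431

/-- Let A be an excellent reduced local ring with residue field k, let A' be the integral closure of A
in its total ring of fractions, let A^h be a henselization and A^hs a strict henselization of A, and
let A^h → A^hs be the A-algebra map between them (it is the unique one). Then the residue field of
A' at every maximal ideal is purely inseparable over k — every element has some p^n-th power in the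
image of A, p the characteristic exponent — if and only if every minimal prime ideal of A^hs is
generated by its contraction to A^h. -/
theorem result
    (A Ah Ash : Type u) [CommRing A] [IsLocalRing A] [IsReduced A] (hA : EGA4.IsExcellent A)
    [CommRing Ah] [IsLocalRing Ah] [Algebra A Ah] [IsLocalHom (algebraMap A Ah)]
    [Hensel.IsHenselization A Ah]
    [CommRing Ash] [IsLocalRing Ash] [Algebra A Ash] [IsLocalHom (algebraMap A Ash)]
    [Hensel.IsStrictHenselization A Ash] [Algebra Ah Ash] [IsScalarTower A Ah Ash] :
    (∀ (M : Ideal (integralClosure A (FractionRing A))) [M.IsMaximal], ∀ x : (integralClosure A (FractionRing A)) ⧸ M, ∃ n : ℕ,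
        x ^ (ringExpChar ((integralClosure A (FractionRing A)) ⧸ M)) ^ n ∈
          ((Ideal.Quotient.mk M).comp (algebraMap A (integralClosure A (FractionRing A)))).range) ↔
      (∀ Q ∈ minimalPrimes Ash, Q = Ideal.map (algebraMap Ah Ash) (Q.comap (algebraMap Ah Ash))) := by
  open Groth.Agent.Lib.Helper3 Groth.Agent.Lib.Helper4.Unibranch Groth.Agent.Lib.Helper4.Branches in
  haveI : IsNoetherianRing A := hA.1
  haveI : IsNoetherianRing Ah := HzP.hz_isNoetherianRing A Ah
  obtain ⟨hloc, hsh⟩ := BrEq.isStrictHenselization_of_hz A Ah Ash
  haveI := hloc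
  haveI := hsh
  have hfin : (minimalPrimes A).Finite := minimalPrimes.finite_of_isNoetherianRing A
  rw [BrEq.forall_minimalPrimes_eq_map_iff Ah Ash, Groth.Agent.S9238.result A Ash,
    Groth.Agent.S9237.result A Ah]
  haveI : Finite (MaximalSpectrum (CAlg2.normRed A)) := by
    rw [← ENat.card_lt_top]
    have h1 : Brnch.numBranches A = ENat.card (MaximalSpectrum (CAlg2.normRed A)) := by
      unfold Brnch.numBranches
      rw [if_pos hfin]
    rw [← h1, ← Groth.Agent.S9237.result A Ah, ENat.card_lt_top]
    exact (minimalPrimes.finite_of_isNoetherianRing Ah).to_subtype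
  rw [← BrEq.powMem_canNorm_iff A hfin]
  -- transport along the identification of the two normalizations
  have hinj : Function.Injective (Ideal.Quotient.mk (nilradical A)) := by
    rw [RingHom.injective_iff_ker_eq_bot, Ideal.mk_ker]
    exact nilradical_eq_zero A
  obtain ⟨ρ, hρ⟩ : ∃ ρ : A ≃+* CAlg2.red A, ∀ a, ρ a = Ideal.Quotient.mk (nilradical A) a :=
    ⟨RingEquiv.ofBijective (Ideal.Quotient.mk (nilradical A))
      ⟨hinj, Ideal.Quotient.mk_surjective⟩, fun _ => rfl⟩
  have hΨ : ∀ a, normalizationEquiv ρ (algebraMap A (integralClosure A (FractionRing A)) a) =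
      canNorm A a := by
    intro a
    rw [normalizationEquiv_algebraMap, hρ]
    rfl
  constructor
  · intro h
    exact powMem_of_ringEquiv (algebraMap A (integralClosure A (FractionRing A))) (canNorm A)
      (normalizationEquiv ρ) hΨ h
  · intro h
    refine powMem_of_ringEquiv (canNorm A) (algebraMap A (integralClosure A (FractionRing A)))
      (normalizationEquiv ρ).symm (fun a => ?_) h
    rw [RingEquiv.symm_apply_eq, hΨ]

end Groth.Agent.S16431
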