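import Groth.Statements.S16438
import Groth.Agent.Lib.Helper3ShLocalHom
import Mathlib

set_option autoImplicit false
universe u
open EGA4loc

namespace Groth.Agent.S16438

open IsLocalRing in

open IsLocalRing in
/-- Let A be a Noetherian local ring with maximal ideal m, S a strict henselization of A, and D an
A-subalgebra of S which is a local ring dominated by S (the inclusion is local), essentially of
finite type over A, and such that m D is the maximal ideal of D. Then D is an essentially etale
local A-algebra: A-isomorphic to the localization of an etale A-algebra at a prime over m. (The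
published statement also assumes the total ring of fractions of D finitely generated over that of A;
for D essentially of finite type over A and dominated by S this is automatic, D then lying in a
local etale subextension of S, so that hypothesis is omitted here.) -/
theorem result
    (A S : Type u) [CommRing A] [IsLocalRing A] [IsNoetherianRing A]
    [CommRing S] [IsLocalRing S] [Algebra A S] [IsLocalHom (algebraMap A S)]
    [Hensel.IsStrictHenselization A S] (D : Subalgebra A S) [IsLocalRing D]
    [IsLocalHom (algebraMap D S)] [Algebra.EssFiniteType A D]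
    (hm : Ideal.map (algebraMap A D) (maximalIdeal A) = maximalIdeal D) :
    EGA4loc.IsEssentiallyEtale A D := by
  classical
  -- 1. the structure map of `D` is local
  haveI hAD : IsLocalHom (algebraMap A D) := by
    refine ⟨fun a ha => ?_⟩
    have h1 : IsUnit (algebraMap D S (algebraMap A D a)) := ha.map _
    rw [← IsScalarTower.algebraMap_apply A D S] at h1
    exact isUnit_of_map_unit (algebraMap A S) a h1
  -- 2. separable residue field extension
  haveI : Algebra.IsSeparable (ResidueField A) (ResidueField S) :=
    (Hensel.IsStrictHenselization.isSepClosure (R := A) (S := S)).separable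
  haveI : Algebra.IsSeparable (ResidueField A) (ResidueField D) :=
    Algebra.isSeparable_tower_bot_of_isSeparable (ResidueField A) (ResidueField D)
      (ResidueField S)
  -- 3. unramified
  haveI hunr : Algebra.FormallyUnramified A D := Algebra.FormallyUnramified.of_map_maximalIdeal hm
  -- 4. `D` is the localization of a finite type subalgebra `D0` at a prime `Q0`
  let D0 : Subalgebra A D := Algebra.EssFiniteType.subalgebra A D
  let Q0 : Ideal D0 := (maximalIdeal D).comap (algebraMap D0 D)
  haveI : Q0.IsPrime := Ideal.comap_isPrime _ _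
  have hM : Algebra.EssFiniteType.submonoid A D = Q0.primeCompl := by
    ext x
    show IsUnit (algebraMap D0 D x) ↔ ¬ (algebraMap D0 D x ∈ maximalIdeal D)
    rw [mem_maximalIdeal, mem_nonunits_iff, not_not]
  haveI hlocD : IsLocalization.AtPrime D Q0 := by
    show IsLocalization Q0.primeCompl D
    rw [← hM]
    infer_instance
  let ε0 : D ≃ₐ[A] Localization.AtPrime Q0 :=
    (IsLocalization.algEquiv Q0.primeCompl D (Localization.AtPrime Q0)).restrictScalars A
  haveI : Algebra.IsUnramifiedAt A Q0 := Algebra.FormallyUnramified.of_equiv ε0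
  obtain ⟨f, hfQ, P, φ, hφ⟩ := Algebra.IsUnramifiedAt.exists_hasStandardEtaleSurjectionOn (R := A) Q0
  have hfu : IsUnit (algebraMap D0 D f) := by
    by_contra hnu
    exact hfQ ((mem_maximalIdeal _).mpr hnu)
  -- the map from the standard étale algebra to `D`
  let lam : Localization.Away f →ₐ[A] D :=
    IsLocalization.liftAlgHom (M := Submonoid.powers f) (f := IsScalarTower.toAlgHom A D0 D) (by
      rintro ⟨y, n, rfl⟩
      show IsUnit (algebraMap D0 D (f ^ n))
      rw [map_pow]
      exact hfu.pow n)
  have hlam : ∀ a : D0, lam (algebraMap D0 (Localization.Away f) a) = algebraMap D0 D a := by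
    intro a
    exact IsLocalization.lift_eq _ a
  let ψ : P.Ring →ₐ[A] D := lam.comp φ
  let q : Ideal P.Ring := (maximalIdeal D).comap ψ.toRingHom
  haveI : q.IsPrime := Ideal.comap_isPrime _ _
  have hq : q.comap (algebraMap A P.Ring) = maximalIdeal A := by
    show ((maximalIdeal D).comap ψ.toRingHom).comap (algebraMap A P.Ring) = _
    rw [Ideal.comap_comap]
    have h1 : ψ.toRingHom.comp (algebraMap A P.Ring) = algebraMap A D := ψ.comp_algebraMap
    rw [h1]
    exact ((local_hom_TFAE (algebraMap A D)).out 0 4 rfl rfl).mp inferInstance
  have hψu : ∀ c : P.Ring, c ∉ q → IsUnit (ψ c) := by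
    intro c hc
    by_contra hnu
    exact hc ((mem_maximalIdeal _).mpr hnu)
  let ψq : Localization.AtPrime q →ₐ[A] D :=
    IsLocalization.liftAlgHom (M := q.primeCompl) (f := ψ) (fun y => hψu y.1 y.2)
  have hψq : ∀ c : P.Ring, ψq (algebraMap P.Ring (Localization.AtPrime q) c) = ψ c := by
    intro c
    exact IsLocalization.lift_eq _ c
  -- surjectivity
  have hsurj : Function.Surjective ψq := by
    intro d
    obtain ⟨⟨a, b⟩, hab⟩ := IsLocalization.surj Q0.primeCompl d
    obtain ⟨a', ha'⟩ := hφ (algebraMap D0 (Localization.Away f) a)
    obtain ⟨b', hb'⟩ := hφ (algebraMap D0 (Localization.Away f) (b : D0))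
    have hψa : ψ a' = algebraMap D0 D a := by
      show lam (φ a') = _
      rw [ha', hlam]
    have hψb : ψ b' = algebraMap D0 D (b : D0) := by
      show lam (φ b') = _
      rw [hb', hlam]
    have hb'q : b' ∉ q := by
      intro hmem
      have h1 : ψ b' ∈ maximalIdeal D := hmem
      rw [hψb] at h1
      exact b.2 h1
    refine ⟨IsLocalization.mk' (Localization.AtPrime q) a' (⟨b', hb'q⟩ : q.primeCompl), ?_⟩
    have hbu : IsUnit (algebraMap D0 D (b : D0)) := by
      by_contra hnu
      exact b.2 ((mem_maximalIdeal _).mpr hnu)
    apply hbu.mul_left_injective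
    show _ * algebraMap D0 D (b : D0) = d * algebraMap D0 D (b : D0)
    rw [hab, ← hψb, ← hψq b', ← map_mul, ← hψa, ← hψq a']
    congr 1
    exact IsLocalization.mk'_spec _ _ _
  -- injectivity
  haveI hlocq : IsLocalHom (algebraMap A (Localization.AtPrime q)) := by
    refine ⟨fun a ha => ?_⟩
    rw [IsScalarTower.algebraMap_apply A P.Ring (Localization.AtPrime q),
      IsLocalization.AtPrime.isUnit_to_map_iff (Localization.AtPrime q) q] at ha
    by_contra hna
    have h1 : a ∈ maximalIdeal A := (mem_maximalIdeal a).mpr hna
    rw [← hq] at h1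
    exact ha h1
  have hEss : EGA4loc.IsEssentiallyEtale A (Localization.AtPrime q) :=
    ⟨P.Ring, inferInstance, inferInstance, q, inferInstance, inferInstance, hq, ⟨AlgEquiv.refl⟩⟩
  let γ : Localization.AtPrime q →ₐ[A] S := (D.val).comp ψq
  haveI : IsLocalHom γ.toRingHom := by
    refine ⟨fun x hx => ?_⟩
    have h1 : IsUnit (algebraMap D S (ψq x)) := hx
    have h2 : IsUnit (ψq x) := isUnit_of_map_unit (algebraMap D S) _ h1
    obtain ⟨c, s, rfl⟩ := IsLocalization.exists_mk'_eq q.primeCompl x
    have h3 : ψq (IsLocalization.mk' (Localization.AtPrime q) c s) * ψ (s : P.Ring) = ψ c := by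
      rw [← hψq (s : P.Ring), ← map_mul, IsLocalization.mk'_spec, hψq]
    have h4 : IsUnit (ψ c) := by
      rw [← h3]
      exact h2.mul (hψu _ s.2)
    have h5 : c ∉ q := fun hmem => (mem_maximalIdeal _).mp (show ψ c ∈ maximalIdeal D from hmem) h4
    rw [IsLocalization.AtPrime.isUnit_mk'_iff (Localization.AtPrime q) q]
    exact h5
  have hinj : Function.Injective ψq := by
    have h1 := Groth.Agent.Lib.Helper3.ShLocalHom.injective_of_isLocalHom A S
      (Localization.AtPrime q) hEss γ
    intro x y hxy
    apply h1
    show algebraMap D S (ψq x) = algebraMap D S (ψq y)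
    rw [hxy]
  exact ⟨P.Ring, inferInstance, inferInstance, q, inferInstance, inferInstance, hq,
    ⟨(AlgEquiv.ofBijective ψq ⟨hinj, hsurj⟩).symm⟩⟩

end Groth.Agent.S16438
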