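import Groth.Statements.S16448
import Groth.Agent.Lib.Helper3TotFracB
import Groth.Agent.Lib.Helper3EssEt
import Mathlib

set_option autoImplicit false
universe u
open EGA4loc

namespace Groth.Agent.S16448

-- an essentially étale local algebra is flat
theorem flat_of_isEssentiallyEtale (A A' : Type u) [CommRing A] [IsLocalRing A]
    [CommRing A'] [Algebra A A'] (hA' : EGA4loc.IsEssentiallyEtale A A') :
    Module.Flat A A' := by
  obtain ⟨C, _, _, q, _, hEt, hq, ⟨e⟩⟩ := hA'
  haveI : Module.Flat C (Localization.AtPrime q) := IsLocalization.flat _ q.primeCompl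
  haveI : Module.Flat A (Localization.AtPrime q) := Module.Flat.trans A C _
  exact Module.Flat.of_linearEquiv e.toLinearEquiv

/-- Let A be a reduced local ring with finitely many minimal prime ideals and E a local ring which is an
essentially etale local A-algebra with local structure map. Then the total ring of fractions K_E of
E is the localization of E at the images of the non-zero-divisors of A — that is, K_E = E ⊗_A K_A —
and K_E is finite over K_A: for some finite subset t of K_E, every element of K_E multiplied by the
image of a suitable non-zero-divisor of A lies in the A-span of t. (The published statement is for a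
reduced semilocal ring and a semilocal etale extension; this row treats a local ring and a local
etale extension.) -/
theorem result
    (A E : Type u) [CommRing A] [IsLocalRing A] [IsReduced A] (hmin : (minimalPrimes A).Finite)
    [CommRing E] [IsLocalRing E] [Algebra A E] [IsLocalHom (algebraMap A E)]
    (hE : EGA4loc.IsEssentiallyEtale A E) :
    IsLocalization ((nonZeroDivisors A).map (algebraMap A E)) (FractionRing E) ∧
      ∃ t : Finset (FractionRing E), ∀ x : FractionRing E, ∃ a ∈ nonZeroDivisors A,
        algebraMap A (FractionRing E) a * x ∈ Submodule.span A (t : Set (FractionRing E)) := by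
  classical
  haveI : Module.Flat A E := flat_of_isEssentiallyEtale A E hE
  haveI : Algebra.EssFiniteType A E :=
    Groth.Agent.Lib.Helper3.EssEt.essFiniteType_of_isEssentiallyEtale A E hE
  haveI : Algebra.FormallyEtale A E :=
    Groth.Agent.Lib.Helper3.EssEt.formallyEtale_of_isEssentiallyEtale A E hE
  haveI := Groth.Agent.Lib.Helper3.TotFrac.isFractionRing_KE A hmin E
  let e : Groth.Agent.Lib.Helper3.TotFrac.KE A E ≃ₐ[E] FractionRing E :=
    IsLocalization.algEquiv (nonZeroDivisors E) _ _
  refine ⟨?_, ?_⟩
  · exact IsLocalization.isLocalization_of_algEquiv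
      (Algebra.algebraMapSubmonoid E (nonZeroDivisors A)) e
  · obtain ⟨t, ht⟩ := Groth.Agent.Lib.Helper3.TotFrac.exists_finset_span_KE A hmin E
    refine ⟨t.image e, fun x => ?_⟩
    obtain ⟨a, ha, hmem⟩ := ht (e.symm x)
    refine ⟨a, ha, ?_⟩
    have h1 : algebraMap A (FractionRing E) a * x =
        (e.restrictScalars A).toLinearMap
          (algebraMap A (Groth.Agent.Lib.Helper3.TotFrac.KE A E) a * e.symm x) := by
      show _ = e (algebraMap A (Groth.Agent.Lib.Helper3.TotFrac.KE A E) a * e.symm x)
      rw [map_mul, AlgEquiv.apply_symm_apply]
      congr 1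
      rw [IsScalarTower.algebraMap_apply A E (Groth.Agent.Lib.Helper3.TotFrac.KE A E),
        e.commutes, ← IsScalarTower.algebraMap_apply]
    rw [h1, Finset.coe_image]
    have h2 : (⇑e '' (t : Set (Groth.Agent.Lib.Helper3.TotFrac.KE A E))) =
        (e.restrictScalars A).toLinearMap '' (t : Set _) := rfl
    rw [h2, ← Submodule.map_span]
    exact Submodule.mem_map_of_mem hmem

end Groth.Agent.S16448
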