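import Groth.Statements.S16441
import Groth.Agent.Lib.Helper3TotFracB
import Groth.Agent.Lib.Helper3EssEt
import Groth.Agent.Lib.Helper3HzP
import Groth.Agent.Lib.Helper3ShN
import Groth.Agent.Lib.Helper3EtNbhdD
import Groth.Agent.S16448
import Mathlib

set_option autoImplicit false
universe u
open EGA4loc

namespace Groth.Agent.S16441

open IsLocalRing Groth.Agent.Lib.Helper3 in
-- finitely many elements of a strict henselization lie in the image of a local, injective map
-- from an essentially étale local algebra, over which the strict henselization is faithfully flat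
theorem sh_exhaust'' (R : Type u) [CommRing R] [IsLocalRing R] (S : Type u) [CommRing S]
    [IsLocalRing S] [Algebra R S] [IsLocalHom (algebraMap R S)]
    [Hensel.IsStrictHenselization R S] (s : Finset S) :
    ∃ (L : Type u) (_ : CommRing L) (_ : IsLocalRing L) (_ : Algebra R L)
      (_ : EGA4loc.IsEssentiallyEtale R L) (f : L →ₐ[R] S),
      Function.Injective f ∧ IsLocalHom f.toRingHom ∧ (∀ x ∈ s, x ∈ f.range) ∧
      ∀ (a z : L) (x : S), f a * x = f z → ∃ x' : L, a * x' = z := by
  classical
  obtain ⟨Ω, _, _, _, _, _, ⟨e⟩⟩ := HzP.sh_exists_model R S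
  obtain ⟨i, x', hx'⟩ := Sh.exists_ofL_fin (fun k : Fin s.card => e (s.equivFin.symm k))
  letI := (Sh.ofL i).toAlgebra
  haveI : IsLocalHom (algebraMap i.L (Sh.Rsh R Ω)) := inferInstanceAs (IsLocalHom (Sh.ofL i))
  haveI := Sh.isStrictHenselization_L (R := R) (Ω := Ω) i
  haveI : Module.FaithfullyFlat i.L (Sh.Rsh R Ω) := HzP.sh_faithfullyFlat i.L (Sh.Rsh R Ω)
  have hinj : Function.Injective (Sh.ofL i) :=
    FaithfulSMul.algebraMap_injective i.L (Sh.Rsh R Ω)
  refine ⟨i.L, inferInstance, inferInstance, inferInstance, i.isEssentiallyEtale,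
    (e.symm : Sh.Rsh R Ω →ₐ[R] S).comp (Sh.ofLₐ i), ?_, ?_, ?_, ?_⟩
  · intro a b hab
    apply hinj
    exact e.symm.injective hab
  · refine ⟨fun a ha => ?_⟩
    have h1 : IsUnit (e.symm (Sh.ofL i a)) := ha
    have h2 : IsUnit (e (e.symm (Sh.ofL i a))) := h1.map e
    rw [AlgEquiv.apply_symm_apply] at h2
    exact isUnit_of_map_unit (Sh.ofL i) a h2
  · intro x hx
    refine ⟨x' (s.equivFin ⟨x, hx⟩), ?_⟩
    change e.symm (Sh.ofL i (x' (s.equivFin ⟨x, hx⟩))) = x
    rw [hx', Equiv.symm_apply_apply, AlgEquiv.symm_apply_apply]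
  · intro a z x hx
    have h1 : Sh.ofL i a * e x = Sh.ofL i z := by
      have h2 : e.symm (Sh.ofL i a) * x = e.symm (Sh.ofL i z) := hx
      have h3 := congrArg e h2
      rwa [map_mul, AlgEquiv.apply_symm_apply, AlgEquiv.apply_symm_apply] at h3
    have h4 : z ∈ ((Ideal.span {a}).map (algebraMap i.L (Sh.Rsh R Ω))).comap
        (algebraMap i.L (Sh.Rsh R Ω)) := by
      rw [Ideal.mem_comap, Ideal.map_span, Set.image_singleton]
      show Sh.ofL i z ∈ Ideal.span {Sh.ofL i a}
      rw [← h1]
      exact Ideal.mul_mem_right _ _ (Ideal.mem_span_singleton_self _)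
    rw [Ideal.comap_map_eq_self_of_faithfullyFlat, Ideal.mem_span_singleton'] at h4
    obtain ⟨c, hc⟩ := h4
    exact ⟨c, by rw [mul_comm]; exact hc⟩

open Groth.Agent.Lib.Helper3 Groth.Agent.Lib.Helper3.TotFrac Polynomial in
-- a non-zero-divisor of an intermediate ring divides (in that ring) a non-zero-divisor of `A`
theorem exists_mul_eq_algebraMap (A S : Type u) [CommRing A] [IsLocalRing A] [IsReduced A]
    (hmin : (minimalPrimes A).Finite)
    [CommRing S] [IsLocalRing S] [Algebra A S] [IsLocalHom (algebraMap A S)]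
    [Hensel.IsStrictHenselization A S] (D : Subalgebra A S) (δ : D)
    (hδ : δ ∈ nonZeroDivisors D) :
    ∃ d' : D, ∃ a ∈ nonZeroDivisors A, δ * d' = algebraMap A D a := by
  classical
  obtain ⟨L, _, _, _, hL, f, hfinj, -, hf, -⟩ := sh_exhaust'' A S {(δ : S)}
  obtain ⟨y, hy⟩ := hf (δ : S) (Finset.mem_singleton_self _)
  have hy' : f y = (δ : S) := hy
  haveI : Module.Flat A L := Groth.Agent.S16448.flat_of_isEssentiallyEtale A L hL
  haveI : Algebra.EssFiniteType A L := EssEt.essFiniteType_of_isEssentiallyEtale A L hL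
  haveI : Algebra.FormallyEtale A L := EssEt.formallyEtale_of_isEssentiallyEtale A L hL
  haveI hKart : IsArtinianRing (Localization (nonZeroDivisors A)) :=
    isArtinianRing_of_isLocalization_nonZeroDivisors A hmin _
  haveI := finite_KE A hmin L
  let yK : KE A L := algebraMap L (KE A L) y
  let R : Subalgebra (Localization (nonZeroDivisors A)) (KE A L) :=
    Algebra.adjoin (Localization (nonZeroDivisors A)) {yK}
  haveI : Module.Finite (Localization (nonZeroDivisors A)) R :=
    Module.Finite.of_injective R.val.toLinearMap Subtype.val_injective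
  haveI : IsArtinianRing R := IsArtinianRing.of_finite (Localization (nonZeroDivisors A)) R
  have hinjL : Function.Injective (algebraMap L (KE A L)) :=
    IsLocalization.injective (KE A L) (algebraMapSubmonoid_le_nonZeroDivisors A L)
  -- key: `y` is a non-zero-divisor on the subalgebra generated by `y`
  have key : ∀ P : A[X], y * aeval y P = 0 → aeval y P = 0 := by
    intro P hP
    have h1 : (δ : S) * aeval (δ : S) P = 0 := by
      rw [← hy', aeval_algHom_apply, ← map_mul, hP, map_zero]
    have h2 : δ * aeval δ P = 0 := by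
      apply Subtype.ext
      rw [Subalgebra.coe_mul, ← Subalgebra.aeval_coe, h1]
      rfl
    have h3 : aeval δ P = 0 := by
      rw [mul_comm] at h2
      exact hδ.2 _ h2
    have h4 : aeval (δ : S) P = 0 := by
      rw [Subalgebra.aeval_coe, h3]; rfl
    rw [← hy', aeval_algHom_apply] at h4
    exact hfinj (by rw [h4, map_zero])
  -- clearing denominators
  have hclear : ∀ PK : (Localization (nonZeroDivisors A))[X], ∃ b ∈ nonZeroDivisors A,
      ∃ P : A[X], algebraMap A (KE A L) b * aeval yK PK = algebraMap L (KE A L) (aeval y P) := by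
    intro PK
    obtain ⟨b, hb⟩ := IsLocalization.integerNormalization_map_to_map (nonZeroDivisors A) PK
    refine ⟨b.1, b.2, IsLocalization.integerNormalization (nonZeroDivisors A) PK, ?_⟩
    have h1 := congrArg (aeval yK) hb
    rw [aeval_map_algebraMap] at h1
    have h2 : aeval yK (IsLocalization.integerNormalization (nonZeroDivisors A) PK) =
        algebraMap L (KE A L) (aeval y (IsLocalization.integerNormalization (nonZeroDivisors A) PK)) :=
      aeval_algebraMap_apply (KE A L) y _
    rw [← h2, h1, ← algebraMap_smul (Localization (nonZeroDivisors A)) (b : A) PK, map_smul,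
      algebraMap_smul, Algebra.smul_def]
  have hunitb : ∀ b ∈ nonZeroDivisors A, IsUnit (algebraMap A (KE A L) b) := by
    intro b hb
    rw [IsScalarTower.algebraMap_apply A (Localization (nonZeroDivisors A)) (KE A L)]
    exact (IsLocalization.map_units (Localization (nonZeroDivisors A)) ⟨b, hb⟩).map _
  have hRmem : ∀ r : R, ∃ PK : (Localization (nonZeroDivisors A))[X], (r : KE A L) = aeval yK PK := by
    intro r
    have h1 : (r : KE A L) ∈ Algebra.adjoin (Localization (nonZeroDivisors A)) {yK} := r.2
    rw [Algebra.adjoin_singleton_eq_range_aeval] at h1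
    obtain ⟨PK, hPK⟩ := h1
    exact ⟨PK, hPK.symm⟩
  let yR : R := ⟨yK, Algebra.subset_adjoin (Set.mem_singleton _)⟩
  have hnzd : yR ∈ nonZeroDivisors R := by
    rw [mem_nonZeroDivisors_iff_right]
    intro r hr
    obtain ⟨PK, hPK⟩ := hRmem r
    obtain ⟨b, hb, P, hP⟩ := hclear PK
    have h1 : (r : KE A L) * yK = 0 := congrArg Subtype.val hr
    have h2 : algebraMap L (KE A L) (y * aeval y P) = 0 := by
      rw [map_mul, ← hP, ← hPK]
      show yK * (_ * (r : KE A L)) = 0
      rw [mul_left_comm, mul_comm yK, h1, mul_zero]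
    have h3 : y * aeval y P = 0 := hinjL (by rw [h2, map_zero])
    have h4 := key P h3
    rw [h4, map_zero, ← hPK] at hP
    have h5 : (r : KE A L) = 0 := (hunitb b hb).mul_right_eq_zero.mp hP
    exact Subtype.ext h5
  obtain ⟨r, hr⟩ := (IsArtinianRing.isUnit_of_mem_nonZeroDivisors hnzd).exists_right_inv
  obtain ⟨PK, hPK⟩ := hRmem r
  obtain ⟨b, hb, P, hP⟩ := hclear PK
  have h1 : yK * (r : KE A L) = 1 := congrArg Subtype.val hr
  have h2 : algebraMap L (KE A L) (y * aeval y P) = algebraMap L (KE A L) (algebraMap A L b) := by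
    rw [map_mul, ← hP, ← hPK]
    show yK * (_ * (r : KE A L)) = _
    rw [mul_left_comm, h1, mul_one, ← IsScalarTower.algebraMap_apply]
  have h3 : y * aeval y P = algebraMap A L b := hinjL h2
  refine ⟨aeval δ P, b, hb, ?_⟩
  apply Subtype.ext
  rw [Subalgebra.coe_mul, ← Subalgebra.aeval_coe, ← hy', aeval_algHom_apply, ← map_mul, h3,
    AlgHom.commutes]
  rfl

open Groth.Agent.Lib.Helper3 Groth.Agent.Lib.Helper3.TotFrac in
-- non-zero-divisors of `A` stay non-zero-divisors in the strict henselization
theorem algebraMap_mem_nonZeroDivisors (A S : Type u) [CommRing A] [IsLocalRing A]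
    [CommRing S] [IsLocalRing S] [Algebra A S] [IsLocalHom (algebraMap A S)]
    [Hensel.IsStrictHenselization A S] {a : A} (ha : a ∈ nonZeroDivisors A) :
    algebraMap A S a ∈ nonZeroDivisors S := by
  haveI : Module.FaithfullyFlat A S := HzP.sh_faithfullyFlat A S
  exact algebraMapSubmonoid_le_nonZeroDivisors A S ⟨a, ha, rfl⟩

-- a non-zero-divisor of an intermediate ring is a non-zero-divisor of the strict henselization
theorem coe_mem_nonZeroDivisors (A S : Type u) [CommRing A] [IsLocalRing A] [IsReduced A]
    (hmin : (minimalPrimes A).Finite)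
    [CommRing S] [IsLocalRing S] [Algebra A S] [IsLocalHom (algebraMap A S)]
    [Hensel.IsStrictHenselization A S] (D : Subalgebra A S) (δ : D)
    (hδ : δ ∈ nonZeroDivisors D) : (δ : S) ∈ nonZeroDivisors S := by
  obtain ⟨d', a, ha, hd'⟩ := exists_mul_eq_algebraMap A S hmin D δ hδ
  have h1 : (δ : S) * (d' : S) = algebraMap A S a := by
    have := congrArg (Subtype.val) hd'
    rwa [Subalgebra.coe_mul] at this
  have h2 := algebraMap_mem_nonZeroDivisors A S ha
  rw [mem_nonZeroDivisors_iff_right]
  intro x hx
  apply (mem_nonZeroDivisors_iff_right.mp h2)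
  rw [← h1, ← mul_assoc, hx, zero_mul]

-- elements of `A` that are non-zero-divisors are non-zero-divisors of any intermediate ring
theorem algebraMap_mem_nonZeroDivisors_sub (A S : Type u) [CommRing A] [IsLocalRing A]
    [CommRing S] [IsLocalRing S] [Algebra A S] [IsLocalHom (algebraMap A S)]
    [Hensel.IsStrictHenselization A S] (D : Subalgebra A S) {a : A}
    (ha : a ∈ nonZeroDivisors A) : algebraMap A D a ∈ nonZeroDivisors D := by
  have h2 := algebraMap_mem_nonZeroDivisors A S ha
  rw [mem_nonZeroDivisors_iff_right]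
  intro x hx
  apply Subtype.ext
  apply (mem_nonZeroDivisors_iff_right.mp h2)
  have := congrArg (Subtype.val) hx
  rwa [Subalgebra.coe_mul] at this

-- if the total ring of fractions of `D` is finitely generated over that of `A`, then `D` lies in
-- an essentially étale local subalgebra
theorem le_of_fg (A S : Type u) [CommRing A] [IsLocalRing A] [IsReduced A]
    (hmin : (minimalPrimes A).Finite)
    [CommRing S] [IsLocalRing S] [Algebra A S] [IsLocalHom (algebraMap A S)]
    [Hensel.IsStrictHenselization A S] (D : Subalgebra A S)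
    (t : Finset (FractionRing D))
    (ht : ∀ x : FractionRing D, ∃ a ∈ nonZeroDivisors A,
        algebraMap A (FractionRing D) a * x ∈ Algebra.adjoin A (t : Set (FractionRing D))) :
    ∃ E : Subalgebra A S, D ≤ E ∧ ∃ _ : IsLocalRing E, EGA4loc.IsEssentiallyEtale A E := by
  classical
  let num : FractionRing D → D := fun τ => (IsLocalization.sec (nonZeroDivisors D) τ).1
  let den : FractionRing D → D := fun τ => ((IsLocalization.sec (nonZeroDivisors D) τ).2 : D)
  have hden : ∀ τ, den τ ∈ nonZeroDivisors D := fun τ =>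
    (IsLocalization.sec (nonZeroDivisors D) τ).2.2
  have hsec : ∀ τ : FractionRing D, τ * algebraMap D (FractionRing D) (den τ) =
      algebraMap D (FractionRing D) (num τ) := fun τ =>
    IsLocalization.sec_spec (nonZeroDivisors D) τ
  obtain ⟨L, _, _, _, hL, f, hfinj, hfloc, hf, hff⟩ := sh_exhaust'' A S
    (t.image (fun τ => (num τ : S)) ∪ t.image (fun τ => (den τ : S)))
  have hnumf : ∀ τ ∈ t, (num τ : S) ∈ f.range := fun τ hτ =>
    hf _ (Finset.mem_union_left _ (Finset.mem_image_of_mem _ hτ))
  have hdenf : ∀ τ ∈ t, (den τ : S) ∈ f.range := fun τ hτ =>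
    hf _ (Finset.mem_union_right _ (Finset.mem_image_of_mem _ hτ))
  let Δ : D := ∏ τ ∈ t, den τ
  have hΔ : Δ ∈ nonZeroDivisors D := Submonoid.prod_mem _ fun τ _ => hden τ
  have hprodf : ∀ u : Finset (FractionRing D), u ⊆ t → ((∏ τ ∈ u, den τ : D) : S) ∈ f.range := by
    intro u hu
    have h1 : ((∏ τ ∈ u, den τ : D) : S) = ∏ τ ∈ u, (den τ : S) := map_prod D.val _ _
    rw [h1]
    exact Subalgebra.prod_mem _ fun τ hτ => hdenf τ (hu hτ)
  have hΔf : (Δ : S) ∈ f.range := hprodf t (Finset.Subset.refl _)
  -- clearing denominators in the subalgebra generated by `t`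
  have hadj : ∀ z ∈ Algebra.adjoin A (t : Set (FractionRing D)), ∃ N : ℕ, ∃ w : D,
      (w : S) ∈ f.range ∧ algebraMap D (FractionRing D) (Δ ^ N) * z =
        algebraMap D (FractionRing D) w := by
    intro z hz
    induction hz using Algebra.adjoin_induction with
    | mem τ hτ =>
      have hτt : τ ∈ t := hτ
      refine ⟨1, (∏ τ' ∈ t.erase τ, den τ') * num τ, ?_, ?_⟩
      · rw [Subalgebra.coe_mul]
        exact f.range.mul_mem (hprodf _ (Finset.erase_subset _ _)) (hnumf τ hτt)
      · have h1 : Δ = den τ * ∏ τ' ∈ t.erase τ, den τ' := (Finset.mul_prod_erase t den hτt).symm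
        rw [pow_one, h1, map_mul, map_mul, ← hsec τ]
        ring
    | algebraMap r =>
      refine ⟨0, algebraMap A D r, f.range.algebraMap_mem r, ?_⟩
      rw [pow_zero, map_one, one_mul, ← IsScalarTower.algebraMap_apply]
    | add z₁ z₂ _ _ h₁ h₂ =>
      obtain ⟨N₁, w₁, hw₁, e₁⟩ := h₁
      obtain ⟨N₂, w₂, hw₂, e₂⟩ := h₂
      refine ⟨N₁ + N₂, Δ ^ N₂ * w₁ + Δ ^ N₁ * w₂, ?_, ?_⟩
      · rw [Subalgebra.coe_add, Subalgebra.coe_mul, Subalgebra.coe_mul, Subalgebra.coe_pow,
          Subalgebra.coe_pow]
        exact f.range.add_mem (f.range.mul_mem (f.range.pow_mem hΔf _) hw₁)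
          (f.range.mul_mem (f.range.pow_mem hΔf _) hw₂)
      · rw [map_add, map_mul, map_mul, ← e₁, ← e₂, pow_add, map_mul]
        ring
    | mul z₁ z₂ _ _ h₁ h₂ =>
      obtain ⟨N₁, w₁, hw₁, e₁⟩ := h₁
      obtain ⟨N₂, w₂, hw₂, e₂⟩ := h₂
      refine ⟨N₁ + N₂, w₁ * w₂, ?_, ?_⟩
      · rw [Subalgebra.coe_mul]
        exact f.range.mul_mem hw₁ hw₂
      · rw [map_mul, ← e₁, ← e₂, pow_add, map_mul]
        ring
  let ε : L ≃ₐ[A] f.range := AlgEquiv.ofInjective f hfinj
  have hloc : IsLocalRing f.range := ε.toRingEquiv.isLocalRing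
  refine ⟨f.range, ?_, hloc, ?_⟩
  · intro x hx
    obtain ⟨a, ha, hmem⟩ := ht (algebraMap D (FractionRing D) ⟨x, hx⟩)
    obtain ⟨N, w, hw, hNw⟩ := hadj _ hmem
    have h1 : algebraMap D (FractionRing D) (Δ ^ N * algebraMap A D a * ⟨x, hx⟩) =
        algebraMap D (FractionRing D) w := by
      rw [← hNw, map_mul, map_mul, ← IsScalarTower.algebraMap_apply, mul_assoc]
    have h2 : Δ ^ N * algebraMap A D a * ⟨x, hx⟩ = w :=
      IsFractionRing.injective D (FractionRing D) h1
    have h3 : ((Δ ^ N * algebraMap A D a : D) : S) * x = (w : S) := by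
      have := congrArg Subtype.val h2
      rwa [Subalgebra.coe_mul] at this
    have h4 : ((Δ ^ N * algebraMap A D a : D) : S) ∈ f.range := by
      rw [Subalgebra.coe_mul, Subalgebra.coe_pow]
      exact f.range.mul_mem (f.range.pow_mem hΔf _) (f.range.algebraMap_mem a)
    have h5 : ((Δ ^ N * algebraMap A D a : D) : S) ∈ nonZeroDivisors S :=
      coe_mem_nonZeroDivisors A S hmin D _
        (mul_mem (pow_mem hΔ N) (algebraMap_mem_nonZeroDivisors_sub A S D ha))
    obtain ⟨s₀, hs₀⟩ := h4
    obtain ⟨z₀, hz₀⟩ := hw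
    have hs₀' : f s₀ = ((Δ ^ N * algebraMap A D a : D) : S) := hs₀
    have hz₀' : f z₀ = (w : S) := hz₀
    obtain ⟨x', hx'⟩ := hff s₀ z₀ x (by rw [hs₀', hz₀', h3])
    refine ⟨x', ?_⟩
    show f x' = x
    have h6 : f s₀ * (x - f x') = 0 := by
      rw [mul_sub, ← map_mul, hx', hs₀', hz₀', h3, sub_self]
    rw [hs₀', mul_comm] at h6
    have h7 := h5.2 _ h6
    exact (sub_eq_zero.mp h7).symm
  · obtain ⟨C, _, _, q, _, hEt, hq, ⟨e⟩⟩ := hL
    exact ⟨C, inferInstance, inferInstance, q, inferInstance, hEt, hq, ⟨ε.symm.trans e⟩⟩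

open Groth.Agent.Lib.Helper3 Groth.Agent.Lib.Helper3.TotFrac in
-- if `D` lies in an essentially étale local subalgebra, its total ring of fractions is finitely
-- generated over that of `A`
theorem fg_of_le (A S : Type u) [CommRing A] [IsLocalRing A] [IsReduced A]
    (hmin : (minimalPrimes A).Finite)
    [CommRing S] [IsLocalRing S] [Algebra A S] [IsLocalHom (algebraMap A S)]
    [Hensel.IsStrictHenselization A S] (D : Subalgebra A S)
    (E : Subalgebra A S) (hDE : D ≤ E) [IsLocalRing E] (hE : EGA4loc.IsEssentiallyEtale A E) :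
    ∃ t : Finset (FractionRing D), ∀ x : FractionRing D, ∃ a ∈ nonZeroDivisors A,
        algebraMap A (FractionRing D) a * x ∈ Algebra.adjoin A (t : Set (FractionRing D)) := by
  classical
  haveI : Module.Flat A E := Groth.Agent.S16448.flat_of_isEssentiallyEtale A E hE
  haveI : Algebra.EssFiniteType A E := EssEt.essFiniteType_of_isEssentiallyEtale A E hE
  haveI : Algebra.FormallyEtale A E := EssEt.formallyEtale_of_isEssentiallyEtale A E hE
  haveI hKart : IsArtinianRing (Localization (nonZeroDivisors A)) :=
    isArtinianRing_of_isLocalization_nonZeroDivisors A hmin _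
  haveI := finite_KE A hmin E
  have hinjE : Function.Injective (algebraMap E (KE A E)) :=
    IsLocalization.injective (KE A E) (algebraMapSubmonoid_le_nonZeroDivisors A E)
  let ι : D →ₐ[A] E := Subalgebra.inclusion hDE
  let g : D →+* KE A E := (algebraMap E (KE A E)).comp ι.toRingHom
  have hginj : Function.Injective g :=
    hinjE.comp (Subalgebra.inclusion_injective hDE)
  have hgA : ∀ a : A, g (algebraMap A D a) = algebraMap A (KE A E) a := by
    intro a
    show algebraMap E (KE A E) (ι (algebraMap A D a)) = _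
    rw [AlgHom.commutes, ← IsScalarTower.algebraMap_apply]
  have hunitb : ∀ b ∈ nonZeroDivisors A, IsUnit (algebraMap A (KE A E) b) := by
    intro b hb
    rw [IsScalarTower.algebraMap_apply A (Localization (nonZeroDivisors A)) (KE A E)]
    exact (IsLocalization.map_units (Localization (nonZeroDivisors A)) ⟨b, hb⟩).map _
  have hunits : ∀ δ : nonZeroDivisors D, IsUnit (g δ) := by
    intro δ
    obtain ⟨d', a, ha, hd'⟩ := exists_mul_eq_algebraMap A S hmin D δ.1 δ.2
    have h1 : g δ * g d' = algebraMap A (KE A E) a := by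
      rw [← map_mul, hd', hgA]
    exact isUnit_of_mul_isUnit_left (h1 ▸ hunitb a ha)
  let ψ : FractionRing D →+* KE A E := IsLocalization.lift hunits
  have hψD : ∀ d : D, ψ (algebraMap D (FractionRing D) d) = g d := fun d =>
    IsLocalization.lift_eq hunits d
  have hψA : ∀ a : A, ψ (algebraMap A (FractionRing D) a) = algebraMap A (KE A E) a := by
    intro a
    rw [IsScalarTower.algebraMap_apply A D (FractionRing D), hψD, hgA]
  have hψinj : Function.Injective ψ := by
    rw [IsLocalization.lift_injective_iff]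
    intro x y
    exact ⟨fun h => by rw [(IsFractionRing.injective D (FractionRing D)) h],
      fun h => by rw [hginj h]⟩
  -- the image of `ψ` is a submodule over the total ring of fractions of `A`
  have hKmem : ∀ k : Localization (nonZeroDivisors A),
      algebraMap (Localization (nonZeroDivisors A)) (KE A E) k ∈ Set.range ψ := by
    intro k
    obtain ⟨b, s, rfl⟩ := IsLocalization.exists_mk'_eq (nonZeroDivisors A) k
    have hsD : algebraMap A D s.1 ∈ nonZeroDivisors D :=
      algebraMap_mem_nonZeroDivisors_sub A S D s.2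
    obtain ⟨u, hu⟩ := (IsLocalization.map_units (FractionRing D)
      ⟨algebraMap A D s.1, hsD⟩).exists_right_inv
    have hu' : algebraMap A (FractionRing D) s.1 * u = 1 := by
      rw [IsScalarTower.algebraMap_apply A D (FractionRing D)]
      exact hu
    have h1 : algebraMap (Localization (nonZeroDivisors A)) (KE A E)
        (IsLocalization.mk' _ b s) * algebraMap A (KE A E) s =
        algebraMap A (KE A E) b := by
      rw [IsScalarTower.algebraMap_apply A (Localization (nonZeroDivisors A)) (KE A E),
        IsScalarTower.algebraMap_apply A (Localization (nonZeroDivisors A)) (KE A E) b,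
        ← map_mul, IsLocalization.mk'_spec]
    have h2 : algebraMap A (KE A E) s * ψ u = 1 := by
      rw [← hψA, ← map_mul, hu', map_one]
    refine ⟨algebraMap A (FractionRing D) b * u, ?_⟩
    rw [map_mul, hψA, ← h1, mul_assoc, h2, mul_one]
  let N : Submodule (Localization (nonZeroDivisors A)) (KE A E) :=
    { carrier := Set.range ψ
      add_mem' := by
        rintro _ _ ⟨x, rfl⟩ ⟨y, rfl⟩
        exact ⟨x + y, map_add ψ x y⟩
      zero_mem' := ⟨0, map_zero ψ⟩
      smul_mem' := by
        rintro k _ ⟨x, rfl⟩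
        obtain ⟨k', hk'⟩ := hKmem k
        refine ⟨k' * x, ?_⟩
        rw [map_mul, hk', Algebra.smul_def] }
  haveI : IsNoetherian (Localization (nonZeroDivisors A)) (KE A E) := inferInstance
  obtain ⟨G, hG⟩ := (IsNoetherian.noetherian N : N.FG)
  have hGN : ∀ v ∈ G, v ∈ Set.range ψ := by
    intro v hv
    have : v ∈ N := by
      rw [← hG]
      exact Submodule.subset_span hv
    exact this
  let c : KE A E → FractionRing D := fun v => if h : v ∈ Set.range ψ then h.choose else 0
  have hc : ∀ v ∈ G, ψ (c v) = v := by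
    intro v hv
    have h := hGN v hv
    show ψ (if h : v ∈ Set.range ψ then h.choose else 0) = v
    rw [dif_pos h]
    exact h.choose_spec
  refine ⟨G.image c, fun x => ?_⟩
  have hx : ψ x ∈ Submodule.span (Localization (nonZeroDivisors A)) (G : Set (KE A E)) := by
    rw [hG]
    exact ⟨x, rfl⟩
  obtain ⟨k, -, hk⟩ := Submodule.mem_span_finset.mp hx
  obtain ⟨b, hb⟩ := IsLocalization.exist_integer_multiples_of_finset (nonZeroDivisors A)
    (G.image k)
  choose! α hα using hb
  refine ⟨b.1, b.2, ?_⟩
  have h1 : algebraMap A (FractionRing D) b.1 * x = ∑ v ∈ G, α (k v) • c v := by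
    apply hψinj
    rw [map_mul, hψA, ← hk, Finset.mul_sum, map_sum]
    refine Finset.sum_congr rfl fun v hv => ?_
    have h3 : (b : A) • k v = algebraMap A (Localization (nonZeroDivisors A)) (α (k v)) :=
      (hα (k v) (Finset.mem_image_of_mem k hv)).symm
    rw [Algebra.smul_def (α (k v)) (c v), map_mul, hψA, hc v hv,
      ← Algebra.smul_def (b : A) (k v • v), ← smul_assoc, h3, algebraMap_smul, Algebra.smul_def]
  rw [h1]
  refine Subalgebra.sum_mem _ fun v hv => ?_
  refine Subalgebra.smul_mem _ (Algebra.subset_adjoin ?_) _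
  rw [Finset.coe_image]
  exact Set.mem_image_of_mem c hv

/-- Let A be a reduced local ring with finitely many minimal prime ideals, S a strict henselization of
A, and D an A-subalgebra of S which is a local ring dominated by S (local inclusion). Then the total
ring of fractions K_D of D is finitely generated over that of A — there is a finite subset t of K_D
such that every element of K_D, multiplied by (the image of) some non-zero-divisor of A, is a
polynomial expression in t with coefficients from A — if and only if D is contained in some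
A-subalgebra E of S which is a local ring and an essentially etale local A-algebra (a localization
of an etale A-algebra at a prime over the maximal ideal). -/
theorem result
    (A S : Type u) [CommRing A] [IsLocalRing A] [IsReduced A] (hmin : (minimalPrimes A).Finite)
    [CommRing S] [IsLocalRing S] [Algebra A S] [IsLocalHom (algebraMap A S)]
    [Hensel.IsStrictHenselization A S] (D : Subalgebra A S) [IsLocalRing D]
    [IsLocalHom (algebraMap D S)] :
    (∃ t : Finset (FractionRing D), ∀ x : FractionRing D, ∃ a ∈ nonZeroDivisors A,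
        algebraMap A (FractionRing D) a * x ∈ Algebra.adjoin A (t : Set (FractionRing D))) ↔
      ∃ E : Subalgebra A S, D ≤ E ∧ ∃ _ : IsLocalRing E, EGA4loc.IsEssentiallyEtale A E := by
  constructor
  · rintro ⟨t, ht⟩
    exact le_of_fg A S hmin D t ht
  · rintro ⟨E, hDE, hEloc, hE⟩
    exact fg_of_le A S hmin D E hDE hE

end Groth.Agent.S16441
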