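import Groth.Statements.S16443
import Groth.Agent.Lib.Helper3TotFracB
import Groth.Agent.Lib.Helper3EssEt
import Groth.Agent.S16448
import Mathlib

set_option autoImplicit false
universe u
open EGA4loc

namespace Groth.Agent.S16443

open Groth.Agent.Lib.Helper3.TotFrac in
-- a localization of `E` which is compatibly an algebra over the total ring of fractions of `A`
-- is finite over it
theorem finite_of_isLocalization (A : Type u) [CommRing A] [IsReduced A]
    (hmin : (minimalPrimes A).Finite) (E : Type u) [CommRing E] [Algebra A E]
    [Algebra.EssFiniteType A E] [Algebra.FormallyUnramified A E]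
    (M : Submonoid E) (F : Type u) [CommRing F] [Algebra E F] [IsLocalization M F]
    [Algebra A F] [IsScalarTower A E F] [Algebra (Localization (nonZeroDivisors A)) F]
    [IsScalarTower A (Localization (nonZeroDivisors A)) F] :
    Module.Finite (Localization (nonZeroDivisors A)) F := by
  haveI : IsArtinianRing (Localization (nonZeroDivisors A)) :=
    isArtinianRing_of_isLocalization_nonZeroDivisors A hmin _
  haveI : Algebra.EssFiniteType E F := Algebra.EssFiniteType.of_isLocalization _ M
  haveI : Algebra.EssFiniteType A F := Algebra.EssFiniteType.comp A E F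
  haveI : Algebra.EssFiniteType (Localization (nonZeroDivisors A)) F :=
    Algebra.EssFiniteType.of_comp A _ _
  haveI : Algebra.FormallyUnramified E F := Algebra.FormallyUnramified.of_isLocalization M
  haveI : Algebra.FormallyUnramified A F := Algebra.FormallyUnramified.comp A E F
  haveI : Algebra.FormallyUnramified (Localization (nonZeroDivisors A)) F :=
    Algebra.FormallyUnramified.of_restrictScalars A _ _
  exact Module.Finite.of_quasiFinite

open Groth.Agent.Lib.Helper3.TotFrac in
-- an intermediate ring between the total rings of fractions is closed under inverses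
theorem exists_inv_mem (A : Type u) [CommRing A] [IsReduced A]
    (hmin : (minimalPrimes A).Finite) (E : Type u) [CommRing E] [Algebra A E]
    [Algebra.EssFiniteType A E] [Algebra.FormallyUnramified A E]
    (L : Subalgebra A (FractionRing E))
    (hL : ∀ s ∈ nonZeroDivisors A, ∃ y ∈ L, algebraMap A (FractionRing E) s * y = 1)
    (x : FractionRing E) (hx : x ∈ L) (hxu : IsUnit x) : ∃ l ∈ L, x * l = 1 := by
  have hunits : ∀ s : nonZeroDivisors A, IsUnit (algebraMap A (FractionRing E) s) := by
    intro s
    obtain ⟨y, -, hy⟩ := hL s.1 s.2
    exact IsUnit.of_mul_eq_one _ hy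
  letI algKF : Algebra (Localization (nonZeroDivisors A)) (FractionRing E) :=
    (IsLocalization.lift (M := nonZeroDivisors A) (S := Localization (nonZeroDivisors A))
      (g := algebraMap A (FractionRing E)) hunits).toAlgebra
  haveI : IsScalarTower A (Localization (nonZeroDivisors A)) (FractionRing E) :=
    IsScalarTower.of_algebraMap_eq (fun a => (IsLocalization.lift_eq hunits a).symm)
  haveI := finite_of_isLocalization A hmin E (nonZeroDivisors E) (FractionRing E)
  haveI : IsArtinianRing (Localization (nonZeroDivisors A)) :=
    isArtinianRing_of_isLocalization_nonZeroDivisors A hmin _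
  haveI : IsArtinian (Localization (nonZeroDivisors A)) (FractionRing E) := inferInstance
  -- the image of `K_A` lies in `L`
  have hKL : ∀ k : Localization (nonZeroDivisors A),
      algebraMap (Localization (nonZeroDivisors A)) (FractionRing E) k ∈ L := by
    intro k
    obtain ⟨a, s, rfl⟩ := IsLocalization.exists_mk'_eq (nonZeroDivisors A) k
    obtain ⟨y, hyL, hy⟩ := hL s.1 s.2
    have h1 : algebraMap (Localization (nonZeroDivisors A)) (FractionRing E)
        (IsLocalization.mk' _ a s) * algebraMap A (FractionRing E) s =
        algebraMap A (FractionRing E) a := by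
      rw [IsScalarTower.algebraMap_apply A (Localization (nonZeroDivisors A)) (FractionRing E),
        IsScalarTower.algebraMap_apply A (Localization (nonZeroDivisors A)) (FractionRing E) a,
        ← map_mul, IsLocalization.mk'_spec]
    have h2 : algebraMap (Localization (nonZeroDivisors A)) (FractionRing E)
        (IsLocalization.mk' _ a s) = algebraMap A (FractionRing E) a * y := by
      rw [← h1, mul_assoc, hy, mul_one]
    rw [h2]
    exact L.mul_mem (L.algebraMap_mem a) hyL
  let LK : Submodule (Localization (nonZeroDivisors A)) (FractionRing E) :=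
    { carrier := L
      add_mem' := fun ha hb => L.add_mem ha hb
      zero_mem' := L.zero_mem
      smul_mem' := fun k l hl => by
        rw [Algebra.smul_def]
        exact L.mul_mem (hKL k) hl }
  haveI : IsArtinian (Localization (nonZeroDivisors A)) LK := inferInstance
  let μ : LK →ₗ[Localization (nonZeroDivisors A)] LK :=
    { toFun := fun l => ⟨x * l.1, L.mul_mem hx l.2⟩
      map_add' := fun a b => Subtype.ext (mul_add x a.1 b.1)
      map_smul' := fun k a => Subtype.ext (by
        show x * (k • a.1) = k • (x * a.1)
        rw [mul_smul_comm]) }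
  have hμinj : Function.Injective μ := by
    intro a b hab
    have h1 : x * a.1 = x * b.1 := congrArg Subtype.val hab
    exact Subtype.ext (hxu.mul_left_cancel h1)
  have hμsurj := IsArtinian.surjective_of_injective_endomorphism μ hμinj
  obtain ⟨l, hl⟩ := hμsurj ⟨1, L.one_mem⟩
  exact ⟨l.1, l.2, congrArg Subtype.val hl⟩

/-- Let A be a reduced local ring with finitely many minimal prime ideals, E a local ring which is an
essentially etale local A-algebra with local structure map, K_E the total ring of fractions of E,
and L an A-subalgebra of K_E containing an inverse of the image of every non-zero-divisor of A (so L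
is an intermediate ring between the total rings of fractions of A and of E). Then the preimage D of
L in E is (the underlying set of) an A-subalgebra of E which is a local ring with local inclusion
into E — its maximal ideal lies under that of E — and L is the total ring of fractions of D in the
sense that every element of L is the image of an element of D times the inverse of the image of a
non-zero-divisor of A. -/
theorem result
    (A E : Type u) [CommRing A] [IsLocalRing A] [IsReduced A] (hmin : (minimalPrimes A).Finite)
    [CommRing E] [IsLocalRing E] [Algebra A E] [IsLocalHom (algebraMap A E)]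
    (hE : EGA4loc.IsEssentiallyEtale A E) (L : Subalgebra A (FractionRing E))
    (hL : ∀ s ∈ nonZeroDivisors A, ∃ y ∈ L, algebraMap A (FractionRing E) s * y = 1) :
    ∃ D : Subalgebra A E, (D : Set E) = (algebraMap E (FractionRing E)) ⁻¹' (L : Set (FractionRing E)) ∧
      ∃ _ : IsLocalRing D, IsLocalHom (algebraMap D E) ∧
        ∀ l ∈ L, ∃ d ∈ D, ∃ s ∈ nonZeroDivisors A, ∃ y ∈ L,
          algebraMap A (FractionRing E) s * y = 1 ∧ l = algebraMap E (FractionRing E) d * y := by
  classical
  haveI : Module.Flat A E := Groth.Agent.S16448.flat_of_isEssentiallyEtale A E hE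
  haveI : Algebra.EssFiniteType A E :=
    Groth.Agent.Lib.Helper3.EssEt.essFiniteType_of_isEssentiallyEtale A E hE
  haveI : Algebra.FormallyEtale A E :=
    Groth.Agent.Lib.Helper3.EssEt.formallyEtale_of_isEssentiallyEtale A E hE
  let φ : E →ₐ[A] FractionRing E := IsScalarTower.toAlgHom A E (FractionRing E)
  let D : Subalgebra A E := L.comap φ
  -- key: units
  have hkey : ∀ d : E, d ∈ D → IsUnit d → ∃ d' ∈ D, d * d' = 1 := by
    intro d hd hdu
    obtain ⟨l, hl, hxl⟩ := exists_inv_mem A hmin E L hL (algebraMap E _ d) hd (hdu.map _)
    obtain ⟨u, rfl⟩ := hdu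
    refine ⟨↑u⁻¹, ?_, by simp⟩
    have h1 : algebraMap E (FractionRing E) ↑u * algebraMap E (FractionRing E) ↑u⁻¹ = 1 := by
      rw [← map_mul]; simp
    have h2 : algebraMap E (FractionRing E) ↑u⁻¹ = l := by
      calc algebraMap E (FractionRing E) ↑u⁻¹
          = algebraMap E (FractionRing E) ↑u⁻¹ * (algebraMap E (FractionRing E) ↑u * l) := by
            rw [hxl, mul_one]
        _ = (algebraMap E (FractionRing E) ↑u * algebraMap E (FractionRing E) ↑u⁻¹) * l := by ring
        _ = l := by rw [h1, one_mul]
    show algebraMap E (FractionRing E) ↑u⁻¹ ∈ L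
    rw [h2]; exact hl
  have hunit : ∀ d : D, IsUnit (d : E) → IsUnit d := by
    intro d hdu
    obtain ⟨d', hd', h⟩ := hkey d.1 d.2 hdu
    exact IsUnit.of_mul_eq_one ⟨d', hd'⟩ (Subtype.ext h)
  have hloc : IsLocalHom (algebraMap D E) := ⟨fun d hd => hunit d hd⟩
  have hlr : IsLocalRing D := by
    refine IsLocalRing.of_nonunits_add ?_
    intro a b ha hb
    have ha' : (a : E) ∈ nonunits E := fun h => ha (hunit a h)
    have hb' : (b : E) ∈ nonunits E := fun h => hb (hunit b h)
    have hab := IsLocalRing.nonunits_add ha' hb'
    intro h
    exact hab (h.map (algebraMap D E))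
  refine ⟨D, rfl, hlr, hloc, ?_⟩
  intro l hl
  haveI hloc' := (Groth.Agent.S16448.result A E hmin hE).1
  obtain ⟨⟨e', m⟩, hm⟩ := IsLocalization.surj ((nonZeroDivisors A).map (algebraMap A E)) l
  obtain ⟨s, hs, hsm⟩ := m.2
  obtain ⟨y, hy, hsy⟩ := hL s hs
  simp only at hm
  refine ⟨e', ?_, s, hs, y, hy, hsy, ?_⟩
  · show algebraMap E (FractionRing E) e' ∈ L
    rw [← hm]
    refine L.mul_mem hl ?_
    rw [← hsm]
    show algebraMap E (FractionRing E) (algebraMap A E s) ∈ L
    rw [← IsScalarTower.algebraMap_apply]
    exact L.algebraMap_mem s
  · rw [← hm, mul_assoc, ← hsm]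
    show l = l * (algebraMap E (FractionRing E) (algebraMap A E s) * y)
    rw [← IsScalarTower.algebraMap_apply, hsy, mul_one]

end Groth.Agent.S16443
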