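import Groth.Statements.S16447
import Groth.Agent.Lib.Helper3Branch
import Groth.Agent.Lib.Helper4Branches
import Groth.Agent.Lib.Helper3EtRed
import Groth.Agent.Lib.Helper3EssEt
import Groth.Agent.S9237
import Groth.Agent.S0511
import Groth.Agent.S16443
import Groth.Agent.S16448
import Mathlib

set_option autoImplicit false
universe u
open EGA4loc

namespace Groth.Agent.S16447

open Polynomial IsLocalRing Groth.Agent.Lib.Helper3

-- contraction of a maximal ideal along an algebra map, when the residue field is integral over
-- the base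
theorem isMaximal_comap_of_integral_mod {A B C : Type*} [CommRing A] [CommRing B] [CommRing C]
    [Algebra A B] [Algebra A C] (ι : C →ₐ[A] B) (M : Ideal B) [hM : M.IsMaximal]
    (H : ∀ b : B, ∃ p : A[X], p.Monic ∧ aeval b p ∈ M) : (M.comap ι).IsMaximal := by
  letI : Field (B ⧸ M) := Ideal.Quotient.field M
  let f : C →+* B ⧸ M := (Ideal.Quotient.mk M).comp ι.toRingHom
  have hker : RingHom.ker f = M.comap ι := by
    ext c
    rw [RingHom.mem_ker, Ideal.mem_comap]
    change Ideal.Quotient.mk M (ι c) = 0 ↔ _
    rw [Ideal.Quotient.eq_zero_iff_mem]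
  -- the range of f is a field
  have hint : Algebra.IsIntegral f.range (B ⧸ M) := by
    constructor
    intro z
    obtain ⟨b, rfl⟩ := Ideal.Quotient.mk_surjective z
    obtain ⟨p, hp, hpb⟩ := H b
    let g : A →+* f.range := (f.rangeRestrict).comp (algebraMap A C)
    refine ⟨p.map g, hp.map g, ?_⟩
    rw [Polynomial.eval₂_map]
    have h1 : (algebraMap f.range (B ⧸ M)).comp g =
        (Ideal.Quotient.mk M).comp (algebraMap A B) := by
      ext a
      change f (algebraMap A C a) = _
      change Ideal.Quotient.mk M (ι (algebraMap A C a)) = _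
      rw [ι.commutes]
      rfl
    rw [h1, ← Polynomial.hom_eval₂]
    rw [Ideal.Quotient.eq_zero_iff_mem]
    exact hpb
  have hfield : IsField f.range :=
    isField_of_isIntegral_of_isField (R := f.range) (S := B ⧸ M)
      Subtype.val_injective (Field.toIsField _)
  have e : (C ⧸ RingHom.ker f) ≃+* f.range := RingHom.quotientKerEquivRange f
  have hfield' : IsField (C ⧸ RingHom.ker f) := e.toMulEquiv.isField hfield
  rw [← hker]
  exact Ideal.Quotient.maximal_of_isField _ hfield'

-- residue fields of the normalization are integral over `A`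
theorem exists_monic_aeval_mem (A E : Type u) [CommRing A] [IsLocalRing A] [CommRing E]
    [IsLocalRing E] [Algebra A E] [IsLocalHom (algebraMap A E)]
    [Module.Finite (ResidueField A) (ResidueField E)]
    (K : Type u) [CommRing K] [Algebra E K] [Algebra A K] [IsScalarTower A E K]
    (S : Subalgebra A K) (hSE : ∀ e, algebraMap E K e ∈ S) (hSint : ∀ b : S, IsIntegral E (b : K))
    (M : Ideal S) [M.IsMaximal] (x : S) :
    ∃ p : A[X], p.Monic ∧ aeval x p ∈ M := by
  letI : Field (S ⧸ M) := Ideal.Quotient.field M
  let κ : E →+* S := RingHom.codRestrict (algebraMap E K) S hSE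
  have hκval : ∀ e, ((κ e : S) : K) = algebraMap E K e := fun e => rfl
  have hκA : ∀ a : A, κ (algebraMap A E a) = algebraMap A S a := by
    intro a
    apply Subtype.ext
    rw [hκval]
    exact (IsScalarTower.algebraMap_apply A E K a).symm
  have hκint : κ.IsIntegral := by
    intro b
    obtain ⟨p, hp, hpb⟩ : IsIntegral E (b : K) := hSint b
    refine ⟨p, hp, ?_⟩
    apply Subtype.ext
    have := Polynomial.hom_eval₂ p κ S.val.toRingHom b
    change S.val (eval₂ κ b p) = 0
    rw [show S.val (eval₂ κ b p) = S.val.toRingHom (eval₂ κ b p) from rfl, this]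
    exact hpb
  have hcomap : M.comap κ = maximalIdeal E := by
    haveI : (M.comap κ).IsMaximal := Ideal.isMaximal_comap_of_isIntegral_of_isMaximal' κ hκint M
    exact IsLocalRing.eq_maximalIdeal inferInstance
  let φ : E →+* S ⧸ M := (Ideal.Quotient.mk M).comp κ
  have hφm : ∀ e ∈ maximalIdeal E, φ e = 0 := by
    intro e he
    rw [← hcomap, Ideal.mem_comap] at he
    exact Ideal.Quotient.eq_zero_iff_mem.mpr he
  let f3 : ResidueField E →+* S ⧸ M := Ideal.Quotient.lift (maximalIdeal E) φ hφm
  have hf3 : ∀ e, f3 (residue E e) = φ e := fun e => Ideal.Quotient.lift_mk _ _ _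
  let g1 : A →+* ResidueField E := (algebraMap (ResidueField A) (ResidueField E)).comp (residue A)
  have hg1 : g1.IsIntegral := by
    refine RingHom.IsIntegral.trans _ _
      (RingHom.isIntegral_of_surjective _ residue_surjective) ?_
    exact algebraMap_isIntegral_iff.mpr (Algebra.IsIntegral.of_finite _ _)
  have hcomp : f3.comp g1 = algebraMap A (S ⧸ M) := by
    ext a
    change f3 (algebraMap (ResidueField A) (ResidueField E) (residue A a)) = _
    rw [show algebraMap (ResidueField A) (ResidueField E) (residue A a) =
      residue E (algebraMap A E a) from rfl, hf3]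
    change Ideal.Quotient.mk M (κ (algebraMap A E a)) = _
    rw [hκA]
    rfl
  have hφint : ∀ e : E, IsIntegral A (φ e) := by
    intro e
    obtain ⟨p, hp, hpe⟩ := hg1 (residue E e)
    refine ⟨p, hp, ?_⟩
    rw [← hcomp, ← hf3, ← Polynomial.hom_eval₂, hpe, map_zero]
  -- intermediate ring
  letI algAS : Algebra A φ.range := (φ.rangeRestrict.comp (algebraMap A E)).toAlgebra
  haveI : IsScalarTower A φ.range (S ⧸ M) := IsScalarTower.of_algebraMap_eq (fun a => by
    change algebraMap A (S ⧸ M) a = φ (algebraMap A E a)
    change _ = Ideal.Quotient.mk M (κ (algebraMap A E a))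
    rw [hκA]
    rfl)
  haveI : Algebra.IsIntegral A φ.range := by
    constructor
    rintro ⟨_, e, rfl⟩
    rw [← isIntegral_algebraMap_iff (B := S ⧸ M) Subtype.val_injective]
    exact hφint e
  have hx : IsIntegral φ.range (Ideal.Quotient.mk M x) := by
    obtain ⟨p, hp, hpx⟩ := hκint x
    refine ⟨p.map φ.rangeRestrict, hp.map _, ?_⟩
    rw [Polynomial.eval₂_map]
    have h1 : (algebraMap φ.range (S ⧸ M)).comp φ.rangeRestrict = φ := by
      ext e
      rfl
    rw [h1]
    change eval₂ ((Ideal.Quotient.mk M).comp κ) (Ideal.Quotient.mk M x) p = 0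
    rw [← Polynomial.hom_eval₂, hpx, map_zero]
  obtain ⟨p, hp, hpx⟩ := isIntegral_trans (R := A) (A := φ.range) _ hx
  refine ⟨p, hp, ?_⟩
  rw [← Ideal.Quotient.eq_zero_iff_mem, Polynomial.aeval_def, Polynomial.hom_eval₂]
  exact hpx

-- the normalization of a Noetherian reduced local ring is semilocal
theorem finite_maximal_integralClosure (A E : Type u) [CommRing A] [CommRing E] [Algebra A E]
    [IsLocalRing E] [IsReduced E] [IsNoetherianRing E] :
    {M : Ideal ((integralClosure E (FractionRing E)).restrictScalars A) | M.IsMaximal}.Finite := by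
  classical
  have hminE : (minimalPrimes E).Finite := minimalPrimes.finite_of_isNoetherianRing E
  haveI hN : IsNoetherianRing (Hz.Rh E) := (Groth.Agent.S0511.result E (Hz.Rh E)).mp inferInstance
  have h1 : ENat.card (minimalPrimes (Hz.Rh E)) = Brnch.numBranches E :=
    Groth.Agent.S9237.result E (Hz.Rh E)
  have h2 : Brnch.numBranches E = ENat.card (MaximalSpectrum (CAlg2.normRed E)) := by
    unfold Brnch.numBranches
    rw [if_pos hminE]
  have hfin : (minimalPrimes (Hz.Rh E)).Finite := minimalPrimes.finite_of_isNoetherianRing _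
  haveI : Finite (minimalPrimes (Hz.Rh E)) := hfin.to_subtype
  have h3 : ENat.card (MaximalSpectrum (CAlg2.normRed E)) < ⊤ := by
    rw [← h2, ← h1]
    exact ENat.card_lt_top_of_finite
  haveI : Finite (MaximalSpectrum (CAlg2.normRed E)) := ENat.card_lt_top.mp h3
  let ρ : E ≃+* CAlg2.red E :=
    (RingEquiv.quotientBot E).symm.trans (Ideal.quotEquivOfEq (nilradical_eq_zero E).symm)
  let Ψ : integralClosure E (FractionRing E) ≃+* CAlg2.normRed E :=
    Groth.Agent.Lib.Helper4.Branches.normalizationEquiv ρ
  let θ : ((integralClosure E (FractionRing E)).restrictScalars A) ≃+*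
      integralClosure E (FractionRing E) :=
    { toFun := fun x => ⟨x.1, x.2⟩
      invFun := fun x => ⟨x.1, x.2⟩
      left_inv := fun _ => rfl
      right_inv := fun _ => rfl
      map_mul' := fun _ _ => rfl
      map_add' := fun _ _ => rfl }
  let Ψ' := θ.trans Ψ
  let F : {M : Ideal ((integralClosure E (FractionRing E)).restrictScalars A) | M.IsMaximal} →
      MaximalSpectrum (CAlg2.normRed E) := fun M =>
    ⟨M.1.comap (Ψ'.symm : CAlg2.normRed E →+* _),
      Ideal.comap_isMaximal_of_surjective _ Ψ'.symm.surjective (K := M.1) (H := M.2)⟩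
  have hF : Function.Injective F := by
    intro M M' h
    apply Subtype.ext
    have := congrArg MaximalSpectrum.asIdeal h
    exact Ideal.comap_injective_of_surjective _ Ψ'.symm.surjective this
  exact Set.finite_coe_iff.mp (Finite.of_injective F hF)

theorem isReduced_of_isEssentiallyEtale (A E : Type u) [CommRing A] [IsLocalRing A] [IsReduced A]
    [CommRing E] [Algebra A E] (hE : EGA4loc.IsEssentiallyEtale A E) : IsReduced E := by
  obtain ⟨C, _, _, q, _, hCet, -, ⟨e⟩⟩ := hE
  haveI : IsReduced C := EtRed.isReduced_of_etale A C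
  haveI : IsReduced (Localization.AtPrime q) := inferInstance
  exact isReduced_of_injective e.toRingHom e.injective

/-- Let A be a Noetherian reduced local ring, E a local ring which is an essentially etale local
A-algebra with local structure map, K_E the total ring of fractions of E, E' the integral closure of
E in K_E (viewed as an A-subalgebra of K_E), and L an A-subalgebra of K_E containing an inverse of
the image of every non-zero-divisor of A. Let C be the A-subalgebra L ⊓ E' of K_E. Then C is
integrally closed in L, C has only finitely many maximal ideals, the maximal ideals of C are exactly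
the contractions of the maximal ideals of E', and every element of L is an element of C times the
inverse of the image of a non-zero-divisor of A. (The published statement assumes only that A is
reduced; its proof uses that the integral closure of E in K_E has finitely many maximal ideals,
which holds when A is Noetherian and can fail otherwise, so A is taken Noetherian here.) -/
theorem result
    (A E : Type u) [CommRing A] [IsLocalRing A] [IsReduced A] [IsNoetherianRing A]
    [CommRing E] [IsLocalRing E] [Algebra A E] [IsLocalHom (algebraMap A E)]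
    (hE : EGA4loc.IsEssentiallyEtale A E) (L : Subalgebra A (FractionRing E))
    (hL : ∀ s ∈ nonZeroDivisors A, ∃ y ∈ L, algebraMap A (FractionRing E) s * y = 1)
    (C : Subalgebra A (FractionRing E))
    (hC : C = L ⊓ (integralClosure E (FractionRing E)).restrictScalars A) :
    (∀ x ∈ L, IsIntegral C x → x ∈ C) ∧
      {N : Ideal C | N.IsMaximal}.Finite ∧
      (∀ N : Ideal C, N.IsMaximal ↔ ∃ M : Ideal ((integralClosure E (FractionRing E)).restrictScalars A),
          M.IsMaximal ∧ N = M.comap (Subalgebra.inclusion (hC.trans_le inf_le_right))) ∧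
      ∀ l ∈ L, ∃ c ∈ C, ∃ s ∈ nonZeroDivisors A, ∃ y ∈ L,
        algebraMap A (FractionRing E) s * y = 1 ∧ l = c * y := by
  classical
  have hmin : (minimalPrimes A).Finite := minimalPrimes.finite_of_isNoetherianRing A
  haveI : Module.Flat A E := Groth.Agent.S16448.flat_of_isEssentiallyEtale A E hE
  haveI : Algebra.EssFiniteType A E := EssEt.essFiniteType_of_isEssentiallyEtale A E hE
  haveI : Algebra.FormallyEtale A E := EssEt.formallyEtale_of_isEssentiallyEtale A E hE
  haveI : IsNoetherianRing E := Algebra.EssFiniteType.isNoetherianRing A E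
  haveI : IsReduced E := isReduced_of_isEssentiallyEtale A E hE
  haveI : Module.Finite (ResidueField A) (ResidueField E) := inferInstance
  have hC_le_S : C ≤ (integralClosure E (FractionRing E)).restrictScalars A :=
    hC.trans_le inf_le_right
  have hC_le_L : C ≤ L := hC.trans_le inf_le_left
  have hmemC : ∀ x, x ∈ C ↔ x ∈ L ∧ IsIntegral E x := by
    intro x
    rw [hC]
    exact Iff.rfl
  have hfinS := finite_maximal_integralClosure A E
  -- units of C
  have hunit : ∀ c : C, IsUnit (Subalgebra.inclusion hC_le_S c) → IsUnit c := by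
    intro c hu
    obtain ⟨d, hd⟩ := hu.exists_right_inv
    have h1 : (c : FractionRing E) * (d : FractionRing E) = 1 := congrArg Subtype.val hd
    obtain ⟨l, hl, hcl⟩ := Groth.Agent.S16443.exists_inv_mem A hmin E L hL c.1 (hC_le_L c.2)
      (IsUnit.of_mul_eq_one _ h1)
    have h2 : (d : FractionRing E) = l := by
      calc (d : FractionRing E) = (d : FractionRing E) * ((c : FractionRing E) * l) := by
            rw [hcl, mul_one]
        _ = ((c : FractionRing E) * (d : FractionRing E)) * l := by ring
        _ = l := by rw [h1, one_mul]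
    have hdC : (d : FractionRing E) ∈ C := (hmemC _).mpr ⟨h2 ▸ hl, d.2⟩
    exact IsUnit.of_mul_eq_one ⟨d.1, hdC⟩ (Subtype.ext h1)
  -- contractions of maximal ideals are maximal
  have hW : ∀ M : Ideal ((integralClosure E (FractionRing E)).restrictScalars A), M.IsMaximal →
      (M.comap (Subalgebra.inclusion hC_le_S)).IsMaximal := by
    intro M hM
    haveI := hM
    refine isMaximal_comap_of_integral_mod (Subalgebra.inclusion hC_le_S) M (fun b => ?_)
    exact exists_monic_aeval_mem A E (FractionRing E) _ (fun e => isIntegral_algebraMap)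
      (fun b => b.2) M b
  -- every maximal ideal of C is such a contraction
  have hV : ∀ N : Ideal C, N.IsMaximal →
      ∃ M : Ideal ((integralClosure E (FractionRing E)).restrictScalars A),
        M.IsMaximal ∧ N = M.comap (Subalgebra.inclusion hC_le_S) := by
    intro N hN
    have hsub : (N : Set C) ⊆ ⋃ M ∈ ((hfinS.toFinset : Finset (Ideal
        ((integralClosure E (FractionRing E)).restrictScalars A))) : Set (Ideal
        ((integralClosure E (FractionRing E)).restrictScalars A))),
        ((Ideal.comap (Subalgebra.inclusion hC_le_S) M : Ideal C) : Set C) := by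
      intro c hc
      have hcu : ¬ IsUnit c := fun h => hN.ne_top (Ideal.eq_top_of_isUnit_mem _ hc h)
      have hcu' : ¬ IsUnit (Subalgebra.inclusion hC_le_S c) := fun h => hcu (hunit c h)
      obtain ⟨M, hM, hcM⟩ := exists_max_ideal_of_mem_nonunits hcu'
      refine Set.mem_iUnion₂.mpr ⟨M, ?_, hcM⟩
      exact Finset.mem_coe.mpr (hfinS.mem_toFinset.mpr hM)
    rw [Ideal.subset_union_prime ⊤ ⊤] at hsub
    · obtain ⟨M, hM, hNM⟩ := hsub
      have hM' : M.IsMaximal := hfinS.mem_toFinset.mp hM
      refine ⟨M, hM', ?_⟩
      exact hN.eq_of_le (hW M hM').ne_top hNM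
    · intro M hM _ _
      have hM' : M.IsMaximal := hfinS.mem_toFinset.mp hM
      exact (hW M hM').isPrime
  refine ⟨?_, ?_, ?_, ?_⟩
  · intro x hxL hx
    rw [hmemC]
    refine ⟨hxL, ?_⟩
    have h1 : IsIntegral (integralClosure E (FractionRing E)) x := by
      obtain ⟨p, hp, hpx⟩ := hx
      let j : C →+* integralClosure E (FractionRing E) :=
        RingHom.codRestrict C.val.toRingHom (integralClosure E (FractionRing E))
          (fun c => hC_le_S c.2)
      refine ⟨p.map j, hp.map j, ?_⟩
      rw [Polynomial.eval₂_map]
      exact hpx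
    exact isIntegral_trans (R := E) (A := integralClosure E (FractionRing E)) x h1
  · refine (hfinS.image (fun M => M.comap (Subalgebra.inclusion hC_le_S))).subset ?_
    intro N hN
    obtain ⟨M, hM, rfl⟩ := hV N hN
    exact ⟨M, hM, rfl⟩
  · intro N
    constructor
    · intro hN
      exact hV N hN
    · rintro ⟨M, hM, rfl⟩
      exact hW M hM
  · obtain ⟨D, hD, _, _, h4⟩ := Groth.Agent.S16443.result A E hmin hE L hL
    intro l hl
    obtain ⟨d, hd, s, hs, y, hy, hsy, hl'⟩ := h4 l hl
    refine ⟨algebraMap E (FractionRing E) d, ?_, s, hs, y, hy, hsy, hl'⟩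
    rw [hmemC]
    refine ⟨?_, isIntegral_algebraMap⟩
    have : d ∈ (D : Set E) := hd
    rw [hD] at this
    exact this

end Groth.Agent.S16447
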