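import Groth.Statements.S16453
import Mathlib
import Groth.Agent.Lib.Helper24AssocGr

set_option autoImplicit false
universe u
open AdicGr

namespace Groth.Agent.S16453

/-- Let A be a commutative ring, I an ideal and Â the I-adic completion, filtered by the kernels Âₙ of
the projections Â → A/Iⁿ. Then the homomorphism of associated graded rings ⊕ₙ Iⁿ/Iⁿ⁺¹ → ⊕ₙ Âₙ/Âₙ₊₁
induced by the canonical map A → Â is bijective. No hypothesis on A or I is needed. (The published
statement is for an arbitrary filtered ring and also asserts the analogous isomorphism for a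
compatibly filtered module; this row is the ring assertion for the filtration by the powers of one
ideal.) -/
theorem result (A : Type u) [CommRing A] (I : Ideal A) :
    Function.Bijective (AssocGr.map (AssocGr.isFiltHom_kerFilt I)) := by
  have hval : ∀ (n : ℕ) (a : A), (algebraMap A (AdicCompletion I A) a).val n =
      Submodule.Quotient.mk (p := (I ^ n • ⊤ : Submodule A A)) a := by
    intro n a
    rw [AdicCompletion.algebraMap_apply, Algebra.algebraMap_self, RingHom.id_apply,
      AdicCompletion.of_apply, Submodule.mkQ_apply]
  constructor
  · apply Groth.Agent.Lib.Helper24AssocGr.map_injective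
    intro n a _ hφa
    rw [AssocGr.mem_kerFilt_iff_val, hval, Submodule.Quotient.mk_eq_zero] at hφa
    have : a ∈ (I ^ (n + 1) • ⊤ : Ideal A) := hφa
    rw [AssocGr.pow_smul_top] at this
    exact this
  · apply Groth.Agent.Lib.Helper24AssocGr.map_surjective
    intro n b hb
    rw [AssocGr.mem_kerFilt_iff_val] at hb
    obtain ⟨a, ha⟩ := Submodule.Quotient.mk_surjective _ (b.val (n + 1))
    refine ⟨a, ?_, ?_⟩
    · have h1 := AdicCompletion.transitionMap_comp_eval_apply I A (Nat.le_succ n) b
      rw [hb] at h1
      change (AdicCompletion.transitionMap I A (Nat.le_succ n)) (b.val (n + 1)) = 0 at h1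
      rw [← ha] at h1
      have h2 : Submodule.Quotient.mk (p := (I ^ n • ⊤ : Submodule A A)) a = 0 := h1
      rw [Submodule.Quotient.mk_eq_zero] at h2
      have : a ∈ (I ^ n • ⊤ : Ideal A) := h2
      rw [AssocGr.pow_smul_top] at this
      exact this
    · rw [AssocGr.mem_kerFilt_iff_val, AdicCompletion.val_sub_apply, hval, ha, sub_self]

end Groth.Agent.S16453
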