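import Groth.Statements.S16454
import Mathlib
import Groth.Agent.Lib.Helper22GrFlat

set_option autoImplicit false
universe u
open TensorProduct
open EGA43

namespace Groth.Agent.S16454

/-- Let A be a commutative ring, I a nilpotent ideal of A and M an A-module, and form the associated
graded ring G = ⊕ₙ Iⁿ/Iⁿ⁺¹ and the associated graded G-module gr_I(M) = ⊕ₙ IⁿM/Iⁿ⁺¹M. Assume that
M/IM is flat over A/I and that the canonical homomorphism (M/IM) ⊗ G → gr_I(M), [x] ⊗ [a] ↦ [a·x],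
is injective: degree by degree, whenever elements a_i ∈ Iⁿ and x_i ∈ M satisfy Σ_i [a_i]·[x_i] = 0
in gr_I(M) (that is Σ a_i x_i ∈ Iⁿ⁺¹M), the element Σ_i [a_i] ⊗ [x_i] of (Iⁿ/Iⁿ⁺¹) ⊗ (M/IM) is zero.
Then M is a flat A-module. (The published lemma is stated for any finite decreasing multiplicative
filtration A = J₀ ⊇ J₁ ⊇ … ⊇ J_N₊₁ = 0 of A with M filtered by the submodules JₙM; this row is its
case Jₙ = Iⁿ.) -/
theorem result (A : Type u) [CommRing A] (I : Ideal A)
    (hI : IsNilpotent I) (M : Type u) [AddCommGroup M] [Module A M]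
    (hflat : Module.Flat (A ⧸ I) (M ⧸ (I • (⊤ : Submodule A M))))
    (hinj : ∀ (n k : ℕ) (a : Fin k → ↥((FiltBl.IdealFiltration.adic I).F n))
      (x : Fin k → ↥((Rees.powFilt I M).N 0)),
      (∑ i, (AssocGr.inDeg (FiltBl.IdealFiltration.adic I) n (a i) :
          AssocGr.GrRing (FiltBl.IdealFiltration.adic I)) •
        (AssocGr.inDegM (Rees.powFilt I M) 0 (x i) : AssocGr.GrMod (Rees.powFilt I M))) = 0 →
      (∑ i, (AssocGr.inDeg (FiltBl.IdealFiltration.adic I) n (a i)) ⊗ₜ[A]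
          (Submodule.Quotient.mk (x i : M)) :
        ↥(AssocGr.gr (FiltBl.IdealFiltration.adic I) n) ⊗[A] (M ⧸ (I • (⊤ : Submodule A M)))) = 0) :
    Module.Flat A M := by
  classical
  have hN0 : ∀ m : M, m ∈ (Rees.powFilt I M).N 0 := by
    intro m
    change m ∈ I ^ 0 • (⊤ : Submodule A M)
    rw [pow_zero, Ideal.one_eq_top, Submodule.top_smul]
    trivial
  refine Groth.Agent.Lib.Helper22.GrFlat.flat_of_gr_injective I M
    (G := fun n => ↥(AssocGr.gr (FiltBl.IdealFiltration.adic I) n))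
    (fun n => AssocGr.inDeg (FiltBl.IdealFiltration.adic I) n)
    (fun n => AssocGr.inDeg_surjective (FiltBl.IdealFiltration.adic I) n)
    (fun n a ha => (AssocGr.inDeg_eq_zero_iff (FiltBl.IdealFiltration.adic I) n a).mp ha) ?_ hI hflat
  intro n k a x h0
  refine hinj n k a (fun i => ⟨x i, hN0 (x i)⟩) ?_
  have hterm : ∀ i, (AssocGr.inDeg (FiltBl.IdealFiltration.adic I) n (a i) :
        AssocGr.GrRing (FiltBl.IdealFiltration.adic I)) •
      (AssocGr.inDegM (Rees.powFilt I M) 0 ⟨x i, hN0 (x i)⟩ : AssocGr.GrMod (Rees.powFilt I M)) =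
      (AssocGr.inDegM (Rees.powFilt I M) (n + 0) ⟨((a i : ↥((FiltBl.IdealFiltration.adic I).F n)) : A) • x i,
        (Rees.powFilt I M).pow_smul_le n 0 (Submodule.smul_mem_smul (show ((a i : ↥((FiltBl.IdealFiltration.adic I).F n)) : A) ∈ I ^ n from (a i).2) (hN0 (x i)))⟩ :
        AssocGr.GrMod (Rees.powFilt I M)) := fun i =>
    AssocGr.inDeg_smul_inDegM (Rees.powFilt I M) n 0 (a i) ⟨x i, hN0 (x i)⟩
  rw [Finset.sum_congr rfl (fun i _ => hterm i), ← AddSubmonoidClass.coe_finsetSum, ← map_sum]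
  have hz : (∑ i, (⟨((a i : ↥((FiltBl.IdealFiltration.adic I).F n)) : A) • x i,
        (Rees.powFilt I M).pow_smul_le n 0 (Submodule.smul_mem_smul (show ((a i : ↥((FiltBl.IdealFiltration.adic I).F n)) : A) ∈ I ^ n from (a i).2) (hN0 (x i)))⟩ :
        ↥((Rees.powFilt I M).N (n + 0)))) = 0 := by
    apply Subtype.ext
    rw [Submodule.coe_sum]
    exact h0
  rw [hz, map_zero]
  rfl

end Groth.Agent.S16454
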