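import Groth.Statements.S16456
import Mathlib
import Groth.Agent.Lib.Helper24AssocGr

set_option autoImplicit false
universe u
open AdicGr

namespace Groth.Agent.S16456

/-- Let φ : A → B be a ring homomorphism, I ⊆ A and J ⊆ B ideals with φ(I)B ⊆ J, so that φ is a
homomorphism of filtered rings for the I-adic and J-adic filtrations. Assume that A is I-adically
complete in the sense that every I-adically Cauchy sequence has a limit, that B is J-adically
separated, and that the induced homomorphism of associated graded rings ⊕ₙ Iⁿ/Iⁿ⁺¹ → ⊕ₙ Jⁿ/Jⁿ⁺¹ is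
surjective. Then φ is surjective, φ is strict (Jⁿ = φ(Iⁿ)B for all n, that is J = φ(I)B), and B is
J-adically separated and complete. (The published statement is for a homomorphism of filtered
modules over a filtered ring, with arbitrary compatible filtrations; this row is its case of a ring
homomorphism with adic filtrations.) -/
theorem result (A : Type u) [CommRing A] (B : Type u)
    [CommRing B] (φ : A →+* B) (I : Ideal A) (J : Ideal B) (hIJ : I.map φ ≤ J)
    [IsPrecomplete I A] [IsHausdorff J B]
    (h : Function.Surjective (AssocGr.map (AssocGr.IsFiltHom.adic hIJ))) :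
    Function.Surjective φ ∧ I.map φ = J ∧ IsAdicComplete J B := by
  classical
  have hpiece := Groth.Agent.Lib.Helper24AssocGr.piece_surjective_of_map_surjective
    (AssocGr.IsFiltHom.adic hIJ) h
  have hpiece' : ∀ n, ∀ b ∈ J ^ n, ∃ a ∈ I ^ n, b - φ a ∈ J ^ (n + 1) := hpiece
  choose! α hα hαb using hpiece'
  have hφI : ∀ n a, a ∈ I ^ n → φ a ∈ J ^ n := by
    intro n a ha
    have : (I ^ n).map φ ≤ J ^ n := by
      rw [Ideal.map_pow]; exact Ideal.pow_right_mono hIJ n
    exact this (Ideal.mem_map_of_mem φ ha)
  -- core lemma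
  have core : ∀ k, ∀ b ∈ J ^ k, ∃ s ∈ I ^ k, φ s = b := by
    intro k b hb
    let r : ℕ → B := fun n => Nat.rec b (fun n rn => rn - φ (α (k + n) rn)) n
    have hr0 : r 0 = b := rfl
    have hrs : ∀ n, r (n + 1) = r n - φ (α (k + n) (r n)) := fun n => rfl
    have hrmem : ∀ n, r n ∈ J ^ (k + n) := by
      intro n
      induction n with
      | zero => rw [hr0]; exact hb
      | succ n ih => rw [hrs]; exact hαb (k + n) (r n) ih
    let a : ℕ → A := fun n => α (k + n) (r n)
    have hamem : ∀ n, a n ∈ I ^ (k + n) := fun n => hα (k + n) (r n) (hrmem n)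
    let S : ℕ → A := fun n => ∑ i ∈ Finset.range n, a i
    have hS : ∀ n, b - φ (S n) = r n := by
      intro n
      induction n with
      | zero => simp [S, hr0]
      | succ n ih =>
        have : S (n + 1) = S n + a n := Finset.sum_range_succ _ _
        rw [this, map_add, hrs]
        show b - (φ (S n) + φ (a n)) = r n - φ (a n)
        rw [← ih]; ring
    have hSdiff : ∀ m n, m ≤ n → S n - S m ∈ I ^ (k + m) := by
      intro m n hmn
      have : S n - S m = ∑ i ∈ Finset.Ico m n, a i := (Finset.sum_Ico_eq_sub _ hmn).symm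
      rw [this]
      refine Ideal.sum_mem _ (fun i hi => ?_)
      have hi' := (Finset.mem_Ico.mp hi).1
      exact Ideal.pow_le_pow_right (by omega) (hamem i)
    have hcau : ∀ {m n}, m ≤ n → S m ≡ S n [SMOD (I ^ m • ⊤ : Submodule A A)] := by
      intro m n hmn
      rw [SModEq.comm, SModEq.sub_mem, smul_eq_mul, Ideal.mul_top]
      exact Ideal.pow_le_pow_right (by omega) (hSdiff m n hmn)
    obtain ⟨L, hL⟩ := IsPrecomplete.prec' (I := I) S hcau
    have hL' : ∀ n, S n - L ∈ I ^ n := by
      intro n
      have := hL n
      rw [SModEq.sub_mem, smul_eq_mul, Ideal.mul_top] at this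
      exact this
    have hSk : ∀ n, S n ∈ I ^ k := by
      intro n
      refine Ideal.sum_mem _ (fun i _ => ?_)
      exact Ideal.pow_le_pow_right (by omega) (hamem i)
    refine ⟨L, ?_, ?_⟩
    · have h1 : L = S k - (S k - L) := by ring
      rw [h1]
      exact Ideal.sub_mem _ (hSk k) (hL' k)
    · have hzero : b - φ L = 0 := by
        apply IsHausdorff.haus' (I := J) (b - φ L)
        intro n
        rw [SModEq.zero, smul_eq_mul, Ideal.mul_top]
        have h1 : b - φ L = r n + φ (S n - L) := by
          rw [← hS n, map_sub]; ring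
        rw [h1]
        refine Ideal.add_mem _ ?_ (hφI n _ (hL' n))
        exact Ideal.pow_le_pow_right (by omega) (hrmem n)
      exact (sub_eq_zero.mp hzero).symm
  have hsurj : Function.Surjective φ := by
    intro b
    obtain ⟨s, -, hs⟩ := core 0 b (by simp)
    exact ⟨s, hs⟩
  refine ⟨hsurj, le_antisymm hIJ ?_, ?_⟩
  · intro b hb
    obtain ⟨s, hs, rfl⟩ := core 1 b (by simpa using hb)
    exact Ideal.mem_map_of_mem φ (by simpa using hs)
  · have : IsPrecomplete J B := by
      refine ⟨fun f hf => ?_⟩
      have hfd : ∀ n, f (n + 1) - f n ∈ J ^ n := by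
        intro n
        have := hf (Nat.le_succ n)
        rw [SModEq.comm, SModEq.sub_mem, smul_eq_mul, Ideal.mul_top] at this
        exact this
      have hex : ∀ n, ∃ s ∈ I ^ n, φ s = f (n + 1) - f n := fun n => core n _ (hfd n)
      choose d hd hφd using hex
      obtain ⟨a0, ha0⟩ := hsurj (f 0)
      let g : ℕ → A := fun n => a0 + ∑ i ∈ Finset.range n, d i
      have hφg : ∀ n, φ (g n) = f n := by
        intro n
        simp only [g, map_add, map_sum, hφd, ha0]
        rw [Finset.sum_range_sub]
        ring
      have hgc : ∀ {m n}, m ≤ n → g m ≡ g n [SMOD (I ^ m • ⊤ : Submodule A A)] := by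
        intro m n hmn
        rw [SModEq.comm, SModEq.sub_mem, smul_eq_mul, Ideal.mul_top]
        have : g n - g m = ∑ i ∈ Finset.Ico m n, d i := by
          simp only [g]
          rw [Finset.sum_Ico_eq_sub _ hmn]; ring
        rw [this]
        refine Ideal.sum_mem _ (fun i hi => ?_)
        have hi' := (Finset.mem_Ico.mp hi).1
        exact Ideal.pow_le_pow_right hi' (hd i)
      obtain ⟨L, hL⟩ := IsPrecomplete.prec' (I := I) g hgc
      refine ⟨φ L, fun n => ?_⟩
      rw [SModEq.sub_mem, smul_eq_mul, Ideal.mul_top, ← hφg n, ← map_sub]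
      apply hφI
      have := hL n
      rw [SModEq.sub_mem, smul_eq_mul, Ideal.mul_top] at this
      exact this
    exact { }

end Groth.Agent.S16456
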