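import Groth.Statements.S16458
import Mathlib
import Groth.Agent.Lib.Helper15AdicGr

set_option autoImplicit false
universe u
open AdicGr

namespace Groth.Agent.S16458

/-- Let A be a commutative ring and I an ideal such that every I-adically Cauchy sequence in A has a
limit, and let M be an A-module with an I-filtration M = N₀ ⊇ N₁ ⊇ … (I·Nₙ ⊆ Nₙ₊₁) which is
separated, ⋂ₙ Nₙ = 0. If the associated graded module gr(M) = ⊕ₙ Nₙ/Nₙ₊₁ is finitely generated as a
module over the associated graded ring ⊕ₙ Iⁿ/Iⁿ⁺¹, then M is a finitely generated A-module. (The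
published statement allows any complete filtered ring and also concludes that M is complete for its
filtration; this row takes the I-adic filtration on A and states the finiteness.) -/
theorem result (A : Type u) [CommRing A] (I : Ideal A)
    [IsPrecomplete I A] (M : Type u) [AddCommGroup M] [Module A M] (F : I.Filtration M)
    (h0 : F.N 0 = ⊤) (hsep : ⨅ n, F.N n = ⊥)
    [Module.Finite (AssocGr.GrRing (FiltBl.IdealFiltration.adic I)) (AssocGr.GrMod F)] :
    Module.Finite A M := by
  classical
  obtain ⟨n, s, hs⟩ := Module.Finite.exists_fin (R := AssocGr.GrRing (FiltBl.IdealFiltration.adic I))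
    (M := AssocGr.GrMod F)
  choose y hy using fun j => AssocGr.mkGM_surjective F (s j)
  let supp : Fin n → Finset ℕ := fun j =>
    ((AssocGr.toReesM F).symm (y j) : PolynomialModule A M).coeff.support
  let d : (Σ j : Fin n, ↥(supp j)) → ℕ := fun p => (p.2 : ℕ)
  let x : (p : Σ j : Fin n, ↥(supp j)) → ↥(F.N (d p)) := fun p =>
    ⟨AssocGr.ReesM.coeff F (y p.1) (p.2 : ℕ), AssocGr.ReesM.coeff_mem F (y p.1) (p.2 : ℕ)⟩
  have hξ : ∀ p : (Σ j : Fin n, ↥(supp j)),
      (AssocGr.inDegM F (d p) (x p) : AssocGr.GrMod F) =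
        AssocGr.mkGM F (AssocGr.termM F (y p.1) (p.2 : ℕ)) := fun p => rfl
  have hgen : Submodule.span (AssocGr.GrRing (FiltBl.IdealFiltration.adic I))
      (Set.range fun p => (AssocGr.inDegM F (d p) (x p) : AssocGr.GrMod F)) = ⊤ := by
    rw [eq_top_iff, ← hs, Submodule.span_le]
    rintro _ ⟨j, rfl⟩
    rw [← hy j, ← AssocGr.sum_termM F (y j), map_sum]
    refine Submodule.sum_mem _ fun t ht => ?_
    exact Submodule.subset_span ⟨⟨j, ⟨t, ht⟩⟩, hξ ⟨j, ⟨t, ht⟩⟩⟩
  have hspan := eq_top_iff.mpr (Groth.Agent.Lib.Helper15AdicGr.core F hsep ⊤ d x (fun _ => trivial)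
    (fun n y hy _ => by rw [hgen]; trivial) h0)
  rw [Module.finite_def, ← hspan]
  exact Submodule.fg_span (Set.finite_range _)

end Groth.Agent.S16458
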