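import Groth.Statements.S16459
import Mathlib
import Groth.Agent.Lib.Helper15AdicGr

set_option autoImplicit false
universe u
open AdicGr

namespace Groth.Agent.S16459.Aux

open AssocGr

theorem key (A : Type u) [CommRing A]
    (I : Ideal A) [IsPrecomplete I A] (M : Type u) [AddCommGroup M] [Module A M] (F : I.Filtration M)
    (h0 : F.N 0 = ⊤) (hsep : ⨅ n, F.N n = ⊥)
    [IsNoetherian (AssocGr.GrRing (FiltBl.IdealFiltration.adic I)) (AssocGr.GrMod F)]
    (M' : Submodule A M) :
    ∃ (ι : Type u) (_ : Fintype ι) (d : ι → ℕ) (x : (i : ι) → ↥(F.N (d i))),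
      (∀ i, (x i : M) ∈ M') ∧
      (⨅ n, M' ⊔ F.N n) ≤ Submodule.span A (Set.range fun i => ((x i : ↥(F.N (d i))) : M)) := by
  classical
  let S : Set (GrMod F) := {ξ | ∃ (n : ℕ) (y : M) (hy : y ∈ F.N n), y ∈ M' ∧
    ξ = (inDegM F n ⟨y, hy⟩ : GrMod F)}
  have hfg : (Submodule.span (GrRing (FiltBl.IdealFiltration.adic I)) S).FG :=
    IsNoetherian.noetherian _
  obtain ⟨T, hTS, hT⟩ := (Submodule.fg_span_iff_fg_span_finset_subset S).mp hfg
  have hch : ∀ ξ : ↥T, ∃ (n : ℕ) (y : M) (hy : y ∈ F.N n), y ∈ M' ∧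
      (ξ : GrMod F) = (inDegM F n ⟨y, hy⟩ : GrMod F) := fun ξ => hTS ξ.2
  choose d y hy hyM hξ using hch
  refine ⟨↥T, inferInstance, d, fun ξ => ⟨y ξ, hy ξ⟩, hyM, ?_⟩
  have hrange : (Set.range fun ξ : ↥T => (inDegM F (d ξ) ⟨y ξ, hy ξ⟩ : GrMod F)) = ↑T := by
    ext η
    constructor
    · rintro ⟨ξ, rfl⟩
      have := ξ.2
      rw [hξ ξ] at this
      exact this
    · intro hη
      exact ⟨⟨η, hη⟩, (hξ ⟨η, hη⟩).symm⟩
  refine Groth.Agent.Lib.Helper15AdicGr.core F hsep (⨅ n, M' ⊔ F.N n) d (fun ξ => ⟨y ξ, hy ξ⟩)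
    (fun ξ => ?_) ?_ h0
  · rw [Submodule.mem_iInf]
    intro n
    exact Submodule.mem_sup_left (hyM ξ)
  · intro n z hz hzP
    rw [hrange, ← hT]
    rw [Submodule.mem_iInf] at hzP
    obtain ⟨m', hm', ν, hν, hsum⟩ := Submodule.mem_sup.mp (hzP (n + 1))
    have hm'n : m' ∈ F.N n := by
      have : m' = z - ν := by rw [← hsum]; abel
      rw [this]
      exact (F.N n).sub_mem hz (F.antitone (Nat.le_succ n) hν)
    have heq : (inDegM F n ⟨z, hz⟩ : GrMod F) = (inDegM F n ⟨m', hm'n⟩ : GrMod F) := by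
      have h1 : inDegM F n ⟨z, hz⟩ - inDegM F n ⟨m', hm'n⟩ = 0 := by
        rw [← map_sub, inDegM_eq_zero_iff]
        have : ((⟨z, hz⟩ - ⟨m', hm'n⟩ : ↥(F.N n)) : M) = ν := by
          rw [AddSubgroupClass.coe_sub]
          simp only
          rw [← hsum]; abel
        rw [this]; exact hν
      rw [sub_eq_zero] at h1
      rw [h1]
    rw [heq]
    exact Submodule.subset_span ⟨n, m', hm'n, hm', rfl⟩

end Groth.Agent.S16459.Aux

namespace Groth.Agent.S16459

/-- Let A be a commutative ring and I an ideal such that every I-adically Cauchy sequence in A has a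
limit, and let M be an A-module with an I-filtration M = N₀ ⊇ N₁ ⊇ … (I·Nₙ ⊆ Nₙ₊₁) which is
separated, ⋂ₙ Nₙ = 0. If the associated graded module gr(M) = ⊕ₙ Nₙ/Nₙ₊₁ is a Noetherian module over
the associated graded ring ⊕ₙ Iⁿ/Iⁿ⁺¹, then M is a Noetherian A-module and every submodule M' of M
is closed for the topology defined by the filtration, that is ⋂ₙ (M' + Nₙ) = M'. (The published
statement allows any complete filtered ring; this row takes the I-adic filtration on A.) -/
theorem result (A : Type u) [CommRing A]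
    (I : Ideal A) [IsPrecomplete I A] (M : Type u) [AddCommGroup M] [Module A M] (F : I.Filtration M)
    (h0 : F.N 0 = ⊤) (hsep : ⨅ n, F.N n = ⊥)
    [IsNoetherian (AssocGr.GrRing (FiltBl.IdealFiltration.adic I)) (AssocGr.GrMod F)] :
    IsNoetherian A M ∧ ∀ M' : Submodule A M, ⨅ n, M' ⊔ F.N n = M' := by
  have hkey := Aux.key A I M F h0 hsep
  constructor
  · rw [isNoetherian_def]
    intro M'
    obtain ⟨ι, _, d, x, hxM, hle⟩ := hkey M'
    have hspan : Submodule.span A (Set.range fun i => ((x i : ↥(F.N (d i))) : M)) ≤ M' := by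
      rw [Submodule.span_le]; rintro _ ⟨i, rfl⟩; exact hxM i
    have hM' : M' ≤ ⨅ n, M' ⊔ F.N n := le_iInf fun n => le_sup_left
    have : M' = Submodule.span A (Set.range fun i => ((x i : ↥(F.N (d i))) : M)) :=
      le_antisymm (hM'.trans hle) hspan
    rw [this]
    exact Submodule.fg_span (Set.finite_range _)
  · intro M'
    obtain ⟨ι, _, d, x, hxM, hle⟩ := hkey M'
    have hspan : Submodule.span A (Set.range fun i => ((x i : ↥(F.N (d i))) : M)) ≤ M' := by
      rw [Submodule.span_le]; rintro _ ⟨i, rfl⟩; exact hxM i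
    exact le_antisymm (hle.trans hspan) (le_iInf fun n => le_sup_left)

end Groth.Agent.S16459
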