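import Groth.Statements.S16460
import Mathlib

set_option autoImplicit false
universe u
open AdicGr

namespace Groth.Agent.S16460

/-- Let A be a commutative ring with a decreasing filtration by ideals A = F₀ ⊇ F₁ ⊇ F₂ ⊇ … satisfying
F_m·F_n ⊆ F_{m+n}, and assume the filtration is separated, ⋂ₙ Fₙ = 0. If the associated graded ring
⊕ₙ Fₙ/Fₙ₊₁ is an integral domain, then A is an integral domain. -/
theorem result (A : Type u) [CommRing A]
    (𝓕 : FiltBl.IdealFiltration A) (hsep : ⨅ n, 𝓕.F n = ⊥) [IsDomain (AssocGr.GrRing 𝓕)] :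
    IsDomain A := by
  classical
  have hnt : Nontrivial A := by
    by_contra hA
    rw [not_nontrivial_iff_subsingleton] at hA
    have h10 : (1 : AssocGr.GrRing 𝓕) = 0 := by
      rw [← map_one (algebraMap A (AssocGr.GrRing 𝓕)), Subsingleton.elim (1 : A) 0, map_zero]
    exact one_ne_zero h10
  have hord : ∀ a : A, a ≠ 0 → ∃ n, a ∈ 𝓕.F n ∧ a ∉ 𝓕.F (n + 1) := by
    intro a ha
    have hex : ∃ n, a ∉ 𝓕.F n := by
      by_contra hcon
      push_neg at hcon
      apply ha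
      have hmem : a ∈ ⨅ n, 𝓕.F n := by
        rw [Ideal.mem_iInf]; exact hcon
      rw [hsep] at hmem
      exact hmem
    have hn : a ∉ 𝓕.F (Nat.find hex) := Nat.find_spec hex
    have hn0 : Nat.find hex ≠ 0 := by
      intro h0
      rw [h0, 𝓕.zero_eq] at hn
      exact hn trivial
    obtain ⟨m, hm⟩ := Nat.exists_eq_succ_of_ne_zero hn0
    refine ⟨m, ?_, ?_⟩
    · by_contra hcon
      exact Nat.find_min hex (by omega : m < Nat.find hex) hcon
    · rw [← Nat.succ_eq_add_one, ← hm]; exact hn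
  have hnzd : NoZeroDivisors A := by
    refine ⟨fun {a b} hab => ?_⟩
    by_contra hcon
    push_neg at hcon
    obtain ⟨m, ham, ham'⟩ := hord a hcon.1
    obtain ⟨n, hbn, hbn'⟩ := hord b hcon.2
    have hprod := AssocGr.coe_inDeg_mul 𝓕 m n ⟨a, ham⟩ ⟨b, hbn⟩
    have hzero : (AssocGr.inDeg 𝓕 (m + n)
        ⟨a * b, 𝓕.mul_le m n (Ideal.mul_mem_mul ham hbn)⟩ : AssocGr.GrRing 𝓕) = 0 := by
      have : AssocGr.inDeg 𝓕 (m + n) ⟨a * b, 𝓕.mul_le m n (Ideal.mul_mem_mul ham hbn)⟩ = 0 := by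
        rw [AssocGr.inDeg_eq_zero_iff]
        show a * b ∈ 𝓕.F (m + n + 1)
        rw [hab]; exact Ideal.zero_mem _
      rw [this]; rfl
    rw [hzero] at hprod
    rcases mul_eq_zero.mp hprod with h | h
    · apply ham'
      have h' : AssocGr.inDeg 𝓕 m ⟨a, ham⟩ = 0 := Subtype.ext h
      exact (AssocGr.inDeg_eq_zero_iff 𝓕 m _).mp h'
    · apply hbn'
      have h' : AssocGr.inDeg 𝓕 n ⟨b, hbn⟩ = 0 := Subtype.ext h
      exact (AssocGr.inDeg_eq_zero_iff 𝓕 n _).mp h'
  exact NoZeroDivisors.to_isDomain A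

end Groth.Agent.S16460
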