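import Groth.Statements.S16474
import Groth.Agent.Lib.Helper25GLnWeight
import Groth.Agent.Lib.Helper25PiEmbed
open Groth.Agent.Lib.Helper25 Groth.Agent.Lib.Helper25.Schur
open scoped TensorProduct

set_option autoImplicit false
open LaurentPolynomial
open ComodTens

namespace Groth.Agent.S16474

/-- Let r ≥ 1 and let V be a finite-dimensional rational representation of the general linear group GL_r
over the complex numbers (a finite-dimensional comodule over its coordinate Hopf algebra) which is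
homogeneous of some integer degree h, i.e. restricted to the scalar one-parameter subgroup t ↦ t·1
every vector of V has weight h. Then there are natural numbers a, b, c with c > 0 such that V is a
direct summand, as a representation, of ((ℂ^r)^(⊗a))^(⊕b) ⊗ det^(-c): there are equivariant linear
maps i : V → E and p : E → V with p ∘ i the identity, where E is the direct sum of b copies of the
a-th tensor power of the standard representation on ℂ^r, twisted by the (−c)-th power of the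
determinant character. -/
theorem result (r : ℕ) (hr : 0 < r)
    (V : Type) [AddCommGroup V] [Module ℂ V] [Module.Finite ℂ V] (ρ : HopfRep.Comod ℂ (CoordGrp.GLn r ℂ) V)
    (h : ℤ)
    (hh : @HopfRep.eigenspace ℂ ℂ[T;T⁻¹] _ _ _ V _ _
      (GLin.comodAlong (CoordGrp.GLn.diag r ℂ (fun _ => 1)) ρ) (T h) = ⊤) :
    ∃ (a b c : ℕ), 0 < c ∧
      ∃ (i : V →ₗ[ℂ] (Fin b → TensorPower ℂ a (Fin r → ℂ)))
        (p : (Fin b → TensorPower ℂ a (Fin r → ℂ)) →ₗ[ℂ] V),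
        p ∘ₗ i = LinearMap.id ∧
        @Hoch.IsComodHom ℂ _ (CoordGrp.GLn r ℂ) _ _ _ V _ _ ρ (Fin b → TensorPower ℂ a (Fin r → ℂ)) _ _
          (ComodTens.Comod.twist
            (ComodTens.Comod.pi fun _ : Fin b =>
              ComodTens.Comod.tpow (GLin.comodAlong (CoordGrp.Mat.toGLn r ℂ) (ComodTens.stdVec r ℂ)) a)
            (CoordGrp.GLn.Dinv ^ c) (IsGroupLikeElem.pow ⟨CoordGrp.GLn.counit_Dinv, CoordGrp.GLn.comul_Dinv⟩)) i ∧
        @Hoch.IsComodHom ℂ _ (CoordGrp.GLn r ℂ) _ _ _ (Fin b → TensorPower ℂ a (Fin r → ℂ)) _ _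
          (ComodTens.Comod.twist
            (ComodTens.Comod.pi fun _ : Fin b =>
              ComodTens.Comod.tpow (GLin.comodAlong (CoordGrp.Mat.toGLn r ℂ) (ComodTens.stdVec r ℂ)) a)
            (CoordGrp.GLn.Dinv ^ c) (IsGroupLikeElem.pow ⟨CoordGrp.GLn.counit_Dinv, CoordGrp.GLn.comul_Dinv⟩)) V _ _ ρ p := by
  classical
  letI := ρ
  have hh' : ∀ v : V, (GLin.comodAlong (CoordGrp.GLn.diag r ℂ (fun _ => 1)) ρ).coact v =
      v ⊗ₜ[ℂ] (LaurentPolynomial.T h : ℂ[T;T⁻¹]) := by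
    intro v
    have hv : v ∈ (⊤ : Submodule ℂ V) := trivial
    rw [← hh] at hv
    exact hv
  have hfix : ∀ g ∈ coeffSpace ℂ (CoordGrp.GLn r ℂ) V,
      Groth.Agent.Lib.Helper25.T (wtFun ℂ r h) g = g :=
    T_wtFun_of_mem_coeffSpace ℂ r h hh'
  have hle : coeffSpace ℂ (CoordGrp.GLn r ℂ) V ≤ ⨆ c, wSpan ℂ r h c := by
    intro g hg
    rw [← hfix g hg]
    exact T_wtFun_mem ℂ r h g
  obtain ⟨c, hc, hnonneg, hVc⟩ := exists_le_wSpan ℂ r hr h _ coeffSpace_fg hle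
  obtain ⟨a, ha⟩ : ∃ a : ℕ, (a : ℤ) = h + (r : ℤ) * (c : ℤ) :=
    ⟨(h + (r : ℤ) * (c : ℤ)).toNat, Int.toNat_of_nonneg hnonneg⟩
  rw [wSpan_eq ℂ r h c a ha] at hVc
  have hg : IsGroupLikeElem ℂ ((CoordGrp.GLn.Dinv : CoordGrp.GLn r ℂ) ^ c) :=
    IsGroupLikeElem.pow ⟨CoordGrp.GLn.counit_Dinv, CoordGrp.GLn.comul_Dinv⟩
  letI cX : HopfRep.Comod ℂ (CoordGrp.GLn r ℂ) (TensorPower ℂ a (Fin r → ℂ)) :=
    ComodTens.Comod.twist
      (ComodTens.Comod.tpow (GLin.comodAlong (CoordGrp.Mat.toGLn r ℂ) (ComodTens.stdVec r ℂ)) a)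
      ((CoordGrp.GLn.Dinv : CoordGrp.GLn r ℂ) ^ c) hg
  have hX : coeffSpace ℂ (CoordGrp.GLn r ℂ) V ≤
      coeffSpace ℂ (CoordGrp.GLn r ℂ) (TensorPower ℂ a (Fin r → ℂ)) := by
    refine hVc.trans (Submodule.span_le.mpr ?_)
    rintro _ ⟨⟨L, J⟩, rfl⟩
    have hy : yMat (CoordGrp.Mat.toGLn r ℂ) ((CoordGrp.GLn.Dinv : CoordGrp.GLn r ℂ) ^ c) a L J =
        (∏ l, CoordGrp.Mat.toGLn r ℂ (CoordGrp.Mat.X (L l) (J l))) *
          (CoordGrp.GLn.Dinv : CoordGrp.GLn r ℂ) ^ c := by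
      rw [yMat, tpowMat_apply, mul_comm]
      rfl
    change yMat (CoordGrp.Mat.toGLn r ℂ) ((CoordGrp.GLn.Dinv : CoordGrp.GLn r ℂ) ^ c) a L J ∈
      coeffSpace ℂ (CoordGrp.GLn r ℂ) (TensorPower ℂ a (Fin r → ℂ))
    rw [hy]
    exact mul_mem_cs_twist _ _ hg (prod_mem_cs_tpow _ a _
      (fun l => map_mem_cs_comodAlong _ _ (X_mem_cs_stdVec r ℂ _ _)))
  obtain ⟨b, i, p, hpi, hi, hp⟩ := exists_pi_embedding (V := V)
    (X := TensorPower ℂ a (Fin r → ℂ)) (isLinearlyReductive_GLn ℂ r) hX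
  refine ⟨a, b, c, hc, i, p, hpi, ?_, ?_⟩
  · rw [← pi_twist_eq]
    exact hi
  · rw [← pi_twist_eq]
    exact hp

end Groth.Agent.S16474
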