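import Groth.Statements.S19611
import Mathlib

set_option autoImplicit false
universe u
open CategoryTheory AlgebraicGeometry
open CartMod

namespace Groth.Agent.S19611

open CategoryTheory.Limits

/-- the canonical map to the scheme-theoretic image is scheme-theoretically dominant. -/
lemma toImage_dominant {X Y : Scheme.{u}} (f : X ⟶ Y) [QuasiCompact f] :
    IsSchemeTheoreticallyDominant f.toImage := by
  rw [isSchemeTheoreticallyDominant_iff]
  refine Scheme.IdealSheafData.ext_of_iSup_eq_top
    (fun U : Y.affineOpens ↦ (⟨f.imageι ⁻¹ᵁ U.1, U.2.preimage f.imageι⟩ : f.image.affineOpens))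
    ?_ ?_
  · have h1 : ⨆ U : Y.affineOpens, (U : Y.Opens) = ⊤ := iSup_affineOpens_eq_top Y
    change ⨆ U : Y.affineOpens, f.imageι ⁻¹ᵁ (U : Y.Opens) = ⊤
    rw [← Scheme.Hom.preimage_iSup, h1]
    rfl
  · intro U
    rw [Scheme.Hom.ker_apply]
    simp only [Scheme.IdealSheafData.ideal_bot, Pi.bot_apply]
    rw [← RingHom.injective_iff_ker_eq_bot]
    exact f.toImage_app_injective U

/-- a surjective, quasi-compact, scheme-theoretically dominant morphism is an epimorphism. -/
lemma epi_of_dominant {X Y : Scheme.{u}} (t : X ⟶ Y) [Surjective t]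
    [IsSchemeTheoreticallyDominant t] : Epi t := by
  refine ⟨fun {Z} g₁ g₂ h => ?_⟩
  have hsurj : Surjective (equalizer.ι g₁ g₂) := ⟨fun y => by
    obtain ⟨x, rfl⟩ := t.surjective y
    refine ⟨(equalizer.lift t h).base x, ?_⟩
    rw [← Scheme.Hom.comp_apply, equalizer.lift_ι]⟩
  have hcl : IsClosedImmersion (equalizer.ι g₁ g₂) := by
    refine IsClosedImmersion.of_isPreimmersion _ ?_
    rw [Set.range_eq_univ.mpr (equalizer.ι g₁ g₂).surjective]
    exact isClosed_univ
  have hker : (equalizer.ι g₁ g₂).ker = ⊥ := by
    have h1 : (equalizer.lift t h ≫ equalizer.ι g₁ g₂).ker = ⊥ := by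
      rw [equalizer.lift_ι]; exact t.ker_eq_bot
    rw [Scheme.Hom.ker_comp] at h1
    rw [← le_bot_iff, ← h1, ← Scheme.IdealSheafData.map_bot]
    exact Scheme.IdealSheafData.map_mono _ bot_le
  have hiso : IsIso (equalizer.ι g₁ g₂) := IsClosedImmersion.isIso_iff_ker_eq_bot.mpr hker
  rw [← cancel_epi (equalizer.ι g₁ g₂)]
  exact equalizer.condition g₁ g₂


/-- For a prime p and a scheme Y of characteristic p, write Y♭ for the scheme-theoretic image of the
absolute Frobenius F_Y : Y → Y, i.e. the closed subscheme of Y defined by the sections of O_Y whose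
p-th power vanishes, and Y → Y♭ for the canonical morphism through which F_Y factors. Then Y → Y♭ is
an epimorphism of schemes: two morphisms g₁, g₂ from Y♭ to a scheme Z with equal composites Y → Y♭ →
Z are equal. (The published statement is for k-morphisms g₁, g₂ from Y♭ to a k-scheme Z over a
perfect field k of characteristic p, compared after Frobenius twist through Y → (Y♭)'; this row asks
right-cancellation against morphisms to every scheme Z, which is equivalent to it for k-morphisms.) -/
theorem result (p : ℕ) [Fact p.Prime] (Y : Scheme.{u}) [FrobSch.IsCharP Y p] :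
    Epi (FrobSch.frob Y p).toImage := by
  have hqc : QuasiCompact (FrobSch.frob Y p) := by
    rw [quasiCompact_iff]
    intro U _ hc
    exact hc
  have hdom := toImage_dominant (FrobSch.frob Y p)
  have hsurj : Surjective (FrobSch.frob Y p).toImage := ⟨fun z => by
    refine ⟨(FrobSch.frob Y p).imageι.base z, ?_⟩
    apply (Scheme.Hom.isClosedEmbedding (FrobSch.frob Y p).imageι).injective
    rw [← Scheme.Hom.comp_apply, Scheme.Hom.toImage_imageι]
    rfl⟩
  exact epi_of_dominant _

end Groth.Agent.S19611
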