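import Groth.Statements.S16488
import Groth.Agent.Lib.Helper28HomShRefl
import Groth.Agent.Lib.Helper28ReflReg

set_option autoImplicit false
universe u
open CategoryTheory CategoryTheory.Limits AlgebraicGeometry TopologicalSpace
open VBPn

namespace Groth.Agent.S16488

/-- Let X be an integral locally Noetherian scheme all of whose local rings are regular, and F a
coherent O_X-module which is reflexive, i.e. the canonical map F → F^** is an isomorphism. Then the
singularity set of F (the set of points at which the stalk of F is not free) has codimension at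
least 3: for every point x such that F_x is not a free O_{X,x}-module, the local ring O_{X,x} has
dimension at least 3. The published statement is for reflexive coherent analytic sheaves on a
complex manifold; this row is its statement for coherent sheaves on a regular integral locally
Noetherian scheme, where the same argument (a reflexive sheaf is locally a second syzygy sheaf)
applies. -/
theorem result (X : Scheme.{u}) [IsIntegral X] [IsLocallyNoetherian X]
    (hreg : ∀ x : X, IsRegularLocalRing (X.presheaf.stalk x)) (F : X.Modules) (hF : Coh.IsCoh F)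
    (hrefl : RefHull.IsReflexive F) (x : X) (hx : ¬ Module.Free (X.presheaf.stalk x) (F.presheaf.stalk x)) :
    (3 : WithBot ℕ∞) ≤ ringKrullDim (X.presheaf.stalk x) := by
  open Groth.Agent.Lib.Helper2 Groth.Agent.Lib.Helper2.FlatOver Groth.Agent.Lib.Helper23.FinType in
  by_contra hdim
  haveI : F.IsQuasicoherent := hF.1
  haveI : SheafOfModules.IsFiniteType (R := X.ringCatSheaf) F := hF.2
  have hrx : RefHull.IsReflexiveAt F x :=
    (Groth.Agent.Lib.Helper28.HomSh.isReflexive_iff_forall_isReflexiveAt F hF).1 hrefl x
  obtain ⟨U, hU0, hx', -⟩ :=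
    (TopologicalSpace.Opens.isBasis_iff_nbhd.1 X.isBasis_affineOpens)
      (TopologicalSpace.Opens.mem_top x)
  have hU : IsAffineOpen U := hU0
  letI mF := moduleStalkSections F U x hx'
  haveI locF : IsLocalizedModule (hU.primeIdealOf ⟨x, hx'⟩).asIdeal.primeCompl (germₗ F U x hx') :=
    isLocalizedModule_germ hU F x hx'
  haveI : IsNoetherianRing Γ(X, U) := IsLocallyNoetherian.component_noetherian ⟨U, hU⟩
  haveI hfinU : Module.Finite Γ(X, U) Γ(F, U) := finite_of_isFiniteType F hU
  letI alg : Algebra Γ(X, U) (X.presheaf.stalk x) :=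
    TopCat.Presheaf.algebra_section_stalk X.presheaf ⟨x, hx'⟩
  haveI locR : IsLocalization.AtPrime (X.presheaf.stalk x) (hU.primeIdealOf ⟨x, hx'⟩).asIdeal :=
    hU.isLocalization_stalk ⟨x, hx'⟩
  haveI : IsScalarTower Γ(X, U) (X.presheaf.stalk x) (F.presheaf.stalk x) :=
    IsScalarTower.of_algebraMap_smul fun r x => rfl
  haveI : Module.Finite (X.presheaf.stalk x) (F.presheaf.stalk x) :=
    Module.Finite.of_isLocalizedModule (hU.primeIdealOf ⟨x, hx'⟩).asIdeal.primeCompl
      (germₗ F U x hx')
  haveI := hreg x
  haveI : Module.IsReflexive (X.presheaf.stalk x) (F.presheaf.stalk x) := hrx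
  have hdim2 : ringKrullDim (X.presheaf.stalk x) ≤ 2 := by
    obtain ⟨d, hd⟩ := Groth.Agent.Lib.Helper5.exists_nat_ringKrullDim_eq (X.presheaf.stalk x)
    rw [hd] at hdim ⊢
    have h3 : ¬ (3 : ℕ) ≤ d := fun h => hdim (by exact_mod_cast h)
    have h2 : d ≤ 2 := by omega
    exact_mod_cast h2
  exact hx (Groth.Agent.Lib.Helper28.ReflReg.free_of_isReflexive_of_dim_le_two _ hdim2 _)

end Groth.Agent.S16488
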