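import Groth.Statements.S16491
import Groth.Agent.Lib.Helper28RefOne
import Groth.Agent.Lib.Helper13AusBuchUFD

set_option autoImplicit false
universe u
open CategoryTheory CategoryTheory.Limits AlgebraicGeometry TopologicalSpace
open VBPn

namespace Groth.Agent.S16491

/-- Let X be an integral locally Noetherian scheme all of whose local rings are regular, and F a
coherent O_X-module which is reflexive (the canonical map F → F^** is an isomorphism) and of rank 1
(F restricts to an invertible module on some dense open subset of X). Then F is invertible: every
point has an open neighbourhood on which F is isomorphic to the structure sheaf. The published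
statement is for reflexive coherent analytic sheaves of rank 1 on a complex manifold; this row is
its statement on a regular integral locally Noetherian scheme, whose local rings are factorial as
the argument requires. -/
theorem result (X : Scheme.{u}) [IsIntegral X] [IsLocallyNoetherian X]
    (hreg : ∀ x : X, IsRegularLocalRing (X.presheaf.stalk x)) (F : X.Modules) (hF : Coh.IsCoh F)
    (hrefl : RefHull.IsReflexive F) (hrk : RefHull.GenInvertible F) :
    PicF.IsInvertible F := by
  open Groth.Agent.Lib.Helper28.HomSh Groth.Agent.Lib.Helper28.ReflUFD in
  intro y
  haveI := hreg y
  haveI : IsDomain (X.presheaf.stalk y) := inferInstance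
  haveI : UniqueFactorizationMonoid (X.presheaf.stalk y) :=
    Groth.Agent.Helper13AusBuch.ufd_of_isRegularLocalRing (X.presheaf.stalk y)
  haveI : Module.IsReflexive (X.presheaf.stalk y) (F.presheaf.stalk y) :=
    (isReflexive_iff_forall_isReflexiveAt F hF).1 hrefl y
  obtain ⟨hrank, hnt⟩ := rankLeOne_stalk_of_genInvertible F hF hrk y
  haveI := hnt
  obtain ⟨e⟩ := nonempty_linearEquiv_of_rankLeOne (F.presheaf.stalk y) hrank
  exact exists_restrict_iso_structureModule_of_stalk_equiv F hF y e

end Groth.Agent.S16491
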