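import Groth.Statements.S16496
import Groth.Agent.Lib.Helper20ZClos23

set_option autoImplicit false
set_option linter.style.haveILetI false
universe u
open CategoryTheory AlgebraicGeometry
open SGA3

namespace Groth.Agent.S16496

/-- Let S be a Noetherian normal scheme, A a flat quasi-coherent O_S-module (not assumed of finite type)
and j : U → S the inclusion of an open subscheme containing every point of S whose local ring has
dimension at most 1. Then A = j_* j^* A: the unit A → j_*(A|_U) of the adjunction between
restriction to U and direct image along j is an isomorphism. In the source U is the flatness locus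
of a finite type submodule of A, an open which contains all points of codimension at most 1; the
printed argument uses only this property of U. -/
theorem result (S : Scheme.{u}) [IsNoetherian S]
    (hS : Pi1.IsNormalScheme S) (A : S.Modules) (hA : Coh.IsQCoh A) (hAfl : FlatMod.IsFlat A)
    (U : S.Opens) (hU : ∀ s : S, ringKrullDim (S.presheaf.stalk s) ≤ 1 → s ∈ U) :
    IsIso ((Scheme.Modules.restrictAdjunction U.ι).unit.app A) := by
  obtain ⟨K, rfl⟩ : ∃ K : TopologicalSpace.Closeds S, K.compl = U := ⟨U.compl, U.compl_compl⟩
  haveI : A.IsQuasicoherent := hA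
  refine Groth.Agent.Lib.Helper20.ZClosLib.isIso_unit_of_regPair K A fun x hx => ?_
  have hdim : (2 : WithBot ℕ∞) ≤ ringKrullDim (S.presheaf.stalk x) := by
    by_contra h
    exact (hU x (Groth.Agent.Lib.Helper20.ZClosLib.le_one_of_not_two_le _ h)) hx
  obtain ⟨hdom, hic⟩ := hS x
  haveI := hdom
  haveI := hic
  have hdepth := Groth.Agent.Lib.Helper28.two_le_depth_of_isIntegrallyClosed_of_two_le_dim
    (A := S.presheaf.stalk x) hdim
  obtain ⟨a, ham, b, hbm, hareg, hbreg⟩ := Groth.Agent.Lib.Helper20.IsoDepth.exists_regular_pair
    (O := S.presheaf.stalk x) (M' := S.presheaf.stalk x) hdepth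
  haveI : Module.Flat (S.presheaf.stalk x) (A.presheaf.stalk x) := hAfl x
  obtain ⟨h1, h2⟩ := Groth.Agent.Lib.Helper20.ZClosLib.regular_pair_of_flat
    (N := A.presheaf.stalk x) a b hareg hbreg
  exact ⟨a, ham, b, hbm, h1, h2⟩

end Groth.Agent.S16496
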