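import Groth.Statements.S16500
import Mathlib

set_option autoImplicit false
universe u
open Curves

namespace Groth.Agent.S16500

/-- Let k be a field of odd characteristic p, g ≤ p a natural number and f ∈ k[x] of degree at most 2g +
2. Let F be f with its coefficients reversed in degrees 0, …, 2g + 2, i.e. F(X) = X^(2g+2) f(1/X)
(Mathlib's reflect (2g+2) f), and write f^((p-1)/2) = Σ_l c_l x^l and F^((p-1)/2) = Σ_l C_l X^l.
Then C_{ip-j} = c_{(g+1-i)p-(g+1-j)} for all i, j = 1, …, g; that is, the g × g Cartier–Manin matrix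
of F is that of f with the order of both rows and columns reversed (below the indices run over Fin
g, the entry at (i, j) being the coefficient of degree (i+1)p-(j+1), and reversal is Fin.rev). In
particular the two matrices have the same determinant. (The source applies this to f with f(0) = 0,
separable of degree 2g + 2 over a perfect field, so that F has odd degree 2g + 1; the identity uses
none of that.) -/
theorem result (k : Type u) [Field k] (p : ℕ) [Fact p.Prime] (hp : p ≠ 2) [CharP k p]
    (g : ℕ) (hg : g ≤ p) (f : Polynomial k) (hf : f.natDegree ≤ 2 * g + 2) :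
    (Matrix.of fun i j : Fin g =>
        ((Polynomial.reflect (2 * g + 2) f) ^ ((p - 1) / 2)).coeff (((i : ℕ) + 1) * p - ((j : ℕ) + 1))) =
      Matrix.of fun i j : Fin g =>
        (f ^ ((p - 1) / 2)).coeff (((Fin.rev i : ℕ) + 1) * p - ((Fin.rev j : ℕ) + 1)) := by
  classical
  have hpp : p.Prime := Fact.out
  obtain ⟨N, hN⟩ : ∃ N, p = 2 * N + 1 := by
    rcases hpp.eq_two_or_odd' with h | h
    · exact absurd h hp
    · obtain ⟨m, hm⟩ := h; exact ⟨m, hm⟩
  have hN2 : (p - 1) / 2 = N := by omega
  rw [hN2]
  have hrefl : ∀ n : ℕ, Polynomial.reflect (2 * g + 2) f ^ n =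
      Polynomial.reflect ((2 * g + 2) * n) (f ^ n) := by
    intro n
    induction n with
    | zero =>
      rw [pow_zero, pow_zero, Nat.mul_zero]
      have := Polynomial.reflect_C (1 : k) 0
      rw [pow_zero, mul_one, map_one] at this
      exact this.symm
    | succ n ih =>
      rw [pow_succ, pow_succ, ih, Nat.mul_succ]
      refine (Polynomial.reflect_mul _ _ ?_ hf).symm
      rw [mul_comm]
      exact Polynomial.natDegree_pow_le_of_le n hf
  ext i j
  simp only [Matrix.of_apply]
  rw [hrefl, Polynomial.coeff_reflect]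
  have hi : (i : ℕ) < g := i.2
  have hj : (j : ℕ) < g := j.2
  have hri : (Fin.rev i : ℕ) = g - ((i : ℕ) + 1) := Fin.val_rev i
  have hrj : (Fin.rev j : ℕ) = g - ((j : ℕ) + 1) := Fin.val_rev j
  rw [hri, hrj]
  have hMN : (2 * g + 2) * N + (g + 1) = (g + 1) * p := by rw [hN]; ring
  have hAC : ((i : ℕ) + 1) * p + (g - ((i : ℕ) + 1) + 1) * p = (g + 1) * p := by
    rw [← add_mul]; congr 1; omega
  have hB : (j : ℕ) + 1 ≤ ((i : ℕ) + 1) * p := by nlinarith
  have hD : g - ((j : ℕ) + 1) + 1 ≤ (g - ((i : ℕ) + 1) + 1) * p := by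
    have : g - ((j : ℕ) + 1) + 1 ≤ p := by omega
    nlinarith
  have hBD : ((j : ℕ) + 1) + (g - ((j : ℕ) + 1) + 1) = g + 1 := by omega
  have hle : ((i : ℕ) + 1) * p - ((j : ℕ) + 1) ≤ (2 * g + 2) * N := by omega
  rw [Polynomial.revAt_le hle]
  congr 1
  omega

end Groth.Agent.S16500
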