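import Groth.Statements.S16518
import Groth.Agent.S12051
import Groth.Agent.Lib.Helper8LC2
import Groth.Agent.Lib.Helper28DepthBC

set_option autoImplicit false
universe u
open CAlg

namespace Groth.Agent.S16518

section aux
open CategoryTheory Abelian Groth.Agent.Lib.Helper8.LC

section step

variable {A : Type u} [CommRing A] (X : ModuleCat.{u} A) (𝔞 : Ideal A) (x : A)

/-- Multiplication by `x` on `A ⧸ 𝔞`. -/
def fmul : (A ⧸ 𝔞) →ₗ[A] (A ⧸ 𝔞) := LinearMap.lsmul A (A ⧸ 𝔞) x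

/-- The factor map `A ⧸ 𝔞 → A ⧸ (𝔞 ⊔ (x))`. -/
def gfac : (A ⧸ 𝔞) →ₗ[A] (A ⧸ (𝔞 ⊔ Ideal.span {x})) :=
  Submodule.mapQ 𝔞 (𝔞 ⊔ Ideal.span {x}) LinearMap.id (fun _ ha => Ideal.mem_sup_left ha)

theorem fmul_mk (a : A) : fmul 𝔞 x (Ideal.Quotient.mk 𝔞 a) = Ideal.Quotient.mk 𝔞 (x * a) := rfl

theorem gfac_mk (a : A) :
    gfac 𝔞 x (Ideal.Quotient.mk 𝔞 a) = Ideal.Quotient.mk (𝔞 ⊔ Ideal.span {x}) a := rfl

theorem fmul_injective (hreg : ∀ a, x * a ∈ 𝔞 → a ∈ 𝔞) : Function.Injective (fmul 𝔞 x) := by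
  rw [injective_iff_map_eq_zero]
  intro y hy
  obtain ⟨a, rfl⟩ := Ideal.Quotient.mk_surjective y
  rw [fmul_mk, Ideal.Quotient.eq_zero_iff_mem] at hy
  exact Ideal.Quotient.eq_zero_iff_mem.mpr (hreg a hy)

theorem gfac_surjective : Function.Surjective (gfac 𝔞 x) := by
  intro y
  obtain ⟨a, rfl⟩ := Ideal.Quotient.mk_surjective y
  exact ⟨Ideal.Quotient.mk 𝔞 a, rfl⟩

theorem fmul_gfac_exact : Function.Exact (fmul 𝔞 x) (gfac 𝔞 x) := by
  intro y
  obtain ⟨a, rfl⟩ := Ideal.Quotient.mk_surjective y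
  rw [gfac_mk, Ideal.Quotient.eq_zero_iff_mem]
  constructor
  · intro ha
    obtain ⟨c, hc, d, hd, rfl⟩ := Submodule.mem_sup.mp ha
    obtain ⟨b, rfl⟩ := Ideal.mem_span_singleton'.mp hd
    refine ⟨Ideal.Quotient.mk 𝔞 b, ?_⟩
    rw [fmul_mk, Ideal.Quotient.eq]
    have : x * b - (c + b * x) = -c := by ring
    rw [this]
    exact 𝔞.neg_mem hc
  · rintro ⟨z, hz⟩
    obtain ⟨b, rfl⟩ := Ideal.Quotient.mk_surjective z
    rw [fmul_mk, Ideal.Quotient.eq] at hz
    have h1 : a = (-(x * b - a)) + b * x := by ring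
    rw [h1]
    exact Ideal.add_mem _ (Ideal.mem_sup_left (𝔞.neg_mem hz))
      (Ideal.mem_sup_right (Ideal.mem_span_singleton'.mpr ⟨b, rfl⟩))

/-- The Ext step: vanishing of higher Ext into `A ⧸ 𝔞` passes to `A ⧸ (𝔞 ⊔ (x))` when `x` is regular
modulo `𝔞`, and homomorphisms lift. -/
theorem ext_step (hreg : ∀ a, x * a ∈ 𝔞 → a ∈ 𝔞)
    (hvan : ∀ j : ℕ, 1 ≤ j → Subsingleton (Ext.{u} X (ModuleCat.of A (A ⧸ 𝔞)) j)) :
    (∀ j : ℕ, 1 ≤ j → Subsingleton (Ext.{u} X (ModuleCat.of A (A ⧸ (𝔞 ⊔ Ideal.span {x}))) j)) ∧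
      ∀ φ : X ⟶ ModuleCat.of A (A ⧸ (𝔞 ⊔ Ideal.span {x})),
        ∃ ψ : X ⟶ ModuleCat.of A (A ⧸ 𝔞), ψ ≫ ModuleCat.ofHom (gfac 𝔞 x) = φ := by
  have hS := Sfg_shortExact (fmul 𝔞 x) (gfac 𝔞 x) (fmul_injective 𝔞 x hreg) (gfac_surjective 𝔞 x)
    (fmul_gfac_exact 𝔞 x)
  constructor
  · intro j hj
    refine ⟨fun a b => ?_⟩
    have key : ∀ c : Ext.{u} X (ModuleCat.of A (A ⧸ (𝔞 ⊔ Ideal.span {x}))) j, c = 0 := by
      intro c
      have h1 : c.comp hS.extClass (rfl : j + 1 = j + 1) = 0 :=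
        @Subsingleton.elim _ (hvan (j + 1) (by omega)) _ _
      obtain ⟨c₂, hc₂⟩ := Ext.covariant_sequence_exact₃ X hS c rfl h1
      have h2 : c₂ = 0 := @Subsingleton.elim _ (hvan j hj) _ _
      rw [← hc₂, h2, Ext.zero_comp]
    rw [key a, key b]
  · intro φ
    have h1 : (Ext.mk₀ φ).comp hS.extClass (rfl : 0 + 1 = 0 + 1) = 0 :=
      @Subsingleton.elim _ (hvan 1 le_rfl) _ _
    obtain ⟨c₂, hc₂⟩ := Ext.covariant_sequence_exact₃ X hS (Ext.mk₀ φ) rfl h1
    obtain ⟨ψ, rfl⟩ := (Ext.mk₀_bijective _ _).2 c₂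
    refine ⟨ψ, ?_⟩
    rw [Ext.mk₀_comp_mk₀] at hc₂
    exact (Ext.mk₀_bijective _ _).1 hc₂

end step

section link

variable {A : Type u} [CommRing A] (I : Ideal A)

/-- Transfer of vanishing of `Ext` along an isomorphism in the second variable. -/
theorem subsingleton_ext_of_iso {X Y Y' : ModuleCat.{u} A} (e : Y ≅ Y') (n : ℕ)
    (h : Subsingleton (Ext.{u} X Y n)) : Subsingleton (Ext.{u} X Y' n) := by
  have key : ∀ c : Ext.{u} X Y' n, c = 0 := by
    intro c
    have h1 : c.comp (Ext.mk₀ e.inv) (add_zero n) = 0 := Subsingleton.elim _ _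
    have h2 : (c.comp (Ext.mk₀ e.inv) (add_zero n)).comp (Ext.mk₀ e.hom) (add_zero n) = c := by
      rw [Ext.comp_assoc_of_third_deg_zero, Ext.mk₀_comp_mk₀, e.inv_hom_id, Ext.comp_mk₀_id]
    rw [← h2, h1, Ext.zero_comp]
  exact ⟨fun a b => by rw [key a, key b]⟩

/-- The inductive predicate on ideals `𝔞`. -/
def Q (𝔞 : Ideal A) : Prop :=
  (∀ j : ℕ, 1 ≤ j →
    Subsingleton (Ext.{u} (ModuleCat.of A (A ⧸ I)) (ModuleCat.of A (A ⧸ 𝔞)) j)) ∧
  (∀ a : A, (∀ i ∈ I, a * i ∈ 𝔞) → a ∈ Submodule.annihilator I ⊔ 𝔞) ∧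
  (Submodule.annihilator I ⊓ 𝔞 ≤ 𝔞 * Submodule.annihilator I)

theorem Q_bot (h : ∀ j : ℕ, 1 ≤ j →
    Subsingleton (Ext.{u} (ModuleCat.of A (A ⧸ I)) (ModuleCat.of A A) j)) : Q I ⊥ := by
  refine ⟨fun j hj => ?_, fun a ha => ?_, ?_⟩
  · let e : A ≃ₗ[A] (A ⧸ (⊥ : Ideal A)) := (Submodule.quotEquivOfEqBot (⊥ : Submodule A A) rfl).symm
    exact subsingleton_ext_of_iso e.toModuleIso j (h j hj)
  · refine Submodule.mem_sup_left ?_
    rw [Submodule.mem_annihilator]
    intro i hi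
    have := ha i hi
    rwa [Ideal.mem_bot] at this
  · intro a ha
    have h1 : a ∈ (⊥ : Ideal A) := ha.2
    rw [Ideal.mem_bot] at h1
    rw [h1]
    exact Ideal.zero_mem _

theorem Q_step (𝔞 : Ideal A) (x : A) (hreg : ∀ a, x * a ∈ 𝔞 → a ∈ 𝔞) (h : Q I 𝔞) :
    Q I (𝔞 ⊔ Ideal.span {x}) := by
  obtain ⟨h1, h2, h3⟩ := h
  obtain ⟨e1, e2⟩ := ext_step (ModuleCat.of A (A ⧸ I)) 𝔞 x hreg h1
  have hJI : ∀ j ∈ Submodule.annihilator I, ∀ i ∈ I, j * i = 0 := fun j hj i hi =>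
    (Submodule.mem_annihilator.mp hj) i hi
  refine ⟨e1, ?_, ?_⟩
  · intro a ha
    -- the map `A ⧸ I → A ⧸ 𝔟`, `1 ↦ a`
    let φ : (A ⧸ I) →ₗ[A] (A ⧸ (𝔞 ⊔ Ideal.span {x})) :=
      Submodule.liftQ I (LinearMap.toSpanSingleton A (A ⧸ (𝔞 ⊔ Ideal.span {x}))
        (Ideal.Quotient.mk _ a)) (by
        intro i hi
        rw [LinearMap.mem_ker, LinearMap.toSpanSingleton_apply]
        change Ideal.Quotient.mk _ (i * a) = 0
        rw [Ideal.Quotient.eq_zero_iff_mem, mul_comm]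
        exact ha i hi)
    obtain ⟨ψ, hψ⟩ := e2 (ModuleCat.ofHom φ)
    obtain ⟨b, hb⟩ := Ideal.Quotient.mk_surjective (ψ.hom (Ideal.Quotient.mk I 1))
    have hψ1 : gfac 𝔞 x (ψ.hom (Ideal.Quotient.mk I 1)) = φ (Ideal.Quotient.mk I 1) := by
      have := congrArg (fun f => f.hom (Ideal.Quotient.mk I 1)) hψ
      exact this
    have hφ1 : φ (Ideal.Quotient.mk I 1) = Ideal.Quotient.mk _ a := by
      change (LinearMap.toSpanSingleton A (A ⧸ (𝔞 ⊔ Ideal.span {x}))
        (Ideal.Quotient.mk _ a)) 1 = _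
      rw [LinearMap.toSpanSingleton_apply, one_smul]
    have hba : b - a ∈ 𝔞 ⊔ Ideal.span {x} := by
      rw [← hb, gfac_mk, hφ1] at hψ1
      exact Ideal.Quotient.eq.mp hψ1
    have hbI : ∀ i ∈ I, b * i ∈ 𝔞 := by
      intro i hi
      have h4 : i • ψ.hom (Ideal.Quotient.mk I 1) = 0 := by
        rw [← map_smul]
        have : i • (Ideal.Quotient.mk I 1 : A ⧸ I) = 0 := by
          change Ideal.Quotient.mk I (i * 1) = 0
          rw [mul_one]
          exact Ideal.Quotient.eq_zero_iff_mem.mpr hi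
        rw [this, map_zero]
      rw [← hb] at h4
      have h5 : Ideal.Quotient.mk 𝔞 (i * b) = 0 := h4
      rw [Ideal.Quotient.eq_zero_iff_mem, mul_comm] at h5
      exact h5
    have hle : Submodule.annihilator I ⊔ 𝔞 ≤ Submodule.annihilator I ⊔ (𝔞 ⊔ Ideal.span {x}) :=
      sup_le_sup le_rfl le_sup_left
    have hb' : b ∈ Submodule.annihilator I ⊔ (𝔞 ⊔ Ideal.span {x}) := hle (h2 b hbI)
    have : a = b - (b - a) := by ring
    rw [this]
    exact Ideal.sub_mem _ hb' (Ideal.mem_sup_right hba)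
  · intro a ha
    obtain ⟨haJ, ha𝔟⟩ := ha
    obtain ⟨c, hc, d, hd, rfl⟩ := Submodule.mem_sup.mp ha𝔟
    obtain ⟨b', rfl⟩ := Ideal.mem_span_singleton'.mp hd
    -- `b' * i ∈ 𝔞` for `i ∈ I`
    have hb'I : ∀ i ∈ I, b' * i ∈ 𝔞 := by
      intro i hi
      apply hreg
      have h4 : (c + b' * x) * i = 0 := hJI _ haJ i hi
      have h5 : x * (b' * i) = -(c * i) := by
        have : x * (b' * i) = (c + b' * x) * i - c * i := by ring
        rw [this, h4, zero_sub]
      rw [h5]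
      exact 𝔞.neg_mem (𝔞.mul_mem_right _ hc)
    obtain ⟨j, hj, c', hc', hjc⟩ := Submodule.mem_sup.mp (h2 b' hb'I)
    -- `a = (c + x c') + x j`
    have hsplit : c + b' * x = (c + c' * x) + x * j := by rw [← hjc]; ring
    have hc'' : c + c' * x ∈ 𝔞 := 𝔞.add_mem hc (𝔞.mul_mem_right _ hc')
    have hc''J : c + c' * x ∈ Submodule.annihilator I := by
      have : c + c' * x = (c + b' * x) - x * j := by rw [hsplit]; ring
      rw [this]
      exact Ideal.sub_mem _ haJ (Ideal.mul_mem_left _ _ hj)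
    rw [hsplit]
    refine Ideal.add_mem _ ?_ ?_
    · exact Ideal.mul_mono_left le_sup_left (h3 ⟨hc''J, hc''⟩)
    · exact Ideal.mul_mem_mul (Ideal.mem_sup_right (Ideal.mem_span_singleton_self x)) hj

/-- Induction along a weakly regular sequence. -/
theorem Q_ofList (h : ∀ j : ℕ, 1 ≤ j →
    Subsingleton (Ext.{u} (ModuleCat.of A (A ⧸ I)) (ModuleCat.of A A) j)) (xs : List A)
    (hxs : RingTheory.Sequence.IsWeaklyRegular A xs) : Q I (Ideal.ofList xs) := by
  induction xs using List.reverseRecOn with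
  | nil =>
    rw [Ideal.ofList_nil]
    exact Q_bot I h
  | append_singleton ys x ih =>
    rw [RingTheory.Sequence.isWeaklyRegular_append_iff] at hxs
    obtain ⟨h1, h2⟩ := hxs
    rw [RingTheory.Sequence.isWeaklyRegular_singleton_iff] at h2
    rw [Ideal.ofList_append, Ideal.ofList_singleton]
    refine Q_step I _ x ?_ (ih h1)
    intro a ha
    have h3 : x • (Submodule.Quotient.mk a : A ⧸ (Ideal.ofList ys • ⊤ : Submodule A A)) =
        x • (0 : A ⧸ (Ideal.ofList ys • ⊤ : Submodule A A)) := by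
      rw [smul_zero, ← Submodule.Quotient.mk_smul, Submodule.Quotient.mk_eq_zero, smul_eq_mul,
        smul_eq_mul, Ideal.mul_top]
      exact ha
    have h4 := h2 h3
    rw [Submodule.Quotient.mk_eq_zero, smul_eq_mul, Ideal.mul_top] at h4
    exact h4

theorem link_main (h : ∀ j : ℕ, 1 ≤ j →
    Subsingleton (Ext.{u} (ModuleCat.of A (A ⧸ I)) (ModuleCat.of A A) j)) (xs : List A)
    (hxs : RingTheory.Sequence.IsWeaklyRegular A xs) :
    Submodule.annihilator I ⊔ Ideal.ofList xs = Submodule.colon (Ideal.ofList xs) (I : Set A) ∧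
      Submodule.annihilator I ⊓ Ideal.ofList xs = Ideal.ofList xs * Submodule.annihilator I := by
  obtain ⟨-, h2, h3⟩ := Q_ofList I h xs hxs
  constructor
  · apply le_antisymm
    · refine sup_le ?_ ?_
      · intro j hj
        rw [Submodule.mem_colon]
        intro i hi
        rw [(Submodule.mem_annihilator.mp hj) i hi]
        exact Ideal.zero_mem _
      · intro c hc
        rw [Submodule.mem_colon]
        intro i hi
        exact Ideal.mul_mem_right _ _ hc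
    · intro a ha
      rw [Submodule.mem_colon] at ha
      exact h2 a (fun i hi => ha i hi)
  · apply le_antisymm h3
    rw [mul_comm]
    exact Ideal.mul_le_inf

end link

section vanish

open IsLocalRing

theorem ext_vanish (A : Type u) [CommRing A] [LocCoh.IsGorensteinLocalRing A] (I : Ideal A)
    (hI : ringKrullDim (A ⧸ I) = ringKrullDim A) [LocCoh.IsCohenMacaulayLocalRing (A ⧸ I)] :
    ∀ j : ℕ, 1 ≤ j → Subsingleton (Ext.{u} (ModuleCat.of A (A ⧸ I)) (ModuleCat.of A A) j) := by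
  obtain ⟨n, hn⟩ : ∃ n : ℕ, ringKrullDim A = n := by
    have h1 := ringKrullDim_ne_top (R := A)
    have h2 := ringKrullDim_ne_bot (R := A)
    obtain ⟨a, ha⟩ := WithBot.ne_bot_iff_exists.mp h2
    have h3 : a ≠ ⊤ := fun h => h1 (by rw [← ha, h]; rfl)
    obtain ⟨n, rfl⟩ := ENat.ne_top_iff_exists.mp h3
    exact ⟨n, ha.symm⟩
  intro j hj
  by_cases hjn : j ≤ n
  · haveI : IsLocalHom (algebraMap A (A ⧸ I)) :=
      IsLocalHom.of_surjective _ Ideal.Quotient.mk_surjective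
    have hd1 : LocCoh.depth A (A ⧸ I) = LocCoh.depth (A ⧸ I) (A ⧸ I) :=
      Groth.Agent.Lib.Helper28.depth_eq_depth_of_isLocalHom_of_finite
    have hd2 : ((LocCoh.depth (A ⧸ I) (A ⧸ I) : ℕ∞) : WithBot ℕ∞) = (n : WithBot ℕ∞) := by
      rw [← LocCoh.IsCohenMacaulayLocalRing.supportDim_eq_depth,
        Module.supportDim_self_eq_ringKrullDim, hI, hn]
    have hd3 : LocCoh.depth (A ⧸ I) (A ⧸ I) = (n : ℕ∞) := by
      exact_mod_cast hd2
    have hdepth : (n : ℕ∞) ≤ LocCoh.idealDepth (maximalIdeal A) (A ⧸ I) := by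
      have : LocCoh.idealDepth (maximalIdeal A) (A ⧸ I) = n := by
        rw [← hd3, ← hd1]; rfl
      rw [this]
    have hM : maximalIdeal A • (⊤ : Submodule A (A ⧸ I)) ≠ ⊤ := by
      intro h
      have h0 := Submodule.eq_bot_of_le_smul_of_le_jacobson_bot (maximalIdeal A)
        (⊤ : Submodule A (A ⧸ I)) Module.Finite.fg_top (le_of_eq h.symm)
        (IsLocalRing.maximalIdeal_le_jacobson ⊥)
      have : (1 : A ⧸ I) ∈ (⊥ : Submodule A (A ⧸ I)) := by rw [← h0]; trivial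
      exact one_ne_zero ((Submodule.mem_bot A).mp this)
    have hsub : Subsingleton ((localCohomology (maximalIdeal A) (n - j)).obj
        (ModuleCat.of A (A ⧸ I))) :=
      ⟨fun a b => by
        rw [H_eq_zero_of_lt_depth (maximalIdeal A) n (A ⧸ I) hM hdepth (n - j) (by omega) a,
          H_eq_zero_of_lt_depth (maximalIdeal A) n (A ⧸ I) hM hdepth (n - j) (by omega) b]⟩
    have := (Groth.Agent.S12051.H_subsingleton_iff A n hn (A ⧸ I) (n - j) (by omega)).1 hsub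
    rwa [show n - (n - j) = j by omega] at this
  · have := (Groth.Agent.Lib.Helper29Gorenstein.depth_eq_and_hasInjectiveDimensionLT A n hn).2
    exact HasInjectiveDimensionLT.subsingleton (ModuleCat.of A A) (n + 1) j (by omega) _

end vanish

end aux

/-- Let R be a Noetherian local ring, A a Gorenstein local ring which is a flat R-algebra through a
local homomorphism, I ⊂ A an ideal of codimension zero (the Krull dimension of A/I equals that of A)
with A/I Cohen–Macaulay, and J = (0 : I) its annihilator. For every R-regular sequence r_1, …, r_n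
generating an ideal 𝔯 of R, the module J/𝔯J is the annihilator of the image of I in A/𝔯A: the
natural map J/𝔯J → A/𝔯A is injective (J ∩ 𝔯A = 𝔯J) with image the ideal quotient (𝔯A : I) modulo 𝔯A
(J + 𝔯A = (𝔯A : I)). -/
theorem result (R A : Type u)
    [CommRing R] [IsNoetherianRing R] [IsLocalRing R] [CommRing A] [Algebra R A]
    [LocCoh.IsGorensteinLocalRing A] [IsLocalHom (algebraMap R A)] [Module.Flat R A] (I : Ideal A)
    (hI : ringKrullDim (A ⧸ I) = ringKrullDim A) [LocCoh.IsCohenMacaulayLocalRing (A ⧸ I)]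
    (rs : List R) (hrs : RingTheory.Sequence.IsRegular R rs) :
    Submodule.annihilator I ⊔ (Ideal.ofList rs).map (algebraMap R A) =
        Submodule.colon ((Ideal.ofList rs).map (algebraMap R A)) (I : Set A) ∧
      Submodule.annihilator I ⊓ (Ideal.ofList rs).map (algebraMap R A) =
        (Ideal.ofList rs).map (algebraMap R A) * Submodule.annihilator I := by
  have hxs : RingTheory.Sequence.IsWeaklyRegular A (rs.map (algebraMap R A)) :=
    hrs.toIsWeaklyRegular.of_flat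
  rw [Ideal.map_ofList]
  exact link_main I (ext_vanish A I hI) _ hxs

end Groth.Agent.S16518
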