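import Groth.Statements.S16517
import Groth.Agent.S16518
import Groth.Agent.S2082
import Groth.Agent.Lib.Helper28FlatNormal
import Groth.Agent.Lib.Helper5RLR3
import Groth.Agent.Lib.Helper5LocalFlat
import Groth.Agent.Lib.Helper5Tor1

set_option autoImplicit false
universe u
open CAlg

namespace Groth.Agent.S16517

section aux
open CategoryTheory Abelian IsLocalRing Groth.Agent.S16518 RingTheory.Sequence

section wr

variable {A : Type u} [CommRing A] (I : Ideal A)

theorem mk_mem_smul_top_iff (J 𝔞 : Ideal A) (b : A) :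
    (Ideal.Quotient.mk J b : A ⧸ J) ∈ (𝔞 • ⊤ : Submodule A (A ⧸ J)) ↔ b ∈ J ⊔ 𝔞 := by
  have h1 : (𝔞 • ⊤ : Submodule A (A ⧸ J)) = Submodule.map (Submodule.mkQ J) 𝔞 := by
    have h2 : (⊤ : Submodule A (A ⧸ J)) = Submodule.map (Submodule.mkQ J) ⊤ := by
      rw [Submodule.map_top, Submodule.range_mkQ]
    rw [h2, ← Submodule.map_smul'', smul_eq_mul, Ideal.mul_top]
  rw [h1, Submodule.mem_map]
  constructor
  · rintro ⟨c, hc, hcb⟩
    have h3 : c - b ∈ J := (Submodule.Quotient.eq J).mp hcb
    have : b = -(c - b) + c := by ring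
    rw [this]
    exact Ideal.add_mem _ (Ideal.mem_sup_left (J.neg_mem h3)) (Ideal.mem_sup_right hc)
  · intro hb
    obtain ⟨j, hj, c, hc, rfl⟩ := Submodule.mem_sup.mp hb
    refine ⟨c, hc, ?_⟩
    refine (Submodule.Quotient.eq J).mpr ?_
    have : c - (j + c) = -j := by ring
    rw [this]
    exact J.neg_mem hj

theorem weaklyRegular_quot_ann (h : ∀ j : ℕ, 1 ≤ j →
    Subsingleton (Ext.{u} (ModuleCat.of A (A ⧸ I)) (ModuleCat.of A A) j)) (xs : List A)
    (hxs : IsWeaklyRegular A xs) :
    IsWeaklyRegular (A ⧸ Submodule.annihilator I) xs := by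
  induction xs using List.reverseRecOn with
  | nil => exact IsWeaklyRegular.nil A _
  | append_singleton ys x ih =>
    rw [isWeaklyRegular_append_iff] at hxs ⊢
    obtain ⟨h1, h2⟩ := hxs
    refine ⟨ih h1, ?_⟩
    rw [isWeaklyRegular_singleton_iff] at h2 ⊢
    obtain ⟨-, hQ2, -⟩ := Q_ofList I h ys h1
    -- regularity of `x` modulo `ofList ys`
    have hreg : ∀ a, x * a ∈ Ideal.ofList ys → a ∈ Ideal.ofList ys := by
      intro a ha
      have h3 : x • (Submodule.Quotient.mk a : A ⧸ (Ideal.ofList ys • ⊤ : Submodule A A)) =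
          x • (0 : A ⧸ (Ideal.ofList ys • ⊤ : Submodule A A)) := by
        rw [smul_zero, ← Submodule.Quotient.mk_smul, Submodule.Quotient.mk_eq_zero, smul_eq_mul,
          smul_eq_mul, Ideal.mul_top]
        exact ha
      have h4 := h2 h3
      rw [Submodule.Quotient.mk_eq_zero, smul_eq_mul, Ideal.mul_top] at h4
      exact h4
    intro y₁ y₂ hy
    obtain ⟨z₁, rfl⟩ := Submodule.Quotient.mk_surjective _ y₁
    obtain ⟨z₂, rfl⟩ := Submodule.Quotient.mk_surjective _ y₂
    obtain ⟨b₁, rfl⟩ := Ideal.Quotient.mk_surjective z₁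
    obtain ⟨b₂, rfl⟩ := Ideal.Quotient.mk_surjective z₂
    rw [Submodule.Quotient.eq]
    have hy' : x • (Ideal.Quotient.mk (Submodule.annihilator I) b₁) -
        x • (Ideal.Quotient.mk (Submodule.annihilator I) b₂) ∈
        (Ideal.ofList ys • ⊤ : Submodule A (A ⧸ Submodule.annihilator I)) := by
      have := hy
      simp only [← Submodule.Quotient.mk_smul] at this
      exact (Submodule.Quotient.eq _).mp this
    have h5 : x • (Ideal.Quotient.mk (Submodule.annihilator I) b₁) -
        x • (Ideal.Quotient.mk (Submodule.annihilator I) b₂) =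
        Ideal.Quotient.mk (Submodule.annihilator I) (x * (b₁ - b₂)) := by
      rw [mul_sub, map_sub]
      rfl
    rw [h5, mk_mem_smul_top_iff] at hy'
    have h6 : (Ideal.Quotient.mk (Submodule.annihilator I) b₁ -
        Ideal.Quotient.mk (Submodule.annihilator I) b₂ : A ⧸ Submodule.annihilator I) =
        Ideal.Quotient.mk (Submodule.annihilator I) (b₁ - b₂) := (map_sub _ _ _).symm
    rw [h6, mk_mem_smul_top_iff]
    -- `x (b₁ - b₂) ∈ J ⊔ 𝔞` implies `(b₁ - b₂) i ∈ 𝔞` for `i ∈ I`
    apply hQ2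
    intro i hi
    apply hreg
    obtain ⟨j, hj, c, hc, hjc⟩ := Submodule.mem_sup.mp hy'
    have h7 : j * i = 0 := (Submodule.mem_annihilator.mp hj) i hi
    have h8 : x * ((b₁ - b₂) * i) = c * i := by
      have : x * ((b₁ - b₂) * i) = (x * (b₁ - b₂)) * i := by ring
      rw [this, ← hjc, add_mul, h7, zero_add]
    rw [h8]
    exact Ideal.mul_mem_right _ _ hc

end wr

section flat

variable (R A : Type u) [CommRing R] [IsRegularLocalRing R] [CommRing A] [Algebra R A]
  [LocCoh.IsGorensteinLocalRing A] [IsLocalHom (algebraMap R A)] [Module.Flat R A] (I : Ideal A)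

theorem flat_quot_ann (hI : ringKrullDim (A ⧸ I) = ringKrullDim A)
    [LocCoh.IsCohenMacaulayLocalRing (A ⧸ I)] :
    Module.Flat R (A ⧸ (Submodule.annihilator I)) := by
  obtain ⟨rs, -, hrs_eq, hrs⟩ := Groth.Agent.Lib.Helper5.exists_isRegular_ofList_eq_maximalIdeal R
  have hxs : IsWeaklyRegular A (rs.map (algebraMap R A)) := hrs.toIsWeaklyRegular.of_flat
  have h1 := weaklyRegular_quot_ann I (ext_vanish A I hI) _ hxs
  have h2 : IsWeaklyRegular (A ⧸ (Submodule.annihilator I)) rs :=
    (isWeaklyRegular_map_algebraMap_iff A (A ⧸ (Submodule.annihilator I)) rs).mp h1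
  apply Groth.Agent.Lib.Helper5.flat_of_lTensor_ideal_injective (B := A)
    (A ⧸ (Submodule.annihilator I)) (maximalIdeal R)
  · refine le_trans ?_ (IsLocalRing.maximalIdeal_le_jacobson ⊥)
    rw [Ideal.map_le_iff_le_comap, IsLocalRing.maximalIdeal_comap]
  · rw [← hrs_eq]
    exact Groth.Agent.Lib.Helper5.lTensor_ofList_subtype_injective_of_isWeaklyRegular rs h2
  · intro K
    letI : Field (R ⧸ maximalIdeal R) := Ideal.Quotient.field _
    exact Groth.Agent.Lib.Helper5.lTensor_restrictScalars_subtype_injective_of_flat_baseChange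
      (maximalIdeal R) inferInstance K

theorem flat_quot (hI : ringKrullDim (A ⧸ I) = ringKrullDim A)
    [LocCoh.IsCohenMacaulayLocalRing (A ⧸ I)] :
    Module.Flat R (A ⧸ I) := by
  haveI : IsLocalHom (algebraMap A (A ⧸ I)) :=
    IsLocalHom.of_surjective _ Ideal.Quotient.mk_surjective
  haveI : IsLocalHom (algebraMap R (A ⧸ I)) := by
    rw [IsScalarTower.algebraMap_eq R A (A ⧸ I)]
    exact RingHom.isLocalHom_comp _ _
  apply Groth.Agent.S2082.result
  have h1 : ringKrullDim A =
      ringKrullDim (A ⧸ (maximalIdeal R).map (algebraMap R A)) + ringKrullDim R :=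
    Groth.Agent.Lib.Helper28.ringKrullDim_eq_add_of_flat _ rfl
  have h2 : ringKrullDim ((A ⧸ I) ⧸ (maximalIdeal R).map (algebraMap R (A ⧸ I))) ≤
      ringKrullDim (A ⧸ (maximalIdeal R).map (algebraMap R A)) := by
    let f : (A ⧸ (maximalIdeal R).map (algebraMap R A)) →+*
        ((A ⧸ I) ⧸ (maximalIdeal R).map (algebraMap R (A ⧸ I))) :=
      Ideal.quotientMap _ (Ideal.Quotient.mk I) (by
        rw [← Ideal.map_le_iff_le_comap, Ideal.map_map]
        exact le_of_eq (congrArg (fun g => Ideal.map g (maximalIdeal R))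
          (IsScalarTower.algebraMap_eq R A (A ⧸ I)).symm))
    exact ringKrullDim_le_of_surjective f
      (Ideal.quotientMap_surjective Ideal.Quotient.mk_surjective)
  have h3 : ringKrullDim (A ⧸ I) ≤
      ringKrullDim ((A ⧸ I) ⧸ (maximalIdeal R).map (algebraMap R (A ⧸ I))) + ringKrullDim R := by
    refine le_trans (ringKrullDim_le_ringKrullDim_quotient_add_spanFinrank
      ((maximalIdeal R).map (algebraMap R (A ⧸ I))) ?_) ?_
    · rw [IsLocalRing.ringJacobson_eq_maximalIdeal, Ideal.map_le_iff_le_comap,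
        IsLocalRing.maximalIdeal_comap]
    · refine add_le_add le_rfl ?_
      rw [← IsRegularLocalRing.spanFinrank_maximalIdeal]
      exact_mod_cast Ideal.spanFinrank_map_le_of_fg _ (IsNoetherian.noetherian _)
  rw [add_comm]
  apply le_antisymm h3
  calc _ ≤ ringKrullDim (A ⧸ (maximalIdeal R).map (algebraMap R A)) + ringKrullDim R :=
        add_le_add h2 le_rfl
    _ = ringKrullDim A := h1.symm
    _ = ringKrullDim (A ⧸ I) := hI.symm

end flat

end aux

/-- Let R be a regular local ring, A a Gorenstein local ring which is a flat R-algebra through a local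
homomorphism, I ⊂ A an ideal of codimension zero (the Krull dimension of A/I equals that of A) with
A/I Cohen–Macaulay, and J = (0 : I) the annihilator of I in A (the ideal of the residual subscheme).
Then A/I and A/J are flat over R. -/
theorem result (R A : Type u)
    [CommRing R] [IsRegularLocalRing R] [CommRing A] [Algebra R A] [LocCoh.IsGorensteinLocalRing A]
    [IsLocalHom (algebraMap R A)] [Module.Flat R A] (I : Ideal A)
    (hI : ringKrullDim (A ⧸ I) = ringKrullDim A) [LocCoh.IsCohenMacaulayLocalRing (A ⧸ I)] :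
    Module.Flat R (A ⧸ I) ∧ Module.Flat R (A ⧸ (Submodule.annihilator I)) := by
  exact ⟨flat_quot R A I hI, flat_quot_ann R A I hI⟩

end Groth.Agent.S16517
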