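import Groth.Statements.S16519
import Mathlib

set_option autoImplicit false
open CubicSurf

namespace Groth.Agent.S16519

def lo : Fin 5 → ℤ := ![-1, 0, 0, 1, 1]

def E (v : Fin 5 × (Fin 6 → Fin 3)) : ℤ × (Fin 6 → ℤ) :=
  (((v.1 : ℕ) : ℤ) + 1, fun i => lo v.1 + (((v.2 i : Fin 3) : ℕ) : ℤ))

def P (p : ℤ × (Fin 6 → ℤ)) : Prop :=
  3 * p.1 - (Finset.univ.sum fun i => p.2 i) = 3 ∧ p.1 ^ 2 - (Finset.univ.sum fun i => p.2 i ^ 2) = 1

instance : DecidablePred P := fun p => by unfold P; infer_instance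

set_option maxRecDepth 1000000 in
theorem card72 : (Finset.univ.filter (fun v : Fin 5 × (Fin 6 → Fin 3) => P (E v))).card = 72 := by
  decide

theorem E_injective : Function.Injective E := by
  intro v w h
  have h1 : ((v.1 : ℕ) : ℤ) + 1 = ((w.1 : ℕ) : ℤ) + 1 := congrArg Prod.fst h
  have h1' : v.1 = w.1 := by
    apply Fin.ext
    omega
  have h2 : ∀ i, lo v.1 + (((v.2 i : Fin 3) : ℕ) : ℤ) = lo w.1 + (((w.2 i : Fin 3) : ℕ) : ℤ) :=
    fun i => congrFun (congrArg Prod.snd h) i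
  apply Prod.ext h1'
  funext i
  have := h2 i
  rw [h1'] at this
  apply Fin.ext
  omega

theorem bounds (a : ℤ) (b : Fin 6 → ℤ) (h : P (a, b)) :
    1 ≤ a ∧ a ≤ 5 ∧ ∀ i, (2 * b i - a + 1) ^ 2 ≤ 2 * (a - 1) * (5 - a) := by
  obtain ⟨h1, h2⟩ := h
  simp only at h1 h2
  have key : ∑ i, (2 * b i - a + 1) ^ 2 = 2 * (a - 1) * (5 - a) := by
    rw [Fin.sum_univ_six] at h1 h2 ⊢
    linear_combination (-4) * h2 + (4 * (a - 1)) * h1
  have hnn : 0 ≤ 2 * (a - 1) * (5 - a) := by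
    rw [← key]
    exact Finset.sum_nonneg (fun i _ => sq_nonneg _)
  have hterm : ∀ i, (2 * b i - a + 1) ^ 2 ≤ 2 * (a - 1) * (5 - a) := by
    intro i
    rw [← key]
    exact Finset.single_le_sum (f := fun i => (2 * b i - a + 1) ^ 2)
      (fun j _ => sq_nonneg _) (Finset.mem_univ i)
  refine ⟨?_, ?_, hterm⟩
  · by_contra hlt
    nlinarith
  · by_contra hlt
    nlinarith

theorem mem_image (a : ℤ) (b : Fin 6 → ℤ) (h : P (a, b)) :
    ∃ v : Fin 5 × (Fin 6 → Fin 3), E v = (a, b) := by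
  obtain ⟨ha1, ha5, hb⟩ := bounds a b h
  have hbi : ∀ i, (-2 ≤ 2 * b i - a + 1 ∧ 2 * b i - a + 1 ≤ 2) ∧
      (2 * b i - a + 1) ^ 2 ≤ 2 * (a - 1) * (5 - a) := by
    intro i
    have := hb i
    have hM : 2 * (a - 1) * (5 - a) ≤ 8 := by nlinarith [sq_nonneg (a - 3)]
    have h8 : (2 * b i - a + 1) ^ 2 ≤ 8 := le_trans this hM
    refine ⟨⟨?_, ?_⟩, this⟩
    · by_contra hlt
      have h3 : 2 * b i - a + 1 ≤ -3 := by omega
      nlinarith
    · by_contra hlt
      have h3 : 3 ≤ 2 * b i - a + 1 := by omega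
      nlinarith
  -- case analysis on a
  have hcases : a = 1 ∨ a = 2 ∨ a = 3 ∨ a = 4 ∨ a = 5 := by omega
  have hlo : ∀ i, lo ⟨(a - 1).toNat, by omega⟩ ≤ b i ∧ b i ≤ lo ⟨(a - 1).toNat, by omega⟩ + 2 := by
    intro i
    obtain ⟨⟨h1, h2⟩, h3⟩ := hbi i
    rcases hcases with rfl | rfl | rfl | rfl | rfl
    · have : (⟨((1 : ℤ) - 1).toNat, by omega⟩ : Fin 5) = 0 := rfl
      rw [this]; simp only [lo, Matrix.cons_val_zero]
      constructor <;> nlinarith
    · have : (⟨((2 : ℤ) - 1).toNat, by omega⟩ : Fin 5) = 1 := rfl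
      rw [this]; simp only [lo, Matrix.cons_val_one, Matrix.cons_val_zero]
      constructor <;> omega
    · have : (⟨((3 : ℤ) - 1).toNat, by omega⟩ : Fin 5) = 2 := rfl
      rw [this]; simp only [lo]
      constructor <;> (simp; omega)
    · have : (⟨((4 : ℤ) - 1).toNat, by omega⟩ : Fin 5) = 3 := rfl
      rw [this]; simp only [lo]
      constructor <;> (simp; omega)
    · have : (⟨((5 : ℤ) - 1).toNat, by omega⟩ : Fin 5) = 4 := rfl
      rw [this]; simp only [lo]
      constructor <;> (simp; nlinarith)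
  refine ⟨(⟨(a - 1).toNat, by omega⟩,
    fun i => ⟨(b i - lo ⟨(a - 1).toNat, by omega⟩).toNat, by have := hlo i; omega⟩), ?_⟩
  unfold E
  apply Prod.ext
  · simp only
    omega
  · funext i
    have := hlo i
    simp only
    omega


/-- On a smooth cubic surface there are exactly 72 divisor classes L with L² = 1 and L · K = −3. Stated
in the lattice ℤ^{1,6} with basis l, e_1, …, e_6 (l² = 1, e_i² = −1, K = −3l + Σ e_i): the integer
vectors (a, b) ∈ ℤ × ℤ^6, standing for a·l − Σ b_i e_i, with 3a − Σ b_i = 3 and a² − Σ b_i² = 1 form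
a set of exactly 72 elements. -/
theorem result :
    {p : ℤ × (Fin 6 → ℤ) | 3 * p.1 - (Finset.univ.sum fun i => p.2 i) = 3 ∧
        p.1 ^ 2 - (Finset.univ.sum fun i => p.2 i ^ 2) = 1}.ncard = 72 := by
  have hset : {p : ℤ × (Fin 6 → ℤ) | 3 * p.1 - (Finset.univ.sum fun i => p.2 i) = 3 ∧
        p.1 ^ 2 - (Finset.univ.sum fun i => p.2 i ^ 2) = 1} =
      E '' (↑(Finset.univ.filter (fun v : Fin 5 × (Fin 6 → Fin 3) => P (E v))) : Set _) := by
    ext p
    constructor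
    · intro hp
      obtain ⟨v, hv⟩ := mem_image p.1 p.2 hp
      refine ⟨v, ?_, hv⟩
      simp only [Finset.coe_filter, Finset.mem_univ, true_and, Set.mem_ofPred_eq]
      rw [hv]
      exact hp
    · rintro ⟨v, hv, rfl⟩
      simp only [Finset.coe_filter, Finset.mem_univ, true_and, Set.mem_ofPred_eq] at hv
      exact hv
  rw [hset, Set.ncard_image_of_injective _ E_injective, Set.ncard_coe_finset, card72]

end Groth.Agent.S16519
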