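import Groth.Statements.S1652
import Groth.Agent.Lib.Helper6CurveDeg
import Groth.Agent.Lib.Helper27GlobGenPn
import Groth.Agent.Lib.Helper23AmpleFam2

set_option autoImplicit false
universe u
open CategoryTheory CategoryTheory.Limits AlgebraicGeometry
open Variety

namespace Groth.Agent.S1652

/-- On a proper curve over a field, if L and M are invertible modules with L ⊗ M ≅ O_X and both L and M
have a nonzero global section, then L is isomorphic to the structure sheaf. -/
theorem result (k : Type u) [Field k] (X : Scheme.{u}) [X.Over (Spec (CommRingCat.of k))]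
    [IsIntegral X] [IsProper (X ↘ (Spec (CommRingCat.of k)))] (hdim : topologicalKrullDim X = 1)
    (L M : X.Modules) (hL : PicF.IsInvertible L) (hM : PicF.IsInvertible M) (hLM : ClSub.IsInverseOf L M)
    (s : Coh.structureModule X ⟶ L) (hs : s ≠ 0) (t : Coh.structureModule X ⟶ M) (ht : t ≠ 0) :
    Nonempty (L ≅ Coh.structureModule X) := by
  obtain ⟨e⟩ := hLM
  have hO := Groth.Agent.Lib.Helper23.TensorUnit.isInvertible_structureModule X
  -- the map `L → O` induced by `t`
  let φ : L ⟶ Coh.structureModule X :=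
    (Groth.Agent.Lib.Helper23.TensorUnit.tensorUnitIso L).inv ≫
      Groth.Agent.Lib.Helper27GlobGenPn.wr L t ≫ e.hom
  have hφ : φ ≠ 0 := by
    intro h0
    apply ht
    have e' : CohB1.tensorMod M L ≅ Coh.structureModule X :=
      Groth.Agent.Lib.Helper23.AmpleFam2.tensorBraid M L ≪≫ e
    apply Groth.Agent.Lib.Helper27GlobGenPn.wr_injective L M e' t 0
    rw [Groth.Agent.Lib.Helper27GlobGenPn.wr_zero]
    have h1 : Groth.Agent.Lib.Helper27GlobGenPn.wr L t =
        (Groth.Agent.Lib.Helper23.TensorUnit.tensorUnitIso L).hom ≫ φ ≫ e.inv := by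
      simp only [φ, Category.assoc, Iso.hom_inv_id, Category.comp_id, Iso.hom_inv_id_assoc]
    rw [h1, h0, zero_comp, comp_zero]
  have h1 := Groth.Agent.Lib.Helper6.CurveDeg.deg_le_deg k X hdim _ L hO hL s hs
  have h2 := Groth.Agent.Lib.Helper6.CurveDeg.deg_le_deg k X hdim L _ hL hO φ hφ
  haveI : IsIso s := h1.2 (le_antisymm h1.1 h2.1)
  exact ⟨(asIso s).symm⟩

end Groth.Agent.S1652
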