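import Groth.Statements.S1653
import Groth.Agent.Lib.Helper4FibDimH
open Groth.Agent.Lib.Helper4.VarDim Groth.Agent.Lib.Helper4.FibDim AlgebraicGeometry

set_option autoImplicit false
set_option linter.style.haveILetI false
universe u
open CategoryTheory CategoryTheory.Limits AlgebraicGeometry
open Variety

namespace Groth.Agent.S1653

/-- Let f : X → Y be a k-morphism of schemes locally of finite type over a field k, with X irreducible
of dimension a, and let the closure of the image of f have dimension b. Then the local fibre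
dimension of f at every point of X is at least a - b, and the set of points where it equals a - b is
open and dense. -/
theorem result (k : Type u) [Field k] (X Y : Scheme.{u}) [X.Over (Spec (CommRingCat.of k))] [Y.Over (Spec (CommRingCat.of k))]
    [LocallyOfFiniteType (X ↘ (Spec (CommRingCat.of k)))] [LocallyOfFiniteType (Y ↘ (Spec (CommRingCat.of k)))] [IrreducibleSpace X]
    (f : X ⟶ Y) (hf : f ≫ (Y ↘ (Spec (CommRingCat.of k))) = X ↘ (Spec (CommRingCat.of k))) (a b : ℕ) (ha : topologicalKrullDim X = a)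
    (hb : topologicalKrullDim (closure (Set.range f.base)) = b) :
    (∀ x : X, ((a - b : ℕ) : WithBot ℕ∞) ≤ FlatMor.fibreDimAt f x) ∧
      IsOpen {x : X | FlatMor.fibreDimAt f x = (a - b : ℕ)} ∧ Dense {x : X | FlatMor.fibreDimAt f x = (a - b : ℕ)} := by
  classical
  haveI : LocallyOfFiniteType (f ≫ (Y ↘ (Spec (CommRingCat.of k)))) := by rw [hf]; infer_instance
  haveI : LocallyOfFiniteType f := locallyOfFiniteType_of_comp f (Y ↘ (Spec (CommRingCat.of k)))
  set ξ := genericPoint X with hξdef
  have hξ : IsGenericPoint ξ (⊤ : Set X) := genericPoint_spec X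
  have hξcl : closure ({ξ} : Set X) = Set.univ := hξ
  have hξsp : ∀ x : X, ξ ⤳ x := fun x => by
    rw [specializes_iff_mem_closure, hξcl]; trivial
  have h1 : ((trdegNat k X ξ : ℕ) : WithBot ℕ∞) = a := by
    rw [← ha, ← topologicalKrullDim_closure_singleton k X ξ, hξcl, topologicalKrullDim_univ_eq]
  have h2 : closure (Set.range f) = closure {f ξ} := by
    apply subset_antisymm
    · apply closure_minimal _ isClosed_closure
      rintro _ ⟨x, rfl⟩
      exact ((hξsp x).map f.continuous).mem_closure
    · exact closure_mono (Set.singleton_subset_iff.mpr ⟨ξ, rfl⟩)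
  have h3 : ((trdegNat k Y (f ξ) : ℕ) : WithBot ℕ∞) = b := by
    rw [← hb, h2, topologicalKrullDim_closure_singleton k Y (f ξ)]
  have h4 := trdegNat_eq_add_fiber k f hf (f ξ) (f.asFiber ξ) ξ (f.fiberι_asFiber ξ)
  have e1 : trdegNat k X ξ = a := by exact_mod_cast h1
  have e2 : trdegNat k Y (f ξ) = b := by exact_mod_cast h3
  have h5 : FlatMor.fibreDimAt f ξ = ((a - b : ℕ) : WithBot ℕ∞) := by
    rw [fibreDimAt_eq_trdegNat_of_maximal f ξ
      (fun y _ hy => (hy.antisymm (hξsp y)).eq)]
    congr 1
    rw [e1, e2] at h4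
    omega
  have hgen : ∀ U : Set X, IsOpen U → U.Nonempty → ξ ∈ U := by
    intro U hU hne
    obtain ⟨x, hx⟩ := hne
    exact (hξsp x).mem_open hU hx
  have hge : ∀ x : X, ((a - b : ℕ) : WithBot ℕ∞) ≤ FlatMor.fibreDimAt f x := by
    intro x
    by_contra hlt
    rw [not_le] at hlt
    rcases Nat.eq_zero_or_pos (a - b) with h0 | hpos
    · rw [h0] at hlt
      have := Groth.Agent.Lib.Helper7.TopDim.localDim_nonneg (f.asFiber x)
      exact absurd (lt_of_le_of_lt this hlt) (lt_irrefl _)
    · obtain ⟨m, hm⟩ : ∃ m, a - b = m + 1 := ⟨a - b - 1, by omega⟩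
      rw [hm] at hlt
      have hle := le_of_lt_natCast_succ _ m hlt
      have hmem := hgen _ (isOpen_setOf_fibreDimAt_le f m) ⟨x, hle⟩
      simp only [Set.mem_ofPred_eq] at hmem
      rw [h5, hm] at hmem
      have : m + 1 ≤ m := by exact_mod_cast hmem
      omega
  have hset : {x : X | FlatMor.fibreDimAt f x = ((a - b : ℕ) : WithBot ℕ∞)} =
      {x : X | FlatMor.fibreDimAt f x ≤ ((a - b : ℕ) : WithBot ℕ∞)} := by
    ext x
    exact ⟨fun h => le_of_eq h, fun h => le_antisymm h (hge x)⟩
  refine ⟨hge, ?_, ?_⟩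
  · rw [hset]
    exact isOpen_setOf_fibreDimAt_le f (a - b)
  · rw [hset]
    have hmem : ξ ∈ {x : X | FlatMor.fibreDimAt f x ≤ ((a - b : ℕ) : WithBot ℕ∞)} := le_of_eq h5
    rw [dense_iff_closure_eq, ← Set.univ_subset_iff, ← hξcl]
    exact closure_mono (Set.singleton_subset_iff.mpr hmem)

end Groth.Agent.S1653
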