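import Groth.Statements.S16535
import Groth.Agent.Lib.Helper14Disp4

set_option autoImplicit false
universe u v
open Disp

namespace Groth.Agent.S16535

open Dieu Groth.Agent.Lib.Helper14.Disp W4c1extbt610

section aux
variable {p : ℕ} [Fact p.Prime] {R : Type u} [CommRing R]
variable {P : Type v} [AddCommGroup P] [Module (WittVector p R) P]

local notation "σ" => (WittVector.frobenius : WittVector p R →+* WittVector p R)

/-- induction principle for `Q = L + I_R T`. -/
theorem Q_induction (D : Display3n p R P) (L T : Submodule (WittVector p R) P)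
    (hQ : D.Q = L ⊔ IV p R • T) (C : D.Q → Prop)
    (hLm : ∀ (l : P) (hl : l ∈ D.Q), l ∈ L → C ⟨l, hl⟩)
    (hTm : ∀ (w : WittVector p R) (t : P) (h : WittVector.verschiebung w • t ∈ D.Q), t ∈ T →
      C ⟨WittVector.verschiebung w • t, h⟩)
    (h0 : C 0) (hadd : ∀ a b, C a → C b → C (a + b)) : ∀ q : D.Q, C q := by
  have hTle : IV p R • T ≤ D.Q := hQ ▸ le_sup_right
  -- elements `i • t`
  have h1 : ∀ i ∈ IV p R, ∀ t ∈ T, ∀ h : i • t ∈ D.Q, C ⟨i • t, h⟩ := by
    intro i hi
    rw [IV] at hi
    induction hi using Submodule.span_induction with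
    | mem i hi =>
      obtain ⟨w, rfl⟩ := hi
      intro t ht h
      exact hTm w t h ht
    | zero =>
      intro t ht h
      have : (⟨(0 : WittVector p R) • t, h⟩ : D.Q) = 0 := Subtype.ext (zero_smul _ _)
      rw [this]
      exact h0
    | add i₁ i₂ hi₁ hi₂ ih₁ ih₂ =>
      intro t ht h
      have hm₁ : i₁ • t ∈ D.Q := hTle (Submodule.smul_mem_smul (by rw [IV]; exact hi₁) ht)
      have hm₂ : i₂ • t ∈ D.Q := hTle (Submodule.smul_mem_smul (by rw [IV]; exact hi₂) ht)
      have : (⟨(i₁ + i₂) • t, h⟩ : D.Q) = ⟨i₁ • t, hm₁⟩ + ⟨i₂ • t, hm₂⟩ :=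
        Subtype.ext (add_smul _ _ _)
      rw [this]
      exact hadd _ _ (ih₁ t ht hm₁) (ih₂ t ht hm₂)
    | smul c i hi ih =>
      intro t ht h
      have hm : i • (c • t) ∈ D.Q :=
        hTle (Submodule.smul_mem_smul (by rw [IV]; exact hi) (T.smul_mem c ht))
      have : (⟨(c • i) • t, h⟩ : D.Q) = ⟨i • (c • t), hm⟩ :=
        Subtype.ext (show (c • i) • t = i • (c • t) by rw [smul_eq_mul, mul_comm, mul_smul])
      rw [this]
      exact ih (c • t) (T.smul_mem c ht) hm
  have h2 : ∀ u (hu : u ∈ IV p R • T) (h : u ∈ D.Q), C ⟨u, h⟩ := by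
    intro u hu
    induction hu using Submodule.smul_induction_on' with
    | smul i hi t ht => exact fun h => h1 i hi t ht h
    | add x hx y hy ihx ihy =>
      intro h
      have : (⟨x + y, h⟩ : D.Q) = ⟨x, hTle hx⟩ + ⟨y, hTle hy⟩ := rfl
      rw [this]
      exact hadd _ _ (ihx _) (ihy _)
  rintro ⟨y, hy⟩
  obtain ⟨l, hl, u, hu, rfl⟩ := Submodule.mem_sup.1 (hQ ▸ hy)
  have hlQ : l ∈ D.Q := hQ ▸ (le_sup_left (b := IV p R • T)) hl
  have : (⟨l + u, hy⟩ : D.Q) = ⟨l, hlQ⟩ + ⟨u, hTle hu⟩ := rfl
  rw [this]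
  exact hadd _ _ (hLm l hlQ hl) (h2 u hu _)

variable (D : Display3n p R P) (L T : Submodule (WittVector p R) P) (hLT : IsCompl L T)
  (hL : L ≤ D.Q)

/-- `Φ (l + t) = V⁻¹ l + F t`. -/
noncomputable def Φ : P →ₛₗ[σ] P :=
  D.Vinv.comp ((Submodule.inclusion hL).comp (Submodule.linearProjOfIsCompl L T hLT)) +
    D.F.comp (T.subtype.comp (Submodule.linearProjOfIsCompl T L hLT.symm))

theorem Φ_apply_L (l : P) (hl : l ∈ L) : Φ D L T hLT hL l = D.Vinv ⟨l, hL hl⟩ := by
  have h1 : Submodule.linearProjOfIsCompl L T hLT l = ⟨l, hl⟩ :=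
    Submodule.linearProjOfIsCompl_apply_left hLT ⟨l, hl⟩
  have h2 : Submodule.linearProjOfIsCompl T L hLT.symm l = 0 :=
    Submodule.linearProjOfIsCompl_apply_right hLT.symm ⟨l, hl⟩
  simp only [Φ, LinearMap.add_apply, LinearMap.comp_apply, h1, h2, map_zero, add_zero]
  rfl

theorem Φ_apply_T (t : P) (ht : t ∈ T) : Φ D L T hLT hL t = D.F t := by
  have h1 : Submodule.linearProjOfIsCompl L T hLT t = 0 :=
    Submodule.linearProjOfIsCompl_apply_right hLT ⟨t, ht⟩
  have h2 : Submodule.linearProjOfIsCompl T L hLT.symm t = ⟨t, ht⟩ :=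
    Submodule.linearProjOfIsCompl_apply_left hLT.symm ⟨t, ht⟩
  simp only [Φ, LinearMap.add_apply, LinearMap.comp_apply, h1, h2, map_zero, zero_add]
  rfl

/-- `m (l + t) = l + p t`. -/
noncomputable def mMap : P →ₗ[WittVector p R] P :=
  L.subtype.comp (Submodule.linearProjOfIsCompl L T hLT) +
    (p : WittVector p R) • T.subtype.comp (Submodule.linearProjOfIsCompl T L hLT.symm)

theorem mMap_apply_L (l : P) (hl : l ∈ L) : mMap L T hLT l = l := by
  have h1 : Submodule.linearProjOfIsCompl L T hLT l = ⟨l, hl⟩ :=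
    Submodule.linearProjOfIsCompl_apply_left hLT ⟨l, hl⟩
  have h2 : Submodule.linearProjOfIsCompl T L hLT.symm l = 0 :=
    Submodule.linearProjOfIsCompl_apply_right hLT.symm ⟨l, hl⟩
  simp only [mMap, LinearMap.add_apply, LinearMap.comp_apply, LinearMap.smul_apply, h1, h2,
    map_zero, smul_zero, add_zero]
  rfl

theorem mMap_apply_T (t : P) (ht : t ∈ T) : mMap L T hLT t = (p : WittVector p R) • t := by
  have h1 : Submodule.linearProjOfIsCompl L T hLT t = 0 :=
    Submodule.linearProjOfIsCompl_apply_right hLT ⟨t, ht⟩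
  have h2 : Submodule.linearProjOfIsCompl T L hLT.symm t = ⟨t, ht⟩ :=
    Submodule.linearProjOfIsCompl_apply_left hLT.symm ⟨t, ht⟩
  simp only [mMap, LinearMap.add_apply, LinearMap.comp_apply, LinearMap.smul_apply, h1, h2,
    map_zero, zero_add]
  rfl

theorem lift_Φ_surjective (hQ : D.Q = L ⊔ IV p R • T) :
    Function.Surjective (BC.lift σ (Φ D L T hLT hL)) := by
  have hA : ∀ q : D.Q, D.Vinv q ∈ LinearMap.range (BC.lift σ (Φ D L T hLT hL)) := by
    refine Q_induction D L T hQ _ ?_ ?_ ?_ ?_
    · intro l hlQ hl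
      refine ⟨BC.tmul σ 1 l, ?_⟩
      rw [BC.lift_tmul, one_smul, Φ_apply_L D L T hLT hL l hl]
    · intro w t h ht
      refine ⟨BC.tmul σ w t, ?_⟩
      rw [BC.lift_tmul, Φ_apply_T D L T hLT hL t ht, ← D.Vinv_verschiebung_smul w t]
    · rw [map_zero]; exact Submodule.zero_mem _
    · intro a b ha hb
      rw [map_add]; exact Submodule.add_mem _ ha hb
  rw [← LinearMap.range_eq_top, eq_top_iff, ← D.span_range_Vinv, Submodule.span_le]
  rintro _ ⟨q, rfl⟩
  exact hA q

end aux

/-- Let p be a prime and R a commutative ring in which p is nilpotent (in particular every prime number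
other than p is a unit in R); write W = W(R) for the ring of p-typical Witt vectors with Frobenius
σ, and let (P, Q, F, V⁻¹) be a 3n-display over R. Then there is exactly one W-linear map V# : P → W
⊗_{σ,W} P with V#(w·F x) = p·(w ⊗ x) for all w ∈ W, x ∈ P and V#(w·V⁻¹ y) = w ⊗ y for all w ∈ W, y ∈
Q. (The published statement is made for every ring in which the primes other than p are units. Over
the rationals the ghost map identifies W(ℚ) with ℚ^ℕ and σ with the shift; for the idempotent e =
(1,0,0,…) the module (1−e)W with Q = (1−e)W, F(x) = p·σ(x)(1−e) and V⁻¹(x) = σ(x)(1−e) is a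
3n-display, and a W-linear V# would have to send 1−e to 1 ⊗ (1−e), which corresponds to 1 under W
⊗_{σ,W} (1−e)W ≅ W, while e·(1−e) = 0 — impossible. The published proof compares ranks of P and W
⊗_{σ,W} P, which agree when σ fixes the idempotents of W(R); this holds when p is nilpotent in R,
the case of displays, which is the hypothesis taken here.) -/
theorem result (p : ℕ) [Fact p.Prime] (R : Type u) [CommRing R]
    (hR : ∀ ℓ : ℕ, ℓ.Prime → ℓ ≠ p → IsUnit (ℓ : R)) (hp : IsNilpotent (p : R))
    (P : Type v) [AddCommGroup P] [Module (WittVector p R) P] (D : W4c1extbt610.Display3n p R P) :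
    ∃! Vs : P →ₗ[WittVector p R] Dieu.BC (WittVector.frobenius : WittVector p R →+* WittVector p R) P,
      Dieu.IsVSharp D Vs := by
  haveI := D.finite
  haveI := D.projective
  obtain ⟨L, T, hLT, hQ⟩ := D.exists_normal
  have hL : L ≤ D.Q := hQ ▸ le_sup_left
  have hsurj := lift_Φ_surjective D L T hLT hL hQ
  have hinj := injective_of_surjective_twist _
    (fun 𝔪 h𝔪 => comap_frobenius_eq_of_isMaximal hp 𝔪 h𝔪) _ hsurj
  let e := LinearEquiv.ofBijective (BC.lift (WittVector.frobenius : WittVector p R →+* WittVector p R)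
    (Φ D L T hLT hL)) ⟨hinj, hsurj⟩
  have he : ∀ z, e.symm (BC.lift (WittVector.frobenius : WittVector p R →+* WittVector p R)
      (Φ D L T hLT hL) z) = z := fun z => e.symm_apply_apply z
  let Vs : P →ₗ[WittVector p R] BC (WittVector.frobenius : WittVector p R →+* WittVector p R) P :=
    (BC.map (WittVector.frobenius : WittVector p R →+* WittVector p R) (mMap L T hLT)).comp
      e.symm.toLinearMap
  have hkey : ∀ q : D.Q, Vs (D.Vinv q) =
      BC.tmul (WittVector.frobenius : WittVector p R →+* WittVector p R) 1 (q : P) := by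
    refine Q_induction D L T hQ _ ?_ ?_ ?_ ?_
    · intro l hlQ hl
      have h1 : D.Vinv ⟨l, hlQ⟩ = BC.lift (WittVector.frobenius : WittVector p R →+* WittVector p R)
          (Φ D L T hLT hL) (BC.tmul _ 1 l) := by
        rw [BC.lift_tmul, one_smul, Φ_apply_L D L T hLT hL l hl]
      change BC.map _ (mMap L T hLT) (e.symm (D.Vinv ⟨l, hlQ⟩)) = _
      rw [h1, he, BC.map_tmul, mMap_apply_L L T hLT l hl]
    · intro w t h ht
      have h1 : D.Vinv ⟨WittVector.verschiebung w • t, h⟩ =
          BC.lift (WittVector.frobenius : WittVector p R →+* WittVector p R)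
          (Φ D L T hLT hL) (BC.tmul _ w t) := by
        rw [BC.lift_tmul, Φ_apply_T D L T hLT hL t ht, ← D.Vinv_verschiebung_smul w t]
      change BC.map _ (mMap L T hLT) (e.symm (D.Vinv ⟨_, h⟩)) = _
      rw [h1, he, BC.map_tmul, mMap_apply_T L T hLT t ht, ← BC.tmul_mul_apply, ← BC.tmul_mul_apply,
        map_natCast]
      change _ = BC.tmul _ (1 * WittVector.frobenius (WittVector.verschiebung w)) t
      rw [WittVector.frobenius_verschiebung, one_mul]
    · rw [map_zero, map_zero]
      exact (BC.tmul_zero _ _).symm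
    · intro a b ha hb
      rw [map_add, map_add, ha, hb, Submodule.coe_add, BC.tmul_add]
  have hVs : IsVSharp D Vs := by
    constructor
    · intro w x
      have hm : WittVector.verschiebung (1 : WittVector p R) • x ∈ D.Q :=
        D.IV_smul_le (Submodule.smul_mem_smul (verschiebung_mem_IV p R 1) Submodule.mem_top)
      have h1 := D.Vinv_verschiebung_smul 1 x
      rw [one_smul] at h1
      rw [map_smul, ← h1, hkey]
      change w • BC.tmul _ 1 (WittVector.verschiebung (1 : WittVector p R) • x) = _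
      rw [← BC.tmul_mul_apply]
      change w • BC.tmul _ (1 * WittVector.frobenius (WittVector.verschiebung (1 : WittVector p R))) x = _
      rw [WittVector.frobenius_verschiebung, BC.smul_tmul, BC.smul_tmul, one_mul, one_mul, mul_comm]
    · intro w y
      rw [map_smul, hkey, BC.smul_tmul, mul_one]
  refine ⟨Vs, hVs, fun Vs' hVs' => ?_⟩
  refine LinearMap.ext_on D.span_range_Vinv ?_
  rintro _ ⟨q, rfl⟩
  have h1 := hVs'.app_smul_Vinv 1 q
  rw [one_smul] at h1
  rw [h1, hkey]

end Groth.Agent.S16535
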