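import Groth.Statements.S16537
import Groth.Agent.Lib.Helper14Disp2
import Groth.Agent.Lib.Helper14WittFilt

set_option autoImplicit false
universe u v
open Disp

namespace Groth.Agent.S16537

open Dieu Groth.Agent.Lib.Helper14.Disp Groth.Agent.Lib.Helper14.WittFilt

section aux
variable {p : ℕ} [Fact p.Prime] {R : Type u} [CommRing R]

theorem exists_pow_mem_ker_truncate (hp : IsNilpotent (p : R)) (n : ℕ) :
    ∃ j : ℕ, (p : WittVector p R) ^ j ∈ RingHom.ker (WittVector.truncate (p := p) (R := R) n) := by
  obtain ⟨N, hN⟩ := hp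
  have hN' := natCast_pow_mem_kerCC (p := p) (R := R) hN
  induction n with
  | zero => exact ⟨0, by rw [ker_truncate_zero]; exact Submodule.mem_top⟩
  | succ n ih =>
    rcases Nat.eq_zero_or_pos n with h0 | hpos
    · subst h0
      refine ⟨N, ?_⟩
      rw [WittVector.mem_ker_truncate]
      intro i hi
      have : i = 0 := by omega
      subst this
      exact hN'
    · obtain ⟨j, hj⟩ := ih
      refine ⟨j * (N + 2), ?_⟩
      rw [pow_mul]
      exact pow_mem_ker_truncate_succ N hN' n hpos _ hj

theorem frob_mem_span_p (a : WittVector p R)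
    (ha : a ∈ W4c1extbt610.IV p R ⊔ Ideal.span {(p : WittVector p R)}) :
    (WittVector.frobenius : WittVector p R →+* WittVector p R) a ∈ Ideal.span {(p : WittVector p R)} := by
  have : W4c1extbt610.IV p R ⊔ Ideal.span {(p : WittVector p R)} ≤
      (Ideal.span {(p : WittVector p R)}).comap
        (WittVector.frobenius : WittVector p R →+* WittVector p R) := by
    refine sup_le ?_ ?_
    · rw [W4c1extbt610.IV, Ideal.span_le]
      rintro _ ⟨w, rfl⟩
      rw [SetLike.mem_coe, Ideal.mem_comap, WittVector.frobenius_verschiebung]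
      exact Ideal.mul_mem_left _ _ (Ideal.mem_span_singleton_self _)
    · rw [Ideal.span_le]
      rw [Set.singleton_subset_iff, SetLike.mem_coe, Ideal.mem_comap, map_natCast]
      exact Ideal.mem_span_singleton_self _
  exact this ha

theorem frob_span_p (a : WittVector p R) (ha : a ∈ Ideal.span {(p : WittVector p R)}) :
    (WittVector.frobenius : WittVector p R →+* WittVector p R) a ∈ Ideal.span {(p : WittVector p R)} :=
  frob_mem_span_p a (le_sup_right (a := W4c1extbt610.IV p R) ha)

theorem τ_mem_span_p (m : ℕ) (a : WittVector p R)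
    (ha : a ∈ W4c1extbt610.IV p R ⊔ Ideal.span {(p : WittVector p R)}) :
    τ (WittVector.frobenius : WittVector p R →+* WittVector p R) m a ∈
      Ideal.span {(p : WittVector p R)} := by
  induction m with
  | zero => exact frob_mem_span_p a ha
  | succ m ih => exact frob_span_p _ ih

end aux

/-- Let p be a prime and R a commutative ring in which p is nilpotent; write W = W(R) with Frobenius σ
and, for n ≥ 0, I_n ⊆ W for the kernel of the truncation W → W_n(R). Let (P, Q, F, V⁻¹) be a display
over R: a 3n-display whose operator V# : P → W ⊗_{σ,W} P (the W-linear map with V#(w·F x) = p·(w ⊗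
x) and V#(w·V⁻¹ y) = w ⊗ y) satisfies the nilpotence condition. Then for every n there is an N such
that the iterate V^{(N+1)#} : P → W ⊗_{σ^(N+1),W} P has image in I_n·(W ⊗_{σ^(N+1),W} P);
equivalently the map W_n(R) ⊗_W P → W_n(R) ⊗_{σ^(N+1),W} P induced by V^{(N+1)#} is zero. -/
theorem result (p : ℕ) [Fact p.Prime]
    (R : Type u) [CommRing R] (hp : IsNilpotent (p : R))
    (P : Type v) [AddCommGroup P] [Module (WittVector p R) P] (D : W4c1extbt610.Display3n p R P)
    (Vs : P →ₗ[WittVector p R] Dieu.BC (WittVector.frobenius : WittVector p R →+* WittVector p R) P) (hVs : Dieu.IsVSharp D Vs)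
    (hnil : Dieu.IsVNilpotent Vs) (n : ℕ) :
    ∃ N : ℕ, ∀ x : P, Dieu.vSharpPow Vs N x ∈
      (RingHom.ker (WittVector.truncate (p := p) (R := R) n)) •
        (⊤ : Submodule (WittVector p R) (Dieu.BC ((WittVector.frobenius : WittVector p R →+* WittVector p R) ^ (N + 1)) P)) := by
  obtain ⟨n₀, h₀⟩ := hnil
  have hJdef : ∃ J : Ideal (WittVector p R),
      J = W4c1extbt610.IV p R ⊔ Ideal.span {(p : WittVector p R)} := ⟨_, rfl⟩
  obtain ⟨J, hJ⟩ := hJdef
  rw [← hJ] at h₀
  have h₀' : ∀ x, iter (WittVector.frobenius : WittVector p R →+* WittVector p R) Vs n₀ x ∈ J • (⊤ : Submodule (WittVector p R) (BC (τ (WittVector.frobenius : WittVector p R →+* WittVector p R) n₀) P)) := by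
    intro x
    have := h₀ x
    rwa [vSharpPow_eq_iter, castHom_mem_smul_top_iff] at this
  have claim : ∀ j : ℕ, ∃ m : ℕ, ∀ x,
      iter (WittVector.frobenius : WittVector p R →+* WittVector p R) Vs m x ∈ (J * Ideal.span {(p : WittVector p R)} ^ j) •
        (⊤ : Submodule (WittVector p R) (BC (τ (WittVector.frobenius : WittVector p R →+* WittVector p R) m) P)) := by
    intro j
    induction j with
    | zero => exact ⟨n₀, fun x => by rw [pow_zero, mul_one]; exact h₀' x⟩
    | succ j ih =>
      obtain ⟨m, hm⟩ := ih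
      refine ⟨n₀ + (m + 1), fun x => ?_⟩
      rw [iter_add, castHom_mem_smul_top_iff, pow_succ, ← mul_assoc]
      exact inner_mem _ _ _ _ J _ h₀' (fun b hb => τ_mem_span_p m b (hJ ▸ hb)) _ (hm x)
  obtain ⟨j, hj⟩ := exists_pow_mem_ker_truncate hp n
  obtain ⟨m, hm⟩ := claim j
  refine ⟨m, fun x => ?_⟩
  rw [vSharpPow_eq_iter, castHom_mem_smul_top_iff]
  refine Submodule.smul_mono_left ?_ (hm x)
  refine Ideal.mul_le_right.trans ?_
  rw [Ideal.span_singleton_pow, Ideal.span_le]
  rintro _ rfl
  exact hj

end Groth.Agent.S16537
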