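import Groth.Statements.S16540
import Groth.Agent.Lib.Helper14Disp3

set_option autoImplicit false
universe u v
open Disp

namespace Groth.Agent.S16540

open Dieu Groth.Agent.Lib.Helper14.Disp

section aux
variable {p : ℕ} [Fact p.Prime] {S R : Type u} [CommRing S] [CommRing R] (f : S →+* R)
variable {P : Type v} [AddCommGroup P] [Module (WittVector p S) P]

local notation "φ" => (WittVector.map f : WittVector p S →+* WittVector p R)
local notation "σS" => (WittVector.frobenius : WittVector p S →+* WittVector p S)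
local notation "σR" => (WittVector.frobenius : WittVector p R →+* WittVector p R)
local notation "w₀" => (WittVector.constantCoeff : WittVector p R →+* R)

theorem hσ (a : WittVector p S) : φ (σS a) = σR (φ a) :=
  (WittVector.frobenius_isPoly p).map f a

theorem exists_verschiebung_eq (i : WittVector p R) (hi : WittVector.constantCoeff i = 0) :
    ∃ w : WittVector p R, i = WittVector.verschiebung w := by
  refine ⟨i.shift 1, ?_⟩
  have := WittVector.eq_iterate_verschiebung (x := i) (n := 1) (fun j hj => by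
    have : j = 0 := by omega
    subst this
    exact hi)
  rwa [Function.iterate_one] at this

/-- the generators of `Q_R`. -/
def gens (Q : Submodule (WittVector p S) P) : Set (BC φ P) :=
  {t | ∃ (w : WittVector p R) (y : P), y ∈ Q ∧ t = BC.tmul φ w y} ∪
    {t | ∃ (w : WittVector p R) (x : P), t = BC.tmul φ (WittVector.verschiebung w) x}

theorem exists_lift_smul (Q : Submodule (WittVector p S) P) (i : WittVector p R)
    (hi : i ∈ RingHom.ker w₀) (z' : BC φ (P ⧸ Q)) :
    ∃ q' ∈ AddSubgroup.closure (gens f Q), BC.map φ Q.mkQ q' = i • z' := by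
  induction z' using BC.induction_on φ with
  | zero => exact ⟨0, AddSubgroup.zero_mem _, by rw [map_zero, smul_zero]⟩
  | tmul b n =>
    obtain ⟨x, rfl⟩ := Submodule.mkQ_surjective Q n
    obtain ⟨w, hw⟩ := exists_verschiebung_eq (i * b)
      (by rw [map_mul, (RingHom.mem_ker).1 hi, zero_mul])
    refine ⟨BC.tmul φ (WittVector.verschiebung w) x,
      AddSubgroup.subset_closure (Or.inr ⟨w, x, rfl⟩), ?_⟩
    rw [BC.map_tmul, BC.smul_tmul, hw]
  | add z₁ z₂ h₁ h₂ =>
    obtain ⟨q₁, hq₁, e₁⟩ := h₁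
    obtain ⟨q₂, hq₂, e₂⟩ := h₂
    exact ⟨q₁ + q₂, AddSubgroup.add_mem _ hq₁ hq₂, by rw [map_add, e₁, e₂, smul_add]⟩

theorem exists_lift_of_mem_Kt (Q : Submodule (WittVector p S) P) (z : BC φ (P ⧸ Q))
    (hz : z ∈ Kt φ w₀ (P ⧸ Q)) :
    ∃ q' ∈ AddSubgroup.closure (gens f Q), BC.map φ Q.mkQ q' = z := by
  refine Submodule.smul_induction_on hz ?_ ?_
  · intro i hi z' _
    exact exists_lift_smul f Q i hi z'
  · rintro x y ⟨q₁, hq₁, e₁⟩ ⟨q₂, hq₂, e₂⟩
    exact ⟨q₁ + q₂, AddSubgroup.add_mem _ hq₁ hq₂, by rw [map_add, e₁, e₂]⟩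

theorem mem_closure_gens (Q : Submodule (WittVector p S) P) (q : BC φ P)
    (hq : bcQuotMap f Q q = 0) : q ∈ AddSubgroup.closure (gens f Q) := by
  rw [bcQuotMap, LinearMap.comp_apply] at hq
  have h1 := mem_of_push_eq_zero φ w₀ (WittVector.constantCoeff_surjective p) _ hq
  obtain ⟨q', hq', e⟩ := exists_lift_of_mem_Kt f Q _ h1
  have h2 : BC.map φ Q.mkQ (q - q') = 0 := by rw [map_sub, e, sub_self]
  have h3 := mem_closure_of_map_mkQ_eq_zero φ Q _ h2
  have h4 : q - q' ∈ AddSubgroup.closure (gens f Q) :=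
    AddSubgroup.closure_mono (Set.subset_union_left) h3
  have : q = (q - q') + q' := by abel
  rw [this]
  exact AddSubgroup.add_mem _ h4 hq'

theorem tmul_tmul (w' w : WittVector p R) (x : P) :
    BC.tmul σR w' (BC.tmul φ w x) = (w' * σR w) • BC.tmul σR 1 (BC.tmul φ 1 x) := by
  rw [BC.tmul_eq_smul_tmul_one φ w x, ← BC.tmul_mul_apply, BC.tmul_eq_smul_tmul_one σR (w' * σR w)]

theorem gens_subset (D : W4c1extbt610.Display3n p S P)
    (DR : W4c1extbt610.Display3n p R (BC φ P)) (hDR : IsDispBaseChange f D DR) :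
    gens f D.Q ⊆ DR.Q := by
  rintro t (⟨w, y, hy, rfl⟩ | ⟨w, x, rfl⟩)
  · have h0 : D.Q.mkQ y = 0 := (Submodule.Quotient.mk_eq_zero _).2 hy
    rw [SetLike.mem_coe, hDR.Q_eq, LinearMap.mem_ker, bcQuotMap_tmul, h0, BC.tmul_zero]
  · rw [SetLike.mem_coe, hDR.Q_eq, LinearMap.mem_ker, bcQuotMap_tmul]
    have : WittVector.constantCoeff (WittVector.verschiebung w) = 0 :=
      WittVector.verschiebung_coeff_zero w
    rw [this, BC.zero_tmul]

theorem isVSharp_bcVs (D : W4c1extbt610.Display3n p S P)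
    (DR : W4c1extbt610.Display3n p R (BC φ P)) (hDR : IsDispBaseChange f D DR)
    (Vs : P →ₗ[WittVector p S] BC σS P) (hVs : IsVSharp D Vs) :
    IsVSharp DR (bcVs φ σS σR (hσ f) Vs) := by
  have hF : ∀ x : P, Θ φ σS σR (RingHom.ext (hσ f)) (Vs (D.F x)) =
      (p : WittVector p R) • BC.tmul σR 1 (BC.tmul φ 1 x) := by
    intro x
    have := hVs.app_smul_F 1 x
    rw [one_smul] at this
    rw [this, (Θ φ σS σR _).map_smulₛₗ, Θ_tmul, map_natCast, map_one]
  have hVi : ∀ y : D.Q, Θ φ σS σR (RingHom.ext (hσ f)) (Vs (D.Vinv y)) =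
      BC.tmul σR 1 (BC.tmul φ 1 (y : P)) := by
    intro y
    have := hVs.app_smul_Vinv 1 y
    rw [one_smul] at this
    rw [this, Θ_tmul, map_one]
  constructor
  · intro w' z
    induction z using BC.induction_on φ with
    | zero => rw [map_zero, smul_zero, map_zero, BC.tmul_zero, smul_zero]
    | tmul w x =>
      rw [hDR.F_tmul, BC.smul_tmul, bcVs_tmul, hF, tmul_tmul f w' w x, smul_comm]
    | add z₁ z₂ h₁ h₂ =>
      rw [map_add, smul_add, map_add, h₁, h₂, BC.tmul_add, smul_add]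
  · have key : ∀ q (_ : q ∈ AddSubgroup.closure (gens f D.Q)) (hq : q ∈ DR.Q) (w' : WittVector p R),
        bcVs φ σS σR (hσ f) Vs (w' • DR.Vinv ⟨q, hq⟩) = BC.tmul σR w' q := by
      intro q hqc
      induction hqc using AddSubgroup.closure_induction with
      | mem t ht =>
        intro hq w'
        rcases ht with ⟨w, y, hy, rfl⟩ | ⟨w, x, rfl⟩
        · rw [hDR.Vinv_tmul w ⟨y, hy⟩ hq, BC.smul_tmul, bcVs_tmul, hVi, tmul_tmul f w' w y]
        · rw [hDR.Vinv_verschiebung_tmul w x hq, BC.smul_tmul, bcVs_tmul, hF,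
            tmul_tmul f w' (WittVector.verschiebung w) x]
          change _ = (w' * WittVector.frobenius (WittVector.verschiebung w)) • _
          rw [WittVector.frobenius_verschiebung, smul_smul, mul_assoc]
      | zero =>
        intro hq w'
        have : (⟨0, hq⟩ : DR.Q) = 0 := rfl
        rw [this, map_zero, smul_zero, map_zero, BC.tmul_zero]
      | add q₁ q₂ h₁ h₂ ih₁ ih₂ =>
        intro hq w'
        have hq₁ : q₁ ∈ DR.Q := (AddSubgroup.closure_le DR.Q.toAddSubgroup).2
          (gens_subset f D DR hDR) h₁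
        have hq₂ : q₂ ∈ DR.Q := (AddSubgroup.closure_le DR.Q.toAddSubgroup).2
          (gens_subset f D DR hDR) h₂
        have : (⟨q₁ + q₂, hq⟩ : DR.Q) = ⟨q₁, hq₁⟩ + ⟨q₂, hq₂⟩ := rfl
        rw [this, map_add, smul_add, map_add, ih₁ hq₁, ih₂ hq₂, BC.tmul_add]
      | neg q₁ h₁ ih₁ =>
        intro hq w'
        have hq₁ : q₁ ∈ DR.Q := (AddSubgroup.closure_le DR.Q.toAddSubgroup).2
          (gens_subset f D DR hDR) h₁
        have : (⟨-q₁, hq⟩ : DR.Q) = -⟨q₁, hq₁⟩ := rfl
        rw [this, map_neg, smul_neg, map_neg, ih₁ hq₁, BC.tmul_neg]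
    intro w' q
    have hq : (q : BC φ P) ∈ LinearMap.ker (bcQuotMap f D.Q) := hDR.Q_eq ▸ q.2
    exact key q (mem_closure_gens f D.Q q (LinearMap.mem_ker.1 hq)) q.2 w'

theorem map_mem_J (a : WittVector p S)
    (ha : a ∈ W4c1extbt610.IV p S ⊔ Ideal.span {(p : WittVector p S)}) :
    φ a ∈ W4c1extbt610.IV p R ⊔ Ideal.span {(p : WittVector p R)} := by
  have : W4c1extbt610.IV p S ⊔ Ideal.span {(p : WittVector p S)} ≤
      (W4c1extbt610.IV p R ⊔ Ideal.span {(p : WittVector p R)}).comap φ := by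
    refine sup_le ?_ ?_
    · rw [W4c1extbt610.IV, Ideal.span_le]
      rintro _ ⟨w, rfl⟩
      rw [SetLike.mem_coe, Ideal.mem_comap]
      change WittVector.map f (WittVector.verschiebung w) ∈ _
      rw [WittVector.map_verschiebung]
      exact Ideal.mem_sup_left (W4c1extbt610.verschiebung_mem_IV p R _)
    · rw [Ideal.span_le, Set.singleton_subset_iff, SetLike.mem_coe, Ideal.mem_comap, map_natCast]
      exact Ideal.mem_sup_right (Ideal.mem_span_singleton_self _)
  exact this ha

end aux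

/-- Let p be a prime, S a commutative ring in which p is nilpotent, f : S → R a homomorphism of
commutative rings, and (P, Q, F, V⁻¹) a display over S, that is, a 3n-display whose operator V#
satisfies the nilpotence condition. Let (P_R, Q_R, F_R, V_R⁻¹) be a 3n-display structure on P_R =
W(R) ⊗_{W(S)} P which is the base change of (P, Q, F, V⁻¹) along f (Q_R the kernel of P_R → R ⊗_S
(P/Q), F_R(w ⊗ x) = σ(w) ⊗ F x, V_R⁻¹(w ⊗ y) = σ(w) ⊗ V⁻¹ y for y ∈ Q, V_R⁻¹(V(w) ⊗ x) = w ⊗ F x).
Then (P_R, Q_R, F_R, V_R⁻¹) is a display over R. -/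
theorem result (p : ℕ) [Fact p.Prime] (S R : Type u) [CommRing S] [CommRing R]
    (hp : IsNilpotent (p : S)) (f : S →+* R)
    (P : Type v) [AddCommGroup P] [Module (WittVector p S) P] (D : W4c1extbt610.Display3n p S P)
    (hD : Dieu.IsDisplay D)
    (DR : W4c1extbt610.Display3n p R (Dieu.BC (WittVector.map f : WittVector p S →+* WittVector p R) P)) (hDR : Dieu.IsDispBaseChange f D DR) :
    Dieu.IsDisplay DR := by
  obtain ⟨Vs, hVs, n₀, h₀⟩ := hD
  refine ⟨bcVs _ _ _ (hσ f) Vs, isVSharp_bcVs f D DR hDR Vs hVs, n₀, fun z => ?_⟩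
  rw [vSharpPow_eq_iter, castHom_mem_smul_top_iff]
  induction z using BC.induction_on (WittVector.map f : WittVector p S →+* WittVector p R) with
  | zero => rw [map_zero]; exact Submodule.zero_mem _
  | tmul w x =>
    rw [iter_bcVs]
    refine Submodule.smul_mem _ _ (Θ_mem _ _ _ _ _ _ (fun a ha => map_mem_J f a ha) _ ?_)
    have := h₀ x
    rwa [vSharpPow_eq_iter, castHom_mem_smul_top_iff] at this
  | add z₁ z₂ h₁ h₂ => rw [map_add]; exact Submodule.add_mem _ h₁ h₂

end Groth.Agent.S16540
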