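import Groth.Statements.S16538
import Groth.Agent.Lib.Helper14Disp5
import Groth.Agent.S16540

set_option autoImplicit false
universe u v
open Disp

namespace Groth.Agent.S16538

open Dieu TensorProduct
open Groth.Agent.Lib.Helper14.Disp Groth.Agent.S16540

section aux
variable {p : ℕ} [Fact p.Prime] {S R : Type u} [CommRing S] [CommRing R] (f : S →+* R)
variable {P : Type v} [AddCommGroup P] [Module (WittVector p S) P]

local notation "φ" => (WittVector.map f : WittVector p S →+* WittVector p R)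
local notation "σS" => (WittVector.frobenius : WittVector p S →+* WittVector p S)
local notation "σR" => (WittVector.frobenius : WittVector p R →+* WittVector p R)
local notation "VR" => (WittVector.verschiebung : WittVector p R →+ WittVector p R)
local notation "σφ" => (RingHom.comp (WittVector.frobenius : WittVector p R →+* WittVector p R)
  (WittVector.map f : WittVector p S →+* WittVector p R))
local notation "w₀" => (WittVector.constantCoeff : WittVector p R →+* R)

theorem hv (b c : WittVector p R) : VR (b * σR c) = VR b * c :=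
  WittVector.verschiebung_mul_frobenius b c

/-- every element of `I_R` is a Verschiebung. -/
theorem exists_eq_verschiebung_of_mem_IV {T : Type u} [CommRing T] (i : WittVector p T)
    (hi : i ∈ W4c1extbt610.IV p T) : ∃ a : WittVector p T, i = WittVector.verschiebung a := by
  apply exists_verschiebung_eq
  have : W4c1extbt610.IV p T ≤ RingHom.ker (WittVector.constantCoeff : WittVector p T →+* T) := by
    rw [W4c1extbt610.IV, Ideal.span_le]
    rintro _ ⟨w, rfl⟩
    exact WittVector.verschiebung_coeff_zero w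
  exact this hi

theorem map_mem_IV (i : WittVector p S) (hi : i ∈ W4c1extbt610.IV p S) :
    φ i ∈ W4c1extbt610.IV p R := by
  obtain ⟨a, rfl⟩ := exists_eq_verschiebung_of_mem_IV i hi
  change WittVector.map f (WittVector.verschiebung a) ∈ _
  rw [WittVector.map_verschiebung]
  exact W4c1extbt610.verschiebung_mem_IV p R _

/-- the submodule `Q_R`. -/
noncomputable def QR (Q : Submodule (WittVector p S) P) : Submodule (WittVector p R) (BC φ P) :=
  LinearMap.ker (bcQuotMap f Q)

theorem IV_smul_le_QR (Q : Submodule (WittVector p S) P) :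
    W4c1extbt610.IV p R • (⊤ : Submodule (WittVector p R) (BC φ P)) ≤ QR f Q := by
  rw [Submodule.smul_le]
  intro i hi z _
  obtain ⟨a, rfl⟩ := exists_eq_verschiebung_of_mem_IV i hi
  rw [QR, LinearMap.mem_ker, (bcQuotMap f Q).map_smulₛₗ]
  have : w₀ (WittVector.verschiebung a) = 0 := WittVector.verschiebung_coeff_zero a
  rw [this, zero_smul]

theorem mem_QR_iff (Q : Submodule (WittVector p S) P) (z : BC φ P) :
    z ∈ QR f Q ↔ z ∈ AddSubgroup.closure (gens f Q) := by
  constructor
  · intro hz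
    exact mem_closure_gens f Q z (LinearMap.mem_ker.1 hz)
  · intro hz
    refine (AddSubgroup.closure_le (QR f Q).toAddSubgroup).2 ?_ hz
    rintro t (⟨w, y, hy, rfl⟩ | ⟨w, x, rfl⟩)
    · have h0 : Q.mkQ y = 0 := (Submodule.Quotient.mk_eq_zero _).2 hy
      change _ ∈ QR f Q
      rw [QR, LinearMap.mem_ker, bcQuotMap_tmul, h0, BC.tmul_zero]
    · change _ ∈ QR f Q
      rw [QR, LinearMap.mem_ker, bcQuotMap_tmul]
      have : WittVector.constantCoeff (WittVector.verschiebung w) = 0 :=
        WittVector.verschiebung_coeff_zero w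
      rw [this, BC.zero_tmul]

section decomp
variable (D : W4c1extbt610.Display3n p S P) (L T : Submodule (WittVector p S) P)
  (hLT : IsCompl L T) (hQ : D.Q = L ⊔ W4c1extbt610.IV p S • T)

include hQ in
theorem L_le_Q : L ≤ D.Q := hQ ▸ le_sup_left

/-- projection onto `L`. -/
noncomputable def πL : P →ₗ[WittVector p S] P := L.projection T hLT
/-- projection onto `T`. -/
noncomputable def πT : P →ₗ[WittVector p S] P := T.projection L hLT.symm

theorem πL_add_πT (x : P) : πL L T hLT x + πT L T hLT x = x :=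
  Submodule.projection_add_projection_eq_self hLT x

theorem πL_mem (x : P) : πL L T hLT x ∈ L := Submodule.projection_apply_mem hLT x
theorem πT_mem (x : P) : πT L T hLT x ∈ T := Submodule.projection_apply_mem hLT.symm x

theorem πL_of_mem {x : P} (hx : x ∈ L) : πL L T hLT x = x :=
  (Submodule.projection_eq_self_iff hLT x).2 hx
theorem πT_of_mem {x : P} (hx : x ∈ T) : πT L T hLT x = x :=
  (Submodule.projection_eq_self_iff hLT.symm x).2 hx
theorem πL_of_mem_T {x : P} (hx : x ∈ T) : πL L T hLT x = 0 :=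
  (Submodule.projection_apply_eq_zero_iff hLT).2 hx
theorem πT_of_mem_L {x : P} (hx : x ∈ L) : πT L T hLT x = 0 :=
  (Submodule.projection_apply_eq_zero_iff hLT.symm).2 hx

/-- projection onto `L`, as a map to `Q`. -/
noncomputable def qL : P →ₗ[WittVector p S] D.Q :=
  LinearMap.codRestrict D.Q (πL L T hLT) (fun x => L_le_Q D L T hQ (πL_mem L T hLT x))

theorem qL_coe (x : P) : (qL D L T hLT hQ x : P) = πL L T hLT x := rfl

include hQ in
theorem πT_mem_of_mem_Q {y : P} (hy : y ∈ D.Q) :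
    πT L T hLT y ∈ W4c1extbt610.IV p S • T := by
  rw [hQ] at hy
  obtain ⟨l, hl, t', ht', rfl⟩ := Submodule.mem_sup.1 hy
  rw [map_add, πT_of_mem_L L T hLT hl, zero_add, πT_of_mem L T hLT (Submodule.smul_le_right ht')]
  exact ht'

theorem F_eq_p_smul_Vinv (q : D.Q) : D.F (q : P) = (p : WittVector p S) • D.Vinv q := by
  have h1 := D.Vinv_verschiebung_smul 1 (q : P)
  rw [one_smul] at h1
  rw [← h1]
  have h2 : (⟨WittVector.verschiebung (1 : WittVector p S) • (q : P),
      D.IV_smul_le (Submodule.smul_mem_smul (W4c1extbt610.verschiebung_mem_IV p S 1)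
        Submodule.mem_top)⟩ : D.Q) = WittVector.verschiebung (1 : WittVector p S) • q := rfl
  rw [h2, D.Vinv.map_smulₛₗ]
  change WittVector.frobenius (WittVector.verschiebung (1 : WittVector p S)) • _ = _
  rw [WittVector.frobenius_verschiebung, one_mul]

end decomp

section sec
variable (P)

/-- `V ⊗ 1` for Witt vectors. -/
noncomputable def vTR : BC (σφ) P →+ BC φ P := vT φ σR P VR hv

variable {P}

theorem vTR_tmul (w : WittVector p R) (x : P) :
    vTR f P (BC.tmul (σφ) w x) = BC.tmul φ (WittVector.verschiebung w) x := rfl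

theorem vTR_smul (c : WittVector p R) (u : BC (σφ) P) :
    vTR f P (σR c • u) = c • vTR f P u := vT_smul φ σR VR hv c u

theorem tmul_verschiebung_smul (a : WittVector p S) (w : WittVector p R) (x : P) :
    BC.tmul φ w (WittVector.verschiebung a • x) =
      vTR f P (BC.tmul (σφ) (φ a * σR w) x) := by
  rw [vTR_tmul, ← BC.tmul_mul_apply]
  change BC.tmul φ (w * WittVector.map f (WittVector.verschiebung a)) x = _
  rw [WittVector.map_verschiebung, mul_comm, ← hv]

theorem smul_mem_range (c : WittVector p R) {v : BC φ P} (h : v ∈ (vTR f P).range) :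
    c • v ∈ (vTR f P).range := by
  obtain ⟨u, rfl⟩ := h
  exact ⟨σR c • u, vTR_smul f c u⟩

/-- `w ⊗ t'` lies in the range of `V ⊗ 1` for `t' ∈ I_S P`. -/
theorem tmul_mem_range (w : WittVector p R) (t' : P)
    (ht : t' ∈ W4c1extbt610.IV p S • (⊤ : Submodule (WittVector p S) P)) :
    BC.tmul φ w t' ∈ (vTR f P).range := by
  refine Submodule.smul_induction_on ht ?_ ?_
  · intro i hi x _
    obtain ⟨a, rfl⟩ := exists_eq_verschiebung_of_mem_IV i hi
    exact ⟨_, (tmul_verschiebung_smul f a w x).symm⟩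
  · intro x y hx hy
    rw [BC.tmul_add]
    exact AddSubgroup.add_mem _ hx hy

variable [Module.Flat (WittVector p S) P]

theorem vTR_injective : Function.Injective (vTR (p := p) f P) :=
  vT_injective (A := WittVector p S) (P := P) φ σR VR hv (WittVector.verschiebung_injective p R)


variable (P) in
/-- a set-theoretic inverse of `V ⊗ 1`. -/
noncomputable def sec : BC φ P → BC (σφ) P := Function.invFun (vTR f P)

theorem sec_vTR (u : BC (σφ) P) : sec f P (vTR f P u) = u :=
  Function.leftInverse_invFun (vTR_injective f) u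

theorem sec_add {v₁ v₂ : BC φ P} (h₁ : v₁ ∈ (vTR f P).range) (h₂ : v₂ ∈ (vTR f P).range) :
    sec f P (v₁ + v₂) = sec f P v₁ + sec f P v₂ := by
  obtain ⟨u₁, rfl⟩ := h₁
  obtain ⟨u₂, rfl⟩ := h₂
  rw [← map_add, sec_vTR, sec_vTR, sec_vTR]

theorem sec_smul (c : WittVector p R) {v : BC φ P} (h : v ∈ (vTR f P).range) :
    sec f P (c • v) = σR c • sec f P v := by
  obtain ⟨u, rfl⟩ := h
  rw [← vTR_smul, sec_vTR, sec_vTR]

end sec

section vinv
variable (D : W4c1extbt610.Display3n p S P) (L T : Submodule (WittVector p S) P)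
  (hLT : IsCompl L T) (hQ : D.Q = L ⊔ W4c1extbt610.IV p S • T)
variable [Module.Flat (WittVector p S) P]

/-- `V_R⁻¹` as a function on all of `P_R` (meaningful on `Q_R`). -/
noncomputable def VinvFun (z : BC φ P) : BC φ P :=
  twLift φ σS σR (hσ f) D.Vinv (BC.map φ (qL D L T hLT hQ) z) +
    gam φ σS σR (hσ f) D.F (sec f P (BC.map φ (πT L T hLT) z))

omit [Module.Flat (WittVector p S) P] in
include hQ in
theorem map_πT_mem_range (z : BC φ P) (hz : z ∈ QR f D.Q) :
    BC.map φ (πT L T hLT) z ∈ (vTR f P).range := by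
  rw [mem_QR_iff] at hz
  refine (AddSubgroup.closure_le ((vTR f P).range.comap
    (BC.map φ (πT L T hLT)).toAddMonoidHom)).2 ?_ hz
  rintro t (⟨w, y, hy, rfl⟩ | ⟨w, x, rfl⟩)
  · show BC.map φ (πT L T hLT) (BC.tmul φ w y) ∈ (vTR f P).range
    rw [BC.map_tmul]
    exact tmul_mem_range f w _
      (Submodule.smul_mono le_rfl le_top (πT_mem_of_mem_Q D L T hLT hQ hy))
  · show BC.map φ (πT L T hLT) (BC.tmul φ (WittVector.verschiebung w) x) ∈ (vTR f P).range
    rw [BC.map_tmul]
    exact ⟨_, vTR_tmul f w _⟩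

theorem VinvFun_add (z₁ z₂ : BC φ P) (h₁ : z₁ ∈ QR f D.Q) (h₂ : z₂ ∈ QR f D.Q) :
    VinvFun f D L T hLT hQ (z₁ + z₂) = VinvFun f D L T hLT hQ z₁ + VinvFun f D L T hLT hQ z₂ := by
  unfold VinvFun
  rw [map_add, map_add, map_add,
    sec_add f (map_πT_mem_range f D L T hLT hQ z₁ h₁) (map_πT_mem_range f D L T hLT hQ z₂ h₂),
    map_add]
  abel

theorem VinvFun_smul (c : WittVector p R) (z : BC φ P) (h : z ∈ QR f D.Q) :
    VinvFun f D L T hLT hQ (c • z) = σR c • VinvFun f D L T hLT hQ z := by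
  unfold VinvFun
  rw [(BC.map φ (qL D L T hLT hQ)).map_smul, (BC.map φ (πT L T hLT)).map_smul,
    (twLift φ σS σR (hσ f) D.Vinv).map_smulₛₗ,
    sec_smul f c (map_πT_mem_range f D L T hLT hQ z h), map_smul, smul_add]

theorem gam_sec_tmul (w : WittVector p R) (t' : P)
    (ht : t' ∈ W4c1extbt610.IV p S • (⊤ : Submodule (WittVector p S) P)) :
    ∀ (hq : t' ∈ D.Q), gam φ σS σR (hσ f) D.F (sec f P (BC.tmul φ w t')) =
      BC.tmul φ (σR w) (D.Vinv ⟨t', hq⟩) := by
  refine Submodule.smul_induction_on' (p := fun t' _ => ∀ (hq : t' ∈ D.Q),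
    gam φ σS σR (hσ f) D.F (sec f P (BC.tmul φ w t')) =
      BC.tmul φ (σR w) (D.Vinv ⟨t', hq⟩)) ht ?_ ?_
  · intro i hi x _ hq
    obtain ⟨a, rfl⟩ := exists_eq_verschiebung_of_mem_IV i hi
    rw [tmul_verschiebung_smul, sec_vTR, gam_tmul]
    have h := D.Vinv_verschiebung_smul a x
    rw [h, mul_comm, BC.tmul_mul_apply]
  · intro x hx y hy ihx ihy hq
    have hx' : x ∈ D.Q := D.IV_smul_le hx
    have hy' : y ∈ D.Q := D.IV_smul_le hy
    have : (⟨x + y, hq⟩ : D.Q) = ⟨x, hx'⟩ + ⟨y, hy'⟩ := rfl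
    rw [this, map_add, BC.tmul_add, BC.tmul_add,
      sec_add f (tmul_mem_range f w x hx) (tmul_mem_range f w y hy), map_add, ihx hx', ihy hy']

theorem VinvFun_tmul (w : WittVector p R) (y : D.Q) :
    VinvFun f D L T hLT hQ (BC.tmul φ w (y : P)) = BC.tmul φ (σR w) (D.Vinv y) := by
  unfold VinvFun
  rw [BC.map_tmul, BC.map_tmul, twLift_tmul]
  have h1 := πT_mem_of_mem_Q D L T hLT hQ y.2
  have h2 : πT L T hLT y ∈ W4c1extbt610.IV p S • (⊤ : Submodule (WittVector p S) P) :=
    Submodule.smul_mono le_rfl le_top h1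
  have h3 : πT L T hLT y ∈ D.Q := D.IV_smul_le h2
  rw [gam_sec_tmul f D w _ h2 h3, ← BC.tmul_add, ← map_add]
  congr 2
  apply Subtype.ext
  exact πL_add_πT L T hLT y

theorem VinvFun_verschiebung_tmul (w : WittVector p R) (x : P) :
    VinvFun f D L T hLT hQ (BC.tmul φ (WittVector.verschiebung w) x) = BC.tmul φ w (D.F x) := by
  unfold VinvFun
  rw [BC.map_tmul, BC.map_tmul, twLift_tmul, ← vTR_tmul, sec_vTR, gam_tmul,
    WittVector.frobenius_verschiebung]
  have : (p : WittVector p R) = φ (p : WittVector p S) := (map_natCast φ p).symm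
  rw [this, BC.tmul_mul_apply, ← F_eq_p_smul_Vinv, ← BC.tmul_add, ← map_add, qL_coe, πL_add_πT]

end vinv

section normal
variable (D : W4c1extbt610.Display3n p S P) (L T : Submodule (WittVector p S) P)
  (hLT : IsCompl L T) (hQ : D.Q = L ⊔ W4c1extbt610.IV p S • T)

/-- projection of `P_R` onto `L_R`. -/
noncomputable def PrL : BC φ P →ₗ[WittVector p R] BC φ P := BC.map φ (πL L T hLT)
/-- projection of `P_R` onto `T_R`. -/
noncomputable def PrT : BC φ P →ₗ[WittVector p R] BC φ P := BC.map φ (πT L T hLT)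

theorem PrL_tmul (w : WittVector p R) (x : P) :
    PrL f L T hLT (BC.tmul φ w x) = BC.tmul φ w (πL L T hLT x) := BC.map_tmul _ _ _ _
theorem PrT_tmul (w : WittVector p R) (x : P) :
    PrT f L T hLT (BC.tmul φ w x) = BC.tmul φ w (πT L T hLT x) := BC.map_tmul _ _ _ _

theorem PrL_add_PrT (z : BC φ P) : PrL f L T hLT z + PrT f L T hLT z = z := by
  induction z using BC.induction_on φ with
  | zero => rw [map_zero, map_zero, add_zero]
  | tmul w x => rw [PrL_tmul, PrT_tmul, ← BC.tmul_add, πL_add_πT]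
  | add z₁ z₂ h₁ h₂ =>
    rw [map_add, map_add, add_add_add_comm, h₁, h₂]

theorem PrL_PrT (z : BC φ P) : PrL f L T hLT (PrT f L T hLT z) = 0 := by
  induction z using BC.induction_on φ with
  | zero => rw [map_zero, map_zero]
  | tmul w x => rw [PrT_tmul, PrL_tmul, πL_of_mem_T L T hLT (πT_mem L T hLT x), BC.tmul_zero]
  | add z₁ z₂ h₁ h₂ => rw [map_add, map_add, h₁, h₂, add_zero]

theorem PrT_PrL (z : BC φ P) : PrT f L T hLT (PrL f L T hLT z) = 0 := by
  induction z using BC.induction_on φ with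
  | zero => rw [map_zero, map_zero]
  | tmul w x => rw [PrL_tmul, PrT_tmul, πT_of_mem_L L T hLT (πL_mem L T hLT x), BC.tmul_zero]
  | add z₁ z₂ h₁ h₂ => rw [map_add, map_add, h₁, h₂, add_zero]

theorem isCompl_range :
    IsCompl (LinearMap.range (PrL f L T hLT)) (LinearMap.range (PrT f L T hLT)) := by
  constructor
  · rw [Submodule.disjoint_def]
    rintro z ⟨a, rfl⟩ ⟨b, hb⟩
    have h1 := PrL_add_PrT f L T hLT (PrL f L T hLT a)
    rw [PrT_PrL, add_zero] at h1
    calc PrL f L T hLT a = PrL f L T hLT (PrL f L T hLT a) := h1.symm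
      _ = PrL f L T hLT (PrT f L T hLT b) := by rw [hb]
      _ = 0 := PrL_PrT f L T hLT b
  · rw [codisjoint_iff, eq_top_iff]
    intro z _
    rw [← PrL_add_PrT f L T hLT z]
    exact Submodule.add_mem_sup ⟨z, rfl⟩ ⟨z, rfl⟩

theorem tmul_mem_IV_smul_range (w : WittVector p R) (t' : P)
    (ht : t' ∈ W4c1extbt610.IV p S • T) :
    BC.tmul φ w t' ∈ W4c1extbt610.IV p R • LinearMap.range (PrT f L T hLT) := by
  refine Submodule.smul_induction_on ht ?_ ?_
  · intro i hi t ht
    have h1 : BC.tmul φ w (i • t) = φ i • BC.tmul φ w t := by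
      rw [← BC.tmul_mul_apply, BC.smul_tmul, mul_comm]
    rw [h1]
    refine Submodule.smul_mem_smul (map_mem_IV f i hi) ⟨BC.tmul φ w t, ?_⟩
    rw [PrT_tmul, πT_of_mem L T hLT ht]
  · intro x y hx hy
    rw [BC.tmul_add]
    exact Submodule.add_mem _ hx hy

include hQ in
theorem QR_eq : QR f D.Q =
    LinearMap.range (PrL f L T hLT) ⊔ W4c1extbt610.IV p R • LinearMap.range (PrT f L T hLT) := by
  apply le_antisymm
  · intro z hz
    rw [mem_QR_iff] at hz
    refine (AddSubgroup.closure_le (LinearMap.range (PrL f L T hLT) ⊔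
      W4c1extbt610.IV p R • LinearMap.range (PrT f L T hLT)).toAddSubgroup).2 ?_ hz
    rintro t (⟨w, y, hy, rfl⟩ | ⟨w, x, rfl⟩)
    · show BC.tmul φ w y ∈ LinearMap.range (PrL f L T hLT) ⊔
        W4c1extbt610.IV p R • LinearMap.range (PrT f L T hLT)
      rw [← πL_add_πT L T hLT y, BC.tmul_add]
      refine Submodule.add_mem_sup ⟨BC.tmul φ w y, PrL_tmul f L T hLT w y⟩ ?_
      exact tmul_mem_IV_smul_range f L T hLT w _ (πT_mem_of_mem_Q D L T hLT hQ hy)
    · show BC.tmul φ (WittVector.verschiebung w) x ∈ LinearMap.range (PrL f L T hLT) ⊔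
        W4c1extbt610.IV p R • LinearMap.range (PrT f L T hLT)
      rw [← πL_add_πT L T hLT x, BC.tmul_add]
      refine Submodule.add_mem_sup ⟨BC.tmul φ (WittVector.verschiebung w) x,
        PrL_tmul f L T hLT _ x⟩ ?_
      rw [BC.tmul_eq_smul_tmul_one]
      exact Submodule.smul_mem_smul (W4c1extbt610.verschiebung_mem_IV p R w)
        ⟨BC.tmul φ 1 x, PrT_tmul f L T hLT 1 x⟩
  · refine sup_le ?_ ((Submodule.smul_mono le_rfl le_top).trans (IV_smul_le_QR f D.Q))
    rintro _ ⟨a, rfl⟩
    induction a using BC.induction_on φ with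
    | zero => rw [map_zero]; exact Submodule.zero_mem _
    | tmul w x =>
      have h0 : D.Q.mkQ (πL L T hLT x) = 0 :=
        (Submodule.Quotient.mk_eq_zero _).2 (L_le_Q D L T hQ (πL_mem L T hLT x))
      rw [PrL_tmul, QR, LinearMap.mem_ker, bcQuotMap_tmul, h0, BC.tmul_zero]
    | add z₁ z₂ h₁ h₂ => rw [map_add]; exact Submodule.add_mem _ h₁ h₂

end normal

section build
variable (D : W4c1extbt610.Display3n p S P) (L T : Submodule (WittVector p S) P)
  (hLT : IsCompl L T) (hQ : D.Q = L ⊔ W4c1extbt610.IV p S • T)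

include D in
theorem flat_of_display : Module.Flat (WittVector p S) P :=
  haveI := D.projective
  Module.Flat.of_projective

theorem tmul_one_mem_QR (y : P) (hy : y ∈ D.Q) : BC.tmul φ 1 y ∈ QR f D.Q :=
  (mem_QR_iff f D.Q _).2 (AddSubgroup.subset_closure (Or.inl ⟨1, y, hy, rfl⟩))

theorem verschiebung_smul_mem_QR (w : WittVector p R) (z : BC φ P) :
    (WittVector.verschiebung w) • z ∈ QR f D.Q :=
  IV_smul_le_QR f D.Q (Submodule.smul_mem_smul (W4c1extbt610.verschiebung_mem_IV p R w)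
    Submodule.mem_top)

/-- `V_R⁻¹`. -/
noncomputable def VinvR : QR f D.Q →ₛₗ[σR] BC φ P :=
  haveI := flat_of_display D
  { toFun := fun z => VinvFun f D L T hLT hQ z.1
    map_add' := fun z₁ z₂ => VinvFun_add f D L T hLT hQ z₁.1 z₂.1 z₁.2 z₂.2
    map_smul' := fun c z => VinvFun_smul f D L T hLT hQ c z.1 z.2 }

theorem VinvR_apply (z : QR f D.Q) :
    VinvR f D L T hLT hQ z =
      haveI := flat_of_display D
      VinvFun f D L T hLT hQ z.1 := rfl

theorem VinvFun_verschiebung_smul [Module.Flat (WittVector p S) P] (w : WittVector p R)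
    (z : BC φ P) :
    VinvFun f D L T hLT hQ ((WittVector.verschiebung w) • z) =
      w • twLift φ σS σR (hσ f) D.F z := by
  induction z using BC.induction_on φ with
  | zero =>
    have h := VinvFun_verschiebung_tmul f D L T hLT hQ (0 : WittVector p R) (0 : P)
    rw [BC.tmul_zero, map_zero, BC.tmul_zero] at h
    rw [smul_zero, h, map_zero, smul_zero]
  | tmul b x =>
    rw [BC.smul_tmul, twLift_tmul, BC.smul_tmul, ← VinvFun_verschiebung_tmul f D L T hLT hQ]
    congr 2
    exact (hv w b).symm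
  | add z₁ z₂ h₁ h₂ =>
    rw [smul_add, VinvFun_add f D L T hLT hQ _ _ (verschiebung_smul_mem_QR f D w z₁)
      (verschiebung_smul_mem_QR f D w z₂), h₁, h₂, map_add, smul_add]

/-- the base change of `D` along `f`, built from a normal decomposition. -/
noncomputable def DRof : W4c1extbt610.Display3n p R (BC φ P) where
  Q := QR f D.Q
  F := twLift φ σS σR (hσ f) D.F
  Vinv := VinvR f D L T hLT hQ
  finite := haveI := D.finite; bc_finite φ
  projective := haveI := D.projective; bc_projective φ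
  IV_smul_le := IV_smul_le_QR f D.Q
  exists_normal := ⟨_, _, isCompl_range f L T hLT, QR_eq f D L T hLT hQ⟩
  span_range_Vinv := by
    rw [eq_top_iff, ← bc_span_tmul_one φ _ D.span_range_Vinv]
    refine Submodule.span_mono ?_
    rintro _ ⟨_, ⟨y, rfl⟩, rfl⟩
    refine ⟨⟨BC.tmul φ 1 (y : P), tmul_one_mem_QR f D y y.2⟩, ?_⟩
    haveI := flat_of_display D
    show VinvFun f D L T hLT hQ (BC.tmul φ 1 (y : P)) = BC.tmul φ 1 (D.Vinv y)
    rw [VinvFun_tmul, map_one]
  Vinv_verschiebung_smul := by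
    intro w z
    haveI := flat_of_display D
    exact VinvFun_verschiebung_smul f D L T hLT hQ w z

theorem isDispBaseChange_DRof : IsDispBaseChange f D (DRof f D L T hLT hQ) where
  Q_eq := rfl
  F_tmul := fun w x => twLift_tmul φ σS σR (hσ f) D.F w x
  Vinv_tmul := fun w y h => by
    haveI := flat_of_display D
    exact VinvFun_tmul f D L T hLT hQ w y
  Vinv_verschiebung_tmul := fun w x h => by
    haveI := flat_of_display D
    exact VinvFun_verschiebung_tmul f D L T hLT hQ w x

end build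

section uniq
variable (D : W4c1extbt610.Display3n p S P)

theorem Vinv_eq_of_isDispBaseChange (DR DR' : W4c1extbt610.Display3n p R (BC φ P))
    (h : IsDispBaseChange f D DR) (h' : IsDispBaseChange f D DR') :
    ∀ z (_ : z ∈ AddSubgroup.closure (gens f D.Q)) (hz : z ∈ DR.Q) (hz' : z ∈ DR'.Q),
      DR.Vinv ⟨z, hz⟩ = DR'.Vinv ⟨z, hz'⟩ := by
  intro z hzc
  induction hzc using AddSubgroup.closure_induction with
  | mem t ht =>
    intro hz hz'
    rcases ht with ⟨w, y, hy, rfl⟩ | ⟨w, x, rfl⟩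
    · rw [h.Vinv_tmul w ⟨y, hy⟩ hz, h'.Vinv_tmul w ⟨y, hy⟩ hz']
    · rw [h.Vinv_verschiebung_tmul w x hz, h'.Vinv_verschiebung_tmul w x hz']
  | zero =>
    intro hz hz'
    have e1 : (⟨0, hz⟩ : DR.Q) = 0 := rfl
    have e2 : (⟨0, hz'⟩ : DR'.Q) = 0 := rfl
    rw [e1, e2, map_zero, map_zero]
  | add q₁ q₂ h₁ h₂ ih₁ ih₂ =>
    intro hz hz'
    have a1 : q₁ ∈ DR.Q := (AddSubgroup.closure_le DR.Q.toAddSubgroup).2 (gens_subset f D DR h) h₁
    have a2 : q₂ ∈ DR.Q := (AddSubgroup.closure_le DR.Q.toAddSubgroup).2 (gens_subset f D DR h) h₂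
    have b1 : q₁ ∈ DR'.Q :=
      (AddSubgroup.closure_le DR'.Q.toAddSubgroup).2 (gens_subset f D DR' h') h₁
    have b2 : q₂ ∈ DR'.Q :=
      (AddSubgroup.closure_le DR'.Q.toAddSubgroup).2 (gens_subset f D DR' h') h₂
    have e1 : (⟨q₁ + q₂, hz⟩ : DR.Q) = ⟨q₁, a1⟩ + ⟨q₂, a2⟩ := rfl
    have e2 : (⟨q₁ + q₂, hz'⟩ : DR'.Q) = ⟨q₁, b1⟩ + ⟨q₂, b2⟩ := rfl
    rw [e1, e2, map_add, map_add, ih₁ a1 b1, ih₂ a2 b2]
  | neg q₁ h₁ ih₁ =>
    intro hz hz'
    have a1 : q₁ ∈ DR.Q := (AddSubgroup.closure_le DR.Q.toAddSubgroup).2 (gens_subset f D DR h) h₁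
    have b1 : q₁ ∈ DR'.Q :=
      (AddSubgroup.closure_le DR'.Q.toAddSubgroup).2 (gens_subset f D DR' h') h₁
    have e1 : (⟨-q₁, hz⟩ : DR.Q) = -⟨q₁, a1⟩ := rfl
    have e2 : (⟨-q₁, hz'⟩ : DR'.Q) = -⟨q₁, b1⟩ := rfl
    rw [e1, e2, map_neg, map_neg, ih₁ a1 b1]

theorem eq_of_isDispBaseChange (DR DR' : W4c1extbt610.Display3n p R (BC φ P))
    (h : IsDispBaseChange f D DR) (h' : IsDispBaseChange f D DR') : DR = DR' := by
  have hQ : DR.Q = DR'.Q := h.Q_eq.trans h'.Q_eq.symm
  have hF : DR.F = DR'.F := by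
    apply LinearMap.ext
    intro z
    induction z using BC.induction_on φ with
    | zero => rw [map_zero, map_zero]
    | tmul w x => rw [h.F_tmul, h'.F_tmul]
    | add z₁ z₂ h₁ h₂ => rw [map_add, map_add, h₁, h₂]
  have hV := Vinv_eq_of_isDispBaseChange f D DR DR' h h'
  have hmem : ∀ z, z ∈ DR.Q → z ∈ AddSubgroup.closure (gens f D.Q) := by
    intro z hz
    rw [h.Q_eq] at hz
    exact mem_closure_gens f D.Q z (LinearMap.mem_ker.1 hz)
  obtain ⟨Q, F, Vinv, _, _, _, _, _, _⟩ := DR
  obtain ⟨Q', F', Vinv', _, _, _, _, _, _⟩ := DR'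
  simp only at hQ hF hV hmem
  subst hQ
  subst hF
  have : Vinv = Vinv' := by
    apply LinearMap.ext
    rintro ⟨z, hz⟩
    exact hV z (hmem z hz) hz hz
  subst this
  rfl

end uniq

end aux

/-- Let p be a prime, S a commutative ring in which every prime number other than p is a unit, f : S → R
a homomorphism of commutative rings, and (P, Q, F, V⁻¹) a 3n-display over S; write σ for the
Frobenius and V for the Verschiebung of the Witt rings. On the W(R)-module P_R = W(R) ⊗_{W(S)} P
there is exactly one 3n-display structure (P_R, Q_R, F_R, V_R⁻¹) over R such that Q_R is the kernel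
of P_R → R ⊗_S (P/Q), F_R(w ⊗ x) = σ(w) ⊗ F x, V_R⁻¹(w ⊗ y) = σ(w) ⊗ V⁻¹ y for y ∈ Q and V_R⁻¹(V(w)
⊗ x) = w ⊗ F x for x ∈ P: the base change of the 3n-display along f is well defined. -/
theorem result (p : ℕ) [Fact p.Prime] (S R : Type u) [CommRing S] [CommRing R]
    (hS : ∀ ℓ : ℕ, ℓ.Prime → ℓ ≠ p → IsUnit (ℓ : S)) (f : S →+* R)
    (P : Type v) [AddCommGroup P] [Module (WittVector p S) P] (D : W4c1extbt610.Display3n p S P) :
    ∃! DR : W4c1extbt610.Display3n p R (Dieu.BC (WittVector.map f : WittVector p S →+* WittVector p R) P),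
      Dieu.IsDispBaseChange f D DR := by
  obtain ⟨L, T, hLT, hQ⟩ := D.exists_normal
  exact ⟨DRof f D L T hLT hQ, isDispBaseChange_DRof f D L T hLT hQ,
    fun DR' h' => eq_of_isDispBaseChange f D _ _ h' (isDispBaseChange_DRof f D L T hLT hQ)⟩

end Groth.Agent.S16538
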