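import Groth.Statements.S16539
import Groth.Agent.Lib.Helper14Disp
import Groth.Agent.Lib.Helper14FiltAdic

set_option autoImplicit false
universe u v
open Disp

namespace Groth.Agent.S16539

open Dieu Groth.Agent.Lib.Helper14.Disp

section aux
variable {p : ℕ} [Fact p.Prime] {k : Type u} [CommRing k] [CharP k p] [PerfectRing k p]
variable {M : Type v} [AddCommGroup M] [Module (WittVector p k) M]

/-- the linear map `m ↦ 1 ⊗ V m`. -/
noncomputable def vsMap (Dm : Dieu.DieuMod p k M) :
    M →ₗ[WittVector p k] BC (WittVector.frobenius : WittVector p k →+* WittVector p k) M where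
  toFun m := BC.tmul _ 1 (Dm.V m)
  map_add' x y := by rw [map_add, BC.tmul_add]
  map_smul' w x := by
    rw [RingHom.id_apply, Dm.V.map_smulₛₗ, ← BC.tmul_apply_eq, BC.tmul_eq_smul_tmul_one]
    congr 1
    exact (WittVector.frobeniusEquiv p k).apply_symm_apply w

theorem vSharpPow_eq (Dm : Dieu.DieuMod p k M)
    (Vs : M →ₗ[WittVector p k] BC (WittVector.frobenius : WittVector p k →+* WittVector p k) M)
    (hVs : ∀ m, Vs m = BC.tmul _ 1 (Dm.V m)) (n : ℕ) (m : M) :
    vSharpPow Vs n m = BC.tmul _ 1 ((⇑Dm.V)^[n+1] m) := by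
  induction n generalizing m with
  | zero =>
    rw [vSharpPow_zero_apply, hVs, BC.castHom_tmul]
    rfl
  | succ n ih =>
    rw [vSharpPow_succ_apply, hVs, BC.map_tmul, ih, BC.lift_tmul, one_smul, BC.push_tmul,
      BC.castHom_tmul, map_one, Function.iterate_succ_apply (f := ⇑Dm.V) (n := n + 1)]

theorem V_p_smul (Dm : Dieu.DieuMod p k M) (m : M) :
    Dm.V ((p : WittVector p k) • m) = (p : WittVector p k) • Dm.V m := by
  rw [Dm.V.map_smulₛₗ]
  congr 1
  exact map_natCast ((WittVector.frobeniusEquiv p k).symm : WittVector p k →+* WittVector p k) p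

theorem V_iter_p_smul (Dm : Dieu.DieuMod p k M) (N : ℕ) (m : M) :
    (⇑Dm.V)^[N] ((p : WittVector p k) • m) = (p : WittVector p k) • (⇑Dm.V)^[N] m := by
  induction N generalizing m with
  | zero => rfl
  | succ N ih => rw [Function.iterate_succ_apply, Function.iterate_succ_apply, V_p_smul, ih]

theorem IV_le_span_p : W4c1extbt610.IV p k ≤ Ideal.span {(p : WittVector p k)} := by
  rw [W4c1extbt610.IV, Ideal.span_le]
  rintro _ ⟨w, rfl⟩
  obtain ⟨w', rfl⟩ : ∃ w', WittVector.frobenius w' = w :=
    ⟨(WittVector.frobeniusEquiv p k).symm w, (WittVector.frobeniusEquiv p k).apply_symm_apply w⟩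
  rw [WittVector.verschiebung_frobenius]
  exact Ideal.mul_mem_left _ _ (Ideal.mem_span_singleton_self _)

theorem sup_eq_span_p :
    W4c1extbt610.IV p k ⊔ Ideal.span {(p : WittVector p k)} = Ideal.span {(p : WittVector p k)} :=
  sup_eq_right.2 IV_le_span_p

theorem frob_pow_mem_span_p (n : ℕ) (a : WittVector p k) (ha : a ∈ Ideal.span {(p : WittVector p k)}) :
    ((WittVector.frobenius : WittVector p k →+* WittVector p k) ^ n) a ∈
      Ideal.span {(p : WittVector p k)} := by
  obtain ⟨c, rfl⟩ := Ideal.mem_span_singleton'.1 ha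
  rw [map_mul, map_natCast]
  exact Ideal.mul_mem_left _ _ (Ideal.mem_span_singleton_self _)

theorem frobInv_pow_mem_span_p (n : ℕ) (a : WittVector p k) (ha : a ∈ Ideal.span {(p : WittVector p k)}) :
    (((WittVector.frobeniusEquiv p k).symm : WittVector p k →+* WittVector p k) ^ n) a ∈
      Ideal.span {(p : WittVector p k)} := by
  obtain ⟨c, rfl⟩ := Ideal.mem_span_singleton'.1 ha
  rw [map_mul, map_natCast]
  exact Ideal.mul_mem_left _ _ (Ideal.mem_span_singleton_self _)

theorem frobInv_pow_frob_pow (n : ℕ) (a : WittVector p k) :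
    (((WittVector.frobeniusEquiv p k).symm : WittVector p k →+* WittVector p k) ^ n)
      (((WittVector.frobenius : WittVector p k →+* WittVector p k) ^ n) a) = a := by
  induction n generalizing a with
  | zero => rfl
  | succ n ih =>
    rw [pow_succ, pow_succ', RingHom.mul_def, RingHom.mul_def, RingHom.comp_apply, RingHom.comp_apply]
    have : ((WittVector.frobeniusEquiv p k).symm : WittVector p k →+* WittVector p k)
        ((WittVector.frobenius : WittVector p k →+* WittVector p k)
          (((WittVector.frobenius : WittVector p k →+* WittVector p k) ^ n) a)) =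
        ((WittVector.frobenius : WittVector p k →+* WittVector p k) ^ n) a :=
      (WittVector.frobeniusEquiv p k).symm_apply_apply _
    rw [this, ih]

end aux

/-- Let p be a prime, k a perfect commutative ring of characteristic p, W = W(k) with Frobenius
automorphism σ, and M a finitely generated projective W-module carrying a Dieudonné module
structure, a σ-semilinear F and a σ⁻¹-semilinear V with FV = VF = p. Let D be the associated
3n-display (M, VM, F, V⁻¹): the 3n-display structure on M whose submodule is the image of V, whose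
Frobenius operator is F and whose inverse operator sends V m to m. Then D is a display, i.e. its
operator V# satisfies the nilpotence condition, if and only if V is topologically nilpotent for the
p-adic topology on M: for every e some power of V maps M into p^e M. -/
theorem result (p : ℕ) [Fact p.Prime] (k : Type u) [CommRing k]
    [CharP k p] [PerfectRing k p]
    (M : Type v) [AddCommGroup M] [Module (WittVector p k) M] [Module.Finite (WittVector p k) M]
    [Module.Projective (WittVector p k) M] (Dm : Dieu.DieuMod p k M) (D : W4c1extbt610.Display3n p k M)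
    (hF : D.F = Dm.F) (hQ : ∀ x : M, x ∈ D.Q ↔ x ∈ Set.range Dm.V)
    (hV : ∀ (m : M) (h : Dm.V m ∈ D.Q), D.Vinv ⟨Dm.V m, h⟩ = m) :
    Dieu.IsDisplay D ↔ Dm.VTopNilp := by
  have hVs_of : ∀ Vs, IsVSharp D Vs → ∀ m, Vs m = BC.tmul _ 1 (Dm.V m) := by
    intro Vs hVs m
    have hmem : Dm.V m ∈ D.Q := (hQ _).2 ⟨m, rfl⟩
    have := hVs.app_smul_Vinv 1 ⟨Dm.V m, hmem⟩
    rwa [one_smul, hV m hmem] at this
  constructor
  · rintro ⟨Vs, hVs, n, hn⟩
    have hVs' := hVs_of Vs hVs
    have key : ∀ m : M, (⇑Dm.V)^[n+1] m ∈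
        Ideal.span {(p : WittVector p k)} • (⊤ : Submodule (WittVector p k) M) := by
      intro m
      have h1 := hn m
      rw [vSharpPow_eq Dm Vs hVs', sup_eq_span_p] at h1
      exact mem_smul_top_of_tmul_one_mem _ _ (frobInv_pow_frob_pow (n + 1)) _ _
        (frobInv_pow_mem_span_p (n + 1)) _ h1
    intro e
    induction e with
    | zero =>
      refine ⟨0, fun m => ?_⟩
      rw [pow_zero, Ideal.one_eq_top, Submodule.top_smul]
      exact Submodule.mem_top
    | succ e ih =>
      obtain ⟨N, hN⟩ := ih
      refine ⟨N + (n + 1), fun m => ?_⟩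
      rw [Function.iterate_add_apply]
      have h2 := key m
      rw [Submodule.ideal_span_singleton_smul] at h2
      obtain ⟨m', -, hm'⟩ := (Submodule.mem_smul_pointwise_iff_exists _ _ _).1 h2
      rw [← hm', V_iter_p_smul, pow_succ', Submodule.mul_smul]
      exact Submodule.smul_mem_smul (Ideal.mem_span_singleton_self _) (hN m')
  · intro hnil
    obtain ⟨N, hN⟩ := hnil 1
    refine ⟨vsMap Dm, ⟨?_, ?_⟩, N, fun m => ?_⟩
    · intro w x
      rw [map_smul]
      change w • BC.tmul _ 1 (Dm.V (D.F x)) = _
      rw [hF, Dm.V_F, ← BC.tmul_apply_eq, map_natCast, BC.smul_tmul, BC.smul_tmul, mul_comm]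
    · intro w y
      obtain ⟨m, hm⟩ := (hQ y).1 y.2
      have hy : y = ⟨Dm.V m, (hQ _).2 ⟨m, rfl⟩⟩ := Subtype.ext hm.symm
      rw [map_smul, hy, hV m]
      change w • BC.tmul _ 1 (Dm.V m) = _
      rw [BC.smul_tmul, mul_one]
    · rw [vSharpPow_eq Dm (vsMap Dm) (fun _ => rfl), sup_eq_span_p]
      refine tmul_one_mem_smul_top _ _ _ (frob_pow_mem_span_p (n := N + 1)) _ ?_
      rw [Function.iterate_succ_apply]
      have := hN (Dm.V m)
      rwa [pow_one] at this

end Groth.Agent.S16539
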