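import Groth.Statements.S16541
import Mathlib

set_option autoImplicit false
universe u v
open CAlg

namespace Groth.Agent.S16541

open Dieu TensorProduct

section general
variable {A : Type u} {B : Type u} {C : Type u} [CommRing A] [CommRing B] [CommRing C]
variable (φ : A →+* B) (ψ₁ ψ₂ : B →+* C) (e : ψ₁.comp φ = ψ₂.comp φ)
variable (M : Type v) [AddCommGroup M] [Module A M]

/-- `a ↦ φ a` as an `A`-linear map `A → B`. -/
def φLin : A →ₗ[A] Res φ where
  toFun a := Res.mk φ (φ a)
  map_add' a b := by apply Res.ext; simp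
  map_smul' a b := by apply Res.ext; simp

/-- `b ↦ ψ₁ b - ψ₂ b` as an `A`-linear map. -/
def dLin : Res φ →ₗ[A] Res (ψ₂.comp φ) where
  toFun b := Res.mk (ψ₂.comp φ) (ψ₁ b.val - ψ₂ b.val)
  map_add' a b := by apply Res.ext; simp; ring
  map_smul' a b := by
    apply Res.ext
    have h := congrArg (fun g : A →+* C => g a) e
    simp only [RingHom.comp_apply] at h
    simp only [Res.val_smul, Res.val_mk, map_mul, RingHom.id_apply, RingHom.comp_apply, h]
    ring

include e in
theorem exact_φLin_dLin (hex : ∀ b : B, ψ₁ b = ψ₂ b → ∃ a, φ a = b) :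
    Function.Exact (φLin φ) (dLin φ ψ₁ ψ₂ e) := by
  intro b
  constructor
  · intro hb
    have h1 : ψ₁ b.val - ψ₂ b.val = 0 := congrArg Res.val hb
    obtain ⟨a, ha⟩ := hex b.val (sub_eq_zero.1 h1)
    exact ⟨a, Res.ext (g := φ) ha⟩
  · rintro ⟨a, rfl⟩
    apply Res.ext
    have h := congrArg (fun g : A →+* C => g a) e
    simp only [RingHom.comp_apply] at h
    change ψ₁ (φ a) - ψ₂ (φ a) = 0
    rw [h, sub_self]

variable {M}

theorem ι_eq (x : M) :
    BC.ι φ M x = ((φLin φ).rTensor M) ((TensorProduct.lid A M).symm x) := by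
  rw [TensorProduct.lid_symm_apply, LinearMap.rTensor_tmul]
  change BC.tmul φ 1 x = (Res.mk φ (φ 1)) ⊗ₜ[A] x
  rw [map_one]
  rfl

theorem BC_sub_tmul (g : A →+* C) (b c : C) (x : M) :
    BC.tmul g (b - c) x = BC.tmul g b x - BC.tmul g c x := by
  rw [eq_sub_iff_add_eq, ← BC.add_tmul, sub_add_cancel]

theorem dLin_eq (z : BC φ M) :
    ((dLin φ ψ₁ ψ₂ e).rTensor M) z = BC.castHom e (BC.push φ ψ₁ z) - BC.push φ ψ₂ z := by
  let F₁ : BC φ M →+ BC (ψ₂.comp φ) M := ((dLin φ ψ₁ ψ₂ e).rTensor M).toAddMonoidHom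
  let F₂ : BC φ M →+ BC (ψ₂.comp φ) M :=
    ((BC.castHom e).toAddMonoidHom.comp (BC.push φ ψ₁).toAddMonoidHom) -
      (BC.push φ ψ₂).toAddMonoidHom
  have hF : ∀ z, F₁ z = F₂ z := by
    intro z
    induction z using BC.induction_on φ with
    | zero => rw [map_zero, map_zero]
    | tmul b x =>
      change ((dLin φ ψ₁ ψ₂ e).rTensor M) (BC.tmul φ b x) =
        BC.castHom e (BC.push φ ψ₁ (BC.tmul φ b x)) - BC.push φ ψ₂ (BC.tmul φ b x)
      rw [BC.push_tmul, BC.push_tmul, BC.castHom_tmul, ← BC_sub_tmul]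
      rfl
    | add z₁ z₂ h₁ h₂ => rw [map_add, map_add, h₁, h₂]
  exact hF z

theorem main [Module.Flat A M] (hinj : Function.Injective φ)
    (hex : ∀ b : B, ψ₁ b = ψ₂ b → ∃ a, φ a = b) :
    Function.Injective (BC.ι φ M) ∧
      ∀ z : BC φ M, (BC.castHom e (BC.push φ ψ₁ z) = BC.push φ ψ₂ z ↔ z ∈ Set.range (BC.ι φ M)) := by
  have hφinj : Function.Injective (φLin φ) := fun a b h => hinj (congrArg Res.val h)
  have h1 := Module.Flat.rTensor_preserves_injective_linearMap (M := M) (φLin φ) hφinj
  have h2 := Module.Flat.rTensor_exact M (exact_φLin_dLin φ ψ₁ ψ₂ e hex)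
  refine ⟨fun x y hxy => ?_, fun z => ?_⟩
  · rw [ι_eq, ι_eq] at hxy
    exact (TensorProduct.lid A M).symm.injective (h1 hxy)
  · rw [← sub_eq_zero, ← dLin_eq φ ψ₁ ψ₂ e z]
    constructor
    · intro hz
      obtain ⟨y, hy⟩ := (h2 z).1 hz
      refine ⟨TensorProduct.lid A M y, ?_⟩
      rw [ι_eq, LinearEquiv.symm_apply_apply]
      exact hy
    · rintro ⟨x, rfl⟩
      rw [ι_eq]
      exact (h2 _).2 ⟨_, rfl⟩

end general

/-- In a faithfully flat algebra, an element with `s ⊗ 1 = 1 ⊗ s` comes from the base. -/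
theorem mem_range_algebraMap_of_tmul_eq (R : Type u) (S : Type u)
    [CommRing R] [CommRing S] [Algebra R S] [Module.FaithfullyFlat R S] (s : S)
    (h : s ⊗ₜ[R] (1 : S) = (1 : S) ⊗ₜ[R] s) : ∃ r : R, algebraMap R S r = s := by
  set N : Submodule R S := LinearMap.range (Algebra.linearMap R S) with hN
  have h1 : (TensorProduct.mk R S (S ⧸ N) 1) (N.mkQ s) = 0 := by
    have e1 : (TensorProduct.mk R S (S ⧸ N) 1) (N.mkQ s) =
        (N.mkQ.lTensor S) ((1 : S) ⊗ₜ[R] s) := by simp
    rw [e1, ← h, LinearMap.lTensor_tmul]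
    have : N.mkQ (1 : S) = 0 := by
      rw [Submodule.mkQ_apply, Submodule.Quotient.mk_eq_zero]
      exact ⟨1, by simp⟩
    rw [this, TensorProduct.tmul_zero]
  have h2 := Module.FaithfullyFlat.tensorProduct_mk_injective (A := R) (B := S) (S ⧸ N)
    (h1.trans (map_zero _).symm)
  rw [Submodule.mkQ_apply, Submodule.Quotient.mk_eq_zero] at h2
  obtain ⟨r, hr⟩ := h2
  exact ⟨r, hr⟩

/-- Let p be a prime, S → R a faithfully flat homomorphism of commutative rings and M a flat
W(S)-module; write ι₁, ι₂ : R → R ⊗_S R for the two coprojections, M_R = W(R) ⊗_{W(S)} M and M_{R ⊗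
R} = W(R ⊗_S R) ⊗_{W(S)} M for the scalar extensions along W(S) → W(R) and W(S) → W(R ⊗_S R). Then 0
→ M → M_R ⇉ M_{R ⊗ R} is exact: the map x ↦ 1 ⊗ x from M to M_R is injective, and an element of M_R
has the same image under the two maps w ⊗ x ↦ W(ι₁)(w) ⊗ x and w ⊗ x ↦ W(ι₂)(w) ⊗ x exactly when it
is of the form 1 ⊗ x. The hypothesis e records that the two composite ring maps W(S) → W(R) → W(R
⊗_S R) agree (both coprojections are S-algebra maps); it serves to identify the two targets. -/
theorem result (p : ℕ) [Fact p.Prime]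
    (S R : Type u) [CommRing S] [CommRing R] [Algebra S R] [Module.FaithfullyFlat S R]
    (M : Type v) [AddCommGroup M] [Module (WittVector p S) M] [Module.Flat (WittVector p S) M]
    (e : (WittVector.map (Algebra.TensorProduct.includeLeftRingHom : R →+* TensorProduct S R R) : WittVector p R →+* WittVector p (TensorProduct S R R)).comp (WittVector.map (algebraMap S R) : WittVector p S →+* WittVector p R) = (WittVector.map ((Algebra.TensorProduct.includeRight : R →ₐ[S] TensorProduct S R R) : R →+* TensorProduct S R R) : WittVector p R →+* WittVector p (TensorProduct S R R)).comp (WittVector.map (algebraMap S R) : WittVector p S →+* WittVector p R)) :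
    Function.Injective (Dieu.BC.ι (WittVector.map (algebraMap S R) : WittVector p S →+* WittVector p R) M) ∧
      ∀ z : Dieu.BC (WittVector.map (algebraMap S R) : WittVector p S →+* WittVector p R) M,
        (Dieu.BC.castHom e (Dieu.BC.push (WittVector.map (algebraMap S R) : WittVector p S →+* WittVector p R) (WittVector.map (Algebra.TensorProduct.includeLeftRingHom : R →+* TensorProduct S R R) : WittVector p R →+* WittVector p (TensorProduct S R R)) z) = Dieu.BC.push (WittVector.map (algebraMap S R) : WittVector p S →+* WittVector p R) (WittVector.map ((Algebra.TensorProduct.includeRight : R →ₐ[S] TensorProduct S R R) : R →+* TensorProduct S R R) : WittVector p R →+* WittVector p (TensorProduct S R R)) z ↔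
          z ∈ Set.range (Dieu.BC.ι (WittVector.map (algebraMap S R) : WittVector p S →+* WittVector p R) M)) := by
  refine main _ _ _ e ?_ ?_
  · exact WittVector.map_injective _ (FaithfulSMul.algebraMap_injective S R)
  · intro b hb
    have hcoeff : ∀ n, ∃ s : S, algebraMap S R s = b.coeff n := by
      intro n
      have h := congrArg (fun w => WittVector.coeff w n) hb
      simp only [WittVector.map_coeff] at h
      exact mem_range_algebraMap_of_tmul_eq S R _ h
    choose s hs using hcoeff
    refine ⟨WittVector.mk p s, ?_⟩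
    ext n
    rw [WittVector.map_coeff]
    exact hs n

end Groth.Agent.S16541
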