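import Groth.Statements.S16542
import Mathlib.RingTheory.Flat.FaithfullyFlat.Algebra
import Mathlib.RingTheory.WittVector.Teichmuller
import Mathlib.RingTheory.WittVector.Domain
import Mathlib.Algebra.Module.Torsion.Basic
import Mathlib.RingTheory.Ideal.Quotient.Operations

set_option autoImplicit false
universe u v
open Disp

namespace Groth.Agent.S16542

open TensorProduct in
theorem key {A S R : Type u} [CommRing A] [CommRing S] [CommRing R] [Algebra S R]
    [Module.FaithfullyFlat S R] (π : A →+* S) (hπ : Function.Surjective π)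
    (g : A →+* R) (hg : ∀ a, g a = algebraMap S R (π a))
    {N : Type v} [AddCommGroup N] [Module A N] (hN : ∀ a ∈ RingHom.ker π, ∀ n : N, a • n = 0)
    (n : N) (h : Dieu.BC.tmul g 1 n = 0) : n = 0 := by
  have htors : Module.IsTorsionBySet A N (RingHom.ker π : Set A) := by
    intro n a; exact hN a.1 a.2 n
  letI m1 : Module (A ⧸ RingHom.ker π) N := htors.module
  let e : S ≃+* A ⧸ RingHom.ker π := (RingHom.quotientKerEquivOfSurjective hπ).symm
  letI m2 : Module S N := Module.compHom N (e : S →+* A ⧸ RingHom.ker π)
  have hsm : ∀ (a : A) (n : N), (π a) • n = a • n := by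
    intro a n
    change (e (π a)) • n = a • n
    have : e (π a) = Ideal.Quotient.mk _ a := by
      rw [RingEquiv.symm_apply_eq]; rfl
    rw [this]; rfl
  let φ : N →ₛₗ[g] (R ⊗[S] N) :=
    { toFun := fun n => (1 : R) ⊗ₜ[S] n
      map_add' := fun x y => TensorProduct.tmul_add 1 x y
      map_smul' := fun a n => by
        rw [← hsm, TensorProduct.tmul_smul, hg, TensorProduct.smul_tmul', TensorProduct.smul_tmul',
          smul_eq_mul, mul_one, Algebra.smul_def, mul_one] }
  have h2 := congrArg (Dieu.BC.lift g φ) h
  rw [Dieu.BC.lift_tmul, one_smul, map_zero] at h2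
  have hinj := Module.FaithfullyFlat.tensorProduct_mk_injective (A := S) (B := R) N
  apply hinj
  rw [map_zero]
  exact h2

/-- Let p be a prime, S → R a faithfully flat homomorphism of commutative rings with p nilpotent in S,
(P, Q, F, V⁻¹) a display over S, and (P_R, Q_R, F_R, V_R⁻¹) a 3n-display structure on P_R = W(R)
⊗_{W(S)} P which is its base change along S → R (Q_R the kernel of P_R → R ⊗_S (P/Q), F_R(w ⊗ x) =
σ(w) ⊗ F x, V_R⁻¹(w ⊗ y) = σ(w) ⊗ V⁻¹ y for y ∈ Q, V_R⁻¹(V(w) ⊗ x) = w ⊗ F x). Then for x ∈ P one
has x ∈ Q if and only if 1 ⊗ x ∈ Q_R: together with the exactness of 0 → P → P_R ⇉ P_{R ⊗ R} this is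
the exactness of 0 → Q → Q_R ⇉ Q_{R ⊗ R} at Q. -/
theorem result (p : ℕ) [Fact p.Prime]
    (S R : Type u) [CommRing S] [CommRing R] [Algebra S R] [Module.FaithfullyFlat S R] (hp : IsNilpotent (p : S))
    (P : Type v) [AddCommGroup P] [Module (WittVector p S) P] (D : W4c1extbt610.Display3n p S P)
    (hD : Dieu.IsDisplay D)
    (DR : W4c1extbt610.Display3n p R (Dieu.BC (WittVector.map (algebraMap S R) : WittVector p S →+* WittVector p R) P))
    (hDR : Dieu.IsDispBaseChange (algebraMap S R) D DR) (x : P) :
    x ∈ D.Q ↔ Dieu.BC.ι (WittVector.map (algebraMap S R) : WittVector p S →+* WittVector p R) P x ∈ DR.Q := by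
  rw [hDR.Q_eq, LinearMap.mem_ker, Dieu.BC.ι_apply, Dieu.bcQuotMap_tmul, map_one]
  constructor
  · intro hx
    have : D.Q.mkQ x = 0 := by
      rw [Submodule.mkQ_apply, Submodule.Quotient.mk_eq_zero]; exact hx
    rw [this, Dieu.BC.tmul_zero]
  · intro h
    have hker : ∀ a ∈ RingHom.ker (WittVector.constantCoeff : WittVector p S →+* S),
        ∀ n : P ⧸ D.Q, a • n = 0 := by
      intro a ha n
      obtain ⟨y, rfl⟩ := Submodule.Quotient.mk_surjective _ n
      rw [← Submodule.Quotient.mk_smul, Submodule.Quotient.mk_eq_zero]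
      apply D.IV_smul_le
      apply Submodule.smul_mem_smul _ Submodule.mem_top
      have ha0 : a.coeff 0 = 0 := ha
      have : WittVector.verschiebung (a.shift 1) = a := by
        have hz : ∀ i < 0 + 1, a.coeff i = 0 := by
          intro i hi
          have hi0 : i = 0 := by omega
          rw [hi0]; exact ha0
        have := WittVector.verschiebung_shift a 0 hz
        rw [this]
        ext n
        rw [WittVector.shift_coeff, zero_add]
      rw [← this]
      exact W4c1extbt610.verschiebung_mem_IV p S _
    have := key (WittVector.constantCoeff : WittVector p S →+* S)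
      (WittVector.constantCoeff_surjective (p := p))
      ((WittVector.constantCoeff : WittVector p R →+* R).comp
          (WittVector.map (algebraMap S R) : WittVector p S →+* WittVector p R))
      (fun a => by
        simp only [RingHom.comp_apply, WittVector.constantCoeff_apply, WittVector.map_coeff])
      hker (D.Q.mkQ x) h
    rwa [Submodule.mkQ_apply, Submodule.Quotient.mk_eq_zero] at this

end Groth.Agent.S16542
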