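import Groth.Statements.S16545
import Groth.Agent.Lib.Helper14Disp3
import Groth.Agent.S16541
import Groth.Agent.S16540

set_option autoImplicit false
universe u v
open Disp

namespace Groth.Agent.S16545

open Dieu TensorProduct WittVector
open Groth.Agent.Lib.Helper14.Disp

section teich
variable {p : ℕ} [Fact p.Prime] {S R : Type u} [CommRing S] [CommRing R] [Algebra S R]
variable {N : Type v} [AddCommGroup N] [Module (WittVector p S) N]

theorem cc_teich (x : S) : constantCoeff (teichmuller p x) = x := teichmuller_coeff_zero p x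

/-- the `S`-module structure through Teichmüller representatives on a `W(S)`-module killed by
`ker w₀`. -/
@[reducible] noncomputable def teichModule
    (hN : ∀ a : WittVector p S, constantCoeff a = 0 → ∀ n : N, a • n = 0) : Module S N where
  smul s n := teichmuller p s • n
  one_smul n := by change teichmuller p (1 : S) • n = n; rw [map_one, one_smul]
  mul_smul s t n := by
    change teichmuller p (s * t) • n = teichmuller p s • teichmuller p t • n
    rw [map_mul, mul_smul]
  smul_zero s := smul_zero _
  smul_add s m n := smul_add _ _ _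
  add_smul s t n := by
    change teichmuller p (s + t) • n = teichmuller p s • n + teichmuller p t • n
    rw [← add_smul, ← sub_eq_zero, ← sub_smul]
    apply hN
    rw [RingHom.map_sub, RingHom.map_add, cc_teich, cc_teich, cc_teich, sub_self]
  zero_smul n := by change teichmuller p (0 : S) • n = 0; rw [teichmuller_zero, zero_smul]

theorem smul_eq_teich (hN : ∀ a : WittVector p S, constantCoeff a = 0 → ∀ n : N, a • n = 0)
    (a : WittVector p S) (n : N) : a • n = teichmuller p (constantCoeff a) • n := by
  rw [← sub_eq_zero, ← sub_smul]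
  apply hN
  rw [RingHom.map_sub, cc_teich, sub_self]

theorem tmul_one_injective [Module.FaithfullyFlat S R]
    (hN : ∀ a : WittVector p S, constantCoeff a = 0 → ∀ n : N, a • n = 0)
    (g : WittVector p S →+* R) (hg : ∀ a, g a = algebraMap S R (constantCoeff a))
    (n : N) (hn : BC.tmul g 1 n = 0) : n = 0 := by
  let _ : Module S N := teichModule hN
  let Ξ : BC g N →+ R ⊗[S] N :=
    TensorProduct.liftAddHom (R := WittVector p S) (M := Res g) (N := N)
      (AddMonoidHom.mk' (fun r : Res g =>
        AddMonoidHom.mk' (fun n : N => (r.val ⊗ₜ[S] n : R ⊗[S] N))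
          (fun n n' => TensorProduct.tmul_add _ _ _))
        (fun r r' => by
          ext n
          exact TensorProduct.add_tmul _ _ _))
      (fun a r n => by
        change ((a • r).val ⊗ₜ[S] n : R ⊗[S] N) = r.val ⊗ₜ[S] (a • n)
        rw [Res.val_smul, hg, smul_eq_teich hN a n, ← Algebra.smul_def, TensorProduct.smul_tmul]
        rfl)
  have h1 : Ξ (BC.tmul g 1 n) = (1 : R) ⊗ₜ[S] n := rfl
  rw [hn, map_zero] at h1
  exact Module.FaithfullyFlat.tensorProduct_mk_injective (A := S) (B := R) N
    (h1.symm.trans (map_zero _).symm)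

end teich

section abstract
variable {A B C : Type u} [CommRing A] [CommRing B] [CommRing C]
variable (φ : A →+* B) (ψ₁ ψ₂ : B →+* C) (g : A →+* C) (e₁ : ψ₁.comp φ = g) (e₂ : ψ₂.comp φ = g)
variable {P P' : Type v} [AddCommGroup P] [Module A P] [AddCommGroup P'] [Module A P']

theorem castHom_castHom' {M : Type v} [AddCommGroup M] [Module A M]
    {g g' g'' : A →+* C} (e : g = g') (e' : g' = g'') (z : BC g M) :
    BC.castHom e' (BC.castHom e z) = BC.castHom (e.trans e') z := by
  subst e e'
  rfl

theorem castHom_refl' {M : Type v} [AddCommGroup M] [Module A M]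
    {g : A →+* C} (e : g = g) (z : BC g M) : BC.castHom e z = z := rfl

variable (χ : BC φ P →ₗ[B] BC φ P')

include e₁ e₂ in
theorem exists_descent [Module.Flat A P'] (hinj : Function.Injective φ)
    (hex : ∀ b : B, ψ₁ b = ψ₂ b → ∃ a, φ a = b)
    (hdesc : ∀ (z₁ : BC ψ₁ (BC φ P)) (z₂ : BC ψ₂ (BC φ P)),
      (BC.castHom (P := P) e₁).comp (BC.lift ψ₁ (BC.push φ ψ₁)) z₁ =
        (BC.castHom (P := P) e₂).comp (BC.lift ψ₂ (BC.push φ ψ₂)) z₂ →
      (BC.castHom (P := P') e₁).comp (BC.lift ψ₁ (BC.push φ ψ₁)) (BC.map ψ₁ χ z₁) =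
        (BC.castHom (P := P') e₂).comp (BC.lift ψ₂ (BC.push φ ψ₂)) (BC.map ψ₂ χ z₂)) :
    ∃! ψ : P →ₗ[A] P', BC.map φ ψ = χ := by
  have e : ψ₁.comp φ = ψ₂.comp φ := e₁.trans e₂.symm
  obtain ⟨hιinj, hrange⟩ := Groth.Agent.S16541.main φ ψ₁ ψ₂ e (M := P') hinj hex
  have key : ∀ x : P, ∃ y : P', BC.ι φ P' y = χ (BC.tmul φ 1 x) := by
    intro x
    have h1 := hdesc (BC.tmul ψ₁ 1 (BC.tmul φ 1 x)) (BC.tmul ψ₂ 1 (BC.tmul φ 1 x)) (by
      rw [LinearMap.comp_apply, LinearMap.comp_apply, BC.lift_tmul, BC.lift_tmul, one_smul, one_smul,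
        BC.push_tmul, BC.push_tmul, BC.castHom_tmul, BC.castHom_tmul, map_one, map_one])
    rw [LinearMap.comp_apply, LinearMap.comp_apply, BC.map_tmul, BC.map_tmul, BC.lift_tmul,
      BC.lift_tmul, one_smul, one_smul] at h1
    have h2 := congrArg (BC.castHom e₂.symm) h1
    rw [castHom_castHom', castHom_castHom'] at h2
    exact (hrange _).1 h2
  choose ψ₀ hψ₀ using key
  have hadd : ∀ x y, ψ₀ (x + y) = ψ₀ x + ψ₀ y := by
    intro x y
    apply hιinj
    rw [map_add, hψ₀, hψ₀, hψ₀, BC.tmul_add, map_add]
  have hsmul : ∀ (a : A) (x : P), ψ₀ (a • x) = a • ψ₀ x := by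
    intro a x
    apply hιinj
    rw [(BC.ι φ P').map_smulₛₗ, hψ₀, hψ₀, ← BC.tmul_apply_eq, BC.tmul_eq_smul_tmul_one, map_smul]
  refine ⟨{ toFun := ψ₀, map_add' := hadd, map_smul' := hsmul }, ?_, ?_⟩
  · apply BC.ext
    intro x
    rw [BC.map_tmul]
    exact hψ₀ x
  · intro ψ' hψ'
    apply LinearMap.ext
    intro x
    apply hιinj
    change BC.ι φ P' (ψ' x) = BC.ι φ P' (ψ₀ x)
    rw [hψ₀, ← hψ', BC.map_tmul]
    rfl

end abstract

section main
variable {p : ℕ} [Fact p.Prime] {S R : Type u} [CommRing S] [CommRing R] [Algebra S R]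
variable [Module.FaithfullyFlat S R]
variable {P P' : Type v} [AddCommGroup P] [Module (WittVector p S) P]
  [AddCommGroup P'] [Module (WittVector p S) P']

local notation "φ" => (WittVector.map (algebraMap S R) : WittVector p S →+* WittVector p R)

theorem witt_equalizer (b : WittVector p R)
    (hb : (WittVector.map (Algebra.TensorProduct.includeLeftRingHom : R →+* TensorProduct S R R)) b =
      (WittVector.map ((Algebra.TensorProduct.includeRight : R →ₐ[S] TensorProduct S R R) :
        R →+* TensorProduct S R R)) b) : ∃ a : WittVector p S, φ a = b := by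
  have hcoeff : ∀ n, ∃ s : S, algebraMap S R s = b.coeff n := by
    intro n
    have h := congrArg (fun w => WittVector.coeff w n) hb
    simp only [WittVector.map_coeff] at h
    exact Groth.Agent.S16541.mem_range_algebraMap_of_tmul_eq S R _ h
  choose s hs using hcoeff
  refine ⟨WittVector.mk p s, ?_⟩
  ext n
  rw [WittVector.map_coeff]
  exact hs n

omit [Module.FaithfullyFlat S R] in
theorem tmul_one_mem_Q (D : W4c1extbt610.Display3n p S P)
    (DR : W4c1extbt610.Display3n p R (BC φ P)) (hDR : IsDispBaseChange (algebraMap S R) D DR)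
    (q : P) (hq : q ∈ D.Q) : BC.tmul φ 1 q ∈ DR.Q := by
  have h0 : D.Q.mkQ q = 0 := (Submodule.Quotient.mk_eq_zero _).2 hq
  rw [hDR.Q_eq, LinearMap.mem_ker, bcQuotMap_tmul, h0, BC.tmul_zero]

theorem isHom_of_map (D : W4c1extbt610.Display3n p S P) (D' : W4c1extbt610.Display3n p S P')
    (DR : W4c1extbt610.Display3n p R (BC φ P)) (hDR : IsDispBaseChange (algebraMap S R) D DR)
    (DR' : W4c1extbt610.Display3n p R (BC φ P')) (hDR' : IsDispBaseChange (algebraMap S R) D' DR')
    (ψ : P →ₗ[WittVector p S] P') (hχ : W4c1extbt610.IsHom DR DR' (BC.map φ ψ))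
    (hιinj : Function.Injective (BC.ι φ P')) : W4c1extbt610.IsHom D D' ψ := by
  have hmaps : ∀ q : P, q ∈ D.Q → ψ q ∈ D'.Q := by
    intro q hq
    have h1 := hχ.mapsTo _ (tmul_one_mem_Q D DR hDR q hq)
    rw [BC.map_tmul, hDR'.Q_eq, LinearMap.mem_ker, bcQuotMap_tmul, map_one] at h1
    have h2 := tmul_one_injective (N := P' ⧸ D'.Q) (R := R) ?_ _ ?_ _ h1
    · exact (Submodule.Quotient.mk_eq_zero _).1 h2
    · intro a ha n
      obtain ⟨x, rfl⟩ := D'.Q.mkQ_surjective n
      obtain ⟨w, rfl⟩ := Groth.Agent.S16540.exists_verschiebung_eq a ha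
      rw [← map_smul, Submodule.mkQ_apply, Submodule.Quotient.mk_eq_zero]
      exact D'.IV_smul_le (Submodule.smul_mem_smul (W4c1extbt610.verschiebung_mem_IV p S w)
        Submodule.mem_top)
    · intro a
      change constantCoeff (WittVector.map (algebraMap S R) a) = _
      exact WittVector.map_coeff _ _ _
  refine ⟨hmaps, ?_, ?_⟩
  · intro x
    apply hιinj
    have h1 := hχ.comm_F (BC.tmul φ 1 x)
    rw [hDR.F_tmul, BC.map_tmul, BC.map_tmul, hDR'.F_tmul, map_one] at h1
    exact h1
  · intro q
    apply hιinj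
    have hq1 := tmul_one_mem_Q D DR hDR q q.2
    have h1 := hχ.comm_Vinv ⟨_, hq1⟩
    rw [hDR.Vinv_tmul 1 q hq1, BC.map_tmul, map_one] at h1
    have hq2 := tmul_one_mem_Q D' DR' hDR' (ψ q) (hmaps q q.2)
    have h2 := hDR'.Vinv_tmul 1 ⟨ψ q, hmaps q q.2⟩ hq2
    rw [map_one] at h2
    have h3 : (⟨BC.map φ ψ (BC.tmul φ 1 (q : P)), hχ.mapsTo _ hq1⟩ : DR'.Q) =
        ⟨BC.tmul φ 1 (ψ q), hq2⟩ := Subtype.ext (BC.map_tmul _ _ _ _)
    change BC.tmul φ 1 (ψ (D.Vinv q)) = BC.tmul φ 1 (D'.Vinv ⟨ψ q, hmaps q q.2⟩)
    rw [h1, ← h2]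
    exact congrArg DR'.Vinv h3

end main

/-- Let p be a prime, S → R a faithfully flat homomorphism of commutative rings with p nilpotent in S,
ι₁, ι₂ : R → R ⊗_S R the two coprojections, and (P, Q, F, V⁻¹), (P', Q', F', V'⁻¹) displays over S
with base changes (P_R, Q_R, F_R, V_R⁻¹) and (P'_R, Q'_R, F'_R, V'_R⁻¹) along S → R (the 3n-display
structures on W(R) ⊗_{W(S)} P and W(R) ⊗_{W(S)} P' with Q_R = ker(P_R → R ⊗_S P/Q), F_R(w ⊗ x) =
σ(w) ⊗ F x, V_R⁻¹(w ⊗ y) = σ(w) ⊗ V⁻¹ y for y ∈ Q, V_R⁻¹(V(w) ⊗ x) = w ⊗ F x, and likewise for P').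
Let χ : P_R → P'_R be a homomorphism of 3n-displays whose two scalar extensions along W(ι₁) and
W(ι₂) agree, after the modules W(R ⊗_S R) ⊗_{W(ι_i),W(R)} (W(R) ⊗_{W(S)} P) are mapped to W(R ⊗_S R)
⊗_{W(S)} P by the canonical maps u ⊗ (w ⊗ x) ↦ u·W(ι_i)(w) ⊗ x (and likewise for P'). Then there is
exactly one homomorphism of 3n-displays ψ : P → P' over S with id ⊗ ψ = χ: the sequence 0 → Hom(P,
P') → Hom(P_R, P'_R) ⇉ Hom(P_{R⊗R}, P'_{R⊗R}) is exact. The hypotheses e₁, e₂ record that both
composite ring maps W(S) → W(R) → W(R ⊗_S R) equal W(S → R ⊗_S R); they serve to identify targets. -/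
theorem result (p : ℕ) [Fact p.Prime]
    (S R : Type u) [CommRing S] [CommRing R] [Algebra S R] [Module.FaithfullyFlat S R] (hp : IsNilpotent (p : S))
    (e₁ : (WittVector.map (Algebra.TensorProduct.includeLeftRingHom : R →+* TensorProduct S R R) : WittVector p R →+* WittVector p (TensorProduct S R R)).comp (WittVector.map (algebraMap S R) : WittVector p S →+* WittVector p R) = (WittVector.map (algebraMap S (TensorProduct S R R)) : WittVector p S →+* WittVector p (TensorProduct S R R)))
    (e₂ : (WittVector.map ((Algebra.TensorProduct.includeRight : R →ₐ[S] TensorProduct S R R) : R →+* TensorProduct S R R) : WittVector p R →+* WittVector p (TensorProduct S R R)).comp (WittVector.map (algebraMap S R) : WittVector p S →+* WittVector p R) = (WittVector.map (algebraMap S (TensorProduct S R R)) : WittVector p S →+* WittVector p (TensorProduct S R R)))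
    (P P' : Type v) [AddCommGroup P] [Module (WittVector p S) P] [AddCommGroup P'] [Module (WittVector p S) P']
    (D : W4c1extbt610.Display3n p S P) (D' : W4c1extbt610.Display3n p S P')
    (hD : Dieu.IsDisplay D) (hD' : Dieu.IsDisplay D')
    (DR : W4c1extbt610.Display3n p R (Dieu.BC (WittVector.map (algebraMap S R) : WittVector p S →+* WittVector p R) P)) (hDR : Dieu.IsDispBaseChange (algebraMap S R) D DR)
    (DR' : W4c1extbt610.Display3n p R (Dieu.BC (WittVector.map (algebraMap S R) : WittVector p S →+* WittVector p R) P')) (hDR' : Dieu.IsDispBaseChange (algebraMap S R) D' DR')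
    (χ : Dieu.BC (WittVector.map (algebraMap S R) : WittVector p S →+* WittVector p R) P →ₗ[WittVector p R] Dieu.BC (WittVector.map (algebraMap S R) : WittVector p S →+* WittVector p R) P') (hχ : W4c1extbt610.IsHom DR DR' χ)
    (hdesc : ∀ (z₁ : Dieu.BC (WittVector.map (Algebra.TensorProduct.includeLeftRingHom : R →+* TensorProduct S R R) : WittVector p R →+* WittVector p (TensorProduct S R R)) (Dieu.BC (WittVector.map (algebraMap S R) : WittVector p S →+* WittVector p R) P)) (z₂ : Dieu.BC (WittVector.map ((Algebra.TensorProduct.includeRight : R →ₐ[S] TensorProduct S R R) : R →+* TensorProduct S R R) : WittVector p R →+* WittVector p (TensorProduct S R R)) (Dieu.BC (WittVector.map (algebraMap S R) : WittVector p S →+* WittVector p R) P)),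
      (Dieu.BC.castHom (P := P) e₁).comp (Dieu.BC.lift (WittVector.map (Algebra.TensorProduct.includeLeftRingHom : R →+* TensorProduct S R R) : WittVector p R →+* WittVector p (TensorProduct S R R)) (Dieu.BC.push (WittVector.map (algebraMap S R) : WittVector p S →+* WittVector p R) (WittVector.map (Algebra.TensorProduct.includeLeftRingHom : R →+* TensorProduct S R R) : WittVector p R →+* WittVector p (TensorProduct S R R)))) z₁ = (Dieu.BC.castHom (P := P) e₂).comp (Dieu.BC.lift (WittVector.map ((Algebra.TensorProduct.includeRight : R →ₐ[S] TensorProduct S R R) : R →+* TensorProduct S R R) : WittVector p R →+* WittVector p (TensorProduct S R R)) (Dieu.BC.push (WittVector.map (algebraMap S R) : WittVector p S →+* WittVector p R) (WittVector.map ((Algebra.TensorProduct.includeRight : R →ₐ[S] TensorProduct S R R) : R →+* TensorProduct S R R) : WittVector p R →+* WittVector p (TensorProduct S R R)))) z₂ →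
        (Dieu.BC.castHom (P := P') e₁).comp (Dieu.BC.lift (WittVector.map (Algebra.TensorProduct.includeLeftRingHom : R →+* TensorProduct S R R) : WittVector p R →+* WittVector p (TensorProduct S R R)) (Dieu.BC.push (WittVector.map (algebraMap S R) : WittVector p S →+* WittVector p R) (WittVector.map (Algebra.TensorProduct.includeLeftRingHom : R →+* TensorProduct S R R) : WittVector p R →+* WittVector p (TensorProduct S R R)))) (Dieu.BC.map (WittVector.map (Algebra.TensorProduct.includeLeftRingHom : R →+* TensorProduct S R R) : WittVector p R →+* WittVector p (TensorProduct S R R)) χ z₁) =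
          (Dieu.BC.castHom (P := P') e₂).comp (Dieu.BC.lift (WittVector.map ((Algebra.TensorProduct.includeRight : R →ₐ[S] TensorProduct S R R) : R →+* TensorProduct S R R) : WittVector p R →+* WittVector p (TensorProduct S R R)) (Dieu.BC.push (WittVector.map (algebraMap S R) : WittVector p S →+* WittVector p R) (WittVector.map ((Algebra.TensorProduct.includeRight : R →ₐ[S] TensorProduct S R R) : R →+* TensorProduct S R R) : WittVector p R →+* WittVector p (TensorProduct S R R)))) (Dieu.BC.map (WittVector.map ((Algebra.TensorProduct.includeRight : R →ₐ[S] TensorProduct S R R) : R →+* TensorProduct S R R) : WittVector p R →+* WittVector p (TensorProduct S R R)) χ z₂)) :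
    ∃! ψ : P →ₗ[WittVector p S] P', W4c1extbt610.IsHom D D' ψ ∧ Dieu.BC.map (WittVector.map (algebraMap S R) : WittVector p S →+* WittVector p R) ψ = χ := by
  haveI := D'.projective
  haveI hflat : Module.Flat (WittVector p S) P' := Module.Flat.of_projective
  have hinj : Function.Injective
      (WittVector.map (algebraMap S R) : WittVector p S →+* WittVector p R) :=
    WittVector.map_injective _ (FaithfulSMul.algebraMap_injective S R)
  obtain ⟨ψ, hψ, huniq⟩ := exists_descent
    (WittVector.map (algebraMap S R) : WittVector p S →+* WittVector p R)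
    (WittVector.map (Algebra.TensorProduct.includeLeftRingHom : R →+* TensorProduct S R R) : WittVector p R →+* WittVector p (TensorProduct S R R))
    (WittVector.map ((Algebra.TensorProduct.includeRight : R →ₐ[S] TensorProduct S R R) : R →+* TensorProduct S R R) : WittVector p R →+* WittVector p (TensorProduct S R R))
    (WittVector.map (algebraMap S (TensorProduct S R R)) : WittVector p S →+* WittVector p (TensorProduct S R R))
    e₁ e₂ χ hinj witt_equalizer hdesc
  have hιinj := (Groth.Agent.S16541.main
    (WittVector.map (algebraMap S R) : WittVector p S →+* WittVector p R)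
    (WittVector.map (Algebra.TensorProduct.includeLeftRingHom : R →+* TensorProduct S R R) : WittVector p R →+* WittVector p (TensorProduct S R R))
    (WittVector.map ((Algebra.TensorProduct.includeRight : R →ₐ[S] TensorProduct S R R) : R →+* TensorProduct S R R) : WittVector p R →+* WittVector p (TensorProduct S R R))
    (e₁.trans e₂.symm) (M := P') hinj witt_equalizer).1
  refine ⟨ψ, ⟨isHom_of_map D D' DR hDR DR' hDR' ψ (by rw [hψ]; exact hχ) hιinj, hψ⟩,
    fun ψ' h => huniq ψ' h.2⟩

end Groth.Agent.S16545
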