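import Groth.Statements.S16572
import Mathlib.FieldTheory.Isaacs
import Mathlib.RingTheory.LocalRing.ResidueField.Instances
import Mathlib.RingTheory.Polynomial.ScaleRoots
import Mathlib.FieldTheory.IsAlgClosed.AlgebraicClosure
import Mathlib.RingTheory.Localization.Integer
import Mathlib.Algebra.Polynomial.Lifts
import Mathlib.RingTheory.IntegralClosure.IsIntegralClosure.Basic

set_option autoImplicit false
universe u
open CAlg

namespace Groth.Agent.S16572

open Polynomial in
/-- index set -/
abbrev Idx (A : Type u) [CommRing A] : Type u := {P : Polynomial A // P.Monic ∧ 0 < P.natDegree}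

noncomputable abbrev JJ (A : Type u) [CommRing A] : Ideal (MvPolynomial (Idx A) A) :=
  Ideal.span (Set.range fun P : Idx A => Polynomial.aeval (MvPolynomial.X (R := A) P) P.1)

abbrev TT (A : Type u) [CommRing A] : Type u := MvPolynomial (Idx A) A ⧸ JJ A

theorem root_TT (A : Type u) [CommRing A] (P : Idx A) :
    Polynomial.aeval (Ideal.Quotient.mk (JJ A) (MvPolynomial.X P)) P.1 = 0 := by
  have := Polynomial.aeval_algHom_apply (Ideal.Quotient.mkₐ A (JJ A)) (MvPolynomial.X P) P.1
  rw [Ideal.Quotient.mkₐ_eq_mk] at this
  rw [this, Ideal.Quotient.eq_zero_iff_mem]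
  exact Ideal.subset_span ⟨P, rfl⟩

theorem exists_hom (A : Type u) [CommRing A] (K : Type u) [Field K] [Algebra A K] [IsAlgClosed K] :
    Nonempty (TT A →ₐ[A] K) := by
  have hr : ∀ P : Idx A, ∃ r : K, Polynomial.aeval r P.1 = 0 := by
    intro P
    have hdeg : (P.1.map (algebraMap A K)).degree ≠ 0 := by
      rw [P.2.1.degree_map]
      intro h
      have h3 : P.1.natDegree = 0 := Polynomial.natDegree_eq_of_degree_eq_some h
      have h2 := P.2.2
      omega
    obtain ⟨r, hr⟩ := IsAlgClosed.exists_root _ hdeg
    refine ⟨r, ?_⟩
    rw [Polynomial.aeval_def, ← Polynomial.eval_map]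
    exact hr
  choose r hr using hr
  let φ₀ : MvPolynomial (Idx A) A →ₐ[A] K := MvPolynomial.aeval r
  refine ⟨Ideal.Quotient.liftₐ (JJ A) φ₀ ?_⟩
  intro a ha
  have hle : JJ A ≤ RingHom.ker φ₀.toRingHom := by
    rw [Ideal.span_le]
    rintro _ ⟨P, rfl⟩
    change φ₀ (Polynomial.aeval (MvPolynomial.X (R := A) P) P.1) = 0
    rw [← Polynomial.aeval_algHom_apply]
    simp only [φ₀, MvPolynomial.aeval_X]
    exact hr P
  exact hle ha

theorem isIntegral_TT (A : Type u) [CommRing A] : Algebra.IsIntegral A (TT A) := by
  have hgen : Algebra.adjoin A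
      (Set.range fun P : Idx A => Ideal.Quotient.mk (JJ A) (MvPolynomial.X P)) = ⊤ := by
    have h1 := MvPolynomial.adjoin_range_X (R := A) (σ := Idx A)
    have h2 := congrArg (Subalgebra.map (Ideal.Quotient.mkₐ A (JJ A))) h1
    rw [AlgHom.map_adjoin, Algebra.map_top, (AlgHom.range_eq_top _).mpr
      (Ideal.Quotient.mkₐ_surjective A (JJ A)), ← Set.range_comp] at h2
    exact h2
  have hle : (⊤ : Subalgebra A (TT A)) ≤ integralClosure A (TT A) := by
    rw [← hgen]
    apply Algebra.adjoin_le
    rintro _ ⟨P, rfl⟩
    exact ⟨P.1, P.2.1, by rw [← Polynomial.aeval_def]; exact root_TT A P⟩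
  exact ⟨fun x => hle Algebra.mem_top⟩

theorem surj_TT (A : Type u) [CommRing A] :
    Function.Surjective (PrimeSpectrum.comap (algebraMap A (TT A))) := by
  intro 𝔭
  obtain ⟨φ⟩ := exists_hom A (AlgebraicClosure 𝔭.asIdeal.ResidueField)
  refine ⟨⟨RingHom.ker φ.toRingHom, RingHom.ker_isPrime _⟩, ?_⟩
  apply PrimeSpectrum.ext
  change Ideal.comap (algebraMap A (TT A)) (RingHom.ker φ.toRingHom) = 𝔭.asIdeal
  ext x
  rw [Ideal.mem_comap, RingHom.mem_ker]
  change φ (algebraMap A (TT A) x) = 0 ↔ _
  rw [AlgHom.commutes, IsScalarTower.algebraMap_apply A 𝔭.asIdeal.ResidueField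
    (AlgebraicClosure 𝔭.asIdeal.ResidueField), map_eq_zero_iff _ (RingHom.injective _),
    Ideal.algebraMap_residueField_eq_zero]

open Polynomial in
theorem part2 (A : Type u) [CommRing A] (Q : Ideal (TT A)) [Q.IsPrime] :
    IsAlgClosed Q.ResidueField ∧
    (Ideal.ResidueField.map (Q.comap (algebraMap A (TT A))) Q (algebraMap A (TT A)) rfl).IsIntegral := by
  set q := Q.comap (algebraMap A (TT A)) with hq
  have : Q.LiesOver q := ⟨rfl⟩
  let _ := Localization.AtPrime.algebraOfLiesOver q Q
  have := isIntegral_TT A
  have halg : Algebra.IsAlgebraic q.ResidueField Q.ResidueField := inferInstance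
  have hmap : algebraMap q.ResidueField Q.ResidueField =
      Ideal.ResidueField.map q Q (algebraMap A (TT A)) rfl := rfl
  have hcomp : ∀ a : A, algebraMap q.ResidueField Q.ResidueField (algebraMap A q.ResidueField a) =
      algebraMap (TT A) Q.ResidueField (algebraMap A (TT A) a) := by
    intro a
    rw [hmap, Ideal.ResidueField.map_algebraMap]
  refine ⟨?_, ?_⟩
  · -- algebraically closed
    have hroot : ∀ f : (q.ResidueField)[X], f.Monic → Irreducible f →
        ∃ x : Q.ResidueField, aeval x f = 0 := by
      intro f hfm hfi
      have hnpos : 0 < f.natDegree := hfi.natDegree_pos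
      obtain ⟨b, hb⟩ := IsLocalization.exist_integer_multiples_of_finset
        (nonZeroDivisors (A ⧸ q)) (S := q.ResidueField) f.coeffs
      set s : q.ResidueField := algebraMap (A ⧸ q) q.ResidueField (b : A ⧸ q) with hs
      have hs0 : s ≠ 0 := by
        rw [hs, Ne, map_eq_zero_iff _ (IsFractionRing.injective (A ⧸ q) q.ResidueField)]
        exact nonZeroDivisors.coe_ne_zero b
      -- the range of A → κ(q) as a subring
      have hrange : ∀ d : A ⧸ q, algebraMap (A ⧸ q) q.ResidueField d ∈
          (algebraMap A q.ResidueField).range := by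
        intro d
        obtain ⟨a, rfl⟩ := Ideal.Quotient.mk_surjective d
        exact ⟨a, rfl⟩
      have hsr : s ∈ (algebraMap A q.ResidueField).range := hrange _
      have hlifts : scaleRoots f s ∈ lifts (algebraMap A q.ResidueField) := by
        rw [lifts_iff_coeff_lifts]
        intro i
        rw [coeff_scaleRoots]
        change _ ∈ (algebraMap A q.ResidueField).range
        rcases lt_trichotomy i f.natDegree with hi | hi | hi
        · by_cases hc : f.coeff i = 0
          · rw [hc, zero_mul]; exact Subring.zero_mem _
          · obtain ⟨d, hd⟩ := hb _ (coeff_mem_coeffs hc)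
            have e1 : f.coeff i * s ^ (f.natDegree - i) =
                (s * f.coeff i) * s ^ (f.natDegree - i - 1) := by
              have : f.natDegree - i = (f.natDegree - i - 1) + 1 := by omega
              conv_lhs => rw [this, pow_succ]
              ring
            rw [e1]
            apply Subring.mul_mem
            · have : s * f.coeff i = algebraMap (A ⧸ q) q.ResidueField d := by
                rw [hd, Algebra.smul_def]
              rw [this]; exact hrange d
            · exact Subring.pow_mem _ hsr _
        · rw [hi, Nat.sub_self, pow_zero, mul_one]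
          have : f.coeff f.natDegree = 1 := hfm
          rw [this]; exact Subring.one_mem _
        · rw [coeff_eq_zero_of_natDegree_lt hi, zero_mul]; exact Subring.zero_mem _
      obtain ⟨G, hGmap, hGdeg, hGmonic⟩ := lifts_and_natDegree_eq_and_monic hlifts
        ((monic_scaleRoots_iff s).mpr hfm)
      rw [natDegree_scaleRoots] at hGdeg
      let PG : Idx A := ⟨G, hGmonic, by omega⟩
      set y : Q.ResidueField := algebraMap (TT A) Q.ResidueField
        (Ideal.Quotient.mk (JJ A) (MvPolynomial.X PG)) with hy
      have hy0 : eval₂ (algebraMap q.ResidueField Q.ResidueField) y (scaleRoots f s) = 0 := by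
        rw [← hGmap, eval₂_map]
        have hc : (algebraMap q.ResidueField Q.ResidueField).comp (algebraMap A q.ResidueField) =
            (algebraMap (TT A) Q.ResidueField).comp (algebraMap A (TT A)) :=
          RingHom.ext hcomp
        rw [hc, hy, ← hom_eval₂, ← aeval_def]
        have := root_TT A PG
        rw [this, map_zero]
      refine ⟨y / algebraMap q.ResidueField Q.ResidueField s, ?_⟩
      have hψs : algebraMap q.ResidueField Q.ResidueField s ≠ 0 := by
        rw [Ne, map_eq_zero_iff _ (RingHom.injective _)]; exact hs0
      have h1 := scaleRoots_eval₂_mul (p := f) (algebraMap q.ResidueField Q.ResidueField)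
        (y / algebraMap q.ResidueField Q.ResidueField s) s
      rw [mul_div_cancel₀ _ hψs, hy0] at h1
      rw [aeval_def]
      rcases mul_eq_zero.mp h1.symm with h | h
      · exact absurd (pow_eq_zero_iff (by omega) |>.mp h) hψs
      · exact h
    exact (IsAlgClosure.of_exists_root hroot).isAlgClosed
  · -- integrality
    intro z
    rw [← hmap]
    exact (Algebra.IsAlgebraic.isIntegral (K := q.ResidueField)).isIntegral z

/-- Let A be a commutative ring and T the quotient of the polynomial ring over A in indeterminates X_P,
one for each monic polynomial P over A of positive degree, by the ideal generated by the elements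
P(X_P). Then the map on prime spectra Spec T → Spec A is surjective, and for every prime ideal Q of
T, with p its contraction to A, the residue field of Q is algebraically closed and integral over the
residue field of p under the induced map of residue fields (so it is an algebraic closure of it). -/
theorem result (A : Type u) [CommRing A] :
    Function.Surjective (PrimeSpectrum.comap (algebraMap A (MvPolynomial {P : Polynomial A // P.Monic ∧ 0 < P.natDegree} A ⧸
      Ideal.span (Set.range fun P : {P : Polynomial A // P.Monic ∧ 0 < P.natDegree} =>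
        Polynomial.aeval (MvPolynomial.X (R := A) P) P.1)))) ∧
    ∀ (Q : Ideal (MvPolynomial {P : Polynomial A // P.Monic ∧ 0 < P.natDegree} A ⧸
      Ideal.span (Set.range fun P : {P : Polynomial A // P.Monic ∧ 0 < P.natDegree} =>
        Polynomial.aeval (MvPolynomial.X (R := A) P) P.1))) [Q.IsPrime],
      IsAlgClosed Q.ResidueField ∧
      (Ideal.ResidueField.map (Q.comap (algebraMap A (MvPolynomial {P : Polynomial A // P.Monic ∧ 0 < P.natDegree} A ⧸
      Ideal.span (Set.range fun P : {P : Polynomial A // P.Monic ∧ 0 < P.natDegree} =>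
        Polynomial.aeval (MvPolynomial.X (R := A) P) P.1)))) Q (algebraMap A (MvPolynomial {P : Polynomial A // P.Monic ∧ 0 < P.natDegree} A ⧸
      Ideal.span (Set.range fun P : {P : Polynomial A // P.Monic ∧ 0 < P.natDegree} =>
        Polynomial.aeval (MvPolynomial.X (R := A) P) P.1))) rfl).IsIntegral := by
  exact ⟨surj_TT A, fun Q _ => part2 A Q⟩

end Groth.Agent.S16572
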