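import Groth.Statements.S16573
import Mathlib
import Groth.Agent.S16572
import Groth.Agent.Lib.Helper20ResFldK

set_option autoImplicit false
universe u
open CategoryTheory AlgebraicGeometry
open EtCore

namespace Groth.Agent.S16573

lemma isIntegral_of_iso {K K' L L' : CommRingCat.{u}} (h : K ⟶ L) (m : K' ⟶ L') (a : K' ≅ K)
    (b : L ≅ L') (e : a.hom ≫ h ≫ b.hom = m) (hm : m.hom.IsIntegral) : h.hom.IsIntegral := by
  have h1 : h = a.inv ≫ m ≫ b.inv := by
    rw [← e]
    simp
  rw [h1]
  simp only [CommRingCat.hom_comp]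
  refine RingHom.IsIntegral.trans _ _ ?_ (RingHom.IsIntegral.trans _ _ hm ?_)
  · exact RingHom.isIntegral_of_surjective _ (ConcreteCategory.bijective_of_isIso a.inv).2
  · exact RingHom.isIntegral_of_surjective _ (ConcreteCategory.bijective_of_isIso b.inv).2

lemma isIntegral_of_comm {K K' L L' : CommRingCat.{u}} (h : K ⟶ L) (m : K' ⟶ L') (a : K ⟶ K')
    (b : L ⟶ L') [IsIso a] [IsIso b] (e : h ≫ b = a ≫ m) (hm : m.hom.IsIntegral) :
    h.hom.IsIntegral :=
  isIntegral_of_iso h m (asIso a).symm (asIso b) (by simp [e]) hm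


/-- For a quasi-compact quasi-separated scheme X there are an affine scheme X' and a quasi-compact
surjective morphism f : X' → X such that for every point x' of X' the residue field of x' is
algebraically closed and integral over the residue field of f(x') under the induced map of residue
fields, that is, an algebraic closure of it. -/
theorem result
    (X : Scheme.{u}) [CompactSpace X] [QuasiSeparatedSpace X] :
    ∃ (X' : Scheme.{u}) (f : X' ⟶ X), IsAffine X' ∧ QuasiCompact f ∧ Surjective f ∧
      ∀ x' : X', IsAlgClosed (X'.residueField x') ∧ (f.residueFieldMap x').hom.IsIntegral := by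
  let 𝒰 := X.affineCover.finiteSubcover
  let A : 𝒰.I₀ → CommRingCat.{u} := fun i => Γ(𝒰.X i, ⊤)
  let T : 𝒰.I₀ → CommRingCat.{u} := fun i => CommRingCat.of (Groth.Agent.S16572.TT (A i))
  let φ : ∀ i, A i ⟶ T i := fun i =>
    CommRingCat.ofHom (algebraMap (A i) (Groth.Agent.S16572.TT (A i)))
  let j : ∀ i, Spec (A i) ⟶ X := fun i => (𝒰.X i).isoSpec.inv ≫ 𝒰.f i
  let g : ∀ i, Spec (T i) ⟶ X := fun i => Spec.map (φ i) ≫ j i
  refine ⟨∐ fun i => Spec (T i), Limits.Sigma.desc g, inferInstance, inferInstance, ?_, ?_⟩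
  · refine ⟨fun x => ?_⟩
    obtain ⟨i, y, hy⟩ := 𝒰.exists_eq x
    obtain ⟨w, hw⟩ := Groth.Agent.S16572.surj_TT (A i) ((𝒰.X i).isoSpec.hom y)
    refine ⟨(Limits.Sigma.ι (fun i => Spec (T i)) i) w, ?_⟩
    rw [← Scheme.Hom.comp_apply, Limits.Sigma.ι_desc]
    change (j i) ((Spec.map (φ i)) w) = x
    have hw' : (Spec.map (φ i)) w = (𝒰.X i).isoSpec.hom y := hw
    rw [hw']
    have e : (𝒰.X i).isoSpec.hom ≫ j i = 𝒰.f i := Iso.hom_inv_id_assoc _ _
    have h2 : ((𝒰.X i).isoSpec.hom ≫ j i) y = x := by
      rw [e]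
      exact hy
    exact h2
  · intro x'
    obtain ⟨i, w, rfl⟩ : ∃ (i : 𝒰.I₀) (w : Spec (T i)),
        (Limits.Sigma.ι (fun i => Spec (T i)) i) w = x' :=
      (sigmaOpenCover (fun i => Spec (T i))).exists_eq x'
    obtain ⟨hac, hint⟩ := Groth.Agent.S16572.part2 (A i)
      (w : PrimeSpectrum (Groth.Agent.S16572.TT (A i))).asIdeal
    let ι := Limits.Sigma.ι (fun i => Spec (T i)) i
    change IsAlgClosed ((∐ fun i => Spec (T i)).residueField (ι w)) ∧
      ((Limits.Sigma.desc g).residueFieldMap (ι w)).hom.IsIntegral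
    let e2 := Scheme.Spec.residueFieldIso (T i) w
    refine ⟨?_, ?_⟩
    · haveI := hac
      exact IsAlgClosed.of_ringEquiv _ _
        (asIso (ι.residueFieldMap w) ≪≫ e2).symm.commRingCatIsoToRingEquiv
    · haveI : IsOpenImmersion (j i) := inferInstance
      have hιf : ι ≫ Limits.Sigma.desc g = Spec.map (φ i) ≫ j i := Limits.Sigma.ι_desc _ _
      let p : PrimeSpectrum (A i) := PrimeSpectrum.comap (φ i).hom w
      have hu : (Spec.map (φ i) ≫ j i) w = (j i) p := rfl
      have K := Groth.Agent.Lib.Helper20.ResFld.residueFieldMap_SpecMap_comp (j i) (φ i)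
        ((j i) p) w p rfl rfl hu
      simp only [Scheme.residueFieldCongr_refl, Iso.refl_inv, Category.id_comp] at K
      rw [Iso.inv_comp_eq] at K
      have h1 : (ι ≫ Limits.Sigma.desc g) w = (Spec.map (φ i) ≫ j i) w := by rw [hιf]
      have step : (Limits.Sigma.desc g).residueFieldMap (ι w) ≫ ι.residueFieldMap w =
          (X.residueFieldCongr h1).hom ≫ (Spec.map (φ i) ≫ j i).residueFieldMap w :=
        (Scheme.residueFieldMap_comp ι (Limits.Sigma.desc g) w).symm.trans
          (Scheme.Hom.residueFieldMap_congr hιf w)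
      have e : (Limits.Sigma.desc g).residueFieldMap (ι w) ≫ (ι.residueFieldMap w ≫ e2.hom) =
          ((X.residueFieldCongr h1).hom ≫ (X.residueFieldCongr hu).hom ≫
            (j i).residueFieldMap p ≫ (Scheme.Spec.residueFieldIso (A i) p).hom) ≫
          CommRingCat.ofHom (Ideal.ResidueField.map p.asIdeal w.asIdeal (φ i).hom rfl) := by
        refine (Category.assoc _ _ _).symm.trans ?_
        refine (congrArg (· ≫ e2.hom) step).trans ?_
        refine (Category.assoc _ _ _).trans ?_
        refine (congrArg ((X.residueFieldCongr h1).hom ≫ ·) K).trans ?_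
        simp only [Category.assoc]
      haveI i1 : IsIso ((j i).residueFieldMap p) := by
        change IsIso ((j i).residueFieldMap (show ↥(Spec (A i)) from p))
        infer_instance
      haveI i2 : IsIso ((X.residueFieldCongr h1).hom ≫ (X.residueFieldCongr hu).hom ≫
            (j i).residueFieldMap p ≫ (Scheme.Spec.residueFieldIso (A i) p).hom) := by
        infer_instance
      exact @isIntegral_of_comm _ _ _ _ _ _ _ _ i2 inferInstance e hint

end Groth.Agent.S16573
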