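import Groth.Statements.S16576
import Mathlib
import Groth.Agent.Lib.Helper28Normal
import Groth.Agent.Lib.Helper28DepthAss
import Groth.Agent.Lib.Helper28DepthBC
import Groth.Agent.Lib.Helper28DepthFlat
import Groth.Agent.Lib.Helper28ComplNagata
import Groth.Agent.Lib.Helper28GeomRed1
import Groth.Agent.Lib.Helper28ComplFlatLocal
import Groth.Agent.Lib.Helper14Japanese
import Groth.Agent.Lib.Helper5IntDim
-- import your own Groth.Agent.* helpers here

set_option autoImplicit false
universe u
open CAlg

namespace Groth.Agent.S16576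
open IsLocalRing TensorProduct Groth.Agent.Lib.Helper28


/-- The normalisation of a quotient domain `R/q` of a complete Noetherian local ring, of dimension at
least two, has depth at least two as an `R`-module. -/
theorem two_le_depth_normalization {R : Type u} [CommRing R] [IsNoetherianRing R] [IsLocalRing R]
    [IsAdicComplete (maximalIdeal R) R] (q : Ideal R) [hq : q.IsPrime]
    (hdim : (2 : WithBot ℕ∞) ≤ ringKrullDim (R ⧸ q)) :
    Module.Finite R (integralClosure (R ⧸ q) (FractionRing (R ⧸ q))) ∧
      (2 : ℕ∞) ≤ LocCoh.depth R (integralClosure (R ⧸ q) (FractionRing (R ⧸ q))) := by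
  have hfin : Module.Finite (R ⧸ q) (integralClosure (R ⧸ q) (FractionRing (R ⧸ q))) :=
    Groth.Agent.Lib.Helper14.IsN2.isN1
      ((Groth.Agent.Lib.Helper28.isNagata_of_isAdicComplete_local R).2 q)
  have hfinR : Module.Finite R (integralClosure (R ⧸ q) (FractionRing (R ⧸ q))) :=
    Module.Finite.trans (R ⧸ q) _
  refine ⟨hfinR, ?_⟩
  have : IsLocalRing (R ⧸ q) := Groth.Agent.Lib.Helper5.isLocalRing_quotient hq.ne_top
  have : IsAdicComplete (maximalIdeal (R ⧸ q)) (R ⧸ q) :=
    Groth.Agent.Lib.Helper28.isAdicComplete_quotient_local q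
  have : HenselianLocalRing (R ⧸ q) :=
    Groth.Agent.Lib.Helper28.GeomRed.henselianLocalRing_of_isAdicComplete (R ⧸ q)
  have hloc : IsLocalRing (integralClosure (R ⧸ q) (FractionRing (R ⧸ q))) :=
    Groth.Agent.Lib.Helper28.GeomRed.isLocalRing_of_finite_of_isDomain (R ⧸ q) _
  have hnoeth : IsNoetherianRing (integralClosure (R ⧸ q) (FractionRing (R ⧸ q))) :=
    IsNoetherianRing.of_finite (R ⧸ q) _
  have hic : IsIntegrallyClosed (integralClosure (R ⧸ q) (FractionRing (R ⧸ q))) :=
    integralClosure.isIntegrallyClosedOfFiniteExtension (FractionRing (R ⧸ q))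
  have hinj : Function.Injective
      (algebraMap (R ⧸ q) (integralClosure (R ⧸ q) (FractionRing (R ⧸ q)))) := by
    intro a b hab
    have := congrArg (Subtype.val) hab
    exact IsFractionRing.injective (R ⧸ q) (FractionRing (R ⧸ q)) this
  have hdimV : (2 : WithBot ℕ∞) ≤
      ringKrullDim (integralClosure (R ⧸ q) (FractionRing (R ⧸ q))) := by
    rw [Groth.Agent.Lib.Helper5.ringKrullDim_eq_of_isIntegral_of_injective (R ⧸ q) _ hinj]
    exact hdim
  have h2 := two_le_depth_of_isIntegrallyClosed_of_two_le_dim hdimV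
  have h1 : IsLocalHom (Ideal.Quotient.mk q) :=
    IsLocalHom.of_surjective _ Ideal.Quotient.mk_surjective
  have h2' : IsLocalHom
      (algebraMap (R ⧸ q) (integralClosure (R ⧸ q) (FractionRing (R ⧸ q)))) :=
    (algebraMap_isIntegral_iff.mpr inferInstance).isLocalHom hinj
  have hlocal : IsLocalHom (algebraMap R (integralClosure (R ⧸ q) (FractionRing (R ⧸ q)))) := by
    rw [IsScalarTower.algebraMap_eq R (R ⧸ q) (integralClosure (R ⧸ q) (FractionRing (R ⧸ q)))]
    exact RingHom.isLocalHom_comp _ _
  rw [depth_eq_depth_of_isLocalHom_of_finite (A := R)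
    (B := integralClosure (R ⧸ q) (FractionRing (R ⧸ q)))
    (M := integralClosure (R ⧸ q) (FractionRing (R ⧸ q)))]
  exact h2

/-- Key step: over a complete base, the quotient of a flat local algebra by a minimal prime lying
over a prime `q` with `dim R/q ≥ 2` has dimension at least two. -/
theorem two_le_dim_quotient_minimalPrime {R T : Type u} [CommRing R] [IsNoetherianRing R]
    [IsLocalRing R] [IsAdicComplete (maximalIdeal R) R] [CommRing T] [IsNoetherianRing T]
    [IsLocalRing T] [Algebra R T] [IsLocalHom (algebraMap R T)] [Module.Flat R T]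
    (q : Ideal R) [hq : q.IsPrime] (hdim : (2 : WithBot ℕ∞) ≤ ringKrullDim (R ⧸ q))
    (Q : Ideal T) (hQ : Q ∈ minimalPrimes T) (hqQ : q.map (algebraMap R T) ≤ Q) :
    (2 : WithBot ℕ∞) ≤ ringKrullDim (T ⧸ Q) := by
  obtain ⟨hfin, hdepth⟩ := two_le_depth_normalization q hdim
  have hd := depth_tensor_of_flat (R := R) (S := T)
    (integralClosure (R ⧸ q) (FractionRing (R ⧸ q))) T
  have h2 : (2 : ℕ∞) ≤
      LocCoh.depth T (T ⊗[R] integralClosure (R ⧸ q) (FractionRing (R ⧸ q))) := by
    rw [hd]
    exact hdepth.trans le_self_add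
  have hass : Q ∈ associatedPrimes T
      (T ⊗[R] integralClosure (R ⧸ q) (FractionRing (R ⧸ q))) := by
    let ι : (R ⧸ q) →ₗ[R] integralClosure (R ⧸ q) (FractionRing (R ⧸ q)) :=
      (IsScalarTower.toAlgHom R (R ⧸ q)
        (integralClosure (R ⧸ q) (FractionRing (R ⧸ q)))).toLinearMap
    have hι : Function.Injective ι := by
      intro a b hab
      have := congrArg (Subtype.val) hab
      exact IsFractionRing.injective (R ⧸ q) (FractionRing (R ⧸ q)) this
    have hι' : Function.Injective (ι.baseChange T) := by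
      rw [LinearMap.baseChange_eq_ltensor]
      exact Module.Flat.lTensor_preserves_injective_linearMap ι hι
    let ψ : (T ⧸ q.map (algebraMap R T)) →ₗ[T]
        T ⊗[R] integralClosure (R ⧸ q) (FractionRing (R ⧸ q)) :=
      (ι.baseChange T) ∘ₗ (Ideal.qoutMapEquivTensorQout T (I := q)).toLinearMap
    have hψ : Function.Injective ψ :=
      hι'.comp (Ideal.qoutMapEquivTensorQout T (I := q)).injective
    apply associatedPrimes.subset_of_injective hψ
    apply Module.associatedPrimes.minimalPrimes_annihilator_subset_associatedPrimes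
    rw [Ideal.annihilator_quotient]
    exact ⟨⟨hQ.1.1, hqQ⟩, fun P hP hPQ => hQ.2 ⟨hP.1, bot_le⟩ hPQ⟩
  have h3 := depth_le_ringKrullDim_quotient_of_mem_associatedPrimes hass
  refine le_trans ?_ h3
  have h4 : (((2 : ℕ∞)) : WithBot ℕ∞) ≤
      ((LocCoh.depth T (T ⊗[R] integralClosure (R ⧸ q) (FractionRing (R ⧸ q))) : ℕ∞) :
        WithBot ℕ∞) := WithBot.coe_le_coe.mpr h2
  exact h4


/-- Let A → B be a flat local homomorphism of Noetherian local rings and let Â, B̂ be their completions
at the maximal ideals. If every irreducible component of Spec Â has dimension at least 2, then every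
irreducible component of Spec B̂ has dimension at least 2. (This is the c_2 condition in its
completed form; globally: the preimage of a c_2 closed subset under a flat morphism of Noetherian
schemes is c_2, in particular the condition is invariant under Zariski and étale localization.) -/
theorem result
    (A B : Type u) [CommRing A] [CommRing B] [IsNoetherianRing A] [IsNoetherianRing B]
    [IsLocalRing A] [IsLocalRing B] (f : A →+* B) [IsLocalHom f] (hf : f.Flat)
    (hA : ∀ q ∈ minimalPrimes (AdicCompletion (IsLocalRing.maximalIdeal A) A), (2 : WithBot ℕ∞) ≤ ringKrullDim (AdicCompletion (IsLocalRing.maximalIdeal A) A ⧸ q)) :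
    ∀ q ∈ minimalPrimes (AdicCompletion (IsLocalRing.maximalIdeal B) B), (2 : WithBot ℕ∞) ≤ ringKrullDim (AdicCompletion (IsLocalRing.maximalIdeal B) B ⧸ q) := by
  intro Q hQ
  let _ : Algebra A B := f.toAlgebra
  have hloc0 : IsLocalHom (algebraMap A B) := ‹IsLocalHom f›
  have hflat0 : Module.Flat A B := hf
  obtain ⟨alg, htower, hloc, hflat⟩ :=
    Groth.Agent.Lib.Helper28.exists_algebra_adicCompletion_of_isLocalHom A B
  have hfl := hflat hflat0
  have hcomp := isAdicComplete_maximalIdeal_adicCompletion A
  have hNA : IsNoetherianRing (AdicCompletion (IsLocalRing.maximalIdeal A) A) :=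
    Groth.Agent.Lib.Helper19.isNoetherianRing_adicCompletion _
  have hNB : IsNoetherianRing (AdicCompletion (IsLocalRing.maximalIdeal B) B) :=
    Groth.Agent.Lib.Helper19.isNoetherianRing_adicCompletion _
  have hQp : Q.IsPrime := hQ.1.1
  have hqp : (Q.comap (algebraMap (AdicCompletion (IsLocalRing.maximalIdeal A) A)
      (AdicCompletion (IsLocalRing.maximalIdeal B) B))).IsPrime := Ideal.comap_isPrime _ _
  have hqmin : Q.comap (algebraMap (AdicCompletion (IsLocalRing.maximalIdeal A) A)
      (AdicCompletion (IsLocalRing.maximalIdeal B) B)) ∈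
      minimalPrimes (AdicCompletion (IsLocalRing.maximalIdeal A) A) := by
    obtain ⟨p, hpmin, hpq⟩ := Ideal.exists_minimalPrimes_le (I := ⊥)
      (J := Q.comap (algebraMap (AdicCompletion (IsLocalRing.maximalIdeal A) A)
        (AdicCompletion (IsLocalRing.maximalIdeal B) B))) bot_le
    have hpp : p.IsPrime := hpmin.1.1
    have hlies : Q.LiesOver (Q.comap (algebraMap (AdicCompletion (IsLocalRing.maximalIdeal A) A)
      (AdicCompletion (IsLocalRing.maximalIdeal B) B))) := ⟨rfl⟩
    obtain ⟨P, hPQ, hPp, hPlies⟩ := Ideal.exists_ideal_le_liesOver_of_le Q hpq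
    have hPeq : P = Q := le_antisymm hPQ (hQ.2 ⟨hPp, bot_le⟩ hPQ)
    have hpeq : p = Q.comap (algebraMap (AdicCompletion (IsLocalRing.maximalIdeal A) A)
        (AdicCompletion (IsLocalRing.maximalIdeal B) B)) := by
      rw [hPlies.over, hPeq]
    rwa [← hpeq]
  exact two_le_dim_quotient_minimalPrime _ (hA _ hqmin) Q hQ Ideal.map_comap_le

end Groth.Agent.S16576
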