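import Groth.Statements.S16577
import Groth.Agent.Lib.Helper3HzP
import Mathlib

set_option autoImplicit false
universe u
open Hensel

namespace Groth.Agent.S16577

open Groth.Agent.Lib.Helper3

/-- minimal primes over an extended prime ideal contract to it, for flat algebras -/
theorem comap_eq_of_mem_minimalPrimes {A S : Type*} [CommRing A] [CommRing S] [Algebra A S]
    [Module.Flat A S] (p : Ideal A) [p.IsPrime] (P : Ideal S)
    (hP : P ∈ (p.map (algebraMap A S)).minimalPrimes) : P.comap (algebraMap A S) = p := by
  haveI : P.IsPrime := hP.1.1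
  have h1 : p ≤ P.comap (algebraMap A S) := Ideal.map_le_iff_le_comap.mp hP.1.2
  haveI : P.LiesOver (P.comap (algebraMap A S)) := ⟨rfl⟩
  obtain ⟨P', hP'le, hP'prime, hP'over⟩ :=
    Ideal.exists_ideal_le_liesOver_of_le (p := p) (q := P.comap (algebraMap A S)) P h1
  have h2 : p.map (algebraMap A S) ≤ P' := by
    rw [Ideal.map_le_iff_le_comap]
    exact (hP'over.over).le
  have h3 : P ≤ P' := hP.2 ⟨hP'prime, h2⟩ hP'le
  have h4 : P = P' := le_antisymm h3 hP'le
  rw [h4]
  exact (hP'over.over).symm

/-- Let A be a Noetherian local ring with a strict henselization S', and p a prime ideal of A. Call p an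
immediate étale generization of the closed point when the strict henselization S'/pS' of A/p has an
irreducible component of dimension 1, that is, some minimal prime P over pS' has dim S'/P = 1. Then
p is an immediate étale generization of the closed point if and only if p is the contraction of some
prime ideal P of S' with dim S'/P = 1. -/
theorem result
    (A : Type u) [CommRing A] [IsNoetherianRing A] [IsLocalRing A]
    (S' : Type u) [CommRing S'] [IsLocalRing S'] [Algebra A S'] [IsLocalHom (algebraMap A S')]
    [Hensel.IsStrictHenselization A S']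
    (p : Ideal A) [p.IsPrime] :
    (∃ P ∈ (p.map (algebraMap A S')).minimalPrimes, ringKrullDim (S' ⧸ P) = 1) ↔
    (∃ P : Ideal S', P.IsPrime ∧ P.comap (algebraMap A S') = p ∧ ringKrullDim (S' ⧸ P) = 1) := by
  haveI : Module.FaithfullyFlat A S' := HzP.sh_faithfullyFlat A S'
  constructor
  · rintro ⟨P, hP, hdim⟩
    exact ⟨P, hP.1.1, comap_eq_of_mem_minimalPrimes p P hP, hdim⟩
  · rintro ⟨P, hPprime, hPp, hdim⟩
    haveI := hPprime
    have hle : p.map (algebraMap A S') ≤ P := by
      rw [Ideal.map_le_iff_le_comap, hPp]
    obtain ⟨P₀, hP₀, hP₀le⟩ := Ideal.exists_minimalPrimes_le hle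
    haveI : P₀.IsPrime := hP₀.1.1
    have h0 : P₀.comap (algebraMap A S') = p := comap_eq_of_mem_minimalPrimes p P₀ hP₀
    have heq : P₀ = P := HzP.sh_incomparable A S' P₀ P hP₀le (by
      show P₀.comap (algebraMap A S') = P.comap (algebraMap A S')
      rw [h0, hPp])
    exact ⟨P, heq ▸ hP₀, hdim⟩

end Groth.Agent.S16577
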