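import Groth.Statements.S1658
import Mathlib
import Groth.Agent.Lib.Helper11EffCartFrame

set_option autoImplicit false
universe u
open CategoryTheory CategoryTheory.Limits AlgebraicGeometry
open Divisors

namespace Groth.Agent.S1658


/-- Let X be Noetherian with an ample invertible module and N any invertible O_X-module. For every
finite set E of points of X there are effective Cartier divisors D and D', whose supports miss E,
with N ⊗ I_D ≅ I_{D'} (that is, N ≅ O_X(D) ⊗ O_X(D')^{-1}), where I_D, I_{D'} are the ideal sheaves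
as O_X-modules. -/
theorem result (X : Scheme.{u}) [IsNoetherian X] (L : X.Modules) (hL : CohB1.IsAmple L)
    (N : X.Modules) (hN : PicF.IsInvertible N) (E : Set X) (hE : E.Finite) :
    ∃ D D' : X.IdealSheafData, BlowUp.IsEffCartierIdeal D ∧ BlowUp.IsEffCartierIdeal D' ∧
      Disjoint E (D.support : Set X) ∧ Disjoint E (D'.support : Set X) ∧
      Nonempty (CohB1.tensorMod N (ClSub.idealMod D) ≅ ClSub.idealMod D') := by
  classical
  have hwa := Groth.Agent.Lib.Helper11.EffCartFrame.finite_setOf_wa (X := X)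
  have hT : (E ∪ {x : X | Groth.Agent.Lib.Helper20.WeakAss.WA x}).Finite := hE.union hwa
  have hO := Groth.Agent.Lib.Helper23.TensorUnit.isInvertible_structureModule X
  obtain ⟨V₁, N₁, hTV₁, h₁⟩ := Groth.Agent.Lib.Helper23.SecTw.exists_sections_eventually L hL N hN _ hT
  obtain ⟨V₂, N₂, hTV₂, h₂⟩ := Groth.Agent.Lib.Helper23.SecTw.exists_sections_eventually L hL
    (Coh.structureModule X) hO _ hT
  obtain ⟨s, hs⟩ := h₁ (max N₁ N₂) (le_max_left _ _)
  obtain ⟨s', hs'⟩ := h₂ (max N₁ N₂) (le_max_right _ _)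
  have hP : PicF.IsInvertible (CohB1.tensorPow L (max N₁ N₂)) :=
    Groth.Agent.Lib.Helper23.SecTw.isInvertible_tensorPow hL.1 _
  have hA := Groth.Agent.Lib.Helper23.SecTw.isInvertible_tensorMod hN hP
  have hB := Groth.Agent.Lib.Helper23.SecTw.isInvertible_tensorMod hO hP
  have hsw : {x : X | Groth.Agent.Lib.Helper20.WeakAss.WA x} ⊆ CohB1.genLocus _ s :=
    fun x hx => hs (hTV₁ (Or.inr hx))
  have hsw' : {x : X | Groth.Agent.Lib.Helper20.WeakAss.WA x} ⊆ CohB1.genLocus _ s' :=
    fun x hx => hs' (hTV₂ (Or.inr hx))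
  refine ⟨PicF2.zeroScheme _ s, PicF2.zeroScheme _ s',
    Groth.Agent.Lib.Helper11.EffCartFrame.isEffCartierIdeal_zeroScheme _ hA s hsw,
    Groth.Agent.Lib.Helper11.EffCartFrame.isEffCartierIdeal_zeroScheme _ hB s' hsw', ?_, ?_,
    Groth.Agent.Lib.Helper11.EffCartFrame.nonempty_tensorMod_idealMod_iso N _ hN hP s s' hsw hsw'⟩
  · rw [Set.disjoint_left]
    intro x hx hxD
    exact (Groth.Agent.Lib.Helper11.EffCartFrame.mem_support_zeroScheme_iff _ hA s hsw x).1 hxD
      (hs (hTV₁ (Or.inl hx)))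
  · rw [Set.disjoint_left]
    intro x hx hxD
    exact (Groth.Agent.Lib.Helper11.EffCartFrame.mem_support_zeroScheme_iff _ hB s' hsw' x).1 hxD
      (hs' (hTV₂ (Or.inl hx)))

end Groth.Agent.S1658
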