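import Groth.Statements.S16583
import Mathlib
import Groth.Agent.S10853

set_option autoImplicit false
universe u
open CategoryTheory AlgebraicGeometry
open EtCore

namespace Groth.Agent.S16583

open AlgebraicGeometry CategoryTheory TopologicalSpace Opposite

lemma stalkMap_bijective_of_isField_of_isAlgClosed {X Y : Scheme.{u}} (f : Y ⟶ X) [Etale f] (y : Y)
    (hX : IsField (X.presheaf.stalk (f y))) (hX' : IsAlgClosed (X.residueField (f y))) :
    Function.Bijective (f.stalkMap y).hom := by
  letI : Field (X.presheaf.stalk (f y)) := hX.toField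
  have hmax : IsLocalRing.maximalIdeal (X.presheaf.stalk (f y)) = ⊥ :=
    IsLocalRing.isField_iff_maximalIdeal_eq.mp hX
  have hres : Function.Bijective (IsLocalRing.residue (X.presheaf.stalk (f y))) := by
    refine ⟨?_, IsLocalRing.residue_surjective⟩
    rw [injective_iff_map_eq_zero]
    intro a ha
    rw [IsLocalRing.residue_eq_zero_iff, hmax] at ha
    exact ha
  let e : X.presheaf.stalk (f y) ≃+* X.residueField (f y) :=
    RingEquiv.ofBijective (IsLocalRing.residue (X.presheaf.stalk (f y))) hres
  haveI : IsAlgClosed (X.presheaf.stalk (f y)) := IsAlgClosed.of_ringEquiv _ _ e.symm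
  algebraize [(f.stalkMap y).hom]
  have : Algebra.EssFiniteType (X.presheaf.stalk (f y)) (Y.presheaf.stalk y) := by
    rw [← RingHom.essFiniteType_algebraMap, RingHom.algebraMap_toAlgebra]
    exact LocallyOfFiniteType.stalkMap f y
  have : Algebra.FormallyUnramified (X.presheaf.stalk (f y)) (Y.presheaf.stalk y) := by
    rw [← RingHom.formallyUnramified_algebraMap, RingHom.algebraMap_toAlgebra]
    exact FormallyUnramified.stalkMap f y
  exact Algebra.FormallyUnramified.bijective_of_isAlgClosed_of_isLocalRing
    (X.presheaf.stalk (f y)) (Y.presheaf.stalk y)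

/-- Let X be a scheme such that every local ring of X is a field and every residue field of X is
algebraically closed, and let f : Y → X be an étale morphism. Then f is Zariski-locally trivial: for
every point y of Y there exist an open V of X containing f(y) and a section s : V → Y of f over V
whose image contains y. (The published lemma is stated for a specific scheme X^c attached to a
coherent scheme — the constructible topology of a suitable integral cover, which has these two
properties by construction; the row states the assertion for every scheme with these two properties,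
which is all the printed proof uses. The lemma's further assertions about the étale and Zariski
topoi, torsors and gerbes on X^c are not included.) -/
theorem result
    (X Y : Scheme.{u}) (hX : ∀ x : X, IsField (X.presheaf.stalk x))
    (hX' : ∀ x : X, IsAlgClosed (X.residueField x))
    (f : Y ⟶ X) [Etale f] (y : Y) :
    ∃ (V : X.Opens) (s : (V : Scheme.{u}) ⟶ Y), f.base y ∈ V ∧ s ≫ f = V.ι ∧ y ∈ Set.range s.base := by
  have hbij := stalkMap_bijective_of_isField_of_isAlgClosed f y (hX _) (hX' _)
  haveI : IsIso (f.stalkMap y) := by
    rw [ConcreteCategory.isIso_iff_bijective]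
    exact hbij
  let φ : Y.presheaf.stalk y ⟶ X.presheaf.stalk (f y) := inv (f.stalkMap y)
  haveI : IsLocalHom φ.hom := isLocalHom_of_isIso φ
  have e : (𝟙 X : X ⟶ X) (f y) = f y := rfl
  have h : f.stalkMap y ≫ φ =
      X.presheaf.stalkSpecializes (Inseparable.of_eq e).specializes ≫
        (𝟙 X : X ⟶ X).stalkMap (f y) := by
    simp [φ]
  obtain ⟨U, hxU, s, hs1, hs2⟩ := Groth.Agent.S10853.result (𝟙 X) f e φ h
  refine ⟨U, s, hxU, by simpa using hs2, ?_⟩
  let cp : ↥(Spec (X.presheaf.stalk (f y))) := IsLocalRing.closedPoint (X.presheaf.stalk (f y))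
  have hcp : (U.fromSpecStalkOfMem (f y) hxU) cp = ⟨f y, hxU⟩ := by
    apply U.ι.isOpenEmbedding.injective
    have h1 : (U.fromSpecStalkOfMem (f y) hxU ≫ U.ι) cp = f y := by
      rw [Scheme.Opens.fromSpecStalkOfMem_ι]
      exact Scheme.fromSpecStalk_closedPoint
    exact h1
  refine ⟨⟨f y, hxU⟩, ?_⟩
  show s ⟨f y, hxU⟩ = y
  have h2 : (U.fromSpecStalkOfMem (f y) hxU ≫ s) cp = y := by
    rw [← hs1, Scheme.Hom.comp_apply]
    have h3 : (Spec.map φ) cp = IsLocalRing.closedPoint (Y.presheaf.stalk y) :=
      Spec_closedPoint (f := φ)
    rw [h3]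
    exact Scheme.fromSpecStalk_closedPoint
  rw [← hcp]
  exact h2

end Groth.Agent.S16583
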