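import Groth.Statements.S16599
import Mathlib

set_option autoImplicit false
open AlgebraicGeometry
universe u
open LGRing

namespace Groth.Agent.S16599

open MvPolynomial AlgebraicGeometry

/-- the polynomial `∑ g_k(X) Y_k` -/
noncomputable def lin {R : Type u} [CommRing R] (n r : ℕ) (g : Fin r → MvPolynomial (Fin n) R) :
    MvPolynomial (Fin (n + r)) R :=
  ∑ k, rename (Fin.castAdd r) (g k) * X (Fin.natAdd n k)

lemma aeval_lin {R : Type u} [CommRing R] {S : Type*} [CommRing S] [Algebra R S] (n r : ℕ)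
    (g : Fin r → MvPolynomial (Fin n) R) (x : Fin n → S) (y : Fin r → S) :
    aeval (Fin.append x y) (lin n r g) = ∑ k, aeval x (g k) * y k := by
  simp only [lin, map_sum, map_mul, aeval_X, Fin.append_right, aeval_rename]
  refine Finset.sum_congr rfl fun k _ => ?_
  have : Fin.append x y ∘ Fin.castAdd r = x := by
    funext l
    simp only [Function.comp_apply, Fin.append_left]
  rw [this]

/-- Let R be an LG-ring, n ≥ 0, and U an open quasi-compact subscheme of affine n-space Spec R[X₁, …,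
Xₙ]. If U has an (R ⧸ m)-valued point over R for every maximal ideal m of R, then U has an R-valued
point: some n-tuple x over R defines a section Spec R ⟶ Spec R[X₁, …, Xₙ] with image inside U. -/
theorem result {R : Type u} [CommRing R] (hR : LGRing.IsLGRing R)
    (n : ℕ) (U : (Spec (CommRingCat.of (MvPolynomial (Fin n) R))).Opens)
    (hU : IsCompact (U : Set ↥(Spec (CommRingCat.of (MvPolynomial (Fin n) R)))))
    (h : ∀ (m : Ideal R) [m.IsMaximal], ∃ x : Fin n → R ⧸ m,
      Set.range (Spec.map (CommRingCat.ofHom (MvPolynomial.eval₂Hom (Ideal.Quotient.mk m) x))).base ⊆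
        (U : Set ↥(Spec (CommRingCat.of (MvPolynomial (Fin n) R))))) :
    ∃ x : Fin n → R, Set.range (Spec.map (CommRingCat.ofHom (MvPolynomial.eval x))).base ⊆
      (U : Set ↥(Spec (CommRingCat.of (MvPolynomial (Fin n) R)))) := by
  classical
  let US : Set (PrimeSpectrum (MvPolynomial (Fin n) R)) := SetLike.coe U
  obtain ⟨t, ht⟩ := (PrimeSpectrum.isCompact_isOpen_iff (s := US)).mp ⟨hU, U.isOpen⟩
  have hmemU : ∀ q : PrimeSpectrum (MvPolynomial (Fin n) R),
      q ∈ US ↔ ∃ g ∈ t, g ∉ q.asIdeal := by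
    intro q
    rw [← ht, Set.mem_compl_iff, PrimeSpectrum.mem_zeroLocus]
    simp only [Set.not_subset, Finset.mem_coe, SetLike.mem_coe]
  set r := t.card with hr
  let g : Fin r → MvPolynomial (Fin n) R := fun k => (t.equivFin.symm k : MvPolynomial (Fin n) R)
  have hg_mem : ∀ k, g k ∈ t := fun k => (t.equivFin.symm k).2
  have hg_surj : ∀ p ∈ t, ∃ k, g k = p := fun p hp =>
    ⟨t.equivFin ⟨p, hp⟩, by simp [g]⟩
  -- representability over residue fields
  have hres : ∀ (m : Ideal R) [m.IsMaximal], LGRing.RepresentsUnit (lin n r g) (R ⧸ m) := by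
    intro m hm
    obtain ⟨x, hx⟩ := h m
    let _ := Ideal.Quotient.field m
    have hq := hx ⟨(⊥ : PrimeSpectrum (R ⧸ m)), rfl⟩
    have hq' : ∃ g ∈ t, g ∉ (PrimeSpectrum.comap (MvPolynomial.eval₂Hom (Ideal.Quotient.mk m) x)
        (⊥ : PrimeSpectrum (R ⧸ m))).asIdeal := (hmemU _).mp hq
    obtain ⟨p, hpt, hp⟩ := hq'
    obtain ⟨k₀, rfl⟩ := hg_surj p hpt
    have hne : aeval x (g k₀) ≠ 0 := by
      intro h0
      apply hp
      show g k₀ ∈ Ideal.comap (MvPolynomial.eval₂Hom (Ideal.Quotient.mk m) x) ⊥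
      rw [Ideal.mem_comap, Ideal.mem_bot]
      exact h0
    refine ⟨Fin.append x (Pi.single k₀ (aeval x (g k₀))⁻¹), ?_⟩
    rw [aeval_lin]
    have : ∑ k, aeval x (g k) * (Pi.single k₀ (aeval x (g k₀))⁻¹ : Fin r → R ⧸ m) k = 1 := by
      rw [Finset.sum_eq_single k₀]
      · rw [Pi.single_eq_same, mul_inv_cancel₀ hne]
      · intro k _ hk; rw [Pi.single_eq_of_ne hk, mul_zero]
      · intro hk; exact absurd (Finset.mem_univ _) hk
    rw [this]; exact isUnit_one
  obtain ⟨s, hs⟩ := hR (n + r) (lin n r g) hres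
  let x : Fin n → R := fun l => s (Fin.castAdd r l)
  let y : Fin r → R := fun k => s (Fin.natAdd n k)
  have hsxy : s = Fin.append x y := by
    funext k
    refine Fin.addCases (fun l => ?_) (fun j => ?_) k
    · rw [Fin.append_left]
    · rw [Fin.append_right]
  rw [hsxy, aeval_lin] at hs
  refine ⟨x, ?_⟩
  rintro _ ⟨q, rfl⟩
  refine (hmemU (PrimeSpectrum.comap (MvPolynomial.eval x) q)).mpr ?_
  by_contra hcon
  push Not at hcon
  have hmem : ∀ k, aeval x (g k) ∈ (q : PrimeSpectrum R).asIdeal := by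
    intro k
    have := hcon (g k) (hg_mem k)
    have h2 : g k ∈ Ideal.comap (MvPolynomial.eval x) (q : PrimeSpectrum R).asIdeal := this
    rw [Ideal.mem_comap] at h2
    rwa [MvPolynomial.aeval_eq_eval] 
  have : ∑ k, aeval x (g k) * y k ∈ (q : PrimeSpectrum R).asIdeal :=
    Ideal.sum_mem _ fun k _ => Ideal.mul_mem_right _ _ (hmem k)
  exact (q : PrimeSpectrum R).isPrime.ne_top (Ideal.eq_top_of_isUnit_mem _ this hs)

end Groth.Agent.S16599
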