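import Groth.Statements.S16600
import Mathlib
import Groth.Agent.S16599

set_option autoImplicit false
open AlgebraicGeometry
universe u
open LGRing

namespace Groth.Agent.S16600

open MvPolynomial

/-- the universal linear map `M^∨ → R[T]`, `ψ ↦ ∑ ψ(g_l) T_l` -/
noncomputable def Phi {R : Type u} [CommRing R] {M : Type u} [AddCommGroup M] [Module R M] {n : ℕ}
    (g : Fin n → M) : Module.Dual R M →ₗ[R] MvPolynomial (Fin n) R :=
  ∑ l, (Module.Dual.eval R M (g l)).smulRight (X l : MvPolynomial (Fin n) R)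

lemma Phi_apply {R : Type u} [CommRing R] {M : Type u} [AddCommGroup M] [Module R M] {n : ℕ}
    (g : Fin n → M) (ψ : Module.Dual R M) : Phi g ψ = ∑ l, ψ (g l) • (X l : MvPolynomial (Fin n) R) := by
  simp [Phi, LinearMap.sum_apply]

lemma aeval_Phi {R : Type u} [CommRing R] {M : Type u} [AddCommGroup M] [Module R M] {n : ℕ}
    (g : Fin n → M) {S : Type u} [CommRing S] [Algebra R S] (t : Fin n → S) (ψ : Module.Dual R M) :
    aeval t (Phi g ψ) = ∑ l, ψ (g l) • t l := by
  rw [Phi_apply, map_sum]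
  refine Finset.sum_congr rfl fun l _ => ?_
  rw [map_smul, aeval_X]

/-- every linear map on the dual comes from a point `t` -/
lemma lift_eq {R : Type u} [CommRing R] {M : Type u} [AddCommGroup M] [Module R M] {n : ℕ}
    (g : Fin n → M) (ε : Fin n → Module.Dual R M) (hrec : ∀ m : M, m = ∑ l, ε l m • g l)
    {S : Type u} [CommRing S] [Algebra R S] (φ : Module.Dual R M →ₗ[R] S) :
    SymmetricAlgebra.lift φ =
      (aeval (fun l => φ (ε l))).comp (SymmetricAlgebra.lift (Phi g)) := by
  apply SymmetricAlgebra.algHom_ext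
  apply LinearMap.ext
  intro ψ
  change SymmetricAlgebra.lift φ (SymmetricAlgebra.ι R _ ψ) =
    aeval _ (SymmetricAlgebra.lift (Phi g) (SymmetricAlgebra.ι R _ ψ))
  rw [SymmetricAlgebra.lift_ι_apply, SymmetricAlgebra.lift_ι_apply, aeval_Phi]
  have h1 : ψ = ∑ l, ψ (g l) • ε l := by
    apply LinearMap.ext
    intro m
    conv_lhs => rw [hrec m]
    simp [map_sum, LinearMap.sum_apply, mul_comm]
  conv_lhs => rw [h1]
  simp [map_sum]

lemma lift_eq' {R : Type u} [CommRing R] {M : Type u} [AddCommGroup M] [Module R M] {n : ℕ}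
    (g : Fin n → M)
    {S : Type u} [CommRing S] [Algebra R S] (t : Fin n → S) :
    SymmetricAlgebra.lift ((aeval t).toLinearMap ∘ₗ Phi (R := R) g) =
      (aeval t).comp (SymmetricAlgebra.lift (Phi g)) := by
  apply SymmetricAlgebra.algHom_ext
  apply LinearMap.ext
  intro ψ
  change SymmetricAlgebra.lift _ (SymmetricAlgebra.ι R _ ψ) =
    aeval _ (SymmetricAlgebra.lift (Phi g) (SymmetricAlgebra.ι R _ ψ))
  rw [SymmetricAlgebra.lift_ι_apply, SymmetricAlgebra.lift_ι_apply]
  rfl

/-- Let R be an LG-ring, M a finite locally free R-module, W(M) = Spec Sym(M^∨) the vector bundle of M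
(its points with values in an R-algebra R' are the R-algebra maps Sym(M^∨) → R', i.e. the R-linear
maps M^∨ → R'), and U ⊆ W(M) an open quasi-compact subscheme. Then U(R) is non-empty if and only if
U(R ⧸ m) is non-empty for every maximal ideal m of R. -/
theorem result {R : Type u} [CommRing R]
    (hR : LGRing.IsLGRing R) (M : Type u) [AddCommGroup M] [Module R M] [Module.Finite R M] [Module.Projective R M]
    (U : (Spec (CommRingCat.of (SymmetricAlgebra R (Module.Dual R M)))).Opens)
    (hU : IsCompact (U : Set ↥(Spec (CommRingCat.of (SymmetricAlgebra R (Module.Dual R M)))))) :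
    (∃ φ : Module.Dual R M →ₗ[R] R,
      Set.range (Spec.map (CommRingCat.ofHom (SymmetricAlgebra.lift φ).toRingHom)).base ⊆
        (U : Set ↥(Spec (CommRingCat.of (SymmetricAlgebra R (Module.Dual R M)))))) ↔
    ∀ (m : Ideal R) [m.IsMaximal], ∃ φ : Module.Dual R M →ₗ[R] (R ⧸ m),
      Set.range (Spec.map (CommRingCat.ofHom (SymmetricAlgebra.lift φ).toRingHom)).base ⊆
        (U : Set ↥(Spec (CommRingCat.of (SymmetricAlgebra R (Module.Dual R M))))) := by
  classical
  let US : Set (PrimeSpectrum (SymmetricAlgebra R (Module.Dual R M))) := SetLike.coe U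
  constructor
  · rintro ⟨φ, hφ⟩ m hm
    refine ⟨(Ideal.Quotient.mkₐ R m).toLinearMap ∘ₗ φ, ?_⟩
    have h1 : SymmetricAlgebra.lift ((Ideal.Quotient.mkₐ R m).toLinearMap ∘ₗ φ) =
        (Ideal.Quotient.mkₐ R m).comp (SymmetricAlgebra.lift φ) := by
      apply SymmetricAlgebra.algHom_ext
      apply LinearMap.ext
      intro ψ
      change SymmetricAlgebra.lift _ (SymmetricAlgebra.ι R _ ψ) =
        Ideal.Quotient.mkₐ R m (SymmetricAlgebra.lift φ (SymmetricAlgebra.ι R _ ψ))
      rw [SymmetricAlgebra.lift_ι_apply, SymmetricAlgebra.lift_ι_apply]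
      rfl
    rintro _ ⟨q, rfl⟩
    rw [h1]
    exact hφ ⟨PrimeSpectrum.comap (Ideal.Quotient.mk m) q, rfl⟩
  · intro h
    obtain ⟨n, p, i, hp, hi, hpi⟩ := Module.Finite.exists_comp_eq_id_of_projective R M
    let g : Fin n → M := fun k => p (Pi.single k 1)
    let ε : Fin n → Module.Dual R M := fun l => LinearMap.proj l ∘ₗ i
    have hrec : ∀ m : M, m = ∑ l, ε l m • g l := by
      intro m
      have h1 : p (i m) = m := by
        have := congrArg (fun f => f m) hpi
        simpa using this
      calc m = p (i m) := h1.symm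
        _ = _ := LinearMap.pi_apply_eq_sum_univ p (i m)
        _ = ∑ l, ε l m • g l := by
          refine Finset.sum_congr rfl fun l _ => ?_
          congr 2
          ext j
          simp [Pi.single_apply, eq_comm]
    let Ψ : SymmetricAlgebra R (Module.Dual R M) →+* MvPolynomial (Fin n) R :=
      (SymmetricAlgebra.lift (Phi g)).toRingHom
    let US' : Set (PrimeSpectrum (MvPolynomial (Fin n) R)) := PrimeSpectrum.comap Ψ ⁻¹' US
    obtain ⟨t, ht⟩ := (PrimeSpectrum.isCompact_isOpen_iff (s := US)).mp ⟨hU, U.isOpen⟩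
    have hUS' : IsCompact US' ∧ IsOpen US' := by
      rw [PrimeSpectrum.isCompact_isOpen_iff]
      refine ⟨t.image Ψ, ?_⟩
      rw [Finset.coe_image, ← PrimeSpectrum.preimage_comap_zeroLocus, ← Set.preimage_compl, ht]
    let U' : (Spec (CommRingCat.of (MvPolynomial (Fin n) R))).Opens := ⟨US', hUS'.2⟩
    obtain ⟨x, hx⟩ := Groth.Agent.S16599.result hR n U' hUS'.1 (by
      intro m hm
      obtain ⟨φ, hφ⟩ := h m
      refine ⟨fun l => φ (ε l), ?_⟩
      rintro _ ⟨q, rfl⟩
      have := hφ ⟨q, rfl⟩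
      rw [lift_eq g ε hrec φ] at this
      exact this)
    refine ⟨(aeval x).toLinearMap ∘ₗ Phi g, ?_⟩
    rintro _ ⟨q, rfl⟩
    rw [lift_eq']
    have := hx ⟨q, rfl⟩
    exact this

end Groth.Agent.S16600
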