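import Groth.Statements.S16601
import Mathlib
import Groth.Agent.S16600

set_option autoImplicit false
open AlgebraicGeometry
universe u
open LGRing

namespace Groth.Agent.S16601

open MvPolynomial Groth.Agent.S16600

/-- the retraction `R[T] → Sym(M^∨)`, `T_l ↦ ι(ε_l)` -/
lemma retract {R : Type u} [CommRing R] {M : Type u} [AddCommGroup M] [Module R M] {n : ℕ}
    (g : Fin n → M) (ε : Fin n → Module.Dual R M) (hrec : ∀ m : M, m = ∑ l, ε l m • g l)
    (f : SymmetricAlgebra R (Module.Dual R M)) :
    aeval (fun l => SymmetricAlgebra.ι R _ (ε l)) (SymmetricAlgebra.lift (Phi g) f) = f := by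
  have h : (aeval (fun l => SymmetricAlgebra.ι R (Module.Dual R M) (ε l))).comp
      (SymmetricAlgebra.lift (Phi g)) = AlgHom.id R _ := by
    apply SymmetricAlgebra.algHom_ext
    apply LinearMap.ext
    intro ψ
    change aeval _ (SymmetricAlgebra.lift (Phi g) (SymmetricAlgebra.ι R _ ψ)) =
      SymmetricAlgebra.ι R _ ψ
    rw [SymmetricAlgebra.lift_ι_apply, aeval_Phi]
    have h1 : ψ = ∑ l, ψ (g l) • ε l := by
      apply LinearMap.ext
      intro m
      conv_lhs => rw [hrec m]
      simp [map_sum, LinearMap.sum_apply, mul_comm]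
    conv_rhs => rw [h1]
    simp [map_sum]
  exact congrArg (fun F => F f) h

/-- if `Ψ f ∈ m R[T]` then `f ∈ m Sym`. -/
lemma mem_of_map_eq_zero {R : Type u} [CommRing R] {M : Type u} [AddCommGroup M] [Module R M]
    {n : ℕ}
    (g : Fin n → M) (ε : Fin n → Module.Dual R M) (hrec : ∀ m : M, m = ∑ l, ε l m • g l)
    (m : Ideal R) (f : SymmetricAlgebra R (Module.Dual R M))
    (h : MvPolynomial.map (Ideal.Quotient.mk m) (SymmetricAlgebra.lift (Phi g) f) = 0) :
    f ∈ Ideal.map (algebraMap R (SymmetricAlgebra R (Module.Dual R M))) m := by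
  have h1 : SymmetricAlgebra.lift (Phi g) f ∈
      Ideal.map (C : R →+* MvPolynomial (Fin n) R) m := by
    have := MvPolynomial.ker_map (σ := Fin n) (Ideal.Quotient.mk m)
    rw [Ideal.mk_ker] at this
    rw [← this, RingHom.mem_ker]
    exact h
  have h2 := Ideal.mem_map_of_mem
    (aeval (fun l => SymmetricAlgebra.ι R (Module.Dual R M) (ε l))).toRingHom h1
  rw [Ideal.map_map] at h2
  have h3 : (aeval (fun l => SymmetricAlgebra.ι R (Module.Dual R M) (ε l))).toRingHom.comp
      (C : R →+* MvPolynomial (Fin n) R) = algebraMap R _ := by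
    ext r
    simp
  rw [h3] at h2
  have h4 := retract g ε hrec f
  rw [← h4]
  exact h2

/-- Let R be an LG-ring whose residue fields at maximal ideals are all infinite (R satisfies the
primitive criterion), M a finite locally free R-module with vector bundle W(M) = Spec Sym(M^∨), and
U ⊆ W(M) an open quasi-compact subscheme which is fibrewise dense over the closed points of Spec R
(for every maximal ideal m, the trace of U on the closed fibre Spec (Sym(M^∨) ⧸ m Sym(M^∨)) is
dense). Then U has an R-valued point. (The source asks U to be R-dense in W(M); only density of the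
closed fibres is used, which is what is assumed here.) -/
theorem result {R : Type u} [CommRing R]
    (hR : LGRing.IsLGRing R) (hinf : ∀ (m : Ideal R) [m.IsMaximal], Infinite (R ⧸ m))
    (M : Type u) [AddCommGroup M] [Module R M] [Module.Finite R M] [Module.Projective R M]
    (U : (Spec (CommRingCat.of (SymmetricAlgebra R (Module.Dual R M)))).Opens)
    (hU : IsCompact (U : Set ↥(Spec (CommRingCat.of (SymmetricAlgebra R (Module.Dual R M))))))
    (hdense : ∀ (m : Ideal R) [m.IsMaximal],
      Dense ((Spec.map (CommRingCat.ofHom (Ideal.Quotient.mk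
        (Ideal.map (algebraMap R (SymmetricAlgebra R (Module.Dual R M))) m)))).base ⁻¹'
          (U : Set ↥(Spec (CommRingCat.of (SymmetricAlgebra R (Module.Dual R M))))))) :
    ∃ φ : Module.Dual R M →ₗ[R] R,
      Set.range (Spec.map (CommRingCat.ofHom (SymmetricAlgebra.lift φ).toRingHom)).base ⊆
        (U : Set ↥(Spec (CommRingCat.of (SymmetricAlgebra R (Module.Dual R M))))) := by
  classical
  let US : Set (PrimeSpectrum (SymmetricAlgebra R (Module.Dual R M))) := SetLike.coe U
  refine (Groth.Agent.S16600.result hR M U hU).mpr ?_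
  intro m hm
  let _ := Ideal.Quotient.field m
  have := hinf m
  obtain ⟨n, p, i, hp, hi, hpi⟩ := Module.Finite.exists_comp_eq_id_of_projective R M
  let g : Fin n → M := fun k => p (Pi.single k 1)
  let ε : Fin n → Module.Dual R M := fun l => LinearMap.proj l ∘ₗ i
  have hrec : ∀ m : M, m = ∑ l, ε l m • g l := by
    intro m
    have h1 : p (i m) = m := by
      have := congrArg (fun f => f m) hpi
      simpa using this
    calc m = p (i m) := h1.symm
      _ = _ := LinearMap.pi_apply_eq_sum_univ p (i m)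
      _ = ∑ l, ε l m • g l := by
        refine Finset.sum_congr rfl fun l _ => ?_
        congr 2
        ext j
        simp [Pi.single_apply, eq_comm]
  set mA := Ideal.map (algebraMap R (SymmetricAlgebra R (Module.Dual R M))) m with hmA
  let V : Set (PrimeSpectrum (SymmetricAlgebra R (Module.Dual R M) ⧸ mA)) :=
    PrimeSpectrum.comap (Ideal.Quotient.mk mA) ⁻¹' US
  have hVd : Dense V := hdense m
  have hVo : IsOpen V := U.isOpen.preimage (PrimeSpectrum.continuous_comap _)
  -- kills mA
  have hkill : ∀ (ρ : SymmetricAlgebra R (Module.Dual R M) →ₐ[R] R ⧸ m), ∀ a ∈ mA, ρ a = 0 := by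
    intro ρ a ha
    have : mA ≤ RingHom.ker ρ.toRingHom := by
      rw [hmA, Ideal.map_le_iff_le_comap]
      intro r hr
      rw [Ideal.mem_comap, RingHom.mem_ker]
      show ρ (algebraMap R _ r) = 0
      rw [AlgHom.commutes]
      exact Ideal.Quotient.eq_zero_iff_mem.mpr hr
    exact this ha
  have hne : Nonempty (PrimeSpectrum (SymmetricAlgebra R (Module.Dual R M) ⧸ mA)) := by
    let χ : SymmetricAlgebra R (Module.Dual R M) →ₐ[R] R ⧸ m :=
      (Ideal.Quotient.mkₐ R m).comp (SymmetricAlgebra.algebraMapInv (R := R) (M := Module.Dual R M))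
    exact ⟨PrimeSpectrum.comap (Ideal.Quotient.lift mA χ.toRingHom (hkill χ)) ⊥⟩
  obtain ⟨q0, hq0⟩ := hVd.nonempty
  obtain ⟨_, ⟨fbar, rfl⟩, hq0f, hfV⟩ :=
    PrimeSpectrum.isTopologicalBasis_basic_opens.exists_subset_of_mem_open hq0 hVo
  obtain ⟨f, rfl⟩ := Ideal.Quotient.mk_surjective fbar
  have hfne : f ∉ mA := by
    intro hf
    have h0 : Ideal.Quotient.mk mA f = 0 := Ideal.Quotient.eq_zero_iff_mem.mpr hf
    have : Ideal.Quotient.mk mA f ∉ q0.asIdeal := (PrimeSpectrum.mem_basicOpen _ _).mp hq0f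
    rw [h0] at this
    exact this (Ideal.zero_mem _)
  have hP : MvPolynomial.map (Ideal.Quotient.mk m) (SymmetricAlgebra.lift (Phi g) f) ≠ 0 :=
    fun h => hfne (mem_of_map_eq_zero g ε hrec m f h)
  obtain ⟨t, ht⟩ : ∃ t : Fin n → R ⧸ m,
      eval t (MvPolynomial.map (Ideal.Quotient.mk m) (SymmetricAlgebra.lift (Phi g) f)) ≠ 0 := by
    by_contra hcon
    push Not at hcon
    apply hP
    apply MvPolynomial.funext
    intro x
    rw [hcon x, map_zero]
  refine ⟨(aeval t).toLinearMap ∘ₗ Phi g, ?_⟩
  rintro _ ⟨q, rfl⟩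
  rw [lift_eq']
  set ρ : SymmetricAlgebra R (Module.Dual R M) →ₐ[R] R ⧸ m :=
    (aeval t).comp (SymmetricAlgebra.lift (Phi g)) with hρ
  let ρ' : SymmetricAlgebra R (Module.Dual R M) ⧸ mA →+* R ⧸ m :=
    Ideal.Quotient.lift mA ρ.toRingHom (hkill ρ)
  let q' : PrimeSpectrum (SymmetricAlgebra R (Module.Dual R M) ⧸ mA) := PrimeSpectrum.comap ρ' q
  have hq' : q' ∈ (PrimeSpectrum.basicOpen (Ideal.Quotient.mk mA f) : Set _) := by
    rw [SetLike.mem_coe, PrimeSpectrum.mem_basicOpen]
    show ρ' (Ideal.Quotient.mk mA f) ∉ (q : PrimeSpectrum (R ⧸ m)).asIdeal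
    have h1 : ρ' (Ideal.Quotient.mk mA f) = eval t (MvPolynomial.map (Ideal.Quotient.mk m)
        (SymmetricAlgebra.lift (Phi g) f)) := by
      rw [MvPolynomial.eval_map]
      rfl
    rw [h1]
    intro hmem
    exact (q : PrimeSpectrum (R ⧸ m)).isPrime.ne_top
      (Ideal.eq_top_of_isUnit_mem _ hmem (IsUnit.mk0 _ ht))
  have hq'V : q' ∈ V := hfV hq'
  exact hq'V

end Groth.Agent.S16601
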