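import Groth.Statements.S16617
import Mathlib
import Groth.Agent.Lib.Helper15QuotTorus

set_option autoImplicit false
open CategoryTheory MonoidalCategory CartesianMonoidalCategory MonObj GrpObj AlgebraicGeometry
universe u
open SGA3x

namespace Groth.Agent.S16617

/-- Let S be a connected scheme, T ≅ D_S(ℤ^r) a split S-torus, H a subgroup scheme of T of (finite)
multiplicative type and q : T ⟶ Q a homomorphism presenting Q as the fppf quotient T/H. Then Q is a
split torus of rank at most r. -/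
theorem result {S : Scheme.{u}} [ConnectedSpace ↥S]
    {T H Q : Over S} [GrpObj T] [GrpObj H] [GrpObj Q] (r : ℕ) (hT : Red.IsSplitTorusWith (Fin r → ℤ) T)
    (i : H ⟶ T) [IsMonHom i] [Mono i] (hH : SGA3x.IsMultTypeFT H) (q : T ⟶ Q) [IsMonHom q]
    (hq : RedSub.IsQuotient i q) : ∃ r' : ℕ, r' ≤ r ∧ Red.IsSplitTorusWith (Fin r' → ℤ) Q := by
  obtain ⟨e₀⟩ := hT
  obtain ⟨e, he⟩ : ∃ e : T ≅ Red.DS S (Fin r → ℤ),
      e = Groth.Agent.Lib.Helper15FieldDiag.overIso e₀ := ⟨_, rfl⟩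
  have hem : IsMonHom e.hom := by rw [he]; infer_instance
  have hvm : IsMonHom (i ≫ e.hom) := inferInstance
  obtain ⟨J, Sj, gj, N, instN, φ, hcov, hne, hloc⟩ :=
    Groth.Agent.Lib.Helper15QuotTorus.exists_family_locForm' (i ≫ e.hom) hH
      (Groth.Agent.Lib.Helper15FieldDiag.fg_fin r)
  obtain ⟨s₀⟩ : Nonempty S := inferInstance
  obtain ⟨j₀, -, -⟩ := Groth.Agent.Lib.Helper15QuotTorus.exists_mem_of_fpqc gj hcov s₀
  have hmv : Mono (i ≫ e.hom) := inferInstance
  have hsurj : ∀ j, Function.Surjective (φ j) := fun j => by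
    have := hne j
    exact Groth.Agent.Lib.Helper15QuotTorus.LocForm.surjective_of_mono (i ≫ e.hom) (hloc j) hmv
  have hker : ∀ j, (φ j).ker = (φ j₀).ker := fun j =>
    Groth.Agent.Lib.Helper15LocForm.ker_eq_of_connected gj hcov N φ hloc hne j j₀
  obtain ⟨a⟩ := Groth.Agent.Lib.Helper15QuotTorus.nonempty_iso_DS_ker e i (φ j₀).ker gj hcov N φ
    hloc hsurj hker (Groth.Agent.Lib.Helper15FieldDiag.fg_fin r) q hq
  obtain ⟨r', hr', ⟨ε⟩⟩ := Groth.Agent.Lib.Helper15QuotTorus.exists_addEquiv_fin r (φ j₀).ker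
  refine ⟨r', hr', ⟨a ≪≫ ?_⟩⟩
  have hiso := Groth.Agent.Lib.Helper15DSmapPts.isIso_DSmap (U := S) ε
  have hmon := Groth.Agent.Lib.Helper27DiagSub.isMonHom_DSmap S ε.toAddMonoidHom
  exact Grp.mkIso' (asIso (Red.DSmap S ε.toAddMonoidHom))

end Groth.Agent.S16617
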