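import Groth.Statements.S16619
import Groth.Agent.Lib.LeadDC2
import Groth.Agent.Lib.LeadDC4

set_option autoImplicit false
open scoped TensorProduct
universe u
open Brauer

namespace Groth.Agent.S16619

/-- Let R be a connected commutative ring. Then every class of the Brauer group of R is represented by
an Azumaya algebra B with idemp(B) = {0, 1}: for every Azumaya R-algebra A there are such a B and
faithfully projective R-modules P, Q with A ⊗_R End_R(P) ≅ B ⊗_R End_R(Q) as R-algebras. -/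
theorem result {R : Type u} [CommRing R]
    [ConnectedSpace (PrimeSpectrum R)] (A : Type u) [Ring A] [Algebra R A] [IsAzumaya R A] :
    ∃ (B : Type u) (_ : Ring B) (_ : Algebra R B) (_ : IsAzumaya R B) (P Q : Type u) (_ : AddCommGroup P)
      (_ : Module R P) (_ : AddCommGroup Q) (_ : Module R Q),
      (∀ b : B, IsIdempotentElem b → b = 0 ∨ b = 1) ∧ Module.Finite R P ∧ Module.Projective R P ∧
      FaithfulSMul R P ∧ Module.Finite R Q ∧ Module.Projective R Q ∧ FaithfulSMul R Q ∧
      Nonempty (A ⊗[R] Module.End R P ≃ₐ[R] B ⊗[R] Module.End R Q) := by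
  classical
  open Groth.Agent.Lib.LeadDC Groth.Agent.Lib.LeadLGA in
  haveI : Nontrivial R := PrimeSpectrum.nonempty_iff_nontrivial.mp inferInstance
  haveI : Nontrivial A := (FaithfulSMul.algebraMap_injective R A).nontrivial
  obtain ⟨e, he, he0, hmin⟩ := Groth.Agent.Lib.LeadDC.exists_minimal_idempotent R A
  haveI hproj : Module.Projective R (Groth.Agent.Lib.LeadLGA.leftIdeal e) :=
    Groth.Agent.Lib.LeadDC.leftIdeal_projective_base he
  haveI hfaith : FaithfulSMul R (Groth.Agent.Lib.LeadLGA.leftIdeal e) := by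
    have hpos : ∀ p : PrimeSpectrum R,
        0 < Module.rankAtStalk (Groth.Agent.Lib.LeadLGA.leftIdeal e) p := by
      intro p
      rw [Nat.pos_iff_ne_zero]
      intro h0
      exact he0 ((Groth.Agent.Lib.LeadDC.idemRank_eq_zero_iff he p).mp h0)
    exact Groth.Agent.Lib.LeadDC.faithfulSMul_of_rankAtStalk_pos
      (Groth.Agent.Lib.LeadLGA.leftIdeal e) hpos
  haveI hEnd : IsAzumaya R (Module.End R (Groth.Agent.Lib.LeadLGA.leftIdeal e)) :=
    Groth.Agent.S19589.result R _
  let L := Groth.Agent.Lib.LeadDC.rep R e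
  let μ : A ⊗[R] Groth.Agent.Lib.LeadDC.cent L ≃ₐ[R]
      Module.End R (Groth.Agent.Lib.LeadLGA.leftIdeal e) :=
    AlgEquiv.ofBijective (Groth.Agent.Lib.LeadDC.mu L) (Groth.Agent.Lib.LeadDC.mu_bijective L)
  haveI hAC : IsAzumaya R (A ⊗[R] Groth.Agent.Lib.LeadDC.cent L) := IsAzumaya.of_AlgEquiv R _ _ μ.symm
  haveI hCfin : Module.Finite R (Groth.Agent.Lib.LeadDC.cent L) :=
    Groth.Agent.Lib.LeadDC.cent_finite he
  haveI hCproj : Module.Projective R (Groth.Agent.Lib.LeadDC.cent L) :=
    Groth.Agent.Lib.LeadDC.cent_projective he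
  haveI hCfaith : FaithfulSMul R (Groth.Agent.Lib.LeadDC.cent L) := by
    rw [faithfulSMul_iff_algebraMap_injective]
    intro r s h
    have h1 := congrArg (Subalgebra.val (Groth.Agent.Lib.LeadDC.cent L)) h
    simp only [AlgHom.commutes] at h1
    exact FaithfulSMul.algebraMap_injective R
      (Module.End R (Groth.Agent.Lib.LeadLGA.leftIdeal e)) h1
  haveI hC : IsAzumaya R (Groth.Agent.Lib.LeadDC.cent L) :=
    Groth.Agent.Lib.LeadDC.isAzumaya_of_tensor R A (Groth.Agent.Lib.LeadDC.cent L) hAC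
  haveI hCop : IsAzumaya R (Groth.Agent.Lib.LeadDC.cent L)ᵐᵒᵖ :=
    Groth.Agent.Lib.LeadDC.isAzumaya_op R (Groth.Agent.Lib.LeadDC.cent L)
  refine ⟨(Groth.Agent.Lib.LeadDC.cent L)ᵐᵒᵖ, inferInstance, inferInstance, hCop,
    Groth.Agent.Lib.LeadDC.cent L, Groth.Agent.Lib.LeadLGA.leftIdeal e,
    inferInstance, inferInstance, inferInstance, inferInstance, ?_, hCfin, hCproj, hCfaith,
    inferInstance, hproj, hfaith, ?_⟩
  · intro b hb
    have hb' : IsIdempotentElem b.unop := by
      show b.unop * b.unop = b.unop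
      rw [← MulOpposite.unop_mul, hb.eq]
    rcases Groth.Agent.Lib.LeadDC.cent_idempotent_trivial he hmin b.unop hb' with h | h
    · left
      exact MulOpposite.unop_injective h
    · right
      exact MulOpposite.unop_injective h
  · let ψ : Groth.Agent.Lib.LeadDC.cent L ⊗[R] (Groth.Agent.Lib.LeadDC.cent L)ᵐᵒᵖ ≃ₐ[R]
        Module.End R (Groth.Agent.Lib.LeadDC.cent L) :=
      AlgEquiv.ofBijective (AlgHom.mulLeftRight R _) IsAzumaya.bij
    exact ⟨(Algebra.TensorProduct.congr AlgEquiv.refl ψ.symm).trans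
      ((Algebra.TensorProduct.assoc R R R A (Groth.Agent.Lib.LeadDC.cent L)
        (Groth.Agent.Lib.LeadDC.cent L)ᵐᵒᵖ).symm.trans
      ((Algebra.TensorProduct.congr μ AlgEquiv.refl).trans
        (Algebra.TensorProduct.comm R _ _)))⟩

end Groth.Agent.S16619
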