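import Groth.Statements.S1662
import Groth.Agent.Lib.Helper20EffCartier

set_option autoImplicit false
universe u
open CategoryTheory CategoryTheory.Limits AlgebraicGeometry
open Divisors

namespace Groth.Agent.S1662

set_option linter.style.haveILetI false
open TensorProduct nonZeroDivisors


theorem nzd_tmul_one {A B C A' : Type u} [CommRing A] [CommRing B] [CommRing C] [CommRing A']
    [Algebra A B] [Algebra A A'] (π : B →+* C) (hπ : Function.Surjective π) (b : B) (hb : b ∈ B⁰)
    (hker : RingHom.ker π = Ideal.span {b}) (hflat : (π.comp (algebraMap A B)).Flat) :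
    (b ⊗ₜ[A] (1 : A')) ∈ (B ⊗[A] A')⁰ := by
  letI : Algebra A C := (π.comp (algebraMap A B)).toAlgebra
  haveI : Module.Flat A C := hflat
  let πₗ : B →ₗ[A] C :=
    { toFun := π
      map_add' := map_add π
      map_smul' := fun r y => by
        change π (r • y) = (π.comp (algebraMap A B)) r * π y
        rw [Algebra.smul_def, map_mul]; rfl }
  let g : B →ₗ[A] B := LinearMap.mulLeft A b
  have hg : Function.Injective g := by
    intro y z hyz
    have : b * (y - z) = 0 := by
      change b * y = b * z at hyz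
      rw [mul_sub, hyz, sub_self]
    have h2 := (mem_nonZeroDivisors_iff_right.1 hb) (y - z) (by rw [mul_comm]; exact this)
    exact sub_eq_zero.1 h2
  have H : Function.Exact g πₗ := by
    intro y
    change π y = 0 ↔ y ∈ Set.range g
    rw [← RingHom.mem_ker, hker, Ideal.mem_span_singleton']
    constructor
    · rintro ⟨c, hc⟩; exact ⟨c, by change b * c = y; rw [mul_comm]; exact hc⟩
    · rintro ⟨c, hc⟩; exact ⟨c, by change b * c = y at hc; rw [mul_comm]; exact hc⟩
  have hinj := LinearMap.lTensor_injective_of_exact_of_flat πₗ hπ g hg H A'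
  rw [LinearMap.lTensor_inj_iff_rTensor_inj] at hinj
  have hmul : ∀ z : B ⊗[A] A', (b ⊗ₜ[A] (1 : A')) * z = g.rTensor A' z := by
    intro z
    induction z using TensorProduct.induction_on with
    | zero => simp
    | tmul y a' => simp [g]
    | add z w hz hw => rw [mul_add, map_add, hz, hw]
  rw [mem_nonZeroDivisors_iff_right]
  intro z hz
  apply hinj
  rw [map_zero, ← hmul, mul_comm]
  exact hz

theorem fromSpec_appLE_top {X : Scheme.{u}} {U : X.Opens} (hU : IsAffineOpen U)
    (e : (⊤ : (Spec Γ(X, U)).Opens) ≤ hU.fromSpec ⁻¹ᵁ U) :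
    hU.fromSpec.appLE U ⊤ e = (Scheme.ΓSpecIso Γ(X, U)).inv := by
  rw [Scheme.Hom.appLE, hU.fromSpec_app_self, Category.assoc, ← Functor.map_comp]
  convert Category.comp_id _
  exact CategoryTheory.Functor.map_id _ _


/-- Let f : X → S, D an effective Cartier divisor on X such that D → S is flat, and g : S' → S any
morphism. Then the inverse image of D in X ×_S S' is an effective Cartier divisor. -/
theorem result {X S S' : Scheme.{u}} (f : X ⟶ S) (D : X.IdealSheafData) (hD : BlowUp.IsEffCartierIdeal D)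
    [Flat (D.subschemeι ≫ f)] (g : S' ⟶ S) :
    BlowUp.IsEffCartierIdeal (D.comap (pullback.fst f g)) := by
  intro z
  have hfg : f (pullback.fst f g z) = g (pullback.snd f g z) := by
    rw [← Scheme.Hom.comp_apply, ← Scheme.Hom.comp_apply, pullback.condition]
  obtain ⟨W, hW, hsW, -⟩ := exists_isAffineOpen_mem_and_subset (x := f (pullback.fst f g z))
    (U := (⊤ : S.Opens)) trivial
  obtain ⟨V', hV', hs'V', hV'W⟩ := exists_isAffineOpen_mem_and_subset (x := pullback.snd f g z)
    (U := g ⁻¹ᵁ W) (by change g _ ∈ W; rw [← hfg]; exact hsW)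
  obtain ⟨U, hU, hxU, hUW, b, hb, hDb⟩ :=
    Groth.Agent.Lib.Helper20.EffCartier.exists_le_of_isEffCartierIdeal hD (pullback.fst f g z)
      (f ⁻¹ᵁ W) hsW
  let φ := f.appLE W U hUW
  let ψ := g.appLE W V' hV'W
  letI : Algebra Γ(S, W) Γ(X, U) := φ.hom.toAlgebra
  letI : Algebra Γ(S, W) Γ(S', V') := ψ.hom.toAlgebra
  let j : Spec (.of (Γ(X, U) ⊗[Γ(S, W)] Γ(S', V'))) ⟶ pullback f g :=
    (pullbackSpecIso Γ(S, W) Γ(X, U) Γ(S', V')).inv ≫
      pullback.map _ _ f g hU.fromSpec hV'.fromSpec hW.fromSpec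
        (IsAffineOpen.SpecMap_appLE_fromSpec f hW hU hUW)
        (IsAffineOpen.SpecMap_appLE_fromSpec g hW hV' hV'W)
  haveI : IsOpenImmersion j := inferInstance
  have hj1 : j ≫ pullback.fst f g =
      Spec.map (CommRingCat.ofHom Algebra.TensorProduct.includeLeftRingHom) ≫ hU.fromSpec := by
    simp only [j, Category.assoc, pullback.map, pullback.lift_fst, pullbackSpecIso_inv_fst_assoc]
  have hzj : z ∈ Set.range j := by
    have h1 : Set.range j = Set.range (pullback.map _ _ f g hU.fromSpec hV'.fromSpec hW.fromSpec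
        (IsAffineOpen.SpecMap_appLE_fromSpec f hW hU hUW)
        (IsAffineOpen.SpecMap_appLE_fromSpec g hW hV' hV'W)) := by
      simp only [j, Scheme.Hom.comp_base, TopCat.hom_comp, ContinuousMap.coe_comp]
      rw [Set.range_comp, Set.range_eq_univ.2 (pullbackSpecIso _ _ _).inv.surjective, Set.image_univ]
      rfl
    rw [h1, Scheme.Pullback.range_map]
    exact ⟨by rw [hU.range_fromSpec]; exact hxU, by rw [hV'.range_fromSpec]; exact hs'V'⟩
  let P : (pullback f g).Opens := j ''ᵁ ⊤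
  have hP : IsAffineOpen P := (isAffineOpen_top _).image_of_isOpenImmersion j
  have hzP : z ∈ P := by
    change z ∈ j ''ᵁ ⊤
    rw [Scheme.Hom.image_top_eq_opensRange]; exact hzj
  have hPU : P ≤ pullback.fst f g ⁻¹ᵁ U := by
    rintro _ ⟨y, -, rfl⟩
    change pullback.fst f g (j y) ∈ U
    rw [← Scheme.Hom.comp_apply, hj1, Scheme.Hom.comp_apply]
    exact hU.opensRange_fromSpec.le (show _ ∈ hU.fromSpec.opensRange from ⟨_, rfl⟩)
  have key := Groth.Agent.Lib.Helper20.EffCartier.ideal_comap_eq_map (pullback.fst f g) D hP hU hPU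
  rw [hDb, Ideal.map_span, Set.image_singleton] at key
  refine ⟨⟨P, hP⟩, hzP, _, ?_, key⟩
  have hcomp : (pullback.fst f g).appLE U P hPU ≫ (j.appIso ⊤).hom ≫ (Scheme.ΓSpecIso _).hom =
      CommRingCat.ofHom Algebra.TensorProduct.includeLeftRingHom := by
    rw [Scheme.Hom.appIso_hom', ← Category.assoc, Scheme.Hom.appLE_comp_appLE]
    have h1 : ∀ (q : Spec (.of (Γ(X, U) ⊗[Γ(S, W)] Γ(S', V'))) ⟶ X)
        (hq : q = Spec.map (CommRingCat.ofHom Algebra.TensorProduct.includeLeftRingHom) ≫ hU.fromSpec)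
        (e : (⊤ : (Spec (.of (Γ(X, U) ⊗[Γ(S, W)] Γ(S', V')))).Opens) ≤ q ⁻¹ᵁ U),
        q.appLE U ⊤ e = (Scheme.ΓSpecIso Γ(X, U)).inv ≫
          (Spec.map (CommRingCat.ofHom Algebra.TensorProduct.includeLeftRingHom)).appTop := by
      intro q hq e
      subst hq
      have e1 : (⊤ : (Spec Γ(X, U)).Opens) ≤ hU.fromSpec ⁻¹ᵁ U := by
        rw [hU.fromSpec_preimage_self]
      rw [← Scheme.Hom.appLE_comp_appLE _ _ U ⊤ ⊤ e1 le_top, fromSpec_appLE_top]
      congr 1
    rw [h1 _ hj1, Category.assoc, Scheme.ΓSpecIso_naturality, Iso.inv_hom_id_assoc]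
  let E : Γ(pullback f g, P) ≃+* (Γ(X, U) ⊗[Γ(S, W)] Γ(S', V')) :=
    ((j.appIso ⊤) ≪≫ (Scheme.ΓSpecIso _)).commRingCatIsoToRingEquiv
  have hE : E (((pullback.fst f g).appLE U P hPU).hom b) = b ⊗ₜ 1 := by
    have := congrArg (fun q => q.hom b) hcomp
    exact this
  -- flatness input
  have hT : IsAffineOpen (D.subschemeι ⁻¹ᵁ U) := hU.preimage D.subschemeι
  have hTW : D.subschemeι ⁻¹ᵁ U ≤ (D.subschemeι ≫ f) ⁻¹ᵁ W := by
    intro t ht
    exact hUW ht
  have hflat := (D.subschemeι ≫ f).flat_appLE hW hT hTW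
  have hfac : (D.subschemeι ≫ f).appLE W (D.subschemeι ⁻¹ᵁ U) hTW =
      f.appLE W U hUW ≫ D.subschemeι.app U := by
    rw [← Scheme.Hom.appLE_eq_app, Scheme.Hom.appLE_comp_appLE]
  rw [hfac] at hflat
  have hnz : (b ⊗ₜ[Γ(S, W)] (1 : Γ(S', V'))) ∈ (Γ(X, U) ⊗[Γ(S, W)] Γ(S', V'))⁰ :=
    nzd_tmul_one (A := Γ(S, W)) (D.subschemeι.app U).hom (D.subschemeι_app_surjective ⟨U, hU⟩) b hb
      ((D.ker_subschemeι_app ⟨U, hU⟩).trans hDb) hflat
  have h3 : ((pullback.fst f g).appLE U P hPU).hom b = E.symm (b ⊗ₜ 1) := by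
    rw [← hE, E.symm_apply_apply]
  rw [h3, ← MulEquivClass.map_nonZeroDivisors E.symm]
  exact Submonoid.mem_map_of_mem _ hnz


end Groth.Agent.S1662
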