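import Groth.Statements.S1664
import Mathlib
import Groth.Agent.Lib.Helper23GG
import Groth.Agent.Lib.Helper23SecTw8
-- import your own Groth.Agent.* helpers here

set_option autoImplicit false
universe u
open CategoryTheory CategoryTheory.Limits AlgebraicGeometry
open Variety

namespace Groth.Agent.S1664
open CategoryTheory CategoryTheory.Limits AlgebraicGeometry TopologicalSpace

open Groth.Agent.Lib.Helper23.AmpleIso Groth.Agent.Lib.Helper23.SecTw Groth.Agent.Lib.Helper23.GG
open Groth.Agent.Lib.Helper23.TensorUnit Groth.Agent.Lib.Helper23.GenLocus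
open TopologicalSpace

theorem genLocus_id (X : Scheme.{u}) : CohB1.genLocus (Coh.structureModule X) (𝟙 _) = ⊤ := by
  rw [eq_top_iff]
  intro x _
  rw [mem_genLocus_iff]
  refine ⟨⊤, trivial, fun W' _ => ?_⟩
  exact Scheme.Modules.Hom.isIso_iff_isIso_app.1 (inferInstance : IsIso (𝟙 (Coh.structureModule X))) W'

theorem key {X : Scheme.{u}} (L : X → X.Modules) (s : ∀ y, Coh.structureModule X ⟶ L y)
    (hinv : ∀ y, PicF.IsInvertible (L y)) (hgg : ∀ y, Curv2.IsGloballyGenerated (L y))
    (haff : ∀ y, IsAffineOpen (CohB1.genLocus (L y) (s y))) (l : List X) :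
    ∃ M : X.Modules, PicF.IsInvertible M ∧ (∀ x : X, ∃ τ : Coh.structureModule X ⟶ M, x ∈ CohB1.genLocus M τ) ∧
      ∀ y ∈ l, ∀ x ∈ CohB1.genLocus (L y) (s y), ∃ σ : Coh.structureModule X ⟶ M,
        x ∈ CohB1.genLocus M σ ∧ IsAffineOpen (CohB1.genLocus M σ) := by
  induction l with
  | nil =>
    refine ⟨Coh.structureModule X, isInvertible_structureModule X, fun x => ⟨𝟙 _, ?_⟩, ?_⟩
    · rw [genLocus_id]; trivial
    · intro y hy
      exact absurd hy (List.not_mem_nil)
  | cons y l ih =>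
    obtain ⟨M', hM', hPG, hl⟩ := ih
    refine ⟨CohB1.tensorMod M' (L y), isInvertible_tensorMod hM' (hinv y), fun x => ?_, ?_⟩
    · obtain ⟨τ', hτ'⟩ := hPG x
      obtain ⟨t, ht⟩ := exists_section_mem_genLocus (L y) (hinv y) (hgg y) x
      refine ⟨SecTwist.tmulHom τ' t, ?_⟩
      rw [genLocus_tmulHom hM' (hinv y)]
      exact ⟨hτ', ht⟩
    · intro y₀ hy₀ x hx
      rcases List.mem_cons.1 hy₀ with rfl | hy₀
      · obtain ⟨τ', hτ'⟩ := hPG x
        refine ⟨SecTwist.tmulHom τ' (s y₀), ?_, ?_⟩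
        · rw [genLocus_tmulHom hM' (hinv y₀)]
          exact ⟨hτ', hx⟩
        · rw [genLocus_tmulHom hM' (hinv y₀), inf_comm]
          exact isAffineOpen_inf_genLocus M' hM' τ' _ (haff y₀)
      · obtain ⟨σ', hxσ', haffσ'⟩ := hl y₀ hy₀ x hx
        obtain ⟨t, ht⟩ := exists_section_mem_genLocus (L y) (hinv y) (hgg y) x
        refine ⟨SecTwist.tmulHom σ' t, ?_, ?_⟩
        · rw [genLocus_tmulHom hM' (hinv y)]
          exact ⟨hxσ', ht⟩
        · rw [genLocus_tmulHom hM' (hinv y)]
          exact isAffineOpen_inf_genLocus (L y) (hinv y) t _ haffσ'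

/-- Let X be quasi-compact. Suppose every point of X lies in the locus where some global section s of
some globally generated invertible module L generates L, with that locus affine. Then X has an ample
invertible module. -/
theorem result (X : Scheme.{u}) [CompactSpace X]
    (h : ∀ x : X, ∃ (L : X.Modules) (s : Coh.structureModule X ⟶ L), PicF.IsInvertible L ∧ Curv2.IsGloballyGenerated L ∧
      x ∈ CohB1.genLocus L s ∧ IsAffineOpen (CohB1.genLocus L s)) :
    ∃ M : X.Modules, CohB1.IsAmple M := by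
  choose L s hinv hgg hx haff using h
  obtain ⟨t, ht⟩ := CompactSpace.elim_nhds_subcover (fun y => ((CohB1.genLocus (L y) (s y) : X.Opens) : Set X))
    (fun y => (CohB1.genLocus (L y) (s y)).isOpen.mem_nhds (hx y))
  obtain ⟨M, hM, -, hl⟩ := key L s hinv hgg haff t.toList
  refine ⟨M, hM, inferInstance, fun x => ?_⟩
  have hxu : x ∈ ⋃ y ∈ t, ((CohB1.genLocus (L y) (s y) : X.Opens) : Set X) := by rw [ht]; trivial
  obtain ⟨y, hyt, hxy⟩ := Set.mem_iUnion₂.1 hxu
  obtain ⟨σ, hxσ, haffσ⟩ := hl y (Finset.mem_toList.2 hyt) x hxy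
  have h1 : CohB1.genLocus _ (σ ≫ (unitTensorIso M).inv) = CohB1.genLocus _ σ :=
    genLocus_comp_iso (unitTensorIso M).symm σ
  refine ⟨0, σ ≫ (unitTensorIso M).inv, ?_, ?_⟩
  · change x ∈ CohB1.genLocus _ (σ ≫ (unitTensorIso M).inv)
    rw [h1]; exact hxσ
  · change IsAffineOpen (CohB1.genLocus _ (σ ≫ (unitTensorIso M).inv))
    rw [h1]; exact haffσ

end Groth.Agent.S1664
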