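import Groth.Statements.S16644
import Mathlib

set_option autoImplicit false
open QuadZ

namespace Groth.Agent.S16644

/-- For odd n, the discriminant of the universal quadratic form Σ_{i ≤ j} A_{ij} x_i x_j in n variables
(variables A_{ij} indexed by unordered pairs), i.e. the determinant of the symmetric matrix with
diagonal entries 2 A_{ii} and off-diagonal entries A_{ij}, is divisible by 2 in the integral
polynomial ring ℤ[A_{ij}] (so the half-discriminant is an integral polynomial). -/
theorem result (n : ℕ) (hn : Odd n) :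
    (2 : MvPolynomial (Sym2 (Fin n)) ℤ) ∣
      (Matrix.of fun i j : Fin n =>
        if i = j then 2 * MvPolynomial.X (R := ℤ) (σ := Sym2 (Fin n)) (Sym2.mk i j)
        else MvPolynomial.X (R := ℤ) (σ := Sym2 (Fin n)) (Sym2.mk i j)).det := by
  classical
  have h2 : (2 : MvPolynomial (Sym2 (Fin n)) ℤ) = MvPolynomial.C ((2 : ℕ) : ℤ) := by
    simp
  suffices hkey : (MvPolynomial.map (Int.castRingHom (ZMod 2)))
      (Matrix.of fun i j : Fin n =>
        if i = j then 2 * MvPolynomial.X (R := ℤ) (σ := Sym2 (Fin n)) (Sym2.mk i j)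
        else MvPolynomial.X (R := ℤ) (σ := Sym2 (Fin n)) (Sym2.mk i j)).det = 0 by
    have h3 := (MvPolynomial.C_dvd_iff_zmod 2 _).mpr hkey
    rw [← h2] at h3
    exact h3
  rw [RingHom.map_det]
  -- the reduced matrix
  set M' : Matrix (Fin n) (Fin n) (MvPolynomial (Sym2 (Fin n)) (ZMod 2)) :=
    (MvPolynomial.map (Int.castRingHom (ZMod 2))).mapMatrix
      (Matrix.of fun i j : Fin n =>
        if i = j then 2 * MvPolynomial.X (R := ℤ) (σ := Sym2 (Fin n)) (Sym2.mk i j)
        else MvPolynomial.X (R := ℤ) (σ := Sym2 (Fin n)) (Sym2.mk i j)) with hM'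
  have hchar : ∀ x : MvPolynomial (Sym2 (Fin n)) (ZMod 2), x + x = 0 :=
    fun x => CharTwo.add_self_eq_zero x
  have hdiag : ∀ i, M' i i = 0 := by
    intro i
    have h2' : (2 : MvPolynomial (Sym2 (Fin n)) (ZMod 2)) = 0 := by
      have := hchar 1
      rw [one_add_one_eq_two] at this
      exact this
    simp [hM', h2']
  have hsymm : ∀ i j, M' i j = M' j i := by
    intro i j
    by_cases hij : i = j
    · subst hij; rfl
    · have hji : ¬ j = i := fun h => hij h.symm
      simp [hM', hij, hji, Sym2.eq_swap]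
  rw [Matrix.det_apply]
  refine Finset.sum_involution (fun σ _ => σ⁻¹) ?_ ?_ (fun _ _ => Finset.mem_univ _)
    (fun σ _ => inv_inv σ)
  · intro σ _
    have hprod : ∏ i, M' (σ⁻¹ i) i = ∏ i, M' (σ i) i := by
      rw [← Equiv.prod_comp σ (fun i => M' (σ⁻¹ i) i)]
      refine Finset.prod_congr rfl (fun j _ => ?_)
      rw [show σ⁻¹ (σ j) = j from by simp, hsymm]
    rw [Equiv.Perm.sign_inv, hprod]
    exact hchar _
  · intro σ _ hne hinv
    apply hne
    have hσ2 : σ ^ 2 = 1 := by
      rw [pow_two]
      calc σ * σ = σ⁻¹ * σ := by rw [hinv]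
        _ = 1 := inv_mul_cancel σ
    have hdvd := Equiv.Perm.two_dvd_card_support hσ2
    have hfix : ∃ i, σ i = i := by
      by_contra hno
      push Not at hno
      have hsupp : σ.support = Finset.univ := by
        ext i
        simp [Equiv.Perm.mem_support, hno i]
      rw [hsupp, Finset.card_univ, Fintype.card_fin] at hdvd
      exact (Nat.not_even_iff_odd.mpr hn) (even_iff_two_dvd.mpr hdvd)
    obtain ⟨i, hi⟩ := hfix
    have : ∏ j, M' (σ j) j = 0 := Finset.prod_eq_zero (Finset.mem_univ i) (by rw [hi, hdiag])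
    rw [this, smul_zero]

end Groth.Agent.S16644
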