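import Groth.Statements.S16651
import Groth.Agent.Lib.Helper25CliffI
import Groth.Agent.Lib.Helper25CliffJ

set_option autoImplicit false
universe u v
open scoped TensorProduct
open QuadZ

namespace Groth.Agent.S16651

/-- For a free module over an affine base, let Q be a non-degenerate quadratic form (polar form a
perfect pairing) on a free module V of even rank 2m ≥ 2 over a commutative ring A. Then fppf-locally
on A the Clifford algebra C(V,Q) is a matrix algebra of size 2^m and its even part a product of two
matrix algebras of size 2^(m-1) (there is a faithfully flat finitely presented A-algebra A'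
realising both), the centre of C(V,Q) is A, the map V → C(V,Q) is injective onto a direct summand,
and the even part is the centralizer in C(V,Q) of its own centre. -/
theorem result (A : Type u) [CommRing A] (V : Type u)
    [AddCommGroup V] [Module A V] [Module.Free A V] [Module.Finite A V] (m : ℕ) (hm : 1 ≤ m)
    (hV : Module.finrank A V = 2 * m) (Q : QuadraticForm A V) (hQ : Function.Bijective (QuadraticMap.polarBilin Q)) :
    (∃ (A' : Type u) (_ : CommRing A') (_ : Algebra A A'), Module.FaithfullyFlat A A' ∧ Algebra.FinitePresentation A A' ∧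
        Nonempty ((A' ⊗[A] CliffordAlgebra Q) ≃ₐ[A'] Matrix (Fin (2 ^ m)) (Fin (2 ^ m)) A') ∧
        Nonempty ((A' ⊗[A] ↥(CliffordAlgebra.even Q)) ≃ₐ[A']
          (Matrix (Fin (2 ^ (m - 1))) (Fin (2 ^ (m - 1))) A' × Matrix (Fin (2 ^ (m - 1))) (Fin (2 ^ (m - 1))) A'))) ∧
    Subalgebra.center A (CliffordAlgebra Q) = ⊥ ∧
    (Function.Injective (CliffordAlgebra.ι Q) ∧
      ∃ W : Submodule A (CliffordAlgebra Q), IsCompl (LinearMap.range (CliffordAlgebra.ι Q)) W) ∧
    Subalgebra.centralizer A
        ((CliffordAlgebra.even Q).val '' (Subalgebra.center A ↥(CliffordAlgebra.even Q) : Set ↥(CliffordAlgebra.even Q))) =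
      CliffordAlgebra.even Q := by
  classical
  open Groth.Agent.Lib.Helper25.Cliff in
  obtain ⟨k, rfl⟩ : ∃ k, m = k + 1 := ⟨m - 1, by omega⟩
  obtain ⟨A', iR, iA, hff, hfp, ⟨f⟩⟩ := exists_fppf_isometry_hypSum (k + 1) hV Q hQ
  obtain ⟨D⟩ := nonempty_splitData_hypSum A' (k + 1)
  let D' := D.ofIsometry f.symm
  obtain ⟨E⟩ := nonempty_even_hypSum_equiv A' k
  have hflat : Module.Flat A A' := inferInstance
  refine ⟨⟨A', iR, iA, hff, hfp, ⟨(bcEquiv A' Q).trans D'.e⟩,
    ⟨(bcEven A' Q).trans ((evenEquivOfIsometry f).trans E)⟩⟩, ?_,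
    ⟨ι_injective Q, exists_isCompl_range_ι Q⟩, ?_⟩
  · -- the centre
    rw [eq_bot_iff]
    intro z hz
    apply mem_bot_of_ofBCAux_mem_bot A' Q
    have := ofBCAux_mem_center A' Q hz
    rw [center_eq_bot_of_algEquiv_matrix D'.e] at this
    exact this
  · -- the centralizer of the centre of the even part
    apply le_antisymm
    · intro x hx
      rw [Subalgebra.mem_centralizer_iff] at hx
      set x0 := evenProj Q x with hx0
      set x1 := eoProj Q 1 x with hx1
      have hsum : x0.1 + x1.1 = x := by
        rw [hx0, evenProj_coe]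
        exact eoProj_zero_add_one Q x
      have hcomm : ∀ p ∈ Subalgebra.toSubmodule (Subalgebra.center A ↥(CliffordAlgebra.even Q)),
          x1.1 * p.1 = p.1 * x1.1 := by
        intro p hp
        have h1 : p.1 * x = x * p.1 := hx p.1 ⟨p, hp, rfl⟩
        have h2 : p * x0 = x0 * p := (Subalgebra.mem_center_iff (R := A)).mp hp x0 |>.symm
        have h2' : p.1 * x0.1 = x0.1 * p.1 := congrArg Subtype.val h2
        have hx1' : x1.1 = x - x0.1 := by rw [← hsum]; abel
        rw [hx1', sub_mul, mul_sub, h1, h2']
      have hε' := D'.hε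
      have hy := hε'.mem_center_even
      have ht := even_symm_mem_baseChange_center A' Q _ hy
      have hc := commute_bcEven_of_mem_baseChange A' Q _ x1.1 hcomm _ ht
      rw [AlgEquiv.apply_symm_apply] at hc
      have hodd : ofBCAux A' Q x1.1 ∈ CliffordAlgebra.evenOdd (QuadGrp.baseChangeForm A' Q) 1 :=
        ofBCAux_mem_evenOdd A' Q 1 x1.1 x1.2
      have hz := hε'.eq_zero_of_odd_of_commute _ hodd hc
      have hx1z : x1.1 = 0 := ofBCAux_injective A' Q (by rw [hz, map_zero])
      rw [← hsum, hx1z, add_zero]
      exact x0.2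
    · intro u hu
      rw [Subalgebra.mem_centralizer_iff]
      rintro _ ⟨c, hc, rfl⟩
      have := Subalgebra.mem_center_iff.mp hc ⟨u, hu⟩
      exact (congrArg Subtype.val this).symm

end Groth.Agent.S16651
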