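import Groth.Statements.S16690
import Mathlib
-- import your own Groth.Agent.* helpers here

set_option autoImplicit false
set_option linter.style.haveILetI false
set_option linter.unusedSectionVars false
universe u v w
open ComodSub

namespace Groth.Agent.S16690

open TensorProduct

section Bij

variable {k : Type u} [CommRing k] {M : Type w} [AddCommGroup M] [Module k M]
  {N : Type v} [AddCommGroup N] [Module k N]

theorem dualMap_exact {M1 M2 M3 : Type*} [AddCommGroup M1] [Module k M1] [AddCommGroup M2]
    [Module k M2] [AddCommGroup M3] [Module k M3] {f : M1 →ₗ[k] M2} {g : M2 →ₗ[k] M3}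
    (exac : Function.Exact f g) (surj : Function.Surjective g) :
    Function.Exact g.dualMap f.dualMap := by
  intro φ
  have := LinearMap.exact_lcomp_of_exact_of_surjective k exac surj φ
  exact this

theorem dualTensorHom_bijective_of_fp_flat [Module.FinitePresentation k M] [Module.Flat k N] :
    Function.Bijective (dualTensorHom k M N) := by
  obtain ⟨n, m, p, f, hp, hex⟩ := Module.FinitePresentation.exists_fin' k M
  have nat1 := dualTensorHom_comp_rTensor_dualMap (R := k) (P := N) p
  have nat2 := dualTensorHom_comp_rTensor_dualMap (R := k) (P := N) f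
  have bF : Function.Bijective (dualTensorHom k (Fin n → k) N) := dualTensorHom_bijective
  have bF' : Function.Bijective (dualTensorHom k (Fin m → k) N) := dualTensorHom_bijective
  have hpd : Function.Injective p.dualMap := LinearMap.dualMap_injective_of_surjective hp
  have hpdN : Function.Injective (p.dualMap.rTensor N) :=
    Module.Flat.rTensor_preserves_injective_linearMap _ hpd
  constructor
  · have : Function.Injective (dualTensorHom k (Fin n → k) N ∘ₗ p.dualMap.rTensor N) := by
      rw [LinearMap.coe_comp]
      exact bF.1.comp hpdN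
    rw [nat1, LinearMap.coe_comp] at this
    exact Function.Injective.of_comp this
  · intro h
    obtain ⟨y, hy⟩ := bF.2 (h ∘ₗ p)
    have h0 : (f.dualMap.rTensor N) y = 0 := by
      apply bF'.1
      have := LinearMap.congr_fun nat2 y
      rw [LinearMap.comp_apply, LinearMap.comp_apply, hy] at this
      rw [this, map_zero]
      apply LinearMap.ext
      intro x
      rw [LinearMap.lcomp_apply', LinearMap.comp_apply, LinearMap.comp_apply,
        hex.apply_apply_eq_zero, map_zero, LinearMap.zero_apply]
    have hexN : Function.Exact (p.dualMap.rTensor N) (f.dualMap.rTensor N) :=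
      Module.Flat.rTensor_exact N (dualMap_exact hex hp)
    obtain ⟨x, hx⟩ := (hexN y).1 h0
    refine ⟨x, ?_⟩
    have := LinearMap.congr_fun nat1 x
    rw [LinearMap.comp_apply, LinearMap.comp_apply, hx, hy] at this
    apply LinearMap.ext
    intro z
    obtain ⟨z', rfl⟩ := hp z
    have h2 := LinearMap.congr_fun this z'
    rw [LinearMap.lcomp_apply'] at h2
    exact h2.symm

end Bij

section Main

variable {k : Type u} [CommRing k] {A : Type v} [AddCommGroup A] [Module k A] [Coalgebra k A]
  {M : Type w} [AddCommGroup M] [Module k M]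

/-- `N ⊗ M^* → Hom(M, N)` -/
noncomputable def ev (N : Type*) [AddCommGroup N] [Module k N] :
    N ⊗[k] Module.Dual k M →ₗ[k] (M →ₗ[k] N) :=
  dualTensorHom k M N ∘ₗ (TensorProduct.comm k N (Module.Dual k M)).toLinearMap

theorem ev_tmul {N : Type*} [AddCommGroup N] [Module k N] (n : N) (φ : Module.Dual k M) (m : M) :
    ev N (n ⊗ₜ[k] φ) m = φ m • n := by
  simp [ev, dualTensorHom_apply]

theorem ev_bijective {N : Type*} [AddCommGroup N] [Module k N] [Module.FinitePresentation k M]
    [Module.Flat k N] : Function.Bijective (ev (k := k) (M := M) N) := by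
  unfold ev
  rw [LinearMap.coe_comp]
  exact dualTensorHom_bijective_of_fp_flat.comp (LinearEquiv.bijective _)

theorem ev_rTensor {N N' : Type*} [AddCommGroup N] [Module k N] [AddCommGroup N'] [Module k N']
    (f : N →ₗ[k] N') (x : N ⊗[k] Module.Dual k M) (m : M) :
    ev N' (f.rTensor _ x) m = f (ev N x m) := by
  induction x using TensorProduct.induction_on with
  | zero => simp
  | tmul n φ => rw [LinearMap.rTensor_tmul, ev_tmul, ev_tmul, map_smul]
  | add x y hx hy => rw [map_add, map_add, LinearMap.add_apply, hx, hy, map_add,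
      LinearMap.add_apply, map_add]

/-- `φ ↦ lid ∘ (φ ⊗ id)` as a linear map -/
noncomputable def Rm : Module.Dual k M →ₗ[k] (M ⊗[k] A →ₗ[k] A) where
  toFun φ := (TensorProduct.lid k A).toLinearMap ∘ₗ φ.rTensor A
  map_add' φ φ' := by
    apply LinearMap.ext
    intro z
    simp [LinearMap.rTensor_add]
  map_smul' r φ := by
    apply LinearMap.ext
    intro z
    simp [LinearMap.rTensor_smul]

theorem Rm_apply (φ : Module.Dual k M) (z : M ⊗[k] A) :
    Rm (A := A) φ z = TensorProduct.lid k A (φ.rTensor A z) := rfl

theorem Rm_tmul (φ : Module.Dual k M) (m : M) (a : A) :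
    Rm (A := A) φ (m ⊗ₜ[k] a) = φ m • a := by
  rw [Rm_apply, LinearMap.rTensor_tmul, TensorProduct.lid_tmul]

theorem ldualFun_eq (c : HopfRep.Comod k A M) (g : Module.Dual k M) (m : M) :
    ldualFun c g m = Rm g (c.coact m) := rfl

/-- the left coaction on the dual -/
noncomputable def lam [Module.FinitePresentation k M] [Module.Flat k A] (c : HopfRep.Comod k A M) :
    Module.Dual k M →ₗ[k] A ⊗[k] Module.Dual k M :=
  (LinearEquiv.ofBijective (ev (k := k) (M := M) A) ev_bijective).symm.toLinearMap ∘ₗ
    ((LinearMap.lcomp k A c.coact) ∘ₗ Rm)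

theorem ev_lam [Module.FinitePresentation k M] [Module.Flat k A] (c : HopfRep.Comod k A M)
    (g : Module.Dual k M) : ev A (lam c g) = ldualFun c g := by
  unfold lam
  rw [LinearMap.comp_apply, LinearEquiv.coe_coe]
  have := (LinearEquiv.ofBijective (ev (k := k) (M := M) A) ev_bijective).apply_symm_apply
    (((LinearMap.lcomp k A c.coact) ∘ₗ Rm) g)
  rw [LinearEquiv.ofBijective_apply] at this
  rw [this]
  rfl

theorem ev_assoc_symm_tmul (a : A) (y : A ⊗[k] Module.Dual k M) (m : M) :
    ev (A ⊗[k] A) ((TensorProduct.assoc k A A (Module.Dual k M)).symm (a ⊗ₜ[k] y)) m =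
      a ⊗ₜ[k] (ev A y m) := by
  induction y using TensorProduct.induction_on with
  | zero => simp
  | tmul b χ =>
    rw [TensorProduct.assoc_symm_tmul, ev_tmul, ev_tmul, TensorProduct.tmul_smul]
  | add x y hx hy =>
    rw [TensorProduct.tmul_add, map_add, map_add, LinearMap.add_apply, hx, hy, map_add,
      LinearMap.add_apply, TensorProduct.tmul_add]

theorem ev_assoc_symm_lTensor (μ : Module.Dual k M →ₗ[k] A ⊗[k] Module.Dual k M)
    (x : A ⊗[k] Module.Dual k M) (m : M) :
    ev (A ⊗[k] A) ((TensorProduct.assoc k A A (Module.Dual k M)).symm (μ.lTensor A x)) m =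
      (LinearMap.lTensor A ((LinearMap.applyₗ m) ∘ₗ (ev A) ∘ₗ μ)) x := by
  induction x using TensorProduct.induction_on with
  | zero => simp
  | tmul a φ =>
    rw [LinearMap.lTensor_tmul, ev_assoc_symm_tmul, LinearMap.lTensor_tmul]
    rfl
  | add x y hx hy =>
    rw [map_add, map_add, map_add, LinearMap.add_apply, hx, hy, map_add]

theorem lTensor_Rm_eq (x : A ⊗[k] Module.Dual k M) (z : M ⊗[k] A) :
    (LinearMap.lTensor A ((LinearMap.applyₗ z) ∘ₗ (Rm (A := A) (M := M)))) x =
      (LinearMap.rTensor A (ev A x)) z := by
  induction z using TensorProduct.induction_on with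
  | zero =>
    rw [map_zero, map_zero, LinearMap.zero_comp, LinearMap.lTensor_zero, LinearMap.zero_apply]
  | tmul m a =>
    rw [LinearMap.rTensor_tmul]
    induction x using TensorProduct.induction_on with
    | zero => simp
    | tmul b φ =>
      rw [LinearMap.lTensor_tmul, ev_tmul, LinearMap.comp_apply, LinearMap.applyₗ_apply_apply,
        Rm_tmul, TensorProduct.tmul_smul, TensorProduct.smul_tmul']
    | add x y hx hy =>
      rw [map_add, hx, hy, map_add, LinearMap.add_apply, TensorProduct.add_tmul]
  | add z z' hz hz' =>
    rw [map_add, map_add, LinearMap.add_comp, LinearMap.lTensor_add, LinearMap.add_apply, hz, hz']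

theorem key_assoc (g : Module.Dual k M) (w : (M ⊗[k] A) ⊗[k] A) :
    ((TensorProduct.lid k A).toLinearMap.rTensor A) (((g.rTensor A).rTensor A) w) =
      TensorProduct.lid k (A ⊗[k] A) ((g.rTensor (A ⊗[k] A)) (TensorProduct.assoc k M A A w)) := by
  induction w using TensorProduct.induction_on with
  | zero => simp
  | tmul z b =>
    induction z using TensorProduct.induction_on with
    | zero => simp
    | tmul m a =>
      rw [LinearMap.rTensor_tmul, LinearMap.rTensor_tmul, LinearMap.rTensor_tmul,
        LinearEquiv.coe_coe, TensorProduct.lid_tmul, TensorProduct.assoc_tmul,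
        LinearMap.rTensor_tmul, TensorProduct.lid_tmul, TensorProduct.smul_tmul']
    | add z z' hz hz' =>
      rw [TensorProduct.add_tmul, map_add, map_add, hz, hz', map_add, map_add, map_add]
  | add w w' hw hw' =>
    rw [map_add, map_add, hw, hw', map_add, map_add, map_add]

theorem comul_lid (g : Module.Dual k M) (z : M ⊗[k] A) :
    CoalgebraStruct.comul (R := k) (TensorProduct.lid k A (g.rTensor A z)) =
      TensorProduct.lid k (A ⊗[k] A) ((g.rTensor (A ⊗[k] A))
        ((CoalgebraStruct.comul (R := k) (A := A)).lTensor M z)) := by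
  induction z using TensorProduct.induction_on with
  | zero => simp
  | tmul m a =>
    rw [LinearMap.rTensor_tmul, TensorProduct.lid_tmul, LinearMap.lTensor_tmul,
      LinearMap.rTensor_tmul, TensorProduct.lid_tmul, map_smul]
  | add z z' hz hz' =>
    rw [map_add, map_add, map_add, hz, hz', map_add, map_add, map_add]

theorem counit_lid (g : Module.Dual k M) (z : M ⊗[k] A) :
    CoalgebraStruct.counit (R := k) (TensorProduct.lid k A (g.rTensor A z)) =
      TensorProduct.lid k k ((g.rTensor k)
        ((CoalgebraStruct.counit (R := k) (A := A)).lTensor M z)) := by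
  induction z using TensorProduct.induction_on with
  | zero => simp
  | tmul m a =>
    rw [LinearMap.rTensor_tmul, TensorProduct.lid_tmul, LinearMap.lTensor_tmul,
      LinearMap.rTensor_tmul, TensorProduct.lid_tmul, map_smul]
  | add z z' hz hz' =>
    rw [map_add, map_add, map_add, hz, hz', map_add, map_add, map_add]

theorem kappa_lam [Module.FinitePresentation k M] [Module.Flat k A] (c : HopfRep.Comod k A M)
    (m : M) : (LinearMap.applyₗ m) ∘ₗ (ev A) ∘ₗ (lam c) =
      (LinearMap.applyₗ (c.coact m)) ∘ₗ (Rm (A := A) (M := M)) := by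
  apply LinearMap.ext
  intro φ
  rw [LinearMap.comp_apply, LinearMap.comp_apply, LinearMap.applyₗ_apply_apply, ev_lam,
    LinearMap.comp_apply, LinearMap.applyₗ_apply_apply]
  rfl

theorem lam_coassoc [Module.FinitePresentation k M] [Module.Flat k A] (c : HopfRep.Comod k A M) :
    (lam c).lTensor A ∘ₗ (lam c) =
      (TensorProduct.assoc k A A (Module.Dual k M)).toLinearMap ∘ₗ
        (CoalgebraStruct.comul (R := k) (A := A)).rTensor (Module.Dual k M) ∘ₗ (lam c) := by
  apply LinearMap.ext
  intro g
  have hinj : Function.Injective (ev (k := k) (M := M) (A ⊗[k] A)) := ev_bijective.1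
  apply (TensorProduct.assoc k A A (Module.Dual k M)).symm.injective
  apply hinj
  apply LinearMap.ext
  intro m
  rw [LinearMap.comp_apply, LinearMap.comp_apply, LinearMap.comp_apply, LinearEquiv.coe_coe,
    LinearEquiv.symm_apply_apply, ev_assoc_symm_lTensor, kappa_lam, lTensor_Rm_eq, ev_rTensor,
    ev_lam]
  -- now: (rTensor A (ldualFun c g)) (ρ m) = Δ (ldualFun c g m)
  have h1 : ldualFun c g = (TensorProduct.lid k A).toLinearMap ∘ₗ g.rTensor A ∘ₗ c.coact := rfl
  rw [h1, LinearMap.rTensor_comp, LinearMap.rTensor_comp, LinearMap.comp_apply,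
    LinearMap.comp_apply, key_assoc, LinearMap.comp_apply, LinearMap.comp_apply,
    LinearEquiv.coe_coe, comul_lid]
  have h2 := LinearMap.congr_fun c.coassoc m
  rw [LinearMap.comp_apply, LinearMap.comp_apply, LinearMap.comp_apply, LinearEquiv.coe_coe] at h2
  rw [h2]

theorem lam_counit [Module.FinitePresentation k M] [Module.Flat k A] (c : HopfRep.Comod k A M) :
    (CoalgebraStruct.counit (R := k) (A := A)).rTensor (Module.Dual k M) ∘ₗ (lam c) =
      TensorProduct.mk k k (Module.Dual k M) 1 := by
  apply LinearMap.ext
  intro g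
  have hinj : Function.Injective (ev (k := k) (M := M) k) := ev_bijective.1
  apply hinj
  apply LinearMap.ext
  intro m
  rw [LinearMap.comp_apply, ev_rTensor, ev_lam, TensorProduct.mk_apply, ev_tmul]
  have h1 : ldualFun c g = (TensorProduct.lid k A).toLinearMap ∘ₗ g.rTensor A ∘ₗ c.coact := rfl
  rw [h1, LinearMap.comp_apply, LinearMap.comp_apply, LinearEquiv.coe_coe, counit_lid]
  have h2 := LinearMap.congr_fun c.counit_comp m
  rw [LinearMap.comp_apply] at h2
  rw [h2, LinearMap.flip_apply, TensorProduct.mk_apply, LinearMap.rTensor_tmul,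
    TensorProduct.lid_tmul]

end Main


/-- Let `k` be a commutative ring, `A` a `k`-coalgebra that is flat over `k`, and `M` a finitely
presented `k`-module with a right `A`-comodule structure `m ↦ Σ m₀ ⊗ m₁`. Then the dual module `M^*
= Hom(M, k)` carries a left `A`-comodule structure whose coaction sends a form `g` to the element of
`A ⊗ M^*` that reads, through `a ⊗ φ ↦ (m ↦ φ(m) a)`, as the map `m ↦ Σ g(m₀) m₁` (the left dual of
the given structure). (The published statement takes coalgebras to be commutative algebras whose
comultiplication and counit are algebra maps; the construction uses no multiplication on `A`, so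
here `A` is any flat coalgebra.) -/
theorem result (k : Type u) [CommRing k]
    (A : Type v) [AddCommGroup A] [Module k A] [Coalgebra k A] [Module.Flat k A]
    (M : Type w) [AddCommGroup M] [Module k M] [Module.FinitePresentation k M]
    (c : HopfRep.Comod k A M) :
    ∃ l : ComodSub.LComod k A (Module.Dual k M), ComodSub.LComod.IsLDual c l := by
  refine ⟨{ coact := lam c, coassoc := lam_coassoc c, counit_comp := lam_counit c }, ?_⟩
  intro g
  exact ev_lam c g

end Groth.Agent.S16690
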