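import Groth.Statements.S16699
import Mathlib
import Groth.Agent.Lib.Helper15DiagApps
import Groth.Agent.Lib.Helper17AlgStRep
import Groth.Agent.Lib.Helper17AlgStEquiv

set_option autoImplicit false
universe u
open AlgSt AlgSt.IsWellNighAffine

namespace Groth.Agent.S16699

open CategoryTheory AlgebraicGeometry in
/-- An algebraic stack affine over a well-nigh affine algebraic stack is well-nigh affine. -/
theorem result (S : Scheme.{u}) (𝒳 𝒳' : AlgSt.Cat S)
    (h𝒳 : AlgSt.IsAlgStack Scheme.fppfPrecoverage 𝒳) (h𝒳' : AlgSt.IsAlgStack Scheme.fppfPrecoverage 𝒳')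
    (hw : AlgSt.IsWellNighAffine 𝒳) (f : 𝒳' ⥤ᵇ 𝒳) (hf : AlgSt.RepByAlgSpWith AlgSp.IsAffineMor f) :
    AlgSt.IsWellNighAffine 𝒳' := by
  open Groth.Agent.Lib.Helper17 Groth.Agent.Lib.Helper15DiagApps Groth.Agent.Lib.Helper15DiagRepSp in
  obtain ⟨U, x, hU, hx⟩ := hw
  obtain ⟨G, e, he, hG⟩ := hf U x
  obtain ⟨W, i, fst, sq, hW⟩ := hG hU (𝟙 _)
  have : IsIso fst := sq.isIso_fst_of_isIso
  let j : (AlgSp.yon S).obj W ≅ G.obj := asIso fst
  let E : FibCat.overCat W ⥤ᵇ FibCat.fp x f :=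
    BasedFunctor.comp (AlgSt.ofOverCat W) (BasedFunctor.comp (AlgSt.ofSpMap j.hom) e)
  have hE : FibCat.IsEquivOver E :=
    IsEquivOver.comp _ _ (isEquivOver_ofOverCat W)
      (IsEquivOver.comp _ _ (isEquivOver_ofSpMap_of_iso j) he)
  refine ⟨W, BasedFunctor.comp E (FibCat.fpSnd x f), hW, ?_⟩
  have h1 := repByAlgSpWith_fpSnd _ x f hx
  exact (repByAlgSpWith_of_square _ (FibCat.fpSnd x f) (BasedFunctor.comp E (FibCat.fpSnd x f)) E
    (BasedFunctor.id _) hE (isEquivOver_id _) (Iso.refl _)).1 h1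


end Groth.Agent.S16699
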