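import Groth.Statements.S16707
import Mathlib.RingTheory.Flat.Equalizer
import Mathlib.LinearAlgebra.TensorProduct.Quotient
-- import your own Groth.Agent.* helpers here

set_option autoImplicit false
universe u v
open CAlg

namespace Groth.Agent.S16707

open TensorProduct in
theorem subsingleton_of_tensor (A : Type u) [CommRing A] (I : Ideal A)
    (hI : IsNilpotent I) (Q : Type v) [AddCommGroup Q] [Module A Q]
    (h : Subsingleton ((A ⧸ I) ⊗[A] Q)) : Subsingleton Q := by
  have h1 : Subsingleton (Q ⧸ (I • (⊤ : Submodule A Q))) :=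
    (TensorProduct.quotTensorEquivQuotSMul Q I).symm.injective.subsingleton
  have h2 : I • (⊤ : Submodule A Q) = ⊤ := Submodule.Quotient.subsingleton_iff.mp h1
  obtain ⟨n, hn⟩ := hI
  have h3 : ∀ m : ℕ, I ^ m • (⊤ : Submodule A Q) = ⊤ := by
    intro m
    induction m with
    | zero => simp
    | succ m ih => rw [pow_succ, mul_smul, h2, ih]
  have h4 : (⊤ : Submodule A Q) = ⊥ := by
    rw [← h3 n, hn]
    simp
  exact (Submodule.subsingleton_iff A).mp (subsingleton_of_bot_eq_top h4.symm)

open TensorProduct in
/-- Let A be a commutative ring, I a nilpotent ideal of A and f : M → N a homomorphism of A-modules with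
N flat over A (no finiteness assumption on M or N). If the base change of f to A/I, that is M/IM →
N/IN, is bijective, then f is bijective. -/
theorem result (A : Type u) [CommRing A] (I : Ideal A)
    (hI : IsNilpotent I) (M N : Type v) [AddCommGroup M] [Module A M] [AddCommGroup N] [Module A N]
    [Module.Flat A N] (f : M →ₗ[A] N)
    (hf : Function.Bijective (f.baseChange (A ⧸ I))) :
    Function.Bijective f := by
  rw [LinearMap.baseChange_eq_ltensor] at hf
  have hsurj : Function.Surjective f := by
    let P := LinearMap.range f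
    have hex : Function.Exact f P.mkQ := LinearMap.exact_map_mkQ_range f
    have hex' := lTensor_exact (A ⧸ I) hex P.mkQ_surjective
    have hs : Function.Surjective (P.mkQ.lTensor (A ⧸ I)) :=
      LinearMap.lTensor_surjective _ P.mkQ_surjective
    have hsub : Subsingleton ((A ⧸ I) ⊗[A] (N ⧸ P)) := by
      refine ⟨fun a b => ?_⟩
      obtain ⟨a', rfl⟩ := hs a
      obtain ⟨b', rfl⟩ := hs b
      obtain ⟨a'', rfl⟩ := hf.2 a'
      obtain ⟨b'', rfl⟩ := hf.2 b'
      rw [hex'.apply_apply_eq_zero, hex'.apply_apply_eq_zero]
    have hQ := subsingleton_of_tensor A I hI (N ⧸ P) hsub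
    have : P = ⊤ := Submodule.Quotient.subsingleton_iff.mp hQ
    exact LinearMap.range_eq_top.mp this
  refine ⟨?_, hsurj⟩
  let K := LinearMap.ker f
  have hex : Function.Exact K.subtype f := LinearMap.exact_subtype_ker_map f
  have hinj := LinearMap.lTensor_injective_of_exact_of_flat f hsurj K.subtype
    K.subtype_injective hex (A ⧸ I)
  have hsub : Subsingleton ((A ⧸ I) ⊗[A] K) := by
    refine ⟨fun a b => ?_⟩
    apply hinj
    apply hf.1
    have hex' := lTensor_exact (A ⧸ I) hex hsurj
    rw [hex'.apply_apply_eq_zero, hex'.apply_apply_eq_zero]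
  have hK := subsingleton_of_tensor A I hI K hsub
  rw [← LinearMap.ker_eq_bot]
  exact (Submodule.subsingleton_iff_eq_bot).mp hK

end Groth.Agent.S16707
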