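import Groth.Statements.S16708
import Groth.Agent.Lib.Helper25Integral
import Groth.Agent.Lib.Helper25IntegralBC

set_option autoImplicit false
universe u
open HopfRep

namespace Groth.Agent.S16708

/-- Let G be a finite group and k a field in which the order of G is a nonzero element. Then the
constant group scheme of G over k is linearly reductive: every finite-dimensional comodule over its
coordinate Hopf algebra (the algebra of functions G → k with the Hopf structure of the constant
group) is semisimple, i.e. every subcomodule admits a complementary subcomodule. -/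
theorem result (k : Type u) [Field k] (G : Type u) [Group G]
    [Fintype G] [DecidableEq G] (hG : ((Fintype.card G : ℕ) : k) ≠ 0) :
    HopfRep.IsLinearlyReductive k (ConstGrp.F k G) := by
  open Groth.Agent.Lib.Helper25 in
  classical
  intro V _ _ _ _
  -- the normalised counting functional
  let α : ConstGrp.F k G →ₗ[k] k :=
    ((Fintype.card G : ℕ) : k)⁻¹ • ∑ g : G, (ConstGrp.ev k g).toLinearMap
  have hαapp : ∀ f : ConstGrp.F k G, α f = ((Fintype.card G : ℕ) : k)⁻¹ * ∑ g : G, f g := by
    intro f
    simp [α, LinearMap.sum_apply]
  have hαe : ∀ g : G, α (ConstGrp.e k g) = ((Fintype.card G : ℕ) : k)⁻¹ := by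
    intro g
    rw [hαapp, Finset.sum_eq_single g]
    · rw [ConstGrp.e_apply_self, mul_one]
    · intro h _ hh
      exact ConstGrp.e_apply_of_ne hh
    · intro h; exact absurd (Finset.mem_univ g) h
  have h1 : α 1 = 1 := by
    rw [hαapp]
    simp only [ConstGrp.one_apply, Finset.sum_const, Finset.card_univ, nsmul_eq_mul, mul_one]
    exact inv_mul_cancel₀ hG
  have hα : @Hoch.IsComodHom k _ (ConstGrp.F k G) _ _ _ (ConstGrp.F k G) _ _ _ k _ _
      (HopfRep.Comod.trivial k (ConstGrp.F k G) k) α := by
    rw [isComodHom_trivial_iff]
    intro f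
    rw [ConstGrp.comul_eq_sum]
    simp only [map_sum, map_smul, lslice_tmul, hαe]
    -- Σ_a Σ_b f(ab) • c • e b = α f • 1
    rw [Finset.sum_comm]
    have : ∀ b : G, ∑ a : G, f (a * b) • (((Fintype.card G : ℕ) : k)⁻¹ • ConstGrp.e k b) =
        α f • ConstGrp.e k b := by
      intro b
      rw [← Finset.sum_smul, hαapp, smul_smul]
      congr 1
      rw [mul_comm]
      congr 1
      exact Fintype.sum_equiv (Equiv.mulRight b) _ _ (fun a => rfl)
    simp only [this]
    rw [← Finset.smul_sum, ConstGrp.sum_e]
  exact isSemisimpleComod_of_totalIntegral α hα h1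

end Groth.Agent.S16708
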