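import Groth.Statements.S16715
import Mathlib
import Groth.Agent.Lib.Helper22FerrandBC4

set_option autoImplicit false
universe u
open FlatMor

namespace Groth.Agent.S16715

open FlatMor
open CategoryTheory CategoryTheory.Limits AlgebraicGeometry
open Groth.Agent.Lib.Helper22.Ferrand Groth.Agent.Lib.Helper22.SpPO

open CategoryTheory CategoryTheory.Limits AlgebraicGeometry in
/-- Base change of pushouts along a closed immersion and an affine morphism. Let i : X₀ → X be a closed
immersion and f₀ : X₀ → Y₀ an affine morphism of schemes, and let Y together with an affine morphism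
f : X → Y and a closed immersion j : Y₀ → Y be a pushout of i and f₀ in the category of schemes
whose square is also cartesian. Let Y be a scheme over S such that X₀ is flat over S, and let S' → S
be any morphism. Then the base-changed square over S' is again a pushout in the category of schemes:
Y ×_S S' is the pushout of X ×_S S' and Y₀ ×_S S' along X₀ ×_S S'. -/
theorem result {X₀ X Y₀ Y S S' : Scheme.{u}}
    (i : X₀ ⟶ X) [IsClosedImmersion i] (f₀ : X₀ ⟶ Y₀) [IsAffineHom f₀] (f : X ⟶ Y) [IsAffineHom f]
    (j : Y₀ ⟶ Y) [IsClosedImmersion j] (hpo : IsPushout i f₀ f j) (hpb : IsPullback i f₀ f j)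
    (q : Y ⟶ S) [Flat ((i ≫ f) ≫ q)] (g : S' ⟶ S) :
    IsPushout
      (pullback.map ((i ≫ f) ≫ q) g (f ≫ q) g i (𝟙 S') (𝟙 S)
        ((Category.comp_id _).trans (Category.assoc i f q))
        ((Category.comp_id g).trans (Category.id_comp g).symm))
      (pullback.map ((i ≫ f) ≫ q) g (j ≫ q) g f₀ (𝟙 S') (𝟙 S)
        ((Category.comp_id _).trans ((congrArg (fun t => t ≫ q) hpo.w).trans (Category.assoc f₀ j q)))
        ((Category.comp_id g).trans (Category.id_comp g).symm))
      (pullback.map (f ≫ q) g q g f (𝟙 S') (𝟙 S)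
        (Category.comp_id _) ((Category.comp_id g).trans (Category.id_comp g).symm))
      (pullback.map (j ≫ q) g q g j (𝟙 S') (𝟙 S)
        (Category.comp_id _) ((Category.comp_id g).trans (Category.id_comp g).symm)) := by
  have hY : ∀ y : Y₀, ∃ k : AdPair i f₀, y ∈ k.V := by
    intro y
    obtain ⟨W, hW, hyW⟩ := exists_affine_nhd (j.base y)
    refine ⟨⟨f ⁻¹ᵁ W, j ⁻¹ᵁ W, hW.preimage f, hW.preimage j, ?_⟩, hyW⟩
    rw [← Scheme.Hom.comp_preimage, ← Scheme.Hom.comp_preimage, hpo.w]
  have hfl : Flat (i ≫ f ≫ q) := by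
    rw [← Category.assoc]; infer_instance
  have hPT : IsPullback (pullback.fst q g) (pullback.snd q g) q g := IsPullback.of_hasPullback _ _
  have hF1 : IsPullback (pullback.fst (f ≫ q) g) (pullback.snd (f ≫ q) g) (f ≫ q) g :=
    IsPullback.of_hasPullback _ _
  have hF2 : IsPullback (pullback.fst (j ≫ q) g) (pullback.snd (j ≫ q) g) (j ≫ q) g :=
    IsPullback.of_hasPullback _ _
  have hF0 : IsPullback (pullback.fst ((i ≫ f) ≫ q) g) (pullback.snd ((i ≫ f) ≫ q) g)
      ((i ≫ f) ≫ q) g := IsPullback.of_hasPullback _ _
  have hFX : IsPullback (pullback.fst (f ≫ q) g) (pullback.map (f ≫ q) g q g f (𝟙 S') (𝟙 S)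
        (Category.comp_id _) ((Category.comp_id g).trans (Category.id_comp g).symm)) f
      (pullback.fst q g) := by
    refine IsPullback.of_bot ?_ ?_ hPT
    · convert hF1 using 1
      rw [pullback.lift_snd, Category.comp_id]
    · exact (pullback.lift_fst _ _ _).symm
  have hFY : IsPullback (pullback.fst (j ≫ q) g) (pullback.map (j ≫ q) g q g j (𝟙 S') (𝟙 S)
        (Category.comp_id _) ((Category.comp_id g).trans (Category.id_comp g).symm)) j
      (pullback.fst q g) := by
    refine IsPullback.of_bot ?_ ?_ hPT
    · convert hF2 using 1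
      rw [pullback.lift_snd, Category.comp_id]
    · exact (pullback.lift_fst _ _ _).symm
  have hFZ : IsPullback (pullback.fst ((i ≫ f) ≫ q) g)
      (pullback.map ((i ≫ f) ≫ q) g (f ≫ q) g i (𝟙 S') (𝟙 S)
        ((Category.comp_id _).trans (Category.assoc i f q))
        ((Category.comp_id g).trans (Category.id_comp g).symm)) i
      (pullback.fst (f ≫ q) g) := by
    refine IsPullback.of_bot ?_ ?_ hF1
    · convert hF0 using 1
      · rw [pullback.lift_snd, Category.comp_id]
      · rw [Category.assoc]
    · exact (pullback.lift_fst _ _ _).symm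
  refine isPushout_of_flat_corner i f₀ hY hpo q hfl g hPT hFX hFY hFZ ?_ ?_
  · exact pullback.lift_fst _ _ _
  · apply pullback.hom_ext
    · simp only [Category.assoc, pullback.lift_fst, pullback.lift_fst_assoc, hpo.w]
    · simp only [Category.assoc, pullback.lift_snd, pullback.lift_snd_assoc]

end Groth.Agent.S16715
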