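import Groth.Statements.S16737
import Mathlib.Algebra.CharP.Invertible
-- import your own Groth.Agent.* helpers here

set_option autoImplicit false
universe u v
open DeRham

namespace Groth.Agent.S16737

open MvPolynomial in
theorem D_eq_zero_iff (R : Type u) [CommRing R] (σ : Type v) (f : MvPolynomial σ R) :
    KaehlerDifferential.D R (MvPolynomial σ R) f = 0 ↔ ∀ i, pderiv i f = 0 := by
  constructor
  · intro h i
    rw [← KaehlerDifferential.mvPolynomialBasis_repr_apply, h]
    simp
  · intro h
    apply (KaehlerDifferential.mvPolynomialBasis R σ).repr.injective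
    ext i : 1
    rw [KaehlerDifferential.mvPolynomialBasis_repr_apply, h i]
    simp

open MvPolynomial in
theorem pderiv_expand (p : ℕ) [Fact p.Prime]
    (R : Type u) [CommRing R] [CharP R p] (σ : Type v) (g : MvPolynomial σ R) (i : σ) :
    pderiv i (expand p g) = 0 := by
  ext m
  rw [coeff_pderiv, coeff_zero]
  by_cases h : p ∣ m i + 1
  · have : ((m i + 1 : ℕ) : R) = 0 := (CharP.cast_eq_zero_iff R p _).mpr h
    push_cast at this
    rw [this, mul_zero]
  · rw [coeff_expand_of_not_dvd (i := i), zero_mul]
    simpa using h

open MvPolynomial in
theorem dvd_of_mem_support (p : ℕ) [Fact p.Prime]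
    (R : Type u) [CommRing R] [CharP R p] (σ : Type v) (f : MvPolynomial σ R)
    (hf : ∀ i, pderiv i f = 0) (m : σ →₀ ℕ) (hm : m ∈ f.support) (i : σ) : p ∣ m i := by
  by_contra hnd
  have hpos : m i ≠ 0 := by
    intro h0
    rw [h0] at hnd
    exact hnd (dvd_zero p)
  have hunit : IsUnit ((m i : ℕ) : R) := (CharP.isUnit_natCast_iff (Fact.out : p.Prime)).mpr hnd
  have hm' : m - Finsupp.single i 1 + Finsupp.single i 1 = m := by
    ext j
    by_cases hj : j = i
    · subst hj
      simp only [Finsupp.coe_add, Finsupp.coe_tsub, Pi.add_apply, Pi.sub_apply,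
        Finsupp.single_eq_same]
      omega
    · simp [Ne.symm hj]
  have h1 := coeff_pderiv (i := i) f (m - Finsupp.single i 1)
  rw [hf i, coeff_zero, hm'] at h1
  have h2 : ((((m - Finsupp.single i 1 : σ →₀ ℕ) i : ℕ) : R)) + 1 = ((m i : ℕ) : R) := by
    have : (m - Finsupp.single i 1 : σ →₀ ℕ) i + 1 = m i := by
      simp only [Finsupp.coe_tsub, Pi.sub_apply, Finsupp.single_eq_same]
      omega
    rw [← this]
    push_cast
    rfl
  rw [h2] at h1
  have h3 : coeff m f = 0 := by
    have := hunit.mul_left_eq_zero.mp h1.symm
    exact this
  exact (mem_support_iff.mp hm) h3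

/-- The case of affine space over an affine base of characteristic p, in degree zero. Let p be a prime
and R a commutative ring with p = 0 in R. For a polynomial f over R in any set of variables t_i, the
Kähler differential df in Ω_{R[t]/R} vanishes if and only if f is a polynomial in the p-th powers of
the variables, f = g(t_i^p). Equivalently, the functions on affine space over R killed by the
differential of the de Rham complex are exactly the functions on its Frobenius twist. (The published
computation is for finitely many variables over a noetherian base of characteristic p; the statement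
here allows any commutative ring with p = 0 and any set of variables.) -/
theorem result (p : ℕ) [Fact p.Prime]
    (R : Type u) [CommRing R] [CharP R p] (σ : Type v) (f : MvPolynomial σ R) :
    KaehlerDifferential.D R (MvPolynomial σ R) f = 0 ↔
      ∃ g : MvPolynomial σ R, f = MvPolynomial.expand p g := by
  rw [D_eq_zero_iff]
  constructor
  · intro hf
    refine ⟨∑ m ∈ f.support, MvPolynomial.monomial (Finsupp.mapRange (· / p) (by simp) m : σ →₀ ℕ) (f.coeff m), ?_⟩
    rw [map_sum]
    conv_lhs => rw [f.as_sum]
    refine Finset.sum_congr rfl (fun m hm => ?_)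
    rw [MvPolynomial.expand_monomial]
    have key : p • (Finsupp.mapRange (· / p) (by simp) m : σ →₀ ℕ) = m := by
      refine Finsupp.ext (fun (i : σ) => ?_)
      have := dvd_of_mem_support p R σ f hf m hm i
      simp only [Finsupp.coe_smul, Pi.smul_apply, Finsupp.mapRange_apply, smul_eq_mul]
      exact Nat.mul_div_cancel' this
    rw [key]
  · rintro ⟨g, rfl⟩ i
    exact pderiv_expand p R σ g i

end Groth.Agent.S16737
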