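import Groth.Statements.S16752
import Groth.Agent.Lib.Helper2SurfFibB
import Groth.Agent.Lib.Helper3FlatFibDim

set_option autoImplicit false
universe u
open CurvSt

namespace Groth.Agent.S16752

open CategoryTheory CategoryTheory.Limits AlgebraicGeometry in
theorem nonempty_of_one_le_dim (T : Type*) [TopologicalSpace T]
    (h : (1 : WithBot ℕ∞) ≤ topologicalKrullDim T) : Nonempty T := by
  by_contra hne
  rw [not_nonempty_iff] at hne
  haveI : IsEmpty (TopologicalSpace.IrreducibleCloseds T) :=
    ⟨fun Z => hne.false Z.isIrreducible.nonempty.some⟩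
  have h0 : topologicalKrullDim T = ⊥ := Order.krullDim_eq_bot
  rw [h0] at h
  exact absurd h (by simp)

open CategoryTheory CategoryTheory.Limits AlgebraicGeometry in
/-- Let f : X → S be a flat, proper morphism of schemes, locally of finite presentation, all of whose
fibres have dimension at most one (a family of curves whose total space is a scheme). Then the set
of points s of S such that the fibre X_s has dimension one and dim_{κ(s)} H^0(X_s, O_{X_s}) = 1 (the
conditions under which the genus of X_s is defined) is open in S. The source allows the total space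
to be an algebraic space and phrases the result as the existence of an open substack of the stack of
curves with this membership condition. -/
theorem result (X S : Scheme.{u}) (f : X ⟶ S)
    [Flat f] [IsProper f] [LocallyOfFinitePresentation f]
    (hdim : ∀ s : S, topologicalKrullDim ↥(f.fiber s) ≤ 1) :
    IsOpen {s : S | topologicalKrullDim ↥(f.fiber s) = 1 ∧
      Models.hRank ↥(S.residueField s) (f.fiber s) (f.fiberToSpecResidueField s)
        (Coh.structureModule (f.fiber s)) 0 = 1} := by
  have hfp := Groth.Agent.Lib.Helper2.SurfFibB.isFP_structureModule X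
  have hflat := Groth.Agent.Lib.Helper2.SurfFibB.isFlatOver_structureModule f
  have hb : ∀ s : S, Models.hRank ↥(S.residueField s) (f.fiber s) (f.fiberToSpecResidueField s)
      (Coh.structureModule (f.fiber s)) 0 = PerfAux.betti f (Coh.structureModule X) s 0 := by
    intro s
    let k : Type u := S.residueField s
    letI : (f.fiber s).Over (Spec (CommRingCat.of k)) := ⟨f.fiberToSpecResidueField s⟩
    have e := Groth.Agent.Lib.Helper17.StalkBC.hhEquiv k
      (Groth.Agent.Lib.Helper1.Fib.pullbackUnitIso' (f.fiberι s)) 0
    exact (LinearEquiv.finrank_eq e).symm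
  have h1 := Groth.Agent.Lib.Helper3.FlatFibDim.isOpen_setOf_le_fibre_dim f 1
  have h2 := Groth.Agent.Lib.Helper21.Semicont.isOpen_betti_lt f _ hfp hflat 0 2
  convert h1.inter h2 using 1
  ext s
  simp only [Set.mem_ofPred_eq, Set.mem_inter_iff]
  constructor
  · rintro ⟨hd, hr⟩
    refine ⟨?_, ?_⟩
    · rw [hd]
      rfl
    · rw [← hb, hr]
      norm_num
  · rintro ⟨hd, hr⟩
    have hd' : (1 : WithBot ℕ∞) ≤ topologicalKrullDim ↥(f.fiber s) := hd
    refine ⟨le_antisymm (hdim s) hd', ?_⟩
    haveI : Nonempty ↥(f.fiber s) := nonempty_of_one_le_dim _ hd'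
    have hne := Groth.Agent.Lib.Helper2.SurfFibB.betti_zero_ne_zero f s
    rw [hb]
    omega

end Groth.Agent.S16752
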