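import Groth.Statements.S16758
import Groth.Agent.Lib.Helper21UnitFibD

set_option autoImplicit false
universe u
open PicF

namespace Groth.Agent.S16758

open AlgebraicGeometry CategoryTheory CategoryTheory.Limits in
/-- (2) ⇔ (3): let f : X → Y be proper and flat with Y locally Noetherian. Then dim_{κ(y)} H⁰(X_y,
O_{X_y}) = 1 for every point y of Y if and only if for every morphism T → Y the base change f_T : X
×_Y T → T induces isomorphisms O_T(U) → O_{X ×_Y T}(f_T⁻¹ U) on all opens U of T, i.e. O_T = (f_T)_*
O universally. (The published statement takes X and Y Noetherian; the argument is local on Y, so Y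
is only assumed locally Noetherian here.) -/
theorem result {X Y : Scheme.{u}} (f : X ⟶ Y)
    [IsProper f] [Flat f] [IsLocallyNoetherian Y] :
    (∀ y : Y, Module.finrank (Y.residueField y) Γ(f.fiber y, ⊤) = 1) ↔
      ∀ (T : Scheme.{u}) (g : T ⟶ Y) (U : T.Opens), IsIso ((pullback.snd f g).app U) := by
  constructor
  · intro h T g U
    have hf : ∀ y : Y, Function.Bijective (Coh.toGlobal (f.fiberToSpecResidueField y)) := fun y =>
      Groth.Agent.Lib.Helper21.TBridge.bijective_algebraMap_of_finrank_eq_one (h y)
    exact Groth.Agent.Lib.Helper21.TBridge.isIso_app_baseChange f g (fun q => hf (g q)) U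
  · intro huniv y
    have h1 := huniv (Spec (Y.residueField y)) (Y.fromSpecResidueField y) ⊤
    have hb : Function.Bijective (algebraMap (Y.residueField y) Γ(f.fiber y, ⊤)) := by
      haveI : IsIso ((f.fiberToSpecResidueField y).appTop) := h1
      have h2 : Function.Bijective ((f.fiberToSpecResidueField y).appTop).hom :=
        ConcreteCategory.bijective_of_isIso _
      have h3 : Function.Bijective ((Scheme.ΓSpecIso (Y.residueField y)).inv).hom :=
        ConcreteCategory.bijective_of_isIso _
      exact h2.comp h3
    rw [← LinearEquiv.finrank_eq (LinearEquiv.ofBijective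
      (Algebra.linearMap (Y.residueField y) Γ(f.fiber y, ⊤)) hb)]
    exact Module.finrank_self _

end Groth.Agent.S16758
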