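import Groth.Statements.S16762
import Mathlib

set_option autoImplicit false
universe u
open CAlgX

namespace Groth.Agent.S16762

/-- Let A → A' be faithfully flat and u : M → N a map of A-modules. Then u is universally injective (u ⊗
id_Q injective for every A-module Q) if and only if its base change A' ⊗_A M → A' ⊗_A N is
universally injective as a map of A'-modules. -/
theorem result (A A' : Type u) [CommRing A] [CommRing A']
    [Algebra A A'] [Module.FaithfullyFlat A A'] {M N : Type u} [AddCommGroup M] [Module A M]
    [AddCommGroup N] [Module A N] (u : M →ₗ[A] N) :
    CAlgX.UniversallyInjective A u ↔ CAlgX.UniversallyInjective A' (u.baseChange A') := by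
  classical
  constructor
  · intro hu Q' _ _
    letI : Module A Q' := Module.compHom Q' (algebraMap A A')
    haveI : IsScalarTower A A' Q' := IsScalarTower.of_algebraMap_smul fun r x => rfl
    let eM : TensorProduct A' (TensorProduct A A' M) Q' ≃ₗ[A'] TensorProduct A Q' M :=
      (TensorProduct.comm A' (TensorProduct A A' M) Q').trans
        (TensorProduct.AlgebraTensorModule.cancelBaseChange A A' A' Q' M)
    let eN : TensorProduct A' (TensorProduct A A' N) Q' ≃ₗ[A'] TensorProduct A Q' N :=
      (TensorProduct.comm A' (TensorProduct A A' N) Q').trans
        (TensorProduct.AlgebraTensorModule.cancelBaseChange A A' A' Q' N)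
    have hcomm : ∀ x, eN ((u.baseChange A').rTensor Q' x) = (u.lTensor Q') (eM x) := by
      intro x
      induction x using TensorProduct.induction_on with
      | zero => simp
      | tmul y q =>
        induction y using TensorProduct.induction_on with
        | zero => simp
        | tmul a m => simp [eM, eN]
        | add y z hy hz => simp only [TensorProduct.add_tmul, map_add, hy, hz]
      | add x y hx hy => simp only [map_add, hx, hy]
    have hinj : Function.Injective (u.lTensor Q') := by
      rw [LinearMap.lTensor_inj_iff_rTensor_inj]
      exact hu Q'
    intro x y hxy
    apply eM.injective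
    apply hinj
    rw [← hcomm, ← hcomm, hxy]
  · intro hu Q _ _
    have h1 := hu (TensorProduct A A' Q)
    rw [← Module.FaithfullyFlat.lTensor_injective_iff_injective A A']
    let eM := TensorProduct.AlgebraTensorModule.distribBaseChange A A' M Q
    let eN := TensorProduct.AlgebraTensorModule.distribBaseChange A A' N Q
    have hcomm : ∀ x, eN ((u.rTensor Q).lTensor A' x) =
        ((u.baseChange A').rTensor (TensorProduct A A' Q)) (eM x) := by
      intro x
      induction x using TensorProduct.induction_on with
      | zero => simp
      | tmul a y =>
        induction y using TensorProduct.induction_on with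
        | zero => simp
        | tmul m q => simp [eM, eN]
        | add y z hy hz => simp only [TensorProduct.tmul_add, map_add, hy, hz]
      | add x y hx hy => simp only [map_add, hx, hy]
    intro x y hxy
    apply eM.injective
    apply h1
    rw [← hcomm, ← hcomm, hxy]

end Groth.Agent.S16762
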