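import Groth.Statements.S16763
import Groth.Agent.Lib.Helper3FibSmSch
import Groth.Agent.Lib.Helper6LfpComp
import Mathlib

set_option autoImplicit false
universe u
open Unram17

namespace Groth.Agent.S16763

open AlgebraicGeometry CategoryTheory CategoryTheory.Limits in
/-- Let g : Y → S and h : X → S be locally of finite presentation, f : X → Y an S-morphism (f ≫ g = h),
and x a point of X with image s = h(x) such that h is flat at x. Then f is smooth at x (smooth on an
open neighbourhood of x) if and only if the induced morphism of fibres X_s → Y_s is smooth at the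
point of X_s lying over x. -/
theorem result {X Y S : Scheme.{u}} (g : Y ⟶ S) (h : X ⟶ S)
    [LocallyOfFinitePresentation g] [LocallyOfFinitePresentation h] (f : X ⟶ Y) (w : f ≫ g = h)
    (x : ↥X) (hflat : (h.stalkMap x).hom.Flat)
    (x' : ↥(h.fiber (h x))) (hx' : (h.fiberι (h x)) x' = x) :
    (∃ U : X.Opens, x ∈ U ∧ Smooth (U.ι ≫ f)) ↔
      ∃ V : (h.fiber (h x)).Opens, x' ∈ V ∧ Smooth (V.ι ≫ CohIII.fiberMapOver f h g w (h x)) := by
  subst w
  constructor
  · rintro ⟨U, hxU, hU⟩
    refine ⟨((f ≫ g).fiberι ((f ≫ g) x)) ⁻¹ᵁ U, ?_, ?_⟩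
    · show (f ≫ g).fiberι ((f ≫ g) x) x' ∈ U
      rw [hx']; exact hxU
    · have sq1 := isPullback_morphismRestrict ((f ≫ g).fiberι ((f ≫ g) x)) U
      have sq2 := Groth.Agent.Lib.Helper20.FlatDesc.isPullback_fiberMapOver f g ((f ≫ g) x)
      have sq := sq1.paste_vert sq2
      exact MorphismProperty.of_isPullback (P := @Smooth) sq hU
  · rintro ⟨V, hx'V, hV⟩
    obtain ⟨t, ht, htV⟩ := ((f ≫ g).fiberι ((f ≫ g) x)).isEmbedding.isInducing.isOpen_iff.mp V.2
    let U' : X.Opens := ⟨t, ht⟩
    have hVU' : V = ((f ≫ g).fiberι ((f ≫ g) x)) ⁻¹ᵁ U' :=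
      TopologicalSpace.Opens.ext htV.symm
    subst hVU'
    have hxU' : x ∈ U' := by
      rw [← hx']; exact hx'V
    have hsm : (f.stalkMap x).hom.FormallySmooth :=
      Groth.Agent.Lib.Helper3.FibSmSch.formallySmooth_stalkMap_of_flat_of_fibre f g x _ rfl hflat
        U' hxU' hV
    haveI : LocallyOfFinitePresentation f :=
      Groth.Agent.Lib.Helper6.locallyOfFinitePresentation_of_comp (g := g) inferInstance
        inferInstance
    refine ⟨f.smoothLocus, hsm, ?_⟩
    rw [← Scheme.Hom.smoothLocus_eq_top_iff, ← Scheme.Hom.preimage_smoothLocus_eq]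
    rw [← top_le_iff]
    rintro z -
    exact z.2

end Groth.Agent.S16763
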