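import Groth.Statements.S16764
import Groth.Agent.Lib.Helper3FibEtSchB
import Mathlib

set_option autoImplicit false
universe u
open Unram17

namespace Groth.Agent.S16764

open AlgebraicGeometry CategoryTheory CategoryTheory.Limits in
/-- Let g : Y → S and h : X → S be locally of finite presentation, f : X → Y an S-morphism (f ≫ g = h),
and x a point of X with image s = h(x) such that h is flat at x. Then f is étale at x (étale on an
open neighbourhood of x) if and only if the induced morphism of fibres X_s → Y_s is étale at the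
point of X_s lying over x. -/
theorem result {X Y S : Scheme.{u}} (g : Y ⟶ S) (h : X ⟶ S)
    [LocallyOfFinitePresentation g] [LocallyOfFinitePresentation h] (f : X ⟶ Y) (w : f ≫ g = h)
    (x : ↥X) (hflat : (h.stalkMap x).hom.Flat)
    (x' : ↥(h.fiber (h x))) (hx' : (h.fiberι (h x)) x' = x) :
    (∃ U : X.Opens, x ∈ U ∧ Etale (U.ι ≫ f)) ↔
      ∃ V : (h.fiber (h x)).Opens, x' ∈ V ∧ Etale (V.ι ≫ CohIII.fiberMapOver f h g w (h x)) := by
  subst w
  constructor
  · rintro ⟨U, hxU, hU⟩
    refine ⟨((f ≫ g).fiberι ((f ≫ g) x)) ⁻¹ᵁ U, ?_, ?_⟩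
    · show (f ≫ g).fiberι ((f ≫ g) x) x' ∈ U
      rw [hx']; exact hxU
    · have sq1 := isPullback_morphismRestrict ((f ≫ g).fiberι ((f ≫ g) x)) U
      have sq2 := Groth.Agent.Lib.Helper20.FlatDesc.isPullback_fiberMapOver f g ((f ≫ g) x)
      have sq := sq1.paste_vert sq2
      exact MorphismProperty.of_isPullback (P := @Etale) sq hU
  · rintro ⟨V, hx'V, hV⟩
    obtain ⟨t, ht, htV⟩ := ((f ≫ g).fiberι ((f ≫ g) x)).isEmbedding.isInducing.isOpen_iff.mp V.2
    let U' : X.Opens := ⟨t, ht⟩
    have hVU' : V = ((f ≫ g).fiberι ((f ≫ g) x)) ⁻¹ᵁ U' :=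
      TopologicalSpace.Opens.ext htV.symm
    subst hVU'
    have hxU' : x ∈ U' := by
      rw [← hx']; exact hx'V
    exact Groth.Agent.Lib.Helper3.FibEtSch.exists_etale_nhd_of_flat_of_fibre f g x _ rfl hflat
      U' hxU' hV

end Groth.Agent.S16764
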