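import Groth.Statements.S16771
import Mathlib
import Groth.Agent.Lib.Helper15TranspOver
import Groth.Agent.Lib.Helper6LfpComp

set_option autoImplicit false
open CategoryTheory MonoidalCategory CartesianMonoidalCategory MonObj GrpObj AlgebraicGeometry
universe u
open SGA3x

namespace Groth.Agent.S16771

/-- Let G be an affine group scheme of finite presentation over a scheme S, Y ⊆ G a closed subscheme
which is finite, flat and of finite presentation over S, and Y' ⊆ G a closed subscheme of finite
presentation over S. Then the transporter of Y into Y' (points g of G such that g y g⁻¹ is a point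
of Y' for every point y of Y after any base change) is representable by a closed subscheme of G of
finite presentation over S. -/
theorem result {S : Scheme.{u}} (G Y Y' : Over S) [GrpObj G]
    (hGa : IsAffineHom G.hom) (hGfp : LocallyOfFinitePresentation G.hom)
    (y : Y ⟶ G) (hy : IsClosedImmersion y.left) (hYf : IsFinite Y.hom) (hYfl : Flat Y.hom)
    (hYfp : LocallyOfFinitePresentation Y.hom)
    (y' : Y' ⟶ G) (hy' : IsClosedImmersion y'.left) (hY'fp : LocallyOfFinitePresentation Y'.hom) :
    ∃ (C : Over S) (c : C ⟶ G), IsClosedImmersion c.left ∧ LocallyOfFinitePresentation C.hom ∧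
      ∀ (X : Over S) (g : X ⟶ G), (∃ z : X ⟶ C, z ≫ c = g) ↔
        ∀ (X' : Over S) (x : X' ⟶ X) (a : X' ⟶ Y), ∃ a' : X' ⟶ Y', (x ≫ g) * (a ≫ y) * (x ≫ g)⁻¹ = a' ≫ y' := by
  have := hYf; have := hYfl; have := hYfp; have := hy'; have := hGfp
  obtain ⟨C, c, hc, hC, hfp⟩ := Groth.Agent.Lib.Helper15TranspOver.exists_closed_transporter_over
    Y G G Y' (snd Y G * (fst Y G ≫ y) * (snd Y G)⁻¹) y'
    (Groth.Agent.Lib.Helper15FixLocP.locProj_of_finite_flat Y.hom)
  have hy'fp : LocallyOfFinitePresentation y'.left :=
    Groth.Agent.Lib.Helper6.locallyOfFinitePresentation_of_comp (g := G.hom) inferInstance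
      (by rw [Over.w y']; exact hY'fp)
  have hcfp : LocallyOfFinitePresentation c.left := hfp inferInstance hy'fp
  refine ⟨C, c, hc, ?_, fun X g => ?_⟩
  · rw [← Over.w c]
    infer_instance
  · rw [← hC, ← Groth.Agent.Lib.Helper15TranspOver.transp_iff]
    constructor
    · intro h X' x a
      obtain ⟨a', ha'⟩ := h X' x a
      exact ⟨a', by simpa [MonObj.comp_mul, GrpObj.comp_inv] using ha'⟩
    · intro h X' x a
      obtain ⟨a', ha'⟩ := h X' x a
      exact ⟨a', by simpa [MonObj.comp_mul, GrpObj.comp_inv] using ha'⟩

end Groth.Agent.S16771
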