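import Groth.Statements.S16777
import Mathlib
import Groth.Agent.Lib.Helper15TranspOver
import Groth.Agent.Lib.Helper6LfpComp
import Groth.Agent.Lib.Helper15MultQC

set_option autoImplicit false
open CategoryTheory MonoidalCategory CartesianMonoidalCategory MonObj GrpObj AlgebraicGeometry
universe u
open SGA3x

namespace Groth.Agent.S16777

/-- Let G be an affine group scheme of finite presentation over a scheme S, H ⊆ G a subgroup scheme of
multiplicative type (of finite type) and Y' ⊆ G any closed subscheme of finite presentation over S.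
Then the transporter of H into Y' (points g with g h g⁻¹ in Y' for all points h of H after any base
change) is representable by a closed subscheme of G of finite presentation over S. -/
theorem result {S : Scheme.{u}} (G H Y' : Over S) [GrpObj G] [GrpObj H]
    (hGa : IsAffineHom G.hom) (hGfp : LocallyOfFinitePresentation G.hom)
    (i : H ⟶ G) [IsMonHom i] [Mono i] (hH : SGA3x.IsMultTypeFT H)
    (y' : Y' ⟶ G) (hy' : IsClosedImmersion y'.left) (hY'fp : LocallyOfFinitePresentation Y'.hom) :
    ∃ (C : Over S) (c : C ⟶ G), IsClosedImmersion c.left ∧ LocallyOfFinitePresentation C.hom ∧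
      ∀ (X : Over S) (g : X ⟶ G), (∃ z : X ⟶ C, z ≫ c = g) ↔
        ∀ (X' : Over S) (x : X' ⟶ X) (h : X' ⟶ H), ∃ a' : X' ⟶ Y', (x ≫ g) * (h ≫ i) * (x ≫ g)⁻¹ = a' ≫ y' := by
  have := hy'; have := hGfp
  obtain ⟨J, Sk, gk, hg, hloc, -⟩ :=
    Groth.Agent.Lib.Helper15MultQC.exists_fpqc_family_of_multType' H hH
  obtain ⟨C, c, hc, hC, hfp⟩ :=
    Groth.Agent.Lib.Helper15TranspOver.exists_closed_transporter_over_fpqc
    H G G Y' (snd H G * (fst H G ≫ i) * (snd H G)⁻¹) y' gk hg hloc
  have hy'fp : LocallyOfFinitePresentation y'.left :=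
    Groth.Agent.Lib.Helper6.locallyOfFinitePresentation_of_comp (g := G.hom) inferInstance
      (by rw [Over.w y']; exact hY'fp)
  have hcfp : LocallyOfFinitePresentation c.left :=
    hfp (Groth.Agent.Lib.Helper15MultQC.quasiCompact_of_multType H hH) hy'fp
  refine ⟨C, c, hc, ?_, fun X g => ?_⟩
  · rw [← Over.w c]
    infer_instance
  · rw [← hC, ← Groth.Agent.Lib.Helper15TranspOver.transp_iff]
    constructor
    · intro h X' x a
      obtain ⟨a', ha'⟩ := h X' x a
      exact ⟨a', by simpa [MonObj.comp_mul, GrpObj.comp_inv] using ha'⟩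
    · intro h X' x a
      obtain ⟨a', ha'⟩ := h X' x a
      exact ⟨a', by simpa [MonObj.comp_mul, GrpObj.comp_inv] using ha'⟩

end Groth.Agent.S16777
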