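import Groth.Statements.S1678
import Groth.Agent.Lib.Helper5RegImmFlatBC
import Groth.Agent.Lib.Helper5SecReg
import Groth.Agent.Lib.Helper5RegImmComp

set_option autoImplicit false
universe u
open CategoryTheory CategoryTheory.Limits AlgebraicGeometry TopologicalSpace
open SDiv

namespace Groth.Agent.S1678

/-- Let X ⟶ S be smooth and let i : Y ⟶ X and j : Y ⟶ S be closed immersions with i ≫ (X ⟶ S) = j. If j
is a regular closed immersion then so is i. -/
theorem result {X Y S : Scheme.{u}} (p : X ⟶ S) [Smooth p] (i : Y ⟶ X) (j : Y ⟶ S)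
    [IsClosedImmersion i] [IsClosedImmersion j] (h : i ≫ p = j) (hj : Mor2.IsRegularClosedImmersion j) :
    Mor2.IsRegularClosedImmersion i := by
  let σ : Y ⟶ Limits.pullback j p := Limits.pullback.lift (𝟙 Y) i (by rw [Category.id_comp, h])
  have hσ1 : σ ≫ Limits.pullback.fst j p = 𝟙 Y := Limits.pullback.lift_fst _ _ _
  have hσ2 : σ ≫ Limits.pullback.snd j p = i := Limits.pullback.lift_snd _ _ _
  have hsnd : Mor2.IsRegularClosedImmersion (Limits.pullback.snd j p) :=
    Groth.Agent.Lib.Helper5.RegImmFlatBC.isRegularClosedImmersion_snd j p hj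
  haveI := hsnd.1
  haveI : IsClosedImmersion (σ ≫ Limits.pullback.snd j p) := by rw [hσ2]; infer_instance
  haveI : IsClosedImmersion σ :=
    IsClosedImmersion.of_comp_isClosedImmersion σ (Limits.pullback.snd j p)
  haveI : Smooth (Limits.pullback.fst j p) :=
    MorphismProperty.pullback_fst (P := @Smooth) j p inferInstance
  have hσreg := Groth.Agent.Lib.Helper5.SecReg.isRegularClosedImmersion_section
    (Limits.pullback.fst j p) σ hσ1
  rw [← hσ2]
  exact Groth.Agent.Lib.Helper5.RegImmComp.comp σ (Limits.pullback.snd j p) hσreg hsnd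

end Groth.Agent.S1678
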