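import Groth.Statements.S1682
import Mathlib

set_option autoImplicit false
universe u
open CategoryTheory CategoryTheory.Limits AlgebraicGeometry TopologicalSpace
open SDiv

namespace Groth.Agent.S1682

open CategoryTheory CategoryTheory.Limits AlgebraicGeometry TopologicalSpace in
lemma isEffCartier_top {Y : Scheme.{u}} : BlowUp.IsEffCartierIdeal (⊤ : Y.IdealSheafData) := by
  intro x
  obtain ⟨_, ⟨U, hU, rfl⟩, hxU, -⟩ :=
    Y.isBasis_affineOpens.exists_subset_of_mem_open (Set.mem_univ x) isOpen_univ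
  refine ⟨⟨U, hU⟩, hxU, 1, one_mem _, ?_⟩
  rw [Scheme.IdealSheafData.ideal_top, Pi.top_apply, Ideal.span_singleton_one]

open CategoryTheory CategoryTheory.Limits AlgebraicGeometry TopologicalSpace in
lemma comap_eq_top_of_forall_notMem {X Y : Scheme.{u}} (I : X.IdealSheafData) (g : Y ⟶ X)
    (h : ∀ y, g y ∉ I.support) : I.comap g = ⊤ := by
  rw [← Scheme.IdealSheafData.support_eq_bot_iff, Scheme.IdealSheafData.support_comap]
  ext y
  simpa using h y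

/-- Let b : X' ⟶ X be a blowing-up of X along the quasi-coherent ideal sheaf 𝓘, with centre Z = support
of 𝓘. Then b restricted over the open complement of Z is an isomorphism. -/
theorem result {X X' : Scheme.{u}} (𝓘 : X.IdealSheafData) (b : X' ⟶ X) (hb : BlowUp.IsBlowUp b 𝓘) :
    IsIso (b ∣_ 𝓘.support.compl) := by
  obtain ⟨-, hb2⟩ := hb
  set U : X.Opens := 𝓘.support.compl with hU
  have hmemU : ∀ x : X, x ∈ U ↔ x ∉ 𝓘.support := fun x => Iff.rfl
  obtain ⟨h, hh, -⟩ := hb2 U U.ι (by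
    rw [comap_eq_top_of_forall_notMem 𝓘 U.ι (fun y => (hmemU _).mp y.2)]
    exact isEffCartier_top)
  have hrange : Set.range h ⊆ Set.range (b ⁻¹ᵁ U).ι := by
    rintro _ ⟨u, rfl⟩
    rw [Scheme.Opens.range_ι]
    change b (h u) ∈ U
    rw [← Scheme.Hom.comp_apply, hh]
    exact u.2
  let h' : (U : Scheme.{u}) ⟶ (b ⁻¹ᵁ U : Scheme.{u}) := IsOpenImmersion.lift (b ⁻¹ᵁ U).ι h hrange
  have hh' : h' ≫ (b ⁻¹ᵁ U).ι = h := IsOpenImmersion.lift_fac _ _ _
  have h2 : h' ≫ (b ∣_ U) = 𝟙 _ := by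
    rw [← cancel_mono U.ι, Category.assoc, morphismRestrict_ι, reassoc_of% hh', hh, Category.id_comp]
  have h1 : (b ∣_ U) ≫ h' = 𝟙 _ := by
    rw [← cancel_mono (b ⁻¹ᵁ U).ι, Category.assoc, hh', Category.id_comp]
    obtain ⟨k, -, hk⟩ := hb2 (b ⁻¹ᵁ U) ((b ⁻¹ᵁ U).ι ≫ b) (by
      rw [comap_eq_top_of_forall_notMem 𝓘 ((b ⁻¹ᵁ U).ι ≫ b) (fun y => (hmemU _).mp y.2)]
      exact isEffCartier_top)
    have e1 : ((b ∣_ U) ≫ h) ≫ b = (b ⁻¹ᵁ U).ι ≫ b := by
      rw [Category.assoc, hh, morphismRestrict_ι]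
    rw [hk ((b ∣_ U) ≫ h) e1, hk (b ⁻¹ᵁ U).ι rfl]
  exact ⟨⟨h', h1, h2⟩⟩

end Groth.Agent.S1682
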