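import Groth.Statements.S16836
import Mathlib

set_option autoImplicit false
universe u v
open scoped Classical
open AbVar

namespace Groth.Agent.S16836

open Polynomial UniqueFactorizationMonoid

variable {K : Type u} {L : Type v} [Field K] [Field L] [Algebra K L]

lemma nf_map (f : K[X]) (hf : f ≠ 0) :
    normalizedFactors (f.map (algebraMap K L)) =
      (normalizedFactors f).bind (fun P => normalizedFactors (P.map (algebraMap K L))) := by
  have hassoc : Associated ((normalizedFactors f).prod.map (algebraMap K L))
      (f.map (algebraMap K L)) := by
    obtain ⟨u, hu⟩ := prod_normalizedFactors hf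
    refine ⟨Units.map (Polynomial.mapRingHom (algebraMap K L)).toMonoidHom u, ?_⟩
    have h3 : f.map (algebraMap K L) =
        ((normalizedFactors f).prod * (u : K[X])).map (algebraMap K L) := by rw [hu]
    rw [h3, Polynomial.map_mul]
    rfl
  rw [← hassoc.normalizedFactors_eq, Polynomial.map_multiset_prod,
    normalizedFactors_multiset_prod, Multiset.map_map]
  · rfl
  · intro h0
    obtain ⟨P, hP, hP0⟩ := Multiset.mem_map.mp h0
    have : P = 0 := by
      have := (Polynomial.map_eq_zero (algebraMap K L)).mp hP0
      exact this
    exact zero_notMem_normalizedFactors f (this ▸ hP)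

lemma nodup_nf_map [PerfectField K] (P : K[X]) (hP : Irreducible P) :
    (normalizedFactors (P.map (algebraMap K L))).Nodup := by
  have hsep : (P.map (algebraMap K L)).Separable :=
    (PerfectField.separable_of_irreducible hP).map
  have hne : P.map (algebraMap K L) ≠ 0 := by
    rw [Ne, Polynomial.map_eq_zero]; exact hP.ne_zero
  exact (squarefree_iff_nodup_normalizedFactors hne).mp hsep.squarefree

lemma disjoint_nf_map (P P' : K[X]) (hP : Irreducible P) (hP' : Irreducible P')
    (hn : normalize P = P) (hn' : normalize P' = P') (hne : P ≠ P') (Q : L[X])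
    (hQ : Q ∈ normalizedFactors (P.map (algebraMap K L))) :
    Q ∉ normalizedFactors (P'.map (algebraMap K L)) := by
  intro hQ'
  have hcop : IsCoprime P P' := by
    rw [hP.coprime_iff_not_dvd]
    intro hdvd
    apply hne
    have hassoc : Associated P P' := hP.associated_of_dvd hP' hdvd
    rw [← hn, ← hn']
    exact normalize_eq_normalize_iff.mpr ⟨hassoc.dvd, hassoc.symm.dvd⟩
  have hcop' := hcop.map (Polynomial.mapRingHom (algebraMap K L))
  have h1 := dvd_of_mem_normalizedFactors hQ
  have h2 := dvd_of_mem_normalizedFactors hQ'
  have hunit : IsUnit Q := hcop'.isUnit_of_dvd' h1 h2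
  exact (irreducible_of_normalized_factor Q hQ).not_isUnit hunit

lemma sum_map_ite {α : Type*} [DecidableEq α] (s : Multiset α) (a : α) :
    (s.map (fun b => if b = a then 1 else 0)).sum = s.count a := by
  induction s using Multiset.induction_on with
  | empty => simp
  | cons b s ih =>
    rw [Multiset.map_cons, Multiset.sum_cons, ih, Multiset.count_cons]
    by_cases h : b = a
    · subst h; simp [add_comm]
    · have h' : ¬ a = b := fun e => h e.symm
      simp [h, h']

lemma count_nf_map [PerfectField K] (f : K[X]) (hf : f ≠ 0) (P₀ : K[X]) (hP₀ : Irreducible P₀)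
    (hn₀ : normalize P₀ = P₀) (Q : L[X])
    (hQ : Q ∈ normalizedFactors (P₀.map (algebraMap K L))) :
    (normalizedFactors (f.map (algebraMap K L))).count Q = (normalizedFactors f).count P₀ := by
  rw [nf_map f hf, Multiset.count_bind]
  refine Eq.trans ?_ (sum_map_ite _ P₀)
  congr 1
  apply Multiset.map_congr rfl
  intro P hP
  have hPirr := irreducible_of_normalized_factor P hP
  have hPn := normalize_normalized_factor P hP
  by_cases h : P = P₀
  · subst h
    rw [if_pos rfl]
    exact Multiset.count_eq_one_of_mem (nodup_nf_map P hPirr) hQ
  · rw [if_neg h]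
    refine Multiset.count_eq_zero_of_notMem ?_
    exact disjoint_nf_map P₀ P hP₀ hPirr hn₀ hPn (fun e => h e.symm) Q hQ

lemma sum_natDegree_nf_map [PerfectField K] (P : K[X]) (hP : Irreducible P) :
    ∑ Q ∈ (normalizedFactors (P.map (algebraMap K L))).toFinset, Q.natDegree = P.natDegree := by
  have hne : P.map (algebraMap K L) ≠ 0 := by
    rw [Ne, Polynomial.map_eq_zero]; exact hP.ne_zero
  have hnd := nodup_nf_map (L := L) P hP
  have h1 : ∑ Q ∈ (normalizedFactors (P.map (algebraMap K L))).toFinset, Q.natDegree =
      ((normalizedFactors (P.map (algebraMap K L))).map natDegree).sum := by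
    rw [Finset.sum_eq_multiset_sum, Multiset.toFinset_val, Multiset.dedup_eq_self.mpr hnd]
  rw [h1, ← Polynomial.natDegree_multiset_prod _ (zero_notMem_normalizedFactors _)]
  have hassoc := prod_normalizedFactors hne
  rw [Polynomial.natDegree_eq_of_degree_eq (Polynomial.degree_eq_degree_of_associated hassoc),
    Polynomial.natDegree_map]


open Polynomial UniqueFactorizationMonoid in
/-- Let K ⊆ L be a field extension and f₁, f₂ non-zero polynomials in K[t]. For a field F and
polynomials g₁, g₂ over F put r_F(g₁, g₂) = Σ_P mult_P(g₁) · mult_P(g₂) · deg P, the sum running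
over the monic irreducible polynomials P in F[t] (mult_P the multiplicity of P as an irreducible
factor). Assume K is perfect. Then r_K(f₁, f₂) = r_L(f₁, f₂): the number does not depend on the
field over which the factorisations are taken. (Perfectness of K cannot be dropped: for K = F_p(s),
L = K(s^{1/p}) and f₁ = f₂ = t^p − s the number is p over K and p² over L, since the irreducible t^p
− s becomes a p-th power over L; the published statement has no restriction on K, and its proof
requires the relevant K[t]-modules to remain semisimple after base change, which holds when every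
irreducible factor stays squarefree over L, in particular for K perfect.) -/
theorem result (K : Type u) (L : Type v) [Field K] [PerfectField K] [Field L] [Algebra K L]
    (f₁ f₂ : K[X]) (h₁ : f₁ ≠ 0) (h₂ : f₂ ≠ 0) :
    ∑ P ∈ (normalizedFactors (f₁.map (algebraMap K L))).toFinset,
        (normalizedFactors (f₁.map (algebraMap K L))).count P *
          (normalizedFactors (f₂.map (algebraMap K L))).count P * P.natDegree =
      ∑ P ∈ (normalizedFactors f₁).toFinset,
        (normalizedFactors f₁).count P * (normalizedFactors f₂).count P * P.natDegree := by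
  have hS : (normalizedFactors (f₁.map (algebraMap K L))).toFinset =
      (normalizedFactors f₁).toFinset.biUnion
        (fun P => (normalizedFactors (P.map (algebraMap K L))).toFinset) := by
    rw [nf_map f₁ h₁, Finset.bind_toFinset]
  rw [hS, Finset.sum_biUnion]
  · apply Finset.sum_congr rfl
    intro P hP
    have hP' := Multiset.mem_toFinset.mp hP
    have hPirr := irreducible_of_normalized_factor P hP'
    have hPn := normalize_normalized_factor P hP'
    rw [← sum_natDegree_nf_map (L := L) P hPirr, Finset.mul_sum]
    apply Finset.sum_congr rfl
    intro Q hQ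
    have hQ' := Multiset.mem_toFinset.mp hQ
    rw [count_nf_map f₁ h₁ P hPirr hPn Q hQ', count_nf_map f₂ h₂ P hPirr hPn Q hQ']
  · intro P hP P' hP' hne
    rw [Function.onFun, Finset.disjoint_left]
    intro Q hQ hQ'
    have hP1 := Multiset.mem_toFinset.mp (Finset.mem_coe.mp hP)
    have hP2 := Multiset.mem_toFinset.mp (Finset.mem_coe.mp hP')
    exact disjoint_nf_map P P' (irreducible_of_normalized_factor P hP1)
      (irreducible_of_normalized_factor P' hP2) (normalize_normalized_factor P hP1)
      (normalize_normalized_factor P' hP2) hne Q (Multiset.mem_toFinset.mp hQ)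
      (Multiset.mem_toFinset.mp hQ')

end Groth.Agent.S16836
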