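import Groth.Statements.S9806
import Groth.Agent.Lib.Helper2LocFree
import Groth.Agent.Lib.Helper2FibreCrit2

set_option autoImplicit false
universe u
open CategoryTheory AlgebraicGeometry TopologicalSpace
open Props

namespace Groth.Agent.S9806

open Groth.Agent.Lib.Helper2.LocFree in

/-- A quasi-coherent module on a scheme is of finite presentation with all stalks free over the local
rings if and only if it is finite locally free. -/
theorem result (X : Scheme.{u}) (M : X.Modules) (hM : Coh.IsQCoh M) :
    (CohB1.IsFP M ∧ ∀ x : X, Module.Free (X.presheaf.stalk x) (M.presheaf.stalk x)) ↔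
      FlatMod.IsFinLocFree M := by
  haveI : M.IsQuasicoherent := hM
  constructor
  · rintro ⟨hfp, hfree⟩ x
    haveI : SheafOfModules.IsFinitePresentation (R := X.ringCatSheaf) M := hfp
    haveI := hfree x
    have hfl : FlatMod.IsFlatAt M x := by
      unfold FlatMod.IsFlatAt
      infer_instance
    obtain ⟨D, m, hxD, h⟩ := exists_restrict_iso_freeMod_of_isFlatAt M x hfl
    exact ⟨D, m, hxD, h⟩
  · intro h
    have hfp := isFP_of_isFinLocFree M h
    refine ⟨hfp, fun x => ?_⟩
    haveI : SheafOfModules.IsFinitePresentation (R := X.ringCatSheaf) M := hfp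
    haveI : SheafOfModules.IsFiniteType (R := X.ringCatSheaf) M := inferInstance
    haveI : Module.Finite (X.presheaf.stalk x) (M.presheaf.stalk x) :=
      Groth.Agent.Lib.Helper2.FibreCrit.finite_stalk M x
    haveI : Module.Flat (X.presheaf.stalk x) (M.presheaf.stalk x) := isFlat_of_isFinLocFree M h x
    exact Module.free_of_flat_of_isLocalRing

end Groth.Agent.S9806
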