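import Groth.Statements.S1688
import Groth.Agent.S9806
import Groth.Agent.Lib.Helper7NorOpen
import Groth.Agent.Lib.Helper16LocSymDVR
import Groth.Agent.Lib.Helper23FinPres
import Groth.Agent.Lib.Helper2FibreCrit2

set_option autoImplicit false
universe u
open CategoryTheory CategoryTheory.Limits AlgebraicGeometry TopologicalSpace
open SDiv

namespace Groth.Agent.S1688

/-- a regular local ring of dimension at most one is a principal ideal domain. -/
theorem pid_of_regular_dim_le_one (R : Type u) [CommRing R] [IsRegularLocalRing R]
    (h : ringKrullDim R ≤ 1) : IsDomain R ∧ IsPrincipalIdealRing R := by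
  obtain ⟨hd, hic⟩ := Groth.Agent.Lib.Helper7.NorOpen.isNormalDomain_of_isRegularLocalRing R
  haveI := hd
  haveI := hic
  refine ⟨hd, ?_⟩
  haveI : Ring.KrullDimLE 1 R := (Order.krullDimLE_iff 1 _).mpr h
  haveI : Ring.DimensionLEOne R :=
    ⟨fun {p} hp hpp => Ring.krullDimLE_one_iff_of_noZeroDivisors.mp inferInstance p hp hpp⟩
  haveI : IsDedekindDomain R := {}
  apply IsPrincipalIdealRing.of_finite_maximals
  have : {I : Ideal R | I.IsMaximal} = {IsLocalRing.maximalIdeal R} := by
    ext I
    simp only [Set.mem_setOf_eq, Set.mem_singleton_iff]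
    exact ⟨fun hI => IsLocalRing.eq_maximalIdeal hI, fun hI => hI ▸ inferInstance⟩
  rw [this]
  exact Set.finite_singleton _

/-- Let X be a locally Noetherian integral scheme of dimension at most 1 all of whose local rings are
regular, and F a coherent module on X. Then F is torsion free (every stalk is a torsion-free module
over the local ring) if and only if F is finite locally free. -/
theorem result (X : Scheme.{u}) [IsIntegral X] [IsLocallyNoetherian X] (hreg : ∀ x : ↥X, IsRegularLocalRing (X.presheaf.stalk x))
    (hdim : topologicalKrullDim ↥X ≤ 1) (F : X.Modules) (hF : Coh.IsCoh F) :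
    (∀ x : ↥X, NoZeroSMulDivisors (X.presheaf.stalk x) (F.presheaf.stalk x)) ↔ FlatMod.IsFinLocFree F := by
  haveI : F.IsQuasicoherent := hF.1
  haveI : SheafOfModules.IsFiniteType (R := X.ringCatSheaf) F := hF.2
  have hpid : ∀ x : X, IsDomain (X.presheaf.stalk x) ∧ IsPrincipalIdealRing (X.presheaf.stalk x) := by
    intro x
    haveI := hreg x
    exact pid_of_regular_dim_le_one _ ((Helper16LocSym.ringKrullDim_stalk_le X x).trans hdim)
  rw [← Groth.Agent.S9806.result X F hF.1]
  constructor
  · intro htf
    refine ⟨Groth.Agent.Lib.Helper23.FinType.isFinitePresentation_of_isFiniteType F, fun x => ?_⟩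
    haveI := (hpid x).1
    haveI := (hpid x).2
    haveI := htf x
    haveI : Module.Finite (X.presheaf.stalk x) (F.presheaf.stalk x) :=
      Groth.Agent.Lib.Helper2.FibreCrit.finite_stalk F x
    haveI : Module.IsTorsionFree (X.presheaf.stalk x) (F.presheaf.stalk x) := inferInstance
    exact Module.free_of_finite_type_torsion_free'
  · rintro ⟨-, hfree⟩ x
    haveI := (hpid x).1
    haveI := hfree x
    haveI : Module.IsTorsionFree (X.presheaf.stalk x) (F.presheaf.stalk x) := inferInstance
    refine ⟨fun {c m} hcm => ?_⟩
    by_cases hc : c = 0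
    · exact Or.inl hc
    · right
      have hreg : IsSMulRegular (F.presheaf.stalk x) c :=
        Module.IsTorsionFree.isSMulRegular (isRegular_of_ne_zero hc)
      apply hreg
      simpa using hcm

end Groth.Agent.S1688
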