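import Groth.Statements.S1689
import Groth.Agent.Lib.Helper28ReflReg
import Groth.Agent.Lib.Helper2LocFree
import Groth.Agent.Lib.Helper23FinType2
import Groth.Agent.Lib.Helper1PC15

set_option autoImplicit false
universe u
open CategoryTheory CategoryTheory.Limits AlgebraicGeometry TopologicalSpace
open SDiv

namespace Groth.Agent.S1689

/-- Let X be a locally Noetherian scheme of dimension at most 2 all of whose local rings are regular,
and F a coherent module on X. Then F is reflexive (every stalk is a reflexive module over the local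
ring) if and only if F is finite locally free. -/
theorem result (X : Scheme.{u}) [IsLocallyNoetherian X]
    (hreg : ∀ x : ↥X, IsRegularLocalRing (X.presheaf.stalk x)) (hdim : topologicalKrullDim ↥X ≤ 2) (F : X.Modules)
    (hF : Coh.IsCoh F) : (∀ x : ↥X, Module.IsReflexive (X.presheaf.stalk x) (F.presheaf.stalk x)) ↔ FlatMod.IsFinLocFree F := by
  open Groth.Agent.Lib.Helper2 Groth.Agent.Lib.Helper2.FlatOver Groth.Agent.Lib.Helper2.LocFree
    Groth.Agent.Lib.Helper23.FinType Groth.Agent.Lib.Helper20.PullbackAff
    Groth.Agent.Lib.Helper20.Thickening in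
  haveI : F.IsQuasicoherent := hF.1
  haveI : SheafOfModules.IsFiniteType (R := X.ringCatSheaf) F := hF.2
  constructor
  · intro hrefl x
    obtain ⟨U, hU0, hx, -⟩ := (Opens.isBasis_iff_nbhd.1 X.isBasis_affineOpens) (Opens.mem_top x)
    have hU : IsAffineOpen U := hU0
    clear hU0
    letI mF := moduleStalkSections F U x hx
    haveI locF : IsLocalizedModule (hU.primeIdealOf ⟨x, hx⟩).asIdeal.primeCompl (germₗ F U x hx) :=
      isLocalizedModule_germ hU F x hx
    haveI : IsNoetherianRing Γ(X, U) := IsLocallyNoetherian.component_noetherian ⟨U, hU⟩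
    haveI hfinU : Module.Finite Γ(X, U) Γ(F, U) := finite_of_isFiniteType F hU
    letI alg : Algebra Γ(X, U) (X.presheaf.stalk x) :=
      TopCat.Presheaf.algebra_section_stalk X.presheaf ⟨x, hx⟩
    haveI locR : IsLocalization.AtPrime (X.presheaf.stalk x) (hU.primeIdealOf ⟨x, hx⟩).asIdeal :=
      hU.isLocalization_stalk ⟨x, hx⟩
    haveI : IsScalarTower Γ(X, U) (X.presheaf.stalk x) (F.presheaf.stalk x) :=
      IsScalarTower.of_algebraMap_smul fun r x => rfl
    haveI : Module.Finite (X.presheaf.stalk x) (F.presheaf.stalk x) :=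
      Module.Finite.of_isLocalizedModule (hU.primeIdealOf ⟨x, hx⟩).asIdeal.primeCompl
        (germₗ F U x hx)
    haveI := hreg x
    haveI := hrefl x
    have hdimx : ringKrullDim (X.presheaf.stalk x) ≤ 2 := by
      rw [ringKrullDim_stalk_eq_coheight]
      have h1 : (Order.coheight x : WithBot ℕ∞) ≤ Order.krullDim X := Order.coheight_le_krullDim x
      have h2 : Order.krullDim (IrreducibleCloseds X) = Order.krullDim X :=
        Order.krullDim_eq_of_orderIso (irreducibleSetEquivPoints (α := X))
      unfold topologicalKrullDim at hdim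
      rw [h2] at hdim
      exact h1.trans hdim
    haveI hfree : Module.Free (X.presheaf.stalk x) (F.presheaf.stalk x) :=
      Groth.Agent.Lib.Helper28.ReflReg.free_of_isReflexive_of_dim_le_two _ hdimx _
    have hflat : FlatMod.IsFlatAt F x := by
      unfold FlatMod.IsFlatAt
      infer_instance
    haveI : Module.Finite Γ(X, U) ((ΓUF hU).obj F) := Module.Finite.equiv (ΓUEquiv hU F)
    haveI : Module.FinitePresentation Γ(X, U) ((ΓUF hU).obj F) :=
      Module.finitePresentation_of_finite _ _
    obtain ⟨f, hf, hfree'⟩ := exists_free_away_of_flat_atPrime ((ΓUF hU).obj F)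
      (hU.primeIdealOf ⟨x, hx⟩) (flat_localizedModule_of_isFlatAt F hU x hx hflat)
    obtain ⟨D, m, hxD, -, h⟩ := exists_restrict_iso_freeMod_of_free_away F hU x hx f hf hfree'
    exact ⟨D, m, hxD, h⟩
  · intro hlf x
    obtain ⟨D, n, hxD, ⟨e⟩⟩ := hlf x
    have h12 := Groth.Agent.Lib.Helper1.SPL.free_finite_stalk_of_restrict_iso_freeMod F D.ι n e
      ⟨x, hxD⟩
    change Module.Free (X.presheaf.stalk x) (F.presheaf.stalk x) ∧
      Module.Finite (X.presheaf.stalk x) (F.presheaf.stalk x) at h12
    obtain ⟨h1, h2⟩ := h12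
    infer_instance

end Groth.Agent.S1689
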