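import Groth.Statements.S16909
import Mathlib
import Groth.Agent.Lib.Helper23IdealSec
import Groth.Agent.Lib.Helper23GG
import Groth.Agent.Lib.Helper20OmegaAff
-- import your own Groth.Agent.* helpers here

set_option autoImplicit false
universe u
open CategoryTheory CategoryTheory.Limits AlgebraicGeometry
open ResProp

namespace Groth.Agent.S16909
open MonoidalCategory TopologicalSpace Opposite

open Groth.Agent.Lib.Helper23.SecTw Groth.Agent.Lib.Helper23.GenLocus Groth.Agent.Lib.Helper6
open Groth.Agent.Lib.Helper23.TensorMap Groth.Agent.Lib.Helper23.IdealSec Groth.Agent.Lib.Helper23.GG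
open Groth.Agent.Lib.Helper23.Serre Groth.Agent.Lib.Helper23.Extend

theorem eq_zero_of_epi_of_ext {C : Type*} [Category C] [HasZeroMorphisms C] {A N Q : C} {I : Type*} {B : I → C}
    (ι : ∀ a, B a ⟶ A) (hext : ∀ (M : C) (f g : A ⟶ M), (∀ a, ι a ≫ f = ι a ≫ g) → f = g)
    (p : A ⟶ N) [Epi p] (ψ : N ⟶ Q) (h : ∀ a, (ι a ≫ p) ≫ ψ = 0) : ψ = 0 := by
  rw [← cancel_epi p, comp_zero]
  refine hext _ _ _ (fun a => ?_)
  rw [comp_zero, ← Category.assoc]
  exact h a

theorem eq_zero_of_free {X : Scheme.{u}} {I : Type u} {N Q : X.Modules}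
    (p : (SheafOfModules.free I : X.Modules) ⟶ N) (hp : Epi p) (ψ : N ⟶ Q)
    (h : ∀ σ : Coh.structureModule X ⟶ N, σ ≫ ψ = 0) : ψ = 0 := by
  haveI : @Epi X.Modules _ _ _ p := hp
  exact @eq_zero_of_epi_of_ext X.Modules _ _ (SheafOfModules.free I : X.Modules) N Q I
    (fun _ : I => Coh.structureModule X) (fun a => SheafOfModules.ιFree a)
    (fun M f g hfg => free_hom_ext f g hfg) p hp ψ (fun a => h _)

theorem exists_section (X : Scheme.{u}) (J : X.IdealSheafData) (hgg : Curv2.IsGloballyGenerated (ClSub.idealMod J))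
    (U : X.affineOpens) (hJU : J.ideal U = ⊤) (x : X) (hx : x ∈ U.1) :
    ∃ σ : Coh.structureModule X ⟶ ClSub.idealMod J, x ∈ X.basicOpen (endFun (σ ≫ ClSub.idealModι J) ⊤) := by
  obtain ⟨I, p, hp⟩ := hgg
  by_contra hcon
  replace hcon : ∀ σ : Coh.structureModule X ⟶ ClSub.idealMod J,
      x ∉ X.basicOpen (endFun (σ ≫ ClSub.idealModι J) ⊤) := fun σ hσ => hcon ⟨σ, hσ⟩
  have hcomp : ∀ σ : Coh.structureModule X ⟶ ClSub.idealMod J,
      σ ≫ (ClSub.idealModι J ≫ unitPush (X.fromSpecResidueField x)) = 0 := by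
    intro σ
    rw [← Category.assoc]
    exact comp_unitPush_eq_zero _ x (hcon σ)
  have h0 : ClSub.idealModι J ≫ unitPush (X.fromSpecResidueField x) = 0 :=
    eq_zero_of_free p hp _ hcomp
  obtain ⟨jU, hjU⟩ := exists_ι_eq J U 1 (by rw [hJU]; trivial)
  have h1 := congrArg (fun ψ => Scheme.Modules.Hom.app ψ U.1 jU) h0
  simp only [] at h1
  have h2 : Scheme.Modules.Hom.app (ClSub.idealModι J ≫ unitPush (X.fromSpecResidueField x)) U.1 jU =
      (unitPush (X.fromSpecResidueField x)).app U.1 ((ClSub.idealModι J).app U.1 jU) := rfl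
  rw [h2, hjU, unitPush_app, map_one] at h1
  have hne : Nonempty ((X.fromSpecResidueField x) ⁻¹ᵁ U.1 : (Spec (X.residueField x)).Opens) := by
    have hxr : x ∈ Set.range (X.fromSpecResidueField x) := by rw [Scheme.range_fromSpecResidueField]; rfl
    obtain ⟨z, hz⟩ := hxr
    refine ⟨⟨z, ?_⟩⟩
    change (X.fromSpecResidueField x) z ∈ U.1
    rw [hz]
    exact hx
  have hnt : Nontrivial Γ(Spec (X.residueField x), (X.fromSpecResidueField x) ⁻¹ᵁ U.1) := inferInstance
  exact (one_ne_zero (α := Γ(Spec (X.residueField x), (X.fromSpecResidueField x) ⁻¹ᵁ U.1)))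
    (congrArg (ofS ((X.fromSpecResidueField x) ⁻¹ᵁ U.1)) h1)

/-- Let `X` be a quasi-compact and quasi-separated scheme on which every quasi-coherent module is
globally generated (a quotient of a free module on some index type, i.e. the structure sheaf is a
generating family). Then `X` is quasi-affine. No separatedness hypothesis is made; it follows. (The
published statement is for an algebraic stack over an algebraic space with affine stabilizer groups
at closed points and concludes that it is representable by a quasi-affine morphism; that general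
case rests on results outside this text, and this row is the final step of its proof, the case of a
scheme.) -/
theorem result (X : Scheme.{u}) [CompactSpace X]
    [QuasiSeparatedSpace X] (h : ∀ M : X.Modules, Coh.IsQCoh M → Curv2.IsGloballyGenerated M) :
    X.IsQuasiAffine := by
  refine Scheme.IsQuasiAffine.of_forall_exists_mem_basicOpen X (fun x => ?_)
  obtain ⟨U, hU, hxU, -⟩ := Opens.isBasis_iff_nbhd.1 X.isBasis_affineOpens (show x ∈ (⊤ : X.Opens) from trivial)
  let Z : Closeds X := ⟨(U : Set X)ᶜ, U.2.isClosed_compl⟩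
  obtain ⟨J, hJ⟩ : ∃ J : X.IdealSheafData, J = Scheme.IdealSheafData.vanishingIdeal Z := ⟨_, rfl⟩
  have h1 : (1 : Γ(X, U)) ∈ J.ideal ⟨U, hU⟩ := by
    rw [hJ, Scheme.IdealSheafData.vanishingIdeal_ideal, PrimeSpectrum.mem_vanishingIdeal]
    intro q hq
    exfalso
    have hU' : IsAffineOpen U := hU
    have hr : Set.range (IsAffineOpen.fromSpec (U := U) hU') = (U : Set X) := hU'.range_fromSpec
    have hq' : (IsAffineOpen.fromSpec (U := U) hU') q ∈ (U : Set X) := by
      rw [← hr]
      exact Set.mem_range_self q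
    exact hq hq'
  have hJU : J.ideal ⟨U, hU⟩ = ⊤ := (Ideal.eq_top_iff_one _).2 h1
  have hsupp : ∀ y, y ∉ U → y ∈ J.support := by
    intro y hy
    have h3 : (J.support : Set X) = Z := by
      rw [hJ]
      exact Scheme.IdealSheafData.coe_support_vanishingIdeal Z
    change y ∈ (J.support : Set X)
    rw [h3]
    exact hy
  have hqc : (ClSub.idealMod J).IsQuasicoherent := Groth.Agent.Lib.Helper20.OmegaAff.isQuasicoherent_idealMod J
  have hgg := h (ClSub.idealMod J) hqc
  obtain ⟨σ, hσ⟩ := exists_section X J hgg ⟨U, hU⟩ hJU x hxU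
  obtain ⟨r, hr⟩ : ∃ r : Γ(X, ⊤), r = endFun (σ ≫ ClSub.idealModι J) ⊤ := ⟨_, rfl⟩
  rw [← hr] at hσ
  have hle : X.basicOpen r ≤ U := by
    intro y hy
    by_contra hyU
    obtain ⟨W, hW, hyW, -⟩ := Opens.isBasis_iff_nbhd.1 X.isBasis_affineOpens (show y ∈ (⊤ : X.Opens) from trivial)
    have h4 : resf (le_top : W ≤ ⊤) r = ofS W ((ClSub.idealModι J).app W (sv σ W)) := by
      rw [hr]
      exact endFun_map (σ ≫ ClSub.idealModι J) (homOfLE (le_top : W ≤ ⊤))
    have h5 : y ∈ X.basicOpen (resf (le_top : W ≤ ⊤) r) := by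
      rw [Scheme.basicOpen_res]
      exact ⟨hyW, hy⟩
    rw [h4] at h5
    exact not_mem_basicOpen_of_mem_support J ⟨W, hW⟩ _ (ι_mem_ideal J ⟨W, hW⟩ _) y hyW (hsupp y hyU) h5
  refine ⟨r, ?_, hσ⟩
  have h6 : X.basicOpen r = X.basicOpen (resf (le_top : U ≤ ⊤) r) := by
    rw [Scheme.basicOpen_res]
    exact (inf_eq_right.2 hle).symm
  rw [h6]
  exact IsAffineOpen.basicOpen hU _

end Groth.Agent.S16909
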