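import Groth.Statements.S1691
import Mathlib
import Groth.Agent.S2520
import Groth.Agent.S4355
import Groth.Agent.Lib.Helper1PC15
import Groth.Agent.Lib.Helper28BigOpen
import Groth.Agent.Lib.Helper28SubQCoh
set_option backward.isDefEq.respectTransparency.types false

set_option autoImplicit false
set_option linter.style.haveILetI false
universe u
open CategoryTheory CategoryTheory.Limits AlgebraicGeometry TopologicalSpace
open SDiv

namespace Groth.Agent.S1691

open CategoryTheory.Limits Opposite TopologicalSpace
open Groth.Agent.Lib.Helper1.Sky Groth.Agent.Lib.Helper1.CI Groth.Agent.Lib.Helper1.StalkTensor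
open Groth.Agent.Lib.Helper1.FLF Groth.Agent.Lib.Helper1.SPL

/-- reflexivity transfers along a semilinear bijection over a ring isomorphism -/
theorem isReflexive_of_semilinear {A B : Type*} [CommRing A] [CommRing B] (σ : A ≃+* B)
    {M N : Type*} [AddCommGroup M] [Module A M] [AddCommGroup N] [Module B N] (τ : M ≃+ N)
    (hτ : ∀ (a : A) (m : M), τ (a • m) = σ a • τ m) [Module.IsReflexive B N] :
    Module.IsReflexive A M := by
  have hτs : ∀ (b : B) (n : N), τ.symm (b • n) = σ.symm b • τ.symm n := by
    intro b n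
    apply τ.injective
    rw [hτ, AddEquiv.apply_symm_apply, RingEquiv.apply_symm_apply, AddEquiv.apply_symm_apply]
  -- transport of linear forms
  let D : Module.Dual B N → Module.Dual A M := fun f =>
    { toFun := fun m => σ.symm (f (τ m))
      map_add' := fun m m' => by rw [map_add, map_add, map_add]
      map_smul' := fun a m => by
        rw [hτ, map_smul, smul_eq_mul, map_mul, RingEquiv.symm_apply_apply]; rfl }
  let D' : Module.Dual A M → Module.Dual B N := fun g =>
    { toFun := fun n => σ (g (τ.symm n))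
      map_add' := fun n n' => by rw [map_add, map_add, map_add]
      map_smul' := fun b n => by
        rw [hτs, map_smul, smul_eq_mul, map_mul, RingEquiv.apply_symm_apply]; rfl }
  have hDD' : ∀ g, D (D' g) = g := by
    intro g
    ext m
    change σ.symm (σ (g (τ.symm (τ m)))) = g m
    rw [RingEquiv.symm_apply_apply, AddEquiv.symm_apply_apply]
  have hDadd : ∀ f f', D (f + f') = D f + D f' := by
    intro f f'
    ext m
    change σ.symm ((f + f') (τ m)) = σ.symm (f (τ m)) + σ.symm (f' (τ m))
    rw [LinearMap.add_apply, map_add]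
  have hDsmul : ∀ (b : B) f, D (b • f) = σ.symm b • D f := by
    intro b f
    ext m
    change σ.symm ((b • f) (τ m)) = σ.symm b • σ.symm (f (τ m))
    rw [LinearMap.smul_apply, smul_eq_mul, map_mul, smul_eq_mul]
  refine ⟨⟨?_, ?_⟩⟩
  · rw [injective_iff_map_eq_zero]
    intro m hm
    have h1 : Module.Dual.eval B N (τ m) = 0 := by
      ext f
      have h2 : Module.Dual.eval A M m (D f) = 0 := by rw [hm]; rfl
      have h3 : σ.symm (f (τ m)) = 0 := h2
      change f (τ m) = 0
      exact (map_eq_zero_iff σ.symm σ.symm.injective).1 h3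
    have h4 := (injective_iff_map_eq_zero _).1 (Module.bijective_dual_eval B N).1 _ h1
    exact (map_eq_zero_iff τ τ.injective).1 h4
  · intro φ
    let φ' : Module.Dual B (Module.Dual B N) :=
      { toFun := fun f => σ (φ (D f))
        map_add' := fun f f' => by rw [hDadd, map_add, map_add]
        map_smul' := fun b f => by
          rw [hDsmul, map_smul, smul_eq_mul, map_mul, RingEquiv.apply_symm_apply]; rfl }
    obtain ⟨n, hn⟩ := (Module.bijective_dual_eval B N).2 φ'
    refine ⟨τ.symm n, ?_⟩
    ext g
    change g (τ.symm n) = φ g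
    have h1 : Module.Dual.eval B N n (D' g) = φ' (D' g) := by rw [hn]
    have h2 : σ (g (τ.symm n)) = σ (φ (D (D' g))) := h1
    rw [hDD'] at h2
    exact σ.injective h2

/-- descent of reflexivity along a bijective ring homomorphism -/
lemma isReflexive_of_extendScalars {A B : Type u} [CommRing A] [CommRing B] (σ : A →+* B)
    (hσ : Function.Bijective σ) (M : ModuleCat.{u} A)
    (hrefl : Module.IsReflexive B ((ModuleCat.extendScalars.{u, u, u} σ).obj M)) :
    Module.IsReflexive A M := by
  letI : Algebra A B := σ.toAlgebra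
  haveI hrefl' : Module.IsReflexive B (TensorProduct A B M) := hrefl
  let eAB : A ≃ₗ[A] B := LinearEquiv.ofBijective (Algebra.linearMap A B) hσ
  let ψ : M ≃ₗ[A] TensorProduct A B M :=
    (TensorProduct.lid A M).symm ≪≫ₗ TensorProduct.congr eAB (LinearEquiv.refl A M)
  refine isReflexive_of_semilinear (RingEquiv.ofBijective σ hσ) ψ.toAddEquiv ?_
  intro a m
  change ψ (a • m) = σ a • ψ m
  rw [map_smul]
  exact (algebraMap_smul B a (ψ m)).symm

/-- if the restriction of `M` along an open immersion `j` is isomorphic to a module with a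
reflexive stalk at `y`, then the stalk of `M` at `j y` is reflexive -/
theorem isReflexive_stalk_of_restrict_iso {X : Scheme.{u}} (M : X.Modules) {U : Scheme.{u}}
    (j : U ⟶ X) [IsOpenImmersion j] (G : U.Modules) (e : M.restrict j ≅ G) (y : U)
    (h : Module.IsReflexive (U.presheaf.stalk y) (G.presheaf.stalk y)) :
    Module.IsReflexive (X.presheaf.stalk (j y)) (M.presheaf.stalk (j y)) := by
  let ε : (stalkFun y).obj G ≅
      (ModuleCat.extendScalars.{u, u, u} (j.stalkMap y).hom).obj ((stalkFun (j y)).obj M) :=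
    (stalkFun y).mapIso e.symm ≪≫
      (stalkFun y).mapIso ((Scheme.Modules.restrictFunctorIsoPullback j).app M) ≪≫
      (stalkPullbackIso j y).app M
  have h0 : Module.IsReflexive (Groth.Agent.Lib.Helper1.Sky.Ox y) ((stalkFun y).obj G) := h
  have h1 : Module.IsReflexive (Groth.Agent.Lib.Helper1.Sky.Ox y)
      ((ModuleCat.extendScalars.{u, u, u} (j.stalkMap y).hom).obj ((stalkFun (j y)).obj M)) :=
    @Module.equiv _ _ _ _ _ _ _ _ h0 ε.toLinearEquiv
  have hσ : Function.Bijective (j.stalkMap y).hom :=
    ConcreteCategory.bijective_of_isIso (j.stalkMap y)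
  exact isReflexive_of_extendScalars (j.stalkMap y).hom hσ ((stalkFun (j y)).obj M) h1

/-- reflexivity of stalks is invariant under isomorphisms -/
theorem isReflexive_stalk_of_iso {X : Scheme.{u}} {M N : X.Modules} (e : M ≅ N) (x : X)
    (h : Module.IsReflexive (X.presheaf.stalk x) (M.presheaf.stalk x)) :
    Module.IsReflexive (X.presheaf.stalk x) (N.presheaf.stalk x) := by
  have h0 : Module.IsReflexive (Groth.Agent.Lib.Helper1.Sky.Ox x) ((stalkFun x).obj M) := h
  exact @Module.equiv _ _ _ _ _ _ _ _ h0 ((stalkFun x).mapIso e).toLinearEquiv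

section PartB

open Groth.Agent.Lib.Helper23.QCohLocal Groth.Agent.Lib.Helper2.Push Groth.Agent.Lib.Helper2.QCoh
  Groth.Agent.Lib.Helper23.FinType Groth.Agent.Lib.Helper23.ModLocal Groth.Agent.Lib.Helper23.Extend
  Groth.Agent.Lib.Helper23.SubSh Groth.Agent.Lib.Helper23.LocNoethSp
  Groth.Agent.Lib.Helper28.BigOpen Groth.Agent.Lib.Helper28.ReflNormal
  Groth.Agent.Lib.Helper28.HomSh Groth.Agent.Lib.Helper4.Dev

theorem partB (X : Scheme.{u}) [IsIntegral X] [IsLocallyNoetherian X] (U : X.Opens)
    (hU : ∀ x : ↥X, x ∉ U → (2 : ℕ∞) ≤ LocCoh.depth (X.presheaf.stalk x) (X.presheaf.stalk x))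
    (G : (U : Scheme.{u}).Modules) (hG : Coh.IsCoh G)
    (hGr : ∀ x : ↥(U : Scheme.{u}),
      Module.IsReflexive ((U : Scheme.{u}).presheaf.stalk x) (G.presheaf.stalk x)) :
    Coh.IsCoh ((Scheme.Modules.pushforward U.ι).obj G) ∧
      (∀ x : ↥X, Module.IsReflexive (X.presheaf.stalk x)
        (((Scheme.Modules.pushforward U.ι).obj G).presheaf.stalk x)) := by
  haveI : G.IsQuasicoherent := hG.1
  set H := (Scheme.Modules.pushforward U.ι).obj G with hH
  haveI hHq : H.IsQuasicoherent := isQuasicoherent_pushforward U.ι G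
  -- the counit
  let e₀ : H.restrict U.ι ≅ G := asIso ((Scheme.Modules.restrictAdjunction U.ι).counit.app G)
  haveI : SheafOfModules.IsFiniteType (R := (U : Scheme.{u}).ringCatSheaf) G := hG.2
  haveI : SheafOfModules.IsFiniteType (R := (U : Scheme.{u}).ringCatSheaf) (H.restrict U.ι) :=
    isFiniteType_of_iso e₀.symm
  have hft : FTOn H U := by
    have := ftOn_of_isFiniteType_restrict U.ι H
    rw [Scheme.Opens.opensRange_ι] at this
    exact this
  -- the coherent extension
  have hX : ∀ x : X, ∃ U : X.Opens, x ∈ U ∧ TopologicalSpace.NoetherianSpace (U : Set X) := by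
    intro x
    obtain ⟨_, ⟨U, hU : IsAffineOpen U, rfl⟩, hxU, -⟩ :=
      (X.isBasis_affineOpens).exists_subset_of_mem_open (Set.mem_univ x) isOpen_univ
    haveI : IsNoetherianRing Γ(X, U) := IsLocallyNoetherian.component_noetherian ⟨U, hU⟩
    exact ⟨U, hxU, noetherianSpace_of_isAffineOpen U hU⟩
  obtain ⟨L, hlin, hwf, W, hW, hcov, hcpt⟩ := exists_wellOrdered_affine_cover hX
  obtain ⟨K, ψ, hm, hKq, hKft, hiso⟩ := exists_sub_isFiniteType_wo H W U hW hcov
    (fun l => hcpt l _ Set.inter_subset_left) (fun l => hcpt l _ Set.inter_subset_left) hft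
  have hKc : Coh.IsCoh K := ⟨hKq, hKft⟩
  haveI hψ : IsIso ((Scheme.Modules.restrictFunctor U.ι).map ψ) := by
    rw [isIso_restrict_iff, Scheme.Opens.opensRange_ι]; exact hiso
  let eK : K.restrict U.ι ≅ G := asIso ((Scheme.Modules.restrictFunctor U.ι).map ψ) ≪≫ e₀
  -- `K` is reflexive at the points of `U`
  have hKr : ∀ x : X, x ∈ U → RefHull.IsReflexiveAt K x := by
    intro x hx
    exact isReflexive_stalk_of_restrict_iso K U.ι G eK ⟨x, hx⟩ (hGr ⟨x, hx⟩)
  -- the reflexive hull
  set F := RefHull.ddual K with hF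
  have hFc : Coh.IsCoh F := isCoh_ddual K hKc
  have hFr : ∀ x : X, RefHull.IsReflexiveAt F x := fun x =>
    Groth.Agent.Lib.Helper28.SubQCoh.isReflexiveAt_ddual K hKc x
  haveI h3 : IsIso ((Scheme.Modules.restrictFunctor U.ι).map (RefHull.bidualMap K)) :=
    isIso_restrict_bidualMap K hKc U hKr
  haveI h4 : IsIso ((Scheme.Modules.restrictAdjunction U.ι).unit.app F) :=
    isIso_unit_of_isReflexiveAt F hFc U hU (fun x _ => hFr x)
  -- the unit of `H`
  haveI h1 : IsIso ((Scheme.Modules.restrictAdjunction U.ι).unit.app H) := by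
    have htri := (Scheme.Modules.restrictAdjunction U.ι).right_triangle_components G
    haveI : IsIso ((Scheme.Modules.pushforward U.ι).map
        ((Scheme.Modules.restrictAdjunction U.ι).counit.app G)) := inferInstance
    exact IsIso.of_isIso_fac_right htri
  let eHF : H ≅ F :=
    asIso ((Scheme.Modules.restrictAdjunction U.ι).unit.app H) ≪≫
      ((Scheme.Modules.pushforward U.ι).mapIso
        (asIso ((Scheme.Modules.restrictFunctor U.ι).map ψ))).symm ≪≫
      (Scheme.Modules.pushforward U.ι).mapIso
        (asIso ((Scheme.Modules.restrictFunctor U.ι).map (RefHull.bidualMap K))) ≪≫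
      (asIso ((Scheme.Modules.restrictAdjunction U.ι).unit.app F)).symm
  refine ⟨isCoh_of_iso eHF.symm hFc, fun x => ?_⟩
  exact isReflexive_stalk_of_iso eHF.symm x (hFr x)

end PartB

/-- Let X be an integral locally Noetherian scheme and j : U ⟶ X an open subscheme such that the local
ring of X at every point outside U has depth at least 2. Then (a) for every coherent reflexive
module F on X the canonical map F ⟶ j_* j^* F is an isomorphism, and (b) for every coherent
reflexive module G on U the direct image j_* G is coherent and reflexive (so that j^* and j_* are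
mutually inverse equivalences). -/
theorem result (X : Scheme.{u}) [IsIntegral X] [IsLocallyNoetherian X] (U : X.Opens)
    (hU : ∀ x : ↥X, x ∉ U → (2 : ℕ∞) ≤ LocCoh.depth (X.presheaf.stalk x) (X.presheaf.stalk x)) :
    (∀ F : X.Modules, Coh.IsCoh F → (∀ x : ↥X, Module.IsReflexive (X.presheaf.stalk x) (F.presheaf.stalk x)) →
        IsIso ((Scheme.Modules.restrictAdjunction U.ι).unit.app F)) ∧
      (∀ G : (U : Scheme.{u}).Modules, Coh.IsCoh G → (∀ x : ↥(U : Scheme.{u}), Module.IsReflexive ((U : Scheme.{u}).presheaf.stalk x) (G.presheaf.stalk x)) →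
        Coh.IsCoh ((Scheme.Modules.pushforward U.ι).obj G) ∧
          (∀ x : ↥X, Module.IsReflexive (X.presheaf.stalk x) (((Scheme.Modules.pushforward U.ι).obj G).presheaf.stalk x))) := by
  refine ⟨fun F hF hr => ?_, fun G hG hGr => partB X U hU G hG hGr⟩
  exact Groth.Agent.Lib.Helper28.BigOpen.isIso_unit_of_isReflexiveAt F hF U hU (fun x _ => hr x)

end Groth.Agent.S1691
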