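import Groth.Statements.S16917
import Mathlib
import Groth.Agent.S15237

set_option autoImplicit false
open CategoryTheory AlgebraicGeometry
universe u
open Variety

namespace Groth.Agent.S16917


theorem exists_maximal_generization {X : Scheme.{u}} [IsLocallyNoetherian X] (G : Set X) (x : X)
    (hx : x ∈ G) : ∃ y ∈ G, y ⤳ x ∧ ∀ z ∈ G, z ⤳ y → z = y := by
  have hwf : WellFounded ((· < ·) : PrimeSpectrum (X.presheaf.stalk x) →
      PrimeSpectrum (X.presheaf.stalk x) → Prop) :=
    SetRel.IsWellFounded.of_finiteDimensional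
      (r := {(a, b) : PrimeSpectrum (X.presheaf.stalk x) × PrimeSpectrum (X.presheaf.stalk x) | a < b})
  have hemb : Topology.IsEmbedding (X.fromSpecStalk x) := (X.fromSpecStalk x).isEmbedding
  have hrange : Set.range (X.fromSpecStalk x) = {y | y ⤳ x} := Scheme.range_fromSpecStalk
  obtain ⟨P0, hP0⟩ : ∃ P0, X.fromSpecStalk x P0 = x := by
    have : x ∈ Set.range (X.fromSpecStalk x) := by rw [hrange]; exact specializes_rfl
    exact this
  obtain ⟨P, hPG, hPmin⟩ := hwf.has_min ((X.fromSpecStalk x) ⁻¹' G) ⟨P0, by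
    show X.fromSpecStalk x P0 ∈ G
    rw [hP0]; exact hx⟩
  have hPx : X.fromSpecStalk x P ⤳ x := by
    have : X.fromSpecStalk x P ∈ Set.range (X.fromSpecStalk x) := ⟨P, rfl⟩
    rw [hrange] at this
    exact this
  refine ⟨X.fromSpecStalk x P, hPG, hPx, ?_⟩
  intro z hz hzy
  have hzx : z ⤳ x := hzy.trans hPx
  obtain ⟨Q, rfl⟩ : z ∈ Set.range (X.fromSpecStalk x) := by rw [hrange]; exact hzx
  have hQP : Q ⤳ P := hemb.isInducing.specializes_iff.mp hzy
  obtain ⟨Q', hQ'⟩ : ∃ Q' : PrimeSpectrum (X.presheaf.stalk x), Q' = Q := ⟨Q, rfl⟩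
  obtain ⟨P', hP'⟩ : ∃ P' : PrimeSpectrum (X.presheaf.stalk x), P' = P := ⟨P, rfl⟩
  have hle : Q' ≤ P' := by
    rw [PrimeSpectrum.le_iff_specializes, hQ', hP']
    exact hQP
  have hnlt : ¬ Q' < P' := by
    rw [hQ', hP']
    exact hPmin Q hz
  rcases lt_or_eq_of_le hle with h | h
  · exact absurd h hnlt
  · rw [← hQ', ← hP', h]


theorem exists_closedPoint_avoiding (k : Type u) [Field k] [Uncountable k] (X : Scheme.{u})
    (sX : X ⟶ Spec (CommRingCat.of k)) [LocallyOfFiniteType sX] [QuasiCompact sX]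
    (T : TopologicalSpace.Closeds X) (hT : IsIrreducible (T : Set X))
    (f : ℕ → TopologicalSpace.Closeds X) (hf : ∀ n, ¬ T ≤ f n) :
    ∃ x ∈ T, IsClosed ({x} : Set X) ∧ ∀ n, x ∉ f n := by
  obtain ⟨I, hI⟩ : ∃ I : X.IdealSheafData, I = Scheme.IdealSheafData.vanishingIdeal T := ⟨_, rfl⟩
  have hrange : Set.range I.subschemeι = (T : Set X) := by
    rw [Scheme.IdealSheafData.range_subschemeι, hI,
      Scheme.IdealSheafData.coe_support_vanishingIdeal]
  have hcl : Topology.IsClosedEmbedding I.subschemeι := I.subschemeι.isClosedEmbedding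
  haveI : IrreducibleSpace I.subscheme := by
    have hirr : IsIrreducible (Set.range I.subschemeι) := by rw [hrange]; exact hT
    haveI : IrreducibleSpace (Set.range I.subschemeι) := isIrreducible_iff_irreducibleSpace.mp hirr
    exact Function.Surjective.irreducibleSpace hcl.isEmbedding.toHomeomorph.symm.continuous
      hcl.isEmbedding.toHomeomorph.symm.surjective
  haveI : LocallyOfFiniteType (I.subschemeι ≫ sX) := inferInstance
  haveI : QuasiCompact (I.subschemeι ≫ sX) := inferInstance
  obtain ⟨Z', hZ'⟩ : ∃ Z' : ℕ → TopologicalSpace.Closeds I.subscheme,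
      ∀ n, (Z' n : Set I.subscheme) = I.subschemeι ⁻¹' (f n : Set X) :=
    ⟨fun n => ⟨_, (f n).isClosed.preimage I.subschemeι.continuous⟩, fun n => rfl⟩
  have hne : ∀ n, (Z' n : Set I.subscheme) ≠ Set.univ := by
    intro n h
    apply hf n
    intro t ht
    have h1 : t ∈ Set.range I.subschemeι := by rw [hrange]; exact ht
    obtain ⟨y, rfl⟩ := h1
    have hy : y ∈ (Z' n : Set I.subscheme) := h ▸ Set.mem_univ y
    rw [hZ'] at hy
    exact hy
  obtain ⟨y, hycl, hyZ⟩ := Groth.Agent.S15237.result k I.subscheme (I.subschemeι ≫ sX) Z' hne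
  refine ⟨I.subschemeι y, ?_, ?_, ?_⟩
  · have h1 : I.subschemeι y ∈ Set.range I.subschemeι := ⟨y, rfl⟩
    rw [hrange] at h1
    exact h1
  · have h1 := hcl.isClosedMap _ hycl
    rwa [Set.image_singleton] at h1
  · intro n hn
    apply hyZ n
    change y ∈ (Z' n : Set I.subscheme)
    rw [hZ']
    exact hn


/-- Let k be an uncountable algebraically closed field, X a k-scheme of finite type and Z₀, Z₁, …
countably many closed subsets of X. Then the countable union of the Zₙ, read through closed points,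
has a unique irredundant decomposition: there is exactly one countable family S of irreducible
closed subsets of X, pairwise not contained in one another, such that a closed point of X lies in
some member of S if and only if it lies in some Zₙ. (The published statement is the existence and
uniqueness of the irredundant decomposition of a countable union of algebraic varieties into
c-components, a variety being read through its closed points; with all points of the scheme the
uniqueness would not need the uncountable field.) -/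
theorem result (k : Type u) [Field k] [IsAlgClosed k]
    [Uncountable k] (X : Scheme.{u}) (sX : X ⟶ Spec (CommRingCat.of k)) [LocallyOfFiniteType sX]
    [QuasiCompact sX] (Z : ℕ → TopologicalSpace.Closeds X) :
    ∃! S : Set (TopologicalSpace.Closeds X), S.Countable ∧ (∀ T ∈ S, IsIrreducible (T : Set X)) ∧
      IsAntichain (· ≤ ·) S ∧
      {x : X | IsClosed ({x} : Set X) ∧ ∃ T ∈ S, x ∈ T} =
        {x : X | IsClosed ({x} : Set X) ∧ ∃ n, x ∈ Z n} := by
  classical
  haveI : IsLocallyNoetherian X := LocallyOfFiniteType.isLocallyNoetherian sX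
  haveI : CompactSpace X := QuasiCompact.compactSpace_of_compactSpace sX
  haveI : IsNoetherian X := {}
  haveI : JacobsonSpace X := LocallyOfFiniteType.jacobsonSpace sX
  -- the uniqueness part, symmetric form
  have key : ∀ S₁ S₂ : Set (TopologicalSpace.Closeds X),
      (S₁.Countable ∧ (∀ T ∈ S₁, IsIrreducible (T : Set X)) ∧ IsAntichain (· ≤ ·) S₁ ∧
        {x : X | IsClosed ({x} : Set X) ∧ ∃ T ∈ S₁, x ∈ T} =
          {x : X | IsClosed ({x} : Set X) ∧ ∃ n, x ∈ Z n}) →
      (S₂.Countable ∧ (∀ T ∈ S₂, IsIrreducible (T : Set X)) ∧ IsAntichain (· ≤ ·) S₂ ∧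
        {x : X | IsClosed ({x} : Set X) ∧ ∃ T ∈ S₂, x ∈ T} =
          {x : X | IsClosed ({x} : Set X) ∧ ∃ n, x ∈ Z n}) →
      ∀ T ∈ S₁, ∃ T' ∈ S₂, T ≤ T' := by
    intro S₁ S₂ h₁ h₂ T hT
    by_contra hcon
    push Not at hcon
    have hcount : (S₂ ∪ {⊥}).Countable := h₂.1.union (Set.countable_singleton _)
    obtain ⟨f, hf⟩ := hcount.exists_eq_range ⟨⊥, Or.inr rfl⟩
    have hTne : (T : Set X).Nonempty := (h₁.2.1 T hT).nonempty
    have hfn : ∀ n, ¬ T ≤ f n := by
      intro n hle
      have hmem : f n ∈ S₂ ∪ {⊥} := by rw [hf]; exact ⟨n, rfl⟩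
      rcases hmem with h | h
      · exact hcon _ h hle
      · rw [Set.mem_singleton_iff] at h
        rw [h] at hle
        obtain ⟨t, ht⟩ := hTne
        exact hle ht
    obtain ⟨x, hxT, hxcl, hxf⟩ := exists_closedPoint_avoiding k X sX T (h₁.2.1 T hT) f hfn
    have hx1 : x ∈ {x : X | IsClosed ({x} : Set X) ∧ ∃ T ∈ S₁, x ∈ T} := ⟨hxcl, T, hT, hxT⟩
    rw [h₁.2.2.2, ← h₂.2.2.2] at hx1
    obtain ⟨-, T', hT', hxT'⟩ := hx1
    have hmem : T' ∈ Set.range f := by rw [← hf]; exact Or.inl hT'
    obtain ⟨m, rfl⟩ := hmem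
    exact hxf m hxT'
  -- the set of all points of the Z n and its maximal points
  obtain ⟨G, hG⟩ : ∃ G : Set X, G = {η | ∃ n, η ∈ Z n} := ⟨_, rfl⟩
  obtain ⟨Mx, hMx⟩ : ∃ Mx : Set X, Mx = {y | y ∈ G ∧ ∀ z ∈ G, z ⤳ y → z = y} := ⟨_, rfl⟩
  obtain ⟨S, hS⟩ : ∃ S : Set (TopologicalSpace.Closeds X),
      S = (fun y => TopologicalSpace.Closeds.closure {y}) '' Mx := ⟨_, rfl⟩
  have hSprop : S.Countable ∧ (∀ T ∈ S, IsIrreducible (T : Set X)) ∧ IsAntichain (· ≤ ·) S ∧
      {x : X | IsClosed ({x} : Set X) ∧ ∃ T ∈ S, x ∈ T} =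
        {x : X | IsClosed ({x} : Set X) ∧ ∃ n, x ∈ Z n} := by
    refine ⟨?_, ?_, ?_, ?_⟩
    · -- countable
      have hdec : ∀ n, ∃ Sn : Set (Set X), Sn.Finite ∧ (∀ t ∈ Sn, IsClosed t) ∧
          (∀ t ∈ Sn, IsIrreducible t) ∧ (Z n : Set X) = ⋃₀ Sn := fun n =>
        TopologicalSpace.NoetherianSpace.exists_finite_set_isClosed_irreducible (Z n).isClosed
      choose Sn hSnf hSncl hSnirr hSnU using hdec
      apply Set.countable_of_injective_of_countable_image
        (f := fun T : TopologicalSpace.Closeds X => (T : Set X))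
        (SetLike.coe_injective.injOn)
      refine Set.Countable.mono ?_ (Set.countable_iUnion fun n => (hSnf n).countable)
      rintro _ ⟨T, hT, rfl⟩
      rw [hS] at hT
      obtain ⟨y, hy, rfl⟩ := hT
      rw [hMx] at hy
      obtain ⟨hyG, hymax⟩ := hy
      rw [hG] at hyG
      obtain ⟨n, hyn⟩ := hyG
      have hyn' : y ∈ (Z n : Set X) := hyn
      rw [hSnU n] at hyn'
      obtain ⟨C, hC, hyC⟩ := hyn'
      have hgen := (hSnirr n C hC).isGenericPoint_genericPoint (hSncl n C hC)
      obtain ⟨z, hz⟩ : ∃ z, z = (hSnirr n C hC).genericPoint := ⟨_, rfl⟩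
      rw [← hz] at hgen
      have hzC : z ∈ C := by
        rw [← hgen.def]
        exact subset_closure rfl
      have hzG : z ∈ G := by
        rw [hG]
        refine ⟨n, ?_⟩
        change z ∈ (Z n : Set X)
        rw [hSnU n]
        exact ⟨C, hC, hzC⟩
      have hzy : z ⤳ y := by
        rw [specializes_iff_mem_closure, hgen.def]
        exact hyC
      have hzy' := hymax z hzG hzy
      rw [Set.mem_iUnion]
      refine ⟨n, ?_⟩
      have : ((TopologicalSpace.Closeds.closure {y} : TopologicalSpace.Closeds X) : Set X) = C := by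
        rw [TopologicalSpace.Closeds.coe_closure, ← hzy', hgen.def]
      change ((TopologicalSpace.Closeds.closure {y} : TopologicalSpace.Closeds X) : Set X) ∈ Sn n
      rw [this]
      exact hC
    · intro T hT
      rw [hS] at hT
      obtain ⟨y, -, rfl⟩ := hT
      rw [TopologicalSpace.Closeds.coe_closure]
      exact isIrreducible_singleton.closure
    · intro a ha b hb hab hle
      rw [hS] at ha hb
      obtain ⟨y, hy, rfl⟩ := ha
      obtain ⟨y', hy', rfl⟩ := hb
      apply hab
      rw [hMx] at hy hy'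
      have h1 : y ∈ ((TopologicalSpace.Closeds.closure {y'} : TopologicalSpace.Closeds X) : Set X) :=
        hle (by
          change y ∈ ((TopologicalSpace.Closeds.closure {y} : TopologicalSpace.Closeds X) : Set X)
          rw [TopologicalSpace.Closeds.coe_closure]
          exact subset_closure rfl)
      rw [TopologicalSpace.Closeds.coe_closure, ← specializes_iff_mem_closure] at h1
      have := hy.2 y' hy'.1 h1
      rw [this]
    · ext x
      constructor
      · rintro ⟨hxcl, T, hT, hxT⟩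
        refine ⟨hxcl, ?_⟩
        rw [hS] at hT
        obtain ⟨y, hy, rfl⟩ := hT
        rw [hMx] at hy
        obtain ⟨hyG, -⟩ := hy
        rw [hG] at hyG
        obtain ⟨n, hyn⟩ := hyG
        refine ⟨n, ?_⟩
        have h1 : x ∈ ((TopologicalSpace.Closeds.closure {y} : TopologicalSpace.Closeds X) : Set X) :=
          hxT
        rw [TopologicalSpace.Closeds.coe_closure] at h1
        exact closure_minimal (Set.singleton_subset_iff.2 hyn) (Z n).isClosed h1
      · rintro ⟨hxcl, n, hxn⟩
        refine ⟨hxcl, ?_⟩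
        have hxG : x ∈ G := by rw [hG]; exact ⟨n, hxn⟩
        obtain ⟨y, hyG, hyx, hymax⟩ := exists_maximal_generization G x hxG
        refine ⟨TopologicalSpace.Closeds.closure {y}, ?_, ?_⟩
        · rw [hS]
          refine ⟨y, ?_, rfl⟩
          rw [hMx]
          exact ⟨hyG, hymax⟩
        · change x ∈ ((TopologicalSpace.Closeds.closure {y} : TopologicalSpace.Closeds X) : Set X)
          rw [TopologicalSpace.Closeds.coe_closure, ← specializes_iff_mem_closure]
          exact hyx
  refine ⟨S, hSprop, ?_⟩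
  intro S' hS'
  have sub : ∀ S₁ S₂ : Set (TopologicalSpace.Closeds X),
      (S₁.Countable ∧ (∀ T ∈ S₁, IsIrreducible (T : Set X)) ∧ IsAntichain (· ≤ ·) S₁ ∧
        {x : X | IsClosed ({x} : Set X) ∧ ∃ T ∈ S₁, x ∈ T} =
          {x : X | IsClosed ({x} : Set X) ∧ ∃ n, x ∈ Z n}) →
      (S₂.Countable ∧ (∀ T ∈ S₂, IsIrreducible (T : Set X)) ∧ IsAntichain (· ≤ ·) S₂ ∧
        {x : X | IsClosed ({x} : Set X) ∧ ∃ T ∈ S₂, x ∈ T} =
          {x : X | IsClosed ({x} : Set X) ∧ ∃ n, x ∈ Z n}) → S₁ ⊆ S₂ := by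
    intro S₁ S₂ h₁ h₂ T hT
    obtain ⟨T', hT', hle⟩ := key S₁ S₂ h₁ h₂ T hT
    obtain ⟨T'', hT'', hle'⟩ := key S₂ S₁ h₂ h₁ T' hT'
    have h1 : T = T'' := h₁.2.2.1.eq hT hT'' (hle.trans hle')
    have h2 : T = T' := le_antisymm hle (h1 ▸ hle')
    rw [h2]
    exact hT'
  exact Set.Subset.antisymm (sub S' S hS' hSprop) (sub S S' hSprop hS')

end Groth.Agent.S16917
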