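import Groth.Statements.S16919
import Mathlib.FieldTheory.IsAlgClosed.Classification
import Mathlib.RingTheory.AlgebraicIndependent.TranscendenceBasis
import Mathlib.RingTheory.AlgebraicIndependent.Transcendental
import Mathlib.SetTheory.Cardinal.Arithmetic
import Mathlib.RingTheory.FiniteType
import Mathlib.RingTheory.Localization.FractionRing
import Mathlib.RingTheory.FiniteStability
import Mathlib.RingTheory.Algebraic.Basic

set_option autoImplicit false
universe u
open TensorProduct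
open CAlg

namespace Groth.Agent.S16919

open Cardinal Algebra

/-- two algebraically closed fields over `R₀` with equipotent transcendence bases are isomorphic
over `R₀` -/
theorem exists_equiv_of_bases {R₀ K L : Type u} [CommRing R₀] [Field K] [Field L]
    [Algebra R₀ K] [Algebra R₀ L] [IsAlgClosed K] [IsAlgClosed L]
    {ι κ : Type u} (v : ι → K) (w : κ → L) (e : ι ≃ κ)
    (hv : IsTranscendenceBasis R₀ v) (hw : IsTranscendenceBasis R₀ w) :
    ∃ E : K ≃+* L, ∀ r : R₀, E (algebraMap R₀ K r) = algebraMap R₀ L r := by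
  let := IsAlgClosed.isAlgClosure_of_transcendence_basis v hv
  let := IsAlgClosed.isAlgClosure_of_transcendence_basis w hw
  let e' : Algebra.adjoin R₀ (Set.range v) ≃ₐ[R₀] Algebra.adjoin R₀ (Set.range w) :=
    hv.1.aevalEquiv.symm.trans ((AlgEquiv.ofAlgHom (MvPolynomial.rename e)
      (MvPolynomial.rename e.symm) (by ext; simp) (by ext; simp)).trans hw.1.aevalEquiv)
  refine ⟨IsAlgClosure.equivOfEquiv K L e'.toRingEquiv, fun r => ?_⟩
  rw [IsScalarTower.algebraMap_apply R₀ (Algebra.adjoin R₀ (Set.range v)) K,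
    IsAlgClosure.equivOfEquiv_algebraMap]
  have : e'.toRingEquiv (algebraMap R₀ (Algebra.adjoin R₀ (Set.range v)) r) =
      algebraMap R₀ (Algebra.adjoin R₀ (Set.range w)) r := e'.commutes r
  rw [this, ← IsScalarTower.algebraMap_apply]

/-- Lemma G -/
theorem lemmaG {k₀ R₀ K L : Type u} [Field k₀] [CommRing R₀] [Field K] [Field L]
    [Algebra k₀ R₀] [Algebra.FiniteType k₀ R₀]
    [Algebra R₀ K] [Algebra R₀ L] [Algebra k₀ K] [Algebra k₀ L]
    [IsScalarTower k₀ R₀ K] [IsScalarTower k₀ R₀ L] [IsAlgClosed K] [IsAlgClosed L]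
    (hK : Function.Injective (algebraMap R₀ K)) (hL : Function.Injective (algebraMap R₀ L))
    (htr : trdeg k₀ K = trdeg k₀ L) (hinf : ℵ₀ ≤ trdeg k₀ K) :
    ∃ E : L ≃+* K, ∀ r : R₀, E (algebraMap R₀ L r) = algebraMap R₀ K r := by
  have : Nontrivial R₀ := RingHom.domain_nontrivial (algebraMap R₀ K)
  have : FaithfulSMul R₀ K := (faithfulSMul_iff_algebraMap_injective R₀ K).mpr hK
  have : FaithfulSMul R₀ L := (faithfulSMul_iff_algebraMap_injective R₀ L).mpr hL
  have : IsDomain R₀ := hK.isDomain _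
  have hfin : trdeg k₀ R₀ < ℵ₀ := trdeg_lt_aleph0_of_finiteType
  have h1 : trdeg k₀ R₀ + trdeg R₀ K = trdeg k₀ K := trdeg_add_eq k₀ R₀
  have h2 : trdeg k₀ R₀ + trdeg R₀ L = trdeg k₀ L := trdeg_add_eq k₀ R₀
  have e1 : trdeg R₀ K = trdeg k₀ K :=
    Cardinal.eq_of_add_eq_of_aleph0_le h1 (hfin.trans_le hinf) hinf
  have e2 : trdeg R₀ L = trdeg k₀ L :=
    Cardinal.eq_of_add_eq_of_aleph0_le h2 (hfin.trans_le (htr ▸ hinf)) (htr ▸ hinf)
  obtain ⟨s, hs⟩ := exists_isTranscendenceBasis R₀ K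
  obtain ⟨t, ht⟩ := exists_isTranscendenceBasis R₀ L
  have hcard : #t = #s := by
    rw [ht.cardinalMk_eq_trdeg, hs.cardinalMk_eq_trdeg, e1, e2, htr]
  obtain ⟨e⟩ := Cardinal.eq.mp hcard
  exact exists_equiv_of_bases _ _ e ht hs
/-- Lemma G with ring homs instead of algebra instances -/
theorem lemmaG' {k₀ R₀ K L : Type u} [Field k₀] [CommRing R₀] [Field K] [Field L]
    [Algebra k₀ R₀] [Algebra.FiniteType k₀ R₀] [Algebra k₀ K] [Algebra k₀ L]
    [IsAlgClosed K] [IsAlgClosed L] (φK : R₀ →+* K) (φL : R₀ →+* L)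
    (hφK : ∀ c, algebraMap k₀ K c = φK (algebraMap k₀ R₀ c))
    (hφL : ∀ c, algebraMap k₀ L c = φL (algebraMap k₀ R₀ c))
    (hK : Function.Injective φK) (hL : Function.Injective φL)
    (htr : trdeg k₀ K = trdeg k₀ L) (hinf : ℵ₀ ≤ trdeg k₀ K) :
    ∃ E : L ≃+* K, ∀ r : R₀, E (φL r) = φK r := by
  letI := φK.toAlgebra
  letI := φL.toAlgebra
  haveI : IsScalarTower k₀ R₀ K := IsScalarTower.of_algebraMap_eq hφK
  haveI : IsScalarTower k₀ R₀ L := IsScalarTower.of_algebraMap_eq hφL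
  exact lemmaG (k₀ := k₀) (R₀ := R₀) hK hL htr hinf

/-- Let k₀ → k be an extension of fields with k algebraically closed and of infinite transcendence
degree over k₀, R₀ a finitely generated k₀-algebra whose base change R = k ⊗ R₀ is an integral
domain (so Spec R is an integral affine k-scheme of finite type with the model Spec R₀ over k₀), and
P a k-point of Spec R, i.e. a k-algebra homomorphism ev : R → k, lying over the generic point of
Spec R₀, i.e. with ev injective on R₀. Then there is a field isomorphism e from an algebraic closure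
of the fraction field of R (the function field of Spec R) onto k such that e(1 ⊗ r) = ev(1 ⊗ r) for
every r in R₀: e extends evaluation at P on R₀. (The published setting has k algebraically closed of
characteristic zero and of infinite transcendence degree over its prime field, and k₀ the subfield
generated by the coefficients of equations of Spec R, which is finitely generated over the prime
field, so that k has infinite transcendence degree over k₀; only this last property and no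
characteristic assumption enter here. The isomorphism is not canonical.) -/
theorem result (k₀ k : Type u)
    [Field k₀] [Field k] [Algebra k₀ k] [IsAlgClosed k] (hinf : ∃ x : ℕ → k, AlgebraicIndependent k₀ x)
    (R₀ : Type u) [CommRing R₀] [Algebra k₀ R₀] [Algebra.FiniteType k₀ R₀] [IsDomain (k ⊗[k₀] R₀)]
    (ev : k ⊗[k₀] R₀ →ₐ[k] k) (hP : Function.Injective fun r : R₀ => ev (1 ⊗ₜ[k₀] r)) :
    ∃ e : AlgebraicClosure (FractionRing (k ⊗[k₀] R₀)) ≃+* k,
      ∀ r : R₀, e (algebraMap (k ⊗[k₀] R₀) (AlgebraicClosure (FractionRing (k ⊗[k₀] R₀)))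
        (1 ⊗ₜ[k₀] r)) = ev (1 ⊗ₜ[k₀] r) := by
  classical
  obtain ⟨x, hx⟩ := hinf
  let incl : R₀ →ₐ[k₀] k ⊗[k₀] R₀ := Algebra.TensorProduct.includeRight
  have hincl : ∀ c : k₀, (1 : k) ⊗ₜ[k₀] (algebraMap k₀ R₀ c) = algebraMap k₀ (k ⊗[k₀] R₀) c := by
    intro c
    exact incl.commutes c
  let φK : R₀ →+* k := (ev : k ⊗[k₀] R₀ →+* k).comp (incl : R₀ →+* k ⊗[k₀] R₀)
  let φL : R₀ →+* AlgebraicClosure (FractionRing (k ⊗[k₀] R₀)) :=
    (algebraMap (k ⊗[k₀] R₀) (AlgebraicClosure (FractionRing (k ⊗[k₀] R₀)))).comp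
      (incl : R₀ →+* k ⊗[k₀] R₀)
  have hφK : ∀ c, algebraMap k₀ k c = φK (algebraMap k₀ R₀ c) := by
    intro c
    show _ = ev (1 ⊗ₜ[k₀] (algebraMap k₀ R₀ c))
    rw [hincl, IsScalarTower.algebraMap_apply k₀ k (k ⊗[k₀] R₀), ev.commutes]
    rfl
  have hφL : ∀ c, algebraMap k₀ (AlgebraicClosure (FractionRing (k ⊗[k₀] R₀))) c =
      φL (algebraMap k₀ R₀ c) := by
    intro c
    show _ = algebraMap (k ⊗[k₀] R₀) (AlgebraicClosure (FractionRing (k ⊗[k₀] R₀)))
      (1 ⊗ₜ[k₀] (algebraMap k₀ R₀ c))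
    rw [hincl, ← IsScalarTower.algebraMap_apply]
  have hK : Function.Injective φK := hP
  have hinclinj : Function.Injective (incl : R₀ →+* k ⊗[k₀] R₀) := by
    intro a b hab
    apply hP
    show ev (incl a) = ev (incl b)
    rw [show incl a = incl b from hab]
  have hRL : Function.Injective
      (algebraMap (k ⊗[k₀] R₀) (AlgebraicClosure (FractionRing (k ⊗[k₀] R₀)))) := by
    rw [IsScalarTower.algebraMap_eq (k ⊗[k₀] R₀) (FractionRing (k ⊗[k₀] R₀))
      (AlgebraicClosure (FractionRing (k ⊗[k₀] R₀)))]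
    exact (algebraMap (FractionRing (k ⊗[k₀] R₀))
      (AlgebraicClosure (FractionRing (k ⊗[k₀] R₀)))).injective.comp
      (IsFractionRing.injective (k ⊗[k₀] R₀) (FractionRing (k ⊗[k₀] R₀)))
  have hL : Function.Injective φL := hRL.comp hinclinj
  have hinf : ℵ₀ ≤ trdeg k₀ k := by
    have := hx.lift_cardinalMk_le_trdeg
    simpa using this
  -- transcendence degrees
  have : FaithfulSMul (k ⊗[k₀] R₀) (AlgebraicClosure (FractionRing (k ⊗[k₀] R₀))) :=
    (faithfulSMul_iff_algebraMap_injective _ _).mpr hRL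
  have halg1 : Algebra.IsAlgebraic (k ⊗[k₀] R₀) (FractionRing (k ⊗[k₀] R₀)) :=
    IsLocalization.isAlgebraic _ (nonZeroDivisors (k ⊗[k₀] R₀))
  have halg : Algebra.IsAlgebraic (k ⊗[k₀] R₀) (AlgebraicClosure (FractionRing (k ⊗[k₀] R₀))) :=
    Algebra.IsAlgebraic.trans (k ⊗[k₀] R₀) (FractionRing (k ⊗[k₀] R₀)) _
  have h0 : trdeg (k ⊗[k₀] R₀) (AlgebraicClosure (FractionRing (k ⊗[k₀] R₀))) = 0 :=
    trdeg_eq_zero
  have hfinR : trdeg k (k ⊗[k₀] R₀) < ℵ₀ := trdeg_lt_aleph0_of_finiteType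
  have h1 : trdeg k (k ⊗[k₀] R₀) +
      trdeg (k ⊗[k₀] R₀) (AlgebraicClosure (FractionRing (k ⊗[k₀] R₀))) =
      trdeg k (AlgebraicClosure (FractionRing (k ⊗[k₀] R₀))) := trdeg_add_eq k (k ⊗[k₀] R₀)
  have h2 : trdeg k₀ k + trdeg k (AlgebraicClosure (FractionRing (k ⊗[k₀] R₀))) =
      trdeg k₀ (AlgebraicClosure (FractionRing (k ⊗[k₀] R₀))) := trdeg_add_eq k₀ k
  have htr : trdeg k₀ k = trdeg k₀ (AlgebraicClosure (FractionRing (k ⊗[k₀] R₀))) := by
    rw [← h2, ← h1, h0, add_zero]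
    exact (Cardinal.add_eq_left hinf (hfinR.le.trans hinf)).symm
  obtain ⟨E, hE⟩ := lemmaG' (k₀ := k₀) φK φL hφK hφL hK hL htr hinf
  exact ⟨E, fun r => hE r⟩

end Groth.Agent.S16919
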