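import Groth.Statements.S1692
import Groth.Agent.Lib.Helper20AbsCurve

set_option autoImplicit false
universe u
open CategoryTheory CategoryTheory.Limits AlgebraicGeometry TopologicalSpace
open SDiv

namespace Groth.Agent.S1692

set_option linter.style.haveILetI false

open Groth.Agent.Lib.Helper20.AbsCurve

/-- the order of a section which is a unit at `ξ` vanishes. -/
theorem ord_algebraMap_eq_zero {X : Scheme.{u}} [IsIntegral X] [IsLocallyNoetherian X]
    {U : X.Opens} [Nonempty U] (a : Γ(X, U)) (ξ : X) (hξ : ξ ∈ U)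
    (hu : IsUnit (X.presheaf.germ U ξ hξ a)) :
    Scheme.ord (X.germToFunctionField U a) ξ = 0 := by
  have hξa : ξ ∈ X.basicOpen a := (X.mem_basicOpen a ξ hξ).2 hu
  haveI : Nonempty (X.basicOpen a) := ⟨⟨ξ, hξa⟩⟩
  have h1 : IsUnit (X.presheaf.map (homOfLE (X.basicOpen_le a)).op a) :=
    RingedSpace.isUnit_res_basicOpen _ a
  have h2 := Scheme.ord_of_isUnit h1 hξa
  have h3 : X.germToFunctionField (X.basicOpen a) (X.presheaf.map (homOfLE (X.basicOpen_le a)).op a) =
      X.germToFunctionField U a :=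
    X.presheaf.germ_res_apply (homOfLE (X.basicOpen_le a)) _ _ a
  rwa [h3] at h2

theorem result (X : Scheme.{u}) [IsIntegral X] [IsLocallyNoetherian X] (f : ↑X.functionField) (hf : f ≠ 0) :
    LocallyFinite (fun ξ : {ξ : ↥X // Order.coheight ξ = 1 ∧ Scheme.ord f ξ ≠ 0} => closure ({ξ.1} : Set ↥X)) := by
  intro x
  obtain ⟨_, ⟨U, hU, rfl⟩, hxU, -⟩ :=
    X.isBasis_affineOpens.exists_subset_of_mem_open (Set.mem_univ x) isOpen_univ
  haveI : Nonempty U := ⟨⟨x, hxU⟩⟩
  haveI : IsNoetherianRing Γ(X, U) := IsLocallyNoetherian.component_noetherian ⟨U, hU⟩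
  haveI := functionField_isFractionRing_of_isAffineOpen X U hU
  obtain ⟨a, b, hb, hab⟩ := IsFractionRing.div_surjective (A := Γ(X, U)) f
  refine ⟨U, U.isOpen.mem_nhds hxU, ?_⟩
  have hbne : algebraMap Γ(X, U) X.functionField b ≠ 0 :=
    IsFractionRing.to_map_ne_zero_of_mem_nonZeroDivisors hb
  have hfab : f * algebraMap Γ(X, U) X.functionField b = algebraMap Γ(X, U) X.functionField a := by
    rw [← hab, div_mul_cancel₀ _ hbne]
  have hane : algebraMap Γ(X, U) X.functionField a ≠ 0 := by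
    rw [← hfab]; exact mul_ne_zero hf hbne
  have ha : a ∈ nonZeroDivisors Γ(X, U) := by
    rw [mem_nonZeroDivisors_iff_ne_zero]
    rintro rfl
    exact hane (map_zero _)
  have hfa := finite_setOf_not_isUnit_germ hU a ha
  have hfb := finite_setOf_not_isUnit_germ hU b hb
  refine Set.Finite.of_finite_image (f := Subtype.val) ((hfa.union hfb).subset ?_)
    Subtype.val_injective.injOn
  rintro _ ⟨ξ, ⟨y, hyc, hyU⟩, rfl⟩
  have hξU : ξ.1 ∈ U := (specializes_iff_mem_closure.2 hyc).mem_open U.isOpen hyU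
  have hdim : ringKrullDim (X.presheaf.stalk ξ.1) = 1 := by
    rw [ringKrullDim_stalk_eq_coheight, ξ.2.1]; rfl
  by_contra hcon
  simp only [Set.mem_union, Set.mem_ofPred_eq, not_or, not_exists, not_and, not_not] at hcon
  have hua := hcon.1 hξU hdim
  have hub := hcon.2 hξU hdim
  have h1 := ord_algebraMap_eq_zero a ξ.1 hξU hua
  have h2 := ord_algebraMap_eq_zero b ξ.1 hξU hub
  have h3 : Scheme.ord (f * X.germToFunctionField U b) ξ.1 = Scheme.ord f ξ.1 +
      Scheme.ord (X.germToFunctionField U b) ξ.1 := Scheme.ord_mul hf hbne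
  have h4 : f * X.germToFunctionField U b = X.germToFunctionField U a := hfab
  rw [h4, h1, h2, add_zero] at h3
  exact ξ.2.2 h3.symm

end Groth.Agent.S1692
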