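import Groth.Statements.S16920
import Mathlib
import Groth.Agent.S15237

set_option autoImplicit false
open CategoryTheory AlgebraicGeometry
universe u
open Variety

namespace Groth.Agent.S16920


/-- Let k be an uncountable algebraically closed field, V an irreducible k-scheme of finite type and Z₀,
Z₁, … closed subsets of V, each different from V. Then the set of closed points of V lying in no Zₙ
is dense in V. (The published statement: a nonempty c-open subset of an irreducible quasi-projective
variety is Zariski dense, a variety being read through its closed points; nonemptiness of the c-open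
subset amounts to every Zₙ being a proper subset, while quasi-projectivity and the standing
characteristic-zero assumption play no role and are dropped.) -/
theorem result (k : Type u) [Field k] [IsAlgClosed k]
    [Uncountable k] (V : Scheme.{u}) (sV : V ⟶ Spec (CommRingCat.of k)) [IrreducibleSpace V]
    [LocallyOfFiniteType sV] [QuasiCompact sV] (Z : ℕ → TopologicalSpace.Closeds V)
    (hZ : ∀ n, (Z n : Set V) ≠ Set.univ) :
    Dense {x : V | IsClosed ({x} : Set V) ∧ ∀ n, x ∉ Z n} := by
  rw [dense_iff_inter_open]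
  intro U hU hUne
  obtain ⟨x0, hx0⟩ := hUne
  obtain ⟨W, hWaff, hx0W, hWU⟩ := TopologicalSpace.Opens.isBasis_iff_nbhd.mp V.isBasis_affineOpens
    (U := ⟨U, hU⟩) hx0
  haveI : IsAffine ↑W := hWaff
  haveI : Nonempty ↑W := ⟨⟨x0, hx0W⟩⟩
  haveI : IrreducibleSpace ↑W := (Scheme.Opens.ι W).isOpenEmbedding.irreducibleSpace
  haveI : JacobsonSpace V := LocallyOfFiniteType.jacobsonSpace sV
  haveI : LocallyOfFiniteType ((Scheme.Opens.ι W) ≫ sV) := inferInstance
  haveI : QuasiCompact ((Scheme.Opens.ι W) ≫ sV) := (HasAffineProperty.iff_of_isAffine (P := @QuasiCompact)).2 inferInstance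
  obtain ⟨Z', hZ'def⟩ : ∃ Z' : ℕ → TopologicalSpace.Closeds ↑W,
      ∀ n, (Z' n : Set ↑W) = (Scheme.Opens.ι W) ⁻¹' (Z n : Set V) :=
    ⟨fun n => ⟨(Scheme.Opens.ι W) ⁻¹' (Z n : Set V), (Z n).isClosed.preimage (Scheme.Opens.ι W).continuous⟩, fun n => rfl⟩
  have hZ' : ∀ n, (Z' n : Set ↑W) ≠ Set.univ := by
    intro n h
    apply hZ n
    have hsub : (W : Set V) ⊆ Z n := by
      intro y hy
      have h1 : (⟨y, hy⟩ : ↑W) ∈ (Z' n : Set ↑W) := h ▸ Set.mem_univ _
      rw [hZ'def] at h1
      exact h1
    have hdense : Dense (W : Set V) := W.isOpen.dense ⟨x0, hx0W⟩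
    have h2 : closure (W : Set V) ⊆ Z n := closure_minimal hsub (Z n).isClosed
    rw [hdense.closure_eq] at h2
    exact Set.eq_univ_of_univ_subset h2
  obtain ⟨x, hxcl, hxZ⟩ := Groth.Agent.S15237.result k ↑W ((Scheme.Opens.ι W) ≫ sV) Z' hZ'
  have hcl := (Scheme.Opens.ι W).isOpenEmbedding.preimage_closedPoints
  have hx1 : x ∈ (Scheme.Opens.ι W) ⁻¹' closedPoints V := by
    rw [hcl]
    exact hxcl
  refine ⟨(Scheme.Opens.ι W) x, hWU x.2, hx1, fun n hn => hxZ n ?_⟩
  change x ∈ (Z' n : Set ↑W)
  rw [hZ'def]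
  exact hn

end Groth.Agent.S16920
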