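import Groth.Statements.S1693
import Mathlib

set_option autoImplicit false
universe u
open CategoryTheory CategoryTheory.Limits AlgebraicGeometry TopologicalSpace
open SDiv

namespace Groth.Agent.S1693

theorem isIrreducible_preimage_val {X : Type*} [TopologicalSpace X] (Z : Set X) (K : Set X)
    (hK : IsIrreducible K) (hKZ : K ⊆ Z) : IsIrreducible ((↑) ⁻¹' K : Set Z) := by
  obtain ⟨⟨p, hp⟩, hpre⟩ := hK
  refine ⟨⟨⟨p, hKZ hp⟩, hp⟩, ?_⟩
  intro u v hu hv ⟨a, haK, hau⟩ ⟨b, hbK, hbv⟩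
  obtain ⟨u', hu', rfl⟩ := isOpen_induced_iff.1 hu
  obtain ⟨v', hv', rfl⟩ := isOpen_induced_iff.1 hv
  obtain ⟨q, hqK, hqu, hqv⟩ := hpre u' v' hu' hv' ⟨a.1, haK, hau⟩ ⟨b.1, hbK, hbv⟩
  exact ⟨⟨q, hKZ hqK⟩, hqK, hqu, hqv⟩

open TopologicalSpace in
theorem locallyFinite_irreducibleComponents_of_closed {X : Type*} [TopologicalSpace X] (Z : Set X)
    (hZ : IsClosed Z)
    (hX : ∀ x : X, ∃ U : Set X, IsOpen U ∧ x ∈ U ∧ NoetherianSpace U) :
    LocallyFinite (fun T : irreducibleComponents Z => ((↑) '' (T.1 : Set Z) : Set X)) := by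
  intro x
  obtain ⟨U, hUo, hxU, hUN⟩ := hX x
  refine ⟨U, hUo.mem_nhds hxU, ?_⟩
  have hCcl : IsClosed ((↑) ⁻¹' Z : Set U) := hZ.preimage continuous_subtype_val
  obtain ⟨S, hSfin, hScl, hSirr, hSU⟩ :=
    NoetherianSpace.exists_finite_set_isClosed_irreducible hCcl
  let g : Set U → Set Z := fun c => (↑) ⁻¹' closure ((↑) '' c : Set X)
  apply Set.Finite.of_finite_image (f := Subtype.val) _ Subtype.val_injective.injOn
  apply (hSfin.image g).subset
  rintro _ ⟨T, hT, rfl⟩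
  have hT' : (((↑) '' (T.1 : Set Z) : Set X) ∩ U).Nonempty := hT
  have hTirr : IsIrreducible (T.1 : Set Z) := T.2.1
  have hTXirr : IsIrreducible ((↑) '' (T.1 : Set Z) : Set X) :=
    hTirr.image _ continuous_subtype_val.continuousOn
  have hTXZ : ((↑) '' (T.1 : Set Z) : Set X) ⊆ Z := by
    rintro _ ⟨z, -, rfl⟩
    exact z.2
  -- TU
  have hTUirr : IsIrreducible ((↑) ⁻¹' ((↑) '' (T.1 : Set Z) : Set X) : Set U) := by
    refine ⟨?_, hTXirr.isPreirreducible.preimage hUo.isOpenEmbedding_subtypeVal⟩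
    obtain ⟨p, hpT, hpU⟩ := hT'
    exact ⟨⟨p, hpU⟩, hpT⟩
  have hTUsub : ((↑) ⁻¹' ((↑) '' (T.1 : Set Z) : Set X) : Set U) ⊆ ⋃₀ S := by
    rw [← hSU]
    intro p hp
    exact hTXZ hp
  lift S to Finset (Set U) using hSfin
  obtain ⟨c, hcS, hTc⟩ := isIrreducible_iff_sUnion_isClosed.1 hTUirr S hScl hTUsub
  refine ⟨c, hcS, ?_⟩
  have hcC : c ⊆ ((↑) ⁻¹' Z : Set U) := by
    rw [hSU]
    exact Set.subset_sUnion_of_mem hcS
  have hKirr : IsIrreducible (closure ((↑) '' c : Set X)) :=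
    ((hSirr c hcS).image _ continuous_subtype_val.continuousOn).closure
  have hKZ : closure ((↑) '' c : Set X) ⊆ Z := by
    apply closure_minimal _ hZ
    rintro _ ⟨p, hp, rfl⟩
    exact hcC hp
  apply le_antisymm
  · -- g c ⊆ T by maximality
    exact T.2.2 (isIrreducible_preimage_val Z _ hKirr hKZ) (by
      intro z hz
      have h1 : z.1 ∈ ((↑) '' (T.1 : Set Z) : Set X) := ⟨z, hz, rfl⟩
      have h2 := subset_closure_inter_of_isPreirreducible_of_isOpen hTXirr.isPreirreducible hUo hT' h1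
      refine closure_mono ?_ h2
      rintro p ⟨hpT, hpU⟩
      exact ⟨⟨p, hpU⟩, hTc hpT, rfl⟩)
  · intro z hz
    have h1 : z.1 ∈ ((↑) '' (T.1 : Set Z) : Set X) := ⟨z, hz, rfl⟩
    have h2 := subset_closure_inter_of_isPreirreducible_of_isOpen hTXirr.isPreirreducible hUo hT' h1
    refine closure_mono ?_ h2
    rintro p ⟨hpT, hpU⟩
    exact ⟨⟨p, hpU⟩, hTc hpT, rfl⟩

/-- Let X be a locally Noetherian scheme and Z a closed subset. Then the irreducible components of Z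
form a locally finite family of subsets of X. -/
theorem result (X : Scheme.{u}) [IsLocallyNoetherian X] (Z : Set ↥X) (hZ : IsClosed Z) :
    LocallyFinite (fun T : ↥(irreducibleComponents ↥Z) => ((↑) '' (T.1 : Set ↥Z) : Set ↥X)) := by
  apply locallyFinite_irreducibleComponents_of_closed Z hZ
  intro x
  obtain ⟨_, ⟨U, hU, rfl⟩, hxU, -⟩ :=
    X.isBasis_affineOpens.exists_subset_of_mem_open (Set.mem_univ x) isOpen_univ
  have hA : IsNoetherianRing Γ(X, U) := IsLocallyNoetherian.component_noetherian ⟨U, hU⟩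
  exact ⟨U, U.2, hxU, noetherianSpace_of_isAffineOpen U hU⟩

end Groth.Agent.S1693
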