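import Groth.Statements.S16951
import Groth.Agent.Lib.Helper2PullIffD

set_option autoImplicit false
universe u
open PicF

namespace Groth.Agent.S16951

open AlgebraicGeometry CategoryTheory Scheme.Modules in
/-- Let f : X → S be a proper flat morphism of locally Noetherian schemes whose fibres are geometrically
integral, and let L be an invertible O_X-module with an inverse M (an isomorphism L ⊗ M ≅ O_X). Then
the following are equivalent: (a) L ≅ f^* L₀ for some invertible O_S-module L₀; (b) for N = L and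
for N = M, at every point s of S the space H^0(X_s, N|_{X_s}) of sections over the scheme-theoretic
fibre is nonzero and the degree-0 base change map of the fibre square, κ(s)^* f_* N → (X_s → Spec
κ(s))_* (N|_{X_s}), is an epimorphism. When this holds, dim_{κ(s)} H^0(X_s, N|_{X_s}) = 1 for every
s and both N, the counit f^* f_* L → L is an isomorphism, and any invertible L₀ with L ≅ f^* L₀ is
isomorphic to f_* L. -/
theorem result
    {X S : Scheme.{u}} (f : X ⟶ S) [IsProper f] [Flat f] [IsLocallyNoetherian X] [IsLocallyNoetherian S]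
    [GeometricallyIntegral f] (L M : X.Modules) (hL : PicF.IsInvertible L)
    (hM : Nonempty (CohB1.tensorMod L M ≅ Coh.structureModule X)) :
    ((∃ L₀ : S.Modules, PicF.IsInvertible L₀ ∧ Nonempty (L ≅ (pullback f).obj L₀)) ↔
      ((∀ s : S, Nontrivial (CohIII.fiberH f L s 0)) ∧ (∀ s : S, Nontrivial (CohIII.fiberH f M s 0)) ∧
        (∀ s : S, Epi (CohBC.bc0 f (S.fromSpecResidueField s) (f.fiberToSpecResidueField s) (f.fiberι s) (f.fiber_fac s) L)) ∧ (∀ s : S, Epi (CohBC.bc0 f (S.fromSpecResidueField s) (f.fiberToSpecResidueField s) (f.fiberι s) (f.fiber_fac s) M)))) ∧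
    (((∀ s : S, Nontrivial (CohIII.fiberH f L s 0)) ∧ (∀ s : S, Nontrivial (CohIII.fiberH f M s 0)) ∧
        (∀ s : S, Epi (CohBC.bc0 f (S.fromSpecResidueField s) (f.fiberToSpecResidueField s) (f.fiberι s) (f.fiber_fac s) L)) ∧ (∀ s : S, Epi (CohBC.bc0 f (S.fromSpecResidueField s) (f.fiberToSpecResidueField s) (f.fiberι s) (f.fiber_fac s) M))) →
      (∀ s : S, CohIII.fiberRank f L 0 s = 1 ∧ CohIII.fiberRank f M 0 s = 1) ∧
      IsIso ((pullbackPushforwardAdjunction f).counit.app L) ∧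
      ∀ L₀ : S.Modules, PicF.IsInvertible L₀ → Nonempty (L ≅ (pullback f).obj L₀) →
        Nonempty (L₀ ≅ (pushforward f).obj L)) := by
  obtain ⟨eLM⟩ := hM
  obtain ⟨h1, h2⟩ := Groth.Agent.Lib.Helper2.PullIffD.core f
  have eML : CohB1.tensorMod M L ≅ Coh.structureModule X :=
    Groth.Agent.Lib.Helper21.ModTensor5.brdApp X.sheaf M L ≪≫ eLM
  have hMinv : PicF.IsInvertible M :=
    Groth.Agent.Lib.Helper2.TensorInv.isInvertible_of_tensor_iso M L eML
  refine ⟨⟨?_, ?_⟩, ?_⟩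
  · rintro ⟨L₀, hL₀, ⟨e⟩⟩
    obtain ⟨M₀, hM₀, ⟨e₀⟩, ⟨e₀'⟩⟩ := Groth.Agent.Lib.Helper17.ProjFormulaD.nonempty_inverse L₀ hL₀
    have Φ : CohB1.tensorMod M L ≅ CohB1.tensorMod ((pullback f).obj M₀) L :=
      eML ≪≫ (PicGrp.tensorModIso (Iso.refl ((pullback f).obj M₀)) e ≪≫
        Groth.Agent.Lib.Helper27ProjFormula.plbInv f M₀ L₀ e₀').symm
    obtain ⟨eM⟩ := Groth.Agent.Lib.Helper2.BoxPicC.nonempty_iso_of_tensor_right M
      ((pullback f).obj M₀) L M eLM Φ
    obtain ⟨a1, a2, -⟩ := h2 L L₀ hL₀ e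
    obtain ⟨b1, b2, -⟩ := h2 M M₀ hM₀ eM
    exact ⟨a1, b1, a2, b2⟩
  · rintro ⟨hL0, hM0, hLe, hMe⟩
    obtain ⟨-, hinv, hiso⟩ := h1 L M hL eLM hL0 hM0 hLe
    exact ⟨(pushforward f).obj L, hinv, ⟨(asIso ((pullbackPushforwardAdjunction f).counit.app L)).symm⟩⟩
  · rintro ⟨hL0, hM0, hLe, hMe⟩
    obtain ⟨hrL, hinv, hiso⟩ := h1 L M hL eLM hL0 hM0 hLe
    obtain ⟨hrM, -, -⟩ := h1 M L hMinv eML hM0 hL0 hMe
    exact ⟨fun s => ⟨hrL s, hrM s⟩, hiso, fun L₀ hL₀ ⟨e⟩ => (h2 L L₀ hL₀ e).2.2⟩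

end Groth.Agent.S16951
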