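import Groth.Statements.S16953
import Mathlib
import Groth.Agent.Lib.Helper23PushEdge
import Groth.Agent.S0028
-- import your own Groth.Agent.* helpers here

set_option autoImplicit false
universe u
open Coherent

namespace Groth.Agent.S16953


open AlgebraicGeometry CategoryTheory Scheme.Modules in
open AlgebraicGeometry CategoryTheory Scheme.Modules in
/-- Let f : X → Y be an affine morphism of schemes and F a quasi-coherent O_X-module. Then the canonical
map H^1(Y, f_* F) → H^1(X, F) (the edge map: pullback of cohomology classes along f followed by the
map induced by the counit f^* f_* F → F) is bijective. -/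
theorem result
    {X Y : Scheme.{u}} (f : X ⟶ Y) [IsAffineHom f] (F : X.Modules) [Coh.IsQCoh F] :
    Function.Bijective (CohPull.pushEdge f F 1) := by
  exact Groth.Agent.Lib.Helper23.PushEdge.pushEdge_bijective_of_isZeroAb f F
    (fun q hq => Groth.Agent.S0028.result f F q hq) 1

end Groth.Agent.S16953
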