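import Groth.Statements.S16962
import Groth.Agent.Lib.Helper25ConstAct

set_option autoImplicit false
universe u
open ConstAct

namespace Groth.Agent.S16962

open TensorProduct in
/-- Let R be a commutative ring, Γ a finite group and B a commutative R-algebra equipped with a comodule
structure over the Hopf algebra of R-valued functions on Γ (the coordinate ring of the constant
group scheme of Γ over Spec R, with basis the indicator functions e_γ) whose coaction B → B ⊗ Fun(Γ,
R) is a homomorphism of algebras, i.e. an action of the constant group scheme on Spec B. Then there
is exactly one action of Γ on B by R-algebra automorphisms whose associated coaction b ↦ Σ_γ (γ · b)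
⊗ e_γ is the given coaction; and for that action the ring of invariants of the comodule algebra (the
b whose coaction is b ⊗ 1) equals the ring of elements fixed by Γ. (That the coaction associated
with an action is a comodule algebra structure is the other direction of the published equivalence
and is a construction here.) -/
theorem result (R : Type u) [CommRing R]
    (B : Type u) [CommRing B] [Algebra R B] (Γ : Type u) [Group Γ] [Fintype Γ] [DecidableEq Γ]
    [HopfRep.Comod R (ConstGrp.F R Γ) B] [GLin.IsCoactAlg R (ConstGrp.F R Γ) B] :
    ∃! a : MulSemiringAction Γ B, ∃ _ : SMulCommClass Γ R B,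
      ConstAct.coactLin R B Γ = HopfRep.Comod.coact (k := R) (A := ConstGrp.F R Γ) (V := B) ∧
        GLin.invariants R (ConstGrp.F R Γ) B = ConstAct.inv R B Γ := by
  refine ⟨Groth.Agent.Lib.Helper25.ConstActLib.act R B Γ,
    ⟨Groth.Agent.Lib.Helper25.ConstActLib.act_smulCommClass R B Γ,
      Groth.Agent.Lib.Helper25.ConstActLib.coactLin_act R B Γ,
      Groth.Agent.Lib.Helper25.ConstActLib.invariants_act R B Γ⟩, ?_⟩
  rintro a' ⟨hc, h1, -⟩
  apply Groth.Agent.Lib.Helper25.ConstActLib.mulSemiringAction_ext
  intro γ b
  exact Groth.Agent.Lib.Helper25.ConstActLib.smul_eq_of_coactLin_eq R B Γ a' hc h1 γ b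

end Groth.Agent.S16962
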