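import Groth.Statements.S16963


set_option autoImplicit false
universe u
open scoped BigOperators
open ConstAct

namespace Groth.Agent.S16963

open TensorProduct in
/-- Let R be a commutative ring and Γ a finite group acting on a commutative R-algebra B by R-algebra
automorphisms; regard B as a comodule algebra over the Hopf algebra of R-valued functions on Γ (the
constant group scheme of Γ acting on Spec B) through the coaction b ↦ Σ_γ (γ · b) ⊗ e_γ. Then the
action is tame — there is a comodule map α from the Hopf algebra, with its regular coaction, to B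
with α(1) = 1 (a total integral) — if and only if the trace b ↦ Σ_γ γ · b, which takes values in the
ring of invariants B^Γ, maps B onto B^Γ. -/
theorem result (R : Type u) [CommRing R]
    (B : Type u) [CommRing B] [Algebra R B] (Γ : Type u) [Group Γ] [Fintype Γ] [DecidableEq Γ]
    [MulSemiringAction Γ B] [SMulCommClass Γ R B] :
    letI := ConstAct.comod R B Γ
    (∃ α : ConstGrp.F R Γ →ₗ[R] B, Hoch.IsComodHom (ConstGrp.F R Γ) α ∧ α 1 = 1) ↔
      ∀ c : B, c ∈ ConstAct.inv R B Γ → ∃ b : B, ∑ γ : Γ, γ • b = c := by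
  classical
  letI := ConstAct.comod R B Γ
  constructor
  · rintro ⟨α, hα, hα1⟩ c hc
    -- extraction functional
    let ψ : Γ → (B ⊗[R] ConstGrp.F R Γ →ₗ[R] B) := fun h =>
      (TensorProduct.rid R B).toLinearMap ∘ₗ (LinearMap.lTensor B (ConstGrp.ev R h).toLinearMap)
    have hψ : ∀ h (x : B) (f : ConstGrp.F R Γ), ψ h (x ⊗ₜ[R] f) = f h • x := by
      intro h x f
      simp [ψ]
    have hcomm : ∀ f, ConstAct.coactLin R B Γ (α f) =
        (α.rTensor (ConstGrp.F R Γ)) (Coalgebra.comul (R := R) f) := by
      intro f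
      exact LinearMap.congr_fun hα f
    have key : ∀ h : Γ, h • α (ConstGrp.e R 1) = α (ConstGrp.e R h⁻¹) := by
      intro h
      have h1 := congrArg (ψ h) (hcomm (ConstGrp.e R 1))
      rw [ConstAct.coactLin_apply, ConstGrp.comul_e, map_sum, map_sum, map_sum] at h1
      simp only [LinearMap.rTensor_tmul, hψ, ConstGrp.e_apply] at h1
      simp only [ite_smul, one_smul, zero_smul, mul_one] at h1
      rw [Finset.sum_ite_eq, if_pos (Finset.mem_univ _)] at h1
      rw [h1]
      rw [Finset.sum_eq_single h⁻¹]
      · simp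
      · intro a _ ha
        rw [if_neg]
        intro h2
        apply ha
        rw [h2, inv_inv]
      · intro h2; exact absurd (Finset.mem_univ _) h2
    have htr : ∑ γ : Γ, γ • α (ConstGrp.e R 1) = 1 := by
      simp_rw [key]
      rw [← map_sum]
      rw [Fintype.sum_equiv (Equiv.inv Γ) (fun h => ConstGrp.e R h⁻¹) (fun g => ConstGrp.e R g)
        (fun h => rfl)]
      rw [ConstGrp.sum_e, hα1]
    refine ⟨c * α (ConstGrp.e R 1), ?_⟩
    have hc' : ∀ g : Γ, g • c = c := (ConstAct.mem_inv R B Γ c).mp hc
    simp_rw [smul_mul', hc']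
    rw [← Finset.mul_sum, htr, mul_one]
  · intro hsurj
    obtain ⟨b, hb⟩ := hsurj 1 ((ConstAct.inv R B Γ).one_mem)
    let α : ConstGrp.F R Γ →ₗ[R] B :=
      ∑ g : Γ, (LinearMap.toSpanSingleton R B (g⁻¹ • b)) ∘ₗ (ConstGrp.ev R g).toLinearMap
    have hαe : ∀ g, α (ConstGrp.e R g) = g⁻¹ • b := by
      intro g
      simp only [α, LinearMap.sum_apply, LinearMap.comp_apply, AlgHom.toLinearMap_apply,
        ConstGrp.ev_apply, LinearMap.toSpanSingleton_apply, ConstGrp.e_apply]
      simp only [ite_smul, one_smul, zero_smul]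
      rw [Finset.sum_ite_eq', if_pos (Finset.mem_univ _)]
    refine ⟨α, ?_, ?_⟩
    · apply ConstGrp.linearMap_ext
      intro g
      change ConstAct.coactLin R B Γ (α (ConstGrp.e R g)) =
        (α.rTensor (ConstGrp.F R Γ)) (Coalgebra.comul (R := R) (ConstGrp.e R g))
      rw [ConstAct.coactLin_apply, ConstGrp.comul_e, map_sum, hαe]
      simp only [LinearMap.rTensor_tmul, hαe]
      refine Fintype.sum_equiv ((Equiv.inv Γ).trans (Equiv.mulRight g)).symm _ _ (fun h => ?_)
      simp [mul_smul]
    · rw [← ConstGrp.sum_e, map_sum]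
      simp_rw [hαe]
      rw [Fintype.sum_equiv (Equiv.inv Γ) (fun h => h⁻¹ • b) (fun g => g • b) (fun h => rfl)]
      exact hb

end Groth.Agent.S16963
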