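import Groth.Statements.S16966
import Groth.Agent.Lib.Helper4CurveCliff2
import Groth.Agent.Lib.Helper6SSVanish

set_option autoImplicit false
universe u
open CategoryTheory CategoryTheory.Limits AlgebraicGeometry Opposite
open Curves

namespace Groth.Agent.S16966

/-- Let X be a smooth projective curve over an algebraically closed field k of characteristic 0 (an
integral scheme, proper over k, of dimension one, with all local rings regular), of genus g ≥ 1, and
L an invertible O_X-module with deg L > 2g. Then the morphism to projective space given by the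
complete linear system of L is linearly stable, stated through the criterion by invertible
subsheaves: for every invertible module M and every monomorphism ι : M ⟶ L that is not an
isomorphism, with dim_k H^0(X, M) ≥ 2, one has deg L · (h^0(M) - 1) < deg M · (h^0(L) - 1), i.e. the
reduced degree deg M / (h^0(M) - 1) of the projection exceeds the reduced degree deg L / (h^0(L) -
1). Degrees are χ(·) - χ(O_X). -/
theorem result (k : Type u) [Field k] [IsAlgClosed k] [CharZero k] (X : Scheme.{u}) [X.Over (Spec (CommRingCat.of k))]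
    [IsIntegral X] [IsProper (X ↘ (Spec (CommRingCat.of k)))] (hdim : topologicalKrullDim X = 1)
    (hreg : ∀ x : X, IsRegularLocalRing (X.presheaf.stalk x))
    (hg : 1 ≤ Curv2.genus k X) (L : X.Modules) (hL : PicF.IsInvertible L)
    (hdeg : 2 * (Curv2.genus k X : ℤ) < Curv2.deg k X L 1)
    (M : X.Modules) (hM : PicF.IsInvertible M) (ι : M ⟶ L) [Mono ι] (hι : ¬ IsIso ι)
    (h2 : 2 ≤ Module.finrank k (Coh.HH X M 0)) :
    Curv2.deg k X L 1 * ((Module.finrank k (Coh.HH X M 0) : ℤ) - 1) <
      Curv2.deg k X M 1 * ((Module.finrank k (Coh.HH X L 0) : ℤ) - 1) := by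
  haveI : IsLocallyNoetherian X :=
    LocallyOfFiniteType.isLocallyNoetherian (X ↘ (Spec (CommRingCat.of k)))
  have hpid := Groth.Agent.Lib.Helper4.CurveNorm.pidStalks_of_regular X hdim.le hreg
  have cM := Groth.Agent.Lib.Helper6.CurveDeg.isCoh_of_isInvertible M hM
  haveI : Module.Finite k (Coh.HH X M 0) := Groth.Agent.S0002.result k X M cM 0
  have hι0 : ι ≠ 0 := by
    intro h
    have hz : IsZero M := by
      rw [IsZero.iff_id_eq_zero]
      apply (cancel_mono ι).1
      rw [h, comp_zero, zero_comp]
    haveI := Groth.Agent.Lib.Helper6.SSVanish.HH_subsingleton_of_isZero k M hz 0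
    rw [Module.finrank_zero_of_subsingleton] at h2
    omega
  obtain ⟨heul, hiso⟩ := Groth.Agent.Lib.Helper6.CurveDeg.main k X hdim M L hM hL ι hι0
  have hq : 1 ≤ Module.finrank k (Coh.HH X (CategoryTheory.Limits.cokernel ι) 0) := by
    by_contra hcon
    exact hι (hiso (by omega))
  have hq' : (1 : ℤ) ≤ (Module.finrank k (Coh.HH X (CategoryTheory.Limits.cokernel ι) 0) : ℤ) := by
    exact_mod_cast hq
  have hdd : Curv2.deg k X M 1 < Curv2.deg k X L 1 := by
    unfold Curv2.deg
    linarith
  have hH1 : Module.finrank k (Coh.HH X L 1) = 0 := by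
    by_contra hne
    have hnt : Nontrivial (Coh.HH X L 1) :=
      Module.nontrivial_of_finrank_pos (R := k) (Nat.pos_of_ne_zero hne)
    have h := Groth.Agent.Lib.Helper4.CurveSpecial.deg_le_of_H1_nontrivial k X hdim L hL hnt
    rw [Groth.Agent.Lib.Helper4.CurveDegSec.finrank_hh0_eq_one_of_isAlgClosed k X] at h
    push_cast at h
    linarith
  have hL0 := Groth.Agent.Lib.Helper4.CurveCliff.h0_eq_of_nonspecial k X hdim L hL hH1
  have hst := Groth.Agent.Lib.Helper4.CurveCliff.linear_stable k X hpid hdim hg
    (Curv2.deg k X L 1) hdeg M hM (Module.finrank k (Coh.HH X M 0) - 1) (by omega) (by omega)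
    hdd.le (Or.inl hdd)
  have hcast : ((Module.finrank k (Coh.HH X M 0) - 1 : ℕ) : ℤ) =
      (Module.finrank k (Coh.HH X M 0) : ℤ) - 1 := by
    have : 1 ≤ Module.finrank k (Coh.HH X M 0) := by omega
    push_cast [this]
    ring
  rw [hcast] at hst
  rw [hL0]
  have : Curv2.deg k X L 1 + 1 - (Curv2.genus k X : ℤ) - 1 =
      Curv2.deg k X L 1 - (Curv2.genus k X : ℤ) := by ring
  rw [this]
  exact hst

end Groth.Agent.S16966
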