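import Groth.Statements.S16979
import Mathlib.FieldTheory.IsAlgClosed.AlgebraicClosure
import Mathlib.FieldTheory.Separable
import Mathlib.LinearAlgebra.Eigenspace.Charpoly
import Mathlib.LinearAlgebra.Eigenspace.Minpoly
import Mathlib.LinearAlgebra.Matrix.Charpoly.Coeff
import Mathlib.LinearAlgebra.Charpoly.ToMatrix

set_option autoImplicit false
universe u v
open CAlg

namespace Groth.Agent.S16979

open Polynomial in
lemma dvd_of_aeval_eq_zero_of_separable {L : Type*} [Field L] [IsAlgClosed L]
    {n : Type*} [Fintype n] [DecidableEq n] (M : Matrix n n L) (hsep : M.charpoly.Separable)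
    (g : L[X]) (hg : Polynomial.aeval M g = 0) : M.charpoly ∣ g := by
  classical
  by_cases hg0 : g = 0
  · rw [hg0]; exact dvd_zero _
  have hχ0 : M.charpoly ≠ 0 := (Matrix.charpoly_monic M).ne_zero
  rw [IsAlgClosed.dvd_iff_roots_le_roots hχ0 hg0, Multiset.le_iff_subset (nodup_roots hsep)]
  intro a ha
  rw [mem_roots hχ0] at ha
  rw [mem_roots hg0]
  rw [← Matrix.charpoly_toLin', ← Module.End.hasEigenvalue_iff_isRoot_charpoly] at ha
  obtain ⟨v, hv⟩ := ha.exists_hasEigenvector
  have h1 : Polynomial.aeval (Matrix.toLin' M) g = 0 := by
    have : Matrix.toLin' M = Matrix.toLinAlgEquiv' M := rfl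
    rw [this, Polynomial.aeval_algHom_apply, hg, map_zero]
  have h2 := Module.End.aeval_apply_of_hasEigenvector (p := g) hv
  rw [h1, LinearMap.zero_apply] at h2
  rcases smul_eq_zero.mp h2.symm with h | h
  · exact h
  · exact absurd h hv.2

/-- Let R be an integral domain with fraction field K and φ a square matrix over R whose characteristic
polynomial becomes separable in K[T] (equivalently, K[T] modulo the characteristic polynomial is
geometrically reduced over K). Then a polynomial f over R satisfies f(φ) = 0 exactly when the
characteristic polynomial of φ divides f in R[T]: the kernel of evaluation at φ (the minimal ideal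
of φ) is the principal ideal generated by the characteristic polynomial. -/
theorem result
    {R : Type u} [CommRing R] [IsDomain R] {n : Type v} [Fintype n] [DecidableEq n]
    (φ : Matrix n n R)
    (hsep : (φ.charpoly.map (algebraMap R (FractionRing R))).Separable) :
    RingHom.ker (Polynomial.aeval (R := R) φ) = Ideal.span {φ.charpoly} := by
  classical
  apply le_antisymm
  · intro f hf
    rw [RingHom.mem_ker] at hf
    rw [Ideal.mem_span_singleton]
    let K := FractionRing R
    let L := AlgebraicClosure K
    have hinj : Function.Injective (algebraMap R L) := by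
      rw [IsScalarTower.algebraMap_eq R K L]
      exact (algebraMap K L).injective.comp (IsFractionRing.injective R K)
    rw [← Polynomial.map_dvd_map (algebraMap R L) hinj φ.charpoly_monic]
    rw [← Matrix.charpoly_map]
    apply dvd_of_aeval_eq_zero_of_separable
    · rw [Matrix.charpoly_map, IsScalarTower.algebraMap_eq R K L, ← Polynomial.map_map]
      exact hsep.map
    · rw [Polynomial.aeval_map_algebraMap]
      have : φ.map (algebraMap R L) = (Algebra.ofId R L).mapMatrix φ := rfl
      rw [this, Polynomial.aeval_algHom_apply, hf, map_zero]
  · rw [Ideal.span_le, Set.singleton_subset_iff]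
    exact RingHom.mem_ker.mpr (Matrix.aeval_self_charpoly φ)

end Groth.Agent.S16979
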