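import Groth.Statements.S16980
import Mathlib
-- import your own Groth.Agent.* helpers here

set_option autoImplicit false
set_option linter.style.haveILetI false
set_option linter.unusedSectionVars false
universe u
open CAlg

namespace Groth.Agent.S16980

open TensorProduct in
/-- A derivation killed by `I` vanishes on elements of `I` whose conormal image vanishes. -/
theorem d_eq_zero_of_kerToTensor {R S M : Type*} [CommRing R] [CommRing S] [Algebra R S]
    [AddCommGroup M] [Module R M] [Module S M] [IsScalarTower R S M] (I : Ideal S)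
    (d : Derivation R S M) (hd : ∀ i ∈ I, ∀ a, i • d a = 0)
    (x : RingHom.ker (algebraMap S (S ⧸ I)))
    (hx : KaehlerDifferential.kerToTensor R S (S ⧸ I) x = 0) : d (x : S) = 0 := by
  have hkill : ∀ i ∈ I, ∀ ω : Ω[S⁄R], i • d.liftKaehlerDifferential ω = 0 := by
    intro i hi ω
    have hω : ω ∈ Submodule.span S (Set.range (KaehlerDifferential.D R S)) := by
      rw [KaehlerDifferential.span_range_derivation]; trivial
    induction hω using Submodule.span_induction with
    | mem y hy =>
      obtain ⟨a, rfl⟩ := hy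
      rw [Derivation.liftKaehlerDifferential_comp_D]
      exact hd i hi a
    | zero => simp
    | add y z _ _ hy hz => rw [map_add, smul_add, hy, hz, add_zero]
    | smul s y _ hy => rw [map_smul, smul_comm, hy, smul_zero]
  let f : S →ₗ[S] (Ω[S⁄R] →ₗ[S] M) := LinearMap.toSpanSingleton S _ d.liftKaehlerDifferential
  have hf : I ≤ LinearMap.ker f := by
    intro i hi
    rw [LinearMap.mem_ker]
    ext ω
    simp only [f, LinearMap.toSpanSingleton_apply]
    exact hkill i hi _
  let L : (S ⧸ I) ⊗[S] Ω[S⁄R] →ₗ[S] M := TensorProduct.lift (Submodule.liftQ I f hf)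
  have hL : L (KaehlerDifferential.kerToTensor R S (S ⧸ I) x) = d (x : S) := by
    rw [KaehlerDifferential.kerToTensor_apply]
    have h1 : (1 : S ⧸ I) = Submodule.Quotient.mk (1 : S) := rfl
    rw [h1]
    simp only [L, TensorProduct.lift.tmul, Submodule.liftQ_apply, f,
      LinearMap.toSpanSingleton_apply, one_smul]
    exact Derivation.liftKaehlerDifferential_comp_D d _
  rw [← hL, hx, map_zero]
section Laurent

open LaurentPolynomial TrivSqZeroExt

variable (A : Type u) [CommRing A] (J : Type u) [AddCommGroup J] [Module A J] [Module Aᵐᵒᵖ J]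
    [IsCentralScalar A J]

/-- The `ε`-part endomorphism of `A ⊕ εJ`, an `A`-derivation. -/
noncomputable def eLin : TrivSqZeroExt A J →ₗ[A] TrivSqZeroExt A J :=
  (inrHom A J).comp (sndHom A J)

theorem eLin_apply (a : TrivSqZeroExt A J) : eLin A J a = inr a.snd := rfl

theorem eLin_mul (a b : TrivSqZeroExt A J) :
    eLin A J (a * b) = a * eLin A J b + b * eLin A J a := by
  simp only [eLin_apply]
  ext
  · simp
  · simp [op_smul_eq_smul, add_comm]

theorem eLin_mem (a : TrivSqZeroExt A J) : eLin A J a ∈ kerIdeal A J := by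
  rw [mem_kerIdeal_iff_inr, eLin_apply, snd_inr]

theorem eLin_of_mem (a : TrivSqZeroExt A J) (ha : a ∈ kerIdeal A J) : eLin A J a = a := by
  rw [mem_kerIdeal_iff_inr] at ha
  rw [eLin_apply, ← ha]

/-- Coefficientwise `ε`-part on Laurent polynomials, as an `A`-linear map. -/
noncomputable def dLin :
    (TrivSqZeroExt A J)[T;T⁻¹] →ₗ[A] (TrivSqZeroExt A J)[T;T⁻¹] where
  toFun c := AddMonoidAlgebra.map (eLin A J).toAddMonoidHom c
  map_add' c c' := AddMonoidAlgebra.map_add _ c c'
  map_smul' a c := by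
    induction c using AddMonoidAlgebra.induction_linear with
    | zero => simp
    | add c c' hc hc' =>
      rw [smul_add, AddMonoidAlgebra.map_add, hc, hc', AddMonoidAlgebra.map_add, smul_add]
    | single n r =>
      simp only [RingHom.id_apply]
      rw [AddMonoidAlgebra.smul_single, AddMonoidAlgebra.map_single, AddMonoidAlgebra.map_single,
        AddMonoidAlgebra.smul_single]
      congr 1
      exact map_smul (eLin A J) a r

theorem dLin_single (n : ℤ) (r : TrivSqZeroExt A J) :
    dLin A J (AddMonoidAlgebra.single n r) = AddMonoidAlgebra.single n (eLin A J r) := by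
  show AddMonoidAlgebra.map _ (AddMonoidAlgebra.single n r) = _
  rw [AddMonoidAlgebra.map_single]
  rfl

theorem dLin_mul (c c' : (TrivSqZeroExt A J)[T;T⁻¹]) :
    dLin A J (c * c') = c * dLin A J c' + c' * dLin A J c := by
  induction c using AddMonoidAlgebra.induction_linear with
  | zero => simp
  | add c₁ c₂ h₁ h₂ =>
    rw [add_mul, map_add, h₁, h₂, map_add]; ring
  | single n r =>
    induction c' using AddMonoidAlgebra.induction_linear with
    | zero => simp
    | add c₁ c₂ h₁ h₂ =>
      rw [mul_add, map_add, h₁, h₂, map_add]; ring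
    | single m s =>
      rw [AddMonoidAlgebra.single_mul_single, dLin_single, dLin_single, dLin_single,
        AddMonoidAlgebra.single_mul_single, AddMonoidAlgebra.single_mul_single, eLin_mul,
        AddMonoidAlgebra.single_add, add_comm m n]

/-- Coefficientwise `ε`-part on Laurent polynomials, as an `A`-derivation. -/
noncomputable def dDer :
    Derivation A (TrivSqZeroExt A J)[T;T⁻¹] (TrivSqZeroExt A J)[T;T⁻¹] :=
  Derivation.mk' (dLin A J) (fun a b => by simpa [smul_eq_mul] using dLin_mul A J a b)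

theorem dDer_apply (c : (TrivSqZeroExt A J)[T;T⁻¹]) : dDer A J c = dLin A J c := rfl

/-- The square-zero ideal of the Laurent polynomial ring. -/
noncomputable def KK : Ideal (TrivSqZeroExt A J)[T;T⁻¹] :=
  Ideal.map (algebraMap (TrivSqZeroExt A J) (TrivSqZeroExt A J)[T;T⁻¹]) (kerIdeal A J)

theorem KK_mul : KK A J * KK A J = ⊥ := by
  unfold KK
  rw [← Ideal.map_mul, ← pow_two, kerIdeal_sq, Ideal.map_bot]

theorem dLin_mem (c : (TrivSqZeroExt A J)[T;T⁻¹]) : dLin A J c ∈ KK A J := by
  induction c using AddMonoidAlgebra.induction_linear with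
  | zero => simp
  | add c₁ c₂ h₁ h₂ => rw [map_add]; exact Ideal.add_mem _ h₁ h₂
  | single n r =>
    rw [dLin_single, LaurentPolynomial.single_eq_C_mul_T, LaurentPolynomial.C_eq_algebraMap]
    exact Ideal.mul_mem_right _ _ (Ideal.mem_map_of_mem _ (eLin_mem A J r))

theorem dLin_of_mem (k : (TrivSqZeroExt A J)[T;T⁻¹]) (hk : k ∈ KK A J) : dLin A J k = k := by
  unfold KK at hk
  rw [Ideal.map] at hk
  induction hk using Submodule.span_induction with
  | mem y hy =>
    obtain ⟨a, ha, rfl⟩ := hy
    rw [← LaurentPolynomial.C_eq_algebraMap, ← LaurentPolynomial.single_eq_C, dLin_single,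
      eLin_of_mem A J a ha]
  | zero => simp
  | add y z _ _ hy hz => rw [map_add, hy, hz]
  | smul s y hy' hy =>
    rw [smul_eq_mul, dLin_mul, hy]
    have h0 : y * dLin A J s = 0 := by
      have : y * dLin A J s ∈ KK A J * KK A J := Ideal.mul_mem_mul hy' (dLin_mem A J s)
      rwa [KK_mul, Ideal.mem_bot] at this
    rw [h0, add_zero]

end Laurent
section Main

open LaurentPolynomial TrivSqZeroExt

variable {A : Type u} [CommRing A] {J : Type u} [AddCommGroup J] [Module A J] [Module Aᵐᵒᵖ J]
    [IsCentralScalar A J] {τ : TrivSqZeroExt A J}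
    {B' : Type u} [CommRing B'] [Algebra (TrivSqZeroExt A J) B'] [Algebra A B']
    [IsScalarTower A (TrivSqZeroExt A J) B'] {x y : B'}

/-- Key step: an `A'`-algebra map to Laurent polynomials kills the kernel of `kerToTensor`. -/
theorem psi_eq_zero (Ψ : B' →ₐ[TrivSqZeroExt A J] (TrivSqZeroExt A J)[T;T⁻¹])
    (I : Ideal B')
    (hI : I = Ideal.map (algebraMap (TrivSqZeroExt A J) B') (TrivSqZeroExt.kerIdeal A J))
    (i : RingHom.ker (algebraMap B' (B' ⧸ I)))
    (hi : KaehlerDifferential.kerToTensor A B' (B' ⧸ I) i = 0) :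
    Ψ (i : B') = 0 := by
  have hΨI : ∀ b ∈ I, Ψ b ∈ KK A J := by
    intro b hb
    have hle : I ≤ Ideal.comap Ψ.toRingHom (KK A J) := by
      rw [hI, Ideal.map_le_iff_le_comap]
      intro c hc
      rw [Ideal.mem_comap, Ideal.mem_comap]
      show Ψ (algebraMap _ _ c) ∈ KK A J
      rw [AlgHom.commutes]
      exact Ideal.mem_map_of_mem _ hc
    exact hle hb
  letI : Algebra B' (TrivSqZeroExt A J)[T;T⁻¹] := Ψ.toRingHom.toAlgebra
  have halg : ∀ b : B', algebraMap B' (TrivSqZeroExt A J)[T;T⁻¹] b = Ψ b := fun _ => rfl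
  haveI : IsScalarTower A B' (TrivSqZeroExt A J)[T;T⁻¹] := by
    refine IsScalarTower.of_algebraMap_eq fun a => ?_
    rw [halg, IsScalarTower.algebraMap_apply A (TrivSqZeroExt A J) B', AlgHom.commutes,
      ← IsScalarTower.algebraMap_apply]
  let d : Derivation A B' (TrivSqZeroExt A J)[T;T⁻¹] := (dDer A J).compAlgebraMap B'
  have hd_apply : ∀ b, d b = dLin A J (Ψ b) := fun _ => rfl
  have hiI : (i : B') ∈ I := by
    have := i.2
    rw [RingHom.mem_ker] at this
    exact Ideal.Quotient.eq_zero_iff_mem.mp this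
  have hd : ∀ j ∈ I, ∀ a, j • d a = 0 := by
    intro j hj a
    rw [Algebra.smul_def, halg, hd_apply]
    have : Ψ j * dLin A J (Ψ a) ∈ KK A J * KK A J :=
      Ideal.mul_mem_mul (hΨI j hj) (dLin_mem A J _)
    rwa [KK_mul, Ideal.mem_bot] at this
  have h0 := d_eq_zero_of_kerToTensor I d hd i hi
  rw [hd_apply, dLin_of_mem A J _ (hΨI _ hiI)] at h0
  exact h0
/-- The `A'`-algebra map from `B' = A'[x,y]/(xy − τ)` determined by images of `x, y`. -/
noncomputable def mkPsi
    (hsurj : Function.Surjective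
      (MvPolynomial.aeval ![x, y] : MvPolynomial (Fin 2) (TrivSqZeroExt A J) →ₐ[TrivSqZeroExt A J] B'))
    (hker : RingHom.ker
      (MvPolynomial.aeval ![x, y] : MvPolynomial (Fin 2) (TrivSqZeroExt A J) →ₐ[TrivSqZeroExt A J] B') =
      Ideal.span {MvPolynomial.X 0 * MvPolynomial.X 1 - MvPolynomial.C τ})
    (u v : (TrivSqZeroExt A J)[T;T⁻¹])
    (huv : u * v = algebraMap (TrivSqZeroExt A J) _ τ) :
    B' →ₐ[TrivSqZeroExt A J] (TrivSqZeroExt A J)[T;T⁻¹] :=
  AlgHom.liftOfSurjective (MvPolynomial.aeval ![x, y]) hsurj (MvPolynomial.aeval ![u, v]) (by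
    intro p hp
    have hp' : p ∈ RingHom.ker (MvPolynomial.aeval ![x, y] :
        MvPolynomial (Fin 2) (TrivSqZeroExt A J) →ₐ[TrivSqZeroExt A J] B') := hp
    rw [hker, Ideal.mem_span_singleton] at hp'
    obtain ⟨q, rfl⟩ := hp'
    rw [RingHom.mem_ker]
    show MvPolynomial.aeval ![u, v] _ = 0
    simp [huv])

theorem mkPsi_aeval (hsurj) (hker) (u v) (huv) (p : MvPolynomial (Fin 2) (TrivSqZeroExt A J)) :
    mkPsi (A := A) (J := J) (τ := τ) (x := x) (y := y) hsurj hker u v huv
      (MvPolynomial.aeval ![x, y] p) = MvPolynomial.aeval ![u, v] p := by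
  rw [mkPsi, AlgHom.liftOfSurjective_apply]

theorem mkPsi_x (hsurj) (hker) (u v) (huv) :
    mkPsi (A := A) (J := J) (τ := τ) (x := x) (y := y) hsurj hker u v huv x = u := by
  have := mkPsi_aeval (A := A) (J := J) (τ := τ) (x := x) (y := y) hsurj hker u v huv
    (MvPolynomial.X 0)
  simpa using this

theorem mkPsi_y (hsurj) (hker) (u v) (huv) :
    mkPsi (A := A) (J := J) (τ := τ) (x := x) (y := y) hsurj hker u v huv y = v := by
  have := mkPsi_aeval (A := A) (J := J) (τ := τ) (x := x) (y := y) hsurj hker u v huv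
    (MvPolynomial.X 1)
  simpa using this

end Main

section NormalForm

open Polynomial

variable {R : Type*} [CommRing R] {S : Type*} [CommRing S] [Algebra R S]

/-- `b` is a sum of a polynomial in `x` and a polynomial in `y`. -/
def NF (x y b : S) : Prop := ∃ P Q : R[X], b = aeval x P + aeval y Q

theorem NF_symm {x y b : S} (h : NF (R := R) x y b) : NF (R := R) y x b := by
  obtain ⟨P, Q, rfl⟩ := h
  exact ⟨Q, P, add_comm _ _⟩

theorem NF_add {x y b b' : S} (h : NF (R := R) x y b) (h' : NF (R := R) x y b') :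
    NF (R := R) x y (b + b') := by
  obtain ⟨P, Q, rfl⟩ := h
  obtain ⟨P', Q', rfl⟩ := h'
  exact ⟨P + P', Q + Q', by rw [map_add, map_add]; ring⟩

theorem NF_mul_x {x y b : S} {τ : R} (hxy : x * y = algebraMap R S τ) (h : NF (R := R) x y b) :
    NF (R := R) x y (b * x) := by
  obtain ⟨P, Q, rfl⟩ := h
  refine ⟨P * X + C (Q.coeff 0) * X, C τ * divX Q, ?_⟩
  have hQ : aeval y Q = aeval y (divX Q) * y + algebraMap R S (Q.coeff 0) := by
    conv_lhs => rw [← divX_mul_X_add Q]
    simp
  rw [hQ]
  simp only [map_add, map_mul, aeval_X, aeval_C]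
  rw [← hxy]
  ring

theorem NF_all {x y : S} {τ : R} (hxy : x * y = algebraMap R S τ)
    (hsurj : Function.Surjective
      (MvPolynomial.aeval ![x, y] : MvPolynomial (Fin 2) R →ₐ[R] S)) (b : S) :
    NF (R := R) x y b := by
  obtain ⟨p, rfl⟩ := hsurj b
  induction p using MvPolynomial.induction_on with
  | C a => exact ⟨C a, 0, by simp⟩
  | add p q hp hq => rw [map_add]; exact NF_add hp hq
  | mul_X p n hp =>
    rw [map_mul, MvPolynomial.aeval_X]
    fin_cases n
    · exact NF_mul_x hxy hp
    · exact NF_symm (NF_mul_x (by rw [mul_comm]; exact hxy) (NF_symm hp))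

end NormalForm
section Coeff

open Polynomial LaurentPolynomial

variable {R : Type*} [CommRing R]

theorem coeff_aeval_T (P : R[X]) (m : ℕ) :
    (aeval (T 1 : R[T;T⁻¹]) P).coeff (m : ℤ) = P.coeff m := by
  induction P using Polynomial.induction_on' with
  | add p q hp hq => rw [map_add, AddMonoidAlgebra.coeff_add, Finsupp.add_apply, hp, hq, coeff_add]
  | monomial n a =>
    rw [aeval_monomial, T_pow, mul_one, ← LaurentPolynomial.C_eq_algebraMap,
      ← LaurentPolynomial.single_eq_C_mul_T, AddMonoidAlgebra.coeff_single, coeff_monomial,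
      Finsupp.single_apply]
    simp only [Nat.cast_inj]

theorem coeff_aeval_CT_succ (s : R) (Q : R[X]) (m : ℕ) :
    (aeval (LaurentPolynomial.C s * T (-1) : R[T;T⁻¹]) Q).coeff ((m : ℤ) + 1) = 0 := by
  induction Q using Polynomial.induction_on' with
  | add p q hp hq =>
    rw [map_add (aeval (LaurentPolynomial.C s * T (-1) : R[T;T⁻¹])) p q,
      AddMonoidAlgebra.coeff_add, Finsupp.add_apply, hp, hq, add_zero]
  | monomial n a =>
    rw [aeval_monomial, mul_pow, T_pow, ← LaurentPolynomial.C_eq_algebraMap, ← map_pow,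
      ← mul_assoc, ← map_mul, ← LaurentPolynomial.single_eq_C_mul_T,
      AddMonoidAlgebra.coeff_single, Finsupp.single_apply, if_neg]
    omega

theorem coeff_aeval_CT_zero (s : R) (Q : R[X]) :
    (aeval (LaurentPolynomial.C s * T (-1) : R[T;T⁻¹]) Q).coeff 0 = Q.coeff 0 := by
  induction Q using Polynomial.induction_on' with
  | add p q hp hq => rw [map_add, AddMonoidAlgebra.coeff_add, Finsupp.add_apply, hp, hq, coeff_add]
  | monomial n a =>
    rw [aeval_monomial, mul_pow, T_pow, ← LaurentPolynomial.C_eq_algebraMap, ← map_pow,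
      ← mul_assoc, ← map_mul, ← LaurentPolynomial.single_eq_C_mul_T,
      AddMonoidAlgebra.coeff_single, Finsupp.single_apply, coeff_monomial]
    by_cases hn : n = 0
    · subst hn; simp
    · rw [if_neg hn, if_neg]
      omega

end Coeff
section Final

open LaurentPolynomial TrivSqZeroExt

theorem T_mul_CT {R : Type*} [CommRing R] (s : R) :
    (T 1 : R[T;T⁻¹]) * (LaurentPolynomial.C s * T (-1)) = algebraMap R _ s := by
  rw [mul_left_comm, ← T_add, add_neg_cancel, T_zero, mul_one, LaurentPolynomial.C_eq_algebraMap]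

/-- Joint injectivity of the two Laurent evaluations on normal forms. -/
theorem eq_zero_of_NF {R : Type*} [CommRing R] {S : Type*} [CommRing S] [Algebra R S]
    {x y b : S} (s : R) (h : NF (R := R) x y b)
    (Ψ₁ Ψ₂ : S →ₐ[R] R[T;T⁻¹])
    (h1x : Ψ₁ x = T 1) (h1y : Ψ₁ y = LaurentPolynomial.C s * T (-1))
    (h2x : Ψ₂ x = LaurentPolynomial.C s * T (-1)) (h2y : Ψ₂ y = T 1)
    (hb1 : Ψ₁ b = 0) (hb2 : Ψ₂ b = 0) : b = 0 := by
  obtain ⟨P, Q, rfl⟩ := h
  rw [map_add, ← Polynomial.aeval_algHom_apply, ← Polynomial.aeval_algHom_apply, h1x, h1y] at hb1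
  rw [map_add, ← Polynomial.aeval_algHom_apply, ← Polynomial.aeval_algHom_apply, h2x, h2y] at hb2
  have hP : ∀ m : ℕ, P.coeff (m + 1) = 0 := by
    intro m
    have := congrArg (fun c : R[T;T⁻¹] => c.coeff (((m + 1 : ℕ) : ℤ))) hb1
    simp only [AddMonoidAlgebra.coeff_add, Finsupp.add_apply, coeff_aeval_T] at this
    rw [Nat.cast_succ, coeff_aeval_CT_succ, add_zero] at this
    simpa using this
  have hQ : ∀ m : ℕ, Q.coeff (m + 1) = 0 := by
    intro m
    have := congrArg (fun c : R[T;T⁻¹] => c.coeff (((m + 1 : ℕ) : ℤ))) hb2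
    simp only [AddMonoidAlgebra.coeff_add, Finsupp.add_apply, coeff_aeval_T] at this
    rw [Nat.cast_succ, coeff_aeval_CT_succ, zero_add] at this
    simpa using this
  have h0 : P.coeff 0 + Q.coeff 0 = 0 := by
    have := congrArg (fun c : R[T;T⁻¹] => c.coeff (((0 : ℕ) : ℤ))) hb1
    simp only [AddMonoidAlgebra.coeff_add, Finsupp.add_apply, coeff_aeval_T] at this
    rw [Nat.cast_zero, coeff_aeval_CT_zero] at this
    simpa using this
  have hPC : P = Polynomial.C (P.coeff 0) := by
    ext n
    cases n with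
    | zero => simp
    | succ m => rw [hP m, Polynomial.coeff_C_succ]
  have hQC : Q = Polynomial.C (Q.coeff 0) := by
    ext n
    cases n with
    | zero => simp
    | succ m => rw [hQ m, Polynomial.coeff_C_succ]
  rw [hPC, hQC, Polynomial.aeval_C, Polynomial.aeval_C, ← map_add, h0, map_zero]

end Final


/-- Let A be a commutative ring, J an A-module, A′ = A ⊕ εJ the trivial square-zero extension of A by J,
and τ any element of A′. Let B′ be the A′-algebra A′[x,y]/(xy − τ), presented by two generators x, y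
with the evaluation map from the polynomial ring in two variables over A′ surjective and with kernel
generated by XY − τ. Let I ⊆ B′ be the ideal generated by the square-zero ideal J of A′, so that B =
B′/I is A[x,y]/(xy − t) with t the A-component of τ. Then the first map of the conormal sequence of
B′ → B relative to A, namely I → B ⊗_{B′} Ω_{B′/A}, i ↦ 1 ⊗ di, is injective (so the sequence 0 → I
→ B ⊗_{B′} Ω_{B′/A} → Ω_{B/A} → 0 is exact on the left as well; this is the local computation at a
node for first-order deformations of nodal curves). -/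
theorem result
    (A : Type u) [CommRing A] (J : Type u) [AddCommGroup J] [Module A J] [Module Aᵐᵒᵖ J]
    [IsCentralScalar A J] (τ : TrivSqZeroExt A J)
    (B' : Type u) [CommRing B'] [Algebra (TrivSqZeroExt A J) B'] [Algebra A B']
    [IsScalarTower A (TrivSqZeroExt A J) B'] (x y : B')
    (hsurj : Function.Surjective
      (MvPolynomial.aeval ![x, y] : MvPolynomial (Fin 2) (TrivSqZeroExt A J) →ₐ[TrivSqZeroExt A J] B'))
    (hker : RingHom.ker
      (MvPolynomial.aeval ![x, y] : MvPolynomial (Fin 2) (TrivSqZeroExt A J) →ₐ[TrivSqZeroExt A J] B') =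
      Ideal.span {MvPolynomial.X 0 * MvPolynomial.X 1 - MvPolynomial.C τ}) :
    Function.Injective (KaehlerDifferential.kerToTensor A B'
      (B' ⧸ Ideal.map (algebraMap (TrivSqZeroExt A J) B') (TrivSqZeroExt.kerIdeal A J))) := by
  rw [injective_iff_map_eq_zero]
  intro i hi
  have hxy : x * y = algebraMap (TrivSqZeroExt A J) B' τ := by
    have hmem : (MvPolynomial.X 0 * MvPolynomial.X 1 - MvPolynomial.C τ :
        MvPolynomial (Fin 2) (TrivSqZeroExt A J)) ∈ RingHom.ker
        (MvPolynomial.aeval ![x, y] :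
          MvPolynomial (Fin 2) (TrivSqZeroExt A J) →ₐ[TrivSqZeroExt A J] B') := by
      rw [hker]; exact Ideal.subset_span rfl
    rw [RingHom.mem_ker] at hmem
    simp only [map_sub, map_mul, MvPolynomial.aeval_X, MvPolynomial.aeval_C] at hmem
    simpa [sub_eq_zero] using hmem
  have huv1 := T_mul_CT τ
  have huv2 : (LaurentPolynomial.C τ * LaurentPolynomial.T (-1)) * (LaurentPolynomial.T 1 :
      LaurentPolynomial (TrivSqZeroExt A J)) = algebraMap _ _ τ := by
    rw [mul_comm]; exact huv1
  let Ψ₁ := mkPsi (A := A) (J := J) (τ := τ) (x := x) (y := y) hsurj hker _ _ huv1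
  let Ψ₂ := mkPsi (A := A) (J := J) (τ := τ) (x := x) (y := y) hsurj hker _ _ huv2
  have h1 : Ψ₁ (i : B') = 0 := psi_eq_zero Ψ₁ _ rfl i hi
  have h2 : Ψ₂ (i : B') = 0 := psi_eq_zero Ψ₂ _ rfl i hi
  have hNF : NF (R := TrivSqZeroExt A J) x y (i : B') := NF_all hxy hsurj _
  have : (i : B') = 0 :=
    eq_zero_of_NF τ hNF Ψ₁ Ψ₂ (mkPsi_x _ _ _ _ _) (mkPsi_y _ _ _ _ _) (mkPsi_x _ _ _ _ _)
      (mkPsi_y _ _ _ _ _) h1 h2
  exact Subtype.ext this

end Groth.Agent.S16980
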