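import Groth.Statements.S16983
import Mathlib.Tactic.LinearCombination
import Mathlib.Tactic.Linarith
import Mathlib.RingTheory.Coprime.Lemmas
import Mathlib.Algebra.Order.BigOperators.Group.Finset

set_option autoImplicit false
universe u
open DeformData

namespace Groth.Agent.S16983

lemma fract_zero_of (p m : ℕ) (hm : 0 < m) (hmp : Nat.Coprime m p) (i : ℕ) (h : ℤ)
    (hx : Int.fract ((p:ℚ)^i * ((h:ℚ) / (m:ℚ))) = 0) : Int.fract ((h:ℚ)/(m:ℚ)) = 0 := by
  rw [Int.fract_eq_zero_iff] at hx ⊢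
  obtain ⟨z, hz⟩ := hx
  have hm0 : (m:ℚ) ≠ 0 := by exact_mod_cast hm.ne'
  have h1 : ((p:ℤ)^i * h) = z * (m:ℤ) := by
    have : ((p:ℚ)^i * (h:ℚ)) = (z:ℚ) * (m:ℚ) := by
      rw [hz]; field_simp
    exact_mod_cast this
  have hcop : IsCoprime (m:ℤ) ((p:ℤ)^i) := by
    have := Nat.Coprime.pow_right i hmp
    have h2 := (Nat.isCoprime_iff_coprime (m := m) (n := p^i)).mpr this
    simpa using h2
  have hdvd : (m:ℤ) ∣ h := by
    apply hcop.dvd_of_dvd_mul_left
    rw [h1]; exact dvd_mul_left _ _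
  obtain ⟨k, rfl⟩ := hdvd
  refine ⟨k, ?_⟩
  push_cast
  field_simp

/-- Let p be a prime, s ≥ 1, B a finite index set with a subset B₀ of exactly three elements, m_j ≥ 1
integers coprime to p, and σ_{i,j} (i < s, j ∈ B) rational numbers with m_j σ_{i,j} an integer, such
that Σ_j (σ_{i,j} − 1) = −2 for every i, the fractional part of σ_{i,j} equals that of p^i σ_{0,j},
no σ_{i,j} equals 1, and the minimum over i of ⌊σ_{i,j}⌋ is 0 for j ∈ B₀ and 1 for j ∉ B₀. Then for
every i the fractional parts ⟨σ_{i,j}⟩ sum over j to 1 (purity), and ⌊σ_{i,j}⌋ is 0 on B₀ and 1 off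
B₀ for every i. (The hypotheses are exactly the properties of the signature of a special deformation
datum on the projective line: each entry is an integer divided by a stabilizer order m_j in a group
of order prime to p, the degree identity coming from Riemann–Hurwitz, the Frobenius-twist relation
between fractional parts, and the speciality conditions; the statement is given here for any such
tuple.) -/
theorem result
    {B : Type u} [Fintype B] [DecidableEq B] (B₀ : Finset B) (hB₀ : B₀.card = 3)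
    (p : ℕ) (hp : p.Prime) (s : ℕ) (hs : 0 < s)
    (m : B → ℕ) (hm : ∀ j, 0 < m j) (hmp : ∀ j, Nat.Coprime (m j) p)
    (σ : Fin s → B → ℚ) (hint : ∀ i j, ∃ h : ℤ, σ i j = (h : ℚ) / (m j : ℚ))
    (hsum : ∀ i, ∑ j, (σ i j - 1) = -2)
    (hfract : ∀ i j, Int.fract (σ i j) = Int.fract ((p : ℚ) ^ (i : ℕ) * σ ⟨0, hs⟩ j))
    (hne : ∀ i j, σ i j ≠ 1)
    (hB₀min : ∀ j ∈ B₀, (∃ i, ⌊σ i j⌋ = 0) ∧ ∀ i, 0 ≤ ⌊σ i j⌋)
    (hBmin : ∀ j ∉ B₀, (∃ i, ⌊σ i j⌋ = 1) ∧ ∀ i, 1 ≤ ⌊σ i j⌋) :
    (∀ i, ∑ j, Int.fract (σ i j) = 1) ∧ (∀ i j, ⌊σ i j⌋ = if j ∈ B₀ then 0 else 1) := by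
  classical
  let c : B → ℤ := fun j => if j ∈ B₀ then 0 else 1
  have ha : ∀ i j, 0 ≤ ⌊σ i j⌋ - c j := by
    intro i j
    by_cases hj : j ∈ B₀
    · have := (hB₀min j hj).2 i
      simp only [c, if_pos hj]; linarith
    · have := (hBmin j hj).2 i
      simp only [c, if_neg hj]; linarith
  have hc : ∑ j, (((c j : ℤ) : ℚ) - 1) = -3 := by
    have h1 : ∀ j, (((c j : ℤ) : ℚ) - 1) = - (if j ∈ B₀ then (1:ℚ) else 0) := by
      intro j; simp only [c]; split_ifs <;> simp
    simp_rw [h1]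
    rw [Finset.sum_neg_distrib, Finset.sum_boole]
    simp [hB₀]
  have key : ∀ i, ((∑ j, (⌊σ i j⌋ - c j) : ℤ) : ℚ) + ∑ j, Int.fract (σ i j) = 1 := by
    intro i
    have h1 : ∑ j, (σ i j - 1) = ((∑ j, (⌊σ i j⌋ - c j) : ℤ) : ℚ) + ∑ j, (((c j : ℤ) : ℚ) - 1)
        + ∑ j, Int.fract (σ i j) := by
      push_cast
      rw [← Finset.sum_add_distrib, ← Finset.sum_add_distrib]
      apply Finset.sum_congr rfl
      intro j _
      have := Int.floor_add_fract (σ i j)
      linarith
    rw [hsum i, hc] at h1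
    linarith
  have hFnn : ∀ i, 0 ≤ ∑ j, Int.fract (σ i j) := fun i =>
    Finset.sum_nonneg (fun j _ => Int.fract_nonneg _)
  have hAnn : ∀ i, 0 ≤ ∑ j, (⌊σ i j⌋ - c j) := fun i =>
    Finset.sum_nonneg (fun j _ => ha i j)
  -- exclude the case where all fractional parts vanish
  have hF0 : ∀ i, ∑ j, Int.fract (σ i j) ≠ 0 := by
    intro i hF
    have hfr : ∀ j, Int.fract (σ i j) = 0 := by
      intro j
      exact (Finset.sum_eq_zero_iff_of_nonneg (fun j _ => Int.fract_nonneg _)).mp hF j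
        (Finset.mem_univ j)
    have hfr0 : ∀ j, Int.fract (σ ⟨0, hs⟩ j) = 0 := by
      intro j
      obtain ⟨h, hh⟩ := hint ⟨0, hs⟩ j
      rw [hh]
      apply fract_zero_of p (m j) (hm j) (hmp j) (i : ℕ) h
      rw [← hh, ← hfract i j]
      exact hfr j
    have hall : ∀ i' j, Int.fract (σ i' j) = 0 := by
      intro i' j
      rw [hfract i' j]
      obtain ⟨z, hz⟩ := Int.fract_eq_zero_iff.mp (hfr0 j)
      rw [← hz]
      have : ((p:ℚ)^(i':ℕ) * (z:ℚ)) = (((p:ℤ)^(i':ℕ) * z : ℤ) : ℚ) := by push_cast; ring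
      rw [this]
      exact Int.fract_intCast _
    have hsig : ∀ i' j, σ i' j = (⌊σ i' j⌋ : ℚ) := by
      intro i' j
      have := Int.floor_add_fract (σ i' j)
      rw [hall i' j] at this
      linarith
    have hBall : ∀ j, j ∈ B₀ := by
      intro j
      by_contra hj
      obtain ⟨i', hi'⟩ := (hBmin j hj).1
      apply hne i' j
      rw [hsig i' j, hi']
      norm_num
    have hcz : ∀ j, c j = 0 := by
      intro j; simp only [c, if_pos (hBall j)]
    have hA1 : ∑ j, (⌊σ i j⌋ - c j) = 1 := by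
      have := key i
      rw [hF, add_zero] at this
      exact_mod_cast this
    have hne1 : ∀ j, ⌊σ i j⌋ - c j ≠ 1 := by
      intro j h1
      apply hne i j
      rw [hsig i j]
      rw [hcz j, sub_zero] at h1
      rw [h1]; norm_num
    by_cases hex : ∃ j, 2 ≤ ⌊σ i j⌋ - c j
    · obtain ⟨j, hj⟩ := hex
      have := Finset.single_le_sum (f := fun j => ⌊σ i j⌋ - c j) (fun j _ => ha i j)
        (Finset.mem_univ j)
      linarith
    · push Not at hex
      have hz : ∀ j ∈ Finset.univ, ⌊σ i j⌋ - c j = 0 := by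
        intro j _
        have h1 := ha i j
        have h2 := hex j
        have h3 := hne1 j
        omega
      rw [Finset.sum_eq_zero hz] at hA1
      exact absurd hA1 (by norm_num)
  have hA0 : ∀ i, ∑ j, (⌊σ i j⌋ - c j) = 0 := by
    intro i
    have h1 := key i
    have h2 := hFnn i
    have h3 := hAnn i
    have h4 : (∑ j, (⌊σ i j⌋ - c j)) ≤ 1 := by
      have : ((∑ j, (⌊σ i j⌋ - c j) : ℤ) : ℚ) ≤ 1 := by linarith
      exact_mod_cast this
    have h5 : (∑ j, (⌊σ i j⌋ - c j)) ≠ 1 := by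
      intro h
      apply hF0 i
      rw [h] at h1
      push_cast at h1
      linarith
    omega
  refine ⟨?_, ?_⟩
  · intro i
    have h1 := key i
    rw [hA0 i] at h1
    push_cast at h1
    linarith
  · intro i j
    have := (Finset.sum_eq_zero_iff_of_nonneg (fun j _ => ha i j)).mp (hA0 i) j (Finset.mem_univ j)
    simp only [c] at this
    split_ifs with hj
    · rw [if_pos hj] at this; linarith
    · rw [if_neg hj] at this; linarith

end Groth.Agent.S16983
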