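import Groth.Statements.S16984
import Groth.Agent.Lib.Helper25HochN

set_option autoImplicit false
universe u v w
open Hoch

namespace Groth.Agent.S16984

open TensorProduct in
/-- Let k be a commutative ring, A a commutative k-bialgebra that is flat over k (the coordinate ring of
a flat affine group scheme over Spec k; flatness and commutativity are the standing hypotheses of
the appendix and are not needed for the assertion) and P a k-module. Then p ↦ p ⊗ 1 is an injection
of P into the induced comodule P ⊗ A (coaction id ⊗ Δ) whose image is exactly the submodule of
invariants, i.e. the elements with coaction x ↦ x ⊗ 1. (The published statement writes the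
coordinate-ring factor on the left and calls this module coinduced; this row is its degree-zero
part, the identification of P with the invariants of the coinduced module.) -/
theorem result (k : Type u) [CommRing k] (A : Type v) [CommRing A] [Bialgebra k A]
    [Module.Flat k A] (P : Type w) [AddCommGroup P] [Module k P] :
    Function.Injective ((Hoch.Ind.equiv k A P).toLinearMap ∘ₗ (TensorProduct.mk k P A).flip (1 : A)) ∧
    LinearMap.range ((Hoch.Ind.equiv k A P).toLinearMap ∘ₗ (TensorProduct.mk k P A).flip (1 : A)) =
      HopfRep.fixedPts k A (Hoch.Ind k A P) := by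
  open Groth.Agent.Lib.Helper25 in
  have hc : ∀ p : P, Hoch.Ind.counit k A P
      (((Hoch.Ind.equiv k A P).toLinearMap ∘ₗ (TensorProduct.mk k P A).flip (1 : A)) p) = p := by
    intro p
    simp only [LinearMap.coe_comp, LinearEquiv.coe_coe, Function.comp_apply, LinearMap.flip_apply,
      TensorProduct.mk_apply, Hoch.Ind.counit_equiv_tmul, Bialgebra.counit_one, one_smul]
  refine ⟨fun a b hab => ?_, ?_⟩
  · have := congrArg (Hoch.Ind.counit k A P) hab
    rwa [hc, hc] at this
  · apply le_antisymm
    · rintro _ ⟨p, rfl⟩
      rw [mem_fixedPts_iff]
      simp only [LinearMap.coe_comp, LinearEquiv.coe_coe, Function.comp_apply,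
        LinearMap.flip_apply, TensorProduct.mk_apply]
      rw [Hoch.Ind.coact_equiv_tmul, Bialgebra.comul_one, Algebra.TensorProduct.one_def,
        TensorProduct.assoc_symm_tmul]
      rfl
    · intro x hx
      rw [mem_fixedPts_iff] at hx
      have h := indLift_counit_comp (A := A)
        (LinearMap.id : Hoch.Ind k A P →ₗ[k] Hoch.Ind k A P) isComodHom_id
      have h2 := LinearMap.congr_fun h x
      rw [LinearMap.comp_id, LinearMap.id_apply] at h2
      change (Hoch.Ind.equiv k A P) ((Hoch.Ind.counit k A P).rTensor A
        (HopfRep.Comod.coact (k := k) (A := A) x)) = x at h2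
      rw [hx, LinearMap.rTensor_tmul] at h2
      exact ⟨Hoch.Ind.counit k A P x, h2⟩

end Groth.Agent.S16984
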