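import Groth.Statements.S1699
import Groth.Agent.Lib.Helper2Ass

set_option autoImplicit false
universe u
open CategoryTheory CategoryTheory.Limits AlgebraicGeometry TopologicalSpace
open SDiv

namespace Groth.Agent.S1699

open CategoryTheory CategoryTheory.Limits AlgebraicGeometry TopologicalSpace in
/-- Associated primes of `Γ(X,W)` give associated points. -/
theorem isAssociatedPrime_stalk_of {X : Scheme.{u}} {W : X.Opens} (hW : IsAffineOpen W) (x : X)
    (hxW : x ∈ W)
    (h : (hW.primeIdealOf ⟨x, hxW⟩).asIdeal ∈ associatedPrimes Γ(X, W) Γ(X, W)) :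
    IsAssociatedPrime (IsLocalRing.maximalIdeal (X.presheaf.stalk x)) (X.presheaf.stalk x) := by
  let _ : Algebra Γ(X, W) (X.presheaf.stalk x) :=
    TopCat.Presheaf.algebra_section_stalk X.presheaf (⟨x, hxW⟩ : W)
  have hloc : IsLocalization.AtPrime (X.presheaf.stalk x) (hW.primeIdealOf ⟨x, hxW⟩).asIdeal :=
    hW.isLocalization_stalk ⟨x, hxW⟩
  have hcomap : (IsLocalRing.maximalIdeal (X.presheaf.stalk x)).comap
      (algebraMap Γ(X, W) (X.presheaf.stalk x)) = (hW.primeIdealOf ⟨x, hxW⟩).asIdeal :=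
    IsLocalization.AtPrime.under_maximalIdeal (X.presheaf.stalk x) _
  apply Module.associatedPrimes.mem_associatedPrimes_of_comap_mem_associatedPrimes_of_isLocalizedModule
    (hW.primeIdealOf ⟨x, hxW⟩).asIdeal.primeCompl (Algebra.linearMap Γ(X, W) (X.presheaf.stalk x))
    (IsLocalRing.maximalIdeal (X.presheaf.stalk x))
  rw [hcomap]
  exact h

open CategoryTheory CategoryTheory.Limits AlgebraicGeometry TopologicalSpace in
/-- Associated points give associated primes of `Γ(X,W)` when the latter is Noetherian. -/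
theorem mem_associatedPrimes_of_stalk {X : Scheme.{u}} {W : X.Opens} (hW : IsAffineOpen W) (x : X)
    (hxW : x ∈ W) [IsNoetherianRing Γ(X, W)]
    (h : IsAssociatedPrime (IsLocalRing.maximalIdeal (X.presheaf.stalk x)) (X.presheaf.stalk x)) :
    (hW.primeIdealOf ⟨x, hxW⟩).asIdeal ∈ associatedPrimes Γ(X, W) Γ(X, W) := by
  let _ : Algebra Γ(X, W) (X.presheaf.stalk x) :=
    TopCat.Presheaf.algebra_section_stalk X.presheaf (⟨x, hxW⟩ : W)
  have hloc : IsLocalization.AtPrime (X.presheaf.stalk x) (hW.primeIdealOf ⟨x, hxW⟩).asIdeal :=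
    hW.isLocalization_stalk ⟨x, hxW⟩
  have hcomap : (IsLocalRing.maximalIdeal (X.presheaf.stalk x)).comap
      (algebraMap Γ(X, W) (X.presheaf.stalk x)) = (hW.primeIdealOf ⟨x, hxW⟩).asIdeal :=
    IsLocalization.AtPrime.under_maximalIdeal (X.presheaf.stalk x) _
  have := Module.associatedPrimes.comap_mem_associatedPrimes_of_mem_associatedPrimes_of_isLocalizedModule_of_fg
    (hW.primeIdealOf ⟨x, hxW⟩).asIdeal.primeCompl (Algebra.linearMap Γ(X, W) (X.presheaf.stalk x))
    (IsLocalRing.maximalIdeal (X.presheaf.stalk x)) h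
    ((isNoetherianRing_iff_ideal_fg _).mp inferInstance _)
  rw [hcomap] at this
  exact this
open CategoryTheory CategoryTheory.Limits AlgebraicGeometry TopologicalSpace in
theorem section_eq_zero_of_germ {X : Scheme.{u}} (V : X.Opens) (g : Γ(X, V))
    (h : ∀ (x : X) (hx : x ∈ V), X.presheaf.germ V x hx g = 0) : g = 0 := by
  apply TopCat.Presheaf.section_ext X.sheaf V
  intro x hx
  have := h x hx
  show X.presheaf.germ V x hx g = X.presheaf.germ V x hx 0
  rw [this, map_zero]

/-- (1) if and only if (3): let X be a locally Noetherian scheme and U an open subscheme. Then U is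
scheme-theoretically dense in X if and only if U contains every associated point of X (every point
whose local ring has its maximal ideal as an associated prime). -/
theorem result (X : Scheme.{u}) [IsLocallyNoetherian X] (U : X.Opens) :
    CInt.IsSchematicallyDense U ↔ ∀ x : ↥X, IsAssociatedPrime (IsLocalRing.maximalIdeal ↑(X.presheaf.stalk x)) ↑(X.presheaf.stalk x) → x ∈ U := by
  constructor
  · -- dense ⇒ contains associated points
    intro hdense x hx
    by_contra hxU
    obtain ⟨_, ⟨W, hW, rfl⟩, hxW, -⟩ :=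
      X.isBasis_affineOpens.exists_subset_of_mem_open (Set.mem_univ x) isOpen_univ
    have hA : IsNoetherianRing Γ(X, W) := IsLocallyNoetherian.component_noetherian ⟨W, hW⟩
    have hq := mem_associatedPrimes_of_stalk hW x hxW hx
    obtain ⟨hqprime, a, ha⟩ := isAssociatedPrime_iff.1 hq
    have hmem : ∀ b : Γ(X, W), b ∈ (hW.primeIdealOf ⟨x, hxW⟩).asIdeal ↔ b * a = 0 := by
      intro b
      rw [ha, Submodule.mem_colon_singleton, Submodule.mem_bot, smul_eq_mul]
    have ha0 : a ≠ 0 := by
      rintro rfl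
      apply hqprime.ne_top
      rw [Ideal.eq_top_iff_one, hmem, mul_zero]
    apply ha0
    apply hdense W
    rw [map_zero]
    apply section_eq_zero_of_germ (W ⊓ U)
    intro y hy
    have hyW : y ∈ W := hy.1
    have hyU : y ∈ U := hy.2
    have h1 : X.presheaf.germ (W ⊓ U) y hy (X.presheaf.map (homOfLE (inf_le_left : W ⊓ U ≤ W)).op a) =
        X.presheaf.germ W y hyW a :=
      TopCat.Presheaf.germ_res_apply X.presheaf (homOfLE (inf_le_left : W ⊓ U ≤ W)) y hy a
    refine h1.trans ?_
    -- find b in q_x not in q_y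
    have hex : ∃ b ∈ (hW.primeIdealOf ⟨x, hxW⟩).asIdeal, b ∉ (hW.primeIdealOf ⟨y, hyW⟩).asIdeal := by
      by_contra hno
      apply hxU
      have hle : (hW.primeIdealOf ⟨x, hxW⟩).asIdeal ≤ (hW.primeIdealOf ⟨y, hyW⟩).asIdeal := by
        intro b hb
        by_contra hby
        exact hno ⟨b, hb, hby⟩
      have hsp := Groth.Agent.Lib.Helper2.QCoh.fromSpec_specializes hW
        (hW.primeIdealOf ⟨x, hxW⟩) y hyW hle
      rw [hW.fromSpec_primeIdealOf ⟨x, hxW⟩] at hsp
      exact hsp.mem_open U.2 hyU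
    obtain ⟨b, hbx, hby⟩ := hex
    have hba : b * a = 0 := (hmem b).1 hbx
    have h2 := congrArg (X.presheaf.germ W y hyW) hba
    rw [map_mul, map_zero] at h2
    have hbu : IsUnit (X.presheaf.germ W y hyW b) := by
      rw [← Scheme.mem_basicOpen, Groth.Agent.Lib.Helper2.mem_basicOpen_iff_notMem_primeIdealOf hW y hyW]
      exact hby
    exact (hbu.mul_right_eq_zero).1 h2
  · -- contains associated points ⇒ dense
    intro hass V
    rw [injective_iff_map_eq_zero]
    intro g hg
    by_contra hg0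
    have hex : ∃ (x : X) (hx : x ∈ V), X.presheaf.germ V x hx g ≠ 0 := by
      by_contra hno
      apply hg0
      apply section_eq_zero_of_germ V
      intro x hx
      by_contra h
      exact hno ⟨x, hx, h⟩
    obtain ⟨x, hxV, hx⟩ := hex
    obtain ⟨_, ⟨W, hW, rfl⟩, hxW, hWV⟩ :=
      X.isBasis_affineOpens.exists_subset_of_mem_open hxV V.2
    have hWV' : W ≤ V := hWV
    have hA : IsNoetherianRing Γ(X, W) := IsLocallyNoetherian.component_noetherian ⟨W, hW⟩
    set a : Γ(X, W) := X.presheaf.map (homOfLE hWV').op g with hadef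
    have ha0 : a ≠ 0 := by
      intro h0
      apply hx
      have h1 : X.presheaf.germ W x hxW a = X.presheaf.germ V x hxV g :=
        TopCat.Presheaf.germ_res_apply X.presheaf (homOfLE hWV') x hxW g
      rw [← h1, h0, map_zero]
    obtain ⟨P, hP, hle⟩ := exists_le_isAssociatedPrime_of_isNoetherianRing Γ(X, W) a ha0
    let Q : PrimeSpectrum Γ(X, W) := ⟨P, hP.isPrime⟩
    have hyW := Groth.Agent.Lib.Helper2.QCoh.fromSpec_mem hW Q
    have hQ := Groth.Agent.Lib.Helper2.QCoh.primeIdealOf_fromSpec hW Q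
    have hyass : IsAssociatedPrime (IsLocalRing.maximalIdeal (X.presheaf.stalk (hW.fromSpec Q)))
        (X.presheaf.stalk (hW.fromSpec Q)) := by
      apply isAssociatedPrime_stalk_of hW _ hyW
      rw [hQ]
      exact hP
    have hyU : hW.fromSpec Q ∈ U := hass _ hyass
    have hyV : hW.fromSpec Q ∈ V := hWV' hyW
    -- germ of a at y is nonzero
    have hgerm : X.presheaf.germ W (hW.fromSpec Q) hyW a ≠ 0 := by
      intro h0
      let _ : Algebra Γ(X, W) (X.presheaf.stalk (hW.fromSpec Q)) :=
        TopCat.Presheaf.algebra_section_stalk X.presheaf (⟨hW.fromSpec Q, hyW⟩ : W)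
      have hloc : IsLocalization.AtPrime (X.presheaf.stalk (hW.fromSpec Q))
          (hW.primeIdealOf ⟨hW.fromSpec Q, hyW⟩).asIdeal :=
        hW.isLocalization_stalk ⟨hW.fromSpec Q, hyW⟩
      have h0' : algebraMap Γ(X, W) (X.presheaf.stalk (hW.fromSpec Q)) a = 0 := h0
      rw [IsLocalization.map_eq_zero_iff (hW.primeIdealOf ⟨hW.fromSpec Q, hyW⟩).asIdeal.primeCompl] at h0'
      obtain ⟨⟨s, hs⟩, hsa⟩ := h0'
      apply hs
      rw [hQ]
      apply hle
      rw [Submodule.mem_colon_singleton, Submodule.mem_bot, smul_eq_mul]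
      exact hsa
    apply hgerm
    have h1 : X.presheaf.germ W (hW.fromSpec Q) hyW a = X.presheaf.germ V (hW.fromSpec Q) hyV g :=
      TopCat.Presheaf.germ_res_apply X.presheaf (homOfLE hWV') _ hyW g
    have h2 : X.presheaf.germ (V ⊓ U) (hW.fromSpec Q) ⟨hyV, hyU⟩
        (X.presheaf.map (homOfLE (inf_le_left : V ⊓ U ≤ V)).op g) =
        X.presheaf.germ V (hW.fromSpec Q) hyV g :=
      TopCat.Presheaf.germ_res_apply X.presheaf (homOfLE (inf_le_left : V ⊓ U ≤ V)) _ ⟨hyV, hyU⟩ g
    rw [h1, ← h2, hg, map_zero]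

end Groth.Agent.S1699
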