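import Groth.Statements.S16990
import Groth.Agent.Lib.Helper25CliffY

set_option autoImplicit false
universe u v
open QuadGrp

namespace Groth.Agent.S16990

/-- Comparison with SO′: over a commutative ring in which 2 is invertible, for a quadratic form Q on a
finite free module of even rank 2m ≥ 2 whose polar form is a perfect pairing, the isometries
satisfying the Dickson condition are exactly the isometries of determinant one. -/
theorem result {R : Type u} [CommRing R] [Invertible (2 : R)]
    {M : Type v} [AddCommGroup M] [Module R M] [Module.Free R M] [Module.Finite R M]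
    (m : ℕ) (hm : 1 ≤ m) (hM : Module.finrank R M = 2 * m) (Q : QuadraticForm R M) (hQ : QuadGrp.IsRegular Q) :
    QuadGrp.SOeven Q = QuadGrp.SO' Q := by
  apply le_antisymm
  · intro g hg
    have hdet : LinearEquiv.det g = 1 := by
      apply Units.ext
      rw [LinearEquiv.coe_det, Units.val_one]
      exact Groth.Agent.Lib.Helper25.Cliff.det_eq_one_of_mem_SOeven m hm hM Q hQ g hg
    have hker : g ∈ (LinearEquiv.det (R := R) (M := M)).ker := MonoidHom.mem_ker.mpr hdet
    exact ⟨hg.1, hker⟩
  · rintro g ⟨hgO, hker⟩
    have hdet : LinearEquiv.det g = 1 := MonoidHom.mem_ker.mp hker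
    have hdet' : LinearMap.det g.toLinearMap = 1 := by
      rw [← LinearEquiv.coe_det, hdet, Units.val_one]
    exact ⟨hgO, Groth.Agent.Lib.Helper25.Cliff.isDicksonTrivial_of_det_eq_one
      (isUnit_of_invertible 2) m hm hM Q hQ g hgO hdet'⟩

end Groth.Agent.S16990
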