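import Groth.Statements.S16994
import Groth.Agent.Lib.Helper25CliffZ

set_option autoImplicit false
universe u v
open QuadGrp

namespace Groth.Agent.S16994

/-- Let Q be a quadratic form on a finite free module M with a basis indexed by Fin (2m+1) over a
commutative ring, whose half-discriminant in that basis is a unit. Then conjugation by any unit of
the Clifford algebra C(Q) normalising M induces on M an isometry of Q of determinant one (the
conjugation representation of the naive Clifford group is valued in the special orthogonal group). -/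
theorem result {R : Type u} [CommRing R] {M : Type v} [AddCommGroup M] [Module R M] [Module.Free R M] [Module.Finite R M]
    (m : ℕ) (b : Module.Basis (Fin (2 * m + 1)) R M) (Q : QuadraticForm R M)
    (hQ : QuadGrp.IsSemiregular b (LinearEquiv.refl R R) Q)
    (u : (CliffordAlgebra Q)ˣ) (hu : u ∈ QuadGrp.GPin' Q) :
    ∃ g ∈ QuadGrp.SO' Q, ∀ v : M,
      (u : CliffordAlgebra Q) * CliffordAlgebra.ι Q v * ↑u⁻¹ = CliffordAlgebra.ι Q (g v) := by
  obtain ⟨g, hgO, hg⟩ := Groth.Agent.Lib.Helper25.Cliff.exists_linearEquiv_conj Q hu
  have hdet' := Groth.Agent.Lib.Helper25.Cliff.det_eq_one_of_conj_odd m b Q hQ u g hg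
  have hdet : LinearEquiv.det g = 1 := by
    apply Units.ext
    rw [LinearEquiv.coe_det, Units.val_one]
    exact hdet'
  have hker : g ∈ (LinearEquiv.det (R := R) (M := M)).ker := MonoidHom.mem_ker.mpr hdet
  exact ⟨g, ⟨hgO, hker⟩, hg⟩

end Groth.Agent.S16994
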