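import Groth.Statements.S16997
import Groth.Agent.Lib.Helper25CliffP

set_option autoImplicit false
universe u v
open QuadGrp

namespace Groth.Agent.S16997

/-- Over a commutative ring in which 2 is invertible, let Q be a quadratic form on a finite free module
with a basis indexed by Fin (2m+1), m odd (rank congruent to 3 mod 4), whose half-discriminant in
that basis is a unit. Then every unit of the Clifford algebra normalising the module and of Clifford
norm one is locally homogeneous: the Pin group equals the naive Pin group. (The published statement
adds the converse: for rank 1 mod 4, or when 2 is not a unit on the base, the two group schemes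
differ.) -/
theorem result {R : Type u} [CommRing R] [Invertible (2 : R)]
    {M : Type v} [AddCommGroup M] [Module R M] [Module.Free R M] [Module.Finite R M]
    (m : ℕ) (hm : Odd m) (b : Module.Basis (Fin (2 * m + 1)) R M) (Q : QuadraticForm R M)
    (hQ : QuadGrp.IsSemiregular b (LinearEquiv.refl R R) Q) :
    QuadGrp.Pin Q = QuadGrp.Pin' Q := by
  open Groth.Agent.Lib.Helper25.Cliff in
  apply le_antisymm
  · intro u hu
    exact ⟨hu.1.1, hu.2⟩
  · intro u hu
    have h : u ∈ QuadGrp.LH Q :=
      (QuadGrp.mem_LH Q u).mpr
        (isLocHomog_of_mem_Pin' m hm b Q hQ hu.1 ((QuadGrp.mem_normOne Q u).mp hu.2))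
    exact ⟨⟨hu.1, h⟩, hu.2⟩

end Groth.Agent.S16997
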