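import Groth.Statements.S16998
import Groth.Agent.Lib.Helper25CliffI
import Groth.Agent.Lib.Helper25CliffK

set_option autoImplicit false
universe u
open scoped TensorProduct
open QuadGrp

namespace Groth.Agent.S16998

/-- Let Q be a quadratic form on a free module M with a basis indexed by Fin (2m+1) over a commutative
ring R, whose half-discriminant in that basis is a unit. Then (a) fppf-locally on R the even
Clifford algebra is a matrix algebra of size 2^m (some faithfully flat finitely presented R-algebra
R′ realises it); (b) the even central elements of the Clifford algebra C(Q) are the scalars; (c) the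
multiplication map from (centre of C(Q)) ⊗ (even part) to C(Q) is bijective; (d) M → C(Q) is
injective onto a direct summand. (The published statement, for a vector bundle over a scheme, also
says that the odd part of the centre is an invertible module squaring to the structure sheaf and
that C(Q) is locally free of rank 2^(2m+1); the first of these is stated separately over a local
base.) -/
theorem result {R : Type u} [CommRing R] {M : Type u} [AddCommGroup M] [Module R M]
    (m : ℕ) (b : Module.Basis (Fin (2 * m + 1)) R M) (Q : QuadraticForm R M)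
    (hQ : QuadGrp.IsSemiregular b (LinearEquiv.refl R R) Q) :
    (∃ (R' : Type u) (_ : CommRing R') (_ : Algebra R R'), Module.FaithfullyFlat R R' ∧ Algebra.FinitePresentation R R' ∧
        Nonempty ((R' ⊗[R] ↥(CliffordAlgebra.even Q)) ≃ₐ[R'] Matrix (Fin (2 ^ m)) (Fin (2 ^ m)) R')) ∧
    (∀ z ∈ Subalgebra.center R (CliffordAlgebra Q), z ∈ CliffordAlgebra.evenOdd Q 0 →
        z ∈ (algebraMap R (CliffordAlgebra Q)).range) ∧
    Function.Bijective (TensorProduct.lift
        (((LinearMap.mul R (CliffordAlgebra Q)).comp (Subalgebra.center R (CliffordAlgebra Q)).val.toLinearMap).compl₂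
          (CliffordAlgebra.even Q).val.toLinearMap)) ∧
    (Function.Injective (CliffordAlgebra.ι Q) ∧
      ∃ W : Submodule R (CliffordAlgebra Q), IsCompl (LinearMap.range (CliffordAlgebra.ι Q)) W) := by
  classical
  open Groth.Agent.Lib.Helper25.Cliff in
  haveI : Module.Free R M := Module.Free.of_basis b
  haveI : Module.Finite R M := Module.Finite.of_basis b
  obtain ⟨R', iR, iA, hff, hfp, ⟨f⟩⟩ := exists_fppf_isometry_addOne_hypSum m b Q hQ
  obtain ⟨E⟩ := nonempty_even_addOne_hypSum_equiv R' m
  obtain ⟨D⟩ := nonempty_splitData_hypSum R' m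
  have hflat : Module.Flat R R' := inferInstance
  let E' : ↥(CliffordAlgebra.even (QuadGrp.baseChangeForm R' Q)) ≃ₐ[R']
      Matrix (Fin (2 ^ m)) (Fin (2 ^ m)) R' := (evenEquivOfIsometry f).trans E
  have hb : ∀ z ∈ Subalgebra.center R (CliffordAlgebra Q), z ∈ CliffordAlgebra.evenOdd Q 0 →
      z ∈ (⊥ : Subalgebra R (CliffordAlgebra Q)) := by
    intro z hz hz0
    apply mem_bot_of_ofBCAux_mem_bot R' Q
    have h1 := ofBCAux_mem_center R' Q hz
    have h2 := ofBCAux_mem_evenOdd R' Q 0 z hz0
    have h3 : (⟨ofBCAux R' Q z, mem_even_iff.mpr h2⟩ :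
        ↥(CliffordAlgebra.even (QuadGrp.baseChangeForm R' Q))) ∈
        Subalgebra.center R' ↥(CliffordAlgebra.even (QuadGrp.baseChangeForm R' Q)) := by
      rw [Subalgebra.mem_center_iff]
      intro c
      apply Subtype.ext
      exact (Subalgebra.mem_center_iff (R := R')).mp h1 c.1
    rw [center_eq_bot_of_algEquiv_matrix E', Algebra.mem_bot] at h3
    obtain ⟨a, ha⟩ := h3
    rw [Algebra.mem_bot]
    exact ⟨a, congrArg Subtype.val ha⟩
  obtain ⟨zA, hodd, hcen, hsq⟩ :=
    exists_odd_central_of_isometry D.hε (QuadGrp.baseChangeForm R' Q) f.symm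
  have h1 := one_mem_oddCenter_mul R' Q zA hodd hcen hsq
  obtain ⟨κ, _, z, w, hz, hw, hsum⟩ := exists_family_of_mem_mul Q (oddCenter Q) 1 h1
  refine ⟨⟨R', iR, iA, hff, hfp, ⟨(bcEven R' Q).trans E'⟩⟩, ?_,
    mulCE_bijective hb z w hz hw hsum, ⟨ι_injective Q, exists_isCompl_range_ι Q⟩⟩
  intro z hz hz0
  have := hb z hz hz0
  rw [Algebra.mem_bot] at this
  obtain ⟨r, hr⟩ := this
  exact ⟨r, hr⟩

end Groth.Agent.S16998
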