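import Groth.Statements.S16999
import Groth.Agent.Lib.Helper25CliffM

set_option autoImplicit false
universe u v
open QuadGrp

namespace Groth.Agent.S16999

/-- Centre over a local base: over a local ring R, let Q be a quadratic form on a free module M with a
basis indexed by Fin (2m+1) whose half-discriminant in that basis is a unit. Then the centre of the
Clifford algebra C(Q) is generated by the square root of a unit: there is a central unit z, odd for
the ℤ/2-grading, with z² a scalar, such that 1, z are linearly independent and span the centre. (The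
published statement: the centre is a ℤ/2-graded locally free module of rank 2 with degree-0 part the
structure sheaf and degree-1 part an invertible sheaf squaring to it; over a local base this is the
form stated.) -/
theorem result {R : Type u} [CommRing R] [IsLocalRing R]
    {M : Type v} [AddCommGroup M] [Module R M]
    (m : ℕ) (b : Module.Basis (Fin (2 * m + 1)) R M) (Q : QuadraticForm R M)
    (hQ : QuadGrp.IsSemiregular b (LinearEquiv.refl R R) Q) :
    ∃ z : CliffordAlgebra Q, z ∈ Subalgebra.center R (CliffordAlgebra Q) ∧ z ∈ CliffordAlgebra.evenOdd Q 1 ∧ IsUnit z ∧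
      z * z ∈ (algebraMap R (CliffordAlgebra Q)).range ∧ LinearIndependent R ![(1 : CliffordAlgebra Q), z] ∧
      Subalgebra.toSubmodule (Subalgebra.center R (CliffordAlgebra Q)) = Submodule.span R {1, z} := by
  classical
  open Groth.Agent.Lib.Helper25.Cliff in
  haveI : Module.Free R M := Module.Free.of_basis b
  haveI : Module.Finite R M := Module.Finite.of_basis b
  obtain ⟨z, hz, hzu, hgen⟩ := exists_odd_central_unit m b Q hQ
  refine ⟨z, hz.1, hz.2, hzu, ?_, ?_, ?_⟩
  · obtain ⟨r, hr⟩ := oddCenter_mul_mem_bot m b Q hQ hz hz
    exact ⟨r, hr⟩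
  · rw [LinearIndependent.pair_iff]
    intro s t hst
    have h0 : s • (1 : CliffordAlgebra Q) ∈ CliffordAlgebra.evenOdd Q 0 :=
      Submodule.smul_mem _ _ (SetLike.one_mem_graded _)
    have h1 : t • z ∈ CliffordAlgebra.evenOdd Q 1 := Submodule.smul_mem _ _ hz.2
    have hs0 : s • (1 : CliffordAlgebra Q) = 0 :=
      eq_zero_of_mem_even_of_mem_odd Q h0
        (by rw [eq_neg_of_add_eq_zero_left hst]; exact Submodule.neg_mem _ h1)
    have ht0 : t • z = 0 := by rw [hs0, zero_add] at hst; exact hst
    constructor
    · apply algebraMap_injective Q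
      rw [map_zero, Algebra.algebraMap_eq_smul_one, hs0]
    · obtain ⟨uz, rfl⟩ := hzu
      exact eq_zero_of_smul_unit_eq_zero Q uz t ht0
  · apply le_antisymm
    · intro c hc
      rw [Subalgebra.mem_toSubmodule] at hc
      have hc0 := center_eoProj Q hc 0
      have hc1 := center_eoProj Q hc 1
      obtain ⟨a, ha⟩ := Algebra.mem_bot.mp (even_center_mem_bot m b Q hQ _ hc0 (eoProj Q 0 c).2)
      obtain ⟨t, ht⟩ := hgen _ ⟨hc1, (eoProj Q 1 c).2⟩
      rw [← eoProj_zero_add_one Q c, ← ha, ht, Algebra.algebraMap_eq_smul_one]
      exact Submodule.add_mem _ (Submodule.smul_mem _ _ (Submodule.subset_span (by simp)))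
        (Submodule.smul_mem _ _ (Submodule.subset_span (by simp)))
    · rw [Submodule.span_le]
      rintro x (rfl | rfl)
      · exact Subalgebra.one_mem _
      · exact hz.1

end Groth.Agent.S16999
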