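import Groth.Statements.S17003
import Groth.Agent.Lib.Helper19QSplitL

set_option autoImplicit false
universe u
open scoped TensorProduct
open QuadGrp

namespace Groth.Agent.S17003

/-- Let Q be a quadratic form on R^{2m+1} over a commutative ring R whose half-discriminant in the
standard basis is a unit. Then fppf-locally on R the form Q is isometric to the standard split form
in 2m+1 variables: there is a faithfully flat finitely presented R-algebra A and an isometry between
the base changes to A of Q and of the split form. (For even rank the étale-local statement is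
already available; for odd rank with 2 not a unit the fppf topology is needed.) -/
theorem result (R : Type u) [CommRing R] (m : ℕ)
    (Q : QuadraticForm R (Fin (2 * m + 1) → R))
    (hQ : QuadGrp.IsSemiregular (Pi.basisFun R (Fin (2 * m + 1))) (LinearEquiv.refl R R) Q) :
    ∃ (A : Type u) (_ : CommRing A) (_ : Algebra R A), Module.FaithfullyFlat R A ∧ Algebra.FinitePresentation R A ∧
      Nonempty ((QuadGrp.baseChangeForm A Q).IsometryEquiv
        (QuadGrp.baseChangeForm A (QuadGrp.splitForm R (2 * m + 1)))) := by
  classical
  open Groth.Agent.Lib.Helper19QSplit in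
  rcases subsingleton_or_nontrivial R with hR | hR
  · -- over the zero ring everything is trivial
    refine ⟨R, inferInstance, inferInstance, inferInstance, inferInstance, ⟨?_⟩⟩
    exact
      { LinearEquiv.refl R _ with
        map_app' := fun x => Subsingleton.elim _ _ }
  · let U : Matrix (Fin (2 * m + 1)) (Fin (2 * m + 1)) R := matOf Q
    have hU : IsUnit (QuadGrp.halfDisc (Pi.basisFun R (Fin (2 * m + 1))) (LinearEquiv.refl R R)
        (qfForm U)) := by
      rw [qfForm_matOf]; exact hQ
    obtain ⟨A, _, _, hff, hfp, D, hD⟩ := exists_fppf_oddSplit U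
      (fun K _ φ => nondegenerate_of_isUnit_halfDisc U hU φ) m (by simp)
    obtain ⟨g, hg, hgx⟩ := D.exists_matrix (sigma m)
    refine ⟨A, inferInstance, inferInstance, hff, hfp, ⟨?_⟩⟩
    letI : Invertible g := Matrix.invertibleOfIsUnitDet g hg
    let ge : (Fin (2 * m + 1) → A) ≃ₗ[A] (Fin (2 * m + 1) → A) := Matrix.toLinearEquiv' g ‹_›
    have hge : ∀ x, ge x = g.mulVec x := fun x => by
      change Matrix.toLin' g x = _
      rw [Matrix.toLin'_apply]
    let Φ := coordEquiv (R := R) (n := 2 * m + 1) A
    refine
      { (Φ.trans (ge.symm.trans Φ.symm)) with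
        map_app' := fun z => ?_ }
    change QuadGrp.baseChangeForm A (QuadGrp.splitForm R (2 * m + 1)) (Φ.symm (ge.symm (Φ z))) =
      QuadGrp.baseChangeForm A Q z
    rw [baseChangeForm_splitForm_odd, baseChangeForm_eq_qf]
    change QuadGrp.splitForm A (2 * m + 1) (Φ (Φ.symm (ge.symm (Φ z)))) = _
    rw [LinearEquiv.apply_symm_apply, splitForm_odd_apply]
    have h := hgx (ge.symm (Φ z))
    rw [← hge, LinearEquiv.apply_symm_apply, hD, mul_one] at h
    exact h.symm

end Groth.Agent.S17003
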