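import Groth.Statements.S17005
import Groth.Agent.Lib.Helper18QuadS5

set_option autoImplicit false
universe u
open scoped TensorProduct
open QuadGrp

namespace Groth.Agent.S17005

/-- Let Q be a non-degenerate quadratic form on R^n, n ≥ 3, over a commutative ring R (perfect polar
pairing for even n, unit half-discriminant in the standard basis for odd n). An isometry g of Q of
determinant one commutes, after base change to every R-algebra A, with every determinant-one
isometry of Q_A if and only if g is multiplication by a scalar whose square is one; for odd n such a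
scalar is 1 because the determinant of g is its n-th power. (Points-level form of: the functorial
centre of the naive special orthogonal group is the central μ₂ for even rank and trivial for odd
rank.) -/
theorem result (R : Type u) [CommRing R] (n : ℕ) (hn : 3 ≤ n)
    (Q : QuadraticForm R (Fin n → R))
    (hQ : QuadGrp.IsNondeg (Pi.basisFun R (Fin n)) (LinearEquiv.refl R R) Q)
    (g : (Fin n → R) ≃ₗ[R] (Fin n → R)) (hg : g ∈ QuadGrp.SO' Q) :
    (∀ (A : Type u) [CommRing A] [Algebra R A], ∀ h ∈ QuadGrp.sorth' Q A,
        g.baseChange R A (Fin n → R) (Fin n → R) * h = h * g.baseChange R A (Fin n → R) (Fin n → R)) ↔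
      ∃ c : R, c * c = 1 ∧ ∀ v, g v = c • v := by
  constructor
  · intro h
    have hgO : g ∈ QuadGrp.O Q := (Subgroup.mem_inf.mp hg).1
    rcases subsingleton_or_nontrivial R with hR | hR
    · exact ⟨1, Subsingleton.elim _ _, fun v => Subsingleton.elim _ _⟩
    rcases Nat.even_or_odd n with he | ho
    · have hreg := hQ.1 he
      have hS : Groth.Agent.Lib.Helper18Quad.CommS (DualNumber R) Q g := fun k hk => h _ k hk
      obtain ⟨c, hc⟩ := Groth.Agent.Lib.Helper18Quad.even_core hn Q hreg.2 g
        (Groth.Agent.Lib.Helper18Quad.even_identity Q g hS)
      exact ⟨c, Groth.Agent.Lib.Helper18Quad.sq_one_of_scalar (by omega) Q hreg.2 g hgO c hc, hc⟩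
    · apply Groth.Agent.Lib.Helper18Quad.scalar_of_commReflAll (by omega) Q hQ g hgO
      intro A _ _
      apply Groth.Agent.Lib.Helper18Quad.commRefl_of_commS A Q g
      · rw [Module.finrank_fin_fun]; exact ho
      · exact fun k hk => h A k hk
  · rintro ⟨c, _, hc⟩ A _ _ h hh
    have hG : ∀ y : A ⊗[R] (Fin n → R), g.baseChange R A (Fin n → R) (Fin n → R) y = c • y := by
      intro y
      induction y using TensorProduct.induction_on with
      | zero => simp
      | tmul a m => rw [LinearEquiv.baseChange_tmul, hc, TensorProduct.tmul_smul]
      | add y z hy hz => rw [map_add, hy, hz, smul_add]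
    apply LinearEquiv.ext
    intro y
    rw [LinearEquiv.mul_apply, LinearEquiv.mul_apply, hG, hG]
    exact (LinearMap.map_smul_of_tower h.toLinearMap c y).symm

end Groth.Agent.S17005
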