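import Groth.Statements.S17006
import Groth.Agent.Lib.Helper18QuadE5

set_option autoImplicit false
universe u
open scoped TensorProduct
open QuadGrp

namespace Groth.Agent.S17006

/-- Let Q be a quadratic form on R^{2m}, m ≥ 2, over a commutative ring R, whose polar form is a perfect
pairing. An isometry g of Q satisfying the Dickson condition commutes, after base change to every
R-algebra A, with every isometry of Q_A satisfying the Dickson condition if and only if g is
multiplication by a scalar whose square is one. (Points-level form of: for even rank at least 4 the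
functorial centre of the special orthogonal group is the central μ₂ and coincides with that of the
naive one.) -/
theorem result (R : Type u) [CommRing R] (m : ℕ) (hm : 2 ≤ m)
    (Q : QuadraticForm R (Fin (2 * m) → R)) (hQ : QuadGrp.IsRegular Q)
    (g : (Fin (2 * m) → R) ≃ₗ[R] (Fin (2 * m) → R)) (hg : g ∈ QuadGrp.SO Q) :
    (∀ (A : Type u) [CommRing A] [Algebra R A], ∀ h ∈ QuadGrp.sorth Q A,
        g.baseChange R A (Fin (2 * m) → R) (Fin (2 * m) → R) * h = h * g.baseChange R A (Fin (2 * m) → R) (Fin (2 * m) → R)) ↔
      ∃ c : R, c * c = 1 ∧ ∀ v, g v = c • v := by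
  constructor
  · intro h
    have hgO : g ∈ QuadGrp.O Q := by
      unfold QuadGrp.SO at hg
      split_ifs at hg
      · obtain ⟨hO, _⟩ := hg
        exact hO
      · exact (Subgroup.mem_inf.mp hg).1
    have heven : Even (2 * m) := even_two_mul m
    have hQ' : QuadGrp.IsNondeg (Pi.basisFun R (Fin (2 * m))) (LinearEquiv.refl R R) Q :=
      ⟨fun _ => hQ, fun ho => absurd heven (Nat.not_even_iff_odd.mpr ho)⟩
    have hS : Groth.Agent.Lib.Helper18Quad.CommSOAll Q g := fun A _ _ k hk => h A k hk
    obtain ⟨c, hc⟩ := Groth.Agent.Lib.Helper18Quad.even_core (by omega) Q hQ.2 g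
      (Groth.Agent.Lib.Helper18Quad.identity_of_commSOAll (by omega) Q hQ' g heven hS)
    exact ⟨c, Groth.Agent.Lib.Helper18Quad.sq_one_of_scalar (by omega) Q hQ.2 g hgO c hc, hc⟩
  · rintro ⟨c, _, hc⟩ A _ _ h hh
    have hG : ∀ y : A ⊗[R] (Fin (2 * m) → R),
        g.baseChange R A (Fin (2 * m) → R) (Fin (2 * m) → R) y = c • y := by
      intro y
      induction y using TensorProduct.induction_on with
      | zero => simp
      | tmul a m => rw [LinearEquiv.baseChange_tmul, hc, TensorProduct.tmul_smul]
      | add y z hy hz => rw [map_add, hy, hz, smul_add]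
    apply LinearEquiv.ext
    intro y
    rw [LinearEquiv.mul_apply, LinearEquiv.mul_apply, hG, hG]
    exact (LinearMap.map_smul_of_tower h.toLinearMap c y).symm

end Groth.Agent.S17006
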