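import Groth.Statements.S1701
import Groth.Agent.Lib.Helper2NzdFlat
import Groth.Agent.Lib.Helper2FlatOver

set_option autoImplicit false
universe u
open CategoryTheory CategoryTheory.Limits AlgebraicGeometry TopologicalSpace
open SDiv

namespace Groth.Agent.S1701

open Groth.Agent.Lib.Helper20 Groth.Agent.Lib.Helper2 in

/-- Let f : X ⟶ S be a morphism, 𝓘 the ideal sheaf of an effective Cartier divisor D ⊂ X such that D ⟶ S
is flat (a relative effective Cartier divisor), and x a point of D at which the local ring of X is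
Noetherian. Then f is flat at x. -/
theorem result {X S : Scheme.{u}} (f : X ⟶ S) (𝓘 : X.IdealSheafData)
    (hD : (BlowUp.IsEffCartierIdeal 𝓘 ∧ Flat (𝓘.subschemeι ≫ f))) (d : ↥𝓘.subscheme) [IsNoetherianRing (X.presheaf.stalk (𝓘.subschemeι d))] :
    (f.stalkMap (𝓘.subschemeι d)).hom.Flat := by
  obtain ⟨hE, hF⟩ := hD
  haveI := hF
  set x : X := 𝓘.subschemeι d with hxdef
  obtain ⟨W, hW, hfxW, -⟩ := exists_isAffineOpen_mem_and_subset (x := f x) (U := (⊤ : S.Opens)) trivial
  obtain ⟨U, hU, hxU, hUW, a, ha, hIa⟩ :=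
    EffCartier.exists_le_of_isEffCartierIdeal hE x (f ⁻¹ᵁ W) hfxW
  letI algAB : Algebra Γ(S, W) Γ(X, U) := (f.appLE W U hUW).hom.toAlgebra
  have q1 := RelCartier.flat_quotient_of_flat f 𝓘 hW hU hUW
  rw [hIa] at q1
  -- the stalk as an algebra
  letI algBB' : Algebra Γ(X, U) (X.presheaf.stalk x) := X.presheaf.algebra_section_stalk ⟨x, hxU⟩
  haveI locB' := hU.isLocalization_stalk ⟨x, hxU⟩
  letI algAB' : Algebra Γ(S, W) (X.presheaf.stalk x) :=
    ((algebraMap Γ(X, U) (X.presheaf.stalk x)).comp (algebraMap Γ(S, W) Γ(X, U))).toAlgebra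
  haveI : IsScalarTower Γ(S, W) Γ(X, U) (X.presheaf.stalk x) := IsScalarTower.of_algebraMap_eq (fun _ => rfl)
  -- the germ of `a`
  set a' : X.presheaf.stalk x := algebraMap Γ(X, U) (X.presheaf.stalk x) a with ha'def
  have ha'm : a' ∈ IsLocalRing.maximalIdeal (X.presheaf.stalk x) := by
    rw [IsLocalRing.mem_maximalIdeal, mem_nonunits_iff]
    have hxs : x ∈ 𝓘.support := by
      rw [← SetLike.mem_coe, ← Scheme.IdealSheafData.range_subschemeι]
      exact ⟨d, rfl⟩
    rw [Scheme.IdealSheafData.mem_support_iff_of_mem (U := ⟨U, hU⟩) hxU, hIa] at hxs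
    intro hu
    have hxb : x ∈ X.basicOpen a := (Scheme.mem_basicOpen X a x hxU).2 hu
    rw [Scheme.mem_zeroLocus_iff] at hxs
    exact hxs a (Ideal.subset_span (Set.mem_singleton a)) hxb
  have ha'r : a' ∈ nonZeroDivisors (X.presheaf.stalk x) :=
    IsLocalization.map_nonZeroDivisors_le (hU.primeIdealOf ⟨x, hxU⟩).asIdeal.primeCompl _
      (Submonoid.mem_map_of_mem _ ha)
  -- flatness of the quotient of the stalk
  have q2 : Module.Flat Γ(S, W) (X.presheaf.stalk x ⧸ Ideal.span {a'}) := by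
    have h0 : Submodule.localized' (X.presheaf.stalk x) (hU.primeIdealOf ⟨x, hxU⟩).asIdeal.primeCompl
        (Algebra.linearMap Γ(X, U) (X.presheaf.stalk x)) (Ideal.span {a}) = Ideal.span {a'} := by
      have : Submodule.localized' (X.presheaf.stalk x) (hU.primeIdealOf ⟨x, hxU⟩).asIdeal.primeCompl
          (Algebra.linearMap Γ(X, U) (X.presheaf.stalk x)) (Ideal.span {a}) =
          Ideal.map (algebraMap Γ(X, U) (X.presheaf.stalk x)) (Ideal.span {a}) := by
        rw [Ideal.map, Ideal.span, Submodule.localized'_eq_span, Algebra.coe_linearMap]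
      rw [this, Ideal.map_span, Set.image_singleton]
    haveI := q1
    have h1 := FlatOver.flat_of_isLocalizedModule_tower (R := Γ(S, W))
      (hU.primeIdealOf ⟨x, hxU⟩).asIdeal.primeCompl
      (Submodule.toLocalizedQuotient' (X.presheaf.stalk x) (hU.primeIdealOf ⟨x, hxU⟩).asIdeal.primeCompl
        (Algebra.linearMap Γ(X, U) (X.presheaf.stalk x)) (Ideal.span {a}))
    rw [h0] at h1
    exact h1
  haveI := q2
  have q3 : Module.Flat Γ(S, W) (X.presheaf.stalk x) := NzdFlat.flat_of_flat_quotient_nzd a' ha'm ha'r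
  -- pass to the local ring of the base
  letI := S.presheaf.algebra_section_stalk ⟨f x, hfxW⟩
  haveI := hW.isLocalization_stalk ⟨f x, hfxW⟩
  letI := (f.stalkMap x).hom.toAlgebra
  haveI : IsScalarTower Γ(S, W) (S.presheaf.stalk (f x)) (X.presheaf.stalk x) := by
    refine IsScalarTower.of_algebraMap_eq (fun r => ?_)
    exact (FlatOver.stalkMap_germ_eq f hUW x hxU r).symm
  exact (Module.flat_iff_of_isLocalization (S.presheaf.stalk (f x))
    (hW.primeIdealOf ⟨f x, hfxW⟩).asIdeal.primeCompl (X.presheaf.stalk x)).2 q3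

end Groth.Agent.S1701
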