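import Groth.Statements.S17016
import Mathlib

set_option autoImplicit false
universe u
open QuadGrp

namespace Groth.Agent.S17016

variable (R : Type u) [CommRing R] (m : ℕ)

theorem splitForm_apply (x : Fin (m * 2) → R) :
    QuadGrp.splitForm R (m * 2) x =
      ∑ i : Fin m, x (finProdFinEquiv (i, 0)) * x (finProdFinEquiv (i, 1)) := by
  have hm : m * 2 / 2 = m := Nat.mul_div_cancel m (by norm_num)
  have hmod : m * 2 % 2 = 0 := Nat.mul_mod_left m 2
  have hne : ¬ (m * 2 % 2 = 1) := by omega
  unfold QuadGrp.splitForm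
  rw [dif_neg hne, add_zero, QuadraticMap.sum_apply]
  refine Fintype.sum_equiv (finCongr hm) _ _ (fun i => ?_)
  rw [QuadraticMap.linMulLin_apply]
  simp only [LinearMap.proj_apply]
  congr 2
  · apply Fin.ext
    simp [finProdFinEquiv, hmod]
  · apply Fin.ext
    simp [finProdFinEquiv, hmod]
    omega

theorem single_apply (p q : Fin m × Fin 2) :
    (Pi.single (finProdFinEquiv p) (1 : R) : Fin (m * 2) → R) (finProdFinEquiv q) =
      if q = p then 1 else 0 := by
  rw [Pi.single_apply]
  simp only [EmbeddingLike.apply_eq_iff_eq]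

theorem Q_single (p : Fin m × Fin 2) :
    QuadGrp.splitForm R (m * 2) (Pi.single (finProdFinEquiv p) (1 : R)) = 0 := by
  rw [splitForm_apply]
  apply Finset.sum_eq_zero
  intro i _
  rw [single_apply, single_apply]
  by_cases h0 : (i, (0 : Fin 2)) = p
  · have h1 : ¬ ((i, (1 : Fin 2)) = p) := by
      rw [← h0]; simp
    rw [if_neg h1, mul_zero]
  · rw [if_neg h0, zero_mul]

theorem polar_single (p q : Fin m × Fin 2) :
    QuadraticMap.polar (QuadGrp.splitForm R (m * 2)) (Pi.single (finProdFinEquiv p) (1 : R))
      (Pi.single (finProdFinEquiv q) (1 : R)) =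
      ∑ i : Fin m, ((if (i, (0 : Fin 2)) = p then (1 : R) else 0) * (if (i, (1 : Fin 2)) = q then 1 else 0)
        + (if (i, (0 : Fin 2)) = q then (1 : R) else 0) * (if (i, (1 : Fin 2)) = p then 1 else 0)) := by
  unfold QuadraticMap.polar
  rw [Q_single, Q_single, sub_zero, sub_zero, splitForm_apply]
  apply Finset.sum_congr rfl
  intro i _
  simp only [Pi.add_apply, single_apply]
  have ha : (if (i, (0 : Fin 2)) = p then (1 : R) else 0) * (if (i, (1 : Fin 2)) = p then 1 else 0) = 0 := by
    by_cases h0 : (i, (0 : Fin 2)) = p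
    · have h1 : ¬ ((i, (1 : Fin 2)) = p) := by
        rw [← h0]; simp
      rw [if_neg h1, mul_zero]
    · rw [if_neg h0, zero_mul]
  have hb : (if (i, (0 : Fin 2)) = q then (1 : R) else 0) * (if (i, (1 : Fin 2)) = q then 1 else 0) = 0 := by
    by_cases h0 : (i, (0 : Fin 2)) = q
    · have h1 : ¬ ((i, (1 : Fin 2)) = q) := by
        rw [← h0]; simp
      rw [if_neg h1, mul_zero]
    · rw [if_neg h0, zero_mul]
  linear_combination ha + hb

theorem polar_ne (i k : Fin m) (hik : i ≠ k) (c d : Fin 2) :
    QuadraticMap.polar (QuadGrp.splitForm R (m * 2)) (Pi.single (finProdFinEquiv (i, c)) (1 : R))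
      (Pi.single (finProdFinEquiv (k, d)) (1 : R)) = 0 := by
  rw [polar_single]
  apply Finset.sum_eq_zero
  intro j _
  simp only [Prod.mk.injEq]
  by_cases h1 : j = i
  · have h2 : ¬ (j = k) := fun h => hik (h1.symm.trans h)
    simp [h2]
  · simp [h1]

theorem polar_same (i : Fin m) :
    QuadraticMap.polar (QuadGrp.splitForm R (m * 2)) (Pi.single (finProdFinEquiv (i, 0)) (1 : R))
      (Pi.single (finProdFinEquiv (i, 1)) (1 : R)) = 1 := by
  rw [polar_single]
  rw [Finset.sum_eq_single i]
  · simp
  · intro j _ hj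
    simp [hj]
  · intro h
    exact absurd (Finset.mem_univ i) h


section ring
variable {C : Type*} [Ring C]

theorem gen_u_sq (a b : C) (haa : a * a = 0) (hbb : b * b = 0) (hab : a * b + b * a = 1) :
    (1 - 2 * (a * b)) * (1 - 2 * (a * b)) = 1 := by
  have hba : b * a = 1 - a * b := by rw [← hab]; abel
  have h1 : a * b * (a * b) = a * b := by
    calc a * b * (a * b) = a * (b * a) * b := by noncomm_ring
      _ = a * (1 - a * b) * b := by rw [hba]
      _ = a * b - (a * a) * (b * b) := by noncomm_ring
      _ = a * b := by rw [haa]; simp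
  calc (1 - 2 * (a * b)) * (1 - 2 * (a * b)) = 1 - 4 * (a * b) + 4 * (a * b * (a * b)) := by
        noncomm_ring
    _ = 1 := by rw [h1]; abel

theorem gen_a_u (a b : C) (haa : a * a = 0) (hab : a * b + b * a = 1) :
    a * (1 - 2 * (a * b)) = -((1 - 2 * (a * b)) * a) := by
  have hba : b * a = 1 - a * b := by rw [← hab]; abel
  have h1 : a * (1 - 2 * (a * b)) = a := by
    calc a * (1 - 2 * (a * b)) = a - 2 * (a * a * b) := by noncomm_ring
      _ = a := by rw [haa]; simp
  have h2 : (1 - 2 * (a * b)) * a = -a := by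
    calc (1 - 2 * (a * b)) * a = a - 2 * (a * (b * a)) := by noncomm_ring
      _ = a - 2 * (a * (1 - a * b)) := by rw [hba]
      _ = -a + 2 * (a * a * b) := by noncomm_ring
      _ = -a := by rw [haa]; simp
  rw [h1, h2, neg_neg]

theorem gen_b_u (a b : C) (hbb : b * b = 0) (hab : a * b + b * a = 1) :
    b * (1 - 2 * (a * b)) = -((1 - 2 * (a * b)) * b) := by
  have hba : b * a = 1 - a * b := by rw [← hab]; abel
  have h1 : b * (1 - 2 * (a * b)) = -b := by
    calc b * (1 - 2 * (a * b)) = b - 2 * ((b * a) * b) := by noncomm_ring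
      _ = b - 2 * ((1 - a * b) * b) := by rw [hba]
      _ = -b + 2 * (a * (b * b)) := by noncomm_ring
      _ = -b := by rw [hbb]; simp
  have h2 : (1 - 2 * (a * b)) * b = b := by
    calc (1 - 2 * (a * b)) * b = b - 2 * (a * (b * b)) := by noncomm_ring
      _ = b := by rw [hbb]; simp
  rw [h1, h2]

theorem gen_comm_u (x a b : C) (hxa : x * a = -(a * x)) (hxb : x * b = -(b * x)) :
    Commute x (1 - 2 * (a * b)) := by
  have h : x * (a * b) = a * b * x := by
    calc x * (a * b) = (x * a) * b := by noncomm_ring
      _ = -(a * (x * b)) := by rw [hxa]; noncomm_ring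
      _ = a * b * x := by rw [hxb]; noncomm_ring
  have h2 : Commute x (a * b) := h
  exact (Commute.one_right x).sub_right ((Commute.ofNat_right x 2).mul_right h2)

end ring


section cliff

/-- basis vector of the Clifford algebra -/
noncomputable def E (p : Fin m × Fin 2) : CliffordAlgebra (QuadGrp.splitForm R (m * 2)) :=
  CliffordAlgebra.ι (QuadGrp.splitForm R (m * 2)) (Pi.single (finProdFinEquiv p) 1)

theorem E_sq (p : Fin m × Fin 2) : E R m p * E R m p = 0 := by
  unfold E
  rw [CliffordAlgebra.ι_sq_scalar, Q_single, map_zero]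

theorem E_anti (i k : Fin m) (hik : i ≠ k) (c d : Fin 2) :
    E R m (i, c) * E R m (k, d) = -(E R m (k, d) * E R m (i, c)) := by
  unfold E
  apply eq_neg_of_add_eq_zero_left
  rw [CliffordAlgebra.ι_mul_ι_add_swap, polar_ne R m i k hik, map_zero]

theorem E_same (i : Fin m) :
    E R m (i, 0) * E R m (i, 1) + E R m (i, 1) * E R m (i, 0) = 1 := by
  unfold E
  rw [CliffordAlgebra.ι_mul_ι_add_swap, polar_same, map_one]

noncomputable def U (i : Fin m) : CliffordAlgebra (QuadGrp.splitForm R (m * 2)) :=
  1 - 2 * (E R m (i, 0) * E R m (i, 1))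

theorem U_sq (i : Fin m) : U R m i * U R m i = 1 :=
  gen_u_sq _ _ (E_sq R m _) (E_sq R m _) (E_same R m i)

theorem E_comm_U (i k : Fin m) (hik : k ≠ i) (d : Fin 2) : Commute (E R m (k, d)) (U R m i) :=
  gen_comm_u _ _ _ (E_anti R m k i hik d 0) (E_anti R m k i hik d 1)

theorem E_anti_U (i : Fin m) (c : Fin 2) : E R m (i, c) * U R m i = -(U R m i * E R m (i, c)) := by
  rcases Fin.exists_fin_two.mp ⟨c, rfl⟩ with h | h
  · subst h
    exact gen_a_u _ _ (E_sq R m _) (E_same R m i)
  · subst h
    exact gen_b_u _ _ (E_sq R m _) (E_same R m i)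

theorem U_comm (i k : Fin m) : Commute (U R m i) (U R m k) := by
  by_cases hik : i = k
  · subst hik; exact Commute.refl _
  · have h0 : Commute (U R m i) (E R m (k, 0)) := (E_comm_U R m i k (Ne.symm hik) 0).symm
    have h1 : Commute (U R m i) (E R m (k, 1)) := (E_comm_U R m i k (Ne.symm hik) 1).symm
    exact (Commute.one_right _).sub_right ((Commute.ofNat_right _ 2).mul_right (h0.mul_right h1))

noncomputable def W (l : List (Fin m)) : CliffordAlgebra (QuadGrp.splitForm R (m * 2)) :=
  (l.map (U R m)).prod

theorem W_cons (i : Fin m) (l : List (Fin m)) : W R m (i :: l) = U R m i * W R m l := by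
  unfold W; simp

theorem U_comm_W (i : Fin m) (l : List (Fin m)) : Commute (U R m i) (W R m l) := by
  unfold W
  apply Commute.list_prod_right
  intro x hx
  obtain ⟨k, _, rfl⟩ := List.mem_map.mp hx
  exact U_comm R m i k

theorem W_sq (l : List (Fin m)) : W R m l * W R m l = 1 := by
  induction l with
  | nil => simp [W]
  | cons i l ih =>
    rw [W_cons]
    have hc := U_comm_W R m i l
    calc U R m i * W R m l * (U R m i * W R m l)
        = U R m i * (W R m l * U R m i) * W R m l := by noncomm_ring
      _ = U R m i * (U R m i * W R m l) * W R m l := by rw [hc.eq]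
      _ = (U R m i * U R m i) * (W R m l * W R m l) := by noncomm_ring
      _ = 1 := by rw [U_sq, ih, mul_one]

theorem E_comm_W (k : Fin m) (d : Fin 2) (l : List (Fin m)) (hk : k ∉ l) :
    Commute (E R m (k, d)) (W R m l) := by
  unfold W
  apply Commute.list_prod_right
  intro x hx
  obtain ⟨i, hi, rfl⟩ := List.mem_map.mp hx
  exact E_comm_U R m i k (fun h => hk (h ▸ hi)) d

theorem E_anti_W (k : Fin m) (d : Fin 2) (l : List (Fin m)) (hl : l.Nodup) (hk : k ∈ l) :
    E R m (k, d) * W R m l = -(W R m l * E R m (k, d)) := by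
  induction l with
  | nil => simp at hk
  | cons i l ih =>
    rw [W_cons]
    rw [List.nodup_cons] at hl
    by_cases hik : k = i
    · subst hik
      have hc := E_comm_W R m k d l hl.1
      calc E R m (k, d) * (U R m k * W R m l) = (E R m (k, d) * U R m k) * W R m l := by
            noncomm_ring
        _ = -(U R m k * (E R m (k, d) * W R m l)) := by rw [E_anti_U]; noncomm_ring
        _ = -(U R m k * W R m l * E R m (k, d)) := by rw [hc.eq]; noncomm_ring
    · have hkl : k ∈ l := by
        rcases List.mem_cons.mp hk with h | h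
        · exact absurd h hik
        · exact h
      have hc := E_comm_U R m i k hik d
      calc E R m (k, d) * (U R m i * W R m l) = (E R m (k, d) * U R m i) * W R m l := by
            noncomm_ring
        _ = U R m i * (E R m (k, d) * W R m l) := by rw [hc.eq]; noncomm_ring
        _ = -(U R m i * W R m l * E R m (k, d)) := by rw [ih hl.2 hkl]; noncomm_ring

end cliff

/-- For the standard split quadratic form Σ x_{2i} x_{2i+1} on R^{2m} over any commutative ring R, with
standard basis vectors e_j in the Clifford algebra, the product w of the elements 1 − 2 e_{2i}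
e_{2i+1} (i < m, which pairwise commute) satisfies w² = 1 and anticommutes with every e_j. (Hence w
is central in the even Clifford algebra; over rings in which 2 is invertible (1 − w)/2 is the
non-trivial central idempotent of the even part.) -/
theorem result (R : Type u) [CommRing R] (m : ℕ) :
    let Q := QuadGrp.splitForm R (m * 2)
    let e : Fin (m * 2) → CliffordAlgebra Q := fun j => CliffordAlgebra.ι Q (Pi.single j 1)
    let w : CliffordAlgebra Q :=
      ((List.finRange m).map fun i => 1 - 2 * (e (finProdFinEquiv (i, 0)) * e (finProdFinEquiv (i, 1)))).prod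
    w * w = 1 ∧ ∀ j : Fin (m * 2), e j * w = -(w * e j) := by
  intro Q e w
  have hw : w = W R m (List.finRange m) := rfl
  refine ⟨?_, ?_⟩
  · rw [hw]; exact W_sq R m _
  · intro j
    have hj : e j = E R m (finProdFinEquiv.symm j) := by
      show CliffordAlgebra.ι Q (Pi.single j 1) = CliffordAlgebra.ι Q (Pi.single (finProdFinEquiv (finProdFinEquiv.symm j)) 1)
      rw [Equiv.apply_symm_apply]
    rw [hj, hw]
    exact E_anti_W R m _ _ _ (List.nodup_finRange m) (List.mem_finRange _)

end Groth.Agent.S17016
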