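import Groth.Statements.S17017
import Groth.Agent.Lib.Helper18Cl4

set_option autoImplicit false
universe u
open QuadGrp

namespace Groth.Agent.S17017

/-- Over a field k, for the standard split quadratic form x₀² + x₁x₂ on k³, every even unit of the
Clifford algebra normalises the subspace k³, i.e. lies in the naive Clifford group; so the even
Clifford group is the whole unit group of the even Clifford algebra. (The published claim is made
over fields of characteristic different from 2; here it is stated for every field.) -/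
theorem result (k : Type u) [Field k] :
    QuadGrp.evenUnits (QuadGrp.splitForm k 3) ≤ QuadGrp.GPin' (QuadGrp.splitForm k 3) := by
  intro u hu
  rw [QuadGrp.mem_GPin']
  have hu' : u⁻¹ ∈ QuadGrp.evenUnits (QuadGrp.splitForm k 3) :=
    (QuadGrp.evenUnits _).inv_mem hu
  rw [QuadGrp.mem_evenUnits] at hu hu'
  ext x
  rw [Submodule.mem_smul_pointwise_iff_exists]
  constructor
  · rintro ⟨y, ⟨v, rfl⟩, rfl⟩
    obtain ⟨v', hv'⟩ := Groth.Agent.Lib.Helper18Cl.conj_ι_mem u hu v
    refine ⟨v', ?_⟩
    rw [← hv', ConjAct.units_smul_def]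
    simp
  · rintro ⟨v, rfl⟩
    obtain ⟨v', hv'⟩ := Groth.Agent.Lib.Helper18Cl.conj_ι_mem u⁻¹ hu' v
    refine ⟨_, ⟨v', rfl⟩, ?_⟩
    rw [← hv', ConjAct.units_smul_def]
    simp [mul_assoc]

end Groth.Agent.S17017
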