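import Groth.Statements.S17018
import Groth.Agent.Lib.Helper2CycGysinPull
-- import your own Groth.Agent.* helpers here

set_option autoImplicit false
universe u
open CategoryTheory CategoryTheory.Limits AlgebraicGeometry
open scoped TensorProduct
open Models

namespace Groth.Agent.S17018

open Groth.Agent.Lib.Helper2.CycGysinPull


/-- algebra: in a DVR `B`, a radical ideal which is neither `⊥` nor `⊤` is the maximal ideal. -/
theorem eq_maximalIdeal_of_isRadical {B : Type u} [CommRing B] [IsDomain B] [IsDiscreteValuationRing B]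
    (J : Ideal B) (hrad : J.IsRadical) (h0 : J ≠ ⊥) (h1 : J ≠ ⊤) :
    IsLocalRing.maximalIdeal B = J := by
  obtain ⟨ϖ, hϖ⟩ := IsDiscreteValuationRing.exists_irreducible B
  obtain ⟨n, hn⟩ := IsDiscreteValuationRing.ideal_eq_span_pow_irreducible h0 hϖ
  have hmem : ϖ ∈ J := by
    apply hrad
    refine ⟨n, ?_⟩
    rw [hn]
    exact Ideal.mem_span_singleton_self _
  apply le_antisymm
  · rw [hϖ.maximalIdeal_eq]
    exact (Ideal.span_singleton_le_iff_mem J).mpr hmem
  · exact IsLocalRing.le_maximalIdeal h1




theorem ker_app_top {R : Type u} [CommRing R] [IsLocalRing R] :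
    RingHom.ker ((Spec.map (CommRingCat.ofHom (IsLocalRing.residue R))).app ⊤).hom =
      (IsLocalRing.maximalIdeal R).map (Scheme.ΓSpecIso (CommRingCat.of R)).inv.hom := by
  ext t
  rw [RingHom.mem_ker]
  obtain ⟨r, rfl⟩ : ∃ r : R, (Scheme.ΓSpecIso (CommRingCat.of R)).inv.hom r = t :=
    ⟨(Scheme.ΓSpecIso (CommRingCat.of R)).hom.hom t, by
      change ((Scheme.ΓSpecIso (CommRingCat.of R)).hom ≫ (Scheme.ΓSpecIso (CommRingCat.of R)).inv) t = t
      rw [Iso.hom_inv_id]; rfl⟩
  have hnat := Scheme.ΓSpecIso_inv_naturality (CommRingCat.ofHom (IsLocalRing.residue R))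
  have h1 : ((Spec.map (CommRingCat.ofHom (IsLocalRing.residue R))).app ⊤).hom
      ((Scheme.ΓSpecIso (CommRingCat.of R)).inv.hom r) =
      (Scheme.ΓSpecIso (CommRingCat.of (IsLocalRing.ResidueField R))).inv.hom (IsLocalRing.residue R r) := by
    have := congrArg (fun g => g.hom r) hnat
    exact this.symm
  rw [h1]
  have hinj : Function.Injective (Scheme.ΓSpecIso (CommRingCat.of (IsLocalRing.ResidueField R))).inv.hom :=
    ((Scheme.ΓSpecIso (CommRingCat.of (IsLocalRing.ResidueField R))).symm.commRingCatIsoToRingEquiv).injective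
  have hinjR : Function.Injective (Scheme.ΓSpecIso (CommRingCat.of R)).inv.hom :=
    ((Scheme.ΓSpecIso (CommRingCat.of R)).symm.commRingCatIsoToRingEquiv).injective
  constructor
  · intro h
    have h0 : IsLocalRing.residue R r = 0 := hinj (h.trans (map_zero _).symm)
    exact Ideal.mem_map_of_mem _ ((IsLocalRing.residue_eq_zero_iff r).mp h0)
  · intro h
    have hsurj : Function.Surjective (Scheme.ΓSpecIso (CommRingCat.of R)).inv.hom :=
      ((Scheme.ΓSpecIso (CommRingCat.of R)).symm.commRingCatIsoToRingEquiv).surjective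
    obtain ⟨r', hr', hrr'⟩ := (Ideal.mem_map_iff_of_surjective _ hsurj).mp h
    obtain rfl := hinjR hrr'
    rw [(IsLocalRing.residue_eq_zero_iff r').mpr hr']
    exact map_zero _




theorem ker_stalkMap_eq {R : Type u} [CommRing R] [IsLocalRing R]
    {X Xs : Scheme.{u}} (f : X ⟶ Spec (CommRingCat.of R)) (gs : Xs ⟶ X)
    (fs : Xs ⟶ Spec (CommRingCat.of (IsLocalRing.ResidueField R)))
    (hs : IsPullback gs fs f (Spec.map (CommRingCat.ofHom (IsLocalRing.residue R)))) (ξ : Xs) :
    RingHom.ker (gs.stalkMap ξ).hom =
      (IsLocalRing.maximalIdeal R).map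
        ((X.presheaf.germ ⊤ (gs.base ξ) trivial).hom.comp (Coh.toGlobal f)) := by
  haveI : IsClosedImmersion (Spec.map (CommRingCat.ofHom (IsLocalRing.residue R))) :=
    IsClosedImmersion.spec_of_surjective _ IsLocalRing.residue_surjective
  have hker := ker_stalkMap_of_isPullback hs.flip ξ (isAffineOpen_top (Spec (CommRingCat.of R)))
    (Set.mem_univ _)
  rw [hker, ker_app_top, Ideal.map_map, Ideal.map_map]
  congr 1
  ext r
  simp only [RingHom.comp_apply, Coh.toGlobal]
  exact (f.germ_stalkMap_apply ⊤ (gs.base ξ) (Set.mem_univ _)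
    ((Scheme.ΓSpecIso (CommRingCat.of R)).inv.hom r))



theorem injective_of_flat_isLocalHom {A B : Type u} [CommRing A] [CommRing B] [IsLocalRing A]
    [IsLocalRing B] (g : A →+* B) [IsLocalHom g] (hg : g.Flat) : Function.Injective g := by
  algebraize [g]
  haveI : IsLocalHom (algebraMap A B) := by rw [RingHom.algebraMap_toAlgebra]; infer_instance
  haveI : Module.FaithfullyFlat A B := Module.FaithfullyFlat.of_flat_of_isLocalHom
  exact FaithfulSMul.algebraMap_injective A B

theorem toStalk_injective {R : Type u} [CommRing R] [IsDomain R]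
    {X : Scheme.{u}} (f : X ⟶ Spec (CommRingCat.of R)) [Flat f] (x : X) :
    Function.Injective ((X.presheaf.germ ⊤ x trivial).hom.comp (Coh.toGlobal f)) := by
  have heq : (X.presheaf.germ ⊤ x trivial).hom.comp (Coh.toGlobal f) =
      (f.stalkMap x).hom.comp
        (((Spec (CommRingCat.of R)).presheaf.germ ⊤ (f x) trivial).hom.comp
          (Scheme.ΓSpecIso (CommRingCat.of R)).inv.hom) := by
    ext r
    simp only [RingHom.comp_apply, Coh.toGlobal]
    exact (f.germ_stalkMap_apply ⊤ x (Set.mem_univ _)
      ((Scheme.ΓSpecIso (CommRingCat.of R)).inv.hom r)).symm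
  rw [heq]
  have h1 : Function.Injective (f.stalkMap x).hom :=
    injective_of_flat_isLocalHom _ (Flat.stalkMap f x)
  have h3 : Function.Injective (Scheme.ΓSpecIso (CommRingCat.of R)).inv.hom :=
    ((Scheme.ΓSpecIso (CommRingCat.of R)).symm.commRingCatIsoToRingEquiv).injective
  have h2 : Function.Injective ((Spec (CommRingCat.of R)).presheaf.germ ⊤ (f x) trivial).hom := by
    have hU := isAffineOpen_top (Spec (CommRingCat.of R))
    haveI : IsDomain Γ(Spec (CommRingCat.of R), ⊤) :=
      ((Scheme.ΓSpecIso (CommRingCat.of R)).commRingCatIsoToRingEquiv).isDomain_iff.mpr inferInstance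
    letI := (Spec (CommRingCat.of R)).presheaf.algebra_section_stalk (⟨f x, trivial⟩ : (⊤ : (Spec (CommRingCat.of R)).Opens))
    have hloc := hU.isLocalization_stalk ⟨f x, trivial⟩
    exact @IsLocalization.injective _ _ _ _ _ _ hloc (Ideal.primeCompl_le_nonZeroDivisors _)
  exact h1.comp (h2.comp h3)



theorem main
    (R : Type u) [CommRing R] [IsDomain R] [IsDiscreteValuationRing R]
    (X : Scheme.{u}) (f : X ⟶ Spec (CommRingCat.of R)) [Flat f]
    (Xs : Scheme.{u}) (gs : Xs ⟶ X) (fs : Xs ⟶ Spec (CommRingCat.of (IsLocalRing.ResidueField R)))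
    (hs : IsPullback gs fs f (Spec.map (CommRingCat.ofHom (IsLocalRing.residue R))))
    [IsReduced Xs]
    (ξ : Xs)
    (B : Type u) [CommRing B] [IsDomain B] [IsDiscreteValuationRing B] [Algebra R B]
    (e : X.presheaf.stalk (gs.base ξ) ≅ CommRingCat.of B)
    (he : e.hom.hom.comp ((X.presheaf.germ ⊤ (gs.base ξ) trivial).hom.comp (Coh.toGlobal f)) =
      algebraMap R B) :
    IsLocalRing.maximalIdeal B = Ideal.map (algebraMap R B) (IsLocalRing.maximalIdeal R) := by
  have hker := ker_stalkMap_eq f gs fs hs ξ
  have hinj := toStalk_injective f (gs.base ξ)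
  have hJ : Ideal.map (algebraMap R B) (IsLocalRing.maximalIdeal R) =
      (RingHom.ker (gs.stalkMap ξ).hom).map e.hom.hom := by
    rw [hker, Ideal.map_map, he]
  have hsurj : Function.Surjective e.hom.hom := e.commRingCatIsoToRingEquiv.surjective
  have heinj : Function.Injective e.hom.hom := e.commRingCatIsoToRingEquiv.injective
  have hinv : ∀ b : B, e.hom.hom (e.inv.hom b) = b := fun b => by
    change (e.inv ≫ e.hom) b = b
    rw [Iso.inv_hom_id]; rfl
  have hmem : ∀ b : B, b ∈ Ideal.map (algebraMap R B) (IsLocalRing.maximalIdeal R) ↔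
      (gs.stalkMap ξ).hom (e.inv.hom b) = 0 := by
    intro b
    rw [hJ, Ideal.mem_map_iff_of_surjective _ hsurj]
    constructor
    · rintro ⟨y, hy, rfl⟩
      have : e.inv.hom (e.hom.hom y) = y := heinj (hinv _)
      rw [this]
      exact hy
    · intro h
      exact ⟨e.inv.hom b, h, hinv b⟩
  apply eq_maximalIdeal_of_isRadical
  · intro b hb
    obtain ⟨n, hn⟩ := hb
    rw [hmem] at hn ⊢
    rw [map_pow, map_pow] at hn
    exact eq_zero_of_pow_eq_zero hn   -- reducedness of the stalk
  · intro h0
    obtain ⟨π, hπ⟩ := IsDiscreteValuationRing.exists_irreducible R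
    have hπm : π ∈ IsLocalRing.maximalIdeal R := by
      rw [hπ.maximalIdeal_eq]; exact Ideal.mem_span_singleton_self _
    have h1 : algebraMap R B π ∈ Ideal.map (algebraMap R B) (IsLocalRing.maximalIdeal R) :=
      Ideal.mem_map_of_mem _ hπm
    rw [h0, Ideal.mem_bot] at h1
    have hinjB : Function.Injective (algebraMap R B) := by
      rw [← he]
      exact heinj.comp hinj
    exact hπ.ne_zero (hinjB (h1.trans (map_zero _).symm))
  · intro h1
    have : (1 : B) ∈ Ideal.map (algebraMap R B) (IsLocalRing.maximalIdeal R) := by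
      rw [h1]; trivial
    rw [hmem, map_one, map_one] at this
    exact one_ne_zero this



/-- Let R be a discrete valuation ring with algebraically closed residue field and f : X → Spec R a
proper flat morphism whose generic fibre (base change to the fraction field of R) is smooth of
relative dimension 1 and connected and whose special fibre (base change to the residue field) is
connected and reduced; let ξ be the generic point of an irreducible component of the special fibre
and B a discrete valuation ring given with an isomorphism from the local ring of X at ξ under which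
R → B is the map induced by f. Then the maximal ideal of B is the extension of the maximal ideal of
R: a uniformizer of R maps to a uniformizer of B. (The published setting takes everything
essentially of finite type over a field of characteristic zero; the printed argument does not use
this and it is not imposed here.) -/
theorem result
    (R : Type u) [CommRing R] [IsDomain R] [IsDiscreteValuationRing R]
    [IsAlgClosed (IsLocalRing.ResidueField R)]
    (X : Scheme.{u}) (f : X ⟶ Spec (CommRingCat.of R)) [IsProper f] [Flat f]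
    (XK : Scheme.{u}) (gK : XK ⟶ X) (fK : XK ⟶ Spec (CommRingCat.of (FractionRing R)))
    (hK : IsPullback gK fK f (Spec.map (CommRingCat.ofHom (algebraMap R (FractionRing R)))))
    [SmoothOfRelativeDimension 1 fK] [ConnectedSpace XK]
    (Xs : Scheme.{u}) (gs : Xs ⟶ X) (fs : Xs ⟶ Spec (CommRingCat.of (IsLocalRing.ResidueField R)))
    (hs : IsPullback gs fs f (Spec.map (CommRingCat.ofHom (IsLocalRing.residue R))))
    [ConnectedSpace Xs] [IsReduced Xs]
    (ξ : Xs) (hξ : closure ({ξ} : Set Xs) ∈ irreducibleComponents Xs)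
    (B : Type u) [CommRing B] [IsDomain B] [IsDiscreteValuationRing B] [Algebra R B]
    (e : X.presheaf.stalk (gs.base ξ) ≅ CommRingCat.of B)
    (he : e.hom.hom.comp ((X.presheaf.germ ⊤ (gs.base ξ) trivial).hom.comp (Coh.toGlobal f)) =
      algebraMap R B) :
    IsLocalRing.maximalIdeal B = Ideal.map (algebraMap R B) (IsLocalRing.maximalIdeal R) := by
  exact main R X f Xs gs fs hs ξ B e he

end Groth.Agent.S17018
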