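import Groth.Statements.S1702
import Groth.Agent.Lib.Helper20RelCartier

set_option autoImplicit false
universe u
open CategoryTheory CategoryTheory.Limits AlgebraicGeometry TopologicalSpace
open SDiv

namespace Groth.Agent.S1702

/-- Let f : X ⟶ S be a morphism and 𝓘₁, 𝓘₂ ideal sheaves of effective Cartier divisors on X whose closed
subschemes are flat over S. Then the product ideal 𝓘₁𝓘₂ (the sum of the divisors) is again the ideal
of an effective Cartier divisor flat over S. -/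
theorem result {X S : Scheme.{u}} (f : X ⟶ S) (𝓘₁ 𝓘₂ : X.IdealSheafData)
    (h₁ : (BlowUp.IsEffCartierIdeal 𝓘₁ ∧ Flat (𝓘₁.subschemeι ≫ f))) (h₂ : (BlowUp.IsEffCartierIdeal 𝓘₂ ∧ Flat (𝓘₂.subschemeι ≫ f))) : (BlowUp.IsEffCartierIdeal (𝓘₁ * 𝓘₂) ∧ Flat ((𝓘₁ * 𝓘₂).subschemeι ≫ f)) := by
  obtain ⟨hE₁, hF₁⟩ := h₁
  obtain ⟨hE₂, hF₂⟩ := h₂
  haveI := hF₁
  haveI := hF₂
  constructor
  · intro x
    obtain ⟨U, hU, hxU, -, a₁, a₂, ha₁, ha₂, hI₁, hI₂⟩ :=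
      Groth.Agent.Lib.Helper20.RelCartier.exists_common hE₁ hE₂ x ⊤ trivial
    refine ⟨⟨U, hU⟩, hxU, a₁ * a₂, mul_mem ha₁ ha₂, ?_⟩
    rw [Scheme.IdealSheafData.ideal_mul]
    change 𝓘₁.ideal ⟨U, hU⟩ * 𝓘₂.ideal ⟨U, hU⟩ = _
    rw [hI₁, hI₂, Ideal.span_singleton_mul_span_singleton]
  · apply Groth.Agent.Lib.Helper20.RelCartier.flat_of_local
    intro x
    obtain ⟨W, hW, hfxW, -⟩ := exists_isAffineOpen_mem_and_subset (x := f x) (U := (⊤ : S.Opens)) trivial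
    obtain ⟨U, hU, hxU, hUW, a₁, a₂, ha₁, ha₂, hI₁, hI₂⟩ :=
      Groth.Agent.Lib.Helper20.RelCartier.exists_common hE₁ hE₂ x (f ⁻¹ᵁ W) hfxW
    refine ⟨W, hW, U, hU, hxU, hUW, ?_⟩
    letI := (f.appLE W U hUW).hom.toAlgebra
    have q1 := Groth.Agent.Lib.Helper20.RelCartier.flat_quotient_of_flat f 𝓘₁ hW hU hUW
    have q2 := Groth.Agent.Lib.Helper20.RelCartier.flat_quotient_of_flat f 𝓘₂ hW hU hUW
    rw [hI₁] at q1
    rw [hI₂] at q2
    have hI : (𝓘₁ * 𝓘₂).ideal ⟨U, hU⟩ = Ideal.span {a₁ * a₂} := by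
      rw [Scheme.IdealSheafData.ideal_mul]
      change 𝓘₁.ideal ⟨U, hU⟩ * 𝓘₂.ideal ⟨U, hU⟩ = _
      rw [hI₁, hI₂, Ideal.span_singleton_mul_span_singleton]
    rw [hI]
    haveI := q1
    haveI := q2
    exact Groth.Agent.Lib.Helper20.RelCartier.flat_of_exact
      (Groth.Agent.Lib.Helper20.RelCartier.mulQ a₁ a₂) (Groth.Agent.Lib.Helper20.RelCartier.facQ a₁ a₂)
      (Groth.Agent.Lib.Helper20.RelCartier.mulQ_injective _ _ ha₁)
      (Groth.Agent.Lib.Helper20.RelCartier.facQ_surjective _ _)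
      (Groth.Agent.Lib.Helper20.RelCartier.exact_mulQ_facQ _ _)

end Groth.Agent.S1702
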