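import Groth.Statements.S1703
import Groth.Agent.Lib.Helper3RegFlatC
import Groth.Agent.Lib.Helper2Div
import Groth.Agent.S0386
import Mathlib

set_option autoImplicit false
set_option linter.style.haveILetI false
universe u
open CategoryTheory CategoryTheory.Limits AlgebraicGeometry TopologicalSpace
open SDiv

namespace Groth.Agent.S1703

open scoped Pointwise

open Groth.Agent.Lib.Helper22.RegFib in
-- a nonzerodivisor stays regular on every localization
theorem isSMulRegular_localizedModule_of_mem_nonZeroDivisors {B : Type*} [CommRing B]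
    (T : Submonoid B) (t : B) (ht : t ∈ nonZeroDivisors B) :
    IsSMulRegular (LocalizedModule T B) t := by
  rw [isSMulRegular_localizedModule_iff]
  rintro x ⟨s, hs, hx⟩
  rw [Submodule.mem_bot] at hx
  refine ⟨s, hs, ?_⟩
  rw [Submodule.mem_bot]
  have h1 : (s • x) * t = 0 := by
    rw [smul_eq_mul] at hx ⊢
    rw [← hx, smul_eq_mul]
    ring
  exact (mem_nonZeroDivisors_iff_right.mp ht) _ h1

-- flatness of the quotient by a principal kernel
theorem flat_quotSMulTop_of_surjective {A B C : Type*} [CommRing A] [CommRing B] [CommRing C]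
    [Algebra A B] [Algebra A C] (π : B →ₐ[A] C) (hπ : Function.Surjective π) (t : B)
    (hker : RingHom.ker π.toRingHom = Ideal.span {t}) [Module.Flat A C] :
    Module.Flat A (QuotSMulTop t B) := by
  have hK : LinearMap.ker π.toLinearMap =
      (t • (⊤ : Submodule B B)).restrictScalars A := by
    ext x
    rw [LinearMap.mem_ker, Submodule.restrictScalars_mem,
      Submodule.mem_smul_pointwise_iff_exists]
    have h1 : π.toLinearMap x = 0 ↔ x ∈ RingHom.ker π.toRingHom := by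
      rw [RingHom.mem_ker]
      rfl
    rw [h1, hker, Ideal.mem_span_singleton']
    constructor
    · rintro ⟨a, rfl⟩
      exact ⟨a, Submodule.mem_top, by rw [smul_eq_mul, mul_comm]⟩
    · rintro ⟨a, -, rfl⟩
      exact ⟨a, by rw [smul_eq_mul, mul_comm]⟩
  exact Module.Flat.of_linearEquiv
    ((Submodule.Quotient.restrictScalarsEquiv A (t • (⊤ : Submodule B B))).symm ≪≫ₗ
      (Submodule.quotEquivOfEq _ _ hK.symm) ≪≫ₗ
      (π.toLinearMap.quotKerEquivOfSurjective hπ))

/-- Let f : X ⟶ S be locally of finite presentation and 𝓘 the ideal sheaf of an effective Cartier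
divisor D ⊂ X with D ⟶ S flat. Then there is an open subscheme U of X containing D such that U ⟶ S
is flat. -/
theorem result {X S : Scheme.{u}} (f : X ⟶ S) [LocallyOfFinitePresentation f] (𝓘 : X.IdealSheafData)
    (hD : (BlowUp.IsEffCartierIdeal 𝓘 ∧ Flat (𝓘.subschemeι ≫ f))) : ∃ U : X.Opens, (𝓘.support : Set ↥X) ⊆ U ∧ Flat (U.ι ≫ f) := by
  obtain ⟨hC, hfl⟩ := hD
  have hopen := Groth.Agent.S0386.result f
  refine ⟨⟨{x | (f.stalkMap x).hom.Flat}, hopen⟩, ?_, ?_⟩
  · intro x hx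
    change (f.stalkMap x).hom.Flat
    obtain ⟨U₀, hxU₀, t, ht, hI⟩ := hC x
    obtain ⟨_, ⟨V, hV : IsAffineOpen V, rfl⟩, hxV, -⟩ :=
      S.isBasis_affineOpens.exists_subset_of_mem_open (Set.mem_univ (f x)) isOpen_univ
    obtain ⟨r, hrle, hxr⟩ := U₀.2.exists_basicOpen_le (V := f ⁻¹ᵁ V) ⟨x, hxV⟩ hxU₀
    change x ∈ X.basicOpen r at hxr
    have hU₁ : IsAffineOpen (X.basicOpen r) := U₀.2.basicOpen r
    -- the restricted equation
    set ρ : Γ(X, U₀.1) →+* Γ(X, X.basicOpen r) :=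
      (X.presheaf.map (homOfLE (X.basicOpen_le r)).op).hom with hρ
    set t₁ : Γ(X, X.basicOpen r) := ρ t with ht₁
    have hI₁ : 𝓘.ideal (X.affineBasicOpen r) = Ideal.span {t₁} := by
      rw [← 𝓘.map_ideal_basicOpen U₀ r, hI, Ideal.map_span, Set.image_singleton]
    haveI : IsLocalization.Away r Γ(X, X.basicOpen r) := U₀.2.isLocalization_basicOpen r
    have ht₁nzd : t₁ ∈ nonZeroDivisors Γ(X, X.basicOpen r) := by
      letI := ρ.toAlgebra
      have : IsLocalization (Submonoid.powers r) Γ(X, X.basicOpen r) :=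
        U₀.2.isLocalization_basicOpen r
      exact IsLocalization.map_nonZeroDivisors_le (Submonoid.powers r) Γ(X, X.basicOpen r)
        ⟨t, ht, rfl⟩
    -- algebra structures
    letI algAB : Algebra Γ(S, V) Γ(X, X.basicOpen r) := (f.appLE V (X.basicOpen r) hrle).hom.toAlgebra
    have hfp : (f.appLE V (X.basicOpen r) hrle).hom.FinitePresentation :=
      HasRingHomProperty.appLE (P := @LocallyOfFinitePresentation) f inferInstance ⟨V, hV⟩
        ⟨X.basicOpen r, hU₁⟩ hrle
    haveI : Algebra.FinitePresentation Γ(S, V) Γ(X, X.basicOpen r) := hfp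
    set q : Ideal Γ(X, X.basicOpen r) := (hU₁.primeIdealOf ⟨x, hxr⟩).asIdeal with hq
    have ht₁q : t₁ ∈ q := by
      have h1 := (Scheme.IdealSheafData.mem_support_iff_of_mem (I := 𝓘)
        (U := X.affineBasicOpen r) hxr).mp hx
      rw [Scheme.mem_zeroLocus_iff] at h1
      have h2 := h1 t₁ (SetLike.mem_coe.mpr (hI₁.ge (Ideal.subset_span (Set.mem_singleton _))))
      by_contra hcon
      exact h2 ((Groth.Agent.Lib.Helper2.mem_basicOpen_iff_notMem_primeIdealOf hU₁ x hxr t₁).mpr hcon)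
    -- flatness of the quotient
    have hW : IsAffineOpen (𝓘.subschemeι ⁻¹ᵁ (X.basicOpen r)) := hU₁.preimage 𝓘.subschemeι
    have hWle : 𝓘.subschemeι ⁻¹ᵁ (X.basicOpen r) ≤ (𝓘.subschemeι ≫ f) ⁻¹ᵁ V := by
      intro y hy
      exact hrle hy
    have hflC : ((𝓘.subschemeι ≫ f).appLE V (𝓘.subschemeι ⁻¹ᵁ (X.basicOpen r)) hWle).hom.Flat :=
      HasRingHomProperty.appLE (P := @Flat) (𝓘.subschemeι ≫ f) hfl ⟨V, hV⟩
        ⟨𝓘.subschemeι ⁻¹ᵁ (X.basicOpen r), hW⟩ hWle
    have hcomp : (𝓘.subschemeι ≫ f).appLE V (𝓘.subschemeι ⁻¹ᵁ (X.basicOpen r)) hWle =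
        f.appLE V (X.basicOpen r) hrle ≫ 𝓘.subschemeι.app (X.basicOpen r) := by
      rw [Scheme.Hom.app_eq_appLE, Scheme.Hom.appLE_comp_appLE]
    letI algAC : Algebra Γ(S, V) Γ(𝓘.subscheme, 𝓘.subschemeι ⁻¹ᵁ (X.basicOpen r)) :=
      ((𝓘.subschemeι ≫ f).appLE V (𝓘.subschemeι ⁻¹ᵁ (X.basicOpen r)) hWle).hom.toAlgebra
    haveI : Module.Flat Γ(S, V) Γ(𝓘.subscheme, 𝓘.subschemeι ⁻¹ᵁ (X.basicOpen r)) := hflC
    let π : Γ(X, X.basicOpen r) →ₐ[Γ(S, V)] Γ(𝓘.subscheme, 𝓘.subschemeι ⁻¹ᵁ (X.basicOpen r)) :=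
      { (𝓘.subschemeι.app (X.basicOpen r)).hom with
        commutes' := fun a => by
          change (𝓘.subschemeι.app (X.basicOpen r)).hom ((f.appLE V (X.basicOpen r) hrle).hom a) =
            ((𝓘.subschemeι ≫ f).appLE V (𝓘.subschemeι ⁻¹ᵁ (X.basicOpen r)) hWle).hom a
          rw [hcomp]
          rfl }
    have hπsurj : Function.Surjective π := 𝓘.subschemeι_app_surjective (X.affineBasicOpen r)
    have hπker : RingHom.ker π.toRingHom = Ideal.span {t₁} := by
      rw [← hI₁, ← 𝓘.ker_subschemeι_app (X.affineBasicOpen r)]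
      rfl
    have hflQ : Module.Flat Γ(S, V) (QuotSMulTop t₁ Γ(X, X.basicOpen r)) :=
      flat_quotSMulTop_of_surjective π hπsurj t₁ hπker
    have hflQ' : Module.Flat Γ(S, V) (LocalizedModule q.primeCompl
        (QuotSMulTop t₁ Γ(X, X.basicOpen r))) :=
      Groth.Agent.Lib.Helper3.FlatLoc.flat_localizedModule_of_flat q.primeCompl
    have hreg := isSMulRegular_localizedModule_of_mem_nonZeroDivisors q.primeCompl t₁ ht₁nzd
    have key := Groth.Agent.Lib.Helper3.RegFlat.core_fp (A := Γ(S, V))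
      (B := Γ(X, X.basicOpen r)) Γ(X, X.basicOpen r) q t₁ ht₁q hreg hflQ'
    exact (Groth.Agent.S0386.flat_stalkMap_iff_localizedModule V hV (X.basicOpen r) hU₁ hrle
      hxr).mpr key
  · rw [Flat.iff_flat_stalkMap]
    intro y
    rw [Scheme.Hom.stalkMap_comp]
    exact RingHom.Flat.comp (f := (f.stalkMap (Scheme.Opens.ι _ y)).hom)
      (g := (Scheme.Hom.stalkMap (Scheme.Opens.ι _) y).hom) y.2
      (RingHom.Flat.of_bijective
        (ConcreteCategory.bijective_of_isIso (Scheme.Hom.stalkMap (Scheme.Opens.ι _) y)))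

end Groth.Agent.S1703
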