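import Groth.Statements.S1706
import Groth.Agent.Lib.Helper2Ass

set_option autoImplicit false
universe u
open CategoryTheory CategoryTheory.Limits AlgebraicGeometry TopologicalSpace
open SDiv

namespace Groth.Agent.S1706

/-- Let X be a scheme, F a quasi-coherent module and U an open subset containing every weakly associated
point of F. Then the restriction map Γ(X, F) → Γ(U, F) is injective. -/
theorem result (X : Scheme.{u}) (F : X.Modules) (hF : Coh.IsQCoh F)
    (U : X.Opens) (hU : ∀ x : ↥X, Curv2.IsWeakAssPoint F x → x ∈ U) :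
    Function.Injective (F.presheaf.map (homOfLE (le_top : U ≤ ⊤)).op) := by
  have : F.IsQuasicoherent := hF
  rw [injective_iff_map_eq_zero]
  intro s hs
  by_contra hs0
  -- some germ of s is nonzero
  have hex : ∃ x : X, F.presheaf.germ ⊤ x trivial s ≠ 0 := by
    by_contra hno
    rw [not_exists] at hno
    apply hs0
    apply TopCat.Presheaf.section_ext (⟨F.presheaf, F.isSheaf⟩ : TopCat.Sheaf _ _) ⊤
    intro x hx
    have := hno x
    rw [not_not] at this
    rw [map_zero]
    exact this
  obtain ⟨x, hx⟩ := hex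
  obtain ⟨_, ⟨V, hV, rfl⟩, hxV, -⟩ :=
    X.isBasis_affineOpens.exists_subset_of_mem_open (Set.mem_univ x) isOpen_univ
  set m : Γ(F, V) := F.presheaf.map (homOfLE (le_top : V ≤ ⊤)).op s with hm
  have hm0 : m ≠ 0 := by
    intro h0
    apply hx
    have h1 : F.presheaf.germ V x hxV m = F.presheaf.germ ⊤ x trivial s :=
      TopCat.Presheaf.germ_res_apply F.presheaf (homOfLE (le_top : V ≤ ⊤)) x hxV s
    rw [← h1, h0, map_zero]
  obtain ⟨y, hyV, hyW, hgy⟩ :=
    Groth.Agent.Lib.Helper2.Ass.exists_isWeakAssPoint_of_ne_zero hV F m hm0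
  have hyU : y ∈ U := hU y hyW
  apply hgy
  have h1 : F.presheaf.germ V y hyV m = F.presheaf.germ ⊤ y trivial s :=
    TopCat.Presheaf.germ_res_apply F.presheaf (homOfLE (le_top : V ≤ ⊤)) y hyV s
  have h2 : F.presheaf.germ U y hyU (F.presheaf.map (homOfLE (le_top : U ≤ ⊤)).op s) =
      F.presheaf.germ ⊤ y trivial s :=
    TopCat.Presheaf.germ_res_apply F.presheaf (homOfLE (le_top : U ≤ ⊤)) y hyU s
  rw [h1, ← h2, hs, map_zero]

end Groth.Agent.S1706
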