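import Groth.Statements.S17065
import Mathlib.Tactic
import Mathlib.RingTheory.Filtration
import Mathlib.RingTheory.Finiteness.Nakayama
-- import your own Groth.Agent.* helpers here

set_option autoImplicit false
universe u
open CAlg

namespace Groth.Agent.S17065

/-- The local algebraic statement its proof establishes: let A be a Noetherian ring, I ≤ J radical
ideals and Â the J-adic completion of A. If J^n Â ⊆ I Â for some n, then the closed set V(J) is open
inside V(I) ⊆ Spec A. (Globally: if X₂ ⊆ X₁ are the completions of a locally Noetherian scheme along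
nested closed subsets Z₂ ⊆ Z₁ and the ideal of Z₁ generates an ideal of definition of X₂, then X₂ is
a union of connected components of X₁.) -/
theorem result (A : Type u) [CommRing A] [IsNoetherianRing A]
    (I J : Ideal A) (hIJ : I ≤ J) (hI : I.IsRadical) (hJ : J.IsRadical) (n : ℕ)
    (h : (J ^ n).map (algebraMap A (AdicCompletion J A)) ≤ I.map (algebraMap A (AdicCompletion J A))) :
    IsOpen ((fun x : PrimeSpectrum.zeroLocus (I : Set A) => (x : PrimeSpectrum A)) ⁻¹'
      PrimeSpectrum.zeroLocus (J : Set A)) := by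
  classical
  -- Step 1: `J ^ n ≤ I ⊔ J ^ m` for all `m`
  have h1 : ∀ m : ℕ, J ^ n ≤ I ⊔ J ^ m := by
    intro m x hx
    have hx1 : algebraMap A (AdicCompletion J A) x ∈ I.map (algebraMap A (AdicCompletion J A)) :=
      h (Ideal.mem_map_of_mem _ hx)
    have hx2 := Ideal.mem_map_of_mem ((AdicCompletion.evalₐ J m : AdicCompletion J A →ₐ[A] A ⧸ J ^ m) :
        AdicCompletion J A →+* A ⧸ J ^ m) hx1
    rw [Ideal.map_map] at hx2
    have hcomp : ((AdicCompletion.evalₐ J m : AdicCompletion J A →ₐ[A] A ⧸ J ^ m) :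
        AdicCompletion J A →+* A ⧸ J ^ m).comp (algebraMap A (AdicCompletion J A)) =
        Ideal.Quotient.mk (J ^ m) := by
      ext a
      simp
    rw [hcomp] at hx2
    have hx3 : ((AdicCompletion.evalₐ J m : AdicCompletion J A →ₐ[A] A ⧸ J ^ m) :
        AdicCompletion J A →+* A ⧸ J ^ m) (algebraMap A (AdicCompletion J A) x) =
        Ideal.Quotient.mk (J ^ m) x := by
      rw [← hcomp]; rfl
    rw [hx3, Ideal.mem_quotient_iff_mem_sup] at hx2
    exact hx2
  -- Step 2: Nakayama on the image of `J ^ n` in `A ⧸ I`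
  let N : Submodule A (A ⧸ I) := Submodule.map (Submodule.mkQ I) (J ^ n)
  have hNfg : N.FG := Submodule.FG.map _ (IsNoetherian.noetherian (J ^ n))
  have hNle : N ≤ J • N := by
    intro y hy
    have hy' : y ∈ (⨅ i : ℕ, J ^ i • ⊤ : Submodule A (A ⧸ I)) := by
      obtain ⟨x, hx, rfl⟩ := hy
      rw [Submodule.mem_iInf]
      intro i
      obtain ⟨a, ha, b, hb, rfl⟩ := Submodule.mem_sup.mp (h1 i hx)
      have hza : Submodule.mkQ I a = 0 := by
        rw [Submodule.mkQ_apply, Submodule.Quotient.mk_eq_zero]; exact ha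
      have hb' : Submodule.mkQ I b = b • (Submodule.mkQ I (1 : A)) := by
        rw [← map_smul, smul_eq_mul, mul_one]
      rw [map_add, hza, zero_add, hb']
      exact Submodule.smul_mem_smul hb Submodule.mem_top
    obtain ⟨r, hr⟩ := (Ideal.mem_iInf_smul_pow_eq_bot_iff J y).mp hy'
    rw [← hr]
    exact Submodule.smul_mem_smul r.2 hy
  obtain ⟨r, hr1, hr2⟩ :=
    Submodule.exists_sub_one_mem_and_smul_eq_zero_of_fg_of_le_smul J N hNfg hNle
  have hr3 : ∀ x ∈ J ^ n, r * x ∈ I := by
    intro x hx
    have := hr2 (Submodule.mkQ I x) ⟨x, hx, rfl⟩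
    rw [← map_smul, Submodule.mkQ_apply, Submodule.Quotient.mk_eq_zero, smul_eq_mul] at this
    exact this
  -- Step 3: the set is the trace of a basic open
  have hset : ((fun x : PrimeSpectrum.zeroLocus (I : Set A) => (x : PrimeSpectrum A)) ⁻¹'
      PrimeSpectrum.zeroLocus (J : Set A)) =
      (fun x : PrimeSpectrum.zeroLocus (I : Set A) => (x : PrimeSpectrum A)) ⁻¹'
        (PrimeSpectrum.basicOpen r : Set (PrimeSpectrum A)) := by
    ext ⟨p, hp⟩
    have hpI : I ≤ p.asIdeal := (PrimeSpectrum.mem_zeroLocus _ _).mp hp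
    simp only [Set.mem_preimage, PrimeSpectrum.mem_zeroLocus, SetLike.coe_subset_coe,
      SetLike.mem_coe, PrimeSpectrum.mem_basicOpen]
    constructor
    · intro hJ hrp
      have h1p : (1 : A) ∈ p.asIdeal := by
        have : (1 : A) = r - (r - 1) := by ring
        rw [this]
        exact p.asIdeal.sub_mem hrp (hJ hr1)
      exact p.isPrime.ne_top ((Ideal.eq_top_iff_one _).mpr h1p)
    · intro hrp x hx
      have hxn : r * x ^ n ∈ p.asIdeal := hpI (hr3 _ (Ideal.pow_mem_pow hx n))
      rcases p.isPrime.mem_or_mem hxn with h | h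
      · exact absurd h hrp
      · exact p.isPrime.mem_of_pow_mem n h
  rw [hset]
  exact (PrimeSpectrum.basicOpen r).isOpen.preimage continuous_subtype_val

end Groth.Agent.S17065
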