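import Groth.Statements.S17073
import Groth.Agent.Lib.Helper8Watts
import Groth.Agent.S0326

set_option autoImplicit false
open CategoryTheory
universe u
open LocCoh

namespace Groth.Agent.S17073

open Groth.Agent.Lib.Helper8.Watts Groth.Agent.Lib.Helper8.LocDual

section Aux

variable {S : Type u} [CommRing S] [IsNoetherianRing S]

/-- `cd(S, J) ≤ d` when `J` is, up to radical, generated by `d` elements. -/
theorem cdLE_of_radical (J : Ideal S) (d : ℕ) (u : Fin d → S) (hu : ∀ i, u i ∈ J)
    (hJ : J ≤ (Ideal.span (Set.range u)).radical) : LocCoh.CdLE S J d := by
  classical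
  intro M _ _ i hi
  let s : Finset S := Finset.image u Finset.univ
  have hs : (s : Set S) = Set.range u := by
    ext x
    simp [s]
  have hcard : s.card ≤ d := by
    refine (Finset.card_image_le).trans ?_
    simp
  have hcd := Groth.Agent.S0326.result S s
  rw [hs] at hcd
  have hsub := hcd M i (lt_of_le_of_lt hcard hi)
  have hrad : J.radical = (Ideal.span (Set.range u)).radical := by
    apply le_antisymm
    · exact (Ideal.radical_le_radical_iff).mpr hJ
    · apply Ideal.radical_mono
      rw [Ideal.span_le]
      rintro x ⟨j, rfl⟩
      exact hu j
  have e := (localCohomology.isoOfSameRadical hrad i).app (ModuleCat.of S M)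
  exact e.toLinearEquiv.toEquiv.subsingleton

/-- The Watts isomorphism as a natural isomorphism of functors. -/
noncomputable def wattsIso (J : Ideal S) (d : ℕ) (hcd : LocCoh.CdLE S J d) :
    MonoidalCategory.tensorLeft ((localCohomology J d).obj (ModuleCat.of S S)) ≅
      localCohomology J d :=
  NatIso.ofComponents (fun E => (τEquiv J d hcd E).toModuleIso) (by
    intro E E' φ
    apply ModuleCat.hom_ext
    apply LinearMap.ext
    intro t
    exact (τ_natural J d φ t).symm)

end Aux

/-- Let R → S be a homomorphism of Noetherian rings, J an ideal of S containing elements u₁, …, u_d such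
that S/(u₁, …, u_d) is a finite R-module and J lies in the radical of (u₁, …, u_d), and let F be a
finite R-module. Then the functor sending an S-module E to the set Hom_R(H^d_J(E), F) (d-th local
cohomology supported in J, scalars restricted to R) is representable by an S-module. (The published
statement gives the representing module as the degree −d cohomology of RHom_R(RΓ_J S, F) and a
bifunctorial isomorphism; only representability is asserted here.) -/
theorem result
    (R S : Type u) [CommRing R] [CommRing S] [IsNoetherianRing R] [IsNoetherianRing S] [Algebra R S]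
    (J : Ideal S) (d : ℕ) (u : Fin d → S) (hu : ∀ i, u i ∈ J)
    (hJ : J ≤ (Ideal.span (Set.range u)).radical) [Module.Finite R (S ⧸ Ideal.span (Set.range u))]
    (F : Type u) [AddCommGroup F] [Module R F] [Module.Finite R F] :
    ((localCohomology J d ⋙ ModuleCat.restrictScalars (algebraMap R S)).op ⋙
      yoneda.obj (ModuleCat.of R F)).IsRepresentable := by
  have hcd := cdLE_of_radical J d u hu hJ
  let e := wattsIso J d hcd
  let adj := (ihom.adjunction ((localCohomology J d).obj (ModuleCat.of S S))).comp
    (ModuleCat.restrictCoextendScalarsAdj (algebraMap R S))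
  have rep := adj.representableBy (ModuleCat.of R F)
  exact ⟨_, ⟨rep.ofIso (Functor.isoWhiskerRight
    (NatIso.op (Functor.isoWhiskerRight e (ModuleCat.restrictScalars (algebraMap R S)))).symm
    (yoneda.obj (ModuleCat.of R F)))⟩⟩

end Groth.Agent.S17073
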