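import Groth.Statements.S17076
import Mathlib
import Groth.Agent.Lib.Helper12FibIsoD
-- import your own Groth.Agent.* helpers here

set_option autoImplicit false
set_option linter.style.haveILetI false
set_option linter.unusedSectionVars false
universe u
open CategoryTheory CategoryTheory.Limits AlgebraicGeometry
open MorSch

namespace Groth.Agent.S17076

open Groth.Agent.Lib.Helper12.ComplMorA Groth.Agent.Lib.Helper12.FibIsoB
  Groth.Agent.Lib.Helper12.FibIsoD

section BC

variable {S X Y : Scheme.{u}} (g : X ⟶ S) (k : Y ⟶ S) (p : X ⟶ Y) (w : p ≫ k = g)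

/-- the base change of `p` along `t : T ⟶ S`. -/
noncomputable def bc {T : Scheme.{u}} (t : T ⟶ S) : pullback g t ⟶ pullback k t :=
  pullback.map g t k t p (𝟙 T) (𝟙 S) ((Category.comp_id _).trans w.symm)
    ((Category.comp_id _).trans (Category.id_comp _).symm)

theorem isPullback_bc_fst {T : Scheme.{u}} (t : T ⟶ S) :
    IsPullback (pullback.fst g t) (bc g k p w t) p (pullback.fst k t) :=
  isPullback_map_fst g k p w t ((Category.comp_id _).trans w.symm)
    ((Category.comp_id _).trans (Category.id_comp _).symm)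

/-- transition maps -/
noncomputable def tr (q : Y ⟶ S) {T T' : Scheme.{u}} (u : T' ⟶ T) (t : T ⟶ S) :
    pullback q (u ≫ t) ⟶ pullback q t :=
  pullback.map q (u ≫ t) q t (𝟙 _) u (𝟙 S) (by simp) (by simp)

theorem isPullback_tr_snd (q : Y ⟶ S) {T T' : Scheme.{u}} (u : T' ⟶ T) (t : T ⟶ S) :
    IsPullback (tr q u t) (pullback.snd q (u ≫ t)) (pullback.snd q t) u := by
  have hfst : tr q u t ≫ pullback.fst q t = pullback.fst q (u ≫ t) :=
    (pullback.lift_fst _ _ _).trans (Category.comp_id _)
  have hsnd : tr q u t ≫ pullback.snd q t = pullback.snd q (u ≫ t) ≫ u :=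
    pullback.lift_snd _ _ _
  refine IsPullback.of_right ?_ hsnd (IsPullback.of_hasPullback q t)
  rw [hfst]
  exact IsPullback.of_hasPullback q (u ≫ t)

theorem isPullback_bc_tr {T T' : Scheme.{u}} (u : T' ⟶ T) (t : T ⟶ S) :
    IsPullback (bc g k p w (u ≫ t)) (tr g u t) (tr k u t) (bc g k p w t) := by
  have hfst : tr g u t ≫ pullback.fst g t = pullback.fst g (u ≫ t) :=
    (pullback.lift_fst _ _ _).trans (Category.comp_id _)
  have hfst' : tr k u t ≫ pullback.fst k t = pullback.fst k (u ≫ t) :=
    (pullback.lift_fst _ _ _).trans (Category.comp_id _)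
  have hcomm : tr g u t ≫ bc g k p w t = bc g k p w (u ≫ t) ≫ tr k u t := by
    apply pullback.hom_ext <;>
      simp only [tr, bc, pullback.map, Category.assoc, pullback.lift_fst, pullback.lift_snd,
        pullback.lift_fst_assoc, pullback.lift_snd_assoc, Category.comp_id]
  refine (IsPullback.of_right ?_ hcomm (isPullback_bc_fst g k p w t)).flip
  rw [hfst, hfst']
  exact isPullback_bc_fst g k p w (u ≫ t)

theorem isIso_bc_comp {T T' : Scheme.{u}} (u : T' ⟶ T) (t : T ⟶ S) (h : IsIso (bc g k p w t)) :
    IsIso (bc g k p w (u ≫ t)) :=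
  (MorphismProperty.isomorphisms Scheme.{u}).of_isPullback (isPullback_bc_tr g k p w u t).flip h

theorem isIso_bc_of_comp {T T' : Scheme.{u}} (u : T' ⟶ T) (t : T ⟶ S) [Surjective u] [Flat u]
    [QuasiCompact u] (h : IsIso (bc g k p w (u ≫ t))) : IsIso (bc g k p w t) := by
  have hQ : (@Surjective ⊓ @Flat ⊓ @QuasiCompact : MorphismProperty Scheme.{u}) (tr k u t) := by
    have sq := isPullback_tr_snd k u t
    refine ⟨⟨?_, ?_⟩, ?_⟩
    · exact (MorphismProperty.of_isPullback (P := @Surjective) sq.flip inferInstance)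
    · exact (MorphismProperty.of_isPullback (P := @Flat) sq.flip inferInstance)
    · exact (MorphismProperty.of_isPullback (P := @QuasiCompact) sq.flip inferInstance)
  exact MorphismProperty.of_isPullback_of_descendsAlong
    (P := MorphismProperty.isomorphisms Scheme.{u})
    (Q := (@Surjective ⊓ @Flat ⊓ @QuasiCompact : MorphismProperty Scheme.{u}))
    (isPullback_bc_tr g k p w u t) hQ h

end BC

theorem map_left_eq {S : Scheme.{u}} (X Y : Over S) (f : X ⟶ Y) {S' : Scheme.{u}} (h : S' ⟶ S) :
    ((Over.pullback h).map f).left = bc X.hom Y.hom f.left (Over.w f) h := by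
  apply pullback.hom_ext <;> simp [bc, pullback.map]

theorem faithfullyFlat_SpecMap_of_field {K L : Type u} [Field K] [Field L]
    (φ : CommRingCat.of K ⟶ CommRingCat.of L) :
    Flat (Spec.map φ) ∧ Surjective (Spec.map φ) := by
  rw [flat_and_surjective_SpecMap_iff]
  letI := φ.hom.toAlgebra
  show Module.FaithfullyFlat K L
  infer_instance


/-- Let S be a locally Noetherian scheme, X and Y schemes proper over S with X flat over S, and f : X →
Y an S-morphism. Then there is an open subset S₀ of S such that, for every locally Noetherian scheme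
S' and every morphism h : S' → S, the image of h lies in S₀ if and only if the base change X ×_S S'
→ Y ×_S S' of f is an isomorphism. (The published statement also supposes that some fibre of f is an
isomorphism; that hypothesis only serves to make S₀ nonempty and is not needed.) -/
theorem result
    {S : Scheme.{u}} [IsLocallyNoetherian S] (X Y : Over S) [IsProper X.hom] [IsProper Y.hom]
    [Flat X.hom] (f : X ⟶ Y) :
    ∃ S₀ : S.Opens, ∀ (S' : Scheme.{u}) [IsLocallyNoetherian S'] (h : S' ⟶ S),
      Set.range h ⊆ (S₀ : Set S) ↔ IsIso ((Over.pullback h).map f).left := by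
  have w : f.left ≫ Y.hom = X.hom := Over.w f
  obtain ⟨𝒱, h𝒱max, h𝒱⟩ := exists_opens_locus (MorphismProperty.isomorphisms Scheme.{u}) f.left
  have hcl : IsClosed (Y.hom '' ((𝒱 : Set Y.left)ᶜ)) :=
    Y.hom.isClosedMap _ 𝒱.isOpen.isClosed_compl
  refine ⟨⟨(Y.hom '' ((𝒱 : Set Y.left)ᶜ))ᶜ, hcl.isOpen_compl⟩, fun S' _ h => ?_⟩
  rw [map_left_eq]
  constructor
  · intro hrange
    refine of_isPullback_of_range_subset (MorphismProperty.isomorphisms Scheme.{u})
      (isPullback_bc_fst X.hom Y.hom f.left w h) 𝒱 ?_ h𝒱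
    rw [Scheme.Pullback.range_fst]
    intro y hy
    by_contra hy𝒱
    exact hrange hy ⟨y, hy𝒱, rfl⟩
  · rintro hiso _ ⟨s', rfl⟩
    rintro ⟨y, hy𝒱, hys⟩
    apply hy𝒱
    -- the fibre at `h s'` is an isomorphism
    have h1 : IsIso (bc X.hom Y.hom f.left w (S'.fromSpecResidueField s' ≫ h)) :=
      isIso_bc_comp X.hom Y.hom f.left w _ h hiso
    rw [← Scheme.Hom.SpecMap_residueFieldMap_fromSpecResidueField] at h1
    obtain ⟨hfl, hsurj⟩ := faithfullyFlat_SpecMap_of_field
      (K := IsLocalRing.ResidueField (S.presheaf.stalk (h s')))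
      (L := IsLocalRing.ResidueField (S'.presheaf.stalk s')) (h.residueFieldMap s')
    haveI := hfl
    haveI := hsurj
    have h2 : IsIso (bc X.hom Y.hom f.left w (S.fromSpecResidueField (h s'))) :=
      isIso_bc_of_comp X.hom Y.hom f.left w _ _ h1
    obtain ⟨U, hsU, hU⟩ := exists_isIso_over_nhds (h s') X.hom Y.hom f.left w
      ((Category.comp_id _).trans w.symm) ((Category.comp_id _).trans (Category.id_comp _).symm) h2
    exact h𝒱max _ hU (show Y.hom y ∈ U from hys ▸ hsU)

end Groth.Agent.S17076
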