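import Groth.Statements.S17077
import Mathlib

set_option autoImplicit false
universe u
open RatCurve

namespace Groth.Agent.S17077

/-- Let k be an algebraically closed field and F_0, …, F_{n-1} homogeneous polynomials in k[u, v] (of
possibly different degrees). Then the F_i have a common factor which is not a unit if and only if
they have a common zero (a, b) ≠ (0, 0) in k², that is, a common zero in the projective line. -/
theorem result
    {k : Type u} [Field k] [IsAlgClosed k] {n : ℕ} (F : Fin n → MvPolynomial (Fin 2) k)
    (d : Fin n → ℕ) (hF : ∀ i, (F i).IsHomogeneous (d i)) :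
    (∃ H : MvPolynomial (Fin 2) k, ¬ IsUnit H ∧ ∀ i, H ∣ F i) ↔
      ∃ a : Fin 2 → k, a ≠ 0 ∧ ∀ i, MvPolynomial.eval a (F i) = 0 := by
  classical
  constructor
  · -- common factor ⇒ common zero
    rintro ⟨H, hHu, hHF⟩
    by_contra hno
    push Not at hno
    -- H has no nonzero zero
    have hH0 : ∀ a : Fin 2 → k, a ≠ 0 → MvPolynomial.eval a H ≠ 0 := by
      intro a ha hz
      obtain ⟨i, hi⟩ := hno a ha
      obtain ⟨c, hc⟩ := hHF i
      apply hi
      rw [hc, map_mul, hz, zero_mul]
    have hHne : H ≠ 0 := by
      intro h
      have := hH0 (fun _ => 1) (fun h1 => one_ne_zero (congrFun h1 0))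
      rw [h, map_zero] at this
      exact this rfl
    -- X j ∈ radical (span {H})
    have hrad : ∀ j : Fin 2, (MvPolynomial.X j : MvPolynomial (Fin 2) k) ∈
        (Ideal.span {H}).radical := by
      intro j
      rw [← MvPolynomial.vanishingIdeal_zeroLocus_eq_radical (K := k), MvPolynomial.mem_vanishingIdeal_iff]
      intro x hx
      rw [MvPolynomial.mem_zeroLocus_iff] at hx
      have hxH : MvPolynomial.eval x H = 0 := hx H (Ideal.subset_span rfl)
      have hx0 : x = 0 := by
        by_contra hne
        exact hH0 x hne hxH
      rw [hx0, MvPolynomial.aeval_X]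
      rfl
    obtain ⟨q, hq, hqH⟩ := WfDvdMonoid.exists_irreducible_factor hHu hHne
    have hqp : Prime q := UniqueFactorizationMonoid.irreducible_iff_prime.mp hq
    have hqX : ∀ j : Fin 2, Associated q (MvPolynomial.X j : MvPolynomial (Fin 2) k) := by
      intro j
      obtain ⟨m, hm⟩ := hrad j
      rw [Ideal.mem_span_singleton] at hm
      have h1 : q ∣ (MvPolynomial.X j : MvPolynomial (Fin 2) k) ^ m := dvd_trans hqH hm
      have h2 := hqp.dvd_of_dvd_pow h1
      exact hq.associated_of_dvd (MvPolynomial.X_prime.irreducible) h2
    have h01 : Associated (MvPolynomial.X 0 : MvPolynomial (Fin 2) k) (MvPolynomial.X 1) :=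
      (hqX 0).symm.trans (hqX 1)
    obtain ⟨c, hc⟩ := h01.dvd
    have := congrArg (MvPolynomial.eval (fun j : Fin 2 => if j = 0 then (0 : k) else 1)) hc
    rw [map_mul, MvPolynomial.eval_X, MvPolynomial.eval_X] at this
    simp at this
  · -- common zero ⇒ common factor
    rintro ⟨a, ha, hz⟩
    let H : MvPolynomial (Fin 2) k :=
      MvPolynomial.C (a 1) * MvPolynomial.X 0 - MvPolynomial.C (a 0) * MvPolynomial.X 1
    have hHa : MvPolynomial.eval a H = 0 := by
      simp only [H, map_sub, map_mul, MvPolynomial.eval_C, MvPolynomial.eval_X]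
      ring
    refine ⟨H, ?_, ?_⟩
    · intro hu
      have := hu.map (MvPolynomial.eval a)
      rw [hHa] at this
      exact not_isUnit_zero this
    · intro i
      -- general divisibility facts
      have hmono : ∀ (m : Fin 2 →₀ ℕ) (c : k),
          MvPolynomial.monomial m c = MvPolynomial.C c * MvPolynomial.X 0 ^ m 0 * MvPolynomial.X 1 ^ m 1 := by
        intro m c
        rw [MvPolynomial.monomial_eq, Finsupp.prod_fintype _ _ (fun _ => pow_zero _), Fin.prod_univ_two,
          mul_assoc]
      have hevalm : ∀ (m : Fin 2 →₀ ℕ) (c : k),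
          MvPolynomial.eval a (MvPolynomial.monomial m c) = c * a 0 ^ m 0 * a 1 ^ m 1 := by
        intro m c
        rw [hmono]
        simp
      have hdeg : ∀ m ∈ (F i).support, m 0 + m 1 = d i := by
        intro m hm
        have := (hF i).degree_eq_sum_deg_support hm
        rw [this, Finset.sum_subset (Finset.subset_univ _)
          (by intro x _ hx; exact Finsupp.notMem_support_iff.mp hx), Fin.sum_univ_two]
      have hsum : F i = ∑ m ∈ (F i).support, MvPolynomial.monomial m (MvPolynomial.coeff m (F i)) :=
        (MvPolynomial.support_sum_monomial_coeff (F i)).symm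
      have hzi := hz i
      -- two cases
      have hcase : a 1 ≠ 0 ∨ a 0 ≠ 0 := by
        by_contra h
        push Not at h
        apply ha
        funext j
        fin_cases j
        · exact h.2
        · exact h.1
      rcases hcase with h1 | h0
      · -- H ∣ C (a 1)^d * F - C (eval a F) * X 1 ^ d
        have hterm : ∀ m ∈ (F i).support,
            H ∣ MvPolynomial.C (a 1) ^ (d i) * MvPolynomial.monomial m (MvPolynomial.coeff m (F i)) -
              MvPolynomial.C (MvPolynomial.eval a (MvPolynomial.monomial m (MvPolynomial.coeff m (F i)))) *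
                MvPolynomial.X 1 ^ (d i) := by
          intro m hm
          have hd := hdeg m hm
          have hb : H ∣ (MvPolynomial.C (a 1) * MvPolynomial.X 0) ^ m 0 -
              (MvPolynomial.C (a 0) * MvPolynomial.X 1) ^ m 0 := sub_dvd_pow_sub_pow _ _ _
          rw [hevalm, hmono]
          have hb' := Dvd.dvd.mul_left hb
            (MvPolynomial.C (MvPolynomial.coeff m (F i)) * MvPolynomial.C (a 1) ^ m 1 * MvPolynomial.X 1 ^ m 1)
          convert hb' using 1
          rw [← hd]
          simp only [map_mul, map_pow]
          ring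
        have hall : H ∣ MvPolynomial.C (a 1) ^ (d i) * F i -
            MvPolynomial.C (MvPolynomial.eval a (F i)) * MvPolynomial.X 1 ^ (d i) := by
          have : MvPolynomial.C (a 1) ^ (d i) * F i -
              MvPolynomial.C (MvPolynomial.eval a (F i)) * MvPolynomial.X 1 ^ (d i) =
              ∑ m ∈ (F i).support, (MvPolynomial.C (a 1) ^ (d i) *
                MvPolynomial.monomial m (MvPolynomial.coeff m (F i)) -
                MvPolynomial.C (MvPolynomial.eval a (MvPolynomial.monomial m (MvPolynomial.coeff m (F i)))) *
                  MvPolynomial.X 1 ^ (d i)) := by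
            rw [Finset.sum_sub_distrib, ← Finset.mul_sum, ← Finset.sum_mul, ← map_sum, ← map_sum, ← hsum]
          rw [this]
          exact Finset.dvd_sum hterm
        rw [hzi, map_zero, zero_mul, sub_zero] at hall
        have hunit : IsUnit (MvPolynomial.C (a 1) ^ (d i) : MvPolynomial (Fin 2) k) :=
          ((isUnit_iff_ne_zero.mpr h1).map MvPolynomial.C).pow _
        exact (hunit.dvd_mul_left).mp hall
      · have hterm : ∀ m ∈ (F i).support,
            H ∣ MvPolynomial.C (a 0) ^ (d i) * MvPolynomial.monomial m (MvPolynomial.coeff m (F i)) -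
              MvPolynomial.C (MvPolynomial.eval a (MvPolynomial.monomial m (MvPolynomial.coeff m (F i)))) *
                MvPolynomial.X 0 ^ (d i) := by
          intro m hm
          have hd := hdeg m hm
          have hb : H ∣ (MvPolynomial.C (a 1) * MvPolynomial.X 0) ^ m 1 -
              (MvPolynomial.C (a 0) * MvPolynomial.X 1) ^ m 1 := sub_dvd_pow_sub_pow _ _ _
          rw [hevalm, hmono]
          have hb' := Dvd.dvd.mul_left hb
            (-(MvPolynomial.C (MvPolynomial.coeff m (F i)) * MvPolynomial.C (a 0) ^ m 0 * MvPolynomial.X 0 ^ m 0))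
          convert hb' using 1
          rw [← hd]
          simp only [map_mul, map_pow]
          ring
        have hall : H ∣ MvPolynomial.C (a 0) ^ (d i) * F i -
            MvPolynomial.C (MvPolynomial.eval a (F i)) * MvPolynomial.X 0 ^ (d i) := by
          have : MvPolynomial.C (a 0) ^ (d i) * F i -
              MvPolynomial.C (MvPolynomial.eval a (F i)) * MvPolynomial.X 0 ^ (d i) =
              ∑ m ∈ (F i).support, (MvPolynomial.C (a 0) ^ (d i) *
                MvPolynomial.monomial m (MvPolynomial.coeff m (F i)) -
                MvPolynomial.C (MvPolynomial.eval a (MvPolynomial.monomial m (MvPolynomial.coeff m (F i)))) *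
                  MvPolynomial.X 0 ^ (d i)) := by
            rw [Finset.sum_sub_distrib, ← Finset.mul_sum, ← Finset.sum_mul, ← map_sum, ← map_sum, ← hsum]
          rw [this]
          exact Finset.dvd_sum hterm
        rw [hzi, map_zero, zero_mul, sub_zero] at hall
        have hunit : IsUnit (MvPolynomial.C (a 0) ^ (d i) : MvPolynomial (Fin 2) k) :=
          ((isUnit_iff_ne_zero.mpr h0).map MvPolynomial.C).pow _
        exact (hunit.dvd_mul_left).mp hall

end Groth.Agent.S17077
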