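import Groth.Statements.S17078
import Mathlib
-- import your own Groth.Agent.* helpers here

set_option autoImplicit false
set_option linter.style.haveILetI false
set_option linter.unusedSectionVars false
universe u
open RatCurve

namespace Groth.Agent.S17078

open MvPolynomial

variable {k : Type u} [Field k]

lemma deg_eq {P : MvPolynomial (Fin 2) k} {d : ℕ} (hP : P.IsHomogeneous d) {s : Fin 2 →₀ ℕ}
    (hs : s ∈ P.support) : s 0 + s 1 = d := by
  have : s.degree = d := by
    by_contra h
    exact (mem_support_iff.mp hs) (hP.coeff_eq_zero h)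
  rw [Finsupp.degree_eq_sum, Fin.sum_univ_two] at this
  exact this

lemma aeval_lin {P : MvPolynomial (Fin 2) k} {d : ℕ} (hP : P.IsHomogeneous d) (v : Fin 2 → k)
    (T : MvPolynomial (Fin 2) k) :
    aeval (fun i => C (v i) * T) P = C (eval v P) * T ^ d := by
  rw [aeval_def, eval₂_eq', eval_eq', map_sum, Finset.sum_mul]
  refine Finset.sum_congr rfl fun s hs => ?_
  have hd := deg_eq hP hs
  simp only [Fin.prod_univ_two, map_mul, map_pow, algebraMap_eq]
  rw [← hd]
  ring

lemma sub_mem_of_lin (J : Ideal (MvPolynomial (Fin 2) k)) (v : Fin 2 → k)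
    (T : MvPolynomial (Fin 2) k) (hJ : ∀ i, X i - C (v i) * T ∈ J)
    {P : MvPolynomial (Fin 2) k} {d : ℕ} (hP : P.IsHomogeneous d) :
    P - C (eval v P) * T ^ d ∈ J := by
  rw [← aeval_lin hP v T]
  have key : (Ideal.Quotient.mkₐ k J).comp (aeval (fun i => C (v i) * T))
      = Ideal.Quotient.mkₐ k J := by
    apply MvPolynomial.algHom_ext
    intro i
    simp only [AlgHom.comp_apply, aeval_X, Ideal.Quotient.mkₐ_eq_mk]
    exact (Ideal.Quotient.eq.mpr (hJ i)).symm
  have := AlgHom.congr_fun key P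
  simp only [AlgHom.comp_apply, Ideal.Quotient.mkₐ_eq_mk] at this
  exact Ideal.Quotient.eq.mp this.symm

lemma lin_dvd {P : MvPolynomial (Fin 2) k} {d : ℕ} (hP : P.IsHomogeneous d) (x : Fin 2 → k)
    (hx : x ≠ 0) (h0 : eval x P = 0) : (C (x 1) * X 0 - C (x 0) * X 1) ∣ P := by
  rw [← Ideal.mem_span_singleton]
  by_cases h1 : x 1 = 0
  · have h0' : x 0 ≠ 0 := by
      intro h; apply hx; funext i; fin_cases i <;> simp [h, h1]
    have hC : C (x 0) * C (x 0)⁻¹ = (1 : MvPolynomial (Fin 2) k) := by
      rw [← C_mul, mul_inv_cancel₀ h0', C_1]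
    have := sub_mem_of_lin (Ideal.span {C (x 1) * X 0 - C (x 0) * X 1}) x (C (x 0)⁻¹ * X 0)
      (Fin.forall_fin_two.mpr ⟨?_, ?_⟩) hP
    · rw [h0] at this; simpa using this
    · rw [Ideal.mem_span_singleton]
      refine ⟨0, ?_⟩
      linear_combination (-X 0) * hC
    · rw [Ideal.mem_span_singleton]
      refine ⟨-C (x 0)⁻¹, ?_⟩
      rw [h1, C_0]
      linear_combination (-X 1) * hC
  · have hC : C (x 1) * C (x 1)⁻¹ = (1 : MvPolynomial (Fin 2) k) := by
      rw [← C_mul, mul_inv_cancel₀ h1, C_1]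
    have := sub_mem_of_lin (Ideal.span {C (x 1) * X 0 - C (x 0) * X 1}) x (C (x 1)⁻¹ * X 1)
      (Fin.forall_fin_two.mpr ⟨?_, ?_⟩) hP
    · rw [h0] at this; simpa using this
    · rw [Ideal.mem_span_singleton]
      refine ⟨C (x 1)⁻¹, ?_⟩
      linear_combination (-X 0) * hC
    · rw [Ideal.mem_span_singleton]
      refine ⟨0, ?_⟩
      linear_combination (-X 1) * hC

lemma hc_mul {σ : Type*} {F G : MvPolynomial σ k} {d m : ℕ} (hF : F.IsHomogeneous d)
    (hdm : d ≤ m) :
    homogeneousComponent m (F * G) = F * homogeneousComponent (m - d) G := by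
  classical
  ext s
  rw [coeff_homogeneousComponent, coeff_mul, coeff_mul]
  split_ifs with hs
  · refine Finset.sum_congr rfl fun p hp => ?_
    rw [coeff_homogeneousComponent]
    by_cases hF0 : coeff p.1 F = 0
    · simp [hF0]
    · have hp1 : p.1.degree = d := by
        by_contra h; exact hF0 (hF.coeff_eq_zero h)
      have hsum : p.1 + p.2 = s := Finset.HasAntidiagonal.mem_antidiagonal.mp hp
      have : p.2.degree = m - d := by
        have h3 := congrArg Finsupp.degree hsum
        rw [map_add, hp1, hs] at h3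
        omega
      rw [if_pos this]
  · symm
    refine Finset.sum_eq_zero fun p hp => ?_
    rw [coeff_homogeneousComponent]
    by_cases hF0 : coeff p.1 F = 0
    · simp [hF0]
    · have hp1 : p.1.degree = d := by
        by_contra h; exact hF0 (hF.coeff_eq_zero h)
      have hsum : p.1 + p.2 = s := Finset.HasAntidiagonal.mem_antidiagonal.mp hp
      have : ¬ p.2.degree = m - d := by
        intro h2
        apply hs
        rw [← hsum, map_add, hp1, h2]; omega
      rw [if_neg this, mul_zero]


lemma mono_mem (I : Ideal (MvPolynomial (Fin 2) k)) (N0 N1 a b : ℕ)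
    (h0 : (X 0 : MvPolynomial (Fin 2) k) ^ N0 ∈ I) (h1 : (X 1 : MvPolynomial (Fin 2) k) ^ N1 ∈ I)
    (hle : N0 + N1 ≤ a + b) (c : MvPolynomial (Fin 2) k) :
    c * (X 0 ^ a * X 1 ^ b) ∈ I := by
  rcases Nat.lt_or_ge a N0 with h | h
  · have hb : N1 ≤ b := by omega
    have e : c * (X 0 ^ a * X 1 ^ b) = (c * X 0 ^ a * X 1 ^ (b - N1)) * X 1 ^ N1 := by
      have : (X 1 : MvPolynomial (Fin 2) k) ^ b = X 1 ^ N1 * X 1 ^ (b - N1) := by
        rw [← pow_add, Nat.add_sub_cancel' hb]
      rw [this]; ring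
    rw [e]; exact Ideal.mul_mem_left _ _ h1
  · have e : c * (X 0 ^ a * X 1 ^ b) = (c * X 1 ^ b * X 0 ^ (a - N0)) * X 0 ^ N0 := by
      have : (X 0 : MvPolynomial (Fin 2) k) ^ a = X 0 ^ N0 * X 0 ^ (a - N0) := by
        rw [← pow_add, Nat.add_sub_cancel' h]
      rw [this]; ring
    rw [e]; exact Ideal.mul_mem_left _ _ h0


/-- Let k be an algebraically closed field and F_0, …, F_{n-1} homogeneous polynomials of degree d in
k[u, v]. Then the F_i have no common factor other than units if and only if there is an integer m ≥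
d such that every homogeneous polynomial of degree m can be written Σ_i F_i G_i with each G_i
homogeneous of degree m − d, i.e. the k-linear map (G_i)_i ↦ Σ_i F_i G_i from n copies of k[u,
v]_{m−d} to k[u, v]_m is surjective. -/
theorem result
    {k : Type u} [Field k] [IsAlgClosed k] {n : ℕ} (F : Fin n → MvPolynomial (Fin 2) k)
    (d : ℕ) (hF : ∀ i, (F i).IsHomogeneous d) :
    (¬ ∃ H : MvPolynomial (Fin 2) k, ¬ IsUnit H ∧ ∀ i, H ∣ F i) ↔
      ∃ m : ℕ, d ≤ m ∧ ∀ P : MvPolynomial (Fin 2) k, P.IsHomogeneous m →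
        ∃ G : Fin n → MvPolynomial (Fin 2) k, (∀ i, (G i).IsHomogeneous (m - d)) ∧
          P = ∑ i, F i * G i := by
  constructor
  · intro hno
    have hZ : ∀ x ∈ zeroLocus k (Ideal.span (Set.range F)), x = 0 := by
      intro x hx
      by_contra hx0
      apply hno
      refine ⟨C (x 1) * X 0 - C (x 0) * X 1, ?_, fun i => ?_⟩
      · intro hu
        have h3 := hu.map (eval x)
        have h4 : eval x (C (x 1) * X 0 - C (x 0) * X 1) = 0 := by
          simp only [map_sub, map_mul, eval_C, eval_X]; ring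
        rw [h4] at h3
        exact not_isUnit_zero h3
      · apply lin_dvd (hF i) x hx0
        exact hx (F i) (Ideal.subset_span ⟨i, rfl⟩)
    have hrad : ∀ j : Fin 2, X j ∈ (Ideal.span (Set.range F)).radical := by
      intro j
      rw [← vanishingIdeal_zeroLocus_eq_radical (K := k), mem_vanishingIdeal_iff]
      intro x hx
      rw [hZ x hx]
      simp
    obtain ⟨N0, hN0⟩ := hrad 0
    obtain ⟨N1, hN1⟩ := hrad 1
    refine ⟨max d (N0 + N1), le_max_left _ _, fun P hP => ?_⟩
    have hPI : P ∈ Ideal.span (Set.range F) := by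
      rw [← P.support_sum_monomial_coeff]
      refine Ideal.sum_mem _ fun s hs => ?_
      have hdeg := deg_eq hP hs
      have hmono : monomial s (coeff s P) = C (coeff s P) * (X 0 ^ s 0 * X 1 ^ s 1) := by
        rw [monomial_eq, Finsupp.prod_fintype]
        · rw [Fin.prod_univ_two]
        · intro i; simp
      rw [hmono]
      have hle : N0 + N1 ≤ s 0 + s 1 := by rw [hdeg]; exact le_max_right _ _
      exact mono_mem _ N0 N1 _ _ hN0 hN1 hle _
    obtain ⟨G', hG'⟩ := Ideal.mem_span_range_iff_exists_fun.mp hPI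
    refine ⟨fun i => homogeneousComponent (max d (N0 + N1) - d) (G' i),
      fun i => homogeneousComponent_isHomogeneous _ _, ?_⟩
    have h5 := congrArg (homogeneousComponent (max d (N0 + N1))) hG'
    rw [homogeneousComponent_eq_self hP, map_sum] at h5
    show P = ∑ i, F i * homogeneousComponent (max d (N0 + N1) - d) (G' i)
    rw [← h5]
    refine Finset.sum_congr rfl fun i _ => ?_
    rw [mul_comm (G' i) (F i), hc_mul (hF i) (le_max_left _ _)]
  · rintro ⟨m, hdm, hm⟩ ⟨H, hHu, hH⟩
    apply hHu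
    have hdvd : ∀ P : MvPolynomial (Fin 2) k, P.IsHomogeneous m → H ∣ P := by
      intro P hP
      obtain ⟨G, -, rfl⟩ := hm P hP
      exact Finset.dvd_sum fun i _ => (hH i).mul_right _
    have h0 : H ∣ X 0 ^ m := hdvd _ (by simpa using (isHomogeneous_X k (0 : Fin 2)).pow m)
    have h1 : H ∣ X 1 ^ m := hdvd _ (by simpa using (isHomogeneous_X k (1 : Fin 2)).pow m)
    obtain ⟨a, -, ha⟩ := (dvd_prime_pow (X_prime (i := (0 : Fin 2))) m).mp h0
    obtain ⟨b, -, hb⟩ := (dvd_prime_pow (X_prime (i := (1 : Fin 2))) m).mp h1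
    rcases Nat.eq_zero_or_pos a with rfl | hapos
    · rw [pow_zero] at ha; exact associated_one_iff_isUnit.mp ha
    · exfalso
      have h01 : (X 0 : MvPolynomial (Fin 2) k) ∣ X 1 ^ b := by
        have : (X 0 : MvPolynomial (Fin 2) k) ∣ X 0 ^ a := dvd_pow_self _ hapos.ne'
        exact (this.trans ha.symm.dvd).trans hb.dvd
      have := (X_prime (i := (0 : Fin 2))).dvd_of_dvd_pow h01
      rw [X_dvd_X] at this
      exact absurd this (by decide)

end Groth.Agent.S17078
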