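import Groth.Statements.S17079
import Mathlib

set_option autoImplicit false
universe u
open CategoryTheory CategoryTheory.Limits AlgebraicGeometry
open MorSch

namespace Groth.Agent.S17079

universe v w
set_option linter.unusedSimpArgs false

section general

variable {C : Type w} [Category.{v} C] [HasPullbacks C]

/-- `T' ×_{S'} (X ×_S S') ≅ T' ×_S X`. -/
noncomputable def leftIso {X S S' : C} (gX : X ⟶ S) (h : S' ⟶ S) (T' : Over S') :
    pullback T'.hom (pullback.snd gX h) ≅ pullback (T'.hom ≫ h) gX where
  hom := pullback.lift (pullback.fst _ _) (pullback.snd _ _ ≫ pullback.fst gX h) (by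
    rw [← Category.assoc, pullback.condition, Category.assoc, Category.assoc,
      pullback.condition])
  inv := pullback.lift (pullback.fst _ _)
    (pullback.lift (pullback.snd _ _) (pullback.fst _ _ ≫ T'.hom) (by
      rw [← pullback.condition, Category.assoc])) (by
    rw [pullback.lift_snd])
  hom_inv_id := by
    apply pullback.hom_ext
    · simp [pullback.lift_fst, pullback.lift_snd, pullback.lift_fst_assoc, pullback.lift_snd_assoc]
    · apply pullback.hom_ext
      · simp [pullback.lift_fst, pullback.lift_snd, pullback.lift_fst_assoc,
          pullback.lift_snd_assoc]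
      · simp [pullback.lift_fst, pullback.lift_snd, pullback.lift_fst_assoc,
          pullback.lift_snd_assoc, pullback.condition]
  inv_hom_id := by
    apply pullback.hom_ext <;>
      simp [pullback.lift_fst, pullback.lift_snd, pullback.lift_fst_assoc, pullback.lift_snd_assoc]

/-- The Beck–Chevalley isomorphism. -/
noncomputable def bc {X S S' : C} (gX : X ⟶ S) (h : S' ⟶ S) :
    Over.pullback (pullback.snd gX h) ⋙ Over.map (pullback.snd gX h) ⋙ Over.map h ≅
      Over.map h ⋙ Over.pullback gX ⋙ Over.map gX :=
  NatIso.ofComponents (fun T' => Over.isoMk (leftIso gX h T') (by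
    simp [leftIso, pullback.condition, pullback.lift_fst, pullback.lift_snd,
      pullback.lift_fst_assoc, pullback.lift_snd_assoc])) (by
    intro T'' T' φ
    apply Over.OverMorphism.ext
    apply pullback.hom_ext
    · simp [leftIso, pullback.lift_fst, pullback.lift_snd, pullback.lift_fst_assoc,
        pullback.lift_snd_assoc]
    · simp [leftIso, pullback.lift_fst, pullback.lift_snd, pullback.lift_fst_assoc,
        pullback.lift_snd_assoc])

end general


/-- Let gX : X → S and gY : Y → S be morphisms and suppose the functor Mor_S(X, Y) — sending an S-scheme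
T to the set of S-morphisms T ×_S X → Y, with base change as transition maps — is represented by an
S-scheme M. Then for every morphism h : S' → S the functor Mor_{S'}(X ×_S S', Y ×_S S') on
S'-schemes is represented by M ×_S S'. (The published statement assumes X and Y projective over S
with X flat and S, S' locally Noetherian; this row assumes only that the functor is represented by
M. Only the existence of a representing structure on M ×_S S' is asserted, not its compatibility
with the one on M.) -/
theorem result
    {X Y S S' : Scheme.{u}} (gX : X ⟶ S) (gY : Y ⟶ S) (h : S' ⟶ S)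
    (M : Over S) (e : (Flatn.morS gX gY).RepresentableBy M) :
    Nonempty ((Flatn.morS (pullback.snd gX h) (pullback.snd gY h)).RepresentableBy
      (Over.mk (pullback.snd M.hom h))) := by
  have r1 : ((Over.map h).op ⋙ Flatn.morS gX gY).RepresentableBy ((Over.pullback h).obj M) :=
    { homEquiv := fun {T'} => (((Over.mapPullbackAdj h).homEquiv T' M).symm).trans e.homEquiv
      homEquiv_comp := by
        intro T'' T' f g
        simp only [Equiv.trans_apply, Functor.comp_map, Functor.op_map]
        rw [Adjunction.homEquiv_naturality_left_symm, e.homEquiv_comp]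
        rfl }
  let iso1 : (Over.map h).op ⋙ Flatn.morS gX gY ≅
      (Over.pullback (pullback.snd gX h) ⋙ Over.map (pullback.snd gX h) ⋙ Over.map h).op ⋙
        yoneda.obj (Over.mk gY) :=
    Functor.isoWhiskerRight (NatIso.op (bc gX h)) (yoneda.obj (Over.mk gY))
  let iso2 : (Over.pullback (pullback.snd gX h) ⋙ Over.map (pullback.snd gX h) ⋙ Over.map h).op ⋙
        yoneda.obj (Over.mk gY) ≅ Flatn.morS (pullback.snd gX h) (pullback.snd gY h) :=
    Functor.isoWhiskerLeft (Over.pullback (pullback.snd gX h) ⋙ Over.map (pullback.snd gX h)).op
      (((Over.mapPullbackAdj h).representableBy (Over.mk gY)).toIso).symm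
  exact ⟨r1.ofIso (iso1 ≪≫ iso2)⟩

end Groth.Agent.S17079
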