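import Groth.Statements.S17080
import Mathlib
-- import your own Groth.Agent.* helpers here

set_option autoImplicit false
set_option linter.style.haveILetI false
set_option linter.unusedSectionVars false
universe u
open CategoryTheory CategoryTheory.Limits AlgebraicGeometry
open MorSch

namespace Groth.Agent.S17080

theorem exists_preimage_of_isPullback {P A B C : Scheme.{u}} {fst : P ⟶ A} {snd : P ⟶ B}
    {f : A ⟶ C} {g : B ⟶ C} (h : IsPullback fst snd f g) (a : A) (b : B) (hab : f a = g b) :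
    ∃ z : P, fst z = a ∧ snd z = b := by
  obtain ⟨w, hw1, hw2⟩ := Scheme.Pullback.exists_preimage_pullback a b hab
  refine ⟨h.isoPullback.inv w, ?_, ?_⟩
  · rw [← Scheme.Hom.comp_apply, h.isoPullback_inv_fst]
    exact hw1
  · rw [← Scheme.Hom.comp_apply, h.isoPullback_inv_snd]
    exact hw2

theorem exists_lift {S U : Scheme.{u}} {B : Over S} (j : U ⟶ B.left) [IsOpenImmersion j]
    {A : Over S} (b : A ⟶ B) (h : Set.range b.left ⊆ Set.range j) :
    ∃ b₀ : A ⟶ Over.mk (j ≫ B.hom),
      b₀ ≫ (Over.homMk j rfl : Over.mk (j ≫ B.hom) ⟶ B) = b := by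
  refine ⟨Over.homMk (IsOpenImmersion.lift j b.left h) ?_, ?_⟩
  · change IsOpenImmersion.lift j b.left h ≫ (j ≫ B.hom) = A.hom
    rw [← Category.assoc, IsOpenImmersion.lift_fac]
    exact Over.w b
  · ext
    exact IsOpenImmersion.lift_fac _ _ _

theorem cancel_homMk {S U : Scheme.{u}} {B : Over S} (j : U ⟶ B.left) [IsOpenImmersion j]
    {A : Over S} {b₀ b₁ : A ⟶ Over.mk (j ≫ B.hom)}
    (h : b₀ ≫ (Over.homMk j rfl : Over.mk (j ≫ B.hom) ⟶ B) =
      b₁ ≫ (Over.homMk j rfl : Over.mk (j ≫ B.hom) ⟶ B)) : b₀ = b₁ := by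
  ext
  have h1 := congrArg CommaMorphism.left h
  simp only [Over.comp_left, Over.homMk_left] at h1
  exact (cancel_mono j).mp h1


/-- Let gX : X → S be proper and flat, gY : Y → S separated and j : U → Y an open immersion, and suppose
the functor Mor_S(X, Y) — S-schemes T ↦ S-morphisms T ×_S X → Y — is represented by an S-scheme M
via e. Then there are an open subset M₀ of M and a representation e₀ of Mor_S(X, U) by the open
subscheme M₀ (viewed over S through M) which is compatible with e: for every S-morphism φ : T → M₀,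
the S-morphism T ×_S X → Y classified by φ followed by the inclusion M₀ → M is the S-morphism T ×_S
X → U classified by φ, followed by j. In particular the morphism Mor_S(X, U) → Mor_S(X, Y) induced
by j is an open immersion. (Published for X projective and flat and Y quasi-projective over a
locally Noetherian S, which is how M is known to exist there; representability is taken as a
hypothesis here.) -/
theorem result
    {X Y U S : Scheme.{u}} (gX : X ⟶ S) [IsProper gX] [Flat gX] (gY : Y ⟶ S) [IsSeparated gY]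
    (j : U ⟶ Y) [IsOpenImmersion j] (M : Over S) (e : (Flatn.morS gX gY).RepresentableBy M) :
    ∃ (M₀ : M.left.Opens)
      (e₀ : (Flatn.morS gX (j ≫ gY)).RepresentableBy (Over.mk (M₀.ι ≫ M.hom))),
      ∀ (T : Over S) (φ : T ⟶ Over.mk (M₀.ι ≫ M.hom)),
        (e.homEquiv (φ ≫ Over.homMk M₀.ι rfl) :
            (Over.map gX).obj ((Over.pullback gX).obj T) ⟶ Over.mk gY) =
          (e₀.homEquiv φ : (Over.map gX).obj ((Over.pullback gX).obj T) ⟶ Over.mk (j ≫ gY)) ≫
            (Over.homMk j rfl : Over.mk (j ≫ gY) ⟶ Over.mk gY) := by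
  classical
  -- the universal morphism
  let u : (Over.map gX).obj ((Over.pullback gX).obj M) ⟶ Over.mk gY := e.homEquiv (𝟙 M)
  have factA : ∀ (T : Over S) (φ : T ⟶ M),
      (e.homEquiv φ : (Over.map gX).obj ((Over.pullback gX).obj T) ⟶ Over.mk gY) =
        (Over.map gX).map ((Over.pullback gX).map φ) ≫ u := by
    intro T φ
    have h := e.homEquiv_comp φ (𝟙 M)
    rw [Category.comp_id] at h
    exact h
  let π : pullback M.hom gX ⟶ M.left := pullback.fst M.hom gX
  let C : Set ↥(pullback M.hom gX) := u.left ⁻¹' (Set.range j)ᶜ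
  have hC : IsClosed C :=
    (IsOpenImmersion.isOpen_range j).isClosed_compl.preimage u.left.continuous
  haveI : IsProper π := inferInstance
  have hπC : IsClosed (π '' C) := π.isClosedMap _ hC
  let M₀ : M.left.Opens := ⟨(π '' C)ᶜ, hπC.isOpen_compl⟩
  -- key characterisation
  have factB : ∀ (T : Over S) (φ : T ⟶ M),
      Set.range (e.homEquiv φ : (Over.map gX).obj ((Over.pullback gX).obj T) ⟶ Over.mk gY).left ⊆
        Set.range j ↔ Set.range φ.left ⊆ (M₀ : Set M.left) := by
    intro T φ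
    let φX : pullback T.hom gX ⟶ pullback M.hom gX := ((Over.pullback gX).map φ).left
    have hleft : (e.homEquiv φ : (Over.map gX).obj ((Over.pullback gX).obj T) ⟶ Over.mk gY).left =
        φX ≫ u.left := by
      rw [factA T φ]
      rfl
    have hφX1 : φX ≫ pullback.fst M.hom gX = pullback.fst T.hom gX ≫ φ.left :=
      pullback.lift_fst _ _ _
    have hφX2 : φX ≫ pullback.snd M.hom gX = pullback.snd T.hom gX :=
      pullback.lift_snd _ _ _
    have hsq : IsPullback φX (pullback.fst T.hom gX) (pullback.fst M.hom gX) φ.left := by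
      refine IsPullback.of_right ?_ hφX1 (IsPullback.of_hasPullback M.hom gX).flip
      rw [hφX2, Over.w φ]
      exact (IsPullback.of_hasPullback T.hom gX).flip
    constructor
    · rintro h _ ⟨t, rfl⟩ ⟨c, hc, hct⟩
      obtain ⟨z, hz1, hz2⟩ := exists_preimage_of_isPullback hsq c t hct
      have h1 : (e.homEquiv φ : (Over.map gX).obj ((Over.pullback gX).obj T) ⟶
          Over.mk gY).left z ∈ Set.range j := h ⟨z, rfl⟩
      rw [hleft, Scheme.Hom.comp_apply, hz1] at h1
      exact hc h1
    · rintro h _ ⟨z, rfl⟩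
      by_contra hcon
      rw [hleft, Scheme.Hom.comp_apply] at hcon
      have h1 : φX z ∈ C := hcon
      have h2 : π (φX z) ∈ π '' C := ⟨_, h1, rfl⟩
      have h3 : π (φX z) = φ.left (pullback.fst T.hom gX z) := by
        rw [← Scheme.Hom.comp_apply, ← Scheme.Hom.comp_apply]
        exact congrArg (fun ψ : pullback T.hom gX ⟶ M.left => ψ z) hφX1
      rw [h3] at h2
      exact h ⟨_, rfl⟩ h2
  let J : Over.mk (j ≫ gY) ⟶ Over.mk gY := Over.homMk j rfl
  let I₀ : Over.mk (M₀.ι ≫ M.hom) ⟶ M := Over.homMk M₀.ι rfl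
  have hrangeI : ∀ (T : Over S) (φ : T ⟶ Over.mk (M₀.ι ≫ M.hom)),
      Set.range (φ ≫ I₀).left ⊆ (M₀ : Set M.left) := by
    rintro T φ _ ⟨t, rfl⟩
    have h1 : (M₀.ι (φ.left t)) ∈ Set.range M₀.ι := ⟨_, rfl⟩
    rw [Scheme.Opens.range_ι] at h1
    exact h1
  have hex1 : ∀ (T : Over S) (φ : T ⟶ Over.mk (M₀.ι ≫ M.hom)),
      ∃ b₀ : (Over.map gX).obj ((Over.pullback gX).obj T) ⟶ Over.mk (j ≫ gY),
        b₀ ≫ J = e.homEquiv (φ ≫ I₀) := fun T φ =>
    exists_lift (B := Over.mk gY) j _ ((factB T (φ ≫ I₀)).mpr (hrangeI T φ))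
  have hex2 : ∀ (T : Over S)
      (b₀ : (Over.map gX).obj ((Over.pullback gX).obj T) ⟶ Over.mk (j ≫ gY)),
      ∃ φ : T ⟶ Over.mk (M₀.ι ≫ M.hom), φ ≫ I₀ = e.homEquiv.symm (b₀ ≫ J) := by
    intro T b₀
    refine exists_lift (B := M) M₀.ι _ ?_
    rw [Scheme.Opens.range_ι]
    have hsa : e.homEquiv (e.homEquiv.symm (b₀ ≫ J)) = b₀ ≫ J := e.homEquiv.apply_symm_apply _
    have hsl : (e.homEquiv (e.homEquiv.symm (b₀ ≫ J)) :
        (Over.map gX).obj ((Over.pullback gX).obj T) ⟶ Over.mk gY).left = b₀.left ≫ j :=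
      congrArg CommaMorphism.left hsa
    refine (factB T _).mp ?_
    rintro _ ⟨z, rfl⟩
    rw [hsl]
    exact ⟨b₀.left z, rfl⟩
  choose tf htf using hex1
  choose iv hiv using hex2
  have hcancelJ : ∀ {A : Over S} {b₀ b₁ : A ⟶ Over.mk (j ≫ gY)}, b₀ ≫ J = b₁ ≫ J → b₀ = b₁ :=
    fun h => cancel_homMk (B := Over.mk gY) j h
  have hcancelI : ∀ {A : Over S} {b₀ b₁ : A ⟶ Over.mk (M₀.ι ≫ M.hom)},
      b₀ ≫ I₀ = b₁ ≫ I₀ → b₀ = b₁ :=
    fun h => cancel_homMk (B := M) M₀.ι h
  let e₀ : (Flatn.morS gX (j ≫ gY)).RepresentableBy (Over.mk (M₀.ι ≫ M.hom)) :=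
    { homEquiv := fun {T} =>
        { toFun := tf T
          invFun := iv T
          left_inv := fun φ => hcancelI ((hiv T (tf T φ)).trans
            ((congrArg (fun x => e.homEquiv.symm x) (htf T φ)).trans
              (e.homEquiv.symm_apply_apply _)))
          right_inv := fun b₀ => hcancelJ ((htf T (iv T b₀)).trans
            ((congrArg (fun x => e.homEquiv x) (hiv T b₀)).trans
              (e.homEquiv.apply_symm_apply _))) }
      homEquiv_comp := fun {T T'} f φ => hcancelJ (by
        change tf T (f ≫ φ) ≫ J =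
          ((Over.map gX).map ((Over.pullback gX).map f) ≫ tf T' φ) ≫ J
        refine (htf T (f ≫ φ)).trans ?_
        have h1 : (f ≫ φ) ≫ I₀ = f ≫ (φ ≫ I₀) := Category.assoc _ _ _
        have h2 : (e.homEquiv (f ≫ (φ ≫ I₀)) :
            (Over.map gX).obj ((Over.pullback gX).obj T) ⟶ Over.mk gY) =
            (Over.map gX).map ((Over.pullback gX).map f) ≫ e.homEquiv (φ ≫ I₀) :=
          e.homEquiv_comp f (φ ≫ I₀)
        have h3 : (Over.map gX).map ((Over.pullback gX).map f) ≫ e.homEquiv (φ ≫ I₀) =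
            ((Over.map gX).map ((Over.pullback gX).map f) ≫ tf T' φ) ≫ J := by
          rw [← htf T' φ, Category.assoc]
        exact ((congrArg (fun x => e.homEquiv x) h1).trans h2).trans h3) }
  exact ⟨M₀, e₀, fun T φ => (htf T φ).symm⟩

end Groth.Agent.S17080
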