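import Groth.Statements.S17084
import Mathlib

set_option autoImplicit false
universe u
open CategoryTheory CategoryTheory.Limits AlgebraicGeometry
open MorSch

namespace Groth.Agent.S17084

/-- the family `T ×_S X_i ⟶ T ×_S ∐ X_i` is a coproduct cofan. -/
lemma isColimit_cofan {S : Scheme.{u}} {ι : Type u} [Finite ι] (X : ι → Scheme.{u})
    (g : ∀ i, X i ⟶ S) (T : Over S) :
    Nonempty (IsColimit (Cofan.mk (pullback T.hom (Sigma.desc g)) fun i =>
      pullback.map T.hom (g i) T.hom (Sigma.desc g) (𝟙 T.left) (Sigma.ι X i) (𝟙 S)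
          ((Category.comp_id _).trans (Category.id_comp _).symm)
          ((Category.comp_id _).trans (Sigma.ι_desc g i).symm))) := by
  have hau : IsUniversalColimit (Cofan.mk (∐ X) (Sigma.ι X)) :=
    (FinitaryExtensive.isVanKampen_finiteCoproducts (coproductIsCoproduct X)).isUniversal
  refine hau.nonempty_isColimit_of_isPullback_left g (Sigma.desc g) T.hom
    (fun i => pullback.fst T.hom (g i)) (fun i => pullback.snd T.hom (g i))
    (fun i => IsPullback.of_hasPullback _ _)
    (IsPullback.of_hasPullback T.hom (Sigma.desc g)) _ (Iso.refl _) ?_ ?_ ?_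
  · intro i; simp
  · intro i
    simp only [Cofan.inj, Cofan.mk_ι_app, Iso.refl_hom, Category.id_comp]
    exact pullback.lift_fst _ _ _
  · intro i
    simp only [Cofan.inj, Cofan.mk_ι_app, Iso.refl_hom, Category.id_comp]
    exact pullback.lift_snd _ _ _


/-- Let (X_i)_{i ∈ ι} be a finite family of schemes over S with structure morphisms g_i : X_i → S, let Y
→ S be a scheme over S and T an S-scheme. Then for every family of S-morphisms a_i : T ×_S X_i → Y
there is a unique S-morphism b : T ×_S (∐_i X_i) → Y whose restriction along each T ×_S X_i → T ×_S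
(∐_i X_i) is a_i. In other words the canonical map Mor_S(∐_i X_i, Y) → ∏_i Mor_S(X_i, Y) of functors
on S-schemes is an isomorphism. -/
theorem result
    {S Y : Scheme.{u}} {ι : Type u} [Finite ι] (X : ι → Scheme.{u}) (g : ∀ i, X i ⟶ S)
    (gY : Y ⟶ S) (T : Over S) (a : ∀ i, (Flatn.morS (g i) gY).obj (Opposite.op T)) :
    ∃! b : (Flatn.morS (Sigma.desc g) gY).obj (Opposite.op T),
      ∀ i, pullback.map T.hom (g i) T.hom (Sigma.desc g) (𝟙 T.left) (Sigma.ι X i) (𝟙 S)
          ((Category.comp_id _).trans (Category.id_comp _).symm)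
          ((Category.comp_id _).trans (Sigma.ι_desc g i).symm) ≫ b.left = (a i).left := by
  obtain ⟨hc⟩ := isColimit_cofan X g T
  have hw : ∀ i, (a i).left ≫ gY = pullback.snd T.hom (g i) ≫ g i := fun i => Over.w (a i)
  refine ⟨Over.homMk (Cofan.IsColimit.desc hc fun i => (a i).left) ?_, ?_, ?_⟩
  · refine Cofan.IsColimit.hom_ext hc _ _ fun i => ?_
    have h1 := Cofan.IsColimit.fac hc (fun i => (a i).left) i
    simp only [Cofan.mk_pt, Cofan.inj, Cofan.mk_ι_app] at h1 ⊢
    simp only [Over.mk_left, Over.mk_hom]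
    rw [reassoc_of% h1, hw i]
    change _ = pullback.map _ _ _ _ _ _ _ _ _ ≫ pullback.snd _ _ ≫ Sigma.desc g
    rw [pullback.map, pullback.lift_snd_assoc, Category.assoc, Sigma.ι_desc]
  · intro i
    exact Cofan.IsColimit.fac hc (fun i => (a i).left) i
  · intro b hb
    apply Over.OverMorphism.ext
    refine Cofan.IsColimit.hom_ext hc _ _ fun i => ?_
    have h1 := Cofan.IsColimit.fac hc (fun i => (a i).left) i
    simp only [Cofan.mk_pt, Cofan.inj, Cofan.mk_ι_app] at h1 ⊢
    exact (hb i).trans h1.symm

end Groth.Agent.S17084
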