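import Groth.Statements.S17088
import Mathlib
-- import your own Groth.Agent.* helpers here

set_option autoImplicit false
set_option linter.style.haveILetI false
set_option linter.unusedSectionVars false
universe u
open CategoryTheory CategoryTheory.Limits AlgebraicGeometry
open MorSch

namespace Groth.Agent.S17088

theorem isPullback_map_fst' {X Y S T : Scheme.{u}} (g : X ⟶ S) (h : Y ⟶ S) (p : X ⟶ Y)
    (w : p ≫ h = g) (τ : T ⟶ S) (e1 : g ≫ 𝟙 S = p ≫ h) (e2 : τ ≫ 𝟙 S = 𝟙 T ≫ τ) :
    IsPullback (pullback.fst g τ) (pullback.map g τ h τ p (𝟙 _) (𝟙 _) e1 e2) p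
      (pullback.fst h τ) := by
  refine IsPullback.of_bot ?_ ?_ (IsPullback.of_hasPullback h τ)
  · have h1 : pullback.map g τ h τ p (𝟙 _) (𝟙 _) e1 e2 ≫ pullback.snd h τ = pullback.snd g τ :=
      (pullback.lift_snd _ _ _).trans (Category.comp_id _)
    rw [h1, w]
    exact IsPullback.of_hasPullback g τ
  · exact (pullback.lift_fst _ _ _).symm

theorem le_of_fac {P Z Z' : Scheme.{u}} (a : Z ⟶ P) (a' : Z' ⟶ P) [IsClosedImmersion a]
    [IsClosedImmersion a'] (h : a'.ker ≤ a.ker) : ∃ φ : Z ⟶ Z', φ ≫ a' = a := by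
  refine ⟨a.toImage ≫ Scheme.IdealSheafData.inclusion h ≫ inv a'.toImage, ?_⟩
  have h1 : inv a'.toImage ≫ a' = a'.ker.subschemeι := by
    rw [IsIso.inv_comp_eq]
    exact a'.toImage_imageι.symm
  rw [Category.assoc, Category.assoc, h1, Scheme.IdealSheafData.inclusion_subschemeι]
  exact a.toImage_imageι


/-- Let f : X → S be a separated morphism, ι : W → X an immersion and T an S-scheme. For every closed
subscheme V of W ×_S T which is proper and flat over T — a T-point of the Hilbert functor of W over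
S — the composite V → W ×_S T → X ×_S T is a closed immersion, and the map sending V to the ideal
sheaf of this composite, from T-points of the Hilbert functor of W to ideal sheaves on X ×_S T, is
injective: an immersion induces a monomorphism of Hilbert functors. -/
theorem result
    {W X S : Scheme.{u}} (f : X ⟶ S) [IsSeparated f] (ι : W ⟶ X) [IsImmersion ι]
    (T : Over S) :
    (∀ V : FGA.HilbSet (ι ≫ f) T,
      IsClosedImmersion (V.1.subschemeι ≫ pullback.map (ι ≫ f) T.hom f T.hom ι (𝟙 T.left) (𝟙 S)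
          (Category.comp_id _) ((Category.comp_id _).trans (Category.id_comp _).symm))) ∧
    Function.Injective (fun V : FGA.HilbSet (ι ≫ f) T =>
      (V.1.subschemeι ≫ pullback.map (ι ≫ f) T.hom f T.hom ι (𝟙 T.left) (𝟙 S)
          (Category.comp_id _) ((Category.comp_id _).trans (Category.id_comp _).symm)).ker) := by
  set ιT := pullback.map (ι ≫ f) T.hom f T.hom ι (𝟙 T.left) (𝟙 S)
          (Category.comp_id _) ((Category.comp_id _).trans (Category.id_comp _).symm) with hιT
  have hpb : IsPullback (pullback.fst (ι ≫ f) T.hom) ιT ι (pullback.fst f T.hom) :=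
    isPullback_map_fst' (ι ≫ f) f ι rfl T.hom _ _
  haveI himm : IsImmersion ιT := MorphismProperty.of_isPullback hpb inferInstance
  have hsnd : ιT ≫ pullback.snd f T.hom = pullback.snd (ι ≫ f) T.hom :=
    (pullback.lift_snd _ _ _).trans (Category.comp_id _)
  have hci : ∀ V : FGA.HilbSet (ι ≫ f) T, IsClosedImmersion (V.1.subschemeι ≫ ιT) := by
    intro V
    haveI hprop : IsProper (V.1.subschemeι ≫ pullback.snd (ι ≫ f) T.hom) := V.2.1
    haveI : IsProper ((V.1.subschemeι ≫ ιT) ≫ pullback.snd f T.hom) := by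
      rw [Category.assoc, hsnd]
      exact hprop
    haveI : IsProper (V.1.subschemeι ≫ ιT) :=
      IsProper.of_comp (V.1.subschemeι ≫ ιT) (pullback.snd f T.hom)
    exact IsClosedImmersion.of_isPreimmersion _
      ((V.1.subschemeι ≫ ιT).isClosedMap.isClosed_range)
  refine ⟨hci, ?_⟩
  intro V V' hVV'
  have hker : (V.1.subschemeι ≫ ιT).ker = (V'.1.subschemeι ≫ ιT).ker := hVV'
  haveI := hci V
  haveI := hci V'
  haveI : Mono ιT := inferInstance
  have key : ∀ (V₁ V₂ : FGA.HilbSet (ι ≫ f) T),
      (V₂.1.subschemeι ≫ ιT).ker ≤ (V₁.1.subschemeι ≫ ιT).ker → V₂.1 ≤ V₁.1 := by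
    intro V₁ V₂ hle
    haveI := hci V₁
    haveI := hci V₂
    obtain ⟨φ, hφ⟩ := le_of_fac (V₁.1.subschemeι ≫ ιT) (V₂.1.subschemeι ≫ ιT) hle
    have h2 : φ ≫ V₂.1.subschemeι = V₁.1.subschemeι := by
      rw [← cancel_mono ιT, Category.assoc, hφ]
    have h3 := Scheme.Hom.le_ker_comp φ V₂.1.subschemeι
    rw [h2, Scheme.IdealSheafData.ker_subschemeι, Scheme.IdealSheafData.ker_subschemeι] at h3
    exact h3
  exact Subtype.ext (le_antisymm (key V' V hker.le) (key V V' hker.ge))

end Groth.Agent.S17088
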