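import Groth.Statements.S1710
import Groth.Agent.Lib.Helper20RelCartier

set_option autoImplicit false
universe u
open CategoryTheory CategoryTheory.Limits AlgebraicGeometry TopologicalSpace
open SDiv

namespace Groth.Agent.S1710

/-- Let f : X ⟶ S be a morphism and 𝓘₁, 𝓘₂ ideal sheaves of effective Cartier divisors D₁ ⊆ D₂ on X,
both flat over S, and let 𝓘 be the ideal sheaf of an effective Cartier divisor D with D₂ = D₁ + D
(that is, 𝓘₁𝓘 = 𝓘₂). Then D is flat over S as well. -/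
theorem result {X S : Scheme.{u}} (f : X ⟶ S) (𝓘₁ 𝓘₂ 𝓘 : X.IdealSheafData)
    (h₁ : (BlowUp.IsEffCartierIdeal 𝓘₁ ∧ Flat (𝓘₁.subschemeι ≫ f))) (h₂ : (BlowUp.IsEffCartierIdeal 𝓘₂ ∧ Flat (𝓘₂.subschemeι ≫ f))) (h : BlowUp.IsEffCartierIdeal 𝓘) (hsum : 𝓘₁ * 𝓘 = 𝓘₂) :
    Flat (𝓘.subschemeι ≫ f) := by
  obtain ⟨hE₁, hF₁⟩ := h₁
  obtain ⟨hE₂, hF₂⟩ := h₂
  haveI := hF₁
  haveI := hF₂
  apply Groth.Agent.Lib.Helper20.RelCartier.flat_of_local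
  intro x
  obtain ⟨W, hW, hfxW, -⟩ := exists_isAffineOpen_mem_and_subset (x := f x) (U := (⊤ : S.Opens)) trivial
  obtain ⟨U, hU, hxU, hUW, a₁, c, ha₁, hc, hI₁, hI⟩ :=
    Groth.Agent.Lib.Helper20.RelCartier.exists_common hE₁ h x (f ⁻¹ᵁ W) hfxW
  refine ⟨W, hW, U, hU, hxU, hUW, ?_⟩
  letI := (f.appLE W U hUW).hom.toAlgebra
  have q1 := Groth.Agent.Lib.Helper20.RelCartier.flat_quotient_of_flat f 𝓘₁ hW hU hUW
  have q2 := Groth.Agent.Lib.Helper20.RelCartier.flat_quotient_of_flat f 𝓘₂ hW hU hUW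
  have hI₂ : 𝓘₂.ideal ⟨U, hU⟩ = Ideal.span {a₁ * c} := by
    rw [← hsum, Scheme.IdealSheafData.ideal_mul]
    change 𝓘₁.ideal ⟨U, hU⟩ * 𝓘.ideal ⟨U, hU⟩ = _
    rw [hI₁, hI, Ideal.span_singleton_mul_span_singleton]
  rw [hI₁] at q1
  rw [hI₂] at q2
  rw [hI]
  haveI := q1
  haveI := q2
  exact Groth.Agent.Lib.Helper20.RelCartier.flat_of_exact_left
    (Groth.Agent.Lib.Helper20.RelCartier.mulQ a₁ c) (Groth.Agent.Lib.Helper20.RelCartier.facQ a₁ c)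
    (Groth.Agent.Lib.Helper20.RelCartier.mulQ_injective _ _ ha₁)
    (Groth.Agent.Lib.Helper20.RelCartier.facQ_surjective _ _)
    (Groth.Agent.Lib.Helper20.RelCartier.exact_mulQ_facQ _ _)

end Groth.Agent.S1710
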