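import Groth.Statements.S17147
import Mathlib
import Groth.Agent.Lib.Helper24IsocDet

set_option autoImplicit false
universe u v
open Isoc

namespace Groth.Agent.S17147

/-- Let k be a perfect field of characteristic p, a ∈ ℤ, W = W(k) with fraction field L, and (N, F) a
σ^a-F-isocrystal over k (N finite-dimensional over L, F a bijective σ^a-semilinear endomorphism) of
height h, with b an L-basis of N indexed by Fin h and d the p-adic order of the determinant
coefficient of F in b. If λ₁(N, F) = d/h, then there exists a W-lattice M in N with F^h(M) = p^d · M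
(so (N, F) is isoclinic of slope d/h in the lattice sense). -/
theorem result (p : ℕ) [Fact p.Prime] (k : Type u) [Field k] [CharP k p] [PerfectRing k p] (a : ℤ)
    (N : Type v) [AddCommGroup N] [Module (WittVector p k) N] [Module (FractionRing (WittVector p k)) N]
    [IsScalarTower (WittVector p k) (FractionRing (WittVector p k)) N]
    (F : N →ₛₗ[Isoc.frob p k a] N) (hF : Isoc.IsIsoc F)
    (h : ℕ) (b : Module.Basis (Fin h) (FractionRing (WittVector p k)) N)
    (d : ℤ) (hd : Isoc.IsOrdP (Isoc.detCoeff b F) d)
    (hlam : Isoc.IsFirstSlope F ((d : ℝ) / h)) :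
    ∃ M : Submodule (WittVector p k) N, M.IsLattice (FractionRing (WittVector p k)) ∧ Isoc.latImg F h M = Isoc.pPow d M := by
  open Groth.Agent.Lib.Helper24Isoc in
  have hτ := WAuto.frob (p := p) (k := k) a
  have := hF.finite
  have hh : 0 < h := by
    rcases Nat.eq_zero_or_pos h with h0 | h0
    · exfalso
      subst h0
      obtain ⟨M, hM, o, ho, -⟩ := hlam
      apply ne_bot_of_isOrd F (ho 1 le_rfl)
      have hsub : Subsingleton N := by
        refine ⟨fun x y => ?_⟩
        apply b.repr.injective
        ext i
        exact i.elim0
      rw [eq_bot_iff]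
      intro x _
      rw [Submodule.mem_bot]
      exact Subsingleton.elim _ _
    · exact h0
  obtain ⟨M, hM, hle⟩ := exists_lattice_latImg_le_of_le_firstSlope hτ F hlam d h hh le_rfl
  refine ⟨M, hM, latImg_eq_of_isOrdP hτ b F h d M hM hle ?_⟩
  have := isOrdP_detCoeff_iter hτ b F hd h
  rwa [mul_comm] at this

end Groth.Agent.S17147
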