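import Groth.Statements.S17150
import Mathlib
import Groth.Agent.Lib.Helper24IsocLat

set_option autoImplicit false
universe u v w
open Isoc

namespace Groth.Agent.S17150

/-- Let k be a perfect field of characteristic p and a ∈ ℤ; let (N₁, F₁) and (N₂, F₂) be
σ^a-F-isocrystals over k that are isoclinic of slopes μ₁ and μ₂ respectively (in the lattice sense:
F_i^{s_i}(M_i) = p^{r_i} · M_i with r_i/s_i = μ_i), with μ₁ ≠ μ₂. Then every morphism of isocrystals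
f : (N₁, F₁) → (N₂, F₂), i.e. every L-linear map with f ∘ F₁ = F₂ ∘ f, is zero. -/
theorem result (p : ℕ) [Fact p.Prime] (k : Type u) [Field k] [CharP k p] [PerfectRing k p] (a : ℤ)
    (N₁ : Type v) [AddCommGroup N₁] [Module (WittVector p k) N₁] [Module (FractionRing (WittVector p k)) N₁]
    [IsScalarTower (WittVector p k) (FractionRing (WittVector p k)) N₁]
    (N₂ : Type w) [AddCommGroup N₂] [Module (WittVector p k) N₂] [Module (FractionRing (WittVector p k)) N₂]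
    [IsScalarTower (WittVector p k) (FractionRing (WittVector p k)) N₂]
    (F₁ : N₁ →ₛₗ[Isoc.frob p k a] N₁) (F₂ : N₂ →ₛₗ[Isoc.frob p k a] N₂)
    (h₁ : Isoc.IsIsoc F₁) (h₂ : Isoc.IsIsoc F₂)
    (μ₁ μ₂ : ℚ) (hμ₁ : Isoc.IsIsoclinic F₁ μ₁) (hμ₂ : Isoc.IsIsoclinic F₂ μ₂) (hne : μ₁ ≠ μ₂)
    (f : N₁ →ₗ[(FractionRing (WittVector p k))] N₂) (hf : ∀ x : N₁, f (F₁ x) = F₂ (f x)) : f = 0 := by
  open Groth.Agent.Lib.Helper24Isoc in
  have hτ := WAuto.frob (p := p) (k := k) a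
  obtain ⟨M₁, hM₁, r₁, s₁, hs₁, hμ₁', hFM₁⟩ := hμ₁
  obtain ⟨M₂, hM₂, r₂, s₂, hs₂, hμ₂', hFM₂⟩ := hμ₂
  have hfit : ∀ (n : ℕ) (x : N₁), f ((⇑F₁)^[n] x) = (⇑F₂)^[n] (f x) := by
    intro n
    induction n with
    | zero => intro x; rfl
    | succ n ih =>
      intro x
      rw [Function.iterate_succ_apply', Function.iterate_succ_apply', hf, ih]
  -- common exponent
  have e₁ := latImg_mul_eq hτ F₁ M₁ hFM₁ s₂
  have e₂ := latImg_mul_eq hτ F₂ M₂ hFM₂ s₁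
  rw [mul_comm s₂ s₁] at e₁
  set Q : Submodule (WittVector p k) N₂ := Submodule.map (f.restrictScalars (WittVector p k)) M₁ with hQ
  have hQfg : Q.FG := hM₁.fg.map _
  have hQs : latImg F₂ (s₁ * s₂) Q = pPow ((s₂ : ℤ) * r₁) Q := by
    ext x
    rw [mem_latImg hτ, mem_pPow_iff']
    constructor
    · rintro ⟨_, ⟨y, hy, rfl⟩, rfl⟩
      have hy' : (⇑F₁)^[s₁ * s₂] y ∈ pPow ((s₂ : ℤ) * r₁) M₁ := by
        rw [← e₁]; exact iterate_mem_latImg F₁ _ M₁ hy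
      obtain ⟨z, hz, hyz⟩ := (mem_pPow_iff' _ _ _).1 hy'
      refine ⟨f z, ⟨z, hz, rfl⟩, ?_⟩
      rw [LinearMap.restrictScalars_apply, ← hfit, hyz, map_smul]
    · rintro ⟨_, ⟨z, hz, rfl⟩, rfl⟩
      have hz' : ((p : FractionRing (WittVector p k)) ^ ((s₂ : ℤ) * r₁)) • z ∈ latImg F₁ (s₁ * s₂) M₁ := by
        rw [e₁]; exact smul_mem_pPow _ M₁ hz
      obtain ⟨y, hy, hyz⟩ := (mem_latImg hτ F₁ _ M₁ _).1 hz'
      refine ⟨f y, ⟨y, hy, rfl⟩, ?_⟩
      rw [LinearMap.restrictScalars_apply, ← hfit, hyz, map_smul]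
  have hAB : (s₂ : ℤ) * r₁ ≠ (s₁ : ℤ) * r₂ := by
    intro h
    apply hne
    rw [← hμ₁', ← hμ₂']
    have h1 : (s₁ : ℚ) ≠ 0 := by exact_mod_cast hs₁.ne'
    have h2 : (s₂ : ℚ) ≠ 0 := by exact_mod_cast hs₂.ne'
    rw [div_eq_div_iff h1 h2]
    have : ((s₂ : ℤ) * r₁ : ℚ) = ((s₁ : ℤ) * r₂ : ℚ) := by exact_mod_cast h
    push_cast at this
    linarith
  have hQbot : Q = ⊥ :=
    eq_bot_of_latImg_eq hτ F₂ h₂.bijective.injective M₂ hM₂ Q hQfg e₂ hQs hAB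
  -- f vanishes on M₁, hence everywhere
  have hker : ∀ x ∈ M₁, f x = 0 := by
    intro x hx
    have : f x ∈ Q := ⟨x, hx, rfl⟩
    rw [hQbot, Submodule.mem_bot] at this
    exact this
  apply LinearMap.ext
  intro x
  have hx : x ∈ Submodule.span (FractionRing (WittVector p k)) (M₁ : Set N₁) := by
    rw [hM₁.span_eq_top]; trivial
  have hle : Submodule.span (FractionRing (WittVector p k)) (M₁ : Set N₁) ≤ LinearMap.ker f := by
    rw [Submodule.span_le]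
    intro y hy
    exact hker y hy
  exact hle hx

end Groth.Agent.S17150
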