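import Groth.Statements.S17153
import Mathlib
import Groth.Agent.Lib.Helper24IsocStd

set_option autoImplicit false
universe u
open Isoc

namespace Groth.Agent.S17153

/-- Let k be a perfect field of characteristic p, W = W(k), L its fraction field, a ∈ ℤ, and λ = d/h
with h > 0 and gcd(d, h) = 1. The standard σ^a-F-isocrystal N_λ of slope λ — the space L^h with the
σ^a-semilinear F determined by F e_i = e_{i+1} (i + 1 < h) and F e_{h−1} = p^d · e_0 — is a simple
isocrystal: an L-subspace of L^h carried into itself by F is either 0 or everything. (The source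
introduces N_λ for a ≠ 0 only; the simplicity argument, via sub-isocrystals of an isoclinic
isocrystal having the same slope, does not use that restriction, and the statement is made for all
a.) -/
theorem result (p : ℕ) [Fact p.Prime] (k : Type u) [Field k] [CharP k p] [PerfectRing k p]
    (a : ℤ) (d : ℤ) (h : ℕ) (hh : 0 < h) (hdh : Int.gcd d h = 1)
    (P : Submodule (FractionRing (WittVector p k)) (Fin h → (FractionRing (WittVector p k))))
    (hP : ∀ x ∈ P, Isoc.stdIsoc (Isoc.frob p k a) d h x ∈ P) : P = ⊥ ∨ P = ⊤ := by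
  open Groth.Agent.Lib.Helper24Isoc in
  have hτ := WAuto.frob (p := p) (k := k) a
  obtain ⟨n, rfl⟩ : ∃ n, h = n + 1 := ⟨h - 1, by omega⟩
  have hiso := isIsoclinic_restrict hτ (Isoc.stdIsoc (Isoc.frob p k a) d (n + 1)) inferInstance
    (stdIsoc_injective _ d n hτ) (stdIsoc_isIsoclinic _ d n hτ) P hP
  obtain ⟨d', hd'⟩ := exists_int_eq_slope_mul_finrank hτ _ hiso
  set h' := Module.finrank (FractionRing (WittVector p k)) P with hh'
  have hn1 : (((n + 1 : ℕ) : ℤ) : ℚ) ≠ 0 := by positivity
  have e1 : d * (h' : ℤ) = d' * ((n + 1 : ℕ) : ℤ) := by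
    have : ((d * (h' : ℤ) : ℤ) : ℚ) = ((d' * ((n + 1 : ℕ) : ℤ) : ℤ) : ℚ) := by
      push_cast
      rw [← hd']
      push_cast
      field_simp
    exact_mod_cast this
  have hcop : IsCoprime (((n + 1 : ℕ) : ℤ)) d := by
    rw [Int.isCoprime_iff_gcd_eq_one, Int.gcd_comm]; exact hdh
  have hdvd : (((n + 1 : ℕ) : ℤ)) ∣ (h' : ℤ) := by
    apply hcop.dvd_of_dvd_mul_left
    rw [e1]
    exact Dvd.intro_left _ rfl
  have hdvd' : (n + 1) ∣ h' := by exact_mod_cast hdvd
  have hle : h' ≤ n + 1 := by
    have := Submodule.finrank_le P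
    rwa [Module.finrank_fin_fun] at this
  rcases Nat.eq_zero_or_pos h' with h0 | hpos
  · left
    exact Submodule.finrank_eq_zero.1 h0
  · right
    have : h' = n + 1 := le_antisymm hle (Nat.le_of_dvd hpos hdvd')
    apply Submodule.eq_top_of_finrank_eq
    rw [Module.finrank_fin_fun]
    exact this

end Groth.Agent.S17153
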