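import Groth.Statements.S17157
import Mathlib

set_option autoImplicit false
universe u
open Isoc

namespace Groth.Agent.S17157

/-- Let k be a finite field of characteristic p, W = W(k), L its fraction field with Frobenius σ, and
let U be the σ-semilinear endomorphism of L² = (Fin 2 → L) determined by U(e₀) = e₀ and U(e₁) = e₀ +
e₁ on the standard basis. Then (L², U) is an F-isocrystal in which the sub-isocrystal L · e₀ admits
no U-stable complementary L-subspace; in particular the category of F-isocrystals over a finite
field is not semisimple. (Over an algebraically closed field a complement exists.) -/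
theorem result
    (p : ℕ) [Fact p.Prime] (k : Type u) [Field k] [CharP k p] [PerfectRing k p] [Finite k]
    (U : (Fin 2 → (FractionRing (WittVector p k))) →ₛₗ[Isoc.frob p k 1] (Fin 2 → (FractionRing (WittVector p k))))
    (hU0 : U (Pi.single 0 1) = Pi.single 0 1)
    (hU1 : U (Pi.single 1 1) = Pi.single 0 1 + Pi.single 1 1)
    (Q : Submodule (FractionRing (WittVector p k)) (Fin 2 → (FractionRing (WittVector p k)))) (hQ : ∀ x ∈ Q, U x ∈ Q) :
    ¬ IsCompl (Submodule.span (FractionRing (WittVector p k)) {(Pi.single 0 1 : Fin 2 → (FractionRing (WittVector p k)))}) Q := by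
  classical
  intro hc
  have : Fintype k := Fintype.ofFinite k
  obtain ⟨σ, hσ⟩ : ∃ σ : FractionRing (WittVector p k) →+* FractionRing (WittVector p k),
      σ = Isoc.frob p k 1 := ⟨_, rfl⟩
  obtain ⟨e0, he0⟩ : ∃ e0 : Fin 2 → FractionRing (WittVector p k), e0 = Pi.single 0 1 := ⟨_, rfl⟩
  obtain ⟨e1, he1⟩ : ∃ e1 : Fin 2 → FractionRing (WittVector p k), e1 = Pi.single 1 1 := ⟨_, rfl⟩
  rw [← he0] at hU0 hc
  rw [← he0, ← he1] at hU1
  -- decompose e1
  have h1 : e1 ∈ Submodule.span (FractionRing (WittVector p k)) {e0} ⊔ Q := by
    rw [hc.sup_eq_top]; trivial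
  obtain ⟨y, hy, q, hq, hyq⟩ := Submodule.mem_sup.mp h1
  obtain ⟨α, rfl⟩ := Submodule.mem_span_singleton.mp hy
  have hq' : q = e1 - α • e0 := eq_sub_of_add_eq' hyq
  have hUq : U q = e0 + e1 - σ α • e0 := by
    rw [hq', map_sub, LinearMap.map_smulₛₗ, hU0, hU1, hσ]
  have hdiff : U q - q = (1 - σ α + α) • e0 := by
    rw [hUq, hq', add_smul, sub_smul, one_smul]
    abel
  have hmem : (1 - σ α + α) • e0 ∈
      Submodule.span (FractionRing (WittVector p k)) {e0} ⊓ Q := by
    refine ⟨Submodule.smul_mem _ _ (Submodule.subset_span rfl), ?_⟩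
    rw [← hdiff]
    exact Q.sub_mem (hQ q hq) hq
  rw [hc.inf_eq_bot, Submodule.mem_bot] at hmem
  have hval : 1 - σ α + α = 0 := by
    have := congrFun hmem 0
    simpa [he0] using this
  have hσα : σ α = α + 1 := by
    have : σ α = 1 + α - (1 - σ α + α) := by ring
    rw [this, hval]; ring
  -- σ has finite order
  obtain ⟨m, hp', hm⟩ := FiniteField.card k p
  have hfrob : ∀ (n : ℕ) (x : WittVector p k) (i : ℕ),
      ((WittVector.frobenius : WittVector p k →+* WittVector p k)^[n] x).coeff i =
        x.coeff i ^ (p ^ n) := by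
    intro n
    induction n with
    | zero => intro x i; simp
    | succ n ih =>
      intro x i
      rw [Function.iterate_succ_apply', WittVector.coeff_frobenius_charP, ih, ← pow_mul, pow_succ]
  have hfrobm : ∀ x : WittVector p k,
      ((WittVector.frobenius : WittVector p k →+* WittVector p k)^[(m : ℕ)] x) = x := by
    intro x
    ext i
    rw [hfrob, ← hm, FiniteField.pow_card]
  have hσW : ∀ w : WittVector p k, σ (algebraMap (WittVector p k) (FractionRing (WittVector p k)) w) =
      algebraMap (WittVector p k) (FractionRing (WittVector p k)) (WittVector.frobenius w) := by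
    intro w
    rw [hσ, Isoc.frob_algebraMap, zpow_one]
    rfl
  have hσiter : ∀ (n : ℕ) (w : WittVector p k),
      (⇑σ)^[n] (algebraMap (WittVector p k) (FractionRing (WittVector p k)) w) =
        algebraMap (WittVector p k) (FractionRing (WittVector p k))
          ((WittVector.frobenius : WittVector p k →+* WittVector p k)^[n] w) := by
    intro n
    induction n with
    | zero => intro w; rfl
    | succ n ih =>
      intro w
      rw [Function.iterate_succ_apply', ih, hσW, Function.iterate_succ_apply']
  have hσm : σ ^ (m : ℕ) = RingHom.id _ := by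
    apply IsLocalization.ringHom_ext (nonZeroDivisors (WittVector p k))
    ext w
    rw [RingHom.comp_apply, RingHom.comp_apply, RingHom.id_apply, RingHom.coe_pow, hσiter, hfrobm]
  have hiter : ∀ n : ℕ, (⇑σ)^[n] α = α + n := by
    intro n
    induction n with
    | zero => simp
    | succ n ih =>
      rw [Function.iterate_succ_apply', ih, map_add, hσα, map_natCast]
      push_cast; ring
  have h2 : (⇑σ)^[(m : ℕ)] α = α := by
    rw [← RingHom.coe_pow, hσm]; rfl
  rw [hiter] at h2
  have h3 : ((m : ℕ) : FractionRing (WittVector p k)) = 0 := by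
    linear_combination h2
  -- characteristic zero
  have h4 : (((m : ℕ) : WittVector p k)) = 0 := by
    have hinj := IsFractionRing.injective (WittVector p k) (FractionRing (WittVector p k))
    apply hinj
    rw [map_natCast, map_zero]; exact h3
  obtain ⟨v, u, hu, hmu⟩ := Nat.exists_eq_pow_mul_and_not_dvd m.ne_zero p (Fact.out : p.Prime).ne_one
  rw [hmu, Nat.cast_mul, Nat.cast_pow] at h4
  rcases mul_eq_zero.mp h4 with h5 | h5
  · exact WittVector.p_nonzero p k (pow_eq_zero_iff (fun h0 => by subst h0; simp at h5) |>.mp h5)
  · have h6 := congrArg (WittVector.constantCoeff (p := p) (R := k)) h5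
    rw [map_natCast, map_zero] at h6
    exact hu ((CharP.cast_eq_zero_iff k p u).mp h6)

end Groth.Agent.S17157
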