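import Groth.Statements.S5154
import Groth.Agent.Lib.Helper28Hartshorne
-- import your own Groth.Agent.* helpers here

set_option autoImplicit false
universe u
open LocCoh

namespace Groth.Agent.S5154
open Groth.Agent.Lib.Helper28

/-- Let A be a Noetherian local ring which is catenary and such that depth A_p ≥ 2 for every prime p
with dim A_p ≥ 2. Then all irreducible components of Spec A have dimension dim A: for every minimal
prime p, dim A/p = dim A. -/
theorem result (A : Type u) [CommRing A] [IsLocalRing A] [IsNoetherianRing A] (hc : CAlg.IsCatenary A) (h : ∀ p : PrimeSpectrum A, (2 : ℕ∞) ≤ p.asIdeal.height → (2 : ℕ∞) ≤ LocCoh.depth (Localization.AtPrime p.asIdeal) (Localization.AtPrime p.asIdeal)) (p : Ideal A) (hp : p ∈ minimalPrimes A) : ringKrullDim (A ⧸ p) = ringKrullDim A := by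
  classical
  -- the invariant
  set c : Ideal A → WithBot ℕ∞ := fun P => ringKrullDim (A ⧸ P) with hcdef
  have hfin : (minimalPrimes A).Finite := minimalPrimes.finite_of_isNoetherianRing A
  set F : Finset (Ideal A) := hfin.toFinset with hF
  have hFmem : ∀ P, P ∈ F ↔ P ∈ minimalPrimes A := fun P => hfin.mem_toFinset
  set F1 : Finset (Ideal A) := F.filter (fun P => c P = c p) with hF1
  set F2 : Finset (Ideal A) := F.filter (fun P => c P ≠ c p) with hF2
  have hprimeF : ∀ P ∈ F, P.IsPrime := fun P hP => ((hFmem P).mp hP).1.1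
  -- main claim
  have claim : ∀ P ∈ F, c P = c p := by
    by_contra hcon
    push Not at hcon
    obtain ⟨p2, hp2F, hp2c⟩ := hcon
    have hp2F2 : p2 ∈ F2 := Finset.mem_filter.mpr ⟨hp2F, hp2c⟩
    have hpF1 : p ∈ F1 := Finset.mem_filter.mpr ⟨(hFmem p).mpr hp, rfl⟩
    set I : Ideal A := F1.inf id with hI
    set J : Ideal A := F2.inf id with hJ
    have hIle : ∀ P ∈ F1, I ≤ P := fun P hP => Finset.inf_le (f := id) hP
    have hJle : ∀ P ∈ F2, J ≤ P := fun P hP => Finset.inf_le (f := id) hP
    have hIprime : ∀ Q : Ideal A, Q.IsPrime → I ≤ Q → ∃ P ∈ F1, P ≤ Q := by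
      intro Q hQ hle
      exact (Ideal.IsPrime.inf_le' hQ).mp hle
    have hJprime : ∀ Q : Ideal A, Q.IsPrime → J ≤ Q → ∃ P ∈ F2, P ≤ Q := by
      intro Q hQ hle
      exact (Ideal.IsPrime.inf_le' hQ).mp hle
    have hF12 : ∀ P ∈ F, P ∈ F1 ∨ P ∈ F2 := by
      intro P hP
      by_cases hPc : c P = c p
      · exact Or.inl (Finset.mem_filter.mpr ⟨hP, hPc⟩)
      · exact Or.inr (Finset.mem_filter.mpr ⟨hP, hPc⟩)
    have hF12disj : ∀ P, P ∈ F1 → P ∈ F2 → False := by
      intro P h1 h2
      exact (Finset.mem_filter.mp h2).2 (Finset.mem_filter.mp h1).2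
    have hIJprime : ∀ Q : Ideal A, Q.IsPrime → I ≤ Q ∨ J ≤ Q := by
      intro Q hQ
      obtain ⟨P, hPmin, hPQ⟩ := Ideal.exists_minimalPrimes_le (I := ⊥) (J := Q) bot_le
      rcases hF12 P ((hFmem P).mpr hPmin) with h1 | h2
      · exact Or.inl ((hIle P h1).trans hPQ)
      · exact Or.inr ((hJle P h2).trans hPQ)
    -- `I ⊔ J` is proper
    have hpne : p ≠ ⊤ := hp.1.1.ne_top
    have hp2ne : p2 ≠ ⊤ := (hprimeF p2 hp2F).ne_top
    have hIJm : I ⊔ J ≤ IsLocalRing.maximalIdeal A :=
      sup_le ((hIle p hpF1).trans (IsLocalRing.le_maximalIdeal hpne))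
        ((hJle p2 hp2F2).trans (IsLocalRing.le_maximalIdeal hp2ne))
    obtain ⟨q, hqmin, -⟩ := Ideal.exists_minimalPrimes_le (I := I ⊔ J)
      (J := IsLocalRing.maximalIdeal A) hIJm
    have hqprime : q.IsPrime := hqmin.1.1
    have hIq : I ≤ q := le_sup_left.trans hqmin.1.2
    have hJq : J ≤ q := le_sup_right.trans hqmin.1.2
    obtain ⟨p1, hp1F1, hp1q⟩ := hIprime q hqprime hIq
    obtain ⟨p2', hp2'F2, hp2'q⟩ := hJprime q hqprime hJq
    have hp1F : p1 ∈ F := (Finset.mem_filter.mp hp1F1).1
    have hp2'F : p2' ∈ F := (Finset.mem_filter.mp hp2'F2).1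
    have hp1prime : p1.IsPrime := hprimeF p1 hp1F
    have hp2'prime : p2'.IsPrime := hprimeF p2' hp2'F
    have hp1min : p1 ∈ minimalPrimes A := (hFmem p1).mp hp1F
    have hp2'min : p2' ∈ minimalPrimes A := (hFmem p2').mp hp2'F
    have hne : p1 ≠ p2' := fun e => hF12disj p1 hp1F1 (e ▸ hp2'F2)
    -- a minimal prime below another minimal prime is equal
    have hmin_eq : ∀ P Q : Ideal A, P ∈ minimalPrimes A → Q.IsPrime → Q ≤ P → Q = P := by
      intro P Q hP hQ hle
      exact le_antisymm hle (hP.2 ⟨hQ, bot_le⟩ hle)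
    -- height of `q` is at most one
    have hht : ¬ (2 : ℕ∞) ≤ q.height := by
      intro hht2
      have hdepth := h ⟨q, hqprime⟩ hht2
      change (2 : ℕ∞) ≤ LocCoh.depth (Localization.AtPrime q) (Localization.AtPrime q) at hdepth
      set B := Localization.AtPrime q with hB
      set I' : Ideal B := I.map (algebraMap A B) with hI'
      set J' : Ideal B := J.map (algebraMap A B) with hJ'
      have hcomap_max : (IsLocalRing.maximalIdeal B).comap (algebraMap A B) = q :=
        Localization.AtPrime.under_maximalIdeal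
      have h1 : ∀ P : Ideal B, P.IsPrime → I' ≤ P ∨ J' ≤ P := by
        intro P hP
        have hPc : (P.comap (algebraMap A B)).IsPrime := Ideal.comap_isPrime _ P
        rcases hIJprime _ hPc with hle | hle
        · exact Or.inl (Ideal.map_le_iff_le_comap.mpr hle)
        · exact Or.inr (Ideal.map_le_iff_le_comap.mpr hle)
      have h2 : ∀ P : Ideal B, P.IsPrime → I' ≤ P → J' ≤ P → P = IsLocalRing.maximalIdeal B := by
        intro P hP hIP hJP
        have hPc : (P.comap (algebraMap A B)).IsPrime := Ideal.comap_isPrime _ P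
        have hle1 : I ⊔ J ≤ P.comap (algebraMap A B) :=
          sup_le (Ideal.map_le_iff_le_comap.mp hIP) (Ideal.map_le_iff_le_comap.mp hJP)
        have hle2 : P.comap (algebraMap A B) ≤ q :=
          (Ideal.comap_mono (IsLocalRing.le_maximalIdeal hP.ne_top)).trans hcomap_max.le
        have heq : P.comap (algebraMap A B) = q :=
          le_antisymm hle2 (hqmin.2 ⟨hPc, hle1⟩ hle2)
        have hmc : Ideal.map (algebraMap A B) (P.comap (algebraMap A B)) = P :=
          IsLocalization.map_under q.primeCompl B P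
        rw [heq] at hmc
        rw [← hmc]
        exact Localization.AtPrime.map_eq_maximalIdeal
      -- primes of `B` from primes below `q`
      have hprimeB : ∀ P : Ideal A, P.IsPrime → P ≤ q →
          (P.map (algebraMap A B)).IsPrime ∧ (P.map (algebraMap A B)).comap (algebraMap A B) = P := by
        intro P hP hPq
        have hdisj : Disjoint (q.primeCompl : Set A) (P : Set A) := by
          rw [Set.disjoint_left]
          intro x hx hxP
          exact hx (hPq hxP)
        exact ⟨IsLocalization.isPrime_of_isPrime_disjoint q.primeCompl B P hP hdisj,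
          IsLocalization.under_map_of_isPrime_disjoint q.primeCompl B hP hdisj⟩
      rcases le_nilradical_or_le_nilradical_of_two_le_depth I' J' h1 h2 hdepth with hnil | hnil
      · obtain ⟨hP2prime, hP2comap⟩ := hprimeB p2' hp2'prime hp2'q
        have : I' ≤ p2'.map (algebraMap A B) := hnil.trans (nilradical_le_prime _)
        have hle : I ≤ p2' := by
          rw [← hP2comap]
          exact Ideal.map_le_iff_le_comap.mp this
        obtain ⟨P, hPF1, hPle⟩ := hIprime p2' hp2'prime hle
        have hPprime : P.IsPrime := hprimeF P (Finset.mem_filter.mp hPF1).1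
        have := hmin_eq p2' P hp2'min hPprime hPle
        exact hF12disj p2' (this ▸ hPF1) hp2'F2
      · obtain ⟨hP1prime, hP1comap⟩ := hprimeB p1 hp1prime hp1q
        have : J' ≤ p1.map (algebraMap A B) := hnil.trans (nilradical_le_prime _)
        have hle : J ≤ p1 := by
          rw [← hP1comap]
          exact Ideal.map_le_iff_le_comap.mp this
        obtain ⟨P, hPF2, hPle⟩ := hJprime p1 hp1prime hle
        have hPprime : P.IsPrime := hprimeF P (Finset.mem_filter.mp hPF2).1
        have := hmin_eq p1 P hp1min hPprime hPle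
        exact hF12disj p1 hp1F1 (this ▸ hPF2)
    -- covering relations
    have hcov : ∀ P : Ideal A, (hP : P.IsPrime) → P ≤ q → P ≠ q →
        (⟨P, hP⟩ : PrimeSpectrum A) ⋖ ⟨q, hqprime⟩ := by
      intro P hP hPq hPne
      have hlt : (⟨P, hP⟩ : PrimeSpectrum A) < ⟨q, hqprime⟩ := lt_of_le_of_ne hPq
        (fun e => hPne (congrArg PrimeSpectrum.asIdeal e))
      refine ⟨hlt, ?_⟩
      intro r hr1 hr2
      apply hht
      have hr1' : P < r.asIdeal := hr1
      have hr2' : r.asIdeal < q := hr2
      have e1 := Ideal.height_add_one_le_of_lt_of_isPrime hr1'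
      have e2 := Ideal.height_add_one_le_of_lt_of_isPrime hr2'
      calc (2 : ℕ∞) = 0 + 1 + 1 := by norm_num
        _ ≤ P.height + 1 + 1 := by gcongr; exact zero_le
        _ ≤ r.asIdeal.height + 1 := by gcongr
        _ ≤ q.height := e2
    have hp1ne : p1 ≠ q := by
      intro e
      have : p2' = p1 := hmin_eq p1 p2' hp1min hp2'prime (e ▸ hp2'q)
      exact hne this.symm
    have hp2'ne : p2' ≠ q := by
      intro e
      have : p1 = p2' := hmin_eq p2' p1 hp2'min hp1prime (e ▸ hp1q)
      exact hne this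
    have e1 := ringKrullDim_quotient_eq_add_one_of_covBy hc (hcov p1 hp1prime hp1q hp1ne)
    have e2 := ringKrullDim_quotient_eq_add_one_of_covBy hc (hcov p2' hp2'prime hp2'q hp2'ne)
    have e3 : c p1 = c p2' := e1.trans e2.symm
    exact (Finset.mem_filter.mp hp2'F2).2 (e3.symm.trans (Finset.mem_filter.mp hp1F1).2)
  -- conclude
  apply le_antisymm (ringKrullDim_quotient_le p)
  rw [ringKrullDim, Order.krullDim_eq_iSup_coheight]
  refine iSup_le fun x => ?_
  obtain ⟨P, hPmin, hPx⟩ := Ideal.exists_minimalPrimes_le (I := ⊥) (J := x.asIdeal) bot_le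
  have hPprime : P.IsPrime := hPmin.1.1
  have hle : Order.coheight x ≤ Order.coheight (⟨P, hPprime⟩ : PrimeSpectrum A) :=
    Order.coheight_anti (show (⟨P, hPprime⟩ : PrimeSpectrum A) ≤ x from hPx)
  have e := claim P ((hFmem P).mpr hPmin)
  change ringKrullDim (A ⧸ P) = ringKrullDim (A ⧸ p) at e
  rw [← e, ringKrullDim_quotient_asIdeal_eq_coheight ⟨P, hPprime⟩]
  exact_mod_cast hle

end Groth.Agent.S5154
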