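import Groth.Statements.S1717
import Mathlib
import Groth.Agent.S5154
import Groth.Agent.Lib.Helper28DepthMore
-- import your own Groth.Agent.* helpers here

set_option autoImplicit false
universe u
open LocCoh

namespace Groth.Agent.S1717.Aux

set_option autoImplicit false

theorem main (A : Type u) [CommRing A] [IsLocalRing A] [IsNoetherianRing A] (hc : CAlg.IsCatenary A)
    (hS : LocCoh.HasSk 2 A A) (p : Ideal A) (hp : p ∈ minimalPrimes A) :
    ringKrullDim (A ⧸ p) = ringKrullDim A := by
  refine Groth.Agent.S5154.result A hc ?_ p hp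
  intro q hq
  have h1 := hS q.asIdeal
  rw [Groth.Agent.Lib.Helper28.depth_localizedModule_self,
    Module.supportDim_eq_of_equiv (Groth.Agent.Lib.Helper28.localizedModuleSelfEquiv q.asIdeal),
    Groth.Agent.Lib.Helper28.supportDim_localization_self] at h1
  have e2 : ((2 : ℕ) : WithBot ℕ∞) = (((2 : ℕ∞)) : WithBot ℕ∞) := rfl
  have h2 : ((2 : ℕ) : WithBot ℕ∞) ≤ ((q.asIdeal.height : ℕ∞) : WithBot ℕ∞) := by
    rw [e2]; exact WithBot.coe_le_coe.2 hq
  rw [min_eq_left h2, e2] at h1
  exact WithBot.coe_le_coe.1 h1

end Groth.Agent.S1717.Aux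

namespace Groth.Agent.S1717

/-- Let A be a catenary Noetherian local ring satisfying Serre's condition (S_2). Then Spec A is
equidimensional: for every minimal prime p of A the dimension of A/p equals the dimension of A. -/
theorem result (A : Type u) [CommRing A] [IsLocalRing A] [IsNoetherianRing A] (hc : CAlg.IsCatenary A) (hS : LocCoh.HasSk 2 A A) (p : Ideal A) (hp : p ∈ minimalPrimes A) : ringKrullDim (A ⧸ p) = ringKrullDim A := by
  exact Aux.main A hc hS p hp

end Groth.Agent.S1717
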