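import Groth.Statements.S17175
import Mathlib

set_option autoImplicit false
universe u
open CAlg

namespace Groth.Agent.S17175

open PowerSeries in
/-- Let k be a field, O₀ = k[[x, y]]/(xy) the complete local ring of a node and Õ₀ = k[[x]] × k[[y]] its
normalization, O₀ being embedded in Õ₀ by h ↦ (h(x, 0), h(0, y)) as the subring of pairs with equal
constant coefficients. Regard Õ₀ as an O₀-module: it is the rank-one torsion-free O₀-module that is
not free. Then every O₀-linear endomorphism of this module is Õ₀-linear, i.e. it is multiplication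
by a unique element of Õ₀; consequently its O₀-endomorphism ring is Õ₀ and its O₀-automorphism group
is the unit group of Õ₀. Here an O₀-linear endomorphism is an additive map of k[[X]] × k[[X]]
commuting with multiplication by every pair whose two constant coefficients agree. (The source works
over an algebraically closed field; only the field structure is used.) -/
theorem result (k : Type u) [Field k]
    (φ : (k⟦X⟧ × k⟦X⟧) →+ (k⟦X⟧ × k⟦X⟧))
    (hφ : ∀ a s : k⟦X⟧ × k⟦X⟧, constantCoeff a.1 = constantCoeff a.2 → φ (a * s) = a * φ s) :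
    ∃! b : k⟦X⟧ × k⟦X⟧, ∀ s : k⟦X⟧ × k⟦X⟧, φ s = b * s := by
  classical
  have hXne : (PowerSeries.X : k⟦X⟧) ≠ 0 := PowerSeries.X_ne_zero
  -- elements of the node ring act through `φ 1`
  have hA : ∀ a : k⟦X⟧ × k⟦X⟧, constantCoeff a.1 = constantCoeff a.2 → φ a = a * φ 1 := by
    intro a ha
    have := hφ a 1 ha
    rwa [mul_one] at this
  -- the value at (1, 0)
  have hX0 : constantCoeff (PowerSeries.X : k⟦X⟧) = constantCoeff (0 : k⟦X⟧) := by simp
  have h0X : constantCoeff (0 : k⟦X⟧) = constantCoeff (PowerSeries.X : k⟦X⟧) := by simp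
  have hu1 : (φ (1, 0)).1 = (φ 1).1 := by
    have h1 := hφ ((PowerSeries.X : k⟦X⟧), (0 : k⟦X⟧)) (1, 0) hX0
    have h2 := hA ((PowerSeries.X : k⟦X⟧), (0 : k⟦X⟧)) hX0
    have h3 : ((PowerSeries.X : k⟦X⟧), (0 : k⟦X⟧)) * ((1 : k⟦X⟧), (0 : k⟦X⟧)) =
        ((PowerSeries.X : k⟦X⟧), (0 : k⟦X⟧)) := by simp
    rw [h3, h2] at h1
    have h4 := congrArg Prod.fst h1
    simp only [Prod.fst_mul] at h4
    exact (mul_left_cancel₀ hXne h4).symm
  have hu2 : (φ (1, 0)).2 = 0 := by
    have h1 := hφ ((0 : k⟦X⟧), (PowerSeries.X : k⟦X⟧)) (1, 0) h0X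
    have h3 : ((0 : k⟦X⟧), (PowerSeries.X : k⟦X⟧)) * ((1 : k⟦X⟧), (0 : k⟦X⟧)) = 0 := by
      ext <;> simp
    rw [h3, map_zero] at h1
    have h4 := congrArg Prod.snd h1
    simp only [Prod.snd_mul, Prod.snd_zero] at h4
    rcases mul_eq_zero.mp h4.symm with h | h
    · exact absurd h hXne
    · exact h
  refine ⟨φ 1, ?_, ?_⟩
  · intro s
    set c : k := constantCoeff s.1 - constantCoeff s.2 with hc
    set a : k⟦X⟧ × k⟦X⟧ := (s.1 - PowerSeries.C c, s.2) with ha
    have haA : constantCoeff a.1 = constantCoeff a.2 := by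
      simp [ha, hc]
    have hcc : constantCoeff (PowerSeries.C c : k⟦X⟧) = constantCoeff (PowerSeries.C c : k⟦X⟧) := rfl
    have hs : s = a + ((PowerSeries.C c : k⟦X⟧), (PowerSeries.C c : k⟦X⟧)) * (1, 0) := by
      ext <;> simp [ha]
    have h1 := hA a haA
    have h2 := hφ ((PowerSeries.C c : k⟦X⟧), (PowerSeries.C c : k⟦X⟧)) (1, 0) hcc
    conv_lhs => rw [hs]
    rw [map_add, h1, h2]
    ext
    · simp only [Prod.fst_add, Prod.fst_mul, hu1, ha]
      ring
    · simp only [Prod.snd_add, Prod.snd_mul, hu2, ha]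
      ring
  · intro b' hb'
    have := hb' 1
    rw [mul_one] at this
    exact this.symm

end Groth.Agent.S17175
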