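import Groth.Statements.S17176
import Mathlib

set_option autoImplicit false
open Curves

namespace Groth.Agent.S17176

/-- Fix integers g ≥ 3 and d. For a complete subcurve Y of arithmetic genus g_Y of a nodal curve of
genus g, meeting the rest of the curve in k points, the lower extreme of the Basic Inequality for
line bundles of degree d is m = d(2g_Y - 2 + k)/(2g - 2) - k/2, which is an integer exactly when 2(g
- 1) divides d(2g_Y - 2 + k) - k(g - 1). Then gcd(d - g + 1, 2g - 2) = 1 if and only if m is not an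
integer for all integers g_Y, k with 0 < g_Y < g - 1, k ≥ 1 and k + 2g_Y - 2 < 2g - 2. (The row
makes explicit the bound 2g_Y - 2 + k < 2g - 2, which is automatic for subcurves of stable curves
and is satisfied by every subcurve to which the source applies the lemma; the source leaves the
ambient curve's class implicit.) -/
theorem result (g d : ℤ) (hg : 3 ≤ g) :
    Int.gcd (d - g + 1) (2 * g - 2) = 1 ↔
      ∀ gY k : ℤ, 0 < gY → gY < g - 1 → 1 ≤ k → k + 2 * gY - 2 < 2 * g - 2 →
        ¬ (2 * (g - 1) ∣ d * (2 * gY - 2 + k) - k * (g - 1)) := by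
  obtain ⟨n, rfl⟩ : ∃ n : ℤ, g = n + 1 := ⟨g - 1, by ring⟩
  have hn : 2 ≤ n := by omega
  have e1 : d - (n + 1) + 1 = d - n := by ring
  have e2 : 2 * (n + 1) - 2 = 2 * n := by ring
  rw [e1, e2]
  constructor
  · intro hgcd gY k h1 h2 h3 h4 hdvd
    have hcop : IsCoprime (2 * n) (d - n) := by
      rw [Int.isCoprime_iff_gcd_eq_one, Int.gcd_comm]; exact hgcd
    have e3 : d * (2 * gY - 2 + k) - k * (n + 1 - 1) =
        (d - n) * (2 * gY - 2 + k) + 2 * n * (gY - 1) := by ring
    have e4 : 2 * (n + 1 - 1) = 2 * n := by ring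
    rw [e3, e4] at hdvd
    have h5 : 2 * n ∣ (d - n) * (2 * gY - 2 + k) :=
      (Int.dvd_add_left (Dvd.intro _ rfl)).mp hdvd
    have h6 : 2 * n ∣ 2 * gY - 2 + k := hcop.dvd_of_dvd_mul_left h5
    have h7 := Int.le_of_dvd (by omega) h6
    omega
  · intro h
    by_contra hne
    set e : ℕ := Int.gcd (d - n) (2 * n) with he
    have he1 : (e : ℤ) ∣ d - n := Int.gcd_dvd_left _ _
    have he2 : (e : ℤ) ∣ 2 * n := Int.gcd_dvd_right _ _
    have hepos : 0 < e := Int.gcd_pos_of_ne_zero_right _ (by omega)
    have he2' : 2 ≤ e := by omega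
    obtain ⟨w, hw⟩ := he2
    obtain ⟨c, hc⟩ := he1
    have hwpos : 1 ≤ w := by
      by_contra hcon
      have : w ≤ 0 := by omega
      have : (e : ℤ) * w ≤ 0 := mul_nonpos_of_nonneg_of_nonpos (by positivity) this
      omega
    have hwlt : w < 2 * n := by
      have : (2 : ℤ) * w ≤ (e : ℤ) * w := by
        apply mul_le_mul_of_nonneg_right _ (by omega)
        exact_mod_cast he2'
      omega
    apply h 1 w (by norm_num) (by omega) hwpos (by omega)
    have e5 : d * (2 * 1 - 2 + w) - w * (n + 1 - 1) = (d - n) * w := by ring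
    have e6 : 2 * (n + 1 - 1) = 2 * n := by ring
    rw [e5, e6, hc, hw]
    exact ⟨c, by ring⟩

end Groth.Agent.S17176
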