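import Groth.Statements.S17178
import Mathlib
import Groth.Agent.S8908
import Groth.Agent.Lib.Helper23ClPic2

set_option autoImplicit false
set_option linter.style.haveILetI false
universe u
open CategoryTheory CategoryTheory.Limits AlgebraicGeometry
open Curves

namespace Groth.Agent.S17178

open CategoryTheory.Limits Opposite TopologicalSpace
open Groth.Agent.Lib.Helper4.NormDelta Groth.Agent.Lib.Helper23.StalkLin
  Groth.Agent.Lib.Helper23.Extend Groth.Agent.Lib.Helper2.Ass
  Groth.Agent.Lib.Helper23.AssAffine Groth.Agent.Lib.Helper2.QCoh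
  Groth.Agent.S2541 Groth.Agent.S2520 Groth.Agent.Lib.Helper23.QCohLocal
  Groth.Agent.Lib.Helper23.FinType Groth.Agent.Lib.Helper4.Dev Groth.Agent.Lib.Helper23.AssStalk

/-- a subsingleton space has Krull dimension at most zero -/
theorem topologicalKrullDim_le_zero_of_subsingleton (T : Type*) [TopologicalSpace T]
    [Subsingleton T] : topologicalKrullDim T ≤ 0 := by
  haveI : Subsingleton (IrreducibleCloseds T) := by
    refine ⟨fun A B => ?_⟩
    apply IrreducibleCloseds.ext
    obtain ⟨a, ha⟩ := A.isIrreducible'.1
    obtain ⟨b, hb⟩ := B.isIrreducible'.1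
    ext z
    constructor
    · intro _
      rw [Subsingleton.elim z b]; exact hb
    · intro _
      rw [Subsingleton.elim z a]; exact ha
  unfold topologicalKrullDim
  exact Order.krullDim_nonpos_of_subsingleton

/-- a coherent module that is pure of dimension one has no closed associated points -/
theorem not_isClosed_of_pure {X : Scheme.{u}} [IsLocallyNoetherian X] (J : X.Modules)
    (hJ : Coh.IsCoh J) (hp : ShStab.IsPure X J 1) (y : X) (hy : y ∈ AssSch.Ass J) :
    ¬ IsClosed ({y} : Set X) := by
  intro hcl
  haveI : J.IsQuasicoherent := hJ.1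
  let U₁ : X.Opens := ⟨({y} : Set X)ᶜ, hcl.isOpen_compl⟩
  set η := unitMap U₁ J with hη
  haveI : (J.restrict U₁.ι).IsQuasicoherent :=
    Groth.Agent.Lib.Helper26.Glue.isQuasicoherent_restrict U₁.ι J
  haveI : ((Scheme.Modules.pushforward U₁.ι).obj (J.restrict U₁.ι)).IsQuasicoherent :=
    isQuasicoherent_pushforward U₁.ι _
  haveI hKq : (kernel η).IsQuasicoherent := isQuasicoherent_kernel η
  have hKcoh : Coh.IsCoh (kernel η) := ⟨hKq, isFiniteType_of_mono (hM := hJ.2) (kernel.ι η)⟩
  by_cases hz : IsZero (kernel η)
  · haveI : Mono η := Preadditive.mono_of_kernel_zero (hz.eq_of_src _ _)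
    have h1 := ass_subset_of_mono η hy
    have h2 := ass_push_restrict_subset U₁ J h1
    exact h2.2 rfl
  · have h1 := hp (kernel η) (kernel.ι η) inferInstance hKcoh hz
    have hsub : CohB1.support (kernel η) ⊆ {y} := by
      intro z hzS
      by_contra hne
      apply hzS
      have hzU : z ∈ U₁ := hne
      exact ⟨fun a b => (kernel_unitMap_stalk_eq_zero U₁ J z hzU a).trans
        (kernel_unitMap_stalk_eq_zero U₁ J z hzU b).symm⟩
    haveI : Subsingleton ↥(CohB1.support (kernel η)) :=
      ⟨fun a b => Subtype.ext ((hsub a.2).trans (hsub b.2).symm)⟩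
    have h2 := topologicalKrullDim_le_zero_of_subsingleton ↥(CohB1.support (kernel η))
    rw [h1] at h2
    exact absurd h2 (by decide)

/-- in a space whose irreducible components have dimension one, there is no chain of two proper
specializations -/
theorem no_chain' {T : Type*} [TopologicalSpace T] [T0Space T]
    (hequi : ∀ Z ∈ irreducibleComponents T, topologicalKrullDim Z = 1) {a b c : T}
    (hab : a ⤳ b) (hbc : b ⤳ c) (h1 : a ≠ b) (h2 : b ≠ c) : False := by
  have hZ := irreducibleComponent_mem_irreducibleComponents a
  have hZc : IsClosed (irreducibleComponent a) := isClosed_irreducibleComponent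
  have ha : a ∈ irreducibleComponent a := mem_irreducibleComponent
  have hb : b ∈ irreducibleComponent a := hab.mem_closed hZc ha
  have hc : c ∈ irreducibleComponent a := hbc.mem_closed hZc hb
  have hd := hequi _ hZ
  refine Groth.Agent.Lib.Helper23.ClPic.no_chain (X := ↥(irreducibleComponent a)) hd.le
    (a := ⟨a, ha⟩) (b := ⟨b, hb⟩) (c := ⟨c, hc⟩) ?_ ?_ ?_ ?_
  · exact (subtype_specializes_iff _ _).2 hab
  · exact (subtype_specializes_iff _ _).2 hbc
  · exact fun h => h1 (congrArg Subtype.val h)
  · exact fun h => h2 (congrArg Subtype.val h)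

/-- at a point without proper generizations of a reduced scheme, non-units of the local ring
vanish -/
theorem eq_zero_of_not_isUnit {X : Scheme.{u}} [IsReduced X] (y : X)
    (hgen : ∀ y' : X, y' ⤳ y → y' = y) (r : X.presheaf.stalk y) (hr : ¬ IsUnit r) : r = 0 := by
  have hsub : ∀ p q : PrimeSpectrum (X.presheaf.stalk y), p = q := by
    intro p q
    have hinj : Function.Injective (X.fromSpecStalk y).base :=
      (X.fromSpecStalk y).isEmbedding.injective
    apply hinj
    have hp : (X.fromSpecStalk y).base p ∈ Set.range (X.fromSpecStalk y).base := ⟨p, rfl⟩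
    have hq : (X.fromSpecStalk y).base q ∈ Set.range (X.fromSpecStalk y).base := ⟨q, rfl⟩
    rw [Scheme.range_fromSpecStalk] at hp hq
    rw [hgen _ hp, hgen _ hq]
  have hmem : r ∈ nilradical (X.presheaf.stalk y) := by
    rw [nilradical_eq_sInf, Ideal.mem_sInf]
    intro I hI
    have hm : r ∈ IsLocalRing.maximalIdeal (X.presheaf.stalk y) :=
      (IsLocalRing.mem_maximalIdeal r).2 hr
    have := hsub ⟨I, hI⟩ (IsLocalRing.closedPoint _)
    have h2 : I = IsLocalRing.maximalIdeal (X.presheaf.stalk y) :=
      congrArg PrimeSpectrum.asIdeal this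
    rw [h2]; exact hm
  exact (mem_nilradical.1 hmem).eq_zero

/-- Let k be an algebraically closed field and X a nodal curve over k: proper over k, reduced,
connected, every irreducible component of dimension one, with at-worst-nodal singularities. Let J be
a coherent O_X-module which is pure of dimension one (every nonzero coherent submodule has
one-dimensional support), for instance a pure quotient with one-dimensional support of a rank-one
torsion-free sheaf. Let U be an open subset and f a function on U vanishing at every point of U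
lying in the support Y of J. Then f acts as zero on J over U: for every x ∈ U the germ of f at x
annihilates the stalk J_x. In other words the ideal sheaf of the reduced subcurve Y annihilates J,
so J is an O_Y-module; this is the first assertion in the proof that every such quotient q : I → J
of a rank-one torsion-free I factors through the torsion-free restriction of I to Y, the remaining
assertion (that the induced map is an isomorphism) not being part of this row. -/
theorem result
    (k : Type u) [Field k] [IsAlgClosed k] (X : Scheme.{u}) [X.Over (Spec (CommRingCat.of k))]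
    [IsProper (X ↘ Spec (CommRingCat.of k))] [IsReduced X] [ConnectedSpace X]
    (hequi : ∀ Z ∈ irreducibleComponents (X : Type u), topologicalKrullDim Z = 1)
    (hX : Curv2.AtWorstNodal k X)
    (J : X.Modules) (hJc : Coh.IsCoh J) (hJp : ShStab.IsPure X J 1)
    (U : X.Opens) (f : X.presheaf.obj (Opposite.op U))
    (hf : ∀ x : X, x ∈ U → x ∈ CohB1.support J → x ∉ X.basicOpen f)
    (x : X) (hx : x ∈ U) (t : J.presheaf.stalk x) :
    (X.presheaf.germ U x hx f) • t = 0 := by
  haveI : IsLocallyNoetherian X :=
    LocallyOfFiniteType.isLocallyNoetherian (X ↘ Spec (CommRingCat.of k))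
  haveI : J.IsQuasicoherent := hJc.1
  obtain ⟨V, hxV, s, rfl⟩ := J.presheaf.exists_germ_eq t
  have hxW : x ∈ V ⊓ U := ⟨hxV, hx⟩
  have hf' : X.presheaf.germ (V ⊓ U) x hxW (X.presheaf.map (homOfLE inf_le_right).op f) =
      X.presheaf.germ U x hx f :=
    TopCat.Presheaf.germ_res_apply X.presheaf (homOfLE inf_le_right) x hxW f
  have hs' : J.presheaf.germ (V ⊓ U) x hxW (J.presheaf.map (homOfLE inf_le_left).op s) =
      J.presheaf.germ V x hxV s :=
    TopCat.Presheaf.germ_res_apply J.presheaf (homOfLE inf_le_left) x hxW s
  rw [← hf', ← hs', ← germ_smul]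
  suffices key : (X.presheaf.map (homOfLE (inf_le_right : V ⊓ U ≤ U)).op f) •
      (J.presheaf.map (homOfLE (inf_le_left : V ⊓ U ≤ V)).op s) = 0 by
    rw [key, map_zero]
  by_contra hne
  obtain ⟨y, hyW, hyA, hgy⟩ := exists_isWeakAssPoint_of_ne_zero_open J (V ⊓ U) _ hne
  apply hgy
  rw [germ_smul]
  have hyAss : y ∈ AssSch.Ass J := (isAssPoint_iff_isWeakAssPoint J y).2 hyA
  have hncl : ¬ IsClosed ({y} : Set X) := not_isClosed_of_pure J hJc hJp y hyAss
  obtain ⟨z, hzy, hzne⟩ : ∃ z : X, y ⤳ z ∧ y ≠ z := by
    by_contra hno
    apply hncl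
    rw [← closure_subset_iff_isClosed]
    intro z hz
    by_contra hzy
    exact hno ⟨z, specializes_iff_mem_closure.2 hz, fun h => hzy (h ▸ rfl)⟩
  have hgen : ∀ y' : X, y' ⤳ y → y' = y := by
    intro y' hy'
    by_contra hne'
    exact no_chain' hequi hy' hzy hne' hzne
  have hyS : y ∈ CohB1.support J := by
    have := nontrivial_stalk_of_isAssPoint J y hyAss
    exact not_subsingleton_iff_nontrivial.2 this
  have hyU : y ∈ U := hyW.2
  have hnb := hf y hyU hyS
  have hnu : ¬ IsUnit (X.presheaf.germ U y hyU f) := fun h =>
    hnb ((Scheme.mem_basicOpen X f y hyU).2 h)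
  have h0 := eq_zero_of_not_isUnit y hgen _ hnu
  have hf'' : X.presheaf.germ (V ⊓ U) y hyW (X.presheaf.map (homOfLE inf_le_right).op f) =
      X.presheaf.germ U y hyU f :=
    TopCat.Presheaf.germ_res_apply X.presheaf (homOfLE inf_le_right) y hyW f
  rw [hf'', h0, zero_smul]

end Groth.Agent.S17178
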