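import Groth.Statements.S17181
import Mathlib.AlgebraicGeometry.Morphisms.UniversallyOpen

set_option autoImplicit false
universe u
open CategoryTheory CategoryTheory.Limits AlgebraicGeometry
open FBase

namespace Groth.Agent.S17181

/-- A generalizing map to an irreducible (quasi-sober, here: with given generic point) space whose
generic fibre is irreducible has irreducible source. -/
lemma irreducibleSpace_of_generalizing {Z W : Type*} [TopologicalSpace Z] [TopologicalSpace W]
    (g : Z → W) (hg : GeneralizingMap g) (ξ : W) (hξ : ∀ w : W, ξ ⤳ w)
    (hfib : IsIrreducible (g ⁻¹' {ξ})) : IrreducibleSpace Z := by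
  have hcl : closure (g ⁻¹' {ξ}) = Set.univ := by
    rw [Set.eq_univ_iff_forall]
    intro z
    obtain ⟨z', hz', hgz'⟩ := hg (hξ (g z))
    exact hz'.mem_closed isClosed_closure (subset_closure (by simpa using hgz'))
  have := hfib.closure
  rw [hcl] at this
  exact (irreducibleSpace_def Z).mpr this

lemma map_genericPoint_of_generalizing {Z W : Type*} [TopologicalSpace Z] [TopologicalSpace W]
    [T0Space Z]
    (g : Z → W) (hg : GeneralizingMap g) (ζ : Z) (hζ : ∀ z : Z, ζ ⤳ z)
    (ξ : W) (hξ : ∀ w : W, ξ ⤳ w) : g ζ = ξ := by
  obtain ⟨z', hz', hgz'⟩ := hg (hξ (g ζ))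
  have : z' = ζ := (hz'.antisymm (hζ z')).eq
  rw [← this, hgz']


/-- Let k be a field, C an irreducible k-scheme which is geometrically irreducible over k, and f : X → C
a flat k-morphism locally of finite type with X irreducible. If the generic fibre of f is
geometrically irreducible over the residue field of the generic point of C, then X is geometrically
irreducible over k. (The published setting is a regular proper surface mapping onto a smooth
projective geometrically irreducible curve with smooth projective geometrically irreducible generic
fibre; the printed argument uses only the hypotheses kept here.) -/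
theorem result (k : Type u) [Field k]
    (X C : Scheme.{u}) [X.Over (Spec (CommRingCat.of k))] [C.Over (Spec (CommRingCat.of k))]
    (f : X ⟶ C) [f.IsOver (Spec (CommRingCat.of k))] [IrreducibleSpace X] [IrreducibleSpace C]
    [GeometricallyIrreducible (C ↘ Spec (CommRingCat.of k))] [Flat f] [LocallyOfFiniteType f]
    [GeometricallyIrreducible (f.fiberToSpecResidueField (genericPoint C))] :
    GeometricallyIrreducible (X ↘ Spec (CommRingCat.of k)) := by
  refine ⟨fun K _ y Z fst snd h ↦ ?_⟩
  -- the base change of `C`
  let CK := pullback (C ↘ Spec (CommRingCat.of k)) y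
  let pC : CK ⟶ C := pullback.fst _ _
  let qC : CK ⟶ Spec (.of K) := pullback.snd _ _
  have hCK : IrreducibleSpace CK :=
    GeometricallyIrreducible.geometrically_irreducibleSpace _ _ _ (.of_hasPullback _ _)
  let fK : Z ⟶ CK := pullback.lift (fst ≫ f) snd (by
    rw [Category.assoc, comp_over, h.w])
  have hfK₁ : fK ≫ pC = fst ≫ f := pullback.lift_fst _ _ _
  have hfK₂ : fK ≫ qC = snd := pullback.lift_snd _ _ _
  have hsq : IsPullback fst fK f pC := by
    refine (IsPullback.of_right (h₁₂ := qC) (h₂₂ := C ↘ Spec (CommRingCat.of k)) ?_ hfK₁
      (IsPullback.of_hasPullback _ _).flip).flip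
    rw [hfK₂, comp_over]
    exact h.flip
  have hflatK : Flat fK := MorphismProperty.of_isPullback hsq ‹Flat f›
  have hflatp : Flat pC := inferInstanceAs (Flat (pullback.fst _ _))
  -- generic points
  let ζ : CK := genericPoint CK
  have hζ : ∀ z : CK, ζ ⤳ z := fun z ↦ genericPoint_specializes z
  have hξ : ∀ c : C, genericPoint C ⤳ c := fun c ↦ genericPoint_specializes c
  have hpζ : pC ζ = genericPoint C :=
    map_genericPoint_of_generalizing pC (Flat.generalizingMap pC) ζ hζ _ hξ
  -- the generic fibre of fK
  have hgi : GeometricallyIrreducible (f.fiberToSpecResidueField (pC ζ)) := by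
    rw [hpζ]; infer_instance
  have hfib : IrreducibleSpace (fK.fiber ζ) :=
    hgi.geometrically_irreducibleSpace _ _ _
      (isPullback_fiberToSpecResidueField_of_isPullback hsq ζ)
  refine irreducibleSpace_of_generalizing fK (Flat.generalizingMap fK) ζ hζ ?_
  rw [← fK.range_fiberι, ← Set.image_univ]
  exact (IrreducibleSpace.isIrreducible_univ _).image _ (fK.fiberι _).continuous.continuousOn

end Groth.Agent.S17181
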