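import Groth.Statements.S1721
import Groth.Agent.S0377
import Groth.Agent.S1722
import Groth.Agent.S0371

set_option autoImplicit false
universe u
open CategoryTheory
attribute [local instance] HasDerivedCategory.standard
open Dual

namespace Groth.Agent.S1721

/-- A Noetherian ring admitting a dualizing complex is universally catenary. (Finiteness of the
dimension is a separate, earlier result.) -/
theorem result (A : Type u) [CommRing A] [IsNoetherianRing A] (ω : Dual.D A) (hω : Dual.IsDualizing A ω) : CAlg.IsUniversallyCatenary A := by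
  refine ⟨inferInstance, fun S _ _ hS => ?_⟩
  haveI := hS
  obtain ⟨ωS, hωS⟩ := Groth.Agent.S0377.result A ω hω S
  haveI := hωS.isNoetherianRing
  obtain ⟨δ, -, hδ⟩ := Groth.Agent.S1722.result S ωS hωS
  have hdim := Groth.Agent.S0371.result S ωS hωS
  refine ⟨?_, ?_⟩
  · intro p q _
    obtain ⟨n, hn⟩ : ∃ n : ℕ, ringKrullDim S ≤ (n : WithBot ℕ∞) := by
      have h1 : ringKrullDim S ≠ ⊤ := hdim.ne
      induction hx : ringKrullDim S using WithBot.recBotCoe with
      | bot => exact ⟨0, bot_le⟩
      | coe m =>
        have hm : m ≠ ⊤ := by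
          rintro rfl
          exact h1 hx
        obtain ⟨n, rfl⟩ := ENat.ne_top_iff_exists.1 hm
        exact ⟨n, le_refl _⟩
    refine ⟨n, fun s _ _ => ?_⟩
    have h2 : (s.length : WithBot ℕ∞) ≤ (n : WithBot ℕ∞) :=
      (Order.LTSeries.length_le_krullDim s).trans hn
    exact_mod_cast h2
  · have key : ∀ s : LTSeries (PrimeSpectrum S),
        (∀ i : Fin s.length, s (Fin.castSucc i) ⋖ s (Fin.succ i)) →
        δ s.head = δ s.last + s.length := by
      intro s hs
      have h3 : ∀ (k : ℕ) (hk : k ≤ s.length),
          δ (s ⟨0, Nat.succ_pos _⟩) = δ (s ⟨k, Nat.lt_succ_of_le hk⟩) + k := by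
        intro k
        induction k with
        | zero =>
          intro _
          simp
        | succ k ih =>
          intro hk
          have h4 := hδ _ _ (hs ⟨k, hk⟩)
          have h5 := ih (Nat.le_of_succ_le hk)
          have e1 : Fin.castSucc (⟨k, hk⟩ : Fin s.length) = ⟨k, Nat.lt_succ_of_le (Nat.le_of_succ_le hk)⟩ := rfl
          have e2 : Fin.succ (⟨k, hk⟩ : Fin s.length) = ⟨k + 1, Nat.lt_succ_of_le hk⟩ := rfl
          rw [e1, e2] at h4
          rw [h5, h4]
          push_cast
          ring
      exact h3 s.length le_rfl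
    intro s t hh hl hs ht
    have h6 := key s hs
    have h7 := key t ht
    rw [hh, hl] at h6
    have h8 : (s.length : ℤ) = (t.length : ℤ) := by linarith
    exact_mod_cast h8

end Groth.Agent.S1721
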