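import Groth.Statements.S1724
import Groth.Agent.Lib.Helper14HFinE
import Groth.Agent.S9126

set_option autoImplicit false
universe u
open LocCoh

namespace Groth.Agent.S1724

/-- Let A be a universally catenary Noetherian ring such that the formal fibres of all local rings A_q
are Cohen–Macaulay, I an ideal, M a finite A-module and s = s_{A,I}(M) (the infimum of depth(M_p) +
dim((A/p)_q) over primes p ⊆ q with q ⊇ I and p ⊉ I). Then H^i_I(M) is a finite A-module for every i
< s, and if s is finite then H^s_I(M) is not a finite A-module. -/
theorem result (A : Type u) [CommRing A] [IsNoetherianRing A] (hA : CAlg.IsUniversallyCatenary A) (hF : ∀ q : PrimeSpectrum A, EGA4.HasCMFormalFibres (Localization.AtPrime q.asIdeal)) (I : Ideal A) (M : Type u) [AddCommGroup M] [Module A M] [Module.Finite A M] : (∀ i : ℕ, (i : ℕ∞) < Dual2.cutoff A I M → Module.Finite A (LocCoh.H I i M)) ∧ ∀ s : ℕ, Dual2.cutoff A I M = s → ¬ Module.Finite A (LocCoh.H I s M) := by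
  classical
  -- the local rings of `A` satisfy the hypotheses of the local case
  have hloc : ∀ (q : PrimeSpectrum A) (i : ℕ),
      (i : ℕ∞) < Dual2.cutoff A I M →
      Module.Finite (Localization.AtPrime q.asIdeal)
        (LocalizedModule q.asIdeal.primeCompl (LocCoh.H I i M)) := by
    intro q i hi
    have : IsNoetherianRing (Localization.AtPrime q.asIdeal) :=
      IsLocalization.isNoetherianRing q.asIdeal.primeCompl _ inferInstance
    have hUC : CAlg.IsUniversallyCatenary (Localization.AtPrime q.asIdeal) :=
      Groth.Agent.S9126.result A (Localization.AtPrime q.asIdeal) hA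
    have : Module.Finite (Localization.AtPrime q.asIdeal)
        (LocalizedModule q.asIdeal.primeCompl M) :=
      Module.Finite.of_isLocalizedModule q.asIdeal.primeCompl
        (LocalizedModule.mkLinearMap q.asIdeal.primeCompl M)
    have h1 := Groth.Agent.Lib.Helper14.HFin.finite_H_of_lt_cutoff_local
      (Localization.AtPrime q.asIdeal) hUC (hF q)
      (I.map (algebraMap A (Localization.AtPrime q.asIdeal)))
      (LocalizedModule q.asIdeal.primeCompl M) i
      (lt_of_lt_of_le hi (Groth.Agent.Lib.Helper14.HFin.cutoff_le_localization q.asIdeal M I))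
    obtain ⟨e⟩ := Groth.Agent.S11618.result A I q.asIdeal.primeCompl M i
    exact Module.Finite.equiv e.symm
  have part1 : ∀ i : ℕ, (i : ℕ∞) < Dual2.cutoff A I M → Module.Finite A (LocCoh.H I i M) := by
    intro i hi
    refine Groth.Agent.Lib.Helper14.HFin.finite_H_of_local I M i (fun j hj q => ?_) i le_rfl
    exact hloc q j (lt_of_le_of_lt (by exact_mod_cast hj) hi)
  refine ⟨part1, fun s hs hfin => ?_⟩
  have hall : ∀ i : ℕ, i ≤ s → Module.Finite A (LocCoh.H I i M) := by
    intro i hi
    rcases Nat.eq_or_lt_of_le hi with heq | hlt
    · rw [heq]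
      exact hfin
    · exact part1 i (by rw [hs]; exact_mod_cast hlt)
  have hle : ((s : ℕ∞) + 1) ≤ Dual2.cutoff A I M := by
    refine le_iInf fun p => le_iInf fun q => le_iInf fun hpq => le_iInf fun hIp =>
      le_iInf fun hIq => ?_
    have : IsNoetherianRing (Localization.AtPrime q.asIdeal) :=
      IsLocalization.isNoetherianRing q.asIdeal.primeCompl _ inferInstance
    have hUC : CAlg.IsUniversallyCatenary (Localization.AtPrime q.asIdeal) :=
      Groth.Agent.S9126.result A (Localization.AtPrime q.asIdeal) hA
    have : Module.Finite (Localization.AtPrime q.asIdeal)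
        (LocalizedModule q.asIdeal.primeCompl M) :=
      Module.Finite.of_isLocalizedModule q.asIdeal.primeCompl
        (LocalizedModule.mkLinearMap q.asIdeal.primeCompl M)
    have h1 : (s : ℕ∞) < Dual2.cutoff (Localization.AtPrime q.asIdeal)
        (I.map (algebraMap A (Localization.AtPrime q.asIdeal)))
        (LocalizedModule q.asIdeal.primeCompl M) := by
      refine Groth.Agent.Lib.Helper14.HFin.lt_cutoff_of_finite_local
        (Localization.AtPrime q.asIdeal) hUC (hF q) _ _ s (fun i hi => ?_)
      obtain ⟨e⟩ := Groth.Agent.S11618.result A I q.asIdeal.primeCompl M i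
      have := hall i hi
      have : Module.Finite (Localization.AtPrime q.asIdeal)
          (LocalizedModule q.asIdeal.primeCompl (LocCoh.H I i M)) :=
        Module.Finite.of_isLocalizedModule q.asIdeal.primeCompl
          (LocalizedModule.mkLinearMap q.asIdeal.primeCompl (LocCoh.H I i M))
      exact Module.Finite.equiv e
    exact (Order.add_one_le_of_lt h1).trans
      (Groth.Agent.Lib.Helper14.HFin.cutoff_localization_le M I p q hpq hIp hIq)
  rw [hs] at hle
  exact absurd hle (not_le.mpr ENat.natCast_lt_succ)

end Groth.Agent.S1724
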