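import Groth.Statements.S17243
import Mathlib
import Groth.Agent.Lib.Helper16PolarParts2
-- import your own Groth.Agent.* helpers here

set_option autoImplicit false
set_option linter.style.haveILetI false
set_option linter.unusedSectionVars false
open W4c4effdivwronsk2

namespace Groth.Agent.S17243
open Groth.Agent.Lib.PolarParts

open Polynomial in

open Polynomial in
/-- Let `k` be a field of characteristic zero and take, on the projective line over `k`, the point `∞`
and `m` further distinct points `r_1, …, r_m` of the affine line, with positive integers `b` (at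
`∞`) and `a_1, …, a_m`; put `N = b + ∑ a_j`. The sum of the spaces of differentials with a single
pole, of order at most `b + 1` at `∞`, resp. at most `a_j + 1` at `r_j`, `V = H⁰(ω((b+1)∞)) + ∑_j
H⁰(ω((a_j+1)r_j)) ⊆ H⁰(ω((b+1)∞ + ∑_j (a_j+1)r_j)) ≅ H⁰(O(d))`, `d = b - 1 + ∑ (a_j+1)`, becomes,
after multiplying by `dX⁻¹ ∏_j (X - r_j)^(a_j+1)`, the subspace of `k[X]_{≤ d}` spanned by
`D·k[X]_{<b}` and the `D_i·k[X]_{<a_i}`, where `D = ∏_j (X - r_j)^(a_j+1)` and `D_i` omits the
`i`-th factor; a member `h` vanishes to order `n` at a point `q` of the affine line when `(X - q)^n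
∣ h`, and to order `d - deg h` at `∞`. Let `V₁ ⊆ V` be a hyperplane (`dim V₁ = N - 1`) containing
`H⁰(ω((b-1)∞)) + ∑_j H⁰(ω((a_j+1)r_j))`, i.e. containing `D·k[X]_{<b-2}` and every
`D_i·k[X]_{<a_i}`. Then `V₁` has at most one ramification point off the marked points, and that
point is simple: at every point `q` of the affine line other than the `r_j` the weight of `V₁` is at
most one (no nonzero member divisible by `(X - q)^N`, at most a line of members divisible by `(X -
q)^(N-2)`), and at most one such `q` has positive weight (a nonzero member divisible by `(X -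
q)^(N-1)`). (The published statement is over the complex numbers with the distinguished marked point
arbitrary; it is placed at `∞` here, so that the unmarked points are the points of the affine line
other than the `r_j`.) -/
theorem result
    (k : Type*) [Field k] [CharZero k] (m : ℕ) (r : Fin m → k) (hr : Function.Injective r)
    (a : Fin m → ℕ) (ha : ∀ j, 1 ≤ a j) (b : ℕ) (hb : 1 ≤ b) (N d : ℕ)
    (hN : N = (∑ j, a j) + b) (hd : d + 1 = (∑ j, (a j + 1)) + b)
    (V : Submodule k (Polynomial k))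
    (hV : V = (Polynomial.degreeLT k b).map (LinearMap.mulLeft k (∏ j, (X - C (r j)) ^ (a j + 1))) ⊔
      ⨆ i, (Polynomial.degreeLT k (a i)).map
        (LinearMap.mulLeft k (∏ j ∈ Finset.univ.erase i, (X - C (r j)) ^ (a j + 1))))
    (V₁ : Submodule k (Polynomial k)) (hV₁ : V₁ ≤ V) (hfin : Module.finrank k ↥V₁ + 1 = N)
    (hU : (Polynomial.degreeLT k (b - 2)).map (LinearMap.mulLeft k (∏ j, (X - C (r j)) ^ (a j + 1))) ⊔
      (⨆ i, (Polynomial.degreeLT k (a i)).map
        (LinearMap.mulLeft k (∏ j ∈ Finset.univ.erase i, (X - C (r j)) ^ (a j + 1)))) ≤ V₁) :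
    (∀ q : k, (∀ j, q ≠ r j) →
      (V₁ ⊓ (Ideal.span {(X - C q) ^ N}).restrictScalars k) = ⊥ ∧
      Module.finrank k ↥(V₁ ⊓ (Ideal.span {(X - C q) ^ (N - 2)}).restrictScalars k) ≤ 1) ∧
    (∀ q q' : k, (∀ j, q ≠ r j) → (∀ j, q' ≠ r j) →
      (V₁ ⊓ (Ideal.span {(X - C q) ^ (N - 1)}).restrictScalars k) ≠ ⊥ →
      (V₁ ⊓ (Ideal.span {(X - C q') ^ (N - 1)}).restrictScalars k) ≠ ⊥ → q = q') := by
  have hα : ∑ j, a j ≤ N := by omega
  have hVeq : V = (degreeLT k (N + 1)).map (Psi r a Finset.univ) := by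
    rw [hV, hN]; exact VV_eq r a hr b
  have hV₁' : V₁ ≤ (degreeLT k (N + 1)).map (Psi r a Finset.univ) := hVeq ▸ hV₁
  have hmap : (WW r a N V₁).map (Psi r a Finset.univ) = V₁ := map_WW r a hV₁'
  have hE : EE r a Finset.univ ∈ WW r a N V₁ := EE_mem_WW r a hα V₁
  have hfr : Module.finrank k (WW r a N V₁) = N := by rw [finrank_WW r a hα hV₁']; omega
  have hlow : degreeLT k (N - 1) ≤ WW r a N V₁ := by
    intro G hG
    refine ⟨degreeLT_mono (by omega) hG, ?_⟩
    apply hU
    change Psi r a Finset.univ G ∈ VV r a (b - 2)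
    rw [VV_eq r a hr (b - 2)]
    exact ⟨G, degreeLT_mono (by omega) hG, rfl⟩
  have hne : ¬ degreeLT k (N + 1) ≤ WW r a N V₁ := by
    intro h
    have := Submodule.finrank_mono h
    rw [finrank_degreeLT, hfr] at this; omega
  obtain ⟨N', rfl⟩ : ∃ N', N = N' + 1 := ⟨N - 1, by omega⟩
  rw [Nat.add_sub_cancel] at hlow
  have key1 : ∀ q : k, ¬ ((X - C q) ^ N' ∈ WW r a (N' + 1) V₁ ∧
      (X - C q) ^ (N' + 1) ∈ WW r a (N' + 1) V₁) := by
    rintro q ⟨hB, hA⟩
    exact hne (top_of_two _ hlow hA (X_sub_C_pow_mem_degreeLT q (N' + 1))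
      (by rw [coeff_X_sub_C_pow_self]; exact one_ne_zero) hB (X_sub_C_pow_mem_degreeLT q N')
      (by rw [coeff_X_sub_C_pow_self]; exact one_ne_zero))
  have key2 : ∀ q q' : k, (X - C q) ^ (N' + 1) ∈ WW r a (N' + 1) V₁ →
      (X - C q') ^ (N' + 1) ∈ WW r a (N' + 1) V₁ → q = q' := by
    intro q q' hA hA'
    by_contra hqq
    refine hne (top_of_two _ hlow hA (X_sub_C_pow_mem_degreeLT q (N' + 1))
      (by rw [coeff_X_sub_C_pow_self]; exact one_ne_zero)
      (B := (X - C q) ^ (N' + 1) - (X - C q') ^ (N' + 1)) (Submodule.sub_mem _ hA hA') ?_ ?_)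
    · rw [mem_degreeLT_iff_coeff]
      intro m hm
      rw [coeff_sub]
      rcases Nat.eq_or_lt_of_le hm with h | h
      · rw [← h, coeff_X_sub_C_pow_self, coeff_X_sub_C_pow_self, sub_self]
      · rw [(mem_degreeLT_iff_coeff.mp (X_sub_C_pow_mem_degreeLT q (N' + 1))) m (by omega),
          (mem_degreeLT_iff_coeff.mp (X_sub_C_pow_mem_degreeLT q' (N' + 1))) m (by omega), sub_self]
    · rw [coeff_sub, coeff_X_sub_C_pow_pred, coeff_X_sub_C_pow_pred]
      have h1 : ((N' + 1 : ℕ) : k) ≠ 0 := by exact_mod_cast Nat.succ_ne_zero N'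
      intro h
      apply hqq
      have : ((N' + 1 : ℕ) : k) * (q' - q) = 0 := by linear_combination h
      rcases mul_eq_zero.mp this with h2 | h2
      · exact absurd h2 h1
      · exact (sub_eq_zero.mp h2).symm
  haveI : FiniteDimensional k V₁ := Submodule.finiteDimensional_of_le hV₁'
  refine ⟨fun q hq => ⟨?_, ?_⟩, ?_⟩
  · rw [eq_bot_iff]
    refine le_trans (inf_le_inf_right _ hV₁') ?_
    exact (unmarked_top_eq_bot r a hα hq).le
  · change Module.finrank k ↥(V₁ ⊓ Ipow q (N' + 1 - 2)) ≤ 1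
    by_cases h3 : N' + 1 ≤ 2
    · have := Submodule.finrank_mono (inf_le_left : V₁ ⊓ Ipow q (N' + 1 - 2) ≤ V₁)
      omega
    · obtain ⟨n, rfl⟩ : ∃ n, N' = n + 1 := ⟨N' - 1, by omega⟩
      have e : n + 1 + 1 - 2 = n := by omega
      rw [e]
      have h4 := img_unmarked r a (s := Finset.univ) (q := q) (fun j _ => hq j)
        (WW r a (n + 1 + 1) V₁) hE n
      rw [hmap] at h4
      rw [h4]
      refine (Submodule.finrank_map_le _ _).trans ?_
      have hlt : WW r a (n + 1 + 1) V₁ ⊓ Ipow q (n + 1) <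
          degreeLT k (n + 1 + 1 + 1) ⊓ Ipow q (n + 1) := by
        refine lt_of_le_of_ne (inf_le_inf_right _ (WW_le r a _ _)) fun h => key1 q ⟨?_, ?_⟩
        · have : (X - C q) ^ (n + 1) ∈ degreeLT k (n + 1 + 1 + 1) ⊓ Ipow q (n + 1) :=
            ⟨degreeLT_mono (by omega) (X_sub_C_pow_mem_degreeLT q (n + 1)),
              mem_Ipow.mpr dvd_rfl⟩
          rw [← h] at this; exact this.1
        · have : (X - C q) ^ (n + 1 + 1) ∈ degreeLT k (n + 1 + 1 + 1) ⊓ Ipow q (n + 1) :=
            ⟨X_sub_C_pow_mem_degreeLT q (n + 1 + 1),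
              mem_Ipow.mpr (pow_dvd_pow _ (Nat.le_succ _))⟩
          rw [← h] at this; exact this.1
      have := Submodule.finrank_lt_finrank_of_lt hlt
      rw [finrank_degreeLT_inf_Ipow] at this
      omega
  · intro q q' hq hq' h1 h2
    have aux : ∀ q : k, (∀ j, q ≠ r j) → V₁ ⊓ Ipow q (N' + 1 - 1) ≠ ⊥ →
        (X - C q) ^ (N' + 1) ∈ WW r a (N' + 1) V₁ := by
      intro q hq h1
      rw [Nat.add_sub_cancel] at h1
      have h4 := img_unmarked r a (s := Finset.univ) (q := q) (fun j _ => hq j)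
        (WW r a (N' + 1) V₁) hE N'
      rw [hmap] at h4
      rw [h4] at h1
      have h5 : WW r a (N' + 1) V₁ ⊓ Ipow q (N' + 1) ≠ ⊥ := by
        intro h; apply h1; rw [h, Submodule.map_bot]
      obtain ⟨G, hG, hG0⟩ := (Submodule.ne_bot_iff _).mp h5
      obtain ⟨c, hc⟩ := eq_smul_of_mem_inf (q := q) (N := N' + 1) (G := G)
        ⟨WW_le r a _ _ hG.1, hG.2⟩
      have hc0 : c ≠ 0 := by
        rintro rfl; apply hG0; rw [hc, zero_smul]
      have : (X - C q) ^ (N' + 1) = c⁻¹ • G := by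
        rw [hc, smul_smul, inv_mul_cancel₀ hc0, one_smul]
      rw [this]
      exact Submodule.smul_mem _ _ hG.1
    exact key2 q q' (aux q hq h1) (aux q' hq' h2)

end Groth.Agent.S17243
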