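import Groth.Statements.S17244
import Mathlib
import Groth.Agent.Lib.Helper16PolarParts3
-- import your own Groth.Agent.* helpers here

set_option autoImplicit false
set_option linter.style.haveILetI false
set_option linter.unusedSectionVars false
open W4c4effdivwronsk2

namespace Groth.Agent.S17244
open Groth.Agent.Lib.PolarParts

open Polynomial in

open Polynomial in
/-- Let `k` be a field of characteristic zero and take, on the projective line over `k`, the point `∞`
and `m` further distinct points `r_1, …, r_m` of the affine line, with positive integers `b` (at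
`∞`) and `a_1, …, a_m`; put `N = b + ∑ a_j`. The sum of the spaces of differentials with a single
pole, of order at most `b + 1` at `∞`, resp. at most `a_j + 1` at `r_j`, `V = H⁰(ω((b+1)∞)) + ∑_j
H⁰(ω((a_j+1)r_j)) ⊆ H⁰(ω((b+1)∞ + ∑_j (a_j+1)r_j)) ≅ H⁰(O(d))`, `d = b - 1 + ∑ (a_j+1)`, becomes,
after multiplying by `dX⁻¹ ∏_j (X - r_j)^(a_j+1)`, the subspace of `k[X]_{≤ d}` spanned by
`D·k[X]_{<b}` and the `D_i·k[X]_{<a_i}`, where `D = ∏_j (X - r_j)^(a_j+1)` and `D_i` omits the
`i`-th factor; a member `h` vanishes to order `n` at a point `q` of the affine line when `(X - q)^n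
∣ h`, and to order `d - deg h` at `∞`. Let `V₁ ⊆ V` be a hyperplane (`dim V₁ = N - 1`) containing
`D·k[X]_{<b-2}` and every `D_i·k[X]_{<a_i}` (that is, containing `H⁰(ω((b-1)∞)) + ∑_j
H⁰(ω((a_j+1)r_j))`). The weight of `V₁` at a point is `∑_{n=1}^{d} dim V₁(-n·point) - (N-1 choose
2)` (the sum of the vanishing orders minus `0 + 1 + ⋯ + (N-2)`). Then the weight of `V₁` at `r_i` is
`∑_{j≠i} a_j + b - 1 + ε_i` and its weight at `∞` is `∑_j a_j + N - 2 + ε`, with `ε_i, ε ∈ {0, 1}`.
(The published statement is over the complex numbers with the distinguished marked point arbitrary;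
it is placed at `∞` here.) -/
theorem result
    (k : Type*) [Field k] [CharZero k] (m : ℕ) (r : Fin m → k) (hr : Function.Injective r)
    (a : Fin m → ℕ) (ha : ∀ j, 1 ≤ a j) (b : ℕ) (hb : 1 ≤ b) (N d : ℕ)
    (hN : N = (∑ j, a j) + b) (hd : d + 1 = (∑ j, (a j + 1)) + b)
    (V : Submodule k (Polynomial k))
    (hV : V = (Polynomial.degreeLT k b).map (LinearMap.mulLeft k (∏ j, (X - C (r j)) ^ (a j + 1))) ⊔
      ⨆ i, (Polynomial.degreeLT k (a i)).map
        (LinearMap.mulLeft k (∏ j ∈ Finset.univ.erase i, (X - C (r j)) ^ (a j + 1))))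
    (V₁ : Submodule k (Polynomial k)) (hV₁ : V₁ ≤ V) (hfin : Module.finrank k ↥V₁ + 1 = N)
    (hU : (Polynomial.degreeLT k (b - 2)).map (LinearMap.mulLeft k (∏ j, (X - C (r j)) ^ (a j + 1))) ⊔
      (⨆ i, (Polynomial.degreeLT k (a i)).map
        (LinearMap.mulLeft k (∏ j ∈ Finset.univ.erase i, (X - C (r j)) ^ (a j + 1)))) ≤ V₁) :
    (∀ i : Fin m, ∃ ε : ℕ, ε ≤ 1 ∧
      (∑ n ∈ Finset.range d, Module.finrank k ↥(V₁ ⊓ (Ideal.span {(X - C (r i)) ^ (n + 1)}).restrictScalars k)) + 1 =
        (N - 1).choose 2 + (N - a i) + ε) ∧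
    (∃ ε : ℕ, ε ≤ 1 ∧
      (∑ n ∈ Finset.range d, Module.finrank k ↥(V₁ ⊓ Polynomial.degreeLT k (d - n))) =
        (N - 1).choose 2 + (N - b) + (N - 2) + ε) := by
  have hα : ∑ j, a j ≤ N := by omega
  have hVeq : V = (degreeLT k (N + 1)).map (Psi r a Finset.univ) := by
    rw [hV, hN]; exact VV_eq r a hr b
  have hV₁' : V₁ ≤ (degreeLT k (N + 1)).map (Psi r a Finset.univ) := hVeq ▸ hV₁
  have hmap : (WW r a N V₁).map (Psi r a Finset.univ) = V₁ := map_WW r a hV₁'
  have hE : EE r a Finset.univ ∈ WW r a N V₁ := EE_mem_WW r a hα V₁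
  have hfr : Module.finrank k (WW r a N V₁) = N := by rw [finrank_WW r a hα hV₁']; omega
  have hlow : degreeLT k (N - 1) ≤ WW r a N V₁ := by
    intro G hG
    refine ⟨degreeLT_mono (by omega) hG, ?_⟩
    apply hU
    change Psi r a Finset.univ G ∈ VV r a (b - 2)
    rw [VV_eq r a hr (b - 2)]
    exact ⟨G, degreeLT_mono (by omega) hG, rfl⟩
  have hne : ¬ degreeLT k (N + 1) ≤ WW r a N V₁ := by
    intro h
    have := Submodule.finrank_mono h
    rw [finrank_degreeLT, hfr] at this; omega
  have hmα : m ≤ ∑ j, a j := by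
    have h1 : ∑ _j : Fin m, 1 ≤ ∑ j, a j := Finset.sum_le_sum fun j _ => ha j
    simpa using h1
  have hd' : d + 1 = N + m := by
    rw [hd, hN, Finset.sum_add_distrib, Finset.sum_const, Finset.card_univ, Fintype.card_fin,
      smul_eq_mul, mul_one]; omega
  have hcard : (Finset.univ : Finset (Fin m)).card = m := by
    rw [Finset.card_univ, Fintype.card_fin]
  obtain ⟨N', rfl⟩ : ∃ N', N = N' + 1 := ⟨N - 1, by omega⟩
  rw [Nat.add_sub_cancel] at hlow
  have key1 : ∀ q : k, ¬ ((X - C q) ^ N' ∈ WW r a (N' + 1) V₁ ∧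
      (X - C q) ^ (N' + 1) ∈ WW r a (N' + 1) V₁) := by
    rintro q ⟨hB, hA⟩
    exact hne (top_of_two _ hlow hA (X_sub_C_pow_mem_degreeLT q (N' + 1))
      (by rw [coeff_X_sub_C_pow_self]; exact one_ne_zero) hB (X_sub_C_pow_mem_degreeLT q N')
      (by rw [coeff_X_sub_C_pow_self]; exact one_ne_zero))
  refine ⟨fun i => ?_, ?_⟩
  · have hai : a i ≤ N' := by
      have := Finset.single_le_sum (f := a) (fun j _ => Nat.zero_le _) (Finset.mem_univ i)
      omega
    have hm1 : 1 ≤ m := i.pos
    have h := partA r a hr i (N' := N') (d := d) hα hai (by omega) (WW r a (N' + 1) V₁)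
      (WW_le r a _ _) hE hfr (key1 (r i))
    rw [hmap] at h
    rw [Nat.add_sub_cancel]
    exact h
  · rw [Nat.add_sub_cancel]
    have himg : ∀ n, V₁ ⊓ degreeLT k (d - n) =
        (WW r a (N' + 1) V₁ ⊓ degreeLT k (N' + 1 - n)).map (Psi r a Finset.univ) := by
      intro n
      have h := img_inf' r a Finset.univ (N' + 1) (WW r a (N' + 1) V₁) (WW_le r a _ _) hE (n + 1)
      rw [hmap, hcard] at h
      have e1 : N' + 1 + m - (n + 1) = d - n := by omega
      have e2 : N' + 1 + 1 - (n + 1) = N' + 1 - n := by omega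
      rw [e1, e2] at h
      exact h
    by_cases hN0 : N' = 0
    · subst hN0
      have hd0 : d = 0 := by omega
      subst hd0
      refine ⟨0, Nat.zero_le _, ?_⟩
      rw [Finset.range_zero, Finset.sum_empty]
      have : (0 + 1 - b) = 0 := by omega
      rw [this]; simp
    obtain ⟨d', rfl⟩ : ∃ d', d = d' + 1 := ⟨d - 1, by omega⟩
    -- the term n = 0
    have hE0 : EE r a Finset.univ ∈ WW r a (N' + 1) V₁ ⊓ degreeLT k (N' + 1) :=
      ⟨hE, (EE_mem_degreeLT_iff r a _ _).mpr (by omega)⟩
    haveI : FiniteDimensional k ↥(WW r a (N' + 1) V₁ ⊓ degreeLT k (N' + 1)) :=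
      Submodule.finiteDimensional_inf_left _ _
    have h0 := finrank_map_Psi_of_mem r a Finset.univ _ hE0
    have hx1 : N' ≤ Module.finrank k ↥(WW r a (N' + 1) V₁ ⊓ degreeLT k (N' + 1)) := by
      have : degreeLT k N' ≤ WW r a (N' + 1) V₁ ⊓ degreeLT k (N' + 1) :=
        le_inf hlow (degreeLT_mono (Nat.le_succ _))
      have := Submodule.finrank_mono this
      rwa [finrank_degreeLT] at this
    have hx2 : Module.finrank k ↥(WW r a (N' + 1) V₁ ⊓ degreeLT k (N' + 1)) ≤ N' + 1 := by
      have := Submodule.finrank_mono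
        (inf_le_right : WW r a (N' + 1) V₁ ⊓ degreeLT k (N' + 1) ≤ degreeLT k (N' + 1))
      rwa [finrank_degreeLT] at this
    -- the terms n ≥ 1
    have hpos : ∀ n', Module.finrank k ↥(V₁ ⊓ degreeLT k (d' + 1 - (n' + 1))) =
        if n' + 1 ≤ b - 1 then N' - n' - 1 else N' - n' := by
      intro n'
      rw [himg (n' + 1)]
      have hle : degreeLT k (N' + 1 - (n' + 1)) ≤ WW r a (N' + 1) V₁ :=
        (degreeLT_mono (by omega)).trans hlow
      rw [inf_of_le_right hle]
      split_ifs with hn'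
      · have hmem : EE r a Finset.univ ∈ degreeLT k (N' + 1 - (n' + 1)) :=
          (EE_mem_degreeLT_iff r a _ _).mpr (by omega)
        have := finrank_map_Psi_of_mem r a Finset.univ _ hmem
        rw [finrank_degreeLT] at this
        omega
      · have hmem : EE r a Finset.univ ∉ degreeLT k (N' + 1 - (n' + 1)) := by
          rw [EE_mem_degreeLT_iff]; omega
        rw [finrank_map_Psi_of_notMem r a Finset.univ _ hmem, finrank_degreeLT]
        omega
    refine ⟨Module.finrank k ↥(WW r a (N' + 1) V₁ ⊓ degreeLT k (N' + 1)) - N', by omega, ?_⟩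
    rw [Finset.sum_range_succ', Finset.sum_congr rfl fun n' _ => hpos n', himg 0]
    have hsum : ∑ n' ∈ Finset.range d', (if n' + 1 ≤ b - 1 then N' - n' - 1 else N' - n') =
        ∑ n' ∈ Finset.range N', (if n' + 1 ≤ b - 1 then N' - n' - 1 else N' - n') := by
      refine sum_range_eq_of_zero _ fun n hn => ?_
      rcases hn with hn | hn
      · have hm0 : m = 0 := by omega
        subst hm0
        have hα0 : ∑ j : Fin 0, a j = 0 := by simp
        have : n + 1 ≤ b - 1 := by omega
        rw [if_pos this]; omega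
      · split_ifs <;> omega
    rw [hsum]
    have h1 := comb N' (b - 1)
    have h2 := choose_succ_two N'
    rw [min_eq_left (by omega)] at h1
    rw [Nat.sub_zero]
    omega

end Groth.Agent.S17244
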