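import Groth.Statements.S17245
import Mathlib
import Groth.Agent.Lib.Helper16PolarParts2
-- import your own Groth.Agent.* helpers here

set_option autoImplicit false
set_option linter.style.haveILetI false
set_option linter.unusedSectionVars false
open W4c4effdivwronsk2

namespace Groth.Agent.S17245
open Groth.Agent.Lib.PolarParts

open Polynomial in
theorem eval_Psi_pow {k : Type*} [Field k] {ι : Type*} [DecidableEq ι] (r : ι → k) (a : ι → ℕ)
    (s : Finset ι) (p q : k) (n : ℕ) :
    eval p (Psi r a s ((X - C q) ^ (n + 1))) =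
      (p - q) ^ n * (((n + 1 : ℕ) : k) * eval p (SS r s) - (p - q) * eval p (TT r a s)) := by
  have h := Psi_pow_succ r a s q n 1
  rw [mul_one] at h
  rw [h, Psi_apply]
  simp only [derivative_one, mul_zero, mul_one, zero_sub, eval_mul, eval_pow, eval_sub, eval_X,
    eval_C, eval_add, eval_neg]
  ring

open Polynomial in

open Polynomial in
/-- Let `k` be a field of characteristic zero and take, on the projective line over `k`, the point `∞`
and `m` further distinct points `r_1, …, r_m` of the affine line, with positive integers `b` (at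
`∞`) and `a_1, …, a_m`; put `N = b + ∑ a_j`. The sum of the spaces of differentials with a single
pole, of order at most `b + 1` at `∞`, resp. at most `a_j + 1` at `r_j`, `V = H⁰(ω((b+1)∞)) + ∑_j
H⁰(ω((a_j+1)r_j)) ⊆ H⁰(ω((b+1)∞ + ∑_j (a_j+1)r_j)) ≅ H⁰(O(d))`, `d = b - 1 + ∑ (a_j+1)`, becomes,
after multiplying by `dX⁻¹ ∏_j (X - r_j)^(a_j+1)`, the subspace of `k[X]_{≤ d}` spanned by
`D·k[X]_{<b}` and the `D_i·k[X]_{<a_i}`, where `D = ∏_j (X - r_j)^(a_j+1)` and `D_i` omits the
`i`-th factor; a member `h` vanishes to order `n` at a point `q` of the affine line when `(X - q)^n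
∣ h`, and to order `d - deg h` at `∞`. Let `p` be a further point of the affine line, distinct from
the `r_j`, and `V₁ = V(-p)` the members divisible by `X - p`, an `(N-1)`-dimensional system in the
line bundle twisted down by `p` (its vanishing orders at points `q ≠ p`, and at `∞`, are read off
exactly as for `V`; at `p` itself they are one less than the order of divisibility by `X - p`). Then
`dim V₁ = N - 1`, the point `p` is not a ramification point of `V₁` (no nonzero member of `V₁` is
divisible by `(X - p)^N`), and `V₁` has at most one ramification point off the marked points, a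
simple one: at every `q` other than `p` and the `r_j`, no nonzero member is divisible by `(X - q)^N`
and at most a line of members is divisible by `(X - q)^(N-2)`, and at most one such `q` has a
nonzero member divisible by `(X - q)^(N-1)`. (The published statement is over the complex numbers
with all points arbitrary; one marked point is placed at `∞` here and `p` is taken distinct from the
marked points.) -/
theorem result
    (k : Type*) [Field k] [CharZero k] (m : ℕ) (r : Fin m → k) (hr : Function.Injective r)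
    (a : Fin m → ℕ) (ha : ∀ j, 1 ≤ a j) (b : ℕ) (hb : 1 ≤ b) (N d : ℕ)
    (hN : N = (∑ j, a j) + b) (hd : d + 1 = (∑ j, (a j + 1)) + b)
    (V : Submodule k (Polynomial k))
    (hV : V = (Polynomial.degreeLT k b).map (LinearMap.mulLeft k (∏ j, (X - C (r j)) ^ (a j + 1))) ⊔
      ⨆ i, (Polynomial.degreeLT k (a i)).map
        (LinearMap.mulLeft k (∏ j ∈ Finset.univ.erase i, (X - C (r j)) ^ (a j + 1))))
    (p : k) (hp : ∀ j, p ≠ r j) (V₁ : Submodule k (Polynomial k))
    (hV₁ : V₁ = V ⊓ (Ideal.span {X - C p}).restrictScalars k) :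
    Module.finrank k ↥V₁ + 1 = N ∧
    (V₁ ⊓ (Ideal.span {(X - C p) ^ N}).restrictScalars k) = ⊥ ∧
    (∀ q : k, (∀ j, q ≠ r j) → q ≠ p →
      (V₁ ⊓ (Ideal.span {(X - C q) ^ N}).restrictScalars k) = ⊥ ∧
      Module.finrank k ↥(V₁ ⊓ (Ideal.span {(X - C q) ^ (N - 2)}).restrictScalars k) ≤ 1) ∧
    (∀ q q' : k, (∀ j, q ≠ r j) → q ≠ p → (∀ j, q' ≠ r j) → q' ≠ p →
      (V₁ ⊓ (Ideal.span {(X - C q) ^ (N - 1)}).restrictScalars k) ≠ ⊥ →
      (V₁ ⊓ (Ideal.span {(X - C q') ^ (N - 1)}).restrictScalars k) ≠ ⊥ → q = q') := by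
  have hα : ∑ j, a j ≤ N := by omega
  have hVeq : V = (degreeLT k (N + 1)).map (Psi r a Finset.univ) := by
    rw [hV, hN]; exact VV_eq r a hr b
  have hI : (Ideal.span {X - C p}).restrictScalars k = Ipow p 1 := by
    unfold Ipow; rw [pow_one]
  rw [hI] at hV₁
  have hV₁' : V₁ ≤ (degreeLT k (N + 1)).map (Psi r a Finset.univ) := by
    rw [hV₁, hVeq]; exact inf_le_left
  have hEW : EE r a Finset.univ ∈ degreeLT k (N + 1) :=
    mem_degreeLT_of_natDegree_le (by rw [EE_natDegree]; exact hα)
  have hfin : Module.finrank k ↥V₁ + 1 = N := by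
    have h1 := img_unmarked r a (s := Finset.univ) (q := p) (fun j _ => hp j)
      (degreeLT k (N + 1)) hEW 1
    rw [← hVeq, ← hV₁] at h1
    have hnot : EE r a Finset.univ ∉ degreeLT k (N + 1) ⊓ Ipow p (1 + 1) := by
      intro h
      have h2 := mem_Ipow.mp h.2
      exact not_dvd_EE r a (fun j _ => hp j) ((dvd_pow_self _ (by norm_num)).trans h2)
    rw [h1, finrank_map_Psi_of_notMem r a Finset.univ _ hnot, finrank_degreeLT_inf_Ipow]
    omega
  have hmap : (WW r a N V₁).map (Psi r a Finset.univ) = V₁ := map_WW r a hV₁'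
  have hE : EE r a Finset.univ ∈ WW r a N V₁ := EE_mem_WW r a hα V₁
  have hσ : eval p (SS r Finset.univ) ≠ 0 := eval_SS_ne_zero r (fun j _ => hp j)
  obtain ⟨N', rfl⟩ : ∃ N', N = N' + 1 := ⟨N - 1, by omega⟩
  -- membership criterion
  have crit : ∀ (q : k) (n : ℕ), q ≠ p → (X - C q) ^ (n + 1) ∈ WW r a (N' + 1) V₁ →
      ((n + 1 : ℕ) : k) * eval p (SS r Finset.univ) = (p - q) * eval p (TT r a Finset.univ) := by
    intro q n hqp hmem
    have h1 : Psi r a Finset.univ ((X - C q) ^ (n + 1)) ∈ V₁ := hmem.2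
    rw [hV₁] at h1
    have h2 := mem_Ipow.mp h1.2
    rw [pow_one, dvd_iff_isRoot, IsRoot.def, eval_Psi_pow] at h2
    have h3 : (p - q) ^ n ≠ 0 := pow_ne_zero _ (sub_ne_zero.mpr (Ne.symm hqp))
    have := (mul_eq_zero.mp h2).resolve_left h3
    linear_combination this
  have key1 : ∀ q : k, q ≠ p → ∀ n : ℕ, ¬ ((X - C q) ^ (n + 1) ∈ WW r a (N' + 1) V₁ ∧
      (X - C q) ^ (n + 1 + 1) ∈ WW r a (N' + 1) V₁) := by
    rintro q hqp n ⟨hB, hA⟩
    have h1 := crit q n hqp hB
    have h2 := crit q (n + 1) hqp hA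
    apply hσ
    push_cast at h1 h2
    linear_combination h2 - h1
  have key2 : ∀ q q' : k, q ≠ p → q' ≠ p → (X - C q) ^ (N' + 1) ∈ WW r a (N' + 1) V₁ →
      (X - C q') ^ (N' + 1) ∈ WW r a (N' + 1) V₁ → q = q' := by
    intro q q' hqp hqp' hA hA'
    have h1 := crit q N' hqp hA
    have h2 := crit q' N' hqp' hA'
    have hτ : eval p (TT r a Finset.univ) ≠ 0 := by
      intro h0
      rw [h0, mul_zero] at h1
      have h3 : ((N' + 1 : ℕ) : k) ≠ 0 := by exact_mod_cast Nat.succ_ne_zero N'
      exact hσ ((mul_eq_zero.mp h1).resolve_left h3)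
    have : (q' - q) * eval p (TT r a Finset.univ) = 0 := by linear_combination h2 - h1
    exact (sub_eq_zero.mp ((mul_eq_zero.mp this).resolve_right hτ)).symm
  haveI : FiniteDimensional k V₁ := Submodule.finiteDimensional_of_le hV₁'
  refine ⟨hfin, ?_, fun q hq hqp => ⟨?_, ?_⟩, ?_⟩
  · rw [eq_bot_iff]
    refine le_trans (inf_le_inf_right _ hV₁') ?_
    exact (unmarked_top_eq_bot r a hα hp).le
  · rw [eq_bot_iff]
    refine le_trans (inf_le_inf_right _ hV₁') ?_
    exact (unmarked_top_eq_bot r a hα hq).le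
  · change Module.finrank k ↥(V₁ ⊓ Ipow q (N' + 1 - 2)) ≤ 1
    by_cases h3 : N' + 1 ≤ 2
    · have := Submodule.finrank_mono (inf_le_left : V₁ ⊓ Ipow q (N' + 1 - 2) ≤ V₁)
      omega
    · obtain ⟨n, rfl⟩ : ∃ n, N' = n + 1 := ⟨N' - 1, by omega⟩
      have e : n + 1 + 1 - 2 = n := by omega
      rw [e]
      have h4 := img_unmarked r a (s := Finset.univ) (q := q) (fun j _ => hq j)
        (WW r a (n + 1 + 1) V₁) hE n
      rw [hmap] at h4
      rw [h4]
      refine (Submodule.finrank_map_le _ _).trans ?_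
      have hlt : WW r a (n + 1 + 1) V₁ ⊓ Ipow q (n + 1) <
          degreeLT k (n + 1 + 1 + 1) ⊓ Ipow q (n + 1) := by
        refine lt_of_le_of_ne (inf_le_inf_right _ (WW_le r a _ _)) fun h => key1 q hqp n ⟨?_, ?_⟩
        · have : (X - C q) ^ (n + 1) ∈ degreeLT k (n + 1 + 1 + 1) ⊓ Ipow q (n + 1) :=
            ⟨degreeLT_mono (by omega) (X_sub_C_pow_mem_degreeLT q (n + 1)),
              mem_Ipow.mpr dvd_rfl⟩
          rw [← h] at this; exact this.1
        · have : (X - C q) ^ (n + 1 + 1) ∈ degreeLT k (n + 1 + 1 + 1) ⊓ Ipow q (n + 1) :=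
            ⟨X_sub_C_pow_mem_degreeLT q (n + 1 + 1),
              mem_Ipow.mpr (pow_dvd_pow _ (Nat.le_succ _))⟩
          rw [← h] at this; exact this.1
      have := Submodule.finrank_lt_finrank_of_lt hlt
      rw [finrank_degreeLT_inf_Ipow] at this
      omega
  · intro q q' hq hqp hq' hqp' h1 h2
    have aux : ∀ q : k, (∀ j, q ≠ r j) → V₁ ⊓ Ipow q (N' + 1 - 1) ≠ ⊥ →
        (X - C q) ^ (N' + 1) ∈ WW r a (N' + 1) V₁ := by
      intro q hq h1
      rw [Nat.add_sub_cancel] at h1
      have h4 := img_unmarked r a (s := Finset.univ) (q := q) (fun j _ => hq j)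
        (WW r a (N' + 1) V₁) hE N'
      rw [hmap] at h4
      rw [h4] at h1
      have h5 : WW r a (N' + 1) V₁ ⊓ Ipow q (N' + 1) ≠ ⊥ := by
        intro h; apply h1; rw [h, Submodule.map_bot]
      obtain ⟨G, hG, hG0⟩ := (Submodule.ne_bot_iff _).mp h5
      obtain ⟨c, hc⟩ := eq_smul_of_mem_inf (q := q) (N := N' + 1) (G := G)
        ⟨WW_le r a _ _ hG.1, hG.2⟩
      have hc0 : c ≠ 0 := by
        rintro rfl; apply hG0; rw [hc, zero_smul]
      have : (X - C q) ^ (N' + 1) = c⁻¹ • G := by
        rw [hc, smul_smul, inv_mul_cancel₀ hc0, one_smul]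
      rw [this]
      exact Submodule.smul_mem _ _ hG.1
    exact key2 q q' hqp hqp' (aux q hq h1) (aux q' hq' h2)

end Groth.Agent.S17245
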