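import Groth.Statements.S17246
import Mathlib
import Groth.Agent.Lib.Helper16PolarParts3
-- import your own Groth.Agent.* helpers here

set_option autoImplicit false
set_option linter.style.haveILetI false
set_option linter.unusedSectionVars false
open W4c4effdivwronsk2

namespace Groth.Agent.S17246
open Groth.Agent.Lib.PolarParts

open Polynomial in
theorem eval_Psi_pow {k : Type*} [Field k] {ι : Type*} [DecidableEq ι] (r : ι → k) (a : ι → ℕ)
    (s : Finset ι) (p q : k) (n : ℕ) :
    eval p (Psi r a s ((X - C q) ^ (n + 1))) =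
      (p - q) ^ n * (((n + 1 : ℕ) : k) * eval p (SS r s) - (p - q) * eval p (TT r a s)) := by
  have h := Psi_pow_succ r a s q n 1
  rw [mul_one] at h
  rw [h, Psi_apply]
  simp only [derivative_one, mul_zero, mul_one, zero_sub, eval_mul, eval_pow, eval_sub, eval_X,
    eval_C, eval_add, eval_neg]
  ring

open Polynomial in

open Polynomial in
/-- Let `k` be a field of characteristic zero and take, on the projective line over `k`, the point `∞`
and `m` further distinct points `r_1, …, r_m` of the affine line, with positive integers `b` (at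
`∞`) and `a_1, …, a_m`; put `N = b + ∑ a_j`. The sum of the spaces of differentials with a single
pole, of order at most `b + 1` at `∞`, resp. at most `a_j + 1` at `r_j`, `V = H⁰(ω((b+1)∞)) + ∑_j
H⁰(ω((a_j+1)r_j)) ⊆ H⁰(ω((b+1)∞ + ∑_j (a_j+1)r_j)) ≅ H⁰(O(d))`, `d = b - 1 + ∑ (a_j+1)`, becomes,
after multiplying by `dX⁻¹ ∏_j (X - r_j)^(a_j+1)`, the subspace of `k[X]_{≤ d}` spanned by
`D·k[X]_{<b}` and the `D_i·k[X]_{<a_i}`, where `D = ∏_j (X - r_j)^(a_j+1)` and `D_i` omits the
`i`-th factor; a member `h` vanishes to order `n` at a point `q` of the affine line when `(X - q)^n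
∣ h`, and to order `d - deg h` at `∞`. Let `p` be a further point of the affine line, distinct from
the `r_j`, and `V₁ = V(-p)` the members divisible by `X - p` (an `(N-1)`-dimensional system in the
line bundle twisted down by `p`, with vanishing orders at the marked points read off as for `V`).
With the weight of `V₁` at a marked point defined as `∑_{n=1}^{d} dim V₁(-n·point) - (N-1 choose
2)`: the weight at `r_i` is `∑_{j≠i} a_j + b - 1 + ε_i` and the weight at `∞` is `∑_j a_j - 1 + ε`,
with all `ε` in `{0, 1}`. (The published statement is over the complex numbers with all points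
arbitrary; one marked point is placed at `∞` here and `p` is taken distinct from the marked points.) -/
theorem result
    (k : Type*) [Field k] [CharZero k] (m : ℕ) (r : Fin m → k) (hr : Function.Injective r)
    (a : Fin m → ℕ) (ha : ∀ j, 1 ≤ a j) (b : ℕ) (hb : 1 ≤ b) (N d : ℕ)
    (hN : N = (∑ j, a j) + b) (hd : d + 1 = (∑ j, (a j + 1)) + b)
    (V : Submodule k (Polynomial k))
    (hV : V = (Polynomial.degreeLT k b).map (LinearMap.mulLeft k (∏ j, (X - C (r j)) ^ (a j + 1))) ⊔
      ⨆ i, (Polynomial.degreeLT k (a i)).map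
        (LinearMap.mulLeft k (∏ j ∈ Finset.univ.erase i, (X - C (r j)) ^ (a j + 1))))
    (p : k) (hp : ∀ j, p ≠ r j) (V₁ : Submodule k (Polynomial k))
    (hV₁ : V₁ = V ⊓ (Ideal.span {X - C p}).restrictScalars k) :
    (∀ i : Fin m, ∃ ε : ℕ, ε ≤ 1 ∧
      (∑ n ∈ Finset.range d, Module.finrank k ↥(V₁ ⊓ (Ideal.span {(X - C (r i)) ^ (n + 1)}).restrictScalars k)) + 1 =
        (N - 1).choose 2 + (N - a i) + ε) ∧
    (∃ ε : ℕ, ε ≤ 1 ∧
      (∑ n ∈ Finset.range d, Module.finrank k ↥(V₁ ⊓ Polynomial.degreeLT k (d - n))) + 1 =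
        (N - 1).choose 2 + (N - b) + ε) := by
  have hα : ∑ j, a j ≤ N := by omega
  have hVeq : V = (degreeLT k (N + 1)).map (Psi r a Finset.univ) := by
    rw [hV, hN]; exact VV_eq r a hr b
  have hI : (Ideal.span {X - C p}).restrictScalars k = Ipow p 1 := by
    unfold Ipow; rw [pow_one]
  rw [hI] at hV₁
  have hV₁' : V₁ ≤ (degreeLT k (N + 1)).map (Psi r a Finset.univ) := by
    rw [hV₁, hVeq]; exact inf_le_left
  have hEW : EE r a Finset.univ ∈ degreeLT k (N + 1) :=
    mem_degreeLT_of_natDegree_le (by rw [EE_natDegree]; exact hα)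
  have hfin : Module.finrank k ↥V₁ + 1 = N := by
    have h1 := img_unmarked r a (s := Finset.univ) (q := p) (fun j _ => hp j)
      (degreeLT k (N + 1)) hEW 1
    rw [← hVeq, ← hV₁] at h1
    have hnot : EE r a Finset.univ ∉ degreeLT k (N + 1) ⊓ Ipow p (1 + 1) := by
      intro h
      have h2 := mem_Ipow.mp h.2
      exact not_dvd_EE r a (fun j _ => hp j) ((dvd_pow_self _ (by norm_num)).trans h2)
    rw [h1, finrank_map_Psi_of_notMem r a Finset.univ _ hnot, finrank_degreeLT_inf_Ipow]
    omega
  have hmap : (WW r a N V₁).map (Psi r a Finset.univ) = V₁ := map_WW r a hV₁'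
  have hE : EE r a Finset.univ ∈ WW r a N V₁ := EE_mem_WW r a hα V₁
  have hfr : Module.finrank k (WW r a N V₁) = N := by rw [finrank_WW r a hα hV₁']; omega
  have hσ : eval p (SS r Finset.univ) ≠ 0 := eval_SS_ne_zero r (fun j _ => hp j)
  have hmα : m ≤ ∑ j, a j := by
    have h1 : ∑ _j : Fin m, 1 ≤ ∑ j, a j := Finset.sum_le_sum fun j _ => ha j
    simpa using h1
  have hd' : d + 1 = N + m := by
    rw [hd, hN, Finset.sum_add_distrib, Finset.sum_const, Finset.card_univ, Fintype.card_fin,
      smul_eq_mul, mul_one]; omega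
  have hcard : (Finset.univ : Finset (Fin m)).card = m := by
    rw [Finset.card_univ, Fintype.card_fin]
  have hα0 : m = 0 → ∑ j, a j = 0 := by
    intro h; subst h; simp
  obtain ⟨N', rfl⟩ : ∃ N', N = N' + 1 := ⟨N - 1, by omega⟩
  -- membership criterion
  have crit : ∀ (q : k) (n : ℕ), q ≠ p → (X - C q) ^ (n + 1) ∈ WW r a (N' + 1) V₁ →
      ((n + 1 : ℕ) : k) * eval p (SS r Finset.univ) = (p - q) * eval p (TT r a Finset.univ) := by
    intro q n hqp hmem
    have h1 : Psi r a Finset.univ ((X - C q) ^ (n + 1)) ∈ V₁ := hmem.2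
    rw [hV₁] at h1
    have h2 := mem_Ipow.mp h1.2
    rw [pow_one, dvd_iff_isRoot, IsRoot.def, eval_Psi_pow] at h2
    have h3 : (p - q) ^ n ≠ 0 := pow_ne_zero _ (sub_ne_zero.mpr (Ne.symm hqp))
    have := (mul_eq_zero.mp h2).resolve_left h3
    linear_combination this
  have key1 : ∀ q : k, q ≠ p → ∀ n : ℕ, ¬ ((X - C q) ^ (n + 1) ∈ WW r a (N' + 1) V₁ ∧
      (X - C q) ^ (n + 1 + 1) ∈ WW r a (N' + 1) V₁) := by
    rintro q hqp n ⟨hB, hA⟩
    have h1 := crit q n hqp hB
    have h2 := crit q (n + 1) hqp hA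
    apply hσ
    push_cast at h1 h2
    linear_combination h2 - h1
  have hXp : (X - C p) ∉ WW r a (N' + 1) V₁ := by
    intro hmem
    have h1 : Psi r a Finset.univ (X - C p) ∈ V₁ := hmem.2
    rw [hV₁] at h1
    have h2 := mem_Ipow.mp h1.2
    have h3 := eval_Psi_pow r a Finset.univ p p 0
    rw [zero_add, pow_one] at h3
    rw [pow_one, dvd_iff_isRoot, IsRoot.def, h3] at h2
    simp at h2
    exact hσ h2
  refine ⟨fun i => ?_, ?_⟩
  · have hai : a i ≤ N' := by
      have := Finset.single_le_sum (f := a) (fun j _ => Nat.zero_le _) (Finset.mem_univ i)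
      omega
    have hm1 : 1 ≤ m := i.pos
    obtain ⟨n, rfl⟩ : ∃ n, N' = n + 1 := ⟨N' - 1, by omega⟩
    have h := partA r a hr i (N' := n + 1) (d := d) hα hai (by omega) (WW r a (n + 1 + 1) V₁)
      (WW_le r a _ _) hE hfr (key1 (r i) (Ne.symm (hp i)) n)
    rw [hmap] at h
    rw [Nat.add_sub_cancel]
    exact h
  · rw [Nat.add_sub_cancel]
    have himg : ∀ n, V₁ ⊓ degreeLT k (d - n) =
        (WW r a (N' + 1) V₁ ⊓ degreeLT k (N' + 1 - n)).map (Psi r a Finset.univ) := by
      intro n
      have h := img_inf' r a Finset.univ (N' + 1) (WW r a (N' + 1) V₁) (WW_le r a _ _) hE (n + 1)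
      rw [hmap, hcard] at h
      have e1 : N' + 1 + m - (n + 1) = d - n := by omega
      have e2 : N' + 1 + 1 - (n + 1) = N' + 1 - n := by omega
      rw [e1, e2] at h
      exact h
    -- terms n < N'
    have hlow : ∀ n, n < N' → Module.finrank k ↥(V₁ ⊓ degreeLT k (d - n)) =
        if n + 1 ≤ b then N' - n - 1 else N' - n := by
      intro n hn
      rw [himg n]
      have hnot : ¬ degreeLT k (N' + 1 - n) ≤ WW r a (N' + 1) V₁ := by
        intro h
        apply hXp
        apply h
        rw [mem_degreeLT, degree_X_sub_C]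
        exact_mod_cast (by omega : 1 < N' + 1 - n)
      have h1 := hyp_inf (WW_le r a (N' + 1) V₁) (by rw [hfr, finrank_degreeLT])
        (degreeLT_mono (by omega) : degreeLT k (N' + 1 - n) ≤ degreeLT k (N' + 1 + 1)) hnot
      rw [finrank_degreeLT] at h1
      haveI : FiniteDimensional k ↥(WW r a (N' + 1) V₁ ⊓ degreeLT k (N' + 1 - n)) :=
        Submodule.finiteDimensional_inf_left _ _
      split_ifs with hn'
      · have hmem : EE r a Finset.univ ∈ WW r a (N' + 1) V₁ ⊓ degreeLT k (N' + 1 - n) :=
          ⟨hE, (EE_mem_degreeLT_iff r a _ _).mpr (by omega)⟩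
        have := finrank_map_Psi_of_mem r a Finset.univ _ hmem
        omega
      · have hmem : EE r a Finset.univ ∉ WW r a (N' + 1) V₁ ⊓ degreeLT k (N' + 1 - n) := by
          intro h
          have := (EE_mem_degreeLT_iff r a _ _).mp h.2
          omega
        rw [finrank_map_Psi_of_notMem r a Finset.univ _ hmem]
        omega
    -- term n = N'
    have hmid : Module.finrank k ↥(V₁ ⊓ degreeLT k (d - N')) ≤ 1 := by
      rw [himg N']
      refine (Submodule.finrank_map_le _ _).trans ?_
      have := Submodule.finrank_mono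
        (inf_le_right : WW r a (N' + 1) V₁ ⊓ degreeLT k (N' + 1 - N') ≤ degreeLT k (N' + 1 - N'))
      rw [finrank_degreeLT] at this
      omega
    -- terms n > N'
    have hhigh : ∀ n, N' + 1 ≤ n → Module.finrank k ↥(V₁ ⊓ degreeLT k (d - n)) = 0 := by
      intro n hn
      rw [himg n]
      have e : N' + 1 - n = 0 := by omega
      have h0 : degreeLT k 0 = (⊥ : Submodule k k[X]) := by
        rw [eq_bot_iff]
        intro G hG
        rw [mem_degreeLT_iff_coeff] at hG
        rw [Submodule.mem_bot]
        ext j; simpa using hG j (Nat.zero_le _)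
      rw [e, h0, inf_bot_eq, Submodule.map_bot, finrank_bot]
    have h1 := comb N' b
    have h2 := choose_succ_two N'
    by_cases hm : m = 0
    · have hb' : b = N' + 1 := by have := hα0 hm; omega
      have hdN : d = N' := by omega
      refine ⟨1, le_rfl, ?_⟩
      subst hdN
      rw [Finset.sum_congr rfl fun n hn => hlow n (Finset.mem_range.mp hn)]
      rw [min_eq_right (by omega)] at h1
      omega
    · refine ⟨Module.finrank k ↥(V₁ ⊓ degreeLT k (d - N')), hmid, ?_⟩
      have hsum : ∑ n ∈ Finset.range d, Module.finrank k ↥(V₁ ⊓ degreeLT k (d - n)) =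
          ∑ n ∈ Finset.range (N' + 1), Module.finrank k ↥(V₁ ⊓ degreeLT k (d - n)) := by
        refine sum_range_eq_of_zero _ fun n hn => ?_
        rcases hn with hn | hn
        · omega
        · exact hhigh n hn.1
      rw [hsum, Finset.sum_range_succ,
        Finset.sum_congr rfl fun n hn => hlow n (Finset.mem_range.mp hn)]
      rw [min_eq_left (by omega)] at h1
      omega

end Groth.Agent.S17246
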