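import Groth.Statements.S17247
import Mathlib
import Groth.Agent.Lib.Helper27Ell3

set_option autoImplicit false
open FunFld

namespace Groth.Agent.S17247

/-- Let `K/k` be a function field of one variable of genus one over an algebraically closed field `k` of
characteristic zero (an elliptic curve `E`), `A` a place, and `g ≥ 3` an odd integer. Inside
`H⁰(O_E((2g-2)A)) = L((2g-2)A)` consider `V = L(gA)` (dimension `g`) and any hyperplane `V₁` of it
containing `L((g-2)A)`: `L((g-2)A) ⊆ V₁ ⊆ L(gA)`, `dim V₁ = g - 1`. Vanishing orders are those of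
sections of `O_E((2g-2)A)`: a member `f` vanishes to order at least `n` at a place `Q` when `f ∈
L((2g-2)A - nQ)`, and the weight of `V₁` at `Q` is `∑_{n=1}^{2g-2} dim (V₁ ∩ L((2g-2)A - nQ)) - (g-1
choose 2)` (the sum of the `g - 1` vanishing orders minus `0 + 1 + ⋯ + (g-2)`). Then the weight of
`V₁` at every place `Q ≠ A` is at most `2`. (The published statement is for a smooth elliptic curve
over the complex numbers and allows every odd positive `g`; for `g = 1` the inclusion `O(gA) ⊆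
O((2g-2)A)` it uses fails, so `g ≥ 3` here.) -/
theorem result
    (k K : Type*) [Field k] [IsAlgClosed k] [CharZero k] [Field K] [Algebra k K]
    (hK : FunFld.IsFunctionField k K) (hg1 : FunFld.genus k K = 1)
    (g : ℕ) (hodd : Odd g) (h3 : 3 ≤ g) (A : FunFld.Place k K)
    (V₁ : Submodule k K) (hlo : FunFld.L (Finsupp.single A ((g : ℤ) - 2)) ≤ V₁)
    (hhi : V₁ ≤ FunFld.L (Finsupp.single A (g : ℤ))) (hdim : Module.finrank k ↥V₁ + 1 = g)
    (Q : FunFld.Place k K) (hQ : Q ≠ A) :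
    (∑ n ∈ Finset.range (2 * g - 2), Module.finrank k
        ↥(V₁ ⊓ FunFld.L (Finsupp.single A (2 * (g : ℤ) - 2) - Finsupp.single Q ((n : ℤ) + 1)))) ≤
      (g - 1).choose 2 + 2 := by
  obtain ⟨h, rfl⟩ : ∃ h, g = h + 3 := ⟨g - 3, by omega⟩
  have c1 : (((h + 3 : ℕ) : ℤ) - 2) = (h : ℤ) + 1 := by push_cast; ring
  have c2 : (((h + 3 : ℕ) : ℤ)) = (h : ℤ) + 3 := by push_cast; ring
  rw [c1] at hlo
  rw [c2] at hhi
  have hdim' : Module.finrank k ↥V₁ = h + 2 := by omega
  have hmain := Groth.Agent.Lib.Helper27Ell.weight_at_Q hK hg1 h A V₁ hlo hhi hdim' Q hQ hodd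
  have e1 : 2 * (h + 3) - 2 = h + (3 + (h + 1)) := by omega
  have e2 : h + 3 - 1 = h + 2 := by omega
  rw [e1, e2]
  refine le_trans (le_of_eq ?_) hmain
  refine Finset.sum_congr rfl fun n _ => ?_
  unfold Groth.Agent.Lib.Helper27Ell.E
  have e3 : V₁ ⊓ FunFld.L (Finsupp.single A (2 * ((h + 3 : ℕ) : ℤ) - 2) - Finsupp.single Q ((n : ℤ) + 1)) =
      V₁ ⊓ FunFld.L (Finsupp.single A ((h : ℤ) + 3) - Finsupp.single Q ((n : ℤ) + 1)) := by
    conv_lhs => rw [← inf_eq_left.mpr hhi, inf_assoc, Groth.Agent.Lib.Helper27Ell.L_inf,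
      Groth.Agent.Lib.Helper27Ell.single_inf_sub hQ.symm _ _ _ (by omega : (0 : ℤ) ≤ (n : ℤ) + 1)]
    have e4 : min ((h : ℤ) + 3) (2 * ((h + 3 : ℕ) : ℤ) - 2) = (h : ℤ) + 3 := by
      push_cast; omega
    rw [e4]
  rw [e3]

end Groth.Agent.S17247
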