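import Groth.Statements.S17248
import Mathlib
import Groth.Agent.Lib.Helper27Ell2

set_option autoImplicit false
open FunFld

namespace Groth.Agent.S17248

/-- Let `K/k` be a function field of one variable of genus one over an algebraically closed field `k` of
characteristic zero (an elliptic curve `E`), `A` a place, and `g ≥ 3` an integer. Inside
`H⁰(O_E((2g-2)A)) = L((2g-2)A)` consider `V = L(gA)` (dimension `g`) and any hyperplane `V₁` of it
containing `L((g-2)A)`: `L((g-2)A) ⊆ V₁ ⊆ L(gA)`, `dim V₁ = g - 1`. Vanishing orders are those of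
sections of `O_E((2g-2)A)`: a member `f` vanishes to order at least `n` at a place `Q` when `f ∈
L((2g-2)A - nQ)`, and the weight of `V₁` at `Q` is `∑_{n=1}^{2g-2} dim (V₁ ∩ L((2g-2)A - nQ)) - (g-1
choose 2)` (the sum of the `g - 1` vanishing orders minus `0 + 1 + ⋯ + (g-2)`). Then the weight of
`V₁` at `A` is `(g-1)² + ε` with `ε ∈ {0, 1}`. (The published statement is for a smooth elliptic
curve over the complex numbers and `g` odd positive; `g ≥ 3` here since the ambient inclusion needs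
it; this row does not assume `g` odd.) -/
theorem result
    (k K : Type*) [Field k] [IsAlgClosed k] [CharZero k] [Field K] [Algebra k K]
    (hK : FunFld.IsFunctionField k K) (hg1 : FunFld.genus k K = 1)
    (g : ℕ) (h3 : 3 ≤ g) (A : FunFld.Place k K)
    (V₁ : Submodule k K) (hlo : FunFld.L (Finsupp.single A ((g : ℤ) - 2)) ≤ V₁)
    (hhi : V₁ ≤ FunFld.L (Finsupp.single A (g : ℤ))) (hdim : Module.finrank k ↥V₁ + 1 = g) :
    ∃ ε : ℕ, ε ≤ 1 ∧
      (∑ n ∈ Finset.range (2 * g - 2), Module.finrank k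
        ↥(V₁ ⊓ FunFld.L (Finsupp.single A (2 * (g : ℤ) - 2) - Finsupp.single A ((n : ℤ) + 1)))) =
      (g - 1).choose 2 + (g - 1) ^ 2 + ε := by
  obtain ⟨h, rfl⟩ : ∃ h, g = h + 3 := ⟨g - 3, by omega⟩
  have c1 : (((h + 3 : ℕ) : ℤ) - 2) = (h : ℤ) + 1 := by push_cast; ring
  have c2 : (((h + 3 : ℕ) : ℤ)) = (h : ℤ) + 3 := by push_cast; ring
  rw [c1] at hlo
  rw [c2] at hhi
  have hdim' : Module.finrank k ↥V₁ = h + 2 := by omega
  obtain ⟨ε, hε, hsum⟩ := Groth.Agent.Lib.Helper27Ell.weight_at_A hK hg1 h A V₁ hlo hhi hdim'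
  refine ⟨ε, hε, ?_⟩
  have e1 : 2 * (h + 3) - 2 = (h + 2) + (h + 2) := by omega
  have e2 : h + 3 - 1 = h + 2 := by omega
  rw [e1, e2, ← hsum]
  refine Finset.sum_congr rfl fun n _ => ?_
  unfold Groth.Agent.Lib.Helper27Ell.G
  have e3 : (Finsupp.single A (2 * ((h + 3 : ℕ) : ℤ) - 2) - Finsupp.single A ((n : ℤ) + 1) :
      FunFld.Divisor k K) = Finsupp.single A (2 * (h : ℤ) + 3 - (n : ℤ)) := by
    rw [← Finsupp.single_sub]
    congr 1
    push_cast
    ring
  rw [e3]

end Groth.Agent.S17248
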