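import Groth.Statements.S17252
import Groth.Agent.S7789
import Groth.Agent.Lib.Helper3Isog
import Mathlib

set_option autoImplicit false
set_option linter.style.haveILetI false
universe u
open CategoryTheory CategoryTheory.Limits MonoidalCategory CartesianMonoidalCategory MonObj GrpObj AlgebraicGeometry
open AbSch

namespace Groth.Agent.S17252

/-- an open and closed map of `S`-schemes `A → A` fixing the unit section is surjective when the
fibres of `A` are connected. -/
theorem surjective_of_clopen {S : Scheme.{u}} (A : Over S) [GrpObj A]
    [GeometricallyConnected A.hom] (f : A ⟶ A) (hf : η[A] ≫ f = η[A])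
    (ho : IsOpenMap f.left) (hc : IsClosedMap f.left) : Surjective f.left := by
  refine ⟨fun a => ?_⟩
  let Z : Set A.left := Set.range f.left
  have hZo : IsOpen Z := ho.isOpen_range
  have hZc : IsClosed Z := hc.isClosed_range
  let s : S := A.hom a
  have hconn : _root_.IsConnected (A.hom ⁻¹' {s}) := A.hom.isConnected_preimage_singleton s
  let e : A.left := η[A].left s
  have he1 : A.hom e = s := by
    show A.hom (η[A].left s) = s
    rw [← Scheme.Hom.comp_apply, Over.w η[A]]
    rfl
  have he2 : e ∈ Z := by
    refine ⟨e, ?_⟩
    show f.left (η[A].left s) = η[A].left s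
    rw [← Scheme.Hom.comp_apply, ← Over.comp_left, hf]
  have hsub : A.hom ⁻¹' {s} ⊆ Z :=
    hconn.isPreconnected.subset_isClopen ⟨hZc, hZo⟩ ⟨e, he1, he2⟩
  exact hsub (show a ∈ A.hom ⁻¹' {s} from rfl)

/-- Let S be a scheme, A an abelian scheme over S (an S-group scheme whose structure morphism is smooth
and proper with geometrically connected fibres) and m an integer whose image in Γ(S, O_S) is a unit.
Then multiplication by m, the m-th power [m] of the identity in the group of S-endomorphisms of A,
is surjective locally for the étale topology: for every S-scheme T and every α ∈ A(T) there are an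
étale surjective S-morphism φ : T′ → T and β ∈ A(T′) with [m] ∘ β = α ∘ φ. With A[m] the kernel of
[m], this is the exactness on the right of the Kummer sequence 0 → A[m] → A → A → 0 of étale
sheaves; in particular it holds for every étale S-scheme T, the case expressing exactness on the
small étale site of S, and it is stated here for all S-schemes T. -/
theorem result {S : Scheme.{u}} (A : Over S) [GrpObj A]
    [Smooth A.hom] [IsProper A.hom] [GeometricallyConnected A.hom]
    (m : ℤ) (hm : IsUnit (m : Γ(S, ⊤))) (T : Over S) (α : T ⟶ A) :
    ∃ (T' : Over S) (φ : T' ⟶ T) (β : T' ⟶ A),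
      Etale φ.left ∧ Surjective φ.left ∧ β ≫ (𝟙 A ^ m) = φ ≫ α := by
  haveI : GeometricallyReduced A.hom :=
    Groth.Agent.Lib.Helper3.Isog.geometricallyReduced_of_smooth A.hom
  obtain ⟨hfin, het⟩ := Groth.Agent.S7789.result A m hm
  let f : A ⟶ A := 𝟙 A ^ m
  haveI : Etale f.left := het
  haveI : IsFinite f.left := hfin
  have hf : η[A] ≫ f = η[A] := by
    show η[A] ≫ (𝟙 A ^ m) = η[A]
    rw [GrpObj.comp_zpow, Category.comp_id]
    have h1 : (η[A] : 𝟙_ (Over S) ⟶ A) = 1 := by
      rw [Hom.one_def]
      simp
    rw [h1, one_zpow]
  haveI : Surjective f.left :=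
    surjective_of_clopen A f hf f.left.isOpenMap f.left.isClosedMap
  let T' : Over S := Over.mk (pullback.fst α.left f.left ≫ T.hom)
  let φ : T' ⟶ T := Over.homMk (pullback.fst α.left f.left) rfl
  let β : T' ⟶ A := Over.homMk (pullback.snd α.left f.left) (by
    show pullback.snd α.left f.left ≫ A.hom = pullback.fst α.left f.left ≫ T.hom
    rw [← Over.w f, ← Category.assoc, ← pullback.condition, Category.assoc, Over.w α])
  refine ⟨T', φ, β, ?_, ?_, ?_⟩
  · show Etale (pullback.fst α.left f.left)
    infer_instance
  · show Surjective (pullback.fst α.left f.left)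
    infer_instance
  · ext
    show pullback.snd α.left f.left ≫ f.left = pullback.fst α.left f.left ≫ α.left
    exact pullback.condition.symm

end Groth.Agent.S17252
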