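import Groth.Statements.S17255
import Groth.Agent.Lib.Helper3AbHom
import Groth.Agent.Lib.Helper12Reduced
import Groth.Agent.S0348
import Mathlib

set_option autoImplicit false
universe u
open CategoryTheory CategoryTheory.Limits MonoidalCategory CartesianMonoidalCategory MonObj GrpObj AlgebraicGeometry
open AbVar

namespace Groth.Agent.S17255

set_option linter.style.haveILetI false

/-- a nonempty fibre of a locally quasi-finite morphism has dimension zero. -/
theorem dim_fiber_eq_zero_of_locallyQuasiFinite {X S : Scheme.{u}} (f : X ⟶ S)
    [LocallyOfFiniteType f] [LocallyQuasiFinite f] (x : X) :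
    topologicalKrullDim ↥(f.fiber (f x)) = 0 := by
  apply le_antisymm
  · rw [Groth.Agent.Lib.Helper4.FibDim.topologicalKrullDim_fiber_le_iff]
    intro x' _
    exact (Groth.Agent.Lib.Helper3.GrpHomQF.locallyQuasiFinite_iff_forall_fibreDimAt_le_zero f).mp
      inferInstance x'
  · haveI : Nonempty ↥(f.fiber (f x)) := ⟨f.asFiber x⟩
    exact Groth.Agent.Lib.Helper7.TopDim.topologicalKrullDim_nonneg

/-- Let k be a field, A and B abelian varieties over k (smooth proper k-group schemes with geometrically
connected fibres) with dim A = dim B (Krull dimensions of the underlying spaces), and f : A → B a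
homomorphism. Then flatness of f is equivalent to finiteness of f. -/
theorem result (k : Type u) [Field k]
    (A B : Over (Spec (CommRingCat.of k)))
    [GrpObj A] [Smooth A.hom] [IsProper A.hom] [GeometricallyConnected A.hom]
    [GrpObj B] [Smooth B.hom] [IsProper B.hom] [GeometricallyConnected B.hom]
    (f : A ⟶ B) [IsMonHom f] (hdim : topologicalKrullDim A.left = topologicalKrullDim B.left) :
    Flat f.left ↔ IsFinite f.left := by
  haveI : Subsingleton ↥(Spec (CommRingCat.of k)) :=
    Groth.Agent.Lib.Helper3.CompDim.subsingleton_Spec_of_isField (Field.toIsField k)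
  haveI : ConnectedSpace A.left := GeometricallyConnected.connectedSpace_of_subsingleton A.hom
  haveI : ConnectedSpace B.left := GeometricallyConnected.connectedSpace_of_subsingleton B.hom
  haveI : IrreducibleSpace A.left := Groth.Agent.S0348.result k A
  haveI : IrreducibleSpace B.left := Groth.Agent.S0348.result k B
  haveI : IsReduced B.left := Groth.Agent.Lib.Helper12.Reduced.isReduced_of_smooth B.hom
  haveI : IsProper (f.left ≫ B.hom) := by rw [Over.w f]; infer_instance
  haveI : IsProper f.left := IsProper.of_comp f.left B.hom
  haveI : IsLocallyNoetherian B.left := LocallyOfFiniteType.isLocallyNoetherian B.hom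
  haveI : LocallyOfFinitePresentation f.left :=
    LocallyOfFinitePresentation.iff_locallyOfFiniteType.mpr inferInstance
  constructor
  · intro hflat
    haveI : Surjective f.left := by
      refine ⟨fun b => ?_⟩
      have hopen : IsOpen (Set.range f.left.base) := f.left.isOpenMap.isOpen_range
      have hclosed : IsClosed (Set.range f.left.base) := f.left.isClosedMap.isClosed_range
      have hne : (Set.range f.left.base).Nonempty := ⟨_, genericPoint A.left, rfl⟩
      have := IsClopen.eq_univ ⟨hclosed, hopen⟩ hne
      rw [Set.eq_univ_iff_forall] at this
      exact this b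
    haveI : LocallyQuasiFinite f.left :=
      Groth.Agent.Lib.Helper3.AbHom.locallyQuasiFinite_of_isDominant k A B f hdim
    exact IsFinite.of_isProper_of_locallyQuasiFinite f.left
  · intro hfin
    haveI : LocallyQuasiFinite f.left := inferInstance
    have hy := dim_fiber_eq_zero_of_locallyQuasiFinite f.left (genericPoint A.left)
    haveI : Surjective f.left :=
      (Groth.Agent.S7798.result k A.hom B.hom hdim.ge f.left (Over.w f) _ hy).1
    exact Groth.Agent.Lib.Helper3.AbHom.flat_of_isDominant k A B f

end Groth.Agent.S17255
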