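import Groth.Statements.S17265
import Mathlib
import Groth.Agent.Lib.Helper15DiagBase

set_option autoImplicit false
open CategoryTheory AlgebraicGeometry
universe u
open AlgSt

namespace Groth.Agent.S17265

/-- Let S be a scheme and let f : 𝒳 → 𝒴 and g : 𝒴 → 𝒵 be functors over (Sch/S) between categories fibred
in groupoids over (Sch/S). If the composite g ∘ f is representable by algebraic spaces and the
diagonal 𝒴 → 𝒴 ×_𝒵 𝒴 of g is representable by algebraic spaces, then f is representable by algebraic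
spaces. This is the case of the source's lemma in which the class of test objects is the class of
algebraic spaces over S (fppf sheaves on (Sch/S) with representable diagonal and an etale surjective
map from a scheme). -/
theorem result {S : Scheme.{u}} {𝒳 𝒴 𝒵 : AlgSt.Cat S}
    (h𝒳 : FibCat.IsFibGrpd 𝒳.p) (h𝒴 : FibCat.IsFibGrpd 𝒴.p) (h𝒵 : FibCat.IsFibGrpd 𝒵.p)
    (f : 𝒳 ⥤ᵇ 𝒴) (g : 𝒴 ⥤ᵇ 𝒵)
    (hgf : AlgSt.RepByAlgSp1 (BasedFunctor.comp f g))
    (hΔ : AlgSt.RepByAlgSp1 (FibCat.diag g)) :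
    AlgSt.RepByAlgSp1 f := by
  have top_iff : ∀ {𝒜 ℬ : AlgSt.Cat S} (h : 𝒜 ⥤ᵇ ℬ),
      AlgSt.RepByAlgSp1 h ↔ AlgSt.RepByAlgSpWith (⊤ : MorphismProperty (AlgSp.Sp S)) h := by
    intro 𝒜 ℬ h
    constructor
    · intro hh U y
      obtain ⟨F, e, he⟩ := hh U y
      exact ⟨F, e, he, trivial⟩
    · intro hh U y
      obtain ⟨F, e, he, -⟩ := hh U y
      exact ⟨F, e, he⟩
  have hQ : Groth.Agent.Lib.Helper15RepComp.CompCond (⊤ : MorphismProperty (AlgSp.Sp S)) :=
    fun _ _ _ _ _ _ _ _ _ => trivial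
  rw [top_iff] at hgf hΔ ⊢
  exact Groth.Agent.Lib.Helper15DiagBase.repByAlgSpWith_of_triangle h𝒳 h𝒴 h𝒵 _ hQ f
    (BasedFunctor.comp f g) g (Iso.refl _) hgf hΔ

end Groth.Agent.S17265
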