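import Groth.Statements.S17276
import Groth.Agent.Lib.Helper4NefDeg

set_option autoImplicit false
universe u
open CategoryTheory CategoryTheory.Limits AlgebraicGeometry TopologicalSpace
open Variety

namespace Groth.Agent.S17276

/-- Let X be a proper scheme over a field k of dimension one (possibly reducible or non-reduced) and L
an invertible O_X-module that is nef, meaning χ(O_C ⊗ L) - χ(O_C) ≥ 0 for every integral closed
subscheme C ⊆ X of dimension one. Then the degree of L on X, namely χ(L) - χ(O_X), is nonnegative. -/
theorem result (k : Type u) [Field k] (X : Scheme.{u})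
    [X.Over (Spec (CommRingCat.of k))] [IsProper (X ↘ (Spec (CommRingCat.of k)))]
    (hdim : topologicalKrullDim X = 1) (L : X.Modules) (hL : PicF.IsInvertible L)
    (hnef : ∀ C : X.IdealSheafData, IsIntegral C.subscheme →
      topologicalKrullDim (C.support : Set X) = 1 →
        0 ≤ Curv2.euler k X (CohB1.tensorMod (ClSub.quotMod C) L) - Curv2.euler k X (ClSub.quotMod C)) :
    0 ≤ Curv2.deg k X L 1 := by
  have hL1 := Groth.Agent.Lib.Helper23.SecTw.isFinLocFreeOfRank_one_of_isInvertible L hL
  refine Groth.Agent.Lib.Helper4.NefDeg.deg_nonneg_of_forall k X hdim.le 1 L hL1 (fun x hx => ?_)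
  have hs : ((IntMult.ptIdeal x).support : Set X) = closure {x} := by
    rw [← Scheme.IdealSheafData.range_subschemeι]
    exact Groth.Agent.Lib.Helper4.KFilt.ptIdeal_range x
  have hd : topologicalKrullDim ((IntMult.ptIdeal x).support : Set X) = 1 := by
    rw [hs]
    exact hx
  have h := hnef (IntMult.ptIdeal x) inferInstance hd
  have h' : 0 ≤ Curv2.euler k X (CohB1.tensorMod (Cyc.closureStructureSheaf x) L) -
      Curv2.euler k X (Cyc.closureStructureSheaf x) := h
  rw [Nat.cast_one, one_mul]
  exact h'

end Groth.Agent.S17276
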