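import Groth.Statements.S1728
import Groth.Agent.Lib.Helper3InjHull
import Mathlib

set_option autoImplicit false
universe u
open InjHull

namespace Groth.Agent.S1728

open Groth.Agent.Lib.Helper3.InjHull

section Helpers

variable {R : Type u} [CommRing R] {I : Type u} [AddCommGroup I] [Module R I]

/-- an injective submodule has no proper essential extension -/
lemma eq_of_essIn_of_injective (E E' : Submodule R I) (hinj : Module.Injective R E)
    (hEE' : E ≤ E') (hess : EssIn E E') : E' = E := by
  obtain ⟨ρ, hρ⟩ := Module.Injective.extension_property R E E I E.subtype E.injective_subtype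
    LinearMap.id
  have hρE : ∀ x : E, ρ (x : I) = x := fun x => LinearMap.congr_fun hρ x
  apply le_antisymm _ hEE'
  intro x hx
  by_contra hxE
  have hy0 : x - (ρ x : I) ≠ 0 := by
    intro h
    apply hxE
    rw [sub_eq_zero] at h
    rw [h]
    exact (ρ x).2
  have hyE' : x - (ρ x : I) ∈ E' := E'.sub_mem hx (hEE' (ρ x).2)
  obtain ⟨r, hr0, hrE⟩ := hess _ hyE' hy0
  apply hr0
  have h1 := hρE ⟨_, hrE⟩
  have h2 : ρ (r • (x - (ρ x : I))) = 0 := by
    rw [map_smul, map_sub, hρE (ρ x), sub_self, smul_zero]
  simp only at h1
  rw [h2] at h1
  exact (congrArg Subtype.val h1).symm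

end Helpers

/-- Let I be an injective R-module and E a submodule of I. Then E is an injective module if and only if
every submodule E' of I containing E, such that every nonzero submodule of E' meets E nontrivially,
is equal to E. -/
theorem result (R : Type u) [CommRing R] (I : Type u) [AddCommGroup I] [Module R I] [Module.Injective R I] (E : Submodule R I) : Module.Injective R E ↔ ∀ E' : Submodule R I, E ≤ E' → (∀ N : Submodule R I, N ≤ E' → N ≠ ⊥ → N ⊓ E ≠ ⊥) → E' = E := by
  constructor
  · intro hinj E' hEE' h
    exact eq_of_essIn_of_injective E E' hinj hEE' (essIn_of_inf_ne_bot h)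
  · intro h
    exact injective_of_maximal_essential E
      (fun E' hEE' hess => h E' hEE' (fun N hN hN0 => hess.inf_ne_bot hN hN0))

end Groth.Agent.S1728
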