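import Groth.Statements.S17287
import Mathlib
import Groth.Agent.Lib.Helper4VarDim11
import Groth.Agent.Lib.Helper10RedInd
-- import your own Groth.Agent.* helpers here

set_option autoImplicit false
set_option linter.style.haveILetI false
set_option linter.unusedSectionVars false
universe u
open CategoryTheory CategoryTheory.Limits AlgebraicGeometry TopologicalSpace
open Variety

namespace Groth.Agent.S17287

open Groth.Agent.Lib.Helper4.VarDim

theorem irreducibleSpace_of_homeomorph {A B : Type*} [TopologicalSpace A] [TopologicalSpace B]
    (h : A ≃ₜ B) [IrreducibleSpace B] : IrreducibleSpace A := by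
  rw [irreducibleSpace_def]
  have := (IrreducibleSpace.isIrreducible_univ B).image h.symm h.symm.continuous.continuousOn
  rwa [Set.image_univ, h.symm.surjective.range_eq] at this


/-- Let f : Y → X be a surjective k-morphism of proper schemes over a field k and C ⊆ X an integral
closed subscheme of dimension one. Then there is an integral closed subscheme C' ⊆ Y of dimension
one with f(C') = C as closed subsets. (The source states this for proper algebraic spaces over k;
this is the case of schemes.) -/
theorem result (k : Type u) [Field k] (X Y : Scheme.{u})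
    [X.Over (Spec (CommRingCat.of k))] [IsProper (X ↘ (Spec (CommRingCat.of k)))] [Y.Over (Spec (CommRingCat.of k))] [IsProper (Y ↘ (Spec (CommRingCat.of k)))]
    (f : Y ⟶ X) (hf : f ≫ (X ↘ (Spec (CommRingCat.of k))) = Y ↘ (Spec (CommRingCat.of k))) [Surjective f]
    (C : X.IdealSheafData) [IsIntegral C.subscheme] (hC : topologicalKrullDim (C.support : Set X) = 1) :
    ∃ C' : Y.IdealSheafData, IsIntegral C'.subscheme ∧ topologicalKrullDim (C'.support : Set Y) = 1 ∧
      f.base '' (C'.support : Set Y) = (C.support : Set X) := by
  -- generic point of C
  let η : X := C.subschemeι (genericPoint C.subscheme)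
  have hη : closure ({η} : Set X) = (C.support : Set X) := by
    rw [← C.range_subschemeι]
    have h1 : closure ({η} : Set X) =
        closure (C.subschemeι '' closure {genericPoint C.subscheme}) := by
      rw [closure_image_closure C.subschemeι.continuous, Set.image_singleton]
    rw [h1, (genericPoint_spec C.subscheme).def, Set.image_univ]
    exact (C.subschemeι.isClosedEmbedding.isClosed_range).closure_eq
  have htη : trdegNat k X η = 1 := by
    have := topologicalKrullDim_closure_singleton k X η
    rw [hη, hC] at this
    exact_mod_cast this.symm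
  haveI : IsProper f := by
    haveI : IsProper (f ≫ (X ↘ Spec (CommRingCat.of k))) := by rw [hf]; infer_instance
    exact IsProper.of_comp f (X ↘ Spec (CommRingCat.of k))
  -- a closed point of the fibre over η
  haveI : Nonempty (f.fiber η) := by
    obtain ⟨y0, hy0⟩ := f.surjective η
    have : y0 ∈ Set.range (f.fiberι η) := by rw [Scheme.Hom.range_fiberι]; exact hy0
    obtain ⟨z0, -⟩ := this
    exact ⟨z0⟩
  obtain ⟨z, -, hz⟩ := IsClosed.exists_closed_singleton (isClosed_univ (X := f.fiber η))
    Set.univ_nonempty
  let y : Y := f.fiberι η z
  have hfy : f y = η := by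
    have : y ∈ f ⁻¹' {η} := by rw [← Scheme.Hom.range_fiberι]; exact ⟨z, rfl⟩
    exact this
  have hty : trdegNat k Y y = 1 := by
    have h := trdegNat_eq_add_fiber k f hf η z y rfl
    letI : (f.fiber η).Over (Spec (CommRingCat.of (X.residueField η))) :=
      ⟨f.fiberToSpecResidueField η⟩
    haveI : LocallyOfFiniteType ((f.fiber η) ↘ Spec (CommRingCat.of (X.residueField η))) :=
      locallyOfFiniteType_fiberToSpecResidueField f η
    have h0 : trdegNat (X.residueField η) (f.fiber η) z = 0 :=
      trdegNat_eq_of_trdeg_eq _ _ z 0 (by
        rw [trdeg_eq_zero_of_isClosed (X.residueField η) (f.fiber η) z hz, Nat.cast_zero])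
    rw [h, hfy, htη, h0]
  let Z : TopologicalSpace.Closeds Y := ⟨closure {y}, isClosed_closure⟩
  refine ⟨Scheme.IdealSheafData.vanishingIdeal Z, ?_, ?_, ?_⟩
  · haveI := Groth.Agent.Lib.Helper10.RedInd.isReduced_subscheme_vanishingIdeal Z
    have hrange : Set.range (Scheme.IdealSheafData.vanishingIdeal Z).subschemeι =
        closure ({y} : Set Y) := by
      rw [Scheme.IdealSheafData.range_subschemeι, Scheme.IdealSheafData.coe_support_vanishingIdeal]
      rfl
    let e : (Scheme.IdealSheafData.vanishingIdeal Z).subscheme ≃ₜ (closure ({y} : Set Y)) :=
      ((Scheme.IdealSheafData.vanishingIdeal Z).subschemeι.isEmbedding.toHomeomorph).trans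
        (Homeomorph.setCongr hrange)
    haveI : IrreducibleSpace (closure ({y} : Set Y)) :=
      Subtype.irreducibleSpace isIrreducible_singleton.closure
    haveI : IrreducibleSpace (Scheme.IdealSheafData.vanishingIdeal Z).subscheme :=
      irreducibleSpace_of_homeomorph e
    exact isIntegral_of_irreducibleSpace_of_isReduced _
  · rw [Scheme.IdealSheafData.coe_support_vanishingIdeal]
    change topologicalKrullDim (closure ({y} : Set Y)) = 1
    rw [topologicalKrullDim_closure_singleton k Y y, hty]
    rfl
  · rw [Scheme.IdealSheafData.coe_support_vanishingIdeal]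
    change f.base '' closure ({y} : Set Y) = _
    rw [← IsClosedMap.closure_image_eq_of_continuous f.isClosedMap f.continuous,
      Set.image_singleton, ← hη]
    exact congrArg (fun t => closure ({t} : Set X)) hfy

end Groth.Agent.S17287
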