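import Groth.Statements.S1729
import Mathlib

set_option autoImplicit false
universe u
open Dual2

namespace Groth.Agent.S1729

/-- Over a local ring, every finite module M admits a projective cover: a surjection from a projective
module P onto M such that no proper submodule of P maps onto M. -/
theorem result (R : Type u) [CommRing R] [IsLocalRing R] (M : Type u) [AddCommGroup M] [Module R M] [Module.Finite R M] : ∃ (P : Type u) (_ : AddCommGroup P) (_ : Module R P) (f : P →ₗ[R] M), Dual2.IsProjectiveCover f := by
  open TensorProduct IsLocalRing in
  classical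
  let k := IsLocalRing.ResidueField R
  let n := Module.finrank k (k ⊗[R] M)
  let b : Module.Basis (Fin n) k (k ⊗[R] M) := Module.finBasis k (k ⊗[R] M)
  have hsurj : Function.Surjective (TensorProduct.mk R k M 1) :=
    TensorProduct.mk_surjective R M k residue_surjective
  choose m hm using fun i => hsurj (b i)
  have hspan : Submodule.span R (Set.range m) = ⊤ :=
    span_eq_top_of_tmul_eq_basis m b hm
  let f : (Fin n → R) →ₗ[R] M := Fintype.linearCombination R m
  have hf : Function.Surjective f := by
    rw [← LinearMap.range_eq_top, Fintype.range_linearCombination, hspan]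
  refine ⟨Fin n → R, inferInstance, inferInstance, f, ⟨inferInstance, hf, ?_⟩⟩
  intro N hN
  rw [← map_tensorProduct_mk_eq_top]
  -- the base change of f
  let fb : k ⊗[R] (Fin n → R) →ₗ[k] k ⊗[R] M := f.baseChange k
  let bP : Module.Basis (Fin n) k (k ⊗[R] (Fin n → R)) := (Pi.basisFun R (Fin n)).baseChange k
  have hfb : ∀ i, fb (bP i) = b i := by
    intro i
    simp only [fb, bP, Module.Basis.baseChange_apply, LinearMap.baseChange_tmul, Pi.basisFun_apply]
    rw [← hm i]
    simp [f, Fintype.linearCombination_apply_single]
  have hfbinj : Function.Injective fb := by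
    have : fb = (bP.equiv b (Equiv.refl _)).toLinearMap := by
      apply bP.ext
      intro i
      rw [hfb]
      simp
    rw [this]
    exact (bP.equiv b (Equiv.refl _)).injective
  have hcomm : (fb.restrictScalars R).comp (TensorProduct.mk R k (Fin n → R) 1) =
      (TensorProduct.mk R k M 1).comp f := by
    ext v
    simp [fb]
  have h1 : (N.map (TensorProduct.mk R k (Fin n → R) 1)).map (fb.restrictScalars R) = ⊤ := by
    rw [← Submodule.map_comp, hcomm, Submodule.map_comp, hN, Submodule.map_top,
      LinearMap.range_eq_top]
    exact hsurj
  have h2 : (⊤ : Submodule R (k ⊗[R] (Fin n → R))).map (fb.restrictScalars R) = ⊤ := by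
    rw [eq_top_iff, ← h1]
    exact Submodule.map_mono le_top
  exact Submodule.map_injective_of_injective (f := fb.restrictScalars R) hfbinj (h1.trans h2.symm)

end Groth.Agent.S1729
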