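import Groth.Statements.S17310
import Groth.Agent.Lib.Helper5GeomFibA

set_option autoImplicit false
universe u
open CurvSt

namespace Groth.Agent.S17310

open CategoryTheory AlgebraicGeometry in
/-- Let X be a proper scheme of dimension at most 1 over a field k with structure morphism p, and Spec k
→ S a point of the base. The classifying object of X in the stack of curves over S lies in the open
substack of curves with geometrically reduced, connected fibres of dimension 1 — by definition:
every geometric fibre of h_X → h_{Spec k}, realised as a scheme over an algebraically closed field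
through a cartesian square of sheaves, is reduced, connected and of Krull dimension 1 — if and only
if X is geometrically reduced and geometrically connected over k and has Krull dimension 1. -/
theorem result (S : Scheme.{u}) (k : Type u) [Field k] (t : Spec (CommRingCat.of k) ⟶ S)
    (X : Scheme.{u}) (p : X ⟶ Spec (CommRingCat.of k)) [IsProper p] (hdim : topologicalKrullDim ↥X ≤ 1) :
    CurvSt.GeomFib (fun _ _ _ X' _ _ => IsReduced X' ∧ ConnectedSpace ↥X' ∧ topologicalKrullDim ↥X' = 1) ((CurvSt.toSpFam S 0).obj ⟨Over.mk t, X, p, Fin.elim0, fun i => i.elim0⟩) ↔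
      GeometricallyReduced p ∧ GeometricallyConnected p ∧ topologicalKrullDim ↥X = 1 := by
  haveI : LocallyOfFiniteType p := inferInstance
  refine (Groth.Agent.Lib.Helper5.GeomFibA.geomFib_iff (S := S) (n := 0)
    ⟨Over.mk t, X, p, Fin.elim0, fun i => i.elim0⟩
    (fun _ _ _ X' _ => IsReduced X' ∧ ConnectedSpace ↥X' ∧ topologicalKrullDim ↥X' = 1)).trans ?_
  constructor
  · intro H
    refine ⟨(Groth.Agent.Lib.Helper5.GeomFibA.geomReduced_iff_algClosed p).mpr
        fun Ω _ _ t' X' i₀ q h => (H Ω t' X' i₀ q h).1,
      (Groth.Agent.Lib.Helper5.GeomFibA.geomConnected_iff_algClosed p).mpr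
        fun Ω _ _ t' X' i₀ q h => (H Ω t' X' i₀ q h).2.1, ?_⟩
    let Ω := AlgebraicClosure k
    let t' : Spec (CommRingCat.of Ω) ⟶ Spec (CommRingCat.of k) :=
      Spec.map (CommRingCat.ofHom (algebraMap k Ω))
    have hpb := IsPullback.of_hasPullback p t'
    have h1 := (H Ω t' _ _ _ hpb).2.2
    rw [Groth.Agent.Lib.Helper5.GeomFibA.dim_eq_of_isPullback p Ω t' _ _ _ hpb] at h1
    exact h1
  · rintro ⟨h1, h2, h3⟩ Ω _ _ t' X' i₀ q h
    refine ⟨h1.geometrically_isReduced t' i₀ q h, h2.geometrically_connectedSpace t' i₀ q h, ?_⟩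
    rw [Groth.Agent.Lib.Helper5.GeomFibA.dim_eq_of_isPullback p Ω t' X' i₀ q h]
    exact h3

end Groth.Agent.S17310
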