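import Groth.Statements.S1732
import Groth.Agent.Lib.Helper14TorsHullA
import Groth.Agent.Lib.Helper14TorsHullB
import Groth.Agent.Lib.Helper19PowerSeries

set_option autoImplicit false
universe u
open LocCoh

namespace Groth.Agent.S1732

/-- Let k be a field of characteristic zero, d ≥ 1, A = k[[x_1, …, x_d]] with maximal ideal m, and E an
injective hull of the residue field of A. Let M be an m-power torsion A-module equipped with
additive maps D_1, …, D_d such that D_i(f z) = θ_i(f) z + f D_i(z), where θ_i is the k-derivation of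
A with θ_i(x_j) = δ_ij (the partial derivative in x_i). Then M is, up to isomorphism, a direct sum
of copies of E. -/
theorem result (k : Type u) [Field k] [CharZero k] (d : ℕ) (hd : 1 ≤ d) (E : Type u) [AddCommGroup E] [Module (MvPowerSeries (Fin d) k) E] (e : IsLocalRing.ResidueField (MvPowerSeries (Fin d) k) →ₗ[MvPowerSeries (Fin d) k] E) (he : InjHull.IsInjectiveHull e) (θ : Fin d → Derivation k (MvPowerSeries (Fin d) k) (MvPowerSeries (Fin d) k)) (hθ : ∀ i j : Fin d, θ i (MvPowerSeries.X j) = if i = j then 1 else 0) (M : Type u) [AddCommGroup M] [Module (MvPowerSeries (Fin d) k) M] (hM : LocCoh.IsPowerTorsion (IsLocalRing.maximalIdeal (MvPowerSeries (Fin d) k)) M) (D : Fin d → M →+ M) (hD : ∀ (i : Fin d) (f : MvPowerSeries (Fin d) k) (z : M), D i (f • z) = θ i f • z + f • D i z) : ∃ J : Type u, Nonempty (M ≃ₗ[MvPowerSeries (Fin d) k] (J →₀ E)) := by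
  classical
  open Groth.Agent.Lib.Helper14.TorsHull in
  -- the maximal ideal is generated by the variables
  have hmax : IsLocalRing.maximalIdeal (MvPowerSeries (Fin d) k) =
      Ideal.span (Set.range (MvPowerSeries.X : Fin d → MvPowerSeries (Fin d) k)) := by
    apply le_antisymm
    · intro g hg
      have h0 : MvPowerSeries.constantCoeff g = 0 := by
        by_contra h
        rw [IsLocalRing.mem_maximalIdeal, mem_nonunits_iff,
          MvPowerSeries.isUnit_iff_constantCoeff] at hg
        exact hg (isUnit_iff_ne_zero.2 h)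
      have h1 : g ∈ Groth.Agent.Lib.Helper19.varsIdeal (Fin d) k ^ 1 := by
        apply Groth.Agent.Lib.Helper19.mem_varsIdeal_pow_of_coeff_eq_zero
        intro α hα
        have hα0 : α = 0 := by
          rw [Nat.lt_one_iff] at hα
          exact (Finsupp.degree_eq_zero_iff α).1 hα
        rw [hα0, MvPowerSeries.coeff_zero_eq_constantCoeff_apply, h0]
      rwa [pow_one] at h1
    · rw [Ideal.span_le]
      rintro _ ⟨i, rfl⟩
      rw [SetLike.mem_coe, IsLocalRing.mem_maximalIdeal, mem_nonunits_iff,
        MvPowerSeries.isUnit_iff_constantCoeff, MvPowerSeries.constantCoeff_X]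
      exact not_isUnit_zero
  obtain ⟨J, φ, hφinj, hφsoc⟩ := exists_embedding e he M hM
  refine ⟨J, ⟨LinearEquiv.ofBijective φ ⟨hφinj, ?_⟩⟩⟩
  have hW : LocCoh.IsPowerTorsion (IsLocalRing.maximalIdeal (MvPowerSeries (Fin d) k)) (J →₀ E) :=
    isPowerTorsion_finsupp _ (Groth.Agent.S0311.result _ E e he)
  have hDx : ∀ (i j : Fin d) (z : M), D i ((MvPowerSeries.X j : MvPowerSeries (Fin d) k) • z) =
      (if i = j then z else 0) + (MvPowerSeries.X j : MvPowerSeries (Fin d) k) • D i z := by
    intro i j z
    rw [hD, hθ, ite_smul, one_smul, zero_smul]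
  have hunit : ∀ n : ℕ, n ≠ 0 → IsUnit ((n : ℕ) : MvPowerSeries (Fin d) k) := by
    intro n hn
    rw [MvPowerSeries.isUnit_iff_constantCoeff, map_natCast]
    exact isUnit_iff_ne_zero.2 (Nat.cast_ne_zero.2 hn)
  intro w
  obtain ⟨n, hn⟩ := hW w
  rw [← LinearMap.mem_range]
  refine mem_range_of_killed (x := (MvPowerSeries.X : Fin d → MvPowerSeries (Fin d) k)) (D := D)
    hDx hunit φ hφinj ?_ n w ?_
  · intro w' hw'
    apply hφsoc
    intro b hb
    rw [hmax] at hb
    refine Submodule.span_induction ?_ ?_ ?_ ?_ hb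
    · rintro _ ⟨j, rfl⟩
      exact hw' j
    · exact zero_smul _ _
    · intro a₁ a₂ _ _ h₁ h₂
      rw [add_smul, h₁, h₂, add_zero]
    · intro r a₁ _ h₁
      rw [smul_eq_mul, ← smul_smul, h₁, smul_zero]
  · intro a ha
    rw [← hmax] at ha
    exact hn a ha


end Groth.Agent.S1732
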