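import Groth.Statements.S17321
import Mathlib

set_option autoImplicit false
universe u v
open CAlg

namespace Groth.Agent.S17321

section aux
open Polynomial
variable (k : Type u) [Field k] [IsAlgClosed k] (A : Type v) [CommRing A] [Algebra k A]
  [Module.Finite k A]

lemma squarefree_minpoly [IsReduced A] (a : A) : Squarefree (minpoly k a) := by
  have hint : IsIntegral k a := IsIntegral.of_finite k a
  intro g hg
  obtain ⟨h, hh⟩ := hg
  have hμ0 : minpoly k a ≠ 0 := minpoly.ne_zero hint
  have h1 : aeval a (g * h) ^ 2 = 0 := by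
    have : (g * h) ^ 2 = minpoly k a * h := by rw [hh]; ring
    rw [← map_pow, this, map_mul, minpoly.aeval, zero_mul]
  have h2 : aeval a (g * h) = 0 := by
    have : IsNilpotent (aeval a (g * h)) := ⟨2, h1⟩
    exact this.eq_zero
  have h3 : minpoly k a ∣ g * h := minpoly.dvd k a h2
  rw [hh] at h3
  have hgh : g * h ≠ 0 := by
    intro h0
    apply hμ0
    rw [hh, mul_assoc, h0, mul_zero]
  -- g * g * h ∣ g * h  → g unit
  have h4 : g * (g * h) ∣ 1 * (g * h) := by rw [one_mul, ← mul_assoc]; exact h3
  have h5 : g ∣ 1 := (mul_dvd_mul_iff_right hgh).1 h4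
  exact isUnit_of_dvd_one h5

lemma der_eq_zero [IsReduced A] (D : Derivation k A A) (a : A) : D a = 0 := by
  have hsep : (minpoly k a).Separable :=
    PerfectField.separable_iff_squarefree.2 (squarefree_minpoly k A a)
  obtain ⟨u, w, huw⟩ := hsep
  have h1 := congrArg (aeval a) huw
  rw [map_add, map_mul, map_mul, minpoly.aeval, mul_zero, zero_add, map_one] at h1
  have h2 : D (aeval a (minpoly k a)) = 0 := by rw [minpoly.aeval, map_zero]
  rw [Derivation.map_aeval] at h2
  calc D a = (1 : A) • D a := (one_smul _ _).symm
    _ = (aeval a w * aeval a (derivative (minpoly k a))) • D a := by rw [h1]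
    _ = aeval a w • (aeval a (derivative (minpoly k a)) • D a) := by rw [mul_smul]
    _ = 0 := by rw [h2, smul_zero]


lemma exists_der_ne_zero (hred : ¬ IsReduced A) : ∃ D : Derivation k A A, D ≠ 0 := by
  have : IsArtinianRing A := IsArtinianRing.of_finite k A
  have : IsNoetherianRing A := inferInstance
  obtain ⟨x, hxnil, hx0⟩ : ∃ x : A, IsNilpotent x ∧ x ≠ 0 := by
    by_contra h
    push Not at h
    exact hred ⟨fun x hx => h x hx⟩
  obtain ⟨m, hass, hxm⟩ := exists_le_isAssociatedPrime_of_isNoetherianRing A x hx0
  obtain ⟨hmprime, s, hs⟩ := isAssociatedPrime_iff.1 hass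
  have := hmprime
  have hmmax : m.IsMaximal := IsArtinianRing.isMaximal_of_isPrime m
  have hms : ∀ y ∈ m, y * s = 0 := by
    intro y hy
    rw [hs, Submodule.mem_colon_singleton] at hy
    simpa using hy
  have hs0 : s ≠ 0 := by
    rintro rfl
    apply hmprime.ne_top
    rw [hs]
    ext y
    simp [Submodule.mem_colon_singleton]
  have hxmem : x ∈ m := by
    obtain ⟨n, hn⟩ := hxnil
    exact hmprime.mem_of_pow_mem n (hn ▸ m.zero_mem)
  -- m ≠ m^2
  have hm2 : m ^ 2 ≠ m := by
    intro h
    have hidem : IsIdempotentElem m := by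
      rw [IsIdempotentElem, ← pow_two, h]
    obtain ⟨e, he, hme⟩ := (Ideal.isIdempotentElem_iff_of_fg m (IsNoetherian.noetherian m)).1 hidem
    rw [hme, Ideal.mem_span_singleton'] at hxmem
    obtain ⟨c, hc⟩ := hxmem
    have h1 : (1 - e) * x = 0 := by
      rw [← hc]
      calc (1 - e) * (c * e) = c * (e - e * e) := by ring
        _ = 0 := by rw [he.eq, sub_self, mul_zero]
    have h2 : (1 - e) ∈ m := by
      apply hxm
      rw [Submodule.mem_colon_singleton]
      simpa using h1
    have h3 : e ∈ m := by rw [hme]; exact Ideal.mem_span_singleton_self e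
    apply hmprime.ne_top
    rw [Ideal.eq_top_iff_one]
    have := m.add_mem h2 h3
    simpa using this
  obtain ⟨x0, hx0m, hx0m2⟩ : ∃ x0 ∈ m, x0 ∉ m ^ 2 := by
    by_contra h
    push Not at h
    exact hm2 (le_antisymm (Ideal.pow_le_self (by norm_num)) h)
  -- decomposition
  have hdec : ∀ a : A, ∃ c : k, a - algebraMap k A c ∈ m := by
    intro a
    have : Algebra.IsIntegral k (A ⧸ m) := inferInstance
    have : IsDomain (A ⧸ m) := Ideal.Quotient.isDomain m
    obtain ⟨c, hc⟩ := (IsAlgClosed.algebraMap_bijective_of_isIntegral (k := k) (K := A ⧸ m)).2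
      (Ideal.Quotient.mk m a)
    refine ⟨c, ?_⟩
    rw [← Ideal.Quotient.eq_zero_iff_mem, map_sub, ← hc, sub_eq_zero]
    rfl
  let W : Submodule k A := Submodule.span k {(1 : A)} ⊔ (m ^ 2).restrictScalars k
  have hx0W : x0 ∉ W := by
    intro h
    obtain ⟨y, hy, z, hz, hyz⟩ := Submodule.mem_sup.1 h
    obtain ⟨c, rfl⟩ := Submodule.mem_span_singleton.1 hy
    have hzm : z ∈ m := Ideal.pow_le_self (by norm_num) hz
    have h1 : c • (1 : A) ∈ m := by
      have : c • (1 : A) = x0 - z := by rw [← hyz]; ring
      rw [this]
      exact m.sub_mem hx0m hzm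
    have hc0 : c = 0 := by
      by_contra hc
      apply hmprime.ne_top
      rw [Ideal.eq_top_iff_one]
      have : (1 : A) = c⁻¹ • (c • (1 : A)) := by rw [smul_smul, inv_mul_cancel₀ hc, one_smul]
      rw [this]
      exact Submodule.smul_of_tower_mem m c⁻¹ h1
    rw [hc0, zero_smul, zero_add] at hyz
    exact hx0m2 (hyz ▸ hz)
  obtain ⟨lam, hlam0, hlamW⟩ := Submodule.exists_dual_map_eq_bot_of_notMem hx0W inferInstance
  have hlamW' : ∀ w ∈ W, lam w = 0 := by
    intro w hw
    have : lam w ∈ W.map lam := Submodule.mem_map_of_mem hw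
    rw [hlamW] at this
    simpa using this
  have hlam1 : lam 1 = 0 := hlamW' 1 (Submodule.mem_sup_left (Submodule.subset_span rfl))
  have hlam2 : ∀ y ∈ m, ∀ z ∈ m, lam (y * z) = 0 := by
    intro y hy z hz
    apply hlamW'
    apply Submodule.mem_sup_right
    show y * z ∈ m ^ 2
    rw [pow_two]
    exact Ideal.mul_mem_mul hy hz
  have hlamalg : ∀ c : k, lam (algebraMap k A c) = 0 := by
    intro c
    rw [Algebra.algebraMap_eq_smul_one, map_smul, hlam1, smul_zero]
  let D : Derivation k A A :=
    { toLinearMap := LinearMap.smulRight lam s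
      map_one_eq_zero' := by
        show lam 1 • s = 0
        rw [hlam1, zero_smul]
      leibniz' := by
        intro a b
        show lam (a * b) • s = a • (lam b • s) + b • (lam a • s)
        obtain ⟨c, hc⟩ := hdec a
        obtain ⟨c', hc'⟩ := hdec b
        set y := a - algebraMap k A c with hy
        set z := b - algebraMap k A c' with hz
        have ha : a = algebraMap k A c + y := by rw [hy]; ring
        have hb : b = algebraMap k A c' + z := by rw [hz]; ring
        have hab : a * b = algebraMap k A (c * c') + (c • z + c' • y) + y * z := by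
          rw [ha, hb, map_mul, Algebra.smul_def, Algebra.smul_def]
          ring
        have h1 : lam (a * b) = c * lam z + c' * lam y := by
          rw [hab, map_add, map_add, hlamalg, hlam2 y hc z hc', map_add, map_smul, map_smul]
          simp
        have h2 : lam a = lam y := by rw [ha, map_add, hlamalg, zero_add]
        have h3 : lam b = lam z := by rw [hb, map_add, hlamalg, zero_add]
        have h4 : a • s = c • s := by
          rw [ha, smul_eq_mul, add_mul, hms y hc, add_zero, Algebra.smul_def]
        have h5 : b • s = c' • s := by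
          rw [hb, smul_eq_mul, add_mul, hms z hc', add_zero, Algebra.smul_def]
        rw [h1, h2, h3, smul_comm a, smul_comm b, h4, h5, add_smul, smul_smul, smul_smul]
        ring_nf }
  refine ⟨D, fun hD => ?_⟩
  have h1 : D x0 = 0 := by rw [hD]; rfl
  have h2 : D x0 = lam x0 • s := rfl
  rw [h2, smul_eq_zero] at h1
  exact h1.elim hlam0 hs0


end aux

/-- Let k be an algebraically closed field and A a commutative k-algebra which is finite-dimensional as
a k-vector space (the coordinate ring of a finite k-scheme). Then the space Der(A) of k-derivations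
A → A is zero if and only if A is reduced. -/
theorem result (k : Type u) [Field k] [IsAlgClosed k]
    (A : Type v) [CommRing A] [Algebra k A] [Module.Finite k A] :
    Subsingleton (Derivation k A A) ↔ IsReduced A := by
  constructor
  · intro hsub
    by_contra hred
    obtain ⟨D, hD⟩ := exists_der_ne_zero k A hred
    exact hD (Subsingleton.elim D 0)
  · intro hred
    refine ⟨fun D1 D2 => ?_⟩
    ext a
    rw [der_eq_zero k A D1 a, der_eq_zero k A D2 a]

end Groth.Agent.S17321
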