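import Groth.Statements.S17323
import Mathlib

set_option autoImplicit false
universe u v
open CAlg

namespace Groth.Agent.S17323

open Polynomial Module.End

/-- Let k be an algebraically closed field and A a commutative k-algebra which is finite-dimensional as
a k-vector space. Then A has a largest reduced subalgebra: a k-subalgebra B which is reduced and
contains every reduced k-subalgebra of A; moreover the composite of the inclusion B → A with the
projection A → A/nilradical(A) is bijective. -/
theorem result (k : Type u) [Field k] [IsAlgClosed k]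
    (A : Type v) [CommRing A] [Algebra k A] [Module.Finite k A] :
    ∃ B : Subalgebra k A, IsReduced ↥B ∧ (∀ C : Subalgebra k A, IsReduced ↥C → C ≤ B) ∧
      Function.Bijective ((Ideal.Quotient.mkₐ k (nilradical A)).comp B.val) := by
  classical
  have hLinj : Function.Injective (Algebra.lmul k A) := Algebra.lmul_injective
  have hcomm : ∀ a b : A, Commute (Algebra.lmul k A a) (Algebra.lmul k A b) := fun a b => by
    show Algebra.lmul k A a * Algebra.lmul k A b = Algebra.lmul k A b * Algebra.lmul k A a
    rw [← map_mul, ← map_mul, mul_comm]
  let B : Subalgebra k A :=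
    { carrier := {a | (Algebra.lmul k A a).IsSemisimple}
      mul_mem' := fun {a b} ha hb => by
        show (Algebra.lmul k A (a * b)).IsSemisimple
        rw [map_mul]
        exact Module.End.IsSemisimple.mul_of_commute (hcomm _ _) ha hb
      add_mem' := fun {a b} ha hb => by
        show (Algebra.lmul k A (a + b)).IsSemisimple
        rw [map_add]
        exact Module.End.IsSemisimple.add_of_commute (hcomm _ _) ha hb
      algebraMap_mem' := fun r => by
        show (Algebra.lmul k A (algebraMap k A r)).IsSemisimple
        rw [AlgHom.commutes, Algebra.algebraMap_eq_smul_one]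
        exact Module.End.IsSemisimple_smul r Module.End.isSemisimple_id }
  have hBmem : ∀ a : A, a ∈ B ↔ (Algebra.lmul k A a).IsSemisimple := fun a => Iff.rfl
  have hnil : ∀ a : A, a ∈ B → IsNilpotent a → a = 0 := by
    intro a ha hn
    have h1 : IsNilpotent (Algebra.lmul k A a) := hn.map _
    have h2 := Module.End.eq_zero_of_isNilpotent_isSemisimple h1 ha
    exact hLinj (by rw [h2, map_zero])
  refine ⟨B, ?_, ?_, ?_, ?_⟩
  · constructor
    intro x hx
    have : (x : A) = 0 := hnil x x.2 (hx.map B.val)
    exact Subtype.ext this
  · intro C hC c hc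
    rw [hBmem]
    have hint : IsIntegral k (⟨c, hc⟩ : C) := by
      rw [← isIntegral_algHom_iff C.val Subtype.val_injective]
      exact IsIntegral.of_finite k c
    have hsq : Squarefree (minpoly k (⟨c, hc⟩ : C)) :=
      (minpoly.isRadical k _).squarefree (minpoly.ne_zero hint)
    refine Module.End.isSemisimple_of_squarefree_aeval_eq_zero hsq ?_
    have h1 : aeval c (minpoly k (⟨c, hc⟩ : C)) = 0 := by
      have := Polynomial.aeval_algHom_apply C.val (⟨c, hc⟩ : C) (minpoly k (⟨c, hc⟩ : C))
      rw [minpoly.aeval, map_zero] at this
      exact this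
    rw [Polynomial.aeval_algHom_apply, h1, map_zero]
  · rw [injective_iff_map_eq_zero]
    intro b hb
    have : (b : A) ∈ nilradical A := by
      have : Ideal.Quotient.mk (nilradical A) (b : A) = 0 := hb
      exact Ideal.Quotient.eq_zero_iff_mem.mp this
    exact Subtype.ext (hnil b b.2 (mem_nilradical.mp this))
  · intro q
    obtain ⟨a, rfl⟩ := Ideal.Quotient.mk_surjective q
    obtain ⟨n, hn, s, hs, hnn, hss, hsum⟩ :=
      Module.End.exists_isNilpotent_isSemisimple (K := k) (f := Algebra.lmul k A a)
    rw [Algebra.adjoin_singleton_eq_range_aeval] at hs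
    obtain ⟨p, hp⟩ := hs
    have hp' : Algebra.lmul k A (aeval a p) = s := by
      rw [← hp]; exact (Polynomial.aeval_algHom_apply (Algebra.lmul k A) a p).symm
    have ha' : aeval a p ∈ B := by rw [hBmem, hp']; exact hss
    refine ⟨⟨aeval a p, ha'⟩, ?_⟩
    show Ideal.Quotient.mk (nilradical A) (aeval a p) = Ideal.Quotient.mk (nilradical A) a
    symm
    rw [Ideal.Quotient.eq, mem_nilradical]
    have hn' : Algebra.lmul k A (a - aeval a p) = n := by
      rw [map_sub, hp', hsum]; abel
    obtain ⟨m, hm⟩ := hnn
    refine ⟨m, hLinj ?_⟩
    rw [map_pow, hn', hm, map_zero]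

end Groth.Agent.S17323
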