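import Groth.Statements.S17324
import Mathlib

set_option autoImplicit false
universe u v
open CAlg

namespace Groth.Agent.S17324

/-- (i) ⟺ (ii): let k be an algebraically closed field, A a commutative k-algebra which is
finite-dimensional as a k-vector space and is a local ring with maximal ideal m, and a_1, …, a_m ∈
m. Then A is generated as a k-algebra by a_1, …, a_m if and only if m is generated as an ideal by
a_1, …, a_m. (The printed lemma has a third equivalent condition, that the images of the a_i span
m/m²; its equivalence with (ii) is Nakayama's lemma.) -/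
theorem result (k : Type u) [Field k] [IsAlgClosed k]
    (A : Type v) [CommRing A] [Algebra k A] [Module.Finite k A] [IsLocalRing A]
    (m : ℕ) (a : Fin m → A) (ha : ∀ i, a i ∈ IsLocalRing.maximalIdeal A) :
    Algebra.adjoin k (Set.range a) = ⊤ ↔ Ideal.span (Set.range a) = IsLocalRing.maximalIdeal A := by
  have hart : IsArtinianRing A := IsArtinianRing.of_finite k A
  -- residue field is k
  have hres : ∀ x : A, ∃ c : k, x - algebraMap k A c ∈ IsLocalRing.maximalIdeal A := by
    intro x
    obtain ⟨c, hc⟩ := (IsAlgClosed.algebraMap_bijective_of_isIntegral (k := k)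
      (K := A ⧸ IsLocalRing.maximalIdeal A)).2 (Ideal.Quotient.mk _ x)
    refine ⟨c, ?_⟩
    rw [← Ideal.Quotient.eq_zero_iff_mem, map_sub, ← hc]
    rw [Ideal.Quotient.mk_algebraMap, sub_self]
  have hle : Ideal.span (Set.range a) ≤ IsLocalRing.maximalIdeal A := by
    rw [Ideal.span_le]
    rintro _ ⟨i, rfl⟩
    exact ha i
  constructor
  · intro hadj
    refine le_antisymm hle ?_
    intro x hx
    have hclaim : ∀ y ∈ Algebra.adjoin k (Set.range a),
        ∃ c : k, y - algebraMap k A c ∈ Ideal.span (Set.range a) := by
      intro y hy
      induction hy using Algebra.adjoin_induction with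
      | mem y hy => exact ⟨0, by rw [map_zero, sub_zero]; exact Ideal.subset_span hy⟩
      | algebraMap r => exact ⟨r, by rw [sub_self]; exact Submodule.zero_mem _⟩
      | add y z _ _ hy hz =>
        obtain ⟨c, hc⟩ := hy
        obtain ⟨d, hd⟩ := hz
        refine ⟨c + d, ?_⟩
        have : y + z - algebraMap k A (c + d) = (y - algebraMap k A c) + (z - algebraMap k A d) := by
          rw [map_add]; ring
        rw [this]
        exact Submodule.add_mem _ hc hd
      | mul y z _ _ hy hz =>
        obtain ⟨c, hc⟩ := hy
        obtain ⟨d, hd⟩ := hz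
        refine ⟨c * d, ?_⟩
        have : y * z - algebraMap k A (c * d) =
            y * (z - algebraMap k A d) + algebraMap k A d * (y - algebraMap k A c) := by
          rw [map_mul]; ring
        rw [this]
        exact Submodule.add_mem _ (Ideal.mul_mem_left _ _ hd) (Ideal.mul_mem_left _ _ hc)
    obtain ⟨c, hc⟩ := hclaim x (by rw [hadj]; exact Algebra.mem_top)
    have hcm : algebraMap k A c ∈ IsLocalRing.maximalIdeal A := by
      have : algebraMap k A c = x - (x - algebraMap k A c) := by ring
      rw [this]
      exact Submodule.sub_mem _ hx (hle hc)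
    have hc0 : c = 0 := by
      by_contra hne
      have hu : IsUnit (algebraMap k A c) := (isUnit_iff_ne_zero.mpr hne).map _
      exact (IsLocalRing.mem_maximalIdeal _).mp hcm hu
    rw [hc0, map_zero, sub_zero] at hc
    exact hc
  · intro hspan
    obtain ⟨N, hN⟩ : ∃ N : ℕ, IsLocalRing.maximalIdeal A ^ N = ⊥ := by
      have h1 := IsArtinianRing.isNilpotent_jacobson_bot (R := A)
      rw [IsLocalRing.jacobson_eq_maximalIdeal ⊥ bot_ne_top] at h1
      obtain ⟨N, hN⟩ := h1
      exact ⟨N, hN⟩
    have hind : ∀ j : ℕ, ∀ x : A, ∃ s ∈ Algebra.adjoin k (Set.range a),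
        x - s ∈ IsLocalRing.maximalIdeal A ^ j := by
      intro j
      induction j with
      | zero =>
        intro x
        exact ⟨0, Subalgebra.zero_mem _, by rw [pow_zero, Ideal.one_eq_top]; exact Submodule.mem_top⟩
      | succ j ih =>
        intro x
        obtain ⟨c, hc⟩ := hres x
        rw [← hspan, Ideal.mem_span_range_iff_exists_fun] at hc
        obtain ⟨r, hr⟩ := hc
        choose s hs hsm using fun i => ih (r i)
        refine ⟨algebraMap k A c + ∑ i, s i * a i, ?_, ?_⟩
        · refine Subalgebra.add_mem _ (Subalgebra.algebraMap_mem _ c) (Subalgebra.sum_mem _ ?_)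
          intro i _
          exact Subalgebra.mul_mem _ (hs i) (Algebra.subset_adjoin ⟨i, rfl⟩)
        · have : x - (algebraMap k A c + ∑ i, s i * a i) = ∑ i, (r i - s i) * a i := by
            have h1 : x = algebraMap k A c + ∑ i, r i * a i := by rw [hr]; ring
            rw [h1]
            simp only [sub_mul, Finset.sum_sub_distrib]
            ring
          rw [this]
          refine Submodule.sum_mem _ ?_
          intro i _
          rw [pow_succ]
          exact Ideal.mul_mem_mul (hsm i) (ha i)
    rw [eq_top_iff]
    intro x _
    obtain ⟨s, hs, hxs⟩ := hind N x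
    rw [hN, Ideal.mem_bot, sub_eq_zero] at hxs
    rw [hxs]
    exact hs

end Groth.Agent.S17324
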