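import Groth.Statements.S17325
import Mathlib
import Groth.Agent.Lib.Helper25Prime

set_option autoImplicit false
universe u v
open LieAlg

namespace Groth.Agent.S17325

/-- Let k be an algebraically closed field of characteristic p > 0, V a finite-dimensional k-vector
space and g a nonzero k-linear subspace of End_k(V) closed under the p-th power map u ↦ u^p. Then g
contains a nonzero u with u^p = c u for some c ∈ k, i.e. a line k u closed under p-th powers. (The
published lemma concerns an abstract nonzero finite-dimensional restricted Lie algebra; this row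
concerns subspaces of End_k(V) closed under p-th powers, a class that contains every restricted Lie
subalgebra of gl(V).) -/
theorem result (k : Type u) [Field k] [IsAlgClosed k]
    (p : ℕ) [Fact p.Prime] [CharP k p] (V : Type v) [AddCommGroup V] [Module k V] [FiniteDimensional k V]
    (g : Submodule k (Module.End k V)) (hg : ∀ u ∈ g, u ^ p ∈ g) (hne : g ≠ ⊥) :
    ∃ u ∈ g, u ≠ 0 ∧ ∃ c : k, u ^ p = c • u := by
  classical
  obtain ⟨x, hxg, hx0⟩ := Submodule.exists_mem_ne_zero_of_ne_bot hne
  have hp0 : p ≠ 0 := (Fact.out : p.Prime).ne_zero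
  have hmem : ∀ i : ℕ, x ^ (p ^ i) ∈ g := by
    intro i
    induction i with
    | zero => simpa using hxg
    | succ i ih =>
      rw [pow_succ, pow_mul]
      exact hg _ ih
  have hF : ∀ (n : ℕ) (c : ℕ → k),
      (fun u : Module.End k V => u ^ p) (∑ i ∈ Finset.range n, c i • (fun i => x ^ (p ^ i)) i) =
        ∑ i ∈ Finset.range n, (c i) ^ p • (fun i => x ^ (p ^ i)) (i + 1) := by
    intro n c
    simp only
    rw [Groth.Agent.Lib.Helper25.Prime.sum_pow_char_end p (fun i => c i • x ^ (p ^ i))]
    · refine Finset.sum_congr rfl (fun i _ => ?_)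
      rw [smul_pow, ← pow_mul, ← pow_succ]
    · intro i j
      exact ((Commute.pow_pow (Commute.refl x) _ _).smul_right _).smul_left _
  obtain ⟨η, hη0, hηmem, l, hl⟩ := Groth.Agent.Lib.Helper25.Prime.exists_eigen_of_pmap p
    (fun i => x ^ (p ^ i)) (fun u : Module.End k V => u ^ p) hF (by simpa using hx0)
  refine ⟨η, ?_, hη0, l, hl⟩
  refine (Submodule.span_le.mpr ?_) hηmem
  rintro _ ⟨i, rfl⟩
  exact hmem i

end Groth.Agent.S17325
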