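import Groth.Statements.S17326
import Mathlib

set_option autoImplicit false
universe u v
open CAlg

namespace Groth.Agent.S17326

/-- Let k be an algebraically closed field of characteristic p > 0, A a commutative k-algebra which is
finite-dimensional as a k-vector space (a finite k-scheme X), and n ≥ 1. The n-th iterated relative
Frobenius morphism X → X^(p^n) is an isomorphism if and only if X is reduced; on rings: the map a ↦
a^(p^n) of A to itself (which is the ring homomorphism underlying the relative Frobenius, the twist
A^(p^n) having the same underlying ring as A) is bijective if and only if A is reduced. -/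
theorem result (k : Type u) [Field k] [IsAlgClosed k]
    (p : ℕ) [Fact p.Prime] [CharP k p] (A : Type v) [CommRing A] [Algebra k A] [Module.Finite k A]
    (n : ℕ) (hn : 1 ≤ n) :
    Function.Bijective (fun a : A => a ^ p ^ n) ↔ IsReduced A := by
  rcases subsingleton_or_nontrivial A with hsub | hnt
  · constructor
    · intro _
      exact ⟨fun x _ => Subsingleton.elim _ _⟩
    · intro _
      exact ⟨fun a b _ => Subsingleton.elim _ _, fun b => ⟨b, Subsingleton.elim _ _⟩⟩
  have hcharA : CharP A p := charP_of_injective_algebraMap (algebraMap k A).injective p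
  have hart : IsArtinianRing A := IsArtinianRing.of_finite k A
  have hp1 : 1 < p := (Fact.out : p.Prime).one_lt
  constructor
  · rintro ⟨hinj, -⟩
    refine ⟨fun x hx => ?_⟩
    obtain ⟨m, hm⟩ := hx
    have hiter : ∀ j : ℕ, x ^ ((p ^ n) ^ j) = 0 → x = 0 := by
      intro j
      induction j with
      | zero => intro h; simpa using h
      | succ j ih =>
        intro h
        apply ih
        apply hinj
        simp only
        rw [← pow_mul, ← pow_succ, h, zero_pow (by positivity)]
    apply hiter m
    have hle : m ≤ (p ^ n) ^ m := by
      have h2 : 1 < p ^ n := Nat.one_lt_pow (by omega) hp1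
      exact (Nat.lt_pow_self h2).le
    exact pow_eq_zero_of_le hle hm
  · intro hred
    constructor
    · intro a b hab
      simp only at hab
      have h1 : (a - b) ^ p ^ n = 0 := by
        rw [sub_pow_char_pow, hab, sub_self]
      exact sub_eq_zero.mp (IsReduced.eq_zero _ ⟨_, h1⟩)
    · intro x
      have hroot : ∀ I : MaximalSpectrum A, ∃ d : k,
          (algebraMap k (A ⧸ I.asIdeal) d) ^ p ^ n = Ideal.Quotient.mk I.asIdeal x := by
        intro I
        have : I.asIdeal.IsMaximal := I.isMaximal
        obtain ⟨c, hc⟩ := (IsAlgClosed.algebraMap_bijective_of_isIntegral (k := k)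
          (K := A ⧸ I.asIdeal)).2 (Ideal.Quotient.mk I.asIdeal x)
        obtain ⟨d, hd⟩ := IsAlgClosed.exists_pow_nat_eq c (n := p ^ n) (by positivity)
        exact ⟨d, by rw [← map_pow, hd, hc]⟩
      choose d hd using hroot
      refine ⟨(IsArtinianRing.equivPi A).symm (fun I => algebraMap k (A ⧸ I.asIdeal) (d I)), ?_⟩
      simp only
      apply (IsArtinianRing.equivPi A).injective
      rw [map_pow, AlgEquiv.apply_symm_apply]
      funext I
      rw [Pi.pow_apply, hd I, IsArtinianRing.equivPi_apply]

end Groth.Agent.S17326
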