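import Groth.Statements.S17327
import Groth.Agent.Lib.Helper25FinHopf

set_option autoImplicit false
universe u v
open Hopf
open Groth.Agent.Lib.Helper25 TensorProduct

namespace Groth.Agent.S17327

/-- Let k be an algebraically closed field of characteristic p > 0, A a commutative Hopf algebra over k
which is finite-dimensional as a k-vector space (a finite group scheme G = Spec A), I the
augmentation ideal (kernel of the counit) and n ≥ 1. The n-th Frobenius kernel G_n is the closed
subgroup scheme cut out by the ideal generated by the p^n-th powers f^(p^n), f ∈ I; it is trivial,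
i.e. that ideal equals I, if and only if G is reduced. -/
theorem result (k : Type u) [Field k] [IsAlgClosed k]
    (p : ℕ) [Fact p.Prime] [CharP k p] (A : Type v) [CommRing A] [HopfAlgebra k A] [Module.Finite k A]
    (n : ℕ) (hn : 1 ≤ n) :
    Ideal.span ((fun f : A => f ^ p ^ n) '' (RingHom.ker (Bialgebra.counitAlgHom k A) : Set A)) =
      RingHom.ker (Bialgebra.counitAlgHom k A) ↔ IsReduced A := by
  classical
  have hperf : Function.Surjective (frobenius k p) := surjective_frobenius k p
  haveI := FinHopf.charP_hopf k p A
  set I := RingHom.ker (Bialgebra.counitAlgHom k A) with hI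
  have hIaug : I = augI k A := rfl
  have hp2 : 2 ≤ p ^ n := by
    calc 2 ≤ p := (Fact.out : p.Prime).two_le
      _ = p ^ 1 := (pow_one p).symm
      _ ≤ p ^ n := Nat.pow_le_pow_right (Fact.out : p.Prime).pos hn
  constructor
  · intro h
    -- `I = I²`
    have hsq : I ≤ I ^ 2 := by
      have h0 : Ideal.span ((fun f : A => f ^ p ^ n) '' (I : Set A)) ≤ I ^ 2 := by
        rw [Ideal.span_le]
        rintro _ ⟨f, hf, rfl⟩
        exact Ideal.pow_le_pow_right hp2 (Ideal.pow_mem_pow hf _)
      calc I = Ideal.span ((fun f : A => f ^ p ^ n) '' (I : Set A)) := h.symm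
        _ ≤ I ^ 2 := h0
    have hpow : ∀ m : ℕ, 1 ≤ m → I ^ m = I := by
      intro m hm
      induction m, hm using Nat.le_induction with
      | base => exact pow_one I
      | succ m _ ih =>
        apply le_antisymm
        · rw [pow_succ]
          exact Ideal.mul_le_right
        · calc I ≤ I ^ 2 := hsq
            _ = I * I := pow_two I
            _ = I ^ m * I := by rw [ih]
            _ = I ^ (m + 1) := (pow_succ I m).symm
    set N := Module.finrank k A with hN
    have hNpos : 1 ≤ N := FinHopf.finrank_pos_hopf (k := k) (A := A)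
    -- every `ker g` is idempotent too
    have hker : ∀ g : A →ₐ[k] k, (RingHom.ker g) ^ N = RingHom.ker g := by
      intro g
      have h1 := FinHopf.map_rtransEquiv_ker g
      have h2 : ((RingHom.ker g) ^ N).map ((FinHopf.rtransEquiv g : A ≃ₐ[k] A) : A →+* A) =
          (RingHom.ker g).map ((FinHopf.rtransEquiv g : A ≃ₐ[k] A) : A →+* A) := by
        rw [Ideal.map_pow, h1, ← hIaug, hpow N hNpos]
      have hinj : Function.Injective ((FinHopf.rtransEquiv g : A ≃ₐ[k] A) : A →+* A) :=
        (FinHopf.rtransEquiv g).injective
      have h3 := congrArg (Ideal.comap ((FinHopf.rtransEquiv g : A ≃ₐ[k] A) : A →+* A)) h2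
      rwa [Ideal.comap_map_of_bijective ((FinHopf.rtransEquiv g : A ≃ₐ[k] A) : A →+* A)
          (FinHopf.rtransEquiv g).bijective,
        Ideal.comap_map_of_bijective ((FinHopf.rtransEquiv g : A ≃ₐ[k] A) : A →+* A)
          (FinHopf.rtransEquiv g).bijective] at h3
    constructor
    intro x hx
    have h1 : x ∈ ⨅ g : A →ₐ[k] k, (RingHom.ker g) ^ N := by
      rw [Ideal.mem_iInf]
      intro g
      rw [hker g, RingHom.mem_ker]
      exact (hx.map g).eq_zero
    rw [FinHopf.iInf_ker_pow_finrank] at h1
    exact h1
  · intro hred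
    -- Frobenius is surjective on `A`
    have hker : FinHopf.frobKer (k := k) (A := A) p = ⊥ := by
      rw [eq_bot_iff]
      intro x hx
      have : x ^ p = 0 := (FinHopf.mem_frobKer (k := k) p).mp hx
      exact (IsNilpotent.eq_zero ⟨p, this⟩ : x = 0)
    have hfr := FinHopf.finrank_frobSub (k := k) (A := A) p hperf
    have hquot : Module.finrank k (A ⧸ FinHopf.frobKer (k := k) (A := A) p) = Module.finrank k A := by
      rw [hker]
      exact (Submodule.quotEquivOfEqBot (⊥ : Submodule k A) rfl).finrank_eq
    have htop : Subalgebra.toSubmodule (FinHopf.frobSub (A := A) p hperf) = ⊤ := by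
      apply Submodule.eq_top_of_finrank_eq
      rw [← hquot, ← hfr]
      rfl
    have hsurj1 : ∀ a : A, ∃ b : A, b ^ p = a := by
      intro a
      have : a ∈ Subalgebra.toSubmodule (FinHopf.frobSub (A := A) p hperf) := by
        rw [htop]; trivial
      exact this
    have hsurj : ∀ m : ℕ, ∀ a : A, ∃ b : A, b ^ p ^ m = a := by
      intro m
      induction m with
      | zero => intro a; exact ⟨a, by simp⟩
      | succ m ih =>
        intro a
        obtain ⟨c, hc⟩ := hsurj1 a
        obtain ⟨b, hb⟩ := ih c
        exact ⟨b, by rw [pow_succ, pow_mul, hb, hc]⟩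
    apply le_antisymm
    · rw [Ideal.span_le]
      rintro _ ⟨f, hf, rfl⟩
      exact Ideal.pow_mem_of_mem _ hf _ (by positivity)
    · intro a ha
      obtain ⟨b, hb⟩ := hsurj n a
      apply Ideal.subset_span
      refine ⟨b, ?_, hb⟩
      have ha' : Bialgebra.counitAlgHom k A a = 0 := ha
      show b ∈ RingHom.ker (Bialgebra.counitAlgHom k A)
      rw [RingHom.mem_ker]
      rw [← hb, map_pow] at ha'
      exact pow_eq_zero_iff (by positivity) |>.mp ha'

end Groth.Agent.S17327
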