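import Groth.Statements.S1733
import Mathlib

set_option autoImplicit false
universe u
open LocCoh

namespace Groth.Agent.S1733

/-- Let f_1, …, f_r and g be elements of a ring (r ≥ 1). If the family f_1, …, f_{r-1}, f_r g is
independent (every linear relation has coefficients in the ideal the family generates), then f_1, …,
f_r is independent. -/
theorem result (A : Type u) [CommRing A] (r : ℕ) (f : Fin (r + 1) → A) (g : A) (h : Dual2.Independent (Function.update f (Fin.last r) (f (Fin.last r) * g))) : Dual2.Independent f := by
  classical
  set L := Fin.last r with hL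
  set f' := Function.update f L (f L * g) with hf'
  have hf'L : f' L = f L * g := Function.update_self ..
  have hf'ne : ∀ i, i ≠ L → f' i = f i := fun i hi => Function.update_of_ne hi ..
  have hle : Ideal.span (Set.range f') ≤ Ideal.span (Set.range f) := by
    rw [Ideal.span_le]
    rintro _ ⟨i, rfl⟩
    by_cases hi : i = L
    · rw [hi, hf'L]
      exact Ideal.mul_mem_right _ _ (Ideal.subset_span ⟨L, rfl⟩)
    · rw [hf'ne i hi]
      exact Ideal.subset_span ⟨i, rfl⟩
  intro a ha
  -- Step 1: `a L` lies in the span of `f'`
  have h1 : a L ∈ Ideal.span (Set.range f') := by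
    have := h (fun i => if i = L then a L else a i * g) (by
      have hpt : ∀ i, (if i = L then a L else a i * g) * f' i = g * (a i * f i) := by
        intro i
        by_cases hi : i = L
        · rw [if_pos hi, hi, hf'L]; ring
        · rw [if_neg hi, hf'ne i hi]; ring
      rw [Finset.sum_congr rfl (fun i _ => hpt i), ← Finset.mul_sum, ha, mul_zero]) L
    simpa using this
  obtain ⟨b, hb⟩ := (Ideal.mem_span_range_iff_exists_fun).mp h1
  -- Step 2
  have h2 := h (fun i => if i = L then b L * f L else a i + b i * f L) (by
    rw [Fin.sum_univ_castSucc] at ha hb ⊢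
    have e1 : ∀ i : Fin r, (if Fin.castSucc i = L then b L * f L else a (Fin.castSucc i) + b (Fin.castSucc i) * f L)
        * f' (Fin.castSucc i) = a (Fin.castSucc i) * f (Fin.castSucc i) +
          f L * (b (Fin.castSucc i) * f' (Fin.castSucc i)) := by
      intro i
      have hi : Fin.castSucc i ≠ L := Fin.castSucc_ne_last i
      rw [if_neg hi, hf'ne _ hi]; ring
    rw [Finset.sum_congr rfl (fun i _ => e1 i), Finset.sum_add_distrib, ← Finset.mul_sum]
    rw [if_pos rfl, hf'L]
    rw [hf'L] at hb
    linear_combination ha + f (Fin.last r) * hb)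
  intro i
  by_cases hi : i = L
  · rw [hi]; exact hle h1
  · have h3 := h2 i
    rw [if_neg hi] at h3
    have h4 : b i * f L ∈ Ideal.span (Set.range f) := Ideal.mul_mem_left _ _ (Ideal.subset_span ⟨L, rfl⟩)
    have h5 := Ideal.sub_mem _ (hle h3) h4
    simpa using h5

end Groth.Agent.S1733
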