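import Groth.Statements.S17331
import Groth.Agent.Lib.Helper25Prime

set_option autoImplicit false
universe u v
open Hopf
open Groth.Agent.Lib.Helper25 TensorProduct

namespace Groth.Agent.S17331

/-- Let k be an algebraically closed field of characteristic p > 0, ℓ a prime, and A a commutative Hopf
algebra over k of dimension ℓ as a k-vector space (a finite group scheme G of prime order ℓ). If ℓ ≠
p then G ≅ ℤ/ℓ: A is isomorphic as a bialgebra to the algebra of k-valued functions on the cyclic
group of order ℓ. If ℓ = p then G is isomorphic to ℤ/p, μ_p or α_p: A is isomorphic as a bialgebra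
to the algebra of functions on the cyclic group of order p, to its group algebra (group elements
group-like), or to k[X]/(X^p) with X primitive. -/
theorem result (k : Type u) [Field k] [IsAlgClosed k]
    (p : ℕ) [Fact p.Prime] [CharP k p] (A : Type v) [CommRing A] [HopfAlgebra k A]
    (ℓ : ℕ) [Fact ℓ.Prime] (hA : Module.finrank k A = ℓ) :
    (ℓ ≠ p → Nonempty (A ≃ₐc[k] ConstGrp.F k (Multiplicative (ZMod ℓ)))) ∧
      (ℓ = p → Nonempty (A ≃ₐc[k] ConstGrp.F k (Multiplicative (ZMod p))) ∨
        Nonempty (A ≃ₐc[k] MonoidAlgebra k (Multiplicative (ZMod p))) ∨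
        Nonempty (A ≃ₐc[k] AlphaP.A p k)) := by
  classical
  have hcharp : CharP k p := inferInstance
  have hℓ : ℓ.Prime := Fact.out
  haveI : Module.Finite k A := Module.finite_of_finrank_pos (by rw [hA]; exact hℓ.pos)
  -- the étale case
  have hconst : ∀ (q : ℕ) [Fact q.Prime], Module.finrank k A = q → Nat.card (A →ₐ[k] k) = q →
      Nonempty (A ≃ₐc[k] ConstGrp.F k (Multiplicative (ZMod q))) := by
    intro q _ hq hc
    haveI : NeZero q := ⟨(Fact.out : q.Prime).ne_zero⟩
    have hG : Nat.card (Multiplicative (ZMod q)) = q := by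
      rw [Nat.card_eq_fintype_card, Fintype.card_multiplicative, ZMod.card]
    have hH : Nat.card (WithConv (A →ₐ[k] k)) = q := by
      rw [← hc]
      exact Nat.card_congr (WithConv.equiv _)
    exact Prime.nonempty_bialgEquiv_const (Multiplicative (ZMod q)) (by rw [hc, hq])
      (mulEquivOfPrimeCardEq hG hH)
  constructor
  · intro hne
    rcases Prime.card_points_or_nilpotent hℓ hA with hc | ⟨hchar, _⟩
    · exact hconst ℓ hA hc
    · exact absurd (CharP.eq k hchar hcharp) hne
  · intro heq
    subst heq
    rcases Prime.card_points_or_nilpotent hℓ hA with hc | ⟨_, hnil⟩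
    · exact Or.inl (hconst ℓ hA hc)
    · right
      obtain ⟨x, ξ, hξ, hx, hξx⟩ := Prime.exists_local_data ℓ hnil hA
      by_cases hl : Prime.phi ξ ℓ x = 0
      · right
        obtain ⟨a, hprim, ha0, hξa⟩ := Prime.exists_primitive ℓ hξ hx hξx hA hl
        exact Prime.nonempty_bialgEquiv_alphaP ℓ hξ hx hξx hA hprim ha0 hξa
      · left
        obtain ⟨g, hgl, hg1, hξg⟩ := Prime.exists_groupLike ℓ hξ hx hξx hA hl
        exact Prime.nonempty_bialgEquiv_muP ℓ hξ hx hξx hA hgl hg1 hξg

end Groth.Agent.S17331
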