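import Groth.Statements.S17332
import Mathlib

set_option autoImplicit false
universe u v w
open CAlg

namespace Groth.Agent.S17332

/-- Let k be a field, E and F finite sets, and O(E), O(F) the k-algebras of k-valued functions with
pointwise operations. Then every k-algebra homomorphism u : O(F) → O(E) is pull-back along a unique
map φ : E → F, i.e. u(g) = g ∘ φ for all g. (In the source k is algebraically closed; the printed
argument only uses that k is a field.) -/
theorem result (k : Type u) [Field k] (E : Type v) [Finite E]
    (F : Type w) [Finite F] (u : (F → k) →ₐ[k] (E → k)) :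
    ∃! φ : E → F, ∀ g : F → k, u g = g ∘ φ := by
  classical
  have : Fintype F := Fintype.ofFinite F
  have key : ∀ χ : (F → k) →ₐ[k] k, ∃ f₀ : F, (∀ g : F → k, χ g = g f₀) ∧
      ∀ f₁ : F, (∀ g : F → k, χ g = g f₁) → f₁ = f₀ := by
    intro χ
    have hsum : ∑ f : F, χ (Pi.single f (1 : k)) = 1 := by
      rw [← map_sum, Finset.univ_sum_single]
      exact map_one χ
    have hex : ∃ f₀ : F, χ (Pi.single f₀ (1 : k)) ≠ 0 := by
      by_contra hno
      push Not at hno
      rw [Finset.sum_eq_zero (fun f _ => hno f)] at hsum
      exact zero_ne_one hsum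
    obtain ⟨f₀, hf₀⟩ := hex
    have hother : ∀ f : F, f ≠ f₀ → χ (Pi.single f (1 : k)) = 0 := by
      intro f hf
      have h1 : χ (Pi.single f (1 : k)) * χ (Pi.single f₀ (1 : k)) = 0 := by
        rw [← map_mul]
        have : (Pi.single f (1 : k) * Pi.single f₀ (1 : k) : F → k) = 0 := by
          funext x
          simp only [Pi.mul_apply, Pi.single_apply, Pi.zero_apply]
          by_cases hx : x = f
          · have : ¬ x = f₀ := fun h => hf (hx ▸ h)
            simp [this]
          · simp [hx]
        rw [this, map_zero]
      exact (mul_eq_zero.mp h1).resolve_right hf₀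
    have hone : χ (Pi.single f₀ (1 : k)) = 1 := by
      rw [Finset.sum_eq_single f₀ (fun f _ hf => hother f hf)
        (fun h => absurd (Finset.mem_univ f₀) h)] at hsum
      exact hsum
    have hχ : ∀ g : F → k, χ g = g f₀ := by
      intro g
      have hg : g = ∑ f : F, g f • (Pi.single f (1 : k) : F → k) := by
        funext x
        simp [Finset.sum_apply, Pi.single_apply]
      conv_lhs => rw [hg]
      rw [map_sum, Finset.sum_eq_single f₀]
      · rw [map_smul, hone, smul_eq_mul, mul_one]
      · intro f _ hf
        rw [map_smul, hother f hf, smul_zero]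
      · intro h; exact absurd (Finset.mem_univ f₀) h
    refine ⟨f₀, hχ, ?_⟩
    intro f₁ h1
    by_contra hne
    have := h1 (Pi.single f₀ (1 : k))
    rw [hone, Pi.single_apply, if_neg hne] at this
    exact one_ne_zero this
  choose φ hφ hφu using fun e : E => key ((Pi.evalAlgHom k (fun _ : E => k) e).comp u)
  refine ⟨φ, ?_, ?_⟩
  · intro g
    funext e
    exact hφ e g
  · intro φ' hφ'
    funext e
    apply hφu e
    intro g
    have := congrFun (hφ' g) e
    simpa using this

end Groth.Agent.S17332
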