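import Groth.Statements.S17334
import Mathlib

set_option autoImplicit false
universe u v
open CAlg

namespace Groth.Agent.S17334

/-- Let k be a field and A a nonzero commutative k-algebra which is finite-dimensional as a k-vector
space. Then A is indecomposable (no decomposition as a product of two nonzero rings, i.e. no
idempotent other than 0 and 1) if and only if A is a local ring. (In the source k is algebraically
closed and the lemma adds that the maximal ideal is then the nilradical, is nilpotent, and has
residue field k; the equivalence itself uses only that k is a field, and the zero algebra is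
excluded here explicitly.) -/
theorem result (k : Type u) [Field k]
    (A : Type v) [CommRing A] [Algebra k A] [Module.Finite k A] [Nontrivial A] :
    (∀ e : A, IsIdempotentElem e → e = 0 ∨ e = 1) ↔ IsLocalRing A := by
  have hart : IsArtinianRing A := IsArtinianRing.of_finite k A
  constructor
  · intro hidem
    apply IsLocalRing.of_isUnit_or_isUnit_one_sub_self
    intro a
    obtain ⟨n, y, hy⟩ := IsArtinian.exists_pow_succ_smul_dvd a (1 : A)
    have hy' : a ^ n = a ^ n * (a * y) := by
      have : a ^ (n + 1) * y = a ^ n := by simpa using hy
      calc a ^ n = a ^ (n + 1) * y := this.symm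
        _ = a ^ n * (a * y) := by ring
    have hpow : ∀ j : ℕ, a ^ n = a ^ n * (a * y) ^ j := by
      intro j
      induction j with
      | zero => simp
      | succ j ih =>
        rw [pow_succ, ← mul_assoc, ← ih, ← hy']
    have hidem_e : IsIdempotentElem (a ^ n * y ^ n) := by
      unfold IsIdempotentElem
      have h2 := hpow n
      calc a ^ n * y ^ n * (a ^ n * y ^ n) = (a ^ n * (a * y) ^ n) * y ^ n := by ring
        _ = a ^ n * y ^ n := by rw [← h2]
    rcases hidem _ hidem_e with h0 | h1
    · right
      apply IsNilpotent.isUnit_one_sub
      refine ⟨n, ?_⟩
      have h2 := hpow n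
      rw [mul_pow, ← mul_assoc] at h2
      have h3 : a ^ n * a ^ n * y ^ n = a ^ n * (a ^ n * y ^ n) := by ring
      rw [h2, h3, h0, mul_zero]
    · left
      have hu : IsUnit (a ^ n) := IsUnit.of_mul_eq_one _ h1
      have h2 : a ^ n * 1 = a ^ n * (a * y) := by rw [mul_one]; exact hy'
      have h3 : 1 = a * y := hu.mul_left_cancel h2
      exact IsUnit.of_mul_eq_one y h3.symm
  · intro hloc e he
    have h1 : e * (1 - e) = 0 := by
      rw [mul_sub, mul_one, he.eq, sub_self]
    rcases IsLocalRing.isUnit_or_isUnit_one_sub_self e with hu | hu
    · right
      have : 1 - e = 0 := hu.mul_left_cancel (by rw [h1, mul_zero])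
      exact (sub_eq_zero.mp this).symm
    · left
      have h2 : (1 - e) * e = 0 := by rw [mul_comm]; exact h1
      exact hu.mul_left_cancel (by rw [h2, mul_zero])

end Groth.Agent.S17334
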