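import Groth.Statements.S17335
import Mathlib

set_option autoImplicit false
universe u v
open CAlg

namespace Groth.Agent.S17335

/-- Let k be an algebraically closed field and A a commutative k-algebra which is finite-dimensional as
a k-vector space, and let E be the set of k-algebra homomorphisms A → k. Then E is finite, and the
evaluation homomorphism A → O(E) = (E → k), a ↦ (f ↦ f(a)), is surjective with kernel the nilradical
of A; it therefore induces an isomorphism of A_red = A/nilradical(A) onto O(E). -/
theorem result (k : Type u) [Field k]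
    [IsAlgClosed k] (A : Type v) [CommRing A] [Algebra k A] [Module.Finite k A] :
    Finite (A →ₐ[k] k) ∧
      Function.Surjective (AlgHom.pi (R := k) (fun f : A →ₐ[k] k => f)) ∧
      RingHom.ker (AlgHom.pi (R := k) (fun f : A →ₐ[k] k => f)) = nilradical A := by
  classical
  have hfin : Finite (A →ₐ[k] k) := inferInstance
  have : Fintype (A →ₐ[k] k) := Fintype.ofFinite _
  refine ⟨hfin, ?_, ?_⟩
  · -- surjectivity through linear independence of characters
    by_contra hns
    have hlt : LinearMap.range (AlgHom.pi (R := k) (fun f : A →ₐ[k] k => f)).toLinearMap < ⊤ := by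
      rw [lt_top_iff_ne_top]
      intro htop
      apply hns
      intro y
      have : y ∈ LinearMap.range (AlgHom.pi (R := k) (fun f : A →ₐ[k] k => f)).toLinearMap := by
        rw [htop]; exact Submodule.mem_top
      obtain ⟨x, hx⟩ := this
      exact ⟨x, hx⟩
    obtain ⟨lam, hlam0, hlam⟩ := Submodule.exists_le_ker_of_lt_top _ hlt
    apply hlam0
    have hli := linearIndependent_algHom_toLinearMap k A k
    rw [Fintype.linearIndependent_iff] at hli
    have hcoef := hli (fun f => lam (fun j => if f = j then 1 else 0)) (by
      apply LinearMap.ext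
      intro a
      have h1 : lam ((AlgHom.pi (R := k) (fun f : A →ₐ[k] k => f)) a) = 0 :=
        hlam ⟨a, rfl⟩
      rw [LinearMap.pi_apply_eq_sum_univ] at h1
      rw [LinearMap.sum_apply, LinearMap.zero_apply]
      refine Eq.trans (Finset.sum_congr rfl (fun f _ => ?_)) h1
      rw [LinearMap.smul_apply, smul_eq_mul, smul_eq_mul, mul_comm]
      rfl)
    apply LinearMap.ext
    intro y
    rw [LinearMap.pi_apply_eq_sum_univ, LinearMap.zero_apply]
    exact Finset.sum_eq_zero (fun f _ => by rw [hcoef f, smul_zero])
  · ext a
    rw [RingHom.mem_ker, mem_nilradical]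
    constructor
    · intro ha
      by_contra hnil
      -- find a prime not containing a
      have hex : ∃ P : Ideal A, P.IsPrime ∧ a ∉ P := by
        have : a ∉ nilradical A := hnil
        rw [nilradical_eq_sInf, Submodule.mem_sInf] at this
        push Not at this
        obtain ⟨P, hP, haP⟩ := this
        exact ⟨P, hP, haP⟩
      obtain ⟨P, hPprime, haP⟩ := hex
      have hbij := IsAlgClosed.algebraMap_bijective_of_isIntegral (k := k) (K := A ⧸ P)
      let e : k ≃ₐ[k] (A ⧸ P) := AlgEquiv.ofBijective (Algebra.ofId k (A ⧸ P)) hbij
      let f : A →ₐ[k] k := (e.symm : (A ⧸ P) →ₐ[k] k).comp (Ideal.Quotient.mkₐ k P)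
      have hfa : f a = 0 := congrFun ha f
      have h2 : Ideal.Quotient.mk P a = 0 := by
        have h3 : e.symm (Ideal.Quotient.mk P a) = 0 := hfa
        have := congrArg e h3
        rwa [AlgEquiv.apply_symm_apply, map_zero] at this
      exact haP (Ideal.Quotient.eq_zero_iff_mem.mp h2)
    · intro ha
      funext f
      have h1 : IsNilpotent (f a) := ha.map f
      exact h1.eq_zero

end Groth.Agent.S17335
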