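import Groth.Statements.S17336
import Mathlib

set_option autoImplicit false
universe u v
open CAlg

namespace Groth.Agent.S17336

/-- Let k be an algebraically closed field and A a commutative k-algebra which is finite-dimensional as
a k-vector space (a finite scheme X = Spec A with largest reduced subscheme X_red = Spec
(A/nilradical A) and immersion i : X_red → X). Then there is a unique morphism r : X → X_red with r
∘ i = id; on rings: the projection A → A/nilradical(A) admits exactly one section that is a
k-algebra homomorphism. -/
theorem result (k : Type u) [Field k]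
    [IsAlgClosed k] (A : Type v) [CommRing A] [Algebra k A] [Module.Finite k A] :
    ∃! s : (A ⧸ nilradical A) →ₐ[k] A,
      (Ideal.Quotient.mkₐ k (nilradical A)).comp s = AlgHom.id k (A ⧸ nilradical A) := by
  classical
  have hAnoeth : IsNoetherianRing A := IsNoetherianRing.of_finite k A
  have hBred : IsReduced (A ⧸ nilradical A) :=
    (Ideal.isRadical_iff_quotient_reduced _).mp (Ideal.radical_isRadical _)
  have hBart : IsArtinianRing (A ⧸ nilradical A) := isArtinian_of_tower k inferInstance
  -- B is formally étale over k
  have hBet : Algebra.FormallyEtale k (A ⧸ nilradical A) := by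
    letI _ (m : MaximalSpectrum (A ⧸ nilradical A)) : Field ((A ⧸ nilradical A) ⧸ m.asIdeal) :=
      Ideal.Quotient.field m.asIdeal
    rw [Algebra.FormallyEtale.iff_exists_algEquiv_prod]
    refine ⟨_, inferInstance, _, _, _,
      (IsArtinianRing.equivPi (A ⧸ nilradical A)).restrictScalars k, fun I => ?_⟩
    exact Algebra.IsAlgebraic.isSeparable_of_perfectField
  have hsurj : Function.Surjective (Ideal.Quotient.mkₐ k (nilradical A)) :=
    Ideal.Quotient.mkₐ_surjective k _
  have hnil : IsNilpotent (RingHom.ker
      ((Ideal.Quotient.mkₐ k (nilradical A) : A →ₐ[k] A ⧸ nilradical A) : A →+* A ⧸ nilradical A)) := by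
    have : RingHom.ker ((Ideal.Quotient.mkₐ k (nilradical A) : A →ₐ[k] A ⧸ nilradical A) :
        A →+* A ⧸ nilradical A) = nilradical A := by
      ext x
      simp [RingHom.mem_ker, Ideal.Quotient.eq_zero_iff_mem]
    rw [this]
    exact IsNoetherianRing.isNilpotent_nilradical A
  refine ⟨Algebra.FormallySmooth.liftOfSurjective (AlgHom.id k (A ⧸ nilradical A))
    (Ideal.Quotient.mkₐ k (nilradical A)) hsurj hnil, ?_, ?_⟩
  · exact Algebra.FormallySmooth.comp_liftOfSurjective _ _ hsurj hnil
  · intro s hs
    apply Algebra.FormallyUnramified.lift_unique' (Ideal.Quotient.mkₐ k (nilradical A)) hnil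
    rw [hs, Algebra.FormallySmooth.comp_liftOfSurjective]

end Groth.Agent.S17336
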