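import Groth.Statements.S1734
import Mathlib

set_option autoImplicit false
universe u
open LocCoh

namespace Groth.Agent.S1734

/-- Let f_1, …, f_r, g be elements of a ring A (r ≥ 1) such that f_1, …, f_{r-1}, f_r g is independent
and A/(f_1, …, f_{r-1}, f_r g) has finite length. Then length A/(f_1, …, f_{r-1}, f_r g) = length
A/(f_1, …, f_r) + length A/(f_1, …, f_{r-1}, g). -/
theorem result (A : Type u) [CommRing A] (r : ℕ) (f : Fin (r + 1) → A) (g : A) (h : Dual2.Independent (Function.update f (Fin.last r) (f (Fin.last r) * g))) (hfin : IsFiniteLength A (A ⧸ Ideal.span (Set.range (Function.update f (Fin.last r) (f (Fin.last r) * g))))) : Module.length A (A ⧸ Ideal.span (Set.range (Function.update f (Fin.last r) (f (Fin.last r) * g)))) = Module.length A (A ⧸ Ideal.span (Set.range f)) + Module.length A (A ⧸ Ideal.span (Set.range (Function.update f (Fin.last r) g))) := by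
  classical
  set L := Fin.last r with hL
  set f' := Function.update f L (f L * g) with hf'
  set f'' := Function.update f L g with hf''
  have hf'L : f' L = f L * g := Function.update_self ..
  have hf'ne : ∀ i, i ≠ L → f' i = f i := fun i hi => Function.update_of_ne hi ..
  have hf''L : f'' L = g := Function.update_self ..
  have hf''ne : ∀ i, i ≠ L → f'' i = f i := fun i hi => Function.update_of_ne hi ..
  set I' := Ideal.span (Set.range f') with hI'
  set I := Ideal.span (Set.range f) with hI
  set I'' := Ideal.span (Set.range f'') with hI''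
  have hmem' : ∀ i, i ≠ L → f i ∈ I' := fun i hi => by
    rw [← hf'ne i hi]; exact Ideal.subset_span ⟨i, rfl⟩
  have hmem'' : ∀ i, i ≠ L → f i ∈ I'' := fun i hi => by
    rw [← hf''ne i hi]; exact Ideal.subset_span ⟨i, rfl⟩
  have hgI'' : g ∈ I'' := by rw [← hf''L]; exact Ideal.subset_span ⟨L, rfl⟩
  have hle : I' ≤ I := by
    rw [hI', Ideal.span_le]
    rintro _ ⟨i, rfl⟩
    by_cases hi : i = L
    · rw [hi, hf'L]
      exact Ideal.mul_mem_right _ _ (Ideal.subset_span ⟨L, rfl⟩)
    · rw [hf'ne i hi]
      exact Ideal.subset_span ⟨i, rfl⟩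
  have hle'' : I' ≤ I'' := by
    rw [hI', Ideal.span_le]
    rintro _ ⟨i, rfl⟩
    by_cases hi : i = L
    · rw [hi, hf'L]
      exact Ideal.mul_mem_left _ _ hgI''
    · rw [hf'ne i hi]
      exact hmem'' i hi
  -- multiplication by `f L` maps `I''` into `I'`
  have hmul : ∀ x ∈ I'', f L * x ∈ I' := by
    intro x hx
    refine Submodule.span_induction ?_ ?_ ?_ ?_ hx
    · rintro _ ⟨i, rfl⟩
      by_cases hi : i = L
      · rw [hi, hf''L, ← hf'L]; exact Ideal.subset_span ⟨L, rfl⟩
      · rw [hf''ne i hi]; exact Ideal.mul_mem_left _ _ (hmem' i hi)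
    · simp
    · intro x y _ _ hx hy; rw [mul_add]; exact Ideal.add_mem _ hx hy
    · intro a x _ hx; rw [smul_eq_mul, mul_left_comm]; exact Ideal.mul_mem_left _ _ hx
  -- the key use of independence
  have hker : ∀ x, f L * x ∈ I' → x ∈ I'' := by
    intro x hx
    obtain ⟨c, hc⟩ := (Ideal.mem_span_range_iff_exists_fun).mp hx
    have := h (fun i => if i = L then c L * g - x else c i * g) (by
      rw [Fin.sum_univ_castSucc] at hc ⊢
      have e1 : ∀ i : Fin r, (if Fin.castSucc i = L then c L * g - x else c (Fin.castSucc i) * g)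
          * f' (Fin.castSucc i) = g * (c (Fin.castSucc i) * f' (Fin.castSucc i)) := by
        intro i
        rw [if_neg (Fin.castSucc_ne_last i)]; ring
      rw [Finset.sum_congr rfl (fun i _ => e1 i), ← Finset.mul_sum, if_pos rfl, hf'L]
      rw [hf'L] at hc
      linear_combination g * hc) L
    rw [if_pos rfl] at this
    have h2 : c L * g ∈ I'' := Ideal.mul_mem_left _ _ hgI''
    have h3 := Ideal.sub_mem _ h2 (hle'' this)
    simpa using h3
  -- the maps
  let φ : (A ⧸ I'') →ₗ[A] (A ⧸ I') :=
    Submodule.liftQ I'' ((Submodule.mkQ I').comp (LinearMap.mulLeft A (f L))) (by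
      intro x hx
      rw [LinearMap.mem_ker, LinearMap.comp_apply, LinearMap.mulLeft_apply, Submodule.mkQ_apply,
        Submodule.Quotient.mk_eq_zero]
      exact hmul x hx)
  let ψ : (A ⧸ I') →ₗ[A] (A ⧸ I) := Submodule.mapQ I' I LinearMap.id (by simpa using hle)
  have hφ : ∀ x : A, φ (Submodule.Quotient.mk x) = Submodule.Quotient.mk (f L * x) := fun x => rfl
  have hψ : ∀ x : A, ψ (Submodule.Quotient.mk x) = Submodule.Quotient.mk x := fun x => rfl
  have hφinj : Function.Injective φ := by
    rw [← LinearMap.ker_eq_bot, eq_bot_iff]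
    intro y hy
    obtain ⟨x, rfl⟩ := Submodule.Quotient.mk_surjective _ y
    rw [LinearMap.mem_ker, hφ, Submodule.Quotient.mk_eq_zero] at hy
    rw [Submodule.mem_bot, Submodule.Quotient.mk_eq_zero]
    exact hker x hy
  have hψsurj : Function.Surjective ψ := by
    intro y
    obtain ⟨x, rfl⟩ := Submodule.Quotient.mk_surjective _ y
    exact ⟨Submodule.Quotient.mk x, hψ x⟩
  have hex : Function.Exact φ ψ := by
    intro y
    constructor
    · intro hy
      obtain ⟨x, rfl⟩ := Submodule.Quotient.mk_surjective _ y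
      rw [hψ, Submodule.Quotient.mk_eq_zero] at hy
      -- x ∈ I = I' + (f L)
      have hsup : I ≤ I' ⊔ Ideal.span {f L} := by
        rw [hI, Ideal.span_le]
        rintro _ ⟨i, rfl⟩
        by_cases hi : i = L
        · rw [hi]; exact Submodule.mem_sup_right (Ideal.subset_span rfl)
        · exact Submodule.mem_sup_left (hmem' i hi)
      obtain ⟨y', hy', z, hz, rfl⟩ := Submodule.mem_sup.mp (hsup hy)
      obtain ⟨c, rfl⟩ := Ideal.mem_span_singleton'.mp hz
      refine ⟨Submodule.Quotient.mk c, ?_⟩
      rw [hφ, Submodule.Quotient.eq]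
      have : f L * c - (y' + c * f L) = -y' := by ring
      rw [this]
      exact Submodule.neg_mem _ hy'
    · rintro ⟨z, rfl⟩
      obtain ⟨x, rfl⟩ := Submodule.Quotient.mk_surjective _ z
      rw [hφ, hψ, Submodule.Quotient.mk_eq_zero]
      exact Ideal.mul_mem_right _ _ (Ideal.subset_span ⟨L, rfl⟩)
  rw [Module.length_eq_add_of_exact φ ψ hφinj hψsurj hex, add_comm]

end Groth.Agent.S1734
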