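import Groth.Statements.S17357
import Groth.Agent.Lib.Helper19SemiSND
import Groth.Agent.Lib.Helper19ZarGlue

set_option autoImplicit false
universe u v w
open scoped TensorProduct
open AzInv

namespace Groth.Agent.S17357

/-- Let `R` be a commutative ring with an involution `lam` whose fixed ring is exactly `S`, let `A` be
an Azumaya `R`-algebra of degree `n ≥ 1` and `ψ` an `R`-algebra automorphism of `A`. Then `ψ`
becomes an inner automorphism after base change along an etale covering of `S` (and not merely of
`R`): there are an etale faithfully flat `S`-algebra `S'` and a unit `u` of `S' ⊗_S A` such that `id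
⊗ ψ` is `x ↦ u x u⁻¹`. (The source states this for a good quotient of schemes by an involution; the
row is the affine case `Spec R → Spec S`.) -/
theorem result (S : Type u) (R : Type v) [CommRing S] [CommRing R] [Algebra S R]
    (lam : R ≃ₐ[S] R) (hlam : ∀ r, lam (lam r) = r) (hfix : RInv.IsFixedRing S R lam.toRingEquiv)
    (A : Type w) [Ring A] [Algebra S A] [Algebra R A] [IsScalarTower S R A]
    (n : ℕ) (hn : 0 < n) (hA : AzInv.IsAzumayaDeg R A n) (ψ : A ≃ₐ[R] A) :
    ∃ (S' : Type u) (_ : CommRing S') (_ : Algebra S S') (_ : Algebra.Etale S S')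
      (_ : Module.FaithfullyFlat S S') (u : (S' ⊗[S] A)ˣ),
      ∀ x : S' ⊗[S] A,
        Algebra.TensorProduct.congr (AlgEquiv.refl : S' ≃ₐ[S'] S') (ψ.restrictScalars S) x =
          ↑u * x * ↑u⁻¹ := by
  classical
  open Groth.Agent.Lib.Helper19SemiSN Groth.Agent.Lib.Helper19ZarGlue in
  haveI : IsAzumaya R A := hA.1
  -- the set of `b` over which `ψ` is inner
  let P : S → Prop := fun b => ∃ u : (Localization.Away b ⊗[S] A)ˣ,
      ∀ x : Localization.Away b ⊗[S] A,
        Algebra.TensorProduct.congr
          (AlgEquiv.refl : Localization.Away b ≃ₐ[Localization.Away b] Localization.Away b)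
          (ψ.restrictScalars S) x = ↑u * x * ↑u⁻¹
  have hspan : Ideal.span {b : S | P b} = ⊤ := by
    by_contra hne
    obtain ⟨m, hm, hle⟩ := Ideal.exists_le_maximal _ hne
    haveI := hm.isPrime
    obtain ⟨b, hb, u, hu⟩ := exists_away_unit_conj lam hlam hfix ψ m
    exact hb (hle (Ideal.subset_span ⟨u, hu⟩))
  obtain ⟨F, hF, hFtop⟩ := (Ideal.span_eq_top_iff_finite _).mp hspan
  let e := F.equivFin
  let b : Fin F.card → S := fun i => ((e.symm i : F) : S)
  have hbP : ∀ i, P (b i) := fun i => hF (e.symm i).2
  have hbtop : Ideal.span (Set.range b) = ⊤ := by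
    rw [eq_top_iff, ← hFtop]
    apply Ideal.span_mono
    intro x hx
    exact ⟨e ⟨x, hx⟩, by simp [b]⟩
  choose u hu using hbP
  haveI : Module.FaithfullyFlat S (∀ i, Localization.Away (b i)) := faithfullyFlat_pi b hbtop
  obtain ⟨U, hU⟩ := exists_unit (fun i => Localization.Away (b i)) A u
  refine ⟨∀ i, Localization.Away (b i), inferInstance, inferInstance, inferInstance, inferInstance,
    U, fun x => ?_⟩
  apply proj_injective (fun i => Localization.Away (b i)) A
  intro i
  have hnat : ∀ y : (∀ i, Localization.Away (b i)) ⊗[S] A,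
      proj (fun i => Localization.Away (b i)) A i
        (Algebra.TensorProduct.congr
          (AlgEquiv.refl : (∀ i, Localization.Away (b i)) ≃ₐ[∀ i, Localization.Away (b i)] _)
          (ψ.restrictScalars S) y) =
      Algebra.TensorProduct.congr
          (AlgEquiv.refl : Localization.Away (b i) ≃ₐ[Localization.Away (b i)] _)
          (ψ.restrictScalars S) (proj (fun i => Localization.Away (b i)) A i y) := by
    intro y
    induction y using TensorProduct.induction_on with
    | zero => simp
    | tmul s a => simp
    | add y z hy hz => rw [map_add, map_add, hy, hz, map_add, map_add]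
  rw [hnat, hu i, map_mul, map_mul, (hU i).1, (hU i).2]

end Groth.Agent.S17357
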