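import Groth.Statements.S17355
import Groth.Agent.Lib.Helper19SemiSNF
import Groth.Agent.S17357

set_option autoImplicit false
universe u v w
open scoped TensorProduct
open AzInv

namespace Groth.Agent.S17355

/-- Let `R` be a commutative ring with an involution `lam` whose fixed ring is exactly `S`, assume that
units have square roots locally for the etale topology of `S` (every unit of an etale `S`-algebra
becomes a square in some etale faithfully flat extension), and let `A` be an Azumaya `R`-algebra of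
degree `n ≥ 1` with a `lam`-involution `t`. Then every `R`-algebra automorphism `ψ` of `A` that
commutes with `t` is, locally for the etale topology of `S`, conjugation by a unitary element: there
are an etale faithfully flat `S`-algebra `S'` and a unit `u` of `S' ⊗_S A` with `(id ⊗ t)(u) * u =
1` such that `id ⊗ ψ` is `x ↦ u x u⁻¹` (the map from the unitary group to the automorphism sheaf of
`(A, t)` is an epimorphism). This row states the surjectivity part only; the published statement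
also identifies the kernel of the map from the unitary group as the group of norm-one elements of
`R` (the units `r` of `R` with `lam r * r = 1`), so that the projective unitary group of `(A, t)` is
its automorphism sheaf. (The source states this for an exact quotient of a locally ringed topos with
involution; the row is the affine case `Spec R → Spec S`, with etale coverings of `Spec S` replaced
by a single etale faithfully flat `S`-algebra.) -/
theorem result (S : Type u) (R : Type v) [CommRing S] [CommRing R] [Algebra S R]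
    (lam : R ≃ₐ[S] R) (hlam : ∀ r, lam (lam r) = r) (hfix : RInv.IsFixedRing S R lam.toRingEquiv)
    (hsq : ∀ (S₁ : Type u) [CommRing S₁] [Algebra S S₁] [Algebra.Etale S S₁] (x : S₁ˣ),
      ∃ (S₂ : Type u) (_ : CommRing S₂) (_ : Algebra S₁ S₂) (_ : Algebra.Etale S₁ S₂)
        (_ : Module.FaithfullyFlat S₁ S₂) (y : S₂), y * y = algebraMap S₁ S₂ ↑x)
    (A : Type w) [Ring A] [Algebra S A] [Algebra R A] [IsScalarTower S R A]
    (n : ℕ) (hn : 0 < n) (hA : AzInv.IsAzumayaDeg R A n) (t : AzInv.LamInv R A lam)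
    (ψ : A ≃ₐ[R] A) (hψ : AzInv.IsInvHom t t ψ) :
    ∃ (S' : Type u) (_ : CommRing S') (_ : Algebra S S') (_ : Algebra.Etale S S')
      (_ : Module.FaithfullyFlat S S') (u : (S' ⊗[S] A)ˣ),
      t.bc S lam S' (↑u : S' ⊗[S] A) * ↑u = 1 ∧
        ∀ x : S' ⊗[S] A,
          Algebra.TensorProduct.congr (AlgEquiv.refl : S' ≃ₐ[S'] S') (ψ.restrictScalars S) x =
            ↑u * x * ↑u⁻¹ := by
  classical
  open Groth.Agent.Lib.Helper19SemiSN in
  haveI : IsAzumaya R A := hA.1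
  obtain ⟨S₁, _, _, _, _, u₁, hu₁⟩ := Groth.Agent.S17357.result S R lam hlam hfix A n hn hA ψ
  have e1 : ∀ (s' : S₁) (a' : A), Algebra.TensorProduct.congr (AlgEquiv.refl : S₁ ≃ₐ[S₁] S₁)
      (ψ.restrictScalars S) (s' ⊗ₜ[S] a') = s' ⊗ₜ[S] ψ a' := fun s' a' => by
    rw [Algebra.TensorProduct.congr_apply, Algebra.TensorProduct.map_tmul]; rfl
  -- compatibility of the base-changed involution with the base-changed automorphism
  have hψt : ∀ x : S₁ ⊗[S] A,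
      Algebra.TensorProduct.congr (AlgEquiv.refl : S₁ ≃ₐ[S₁] S₁) (ψ.restrictScalars S)
        (t.bc S lam S₁ x) =
      t.bc S lam S₁ (Algebra.TensorProduct.congr (AlgEquiv.refl : S₁ ≃ₐ[S₁] S₁)
        (ψ.restrictScalars S) x) := by
    intro x
    induction x using TensorProduct.induction_on with
    | zero => simp
    | tmul s a =>
      rw [LamInv.bc_tmul, e1, e1, LamInv.bc_tmul, hψ a]
    | add x y hx hy => simp only [map_add, hx, hy]
  have hinv : t.bc S lam S₁ ((u₁⁻¹ : (S₁ ⊗[S] A)ˣ) : S₁ ⊗[S] A) * t.bc S lam S₁ (u₁ : S₁ ⊗[S] A) = 1 := by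
    rw [← bc_mul, Units.mul_inv, bc_one]
  have hinv' : t.bc S lam S₁ (u₁ : S₁ ⊗[S] A) * t.bc S lam S₁ ((u₁⁻¹ : (S₁ ⊗[S] A)ˣ) : S₁ ⊗[S] A) = 1 := by
    rw [← bc_mul, Units.inv_mul, bc_one]
  set c : S₁ ⊗[S] A := t.bc S lam S₁ (u₁ : S₁ ⊗[S] A) * u₁ with hc
  set d : S₁ ⊗[S] A := ((u₁⁻¹ : (S₁ ⊗[S] A)ˣ) : S₁ ⊗[S] A) *
    t.bc S lam S₁ ((u₁⁻¹ : (S₁ ⊗[S] A)ˣ) : S₁ ⊗[S] A) with hd
  have hcd : c * d = 1 := by
    rw [hc, hd, mul_assoc, ← mul_assoc (u₁ : S₁ ⊗[S] A), Units.mul_inv, one_mul, hinv']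
  have hdc : d * c = 1 := by
    rw [hc, hd, mul_assoc, ← mul_assoc (t.bc S lam S₁ _), hinv, one_mul, Units.inv_mul]
  have hcc : ∀ x, c * x = x * c := by
    intro x
    obtain ⟨y, rfl⟩ : ∃ y, x = t.bc S lam S₁ y := ⟨t.bc S lam S₁ x, (bc_bc lam t S₁ x).symm⟩
    have h1 := hψt y
    rw [hu₁, hu₁, bc_mul, bc_mul] at h1
    calc c * t.bc S lam S₁ y
        = t.bc S lam S₁ (u₁ : S₁ ⊗[S] A) *
            ((u₁ : S₁ ⊗[S] A) * t.bc S lam S₁ y * ((u₁⁻¹ : (S₁ ⊗[S] A)ˣ) : S₁ ⊗[S] A)) * u₁ := by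
          rw [hc]
          simp only [mul_assoc, Units.inv_mul, mul_one]
      _ = t.bc S lam S₁ (u₁ : S₁ ⊗[S] A) *
            (t.bc S lam S₁ ((u₁⁻¹ : (S₁ ⊗[S] A)ˣ) : S₁ ⊗[S] A) *
              (t.bc S lam S₁ y * t.bc S lam S₁ (u₁ : S₁ ⊗[S] A))) * u₁ := by rw [h1]
      _ = t.bc S lam S₁ y * c := by
          rw [← mul_assoc (t.bc S lam S₁ (u₁ : S₁ ⊗[S] A)), hinv', one_mul, hc, mul_assoc]
  have hdd : ∀ x, d * x = x * d := by
    intro x
    calc d * x = d * x * (c * d) := by rw [hcd, mul_one]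
      _ = d * (x * c) * d := by simp only [mul_assoc]
      _ = d * (c * x) * d := by rw [hcc x]
      _ = (d * c) * x * d := by simp only [mul_assoc]
      _ = x * d := by rw [hdc, one_mul]
  have htc : t.bc S lam S₁ c = c := by
    rw [hc, bc_mul, bc_bc]
  have htd : t.bc S lam S₁ d = d := by
    rw [hd, bc_mul, bc_bc]
  obtain ⟨s₀, hs₀⟩ := exists_tmul_one_eq lam hlam hfix t S₁ c hcc htc
  obtain ⟨s₀', hs₀'⟩ := exists_tmul_one_eq lam hlam hfix t S₁ d hdd htd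
  have hss : s₀ * s₀' = 1 := by
    apply tmul_one_injective lam hlam hfix (A := A) S₁
    rw [← Algebra.TensorProduct.one_def, ← hcd, hs₀, hs₀', Algebra.TensorProduct.tmul_mul_tmul,
      mul_one]
  obtain ⟨S₂, _, _, _, _, y, hy⟩ := hsq S₁ (⟨s₀, s₀', hss, by rw [mul_comm]; exact hss⟩ : S₁ˣ)
  change y * y = algebraMap S₁ S₂ s₀ at hy
  letI : Algebra S S₂ := ((algebraMap S₁ S₂).comp (algebraMap S S₁)).toAlgebra
  haveI : IsScalarTower S S₁ S₂ := IsScalarTower.of_algebraMap_eq (fun _ => rfl)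
  haveI : Algebra.Etale S S₂ := Algebra.Etale.comp S S₁ S₂
  haveI : Module.FaithfullyFlat S S₂ := Module.FaithfullyFlat.trans S S₁ S₂
  have hyu : IsUnit y := by
    have h1 : IsUnit (y * y) := by
      rw [hy]
      exact (IsUnit.of_mul_eq_one _ hss).map _
    exact isUnit_of_mul_isUnit_left h1
  obtain ⟨yu, hyu⟩ := hyu
  let β : S₁ ⊗[S] A →ₐ[S] S₂ ⊗[S] A :=
    Algebra.TensorProduct.map (IsScalarTower.toAlgHom S S₁ S₂) (AlgHom.id S A)
  have hβ : ∀ (s : S₁) (a : A), β (s ⊗ₜ[S] a) = algebraMap S₁ S₂ s ⊗ₜ[S] a := fun s a => rfl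
  have hβt : ∀ x : S₁ ⊗[S] A, t.bc S lam S₂ (β x) = β (t.bc S lam S₁ x) := by
    intro x
    induction x using TensorProduct.induction_on with
    | zero => simp
    | tmul s a => rw [hβ, LamInv.bc_tmul, LamInv.bc_tmul, hβ]
    | add x z hx hz => simp only [map_add, hx, hz]
  let Y : (S₂ ⊗[S] A)ˣ :=
    Units.map (Algebra.TensorProduct.includeLeft : S₂ →ₐ[S] S₂ ⊗[S] A).toRingHom.toMonoidHom yu
  have hY : (Y : S₂ ⊗[S] A) = y ⊗ₜ[S] (1 : A) := by rw [← hyu]; rfl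
  have hYi : ((Y⁻¹ : (S₂ ⊗[S] A)ˣ) : S₂ ⊗[S] A) = ((yu⁻¹ : S₂ˣ) : S₂) ⊗ₜ[S] (1 : A) := rfl
  let Bu : (S₂ ⊗[S] A)ˣ := Units.map β.toRingHom.toMonoidHom u₁
  have hBu : (Bu : S₂ ⊗[S] A) = β (u₁ : S₁ ⊗[S] A) := rfl
  have hBui : ((Bu⁻¹ : (S₂ ⊗[S] A)ˣ) : S₂ ⊗[S] A) = β ((u₁⁻¹ : (S₁ ⊗[S] A)ˣ) : S₁ ⊗[S] A) := rfl
  refine ⟨S₂, inferInstance, inferInstance, inferInstance, inferInstance, Bu * Y⁻¹, ?_, ?_⟩
  · rw [Units.val_mul, hBu, hYi, bc_mul, LamInv.bc_tmul, t.map_one, hβt]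
    have h1 : ((yu⁻¹ : S₂ˣ) : S₂) ⊗ₜ[S] (1 : A) * β (t.bc S lam S₁ (u₁ : S₁ ⊗[S] A)) *
        (β (u₁ : S₁ ⊗[S] A) * ((yu⁻¹ : S₂ˣ) : S₂) ⊗ₜ[S] (1 : A)) =
        ((yu⁻¹ : S₂ˣ) : S₂) ⊗ₜ[S] (1 : A) * β c * (((yu⁻¹ : S₂ˣ) : S₂) ⊗ₜ[S] (1 : A)) := by
      rw [hc, map_mul]
      simp only [mul_assoc]
    rw [h1, hs₀, hβ, Algebra.TensorProduct.tmul_mul_tmul, Algebra.TensorProduct.tmul_mul_tmul,
      mul_one, mul_one, ← hy, ← hyu]
    rw [show ((yu⁻¹ : S₂ˣ) : S₂) * ((yu : S₂) * (yu : S₂)) * ((yu⁻¹ : S₂ˣ) : S₂) = 1 by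
      rw [← mul_assoc, Units.inv_mul, one_mul, Units.mul_inv]]
    rfl
  · intro x
    have hconj : ∀ z : S₂ ⊗[S] A,
        ((Bu * Y⁻¹ : (S₂ ⊗[S] A)ˣ) : S₂ ⊗[S] A) * z * (((Bu * Y⁻¹)⁻¹ : (S₂ ⊗[S] A)ˣ) : S₂ ⊗[S] A) =
        (Bu : S₂ ⊗[S] A) * z * ((Bu⁻¹ : (S₂ ⊗[S] A)ˣ) : S₂ ⊗[S] A) := by
      intro z
      have hYc : ∀ w : S₂ ⊗[S] A, ((Y⁻¹ : (S₂ ⊗[S] A)ˣ) : S₂ ⊗[S] A) * w =
          w * ((Y⁻¹ : (S₂ ⊗[S] A)ˣ) : S₂ ⊗[S] A) := by
        intro w
        rw [hYi]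
        exact Algebra.commutes (((yu⁻¹ : S₂ˣ) : S₂)) w
      rw [mul_inv_rev, inv_inv, Units.val_mul, Units.val_mul, mul_assoc (Bu : S₂ ⊗[S] A),
        hYc z, mul_assoc, mul_assoc, ← mul_assoc ((Y⁻¹ : (S₂ ⊗[S] A)ˣ) : S₂ ⊗[S] A),
        Units.inv_mul, one_mul, ← mul_assoc]
    rw [hconj]
    induction x using TensorProduct.induction_on with
    | zero => simp
    | tmul s a =>
      have h1 : (s ⊗ₜ[S] a : S₂ ⊗[S] A) = algebraMap S₂ (S₂ ⊗[S] A) s * β ((1 : S₁) ⊗ₜ[S] a) := by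
        rw [hβ, map_one, Algebra.TensorProduct.algebraMap_apply,
          Algebra.TensorProduct.tmul_mul_tmul, one_mul]
        simp
      have h2 := hu₁ ((1 : S₁) ⊗ₜ[S] a)
      rw [e1] at h2
      have h3 := congrArg β h2
      rw [map_mul, map_mul, hβ, map_one] at h3
      have e2 : Algebra.TensorProduct.congr (AlgEquiv.refl : S₂ ≃ₐ[S₂] S₂)
          (ψ.restrictScalars S) (s ⊗ₜ[S] a) = s ⊗ₜ[S] ψ a := by
        rw [Algebra.TensorProduct.congr_apply, Algebra.TensorProduct.map_tmul]; rfl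
      rw [e2]
      conv_rhs => rw [h1, ← mul_assoc, ← Algebra.commutes s (Bu : S₂ ⊗[S] A), mul_assoc, mul_assoc,
        hBu, hBui, ← mul_assoc (β (u₁ : S₁ ⊗[S] A)), ← h3]
      rw [Algebra.TensorProduct.algebraMap_apply, Algebra.TensorProduct.tmul_mul_tmul, one_mul]
      simp
    | add x z hx hz => rw [map_add, hx, hz, mul_add, add_mul]

end Groth.Agent.S17355
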