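import Groth.Statements.S17359
import Groth.Agent.Lib.Helper19EtLocR

set_option autoImplicit false
universe u w
open scoped TensorProduct
open AzInv

namespace Groth.Agent.S17359

/-- Let `R` be a nontrivial commutative ring with connected spectrum in which `2` is a unit, with the
trivial involution (so that the involutions considered are of the first kind and the quotient is the
trivial one). Then there are exactly two types, the orthogonal and the symplectic one; this row
states the first half: every involution of the first kind `t` of an Azumaya `R`-algebra `A` of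
degree `n ≥ 1` has the same type either as the identity of `R` or as the standard symplectic
involution `x ↦ J xᵀ J⁻¹` of the `2 × 2` matrix algebra, `J` the matrix with rows `(0, -1)` and `(1,
0)` (same type: suitable matrix algebras over the two, with the induced involutions, become
isomorphic as `R`-algebras with involution after an etale faithfully flat base change of `R`). (The
source states that the monoid of types is isomorphic to the group of global square roots of `1`, for
a locally ringed topos with trivial involution and `2` invertible; the row is the affine case with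
connected spectrum, where that group is `{1, -1}`.) -/
theorem result (R : Type u) [CommRing R] (hlam : ∀ r : R, (AlgEquiv.refl : R ≃ₐ[R] R) ((AlgEquiv.refl : R ≃ₐ[R] R) r) = r)
    [Nontrivial R] [ConnectedSpace (PrimeSpectrum R)] (h2 : IsUnit (2 : R))
    (J : (Matrix (Fin 2) (Fin 2) R)ˣ) (hJ : (↑J : Matrix (Fin 2) (Fin 2) R) = Matrix.of ![![0, -1], ![1, 0]])
    (hJt : AzInv.LamInv.transpose (AlgEquiv.refl : R ≃ₐ[R] R) (Fin 2) hlam (↑J : Matrix (Fin 2) (Fin 2) R) = (-1 : R) • (↑J : Matrix (Fin 2) (Fin 2) R))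
    (hneg : (AlgEquiv.refl : R ≃ₐ[R] R) (-1) * (-1) = 1)
    (A : Type w) [Ring A] [Algebra R A]
    (n : ℕ) (hn : 0 < n) (hA : AzInv.IsAzumayaDeg R A n) (t : AzInv.LamInv R A (AlgEquiv.refl : R ≃ₐ[R] R)) :
    AzInv.SameType R (AlgEquiv.refl : R ≃ₐ[R] R) t (AzInv.LamInv.self (AlgEquiv.refl : R ≃ₐ[R] R) hlam) ∨
      AzInv.SameType R (AlgEquiv.refl : R ≃ₐ[R] R) t ((AzInv.LamInv.transpose (AlgEquiv.refl : R ≃ₐ[R] R) (Fin 2) hlam).conj J (-1) hJt hneg) := by
  classical
  obtain ⟨hAz, hrank⟩ := hA
  haveI := hAz
  rcases Groth.Agent.Lib.Helper19EtLoc.cover_sym_or_symp t n h2 hn hrank with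
    ⟨S', _, _, hEt, hFF, f, hf, hsym⟩ | ⟨m, hm, S', _, _, hEt, hFF, g, hg, hgsym⟩
  · left
    haveI := hEt
    haveI := hFF
    exact Groth.Agent.Lib.Helper19EtLoc.sameType_of_symMatUnits (AlgEquiv.refl : R ≃ₐ[R] R) hlam t n
      S' hn hrank f hf hsym
  · right
    subst hm
    haveI := hEt
    haveI := hFF
    have hm0 : 0 < m := by omega
    obtain ⟨G, hG1, hG2⟩ := Groth.Agent.Lib.Helper19EtLoc.exists_algEquiv_of_patMatUnits
      (S := R) (R := R) (AlgEquiv.refl : R ≃ₐ[R] R) t (m * 2) S'
      (Groth.Agent.Lib.Helper19EtLoc.sympπ m)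
      (fun a b => Groth.Agent.Lib.Helper19EtLoc.sympμ m a * Groth.Agent.Lib.Helper19EtLoc.sympμ m b)
      (((AzInv.LamInv.transpose (AlgEquiv.refl : R ≃ₐ[R] R) (Fin 2) hlam).conj J (-1) hJt
        hneg).matrix (Fin m))
      (Groth.Agent.Lib.Helper19EtLoc.sympΘ m R) hn
      (Groth.Agent.Lib.Helper19EtLoc.sympπ_sympπ m)
      (Groth.Agent.Lib.Helper19EtLoc.sympΘ_inv m R hlam J hJ hJt hneg) hrank g hg hgsym
    obtain ⟨f, hf1, hf2⟩ := Groth.Agent.Lib.Helper19EtLoc.exists_algEquiv_mat1
      (AlgEquiv.refl : R ≃ₐ[R] R) t S' _ G hG1 hG2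
    exact ⟨1, m, one_pos, hm0, S', inferInstance, inferInstance, hEt, hFF, f, hf1, hf2⟩

end Groth.Agent.S17359
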