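import Groth.Statements.S1736
import Groth.Agent.Lib.Helper8Cd

set_option autoImplicit false
universe u
open LocCoh

namespace Groth.Agent.S1736

open CategoryTheory CategoryTheory.Limits Groth.Agent.Lib.Helper8.ExtLES Groth.Agent.Lib.Helper8.LC
  Groth.Agent.Lib.Helper8.GV Groth.Agent.Lib.Helper8.MV Groth.Agent.Lib.Helper8.LocLES

/-- Inverting an element of the Jacobson radical drops the dimension. -/
theorem ringKrullDim_away_lt {A : Type u} [CommRing A] (b : A)
    (hb : b ∈ (⊥ : Ideal A).jacobson) (i : ℕ) (h : ringKrullDim A < ((i + 1 : ℕ) : WithBot ℕ∞)) :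
    ringKrullDim (Localization (Submonoid.powers b)) < ((i : ℕ) : WithBot ℕ∞) := by
  by_contra hcon
  rw [not_lt] at hcon
  obtain ⟨l, hl⟩ := Order.le_krullDim_iff.mp hcon
  let F : PrimeSpectrum (Localization (Submonoid.powers b)) → PrimeSpectrum A := fun q =>
    ⟨Ideal.comap (algebraMap A (Localization (Submonoid.powers b))) q.asIdeal, inferInstance⟩
  have hF : StrictMono F := by
    intro q q' h
    refine lt_of_le_of_ne ?_ ?_
    · change Ideal.comap _ q.asIdeal ≤ Ideal.comap _ q'.asIdeal
      exact Ideal.comap_mono h.le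
    · intro heq
      apply h.ne
      apply PrimeSpectrum.ext
      have h1 : Ideal.comap (algebraMap A (Localization (Submonoid.powers b))) q.asIdeal =
          Ideal.comap (algebraMap A (Localization (Submonoid.powers b))) q'.asIdeal :=
        congrArg (fun z : PrimeSpectrum A => z.asIdeal) heq
      exact (IsLocalization.orderEmbedding (Submonoid.powers b)
        (Localization (Submonoid.powers b))).injective h1
  obtain ⟨m, hm, hle⟩ := Ideal.exists_le_maximal
    (Ideal.comap (algebraMap A (Localization (Submonoid.powers b))) l.last.asIdeal)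
    (Ideal.IsPrime.ne_top inferInstance)
  have hbm : b ∈ m := by
    have h1 : (⊥ : Ideal A).jacobson ≤ m := sInf_le ⟨bot_le, hm⟩
    exact h1 hb
  have hlast : (l.map F hF).last < ⟨m, hm.isPrime⟩ := by
    rw [LTSeries.last_map]
    refine lt_of_le_of_ne hle ?_
    intro heq
    have h1 : Ideal.comap (algebraMap A (Localization (Submonoid.powers b))) l.last.asIdeal =
        m := congrArg (fun z : PrimeSpectrum A => z.asIdeal) heq
    have h2 : b ∈ Ideal.comap (algebraMap A (Localization (Submonoid.powers b)))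
        l.last.asIdeal := h1 ▸ hbm
    rw [Ideal.mem_comap] at h2
    exact l.last.2.ne_top (Ideal.eq_top_of_isUnit_mem _ h2
      (IsLocalization.map_units (Localization (Submonoid.powers b))
        (⟨b, Submonoid.mem_powers b⟩ : Submonoid.powers b)))
  have h3 : (((i + 1 : ℕ) : ℕ) : WithBot ℕ∞) ≤ ringKrullDim A :=
    Order.le_krullDim_iff.mpr ⟨(l.map F hF).snoc ⟨m, hm.isPrime⟩ hlast, by simp [hl]⟩
  exact absurd (lt_of_le_of_lt h3 h) (lt_irrefl _)

theorem H_loc_eq_zero {A : Type u} [CommRing A] [IsNoetherianRing A] (d : ℕ)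
    (hd : ringKrullDim A = d) (b : A) (hb : b ∈ (⊥ : Ideal A).jacobson) (a : Ideal A)
    (M : Type u) [AddCommGroup M] [Module A M]
    (y : (localCohomology a d).obj
      (ModuleCat.of A (LocalizedModule (Submonoid.powers b) M))) : y = 0 := by
  obtain ⟨φ, -⟩ := Groth.Agent.S11614.result A (Localization (Submonoid.powers b)) a
    (LocalizedModule (Submonoid.powers b) M) d
  obtain ⟨x, rfl⟩ := φ.surjective y
  have hlt : ringKrullDim (Localization (Submonoid.powers b)) < ((d : ℕ) : WithBot ℕ∞) :=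
    ringKrullDim_away_lt b hb d (by rw [hd]; exact_mod_cast Nat.lt_succ_self d)
  rw [Groth.Agent.Lib.Helper8.CdDim.Q_all d _ hlt _ _ x, map_zero]

theorem surj_of_fg {A : Type u} [CommRing A] [IsNoetherianRing A] (d : ℕ)
    (hd : ringKrullDim A = d) (M : Type u) [AddCommGroup M] [Module A M]
    (J : Ideal A) (hJ : J.FG) :
    J ≤ (⊥ : Ideal A).jacobson → ∀ (a a' : Ideal A) (h : a ≤ a'), a' = a ⊔ J →
      Function.Surjective ((Dual2.HmapOfLE h d).app (ModuleCat.of A M)).hom := by
  refine Submodule.fg_induction (motive := fun (J : Ideal A) _ => J ≤ (⊥ : Ideal A).jacobson →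
    ∀ (a a' : Ideal A) (h : a ≤ a'),
    a' = a ⊔ J → Function.Surjective ((Dual2.HmapOfLE h d).app (ModuleCat.of A M)).hom)
    ?_ ?_ J hJ
  · intro x hx a a' h heq
    subst heq
    have hxm : x ∈ (⊥ : Ideal A).jacobson := hx (Submodule.mem_span_singleton_self x)
    exact p_surjective_of_vanish x a d M (H_loc_eq_zero d hd x hxm a M)
  · intro J₁ J₂ _ _ ih₁ ih₂ hle a a' h heq
    have h₁ : a ≤ a ⊔ J₁ := le_sup_left
    have h₂ : a ⊔ J₁ ≤ a' := by
      rw [heq, ← sup_assoc]
      exact le_sup_left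
    have s₁ := ih₁ (le_sup_left.trans hle) a (a ⊔ J₁) h₁ rfl
    have s₂ := ih₂ (le_sup_right.trans hle) (a ⊔ J₁) a' h₂ (by rw [heq, sup_assoc])
    intro x
    obtain ⟨y, rfl⟩ := s₁ x
    obtain ⟨z, rfl⟩ := s₂ y
    exact ⟨z, (HmapOfLE_comp h₁ h₂ d (ModuleCat.of A M) z).symm⟩

/-- Let A be a Noetherian ring of finite dimension d and I ⊆ I' ideals with I' contained in the Jacobson
radical of A. If cd(A, I') < d, i.e. H^i_{I'}(M) = 0 for all A-modules M and all i ≥ d, then also
cd(A, I) < d: H^i_I(M) = 0 for all A-modules M and all i ≥ d. -/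
theorem result (A : Type u) [CommRing A] [IsNoetherianRing A] (d : ℕ) (hd : ringKrullDim A = d) (I I' : Ideal A) (hII' : I ≤ I') (hJ : I' ≤ (⊥ : Ideal A).jacobson) (h : ∀ (M : Type u) [AddCommGroup M] [Module A M] (i : ℕ), d ≤ i → Subsingleton (LocCoh.H I' i M)) (M : Type u) [AddCommGroup M] [Module A M] (i : ℕ) (hi : d ≤ i) : Subsingleton (LocCoh.H I i M) := by
  refine ⟨fun x y => ?_⟩
  have h0 : ∀ z : LocCoh.H I i M, z = 0 := by
    intro z
    rcases Nat.eq_or_lt_of_le hi with heq | hlt
    · subst heq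
      obtain ⟨w, rfl⟩ := surj_of_fg d hd M I' (IsNoetherian.noetherian I') hJ I I' hII'
        (sup_eq_right.mpr hII').symm z
      have := h M d le_rfl
      rw [Subsingleton.elim w 0, map_zero]
    · exact Groth.Agent.Lib.Helper8.CdDim.Q_all i A
        (by rw [hd]; exact_mod_cast hlt) I M z
  rw [h0 x, h0 y]

end Groth.Agent.S1736
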