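import Groth.Statements.S17363
import Groth.Agent.Lib.Helper19SkewCongr

set_option autoImplicit false
universe u v
open scoped TensorProduct
open RInv

namespace Groth.Agent.S17363

/-- Let `A` be a commutative ring with an involution `lam` whose fixed ring `B` is local; assume that
`lam` is the identity modulo the Jacobson radical of `A`, that `2` is a unit of `A`, and that `h` is
an invertible `2 × 2` matrix over `A` with `h = -(lam h)ᵀ` whose entries are congruent modulo the
Jacobson radical to those of the matrix with rows `(0, 1)`, `(-1, 0)`. Then there are units `s, t`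
of `B`, finitely many elements `f_i` of `B' = B[X, Y]/(X² - s, Y² - t)` (`B` with square roots of
`s` and `t` adjoined) that generate the unit ideal, and for every `i` an invertible `2 × 2` matrix
`v` over `B'_{f_i} ⊗_B A` (that is, `A` with the two square roots adjoined, localised at `f_i`;
`lam` extends so as to fix the square roots) such that `(lam v)ᵀ h v` is the matrix with rows `(0,
1)`, `(-1, 0)`. (The published statement writes the congruence with the plain transpose `vᵀ h v`,
which fails in general: for a field `k` of characteristic not `2`, the ring `A` of formal power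
series in `y` over `k`, with `B` its subring of series in `y²`, `lam y = -y` and `h` with rows `(y,
1)`, `(-1, y)`, satisfies every hypothesis, while `vᵀ h v` equal to the matrix with rows `(0, 1)`,
`(-1, 0)` would, added to its transpose, give `2y · vᵀ v = 0` and hence `det v = 0` over a nonzero
ring in which `y` is not a zero divisor. The proof computes the Gram matrix of the hermitian form
`(a, b) ↦ (lam a)ᵀ h b` in a new basis, which is `(lam v)ᵀ h v`, and that is what is stated here.) -/
theorem result (B : Type u) (A : Type v) [CommRing B] [CommRing A]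
    [Algebra B A] (lam : A ≃ₐ[B] A) (hlam : ∀ a, lam (lam a) = a) (hB : RInv.IsFixedRing B A lam.toRingEquiv)
    [IsLocalRing B] (hid : ∀ a : A, lam a - a ∈ Ring.jacobson A) (h2 : IsUnit (2 : A))
    (h : Matrix (Fin 2) (Fin 2) A) (hh : IsUnit h) (herm : -(h.map lam).transpose = h)
    (hJ : ∀ i j : Fin 2, h i j - Matrix.of ![![(0 : A), 1], ![-1, 0]] i j ∈ Ring.jacobson A) :
    ∃ (s t : Bˣ) (r : ℕ) (f : Fin r → (MvPolynomial (Fin 2) B ⧸ Ideal.span ({MvPolynomial.X 0 ^ 2 - MvPolynomial.C (s : B), MvPolynomial.X 1 ^ 2 - MvPolynomial.C (t : B)} : Set (MvPolynomial (Fin 2) B)))),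
      Ideal.span (Set.range f) = ⊤ ∧
      ∀ i : Fin r, ∃ v : Matrix (Fin 2) (Fin 2) (Localization.Away (f i) ⊗[B] A), IsUnit v ∧
        (v.map (Algebra.TensorProduct.congr (AlgEquiv.refl : Localization.Away (f i) ≃ₐ[Localization.Away (f i)] Localization.Away (f i)) lam)).transpose * h.map (Algebra.TensorProduct.includeRight : A →ₐ[B] Localization.Away (f i) ⊗[B] A) * v
          = (Matrix.of ![![(0 : A), 1], ![-1, 0]]).map (Algebra.TensorProduct.includeRight : A →ₐ[B] Localization.Away (f i) ⊗[B] A) := by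
  classical
  obtain ⟨hinj, hfix⟩ := hB
  have hfix' : ∀ r : A, lam r = r ↔ r ∈ Set.range (algebraMap B A) := fun r => hfix r
  have hmemJ : ∀ x : A, x ∈ Ring.jacobson A ↔ ∀ y, IsUnit (x * y + 1) := by
    intro x
    rw [← Ideal.jacobson_bot]
    exact Ideal.mem_jacobson_bot
  have hent : ∀ i j, h i j = -lam (h j i) := by
    intro i j
    have := congrFun (congrFun herm i) j
    simp only [Matrix.neg_apply, Matrix.transpose_apply, Matrix.map_apply] at this
    exact this.symm
  have ha : lam (h 0 0) = -h 0 0 := by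
    have := hent 0 0
    rw [eq_neg_iff_add_eq_zero] at this
    rw [eq_neg_iff_add_eq_zero, add_comm]
    exact this
  have hd : lam (h 1 1) = -h 1 1 := by
    have := hent 1 1
    rw [eq_neg_iff_add_eq_zero] at this
    rw [eq_neg_iff_add_eq_zero, add_comm]
    exact this
  have hc : h 1 0 = -lam (h 0 1) := hent 1 0
  have hbu : IsUnit (h 0 1) := by
    have h1 := hJ 0 1
    have h3 : h 0 1 - 1 ∈ Ring.jacobson A := by simpa using h1
    have := (hmemJ _).mp h3 1
    rwa [mul_one, sub_add_cancel] at this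
  have haJ : h 0 0 ∈ Ring.jacobson A := by
    have h1 := hJ 0 0
    simpa using h1
  have hunitB : ∀ x : B, IsUnit (algebraMap B A x) → IsUnit x := by
    intro x hx
    obtain ⟨w, hw⟩ := hx.exists_right_inv
    have hw' : lam w = w := by
      have h1 : algebraMap B A x * lam w = 1 := by
        rw [← lam.commutes x, ← map_mul, hw, map_one]
      calc lam w = (algebraMap B A x * w) * lam w := by rw [hw, one_mul]
        _ = w * (algebraMap B A x * lam w) := by ring
        _ = w := by rw [h1, mul_one]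
    obtain ⟨y, hy⟩ := (hfix' w).mp hw'
    refine IsUnit.of_mul_eq_one y (hinj ?_)
    rw [map_mul, hy, hw, map_one]
  have hNfix : lam (h 0 1 * lam (h 0 1)) = h 0 1 * lam (h 0 1) := by
    rw [map_mul, hlam, mul_comm]
  obtain ⟨nB, hnB⟩ := (hfix' _).mp hNfix
  have hnBu : IsUnit nB := hunitB nB (by rw [hnB]; exact hbu.mul (hbu.map lam))
  obtain ⟨nBi, hnBi⟩ := hnBu.exists_right_inv
  have hadfix : lam (h 0 0 * h 1 1) = h 0 0 * h 1 1 := by
    rw [map_mul, ha, hd, neg_mul_neg]
  obtain ⟨adB, hadB⟩ := (hfix' _).mp hadfix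
  have hsrel : (1 + adB * nBi) * nB = nB + adB := by
    linear_combination adB * hnBi
  have hsu : IsUnit (1 + adB * nBi) := by
    apply hunitB
    have : algebraMap B A (1 + adB * nBi) = h 0 0 * (h 1 1 * algebraMap B A nBi) + 1 := by
      rw [map_add, map_one, map_mul, hadB]
      ring
    rw [this]
    exact (hmemJ _).mp haJ _
  have h2B : IsUnit (2 : B) := hunitB 2 (by rw [map_ofNat]; exact h2)
  obtain ⟨halfB, hhalf⟩ := h2B.exists_right_inv
  obtain ⟨si, hsi⟩ := hsu.exists_right_inv
  set I : Ideal (MvPolynomial (Fin 2) B) :=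
    Ideal.span ({MvPolynomial.X 0 ^ 2 - MvPolynomial.C ((hsu.unit : Bˣ) : B),
      MvPolynomial.X 1 ^ 2 - MvPolynomial.C (((1 : Bˣ) : Bˣ) : B)} : Set (MvPolynomial (Fin 2) B))
    with hI
  set ξ₀ : MvPolynomial (Fin 2) B ⧸ I := Ideal.Quotient.mk I (MvPolynomial.X 0) with hξ₀def
  have hξ₀ : ξ₀ ^ 2 = algebraMap B (MvPolynomial (Fin 2) B ⧸ I) (1 + adB * nBi) := by
    have h1 : algebraMap B (MvPolynomial (Fin 2) B ⧸ I) (1 + adB * nBi) =
        Ideal.Quotient.mk I (MvPolynomial.C (1 + adB * nBi)) := rfl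
    rw [h1, hξ₀def, ← map_pow, ← sub_eq_zero, ← map_sub, Ideal.Quotient.eq_zero_iff_mem]
    exact Ideal.subset_span (Or.inl rfl)
  refine ⟨hsu.unit, 1, 2, ![1 + ξ₀, 1 - ξ₀], ?_, ?_⟩
  · have h3 : (1 + ξ₀) + (1 - ξ₀) = algebraMap B (MvPolynomial (Fin 2) B ⧸ I) 2 := by
      rw [map_ofNat]; ring
    have hmem : (1 + ξ₀) + (1 - ξ₀) ∈ Ideal.span (Set.range ![1 + ξ₀, 1 - ξ₀]) :=
      Ideal.add_mem _ (Ideal.subset_span ⟨0, rfl⟩) (Ideal.subset_span ⟨1, rfl⟩)
    exact Ideal.eq_top_of_isUnit_mem _ hmem (by rw [h3]; exact h2B.map _)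
  · intro i
    have hmap : ∀ (L : Type u) [CommRing L] [Algebra B L],
        h.map (Algebra.TensorProduct.includeRight : A →ₐ[B] L ⊗[B] A) =
        !![(1 : L) ⊗ₜ[B] h 0 0, 1 ⊗ₜ[B] h 0 1; -(1 ⊗ₜ[B] lam (h 0 1)), 1 ⊗ₜ[B] h 1 1] := by
      intro L _ _
      ext i j
      fin_cases i <;> fin_cases j
      · simp
      · simp
      · simp [hc, TensorProduct.tmul_neg]
      · simp
    have hJmap : ∀ (L : Type u) [CommRing L] [Algebra B L],
        (Matrix.of ![![(0 : A), 1], ![-1, 0]]).map
          (Algebra.TensorProduct.includeRight : A →ₐ[B] L ⊗[B] A) = !![0, 1; -1, 0] := by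
      intro L _ _
      ext i j
      fin_cases i <;> fin_cases j <;>
        simp [TensorProduct.tmul_neg, Algebra.TensorProduct.one_def]
    rw [hmap, hJmap]
    fin_cases i
    · exact Groth.Agent.Lib.Helper19SkewCongr.chart lam _ (1 + ξ₀) ξ₀ (1 + adB * nBi) nB adB halfB
        nBi si hnBi hsi hhalf hξ₀ rfl (h 0 0) (h 0 1) (h 1 1) ha hd hnB hadB hsrel
    · exact Groth.Agent.Lib.Helper19SkewCongr.chart lam _ (1 - ξ₀) (-ξ₀) (1 + adB * nBi) nB adB
        halfB nBi si hnBi hsi hhalf (by rw [← hξ₀]; ring) (sub_eq_add_neg _ _)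
        (h 0 0) (h 0 1) (h 1 1) ha hd hnB hadB hsrel

end Groth.Agent.S17363
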