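import Groth.Statements.S17364
import Groth.Agent.Lib.Helper19SpreadQE

set_option autoImplicit false
universe u v
open scoped TensorProduct
open RInv

namespace Groth.Agent.S17364

/-- Let `A` be a commutative ring with an involution `lam` whose fixed ring is `B`, let `ε = ±1`, and
let `h, h'` be invertible `n × n` matrices over `A` with `h = ε (lam h)ᵀ` and `h' = ε (lam h')ᵀ`.
Let `p` be a prime of `B` and suppose there are units `s_1, …, s_l` of the local ring `B_p`,
elements `f_1, …, f_r` of `B_p[X_1, …, X_l]/(X_k² - s_k)` (square roots of the `s_k` adjoined)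
generating the unit ideal, and for each `i` an invertible matrix `v` over `C ⊗_B A` for the
localisation `C` of that ring at `f_i` (any `B`-algebra with the universal property of that
localisation) (`lam` extended so as to fix the square roots and `B_p`) with `(lam v)ᵀ h v = h'`.
Then there is `b ∉ p` in `B` such that the same kind of data exists with `B_p` replaced by `B_b`:
units of `B_b`, a finite family generating the unit ideal of `B_b[X_1, …, X_l]/(X_k² - s_k)`, and
invertible matrices over the corresponding localisations tensored with `A` congruating `h` to `h'`. -/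
theorem result (B : Type u) (A : Type v) [CommRing B] [CommRing A]
    [Algebra B A] (lam : A ≃ₐ[B] A) (hlam : ∀ a, lam (lam a) = a) (hB : RInv.IsFixedRing B A lam.toRingEquiv)
    (n : ℕ) (ε : A) (hε : ε = 1 ∨ ε = -1) (h h' : Matrix (Fin n) (Fin n) A) (hh : IsUnit h) (hh' : IsUnit h')
    (herm : ε • (h.map lam).transpose = h) (herm' : ε • (h'.map lam).transpose = h')
    (p : Ideal B) [p.IsPrime]
    (hdata : (∃ (l : ℕ) (s : Fin l → (Localization.AtPrime p)ˣ) (r : ℕ) (f : Fin r → (MvPolynomial (Fin l) (Localization.AtPrime p) ⧸ Ideal.span (Set.range fun k : Fin l => MvPolynomial.X k ^ 2 - MvPolynomial.C (s k : Localization.AtPrime p)))),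
        Ideal.span (Set.range f) = ⊤ ∧
        ∀ (i : Fin r) (C : Type u) [CommRing C] [Algebra B C]
          [Algebra (MvPolynomial (Fin l) (Localization.AtPrime p) ⧸ Ideal.span (Set.range fun k : Fin l => MvPolynomial.X k ^ 2 - MvPolynomial.C (s k : Localization.AtPrime p))) C]
          [IsScalarTower B (MvPolynomial (Fin l) (Localization.AtPrime p) ⧸ Ideal.span (Set.range fun k : Fin l => MvPolynomial.X k ^ 2 - MvPolynomial.C (s k : Localization.AtPrime p))) C]
          [IsLocalization.Away (f i) C],
          ∃ v : Matrix (Fin n) (Fin n) (C ⊗[B] A), IsUnit v ∧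
            (v.map (Algebra.TensorProduct.congr (AlgEquiv.refl : C ≃ₐ[C] C) lam)).transpose * h.map (Algebra.TensorProduct.includeRight : A →ₐ[B] C ⊗[B] A) * v = h'.map (Algebra.TensorProduct.includeRight : A →ₐ[B] C ⊗[B] A))) :
    ∃ b : B, b ∉ p ∧
      (∃ (l : ℕ) (s : Fin l → (Localization.Away b)ˣ) (r : ℕ) (f : Fin r → (MvPolynomial (Fin l) (Localization.Away b) ⧸ Ideal.span (Set.range fun k : Fin l => MvPolynomial.X k ^ 2 - MvPolynomial.C (s k : Localization.Away b)))),
        Ideal.span (Set.range f) = ⊤ ∧
        ∀ (i : Fin r) (C : Type u) [CommRing C] [Algebra B C]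
          [Algebra (MvPolynomial (Fin l) (Localization.Away b) ⧸ Ideal.span (Set.range fun k : Fin l => MvPolynomial.X k ^ 2 - MvPolynomial.C (s k : Localization.Away b))) C]
          [IsScalarTower B (MvPolynomial (Fin l) (Localization.Away b) ⧸ Ideal.span (Set.range fun k : Fin l => MvPolynomial.X k ^ 2 - MvPolynomial.C (s k : Localization.Away b))) C]
          [IsLocalization.Away (f i) C],
          ∃ v : Matrix (Fin n) (Fin n) (C ⊗[B] A), IsUnit v ∧
            (v.map (Algebra.TensorProduct.congr (AlgEquiv.refl : C ≃ₐ[C] C) lam)).transpose * h.map (Algebra.TensorProduct.includeRight : A →ₐ[B] C ⊗[B] A) * v = h'.map (Algebra.TensorProduct.includeRight : A →ₐ[B] C ⊗[B] A)) := by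
  classical
  open Groth.Agent.Lib.Helper19SpreadQ in
  obtain ⟨l, s, r, f, hspan, hv⟩ := hdata
  -- Step 1: the units `s k` come from a basic open neighbourhood
  have hs : ∀ k, ∃ a t : B, a ∉ p ∧ t ∉ p ∧
      (s k : Localization.AtPrime p) * algebraMap B (Localization.AtPrime p) t =
        algebraMap B (Localization.AtPrime p) a := by
    intro k
    obtain ⟨⟨a, t⟩, hat⟩ := IsLocalization.surj p.primeCompl (s k : Localization.AtPrime p)
    refine ⟨a, t, ?_, t.2, hat⟩
    have hu : IsUnit (algebraMap B (Localization.AtPrime p) a) := by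
      rw [← hat]
      exact (s k).isUnit.mul (IsLocalization.map_units _ t)
    exact (IsLocalization.AtPrime.isUnit_to_map_iff (Localization.AtPrime p) p a).mp hu
  choose a t ha ht hat using hs
  set b₀ : B := ∏ k, (a k * t k) with hb₀
  have hb₀p : b₀ ∉ p :=
    Submonoid.prod_mem p.primeCompl (fun k _ => p.primeCompl.mul_mem (ha k) (ht k))
  have hdvd : ∀ k, a k * t k ∣ b₀ := fun k => Finset.dvd_prod_of_mem _ (Finset.mem_univ k)
  have hunitB₁ : ∀ x : B, x ∣ b₀ → IsUnit (algebraMap B (Localization.Away b₀) x) := fun x hx =>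
    isUnit_of_dvd_unit (map_dvd (algebraMap B (Localization.Away b₀)) hx)
      (IsLocalization.Away.algebraMap_isUnit b₀)
  have hua : ∀ k, IsUnit (algebraMap B (Localization.Away b₀) (a k)) := fun k =>
    hunitB₁ _ ((Dvd.intro _ rfl).trans (hdvd k))
  have hut : ∀ k, IsUnit (algebraMap B (Localization.Away b₀) (t k)) := fun k =>
    hunitB₁ _ ((Dvd.intro_left _ rfl).trans (hdvd k))
  set s0 : Fin l → (Localization.Away b₀)ˣ := fun k => (hua k).unit * (hut k).unit⁻¹ with hs0
  have hb₀unit : IsUnit (algebraMap B (Localization.AtPrime p) b₀) :=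
    IsLocalization.map_units (Localization.AtPrime p) (⟨b₀, hb₀p⟩ : p.primeCompl)
  set ψp : Localization.Away b₀ →ₐ[B] Localization.AtPrime p :=
    { IsLocalization.Away.lift b₀ (g := algebraMap B (Localization.AtPrime p)) hb₀unit with
      commutes' := fun x => IsLocalization.Away.lift_eq b₀ hb₀unit x } with hψp
  have hs_eq : s = mapUnits ψp s0 := by
    funext k
    apply Units.ext
    rw [mapUnits_coe]
    have htu : IsUnit (algebraMap B (Localization.AtPrime p) (t k)) :=
      IsLocalization.map_units (Localization.AtPrime p) (⟨t k, ht k⟩ : p.primeCompl)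
    apply htu.mul_left_injective
    change (s k : Localization.AtPrime p) * _ = ψp ((s0 k : (Localization.Away b₀)ˣ) : _) * _
    rw [hat k, ← ψp.commutes (t k), ← map_mul, hs0]
    have : (((hua k).unit * (hut k).unit⁻¹ : (Localization.Away b₀)ˣ) : Localization.Away b₀) *
        algebraMap B (Localization.Away b₀) (t k) = algebraMap B (Localization.Away b₀) (a k) := by
      rw [Units.val_mul, mul_assoc]
      have h2 : (((hut k).unit⁻¹ : (Localization.Away b₀)ˣ) : Localization.Away b₀) *
          algebraMap B (Localization.Away b₀) (t k) = 1 := (hut k).val_inv_mul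
      rw [h2, mul_one, (hua k).unit_spec]
    rw [this, ψp.commutes]
  subst hs_eq
  -- Step 2: the square-root algebra over `B_p` is a localization of that over `B_{b₀}`
  have hlocB : @IsLocalization (Localization.Away b₀) _
      (p.primeCompl.map (algebraMap B (Localization.Away b₀))) (Localization.AtPrime p) _
      ψp.toRingHom.toAlgebra := by
    letI : Algebra (Localization.Away b₀) (Localization.AtPrime p) := ψp.toRingHom.toAlgebra
    haveI : IsScalarTower B (Localization.Away b₀) (Localization.AtPrime p) :=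
      IsScalarTower.of_algebraMap_eq (fun x => (ψp.commutes x).symm)
    exact IsLocalization.isLocalization_of_submonoid_le (Localization.Away b₀)
      (Localization.AtPrime p) (Submonoid.powers b₀) p.primeCompl
      (Submonoid.powers_le.mpr hb₀p)
  have hQ' := KC ψp s0 (p.primeCompl.map (algebraMap B (Localization.Away b₀))) hlocB
  have eM : (p.primeCompl.map (algebraMap B (Localization.Away b₀))).map
      (algebraMap (Localization.Away b₀) (QQ (Localization.Away b₀) s0)) =
      p.primeCompl.map (algebraMap B (QQ (Localization.Away b₀) s0)) := by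
    ext x
    constructor
    · rintro ⟨_, ⟨m, hm, rfl⟩, rfl⟩
      exact ⟨m, hm, by
        rw [IsScalarTower.algebraMap_apply B (Localization.Away b₀) (QQ (Localization.Away b₀) s0)]⟩
    · rintro ⟨m, hm, rfl⟩
      exact ⟨algebraMap B (Localization.Away b₀) m, ⟨m, hm, rfl⟩, by
        rw [IsScalarTower.algebraMap_apply B (Localization.Away b₀) (QQ (Localization.Away b₀) s0)]⟩
  rw [eM] at hQ'
  -- Step 3: descend the `f i`
  have hq : ∀ i, ∃ q : QQ (Localization.Away b₀) s0, Associated (qmap ψp s0 q) (f i) := by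
    intro i
    letI : Algebra (QQ (Localization.Away b₀) s0)
        (QQ (Localization.AtPrime p) (mapUnits ψp s0)) := (qmap ψp s0).toRingHom.toAlgebra
    haveI := hQ'
    obtain ⟨⟨x, m⟩, hx⟩ := IsLocalization.surj
      (p.primeCompl.map (algebraMap B (QQ (Localization.Away b₀) s0))) (f i)
    refine ⟨x, ?_⟩
    have hu : IsUnit (algebraMap (QQ (Localization.Away b₀) s0)
        (QQ (Localization.AtPrime p) (mapUnits ψp s0)) m) := IsLocalization.map_units _ m
    obtain ⟨μ, hμ⟩ := hu
    refine ⟨μ⁻¹, ?_⟩
    change algebraMap (QQ (Localization.Away b₀) s0)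
        (QQ (Localization.AtPrime p) (mapUnits ψp s0)) x * _ = _
    rw [← hx, ← hμ, mul_assoc, Units.mul_inv, mul_one]
  choose q hq using hq
  -- Step 4: the `q i` generate the unit ideal after inverting some `u₀ ∉ p`
  have hu₀ : ∃ u₀ : B, u₀ ∉ p ∧
      algebraMap B (QQ (Localization.Away b₀) s0) u₀ ∈ Ideal.span (Set.range q) := by
    letI : Algebra (QQ (Localization.Away b₀) s0)
        (QQ (Localization.AtPrime p) (mapUnits ψp s0)) := (qmap ψp s0).toRingHom.toAlgebra
    haveI := hQ'
    have htop : (Ideal.span (Set.range q)).map (algebraMap (QQ (Localization.Away b₀) s0)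
        (QQ (Localization.AtPrime p) (mapUnits ψp s0))) = ⊤ := by
      rw [Ideal.map_span, eq_top_iff, ← hspan, Ideal.span_le]
      rintro _ ⟨i, rfl⟩
      obtain ⟨μ, hμ⟩ := hq i
      rw [← hμ, mul_comm]
      exact Ideal.mul_mem_left _ _ (Ideal.subset_span ⟨q i, ⟨i, rfl⟩, rfl⟩)
    have h1 : algebraMap (QQ (Localization.Away b₀) s0)
        (QQ (Localization.AtPrime p) (mapUnits ψp s0)) 1 ∈
        (Ideal.span (Set.range q)).map (algebraMap (QQ (Localization.Away b₀) s0)
        (QQ (Localization.AtPrime p) (mapUnits ψp s0))) := by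
      rw [htop]; trivial
    obtain ⟨m, ⟨u₀, hu₀, rfl⟩, hm⟩ := (IsLocalization.algebraMap_mem_map_algebraMap_iff
      (p.primeCompl.map (algebraMap B (QQ (Localization.Away b₀) s0)))
      (QQ (Localization.AtPrime p) (mapUnits ψp s0)) _ 1).mp h1
    exact ⟨u₀, hu₀, by simpa using hm⟩
  obtain ⟨u₀, hu₀p, hu₀⟩ := hu₀
  -- Step 5: descend the congruences
  have hdesc : ∀ i, ∃ m ∈ p.primeCompl, ∃ m' ∈ p.primeCompl,
      ∃ V : Matrix (Fin n) (Fin n) (Localization.Away (q i) ⊗[B] A),
      m' • EE lam h (Localization.Away (q i)) V =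
        m' • ((m * m) • h'.map (Algebra.TensorProduct.includeRight :
          A →ₐ[B] Localization.Away (q i) ⊗[B] A)) := by
    intro i
    obtain ⟨v, -, hvE⟩ := hv i (Localization.Away (f i))
    have hunit : IsUnit (algebraMap (QQ (Localization.AtPrime p) (mapUnits ψp s0))
        (Localization.Away (f i)) (qmap ψp s0 (q i))) := by
      obtain ⟨μ, hμ⟩ := (hq i).symm
      rw [← hμ, map_mul]
      exact (IsLocalization.Away.algebraMap_isUnit (f i)).mul (μ.isUnit.map _)
    have := isLocalizedModule_theta (qmap ψp s0) (q i) (Localization.Away (f i)) p.primeCompl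
      hQ' (f i) (hq i) hunit
    exact descend p.primeCompl lam h h'
      (theta (qmap ψp s0) (q i) (Localization.Away (f i)) hunit) v hvE
  choose m hm m' hm' V hV using hdesc
  -- Step 6: the final element
  set b : B := b₀ * u₀ * ∏ i, (m i * m' i) with hb
  have hbp : b ∉ p := p.primeCompl.mul_mem (p.primeCompl.mul_mem hb₀p hu₀p)
    (Submonoid.prod_mem p.primeCompl (fun i _ => p.primeCompl.mul_mem (hm i) (hm' i)))
  have hb₀b : b₀ ∣ b := ⟨u₀ * ∏ i, (m i * m' i), by rw [hb, mul_assoc]⟩
  have hu₀b : u₀ ∣ b := ⟨b₀ * ∏ i, (m i * m' i), by rw [hb]; ring⟩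
  have hmb : ∀ i, m i ∣ b := fun i =>
    (Dvd.intro _ rfl : m i ∣ m i * m' i).trans
      ((Finset.dvd_prod_of_mem (fun i => m i * m' i) (Finset.mem_univ i)).trans
        (Dvd.intro_left _ rfl))
  have hm'b : ∀ i, m' i ∣ b := fun i =>
    (Dvd.intro_left _ rfl : m' i ∣ m i * m' i).trans
      ((Finset.dvd_prod_of_mem (fun i => m i * m' i) (Finset.mem_univ i)).trans
        (Dvd.intro_left _ rfl))
  have hunitBb : ∀ x : B, x ∣ b → IsUnit (algebraMap B (Localization.Away b) x) := fun x hx =>
    isUnit_of_dvd_unit (map_dvd (algebraMap B (Localization.Away b)) hx)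
      (IsLocalization.Away.algebraMap_isUnit b)
  set ψb : Localization.Away b₀ →ₐ[B] Localization.Away b :=
    { IsLocalization.Away.lift b₀ (g := algebraMap B (Localization.Away b)) (hunitBb b₀ hb₀b) with
      commutes' := fun x => IsLocalization.Away.lift_eq b₀ (hunitBb b₀ hb₀b) x } with hψb
  have hunitQb : ∀ x : B, x ∣ b →
      IsUnit (algebraMap B (QQ (Localization.Away b) (mapUnits ψb s0)) x) := fun x hx => by
    rw [IsScalarTower.algebraMap_apply B (Localization.Away b)
      (QQ (Localization.Away b) (mapUnits ψb s0))]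
    exact (hunitBb x hx).map _
  refine ⟨b, hbp, l, mapUnits ψb s0, r, fun i => qmap ψb s0 (q i), ?_, ?_⟩
  · apply Ideal.eq_top_of_isUnit_mem _ _ (hunitQb u₀ hu₀b)
    have := Ideal.mem_map_of_mem (qmap ψb s0).toRingHom hu₀
    rw [Ideal.map_span, ← Set.range_comp] at this
    have e : (qmap ψb s0).toRingHom (algebraMap B (QQ (Localization.Away b₀) s0) u₀) =
        algebraMap B (QQ (Localization.Away b) (mapUnits ψb s0)) u₀ := (qmap ψb s0).commutes u₀
    rw [e] at this
    exact this
  · intro i C _ _ _ _ _
    have hunitC : ∀ x : B, x ∣ b → IsUnit (algebraMap B C x) := fun x hx => by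
      rw [IsScalarTower.algebraMap_apply B (QQ (Localization.Away b) (mapUnits ψb s0)) C]
      exact (hunitQb x hx).map _
    exact ascend lam h h'
      (theta (qmap ψb s0) (q i) C (IsLocalization.Away.algebraMap_isUnit (qmap ψb s0 (q i))))
      (m i) (m' i) (hunitC _ (hmb i)) (hunitC _ (hm'b i)) hh' (V i) (hV i)

end Groth.Agent.S17364
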