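import Groth.Statements.S1737
import Groth.Agent.Lib.Helper28DepthMore

set_option autoImplicit false
universe u
open LocCoh

namespace Groth.Agent.S1737

set_option linter.style.haveILetI false

section

variable {A : Type u} [CommRing A] (T : Set (PrimeSpectrum A))
  (M : Type u) [AddCommGroup M] [Module A M]

/-- the submodule of elements supported in `T`. -/
def supp (T : Set (PrimeSpectrum A)) (M : Type u) [AddCommGroup M] [Module A M] : Submodule A M where
  carrier := {m | ∀ q : PrimeSpectrum A, q ∉ T → ∃ s : A, s ∉ q.asIdeal ∧ s • m = 0}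
  zero_mem' := fun q _ => ⟨1, fun h => q.isPrime.ne_top ((Ideal.eq_top_iff_one _).2 h), smul_zero _⟩
  add_mem' := by
    intro a b ha hb q hq
    obtain ⟨s, hs, hsa⟩ := ha q hq
    obtain ⟨t, ht, htb⟩ := hb q hq
    refine ⟨s * t, fun h => ?_, ?_⟩
    · rcases q.isPrime.mem_or_mem h with h | h
      · exact hs h
      · exact ht h
    · rw [smul_add, mul_smul s t b, htb, smul_zero, mul_comm, mul_smul t s a, hsa, smul_zero,
        add_zero]
  smul_mem' := by
    intro c a ha q hq
    obtain ⟨s, hs, hsa⟩ := ha q hq
    exact ⟨s, hs, by rw [smul_comm, hsa, smul_zero]⟩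

theorem mem_supp {m : M} : m ∈ supp T M ↔
    ∀ q : PrimeSpectrum A, q ∉ T → ∃ s : A, s ∉ q.asIdeal ∧ s • m = 0 := Iff.rfl

end

/-- Let A be a Noetherian ring, T ⊆ Spec A stable under specialization and M a finite A-module. There
are a finite A-module M' and a surjection M → M' which is bijective after localizing at every prime
outside T and such that M'_p has depth ≥ 1 over A_p for every p in T. (The source states this for
coherent modules on a Noetherian scheme, with uniqueness.) -/
theorem result (A : Type u) [CommRing A] [IsNoetherianRing A] (T : Set (PrimeSpectrum A)) (hT : StableUnderSpecialization T) (M : Type u) [AddCommGroup M] [Module A M] [Module.Finite A M] : ∃ (M' : Type u) (_ : AddCommGroup M') (_ : Module A M') (_ : Module.Finite A M') (f : M →ₗ[A] M'), Function.Surjective f ∧ (∀ p : PrimeSpectrum A, p ∉ T → Function.Bijective (LocalizedModule.map p.asIdeal.primeCompl f)) ∧ ∀ p : PrimeSpectrum A, p ∈ T → 1 ≤ LocCoh.depth (Localization.AtPrime p.asIdeal) (LocalizedModule p.asIdeal.primeCompl M') := by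
  classical
  let N := supp T M
  refine ⟨M ⧸ N, inferInstance, inferInstance, inferInstance, N.mkQ, N.mkQ_surjective, ?_, ?_⟩
  · intro p hp
    constructor
    · rw [injective_iff_map_eq_zero]
      intro x hx
      induction x using LocalizedModule.induction_on with
      | h m s =>
        rw [LocalizedModule.map_mk, ← LocalizedModule.zero_mk s, LocalizedModule.mk_eq] at hx
        obtain ⟨t, ht⟩ := hx
        have h1 : (t.1 * s.1) • m ∈ N := by
          have : N.mkQ ((t.1 * s.1) • m) = 0 := by
            rw [map_smul, mul_smul]
            rw [smul_zero, smul_zero] at ht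
            exact ht
          rwa [Submodule.mkQ_apply, Submodule.Quotient.mk_eq_zero] at this
        obtain ⟨s', hs', hs'm⟩ := h1 p hp
        rw [← LocalizedModule.zero_mk s, LocalizedModule.mk_eq]
        refine ⟨⟨s' * t.1, fun h => ?_⟩, ?_⟩
        · rcases p.isPrime.mem_or_mem h with h | h
          · exact hs' h
          · exact t.2 h
        · change (s' * t.1) • s.1 • m = (s' * t.1) • s.1 • (0 : M)
          rw [smul_zero, smul_zero, smul_smul, mul_assoc, mul_smul]
          exact hs'm
    · exact LocalizedModule.map_surjective _ _ N.mkQ_surjective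
  · intro p hp
    rw [Order.one_le_iff_ne_zero]
    intro h0
    rw [Groth.Agent.Lib.Helper28.depth_localization_eq_zero_iff] at h0
    obtain ⟨hprime, z, hz⟩ := (isAssociatedPrime_iff).1 h0
    obtain ⟨m, rfl⟩ := N.mkQ_surjective z
    have hpm : ∀ r : A, r ∈ p.asIdeal ↔ r • m ∈ N := by
      intro r
      rw [hz, Submodule.mem_colon_singleton, Submodule.mem_bot, ← map_smul, Submodule.mkQ_apply,
        Submodule.Quotient.mk_eq_zero]
    have hmN : m ∈ N := by
      intro q hq
      -- p ⊄ q since T is stable under specialization
      have hnle : ¬ p.asIdeal ≤ q.asIdeal := by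
        intro hle
        apply hq
        exact hT ((PrimeSpectrum.le_iff_specializes p q).1 hle) hp
      obtain ⟨r, hrp, hrq⟩ := Set.not_subset.1 hnle
      obtain ⟨s, hs, hsm⟩ := ((hpm r).1 hrp) q hq
      refine ⟨s * r, fun h => ?_, ?_⟩
      · rcases q.isPrime.mem_or_mem h with h | h
        · exact hs h
        · exact hrq h
      · rw [mul_smul]
        exact hsm
    have : (1 : A) ∈ p.asIdeal := by
      rw [hpm, one_smul]
      exact hmN
    exact p.isPrime.ne_top ((Ideal.eq_top_iff_one _).2 this)

end Groth.Agent.S1737
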