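import Groth.Statements.S17371
import Mathlib
import Groth.Agent.Lib.Helper7CdJMain
import Groth.Agent.Lib.Helper7CdJModel
import Groth.Agent.Lib.Helper7CdJGr

set_option autoImplicit false
set_option linter.style.haveILetI false
universe u
open CategoryTheory CategoryTheory.Limits
open Algz

namespace Groth.Agent.S17371

/-- Functor form. Let k be an algebraically closed field and F a set-valued functor on commutative
k-algebras which preserves filtered colimits (limit preserving). Let R be a complete local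
Noetherian k-algebra with residue field k, ξ an element of F(R) and N a natural number. Then there
exist a finitely generated k-algebra A, a maximal ideal m of A with residue field k, an element η of
F(A) and a k-algebra isomorphism φ from R/m_R^(N+1) to A/m^(N+1) such that the images of ξ and η in
F(A/m^(N+1)) agree (ξ pushed forward along R → R/m_R^(N+1) followed by φ, η along A → A/m^(N+1)),
and moreover a ring isomorphism between the associated graded rings of R along m_R and of A along m
which carries each graded piece m_R^n/m_R^(n+1) into m^n/m^(n+1) and commutes with the scalars from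
k. (The published statement is for limit-preserving prestacks over k-schemes and does not require
the residue field of R to be k, without which it fails (R = k(t)); this row is stated for set-valued
functors on k-algebras and assumes residue field k.) -/
theorem result (k : Type u) [Field k] [IsAlgClosed k]
    (F : CommAlgCat.{u} k ⥤ Type u)
    (hF : ∀ (J : Type u) [SmallCategory J] [IsFiltered J], PreservesColimitsOfShape J F)
    (R : Type u) [CommRing R] [Algebra k R] [IsLocalRing R] [IsNoetherianRing R]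
    [IsAdicComplete (IsLocalRing.maximalIdeal R) R]
    (hres : Function.Surjective (fun c : k => IsLocalRing.residue R (algebraMap k R c)))
    (ξ : F.obj (CommAlgCat.of k R)) (N : ℕ) :
    ∃ (A : Type u) (_ : CommRing A) (_ : Algebra k A) (_ : Algebra.FiniteType k A)
      (m : Ideal A) (_ : m.IsMaximal)
      (_ : Function.Surjective (fun c : k => Ideal.Quotient.mk m (algebraMap k A c)))
      (η : F.obj (CommAlgCat.of k A))
      (φ : (R ⧸ IsLocalRing.maximalIdeal R ^ (N + 1)) ≃ₐ[k] (A ⧸ m ^ (N + 1))),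
      F.map (CommAlgCat.ofHom (φ.toAlgHom.comp
          (Ideal.Quotient.mkₐ k (IsLocalRing.maximalIdeal R ^ (N + 1))))) ξ =
        F.map (CommAlgCat.ofHom (Ideal.Quotient.mkₐ k (m ^ (N + 1)))) η ∧
      ∃ e : AssocGr.GrRing (FiltBl.IdealFiltration.adic (IsLocalRing.maximalIdeal R)) ≃+*
          AssocGr.GrRing (FiltBl.IdealFiltration.adic m),
        (∀ (n : ℕ) (x : AssocGr.GrRing (FiltBl.IdealFiltration.adic (IsLocalRing.maximalIdeal R))),
            x ∈ AssocGr.gr (FiltBl.IdealFiltration.adic (IsLocalRing.maximalIdeal R)) n →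
              e x ∈ AssocGr.gr (FiltBl.IdealFiltration.adic m) n) ∧
        (∀ c : k, e (algebraMap R _ (algebraMap k R c)) = algebraMap A _ (algebraMap k A c)) := by
  classical
  set mR : Ideal R := IsLocalRing.maximalIdeal R with hmR
  have hres' : ∀ r : R, ∃ c : k, r - algebraMap k R c ∈ mR := by
    intro r
    obtain ⟨c, hc⟩ := hres (IsLocalRing.residue R r)
    refine ⟨c, ?_⟩
    have hc' : IsLocalRing.residue R (algebraMap k R c) = IsLocalRing.residue R r := hc
    have h0 : IsLocalRing.residue R (r - algebraMap k R c) = 0 := by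
      rw [map_sub, hc', sub_self]
    exact (IsLocalRing.residue_eq_zero_iff _).mp h0
  obtain ⟨n₀, l, f, â, hf, hmodel⟩ :=
    Groth.Agent.Lib.Helper7.CdJModel.exists_fp_model k R F hF ξ
  obtain ⟨t, gen, hgen⟩ := Submodule.fg_iff_exists_fin_generating_family.mp
    (IsNoetherian.noetherian mR)
  let P := MvPolynomial (Fin n₀ ⊕ Fin t) k
  let ι : P →ₐ[k] R := MvPolynomial.aeval (Sum.elim â gen)
  let f' : Fin l → P := fun i => MvPolynomial.rename Sum.inl (f i)
  have hιinl : ∀ j, ι (MvPolynomial.X (Sum.inl j)) = â j := by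
    intro j
    change MvPolynomial.aeval (Sum.elim â gen) (MvPolynomial.X (Sum.inl j)) = â j
    rw [MvPolynomial.aeval_X]; rfl
  have hιinr : ∀ j, ι (MvPolynomial.X (Sum.inr j)) = gen j := by
    intro j
    change MvPolynomial.aeval (Sum.elim â gen) (MvPolynomial.X (Sum.inr j)) = gen j
    rw [MvPolynomial.aeval_X]; rfl
  have hf' : ∀ i, ι (f' i) = 0 := by
    intro i
    simp only [ι, f']
    rw [MvPolynomial.aeval_rename]
    have : (Sum.elim â gen ∘ Sum.inl) = â := by funext j; rfl
    rw [this]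
    exact hf i
  have hgenP : (mR.comap (ι : P →+* R)).map (ι : P →+* R) = mR := by
    apply le_antisymm Ideal.map_comap_le
    have hgen' : Ideal.span (Set.range gen) = mR := hgen
    rw [← hgen', Ideal.span_le]
    rintro _ ⟨j, rfl⟩
    have h1 : (ι : P →+* R) (MvPolynomial.X (Sum.inr j)) = gen j := hιinr j
    rw [← h1]
    apply Ideal.mem_map_of_mem
    rw [Ideal.mem_comap, h1, hgen']
    rw [← hgen']
    exact Ideal.subset_span ⟨j, rfl⟩
  obtain ⟨A, _, _, _, g, hgf, hresA, ha, hb⟩ :=
    Groth.Agent.Lib.Helper7.CdJMain.main k P R hres' ι hgenP f' hf' N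
  set mP : Ideal P := mR.comap (ι : P →+* R) with hmP
  set mA : Ideal A := mP.map (g : P →+* A) with hmA
  have hresP : ∀ r : R, ∃ p : P, r - (ι : P →+* R) p ∈ mR := by
    intro r
    obtain ⟨c, hc⟩ := hres' r
    refine ⟨algebraMap k P c, ?_⟩
    change r - ι (algebraMap k P c) ∈ mR
    rw [ι.commutes]
    exact hc
  have hPk : ∀ p : P, ∃ c : k, p - algebraMap k P c ∈ mP := by
    intro p
    obtain ⟨c, hc⟩ := hres' (ι p)
    refine ⟨c, ?_⟩
    rw [hmP, Ideal.mem_comap]
    change ι (p - algebraMap k P c) ∈ mR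
    rw [map_sub, ι.commutes]
    exact hc
  have hAk : ∀ a : A, ∃ c : k, a - algebraMap k A c ∈ mA := by
    intro a
    obtain ⟨p, hp⟩ := hresA a
    obtain ⟨c, hc⟩ := hPk p
    refine ⟨c, ?_⟩
    have h1 : a - algebraMap k A c = (a - g p) + g (p - algebraMap k P c) := by
      rw [map_sub, g.commutes]; ring
    rw [h1]
    exact Ideal.add_mem _ hp (Ideal.mem_map_of_mem (g : P →+* A) hc)
  have hone : (1 : A) ∉ mA := by
    intro h1
    have htop : mA = ⊤ := (Ideal.eq_top_iff_one _).mpr h1
    have h2 : g 1 ∈ mA ^ (N + 1) := by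
      rw [htop, Ideal.top_pow]; trivial
    have h3 := (ha 1).mpr h2
    rw [map_one] at h3
    have h4 : (1 : R) ∈ mR := Ideal.pow_le_self (Nat.succ_ne_zero N) h3
    exact (IsLocalRing.maximalIdeal.isMaximal R).ne_top ((Ideal.eq_top_iff_one _).mpr h4)
  have hmAmax : mA.IsMaximal := by
    rw [Ideal.isMaximal_iff]
    refine ⟨hone, ?_⟩
    intro J x hJ hx hxJ
    obtain ⟨c, hc⟩ := hAk x
    have hc0 : c ≠ 0 := by
      rintro rfl
      rw [map_zero, sub_zero] at hc
      exact hx hc
    have h1 : (1 : A) = algebraMap k A c⁻¹ * (x - (x - algebraMap k A c)) := by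
      rw [sub_sub_cancel, ← map_mul, inv_mul_cancel₀ hc0, map_one]
    rw [h1]
    exact Ideal.mul_mem_left _ _ (Ideal.sub_mem _ hxJ (hJ hc))
  have hsurjk : Function.Surjective (fun c : k => Ideal.Quotient.mk mA (algebraMap k A c)) := by
    intro z
    obtain ⟨a, rfl⟩ := Ideal.Quotient.mk_surjective z
    obtain ⟨c, hc⟩ := hAk a
    exact ⟨c, (Ideal.Quotient.eq.mpr hc).symm⟩
  -- the element of `F(A)`
  let a' : Fin n₀ → A := fun j => g (MvPolynomial.X (Sum.inl j))
  have hcomp : (g.comp (MvPolynomial.rename Sum.inl : MvPolynomial (Fin n₀) k →ₐ[k] P)) =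
      MvPolynomial.aeval a' := by
    apply MvPolynomial.algHom_ext
    intro j
    rw [AlgHom.comp_apply, MvPolynomial.aeval_X]
    change g (MvPolynomial.rename Sum.inl (MvPolynomial.X j)) = _
    rw [MvPolynomial.rename_X]
  have ha' : ∀ i, MvPolynomial.aeval a' (f i) = 0 := by
    intro i
    rw [← hcomp]
    exact hgf i
  obtain ⟨η, hη⟩ := hmodel A a' ha'
  -- the isomorphism `φ`
  let p₁ : P →ₐ[k] R ⧸ mR ^ (N + 1) := (Ideal.Quotient.mkₐ k (mR ^ (N + 1))).comp ι
  let p₂ : P →ₐ[k] A ⧸ mA ^ (N + 1) := (Ideal.Quotient.mkₐ k (mA ^ (N + 1))).comp g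
  have hp₁ : Function.Surjective p₁ := by
    intro z
    obtain ⟨r, rfl⟩ := Ideal.Quotient.mk_surjective z
    obtain ⟨p, hp⟩ := Groth.Agent.Lib.Helper7.CdJGr.exists_sub_mem_pow (ι : P →+* R) mP mR hgenP
      hresP (N + 1) r
    exact ⟨p, (Ideal.Quotient.eq.mpr hp).symm⟩
  have hp₂ : Function.Surjective p₂ := by
    intro z
    obtain ⟨r, rfl⟩ := Ideal.Quotient.mk_surjective z
    obtain ⟨p, hp⟩ := Groth.Agent.Lib.Helper7.CdJGr.exists_sub_mem_pow (g : P →+* A) mP mA rfl
      hresA (N + 1) r
    exact ⟨p, (Ideal.Quotient.eq.mpr hp).symm⟩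
  have hK : RingHom.ker (p₁ : P →+* R ⧸ mR ^ (N + 1)) =
      RingHom.ker (p₂ : P →+* A ⧸ mA ^ (N + 1)) := by
    ext p
    rw [RingHom.mem_ker, RingHom.mem_ker]
    change Ideal.Quotient.mk _ (ι p) = 0 ↔ Ideal.Quotient.mk _ (g p) = 0
    rw [Ideal.Quotient.eq_zero_iff_mem, Ideal.Quotient.eq_zero_iff_mem]
    exact ha p
  let φ : (R ⧸ mR ^ (N + 1)) ≃ₐ[k] (A ⧸ mA ^ (N + 1)) :=
    (Ideal.quotientKerAlgEquivOfSurjective hp₁).symm.trans
      ((Ideal.quotientEquivAlgOfEq k hK).trans (Ideal.quotientKerAlgEquivOfSurjective hp₂))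
  have hφ : ∀ p, φ (p₁ p) = p₂ p := by
    intro p
    have h1 : (Ideal.quotientKerAlgEquivOfSurjective hp₁).symm (p₁ p) =
        Ideal.Quotient.mk _ p := by
      rw [AlgEquiv.symm_apply_eq]
      rfl
    change (Ideal.quotientKerAlgEquivOfSurjective hp₂)
      (Ideal.quotientEquivAlgOfEq k hK ((Ideal.quotientKerAlgEquivOfSurjective hp₁).symm (p₁ p)))
        = _
    rw [h1]
    rfl
  -- the graded isomorphism
  have hfilt₁ : AssocGr.IsFiltHom (ι : P →+* R) (FiltBl.IdealFiltration.adic mP)
      (FiltBl.IdealFiltration.adic mR) := AssocGr.IsFiltHom.adic (le_of_eq hgenP)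
  have hfilt₂ : AssocGr.IsFiltHom (g : P →+* A) (FiltBl.IdealFiltration.adic mP)
      (FiltBl.IdealFiltration.adic mA) := AssocGr.IsFiltHom.adic le_rfl
  obtain ⟨e, he, hedeg⟩ := Groth.Agent.Lib.Helper7.CdJGr.exists_grEquiv hfilt₁ hfilt₂
    (fun n => Groth.Agent.Lib.Helper7.CdJGr.exists_sub_mem_pow_succ (ι : P →+* R) mP mR hgenP
      hresP n)
    (fun n => Groth.Agent.Lib.Helper7.CdJGr.exists_sub_mem_pow_succ (g : P →+* A) mP mA rfl
      hresA n)
    (fun n p hp => hb n p hp)
  refine ⟨A, inferInstance, inferInstance, inferInstance, mA, hmAmax, hsurjk, η, φ, ?_, e, hedeg, ?_⟩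
  · refine (hη (A ⧸ mA ^ (N + 1)) (φ.toAlgHom.comp (Ideal.Quotient.mkₐ k (mR ^ (N + 1))))
      (Ideal.Quotient.mkₐ k (mA ^ (N + 1))) ?_).symm
    intro j
    have h1 : φ.toAlgHom.comp (Ideal.Quotient.mkₐ k (mR ^ (N + 1))) (â j) =
        φ (p₁ (MvPolynomial.X (Sum.inl j))) := by
      rw [← hιinl j]
      rfl
    rw [h1, hφ]
    rfl
  · intro c
    have h1 : algebraMap R (AssocGr.GrRing (FiltBl.IdealFiltration.adic mR)) (algebraMap k R c) =
        AssocGr.map hfilt₁ (algebraMap P _ (algebraMap k P c)) := by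
      rw [AssocGr.map_algebraMap]
      congr 1
      exact (ι.commutes c).symm
    rw [h1, he, AssocGr.map_algebraMap]
    congr 1
    exact g.commutes c


end Groth.Agent.S17371
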