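import Groth.Statements.S17372
import Mathlib
import Groth.Agent.S17371
import Groth.Agent.Lib.Helper7ArtAlgz

set_option autoImplicit false
set_option linter.style.haveILetI false
universe u
open CategoryTheory CategoryTheory.Limits
open Algz

namespace Groth.Agent.S17372

/-- Functor form. Let k be an algebraically closed field and F a set-valued functor on commutative
k-algebras which preserves filtered colimits (limit preserving). Let R be a complete local
Noetherian k-algebra with residue field k and ξ an element of F(R) which is versal: for every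
surjection π : B → B₀ of local Artinian k-algebras with residue field k, every k-algebra map g₀ : R
→ B₀ and every y in F(B) whose image in F(B₀) is the image of ξ under g₀, there is a k-algebra map g
: R → B lifting g₀ along π with image of ξ equal to y. Then there exist a finitely generated
k-algebra A, a maximal ideal m of A with residue field k, an element η of F(A) and a ring
isomorphism α from R to the m-adic completion of A commuting with the scalars from k, such that for
every n, pushing ξ forward along the k-algebra map R → A/m^(n+1) obtained from α and the evaluation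
of the completion gives the image of η under A → A/m^(n+1). (The published statement is for
limit-preserving prestacks over k-schemes; this row is stated for set-valued functors on k-algebras,
with the residue field k that a formal deformation carries by definition made an explicit
hypothesis.) -/
theorem result (k : Type u) [Field k] [IsAlgClosed k]
    (F : CommAlgCat.{u} k ⥤ Type u)
    (hF : ∀ (J : Type u) [SmallCategory J] [IsFiltered J], PreservesColimitsOfShape J F)
    (R : Type u) [CommRing R] [Algebra k R] [IsLocalRing R] [IsNoetherianRing R]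
    [IsAdicComplete (IsLocalRing.maximalIdeal R) R]
    (hres : Function.Surjective (fun c : k => IsLocalRing.residue R (algebraMap k R c)))
    (ξ : F.obj (CommAlgCat.of k R))
    (hvers : ∀ (B B₀ : Type u) [CommRing B] [Algebra k B] [IsLocalRing B] [IsArtinianRing B]
        [CommRing B₀] [Algebra k B₀] [IsLocalRing B₀] [IsArtinianRing B₀],
        Function.Surjective (fun c : k => IsLocalRing.residue B (algebraMap k B c)) →
        ∀ (π : B →ₐ[k] B₀), Function.Surjective π →
          ∀ (g₀ : R →ₐ[k] B₀) (y : F.obj (CommAlgCat.of k B)),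
            F.map (CommAlgCat.ofHom π) y = F.map (CommAlgCat.ofHom g₀) ξ →
              ∃ g : R →ₐ[k] B, π.comp g = g₀ ∧ F.map (CommAlgCat.ofHom g) ξ = y) :
    ∃ (A : Type u) (_ : CommRing A) (_ : Algebra k A) (_ : Algebra.FiniteType k A)
      (m : Ideal A) (_ : m.IsMaximal)
      (_ : Function.Surjective (fun c : k => Ideal.Quotient.mk m (algebraMap k A c)))
      (η : F.obj (CommAlgCat.of k A))
      (α : R ≃+* AdicCompletion m A),
      (∀ c : k, α (algebraMap k R c) = algebraMap A (AdicCompletion m A) (algebraMap k A c)) ∧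
      ∀ (n : ℕ) (ψ : R →ₐ[k] A ⧸ m ^ (n + 1)),
        ψ.toRingHom = (AdicCompletion.evalₐ m (n + 1) :
            AdicCompletion m A →ₐ[A] A ⧸ m ^ (n + 1)).toRingHom.comp α.toRingHom →
          F.map (CommAlgCat.ofHom ψ) ξ = F.map (CommAlgCat.ofHom (Ideal.Quotient.mkₐ k (m ^ (n + 1)))) η := by
  classical
  obtain ⟨A, _, _, hft, m, hm, hsurjk, η, φ, hφη, e, _, _⟩ :=
    Groth.Agent.S17371.result k F hF R hres ξ 1
  haveI := hm
  haveI : IsNoetherianRing A := Algebra.FiniteType.isNoetherianRing k A
  have hmfg : m.FG := IsNoetherian.noetherian m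
  have hAk : ∀ a : A, ∃ c : k, a - algebraMap k A c ∈ m := by
    intro a
    obtain ⟨c, hc⟩ := hsurjk (Ideal.Quotient.mk m a)
    exact ⟨c, Ideal.Quotient.eq.mp hc.symm⟩
  -- the lifting step
  have step : ∀ (n : ℕ) (s : {g : R →ₐ[k] A ⧸ m ^ (n + 2) //
        F.map (CommAlgCat.ofHom g) ξ =
          F.map (CommAlgCat.ofHom (Ideal.Quotient.mkₐ k (m ^ (n + 2)))) η}),
      ∃ s' : {g : R →ₐ[k] A ⧸ m ^ (n + 1 + 2) //
        F.map (CommAlgCat.ofHom g) ξ =
          F.map (CommAlgCat.ofHom (Ideal.Quotient.mkₐ k (m ^ (n + 1 + 2)))) η},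
        (Ideal.Quotient.factorₐ k (Ideal.pow_le_pow_right
          (show n + 2 ≤ n + 1 + 2 by omega) : m ^ (n + 1 + 2) ≤ m ^ (n + 2))).comp s'.1 = s.1 := by
    intro n s
    haveI := Groth.Agent.Lib.Helper7.ArtAlgz.isLocalRing_quot_pow m (n + 1 + 2) (by omega)
    haveI := Groth.Agent.Lib.Helper7.ArtAlgz.isLocalRing_quot_pow m (n + 2) (by omega)
    haveI := Groth.Agent.Lib.Helper7.ArtAlgz.isArtinianRing_quot_pow m (n + 1 + 2) (by omega)
    haveI := Groth.Agent.Lib.Helper7.ArtAlgz.isArtinianRing_quot_pow m (n + 2) (by omega)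
    have hle : m ^ (n + 1 + 2) ≤ m ^ (n + 2) := Ideal.pow_le_pow_right (by omega)
    obtain ⟨g, hg1, hg2⟩ := hvers (A ⧸ m ^ (n + 1 + 2)) (A ⧸ m ^ (n + 2))
      (Groth.Agent.Lib.Helper7.ArtAlgz.residue_surjective_quot_pow m hAk (n + 1 + 2) (by omega))
      (Ideal.Quotient.factorₐ k hle) (Ideal.Quotient.factor_surjective hle) s.1
      (F.map (CommAlgCat.ofHom (Ideal.Quotient.mkₐ k (m ^ (n + 1 + 2)))) η) (by
        rw [← FunctorToTypes.map_comp_apply, ← CommAlgCat.ofHom_comp,
          Ideal.Quotient.factorₐ_comp_mk]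
        exact s.2.symm)
    exact ⟨⟨g, hg2⟩, hg1⟩
  choose next hnext using step
  let s₀ : {g : R →ₐ[k] A ⧸ m ^ (0 + 2) //
      F.map (CommAlgCat.ofHom g) ξ =
        F.map (CommAlgCat.ofHom (Ideal.Quotient.mkₐ k (m ^ (0 + 2)))) η} :=
    ⟨φ.toAlgHom.comp (Ideal.Quotient.mkₐ k (IsLocalRing.maximalIdeal R ^ (1 + 1))), hφη⟩
  let seq : ∀ n, {g : R →ₐ[k] A ⧸ m ^ (n + 2) //
      F.map (CommAlgCat.ofHom g) ξ =
        F.map (CommAlgCat.ofHom (Ideal.Quotient.mkₐ k (m ^ (n + 2)))) η} :=
    fun n => Nat.rec s₀ (fun n s => next n s) n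
  let G : ∀ n, R →ₐ[k] A ⧸ m ^ (n + 2) := fun n => (seq n).1
  have hG : ∀ n, (Ideal.Quotient.factorₐ k (Ideal.pow_le_pow_right
      (show n + 2 ≤ n + 1 + 2 by omega) : m ^ (n + 1 + 2) ≤ m ^ (n + 2))).comp (G (n + 1)) = G n :=
    fun n => hnext n (seq n)
  have hGF : ∀ n, F.map (CommAlgCat.ofHom (G n)) ξ =
      F.map (CommAlgCat.ofHom (Ideal.Quotient.mkₐ k (m ^ (n + 2)))) η := fun n => (seq n).2
  have hG0 : ∀ x : R, G 0 x = φ (Ideal.Quotient.mk _ x) := fun x => rfl
  -- general compatibility
  have hGab : ∀ (a b : ℕ) (hab : a ≤ b),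
      (Ideal.Quotient.factorₐ k (Ideal.pow_le_pow_right (Nat.add_le_add_right hab 2) :
        m ^ (b + 2) ≤ m ^ (a + 2))).comp (G b) = G a := by
    intro a b hab
    induction b, hab using Nat.le_induction with
    | base =>
      rw [Ideal.Quotient.factorₐ_refl]
      rfl
    | succ b hab ih =>
      have h1 : (Ideal.Quotient.factorₐ k (Ideal.pow_le_pow_right
          (Nat.add_le_add_right (Nat.le_succ_of_le hab) 2) : m ^ (b + 1 + 2) ≤ m ^ (a + 2))) =
          (Ideal.Quotient.factorₐ k (Ideal.pow_le_pow_right (Nat.add_le_add_right hab 2) :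
            m ^ (b + 2) ≤ m ^ (a + 2))).comp
          (Ideal.Quotient.factorₐ k (Ideal.pow_le_pow_right
            (show b + 2 ≤ b + 1 + 2 by omega) : m ^ (b + 1 + 2) ≤ m ^ (b + 2))) := by
        rw [Ideal.Quotient.factorₐ_comp]
      rw [h1, AlgHom.comp_assoc, hG b, ih]
  -- the compatible family
  let f : ∀ n, R →ₐ[k] A ⧸ m ^ n := fun n =>
    (Ideal.Quotient.factorₐ k (Ideal.pow_le_pow_right (Nat.le_add_right n 2) :
      m ^ (n + 2) ≤ m ^ n)).comp (G n)
  have hf : ∀ {a b : ℕ} (hle : a ≤ b),
      (Ideal.Quotient.factorₐ k (Ideal.pow_le_pow_right hle)).comp (f b) = f a := by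
    intro a b hle
    simp only [f]
    rw [← hGab a b hle, ← AlgHom.comp_assoc, ← AlgHom.comp_assoc, Ideal.Quotient.factorₐ_comp,
      Ideal.Quotient.factorₐ_comp]
  let α₀ : R →ₐ[k] AdicCompletion m A := AdicCompletion.liftAlgHom m f hf
  have hα₀ : ∀ n x, AdicCompletion.evalₐ m n (α₀ x) = f n x :=
    fun n x => AdicCompletion.evalₐ_liftAlgHom m f hf n x
  -- the approximation property
  have hφ' : ∀ a ∈ m, ∃ x : R,
      α₀ x - algebraMap A (AdicCompletion m A) a ∈ Groth.Agent.Lib.Helper7.CdJApprox.M m ^ 2 := by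
    intro a _
    obtain ⟨r, hr⟩ := φ.surjective (Ideal.Quotient.mk (m ^ (1 + 1)) a)
    obtain ⟨x, rfl⟩ := Ideal.Quotient.mk_surjective r
    refine ⟨x, ?_⟩
    rw [Groth.Agent.Lib.Helper7.CdJApprox.mem_M_pow_iff m hmfg, map_sub, hα₀,
      AdicCompletion.algebraMap_apply, Algebra.algebraMap_self, RingHom.id_apply,
      AdicCompletion.evalₐ_of, sub_eq_zero]
    have h1 : f 2 x = G 0 x := by
      have := hGab 0 2 (by omega)
      exact congr($this x)
    rw [h1, hG0]
    exact hr
  have hbij := Groth.Agent.Lib.Helper7.ArtAlgz.bijective_of_grEquiv m hAk α₀ hφ' e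
  refine ⟨A, inferInstance, inferInstance, hft, m, hm, hsurjk, η,
    RingEquiv.ofBijective (α₀ : R →+* AdicCompletion m A) hbij, ?_, ?_⟩
  · intro c
    change α₀ (algebraMap k R c) = _
    rw [α₀.commutes]
    rfl
  · intro n ψ hψ
    have hψf : ψ = f (n + 1) := by
      ext x
      have h1 := congr($hψ x)
      have h2 : ψ x = AdicCompletion.evalₐ m (n + 1) (α₀ x) := h1
      rw [h2, hα₀]
    rw [hψf]
    simp only [f]
    rw [CommAlgCat.ofHom_comp, FunctorToTypes.map_comp_apply, hGF (n + 1),
      ← FunctorToTypes.map_comp_apply, ← CommAlgCat.ofHom_comp, Ideal.Quotient.factorₐ_comp_mk]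


end Groth.Agent.S17372
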