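import Groth.Statements.S17376
import Mathlib
import Groth.Agent.Lib.Helper13McCoy

set_option autoImplicit false
universe u
open scoped TensorProduct
open CAlg

open Polynomial Matrix TensorProduct

namespace Groth.Agent.S17376


theorem exists_det_submatrix {R : Type u} [CommRing R] {n : ℕ} (M : Matrix (Fin n) (Fin n) R)
    (f g : Fin n → Fin n) : ∃ c : R, (M.submatrix f g).det = c * M.det := by
  classical
  by_cases hf : Function.Injective f
  · by_cases hg : Function.Injective g
    · let σ : Equiv.Perm (Fin n) := Equiv.ofBijective f (Finite.injective_iff_bijective.mp hf)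
      let τ : Equiv.Perm (Fin n) := Equiv.ofBijective g (Finite.injective_iff_bijective.mp hg)
      have h1 : M.submatrix f g = (M.submatrix id τ).submatrix σ id := by
        ext i j; rfl
      rw [h1, Matrix.det_permute, Matrix.det_permute']
      exact ⟨(Equiv.Perm.sign σ : ℤ) * (Equiv.Perm.sign τ : ℤ), by push_cast; ring⟩
    · refine ⟨0, ?_⟩
      rw [zero_mul]
      simp only [Function.Injective, not_forall] at hg
      obtain ⟨i, j, hij, hne⟩ := hg
      exact Matrix.det_zero_of_column_eq hne (fun l => by simp [Matrix.submatrix_apply, hij])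
  · refine ⟨0, ?_⟩
    rw [zero_mul]
    simp only [Function.Injective, not_forall] at hf
    obtain ⟨i, j, hij, hne⟩ := hf
    exact Matrix.det_zero_of_row_eq hne (by ext l; simp [Matrix.submatrix_apply, hij])

/-- For a finite free algebra, an element is regular iff its norm is regular. -/
theorem isRegular_iff_isRegular_norm {R' S : Type u} [CommRing R'] [CommRing S] [Algebra R' S]
    {n : ℕ} (b : Module.Basis (Fin n) R' S) (x : S) :
    IsRegular x ↔ IsRegular (Algebra.norm R' x) := by
  classical
  rw [Algebra.norm_eq_matrix_det b x]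
  set M := Algebra.leftMulMatrix b x with hM
  constructor
  · intro hx
    rw [isRegular_iff_mem_nonZeroDivisors, mem_nonZeroDivisors_iff_right]
    have hinj : Function.Injective (Matrix.mulVecLin M) := by
      rw [injective_iff_map_eq_zero]
      intro v hv
      rw [Matrix.mulVecLin_apply] at hv
      obtain ⟨y, rfl⟩ : ∃ y : S, b.equivFun y = v := b.equivFun.surjective v
      have h1 := Algebra.leftMulMatrix_mulVec_repr b x y
      change M *ᵥ (b.equivFun y) = b.equivFun (x * y) at h1
      rw [hv] at h1
      have h2 : x * y = 0 := b.equivFun.injective (by rw [← h1, map_zero])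
      have h3 : y = 0 := hx.left (by change x * y = x * 0; rw [h2, mul_zero])
      rw [h3, map_zero]
    intro a ha
    apply Groth.Agent.Helper13McCoy.eq_zero_of_forall_mul_det M hinj a
    intro f g
    obtain ⟨c, hc⟩ := exists_det_submatrix M f g
    rw [hc, mul_comm c, ← mul_assoc, ha, zero_mul]
  · intro hd
    rw [isRegular_iff_mem_nonZeroDivisors] at hd
    have hinj := Matrix.mulVec_injective_of_det_mem_nonZeroDivisors hd
    rw [← isLeftRegular_iff_isRegular]
    intro y y' hyy'
    apply b.equivFun.injective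
    apply hinj
    have h1 := Algebra.leftMulMatrix_mulVec_repr b x y
    have h2 := Algebra.leftMulMatrix_mulVec_repr b x y'
    change M *ᵥ (b.equivFun y) = b.equivFun (x * y) at h1
    change M *ᵥ (b.equivFun y') = b.equivFun (x * y') at h2
    change M *ᵥ _ = M *ᵥ _
    rw [h1, h2]
    exact congrArg _ hyy'



/-- Norm integrality: `R₀ → R' → S`, `R'` a domain, `S` finite free over `R'`; the norm of an element integral over `R₀` is
integral over `R₀`. -/
theorem isIntegralElem_norm {R₀ R' S : Type u} [CommRing R₀] [CommRing R'] [IsDomain R'] [CommRing S]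
    [Algebra R' S] [Module.Free R' S] [Module.Finite R' S] (φ : R₀ →+* R') (s : S)
    (hs : ((algebraMap R' S).comp φ).IsIntegralElem s) : φ.IsIntegralElem (Algebra.norm R' s) := by
  classical
  obtain ⟨p, hp, hps⟩ := hs
  let ι := Module.Free.ChooseBasisIndex R' S
  let b : Module.Basis ι R' S := Module.Free.chooseBasis R' S
  let F := AlgebraicClosure (FractionRing R')
  let ψ : R' →+* F := algebraMap R' F
  have hψ : Function.Injective ψ :=
    (algebraMap (FractionRing R') F).injective.comp (IsFractionRing.injective R' (FractionRing R'))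
  let M : Matrix ι ι R' := Algebra.leftMulMatrix b s
  let MF : Matrix ι ι F := M.map ψ
  -- the polynomial kills M
  have hpM : eval₂ ((algebraMap R' (Matrix ι ι R')).comp φ) M p = 0 := by
    have h1 : eval₂ ((algebraMap R' (Matrix ι ι R')).comp φ) M p =
        (Algebra.leftMulMatrix b) (eval₂ ((algebraMap R' S).comp φ) s p) := by
      rw [← AlgHom.coe_toRingHom, hom_eval₂]
      congr 1
      ext r
      simp
    rw [h1, hps, map_zero]
  have hpMF : aeval MF (p.map (ψ.comp φ)) = 0 := by
    rw [aeval_def, eval₂_map]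
    have h2 : eval₂ ((algebraMap F (Matrix ι ι F)).comp (ψ.comp φ)) MF p =
        ψ.mapMatrix (eval₂ ((algebraMap R' (Matrix ι ι R')).comp φ) M p) := by
      rw [hom_eval₂]
      congr 1
      ext r i j
      simp [Matrix.algebraMap_matrix_apply]
      split_ifs <;> simp
    rw [h2, hpM, map_zero]
  -- every root of the characteristic polynomial is integral
  have hroot : ∀ μ ∈ MF.charpoly.roots, (ψ.comp φ).IsIntegralElem μ := by
    intro μ hμ
    have hμ' : μ ∈ spectrum F MF :=
      Matrix.mem_spectrum_of_isRoot_charpoly ((mem_roots'.mp hμ).2)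
    have h3 := spectrum.subset_polynomial_aeval MF (p.map (ψ.comp φ)) ⟨μ, hμ', rfl⟩
    rw [hpMF] at h3
    have h4 : eval μ (p.map (ψ.comp φ)) = 0 := by
      rcases subsingleton_or_nontrivial (Matrix ι ι F) with hsub | hnt
      · rw [spectrum.of_subsingleton] at h3
        exact absurd h3 (Set.notMem_empty _)
      · rw [spectrum.zero_eq] at h3
        exact h3
    refine ⟨p, hp, ?_⟩
    rwa [eval_map] at h4
  have hdet : (ψ.comp φ).IsIntegralElem (MF.det) := by
    rw [Matrix.det_eq_prod_roots_charpoly]
    letI := (ψ.comp φ).toAlgebra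
    exact IsIntegral.multiset_prod (fun μ hμ => hroot μ hμ)
  have hdet' : MF.det = ψ (Algebra.norm R' s) := by
    rw [Algebra.norm_eq_matrix_det b s, RingHom.map_det]
    rfl
  rw [hdet'] at hdet
  obtain ⟨q, hq, hqs⟩ := hdet
  refine ⟨q, hq, hψ ?_⟩
  rw [map_zero, hom_eval₂]
  exact hqs


section Basis

variable (k K L R : Type u) [Field k] [Field K] [Algebra k K] [Field L] [Algebra K L]
  [Algebra k L] [IsScalarTower k K L] [CommRing R] [Algebra k R]

/-- the algebra structure of `L ⊗ R` over `K ⊗ R`. -/
@[reducible] noncomputable def algKL : Algebra (K ⊗[k] R) (L ⊗[k] R) :=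
  (Algebra.TensorProduct.map (IsScalarTower.toAlgHom k K L) (AlgHom.id k R)).toRingHom.toAlgebra

attribute [local instance] algKL

theorem algebraMap_tmul (a : K) (r : R) :
    algebraMap (K ⊗[k] R) (L ⊗[k] R) (a ⊗ₜ r) = (algebraMap K L a) ⊗ₜ r := rfl

theorem smul_tmul_tmul (a : K) (s : R) (l : L) (r : R) :
    (a ⊗ₜ[k] s : K ⊗[k] R) • (l ⊗ₜ[k] r : L ⊗[k] R) = (a • l) ⊗ₜ (s * r) := by
  rw [Algebra.smul_def, algebraMap_tmul, Algebra.TensorProduct.tmul_mul_tmul, Algebra.smul_def]

variable {k K L} {ι : Type} [Fintype ι] [DecidableEq ι] (e : Module.Basis ι K L)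

/-- coordinate maps -/
noncomputable def cR (i : ι) : L ⊗[k] R →ₗ[k] K ⊗[k] R :=
  TensorProduct.map ((e.coord i).restrictScalars k) LinearMap.id

@[simp] theorem cR_tmul (i : ι) (l : L) (r : R) :
    cR R e i (l ⊗ₜ[k] r) = (e.repr l i) ⊗ₜ[k] r := rfl

theorem cR_smul (i : ι) (c : K ⊗[k] R) (y : L ⊗[k] R) : cR R e i (c • y) = c * cR R e i y := by
  induction c using TensorProduct.induction_on with
  | zero => simp
  | add c c' hc hc' => rw [add_smul, map_add, hc, hc', add_mul]
  | tmul a s =>
    induction y using TensorProduct.induction_on with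
    | zero => simp
    | add y y' hy hy' => rw [smul_add, map_add, hy, hy', map_add, mul_add]
    | tmul l r =>
      rw [smul_tmul_tmul, cR_tmul, cR_tmul, Algebra.TensorProduct.tmul_mul_tmul]
      simp

theorem sum_cR (y : L ⊗[k] R) : ∑ i, cR R e i y • ((e i) ⊗ₜ[k] (1 : R)) = y := by
  induction y using TensorProduct.induction_on with
  | zero => simp
  | add y y' hy hy' => simp only [map_add, add_smul, Finset.sum_add_distrib, hy, hy']
  | tmul l r =>
    simp only [cR_tmul, smul_tmul_tmul, mul_one]
    rw [← TensorProduct.sum_tmul, e.sum_repr]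

/-- the basis `e i ⊗ 1`. -/
noncomputable def bR : Module.Basis ι (K ⊗[k] R) (L ⊗[k] R) :=
  Module.Basis.ofEquivFun
    { toFun := fun y i => cR R e i y
      map_add' := fun y y' => by ext i; simp
      map_smul' := fun c y => by ext i; simp [cR_smul]
      invFun := fun g => ∑ i, g i • ((e i) ⊗ₜ[k] (1 : R))
      left_inv := fun y => sum_cR R e y
      right_inv := fun g => by
        ext j
        simp only [map_sum, cR_smul, cR_tmul, Module.Basis.repr_self]
        rw [Finset.sum_eq_single j]
        · rw [Finsupp.single_eq_same, ← Algebra.TensorProduct.one_def, mul_one]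
        · intro i _ hij
          rw [Finsupp.single_eq_of_ne (Ne.symm hij), zero_tmul, mul_zero]
        · simp }

theorem bR_repr (y : L ⊗[k] R) (i : ι) : (bR R e).repr y i = cR R e i y := rfl

theorem bR_apply (i : ι) : bR R e i = (e i) ⊗ₜ[k] (1 : R) := by
  apply (bR R e).repr.injective
  ext j
  rw [Module.Basis.repr_self, bR_repr, cR_tmul, Module.Basis.repr_self]
  by_cases hij : i = j
  · subst hij; simp [Algebra.TensorProduct.one_def]
  · simp [Finsupp.single_eq_of_ne (Ne.symm hij)]

theorem leftMulMatrix_tmul (l : L) (r : R) (i j : ι) :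
    Algebra.leftMulMatrix (bR R e) (l ⊗ₜ[k] r) i j = (Algebra.leftMulMatrix e l i j) ⊗ₜ[k] r := by
  rw [Algebra.leftMulMatrix_eq_repr_mul, Algebra.leftMulMatrix_eq_repr_mul, bR_repr, bR_apply,
    Algebra.TensorProduct.tmul_mul_tmul, cR_tmul, mul_one]

variable {R} {R' : Type u} [CommRing R'] [Algebra k R'] (g : R →ₐ[k] R')

theorem leftMulMatrix_map (y : L ⊗[k] R) :
    (Algebra.TensorProduct.map (AlgHom.id k K) g).toRingHom.mapMatrix
        (Algebra.leftMulMatrix (bR R e) y) =
      Algebra.leftMulMatrix (bR R' e) (Algebra.TensorProduct.map (AlgHom.id k L) g y) := by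
  induction y using TensorProduct.induction_on with
  | zero => simp
  | add y y' hy hy' => rw [map_add, map_add, hy, hy', map_add, map_add]
  | tmul l r =>
    ext i j
    simp [leftMulMatrix_tmul]

include e in
theorem norm_map (y : L ⊗[k] R) :
    Algebra.norm (K ⊗[k] R') (Algebra.TensorProduct.map (AlgHom.id k L) g y) =
      Algebra.TensorProduct.map (AlgHom.id k K) g (Algebra.norm (K ⊗[k] R) y) := by
  rw [Algebra.norm_eq_matrix_det (bR R' e), Algebra.norm_eq_matrix_det (bR R e),
    ← leftMulMatrix_map]
  exact (RingHom.map_det _ _).symm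

end Basis

section Poly

variable {k A K L : Type u} [Field k] [CommRing A] [IsDomain A] [IsIntegrallyClosed A] [Algebra k A]
    [Field K] [Algebra A K] [IsFractionRing A K] [Algebra k K] [IsScalarTower k A K]
    [Field L] [Algebra K L] [FiniteDimensional K L] [Algebra A L] [IsScalarTower A K L]
    [Algebra k L] [IsScalarTower k K L] [IsScalarTower k A L]

attribute [local instance] algKL

variable (k A K L) (R : Type u) [CommRing R] [Algebra k R]

/-- `A ⊗ R → K ⊗ R` -/
noncomputable abbrev jR : A ⊗[k] R →ₐ[k] K ⊗[k] R :=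
  Algebra.TensorProduct.map (IsScalarTower.toAlgHom k A K) (AlgHom.id k R)

/-- `B ⊗ R → L ⊗ R` -/
noncomputable abbrev iR : (integralClosure A L) ⊗[k] R →ₐ[k] L ⊗[k] R :=
  Algebra.TensorProduct.map ((integralClosure A L).val.restrictScalars k) (AlgHom.id k R)

theorem isIntegralElem_iR (y : (integralClosure A L) ⊗[k] R) :
    ((algebraMap (K ⊗[k] R) (L ⊗[k] R)).comp (jR k A K R).toRingHom).IsIntegralElem
      (iR k A L R y) := by
  set f := (algebraMap (K ⊗[k] R) (L ⊗[k] R)).comp (jR k A K R).toRingHom with hf
  induction y using TensorProduct.induction_on with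
  | zero => rw [map_zero]; exact f.isIntegralElem_zero
  | add y y' hy hy' => rw [map_add]; exact RingHom.IsIntegralElem.add f hy hy'
  | tmul β r =>
    have h1 : iR k A L R (β ⊗ₜ r) = ((β : L) ⊗ₜ[k] (1 : R)) * ((1 : L) ⊗ₜ[k] r) := by
      simp
    rw [h1]
    refine RingHom.IsIntegralElem.mul f ?_ ?_
    · obtain ⟨p, hp, hpβ⟩ := β.2
      refine ⟨p.map (Algebra.TensorProduct.includeLeftRingHom : A →+* A ⊗[k] R), hp.map _, ?_⟩
      rw [Polynomial.eval₂_map]
      have h2 : f.comp (Algebra.TensorProduct.includeLeftRingHom : A →+* A ⊗[k] R) =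
          (Algebra.TensorProduct.includeLeftRingHom : L →+* L ⊗[k] R).comp (algebraMap A L) := by
        ext a
        simp [hf, algebraMap_tmul, ← IsScalarTower.algebraMap_apply]
      rw [h2]
      have h4 : ((β : L) ⊗ₜ[k] (1 : R)) =
          (Algebra.TensorProduct.includeLeftRingHom : L →+* L ⊗[k] R) (β : L) := rfl
      rw [h4, ← Polynomial.hom_eval₂, hpβ, map_zero]
    · have h3 : ((1 : L) ⊗ₜ[k] r) = f ((1 : A) ⊗ₜ[k] r) := by
        simp [hf, algebraMap_tmul]
      rw [h3]
      exact f.isIntegralElem_map

section PolyCase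
variable (σ : Type u)

attribute [local instance] MvPolynomial.algebraMvPolynomial

theorem theta_compat (x : A ⊗[k] MvPolynomial σ k) :
    MvPolynomial.algebraTensorAlgEquiv k K (jR k A K (MvPolynomial σ k) x) =
      MvPolynomial.map (algebraMap A K) (MvPolynomial.algebraTensorAlgEquiv k A x) := by
  induction x using TensorProduct.induction_on with
  | zero => simp
  | add x y hx hy => simp only [map_add, hx, hy]
  | tmul a p =>
    simp only [Algebra.TensorProduct.map_tmul, IsScalarTower.coe_toAlgHom', AlgHom.coe_id, id_eq]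
    rw [MvPolynomial.algebraTensorAlgEquiv_tmul, MvPolynomial.algebraTensorAlgEquiv_tmul,
      MvPolynomial.smul_eq_C_mul, MvPolynomial.smul_eq_C_mul, map_mul, MvPolynomial.map_C,
      MvPolynomial.map_map, ← IsScalarTower.algebraMap_eq]

theorem norm_mem_range_poly (y : (integralClosure A L) ⊗[k] MvPolynomial σ k) :
    Algebra.norm (K ⊗[k] MvPolynomial σ k) (iR k A L _ y) ∈
      Set.range (jR k A K (MvPolynomial σ k)) := by
  classical
  let e := Module.finBasis K L
  haveI : Module.Free (K ⊗[k] MvPolynomial σ k) (L ⊗[k] MvPolynomial σ k) :=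
    Module.Free.of_basis (bR (MvPolynomial σ k) e)
  haveI : Module.Finite (K ⊗[k] MvPolynomial σ k) (L ⊗[k] MvPolynomial σ k) :=
    Module.Finite.of_basis (bR (MvPolynomial σ k) e)
  let θK := MvPolynomial.algebraTensorAlgEquiv (σ := σ) k K
  let θA := MvPolynomial.algebraTensorAlgEquiv (σ := σ) k A
  haveI : IsDomain (K ⊗[k] MvPolynomial σ k) := θK.toMulEquiv.isDomain _
  have h1 := isIntegralElem_norm (jR k A K (MvPolynomial σ k)).toRingHom _
    (isIntegralElem_iR k A K L (MvPolynomial σ k) y)
  set N := Algebra.norm (K ⊗[k] MvPolynomial σ k) (iR k A L (MvPolynomial σ k) y) with hN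
  obtain ⟨q, hq, hqN⟩ := h1
  have h2 : IsIntegral (MvPolynomial σ A) (θK N) := by
    refine ⟨q.map θA.toRingEquiv.toRingHom, hq.map _, ?_⟩
    rw [Polynomial.eval₂_map]
    have hcomp : (algebraMap (MvPolynomial σ A) (MvPolynomial σ K)).comp θA.toRingEquiv.toRingHom =
        θK.toRingEquiv.toRingHom.comp (jR k A K (MvPolynomial σ k)).toRingHom := by
      refine RingHom.ext fun x => ?_
      exact (theta_compat k A K σ x).symm
    rw [hcomp]
    have : θK N = θK.toRingEquiv.toRingHom N := rfl
    rw [this, ← Polynomial.hom_eval₂, hqN, map_zero]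
  have h3 := MvPolynomial.isIntegral_iff_isIntegral_coeff.mp h2
  have h4 : θK N ∈ Set.range (MvPolynomial.map (algebraMap A K)) := by
    rw [MvPolynomial.mem_range_map_iff_coeffs_subset]
    intro c hc
    obtain ⟨m, hm, rfl⟩ := MvPolynomial.mem_coeffs_iff.mp hc
    exact IsIntegrallyClosed.isIntegral_iff.mp (h3 m)
  obtain ⟨P, hP⟩ := h4
  refine ⟨θA.symm P, ?_⟩
  apply θK.injective
  rw [theta_compat, AlgEquiv.apply_symm_apply, hP]

end PolyCase

theorem norm_mem_range (b : (integralClosure A L) ⊗[k] R) :
    Algebra.norm (K ⊗[k] R) (iR k A L R b) ∈ Set.range (jR k A K R) := by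
  classical
  let e := Module.finBasis K L
  let g : MvPolynomial R k →ₐ[k] R := MvPolynomial.aeval id
  obtain ⟨γ, hγ⟩ : ∃ γ : (integralClosure A L) ⊗[k] MvPolynomial R k,
      Algebra.TensorProduct.map (AlgHom.id k _) g γ = b := by
    induction b using TensorProduct.induction_on with
    | zero => exact ⟨0, map_zero _⟩
    | add b b' hb hb' =>
      obtain ⟨γ, hγ⟩ := hb
      obtain ⟨γ', hγ'⟩ := hb'
      exact ⟨γ + γ', by rw [map_add, hγ, hγ']⟩
    | tmul β r => exact ⟨β ⊗ₜ MvPolynomial.X r, by simp [g]⟩
  have hnat : iR k A L R b =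
      Algebra.TensorProduct.map (AlgHom.id k L) g (iR k A L (MvPolynomial R k) γ) := by
    rw [← hγ]
    clear hγ
    induction γ using TensorProduct.induction_on with
    | zero => simp
    | add γ γ' h h' => simp only [map_add, h, h']
    | tmul β p => simp
  obtain ⟨a₀, ha₀⟩ := norm_mem_range_poly k A K L R γ
  refine ⟨Algebra.TensorProduct.map (AlgHom.id k A) g a₀, ?_⟩
  rw [hnat, norm_map e g, ← ha₀]
  clear ha₀
  induction a₀ using TensorProduct.induction_on with
  | zero => simp
  | add x x' h h' => simp only [map_add, h, h']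
  | tmul a p => simp

theorem iR_injective : Function.Injective (iR k A L R) := by
  have h := Module.Flat.rTensor_preserves_injective_linearMap (M := R)
    (((integralClosure A L).val.restrictScalars k).toLinearMap) Subtype.val_injective
  intro x y hxy
  apply h
  exact hxy

include K in
theorem exists_mul_eq_iR (y : L ⊗[k] R) :
    ∃ (a : A) (_ : a ≠ 0) (x : (integralClosure A L) ⊗[k] R),
      ((algebraMap A L a) ⊗ₜ[k] (1 : R)) * y = iR k A L R x := by
  induction y using TensorProduct.induction_on with
  | zero => exact ⟨1, one_ne_zero, 0, by simp⟩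
  | tmul l r =>
    obtain ⟨a, ha, hint⟩ := exists_integral_multiples A K ({l} : Finset L)
    have h1 : IsIntegral A (a • l) := hint l (Finset.mem_singleton_self l)
    refine ⟨a, ha, (⟨a • l, h1⟩ : integralClosure A L) ⊗ₜ r, ?_⟩
    simp [Algebra.smul_def]
  | add y y' hy hy' =>
    obtain ⟨a, ha, x, hx⟩ := hy
    obtain ⟨a', ha', x', hx'⟩ := hy'
    refine ⟨a * a', mul_ne_zero ha ha',
      ((algebraMap A (integralClosure A L) a') ⊗ₜ[k] (1 : R)) * x +
        ((algebraMap A (integralClosure A L) a) ⊗ₜ[k] (1 : R)) * x', ?_⟩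
    have e1 : iR k A L R ((algebraMap A (integralClosure A L) a') ⊗ₜ[k] (1 : R)) =
        (algebraMap A L a') ⊗ₜ[k] (1 : R) := by simp
    have e2 : iR k A L R ((algebraMap A (integralClosure A L) a) ⊗ₜ[k] (1 : R)) =
        (algebraMap A L a) ⊗ₜ[k] (1 : R) := by simp
    rw [map_add, map_mul (iR k A L R) _ x, map_mul (iR k A L R) _ x', e1, e2, ← hx, ← hx', map_mul]
    have e3 : ((algebraMap A L a * algebraMap A L a') ⊗ₜ[k] (1 : R) : L ⊗[k] R) =
        ((algebraMap A L a) ⊗ₜ[k] (1 : R)) * ((algebraMap A L a') ⊗ₜ[k] (1 : R)) := by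
      rw [Algebra.TensorProduct.tmul_mul_tmul, mul_one]
    rw [e3]
    ring

include K in
theorem isUnit_tmul_one (a : A) (ha : a ≠ 0) :
    IsUnit ((algebraMap A L a) ⊗ₜ[k] (1 : R) : L ⊗[k] R) := by
  have hne : algebraMap A L a ≠ 0 := by
    rw [IsScalarTower.algebraMap_apply A K L]
    intro h
    have h1 := (map_eq_zero (algebraMap K L)).mp h
    exact ha ((map_eq_zero_iff _ (IsFractionRing.injective A K)).mp h1)
  refine IsUnit.of_mul_eq_one (((algebraMap A L a)⁻¹) ⊗ₜ[k] (1 : R)) ?_
  rw [Algebra.TensorProduct.tmul_mul_tmul, mul_inv_cancel₀ hne, mul_one]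
  rfl

include K in
theorem isRegular_iR_iff (b : (integralClosure A L) ⊗[k] R) :
    IsRegular b ↔ IsRegular (iR k A L R b) := by
  simp only [isRegular_iff_mem_nonZeroDivisors, mem_nonZeroDivisors_iff_right]
  constructor
  · intro hb y hy
    obtain ⟨a, ha, x, hx⟩ := exists_mul_eq_iR k A K L R y
    have h1 : iR k A L R (x * b) = 0 := by
      rw [map_mul, ← hx, mul_assoc, hy, mul_zero]
    have h2 : x * b = 0 := iR_injective k A L R (by rw [h1, map_zero])
    have h3 : x = 0 := hb x h2
    rw [h3, map_zero] at hx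
    exact (isUnit_tmul_one k A K L R a ha).mul_right_eq_zero.mp hx
  · intro hb x hx
    apply iR_injective k A L R
    rw [map_zero]
    apply hb
    rw [← map_mul, hx, map_zero]

end Poly




/-- Let k be a field, A an integrally closed domain over k with fraction field K, L a finite extension
of K, B the integral closure of A in L, and R an arbitrary commutative k-algebra; view L ⊗_k R as an
algebra over K ⊗_k R through K → L. Then L ⊗_k R is finite free over K ⊗_k R, so the norm
(determinant of multiplication) L ⊗_k R → K ⊗_k R is defined; the norm of any element β of B ⊗_k R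
(mapped into L ⊗_k R) lies in the image of A ⊗_k R; and β is a nonzerodivisor in B ⊗_k R if and only
if its norm is a nonzerodivisor in K ⊗_k R. (Nonzerodivisors of A ⊗_k R are exactly its elements
that are nonzerodivisors in K ⊗_k R, the latter being a localisation of the former at
nonzerodivisors, so this is the source's formulation with the norm regarded in A ⊗_k R.) -/
theorem result (k A K L R : Type u) [Field k]
    [CommRing A] [IsDomain A] [IsIntegrallyClosed A] [Algebra k A]
    [Field K] [Algebra A K] [IsFractionRing A K] [Algebra k K] [IsScalarTower k A K]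
    [Field L] [Algebra K L] [FiniteDimensional K L] [Algebra A L] [IsScalarTower A K L]
    [Algebra k L] [IsScalarTower k K L] [IsScalarTower k A L]
    [CommRing R] [Algebra k R] :
    letI : Algebra (K ⊗[k] R) (L ⊗[k] R) :=
      (Algebra.TensorProduct.map (IsScalarTower.toAlgHom k K L) (AlgHom.id k R)).toRingHom.toAlgebra
    Module.Free (K ⊗[k] R) (L ⊗[k] R) ∧ Module.Finite (K ⊗[k] R) (L ⊗[k] R) ∧
      ∀ b : (integralClosure A L) ⊗[k] R,
        Algebra.norm (K ⊗[k] R)
            (Algebra.TensorProduct.map ((integralClosure A L).val.restrictScalars k) (AlgHom.id k R) b) ∈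
          Set.range (Algebra.TensorProduct.map (IsScalarTower.toAlgHom k A K) (AlgHom.id k R)) ∧
        (IsRegular b ↔ IsRegular (Algebra.norm (K ⊗[k] R)
            (Algebra.TensorProduct.map ((integralClosure A L).val.restrictScalars k) (AlgHom.id k R) b))) := by
  classical
  letI := algKL k K L R
  let e := Module.finBasis K L
  refine ⟨Module.Free.of_basis (bR R e), Module.Finite.of_basis (bR R e), fun b =>
    ⟨norm_mem_range k A K L R b, ?_⟩⟩
  exact (isRegular_iR_iff k A K L R b).trans (isRegular_iff_isRegular_norm (bR R e) _)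

end Groth.Agent.S17376
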