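import Groth.Statements.S17377
import Mathlib
import Groth.Agent.Lib.Helper20NormFin

set_option autoImplicit false
universe u
open CategoryTheory CategoryTheory.Limits AlgebraicGeometry
open Variety

namespace Groth.Agent.S17377
open CategoryTheory CategoryTheory.Limits AlgebraicGeometry
open scoped TensorProduct
open Variety

/-- A1: integral birational extension of an integrally closed domain is surjective. -/
theorem surjective_of_birational {A B : Type u} [CommRing A] [IsDomain A] [IsIntegrallyClosed A]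
    [CommRing B] [IsDomain B] (ψ : A →+* B) (hinj : Function.Injective ψ) (hint : ψ.IsIntegral)
    (hbir : ∀ b : B, ∃ a₁ a₂ : A, a₂ ≠ 0 ∧ ψ a₂ * b = ψ a₁) : Function.Surjective ψ := by
  intro b
  obtain ⟨a₁, a₂, ha₂, hab⟩ := hbir b
  letI : Algebra A B := ψ.toAlgebra
  let K := FractionRing A
  let L := FractionRing B
  haveI : FaithfulSMul A B := (faithfulSMul_iff_algebraMap_injective A B).mpr hinj
  have hAL : Function.Injective (Algebra.ofId A L) := FaithfulSMul.algebraMap_injective A L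
  let θ : K →ₐ[A] L := IsFractionRing.liftAlgHom (A := A) (K := K) (g := Algebra.ofId A L) hAL
  have hθinj : Function.Injective θ := θ.toRingHom.injective
  have ha₂K : algebraMap A K a₂ ≠ 0 := by
    intro h
    exact ha₂ (IsFractionRing.injective A K (by rw [h, map_zero]))
  let x : K := algebraMap A K a₁ / algebraMap A K a₂
  have hθx : θ x = algebraMap B L b := by
    have h1 : θ (algebraMap A K a₂) * θ x = θ (algebraMap A K a₁) := by
      rw [← map_mul]
      congr 1
      exact mul_div_cancel₀ _ ha₂K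
    rw [AlgHom.commutes, AlgHom.commutes] at h1
    have h2 : algebraMap A L a₂ * algebraMap B L b = algebraMap A L a₁ := by
      rw [IsScalarTower.algebraMap_apply A B L, IsScalarTower.algebraMap_apply A B L, ← map_mul]
      congr 1
    have h3 : algebraMap A L a₂ ≠ 0 := by
      intro h
      apply ha₂
      exact FaithfulSMul.algebraMap_injective A L (by rw [h, map_zero])
    exact mul_left_cancel₀ h3 (h1.trans h2.symm)
  have hbint : IsIntegral A b := hint b
  have hx : IsIntegral A x := by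
    rw [← isIntegral_algHom_iff θ hθinj, hθx]
    exact hbint.algebraMap
  obtain ⟨a, ha⟩ := IsIntegrallyClosed.algebraMap_eq_of_integral hx
  refine ⟨a, ?_⟩
  have : algebraMap B L (ψ a) = algebraMap B L b := by
    rw [← hθx, ← ha, AlgHom.commutes, IsScalarTower.algebraMap_apply A B L]
    rfl
  exact IsFractionRing.injective B L this

/-- A2: idempotent-type element cutting out a "section" of an unramified algebra. -/
theorem exists_idem_unram {A B : Type u} [CommRing A] [CommRing B] [Algebra A B]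
    [Algebra.FormallyUnramified A B] [Algebra.EssFiniteType A B] (J : Ideal B)
    (hsurj : ∀ b : B, ∃ a : A, b - algebraMap A B a ∈ J) :
    ∃ e : B, 1 - e ∈ J ∧ ∀ s ∈ J, s * e ∈ (J.comap (algebraMap A B)).map (algebraMap A B) := by
  set 𝔞 := J.comap (algebraMap A B) with h𝔞
  set 𝔟 := 𝔞.map (algebraMap A B) with h𝔟
  have h𝔟J : 𝔟 ≤ J := Ideal.map_comap_le
  let ε₀ : A ⧸ 𝔞 →+* B ⧸ J := Ideal.quotientMap J (algebraMap A B) le_rfl
  have hε₀inj : Function.Injective ε₀ := Ideal.quotientMap_injective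
  have hε₀surj : Function.Surjective ε₀ := by
    intro c
    obtain ⟨b, rfl⟩ := Ideal.Quotient.mk_surjective c
    obtain ⟨a, ha⟩ := hsurj b
    refine ⟨Ideal.Quotient.mk 𝔞 a, ?_⟩
    simp only [ε₀, Ideal.quotientMap_mk]
    exact ((Ideal.Quotient.eq).mpr ha).symm
  let ε : A ⧸ 𝔞 ≃+* B ⧸ J := RingEquiv.ofBijective ε₀ ⟨hε₀inj, hε₀surj⟩
  let q : A ⧸ 𝔞 →+* B ⧸ 𝔟 := Ideal.quotientMap 𝔟 (algebraMap A B) Ideal.le_comap_map
  let σ₀ : B →+* B ⧸ 𝔟 := q.comp (ε.symm.toRingHom.comp (Ideal.Quotient.mk J))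
  have hσ₀ : ∀ a : A, σ₀ (algebraMap A B a) = algebraMap A (B ⧸ 𝔟) a := by
    intro a
    have h1 : (Ideal.Quotient.mk J) (algebraMap A B a) = ε (Ideal.Quotient.mk 𝔞 a) := by
      simp [ε, ε₀]
    simp only [σ₀, RingHom.comp_apply, h1]
    simp [q]
  let σ : B →ₐ[A] B ⧸ 𝔟 := { σ₀ with commutes' := hσ₀ }
  let π : B →ₐ[A] B ⧸ 𝔟 := Ideal.Quotient.mkₐ A 𝔟
  let Ψ : B ⊗[A] B →ₐ[A] B ⧸ 𝔟 := Algebra.TensorProduct.productMap π σ
  let θ : B ⧸ 𝔟 →ₐ[A] B ⧸ J := Ideal.Quotient.factorₐ A h𝔟J
  have hθσ : ∀ y : B, θ (σ y) = Ideal.Quotient.mk J y := by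
    intro y
    obtain ⟨c, hc⟩ := Ideal.Quotient.mk_surjective (ε.symm (Ideal.Quotient.mk J y))
    have h1 : σ y = q (Ideal.Quotient.mk 𝔞 c) := by
      change q (ε.symm (Ideal.Quotient.mk J y)) = _
      rw [hc]
    have h2 : ε (Ideal.Quotient.mk 𝔞 c) = Ideal.Quotient.mk J y := by
      rw [hc, RingEquiv.apply_symm_apply]
    rw [h1, ← h2]
    simp [q, θ, ε, ε₀]
  have hθΨ : θ.comp Ψ = (Ideal.Quotient.mkₐ A J).comp (Algebra.TensorProduct.lmul' A) := by
    apply Algebra.TensorProduct.ext'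
    intro x y
    simp only [AlgHom.comp_apply, Ψ, Algebra.TensorProduct.productMap_apply_tmul, map_mul, hθσ,
      Algebra.TensorProduct.lmul'_apply_tmul]
    simp [π, θ]
  set e' := Ψ (Algebra.FormallyUnramified.elem A B) with he'
  have hθe' : θ e' = 1 := by
    have := congrArg (fun F => F (Algebra.FormallyUnramified.elem A B)) hθΨ
    simp only [AlgHom.comp_apply, Algebra.FormallyUnramified.lmul_elem] at this
    rw [he', this]
    simp
  have hfact1 : ∀ s : B, (σ s - π s) * e' = 0 := by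
    intro s
    have := congrArg Ψ (Algebra.FormallyUnramified.one_tmul_sub_tmul_one_mul_elem (R := A) (S := B) s)
    rw [map_mul, map_sub, map_zero] at this
    simpa [Ψ, Algebra.TensorProduct.productMap_apply_tmul] using this
  obtain ⟨e, he⟩ := Ideal.Quotient.mk_surjective e'
  refine ⟨e, ?_, ?_⟩
  · rw [← Ideal.Quotient.eq_zero_iff_mem, map_sub, map_one]
    have : Ideal.Quotient.mk J e = θ e' := by
      rw [← he]
      simp [θ]
    rw [this, hθe', sub_self]
  · intro s hs
    rw [← Ideal.Quotient.eq_zero_iff_mem, map_mul, he]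
    have hσs : σ s = 0 := by
      change q (ε.symm (Ideal.Quotient.mk J s)) = 0
      rw [Ideal.Quotient.eq_zero_iff_mem.mpr hs, map_zero, map_zero]
    have := hfact1 s
    rw [hσs, zero_sub, neg_mul, neg_eq_zero] at this
    exact this

theorem birational_sections {E' D' : Scheme.{u}} [IsIntegral E'] [IsIntegral D'] (g : E' ⟶ D')
    (hdeg : g.residueDegree (genericPoint E') = 1)
    {U : D'.Opens} (hU : IsAffineOpen U) (hξ : genericPoint E' ∈ g ⁻¹ᵁ U) (b : Γ(E', g ⁻¹ᵁ U)) :
    ∃ a₁ a₂ : Γ(D', U), a₂ ≠ 0 ∧ (g.app U) a₂ * b = (g.app U) a₁ := by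
  set ξ := genericPoint E' with hξdef
  have hη : g ξ ∈ U := hξ
  letI : Algebra (D'.residueField (g ξ)) (E'.residueField ξ) :=
    (g.residueFieldMap ξ).hom.toAlgebra
  have hdeg' : Module.finrank (D'.residueField (g ξ)) (E'.residueField ξ) = 1 := hdeg
  have hbot := Subalgebra.bot_eq_top_of_finrank_eq_one hdeg'
  have hb : E'.evaluation (g ⁻¹ᵁ U) ξ hξ b ∈ (⊥ : Subalgebra (D'.residueField (g ξ)) (E'.residueField ξ)) := by
    rw [hbot]; trivial
  obtain ⟨c, hc⟩ := Algebra.mem_bot.mp hb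
  obtain ⟨s, rfl⟩ := IsLocalRing.residue_surjective (R := D'.presheaf.stalk (g ξ)) c
  letI := TopCat.Presheaf.algebra_section_stalk D'.presheaf ⟨g ξ, hη⟩
  haveI hloc := hU.isLocalization_stalk ⟨g ξ, hη⟩
  obtain ⟨⟨a₁, a₂⟩, ha⟩ := IsLocalization.surj (hU.primeIdealOf ⟨g ξ, hη⟩).asIdeal.primeCompl s
  refine ⟨a₁, a₂.1, ?_, ?_⟩
  · intro h0
    exact a₂.2 (by rw [h0]; exact Ideal.zero_mem _)
  · have hinj : Function.Injective (E'.evaluation (g ⁻¹ᵁ U) ξ hξ) := by
      have h1 : Function.Injective (E'.presheaf.germ (g ⁻¹ᵁ U) ξ hξ) :=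
        germ_injective_of_isIntegral E' ξ hξ
      have h2 : Function.Injective (E'.residue ξ) := by
        letI : Field (E'.presheaf.stalk ξ) := inferInstanceAs (Field E'.functionField)
        exact (E'.residue ξ).hom.injective
      have : ⇑(E'.evaluation (g ⁻¹ᵁ U) ξ hξ) = ⇑(E'.residue ξ) ∘ ⇑(E'.presheaf.germ (g ⁻¹ᵁ U) ξ hξ) := by
        ext t; rfl
      rw [this]
      exact h2.comp h1
    apply hinj
    rw [map_mul, ← Scheme.evaluation_naturality_apply g ξ hη, ← Scheme.evaluation_naturality_apply g ξ hη]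
    have hc' : (g.residueFieldMap ξ) (D'.residue (g ξ) s) = E'.evaluation (g ⁻¹ᵁ U) ξ hξ b := hc
    rw [← hc', ← map_mul]
    congr 1
    have e1 : D'.evaluation U (g ξ) hη a₂.1 = D'.residue (g ξ) (D'.presheaf.germ U (g ξ) hη a₂.1) := rfl
    have e2 : D'.evaluation U (g ξ) hη a₁ = D'.residue (g ξ) (D'.presheaf.germ U (g ξ) hη a₁) := rfl
    rw [e1, e2, ← map_mul]
    congr 1
    rw [mul_comm]
    exact ha


open Groth.Agent.Lib.Helper20NormFin in
theorem app_bijective_of_finite_birational {E' D' : Scheme.{u}} [IsIntegral E'] [IsIntegral D']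
    (hDn : Pi1.IsNormalScheme D') (g : E' ⟶ D') [IsFinite g] (hsurj : Function.Surjective g.base)
    (hdeg : g.residueDegree (genericPoint E') = 1) {U : D'.Opens} (hU : IsAffineOpen U) :
    Function.Bijective (g.app U) := by
  by_cases hne : Nonempty U
  · obtain ⟨⟨x, hx⟩⟩ := hne
    obtain ⟨y, rfl⟩ := hsurj x
    haveI : Nonempty U := ⟨⟨_, hx⟩⟩
    haveI : Nonempty (g ⁻¹ᵁ U) := ⟨⟨y, hx⟩⟩
    have hξ : genericPoint E' ∈ g ⁻¹ᵁ U := by
      exact ((genericPoint_spec E').mem_open_set_iff (g ⁻¹ᵁ U).2).mpr ⟨y, trivial, hx⟩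
    haveI : IsDomain Γ(D', U) := inferInstance
    haveI : IsDomain Γ(E', g ⁻¹ᵁ U) := inferInstance
    haveI : IsIntegrallyClosed Γ(D', U) :=
      isIntegrallyClosed_of_isNormalRing _ (isNormalRing_sections hDn hU)
    haveI : Surjective g := ⟨hsurj⟩
    haveI : IsSchemeTheoreticallyDominant g := .of_isDominant g
    have hinj : Function.Injective (g.app U) := g.app_injective U
    have hint : (g.app U).hom.IsIntegral := by
      exact g.isIntegral_app U hU
    refine ⟨hinj, ?_⟩
    exact surjective_of_birational (g.app U).hom hinj hint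
      (fun b => birational_sections g hdeg hU hξ b)
  · have hU0 : U = ⊥ := by
      rw [not_nonempty_iff] at hne
      ext x
      simp only [SetLike.mem_coe]
      constructor
      · intro hx; exact (hne.false ⟨x, hx⟩).elim
      · intro hx; exact (hx : x ∈ (⊥ : D'.Opens)).elim
    subst hU0
    haveI : Subsingleton Γ(D', ⊥) := inferInstance
    haveI : Subsingleton Γ(E', g ⁻¹ᵁ ⊥) := by
      have : g ⁻¹ᵁ (⊥ : D'.Opens) = ⊥ := rfl
      rw [this]; infer_instance
    exact ⟨fun a b _ => Subsingleton.elim _ _, fun b => ⟨0, Subsingleton.elim _ _⟩⟩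

theorem isIso_of_finite_birational {E' D' : Scheme.{u}} [IsIntegral E'] [IsIntegral D']
    (hDn : Pi1.IsNormalScheme D') (g : E' ⟶ D') [IsFinite g] (hsurj : Function.Surjective g.base)
    (hdeg : g.residueDegree (genericPoint E') = 1) : IsIso g := by
  have key : ∀ U : D'.affineOpens, MorphismProperty.isomorphisms Scheme (g ∣_ U.1) := by
    intro U
    have h1 : IsIso (g.app U.1) :=
      (ConcreteCategory.isIso_iff_bijective _).mpr
        (app_bijective_of_finite_birational hDn g hsurj hdeg U.2)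
    haveI : IsAffineHom g := inferInstance
    have : IsIso (g ∣_ U.1) := (isIso_morphismRestrict_iff_isIso_app (f := g) U.2).mpr h1
    exact this
  exact (IsZariskiLocalAtTarget.iff_of_iSup_eq_top (P := MorphismProperty.isomorphisms Scheme)
    (fun U : D'.affineOpens => U.1) (iSup_affineOpens_eq_top D')).mpr key

theorem comap_and_surj {X Y : Scheme.{u}} (f : Y ⟶ X) (D : X.IdealSheafData) (E : Y.IdealSheafData)
    (g : E.subscheme ⟶ D.subscheme) (hg : g ≫ D.subschemeι = E.subschemeι ≫ f)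
    (U : X.affineOpens) (hV : IsAffineOpen (f ⁻¹ᵁ U.1))
    (hbij : Function.Bijective (g.app (D.subschemeι ⁻¹ᵁ U.1))) :
    (∀ b : Γ(Y, f ⁻¹ᵁ U.1), ∃ a : Γ(X, U.1), b - f.app U.1 a ∈ E.ideal ⟨_, hV⟩) ∧
    (E.ideal ⟨_, hV⟩).comap (f.app U.1).hom = D.ideal U := by
  have h1 := Scheme.Hom.congr_app hg U.1
  rw [Scheme.Hom.comp_app, Scheme.Hom.comp_app] at h1
  generalize_proofs hp at h1
  have hρ : IsIso (E.subscheme.presheaf.map (eqToHom hp).op) := inferInstance
  generalize E.subscheme.presheaf.map (eqToHom hp).op = ρ at h1 hρ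
  have hρbij0 : Function.Bijective ρ := (ConcreteCategory.isIso_iff_bijective ρ).mp hρ
  let ρ' : Γ(E.subscheme, E.subschemeι ⁻¹ᵁ f ⁻¹ᵁ U.1) →+*
      Γ(E.subscheme, g ⁻¹ᵁ D.subschemeι ⁻¹ᵁ U.1) := ρ.hom
  have hρbij : Function.Bijective ρ' := hρbij0
  have star : ∀ a : Γ(X, U.1), (g.app _).hom ((D.subschemeι.app U.1).hom a) =
      ρ' ((E.subschemeι.app (f ⁻¹ᵁ U.1)).hom ((f.app U.1).hom a)) := by
    intro a
    have := congrArg (fun t => t.hom a) h1
    exact this
  have hkerE : RingHom.ker (E.subschemeι.app (f ⁻¹ᵁ U.1)).hom = E.ideal ⟨_, hV⟩ :=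
    E.ker_subschemeι_app ⟨_, hV⟩
  have hkerD : RingHom.ker (D.subschemeι.app U.1).hom = D.ideal U := D.ker_subschemeι_app U
  constructor
  · intro b
    obtain ⟨d, hd⟩ := hbij.2 (ρ' ((E.subschemeι.app (f ⁻¹ᵁ U.1)).hom b))
    obtain ⟨a, rfl⟩ := D.subschemeι_app_surjective U d
    refine ⟨a, ?_⟩
    rw [← hkerE, RingHom.mem_ker, map_sub, sub_eq_zero]
    apply hρbij.1
    refine Eq.trans ?_ (star a)
    exact hd.symm
  · ext a
    rw [Ideal.mem_comap, ← hkerE, ← hkerD, RingHom.mem_ker, RingHom.mem_ker]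
    constructor
    · intro h
      apply hbij.1
      refine (star a).trans ?_
      rw [h, map_zero, map_zero]
    · intro h
      apply hρbij.1
      refine (star a).symm.trans ?_
      rw [h, map_zero, map_zero]

/-- Away from the support the ideal is locally the unit ideal. -/
theorem cartier_at_of_not_mem_support {Y : Scheme.{u}} (E : Y.IdealSheafData) (y : Y)
    (hy : y ∉ E.support) :
    ∃ W : Y.affineOpens, y ∈ (W : Y.Opens) ∧
      ∃ b : Γ(Y, W), b ∈ nonZeroDivisors Γ(Y, W) ∧ E.ideal W = Ideal.span {b} := by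
  obtain ⟨_, ⟨V, hV, rfl⟩, hyV, -⟩ := Y.isBasis_affineOpens.exists_subset_of_mem_open
    (Set.mem_univ y) isOpen_univ
  have h1 : y ∉ Y.zeroLocus (U := V) (E.ideal ⟨V, hV⟩ : Set Γ(Y, V)) := by
    rwa [← Scheme.IdealSheafData.mem_support_iff_of_mem (U := ⟨V, hV⟩) hyV]
  rw [Scheme.mem_zeroLocus_iff] at h1
  push Not at h1
  obtain ⟨s, hs, hys⟩ := h1
  refine ⟨Y.affineBasicOpen (U := ⟨V, hV⟩) s, hys, 1, one_mem _, ?_⟩
  rw [Ideal.span_singleton_one, eq_top_iff]
  have hle : Y.affineBasicOpen (U := ⟨V, hV⟩) s ≤ ⟨V, hV⟩ :=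
    Y.affineBasicOpen_le (V := ⟨V, hV⟩) s
  rw [← E.map_ideal hle]
  have hu : IsUnit ((Y.presheaf.map (homOfLE hle).op).hom s) :=
    Y.toRingedSpace.isUnit_res_basicOpen s
  exact (Ideal.eq_top_of_isUnit_mem _ (Ideal.mem_map_of_mem _ hs) hu).ge

theorem cartier_at_of_mem_support {X Y : Scheme.{u}} (f : Y ⟶ X) [IsAffineHom f] [Etale f]
    (D : X.IdealSheafData) (E : Y.IdealSheafData)
    (g : E.subscheme ⟶ D.subscheme) (hg : g ≫ D.subschemeι = E.subschemeι ≫ f)
    (hbij : ∀ U : X.affineOpens, Function.Bijective (g.app (D.subschemeι ⁻¹ᵁ U.1)))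
    (y : Y) (hy : y ∈ E.support) (U : X.affineOpens) (hyU : f y ∈ U.1) (a : Γ(X, U))
    (ha : a ∈ nonZeroDivisors Γ(X, U)) (hDa : D.ideal U = Ideal.span {a}) :
    ∃ W : Y.affineOpens, y ∈ (W : Y.Opens) ∧
      ∃ b : Γ(Y, W), b ∈ nonZeroDivisors Γ(Y, W) ∧ E.ideal W = Ideal.span {b} := by
  have hV : IsAffineOpen (f ⁻¹ᵁ U.1) := U.2.preimage f
  obtain ⟨hsurj, hcomap⟩ := comap_and_surj f D E g hg U hV (hbij U)
  have het : (f.appLE U.1 (f ⁻¹ᵁ U.1) le_rfl).hom.Etale := f.etale_appLE U.2 hV le_rfl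
  rw [← Scheme.Hom.app_eq_appLE] at het
  letI : Algebra Γ(X, U.1) Γ(Y, f ⁻¹ᵁ U.1) := (f.app U.1).hom.toAlgebra
  haveI : Algebra.Etale Γ(X, U.1) Γ(Y, f ⁻¹ᵁ U.1) := het
  obtain ⟨e, he1, he2⟩ := exists_idem_unram (A := Γ(X, U.1)) (B := Γ(Y, f ⁻¹ᵁ U.1))
    (E.ideal ⟨_, hV⟩) hsurj
  have hcomap' : (E.ideal ⟨_, hV⟩).comap (algebraMap Γ(X, U.1) Γ(Y, f ⁻¹ᵁ U.1)) =
      Ideal.span {a} := hcomap.trans hDa
  rw [hcomap', Ideal.map_span, Set.image_singleton] at he2
  set V' : Y.affineOpens := ⟨f ⁻¹ᵁ U.1, hV⟩ with hV'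
  have hyV : y ∈ V'.1 := hyU
  set W : Y.affineOpens := Y.affineBasicOpen (U := V') e with hW
  refine ⟨W, ?_, ?_⟩
  · -- y ∈ basicOpen e
    have h1 : y ∈ Y.zeroLocus (U := V'.1) (E.ideal V' : Set Γ(Y, V'.1)) :=
      (Scheme.IdealSheafData.mem_support_iff_of_mem (U := V') hyV).mp hy
    rw [Scheme.mem_zeroLocus_iff] at h1
    have h2 : y ∉ Y.basicOpen (1 - e) := h1 _ he1
    change y ∈ Y.basicOpen e
    rw [Scheme.mem_basicOpen _ _ _ hyV] at h2 ⊢
    rw [map_sub, map_one] at h2
    have := IsLocalRing.isUnit_one_sub_self_of_mem_nonunits _ h2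
    rwa [sub_sub_cancel] at this
  · have hle : W ≤ V' := Y.affineBasicOpen_le (V := V') e
    let res : Γ(Y, V'.1) →+* Γ(Y, W.1) := (Y.presheaf.map (homOfLE hle).op).hom
    have hue : IsUnit (res e) := Y.toRingedSpace.isUnit_res_basicOpen e
    have hideal : E.ideal W = (E.ideal V').map res :=
      (E.map_ideal hle).symm
    refine ⟨res (algebraMap Γ(X, U.1) Γ(Y, f ⁻¹ᵁ U.1) a), ?_, ?_⟩
    · have hWU : W.1 ≤ f ⁻¹ᵁ U.1 := hle
      have hfl : (f.appLE U.1 W.1 hWU).hom.Flat := f.flat_appLE U.2 W.2 hWU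
      have hψ : ∀ t : Γ(X, U.1), (f.appLE U.1 W.1 hWU).hom t =
          res (algebraMap Γ(X, U.1) Γ(Y, f ⁻¹ᵁ U.1) t) := fun t => rfl
      rw [← hψ]
      letI : Algebra Γ(X, U.1) Γ(Y, W.1) := (f.appLE U.1 W.1 hWU).hom.toAlgebra
      haveI : Module.Flat Γ(X, U.1) Γ(Y, W.1) := hfl
      have hreg : IsSMulRegular Γ(Y, W.1) a := Module.Flat.isSMulRegular_of_nonZeroDivisors ha
      rw [mem_nonZeroDivisors_iff_left]
      intro x hx
      apply hreg
      change a • x = a • (0 : Γ(Y, W.1))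
      rw [smul_zero, Algebra.smul_def]
      exact hx
    · rw [hideal]
      apply le_antisymm
      · rw [Ideal.map_le_iff_le_comap]
        intro s hs
        rw [Ideal.mem_comap]
        have h3 := he2 s hs
        rw [Ideal.mem_span_singleton'] at h3
        obtain ⟨c, hc⟩ := h3
        have h4 : res s * res e = res c * res (algebraMap Γ(X, U.1) Γ(Y, f ⁻¹ᵁ U.1) a) := by
          rw [← map_mul, ← map_mul, hc]
        rw [Ideal.mem_span_singleton']
        refine ⟨res c * ↑hue.unit⁻¹, ?_⟩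
        calc res c * ↑hue.unit⁻¹ * res (algebraMap Γ(X, U.1) Γ(Y, f ⁻¹ᵁ U.1) a)
            = (res c * res (algebraMap Γ(X, U.1) Γ(Y, f ⁻¹ᵁ U.1) a)) * ↑hue.unit⁻¹ := by ring
          _ = res s * (res e * ↑hue.unit⁻¹) := by rw [← h4]; ring
          _ = res s := by rw [IsUnit.mul_val_inv, mul_one]
      · rw [Ideal.span_singleton_le_iff_mem]
        apply Ideal.mem_map_of_mem
        have : a ∈ (E.ideal ⟨_, hV⟩).comap (algebraMap Γ(X, U.1) Γ(Y, f ⁻¹ᵁ U.1)) := by
          rw [hcomap']; exact Ideal.mem_span_singleton_self a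
        exact this


/-- Let X and Y be integral normal schemes locally of finite type over a field k and f : Y → X a finite
étale k-morphism; let D ⊆ X be a closed subscheme which is an effective Cartier divisor and is
integral and normal as a scheme, and E ⊆ Y an integral closed subscheme mapping to D by a surjective
morphism g compatible with the inclusions whose residue-field extension at the generic point of E
has degree 1 (so E is a prime divisor of Y over D with the same function field: D splits in Y at the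
level of Weil divisors). Then g is an isomorphism and E is an effective Cartier divisor on Y; in
particular D is the image of the relative Cartier divisor E (D is c-split). (The source works with
projective, geometrically normal and geometrically integral X, Y of dimension at least 2 and
geometrically normal, geometrically integral D; those hypotheses only serve base change to extension
fields and are dropped here.) -/
theorem result (k : Type u) [Field k] (X Y : Scheme.{u})
    [X.Over (Spec (CommRingCat.of k))] [Y.Over (Spec (CommRingCat.of k))]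
    [LocallyOfFiniteType (X ↘ Spec (CommRingCat.of k))] [LocallyOfFiniteType (Y ↘ Spec (CommRingCat.of k))]
    [IsIntegral X] [IsIntegral Y] (hX : Pi1.IsNormalScheme X) (hY : Pi1.IsNormalScheme Y)
    (f : Y ⟶ X) (hf : f ≫ (X ↘ Spec (CommRingCat.of k)) = Y ↘ Spec (CommRingCat.of k)) [IsFinite f] [Etale f]
    (D : X.IdealSheafData) (hD : FGA.IsEffCartier D) [IsIntegral D.subscheme] (hDn : Pi1.IsNormalScheme D.subscheme)
    (E : Y.IdealSheafData) [IsIntegral E.subscheme]
    (g : (E.subscheme : Scheme.{u}) ⟶ D.subscheme) (hg : g ≫ D.subschemeι = E.subschemeι ≫ f)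
    (hsurj : Function.Surjective g.base) (hdeg : g.residueDegree (genericPoint E.subscheme) = 1) :
    IsIso g ∧ FGA.IsEffCartier E := by
  haveI : IsFinite (g ≫ D.subschemeι) := by rw [hg]; infer_instance
  haveI : IsFinite g := IsFinite.of_comp g D.subschemeι
  have hbij : ∀ U : D.subscheme.Opens, IsAffineOpen U → Function.Bijective (g.app U) :=
    fun U hU => app_bijective_of_finite_birational hDn g hsurj hdeg hU
  refine ⟨isIso_of_finite_birational hDn g hsurj hdeg, ?_⟩
  intro y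
  by_cases hy : y ∈ E.support
  · obtain ⟨U, hyU, a, ha, hDa⟩ := hD (f y)
    exact cartier_at_of_mem_support f D E g hg
      (fun U => hbij _ (U.2.preimage D.subschemeι)) y hy U hyU a ha hDa
  · exact cartier_at_of_not_mem_support E y hy

end Groth.Agent.S17377
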