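import Groth.Statements.S17386
-- import your own Groth.Agent.* helpers here
import Mathlib

set_option autoImplicit false
universe u
open BlowUp

namespace Groth.Agent.S17386

section Helpers
open AlgebraicGeometry CategoryTheory Limits Scheme

theorem comap_subschemeι_self {X : Scheme.{u}} (I : X.IdealSheafData) :
    I.comap I.subschemeι = ⊥ := by
  rw [eq_bot_iff, ← IdealSheafData.le_map_iff_comap_le, IdealSheafData.map_bot,
    IdealSheafData.ker_subschemeι]

theorem comap_ι_le {X : Scheme.{u}} (I J : X.IdealSheafData) (U : X.affineOpens)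
    (h : I.ideal U ≤ J.ideal U) : I.comap U.1.ι ≤ J.comap U.1.ι := by
  haveI : IsAffine U.1.toScheme := U.2
  apply IdealSheafData.le_of_isAffine
  rw [IdealSheafData.ideal_comap_of_isOpenImmersion, IdealSheafData.ideal_comap_of_isOpenImmersion]
  apply Ideal.comap_mono
  have : (⟨U.1.ι ''ᵁ ⊤, (isAffineOpen_top _).image_of_isOpenImmersion U.1.ι⟩ : X.affineOpens) = U :=
    Subtype.ext U.1.ι_image_top
  rw [this]
  exact h

theorem ideal_eq_bot_of_comap_ι {X : Scheme.{u}} (I : X.IdealSheafData) (U : X.affineOpens)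
    (h : I.comap U.1.ι = ⊥) : I.ideal U = ⊥ := by
  haveI : IsAffine U.1.toScheme := U.2
  have h1 := congrArg (fun K => K.ideal ⟨⊤, isAffineOpen_top _⟩) h
  simp only [IdealSheafData.ideal_bot, Pi.bot_apply] at h1
  rw [IdealSheafData.ideal_comap_of_isOpenImmersion] at h1
  have : (⟨U.1.ι ''ᵁ ⊤, (isAffineOpen_top _).image_of_isOpenImmersion U.1.ι⟩ : X.affineOpens) = U :=
    Subtype.ext U.1.ι_image_top
  rw [← this]
  have hsurj : Function.Surjective (U.1.ι.appIso ⊤).inv.hom :=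
    (U.1.ι.appIso ⊤).symm.commRingCatIsoToRingEquiv.surjective
  have h2 := Ideal.map_comap_of_surjective _ hsurj
    (I.ideal ⟨U.1.ι ''ᵁ ⊤, (isAffineOpen_top _).image_of_isOpenImmersion U.1.ι⟩)
  rw [← h2]
  erw [h1]
  exact Ideal.map_bot

theorem exists_sum_of_mem_iSup {R : Type*} [CommRing R] {n : ℕ} (I : Fin n → Ideal R) (f : R)
    (hf : f ∈ ⨆ j, I j) : ∃ a : Fin n → R, (∀ j, a j ∈ I j) ∧ ∑ j, a j = f := by
  classical
  rw [Submodule.mem_iSup_iff_exists_finsupp] at hf
  obtain ⟨g, hg, rfl⟩ := hf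
  refine ⟨fun j => g j, hg, ?_⟩
  rw [Finsupp.sum_fintype]
  intro; rfl

theorem aux
    {X X' : Scheme.{u}} {n : ℕ} (𝓙 : Fin n → X.IdealSheafData) (b : X' ⟶ X)
    (hb : BlowUp.IsBlowUp b (⨆ i, 𝓙 i))
    (Y' : Fin n → Scheme.{u}) (b' : ∀ i, Y' i ⟶ (𝓙 i).subscheme)
    (hb' : ∀ i, BlowUp.IsBlowUp (b' i) ((⨆ j, 𝓙 j).comap (𝓙 i).subschemeι))
    (k : ∀ i, Y' i ⟶ X') (hk : ∀ i, k i ≫ b = b' i ≫ (𝓙 i).subschemeι) :
    (⋂ i, Set.range (fun y => k i y)) = (∅ : Set X') := by
  rw [Set.eq_empty_iff_forall_notMem]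
  intro x' hx'
  rw [Set.mem_iInter] at hx'
  set E := (⨆ j, 𝓙 j).comap b with hE
  set Ej := fun j => (𝓙 j).comap b with hEj
  have hEsup : E = ⨆ j, Ej j := (IdealSheafData.map_gc b).l_iSup
  obtain ⟨U, hxU, f, hf, hfU⟩ := hb.1 x'
  have hfmem : f ∈ ⨆ j, (Ej j).ideal U := by
    have : E.ideal U = ⨆ j, (Ej j).ideal U := by
      rw [hEsup, IdealSheafData.ideal_iSup, iSup_apply]
    rw [← this, hfU]; exact Ideal.mem_span_singleton_self f
  obtain ⟨a, ha, hsum⟩ := exists_sum_of_mem_iSup _ f hfmem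
  have hc : ∀ j, ∃ c, c * f = a j := by
    intro j
    have : a j ∈ E.ideal U := by
      have hle : Ej j ≤ E := hEsup ▸ le_iSup Ej j
      exact hle U (ha j)
    rw [hfU] at this
    exact Ideal.mem_span_singleton'.mp this
  choose c hc using hc
  have hone : ∑ j, c j = 1 := by
    have : (∑ j, c j - 1) * f = 0 := by
      rw [sub_mul, Finset.sum_mul, one_mul]; simp only [hc]; rw [hsum, sub_self]
    have := (mul_right_mem_nonZeroDivisors_eq_zero_iff hf).mp this
    exact sub_eq_zero.mp this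
  obtain ⟨i, hi⟩ : ∃ i, x' ∈ X'.basicOpen (c i) := by
    by_contra hcon
    push Not at hcon
    have hmem : ∀ j, X'.presheaf.germ U.1 x' hxU (c j) ∈
        IsLocalRing.maximalIdeal (X'.presheaf.stalk x') := by
      intro j
      rw [IsLocalRing.mem_maximalIdeal, mem_nonunits_iff, ← X'.mem_basicOpen _ x' hxU]
      exact hcon j
    have : X'.presheaf.germ U.1 x' hxU (∑ j, c j) ∈
        IsLocalRing.maximalIdeal (X'.presheaf.stalk x') := by
      rw [map_sum]; exact Ideal.sum_mem _ fun j _ => hmem j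
    rw [hone, map_one] at this
    exact (Ideal.ne_top_iff_one _).mp (IsLocalRing.maximalIdeal.isMaximal _).ne_top this
  -- compare on the basic open
  set U' : X'.affineOpens := X'.affineBasicOpen (c i) with hU'
  have hres : E.ideal U' ≤ (Ej i).ideal U' := by
    rw [← E.map_ideal_basicOpen U (c i), ← (Ej i).map_ideal_basicOpen U (c i), hfU,
      Ideal.map_span, Set.image_singleton]
    refine (Ideal.span_singleton_le_iff_mem _).mpr ?_
    set res := (X'.presheaf.map (homOfLE (X'.basicOpen_le (c i))).op).hom with hresdef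
    have hunit : IsUnit (res (c i)) := RingedSpace.isUnit_res_basicOpen _ (c i)
    have hmem : res (a i) ∈ Ideal.map res ((Ej i).ideal U) := Ideal.mem_map_of_mem _ (ha i)
    rw [← hc i, map_mul] at hmem
    exact (Ideal.unit_mul_mem_iff_mem _ hunit).mp hmem
  have hcomp := comap_ι_le E (Ej i) U' hres
  obtain ⟨y, hy⟩ := hx' i
  replace hy : k i y = x' := hy
  set E'' := E.comap (k i) with hE''
  have hE''cart : IsEffCartierIdeal E'' := by
    have := (hb' i).1
    rwa [← IdealSheafData.comap_comp, ← hk i, IdealSheafData.comap_comp] at this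
  have hEjbot : (Ej i).comap (k i) = ⊥ := by
    rw [hEj]
    simp only
    rw [← IdealSheafData.comap_comp, hk i, IdealSheafData.comap_comp, comap_subschemeι_self,
      IdealSheafData.comap_bot]
  obtain ⟨W, hyW, g, hg, hgW⟩ := hE''cart y
  have hyV : y ∈ (k i) ⁻¹ᵁ U'.1 := by
    change k i y ∈ X'.basicOpen (c i)
    rw [hy]; exact hi
  obtain ⟨r, hrV, hyr⟩ := W.2.exists_basicOpen_le (V := (k i) ⁻¹ᵁ U'.1) ⟨y, hyV⟩ hyW
  replace hyr : y ∈ (Y' i).basicOpen r := hyr
  set W' : (Y' i).affineOpens := (Y' i).affineBasicOpen r with hW'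
  have hrange : Set.range (W'.1.ι ≫ k i) ⊆ Set.range U'.1.ι := by
    rintro _ ⟨z, rfl⟩
    rw [Scheme.Opens.range_ι]
    exact hrV z.2
  obtain ⟨h, hfac⟩ : ∃ h : W'.1.toScheme ⟶ U'.1.toScheme, h ≫ U'.1.ι = W'.1.ι ≫ k i :=
    ⟨IsOpenImmersion.lift U'.1.ι (W'.1.ι ≫ k i) hrange, IsOpenImmersion.lift_fac _ _ _⟩
  have hbot : E''.comap W'.1.ι = ⊥ := by
    have h1 : E''.comap W'.1.ι = (E.comap U'.1.ι).comap h := by
      rw [hE'', ← IdealSheafData.comap_comp, ← hfac, IdealSheafData.comap_comp]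
    have h2 : ((Ej i).comap U'.1.ι).comap h = ⊥ := by
      rw [← IdealSheafData.comap_comp, hfac, IdealSheafData.comap_comp, hEjbot,
        IdealSheafData.comap_bot]
    have h3 : (E.comap U'.1.ι).comap h ≤
        ((Ej i).comap U'.1.ι).comap h :=
      IdealSheafData.comap_mono _ hcomp
    rw [eq_bot_iff, h1, ← h2]
    exact h3
  have hW'bot := ideal_eq_bot_of_comap_ι E'' W' hbot
  rw [← E''.map_ideal_basicOpen W r, hgW, Ideal.map_span, Set.image_singleton] at hW'bot
  replace hW'bot := Ideal.span_singleton_eq_bot.mp hW'bot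
  haveI := W.2.isLocalization_basicOpen r
  have hnzd : ((Y' i).presheaf.map (homOfLE ((Y' i).basicOpen_le r)).op).hom g ∈
      nonZeroDivisors Γ(Y' i, (Y' i).basicOpen r) :=
    IsLocalization.map_nonZeroDivisors_le (Submonoid.powers r) _ ⟨g, hg, rfl⟩
  rw [hW'bot] at hnzd
  haveI : Nonempty ((Y' i).basicOpen r) := ⟨⟨y, hyr⟩⟩
  exact zero_notMem_nonZeroDivisors hnzd

end Helpers

open AlgebraicGeometry CategoryTheory Limits in
/-- Let X be any scheme, J_1, …, J_n quasi-coherent ideals on X with closed subschemes Y_i, and b : X' →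
X a blowing up of X in the ideal J_1 + ⋯ + J_n of the intersection of the Y_i. For each i let b_i' :
Y_i' → Y_i be a blowing up of Y_i in the inverse image of J_1 + ⋯ + J_n and k_i : Y_i' → X' the
morphism with k_i ≫ b = b_i' ≫ (Y_i → X), so that the image of k_i is the strict transform of Y_i.
Then the strict transforms have empty common intersection: no point of X' lies in the image of every
k_i. -/
theorem result
    {X X' : Scheme.{u}} {n : ℕ} (𝓙 : Fin n → X.IdealSheafData) (b : X' ⟶ X)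
    (hb : BlowUp.IsBlowUp b (⨆ i, 𝓙 i))
    (Y' : Fin n → Scheme.{u}) (b' : ∀ i, Y' i ⟶ (𝓙 i).subscheme)
    (hb' : ∀ i, BlowUp.IsBlowUp (b' i) ((⨆ j, 𝓙 j).comap (𝓙 i).subschemeι))
    (k : ∀ i, Y' i ⟶ X') (hk : ∀ i, k i ≫ b = b' i ≫ (𝓙 i).subschemeι) :
    (⋂ i, Set.range (fun y => k i y)) = (∅ : Set X') := by
  exact aux 𝓙 b hb Y' b' hb' k hk

end Groth.Agent.S17386
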