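import Groth.Statements.S17391
import Groth.Agent.Lib.Helper2BlowSep

set_option autoImplicit false
universe u
open BlowUp

namespace Groth.Agent.S17391

open AlgebraicGeometry CategoryTheory Limits in
/-- Let X and Z be schemes, p : Z → X a morphism, U ⊆ V ⊆ X open subschemes, and f : Y → Z a
quasi-compact immersion whose composite with p lands in U. Let I₁ be a quasi-coherent ideal on X
whose support contains V ∖ U and is disjoint from U, and I₂ a quasi-coherent ideal whose support
lies in supp(I₁) ∖ V. Assume that the closed subscheme p⁻¹(V(I₁²)) ∩ Ȳ of Z, where Ȳ is the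
scheme-theoretic image of f, is contained in p⁻¹(V(I₂)) as a closed subscheme: the inverse image
ideal of I₂ on Z lies in the sum of the inverse image ideal of I₁² and the kernel ideal of f. Then
for every blowing up q : X' → X of X in I₁ + I₂, writing Z' = Z ×_X X' → X' and Y' = Y ×_Z Z' → Z'
for the base changes, the closure in Z' of the image of Y' is disjoint from the preimage in Z' of
the closure in X' of q⁻¹(V ∖ U). (The blowing up is an isomorphism over V, since the support of I₁ +
I₂ is that of I₂ and lies in X ∖ V; the point is that the closure of q⁻¹(V ∖ U) in X', which may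
reach over X ∖ V, still misses the closure of Y'.) -/
theorem result
    {X Y Z X' : Scheme.{u}} (p : Z ⟶ X) (U V : X.Opens) (hUV : U ≤ V)
    (f : Y ⟶ Z) [IsImmersion f] [QuasiCompact f] (hY : Set.range (fun y => p (f y)) ⊆ (U : Set X))
    (𝓘₁ 𝓘₂ : X.IdealSheafData)
    (h₁ : (V : Set X) \ (U : Set X) ⊆ (𝓘₁.support : Set X)) (h₁' : Disjoint (𝓘₁.support : Set X) (U : Set X))
    (h₂ : (𝓘₂.support : Set X) ⊆ (𝓘₁.support : Set X) \ (V : Set X))
    (hincl : 𝓘₂.comap p ≤ (𝓘₁ * 𝓘₁).comap p ⊔ f.ker)
    (q : X' ⟶ X) (hq : BlowUp.IsBlowUp q (𝓘₁ ⊔ 𝓘₂)) :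
    Disjoint (closure (Set.range (fun y => (pullback.snd f (pullback.fst p q)) y)))
      ((fun z => (pullback.snd p q) z) ⁻¹'
        closure ((fun x' => q x') ⁻¹' ((V : Set X) \ (U : Set X)))) := by
  have hmul : 𝓘₁ * 𝓘₁ ≤ 𝓘₁ := by
    rw [Scheme.IdealSheafData.le_def]
    intro W
    rw [Scheme.IdealSheafData.ideal_mul]
    exact Ideal.mul_le_right
  have hincl' : (𝓘₁ ⊔ 𝓘₂).comap p ≤ 𝓘₁.comap p ⊔ f.ker := by
    rw [Scheme.IdealSheafData.comap_sup]
    refine sup_le le_sup_left (hincl.trans (sup_le ?_ le_sup_right))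
    exact (Scheme.IdealSheafData.comap_mono p hmul).trans le_sup_left
  have key := Groth.Agent.Lib.Helper2.BlowSep.disjoint_preimage_closure_closure
    (pullback.snd p q) ((𝓘₁ ⊔ 𝓘₂).comap q) (𝓘₁.comap q)
    (f.ker.comap (pullback.fst p q)) hq.1 (Scheme.IdealSheafData.comap_mono q le_sup_left) ?h
    ((fun x' => q x') ⁻¹' ((V : Set X) \ (U : Set X)))
    (Set.range (fun y => (pullback.snd f (pullback.fst p q)) y)) ?hSK ?hSE ?hTN ?hTE
  · exact key.symm
  case h =>
    rw [← Scheme.IdealSheafData.comap_comp, ← Scheme.IdealSheafData.comap_comp,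
      ← pullback.condition, Scheme.IdealSheafData.comap_comp, Scheme.IdealSheafData.comap_comp,
      ← Scheme.IdealSheafData.comap_sup]
    exact Scheme.IdealSheafData.comap_mono _ hincl'
  case hSK =>
    intro y hy
    rw [Scheme.IdealSheafData.support_comap]
    exact h₁ hy
  case hSE =>
    rw [Set.disjoint_left]
    intro y hy hyE
    rw [Scheme.IdealSheafData.support_comap] at hyE
    have h3 : q y ∈ ((𝓘₁ ⊔ 𝓘₂).support : Set X) := hyE
    rw [Scheme.IdealSheafData.support_sup] at h3
    exact (h₂ h3.2).2 hy.1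
  case hTN =>
    rintro _ ⟨y', rfl⟩
    rw [Scheme.IdealSheafData.support_comap]
    have h3 : pullback.fst p q (pullback.snd f (pullback.fst p q) y') =
        f (pullback.fst f (pullback.fst p q) y') := by
      rw [← Scheme.Hom.comp_apply, ← Scheme.Hom.comp_apply, pullback.condition]
    have h4 : pullback.fst p q (pullback.snd f (pullback.fst p q) y') ∈ (f.ker.support : Set Z) := by
      rw [h3]
      exact f.range_subset_ker_support ⟨_, rfl⟩
    exact h4
  case hTE =>
    rintro _ ⟨y', rfl⟩ hwE
    rw [Scheme.IdealSheafData.support_comap] at hwE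
    have h3 : pullback.fst p q (pullback.snd f (pullback.fst p q) y') =
        f (pullback.fst f (pullback.fst p q) y') := by
      rw [← Scheme.Hom.comp_apply, ← Scheme.Hom.comp_apply, pullback.condition]
    have h1 : q (pullback.snd p q (pullback.snd f (pullback.fst p q) y')) =
        p (f (pullback.fst f (pullback.fst p q) y')) := by
      rw [← h3, ← Scheme.Hom.comp_apply, ← Scheme.Hom.comp_apply (pullback.fst p q) p,
        pullback.condition]
    have h5 : q (pullback.snd p q (pullback.snd f (pullback.fst p q) y')) ∈ (U : Set X) := by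
      rw [h1]
      exact hY ⟨_, rfl⟩
    have h6 : q (pullback.snd p q (pullback.snd f (pullback.fst p q) y')) ∈
        ((𝓘₁ ⊔ 𝓘₂).support : Set X) := hwE
    rw [Scheme.IdealSheafData.support_sup] at h6
    exact Set.disjoint_left.mp h₁' h6.1 h5

end Groth.Agent.S17391
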