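import Groth.Statements.S17393
import Mathlib
import Groth.Agent.Lib.Helper22IdealComap
import Groth.Agent.Lib.Helper20EffCartier

set_option autoImplicit false
universe u
open BlowUp

namespace Groth.Agent.S17393

open Groth.Agent.Lib.Helper22.IdealComap

open AlgebraicGeometry CategoryTheory Limits in
/-- Let X be any scheme, I and I' quasi-coherent ideals on X (of closed subschemes Y and Y'), b : X' → X
a blowing up of X in I + I' (the ideal of Y ∩ Y'), b' : Ỹ → Y a blowing up of Y = V(I) in the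
inverse image of I + I' and k : Ỹ → X' the morphism with k ≫ b = b' ≫ (Y → X), whose image is the
strict transform of Y. For an affine open V of X, a section s of I over V, and an affine open V' ⊆
b⁻¹(V) of X' which meets the image of k, the ideal of the inverse image ideal sheaf (I + I')·O_X' on
V' is not the principal ideal generated by the pullback of s. Equivalently the strict transform of Y
does not meet the open locus U(s) where s generates the (invertible) inverse image ideal; since the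
U(s) for s ranging over local sections of I and of I' cover X', the strict transform of Y lies in
the union of the U(s) with s a local section of I'. -/
theorem result
    {X X' Yt : Scheme.{u}} (𝓘 𝓘' : X.IdealSheafData) (b : X' ⟶ X) (hb : BlowUp.IsBlowUp b (𝓘 ⊔ 𝓘'))
    (b' : Yt ⟶ 𝓘.subscheme) (hb' : BlowUp.IsBlowUp b' ((𝓘 ⊔ 𝓘').comap 𝓘.subschemeι))
    (k : Yt ⟶ X') (hk : k ≫ b = b' ≫ 𝓘.subschemeι)
    (V : X.affineOpens) (s : Γ(X, V.1)) (hs : s ∈ 𝓘.ideal V)
    (V' : X'.affineOpens) (hV' : V'.1 ≤ b ⁻¹ᵁ V.1)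
    (hmeet : (Set.range (fun y => k y) ∩ (V'.1 : Set X')).Nonempty) :
    ((𝓘 ⊔ 𝓘').comap b).ideal V' ≠ Ideal.span {(b.appLE V.1 V'.1 hV').hom s} := by
  intro heq
  obtain ⟨_, ⟨y, rfl⟩, hy⟩ := hmeet
  -- the effective Cartier ideal on `Yt`
  set K : Yt.IdealSheafData := ((𝓘 ⊔ 𝓘').comap b).comap k with hK
  have hKeff : BlowUp.IsEffCartierIdeal K := by
    have : K = ((𝓘 ⊔ 𝓘').comap 𝓘.subschemeι).comap b' := by
      rw [hK, ← Scheme.IdealSheafData.comap_comp, hk, Scheme.IdealSheafData.comap_comp]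
    rw [this]
    exact hb'.1
  obtain ⟨W, hW, hyW, hWV', c, hc0, hc⟩ :=
    Groth.Agent.Lib.Helper20.EffCartier.exists_le_of_isEffCartierIdeal hKeff y (k ⁻¹ᵁ V'.1) hy
  -- compute `K(W)`
  have h1 : K.ideal ⟨W, hW⟩ = Ideal.span {(k.appLE V'.1 W hWV').hom ((b.appLE V.1 V'.1 hV').hom s)} := by
    rw [hK, ideal_comap_eq_map k _ ⟨W, hW⟩ V' hWV', heq, Ideal.map_span, Set.image_singleton]
  -- the generator vanishes
  have hWV : W ≤ (k ≫ b) ⁻¹ᵁ V.1 := by
    rw [Scheme.Hom.comp_preimage]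
    exact hWV'.trans (k.preimage_mono hV')
  have hWV2 : W ≤ (b' ≫ 𝓘.subschemeι) ⁻¹ᵁ V.1 := hk ▸ hWV
  have h2 : (k.appLE V'.1 W hWV').hom ((b.appLE V.1 V'.1 hV').hom s) = 0 := by
    have e1 : b.appLE V.1 V'.1 hV' ≫ k.appLE V'.1 W hWV' = (k ≫ b).appLE V.1 W hWV :=
      Scheme.Hom.appLE_comp_appLE _ _ _ _ _ _ _
    have e2 : (k ≫ b).appLE V.1 W hWV = (b' ≫ 𝓘.subschemeι).appLE V.1 W hWV2 :=
      appLE_congr_hom hk _ _ _
    have hWV3 : W ≤ b' ⁻¹ᵁ (𝓘.subschemeι ⁻¹ᵁ V.1) := hWV2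
    have e3 : (b' ≫ 𝓘.subschemeι).appLE V.1 W hWV2 =
        𝓘.subschemeι.app V.1 ≫ b'.appLE (𝓘.subschemeι ⁻¹ᵁ V.1) W hWV3 := by
      rw [Scheme.Hom.app_eq_appLE, Scheme.Hom.appLE_comp_appLE]
    have e4 := congrArg (fun φ => φ.hom s) (e1.trans (e2.trans e3))
    simp only [CommRingCat.hom_comp, RingHom.comp_apply] at e4
    rw [e4]
    have : (𝓘.subschemeι.app V.1).hom s = 0 := by
      rw [← RingHom.mem_ker, Scheme.IdealSheafData.ker_subschemeι_app]
      exact hs
    rw [this, map_zero]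
  rw [h2] at h1
  -- so `c = 0` is a nonzerodivisor
  have hc' : c = 0 := by
    have : c ∈ K.ideal ⟨W, hW⟩ := hc ▸ Ideal.mem_span_singleton_self c
    rw [h1] at this
    simpa using this
  subst hc'
  have h10 : (1 : Γ(Yt, W)) = 0 :=
    (mem_nonZeroDivisors_iff_right.mp hc0) 1 (by rw [mul_zero])
  have hbot : W = ⊥ := by
    rw [← Scheme.basicOpen_one (X := Yt) (U := W), h10, Scheme.basicOpen_zero]
  rw [hbot] at hyW
  exact hyW

end Groth.Agent.S17393
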