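import Groth.Statements.S1740
import Mathlib
import Groth.Agent.Lib.Helper13Pure
import Groth.Agent.Lib.Helper13TorD1
-- import your own Groth.Agent.* helpers here

set_option autoImplicit false
universe u
open CategoryTheory
attribute [local instance] HasDerivedCategory.standard
open LocCoh

namespace Groth.Agent.S1740

open CategoryTheory

/-- The short complex `ker g --> L --g--> N`. -/
noncomputable def sesKer {R : Type u} [CommRing R] {L N : Type u} [AddCommGroup L] [Module R L]
    [AddCommGroup N] [Module R N] (g : L →ₗ[R] N) : ShortComplex (ModuleCat.{u} R) :=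
  ShortComplex.mk (ModuleCat.ofHom (LinearMap.ker g).subtype :
      ModuleCat.of R (LinearMap.ker g) ⟶ ModuleCat.of R L)
    (ModuleCat.ofHom g : ModuleCat.of R L ⟶ ModuleCat.of R N) (by
    apply ModuleCat.hom_ext
    apply LinearMap.ext
    intro y
    exact y.2)

theorem sesKer_shortExact {R : Type u} [CommRing R] {L N : Type u} [AddCommGroup L] [Module R L]
    [AddCommGroup N] [Module R N] (g : L →ₗ[R] N) (hg : Function.Surjective g) :
    (sesKer g).ShortExact where
  exact := by
    rw [ShortComplex.ShortExact.moduleCat_exact_iff_function_exact]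
    intro y
    show g y = 0 ↔ y ∈ Set.range (LinearMap.ker g).subtype
    constructor
    · intro hy
      exact ⟨⟨y, hy⟩, rfl⟩
    · rintro ⟨z, rfl⟩
      exact z.2
  mono_f := by
    rw [ModuleCat.mono_iff_injective]
    exact Submodule.injective_subtype _
  epi_g := by
    rw [ModuleCat.epi_iff_surjective]
    exact hg


theorem exists_lift (R : Type u) [CommRing R] (M M' : Type u) [AddCommGroup M] [Module R M]
    [Module.FinitePresentation R M] [AddCommGroup M'] [Module R M'] (α : M →ₗ[R] M')
    (h : ∀ (N : Type u) [AddCommGroup N] [Module R N],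
      ((CategoryTheory.Tor (ModuleCat.{u} R) 1).map (ModuleCat.ofHom α)).app (ModuleCat.of R N) = 0)
    (F' : Type u) [AddCommGroup F'] [Module R F'] (π : F' →ₗ[R] M')
    (hπ : Function.Surjective π) : ∃ g : M →ₗ[R] F', α = π ∘ₗ g := by
  classical
  -- the pullback `E ⊆ M × F'`
  obtain ⟨E, hE⟩ : ∃ E : Submodule R (M × F'),
      E = LinearMap.ker (α ∘ₗ LinearMap.fst R M F' - π ∘ₗ LinearMap.snd R M F') :=
    ⟨_, rfl⟩
  have hmemE : ∀ z : M × F', z ∈ E ↔ α z.1 = π z.2 := by
    intro z
    rw [hE, LinearMap.mem_ker, LinearMap.sub_apply, sub_eq_zero]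
    rfl
  obtain ⟨p, hp⟩ : ∃ p : E →ₗ[R] M, p = LinearMap.fst R M F' ∘ₗ E.subtype := ⟨_, rfl⟩
  obtain ⟨q, hq⟩ : ∃ q : E →ₗ[R] F', q = LinearMap.snd R M F' ∘ₗ E.subtype :=
    ⟨_, rfl⟩
  have hp' : ∀ e : E, p e = e.1.1 := by
    intro e
    rw [hp]
    rfl
  have hq' : ∀ e : E, q e = e.1.2 := by
    intro e
    rw [hq]
    rfl
  have hpq : ∀ e : E, α (p e) = π (q e) := by
    intro e
    rw [hp', hq']
    exact (hmemE e.1).1 e.2
  have hpsurj : Function.Surjective p := by
    intro m
    obtain ⟨f, hf⟩ := hπ (α m)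
    refine ⟨⟨(m, f), (hmemE _).2 hf.symm⟩, ?_⟩
    rw [hp]
    rfl
  -- purity of `ker p ⊆ E`
  have hEq : @Helper13Pure.Equational R _ (LinearMap.ker p) E _ _ _ _ (LinearMap.ker p).subtype := by
    apply Helper13Pure.equational_of_fp
    intro Q _ _ _
    -- the comparison map `ker p → ker π`
    have hmem : ∀ x : LinearMap.ker p, q x.1 ∈ LinearMap.ker π := by
      intro x
      rw [LinearMap.mem_ker, ← hpq, LinearMap.mem_ker.1 x.2, map_zero]
    obtain ⟨τ, hτ⟩ : ∃ τ : LinearMap.ker p →ₗ[R] LinearMap.ker π,
        ∀ x, ((τ x : LinearMap.ker π) : F') = q x.1 :=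
      ⟨LinearMap.codRestrict _ (q ∘ₗ (LinearMap.ker p).subtype) hmem, fun x => rfl⟩
    have hτbij : Function.Bijective τ := by
      constructor
      · intro x y hxy
        have h2 : q x.1 = q y.1 := by rw [← hτ, ← hτ, hxy]
        have h1 : p x.1 = p y.1 := by
          rw [LinearMap.mem_ker.1 x.2, LinearMap.mem_ker.1 y.2]
        apply Subtype.ext
        apply Subtype.ext
        rw [hp', hp'] at h1
        rw [hq', hq'] at h2
        exact Prod.ext h1 h2
      · intro k
        have hk : ((0 : M), (k : F')) ∈ E := by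
          rw [hmemE]
          show α 0 = π k
          rw [map_zero, LinearMap.mem_ker.1 k.2]
        have hk' : (⟨((0 : M), (k : F')), hk⟩ : E) ∈ LinearMap.ker p := by
          rw [LinearMap.mem_ker, hp]
          rfl
        refine ⟨⟨⟨((0 : M), (k : F')), hk⟩, hk'⟩, ?_⟩
        apply Subtype.ext
        rw [hτ, hq]
        rfl
    let φ : sesKer p ⟶ sesKer π :=
      { τ₁ := ModuleCat.ofHom τ
        τ₂ := ModuleCat.ofHom q
        τ₃ := ModuleCat.ofHom α
        comm₁₂ := by
          apply ModuleCat.hom_ext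
          apply LinearMap.ext
          intro x
          exact hτ x
        comm₂₃ := by
          apply ModuleCat.hom_ext
          apply LinearMap.ext
          intro x
          exact (hpq x).symm }
    have hiso : IsIso φ.τ₁ := (ConcreteCategory.isIso_iff_bijective φ.τ₁).2 hτbij
    exact Helper13Tor.rTensor_injective_of_tor_one_map_eq_zero φ (sesKer_shortExact p hpsurj)
      (sesKer_shortExact π hπ) (ModuleCat.of R Q) (h Q)
  obtain ⟨ψ, hψ⟩ := Helper13Pure.exists_lift_of_equational p hpsurj hEq LinearMap.id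
  refine ⟨q ∘ₗ ψ, ?_⟩
  apply LinearMap.ext
  intro m
  have h1 : p (ψ m) = m := LinearMap.congr_fun hψ m
  rw [LinearMap.comp_apply, LinearMap.comp_apply, ← hpq, h1]


/-- Let α : M → M' be a map of R-modules with M finitely presented such that the induced map Tor_1(M, N)
→ Tor_1(M', N) is zero for every R-module N. Then α is the composite of a map from M into a free
R-module and a map from that free module to M'. -/
theorem result (R : Type u) [CommRing R] (M M' : Type u) [AddCommGroup M] [Module R M] [Module.FinitePresentation R M] [AddCommGroup M'] [Module R M'] (α : M →ₗ[R] M') (h : ∀ (N : Type u) [AddCommGroup N] [Module R N], ((CategoryTheory.Tor (ModuleCat.{u} R) 1).map (ModuleCat.ofHom α)).app (ModuleCat.of R N) = 0) : ∃ (ι : Type u) (g : M →ₗ[R] (ι →₀ R)) (h : (ι →₀ R) →ₗ[R] M'), α = h ∘ₗ g := by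
  classical
  have hπ : Function.Surjective (Finsupp.linearCombination R (id : M' → M')) := by
    intro y
    refine ⟨Finsupp.single y 1, ?_⟩
    rw [Finsupp.linearCombination_single, one_smul, id]
  obtain ⟨g, hg⟩ := exists_lift R M M' α h (M' →₀ R) _ hπ
  exact ⟨M', g, _, hg⟩

end Groth.Agent.S1740
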