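import Groth.Statements.S1741
import Groth.Agent.Lib.Helper8ExtTor

set_option autoImplicit false
universe u
open CategoryTheory
attribute [local instance] HasDerivedCategory.standard
open LocCoh

namespace Groth.Agent.S1741

section Aux

open CategoryTheory.Abelian Groth.Agent.Lib.Helper8.ExtTor

variable {R : Type u} [CommRing R]

theorem derived_of_extCond {X X' : ModuleCat.{u} R} (t : X' ⟶ X) (k : ℕ) (h : ExtCond t k)
    (N : ModuleCat.{u} R) (n : ℤ) (hn : n = (k : ℤ))
    (φ : (DerivedCategory.singleFunctor (ModuleCat.{u} R) 0).obj X ⟶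
      ((DerivedCategory.singleFunctor (ModuleCat.{u} R) 0).obj N)⟦n⟧) :
    (DerivedCategory.singleFunctor (ModuleCat.{u} R) 0).map t ≫ φ = 0 := by
  subst hn
  obtain ⟨x, rfl⟩ := (Ext.homEquiv (X := X) (Y := N) (n := k)).surjective φ
  have h1 := congrArg Ext.hom (h N x)
  rw [Ext.comp_hom, Ext.mk₀_hom, ShiftedHom.mk₀_comp, Ext.zero_hom] at h1
  exact h1

theorem extCond_of_derived {X X' : ModuleCat.{u} R} (t : X' ⟶ X) (k : ℕ) (n : ℤ)
    (hn : n = (k : ℤ))
    (h : ∀ (N : ModuleCat.{u} R)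
      (φ : (DerivedCategory.singleFunctor (ModuleCat.{u} R) 0).obj X ⟶
        ((DerivedCategory.singleFunctor (ModuleCat.{u} R) 0).obj N)⟦n⟧),
      (DerivedCategory.singleFunctor (ModuleCat.{u} R) 0).map t ≫ φ = 0) : ExtCond t k := by
  subst hn
  intro N x
  apply Ext.ext
  rw [Ext.comp_hom, Ext.mk₀_hom, ShiftedHom.mk₀_comp, Ext.zero_hom]
  exact h N x.hom

end Aux


/-- Equivalence of (4) and (7) in the Noetherian case. Let R be a Noetherian ring, α : M → M' a map of
R-modules with M finite, and e ≥ 0. Then precomposition with α kills all classes in Ext^{e+1}(M', N)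
(maps M' → N[e+1] in D(R)) for every module N if and only if the map Tor_{e+1}(M, N) → Tor_{e+1}(M',
N) induced by α is zero for every module N. -/
theorem result (R : Type u) [CommRing R] [IsNoetherianRing R] (M M' : Type u) [AddCommGroup M] [Module R M] [Module.Finite R M] [AddCommGroup M'] [Module R M'] (α : M →ₗ[R] M') (e : ℕ) : (∀ (N : Type u) [AddCommGroup N] [Module R N] (φ : Dual.inD R M' ⟶ (Dual.inD R N)⟦((e : ℤ) + 1)⟧), (DerivedCategory.singleFunctor (ModuleCat.{u} R) 0).map (ModuleCat.ofHom α) ≫ φ = 0) ↔ (∀ (N : Type u) [AddCommGroup N] [Module R N], ((CategoryTheory.Tor (ModuleCat.{u} R) (e + 1)).map (ModuleCat.ofHom α)).app (ModuleCat.of R N) = 0) := by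
  have hmain := Groth.Agent.Lib.Helper8.ExtTor.extCond_iff_torCond (R := R) e M M' α
  have hn : ((e : ℤ) + 1) = ((e + 1 : ℕ) : ℤ) := by push_cast; rfl
  constructor
  · intro h N _ _
    have hE : Groth.Agent.Lib.Helper8.ExtTor.ExtCond (ModuleCat.ofHom α) (e + 1) :=
      extCond_of_derived (ModuleCat.ofHom α) (e + 1) ((e : ℤ) + 1) hn
        (fun N' φ => h N' φ)
    exact hmain.mp hE (ModuleCat.of R N)
  · intro h N _ _ φ
    have hT : Groth.Agent.Lib.Helper8.ExtTor.TorCond (ModuleCat.ofHom α) (e + 1) :=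
      fun Y => h Y
    exact derived_of_extCond (ModuleCat.ofHom α) (e + 1) (hmain.mpr hT) (ModuleCat.of R N)
      ((e : ℤ) + 1) hn φ

end Groth.Agent.S1741
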