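import Groth.Statements.S17410
import Mathlib

set_option autoImplicit false
universe u
open Prym5

namespace Groth.Agent.S17410

open Polynomial

section part1

variable {P : Type u} [CommRing P] [IsDomain P] (h : P[X]) (S : Submonoid P)

local notation "A" => AdjoinRoot h
local notation "LS" => Localization S
local notation "LA" => Localization (Algebra.algebraMapSubmonoid (AdjoinRoot h) S)

lemma tower1 (c : P) : algebraMap (AdjoinRoot h) LA (algebraMap P (AdjoinRoot h) c)
    = algebraMap LS LA (algebraMap P LS c) := by
  rw [← IsScalarTower.algebraMap_apply P (AdjoinRoot h) LA, ← IsScalarTower.algebraMap_apply P LS LA]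

lemma root_integral (hu : IsUnit (algebraMap P LS h.leadingCoeff)) :
    IsIntegral LS (algebraMap (AdjoinRoot h) LA (AdjoinRoot.root h)) := by
  have h0 : IsIntegral P (h.leadingCoeff • AdjoinRoot.root h) :=
    isIntegral_leadingCoeff_smul h (AdjoinRoot.root h) (by rw [AdjoinRoot.aeval_eq, AdjoinRoot.mk_self])
  have h1 : IsIntegral P (algebraMap (AdjoinRoot h) LA (h.leadingCoeff • AdjoinRoot.root h)) :=
    h0.map (IsScalarTower.toAlgHom P (AdjoinRoot h) LA)
  have h2 : IsIntegral LS (algebraMap (AdjoinRoot h) LA (h.leadingCoeff • AdjoinRoot.root h)) :=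
    h1.tower_top
  rw [Algebra.smul_def, map_mul, tower1] at h2
  obtain ⟨v, hv⟩ := hu.exists_left_inv
  have h3 : algebraMap (AdjoinRoot h) LA (AdjoinRoot.root h)
      = algebraMap LS LA v * (algebraMap LS LA (algebraMap P LS h.leadingCoeff) *
        algebraMap (AdjoinRoot h) LA (AdjoinRoot.root h)) := by
    rw [← mul_assoc, ← map_mul, hv, map_one, one_mul]
  rw [h3]
  exact IsIntegral.mul isIntegral_algebraMap h2

lemma all_integral (hu : IsUnit (algebraMap P LS h.leadingCoeff)) :
    Algebra.IsIntegral LS LA := by
  have hz := root_integral h S hu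
  have hA : ∀ a : AdjoinRoot h, IsIntegral LS (algebraMap (AdjoinRoot h) LA a) := by
    intro a
    induction a using AdjoinRoot.induction_on with
    | ih f =>
      induction f using Polynomial.induction_on with
      | C c =>
        have : AdjoinRoot.mk h (C c) = algebraMap P (AdjoinRoot h) c := rfl
        rw [this, tower1]
        exact isIntegral_algebraMap
      | add f g hf hg =>
        rw [map_add, map_add]
        exact hf.add hg
      | monomial n c ih =>
        rw [pow_succ, ← mul_assoc, map_mul, map_mul, AdjoinRoot.mk_X]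
        exact ih.mul hz
  constructor
  intro x
  have hsurj := IsLocalization.exists_mk'_eq (S := LA)
    (Algebra.algebraMapSubmonoid (AdjoinRoot h) S) x
  obtain ⟨a, c, rfl⟩ := hsurj
  obtain ⟨c, hc⟩ := c
  obtain ⟨s, hs, rfl⟩ := hc
  have hsu : IsUnit (algebraMap P LS s) := IsLocalization.map_units LS ⟨s, hs⟩
  obtain ⟨v, hv⟩ := hsu.exists_left_inv
  have key : IsLocalization.mk' LA a
      (⟨algebraMap P (AdjoinRoot h) s, ⟨s, hs, rfl⟩⟩ : Algebra.algebraMapSubmonoid (AdjoinRoot h) S)
      = algebraMap (AdjoinRoot h) LA a * algebraMap LS LA v := by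
    rw [IsLocalization.mk'_eq_iff_eq_mul]
    show _ = _ * algebraMap (AdjoinRoot h) LA (algebraMap P (AdjoinRoot h) s)
    rw [tower1, mul_assoc, ← map_mul, hv, map_one, mul_one]
  rw [key]
  exact (hA a).mul isIntegral_algebraMap

lemma unit_of_integral (hint : Algebra.IsIntegral LS LA) :
    IsUnit (algebraMap P LS h.leadingCoeff) := by
  by_cases h0 : (0 : P) ∈ S
  · haveI : Subsingleton LS := IsLocalization.subsingleton (M := S) h0
    exact isUnit_of_subsingleton _
  have hS : S ≤ nonZeroDivisors P := le_nonZeroDivisors_of_noZeroDivisors h0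
  haveI : IsDomain LS := IsLocalization.isDomain_of_le_nonZeroDivisors LS hS
  have hinj : Function.Injective (algebraMap P LS) := IsLocalization.injective LS hS
  set z := algebraMap (AdjoinRoot h) LA (AdjoinRoot.root h) with hz
  obtain ⟨g, hgm, hg⟩ := hint.isIntegral z
  have hg' : aeval z g = 0 := hg
  obtain ⟨G, hG⟩ : ∃ G, G = IsLocalization.integerNormalization S g := ⟨_, rfl⟩
  have hG0 : aeval z G = 0 := by
    rw [hG]; exact IsLocalization.integerNormalization_aeval_eq_zero S g hg'
  rw [hz, Polynomial.aeval_algebraMap_apply] at hG0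
  obtain ⟨⟨c, hc⟩, hc0⟩ := (IsLocalization.map_eq_zero_iff
    (Algebra.algebraMapSubmonoid (AdjoinRoot h) S) LA _).1 hG0
  obtain ⟨t, ht, rfl⟩ := hc
  have h1 : AdjoinRoot.mk h (C t * G) = 0 := by
    rw [map_mul, ← AdjoinRoot.aeval_eq G]
    exact hc0
  rw [AdjoinRoot.mk_eq_zero] at h1
  obtain ⟨q, hq⟩ := h1
  obtain ⟨b, hb⟩ := IsLocalization.integerNormalization_map_to_map S g
  have h2 := congrArg (Polynomial.map (algebraMap P LS)) hq
  rw [Polynomial.map_mul, Polynomial.map_mul, Polynomial.map_C, hG, hb] at h2
  have h3 := congrArg Polynomial.leadingCoeff h2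
  rw [Polynomial.leadingCoeff_mul, Polynomial.leadingCoeff_mul, Polynomial.leadingCoeff_C,
    Polynomial.leadingCoeff_map_of_injective hinj] at h3
  have h4 : ((b : P) • g).leadingCoeff = algebraMap P LS b := by
    rw [← IsScalarTower.algebraMap_smul LS (b : P) g, Polynomial.smul_eq_C_mul,
      Polynomial.leadingCoeff_mul, Polynomial.leadingCoeff_C, hgm.leadingCoeff, mul_one]
  rw [h4] at h3
  have hunit : IsUnit (algebraMap P LS t * algebraMap P LS b) :=
    (IsLocalization.map_units LS ⟨t, ht⟩).mul (IsLocalization.map_units LS b)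
  rw [h3] at hunit
  exact isUnit_of_mul_isUnit_left hunit

end part1

section part2

variable {P : Type u} [CommRing P] [IsDomain P] (h : P[X])

open TensorProduct

lemma finrank_eq (hdeg : h.natDegree = 2) :
    Module.finrank (FractionRing P) (TensorProduct P (FractionRing P) (AdjoinRoot h)) = 2 := by
  let T := FractionRing P
  let q : (T ⊗[P] P)[X] := h.map (Algebra.TensorProduct.includeRight : P →ₐ[P] T ⊗[P] P).toRingHom
  let e1 : T ⊗[P] AdjoinRoot h ≃ₐ[T] AdjoinRoot q := AdjoinRoot.tensorAlgEquiv h q rfl
  let f : (T ⊗[P] P) ≃ₐ[T] T := Algebra.TensorProduct.rid P T T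
  let h' : T[X] := h.map (algebraMap P T)
  have hq : q.map (f : (T ⊗[P] P) →+* T) = h' := by
    have hcomp : (f : (T ⊗[P] P) →+* T).comp
        (Algebra.TensorProduct.includeRight : P →ₐ[P] T ⊗[P] P).toRingHom = algebraMap P T := by
      ext x
      simp [f, Algebra.smul_def]
    show (h.map _).map _ = _
    rw [Polynomial.map_map, hcomp]
  let e2 : AdjoinRoot q ≃ₐ[T] AdjoinRoot h' := AdjoinRoot.mapAlgEquiv f q h' (by
    have : Polynomial.map (↑f : (T ⊗[P] P) →+* T) q = h' := hq
    show Associated (Polynomial.map _ q) h'
    rw [← hq])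
  have hinj : Function.Injective (algebraMap P T) := IsFractionRing.injective P T
  have hdeg' : h'.natDegree = 2 := by
    rw [Polynomial.natDegree_map_eq_of_injective hinj, hdeg]
  have hne : h' ≠ 0 := by
    intro h0
    rw [h0, Polynomial.natDegree_zero] at hdeg'
    exact absurd hdeg' (by norm_num)
  have h3 : Module.finrank T (AdjoinRoot h') = 2 := by
    rw [(AdjoinRoot.powerBasis hne).finrank, AdjoinRoot.powerBasis_dim, hdeg']
  rw [← h3]
  exact (e1.trans e2).toLinearEquiv.finrank_eq

end part2


/-- Over a perfect field K of characteristic different from 2 and 3, let h be an irreducible polynomial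
of degree 2 in the variable z with coefficients in K[x, y] and A = K[x, y][z]/(h). For every
multiplicative subset S of K[x, y], the localisation S⁻¹A is integral over S⁻¹K[x, y] if and only if
the leading coefficient of h is invertible in S⁻¹K[x, y]; and K(x, y) ⊗ A is a K(x, y)-vector space
of dimension 2. (Geometrically: for a quartic surface with an ordinary double point, written u₂ x₃²
+ 2 u₃ x₃ + u₄ = 0 with the node at (0:0:0:1), the projection from the node restricted to a standard
affine chart of the plane is given by such an algebra A with leading coefficient the dehomogenised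
u₂, so the projection is finite of degree two exactly over the locus u₂ ≠ 0. Stated for any
irreducible h of degree 2, which is all the argument uses.) -/
theorem result (K : Type u) [Field K]
    [PerfectField K] (h2 : (2 : K) ≠ 0) (h3 : (3 : K) ≠ 0)
    (h : Polynomial (MvPolynomial (Fin 2) K)) (hirr : Irreducible h) (hdeg : h.natDegree = 2)
    (S : Submonoid (MvPolynomial (Fin 2) K)) :
    (Algebra.IsIntegral (Localization S) (Localization (Algebra.algebraMapSubmonoid (AdjoinRoot h) S))
        ↔ IsUnit (algebraMap (MvPolynomial (Fin 2) K) (Localization S) h.leadingCoeff))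
      ∧ Module.finrank (FractionRing (MvPolynomial (Fin 2) K))
          (TensorProduct (MvPolynomial (Fin 2) K) (FractionRing (MvPolynomial (Fin 2) K)) (AdjoinRoot h)) = 2 := by
  refine ⟨⟨unit_of_integral h S, all_integral h S⟩, finrank_eq h hdeg⟩

end Groth.Agent.S17410
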