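import Groth.Statements.S17411
import Groth.Agent.Lib.Helper4VarDim9
open Groth.Agent.Lib.Helper4.VarDim

set_option autoImplicit false
set_option linter.style.haveILetI false
universe u
open CategoryTheory AlgebraicGeometry
open Prym5

namespace Groth.Agent.S17411

/-- Let k be an algebraically closed field of characteristic zero and X, Y, Z schemes of finite type
over k, with Y and Z irreducible of the same dimension, η : Y → Z a dominant k-morphism and ρ : X →
Y a k-morphism. Then the composite ρ ≫ η is dominant exactly when ρ is dominant. (The published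
statement concerns the forgetful map from the moduli space of étale double covers of genus-five
curves to the moduli space of genus-five curves, both irreducible of dimension 12, and a morphism
into the former; its argument uses only the hypotheses kept here.) -/
theorem result (k : Type u) [Field k] [IsAlgClosed k]
    [CharZero k] (X Y Z : Scheme.{u}) [X.Over (Spec (CommRingCat.of k))] [Y.Over (Spec (CommRingCat.of k))]
    [Z.Over (Spec (CommRingCat.of k))]
    [LocallyOfFiniteType (X ↘ Spec (CommRingCat.of k))] [QuasiCompact (X ↘ Spec (CommRingCat.of k))]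
    [LocallyOfFiniteType (Y ↘ Spec (CommRingCat.of k))] [QuasiCompact (Y ↘ Spec (CommRingCat.of k))]
    [LocallyOfFiniteType (Z ↘ Spec (CommRingCat.of k))] [QuasiCompact (Z ↘ Spec (CommRingCat.of k))]
    [IrreducibleSpace Y] [IrreducibleSpace Z] (hdim : topologicalKrullDim Y = topologicalKrullDim Z)
    (ρ : X ⟶ Y) [ρ.IsOver (Spec (CommRingCat.of k))] (η : Y ⟶ Z) [η.IsOver (Spec (CommRingCat.of k))]
    [IsDominant η] :
    IsDominant (ρ ≫ η) ↔ IsDominant ρ := by
  constructor
  · intro hcomp
    haveI : IsLocallyNoetherian X :=
      LocallyOfFiniteType.isLocallyNoetherian (X ↘ Spec (CommRingCat.of k))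
    haveI : CompactSpace X :=
      QuasiCompact.compactSpace_of_compactSpace (X ↘ Spec (CommRingCat.of k))
    haveI : IsNoetherian X := {}
    have hfin : (irreducibleComponents X).Finite := finite_irreducibleComponents_of_isNoetherian
    have hζ : ∀ z : Z, z ⤳ genericPoint Z → z = genericPoint Z := fun z hz =>
      (hz.antisymm (genericPoint_specializes z)).eq
    obtain ⟨x, hx⟩ := mem_range_of_denseRange hfin (ρ ≫ η).base (ρ ≫ η).continuous
      hcomp.denseRange (genericPoint Z) hζ
    have hx' : η (ρ x) = genericPoint Z := hx
    have h1 := trdegNat_le_of_hom k η (comp_over η (Spec (CommRingCat.of k))) (ρ x)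
    rw [hx'] at h1
    have hdY : topologicalKrullDim Y = ((trdegNat k Y (genericPoint Y) : ℕ) : WithBot ℕ∞) :=
      topologicalKrullDim_eq_of_irreducible k Y _ (trdeg_eq_trdegNat k Y _)
    have hdZ : topologicalKrullDim Z = ((trdegNat k Z (genericPoint Z) : ℕ) : WithBot ℕ∞) :=
      topologicalKrullDim_eq_of_irreducible k Z _ (trdeg_eq_trdegNat k Z _)
    have h2 : trdegNat k Y (genericPoint Y) = trdegNat k Z (genericPoint Z) := by
      have := hdY.symm.trans (hdim.trans hdZ)
      exact_mod_cast this
    have h3 : ρ x = genericPoint Y := by
      by_contra hne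
      have := trdegNat_lt_of_specializes k Y (genericPoint Y) (ρ x)
        (genericPoint_specializes _) (Ne.symm hne)
      omega
    refine ⟨?_⟩
    intro y
    have h4 : closure ({genericPoint Y} : Set Y) ⊆ closure (Set.range ρ.base) :=
      closure_mono (Set.singleton_subset_iff.mpr ⟨x, h3⟩)
    exact h4 (specializes_iff_mem_closure.mp (genericPoint_specializes y))
  · intro h
    infer_instance

end Groth.Agent.S17411
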