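import Groth.Statements.S17414
import Groth.Agent.Lib.Helper26Prym

set_option autoImplicit false
universe u
open Prym5
open Groth.Agent.Lib

namespace Groth.Agent.S17414

/-- Over a perfect field K of characteristic different from 2 and 3, let G₂, G₃, G₄ be polynomials in x,
y, let h = G₂ z² + 2 G₃ z + G₄ in K[x, y, z] and D = G₃² − G₂ G₄ in K[x, y]. Suppose h ∈ (x, y, z) —
the origin Q lies on the surface h = 0 — and D ∈ (x, y) — the image of Q under (x, y, z) ↦ (x, y)
lies on the discriminant curve D = 0. Then D ∈ (x, y)², i.e. the image point is singular on the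
discriminant curve, if and only if either h ∈ (x, y, z)², i.e. Q is a singular point of the surface,
or G₂, G₃, G₄ ∈ (x, y), i.e. Q lies on all three cones G₂ = G₃ = G₄ = 0. (Affine-local form, in a
chart where the node projected from sits at infinity on the z-axis and Q at the origin, of the
published claim: for a point Q ≠ P of the nodal quartic whose projection lies on the branch sextic,
the projection is singular on the sextic exactly when Q is singular on the quartic or lies on the
cones u₂ = u₃ = u₄ = 0.) -/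
theorem result (K : Type u) [Field K] [PerfectField K]
    (h2 : (2 : K) ≠ 0) (h3 : (3 : K) ≠ 0) (G₂ G₃ G₄ : MvPolynomial (Fin 2) K)
    (hQ : MvPolynomial.rename (Fin.castSucc : Fin 2 → Fin 3) G₂ * MvPolynomial.X (2 : Fin 3) ^ 2
        + 2 * MvPolynomial.rename (Fin.castSucc : Fin 2 → Fin 3) G₃ * MvPolynomial.X (2 : Fin 3)
        + MvPolynomial.rename (Fin.castSucc : Fin 2 → Fin 3) G₄
        ∈ Ideal.span (Set.range (MvPolynomial.X : Fin 3 → MvPolynomial (Fin 3) K)))
    (hD : G₃ ^ 2 - G₂ * G₄ ∈ Ideal.span (Set.range (MvPolynomial.X : Fin 2 → MvPolynomial (Fin 2) K))) :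
    G₃ ^ 2 - G₂ * G₄ ∈ (Ideal.span (Set.range (MvPolynomial.X : Fin 2 → MvPolynomial (Fin 2) K))) ^ 2 ↔
      (MvPolynomial.rename (Fin.castSucc : Fin 2 → Fin 3) G₂ * MvPolynomial.X (2 : Fin 3) ^ 2
          + 2 * MvPolynomial.rename (Fin.castSucc : Fin 2 → Fin 3) G₃ * MvPolynomial.X (2 : Fin 3)
          + MvPolynomial.rename (Fin.castSucc : Fin 2 → Fin 3) G₄
          ∈ (Ideal.span (Set.range (MvPolynomial.X : Fin 3 → MvPolynomial (Fin 3) K))) ^ 2 ∨
        (G₂ ∈ Ideal.span (Set.range (MvPolynomial.X : Fin 2 → MvPolynomial (Fin 2) K)) ∧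
          G₃ ∈ Ideal.span (Set.range (MvPolynomial.X : Fin 2 → MvPolynomial (Fin 2) K)) ∧
          G₄ ∈ Ideal.span (Set.range (MvPolynomial.X : Fin 2 → MvPolynomial (Fin 2) K)))) := by
  have hG4 : G₄ ∈ MvPolynomial.idealOfVars (Fin 2) K := by
    rw [Helper26.mem_idealOfVars_iff, MvPolynomial.constantCoeff_eq]
    have h1 := (Helper26.mem_idealOfVars_iff _).mp hQ
    rw [MvPolynomial.constantCoeff_eq] at h1
    have h2' := Helper26.coeff_quartic_castSucc G₂ G₃ G₄ 0
    rw [Finsupp.mapDomain_zero] at h2'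
    rw [← h2', h1]
  have hG3 : G₃ ∈ MvPolynomial.idealOfVars (Fin 2) K := by
    rw [Helper26.mem_idealOfVars_iff]
    have h1 := (Helper26.mem_idealOfVars_iff _).mp hD
    have h4 := (Helper26.mem_idealOfVars_iff _).mp hG4
    rw [map_sub, map_mul, map_pow, h4, mul_zero, sub_zero] at h1
    exact pow_eq_zero_iff (two_ne_zero) |>.mp h1
  have hG3sq : G₃ ^ 2 ∈ MvPolynomial.idealOfVars (Fin 2) K ^ 2 := by
    rw [pow_two, pow_two]
    exact Ideal.mul_mem_mul hG3 hG3
  constructor
  · intro hDsq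
    have hprod : G₂ * G₄ ∈ MvPolynomial.idealOfVars (Fin 2) K ^ 2 := by
      have : G₂ * G₄ = G₃ ^ 2 - (G₃ ^ 2 - G₂ * G₄) := by ring
      rw [this]
      exact Ideal.sub_mem _ hG3sq hDsq
    by_cases ha : MvPolynomial.constantCoeff G₂ = 0
    · right
      exact ⟨(Helper26.mem_idealOfVars_iff _).mpr ha, hG3, hG4⟩
    · left
      have hG2' : G₂ - MvPolynomial.C (MvPolynomial.constantCoeff G₂) ∈
          MvPolynomial.idealOfVars (Fin 2) K := by
        rw [Helper26.mem_idealOfVars_iff, map_sub, MvPolynomial.constantCoeff_C, sub_self]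
      have h5 : (G₂ - MvPolynomial.C (MvPolynomial.constantCoeff G₂)) * G₄ ∈
          MvPolynomial.idealOfVars (Fin 2) K ^ 2 := by
        rw [pow_two]
        exact Ideal.mul_mem_mul hG2' hG4
      have h6 : MvPolynomial.C (MvPolynomial.constantCoeff G₂) * G₄ ∈
          MvPolynomial.idealOfVars (Fin 2) K ^ 2 := by
        have : MvPolynomial.C (MvPolynomial.constantCoeff G₂) * G₄ =
            G₂ * G₄ - (G₂ - MvPolynomial.C (MvPolynomial.constantCoeff G₂)) * G₄ := by ring
        rw [this]
        exact Ideal.sub_mem _ hprod h5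
      have hG4sq : G₄ ∈ MvPolynomial.idealOfVars (Fin 2) K ^ 2 := by
        have : G₄ = MvPolynomial.C (MvPolynomial.constantCoeff G₂)⁻¹ *
            (MvPolynomial.C (MvPolynomial.constantCoeff G₂) * G₄) := by
          rw [← mul_assoc, ← MvPolynomial.C_mul, inv_mul_cancel₀ ha, MvPolynomial.C_1, one_mul]
        rw [this]
        exact Ideal.mul_mem_left _ _ h6
      have hz : (MvPolynomial.X (2 : Fin 3) : MvPolynomial (Fin 3) K) ∈
          MvPolynomial.idealOfVars (Fin 3) K := Ideal.subset_span ⟨_, rfl⟩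
      have hr3 := Helper26.rename_mem_pow 1 G₃ (by rwa [pow_one])
      rw [pow_one] at hr3
      have hr4 := Helper26.rename_mem_pow 2 G₄ hG4sq
      refine Ideal.add_mem _ (Ideal.add_mem _ ?_ ?_) hr4
      · exact Ideal.mul_mem_left _ _ (Ideal.pow_mem_pow hz 2)
      · rw [pow_two]
        exact Ideal.mul_mem_mul (Ideal.mul_mem_left _ _ hr3) hz
  · rintro (hh | ⟨hG2, -, -⟩)
    · exact Helper26.discr_mem_sq h2 G₂ G₃ G₄ hh
    · refine Ideal.sub_mem _ hG3sq ?_
      rw [pow_two]
      exact Ideal.mul_mem_mul hG2 hG4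

end Groth.Agent.S17414
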