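import Groth.Statements.S1742
import Groth.Agent.Lib.Helper28DepthBC
import Groth.Agent.Lib.Helper28DepthLoc

set_option autoImplicit false
universe u
open LocCoh

namespace Groth.Agent.S1742

open Groth.Agent.Lib.Helper28 RingTheory.Sequence
open Pointwise

section Loc

variable {A : Type u} [CommRing A] (S : Submonoid A) (J : Ideal A)
  (M : Type u) [AddCommGroup M] [Module A M]

/-- `J • ⊤` in the localized module is stable under the localized scalars. -/
theorem loc_smul_mem (c : Localization S) (n : LocalizedModule S M)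
    (hn : n ∈ (J • ⊤ : Submodule A (LocalizedModule S M))) :
    c • n ∈ (J • ⊤ : Submodule A (LocalizedModule S M)) := by
  refine Submodule.smul_induction_on hn ?_ ?_
  · intro a ha n0 _
    rw [smul_comm]
    exact Submodule.smul_mem_smul ha Submodule.mem_top
  · intro x y hx hy
    rw [smul_add]
    exact Submodule.add_mem _ hx hy

/-- membership in `J • ⊤` of the localized module. -/
theorem mk_mem_smul_top_iff (m : M) (s : S) :
    LocalizedModule.mk m s ∈ (J • ⊤ : Submodule A (LocalizedModule S M)) ↔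
      ∃ t : S, (t : A) • m ∈ (J • ⊤ : Submodule A M) := by
  constructor
  · intro h
    have key : ∀ n ∈ (J • ⊤ : Submodule A (LocalizedModule S M)),
        ∃ m' ∈ (J • ⊤ : Submodule A M), ∃ s' : S, n = LocalizedModule.mk m' s' := by
      intro n hn
      refine Submodule.smul_induction_on hn ?_ ?_
      · intro a ha n0 _
        induction n0 using LocalizedModule.induction_on with
        | _ m0 s0 =>
          exact ⟨a • m0, Submodule.smul_mem_smul ha Submodule.mem_top, s0,
            LocalizedModule.smul'_mk a m0 s0⟩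
      · rintro x y ⟨m1, hm1, s1, rfl⟩ ⟨m2, hm2, s2, rfl⟩
        refine ⟨s2 • m1 + s1 • m2, Submodule.add_mem _ (Submodule.smul_mem _ _ hm1)
          (Submodule.smul_mem _ _ hm2), s1 * s2, ?_⟩
        rw [LocalizedModule.mk_add_mk]
    obtain ⟨m', hm', s', heq⟩ := key _ h
    rw [LocalizedModule.mk_eq] at heq
    obtain ⟨u, hu⟩ := heq
    refine ⟨u * s', ?_⟩
    have : ((u * s' : S) : A) • m = u • s' • m := by
      rw [Submonoid.coe_mul, mul_smul]
      rfl
    rw [this, hu]
    exact Submodule.smul_mem _ _ (Submodule.smul_mem _ _ hm')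
  · rintro ⟨t, ht⟩
    have h1 : LocalizedModule.mk ((t : A) • m) (1 : S) ∈
        (J • ⊤ : Submodule A (LocalizedModule S M)) :=
      Submodule.smul_top_le_comap_smul_top J (LocalizedModule.mkLinearMap S M) ht
    have h2 := loc_smul_mem S J M (Localization.mk 1 (t * s)) _ h1
    rw [LocalizedModule.mk_smul_mk, one_smul, mul_one] at h2
    have h3 : LocalizedModule.mk ((t : A) • m) (t * s) = LocalizedModule.mk m s := by
      rw [LocalizedModule.mk_eq]
      refine ⟨1, ?_⟩
      simp only [one_smul]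
      rw [Submonoid.smul_def, Submonoid.smul_def, Submonoid.coe_mul, mul_smul, smul_comm]
    rw [← h3]
    exact h2

end Loc

section Spread

variable {A : Type u} [CommRing A] [IsNoetherianRing A] (M : Type u) [AddCommGroup M] [Module A M]
  [Module.Finite A M]

omit [IsNoetherianRing A] [Module.Finite A M] in
theorem exists_uniform (p : Ideal A) [hp : p.IsPrime] (N : Submodule A M) (C : Submodule A M)
    (hC : C.FG) : (∀ c ∈ C, ∃ t : A, t ∉ p ∧ t • c ∈ N) →
      ∃ f : A, f ∉ p ∧ ∀ c ∈ C, f • c ∈ N := by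
  refine Submodule.fg_induction (motive := fun (C' : Submodule A M) _ =>
    (∀ c ∈ C', ∃ t : A, t ∉ p ∧ t • c ∈ N) → ∃ f : A, f ∉ p ∧ ∀ c ∈ C', f • c ∈ N) ?_ ?_ C hC
  · intro c h
    obtain ⟨t, htp, ht⟩ := h c (Submodule.mem_span_singleton_self c)
    refine ⟨t, htp, fun c' hc' => ?_⟩
    obtain ⟨r, rfl⟩ := Submodule.mem_span_singleton.mp hc'
    rw [smul_comm]
    exact Submodule.smul_mem _ _ ht
  · intro C₁ C₂ _ _ ih₁ ih₂ h
    obtain ⟨f₁, hf₁, h₁⟩ := ih₁ (fun c hc => h c (Submodule.mem_sup_left hc))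
    obtain ⟨f₂, hf₂, h₂⟩ := ih₂ (fun c hc => h c (Submodule.mem_sup_right hc))
    refine ⟨f₁ * f₂, fun hmem => (hp.mem_or_mem hmem).elim hf₁ hf₂, fun c hc => ?_⟩
    obtain ⟨c₁, hc₁, c₂, hc₂, rfl⟩ := Submodule.mem_sup.mp hc
    rw [smul_add]
    refine Submodule.add_mem _ ?_ ?_
    · rw [mul_comm, mul_smul]
      exact Submodule.smul_mem _ _ (h₁ c₁ hc₁)
    · rw [mul_smul]
      exact Submodule.smul_mem _ _ (h₂ c₂ hc₂)

theorem spread_one (J : Ideal A) (x : A) (p : Ideal A) [hp : p.IsPrime]
    (hreg : IsSMulRegular (LocalizedModule p.primeCompl M ⧸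
      (J • ⊤ : Submodule A (LocalizedModule p.primeCompl M))) x) :
    ∃ f : A, f ∉ p ∧ ∀ (q : Ideal A) [q.IsPrime], f ∉ q →
      IsSMulRegular (LocalizedModule q.primeCompl M ⧸
        (J • ⊤ : Submodule A (LocalizedModule q.primeCompl M))) x := by
  have hnoeth : IsNoetherian A M := isNoetherian_of_isNoetherianRing_of_finite A M
  rw [isSMulRegular_quotient_iff_mem_of_smul_mem] at hreg
  have hC : ∀ c ∈ (J • ⊤ : Submodule A M).comap (LinearMap.lsmul A M x),
      ∃ t : A, t ∉ p ∧ t • c ∈ (J • ⊤ : Submodule A M) := by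
    intro c hc
    have hc' : x • c ∈ (J • ⊤ : Submodule A M) := hc
    have h1 : x • LocalizedModule.mk c (1 : p.primeCompl) ∈
        (J • ⊤ : Submodule A (LocalizedModule p.primeCompl M)) := by
      rw [LocalizedModule.smul'_mk, mk_mem_smul_top_iff]
      exact ⟨1, by rw [Submonoid.coe_one, one_smul]; exact hc'⟩
    have h2 := hreg _ h1
    rw [mk_mem_smul_top_iff] at h2
    obtain ⟨t, ht⟩ := h2
    exact ⟨t.1, t.2, ht⟩
  obtain ⟨f, hfp, hf⟩ := exists_uniform M p (J • ⊤ : Submodule A M) _
    (IsNoetherian.noetherian _) hC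
  refine ⟨f, hfp, fun q hq hfq => ?_⟩
  rw [isSMulRegular_quotient_iff_mem_of_smul_mem]
  intro n hn
  induction n using LocalizedModule.induction_on with
  | _ m s =>
    rw [LocalizedModule.smul'_mk, mk_mem_smul_top_iff] at hn
    obtain ⟨t, ht⟩ := hn
    have h3 : (t : A) • m ∈ (J • ⊤ : Submodule A M).comap (LinearMap.lsmul A M x) := by
      change x • ((t : A) • m) ∈ (J • ⊤ : Submodule A M)
      rw [smul_comm]
      exact ht
    have h4 := hf _ h3
    rw [mk_mem_smul_top_iff]
    refine ⟨⟨f * t, ?_⟩, ?_⟩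
    · intro hmem
      exact (hq.mem_or_mem hmem).elim hfq t.2
    · change (f * (t : A)) • m ∈ _
      rw [mul_smul]
      exact h4

theorem spread (p : Ideal A) [hp : p.IsPrime] (rs : List A)
    (hreg : IsWeaklyRegular (LocalizedModule p.primeCompl M) rs) :
    ∃ f : A, f ∉ p ∧ ∀ (q : Ideal A) [q.IsPrime], f ∉ q →
      IsWeaklyRegular (LocalizedModule q.primeCompl M) rs := by
  classical
  rw [isWeaklyRegular_iff_Fin] at hreg
  choose ffun hfp hf using fun i : Fin rs.length =>
    spread_one M (Ideal.ofList (rs.take i)) rs[i] p (hreg i)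
  refine ⟨∏ i, ffun i, ?_, fun q hq hfq => ?_⟩
  · intro hmem
    obtain ⟨i, -, hi⟩ := (Ideal.IsPrime.prod_mem_iff).mp hmem
    exact hfp i hi
  · rw [isWeaklyRegular_iff_Fin]
    intro i
    apply hf i q
    intro hmem
    apply hfq
    exact Ideal.mem_of_dvd q (Finset.dvd_prod_of_mem ffun (Finset.mem_univ i)) hmem

end Spread

section UnitMul

variable {S : Type u} [CommRing S]

theorem ofList_eq_of_forall₂ (l l' : List S)
    (h : List.Forall₂ (fun z w => ∃ u : S, IsUnit u ∧ w = u * z) l l') :
    Ideal.ofList l' = Ideal.ofList l := by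
  induction h with
  | nil => rfl
  | cons hab _ ih =>
    obtain ⟨u, hu, rfl⟩ := hab
    rw [Ideal.ofList_cons, Ideal.ofList_cons, ih, Ideal.span_singleton_mul_left_unit hu]

theorem isWeaklyRegular_of_unit_mul (N : Type u) [AddCommGroup N] [Module S N]
    (rs' rs'' : List S) (h : List.Forall₂ (fun z w => ∃ u : S, IsUnit u ∧ w = u * z) rs' rs'')
    (hreg : IsWeaklyRegular N rs') : IsWeaklyRegular N rs'' := by
  have hlen := h.length_eq
  refine ⟨fun i hi => ?_⟩
  have hi' : i < rs'.length := hlen ▸ hi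
  obtain ⟨u, hu, heq⟩ := (List.forall₂_iff_get.mp h).2 i hi' hi
  rw [List.get_eq_getElem, List.get_eq_getElem] at heq
  rw [ofList_eq_of_forall₂ _ _ (List.forall₂_take i h), heq]
  exact (hu.isSMulRegular _).mul (hreg.regular_mod_prev i hi')

end UnitMul

section Lift

variable {A : Type u} [CommRing A] (I : Ideal A) (p : Ideal A) [hp : p.IsPrime]

theorem exists_lift_list (rs' : List (Localization.AtPrime p))
    (h : ∀ z ∈ rs', z ∈ I.map (algebraMap A (Localization.AtPrime p))) :
    ∃ rs : List A, (∀ r ∈ rs, r ∈ I) ∧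
      List.Forall₂ (fun z w => ∃ u : Localization.AtPrime p, IsUnit u ∧ w = u * z) rs'
        (rs.map (algebraMap A (Localization.AtPrime p))) := by
  induction rs' with
  | nil => exact ⟨[], by simp, by simp⟩
  | cons z l ih =>
    obtain ⟨rs, hrs, hF⟩ := ih (fun z' hz' => h z' (List.mem_cons_of_mem _ hz'))
    obtain ⟨⟨a, s⟩, has⟩ := (IsLocalization.mem_map_algebraMap_iff p.primeCompl
      (Localization.AtPrime p)).mp (h z List.mem_cons_self)
    refine ⟨a.1 :: rs, ?_, ?_⟩
    · intro r hr
      rcases List.mem_cons.mp hr with rfl | hr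
      · exact a.2
      · exact hrs r hr
    · rw [List.map_cons]
      refine List.Forall₂.cons ⟨algebraMap A (Localization.AtPrime p) s,
        IsLocalization.map_units _ s, ?_⟩ hF
      rw [← has, mul_comm]

end Lift

/-- Let A be a Noetherian ring, I an ideal, M a finite A-module and p a prime containing I such that the
IA_p-depth of M_p is a finite number e. Then there is an open subset U of Spec A meeting V(p) such
that the IA_q-depth of M_q is at least e for every q in U ∩ V(p). -/
theorem result (A : Type u) [CommRing A] [IsNoetherianRing A] (I : Ideal A) (M : Type u) [AddCommGroup M] [Module A M] [Module.Finite A M] (p : PrimeSpectrum A) (hp : I ≤ p.asIdeal) (e : ℕ) (he : LocCoh.idealDepth (I.map (algebraMap A (Localization.AtPrime p.asIdeal))) (LocalizedModule p.asIdeal.primeCompl M) = e) : ∃ U : Set (PrimeSpectrum A), IsOpen U ∧ (U ∩ PrimeSpectrum.zeroLocus (p.asIdeal : Set A)).Nonempty ∧ ∀ q : PrimeSpectrum A, q ∈ U → p ≤ q → (e : ℕ∞) ≤ LocCoh.idealDepth (I.map (algebraMap A (Localization.AtPrime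 q.asIdeal))) (LocalizedModule q.asIdeal.primeCompl M) := by
  have hpp : p.asIdeal.IsPrime := p.2
  have hne : I.map (algebraMap A (Localization.AtPrime p.asIdeal)) •
      (⊤ : Submodule (Localization.AtPrime p.asIdeal) (LocalizedModule p.asIdeal.primeCompl M)) ≠ ⊤ := by
    intro htop
    rw [idealDepth_eq_top_of_smul_top_eq_top _ _ htop] at he
    exact ENat.top_ne_natCast e he
  obtain ⟨rs', hlen, hmem, hreg⟩ := (natCast_le_idealDepth_iff hne e).mp he.ge
  obtain ⟨rs, hrsI, hF⟩ := exists_lift_list I p.asIdeal rs' hmem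
  have hreg2 := isWeaklyRegular_of_unit_mul (LocalizedModule p.asIdeal.primeCompl M) rs' _ hF
    hreg.toIsWeaklyRegular
  rw [isWeaklyRegular_map_algebraMap_iff] at hreg2
  obtain ⟨f, hfp, hf⟩ := spread M p.asIdeal rs hreg2
  refine ⟨{q | f ∉ q.asIdeal}, ?_, ⟨p, hfp, ?_⟩, ?_⟩
  · exact (PrimeSpectrum.basicOpen f).2
  · rw [PrimeSpectrum.mem_zeroLocus]
  · intro q hq hpq
    have hqp : q.asIdeal.IsPrime := q.2
    have h1 := hf q.asIdeal hq
    have h2 : (rs.length : ℕ∞) ≤ LocCoh.idealDepth I (LocalizedModule q.asIdeal.primeCompl M) :=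
      length_le_idealDepth h1 hrsI
    have h3 : rs.length = e := by
      rw [← hlen, hF.length_eq, List.length_map]
    rw [h3] at h2
    exact h2.trans (idealDepth_le_idealDepth_map_restrictScalars I)

end Groth.Agent.S1742
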