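import Groth.Statements.S17426
-- import your own Groth.Agent.* helpers here
import Mathlib
import Groth.Agent.Lib.Helper26GGLim
import Groth.Agent.Lib.Helper26GGCounit
import Groth.Agent.Lib.Helper23PB3
import Groth.Agent.Lib.Helper23RestrTensor
import Groth.Agent.Lib.Helper20ZClos20

set_option autoImplicit false
universe u
open CategoryTheory AlgebraicGeometry
open Lim

namespace Groth.Agent.S17426

open Groth.Agent.Lib.Helper26.GGLim Groth.Agent.Lib.Helper26.GGCounit Groth.Agent.Lib.Helper22.LimBC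
  Groth.Agent.Lib.Helper23.PB Groth.Agent.Lib.Helper23.SecTw Limits TopologicalSpace

set_option linter.style.haveILetI false

/-- the stage claim over one affine open of `Y₀`. -/
theorem stage_claim {I : Type u} [SmallCategory I] [IsCofiltered I]
    (D : I ⥤ Scheme.{u}) (c : Limits.Cone D) (hc : Limits.IsLimit c)
    [∀ (i j : I) (u : i ⟶ j), IsAffineHom (D.map u)] (i₀ : I) [CompactSpace (D.obj i₀)] [QuasiSeparatedSpace (D.obj i₀)]
    {X₀ Y₀ : Scheme.{u}} (f₀ : X₀ ⟶ Y₀) (g₀ : Y₀ ⟶ D.obj i₀)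
    [QuasiCompact f₀] [QuasiSeparatedSpace X₀]
    (L₀ : X₀.Modules) (hL₀ : PicF.IsInvertible L₀)
    {X Y : Scheme.{u}} (f : X ⟶ Y) (g : Y ⟶ c.pt) (qY : Y ⟶ Y₀) (qX : X ⟶ X₀)
    (hY : IsPullback qY g g₀ (c.π.app i₀)) (hX : IsPullback qX f f₀ qY)
    (hgen : Epi ((Scheme.Modules.pullbackPushforwardAdjunction f).counit.app ((Scheme.Modules.pullback qX).obj L₀)))
    (V₀ : Y₀.Opens) (hV₀ : IsAffineOpen V₀) :
    ∃ j : Over i₀, IsFinGG ((Scheme.Modules.pullback (dFst D i₀ ((f₀ ⁻¹ᵁ V₀).ι ≫ f₀ ≫ g₀) j)).obj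
      (L₀.restrict (f₀ ⁻¹ᵁ V₀).ι)) := by
  haveI hD : ∀ {i j : I} (φ : i ⟶ j), IsAffineHom (D.map φ) := fun φ => inferInstance
  haveI : IsAffineHom (c.π.app i₀) := isAffineHom_π_app D c hc i₀
  haveI : IsAffineHom qY := MorphismProperty.of_isPullback (P := @IsAffineHom) hY.flip inferInstance
  haveI : IsAffineHom qX := MorphismProperty.of_isPullback (P := @IsAffineHom) hX.flip inferInstance
  haveI : QuasiCompact f := MorphismProperty.of_isPullback (P := @QuasiCompact) hX inferInstance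
  haveI : QuasiSeparatedSpace X := quasiSeparatedSpace_of_quasiSeparated qX
  have hL : PicF.IsInvertible ((Scheme.Modules.pullback qX).obj L₀) := isInvertible_pullback qX L₀ hL₀
  have hqc : IsCompact (f₀ ⁻¹ᵁ V₀).carrier := QuasiCompact.isCompact_preimage (f := f₀) _ V₀.2 hV₀.isCompact
  haveI : CompactSpace (↑(f₀ ⁻¹ᵁ V₀) : Scheme.{u}) := isCompact_iff_compactSpace.1 hqc
  haveI : QuasiSeparatedSpace (↑(f₀ ⁻¹ᵁ V₀) : Scheme.{u}) := quasiSeparatedSpace_of_quasiSeparated (f₀ ⁻¹ᵁ V₀).ι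
  have hM₀ : PicF.IsInvertible (L₀.restrict (f₀ ⁻¹ᵁ V₀).ι) := isInvertible_restrict L₀ hL₀ _
  haveI : (L₀.restrict (f₀ ⁻¹ᵁ V₀).ι).IsQuasicoherent := isQuasicoherent_of_isInvertible _ hM₀
  have hM₀ft := Groth.Agent.Lib.Helper20.ZClosLib.isFiniteType_of_isInvertible _ hM₀
  -- the pullback square
  have hXY : IsPullback qX (f ≫ g) (f₀ ≫ g₀) (c.π.app i₀) := hX.paste_vert hY
  have hU : IsPullback (qX ∣_ (f₀ ⁻¹ᵁ V₀)) ((qX ⁻¹ᵁ (f₀ ⁻¹ᵁ V₀)).ι ≫ f ≫ g) ((f₀ ⁻¹ᵁ V₀).ι ≫ f₀ ≫ g₀) (c.π.app i₀) :=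
    (isPullback_morphismRestrict qX (f₀ ⁻¹ᵁ V₀)).paste_vert hXY
  -- finite global generation at the limit
  have hUeq : qX ⁻¹ᵁ (f₀ ⁻¹ᵁ V₀) = f ⁻¹ᵁ (qY ⁻¹ᵁ V₀) := by
    rw [← Scheme.Hom.comp_preimage, ← Scheme.Hom.comp_preimage, hX.w]
  have h1 : IsFinGG (((Scheme.Modules.pullback qX).obj L₀).restrict (qX ⁻¹ᵁ (f₀ ⁻¹ᵁ V₀)).ι) :=
    isFinGG_restrict_of_epi_counit f _ hL hgen (qY ⁻¹ᵁ V₀) (hV₀.preimage qY) _ hUeq
  have h2 : IsFinGG ((Scheme.Modules.pullback (qX ∣_ (f₀ ⁻¹ᵁ V₀))).obj (L₀.restrict (f₀ ⁻¹ᵁ V₀).ι)) :=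
    h1.of_iso (pullbackRestrictIso qX L₀ (f₀ ⁻¹ᵁ V₀))
  exact exists_stage_isFinGG D c hc i₀ ((f₀ ⁻¹ᵁ V₀).ι ≫ f₀ ≫ g₀) _ hM₀ft hU h2

/-- Let S = lim S_i be a cofiltered limit of schemes with affine transition morphisms, with S_{i₀} a
quasi-compact quasi-separated stage; let X₀ and Y₀ be schemes of finite presentation over S_{i₀}, f₀
: X₀ → Y₀ an S_{i₀}-morphism and L₀ an invertible O_{X₀}-module. Let f : X → Y be the base change of
f₀ along S → S_{i₀} and L the pullback of L₀ to X (base changes are expressed by pullback squares).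
Call an invertible module generated relative to a morphism when the counit of the
pullback–pushforward adjunction, f^*f_*L → L, is an epimorphism. If L is generated relative to f,
then there is an index j over i₀ such that for every index k over j and every base change f_k : X_k
→ Y_k of f₀ along S_k → S_{i₀}, the pullback L_k of L₀ to X_k is generated relative to f_k. (Stated
for X₀, Y₀ of finite presentation over the quasi-compact quasi-separated stage, the setting in which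
all the schemes involved are quasi-compact and quasi-separated; the semi-ample variant of the
source, some positive tensor power generated, is not restated.) -/
theorem result {I : Type u} [SmallCategory I] [IsCofiltered I]
    (D : I ⥤ Scheme.{u}) (c : Limits.Cone D) (hc : Limits.IsLimit c)
    [∀ (i j : I) (u : i ⟶ j), IsAffineHom (D.map u)] (i₀ : I) [CompactSpace (D.obj i₀)] [QuasiSeparatedSpace (D.obj i₀)]
    {X₀ Y₀ : Scheme.{u}} (f₀ : X₀ ⟶ Y₀) (g₀ : Y₀ ⟶ D.obj i₀)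
    [LocallyOfFinitePresentation g₀] [QuasiCompact g₀] [QuasiSeparated g₀]
    [LocallyOfFinitePresentation (f₀ ≫ g₀)] [QuasiCompact (f₀ ≫ g₀)] [QuasiSeparated (f₀ ≫ g₀)]
    (L₀ : X₀.Modules) (hL₀ : PicF.IsInvertible L₀)
    {X Y : Scheme.{u}} (f : X ⟶ Y) (g : Y ⟶ c.pt) (qY : Y ⟶ Y₀) (qX : X ⟶ X₀)
    (hY : IsPullback qY g g₀ (c.π.app i₀)) (hX : IsPullback qX f f₀ qY)
    (hgen : Epi ((Scheme.Modules.pullbackPushforwardAdjunction f).counit.app ((Scheme.Modules.pullback qX).obj L₀))) :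
    ∃ (j : I) (φ : j ⟶ i₀), ∀ (k : I) (ψ : k ⟶ j) (Xk Yk : Scheme.{u}) (fk : Xk ⟶ Yk) (gk : Yk ⟶ D.obj k)
      (pY : Yk ⟶ Y₀) (pX : Xk ⟶ X₀), IsPullback pY gk g₀ (D.map (ψ ≫ φ)) → IsPullback pX fk f₀ pY →
        Epi ((Scheme.Modules.pullbackPushforwardAdjunction fk).counit.app ((Scheme.Modules.pullback pX).obj L₀)) := by
  classical
  haveI : QuasiCompact f₀ := QuasiCompact.of_comp f₀ g₀
  haveI : CompactSpace Y₀ := QuasiCompact.compactSpace_of_compactSpace g₀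
  haveI : QuasiSeparatedSpace X₀ := quasiSeparatedSpace_of_quasiSeparated (f₀ ≫ g₀)
  -- a finite affine cover of `Y₀`
  have hcov : ∀ y : Y₀, ∃ V₀ : Y₀.Opens, IsAffineOpen V₀ ∧ y ∈ V₀ := fun y => by
    obtain ⟨V, hV, hyV, -⟩ := exists_isAffineOpen_mem_and_subset (x := y) (U := ⊤) trivial
    exact ⟨V, hV, hyV⟩
  choose V₀ hV₀ hyV₀ using hcov
  obtain ⟨t, ht⟩ := CompactSpace.elim_nhds_subcover (fun y => (V₀ y : Set Y₀))
    (fun y => (V₀ y).2.mem_nhds (hyV₀ y))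
  -- the stages
  have hst := fun y : Y₀ => stage_claim D c hc i₀ f₀ g₀ L₀ hL₀ f g qY qX hY hX hgen (V₀ y) (hV₀ y)
  choose js hjs using hst
  obtain ⟨j, hj⟩ := IsCofiltered.inf_objs_exists (t.image js)
  refine ⟨j.left, j.hom, ?_⟩
  intro k ψ Xk Yk fk gk pY pX hYk hXk
  apply Groth.Agent.Lib.Helper23.CounitEpi.epi_counit_of_isGloballyGenerated
  intro x
  have h1 : pY (fk x) ∈ ⋃ y ∈ t, (V₀ y : Set Y₀) := by rw [ht]; trivial
  obtain ⟨y, hyt, hxy⟩ := Set.mem_iUnion₂.1 h1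
  refine ⟨pY ⁻¹ᵁ V₀ y, hxy, ?_⟩
  obtain ⟨a⟩ := hj (Finset.mem_image_of_mem js hyt)
  -- the open `W` and its map to `U₀`
  obtain ⟨W, hW⟩ : ∃ W : Xk.Opens, W = fk ⁻¹ᵁ (pY ⁻¹ᵁ V₀ y) := ⟨_, rfl⟩
  rw [← hW]
  have hWle : W ≤ pX ⁻¹ᵁ (f₀ ⁻¹ᵁ V₀ y) := by
    rw [hW, ← Scheme.Hom.comp_preimage, ← Scheme.Hom.comp_preimage, hXk.w]
  have hrange : Set.range (W.ι ≫ pX) ⊆ Set.range (f₀ ⁻¹ᵁ V₀ y).ι := by
    rintro _ ⟨z, rfl⟩
    rw [Scheme.Opens.range_ι]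
    exact hWle z.2
  let jW : (↑W : Scheme.{u}) ⟶ (↑(f₀ ⁻¹ᵁ V₀ y) : Scheme.{u}) :=
    IsOpenImmersion.lift (f₀ ⁻¹ᵁ V₀ y).ι (W.ι ≫ pX) hrange
  have hjW : jW ≫ (f₀ ⁻¹ᵁ V₀ y).ι = W.ι ≫ pX := IsOpenImmersion.lift_fac _ _ _
  refine Groth.Agent.Lib.Helper23.RestrTensor.isGloballyGenerated_of_iso
    (pullbackRestrictIso' pX L₀ W.ι (f₀ ⁻¹ᵁ V₀ y).ι jW hjW).symm ?_
  apply IsFinGG.isGloballyGenerated
  -- the map to the stage `js y`
  have hcond : jW ≫ ((f₀ ⁻¹ᵁ V₀ y).ι ≫ f₀ ≫ g₀) =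
      (W.ι ≫ fk ≫ gk ≫ D.map (ψ ≫ a.left)) ≫ D.map (js y).hom := by
    rw [reassoc_of% hjW, reassoc_of% hXk.w, hYk.w]
    simp only [Category.assoc, ← D.map_comp]
    rw [Over.w a]
  exact IsFinGG.pullback_of_comp (dLift (js y) jW (W.ι ≫ fk ≫ gk ≫ D.map (ψ ≫ a.left)) hcond)
    (dFst D i₀ ((f₀ ⁻¹ᵁ V₀ y).ι ≫ f₀ ≫ g₀) (js y)) jW (dLift_fst _ _ _ _) (hjs y)

end Groth.Agent.S17426
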