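import Groth.Statements.S1744
import Groth.Agent.Lib.Helper8BridgeT4
import Groth.Agent.Lib.Helper8LC

set_option autoImplicit false
universe u
open CategoryTheory
attribute [local instance] HasDerivedCategory.standard
open LocCoh

namespace Groth.Agent.S1744

open Groth.Agent.Lib.Helper8.ExtLES Groth.Agent.Lib.Helper8.Bridge Groth.Agent.Lib.Helper8.LC
open CategoryTheory.Abelian

section Aux

variable {A : Type u} [CommRing A]

/-- Step 1 in the world of the old `Ext` functor: a universal class dies under a transition. -/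
theorem step_E (I : Ideal A) (e : ℕ) (he : LocCoh.CdLE A I e) (n : ℕ) :
    ∃ (m : ℕ) (hm : n ≤ m), ∀ (N : ModuleCat.{u} A) (ξ : E (e + 1) (Xk I n) N),
      (Epre (e + 1) (tr I hm) N).hom ξ = 0 := by
  let P := ProjectiveResolution.of (Xk I n)
  let Ω : ModuleCat.{u} A := Limits.cokernel (P.complex.d (e + 1 + 1) (e + 1))
  let π : P.complex.X (e + 1) ⟶ Ω := Limits.cokernel.π _
  have hπ : P.complex.d (e + 1 + 1) (e + 1) ≫ π = 0 := Limits.cokernel.condition _
  let w : E (e + 1) (Xk I n) Ω := mkE P Ω (e + 1) π hπ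
  have hw : cls I (e + 1) Ω n w = 0 := by
    have hs : Subsingleton ((localCohomology I (e + 1)).obj Ω) := he Ω (e + 1) (Nat.lt_succ_self e)
    exact Subsingleton.elim _ _
  obtain ⟨m, hm, h0⟩ := (cls_eq_zero_iff I (e + 1) Ω w).mp hw
  refine ⟨m, hm, fun N ξ => ?_⟩
  obtain ⟨f, hf, rfl⟩ := mkE_surjective P N (e + 1) ξ
  have hfac : π ≫ Limits.cokernel.desc _ f hf = f := Limits.cokernel.π_desc _ _ _
  have h1 : mkE P N (e + 1) f hf =
      (Emap (e + 1) (Xk I n) (Limits.cokernel.desc _ f hf)).hom w := by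
    rw [Emap_mkE]
    congr 1
    exact hfac.symm
  rw [h1]
  have h2 := Epre_Emap (e + 1) (tr I hm) (Limits.cokernel.desc _ f hf) w
  refine h2.trans ?_
  have h3 : (Epre (e + 1) (tr I hm) Ω) w = 0 := h0
  rw [h3, map_zero]

theorem step_Ext_base (I : Ideal A) (e n m : ℕ) (hm : n ≤ m)
    (h : ∀ (N : ModuleCat.{u} A) (ξ : E (e + 1) (Xk I n) N),
      (Epre (e + 1) (tr I hm) N).hom ξ = 0)
    (N : ModuleCat.{u} A) (x : Ext.{u} (Xk I n) N (e + 1)) :
    (Ext.mk₀ (tr I hm)).comp x (zero_add (e + 1)) = 0 := by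
  have h1 := Ψ_Epre (e + 1) (tr I hm) N ((Ψ (e + 1) _ N).symm x)
  rw [LinearEquiv.apply_symm_apply, h, map_zero] at h1
  exact h1.symm

theorem step_Ext_succ {X X' : ModuleCat.{u} A} (t : X' ⟶ X) (i : ℕ)
    (h : ∀ (N : ModuleCat.{u} A) (x : Ext.{u} X N i), (Ext.mk₀ t).comp x (zero_add i) = 0)
    (N : ModuleCat.{u} A) (x : Ext.{u} X N (i + 1)) :
    (Ext.mk₀ t).comp x (zero_add (i + 1)) = 0 := by
  let ι : N ⟶ Injective.under N := Injective.ι N
  let S : ShortComplex (ModuleCat.{u} A) :=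
    ShortComplex.mk ι (Limits.cokernel.π ι) (Limits.cokernel.condition ι)
  have hS : S.ShortExact :=
    { exact := ShortComplex.exact_cokernel ι
      mono_f := (inferInstance : Mono ι)
      epi_g := (inferInstance : Epi (Limits.cokernel.π ι)) }
  have h0 : x.comp (Ext.mk₀ S.f) (add_zero (i + 1)) = 0 :=
    Ext.eq_zero_of_injective (I := Injective.under N) _
  obtain ⟨x₃, hx₃⟩ := Ext.covariant_sequence_exact₁ X hS x h0 rfl
  rw [← hx₃, ← Ext.comp_assoc (Ext.mk₀ t) x₃ hS.extClass (zero_add i) rfl (by omega), h,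
    Ext.zero_comp]

theorem step_Ext_all {X X' : ModuleCat.{u} A} (t : X' ⟶ X) (i₀ : ℕ)
    (h : ∀ (N : ModuleCat.{u} A) (x : Ext.{u} X N i₀), (Ext.mk₀ t).comp x (zero_add i₀) = 0)
    (i : ℕ) (hi : i₀ ≤ i) (N : ModuleCat.{u} A) (x : Ext.{u} X N i) :
    (Ext.mk₀ t).comp x (zero_add i) = 0 := by
  induction i, hi using Nat.le_induction generalizing N with
  | base => exact h N x
  | succ k _ ih => exact step_Ext_succ t k (fun N' x' => ih N' x') N x

theorem hom_comp_eq_zero {X X' N : ModuleCat.{u} A} (t : X' ⟶ X) (i : ℕ)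
    (h : ∀ x : Ext.{u} X N i, (Ext.mk₀ t).comp x (zero_add i) = 0)
    (φ : (DerivedCategory.singleFunctor (ModuleCat.{u} A) 0).obj X ⟶
      ((DerivedCategory.singleFunctor (ModuleCat.{u} A) 0).obj N)⟦(i : ℤ)⟧) :
    (DerivedCategory.singleFunctor (ModuleCat.{u} A) 0).map t ≫ φ = 0 := by
  obtain ⟨x, rfl⟩ := (Ext.homEquiv (X := X) (Y := N) (n := i)).surjective φ
  have h1 := congrArg Ext.hom (h x)
  rw [Ext.comp_hom, Ext.mk₀_hom, ShiftedHom.mk₀_comp, Ext.zero_hom] at h1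
  exact h1

theorem tr_comp (I : Ideal A) {k l m : ℕ} (h1 : k ≤ l) (h2 : l ≤ m) :
    tr I h2 ≫ tr I h1 = tr I (h1.trans h2) := by
  apply ModuleCat.hom_ext
  apply LinearMap.ext
  intro x
  obtain ⟨x, rfl⟩ := Submodule.Quotient.mk_surjective _ x
  rfl

end Aux

/-- Let I be an ideal of a Noetherian ring A and e a natural number with cd(A, I) ≤ e. For every n ≥ 1
there is m > n such that for every A-module N and every i > e, precomposing with A/I^m → A/I^n kills
every map A/I^n → N[i] in D(A), i.e. the transition maps annihilate Ext^i_A(A/I^n, N) for i > e. -/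
theorem result (A : Type u) [CommRing A] [IsNoetherianRing A] (I : Ideal A) (e : ℕ) (he : LocCoh.CdLE A I e) (n : ℕ) (hn : 1 ≤ n) : ∃ (m : ℕ) (hm : n < m), ∀ (N : Type u) [AddCommGroup N] [Module A N] (i : ℕ), e < i → ∀ φ : Dual.inD A (A ⧸ I ^ n) ⟶ (Dual.inD A N)⟦(i : ℤ)⟧, (DerivedCategory.singleFunctor (ModuleCat.{u} A) 0).map (ModuleCat.ofHom (Submodule.mapQ (I ^ m) (I ^ n) LinearMap.id (Ideal.pow_le_pow_right (Nat.le_of_lt hm)))) ≫ φ = 0 := by
  obtain ⟨m₀, hm₀, h₀⟩ := step_E I e he n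
  have hle : m₀ ≤ max m₀ (n + 1) := le_max_left _ _
  have hn' : n ≤ max m₀ (n + 1) := hm₀.trans hle
  refine ⟨max m₀ (n + 1), lt_of_lt_of_le (Nat.lt_succ_self n) (le_max_right _ _),
    fun N _ _ i hi φ => ?_⟩
  have hbase : ∀ (N' : ModuleCat.{u} A) (x : Ext.{u} (Xk I n) N' (e + 1)),
      (Ext.mk₀ (tr I hn')).comp x (zero_add (e + 1)) = 0 := by
    intro N' x
    rw [← tr_comp I hm₀ hle, ← Ext.mk₀_comp_mk₀_assoc, step_Ext_base I e n m₀ hm₀ h₀ N' x,
      Ext.comp_zero]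
  exact hom_comp_eq_zero (tr I hn') i
    (fun x => step_Ext_all (tr I hn') (e + 1) hbase i hi (ModuleCat.of A N) x) φ

end Groth.Agent.S1744
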