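import Groth.Statements.S17441
-- import your own Groth.Agent.* helpers here
import Mathlib
import Groth.Agent.S8890

set_option autoImplicit false
universe u
open CategoryTheory AlgebraicGeometry
open DefoSh

namespace Groth.Agent.S17441

set_option linter.style.haveILetI false

open Submodule TensorProduct

/-- Nakayama for a nilpotent ideal: `N ≤ I • N` forces `N = ⊥`. -/
theorem eq_bot_of_le_smul_of_isNilpotent {A D : Type*} [CommRing A] [AddCommGroup D] [Module A D]
    (I : Ideal A) (hI : IsNilpotent I) (N : Submodule A D) (h : N ≤ I • N) : N = ⊥ := by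
  obtain ⟨n, hn⟩ := hI
  have key : ∀ j : ℕ, N ≤ I ^ j • N := by
    intro j
    induction j with
    | zero => rw [pow_zero, Ideal.one_eq_top, Submodule.top_smul]
    | succ j ih =>
      calc N ≤ I ^ j • N := ih
        _ ≤ I ^ j • (I • N) := Submodule.smul_mono le_rfl h
        _ = I ^ (j + 1) • N := by rw [← Submodule.mul_smul, pow_succ]
  have := key n
  rw [hn, Submodule.zero_eq_bot, Submodule.bot_smul] at this
  exact le_bot_iff.1 this

theorem bijective_of_flat_of_reduction {A : Type*} [CommRing A] (I : Ideal A) (hI : IsNilpotent I)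
    {D D' E : Type*} [AddCommGroup D] [AddCommGroup D'] [AddCommGroup E] [Module A D] [Module A D']
    [Module.Flat A D'] (φ : D →ₗ[A] D') (π : D →+ E) (π' : D' →+ E)
    (hπ : ∀ v, π' (φ v) = π v) (hsurj : Function.Surjective π)
    (hker : ∀ v, π v = 0 → v ∈ I • (⊤ : Submodule A D))
    (hker' : ∀ v, π' v = 0 → v ∈ I • (⊤ : Submodule A D')) :
    Function.Bijective φ := by
  -- surjectivity
  have hs : Function.Surjective φ := by
    rw [← LinearMap.range_eq_top]
    set R := LinearMap.range φ with hR
    have h1 : (⊤ : Submodule A (D' ⧸ R)) ≤ I • (⊤ : Submodule A (D' ⧸ R)) := by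
      rintro q -
      obtain ⟨w, rfl⟩ := R.mkQ_surjective q
      obtain ⟨v, hv⟩ := hsurj (π' w)
      have h2 : π' (w - φ v) = 0 := by rw [map_sub, hπ, hv, sub_self]
      have h3 := hker' _ h2
      have h4 : R.mkQ w = R.mkQ (w - φ v) := by
        rw [map_sub]
        have : R.mkQ (φ v) = 0 := by
          rw [Submodule.mkQ_apply, Submodule.Quotient.mk_eq_zero]; exact ⟨v, rfl⟩
        rw [this, sub_zero]
      rw [h4]
      have h5 := Submodule.mem_map_of_mem (f := R.mkQ) h3
      rw [Submodule.map_smul'', Submodule.map_top, Submodule.range_mkQ] at h5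
      exact h5
    have h6 := eq_bot_of_le_smul_of_isNilpotent I hI _ h1
    have : Subsingleton (D' ⧸ R) := by
      rw [← Submodule.subsingleton_iff A]  
      exact subsingleton_of_bot_eq_top h6.symm
    exact (Submodule.Quotient.subsingleton_iff).1 this
  refine ⟨?_, hs⟩
  -- injectivity
  rw [← LinearMap.ker_eq_bot]
  set K := LinearMap.ker φ with hK
  have hinj := LinearMap.lTensor_injective_of_exact_of_flat φ hs K.subtype K.subtype_injective
    (by
      intro x
      constructor
      · intro hx; exact ⟨⟨x, hx⟩, rfl⟩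
      · rintro ⟨y, rfl⟩; exact y.2) (A ⧸ I)
  have h1 : (⊤ : Submodule A K) ≤ I • (⊤ : Submodule A K) := by
    rintro x -
    have hx1 : π x.1 = 0 := by rw [← hπ, (LinearMap.mem_ker.1 x.2), map_zero]
    have hx2 := hker _ hx1
    have h3 : ((1 : A ⧸ I) ⊗ₜ[A] (x.1 : D)) = 0 := by
      have : ∀ y ∈ I • (⊤ : Submodule A D), ((1 : A ⧸ I) ⊗ₜ[A] y) = 0 := by
        intro y hy
        refine Submodule.smul_induction_on hy ?_ ?_
        · intro a ha d _
          rw [← TensorProduct.smul_tmul, Algebra.smul_def, mul_one]
          have : algebraMap A (A ⧸ I) a = 0 := by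
            rw [Ideal.Quotient.algebraMap_eq]; exact Ideal.Quotient.eq_zero_iff_mem.2 ha
          rw [this, TensorProduct.zero_tmul]
        · intro y z hy hz
          rw [TensorProduct.tmul_add, hy, hz, add_zero]
      exact this _ hx2
    have h4 : ((1 : A ⧸ I) ⊗ₜ[A] x) = 0 := by
      apply hinj
      rw [LinearMap.lTensor_tmul, map_zero]
      exact h3
    have h5 := congrArg (TensorProduct.quotTensorEquivQuotSMul K I) h4
    rw [map_zero] at h5
    have h6 : TensorProduct.quotTensorEquivQuotSMul K I ((1 : A ⧸ I) ⊗ₜ[A] x) =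
        Submodule.Quotient.mk x := by
      change TensorProduct.quotTensorEquivQuotSMul K I ((Ideal.Quotient.mk I 1) ⊗ₜ[A] x) = _
      rw [TensorProduct.quotTensorEquivQuotSMul_mk_tmul, one_smul]
    rw [h6, Submodule.Quotient.mk_eq_zero] at h5
    exact h5
  have h6 := eq_bot_of_le_smul_of_isNilpotent I hI _ h1
  have : Subsingleton K := by
    rw [← Submodule.subsingleton_iff A]
    exact subsingleton_of_bot_eq_top h6.symm
  exact (Submodule.subsingleton_iff_eq_bot).1 this

/-- Let k be a field, X a scheme over k, E an O_X-module and A a local Artinian k-algebra with residue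
field k. If D and D′ are deformations of E over A (O_X-modules with an action of A, flat over A
stalkwise, with reductions π, π′ to E whose stalkwise kernels are m_A times the stalk), then every
O_X-linear map φ : D.sheaf → D′.sheaf that commutes with the actions of A and satisfies φ ≫ π′ = π
is an isomorphism. The printed remark is the first-order case A = k[ε]; this row states it for every
local Artinian k-algebra A with residue field k. -/
theorem result (k : Type u) [Field k] (X : Scheme.{u})
    [X.Over (Spec (CommRingCat.of k))] (E : X.Modules) (A : ArtFun.Art k k)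
    (D D' : DefoSh.Defo E A) (φ : D.sheaf ⟶ D'.sheaf)
    (hact : ∀ a : A, D.act a ≫ φ = φ ≫ D'.act a) (hπ : φ ≫ D'.π = D.π) :
    IsIso φ := by
  apply Groth.Agent.S8890.isIso_of_stalk_bijective
  intro p
  letI := D.stalkMod p
  letI := D'.stalkMod p
  haveI : Module.Flat A ↑(D'.sheaf.presheaf.stalk p) := D'.flat p
  have hnil : IsNilpotent (IsLocalRing.maximalIdeal A) := by
    have h1 := IsArtinianRing.isNilpotent_jacobson_bot (R := A)
    rwa [IsLocalRing.jacobson_eq_maximalIdeal (⊥ : Ideal A) bot_ne_top] at h1
  let φp : ↑(D.sheaf.presheaf.stalk p) →ₗ[A] ↑(D'.sheaf.presheaf.stalk p) :=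
    { toFun := RefHull.stalkMapₗ φ p
      map_add' := map_add _
      map_smul' := fun a v => by
        change RefHull.stalkMapₗ φ p (RefHull.stalkMapₗ (D.act a) p v) =
          RefHull.stalkMapₗ (D'.act a) p (RefHull.stalkMapₗ φ p v)
        rw [← DefoSh.stalkMapₗ_comp_apply, ← DefoSh.stalkMapₗ_comp_apply, hact] }
  have hb := bijective_of_flat_of_reduction (IsLocalRing.maximalIdeal A) hnil φp
    (RefHull.stalkMapₗ D.π p).toAddMonoidHom (RefHull.stalkMapₗ D'.π p).toAddMonoidHom
    (fun v => by
      change RefHull.stalkMapₗ D'.π p (RefHull.stalkMapₗ φ p v) = RefHull.stalkMapₗ D.π p v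
      rw [← DefoSh.stalkMapₗ_comp_apply, hπ])
    (D.surj p) (D.ker_le p) (D'.ker_le p)
  exact hb

end Groth.Agent.S17441
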