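import Groth.Statements.S17446
-- import your own Groth.Agent.* helpers here
import Mathlib

set_option autoImplicit false
universe u v
open SSRed

namespace Groth.Agent.S17446

section Helpers

variable {K : Type u} {V : Type v} [Field K] [AddCommGroup V] [Module K V]

/-- `g - 1` as an endomorphism -/
abbrev E (g : V ≃ₗ[K] V) : Module.End K V := ((g : V ≃ₗ[K] V) : Module.End K V) - 1

theorem E_apply (g : V ≃ₗ[K] V) (w : V) : E g w = g w - w := rfl

variable (H₁ H₂ : Subgroup (V ≃ₗ[K] V))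

/-- the descending filtration `I_{H₁}^k V` -/
def W : ℕ → Submodule K V
  | 0 => ⊤
  | (k + 1) => ⨆ h : H₁, (W k).map (E (h : V ≃ₗ[K] V))

theorem W_succ (k : ℕ) : W H₁ (k + 1) = ⨆ h : H₁, (W H₁ k).map (E (h : V ≃ₗ[K] V)) := rfl

theorem W_succ_le (k : ℕ) : W H₁ (k + 1) ≤ W H₁ k := by
  induction k with
  | zero => exact le_top
  | succ k ih =>
    rw [W_succ H₁ (k + 1), W_succ H₁ k]
    exact iSup_mono fun h => Submodule.map_mono ih

theorem E_mem_succ {h : V ≃ₗ[K] V} (hh : h ∈ H₁) (k : ℕ) {w : V} (hw : w ∈ W H₁ k) :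
    E h w ∈ W H₁ (k + 1) := by
  rw [W_succ]
  exact Submodule.mem_iSup_of_mem ⟨h, hh⟩ (Submodule.mem_map_of_mem hw)

variable {H₁ H₂}

theorem H₂_stable (hnorm : ∀ g ∈ H₂, ∀ h ∈ H₁, g * h * g⁻¹ ∈ H₁) {g : V ≃ₗ[K] V} (hg : g ∈ H₂)
    (k : ℕ) {w : V} (hw : w ∈ W H₁ k) : g w ∈ W H₁ k := by
  induction k generalizing w with
  | zero => exact Submodule.mem_top
  | succ k ih =>
    rw [W_succ] at hw
    induction hw using Submodule.iSup_induction' with
    | mem h x hx =>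
      obtain ⟨y, hy, rfl⟩ := hx
      have : g (E (h : V ≃ₗ[K] V) y) = E (g * (h : V ≃ₗ[K] V) * g⁻¹) (g y) := by
        simp only [E_apply, map_sub, LinearEquiv.mul_apply]
        congr 2
        change (h : V ≃ₗ[K] V) y = (h : V ≃ₗ[K] V) (g⁻¹ (g y))
        congr 1
        change y = (g⁻¹ * g) y
        simp
      rw [this]
      exact E_mem_succ H₁ (hnorm g hg h h.2) k (ih hy)
    | zero => rw [map_zero]; exact Submodule.zero_mem _
    | add x y _ _ hx hy => rw [map_add]; exact Submodule.add_mem _ hx hy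

/-- `g = h * g₂` with `h ∈ H₁`, `g₂ ∈ H₂` -/
def Rel (H₁ H₂ : Subgroup (V ≃ₗ[K] V)) (g g₂ : V ≃ₗ[K] V) : Prop := g₂ ∈ H₂ ∧ g * g₂⁻¹ ∈ H₁

theorem rel_diff (hnorm : ∀ g ∈ H₂, ∀ h ∈ H₁, g * h * g⁻¹ ∈ H₁) {g g₂ : V ≃ₗ[K] V}
    (hr : Rel H₁ H₂ g g₂) (k : ℕ) {w : V} (hw : w ∈ W H₁ k) :
    E g w - E g₂ w ∈ W H₁ (k + 1) := by
  have h1 : E g w - E g₂ w = E (g * g₂⁻¹) (g₂ w) := by
    simp only [E_apply, LinearEquiv.mul_apply]
    have : g₂⁻¹ (g₂ w) = w := by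
      change (g₂⁻¹ * g₂) w = w
      simp
    rw [this]; abel
  rw [h1]
  exact E_mem_succ H₁ hr.2 k (H₂_stable hnorm hr.1 k hw)

theorem rel_snd_stable (hnorm : ∀ g ∈ H₂, ∀ h ∈ H₁, g * h * g⁻¹ ∈ H₁) {g g₂ : V ≃ₗ[K] V}
    (hr : Rel H₁ H₂ g g₂) (k : ℕ) {w : V} (hw : w ∈ W H₁ k) : E g₂ w ∈ W H₁ k := by
  rw [E_apply]
  exact Submodule.sub_mem _ (H₂_stable hnorm hr.1 k hw) hw

theorem rel_fst_stable (hnorm : ∀ g ∈ H₂, ∀ h ∈ H₁, g * h * g⁻¹ ∈ H₁) {g g₂ : V ≃ₗ[K] V}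
    (hr : Rel H₁ H₂ g g₂) (k : ℕ) {w : V} (hw : w ∈ W H₁ k) : E g w ∈ W H₁ k := by
  have : E g w = (E g w - E g₂ w) + E g₂ w := by abel
  rw [this]
  exact Submodule.add_mem _ (W_succ_le H₁ k (rel_diff hnorm hr k hw))
    (rel_snd_stable hnorm hr k hw)

/-- products over a list of related pairs -/
theorem list_pairs (hnorm : ∀ g ∈ H₂, ∀ h ∈ H₁, g * h * g⁻¹ ∈ H₁)
    (l : List ((V ≃ₗ[K] V) × (V ≃ₗ[K] V))) (hl : ∀ x ∈ l, Rel H₁ H₂ x.1 x.2)
    (k : ℕ) {w : V} (hw : w ∈ W H₁ k) :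
    (l.map fun x => E x.1).prod w ∈ W H₁ k ∧ (l.map fun x => E x.2).prod w ∈ W H₁ k ∧
      (l.map fun x => E x.1).prod w - (l.map fun x => E x.2).prod w ∈ W H₁ (k + 1) := by
  induction l with
  | nil => simpa using hw
  | cons x l ih =>
    have hx : Rel H₁ H₂ x.1 x.2 := hl x (List.mem_cons_self)
    obtain ⟨ha, hb, hab⟩ := ih (fun y hy => hl y (List.mem_cons_of_mem _ hy))
    simp only [List.map_cons, List.prod_cons, Module.End.mul_apply]
    refine ⟨rel_fst_stable hnorm hx k ha, rel_snd_stable hnorm hx k hb, ?_⟩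
    set a := (l.map fun x => E x.1).prod w
    set b := (l.map fun x => E x.2).prod w
    have : E x.1 a - E x.2 b = E x.1 (a - b) + (E x.1 b - E x.2 b) := by
      rw [map_sub]; abel
    rw [this]
    exact Submodule.add_mem _ (rel_fst_stable hnorm hx (k + 1) hab) (rel_diff hnorm hx k hb)

theorem list_shift (hnorm : ∀ g ∈ H₂, ∀ h ∈ H₁, g * h * g⁻¹ ∈ H₁) (n₂ : ℕ)
    (h₂ : ∀ l₂ : List (V ≃ₗ[K] V), (∀ x ∈ l₂, x ∈ H₂) → l₂.length = n₂ →
      (l₂.map fun x => E x).prod = 0)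
    (l : List ((V ≃ₗ[K] V) × (V ≃ₗ[K] V))) (hl : ∀ x ∈ l, Rel H₁ H₂ x.1 x.2)
    (hlen : l.length = n₂) (k : ℕ) {w : V} (hw : w ∈ W H₁ k) :
    (l.map fun x => E x.1).prod w ∈ W H₁ (k + 1) := by
  have h0 : (l.map fun x => E x.2).prod = 0 := by
    have := h₂ (l.map Prod.snd) (by
      intro x hx
      obtain ⟨y, hy, rfl⟩ := List.mem_map.mp hx
      exact (hl y hy).1) (by simpa using hlen)
    simpa [List.map_map, Function.comp_def] using this
  have := (list_pairs hnorm l hl k hw).2.2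
  rwa [h0, LinearMap.zero_apply, sub_zero] at this

theorem list_mul (hnorm : ∀ g ∈ H₂, ∀ h ∈ H₁, g * h * g⁻¹ ∈ H₁) (n₂ : ℕ)
    (h₂ : ∀ l₂ : List (V ≃ₗ[K] V), (∀ x ∈ l₂, x ∈ H₂) → l₂.length = n₂ →
      (l₂.map fun x => E x).prod = 0) (k : ℕ) :
    ∀ (l : List ((V ≃ₗ[K] V) × (V ≃ₗ[K] V))), (∀ x ∈ l, Rel H₁ H₂ x.1 x.2) →
      l.length = k * n₂ → ∀ w : V, (l.map fun x => E x.1).prod w ∈ W H₁ k := by
  induction k with
  | zero => intro l _ _ w; exact Submodule.mem_top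
  | succ k ih =>
    intro l hl hlen w
    have hsplit : l = l.take n₂ ++ l.drop n₂ := (List.take_append_drop n₂ l).symm
    rw [hsplit, List.map_append, List.prod_append, Module.End.mul_apply]
    apply list_shift hnorm n₂ h₂ (l.take n₂) (fun x hx => hl x (List.mem_of_mem_take hx))
    · rw [List.length_take, hlen]
      have : n₂ ≤ (k + 1) * n₂ := Nat.le_mul_of_pos_left _ (Nat.succ_pos k)
      omega
    · apply ih (l.drop n₂) (fun x hx => hl x (List.mem_of_mem_drop hx))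
      rw [List.length_drop, hlen, Nat.add_mul, one_mul, Nat.add_sub_cancel]

theorem W_kill (k : ℕ) : ∀ (Q : Module.End K V),
    (∀ l : List (V ≃ₗ[K] V), (∀ x ∈ l, x ∈ H₁) → l.length = k → Q * (l.map fun x => E x).prod = 0) →
    ∀ w ∈ W H₁ k, Q w = 0 := by
  induction k with
  | zero =>
    intro Q hQ w _
    have := hQ [] (by simp) rfl
    simp only [List.map_nil, List.prod_nil, mul_one] at this
    rw [this, LinearMap.zero_apply]
  | succ k ih =>
    intro Q hQ w hw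
    rw [W_succ] at hw
    induction hw using Submodule.iSup_induction' with
    | mem h x hx =>
      obtain ⟨y, hy, rfl⟩ := hx
      have := ih (Q * E (h : V ≃ₗ[K] V)) (fun l hl hlen => by
        have := hQ ((h : V ≃ₗ[K] V) :: l) (by
          intro x hx
          rcases List.mem_cons.mp hx with rfl | hx
          · exact h.2
          · exact hl x hx) (by simp [hlen])
        simpa [mul_assoc] using this) y hy
      simpa using this
    | zero => exact map_zero _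
    | add x y _ _ hx hy => rw [map_add, hx, hy, add_zero]

theorem exists_rel (hnorm : ∀ g ∈ H₂, ∀ h ∈ H₁, g * h * g⁻¹ ∈ H₁) (g : V ≃ₗ[K] V)
    (hg : g ∈ H₁ ⊔ H₂) : ∃ g₂, Rel H₁ H₂ g g₂ := by
  rw [Subgroup.sup_eq_closure] at hg
  induction hg using Subgroup.closure_induction with
  | mem x hx =>
    rcases hx with hx | hx
    · exact ⟨1, H₂.one_mem, by simpa using hx⟩
    · exact ⟨x, hx, by simp [H₁.one_mem]⟩
  | one => exact ⟨1, H₂.one_mem, by simp [H₁.one_mem]⟩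
  | mul x y _ _ hx hy =>
    obtain ⟨x₂, hx2, hx1⟩ := hx
    obtain ⟨y₂, hy2, hy1⟩ := hy
    refine ⟨x₂ * y₂, H₂.mul_mem hx2 hy2, ?_⟩
    have : x * y * (x₂ * y₂)⁻¹ = (x * x₂⁻¹) * (x₂ * (y * y₂⁻¹) * x₂⁻¹) := by group
    rw [this]
    exact H₁.mul_mem hx1 (hnorm x₂ hx2 _ hy1)
  | inv x _ hx =>
    obtain ⟨x₂, hx2, hx1⟩ := hx
    refine ⟨x₂⁻¹, H₂.inv_mem hx2, ?_⟩
    have : x⁻¹ * x₂⁻¹⁻¹ = x₂⁻¹ * (x * x₂⁻¹)⁻¹ * x₂⁻¹⁻¹ := by group
    rw [this]
    exact hnorm x₂⁻¹ (H₂.inv_mem hx2) _ (H₁.inv_mem hx1)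

theorem list_form (H : Subgroup (V ≃ₗ[K] V)) (n : ℕ)
    (h : ∀ f : Fin n → ↥H,
      (List.ofFn fun i => (((f i : ↥H) : V ≃ₗ[K] V) : Module.End K V) - 1).prod = 0) :
    ∀ l : List (V ≃ₗ[K] V), (∀ x ∈ l, x ∈ H) → l.length = n → (l.map fun x => E x).prod = 0 := by
  intro l hl hlen
  subst hlen
  have := h (fun i => ⟨l.get i, hl _ (List.get_mem l i)⟩)
  have h2 : (List.ofFn fun i : Fin l.length => (((l.get i : V ≃ₗ[K] V)) : Module.End K V) - 1) =
      l.map fun x => E x := by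
    conv_rhs => rw [← List.ofFn_get l, List.map_ofFn]
    rfl
  rw [← h2]
  exact this

theorem aux [FiniteDimensional K V]
    (H₁ H₂ : Subgroup (V ≃ₗ[K] V)) (hnorm : ∀ g ∈ H₂, ∀ h ∈ H₁, g * h * g⁻¹ ∈ H₁)
    (h₁ : ∃ n : ℕ, ∀ f : Fin n → ↥H₁,
      (List.ofFn fun i => (((f i : ↥H₁) : V ≃ₗ[K] V) : Module.End K V) - 1).prod = 0)
    (h₂ : ∃ n : ℕ, ∀ f : Fin n → ↥H₂,
      (List.ofFn fun i => (((f i : ↥H₂) : V ≃ₗ[K] V) : Module.End K V) - 1).prod = 0) :
    ∃ n : ℕ, ∀ f : Fin n → ↥(H₁ ⊔ H₂),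
      (List.ofFn fun i => (((f i : ↥(H₁ ⊔ H₂)) : V ≃ₗ[K] V) : Module.End K V) - 1).prod = 0 := by
  obtain ⟨n₁, h₁⟩ := h₁
  obtain ⟨n₂, h₂⟩ := h₂
  have h₁' := list_form H₁ n₁ h₁
  have h₂' := list_form H₂ n₂ h₂
  refine ⟨n₁ * n₂, fun f => ?_⟩
  choose g₂ hg₂ using fun i => exists_rel hnorm (f i : V ≃ₗ[K] V) (f i).2
  let l : List ((V ≃ₗ[K] V) × (V ≃ₗ[K] V)) := List.ofFn fun i => ((f i : V ≃ₗ[K] V), g₂ i)
  have hl : ∀ x ∈ l, Rel H₁ H₂ x.1 x.2 := by
    intro x hx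
    obtain ⟨i, rfl⟩ := (List.mem_ofFn' _ _).mp hx
    exact hg₂ i
  have hlen : l.length = n₁ * n₂ := List.length_ofFn
  have hprod : (List.ofFn fun i => (((f i : ↥(H₁ ⊔ H₂)) : V ≃ₗ[K] V) : Module.End K V) - 1) =
      l.map fun x => E x.1 := by
    simp only [l, List.map_ofFn]
    rfl
  rw [hprod]
  ext w
  have hw := list_mul hnorm n₂ h₂' n₁ l hl hlen w
  have hkill := W_kill (H₁ := H₁) n₁ 1 (fun l' hl' hlen' => by rw [one_mul]; exact h₁' l' hl' hlen')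
    _ hw
  simpa using hkill

end Helpers

/-- Let K be a field, V a finite-dimensional K-vector space and H₁, H₂ subgroups of the group of
K-linear automorphisms of V such that H₂ normalizes H₁. Call the action of a subgroup H unipotent
when, for some n, every product (h₁ - 1)(h₂ - 1)⋯(hₙ - 1) with all hᵢ in H is the zero endomorphism
(equivalently, V has an H-stable flag on whose successive quotients H acts trivially). If H₁ and H₂
act unipotently, then the subgroup generated by H₁ and H₂ acts unipotently. (In the published result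
H₁ and H₂ are the absolute Galois groups of two finite Galois extensions of a strictly henselian
discretely valued field over which an abelian variety becomes semistable, acting on its rational
ℓ-adic Tate module, and the conclusion is semistability over the intersection of the two fields; the
printed argument uses only that H₂ normalizes H₁.) -/
theorem result (K : Type u) (V : Type v) [Field K]
    [AddCommGroup V] [Module K V] [FiniteDimensional K V]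
    (H₁ H₂ : Subgroup (V ≃ₗ[K] V)) (hnorm : ∀ g ∈ H₂, ∀ h ∈ H₁, g * h * g⁻¹ ∈ H₁)
    (h₁ : ∃ n : ℕ, ∀ f : Fin n → ↥H₁,
      (List.ofFn fun i => (((f i : ↥H₁) : V ≃ₗ[K] V) : Module.End K V) - 1).prod = 0)
    (h₂ : ∃ n : ℕ, ∀ f : Fin n → ↥H₂,
      (List.ofFn fun i => (((f i : ↥H₂) : V ≃ₗ[K] V) : Module.End K V) - 1).prod = 0) :
    ∃ n : ℕ, ∀ f : Fin n → ↥(H₁ ⊔ H₂),
      (List.ofFn fun i => (((f i : ↥(H₁ ⊔ H₂)) : V ≃ₗ[K] V) : Module.End K V) - 1).prod = 0 := by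
  exact aux H₁ H₂ hnorm h₁ h₂

end Groth.Agent.S17446
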