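import Groth.Statements.S17447
-- import your own Groth.Agent.* helpers here
import Groth.Agent.Lib.Helper26FinPartSch

set_option autoImplicit false
universe u
open CategoryTheory CategoryTheory.Limits AlgebraicGeometry
open Hensel

namespace Groth.Agent.S17447

theorem le_iff_eq_closedPoint (R : Type u) [CommRing R] [IsLocalRing R] (p : PrimeSpectrum R) :
    IsLocalRing.maximalIdeal R ≤ p.asIdeal ↔ p = IsLocalRing.closedPoint R := by
  constructor
  · intro h
    apply PrimeSpectrum.ext
    exact le_antisymm (IsLocalRing.le_maximalIdeal p.2.ne_top) h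
  · rintro rfl
    exact le_rfl

/-- Let R be a henselian local ring and X → Spec R a quasi-finite separated morphism (locally of finite
type, quasi-compact, with discrete fibres). Then X decomposes uniquely as the disjoint union of an
open and closed subscheme finite over Spec R and an open and closed subscheme with empty special
fibre: there is exactly one open subset W of X which is closed, finite over Spec R (as an open
subscheme) and contains every point lying over the closed point of Spec R. (No Noetherian hypothesis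
on R.) -/
theorem result (R : Type u) [CommRing R] [HenselianLocalRing R]
    {X : Scheme.{u}} (f : X ⟶ Spec (CommRingCat.of R))
    [LocallyQuasiFinite f] [LocallyOfFiniteType f] [QuasiCompact f] [IsSeparated f] :
    ∃! W : X.Opens, IsClosed (W : Set X) ∧ IsFinite (W.ι ≫ f) ∧
      ∀ x : X, f.base x = IsLocalRing.closedPoint R → x ∈ W := by
  set I := IsLocalRing.maximalIdeal R with hI
  have hS : {x : X | I ≤ (f x : PrimeSpectrum R).asIdeal} =
      f ⁻¹' {(IsLocalRing.closedPoint R : PrimeSpectrum R)} := by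
    ext x
    exact le_iff_eq_closedPoint R (f x)
  -- existence
  have hex : ∃ W : X.Opens, IsClosed (W : Set X) ∧ IsFinite (W.ι ≫ f) ∧
      ∀ x : X, I ≤ (f x : PrimeSpectrum R).asIdeal → x ∈ W := by
    obtain ⟨B, ρ, j', φ, hint, hopen, hj'ρ, -⟩ :=
      Groth.Agent.Lib.Helper26.FinPartSch.exists_openImmersion_integral f
    refine Groth.Agent.Lib.Helper26.FinPartSch.exists_clopen_finite_of_openImmersion I f B ρ j'
      hint hj'ρ ?_
    have hfin : {x : X | I ≤ (f x : PrimeSpectrum R).asIdeal}.Finite := by
      rw [hS]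
      exact f.finite_preimage_singleton _
    have hcl : ∀ x ∈ {x : X | I ≤ (f x : PrimeSpectrum R).asIdeal},
        IsClosed ({j' x} : Set (Spec B)) := by
      intro x hx
      have hfx : (f x : PrimeSpectrum R) = PrimeSpectrum.comap ρ.hom (j' x) := by
        rw [← hj'ρ]
        rfl
      have hmax : ((j' x : PrimeSpectrum B).asIdeal.comap ρ.hom).IsMaximal := by
        have h1 : (f x : PrimeSpectrum R) = IsLocalRing.closedPoint R :=
          (le_iff_eq_closedPoint R (f x)).mp hx
        have h2 : (j' x : PrimeSpectrum B).asIdeal.comap ρ.hom = IsLocalRing.maximalIdeal R := by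
          have := congrArg PrimeSpectrum.asIdeal (hfx.symm.trans h1)
          exact this
        rw [h2]
        infer_instance
      haveI : (j' x : PrimeSpectrum B).asIdeal.IsPrime := (j' x : PrimeSpectrum B).2
      have := Ideal.isMaximal_of_isIntegral_of_isMaximal_comap' ρ.hom hint
        (j' x : PrimeSpectrum B).asIdeal hmax
      exact (PrimeSpectrum.isClosed_singleton_iff_isMaximal _).mpr this
    have : j' '' {x : X | I ≤ (f x : PrimeSpectrum R).asIdeal} =
        ⋃ x ∈ {x : X | I ≤ (f x : PrimeSpectrum R).asIdeal}, ({j' x} : Set (Spec B)) := by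
      ext p
      simp only [Set.mem_image, Set.mem_iUnion, Set.mem_singleton_iff, exists_prop]
      constructor
      · rintro ⟨x, hx, rfl⟩
        exact ⟨x, hx, rfl⟩
      · rintro ⟨x, hx, rfl⟩
        exact ⟨x, hx, rfl⟩
    rw [this]
    exact hfin.isClosed_biUnion hcl
  obtain ⟨W, hWcl, hWfin, hW⟩ := hex
  have hconv : ∀ (W' : X.Opens), (∀ x : X, f.base x = IsLocalRing.closedPoint R → x ∈ W') →
      ∀ x : X, I ≤ (f x : PrimeSpectrum R).asIdeal → x ∈ W' :=
    fun W' h x hx => h x ((le_iff_eq_closedPoint R (f x)).mp hx)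
  -- uniqueness core
  have huniq : ∀ W₁ W₂ : X.Opens, IsClosed (W₁ : Set X) → IsFinite (W₁.ι ≫ f) →
      (∀ x : X, I ≤ (f x : PrimeSpectrum R).asIdeal → x ∈ W₂) → W₁ ≤ W₂ := by
    intro W₁ W₂ h1cl h1fin h2
    by_contra hle
    have hne : ((W₁ : Set X) \ (W₂ : Set X)).Nonempty := by
      rw [Set.nonempty_iff_ne_empty]
      intro h
      exact hle (Set.sdiff_eq_empty.mp h)
    have hZcl : IsClosed ((W₁ : Set X) \ (W₂ : Set X)) := h1cl.sdiff W₂.isOpen
    have himg : f '' ((W₁ : Set X) \ (W₂ : Set X)) =
        (W₁.ι ≫ f) '' (W₁.ι ⁻¹' ((W₁ : Set X) \ (W₂ : Set X))) := by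
      rw [Scheme.Hom.comp_base, TopCat.coe_comp, Set.image_comp, Set.image_preimage_eq_inter_range,
        Scheme.Opens.range_ι]
      congr 1
      ext x
      simp only [Set.mem_sdiff, SetLike.mem_coe, Set.mem_inter_iff]
      tauto
    have hfcl : IsClosed (f '' ((W₁ : Set X) \ (W₂ : Set X))) := by
      rw [himg]
      haveI := h1fin
      exact (W₁.ι ≫ f).isClosedMap _ (hZcl.preimage W₁.ι.continuous)
    have hjac : I ≤ Ideal.jacobson ⊥ := by
      rw [hI, IsLocalRing.jacobson_eq_maximalIdeal ⊥ bot_ne_top]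
    obtain ⟨y, ⟨x, hx, rfl⟩, hIy⟩ :=
      Groth.Agent.Lib.Helper26.FinPartSch.exists_mem_zeroLocus_of_isClosed I hjac hfcl
        (hne.image _)
    exact hx.2 (h2 x hIy)
  refine ⟨W, ⟨hWcl, hWfin, fun x hx => hW x ((le_iff_eq_closedPoint R (f x)).mpr hx)⟩, ?_⟩
  rintro W' ⟨hW'cl, hW'fin, hW'⟩
  exact le_antisymm (huniq W' W hW'cl hW'fin hW) (huniq W W' hWcl hWfin (hconv W' hW'))

end Groth.Agent.S17447
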