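import Groth.Statements.S17449
import Groth.Agent.Lib.Helper22LscC
import Groth.Agent.Lib.Helper6SepCl

set_option autoImplicit false
universe u
open CategoryTheory CategoryTheory.Limits AlgebraicGeometry
open Stein

namespace Groth.Agent.S17449

/-- Let S be a Noetherian scheme and f : X → S a proper, flat and surjective morphism. Suppose that for
every generic point η of an irreducible component of S the fibre of f at η is geometrically
connected and smooth over the residue field κ(η). Then every fibre of f is geometrically connected. -/
theorem result {X S : Scheme.{u}}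
    (f : X ⟶ S) [IsProper f] [Flat f] [Surjective f] [IsNoetherian S]
    (h : ∀ (Z : Set ↑S) (η : ↑S), Z ∈ irreducibleComponents ↑S → IsGenericPoint η Z →
      GeometricallyConnected (f.fiberToSpecResidueField η) ∧ Smooth (f.fiberToSpecResidueField η)) :
    GeometricallyConnected f := by
  rw [GeometricallyConnected.iff_geometricallyConnected_fiber]
  intro s
  haveI : LocallyOfFinitePresentation f :=
    LocallyOfFinitePresentation.iff_locallyOfFiniteType.mpr inferInstance
  have huo : ∀ x : X, f.base x = s → EGA43.IsUnivOpenAt f x := by
    intro x _ Y' k x' _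
    exact Groth.Agent.Lib.Helper22.LscA.isOpenAt_of_isOpenMap _ (pullback.snd f k).isOpenMap x'
  obtain ⟨V, hV, hle⟩ := Groth.Agent.Lib.Helper22.LscC.exists_nhds_le f s huo
  -- a generic point specializing to `s`
  obtain ⟨Z, hZ, hsZ⟩ := exists_mem_irreducibleComponents_subset_of_isIrreducible ({s} : Set ↑S)
    isIrreducible_singleton
  obtain ⟨η, hη⟩ := QuasiSober.sober hZ.1 (isClosed_of_mem_irreducibleComponents Z hZ)
  have hspec : η ⤳ s := hη.specializes (hsZ (Set.mem_singleton s))
  have hηV : η ∈ V := mem_of_mem_nhds (hspec hV)
  have h1 := hle η hηV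
  -- the generic fibre has one geometric component
  have hη1 : MoreMor.nGeomConnComp f η ≤ 1 := by
    haveI : ConnectedSpace ↥(MoreMor.geomFiber f η) :=
      (h Z η hZ hη).1.geometrically_connectedSpace _ _ _ (IsPullback.of_hasPullback _ _)
    show ENat.card (_root_.ConnectedComponents ↥(MoreMor.geomFiber f η)) ≤ 1
    rw [ENat.card_le_one_iff_subsingleton]
    infer_instance
  have hs1 : ENat.card (_root_.ConnectedComponents ↥(MoreMor.geomFiber f s)) ≤ 1 := h1.trans hη1
  haveI hsub : Subsingleton (_root_.ConnectedComponents ↥(MoreMor.geomFiber f s)) :=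
    (ENat.card_le_one_iff_subsingleton _).mp hs1
  -- the geometric fibre over `s` is nonempty
  obtain ⟨x, hx⟩ := f.surjective s
  have hxr : x ∈ Set.range (f.fiberι s) := by
    rw [Scheme.Hom.range_fiberι]
    exact hx
  obtain ⟨x₁, -⟩ := hxr
  haveI : Surjective (Spec.map (CommRingCat.ofHom (algebraMap (S.residueField s)
      (SeparableClosure (S.residueField s))))) := by
    rw [surjective_iff]
    intro y
    exact ⟨IsLocalRing.closedPoint _, Subsingleton.elim (α := PrimeSpectrum _) _ _⟩
  obtain ⟨x₂, -⟩ := (pullback.fst (f.fiberToSpecResidueField s)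
    (Spec.map (CommRingCat.ofHom (algebraMap (S.residueField s)
      (SeparableClosure (S.residueField s)))))).surjective x₁
  haveI hconn : ConnectedSpace ↥(MoreMor.geomFiber f s) := by
    rw [connectedSpace_iff_connectedComponent]
    refine ⟨x₂, ?_⟩
    rw [Set.eq_univ_iff_forall]
    intro y
    have : (_root_.ConnectedComponents.mk y : _root_.ConnectedComponents ↥(MoreMor.geomFiber f s)) =
      _root_.ConnectedComponents.mk x₂ := Subsingleton.elim _ _
    exact _root_.ConnectedComponents.coe_eq_coe'.mp this
  letI := f.fiberOverSpecResidueField s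
  haveI : ConnectedSpace ↥(Curv2.bc (S.residueField s) (f.fiber s)
      (SeparableClosure (S.residueField s))) := hconn
  exact Groth.Agent.Lib.Helper6.SepCl.geometricallyConnected_of_sepClosure (S.residueField s)
    (f.fiber s)

end Groth.Agent.S17449
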