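import Groth.Statements.S1745
import Groth.Agent.Lib.Helper14FlatInjC
import Groth.Agent.S0300
import Groth.Agent.S0306
import Groth.Agent.S0307

set_option autoImplicit false
universe u
open scoped TensorProduct
open InjHull

namespace Groth.Agent.S1745

/-- Let A → B be a flat homomorphism of Noetherian rings such that for every prime q of B with
contraction p, the ideal p B_q equals the maximal ideal q B_q of B_q (for instance an étale map).
Then for every injective A-module I the B-module B ⊗_A I is injective. -/
theorem result (A B : Type u) [CommRing A] [CommRing B] [Algebra A B] [IsNoetherianRing A] [IsNoetherianRing B] [Module.Flat A B] (h : ∀ q : PrimeSpectrum B, Ideal.map (algebraMap B (Localization.AtPrime q.asIdeal)) ((q.asIdeal.comap (algebraMap A B)).map (algebraMap A B)) = IsLocalRing.maximalIdeal (Localization.AtPrime q.asIdeal)) (I : Type u) [AddCommGroup I] [Module A I] [Module.Injective A I] : Module.Injective B (B ⊗[A] I) := by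
  classical
  obtain ⟨ι, E, hint, hE⟩ := Groth.Agent.S0307.result A I inferInstance
  have hEi : ∀ i, Module.Injective B (B ⊗[A] (E i)) := by
    intro i
    obtain ⟨p, hp, g, hg⟩ := Groth.Agent.S0306.result A (E i) (hE i).1 (hE i).2
    haveI := hp
    exact Groth.Agent.Lib.Helper14.FlatInj.injective_tensor_hull p g hg
      (fun q _ => h ⟨q, inferInstance⟩)
  have hsum : Module.Injective B (DirectSum ι (fun i => B ⊗[A] (E i))) :=
    Groth.Agent.S0300.result B _ hEi
  let e0 : (DirectSum ι (fun i => E i)) ≃ₗ[A] I :=
    LinearEquiv.ofBijective (DirectSum.coeLinearMap E) hint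
  let e1 : B ⊗[A] (DirectSum ι fun i => E i) ≃ₗ[B] B ⊗[A] I :=
    TensorProduct.AlgebraTensorModule.congr (LinearEquiv.refl B B) e0
  let e2 : B ⊗[A] (DirectSum ι fun i => E i) ≃ₗ[B] DirectSum ι (fun i => B ⊗[A] (E i)) :=
    TensorProduct.directSumRight A B B (fun i => E i)
  exact ((Module.Baer.of_injective hsum).of_equiv (e2.symm ≪≫ₗ e1)).injective

end Groth.Agent.S1745
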