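import Groth.Statements.S17462
import Groth.Agent.Lib.Helper26Hensel

set_option autoImplicit false
universe u
open CategoryTheory CategoryTheory.Limits AlgebraicGeometry
open Hensel

namespace Groth.Agent.S17462

/-- Let R be a henselian local ring and let X and Y be quasi-finite separated schemes over Spec R
(locally of finite type, quasi-compact, with discrete fibres, separated), with finite parts W_X ⊆ X
and W_Y ⊆ Y (open and closed subsets, finite over Spec R as open subschemes, containing every point
over the closed point). If W ⊆ X ×_R Y is the finite part of the fibre product (same three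
conditions, for the structure morphism of X ×_R Y), then W = W_X ×_R W_Y: a point of X ×_R Y lies in
W if and only if its first projection lies in W_X and its second projection lies in W_Y. -/
theorem result (R : Type u) [CommRing R] [HenselianLocalRing R]
    {X Y : Scheme.{u}} (f : X ⟶ Spec (CommRingCat.of R)) (f' : Y ⟶ Spec (CommRingCat.of R))
    [LocallyQuasiFinite f] [LocallyOfFiniteType f] [QuasiCompact f] [IsSeparated f]
    [LocallyQuasiFinite f'] [LocallyOfFiniteType f'] [QuasiCompact f'] [IsSeparated f']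
    (WX : X.Opens) (hWX : (IsClosed (WX : Set ↥X) ∧ IsFinite (WX.ι ≫ f) ∧ ∀ x : ↥X, f.base x = IsLocalRing.closedPoint R → x ∈ WX))
    (WY : Y.Opens) (hWY : (IsClosed (WY : Set ↥Y) ∧ IsFinite (WY.ι ≫ f') ∧ ∀ x : ↥Y, f'.base x = IsLocalRing.closedPoint R → x ∈ WY))
    (W : (pullback f f').Opens)
    (hW : (IsClosed (W : Set ↥(pullback f f')) ∧ IsFinite (W.ι ≫ (pullback.fst f f' ≫ f)) ∧ ∀ x : ↥(pullback f f'), (pullback.fst f f' ≫ f).base x = IsLocalRing.closedPoint R → x ∈ W))
    (z : ↥(pullback f f')) :
    z ∈ W ↔ ((pullback.fst f f').base z ∈ WX ∧ (pullback.snd f f').base z ∈ WY) := by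
  constructor
  · intro hz
    exact ⟨Groth.Agent.Lib.Helper26.finite_part_functorial R (pullback.fst f f' ≫ f) f W hW.1 hW.2.1 WX hWX.2.2
        (pullback.fst f f') rfl z hz,
      Groth.Agent.Lib.Helper26.finite_part_functorial R (pullback.fst f f' ≫ f) f' W hW.1 hW.2.1 WY hWY.2.2
        (pullback.snd f f') pullback.condition.symm z hz⟩
  · rintro ⟨hz1, hz2⟩
    by_contra hcon
    have := hWX.2.1
    have := hWY.2.1
    let q : pullback (WX.ι ≫ f) (WY.ι ≫ f') ⟶ pullback f f' :=
      pullback.map (WX.ι ≫ f) (WY.ι ≫ f') f f' WX.ι WY.ι (𝟙 _) (by simp) (by simp)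
    have hq : q ≫ (pullback.fst f f' ≫ f) = pullback.fst (WX.ι ≫ f) (WY.ι ≫ f') ≫ (WX.ι ≫ f) := by
      simp only [q]
      rw [pullback.lift_fst_assoc, Category.assoc]
    have hfin : IsFinite (q ≫ (pullback.fst f f' ≫ f)) := by
      rw [hq]; infer_instance
    have hrange : Set.range q.base = (pullback.fst f f').base ⁻¹' Set.range WX.ι.base ∩
        (pullback.snd f f').base ⁻¹' Set.range WY.ι.base :=
      Scheme.Pullback.range_map _ _ _ _ _ _ _ _ _
    have hT : IsClosed (((pullback.fst f f').base ⁻¹' (WX : Set X) ∩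
        (pullback.snd f f').base ⁻¹' (WY : Set Y)) ∩ (W : Set ↥(pullback f f'))ᶜ) :=
      ((hWX.1.preimage (pullback.fst f f').continuous).inter
        (hWY.1.preimage (pullback.snd f f').continuous)).inter W.isOpen.isClosed_compl
    obtain ⟨x', hx'T, hx'⟩ := Groth.Agent.Lib.Helper26.exists_mem_closedPoint' R (pullback.fst f f' ≫ f) q hfin _ hT
      (by
        rw [hrange]
        intro y hy
        refine ⟨?_, ?_⟩
        · simpa using hy.1.1
        · simpa using hy.1.2)
      ⟨z, ⟨hz1, hz2⟩, hcon⟩
    exact hx'T.2 (hW.2.2 x' hx')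

end Groth.Agent.S17462
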