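import Groth.Statements.S17466
import Mathlib

set_option autoImplicit false
universe u v
open BigOperators
open NRGIT

namespace Groth.Agent.S17466

section V

variable {R : Type u} {A : Type v} [CommRing R] [CommRing A] [Algebra R A]
  (𝒜 : ℕ → Submodule R A) [GradedAlgebra 𝒜] (s : ℕ)

/-- `𝒜 0 * (𝒜 s)^m` -/
def V (m : ℕ) : Submodule R A := 𝒜 0 * (𝒜 s) ^ m

lemma pow_le_graded (m : ℕ) : (𝒜 s) ^ m ≤ 𝒜 (m • s) := by
  induction m with
  | zero =>
    rw [pow_zero, zero_smul, Submodule.one_le]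
    exact SetLike.one_mem_graded 𝒜
  | succ m ih =>
    rw [pow_succ, Submodule.mul_le]
    intro x hx y hy
    rw [succ_nsmul]
    exact SetLike.mul_mem_graded (ih hx) hy

lemma V_le_graded (m : ℕ) : V 𝒜 s m ≤ 𝒜 (m • s) := by
  unfold V
  rw [Submodule.mul_le]
  intro x hx y hy
  have := SetLike.mul_mem_graded hx (pow_le_graded 𝒜 s m hy)
  rwa [zero_add] at this

lemma zero_mul_zero_le : 𝒜 0 * 𝒜 0 ≤ 𝒜 0 := by
  rw [Submodule.mul_le]
  intro x hx y hy
  have := SetLike.mul_mem_graded hx hy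
  rwa [zero_add] at this

lemma V_mul_le (m m' : ℕ) : V 𝒜 s m * V 𝒜 s m' ≤ V 𝒜 s (m + m') := by
  unfold V
  rw [mul_mul_mul_comm, ← pow_add]
  exact mul_le_mul' (zero_mul_zero_le 𝒜) le_rfl

lemma mul_mem_V {m m' : ℕ} {x y : A} (hx : x ∈ V 𝒜 s m) (hy : y ∈ V 𝒜 s m') :
    x * y ∈ V 𝒜 s (m + m') :=
  V_mul_le 𝒜 s m m' (Submodule.mul_mem_mul hx hy)

lemma pow_le_V (m : ℕ) : (𝒜 s) ^ m ≤ V 𝒜 s m := by
  intro x hx
  have := Submodule.mul_mem_mul (SetLike.one_mem_graded 𝒜) hx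
  rwa [one_mul] at this

lemma mem_V_one {x : A} (hx : x ∈ 𝒜 s) : x ∈ V 𝒜 s 1 := by
  apply pow_le_V
  rwa [pow_one]

lemma mem_V_zero {x : A} (hx : x ∈ 𝒜 0) : x ∈ V 𝒜 s 0 := by
  unfold V
  rw [pow_zero, mul_one]
  exact hx

lemma pow_mem_V {u : A} (hu : u ∈ 𝒜 s) (q : ℕ) : u ^ q ∈ V 𝒜 s q :=
  pow_le_V 𝒜 s q (Submodule.pow_mem_pow _ hu q)

lemma V_succ (m : ℕ) : V 𝒜 s (m + 1) = V 𝒜 s m * 𝒜 s := by
  unfold V
  rw [pow_succ, mul_assoc]

end V

section claims

open HomogeneousLocalization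

variable {R : Type u} {A : Type v} [CommRing R] [CommRing A] [Algebra R A]
  (𝒜 : ℕ → Submodule R A) [GradedAlgebra 𝒜] (s : ℕ)

/-- the target subalgebra -/
def Adj (f0 : A) : Subalgebra (𝒜 0) (HomogeneousLocalization.Away 𝒜 f0) :=
  Algebra.adjoin (𝒜 0)
      {z : HomogeneousLocalization.Away 𝒜 f0 |
        ∃ f ∈ 𝒜 s, z.val = Localization.mk f ⟨f0, Submonoid.mem_powers _⟩}

lemma claim2 (f0 : A) (hf0 : f0 ∈ 𝒜 s) (m : ℕ) : ∀ (b : A) (hbV : b ∈ V 𝒜 s m),
    Away.mk 𝒜 hf0 m b (V_le_graded 𝒜 s m hbV) ∈ Adj 𝒜 s f0 := by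
  induction m with
  | zero =>
    intro b hbV
    have hb0 : b ∈ 𝒜 0 := by
      have := V_le_graded 𝒜 s 0 hbV
      rwa [zero_smul] at this
    have : Away.mk 𝒜 hf0 0 b (V_le_graded 𝒜 s 0 hbV) =
        algebraMap (𝒜 0) (HomogeneousLocalization.Away 𝒜 f0) ⟨b, hb0⟩ := by
      apply HomogeneousLocalization.val_injective
      rw [Away.val_mk]
      change _ = Localization.mk b 1
      congr 1
      exact Subtype.ext (pow_zero _)
    rw [this]
    exact Subalgebra.algebraMap_mem _ _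
  | succ m ih =>
    intro b hbV
    have hbV' : b ∈ V 𝒜 s m * 𝒜 s := by rwa [← V_succ]
    refine Submodule.mul_induction_on' (C := fun r hr =>
      Away.mk 𝒜 hf0 (m + 1) r (V_le_graded 𝒜 s (m + 1) (by rwa [V_succ])) ∈ Adj 𝒜 s f0)
      ?_ ?_ hbV'
    · intro v hv f hf
      have e : Away.mk 𝒜 hf0 (m + 1) (v * f) (V_le_graded 𝒜 s (m + 1)
          (by rw [V_succ]; exact Submodule.mul_mem_mul hv hf)) =
          Away.mk 𝒜 hf0 m v (V_le_graded 𝒜 s m hv) *
            Away.mk 𝒜 hf0 1 f (by rwa [one_smul]) := by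
        apply HomogeneousLocalization.val_injective
        rw [HomogeneousLocalization.val_mul, Away.val_mk, Away.val_mk, Away.val_mk,
          Localization.mk_mul]
        congr 1
        apply Subtype.ext
        change f0 ^ (m + 1) = f0 ^ m * f0 ^ 1
        rw [pow_one, pow_succ]
      rw [e]
      refine Subalgebra.mul_mem _ (ih v hv) (Algebra.subset_adjoin ⟨f, hf, ?_⟩)
      rw [Away.val_mk]
      congr 1
      exact Subtype.ext (pow_one _)
    · intro x hx y hy hx' hy'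
      have e : Away.mk 𝒜 hf0 (m + 1) (x + y) (V_le_graded 𝒜 s (m + 1)
          (by rw [V_succ]; exact add_mem hx hy)) =
          Away.mk 𝒜 hf0 (m + 1) x (V_le_graded 𝒜 s (m + 1) (by rwa [V_succ])) +
            Away.mk 𝒜 hf0 (m + 1) y (V_le_graded 𝒜 s (m + 1) (by rwa [V_succ])) := by
        apply HomogeneousLocalization.val_injective
        rw [HomogeneousLocalization.val_add, Away.val_mk, Away.val_mk, Away.val_mk,
          Localization.add_mk_self]
      rw [e]
      exact Subalgebra.add_mem _ hx' hy'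

/-- denominators -/
def den (g : A) (k : ℕ) : Submonoid.powers g := ⟨g ^ k, ⟨k, rfl⟩⟩

lemma mk_scale (g : A) (b : A) (k j : ℕ) :
    Localization.mk b (den g k) = Localization.mk (b * g ^ j) (den g (k + j)) := by
  rw [Localization.mk_eq_mk_iff]
  apply Localization.r_of_eq
  simp only [den]
  ring

lemma den_mul (g : A) (k j : ℕ) : den g k * den g j = den g (k + j) := by
  apply Subtype.ext
  simp only [den, Submonoid.coe_mul, pow_add]

lemma claim1 (g : A) (hg : g ∈ 𝒜 1)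
    (hgen : Algebra.adjoin (𝒜 0)
      {z : HomogeneousLocalization.Away 𝒜 g |
        ∃ f ∈ 𝒜 s, z.val = Localization.mk f ⟨g ^ s, Submonoid.pow_mem _ (Submonoid.mem_powers g) s⟩} = ⊤)
    (z : HomogeneousLocalization.Away 𝒜 g) :
    ∃ (N : ℕ) (b : A), b ∈ V 𝒜 s N ∧ z.val = Localization.mk b (den g (s * N)) := by
  have hgs : g ^ s ∈ 𝒜 s := by
    have := SetLike.pow_mem_graded s hg
    rwa [smul_eq_mul, mul_one] at this
  have hz : z ∈ Algebra.adjoin (𝒜 0)
      {z : HomogeneousLocalization.Away 𝒜 g |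
        ∃ f ∈ 𝒜 s, z.val = Localization.mk f ⟨g ^ s, Submonoid.pow_mem _ (Submonoid.mem_powers g) s⟩} := by
    rw [hgen]; trivial
  induction hz using Algebra.adjoin_induction with
  | mem z hz =>
    obtain ⟨f, hf, hzf⟩ := hz
    refine ⟨1, f, mem_V_one 𝒜 s hf, ?_⟩
    rw [hzf]
    congr 1
    exact Subtype.ext (by simp [den])
  | algebraMap c =>
    refine ⟨0, c, mem_V_zero 𝒜 s c.2, ?_⟩
    change Localization.mk (c : A) 1 = _
    congr 1
    exact Subtype.ext (by simp [den])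
  | add z1 z2 _ _ h1 h2 =>
    obtain ⟨N1, b1, hb1, e1⟩ := h1
    obtain ⟨N2, b2, hb2, e2⟩ := h2
    refine ⟨N1 + N2, b1 * (g ^ s) ^ N2 + b2 * (g ^ s) ^ N1, ?_, ?_⟩
    · refine add_mem (mul_mem_V 𝒜 s hb1 (pow_mem_V 𝒜 s hgs N2)) ?_
      rw [add_comm N1 N2]
      exact mul_mem_V 𝒜 s hb2 (pow_mem_V 𝒜 s hgs N1)
    · rw [HomogeneousLocalization.val_add, e1, e2, mk_scale g b1 (s * N1) (s * N2),
        mk_scale g b2 (s * N2) (s * N1), add_comm (s * N2) (s * N1), Localization.add_mk_self,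
        ← mul_add, pow_mul, pow_mul]
  | mul z1 z2 _ _ h1 h2 =>
    obtain ⟨N1, b1, hb1, e1⟩ := h1
    obtain ⟨N2, b2, hb2, e2⟩ := h2
    refine ⟨N1 + N2, b1 * b2, mul_mem_V 𝒜 s hb1 hb2, ?_⟩
    rw [HomogeneousLocalization.val_mul, e1, e2, Localization.mk_mul, den_mul, mul_add]

lemma pow_mem_V' {x : A} {q : ℕ} (hx : x ∈ V 𝒜 s q) (L : ℕ) : x ^ L ∈ V 𝒜 s (q * L) := by
  induction L with
  | zero =>
    rw [pow_zero, mul_zero]
    exact mem_V_zero 𝒜 s (SetLike.one_mem_graded 𝒜)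
  | succ L ih =>
    rw [pow_succ, mul_add, mul_one]
    exact mul_mem_V 𝒜 s ih hx

lemma prod_pow_mem_V {n : ℕ} (u : Fin n → A) (hu : ∀ j, u j ∈ 𝒜 s) (K : Fin n → ℕ)
    (T : Finset (Fin n)) : ∏ j ∈ T, u j ^ K j ∈ V 𝒜 s (∑ j ∈ T, K j) := by
  classical
  induction T using Finset.induction_on with
  | empty =>
    rw [Finset.prod_empty, Finset.sum_empty]
    exact mem_V_zero 𝒜 s (SetLike.one_mem_graded 𝒜)
  | insert j T hj ih =>
    rw [Finset.prod_insert hj, Finset.sum_insert hj]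
    exact mul_mem_V 𝒜 s (pow_mem_V 𝒜 s (hu j) (K j)) ih

end claims


/-- Let A be a commutative algebra graded by the natural numbers, let σ_1, …, σ_n be homogeneous
elements of degree 1 and let s ≥ 1 be an integer such that, for every i, the degree-zero homogeneous
localisation of A away from σ_i is generated over A_0 by the fractions f / σ_i ^ s with f
homogeneous of degree s. Then for every exponent vector K = (k_1, …, k_n) with k_1 + ⋯ + k_n = s,
the degree-zero homogeneous localisation of A away from the monomial σ^K = ∏ σ_i ^ (k_i) is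
generated over A_0 by the fractions f / σ^K with f homogeneous of degree s. (Equivalently: the
natural map from the degree-zero localisation of the symmetric algebra on A_s, taken away from σ^K
viewed as an element of degree one, to the degree-zero localisation of A away from σ^K is
surjective. The published lemma concerns the algebra of invariant sections of the powers of a
linearised line bundle on an irreducible projective scheme over a field, with the σ_i a basis of a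
weight space of sections, and concludes a closed immersion of a quotient into an open piece of a
projective space; this row keeps only the graded-algebra step, for any commutative graded algebra,
with the base field replaced by A_0, which generates nothing new since a / 1 = a σ^s / σ^s for a of
degree zero.) -/
theorem result
    {R : Type u} {A : Type v} [CommRing R] [CommRing A] [Algebra R A]
    (𝒜 : ℕ → Submodule R A) [GradedAlgebra 𝒜]
    {n : ℕ} (σ : Fin n → A) (hσ : ∀ i, σ i ∈ 𝒜 1) {s : ℕ} (hs : 0 < s)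
    (hgen : ∀ i, Algebra.adjoin (𝒜 0)
      {z : HomogeneousLocalization.Away 𝒜 (σ i) |
        ∃ f ∈ 𝒜 s, z.val = Localization.mk f ⟨σ i ^ s, Submonoid.pow_mem _ (Submonoid.mem_powers (σ i)) s⟩} = ⊤)
    (K : Fin n → ℕ) (hK : ∑ i, K i = s) :
    Algebra.adjoin (𝒜 0)
      {z : HomogeneousLocalization.Away 𝒜 (∏ i, σ i ^ K i) |
        ∃ f ∈ 𝒜 s, z.val = Localization.mk f ⟨∏ i, σ i ^ K i, Submonoid.mem_powers _⟩} = ⊤ := by
  classical
  have hf0 : (∏ i, σ i ^ K i) ∈ 𝒜 s := by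
    have := SetLike.prod_pow_mem_graded (A := 𝒜) (F := Finset.univ) (g := σ) (i := fun _ => 1) K
      (fun k _ => hσ k)
    simpa [hK] using this
  change Adj 𝒜 s (∏ i, σ i ^ K i) = ⊤
  rw [eq_top_iff]
  intro z _
  obtain ⟨m, a, ha, rfl⟩ := HomogeneousLocalization.Away.mk_surjective 𝒜 hf0 z
  -- an index with positive exponent
  obtain ⟨i₀, hi₀⟩ : ∃ i₀, 0 < K i₀ := by
    by_contra h
    push Not at h
    have : ∑ i, K i = 0 := Finset.sum_eq_zero fun i _ => Nat.le_zero.mp (h i)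
    omega
  have hus : ∀ j, σ j ^ s ∈ 𝒜 s := fun j => by
    have := SetLike.pow_mem_graded s (hσ j)
    rwa [smul_eq_mul, mul_one] at this
  -- the element in the localization away from σ i₀
  have ha' : a ∈ 𝒜 ((m * s) • 1) := by
    rwa [smul_eq_mul, mul_one, ← smul_eq_mul]
  obtain ⟨N, b, hbV, hb⟩ := claim1 𝒜 s (σ i₀) (hσ i₀) (hgen i₀)
    (HomogeneousLocalization.Away.mk 𝒜 (hσ i₀) (m * s) a ha')
  rw [HomogeneousLocalization.Away.val_mk] at hb
  change Localization.mk a (den (σ i₀) (m * s)) = _ at hb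
  rw [Localization.mk_eq_mk_iff, Localization.r_iff_exists] at hb
  obtain ⟨⟨_, t, rfl⟩, ht⟩ := hb
  simp only [den] at ht
  -- (u)^(t+N) a = u^(t+m) b
  have hrel : (σ i₀ ^ s) ^ (t + N) * a = (σ i₀ ^ s) ^ (t + m) * b := by
    have h1 := congrArg (fun x => σ i₀ ^ ((s - 1) * t) * x) ht
    have e1 : (σ i₀ ^ s) ^ (t + N) * a =
        σ i₀ ^ ((s - 1) * t) * (σ i₀ ^ t * (σ i₀ ^ (s * N) * a)) := by
      rw [← pow_mul, ← mul_assoc, ← mul_assoc, ← pow_add, ← pow_add]
      congr 2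
      obtain ⟨s', rfl⟩ : ∃ s', s = s' + 1 := ⟨s - 1, by omega⟩
      simp only [Nat.add_sub_cancel]
      ring
    have e2 : (σ i₀ ^ s) ^ (t + m) * b =
        σ i₀ ^ ((s - 1) * t) * (σ i₀ ^ t * (σ i₀ ^ (m * s) * b)) := by
      rw [← pow_mul, ← mul_assoc, ← mul_assoc, ← pow_add, ← pow_add]
      congr 2
      obtain ⟨s', rfl⟩ : ∃ s', s = s' + 1 := ⟨s - 1, by omega⟩
      simp only [Nat.add_sub_cancel]
      ring
    rw [e1, e2, h1]
  -- decompose K i₀ and s
  obtain ⟨κ, hκ⟩ : ∃ κ, K i₀ = 1 + κ := ⟨K i₀ - 1, by omega⟩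
  set r := ∑ j ∈ Finset.univ.erase i₀, K j with hr
  have hsr : s = (1 + κ) + r := by
    rw [← hK, ← Finset.add_sum_erase _ _ (Finset.mem_univ i₀), hκ]
  set ρ := ∏ j ∈ Finset.univ.erase i₀, (σ j ^ s) ^ K j with hρ
  have hρV : ρ ∈ V 𝒜 s r := prod_pow_mem_V 𝒜 s (fun j => σ j ^ s) hus K _
  have hf0s : (∏ i, σ i ^ K i) ^ s = (σ i₀ ^ s) ^ (1 + κ) * ρ := by
    rw [← Finset.prod_pow, ← Finset.mul_prod_erase _ _ (Finset.mem_univ i₀), hκ]
    congr 1
    · rw [← pow_mul, ← pow_mul, mul_comm]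
    · refine Finset.prod_congr rfl fun j _ => ?_
      rw [← pow_mul, ← pow_mul, mul_comm]
  set L := t + N with hL
  have hmain : (∏ i, σ i ^ K i) ^ (s * L) * a =
      ρ ^ L * (σ i₀ ^ s) ^ (κ * L) * (σ i₀ ^ s) ^ (t + m) * b := by
    rw [pow_mul, hf0s, mul_pow, ← pow_mul, add_mul, one_mul, pow_add]
    calc (σ i₀ ^ s) ^ L * (σ i₀ ^ s) ^ (κ * L) * ρ ^ L * a
        = ρ ^ L * (σ i₀ ^ s) ^ (κ * L) * ((σ i₀ ^ s) ^ L * a) := by ring
      _ = ρ ^ L * (σ i₀ ^ s) ^ (κ * L) * ((σ i₀ ^ s) ^ (t + m) * b) := by rw [hL, hrel]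
      _ = _ := by ring
  have hV : (∏ i, σ i ^ K i) ^ (s * L) * a ∈ V 𝒜 s (s * L + m) := by
    rw [hmain]
    have h1 := mul_mem_V 𝒜 s (mul_mem_V 𝒜 s (mul_mem_V 𝒜 s (pow_mem_V' 𝒜 s hρV L)
      (pow_mem_V 𝒜 s (hus i₀) (κ * L))) (pow_mem_V 𝒜 s (hus i₀) (t + m))) hbV
    have e : r * L + κ * L + (t + m) + N = s * L + m := by
      rw [hsr, hL]; ring
    rwa [e] at h1
  have hfinal : HomogeneousLocalization.Away.mk 𝒜 hf0 m a ha =
      HomogeneousLocalization.Away.mk 𝒜 hf0 (s * L + m) ((∏ i, σ i ^ K i) ^ (s * L) * a)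
        (V_le_graded 𝒜 s (s * L + m) hV) := by
    apply HomogeneousLocalization.val_injective
    rw [HomogeneousLocalization.Away.val_mk, HomogeneousLocalization.Away.val_mk,
      Localization.mk_eq_mk_iff]
    apply Localization.r_of_eq
    simp only
    rw [pow_add]
    ring
  rw [hfinal]
  exact claim2 𝒜 s _ hf0 (s * L + m) _ hV

end Groth.Agent.S17466
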