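import Groth.Statements.S17467
import Mathlib
import Groth.Agent.Lib.Helper22AssHeightOne
import Groth.Agent.Lib.Helper16GoingDownSch
-- import your own Groth.Agent.* helpers here

set_option autoImplicit false
set_option linter.style.haveILetI false
set_option linter.unusedSectionVars false
universe u
open CategoryTheory AlgebraicGeometry
open Variety

namespace Groth.Agent.S17467

open TensorProduct

section AlgB

variable {A K L : Type*} [CommRing A] [IsDomain A] [CharZero A] [Field K] [Algebra A K]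
  [IsFractionRing A K] [Field L] [Algebra A L] [Algebra K L] [IsScalarTower A K L]

/-- `a ⊗ b ↦ a * g b` for a functional `g`. -/
noncomputable def psi (g : L →ₗ[K] K) : L ⊗[A] L →ₗ[A] L :=
  (LinearMap.mul' A L) ∘ₗ (TensorProduct.map LinearMap.id
    (((Algebra.linearMap K L).restrictScalars A) ∘ₗ (g.restrictScalars A)))

lemma psi_tmul (g : L →ₗ[K] K) (a b : L) :
    psi (A := A) g (a ⊗ₜ b) = a * algebraMap K L (g b) := by
  simp [psi]

lemma exists_functional : ∃ g : L →ₗ[K] K, g 1 = 1 := by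
  obtain ⟨g, hg⟩ := LinearMap.exists_leftInverse_of_injective (Algebra.linearMap K L)
    (LinearMap.ker_eq_bot.mpr (algebraMap K L).injective)
  refine ⟨g, ?_⟩
  have := LinearMap.congr_fun hg 1
  simpa using this

lemma isAlgebraic_of_isNilpotent (s : L)
    (h : IsNilpotent (s ⊗ₜ[A] (1 : L) - (1 : L) ⊗ₜ[A] s)) : IsAlgebraic K s := by
  obtain ⟨g, hg1⟩ := exists_functional (K := K) (L := L)
  obtain ⟨N, hN⟩ := h
  have hδ : s ⊗ₜ[A] (1 : L) - (1 : L) ⊗ₜ[A] s = s ⊗ₜ[A] (1 : L) + (1 : L) ⊗ₜ[A] (-s) := by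
    rw [TensorProduct.tmul_neg, sub_eq_add_neg]
  rw [hδ, add_pow] at hN
  have hterm : ∀ m ∈ Finset.range (N + 1),
      (s ⊗ₜ[A] (1 : L)) ^ m * ((1 : L) ⊗ₜ[A] (-s)) ^ (N - m) * ((N.choose m : ℕ) : L ⊗[A] L) =
        (N.choose m) • ((s ^ m) ⊗ₜ[A] ((-s) ^ (N - m))) := by
    intro m _
    rw [Algebra.TensorProduct.tmul_pow, Algebra.TensorProduct.tmul_pow, one_pow, one_pow,
      Algebra.TensorProduct.tmul_mul_tmul, mul_one, one_mul, nsmul_eq_mul, mul_comm]
  rw [Finset.sum_congr rfl hterm] at hN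
  have h2 := congrArg (psi (A := A) g) hN
  rw [map_sum, map_zero] at h2
  simp only [map_nsmul, psi_tmul] at h2
  refine ⟨∑ m ∈ Finset.range (N + 1),
    (N.choose m) • Polynomial.monomial m (g ((-s) ^ (N - m))), ?_, ?_⟩
  · intro hP
    have h3 := congrArg (fun p => Polynomial.coeff p N) hP
    simp only [Polynomial.finsetSum_coeff, Polynomial.coeff_smul, Polynomial.coeff_monomial,
      Polynomial.coeff_zero] at h3
    rw [Finset.sum_eq_single N] at h3
    · simp [hg1] at h3
    · intro m _ hmN; simp [hmN]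
    · intro hN'; simp at hN'
  · rw [map_sum]
    simp only [map_nsmul, Polynomial.aeval_monomial]
    rw [← h2]
    refine Finset.sum_congr rfl fun m _ => ?_
    rw [mul_comm]

theorem mem_range_of_isNilpotent (s : L)
    (h : IsNilpotent (s ⊗ₜ[A] (1 : L) - (1 : L) ⊗ₜ[A] s)) : s ∈ (algebraMap K L).range := by
  classical
  have halgK := isAlgebraic_of_isNilpotent (A := A) (K := K) s h
  have halg : IsAlgebraic A s := (IsFractionRing.isAlgebraic_iff A K L).mpr halgK
  have hex : ∃ n : ℕ, ∃ p : Polynomial A, p ≠ 0 ∧ Polynomial.aeval s p = 0 ∧ p.natDegree = n := by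
    obtain ⟨p, hp0, hp⟩ := halg
    exact ⟨_, p, hp0, hp, rfl⟩
  obtain ⟨p, hp0, hps, hpn⟩ := Nat.find_spec hex
  have hmin : ∀ q : Polynomial A, q ≠ 0 → Polynomial.aeval s q = 0 →
      Nat.find hex ≤ q.natDegree := fun q hq0 hqs => Nat.find_min' hex ⟨q, hq0, hqs, rfl⟩
  have hinj : Function.Injective (algebraMap A L) := by
    rw [IsScalarTower.algebraMap_eq A K L]
    exact (algebraMap K L).injective.comp (IsFractionRing.injective A K)
  have hdeg : p.natDegree ≠ 0 := by
    intro h0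
    rw [Polynomial.natDegree_eq_zero] at h0
    obtain ⟨c, rfl⟩ := h0
    rw [Polynomial.aeval_C] at hps
    have : c = 0 := hinj (by rw [hps, map_zero])
    exact hp0 (by rw [this, map_zero])
  have hd0 : Polynomial.derivative p ≠ 0 := fun hd =>
    hdeg (Polynomial.derivative_eq_zero.mp hd)
  have hu : Polynomial.aeval s (Polynomial.derivative p) ≠ 0 := by
    intro hds
    have h1 := hmin _ hd0 hds
    have h2 := Polynomial.natDegree_derivative_lt hdeg
    omega
  set u := Polynomial.aeval s (Polynomial.derivative p) with hu_def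
  let iL : L →ₐ[A] L ⊗[A] L := Algebra.TensorProduct.includeLeft
  let iR : L →ₐ[A] L ⊗[A] L := Algebra.TensorProduct.includeRight
  have hx : Polynomial.aeval (s ⊗ₜ[A] (1 : L)) p = 0 := by
    have : s ⊗ₜ[A] (1 : L) = iL s := rfl
    rw [this, Polynomial.aeval_algHom_apply, hps, map_zero]
  have hy : Polynomial.aeval ((1 : L) ⊗ₜ[A] s) p = 0 := by
    have : (1 : L) ⊗ₜ[A] s = iR s := rfl
    rw [this, Polynomial.aeval_algHom_apply, hps, map_zero]
  have hdx : Polynomial.aeval (s ⊗ₜ[A] (1 : L)) (Polynomial.derivative p) = u ⊗ₜ[A] (1 : L) := by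
    have : s ⊗ₜ[A] (1 : L) = iL s := rfl
    rw [this, Polynomial.aeval_algHom_apply]
    rfl
  set δ : L ⊗[A] L := s ⊗ₜ[A] (1 : L) - (1 : L) ⊗ₜ[A] s with hδdef
  obtain ⟨k, hk⟩ := Polynomial.binomExpansion (p.map (algebraMap A (L ⊗[A] L)))
    (s ⊗ₜ[A] (1 : L)) (-δ)
  have e1 : s ⊗ₜ[A] (1 : L) + -δ = (1 : L) ⊗ₜ[A] s := by rw [hδdef]; abel
  rw [e1, Polynomial.eval_map_algebraMap, Polynomial.eval_map_algebraMap, hx, hy,
    Polynomial.derivative_map, Polynomial.eval_map_algebraMap, hdx] at hk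
  have hunit : (u⁻¹ ⊗ₜ[A] (1 : L)) * (u ⊗ₜ[A] (1 : L)) = 1 := by
    rw [Algebra.TensorProduct.tmul_mul_tmul, inv_mul_cancel₀ hu, one_mul]
    rfl
  have hUδ : (u ⊗ₜ[A] (1 : L)) * δ = k * δ ^ 2 := by linear_combination hk
  have hδ : δ = ((u⁻¹ ⊗ₜ[A] (1 : L)) * k * δ) * δ := by
    calc δ = (u⁻¹ ⊗ₜ[A] (1 : L)) * ((u ⊗ₜ[A] (1 : L)) * δ) := by
          rw [← mul_assoc, hunit, one_mul]
      _ = _ := by rw [hUδ]; ring
  have hnil : IsNilpotent ((u⁻¹ ⊗ₜ[A] (1 : L)) * k * δ) :=
    (Commute.all _ _).isNilpotent_mul_left h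
  have hδ0 : δ = 0 := by
    have h3 : (1 - (u⁻¹ ⊗ₜ[A] (1 : L)) * k * δ) * δ = 0 := by
      rw [sub_mul, one_mul, ← hδ, sub_self]
    exact (hnil.isUnit_one_sub.mul_right_eq_zero).mp h3
  obtain ⟨g, hg1⟩ := exists_functional (K := K) (L := L)
  have h4 : psi (A := A) g (s ⊗ₜ[A] (1 : L)) = psi (A := A) g ((1 : L) ⊗ₜ[A] s) := by
    rw [sub_eq_zero.mp hδ0]
  rw [psi_tmul, psi_tmul, hg1, map_one, mul_one, one_mul] at h4
  exact ⟨g s, h4.symm⟩

end AlgB

theorem exists_mul_eq_of_isNilpotent {A B : Type*} [CommRing A] [CommRing B] [IsDomain A]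
    [IsDomain B] [Algebra A B] [CharZero A] (hinj : Function.Injective (algebraMap A B)) (s : B)
    (h : IsNilpotent (s ⊗ₜ[A] (1 : B) - (1 : B) ⊗ₜ[A] s)) :
    ∃ a b : A, b ≠ 0 ∧ algebraMap A B b * s = algebraMap A B a := by
  let K := FractionRing A
  let L := FractionRing B
  have hinjL : Function.Injective (algebraMap A L) := by
    rw [IsScalarTower.algebraMap_eq A B L]
    exact (IsFractionRing.injective B L).comp hinj
  haveI : FaithfulSMul A L := (faithfulSMul_iff_algebraMap_injective A L).mpr hinjL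
  letI : Algebra K L := FractionRing.liftAlgebra A L
  haveI : IsScalarTower A K L := FractionRing.isScalarTower_liftAlgebra A L
  let τ : B ⊗[A] B →ₐ[A] L ⊗[A] L :=
    Algebra.TensorProduct.map (IsScalarTower.toAlgHom A B L) (IsScalarTower.toAlgHom A B L)
  have h1 : IsNilpotent ((algebraMap B L s) ⊗ₜ[A] (1 : L) - (1 : L) ⊗ₜ[A] (algebraMap B L s)) := by
    have := h.map τ
    simpa [τ] using this
  obtain ⟨t, ht⟩ := mem_range_of_isNilpotent (A := A) (K := K) (L := L) _ h1
  obtain ⟨a, b, hb, rfl⟩ := IsFractionRing.div_surjective (A := A) t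
  refine ⟨a, b, nonZeroDivisors.ne_zero hb, ?_⟩
  apply IsFractionRing.injective B L
  have hbL : algebraMap K L (algebraMap A K b) ≠ 0 := by
    rw [← IsScalarTower.algebraMap_apply A K L]
    exact fun h0 => nonZeroDivisors.ne_zero hb (hinjL (by rw [h0, map_zero]))
  rw [map_mul, ← ht, map_div₀, ← IsScalarTower.algebraMap_apply A B L,
    ← IsScalarTower.algebraMap_apply A B L, IsScalarTower.algebraMap_apply A K L b,
    IsScalarTower.algebraMap_apply A K L a]
  exact mul_div_cancel₀ _ hbL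

section AlgA

variable {k A B : Type u} [Field k] [IsAlgClosed k] [CommRing A] [CommRing B] [Algebra k A]
  [Algebra k B] [Algebra A B] [IsScalarTower k A B] [Algebra.FiniteType k B]

theorem exists_algHom_ker_eq (T : Type u) [CommRing T] [Algebra k T] [Algebra.FiniteType k T]
    (P : Ideal T) [P.IsMaximal] :
    ∃ ψ : T →ₐ[k] k, ∀ t, ψ t = 0 ↔ t ∈ P := by
  let _ : Field (T ⧸ P) := Ideal.Quotient.field P
  have hft : Algebra.FiniteType k (T ⧸ P) :=
    Algebra.FiniteType.of_surjective (Ideal.Quotient.mkₐ k P) (Ideal.Quotient.mkₐ_surjective k P)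
  have hfin : Module.Finite k (T ⧸ P) := finite_of_finite_type_of_isJacobsonRing k (T ⧸ P)
  have hint : Algebra.IsIntegral k (T ⧸ P) := Algebra.IsIntegral.of_finite k (T ⧸ P)
  have hbij : Function.Bijective (algebraMap k (T ⧸ P)) :=
    IsAlgClosed.algebraMap_bijective_of_isIntegral
  let e : k ≃ₐ[k] (T ⧸ P) := AlgEquiv.ofBijective (Algebra.ofId k (T ⧸ P)) hbij
  refine ⟨(e.symm : (T ⧸ P) →ₐ[k] k).comp (Ideal.Quotient.mkₐ k P), fun a => ?_⟩
  constructor
  · intro h
    have h1 : e.symm (Ideal.Quotient.mk P a) = 0 := h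
    rw [map_eq_zero_iff _ e.symm.injective] at h1
    exact Ideal.Quotient.eq_zero_iff_mem.1 h1
  · intro h
    have h1 : Ideal.Quotient.mk P a = 0 := Ideal.Quotient.eq_zero_iff_mem.2 h
    show e.symm (Ideal.Quotient.mk P a) = 0
    rw [h1, map_zero]

theorem isNilpotent_of_forall_algHom (b : B)
    (h : ∀ χ₁ χ₂ : B →ₐ[k] k, (∀ a : A, χ₁ (algebraMap A B a) = χ₂ (algebraMap A B a)) →
      χ₁ b = χ₂ b) :
    IsNilpotent (b ⊗ₜ[A] (1 : B) - (1 : B) ⊗ₜ[A] b) := by
  haveI : Algebra.FiniteType A B := Algebra.FiniteType.of_restrictScalars_finiteType k A B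
  haveI : Algebra.FiniteType k (B ⊗[A] B) :=
    Algebra.FiniteType.trans (inferInstance : Algebra.FiniteType k B)
      (inferInstance : Algebra.FiniteType B (B ⊗[A] B))
  haveI : IsJacobsonRing (B ⊗[A] B) := isJacobsonRing_of_finiteType (A := k)
  have hJ := IsJacobsonRing.out (inferInstance : IsJacobsonRing (B ⊗[A] B))
    (Ideal.radical_isRadical (⊥ : Ideal (B ⊗[A] B)))
  rw [← mem_nilradical, nilradical, ← Ideal.zero_eq_bot] at *
  rw [← hJ, Ideal.jacobson, Ideal.mem_sInf]
  rintro J ⟨-, hJmax⟩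
  haveI := hJmax
  obtain ⟨χ, hχ⟩ := exists_algHom_ker_eq (k := k) (B ⊗[A] B) J
  rw [← hχ, map_sub, sub_eq_zero]
  let χ₁ : B →ₐ[k] k := χ.comp Algebra.TensorProduct.includeLeft
  let χ₂ : B →ₐ[k] k :=
    χ.comp ((Algebra.TensorProduct.includeRight : B →ₐ[A] B ⊗[A] B).restrictScalars k)
  have h12 := h χ₁ χ₂ (fun a => by
    change χ ((algebraMap A B a) ⊗ₜ[A] (1 : B)) = χ ((1 : B) ⊗ₜ[A] (algebraMap A B a))
    rw [Algebra.algebraMap_eq_smul_one, TensorProduct.smul_tmul])
  exact h12

end AlgA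


section AlgC

variable {A : Type u} [CommRing A] [IsDomain A] [IsNoetherianRing A] [IsIntegrallyClosed A]

theorem valuationRing_atPrime_of_height_one (q : Ideal A) [q.IsPrime] (hq : q.height = 1) :
    ValuationRing (Localization.AtPrime q) := by
  haveI : IsIntegrallyClosed (Localization.AtPrime q) :=
    isIntegrallyClosed_of_isLocalization (Localization.AtPrime q) q.primeCompl
      q.primeCompl_le_nonZeroDivisors
  have hq0 : q ≠ ⊥ := by
    rintro rfl
    simp at hq
  have hnf : ¬ IsField (Localization.AtPrime q) :=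
    IsLocalization.AtPrime.not_isField A hq0 (Localization.AtPrime q)
  have hdim : ringKrullDim (Localization.AtPrime q) = 1 := by
    rw [IsLocalization.AtPrime.ringKrullDim_eq_height q (Localization.AtPrime q), hq]
    rfl
  haveI : Ring.KrullDimLE 1 (Localization.AtPrime q) :=
    Ring.krullDimLE_iff.mpr (by rw [hdim]; exact le_rfl)
  have hne : IsLocalRing.maximalIdeal (Localization.AtPrime q) ≠ ⊥ :=
    IsLocalRing.isField_iff_maximalIdeal_eq.not.mp hnf
  refine ((IsDiscreteValuationRing.TFAE (Localization.AtPrime q) hnf).out 1 3).mpr ?_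
  refine ⟨inferInstance, IsLocalRing.maximalIdeal _, ⟨hne, inferInstance⟩, ?_⟩
  rintro P ⟨hP0, hP⟩
  exact IsLocalRing.eq_maximalIdeal (hP.isMaximal_of_ne_bot hP0)

theorem exists_notMem_dvd (q : Ideal A) [q.IsPrime] (hq : q.height = 1) (a b : A) (hb : b ≠ 0)
    {B : Type*} [CommRing B] [IsDomain B] (ψ : A →+* B) (hψ : Function.Injective ψ)
    (P : Ideal B) [P.IsPrime] (hP : P.comap ψ = q) (σ : B) (hσ : ψ b * σ = ψ a) :
    ∃ c : A, c ∉ q ∧ b ∣ c * a := by
  haveI := valuationRing_atPrime_of_height_one q hq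
  have hinjR : Function.Injective (algebraMap A (Localization.AtPrime q)) :=
    IsLocalization.injective (Localization.AtPrime q) q.primeCompl_le_nonZeroDivisors
  have key : algebraMap A (Localization.AtPrime q) b ∣ algebraMap A (Localization.AtPrime q) a := by
    rcases ValuationRing.dvd_total (algebraMap A (Localization.AtPrime q) b)
      (algebraMap A (Localization.AtPrime q) a) with h | h
    · exact h
    · obtain ⟨r, hr⟩ := h
      by_cases hru : IsUnit r
      · obtain ⟨r', rfl⟩ := hru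
        exact ⟨↑r'⁻¹, by rw [hr, mul_assoc, Units.mul_inv, mul_one]⟩
      · exfalso
        have hrm : r ∈ IsLocalRing.maximalIdeal (Localization.AtPrime q) :=
          (IsLocalRing.mem_maximalIdeal r).mpr hru
        obtain ⟨d, c, rfl⟩ := IsLocalization.exists_mk'_eq q.primeCompl r
        rw [IsLocalization.AtPrime.mk'_mem_maximal_iff (Localization.AtPrime q) q] at hrm
        have h5 : algebraMap A (Localization.AtPrime q) (b * c) =
            algebraMap A (Localization.AtPrime q) (a * d) := by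
          rw [map_mul, map_mul, hr, mul_assoc, IsLocalization.mk'_spec]
        have h6 := hinjR h5
        have h7 : ψ b * (ψ c - σ * ψ d) = 0 := by
          have := congrArg ψ h6
          rw [map_mul, map_mul, ← hσ] at this
          linear_combination this
        have hψb : ψ b ≠ 0 := fun h0 => hb (hψ (by rw [h0, map_zero]))
        have h8 : ψ c = σ * ψ d := sub_eq_zero.mp ((mul_eq_zero.mp h7).resolve_left hψb)
        have h9 : (c : A) ∈ q := by
          have hd : ψ d ∈ P := by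
            have : d ∈ P.comap ψ := by rw [hP]; exact hrm
            exact this
          have hc : (c : A) ∈ P.comap ψ := by
            rw [Ideal.mem_comap, h8]
            exact P.mul_mem_left _ hd
          rw [hP] at hc
          exact hc
        exact c.2 h9
  obtain ⟨r, hr⟩ := key
  obtain ⟨e, c, rfl⟩ := IsLocalization.exists_mk'_eq q.primeCompl r
  refine ⟨c, c.2, e, ?_⟩
  apply hinjR
  rw [map_mul, map_mul, hr, mul_comm (algebraMap A (Localization.AtPrime q) (c : A)), mul_assoc,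
    IsLocalization.mk'_spec]

theorem dvd_of_forall_heightOne (a b : A) (hb : b ≠ 0)
    (H : ∀ q : Ideal A, q.IsPrime → q.height = 1 → ∃ c : A, c ∉ q ∧ b ∣ c * a) : b ∣ a := by
  by_contra hnd
  have hx : (Ideal.Quotient.mk (Ideal.span {b}) a) ≠ 0 := by
    rw [Ne, Ideal.Quotient.eq_zero_iff_mem, Ideal.mem_span_singleton]
    exact hnd
  obtain ⟨p, hp, hle⟩ := exists_le_isAssociatedPrime_of_isNoetherianRing A _ hx
  have hp' : p ∈ associatedPrimes A (A ⧸ Ideal.span {b}) := hp
  haveI := hp.isPrime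
  have hht := Groth.Agent.Lib.Helper22.AssHeightOne.height_eq_one_of_mem_associatedPrimes b hb p hp'
  obtain ⟨c, hc, hdvd⟩ := H p inferInstance hht
  apply hc
  apply hle
  rw [Submodule.mem_colon_singleton, Submodule.mem_bot]
  have : c • (Ideal.Quotient.mk (Ideal.span {b}) a) = Ideal.Quotient.mk (Ideal.span {b}) (c * a) :=
    rfl
  rw [this, Ideal.Quotient.eq_zero_iff_mem, Ideal.mem_span_singleton]
  exact hdvd

end AlgC


section Geom

open CategoryTheory.Limits TopologicalSpace Opposite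

lemma appTop_point {X : Scheme.{u}} {R : CommRingCat.{u}} {U : X.Opens} (hU : IsAffineOpen U)
    (χ : Γ(X, U) ⟶ R) :
    (Spec.map χ ≫ hU.fromSpec).appTop ≫ (Scheme.ΓSpecIso R).hom =
      X.presheaf.map (homOfLE le_top).op ≫ χ := by
  apply Spec.map_injective
  rw [Spec.map_comp, SpecMap_ΓSpecIso_hom, ← Scheme.toSpecΓ_naturality, Category.assoc,
    hU.fromSpec_toSpecΓ, ← Spec.map_comp]

lemma app_injective_of_surjective {X Y : Scheme.{u}} [AlgebraicGeometry.IsReduced Y] (φ : X ⟶ Y)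
    (hφ : Function.Surjective φ.base) (W : Y.Opens) :
    Function.Injective (φ.app W).hom := by
  rw [injective_iff_map_eq_zero]
  intro c hc
  rw [← basicOpen_eq_bot_iff]
  by_contra hne
  obtain ⟨y, hy⟩ : ∃ y, y ∈ Y.basicOpen c := by
    by_contra hcon
    push Not at hcon
    exact hne (by ext y; simpa using hcon y)
  obtain ⟨x, rfl⟩ := hφ y
  have hx : x ∈ φ ⁻¹ᵁ Y.basicOpen c := hy
  rw [Scheme.preimage_basicOpen] at hx
  have hc' : φ.app W c = 0 := hc
  rw [hc', Scheme.basicOpen_zero] at hx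
  exact hx


theorem part1 (k : Type u) [Field k] [IsAlgClosed k] [CharZero k]
    (X Y : Over (Spec (CommRingCat.of k)))
    [AlgebraicGeometry.IsIntegral X.left] [AlgebraicGeometry.IsIntegral Y.left]
    [LocallyOfFiniteType X.hom]
    (f : X ⟶ Y) (hf : Function.Surjective f.left.base)
    (s : Γ(X.left, ⊤))
    (hs : ∀ x₁ x₂ : Spec (CommRingCat.of k) ⟶ X.left,
      x₁ ≫ X.hom = 𝟙 _ → x₂ ≫ X.hom = 𝟙 _ → x₁ ≫ f.left = x₂ ≫ f.left →
        x₁.appTop.hom s = x₂.appTop.hom s)
    (V : Y.left.Opens) (hV : IsAffineOpen V) [Nonempty V]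
    (U : X.left.Opens) (hU : IsAffineOpen U) [Nonempty U] (e : U ≤ f.left ⁻¹ᵁ V) :
    ∃ a b : Γ(Y.left, V), b ≠ 0 ∧
      (f.left.appLE V U e).hom b * (X.left.presheaf.map (homOfLE (le_top : U ≤ ⊤)).op).hom s =
        (f.left.appLE V U e).hom a := by
  haveI : IsDomain Γ(Y.left, V) := IsIntegral.component_integral V
  haveI : IsDomain Γ(X.left, U) := IsIntegral.component_integral U
  let ρ : Γ(Y.left, V) →+* Γ(X.left, U) := (f.left.appLE V U e).hom
  have eY : V ≤ Y.hom ⁻¹ᵁ ⊤ := fun _ _ => trivial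
  let ιA : k →+* Γ(Y.left, V) :=
    (Y.hom.appLE ⊤ V eY).hom.comp (Scheme.ΓSpecIso (CommRingCat.of k)).inv.hom
  letI algA : Algebra k Γ(Y.left, V) := ιA.toAlgebra
  letI algAB : Algebra Γ(Y.left, V) Γ(X.left, U) := ρ.toAlgebra
  letI algB : Algebra k Γ(X.left, U) := (ρ.comp ιA).toAlgebra
  haveI : IsScalarTower k Γ(Y.left, V) Γ(X.left, U) :=
    IsScalarTower.of_algebraMap_eq (fun _ => rfl)
  have key : ∀ (g : X.left ⟶ Spec (CommRingCat.of k)) (hg : g = f.left ≫ Y.hom)
      (e' : U ≤ g ⁻¹ᵁ ⊤),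
      g.appLE ⊤ U e' = Y.hom.appLE ⊤ V eY ≫ f.left.appLE V U e := by
    intro g hg e'
    subst hg
    exact (Scheme.Hom.appLE_comp_appLE _ _ _ _ _ _ _).symm
  have eX : U ≤ X.hom ⁻¹ᵁ ⊤ := fun _ _ => trivial
  have hιB : ρ.comp ιA = (X.hom.appLE ⊤ U eX).hom.comp
      (Scheme.ΓSpecIso (CommRingCat.of k)).inv.hom := by
    rw [key X.hom (Over.w f).symm eX]
    rfl
  haveI : Algebra.FiniteType k Γ(X.left, U) := by
    have h1 : (X.hom.appLE ⊤ U eX).hom.FiniteType :=
      X.hom.finiteType_appLE (isAffineOpen_top _) hU _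
    have h2 : ((Scheme.ΓSpecIso (CommRingCat.of k)).inv.hom).FiniteType :=
      RingHom.FiniteType.of_surjective _
        (ConcreteCategory.bijective_of_isIso (Scheme.ΓSpecIso (CommRingCat.of k)).inv).2
    have h3 := h1.comp h2
    rw [← hιB] at h3
    exact h3
  have hρinj : Function.Injective (algebraMap Γ(Y.left, V) Γ(X.left, U)) := by
    change Function.Injective (f.left.app V ≫ X.left.presheaf.map (homOfLE e).op).hom
    rw [CommRingCat.hom_comp, RingHom.coe_comp]
    haveI : Nonempty (f.left ⁻¹ᵁ V) := by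
      obtain ⟨x⟩ := (inferInstance : Nonempty U)
      exact ⟨⟨x.1, e x.2⟩⟩
    exact (map_injective_of_isIntegral (X := X.left) (homOfLE e)).comp
      (app_injective_of_surjective f.left hf V)
  set sU := (X.left.presheaf.map (homOfLE (le_top : U ≤ ⊤)).op).hom s with hsU
  have hnil := isNilpotent_of_forall_algHom (k := k) (A := Γ(Y.left, V)) (B := Γ(X.left, U)) sU ?_
  · haveI : CharZero Γ(Y.left, V) := charZero_of_injective_ringHom ιA.injective
    exact exists_mul_eq_of_isNilpotent (A := Γ(Y.left, V)) (B := Γ(X.left, U)) hρinj sU hnil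
  · intro χ₁ χ₂ h12
    have hpt : ∀ χ : Γ(X.left, U) →ₐ[k] k,
        (Spec.map (CommRingCat.ofHom χ.toRingHom) ≫ hU.fromSpec) ≫ X.hom = 𝟙 _ := by
      intro χ
      rw [Category.assoc, ← IsAffineOpen.SpecMap_appLE_fromSpec X.hom (isAffineOpen_top _) hU
        eX, IsAffineOpen.fromSpec_top, Scheme.isoSpec_Spec_inv, ← Spec.map_comp,
        ← Spec.map_comp, ← Spec.map_id]
      congr 1
      ext c
      have h1 := χ.commutes c
      have h2 : algebraMap k Γ(X.left, U) c = ((X.hom.appLE ⊤ U eX).hom.comp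
          (Scheme.ΓSpecIso (CommRingCat.of k)).inv.hom) c := by
        rw [← hιB]; rfl
      rw [h2] at h1
      exact h1
    have hfib : (Spec.map (CommRingCat.ofHom χ₁.toRingHom) ≫ hU.fromSpec) ≫ f.left =
        (Spec.map (CommRingCat.ofHom χ₂.toRingHom) ≫ hU.fromSpec) ≫ f.left := by
      rw [Category.assoc, Category.assoc, ← IsAffineOpen.SpecMap_appLE_fromSpec f.left hV hU e,
        ← Category.assoc, ← Category.assoc, ← Spec.map_comp, ← Spec.map_comp]
      congr 2
      ext a
      exact h12 a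
    have h3 := hs _ _ (hpt χ₁) (hpt χ₂) hfib
    have h4 := congrArg (Scheme.ΓSpecIso (CommRingCat.of k)).hom.hom h3
    have e1 := congrArg (fun g => g.hom s) (appTop_point hU (CommRingCat.ofHom χ₁.toRingHom))
    have e2 := congrArg (fun g => g.hom s) (appTop_point hU (CommRingCat.ofHom χ₂.toRingHom))
    simp only [CommRingCat.hom_comp, RingHom.comp_apply] at e1 e2
    exact e1.symm.trans (h4.trans e2)

lemma res_res {X : Scheme.{u}} {U V W : X.Opens} (h1 : U ≤ V) (h2 : V ≤ W) (t : Γ(X, W)) :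
    (X.presheaf.map (homOfLE h1).op).hom ((X.presheaf.map (homOfLE h2).op).hom t) =
      (X.presheaf.map (homOfLE (h1.trans h2)).op).hom t := by
  rw [← CommRingCat.comp_apply, ← Functor.map_comp]
  rfl

lemma app_res {X Y : Scheme.{u}} (φ : X ⟶ Y) {W W' : Y.Opens} (h : W ≤ W') (c : Γ(Y, W')) :
    (φ.app W).hom ((Y.presheaf.map (homOfLE h).op).hom c) =
      (X.presheaf.map (homOfLE (show φ ⁻¹ᵁ W ≤ φ ⁻¹ᵁ W' from fun _ hx => h hx)).op).hom
        ((φ.app W').hom c) := by
  have := φ.naturality (homOfLE h).op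
  exact congrArg (fun g => g.hom c) this

theorem exists_section_affine (k : Type u) [Field k] [IsAlgClosed k] [CharZero k]
    (X Y : Over (Spec (CommRingCat.of k)))
    [AlgebraicGeometry.IsIntegral X.left] [AlgebraicGeometry.IsIntegral Y.left]
    [LocallyOfFiniteType X.hom] [LocallyOfFiniteType Y.hom]
    (hY : Pi1.IsNormalScheme Y.left)
    (f : X ⟶ Y) (hf : Function.Surjective f.left.base)
    (s : Γ(X.left, ⊤))
    (hs : ∀ x₁ x₂ : Spec (CommRingCat.of k) ⟶ X.left,
      x₁ ≫ X.hom = 𝟙 _ → x₂ ≫ X.hom = 𝟙 _ → x₁ ≫ f.left = x₂ ≫ f.left →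
        x₁.appTop.hom s = x₂.appTop.hom s)
    (V : Y.left.Opens) (hV : IsAffineOpen V) (hVne : (V : Set Y.left).Nonempty) :
    ∃ r : Γ(Y.left, V), (f.left.app V).hom r =
      (X.left.presheaf.map (homOfLE (le_top : f.left ⁻¹ᵁ V ≤ ⊤)).op).hom s := by
  classical
  haveI : IsLocallyNoetherian Y.left := LocallyOfFiniteType.isLocallyNoetherian Y.hom
  haveI : Nonempty V := hVne.to_subtype
  haveI : IsDomain Γ(Y.left, V) := IsIntegral.component_integral V
  haveI : IsNoetherianRing Γ(Y.left, V) := IsLocallyNoetherian.component_noetherian ⟨V, hV⟩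
  haveI : IsIntegrallyClosed Γ(Y.left, V) :=
    Groth.Agent.Lib.Helper16GoingDownSch.isIntegrallyClosed_sections (fun y => (hY y).2) V hV
  obtain ⟨y0, hy0⟩ := hVne
  obtain ⟨x0, hx0⟩ := hf y0
  have hx0V : x0 ∈ f.left ⁻¹ᵁ V := by
    change f.left.base x0 ∈ V
    rw [hx0]; exact hy0
  haveI : Nonempty (f.left ⁻¹ᵁ V) := ⟨⟨x0, hx0V⟩⟩
  haveI : IsDomain Γ(X.left, f.left ⁻¹ᵁ V) := IsIntegral.component_integral _
  obtain ⟨U, hU, hx0U, hUV0⟩ :=
    exists_isAffineOpen_mem_and_subset (x := x0) (U := f.left ⁻¹ᵁ V) hx0V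
  have hUV : U ≤ f.left ⁻¹ᵁ V := hUV0
  haveI : Nonempty U := ⟨⟨x0, hx0U⟩⟩
  obtain ⟨a, b, hb, hab⟩ := part1 k X Y f hf s hs V hV U hU hUV
  set sV := (X.left.presheaf.map (homOfLE (le_top : f.left ⁻¹ᵁ V ≤ ⊤)).op).hom s with hsV
  have hres : ∀ (U' : X.left.Opens) (hU' : U' ≤ f.left ⁻¹ᵁ V) (c : Γ(Y.left, V)),
      (X.left.presheaf.map (homOfLE hU').op).hom ((f.left.app V).hom c) =
        (f.left.appLE V U' hU').hom c := fun _ _ _ => rfl
  have hab' : (f.left.app V).hom b * sV = (f.left.app V).hom a := by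
    apply map_injective_of_isIntegral (X := X.left) (homOfLE hUV)
    change (X.left.presheaf.map (homOfLE hUV).op).hom (_ * sV) =
      (X.left.presheaf.map (homOfLE hUV).op).hom _
    rw [map_mul, hres, hres, hsV, res_res]
    exact hab
  have hdvd : b ∣ a := by
    refine dvd_of_forall_heightOne a b hb (fun q hq hht => ?_)
    haveI := hq
    let yq : PrimeSpectrum Γ(Y.left, V) := ⟨q, hq⟩
    obtain ⟨x, hx⟩ := hf (hV.fromSpec yq)
    have hxV : x ∈ f.left ⁻¹ᵁ V := by
      change f.left.base x ∈ V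
      rw [hx]
      have : hV.fromSpec yq ∈ Set.range hV.fromSpec := ⟨yq, rfl⟩
      rw [hV.range_fromSpec] at this
      exact this
    obtain ⟨U', hU', hxU', hU'V0⟩ :=
      exists_isAffineOpen_mem_and_subset (x := x) (U := f.left ⁻¹ᵁ V) hxV
    have hU'V : U' ≤ f.left ⁻¹ᵁ V := hU'V0
    haveI : Nonempty U' := ⟨⟨x, hxU'⟩⟩
    haveI : IsDomain Γ(X.left, U') := IsIntegral.component_integral U'
    let P : PrimeSpectrum Γ(X.left, U') := hU'.primeIdealOf ⟨x, hxU'⟩
    haveI := P.isPrime
    have hP : P.asIdeal.comap (f.left.appLE V U' hU'V).hom = q := by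
      have h1 : (Spec.map (f.left.appLE V U' hU'V) ≫ hV.fromSpec) P = hV.fromSpec yq := by
        rw [IsAffineOpen.SpecMap_appLE_fromSpec f.left hV hU' hU'V]
        change f.left (hU'.fromSpec (hU'.primeIdealOf ⟨x, hxU'⟩)) = _
        rw [hU'.fromSpec_primeIdealOf]
        exact hx
      change hV.fromSpec (Spec.map (f.left.appLE V U' hU'V) P) = hV.fromSpec yq at h1
      have h2 : Spec.map (f.left.appLE V U' hU'V) P = yq :=
        hV.fromSpec.isOpenEmbedding.injective h1
      exact congrArg PrimeSpectrum.asIdeal h2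
    have hψinj : Function.Injective (f.left.appLE V U' hU'V).hom := by
      change Function.Injective (f.left.app V ≫ X.left.presheaf.map (homOfLE hU'V).op).hom
      rw [CommRingCat.hom_comp, RingHom.coe_comp]
      exact (map_injective_of_isIntegral (X := X.left) (homOfLE hU'V)).comp
        (app_injective_of_surjective f.left hf V)
    have hσ : (f.left.appLE V U' hU'V).hom b *
        (X.left.presheaf.map (homOfLE (le_top : U' ≤ ⊤)).op).hom s =
          (f.left.appLE V U' hU'V).hom a := by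
      have := congrArg (X.left.presheaf.map (homOfLE hU'V).op).hom hab'
      rw [map_mul, hres, hres, hsV, res_res] at this
      exact this
    exact exists_notMem_dvd q hht a b hb _ hψinj P.asIdeal hP _ hσ
  obtain ⟨r, rfl⟩ := hdvd
  refine ⟨r, ?_⟩
  have hb' : (f.left.app V).hom b ≠ 0 := fun h0 =>
    hb (app_injective_of_surjective f.left hf V (by rw [h0, map_zero]))
  rw [map_mul] at hab'
  exact (mul_left_cancel₀ hb' hab').symm

end Geom

open CategoryTheory.Limits TopologicalSpace Opposite in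

/-- Let k be an algebraically closed field of characteristic zero, X and Y integral separated schemes of
finite type over k with Y normal, and f : X → Y a k-morphism surjective on points. A global function
s on X which takes equal values at any two k-rational points of X having the same image under f is
the pull-back of a global function on Y. (The published statement is phrased for set-theoretic
sections of a vector bundle on Y whose pull-back along f is a regular section; that form reduces to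
the present one locally on Y, and the present one is the case of the trivial line bundle.) -/
theorem result
    (k : Type u) [Field k] [IsAlgClosed k] [CharZero k]
    (X Y : Over (Spec (CommRingCat.of k)))
    [AlgebraicGeometry.IsIntegral X.left] [AlgebraicGeometry.IsIntegral Y.left]
    [LocallyOfFiniteType X.hom] [QuasiCompact X.hom] [IsSeparated X.hom]
    [LocallyOfFiniteType Y.hom] [QuasiCompact Y.hom] [IsSeparated Y.hom]
    (hY : Pi1.IsNormalScheme Y.left)
    (f : X ⟶ Y) (hf : Function.Surjective f.left.base)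
    (s : Γ(X.left, ⊤))
    (hs : ∀ x₁ x₂ : Spec (CommRingCat.of k) ⟶ X.left,
      x₁ ≫ X.hom = 𝟙 _ → x₂ ≫ X.hom = 𝟙 _ → x₁ ≫ f.left = x₂ ≫ f.left →
        x₁.appTop.hom s = x₂.appTop.hom s) :
    ∃ r : Γ(Y.left, ⊤), f.left.appTop.hom r = s := by
  classical
  let ι := {V : Y.left.Opens // IsAffineOpen V ∧ (V : Set Y.left).Nonempty}
  have hex : ∀ i : ι, ∃ r : Γ(Y.left, i.1), (f.left.app i.1).hom r =
      (X.left.presheaf.map (homOfLE (le_top : f.left ⁻¹ᵁ i.1 ≤ ⊤)).op).hom s :=
    fun i => exists_section_affine k X Y hY f hf s hs i.1 i.2.1 i.2.2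
  choose r hr using hex
  have hcover : (⊤ : Y.left.Opens) ≤ ⨆ i : ι, i.1 := by
    intro y _
    obtain ⟨V, hV, hyV, -⟩ := exists_isAffineOpen_mem_and_subset (x := y) (U := ⊤) trivial
    exact Opens.mem_iSup.mpr ⟨⟨V, hV, ⟨y, hyV⟩⟩, hyV⟩
  have hcompat : TopCat.Presheaf.IsCompatible Y.left.presheaf (fun i : ι => i.1) r := by
    intro i j
    apply app_injective_of_surjective f.left hf (i.1 ⊓ j.1)
    change (f.left.app (i.1 ⊓ j.1)).hom
        ((Y.left.presheaf.map (homOfLE (inf_le_left : i.1 ⊓ j.1 ≤ i.1)).op).hom (r i)) =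
      (f.left.app (i.1 ⊓ j.1)).hom
        ((Y.left.presheaf.map (homOfLE (inf_le_right : i.1 ⊓ j.1 ≤ j.1)).op).hom (r j))
    rw [app_res, app_res, hr, hr, res_res, res_res]
  obtain ⟨r0, hr0, -⟩ := Y.left.sheaf.existsUnique_gluing' (fun i : ι => i.1) ⊤
    (fun i => homOfLE le_top) hcover r hcompat
  refine ⟨r0, ?_⟩
  refine X.left.sheaf.eq_of_locally_eq' (fun i : ι => f.left ⁻¹ᵁ i.1) ⊤
    (fun i => homOfLE le_top) ?_ _ _ ?_
  · intro x _
    obtain ⟨i, hi⟩ := Opens.mem_iSup.mp
      (hcover (show f.left.base x ∈ (⊤ : Y.left.Opens) from trivial))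
    exact Opens.mem_iSup.mpr ⟨i, hi⟩
  · intro i
    have h1 := hr0 i
    change (Y.left.presheaf.map (homOfLE (le_top : i.1 ≤ ⊤)).op).hom r0 = r i at h1
    change (X.left.presheaf.map (homOfLE (le_top : f.left ⁻¹ᵁ i.1 ≤ ⊤)).op).hom
        ((f.left.app ⊤).hom r0) =
      (X.left.presheaf.map (homOfLE (le_top : f.left ⁻¹ᵁ i.1 ≤ ⊤)).op).hom s
    rw [← hr, ← h1]
    exact (app_res f.left (le_top : i.1 ≤ ⊤) r0).symm

end Groth.Agent.S17467
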