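import Groth.Statements.S17469
import Groth.Agent.Lib.Helper4NormGlobal

set_option autoImplicit false
set_option linter.style.haveILetI false
universe u
open CategoryTheory AlgebraicGeometry
open Variety

namespace Groth.Agent.S17469

/-- Let X be a locally Noetherian integral scheme all of whose local rings are integrally closed domains
and U an open subset of X. A section of O_X over U that is integral over the ring of global sections
of X, the latter acting through restriction, is itself the restriction of a global section. (The
published lemma is stated for an irreducible normal variety and for the graded ring of sections over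
U of all non-negative powers of a line bundle, integral over the corresponding ring of sections over
X; for the trivial line bundle its homogeneous components are the present statement, which is made
here for any locally Noetherian normal integral scheme.) -/
theorem result
    (X : Scheme.{u}) [AlgebraicGeometry.IsIntegral X] [IsLocallyNoetherian X]
    (hX : Pi1.IsNormalScheme X) (U : X.Opens) (b : Γ(X, U))
    (hb : (X.presheaf.map (homOfLE le_top : U ⟶ ⊤).op).hom.IsIntegralElem b) :
    b ∈ Set.range (X.presheaf.map (homOfLE le_top : U ⟶ ⊤).op).hom := by
  by_cases hU : Nonempty U
  · haveI := hU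
    haveI hne : Nonempty (⊤ : X.Opens) := ⟨⟨Classical.arbitrary X, trivial⟩⟩
    haveI hcl := Groth.Agent.Lib.Helper4.NormGlobal.isIntegrallyClosedIn_top_functionField X hX
    have hres : ∀ s : Γ(X, ⊤), (X.germToFunctionField U).hom
        ((X.presheaf.map (homOfLE le_top : U ⟶ ⊤).op).hom s) =
        algebraMap Γ(X, ⊤) X.functionField s := by
      intro s
      exact X.presheaf.germ_res_apply (homOfLE le_top) _ _ s
    obtain ⟨p, hp, hpb⟩ := hb
    have hint : IsIntegral Γ(X, ⊤) ((X.germToFunctionField U).hom b) := by
      refine ⟨p, hp, ?_⟩
      have h1 := congrArg (X.germToFunctionField U).hom hpb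
      rw [Polynomial.hom_eval₂, map_zero] at h1
      have h2 : (X.germToFunctionField U).hom.comp
          (X.presheaf.map (homOfLE le_top : U ⟶ ⊤).op).hom =
          algebraMap Γ(X, ⊤) X.functionField := by
        ext s
        exact hres s
      rw [h2] at h1
      exact h1
    obtain ⟨s, hs⟩ := (isIntegrallyClosedIn_iff.mp hcl).2 hint
    refine ⟨s, ?_⟩
    apply X.germToFunctionField_injective U
    rw [hres, hs]
  · have h0 : U = ⊥ := by
      ext y
      simp only [TopologicalSpace.Opens.coe_bot, Set.mem_empty_iff_false, iff_false]
      exact fun hy => hU ⟨⟨y, hy⟩⟩
    subst h0
    exact ⟨0, Subsingleton.elim _ _⟩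

end Groth.Agent.S17469
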