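import Groth.Statements.S17473
import Mathlib
import Groth.Agent.Lib.Helper11BlanchardC

set_option autoImplicit false
universe u
open CategoryTheory MonoidalCategory CartesianMonoidalCategory MonObj GrpObj AlgebraicGeometry CategoryTheory.Limits
open AlgGrp

namespace Groth.Agent.S17473


/-- Let k be a field, G a k-group scheme locally of finite type, X and Y separated k-schemes, f : X → Y
a proper k-morphism such that O_Y → f_*O_X is an isomorphism (on sections over every open subset of
Y), and a an action of G on X. The following are equivalent: (i) some action of G on Y makes f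
equivariant; (ii) X ×_Y X is stable under G acting diagonally on X × X, i.e. for every k-scheme T,
every T-point g of G and all T-points x₁, x₂ of X with f x₁ = f x₂ one has f (g · x₁) = f (g · x₂);
(iii) the underlying map of the composite G × X → X → Y is constant on the topological fibres of G ×
X → G × Y. (The published text works over an algebraically closed field; any field is allowed here.) -/
theorem result (k : Type u) [Field k]
    (G X Y : Over (Spec (CommRingCat.of k))) [GrpObj G] [LocallyOfFiniteType G.hom]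
    [IsSeparated X.hom] [IsSeparated Y.hom]
    (f : X ⟶ Y) [IsProper f.left] (hf : ∀ U : Y.left.Opens, IsIso (f.left.app U))
    (a : AlgGrp.Action G X) :
    [∃ b : AlgGrp.Action G Y, (G ◁ f) ≫ b.act = a.act ≫ f,
      ∀ (T : Over (Spec (CommRingCat.of k))) (g : T ⟶ G) (x₁ x₂ : T ⟶ X),
        x₁ ≫ f = x₂ ≫ f → lift g x₁ ≫ a.act ≫ f = lift g x₂ ≫ a.act ≫ f,
      ∀ p q : ↥(G ⊗ X).left, (G ◁ f).left.base p = (G ◁ f).left.base q →
        (a.act ≫ f).left.base p = (a.act ≫ f).left.base q].TFAE := by
  tfae_have 1 → 2 := by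
    rintro ⟨b, hb⟩ T g x₁ x₂ hx
    have h1 : ∀ x : T ⟶ X, lift g x ≫ a.act ≫ f = lift g (x ≫ f) ≫ b.act := by
      intro x
      rw [← hb, ← Category.assoc]
      congr 1
      ext1
      · rw [Category.assoc, whiskerLeft_fst, lift_fst, lift_fst]
      · rw [Category.assoc, whiskerLeft_snd, ← Category.assoc, lift_snd, lift_snd]
    rw [h1, h1, hx]
  tfae_have 2 → 3 := by
    intro h p q hpq
    obtain ⟨r, hr1, hr2⟩ := Scheme.Pullback.exists_preimage_pullback
      (f := (G ◁ f).left) (g := (G ◁ f).left) p q hpq
    let T : Over (Spec (CommRingCat.of k)) :=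
      Over.mk (pullback.fst (G ◁ f).left (G ◁ f).left ≫ (G ⊗ X).hom)
    let π₁ : T ⟶ G ⊗ X := Over.homMk (pullback.fst (G ◁ f).left (G ◁ f).left) rfl
    let π₂ : T ⟶ G ⊗ X := Over.homMk (pullback.snd (G ◁ f).left (G ◁ f).left) (by
      change pullback.snd _ _ ≫ (G ⊗ X).hom = pullback.fst _ _ ≫ (G ⊗ X).hom
      rw [← Over.w (G ◁ f), ← Category.assoc, ← Category.assoc, pullback.condition])
    have hπ : π₁ ≫ (G ◁ f) = π₂ ≫ (G ◁ f) := by
      apply Over.OverMorphism.ext
      exact pullback.condition
    have hx : (π₁ ≫ snd G X) ≫ f = (π₂ ≫ snd G X) ≫ f := by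
      rw [Category.assoc, Category.assoc, ← whiskerLeft_snd, ← Category.assoc, hπ, Category.assoc]
    have hg : π₂ ≫ fst G X = π₁ ≫ fst G X := by
      rw [← whiskerLeft_fst G f, ← Category.assoc, ← hπ, Category.assoc]
    have h1 := h T (π₁ ≫ fst G X) (π₁ ≫ snd G X) (π₂ ≫ snd G X) hx
    have e1 : lift (π₁ ≫ fst G X) (π₁ ≫ snd G X) = π₁ := by
      ext1
      · rw [lift_fst]
      · rw [lift_snd]
    have e2 : lift (π₁ ≫ fst G X) (π₂ ≫ snd G X) = π₂ := by
      ext1
      · rw [lift_fst, hg]
      · rw [lift_snd]
    rw [e1, e2] at h1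
    have h2 := congrArg (fun t => t.left.base r) h1
    simp only [Over.comp_left, Scheme.Hom.comp_base, TopCat.comp_app] at h2
    rw [← hr1, ← hr2]
    simp only [Over.comp_left, Scheme.Hom.comp_base, TopCat.comp_app]
    exact h2
  tfae_have 3 → 1 := by
    intro h
    exact Groth.Agent.Lib.Helper11Blanchard.exists_action_desc G X Y f hf a h
  tfae_finish

end Groth.Agent.S17473
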