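import Groth.Statements.S17476
import Groth.Agent.Lib.Helper28BigOpen
import Groth.Agent.Lib.Helper28Normal
import Groth.Agent.Lib.Helper28HomShRefl
import Groth.Agent.Lib.Helper23UnitStalk

set_option autoImplicit false
set_option linter.style.haveILetI false
universe u
open CategoryTheory AlgebraicGeometry Opposite
open Coh

namespace Groth.Agent.S17476


theorem homEquiv_map {C D : Type*} [Category C] [Category D] {L : C ⥤ D} {G : D ⥤ C} (adj : L ⊣ G)
    {A B : C} (φ : A ⟶ B) :
    adj.homEquiv A (L.obj B) (L.map φ) = φ ≫ adj.unit.app B := by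
  rw [Adjunction.homEquiv_unit]; exact (adj.unit.naturality φ).symm

theorem injective_map_of_comp_unit {C D : Type*} [Category C] [Category D] {L : C ⥤ D} {G : D ⥤ C}
    (adj : L ⊣ G) {A B : C}
    (h : ∀ φ₁ φ₂ : A ⟶ B, φ₁ ≫ adj.unit.app B = φ₂ ≫ adj.unit.app B → φ₁ = φ₂) :
    Function.Injective (fun φ : A ⟶ B => L.map φ) := by
  intro φ₁ φ₂ h12
  apply h
  rw [← homEquiv_map adj, ← homEquiv_map adj]
  exact congrArg _ h12

theorem bijective_map_of_isIso_unit {C D : Type*} [Category C] [Category D] {L : C ⥤ D} {G : D ⥤ C}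
    (adj : L ⊣ G) {A B : C} [IsIso (adj.unit.app B)] :
    Function.Bijective (fun φ : A ⟶ B => L.map φ) := by
  refine ⟨injective_map_of_comp_unit adj fun φ₁ φ₂ h => (cancel_mono _).1 h, ?_⟩
  intro ψ
  refine ⟨adj.homEquiv A (L.obj B) ψ ≫ inv (adj.unit.app B), ?_⟩
  apply (adj.homEquiv A (L.obj B)).injective
  change adj.homEquiv A (L.obj B) (L.map _) = _
  rw [homEquiv_map]
  simp


theorem part1 (R : Type u) [CommRing R]
    (M : ModuleCat.{u} (CommRingCat.of R)) (U : (Spec (CommRingCat.of R)).Opens)
    (hinj : Function.Injective ((Spec (CommRingCat.of R)).presheaf.map (homOfLE (le_top : U ≤ ⊤)).op))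
    (φ₁ φ₂ : AlgebraicGeometry.tilde M ⟶ Coh.structureModule (Spec (CommRingCat.of R)))
    (h : φ₁ ≫ (Scheme.Modules.restrictAdjunction U.ι).unit.app (Coh.structureModule _) =
      φ₂ ≫ (Scheme.Modules.restrictAdjunction U.ι).unit.app (Coh.structureModule _)) : φ₁ = φ₂ := by
  apply ((tilde.adjunction (R := CommRingCat.of R)).homEquiv M _).injective
  have h' := congrArg ((tilde.adjunction (R := CommRingCat.of R)).homEquiv M _) h
  have e1 := Adjunction.homEquiv_naturality_right (tilde.adjunction (R := CommRingCat.of R)) (X := M) φ₁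
    ((Scheme.Modules.restrictAdjunction U.ι).unit.app (Coh.structureModule (Spec (CommRingCat.of R))))
  have e2 := Adjunction.homEquiv_naturality_right (tilde.adjunction (R := CommRingCat.of R)) (X := M) φ₂
    ((Scheme.Modules.restrictAdjunction U.ι).unit.app (Coh.structureModule (Spec (CommRingCat.of R))))
  have h'' := e1.symm.trans (h'.trans e2)
  haveI : Mono ((moduleSpecΓFunctor (R := CommRingCat.of R)).map
      ((Scheme.Modules.restrictAdjunction U.ι).unit.app
        (Coh.structureModule (Spec (CommRingCat.of R))))) := by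
    rw [ModuleCat.mono_iff_injective]
    intro a b hab
    apply hinj
    have hUV : U ≤ U.ι ''ᵁ (U.ι ⁻¹ᵁ ⊤) := by
      intro x hx
      exact ⟨⟨x, hx⟩, trivial, rfl⟩
    have hab' : (Spec (CommRingCat.of R)).presheaf.map (homOfLE (U.ι.image_preimage_le ⊤)).op a =
        (Spec (CommRingCat.of R)).presheaf.map (homOfLE (U.ι.image_preimage_le ⊤)).op b := hab
    have hab'' := congrArg ((Spec (CommRingCat.of R)).presheaf.map (homOfLE hUV).op) hab'
    have key : ∀ c : Γ(Spec (CommRingCat.of R), ⊤),
        (Spec (CommRingCat.of R)).presheaf.map (homOfLE hUV).op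
          ((Spec (CommRingCat.of R)).presheaf.map (homOfLE (U.ι.image_preimage_le ⊤)).op c) =
        (Spec (CommRingCat.of R)).presheaf.map (homOfLE (le_top : U ≤ ⊤)).op c := fun c => by
      rw [← CommRingCat.comp_apply, ← Functor.map_comp]; rfl
    rw [← key a, ← key b]
    exact hab''
  exact (cancel_mono _).1 h''


theorem two_le_depth_stalk (R : Type u) [CommRing R] [IsNoetherianRing R] [IsDomain R]
    [IsIntegrallyClosed R] (x : Spec (CommRingCat.of R))
    (hx : (2 : ℕ∞) ≤ (show PrimeSpectrum R from x).asIdeal.height) :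
    (2 : ℕ∞) ≤ LocCoh.depth ((Spec (CommRingCat.of R)).presheaf.stalk x)
      ((Spec (CommRingCat.of R)).presheaf.stalk x) := by
  let p : PrimeSpectrum R := x
  letI k : Algebra R ↑((Spec (CommRingCat.of R)).presheaf.stalk x) :=
    StructureSheaf.stalkAlgebra R p
  haveI : IsLocalization.AtPrime (↑((Spec (CommRingCat.of R)).presheaf.stalk x)) p.asIdeal :=
    StructureSheaf.IsLocalization.to_stalk R p
  haveI : IsDomain ↑((Spec (CommRingCat.of R)).presheaf.stalk x) :=
    IsLocalization.isDomain_of_le_nonZeroDivisors (M := p.asIdeal.primeCompl) _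
      p.asIdeal.primeCompl_le_nonZeroDivisors
  haveI : IsIntegrallyClosed ↑((Spec (CommRingCat.of R)).presheaf.stalk x) :=
    isIntegrallyClosed_of_isLocalization _ p.asIdeal.primeCompl
      p.asIdeal.primeCompl_le_nonZeroDivisors
  apply Groth.Agent.Lib.Helper28.two_le_depth_of_isIntegrallyClosed_of_two_le_dim
  rw [IsLocalization.AtPrime.ringKrullDim_eq_height p.asIdeal]
  have hx' : (2 : ℕ∞) ≤ p.asIdeal.height := hx
  exact WithBot.coe_le_coe.mpr hx'



/-- Let R be a Noetherian ring, Z = Spec R, M a finitely generated R-module with associated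
quasi-coherent sheaf M~ (so that Hom_R(M, R) = Hom_Z(M~, O_Z)), and Z₀ ⊆ Z an open subscheme. (1) If
the restriction of functions Γ(Z, O_Z) → Γ(Z₀, O_Z) is injective, then the restriction map Hom_Z(M~,
O_Z) → Hom_{Z₀}(M~|Z₀, O_{Z₀}) is injective. (2) If R is an integrally closed domain and the closed
complement of Z₀ has codimension at least 2 (every prime ideal outside Z₀ has height at least 2),
then that restriction map is bijective. (The published first assertion assumes only that Z₀ is
dense; for R = k[x,y]/(x², xy), M = R and Z₀ the locus y ≠ 0, which is dense, multiplication by x is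
a nonzero element of Hom_R(M, R) restricting to zero, so schematic density is what is needed and
what the printed argument uses. The published second assertion is for a normal irreducible affine
variety; any Noetherian integrally closed domain is allowed here.) -/
theorem result (R : Type u) [CommRing R] [IsNoetherianRing R]
    (M : ModuleCat.{u} (CommRingCat.of R)) [Module.Finite R M] (U : (Spec (CommRingCat.of R)).Opens) :
    (Function.Injective ((Spec (CommRingCat.of R)).presheaf.map (homOfLE (le_top : U ≤ ⊤)).op) →
      Function.Injective (fun φ : AlgebraicGeometry.tilde M ⟶ Coh.structureModule (Spec (CommRingCat.of R)) =>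
        (Scheme.Modules.restrictFunctor U.ι).map φ)) ∧
    (IsDomain R → IsIntegrallyClosed R → (∀ p : PrimeSpectrum R, p ∉ U → (2 : ℕ∞) ≤ p.asIdeal.height) →
      Function.Bijective (fun φ : AlgebraicGeometry.tilde M ⟶ Coh.structureModule (Spec (CommRingCat.of R)) =>
        (Scheme.Modules.restrictFunctor U.ι).map φ)) := by
  refine ⟨fun hinj => ?_, fun hD hN hU => ?_⟩
  · exact injective_map_of_comp_unit (Scheme.Modules.restrictAdjunction U.ι)
      (fun φ₁ φ₂ h => part1 R M U hinj φ₁ φ₂ h)
  · haveI := hD
    haveI := hN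
    haveI : IsIso ((Scheme.Modules.restrictAdjunction U.ι).unit.app
        (Coh.structureModule (Spec (CommRingCat.of R)))) :=
      Groth.Agent.Lib.Helper28.BigOpen.isIso_unit_of_isReflexiveAt _
        (Groth.Agent.Lib.Helper28.HomSh.isCoh_structureModule' _) U
        (fun x hx => two_le_depth_stalk R x (hU x hx))
        (fun x _ => Module.equiv (Groth.Agent.Lib.Helper23.UnitStalk.unitStalkEquiv x))
    exact bijective_map_of_isIso_unit (Scheme.Modules.restrictAdjunction U.ι)

end Groth.Agent.S17476
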