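import Groth.Statements.S1748
import Groth.Agent.Lib.Helper5PolyB

set_option autoImplicit false
universe u
open CategoryTheory
open scoped TensorProduct Polynomial
attribute [local instance] HasDerivedCategory.standard
open InjHull

namespace Groth.Agent.S1748

/-- Let A be a Noetherian ring and E an injective A-module. Then A[x] ⊗_A E, as an object of D(A[x]) in
degree 0, has injective amplitude in [0, 1]: it is quasi-isomorphic to a complex of injective
A[x]-modules concentrated in degrees 0 and 1. In particular it has finite injective dimension. -/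
theorem result (A : Type u) [CommRing A] [IsNoetherianRing A] (E : Type u) [AddCommGroup E] [Module A E] [Module.Injective A E] : DRing.HasInjAmplitudeIn A[X] 0 1 (Dual.inD A[X] (A[X] ⊗[A] E)) := by
  refine ((Groth.Agent.S6965.result A[X] _ 0 1).out 1 0).1 ?_
  intro N _ _ i hi
  let K : DRing.Cx A := (CochainComplex.singleFunctor (ModuleCat.{u} A) 0).obj (ModuleCat.of A E)
  have hv : DRing.VanishesOutside K 0 0 := by
    intro j hj
    show CategoryTheory.Limits.IsZero (((HomologicalComplex.single (ModuleCat.{u} A) (ComplexShape.up ℤ) 0).obj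
      (ModuleCat.of A E)).X j)
    exact HomologicalComplex.isZero_single_obj_X (ComplexShape.up ℤ) 0 _ j (by omega)
  have hi' : DRing.TermwiseInjective K := by
    intro j
    by_cases hj : j = 0
    · subst hj
      have e : (K.X 0) ≅ ModuleCat.of A E :=
        HomologicalComplex.singleObjXSelf (ComplexShape.up ℤ) 0 (ModuleCat.of A E)
      have hB : Module.Baer A E := Module.Baer.of_injective inferInstance
      exact (hB.of_equiv e.toLinearEquiv.symm).injective
    · have hz : CategoryTheory.Limits.IsZero (K.X j) := hv j (by omega)
      have hs : Subsingleton (K.X j) := ModuleCat.subsingleton_of_isZero hz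
      exact Module.Baer.injective (fun I g => ⟨0, fun x mem => Subsingleton.elim _ _⟩)
  have h1 := Groth.Agent.Lib.Helper5.Poly.vanish_extD K 0 0 hv hi' N i
    (hi.imp id (fun h => by omega))
  let e : Dual.inD A[X] (A[X] ⊗[A] E) ≅
      (Groth.Agent.Lib.Helper1.Extend.extD A A[X]).obj (DerivedCategory.Q.obj K) :=
    (Groth.Agent.Lib.Helper1.Extend.extDInDIso (A := A) (B := A[X]) E).symm ≪≫
      (Groth.Agent.Lib.Helper1.Extend.extD A A[X]).mapIso
        ((DerivedCategory.singleFunctorIsoCompQ (ModuleCat.{u} A) 0).app (ModuleCat.of A E))
  exact Groth.Agent.Lib.Helper5.HomBC.subsingleton_hom_of_isos (Iso.refl _)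
    ((shiftFunctor (Dual.D A[X]) i).mapIso e.symm) h1

end Groth.Agent.S1748
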