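import Groth.Statements.S18926
import Mathlib
import Groth.Agent.Lib.Helper17HHLes
import Groth.Agent.Lib.Helper12IdealDescent
import Groth.Agent.Lib.Helper20UnivSubBasic

set_option autoImplicit false
universe u
open FinCov

namespace Groth.Agent.S18926
open CategoryTheory CategoryTheory.Limits AlgebraicGeometry Opposite TopologicalSpace

theorem isClopen_basicOpen_of_idem {X : Scheme.{u}} (e : Γ(X, ⊤)) (he : e * (1 - e) = 0) :
    IsClopen (X.basicOpen e : Set X) := by
  refine ⟨?_, (X.basicOpen e).2⟩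
  have hcompl : ((X.basicOpen e : Set X))ᶜ = (X.basicOpen (1 - e) : Set X) := by
    ext x
    simp only [Set.mem_compl_iff, SetLike.mem_coe]
    rw [Scheme.mem_basicOpen _ _ _ (show x ∈ (⊤ : X.Opens) from trivial),
      Scheme.mem_basicOpen _ _ _ (show x ∈ (⊤ : X.Opens) from trivial)]
    set g := X.presheaf.germ ⊤ x trivial with hg
    have hmul : g.hom e * g.hom (1 - e) = 0 := by
      rw [← map_mul, he, map_zero]
    constructor
    · intro h
      have hsum : g.hom e + g.hom (1 - e) = 1 := by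
        rw [← map_add]; simp
      rcases IsLocalRing.isUnit_or_isUnit_of_add_one hsum with h' | h'
      · exact absurd h' h
      · exact h'
    · intro h h'
      have : IsUnit (g.hom e * g.hom (1 - e)) := h'.mul h
      rw [hmul] at this
      exact not_isUnit_zero this
  rw [← isOpen_compl_iff, hcompl]
  exact (X.basicOpen (1 - e)).2


theorem exists_idem_of_isClopen {X : Scheme.{u}} (s : Set X) (hs : IsClopen s) :
    ∃ e : Γ(X, ⊤), e * (1 - e) = 0 ∧ (X.basicOpen e : Set X) = s := by
  let U : X.Opens := ⟨s, hs.isOpen⟩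
  let V : X.Opens := ⟨sᶜ, hs.compl.isOpen⟩
  have hUV : U ⊓ V = ⊥ := by ext x; simp [U, V]
  have hsup : U ⊔ V = ⊤ := by ext x; simp [U, V]
  let P := X.sheaf.isProductOfDisjoint U V hUV
  let i : Γ(X, U ⊔ V) ≅ CommRingCat.of (Γ(X, U) × Γ(X, V)) :=
    P.conePointUniqueUpToIso (CommRingCat.prodFanIsLimit _ _)
  let e0 : Γ(X, U ⊔ V) := i.inv.hom (1, 0)
  have h1 : (X.presheaf.map (homOfLE (le_sup_left : U ≤ U ⊔ V)).op).hom e0 = 1 := by
    have := P.conePointUniqueUpToIso_inv_comp (CommRingCat.prodFanIsLimit _ _) ⟨WalkingPair.left⟩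
    have h := congr($(this).hom ((1, 0) : Γ(X, U) × Γ(X, V)))
    exact h
  have h2 : (X.presheaf.map (homOfLE (le_sup_right : V ≤ U ⊔ V)).op).hom e0 = 0 := by
    have := P.conePointUniqueUpToIso_inv_comp (CommRingCat.prodFanIsLimit _ _) ⟨WalkingPair.right⟩
    have h := congr($(this).hom ((1, 0) : Γ(X, U) × Γ(X, V)))
    exact h
  have h0 : e0 * (1 - e0) = 0 := by
    have hz : ((1 : Γ(X, U)), (0 : Γ(X, V))) * (1 - ((1 : Γ(X, U)), (0 : Γ(X, V)))) = 0 := by
      ext <;> simp
    calc e0 * (1 - e0) = i.inv.hom (((1 : Γ(X, U)), (0 : Γ(X, V))) * (1 - ((1 : Γ(X, U)), (0 : Γ(X, V))))) := by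
          rw [map_mul, map_sub, map_one]
      _ = 0 := by rw [hz, map_zero]
  let e : Γ(X, ⊤) := (X.presheaf.map (eqToHom hsup.symm).op).hom e0
  have he1 : (X.presheaf.map (homOfLE (le_top : U ≤ ⊤)).op).hom e = 1 := by
    rw [← h1]
    change ((X.presheaf.map (eqToHom hsup.symm).op) ≫ X.presheaf.map (homOfLE (le_top : U ≤ ⊤)).op).hom e0 = _
    rw [← Functor.map_comp]
    rfl
  have he2 : (X.presheaf.map (homOfLE (le_top : V ≤ ⊤)).op).hom e = 0 := by
    rw [← h2]
    change ((X.presheaf.map (eqToHom hsup.symm).op) ≫ X.presheaf.map (homOfLE (le_top : V ≤ ⊤)).op).hom e0 = _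
    rw [← Functor.map_comp]
    rfl
  refine ⟨e, ?_, ?_⟩
  · change (X.presheaf.map (eqToHom hsup.symm).op).hom e0 * (1 - (X.presheaf.map (eqToHom hsup.symm).op).hom e0) = 0
    rw [← map_one (X.presheaf.map (eqToHom hsup.symm).op).hom, ← map_sub, ← map_mul, h0, map_zero]
  · have hU : U ≤ X.basicOpen e := by
      have := X.basicOpen_res e (homOfLE (le_top : U ≤ ⊤)).op
      rw [he1, Scheme.basicOpen_of_isUnit _ isUnit_one] at this
      exact this ▸ inf_le_right
    have hV : V ⊓ X.basicOpen e = ⊥ := by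
      have := X.basicOpen_res e (homOfLE (le_top : V ≤ ⊤)).op
      rw [he2, Scheme.basicOpen_zero] at this
      exact this.symm
    apply le_antisymm
    · intro x hx
      by_contra hxs
      have : x ∈ (V ⊓ X.basicOpen e : X.Opens) := ⟨hxs, hx⟩
      rw [hV] at this
      exact this
    · exact hU

theorem connectedSpace_of_bijective_appTop {X Y : Scheme.{u}} (f : X ⟶ Y) [ConnectedSpace Y]
    [Surjective f] (hf : Function.Bijective f.appTop.hom) : ConnectedSpace X := by
  have : Nonempty X := by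
    obtain ⟨y⟩ := (inferInstance : Nonempty Y)
    obtain ⟨x, -⟩ := f.surjective y
    exact ⟨x⟩
  have : PreconnectedSpace X := by
    rw [preconnectedSpace_iff_clopen]
    intro s hs
    obtain ⟨e, he, hes⟩ := exists_idem_of_isClopen s hs
    obtain ⟨e', rfl⟩ := hf.2 e
    have he' : e' * (1 - e') = 0 := by
      apply hf.1
      rw [map_mul, map_sub, map_one, he, map_zero]
    have hcl := isClopen_basicOpen_of_idem e' he'
    have hpre : (X.basicOpen (f.appTop.hom e') : Set X) = f ⁻¹' (Y.basicOpen e' : Set Y) := by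
      have h1 : f ⁻¹ᵁ (Y.basicOpen e') = X.basicOpen (f.appTop.hom e') := Scheme.preimage_basicOpen f e'
      rw [← h1]
      rfl
    rw [← hes, hpre]
    rcases isClopen_iff.mp hcl with h | h
    · left; rw [h]; rfl
    · right; rw [h]; rfl
  exact ConnectedSpace.mk (toNonempty := inferInstance)


theorem appLE_top {X Y : Scheme.{u}} (f : X ⟶ Y) (h : (⊤ : X.Opens) ≤ f ⁻¹ᵁ ⊤) :
    f.appLE ⊤ ⊤ h = f.appTop := by
  simp [Scheme.Hom.appLE]

theorem isIso_appTop_baseChange {X Y S T : Scheme.{u}} [IsAffine S] [IsAffine T]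
    [CompactSpace X] [QuasiSeparatedSpace X] [CompactSpace Y] [QuasiSeparatedSpace Y]
    (ρ : X ⟶ Y) (iY : Y ⟶ S) (f : T ⟶ S) [Flat f] [IsIso ρ.appTop] :
    IsIso (pullback.map (ρ ≫ iY) f iY f ρ (𝟙 T) (𝟙 S) (by simp) (by simp)).appTop := by
  set ρ' := pullback.map (ρ ≫ iY) f iY f ρ (𝟙 T) (𝟙 S) (by simp) (by simp) with hρ'
  have HX := IsPullback.of_hasPullback (ρ ≫ iY) f
  have HY := IsPullback.of_hasPullback iY f
  have hT : (⊤ : T.Opens) ≤ f ⁻¹ᵁ (⊤ : S.Opens) := le_top
  have hXS : (⊤ : X.Opens) ≤ (ρ ≫ iY) ⁻¹ᵁ (⊤ : S.Opens) := le_top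
  have hYS : (⊤ : Y.Opens) ≤ iY ⁻¹ᵁ (⊤ : S.Opens) := le_top
  have hUX : (⊤ : (pullback (ρ ≫ iY) f).Opens) =
      pullback.fst (ρ ≫ iY) f ⁻¹ᵁ (⊤ : X.Opens) ⊓ pullback.snd (ρ ≫ iY) f ⁻¹ᵁ (⊤ : T.Opens) := by
    simp
  have hUY : (⊤ : (pullback iY f).Opens) =
      pullback.fst iY f ⁻¹ᵁ (⊤ : Y.Opens) ⊓ pullback.snd iY f ⁻¹ᵁ (⊤ : T.Opens) := by
    simp
  have i1 : IsIso (pushoutSection HX hT hXS hUX) :=
    isIso_pushoutSection_of_isQuasiSeparated_of_flat_right HX hT hXS hUX (isAffineOpen_top S)
      (isAffineOpen_top T) isCompact_univ isQuasiSeparated_univ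
  have i2 : IsIso (pushoutSection HY hT hYS hUY) :=
    isIso_pushoutSection_of_isQuasiSeparated_of_flat_right HY hT hYS hUY (isAffineOpen_top S)
      (isAffineOpen_top T) isCompact_univ isQuasiSeparated_univ
  let m : pushout (iY.appLE ⊤ ⊤ hYS) (f.appLE ⊤ ⊤ hT) ⟶
      pushout ((ρ ≫ iY).appLE ⊤ ⊤ hXS) (f.appLE ⊤ ⊤ hT) :=
    pushout.map _ _ _ _ ρ.appTop (𝟙 _) (𝟙 _)
      (by rw [Category.id_comp, appLE_top, appLE_top, Scheme.Hom.comp_appTop]) (by simp)
  have hm : IsIso m := by
    dsimp only [m]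
    infer_instance
  have hcomm : pushoutSection HY hT hYS hUY ≫ ρ'.appTop = m ≫ pushoutSection HX hT hXS hUX := by
    apply pushout.hom_ext
    · simp only [m, pushout.inl_desc_assoc, pushout.inl_desc, pushout.map, Category.assoc]
      rw [appLE_top, appLE_top, ← Scheme.Hom.comp_appTop, ← Scheme.Hom.comp_appTop]
      congr 1
      exact pullback.lift_fst _ _ _
    · simp only [m, pushout.inr_desc_assoc, pushout.inr_desc, pushout.map, Category.assoc]
      rw [appLE_top, appLE_top, ← Scheme.Hom.comp_appTop, Category.id_comp]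
      congr 1
      exact (pullback.lift_snd _ _ _).trans (Category.comp_id _)
  have h3 : IsIso (pushoutSection HY hT hYS hUY ≫ ρ'.appTop) := by
    rw [hcomm]; infer_instance
  exact IsIso.of_isIso_comp_left (pushoutSection HY hT hYS hUY) ρ'.appTop


theorem mono_unitToPush {X Y : Scheme.{u}} (ρ : X ⟶ Y)
    (hinj : ∀ U : Y.Opens, Function.Injective (ρ.app U).hom) : Mono (ClSub.unitToPush ρ) := by
  apply (SheafOfModules.toSheaf Y.ringCatSheaf).mono_of_mono_map
  apply (sheafToPresheaf _ _).mono_of_mono_map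
  apply (config := { allowSynthFailures := true }) NatTrans.mono_of_mono_app
  intro U
  rw [AddCommGrpCat.mono_iff_injective]
  exact hinj U.unop

theorem surjective_appTop_of_h0 {X Y : Scheme.{u}} (ρ : X ⟶ Y)
    (hinj : ∀ U : Y.Opens, Function.Injective (ρ.app U).hom)
    (h0 : Subsingleton (Coh.HH Y (cokernel (ClSub.unitToPush ρ)) 0)) :
    Function.Surjective ρ.appTop.hom := by
  have hmono : Mono (ClSub.unitToPush ρ) := mono_unitToPush ρ hinj
  let S : ShortComplex Y.Modules :=
    ShortComplex.mk (ClSub.unitToPush ρ) (cokernel.π _) (cokernel.condition _)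
  have hS : S.ShortExact :=
    { exact := ShortComplex.exact_cokernel _, mono_f := hmono, epi_g := inferInstanceAs (Epi (cokernel.π _)) }
  intro s
  let x : Coh.HH Y ((Scheme.Modules.pushforward ρ).obj (Coh.structureModule X)) 0 :=
    (Sheaf.H.equiv₀ _ isTerminalTop).symm s
  obtain ⟨y, hy⟩ := Groth.Agent.Lib.Helper17.HHLes.exact₂ S hS 0 x (Subsingleton.elim _ _)
  refine ⟨Sheaf.H.equiv₀ _ isTerminalTop y, ?_⟩
  have hnat := Sheaf.H.equiv₀_naturality (hT := isTerminalTop)
    (f := (SheafOfModules.toSheaf Y.ringCatSheaf).map (ClSub.unitToPush ρ)) y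
  have hy' : Sheaf.H.map ((SheafOfModules.toSheaf Y.ringCatSheaf).map (ClSub.unitToPush ρ)) 0 y = x := hy
  rw [hy'] at hnat
  simp only [x, AddEquiv.apply_symm_apply] at hnat
  exact hnat



open CategoryTheory CategoryTheory.Limits AlgebraicGeometry in
/-- Let k be a field, Y a proper, geometrically connected and geometrically reduced scheme over k, and ρ
: X ⟶ Y a finite, flat and surjective morphism. If the zeroth cohomology group of the cokernel of
the O_Y-module map O_Y ⟶ ρ_* O_X has at most one element, then X is geometrically connected over k.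
(The published statement assumes Y projective and takes for X one of the finite locally free
Gorenstein covers of degree 3, 4 or 5 that it constructs, with the cokernel identified with a dual
vector bundle; this row assumes only that ρ is finite, flat and surjective and that Y is proper.) -/
theorem result
    (k : Type u) [Field k] (X Y : Scheme.{u}) (g : Y ⟶ Spec (CommRingCat.of k)) (ρ : X ⟶ Y)
    [IsProper g] [GeometricallyConnected g] [GeometricallyReduced g]
    [IsFinite ρ] [Flat ρ] [Surjective ρ]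
    (h0 : Subsingleton (Coh.HH Y (cokernel (ClSub.unitToPush ρ)) 0)) :
    GeometricallyConnected (ρ ≫ g) := by
  haveI : IsSchemeTheoreticallyDominant ρ :=
    Groth.Agent.Lib.Helper12.isSchemeTheoreticallyDominant_of_flat_of_surjective ρ
  have hinj : ∀ U : Y.Opens, Function.Injective (ρ.app U).hom := fun U => ρ.app_injective U
  have hsurj := surjective_appTop_of_h0 ρ hinj h0
  haveI : IsIso ρ.appTop := (ConcreteCategory.isIso_iff_bijective _).mpr ⟨hinj ⊤, hsurj⟩
  haveI : CompactSpace Y := (quasiCompact_iff_compactSpace g).mp inferInstance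
  haveI : QuasiSeparatedSpace Y := (quasiSeparated_iff_quasiSeparatedSpace g).mp inferInstance
  haveI : CompactSpace X := (quasiCompact_iff_compactSpace (ρ ≫ g)).mp inferInstance
  haveI : QuasiSeparatedSpace X := (quasiSeparated_iff_quasiSeparatedSpace (ρ ≫ g)).mp inferInstance
  rw [geometricallyConnected_iff, geometrically_iff_of_isClosedUnderIsomorphisms]
  intro K _ y
  haveI : Flat y := Groth.Agent.Lib.Helper20.UnivSub.flat_of_field k y
  have hiso := isIso_appTop_baseChange ρ g y
  haveI : ConnectedSpace ↥(pullback g y : Scheme.{u}) :=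
    pullback_of_geometrically (GeometricallyConnected.geometrically_connectedSpace) K y
  have hpb : IsPullback (pullback.map (ρ ≫ g) y g y ρ (𝟙 _) (𝟙 _) (by simp) (by simp))
      (pullback.fst (ρ ≫ g) y) (pullback.fst g y) ρ := by
    refine IsPullback.of_right (h₁₂ := pullback.snd g y) (h₂₂ := g) (v₁₃ := y) ?_ ?_ ?_
    · have := (IsPullback.of_hasPullback (ρ ≫ g) y).flip
      convert this using 1
      exact (pullback.lift_snd _ _ _).trans (Category.comp_id _)
    · exact pullback.lift_fst _ _ _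
    · exact (IsPullback.of_hasPullback g y).flip
  haveI : Surjective (pullback.map (ρ ≫ g) y g y ρ (𝟙 _) (𝟙 _) (by simp) (by simp)) :=
    MorphismProperty.of_isPullback hpb.flip inferInstance
  exact connectedSpace_of_bijective_appTop _ ((ConcreteCategory.isIso_iff_bijective _).mp hiso)

end Groth.Agent.S18926
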