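import Groth.Statements.S17482
import Mathlib
import Groth.Agent.S18926
import Groth.Agent.Lib.Helper21ExtCartier2
import Groth.Agent.Lib.Helper27ProjSpaceFibres
import Groth.Agent.Lib.Helper17HHLes

set_option autoImplicit false
universe u
open CategoryTheory CategoryTheory.Limits AlgebraicGeometry
open Surf

namespace Groth.Agent.S17482
open CategoryTheory CategoryTheory.Limits AlgebraicGeometry Opposite

/-- a nonempty scheme whose ring of global sections is a quotient of a field is connected. -/
theorem connectedSpace_of_surjective_of_isField {Z : Scheme.{u}} [Nonempty Z] {R : Type*}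
    [CommRing R] (hR : IsField R) (φ : R →+* Γ(Z, ⊤)) (hφ : Function.Surjective φ) :
    ConnectedSpace Z := by
  haveI : Nonempty (⊤ : Z.Opens) := ⟨⟨Classical.arbitrary Z, trivial⟩⟩
  have : PreconnectedSpace Z := by
    rw [preconnectedSpace_iff_clopen]
    intro s hs
    obtain ⟨e, he, hes⟩ := Groth.Agent.S18926.exists_idem_of_isClopen s hs
    obtain ⟨a, rfl⟩ := hφ e
    letI := hR.toField
    by_cases ha : a * (1 - a) = 0
    · rcases mul_eq_zero.mp ha with h | h
      · left
        rw [← hes, h, map_zero, Scheme.basicOpen_zero]
        rfl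
      · right
        have h1 : a = 1 := (sub_eq_zero.mp h).symm
        rw [← hes, h1, map_one, Scheme.basicOpen_of_isUnit _ isUnit_one]
        rfl
    · exfalso
      have hu : IsUnit (a * (1 - a)) := IsUnit.mk0 _ ha
      have h1 : φ (a * (1 - a)) = 0 := by
        rw [map_mul, map_sub, map_one]; exact he
      have h2 : IsUnit (0 : Γ(Z, ⊤)) := h1 ▸ hu.map φ
      exact not_isUnit_zero h2
  exact ConnectedSpace.mk (toNonempty := inferInstance)


/-- Let k be an algebraically closed field of characteristic zero and X a smooth projective surface over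
k (an integral scheme of dimension two with all local rings regular, admitting a closed immersion
into some P^n_k over k) such that H^1(X, O_X) = 0. Let D be a nonempty closed subscheme of X, given
by a quasi-coherent ideal sheaf whose associated O_X-module I_D is invertible (a nonzero effective
divisor). If H^1(X, I_D) = 0, then D is connected. (The published statement is for rational
surfaces; this row assumes only H^1(X, O_X) = 0. Since H^1(X, I_D) depends only on the isomorphism
class of I_D, the same holds for every effective divisor linearly equivalent to D.) -/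
theorem result
    (k : Type u) [Field k] [IsAlgClosed k] [CharZero k]
    (X : Scheme.{u}) [X.Over (Spec (CommRingCat.of k))] [AlgebraicGeometry.IsIntegral X]
    (hdim : topologicalKrullDim X = 2) (hreg : ∀ x : X, IsRegularLocalRing (X.presheaf.stalk x))
    (hproj : ∃ (n : ℕ) (ι : X ⟶ CohB1.ProjSpace n k), IsClosedImmersion ι ∧
      ι ≫ CohB1.ProjSpace.toSpec n k = (X ↘ (Spec (CommRingCat.of k))))
    (hH1 : Subsingleton (Coh.HH X (Coh.structureModule X) 1))
    (D : X.IdealSheafData) (hD : PicF.IsInvertible (ClSub.idealMod D)) (hne : Nonempty ↥D.subscheme)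
    (hvan : Subsingleton (Coh.HH X (ClSub.idealMod D) 1)) :
    ConnectedSpace ↥D.subscheme := by
  obtain ⟨n, ι, hι, hιk⟩ := hproj
  haveI := hι
  haveI : IsProper (X ↘ Spec (CommRingCat.of k)) := by
    rw [← hιk]
    haveI := Groth.Agent.Lib.Helper27ProjSpaceFibres.isProper_projSpace_toSpec n k
    infer_instance
  have hfield : IsField Γ(X, ⊤) := isField_of_universallyClosed k (X ↘ Spec (CommRingCat.of k))
  have hS := Groth.Agent.Lib.Helper21.ExtCartier.idealSES_shortExact D
  have hsurj : Function.Surjective (D.subschemeι.appTop).hom := by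
    intro s
    let x : Coh.HH X (ClSub.quotMod D) 0 := (Sheaf.H.equiv₀ _ isTerminalTop).symm s
    have hvan' : Subsingleton (Coh.HH X (Groth.Agent.Lib.Helper21.ExtCartier.idealSES D).X₁ (0 + 1)) :=
      hvan
    obtain ⟨y, hy⟩ := Groth.Agent.Lib.Helper17.HHLes.exact₃
      (Groth.Agent.Lib.Helper21.ExtCartier.idealSES D) hS 0 x (hvan'.elim _ _)
    refine ⟨Sheaf.H.equiv₀ _ isTerminalTop y, ?_⟩
    have hnat := Sheaf.H.equiv₀_naturality (hT := isTerminalTop)
      (f := (SheafOfModules.toSheaf X.ringCatSheaf).map (ClSub.toSubscheme D)) y
    have hy' : Sheaf.H.map ((SheafOfModules.toSheaf X.ringCatSheaf).map (ClSub.toSubscheme D)) 0 y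
        = x := hy
    rw [hy'] at hnat
    simp only [x, AddEquiv.apply_symm_apply] at hnat
    exact hnat
  exact connectedSpace_of_surjective_of_isField hfield _ hsurj

end Groth.Agent.S17482
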