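import Groth.Statements.S17483
import Mathlib
import Groth.Agent.S18926
import Groth.Agent.Lib.Helper21ExtCartier2
import Groth.Agent.Lib.Helper27ProjSpaceFibres
import Groth.Agent.Lib.Helper17HHLes

set_option autoImplicit false
universe u
open CategoryTheory CategoryTheory.Limits AlgebraicGeometry
open Surf

namespace Groth.Agent.S17483
open Polynomial CategoryTheory CategoryTheory.Limits AlgebraicGeometry Opposite

/-- a reduced nontrivial ring, integral over an algebraically closed field, with only trivial
idempotents, is the field itself. -/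
theorem algebraMap_surjective_of_integral_of_idem {k R : Type*} [Field k] [IsAlgClosed k]
    [CommRing R] [Algebra k R] [IsReduced R] [Nontrivial R]
    (hint : Algebra.IsIntegral k R)
    (hidem : ∀ e : R, e * (1 - e) = 0 → e = 0 ∨ e = 1) :
    Function.Surjective (algebraMap k R) := by
  intro s
  have hs : IsIntegral k s := hint.isIntegral s
  set p := minpoly k s with hp
  have hmonic : p.Monic := minpoly.monic hs
  have hdeg : 0 < p.degree := minpoly.degree_pos hs
  obtain ⟨a, ha⟩ := IsAlgClosed.exists_root p hdeg.ne'
  refine ⟨a, ?_⟩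
  set q := p /ₘ (X - C a) with hq
  have hpq : (X - C a) * q = p := mul_divByMonic_eq_iff_isRoot.mpr ha
  have hqmonic : q.Monic := by
    have h1 : (X - C a).Monic := monic_X_sub_C a
    exact (Monic.of_mul_monic_left h1 (hpq ▸ hmonic))
  have hqdeg : q.degree < p.degree := by
    apply degree_lt_degree
    rw [← hpq, (monic_X_sub_C a).natDegree_mul hqmonic, natDegree_X_sub_C]
    omega
  have hqs : aeval s q ≠ 0 := fun h => by
    have := minpoly.min k s hqmonic h
    exact absurd hqdeg (not_lt.mpr this)
  have huv : (s - algebraMap k R a) * aeval s q = 0 := by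
    have := minpoly.aeval k s
    rw [← hp, ← hpq, map_mul, map_sub, aeval_X, aeval_C] at this
    exact this
  by_cases hqa : q.IsRoot a
  · -- double root: contradiction with minimality
    exfalso
    set q' := q /ₘ (X - C a) with hq'
    have hqq' : (X - C a) * q' = q := mul_divByMonic_eq_iff_isRoot.mpr hqa
    have h1 : ((s - algebraMap k R a) * aeval s q') ^ 2 = 0 := by
      have : aeval s q = (s - algebraMap k R a) * aeval s q' := by
        rw [← hqq', map_mul, map_sub, aeval_X, aeval_C]
      rw [this] at huv
      rw [pow_two]
      calc (s - algebraMap k R a) * aeval s q' * ((s - algebraMap k R a) * aeval s q')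
          = ((s - algebraMap k R a) * ((s - algebraMap k R a) * aeval s q')) * aeval s q' := by ring
        _ = 0 := by rw [huv, zero_mul]
    have h2 : (s - algebraMap k R a) * aeval s q' = 0 := by
      exact pow_eq_zero_iff (two_ne_zero) |>.mp h1
    apply hqs
    rw [← hqq', map_mul, map_sub, aeval_X, aeval_C]
    exact h2
  · -- coprime case
    have hcop : IsCoprime (X - C a) q :=
      (irreducible_X_sub_C a).coprime_iff_not_dvd.mpr (fun h => hqa (dvd_iff_isRoot.mp h))
    obtain ⟨α, β, hαβ⟩ := hcop
    set u := s - algebraMap k R a with hu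
    set v := aeval s q with hv
    have h1 : aeval s α * u + aeval s β * v = 1 := by
      have := congrArg (aeval s) hαβ
      rw [map_add, map_mul, map_mul, map_sub, aeval_X, aeval_C, map_one] at this
      exact this
    set e := aeval s β * v with he
    have he1 : 1 - e = aeval s α * u := by rw [← h1]; ring
    have hee : e * (1 - e) = 0 := by
      rw [he1, he]
      calc aeval s β * v * (aeval s α * u) = aeval s β * aeval s α * (u * v) := by ring
        _ = 0 := by rw [huv, mul_zero]
    rcases hidem e hee with h0 | h1'
    · -- e = 0: u is a unit, so v = 0, contradiction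
      exfalso
      apply hqs
      have hu1 : aeval s α * u = 1 := by rw [← he1, h0, sub_zero]
      calc v = (aeval s α * u) * v := by rw [hu1, one_mul]
        _ = aeval s α * (u * v) := by ring
        _ = 0 := by rw [huv, mul_zero]
    · -- e = 1: u = u * e = 0
      have : u = 0 := by
        calc u = u * e := by rw [h1', mul_one]
          _ = aeval s β * (u * v) := by rw [he]; ring
          _ = 0 := by rw [huv, mul_zero]
      exact (sub_eq_zero.mp this).symm

theorem idem_trivial_of_connected_reduced {Z : Scheme.{u}} [ConnectedSpace Z]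
    [AlgebraicGeometry.IsReduced Z] (e : Γ(Z, ⊤)) (he : e * (1 - e) = 0) : e = 0 ∨ e = 1 := by
  have hcl := Groth.Agent.S18926.isClopen_basicOpen_of_idem e he
  rcases isClopen_iff.mp hcl with h | h
  · left
    exact (basicOpen_eq_bot_iff e).mp (TopologicalSpace.Opens.ext h)
  · right
    have h1 : Z.basicOpen (1 - e) = ⊥ := by
      have h2 := Z.basicOpen_mul e (1 - e)
      rw [he, Scheme.basicOpen_zero] at h2
      have h3 : Z.basicOpen e = ⊤ := TopologicalSpace.Opens.ext h
      rw [h3, top_inf_eq] at h2
      exact h2.symm
    have h4 := (basicOpen_eq_bot_iff (1 - e)).mp h1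
    exact (sub_eq_zero.mp h4).symm

theorem appTop_surjective_of_connected_reduced (k : Type u) [Field k] [IsAlgClosed k]
    {Z : Scheme.{u}} (p : Z ⟶ Spec (CommRingCat.of k)) [UniversallyClosed p] [ConnectedSpace Z]
    [AlgebraicGeometry.IsReduced Z] :
    Function.Surjective ((Scheme.ΓSpecIso (CommRingCat.of k)).inv ≫ p.appTop).hom := by
  haveI : Nonempty (⊤ : Z.Opens) := ⟨⟨Classical.arbitrary Z, trivial⟩⟩
  let F := (Scheme.ΓSpecIso (CommRingCat.of k)).inv ≫ p.appTop
  have hF : F.hom.IsIntegral := by
    apply RingHom.isIntegral_respectsIso.2 (e := (Scheme.ΓSpecIso _).symm.commRingCatIsoToRingEquiv)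
    exact isIntegral_appTop_of_universallyClosed p
  algebraize [F.hom]
  have hint : Algebra.IsIntegral k Γ(Z, ⊤) := ⟨hF⟩
  exact algebraMap_surjective_of_integral_of_idem hint idem_trivial_of_connected_reduced



/-- Let k be an algebraically closed field of characteristic zero and X a smooth projective surface over
k (an integral scheme of dimension two with all local rings regular, admitting a closed immersion
into some P^n_k over k) such that H^1(X, O_X) = 0. Let D be a closed subscheme of X, given by a
quasi-coherent ideal sheaf whose associated O_X-module I_D is invertible (an effective divisor). If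
D is connected and reduced, then H^1(X, I_D) = 0. (The published statement asserts H^1(X, I_D) = 0
as soon as the linear system of D contains a connected curve, without reducedness; that fails: on
the blow-up of the projective plane at a point, with exceptional curve E, the divisor D = 2E is
connected and is the only member of its linear system, yet H^0(O_{2E}) is three-dimensional, so
H^1(X, I_{2E}) is two-dimensional. The published statement is for rational surfaces; this row
assumes H^1(X, O_X) = 0 instead.) -/
theorem result
    (k : Type u) [Field k] [IsAlgClosed k] [CharZero k]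
    (X : Scheme.{u}) [X.Over (Spec (CommRingCat.of k))] [AlgebraicGeometry.IsIntegral X]
    (hdim : topologicalKrullDim X = 2) (hreg : ∀ x : X, IsRegularLocalRing (X.presheaf.stalk x))
    (hproj : ∃ (n : ℕ) (ι : X ⟶ CohB1.ProjSpace n k), IsClosedImmersion ι ∧
      ι ≫ CohB1.ProjSpace.toSpec n k = (X ↘ (Spec (CommRingCat.of k))))
    (hH1 : Subsingleton (Coh.HH X (Coh.structureModule X) 1))
    (D : X.IdealSheafData) (hD : PicF.IsInvertible (ClSub.idealMod D))
    [ConnectedSpace ↥D.subscheme] [IsReduced D.subscheme] :
    Subsingleton (Coh.HH X (ClSub.idealMod D) 1) := by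
  obtain ⟨n, ι, hι, hιk⟩ := hproj
  haveI := hι
  haveI : IsProper (X ↘ Spec (CommRingCat.of k)) := by
    rw [← hιk]
    haveI := Groth.Agent.Lib.Helper27ProjSpaceFibres.isProper_projSpace_toSpec n k
    infer_instance
  have hsurjk := appTop_surjective_of_connected_reduced k
    (D.subschemeι ≫ (X ↘ Spec (CommRingCat.of k)))
  have hsurj : Function.Surjective (D.subschemeι.appTop).hom := by
    intro s
    obtain ⟨c, hc⟩ := hsurjk s
    refine ⟨((Scheme.ΓSpecIso (CommRingCat.of k)).inv ≫
      (X ↘ Spec (CommRingCat.of k)).appTop).hom c, ?_⟩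
    rw [← hc, Scheme.Hom.comp_appTop]
    rfl
  have hS := Groth.Agent.Lib.Helper21.ExtCartier.idealSES_shortExact D
  refine subsingleton_of_forall_eq 0 fun z => ?_
  have hH1' : Subsingleton (Coh.HH X (Groth.Agent.Lib.Helper21.ExtCartier.idealSES D).X₂ (0 + 1)) :=
    hH1
  obtain ⟨y, hy⟩ := Groth.Agent.Lib.Helper17.HHLes.exact₁
    (Groth.Agent.Lib.Helper21.ExtCartier.idealSES D) hS 0 z (hH1'.elim _ _)
  -- y comes from H⁰(O_X)
  obtain ⟨w, hw⟩ : ∃ w, Groth.Agent.Lib.Helper17.HHLes.Hm
      (Groth.Agent.Lib.Helper21.ExtCartier.idealSES D).g 0 w = y := by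
    obtain ⟨t, ht⟩ := hsurj (Sheaf.H.equiv₀ _ isTerminalTop y)
    refine ⟨(Sheaf.H.equiv₀ _ isTerminalTop).symm t, ?_⟩
    have hnat := Sheaf.H.equiv₀_symm_naturality (hT := isTerminalTop)
      (f := (SheafOfModules.toSheaf X.ringCatSheaf).map (ClSub.toSubscheme D)) t
    refine hnat.trans ?_
    apply (Sheaf.H.equiv₀ _ isTerminalTop).injective
    rw [AddEquiv.apply_symm_apply]
    exact ht
  rw [← hy, ← hw]
  exact Groth.Agent.Lib.Helper17.HHLes.delta_Hm_g _ hS 0 w

end Groth.Agent.S17483
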