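import Groth.Statements.S17487
-- import your own Groth.Agent.* helpers here
import Mathlib

set_option autoImplicit false
universe u
open CategoryTheory CategoryTheory.Limits AlgebraicGeometry
open Coherent

namespace Groth.Agent.S17487

section Helpers
universe w v' u'
open Abelian

variable {C : Type u'} [Category.{v'} C] [Abelian C] [HasExt.{w} C]

theorem subsingleton_ext_sigma_left {m : ℕ} (f : Fin m → C) (Y : C) (p : ℕ)
    (h : ∀ t, Subsingleton (Ext (f t) Y p)) : Subsingleton (Ext (∐ f) Y p) := by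
  have hc : (Bicone.ofColimitCocone (colimit.isColimit (Discrete.functor f))).IsBilimit :=
    biconeIsBilimitOfColimitCoconeOfIsColimit _
  exact (Ext.biproductAddEquiv hc Y p).toEquiv.subsingleton

theorem subsingleton_ext_sigma_right {m : ℕ} (f : Fin m → C) (X : C) (p : ℕ)
    (h : ∀ t, Subsingleton (Ext X (f t) p)) : Subsingleton (Ext X (∐ f) p) := by
  have hc : (Bicone.ofColimitCocone (colimit.isColimit (Discrete.functor f))).IsBilimit :=
    biconeIsBilimitOfColimitCoconeOfIsColimit _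
  exact (Ext.addEquivBiproduct X hc p).toEquiv.subsingleton

theorem subsingleton_ext_of_iso_left {A B : C} (e : A ≅ B) (Y : C) (p : ℕ)
    (h : Subsingleton (Ext B Y p)) : Subsingleton (Ext A Y p) := by
  refine ⟨fun x y => ?_⟩
  have key : ∀ z : Ext A Y p, z = (Ext.mk₀ e.hom).comp ((Ext.mk₀ e.inv).comp z (zero_add p))
      (zero_add p) := by
    intro z
    rw [Ext.mk₀_comp_mk₀_assoc, e.hom_inv_id, Ext.mk₀_id_comp]
  rw [key x, key y, Subsingleton.elim ((Ext.mk₀ e.inv).comp x (zero_add p))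
    ((Ext.mk₀ e.inv).comp y (zero_add p))]

theorem subsingleton_ext_of_iso_right {A B : C} (e : A ≅ B) (X : C) (p : ℕ)
    (h : Subsingleton (Ext X B p)) : Subsingleton (Ext X A p) := by
  refine ⟨fun x y => ?_⟩
  have key : ∀ z : Ext X A p, z = ((z.comp (Ext.mk₀ e.hom) (add_zero p)).comp (Ext.mk₀ e.inv)
      (add_zero p)) := by
    intro z
    rw [Ext.comp_assoc_of_second_deg_zero, Ext.mk₀_comp_mk₀, e.hom_inv_id, Ext.comp_mk₀_id]
  rw [key x, key y, Subsingleton.elim (x.comp (Ext.mk₀ e.hom) (add_zero p))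
    (y.comp (Ext.mk₀ e.hom) (add_zero p))]

theorem aux_gen (n d : ℕ) (E : Fin n → C)
    (hexc : ∀ i j : Fin n, j < i → ∀ p : ℕ, Subsingleton (Ext (E i) (E j) p))
    (hstr : ∀ (i j : Fin n) (p : ℕ), 1 ≤ p → Subsingleton (Ext (E i) (E j) p))
    (S : ShortComplex C) (hS : S.ShortExact)
    (m₁ : ℕ) (c₁ : Fin m₁ → Fin n) (hc₁ : ∀ t, (c₁ t : ℕ) < d) (e₁ : S.X₁ ≅ ∐ fun t => E (c₁ t))
    (m₂ : ℕ) (c₂ : Fin m₂ → Fin n) (hc₂ : ∀ t, d ≤ (c₂ t : ℕ)) (e₂ : S.X₂ ≅ ∐ fun t => E (c₂ t)) :
    (∀ (i : Fin n) (p : ℕ), 1 ≤ p → Subsingleton (Ext (E i) S.X₃ p)) ∧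
      (∀ i : Fin n, (i : ℕ) < d → ∀ p : ℕ, p ≠ 1 → Subsingleton (Ext S.X₃ (E i) p)) := by
  constructor
  · intro i p hp
    have h1 : Subsingleton (Ext (E i) S.X₁ (p + 1)) :=
      subsingleton_ext_of_iso_right e₁ _ _
        (subsingleton_ext_sigma_right _ _ _ (fun t => hstr _ _ _ (by omega)))
    have h2 : Subsingleton (Ext (E i) S.X₂ p) :=
      subsingleton_ext_of_iso_right e₂ _ _
        (subsingleton_ext_sigma_right _ _ _ (fun t => hstr _ _ _ hp))
    refine ⟨fun x y => ?_⟩
    obtain ⟨x₂, hx₂⟩ := Ext.covariant_sequence_exact₃ (E i) hS x rfl (Subsingleton.elim _ _)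
    obtain ⟨y₂, hy₂⟩ := Ext.covariant_sequence_exact₃ (E i) hS y rfl (Subsingleton.elim _ _)
    rw [← hx₂, ← hy₂, Subsingleton.elim x₂ y₂]
  · intro i hi p hp
    have h2 : ∀ q, Subsingleton (Ext S.X₂ (E i) q) := fun q =>
      subsingleton_ext_of_iso_left e₂ _ _
        (subsingleton_ext_sigma_left _ _ _ (fun t => hexc _ _ (by
          rw [Fin.lt_def]; have := hc₂ t; omega) q))
    refine ⟨fun x y => ?_⟩
    rcases Nat.eq_zero_or_pos p with rfl | hp0
    · haveI : Epi S.g := hS.epi_g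
      apply Ext.precomp_mk₀_injective_of_epi (E i) S.g
      exact Subsingleton.elim _ _
    · obtain ⟨q, rfl⟩ : ∃ q, p = 1 + q := ⟨p - 1, by omega⟩
      have hq : 1 ≤ q := by omega
      have h1 : Subsingleton (Ext S.X₁ (E i) q) :=
        subsingleton_ext_of_iso_left e₁ _ _
          (subsingleton_ext_sigma_left _ _ _ (fun t => hstr _ _ _ hq))
      obtain ⟨x₁, hx₁⟩ := Ext.contravariant_sequence_exact₃ hS (E i) x (Subsingleton.elim _ _) rfl
      obtain ⟨y₁, hy₁⟩ := Ext.contravariant_sequence_exact₃ hS (E i) y (Subsingleton.elim _ _) rfl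
      rw [← hx₁, ← hy₁, Subsingleton.elim x₁ y₁]

end Helpers

/-- Let k be an algebraically closed field of characteristic zero and Y a smooth projective variety over
k (an integral scheme, smooth over k, with a closed immersion into some P^n_k over k). Let E_1, …,
E_n be coherent O_Y-modules forming a strong exceptional sequence, expressed through Ext groups in
the category of O_Y-modules (the Ext instance is the stated hypothesis; it holds): End(E_i) is
one-dimensional over k, Ext^p(E_i, E_j) = 0 for all p when i > j, and Ext^p(E_i, E_j) = 0 for all i,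
j when p ≥ 1 (indices here run over 0, …, n-1). Let d ≤ n and let 0 → K → M → F → 0 be a short exact
sequence of O_Y-modules in which K is isomorphic to a finite direct sum of copies of members E_i
with i < d and M to a finite direct sum of copies of members E_i with i ≥ d (a two-term resolution
of F by the sequence, split at d). Then Ext^p(E_i, F) = 0 for every i and every p ≥ 1, and Ext^p(F,
E_i) = 0 for every i < d and every p ≠ 1. (The published criterion also asks that the sequence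
generate the derived category, states the first vanishing only for i ≥ d, and adds conditions on
terms of the associated filtration and cofiltration of F, which are not restated here; the
vanishings above follow from the resolution alone.) -/
theorem result
    (k : Type u) [Field k] [IsAlgClosed k] [CharZero k]
    (Y : Scheme.{u}) [Y.Over (Spec (CommRingCat.of k))] [AlgebraicGeometry.IsIntegral Y]
    [Smooth (Y ↘ Spec (CommRingCat.of k))]
    (hproj : ∃ (N : ℕ) (ι : Y ⟶ CohB1.ProjSpace N k), IsClosedImmersion ι ∧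
      ι ≫ CohB1.ProjSpace.toSpec N k = (Y ↘ (Spec (CommRingCat.of k))))
    [HasExt.{u} Y.Modules]
    (n d : ℕ) (hdn : d ≤ n) (E : Fin n → Y.Modules) (hEcoh : ∀ i, Coh.IsCoh (E i))
    (hend : ∀ i, Module.finrank k (E i ⟶ E i) = 1)
    (hexc : ∀ i j : Fin n, j < i → ∀ p : ℕ, Subsingleton (Abelian.Ext (E i) (E j) p))
    (hstr : ∀ (i j : Fin n) (p : ℕ), 1 ≤ p → Subsingleton (Abelian.Ext (E i) (E j) p))
    (S : ShortComplex Y.Modules) (hS : S.ShortExact)
    (m₁ : ℕ) (c₁ : Fin m₁ → Fin n) (hc₁ : ∀ t, (c₁ t : ℕ) < d) (e₁ : S.X₁ ≅ ∐ fun t => E (c₁ t))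
    (m₂ : ℕ) (c₂ : Fin m₂ → Fin n) (hc₂ : ∀ t, d ≤ (c₂ t : ℕ)) (e₂ : S.X₂ ≅ ∐ fun t => E (c₂ t)) :
    (∀ (i : Fin n) (p : ℕ), 1 ≤ p → Subsingleton (Abelian.Ext (E i) S.X₃ p)) ∧
      (∀ i : Fin n, (i : ℕ) < d → ∀ p : ℕ, p ≠ 1 → Subsingleton (Abelian.Ext S.X₃ (E i) p)) := by
  exact aux_gen n d E hexc hstr S hS m₁ c₁ hc₁ e₁ m₂ c₂ hc₂ e₂

end Groth.Agent.S17487
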