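import Groth.Statements.S17499
-- import your own Groth.Agent.* helpers here
import Mathlib
import Groth.Agent.Lib.Helper3BaseMap

set_option autoImplicit false
universe u
open RelQuot

namespace Groth.Agent.S17499

open CategoryTheory CategoryTheory.Limits AlgebraicGeometry
open Groth.Agent.Lib.Helper3.BaseMap

section

variable {B : Scheme.{u}}

theorem cl_eq_of_eq {X : Scheme.{u}} {f g : X ⟶ B} [LocallyOfFiniteType f] [QuasiCompact f]
    [LocallyOfFiniteType g] [QuasiCompact g] (h : f = g) : K0Var.cl f = K0Var.cl g := by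
  subst h; rfl

theorem cl_eq_zero_of_isEmpty {X : Scheme.{u}} (f : X ⟶ B) [LocallyOfFiniteType f]
    [QuasiCompact f] [IsEmpty X] : K0Var.cl f = 0 :=
  K0Var.Gen.cl_eq_zero_of_isEmpty (K0Var.Gen.mk X f)

theorem range_fst_of_isPullback {P X Y Z : Scheme.{u}} {fst : P ⟶ X} {snd : P ⟶ Y}
    {f : X ⟶ Z} {g : Y ⟶ Z} (h : IsPullback fst snd f g) :
    Set.range fst = f ⁻¹' Set.range g := by
  ext x
  constructor
  · rintro ⟨p, rfl⟩
    refine ⟨snd p, ?_⟩
    rw [← Scheme.Hom.comp_apply, ← Scheme.Hom.comp_apply, h.w]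
  · rintro ⟨y, hy⟩
    obtain ⟨p, hp, -⟩ := Scheme.exists_preimage_of_isPullback h x y hy.symm
    exact ⟨p, hp⟩

/-- the class of the pullback of `f` along a morphism landing in a trivialising open. -/
theorem cl_triv {X Y F W U' XU : Scheme.{u}} (pY : Y ⟶ B) (pF : F ⟶ B)
    [LocallyOfFiniteType pF] [QuasiCompact pF] (f : X ⟶ Y)
    (ι : U' ⟶ Y) (pU : U' ⟶ B) (hpU : ι ≫ pY = pU)
    (jX : XU ⟶ X) (fU : XU ⟶ U') (hpb : IsPullback jX fU f ι)
    (e : XU ≅ pullback pU pF) (he : e.hom ≫ pullback.fst pU pF = fU)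
    (g : W ⟶ Y) (g' : W ⟶ U') (hg : g' ≫ ι = g) (q : W ⟶ B) (hq : g ≫ pY = q)
    [LocallyOfFiniteType q] [QuasiCompact q]
    [LocallyOfFiniteType (pullback.snd f g ≫ q)] [QuasiCompact (pullback.snd f g ≫ q)] :
    K0Var.cl (pullback.snd f g ≫ q) = K0Var.cl q * K0Var.cl pF := by
  have hq' : q = g' ≫ pU := by rw [← hq, ← hg, Category.assoc, hpU]
  let a : pullback q pF ⟶ pullback pU pF :=
    pullback.map q pF pU pF g' (𝟙 F) (𝟙 B) (by rw [Category.comp_id, hq'])
      (by rw [Category.comp_id, Category.id_comp])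
  have ha1 : a ≫ pullback.fst pU pF = pullback.fst q pF ≫ g' := pullback.lift_fst _ _ _
  have ha2 : a ≫ pullback.snd pU pF = pullback.snd q pF :=
    (pullback.lift_snd _ _ _).trans (Category.comp_id _)
  have s : IsPullback (a ≫ pullback.snd pU pF) (pullback.fst q pF) pF (g' ≫ pU) := by
    rw [ha2, ← hq']
    exact (IsPullback.of_hasPullback q pF).flip
  have sq1 : IsPullback a (pullback.fst q pF) (pullback.fst pU pF) g' :=
    IsPullback.of_right s ha1 (IsPullback.of_hasPullback pU pF).flip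
  have sq2 : IsPullback (e.inv ≫ jX) (pullback.fst pU pF) f ι :=
    IsPullback.of_iso hpb e (Iso.refl _) (Iso.refl _) (Iso.refl _)
      (by simp) (by simp [he]) (by simp) (by simp)
  have big := sq1.paste_horiz sq2
  rw [hg] at big
  have h1 : K0Var.cl (pullback.snd f g ≫ q) = K0Var.cl (pullback.fst q pF ≫ q) :=
    K0Var.cl_congr _ _ big.isoPullback.symm (by
      rw [Iso.symm_hom, ← Category.assoc, big.isoPullback_inv_snd])
  rw [h1, K0Var.cl_mul]

/-- the scissor relation pulled back along `f`. -/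
theorem cl_scissor_pullback {X Y W Z V : Scheme.{u}} (f : X ⟶ Y) [LocallyOfFiniteType f]
    [QuasiCompact f] (g : W ⟶ Y) (q : W ⟶ B) [LocallyOfFiniteType q] [QuasiCompact q]
    (i : Z ⟶ W) [IsClosedImmersion i] (j : V ⟶ W) [IsOpenImmersion j] [QuasiCompact j]
    (hr : Set.range i = (Set.range j)ᶜ) :
    K0Var.cl (pullback.snd f g ≫ q) =
      K0Var.cl (pullback.snd f (i ≫ g) ≫ i ≫ q) + K0Var.cl (pullback.snd f (j ≫ g) ≫ j ≫ q) := by
  haveI : IsClosedImmersion (baseMapY f g i) :=
    MorphismProperty.of_isPullback (P := @IsClosedImmersion) (isPullback_baseMapY f g i).flip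
      inferInstance
  haveI : IsOpenImmersion (baseMapY f g j) :=
    MorphismProperty.of_isPullback (P := @IsOpenImmersion) (isPullback_baseMapY f g j).flip
      inferInstance
  haveI : QuasiCompact (baseMapY f g j) :=
    MorphismProperty.of_isPullback (P := @QuasiCompact) (isPullback_baseMapY f g j).flip
      inferInstance
  have hr' : Set.range (baseMapY f g i) = (Set.range (baseMapY f g j))ᶜ := by
    rw [range_fst_of_isPullback (isPullback_baseMapY f g i),
      range_fst_of_isPullback (isPullback_baseMapY f g j), hr, Set.preimage_compl]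
  rw [K0Var.cl_scissor (pullback.snd f g ≫ q) (baseMapY f g i) (baseMapY f g j) hr']
  congr 1
  · exact cl_eq_of_eq (by rw [baseMapY_snd_assoc])
  · exact cl_eq_of_eq (by rw [baseMapY_snd_assoc])

theorem main {X Y F : Scheme.{u}} [IsLocallyNoetherian B] (pY : Y ⟶ B) (pF : F ⟶ B)
    [LocallyOfFiniteType pF] [QuasiCompact pF] (f : X ⟶ Y) [LocallyOfFiniteType f]
    [QuasiCompact f] (U : Y → Y.Opens)
    (e : ∀ y, (f ⁻¹ᵁ U y).toScheme ≅ pullback ((U y).ι ≫ pY) pF)
    (he : ∀ y, (e y).hom ≫ pullback.fst ((U y).ι ≫ pY) pF = f ∣_ U y) (t : Finset Y) :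
    ∀ (W : Scheme.{u}) (g : W ⟶ Y) (q : W ⟶ B) (_ : g ≫ pY = q) [LocallyOfFiniteType q]
      [QuasiCompact q], Set.range g ⊆ ⋃ y ∈ t, (U y : Set Y) →
      K0Var.cl (pullback.snd f g ≫ q) = K0Var.cl q * K0Var.cl pF := by
  classical
  induction t using Finset.induction_on with
  | empty =>
    intro W g q hq _ _ hr
    haveI : IsEmpty W := ⟨fun w => by simpa using hr ⟨w, rfl⟩⟩
    haveI : IsEmpty ↥(pullback f g) := ⟨fun p => isEmptyElim ((pullback.snd f g) p)⟩
    rw [cl_eq_zero_of_isEmpty (pullback.snd f g ≫ q), cl_eq_zero_of_isEmpty q, zero_mul]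
  | insert y₀ t hy₀ ih =>
    intro W g q hq _ _ hr
    haveI : IsLocallyNoetherian W := LocallyOfFiniteType.isLocallyNoetherian q
    let V : W.Opens := g ⁻¹ᵁ (U y₀)
    have hZ : IsClosed ((V : Set W)ᶜ) := V.isOpen.isClosed_compl
    let I := Scheme.IdealSheafData.vanishingIdeal ⟨(V : Set W)ᶜ, hZ⟩
    have hri : Set.range I.subschemeι = (Set.range V.ι)ᶜ := by
      rw [Scheme.IdealSheafData.range_subschemeι,
        Scheme.IdealSheafData.coe_support_vanishingIdeal, Scheme.Opens.range_ι]
      rfl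
    rw [cl_scissor_pullback f g q I.subschemeι V.ι hri,
      K0Var.cl_scissor q I.subschemeι V.ι hri, add_mul]
    congr 1
    · refine ih _ (I.subschemeι ≫ g) (I.subschemeι ≫ q) (by rw [Category.assoc, hq]) ?_
      rintro _ ⟨z, rfl⟩
      have h1 : g (I.subschemeι z) ∈ ⋃ y ∈ insert y₀ t, (U y : Set Y) := hr ⟨_, rfl⟩
      have h2 : I.subschemeι z ∉ (V : Set W) := by
        have : I.subschemeι z ∈ Set.range I.subschemeι := ⟨z, rfl⟩
        rw [hri, Scheme.Opens.range_ι] at this
        exact this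
      rw [Finset.set_biUnion_insert] at h1
      rcases h1 with h1 | h1
      · exact absurd h1 h2
      · exact h1
    · exact cl_triv pY pF f (U y₀).ι ((U y₀).ι ≫ pY) rfl (f ⁻¹ᵁ U y₀).ι (f ∣_ U y₀)
        (isPullback_morphismRestrict f (U y₀)).flip (e y₀) (he y₀) (V.ι ≫ g) (g ∣_ U y₀)
        (morphismRestrict_ι g (U y₀)) (V.ι ≫ q) (by rw [Category.assoc, hq])

end

open CategoryTheory CategoryTheory.Limits AlgebraicGeometry in
/-- Let k be an algebraically closed field of characteristic zero, X, Y and F schemes of finite type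
over k, and f : X → Y a morphism over k which is a Zariski locally trivial fibration with fibre F:
every point of Y has an open neighbourhood U together with an isomorphism from f⁻¹(U) to U ×_k F
whose composite with the first projection is the restriction of f. Then in the Grothendieck ring of
k-schemes of finite type the class of X equals [Y] · [F]. The published statement is for varieties;
it is stated here for schemes of finite type over k, which present the same ring. -/
theorem result
    (k : Type u) [Field k] [IsAlgClosed k] [CharZero k] {X Y F : Scheme.{u}}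
    (pY : Y ⟶ Spec (CommRingCat.of k)) [LocallyOfFiniteType pY] [QuasiCompact pY]
    (pF : F ⟶ Spec (CommRingCat.of k)) [LocallyOfFiniteType pF] [QuasiCompact pF]
    (f : X ⟶ Y) [LocallyOfFiniteType f] [QuasiCompact f]
    (hf : ∀ y : Y, ∃ (U : Y.Opens) (e : (f ⁻¹ᵁ U).toScheme ≅ pullback (U.ι ≫ pY) pF),
      y ∈ U ∧ e.hom ≫ pullback.fst (U.ι ≫ pY) pF = f ∣_ U) :
    K0Var.cl (f ≫ pY) = K0Var.cl pY * K0Var.cl pF := by
  choose U e hU he using hf
  haveI : CompactSpace Y := QuasiCompact.compactSpace_of_compactSpace pY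
  obtain ⟨t, ht⟩ := isCompact_univ.elim_finite_subcover (fun y => (U y : Set Y))
    (fun y => (U y).isOpen) (fun y _ => Set.mem_iUnion.2 ⟨y, hU y⟩)
  have key := main pY pF f U e he t Y (𝟙 Y) pY (Category.id_comp _)
    (fun y _ => ht (Set.mem_univ _))
  rw [← key]
  exact (K0Var.cl_congr _ _ (asIso (pullback.fst f (𝟙 Y))) (by
    rw [asIso_hom, ← Category.assoc, pullback.condition, Category.assoc, Category.id_comp])).symm

end Groth.Agent.S17499
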