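import Groth.Statements.S1750
import Groth.Agent.S5155
import Groth.Agent.S0312
import Groth.Agent.S8925
import Mathlib

set_option autoImplicit false
universe u
open InjHull

namespace Groth.Agent.S1750

open IsLocalRing

/-- Let R → S be a flat local homomorphism of Noetherian local rings with m_R S = m_S inducing a
bijection on residue fields. If κ_S → E is an injective hull of the residue field of S over S, then
E regarded as an R-module is an injective hull of the residue field of R (for a suitable R-linear
map κ_R → E). -/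
theorem result (R S : Type u) [CommRing R] [CommRing S] [IsLocalRing R] [IsLocalRing S] [IsNoetherianRing R] [IsNoetherianRing S] [Algebra R S] [IsLocalHom (algebraMap R S)] [Module.Flat R S] (hm : (IsLocalRing.maximalIdeal R).map (algebraMap R S) = IsLocalRing.maximalIdeal S) (hk : Function.Bijective (IsLocalRing.ResidueField.map (algebraMap R S))) (E : Type u) [AddCommGroup E] [Module S E] [Module R E] [IsScalarTower R S E] (f : IsLocalRing.ResidueField S →ₗ[S] E) (hf : InjHull.IsInjectiveHull f) : ∃ g : IsLocalRing.ResidueField R →ₗ[R] E, InjHull.IsInjectiveHull g := by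
  haveI := hf.isInjective
  have hinj : Module.Injective R E := Groth.Agent.S8925.result R S E
  have htorS := Groth.Agent.S5155.isPowerTorsion_of_hull hf.toIsEssentialInj
  have htor : LocCoh.IsPowerTorsion (maximalIdeal R) E := by
    intro e
    obtain ⟨n, hn⟩ := htorS e
    refine ⟨n, fun a ha => ?_⟩
    rw [← algebraMap_smul S a e]
    apply hn
    rw [← hm, ← Ideal.map_pow]
    exact Ideal.mem_map_of_mem _ ha
  -- socle elements over `R` are socle elements over `S`
  have hsocS : ∀ x : E, (∀ a ∈ maximalIdeal R, a • x = 0) → ∃ c : ResidueField S, x = f c := by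
    intro x hx
    have hx' : ∀ s ∈ maximalIdeal S, s • x = 0 := by
      rw [← hm]
      exact Groth.Agent.S0312.smul_eq_zero_of_mem_map (maximalIdeal R) x hx
    obtain ⟨c, hc⟩ := Groth.Agent.S5155.exists_eq_of_essential hf.toIsEssentialInj
      (Groth.Agent.S5155.socleHom x hx')
    rw [Groth.Agent.S5155.socleHom_one] at hc
    exact ⟨c, hc⟩
  have hsoc1 : ∀ a ∈ maximalIdeal R, a • f 1 = 0 := by
    intro a ha
    rw [← algebraMap_smul S a (f 1), ← map_smul]
    have : algebraMap R S a ∈ maximalIdeal S := by
      rw [← hm]; exact Ideal.mem_map_of_mem _ ha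
    rw [Groth.Agent.S5155.smul_residue_eq_zero this, map_zero]
  have hf1 : f 1 ≠ 0 := by
    intro h
    have : f 1 = f 0 := by rw [h, map_zero]
    exact one_ne_zero (hf.injective this)
  refine Groth.Agent.S5155.isInjectiveHull_of hinj htor ?_
  rw [isSimpleModule_iff_toSpanSingleton_surjective]
  constructor
  · refine ⟨⟨Groth.Agent.S5155.socleHom (f 1) hsoc1, 0, ?_⟩⟩
    intro h0
    have := LinearMap.congr_fun h0 1
    rw [Groth.Agent.S5155.socleHom_one, LinearMap.zero_apply] at this
    exact hf1 this
  · intro φ hφ φ'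
    have hsocφ : ∀ χ : ResidueField R →ₗ[R] E, ∀ a ∈ maximalIdeal R, a • χ 1 = 0 := by
      intro χ a ha
      rw [← map_smul, Groth.Agent.S5155.smul_residue_eq_zero ha, map_zero]
    obtain ⟨c, hc⟩ := hsocS (φ 1) (hsocφ φ)
    obtain ⟨c', hc'⟩ := hsocS (φ' 1) (hsocφ φ')
    have hc0 : c ≠ 0 := by
      intro h0
      apply hφ
      apply Groth.Agent.S5155.hom_ext_one
      rw [hc, h0, map_zero, LinearMap.zero_apply]
    obtain ⟨d, hd⟩ := hk.2 (c' * c⁻¹)
    obtain ⟨a, rfl⟩ := residue_surjective d
    refine ⟨a, ?_⟩
    apply Groth.Agent.S5155.hom_ext_one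
    show (a • φ) 1 = φ' 1
    rw [LinearMap.smul_apply, hc, hc', ← algebraMap_smul S a (f c), ← map_smul]
    congr 1
    rw [Algebra.smul_def]
    have : algebraMap S (ResidueField S) (algebraMap R S a) =
        ResidueField.map (algebraMap R S) (residue R a) := rfl
    rw [this, hd, mul_assoc, inv_mul_cancel₀ hc0, mul_one]

end Groth.Agent.S1750
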