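import Groth.Statements.S17500
-- import your own Groth.Agent.* helpers here
import Mathlib

set_option autoImplicit false
universe u
open TorsMod

namespace Groth.Agent.S17500

section Helpers
open TensorProduct

variable (p n : ℕ) [Fact p.Prime]

/-- every element of `ZMod (p^n)` is a unit times `p^i`, `i ≤ n` -/
theorem exists_eq_pow_mul_unit (a : ZMod (p ^ n)) :
    ∃ i : ℕ, i ≤ n ∧ ∃ u : (ZMod (p ^ n))ˣ, a = (p : ZMod (p ^ n)) ^ i * u := by
  have hp : p.Prime := Fact.out
  haveI : NeZero (p ^ n) := ⟨pow_ne_zero n hp.ne_zero⟩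
  by_cases ha : a = 0
  · refine ⟨n, le_rfl, 1, ?_⟩
    rw [ha, ← Nat.cast_pow, ZMod.natCast_self, zero_mul]
  · have hval : a.val ≠ 0 := by
      rwa [Ne, ZMod.val_eq_zero]
    obtain ⟨i, b, hb, hab⟩ := Nat.exists_eq_pow_mul_and_not_dvd hval p hp.ne_one
    have hi : i < n := by
      by_contra hcon
      push Not at hcon
      have h1 : p ^ n ≤ p ^ i := Nat.pow_le_pow_right hp.pos hcon
      have h2 : p ^ i ≤ a.val := by
        rw [hab]; exact Nat.le_mul_of_pos_right _ (Nat.pos_of_ne_zero (fun h => hb (h ▸ dvd_zero p)))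
      have h3 := ZMod.val_lt a
      omega
    have hcop : Nat.Coprime b (p ^ n) :=
      Nat.Coprime.pow_right n ((Nat.Prime.coprime_iff_not_dvd hp).mpr hb).symm
    refine ⟨i, hi.le, ZMod.unitOfCoprime b hcop, ?_⟩
    rw [ZMod.coe_unitOfCoprime, ← Nat.cast_pow, ← Nat.cast_mul, ← hab, ZMod.natCast_zmod_val]

theorem pow_eq_zero_iff' (m : ℕ) : ((p : ZMod (p ^ n)) ^ m = 0) ↔ n ≤ m := by
  have hp : p.Prime := Fact.out
  rw [← Nat.cast_pow, ZMod.natCast_eq_zero_iff, Nat.pow_dvd_pow_iff_le_right hp.one_lt]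

/-- annihilator of `p^i` -/
theorem exists_eq_pow_mul_of_mul_eq_zero (i : ℕ) (hi : i ≤ n) (a : ZMod (p ^ n))
    (h : (p : ZMod (p ^ n)) ^ i * a = 0) : ∃ c, a = (p : ZMod (p ^ n)) ^ (n - i) * c := by
  obtain ⟨j, hj, u, rfl⟩ := exists_eq_pow_mul_unit p n a
  rw [← mul_assoc, ← pow_add, u.isUnit.mul_left_eq_zero, pow_eq_zero_iff'] at h
  refine ⟨(p : ZMod (p ^ n)) ^ (j - (n - i)) * u, ?_⟩
  rw [← mul_assoc, ← pow_add]
  congr 2
  omega

instance : IsPrincipalIdealRing (ZMod (p ^ n)) :=
  IsPrincipalIdealRing.of_surjective (Int.castRingHom (ZMod (p ^ n))) ZMod.intCast_surjective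

theorem aux (H : Type u) [AddCommGroup H] [Module (ZMod (p ^ n)) H] :
    Module.Flat (ZMod (p ^ n)) H ↔
      ∀ i : ℕ, i ≤ n →
        LinearMap.ker ((p ^ i : ZMod (p ^ n)) • (LinearMap.id : H →ₗ[ZMod (p ^ n)] H)) =
          LinearMap.range ((p ^ (n - i) : ZMod (p ^ n)) • (LinearMap.id : H →ₗ[ZMod (p ^ n)] H)) := by
  have hpn : ((p : ZMod (p ^ n)) ^ n) = 0 := (pow_eq_zero_iff' p n n).mpr le_rfl
  constructor
  · intro hflat i hi
    ext h
    simp only [LinearMap.mem_ker, LinearMap.smul_apply, LinearMap.id_coe, id_eq,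
      LinearMap.mem_range]
    constructor
    · intro h0
      have hrel : ∑ _j : Fin 1, (fun _ : Fin 1 => (p : ZMod (p ^ n)) ^ i) _j •
          (fun _ : Fin 1 => h) _j = 0 := by
        simpa using h0
      obtain ⟨k, a, y, hx, hfa⟩ := Module.Flat.isTrivialRelation_of_sum_smul_eq_zero hrel
      have hc : ∀ j, ∃ c, a 0 j = (p : ZMod (p ^ n)) ^ (n - i) * c := by
        intro j
        apply exists_eq_pow_mul_of_mul_eq_zero p n i hi
        simpa using hfa j
      choose c hc using hc
      refine ⟨∑ j, c j • y j, ?_⟩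
      have hx0 : h = ∑ j, a 0 j • y j := hx 0
      rw [Finset.smul_sum]
      conv_rhs => rw [hx0]
      refine Finset.sum_congr rfl fun j _ => ?_
      rw [hc j, mul_smul]
    · rintro ⟨h', rfl⟩
      rw [smul_smul, ← pow_add, show i + (n - i) = n by omega, hpn, zero_smul]
  · intro hcond
    rw [Module.Flat.iff_lift_lsmul_comp_subtype_injective]
    intro I _
    obtain ⟨a, rfl⟩ := (IsPrincipalIdealRing.principal I).principal
    obtain ⟨i, hi, u, rfl⟩ := exists_eq_pow_mul_unit p n a
    have hI : Submodule.span (ZMod (p ^ n)) {(p : ZMod (p ^ n)) ^ i * (u : ZMod (p ^ n))} =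
        Ideal.span {(p : ZMod (p ^ n)) ^ i} := by
      change Ideal.span _ = _
      exact Ideal.span_singleton_mul_right_unit u.isUnit _
    rw [hI]
    set I := Ideal.span {(p : ZMod (p ^ n)) ^ i} with hIdef
    let g : I := ⟨(p : ZMod (p ^ n)) ^ i, Ideal.mem_span_singleton_self _⟩
    have hrep : ∀ z : I ⊗[ZMod (p ^ n)] H, ∃ h : H, z = g ⊗ₜ h := by
      intro z
      induction z using TensorProduct.induction_on with
      | zero => exact ⟨0, (tmul_zero _ _).symm⟩
      | tmul x h =>
        obtain ⟨r, hr⟩ := Ideal.mem_span_singleton'.mp x.2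
        refine ⟨r • h, ?_⟩
        rw [tmul_smul, smul_tmul']
        congr 1
        ext
        simpa [g] using hr.symm
      | add x y hx hy =>
        obtain ⟨h1, rfl⟩ := hx
        obtain ⟨h2, rfl⟩ := hy
        exact ⟨h1 + h2, (tmul_add _ _ _).symm⟩
    rw [injective_iff_map_eq_zero]
    intro z hz
    obtain ⟨h, rfl⟩ := hrep z
    have h0 : (p : ZMod (p ^ n)) ^ i • h = 0 := by simpa [g] using hz
    have hmem : h ∈ LinearMap.ker
        ((p ^ i : ZMod (p ^ n)) • (LinearMap.id : H →ₗ[ZMod (p ^ n)] H)) := by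
      simpa using h0
    rw [hcond i hi] at hmem
    obtain ⟨h', rfl⟩ := hmem
    simp only [LinearMap.smul_apply, LinearMap.id_coe, id_eq]
    rw [tmul_smul, smul_tmul']
    have : ((p : ZMod (p ^ n)) ^ (n - i)) • g = 0 := by
      ext
      simp only [g, Submodule.coe_smul, smul_eq_mul, Submodule.coe_zero]
      rw [← pow_add, show n - i + i = n by omega, hpn]
    rw [this, zero_tmul]

end Helpers

/-- Let p be a prime number, n a natural number and H a module over ℤ/p^nℤ. Then H is flat over ℤ/p^nℤ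
if and only if, for every i with 0 ≤ i ≤ n, the kernel of multiplication by p^i on H coincides with
the image of multiplication by p^(n-i) on H. (The published item is phrased for an fppf sheaf of
ℤ/p^nℤ-modules on a scheme; this is the case of a single module, which is the case the argument
treats.) -/
theorem result (p n : ℕ) [Fact p.Prime]
    (H : Type u) [AddCommGroup H] [Module (ZMod (p ^ n)) H] :
    Module.Flat (ZMod (p ^ n)) H ↔
      ∀ i : ℕ, i ≤ n →
        LinearMap.ker ((p ^ i : ZMod (p ^ n)) • (LinearMap.id : H →ₗ[ZMod (p ^ n)] H)) =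
          LinearMap.range ((p ^ (n - i) : ZMod (p ^ n)) • (LinearMap.id : H →ₗ[ZMod (p ^ n)] H)) := by
  exact aux p n H

end Groth.Agent.S17500
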