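import Groth.Statements.S17517
import Mathlib
import Groth.Agent.Lib.Helper16Kempf
-- import your own Groth.Agent.* helpers here

set_option autoImplicit false
set_option linter.style.haveILetI false
set_option linter.unusedSectionVars false
universe u
open GIT

namespace Groth.Agent.S17517

open Groth.Agent.Lib.Helper16Kempf Module


/-- Let `E` be a finite-dimensional real inner product space and `L` a full lattice in `E` (a discrete
subgroup spanning `E`) on which the inner product is integer valued; let `F` and `G` be nonempty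
finite sets of real linear functionals on `E` taking integer values on `L`, with `f_min v = min_{f ∈
F} f v` and `g_min v = min_{g ∈ G} g v`. If some vector `v` has `f_min v ≥ 0` and `g_min v > 0`,
then on the set `C_F` of nonzero `v` with `f_min v ≥ 0` the function `v ↦ g_min v / ‖v‖` attains a
greatest value `M`, and there is exactly one lattice vector `v₀ ∈ C_F` with `g_min v₀ / ‖v₀‖ = M` of
which every lattice vector `v ∈ C_F` with `g_min v / ‖v‖ = M` is an integer multiple. -/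
theorem result
    (E : Type u) [NormedAddCommGroup E] [InnerProductSpace ℝ E] [FiniteDimensional ℝ E]
    (L : Submodule ℤ E) [DiscreteTopology L] [IsZLattice ℝ L]
    (hint : ∀ x ∈ L, ∀ y ∈ L, ∃ n : ℤ, inner ℝ x y = (n : ℝ))
    (F G : Finset (Module.Dual ℝ E)) (hF : F.Nonempty) (hG : G.Nonempty)
    (hFi : ∀ f ∈ F, ∀ x ∈ L, ∃ n : ℤ, f x = (n : ℝ)) (hGi : ∀ g ∈ G, ∀ x ∈ L, ∃ n : ℤ, g x = (n : ℝ))
    (hpos : ∃ v : E, 0 ≤ F.inf' hF (fun f => f v) ∧ 0 < G.inf' hG (fun g => g v)) :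
    ∃ M : ℝ, IsGreatest ((fun v => G.inf' hG (fun g => g v) / ‖v‖) ''
        {v : E | v ≠ 0 ∧ 0 ≤ F.inf' hF (fun f => f v)}) M ∧
      ∃! v₀ : E, v₀ ∈ L ∧ v₀ ≠ 0 ∧ 0 ≤ F.inf' hF (fun f => f v₀) ∧
        G.inf' hG (fun g => g v₀) / ‖v₀‖ = M ∧
        ∀ v ∈ L, v ≠ 0 → 0 ≤ F.inf' hF (fun f => f v) → G.inf' hG (fun g => g v) / ‖v‖ = M →
          ∃ n : ℤ, v = n • v₀ := by
  classical
  have hpos' : ∃ v : E, 0 ≤ mn F hF v ∧ 0 < mn G hG v := hpos
  obtain ⟨u, hu1, huF, huG, hmax⟩ := exists_unit_max F G hF hG hpos'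
  set M := mn G hG u with hM
  have hu0 : u ≠ 0 := by
    intro h
    rw [h, norm_zero] at hu1
    exact zero_ne_one hu1
  -- lattice basis
  haveI : Module.Free ℤ L := ZLattice.module_free ℝ L
  haveI : Module.Finite ℤ L := ZLattice.module_finite ℝ L
  let bL := Module.Free.chooseBasis ℤ L
  let b : Basis _ ℝ E := bL.ofZLatticeBasis ℝ L
  have hbL : ∀ i, b i ∈ L := fun i => by
    rw [Basis.ofZLatticeBasis_apply]
    exact (bL i).2
  -- rational point on the ray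
  obtain ⟨ρ, hρ1, hρ2⟩ := exists_rho
  set w : E := M⁻¹ • u with hw
  have hMinv : 0 ≤ M⁻¹ := inv_nonneg.mpr huG.le
  have hwG : ∀ g ∈ G, 1 ≤ g w := by
    intro g hg
    rw [hw, map_smul, smul_eq_mul]
    have h1 : M ≤ g u := mn_le G hG hg u
    calc (1 : ℝ) = M⁻¹ * M := (inv_mul_cancel₀ huG.ne').symm
      _ ≤ M⁻¹ * g u := mul_le_mul_of_nonneg_left h1 hMinv
  have hwF : ∀ f ∈ F, 0 ≤ f w := by
    intro f hf
    rw [hw, map_smul, smul_eq_mul]
    exact mul_nonneg hMinv (le_trans huF (mn_le F hF hf u))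
  have hwn : ‖w‖ = M⁻¹ := by
    rw [hw, norm_smul, hu1, mul_one, Real.norm_eq_abs, abs_of_pos (inv_pos.mpr huG)]
  have hmin : ∀ v : E, (∀ g ∈ G, 1 ≤ g v) → (∀ f ∈ F, 0 ≤ f v) → ‖w‖ ≤ ‖v‖ := by
    intro v hvG hvF
    have h1 : 1 ≤ mn G hG v := (le_mn_iff G hG 1 v).mpr hvG
    have h2 : 0 ≤ mn F hF v := (le_mn_iff F hF 0 v).mpr hvF
    have hv0 : v ≠ 0 := by
      rintro rfl
      rw [mn_zero] at h1
      linarith
    have hvn : 0 < ‖v‖ := norm_pos_iff.mpr hv0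
    have h3 := quot_le F G hF hG hmax hv0 h2
    rw [div_le_iff₀ hvn] at h3
    rw [hwn, inv_le_iff_one_le_mul₀ huG]
    linarith
  have hPw : P ρ b w = w :=
    rational_of_min ρ hρ1 b (fun i j => hint _ (hbL i) _ (hbL j)) F G
      (fun f hf i => hFi f hf _ (hbL i)) (fun g hg i => hGi g hg _ (hbL i)) w hwG hwF hmin
  obtain ⟨N, hN0, hNmem⟩ := exists_int_smul_P_mem ρ hρ2 b L hbL w
  rw [hPw, hw, smul_smul] at hNmem
  have ht₀ : (N : ℝ) * M⁻¹ ≠ 0 := mul_ne_zero (Int.cast_ne_zero.mpr hN0) (inv_ne_zero huG.ne')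
  obtain ⟨a, ha, haL, hgen⟩ := exists_generator L u hu1 _ ht₀ hNmem
  have hv₀n : ‖a • u‖ = a := by
    rw [norm_smul, hu1, mul_one, Real.norm_eq_abs, abs_of_pos ha]
  -- multiples
  have hmult : ∀ v ∈ L, v ≠ 0 → 0 ≤ mn F hF v → mn G hG v / ‖v‖ = M →
      ∃ n : ℤ, v = n • (a • u) := by
    intro v hvL hv0 hvF hvM
    have h1 := ray_unique F G hF hG hu1 huF huG hmax hv0 hvF hvM
    have h2 : ‖v‖ • u ∈ L := h1 ▸ hvL
    obtain ⟨n, hn⟩ := hgen _ h2
    refine ⟨n, ?_⟩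
    rw [← Int.cast_smul_eq_zsmul ℝ n, smul_smul, ← hn]
    exact h1
  refine ⟨M, ⟨?_, ?_⟩, a • u, ⟨haL, smul_ne_zero ha.ne' hu0, ?_, ?_, hmult⟩, ?_⟩
  · exact ⟨u, ⟨hu0, huF⟩, by show mn G hG u / ‖u‖ = M; rw [hu1, div_one]⟩
  · rintro _ ⟨v, ⟨hv0, hvF⟩, rfl⟩
    exact quot_le F G hF hG hmax hv0 hvF
  · show 0 ≤ mn F hF (a • u)
    rw [mn_smul F hF ha.le]
    exact mul_nonneg ha.le huF
  · show mn G hG (a • u) / ‖a • u‖ = M
    rw [mn_smul G hG ha.le, hv₀n, mul_div_cancel_left₀ _ ha.ne']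
  · rintro v₁ ⟨hv₁L, hv₁0, hv₁F, hv₁M, hv₁mult⟩
    have hv₁ray := ray_unique F G hF hG hu1 huF huG hmax hv₁0 hv₁F hv₁M
    obtain ⟨m, hm⟩ := hmult v₁ hv₁L hv₁0 hv₁F hv₁M
    have hv₀F : 0 ≤ mn F hF (a • u) := by
      rw [mn_smul F hF ha.le]
      exact mul_nonneg ha.le huF
    have hv₀M : mn G hG (a • u) / ‖a • u‖ = M := by
      rw [mn_smul G hG ha.le, hv₀n, mul_div_cancel_left₀ _ ha.ne']
    obtain ⟨n, hn⟩ := hv₁mult (a • u) haL (smul_ne_zero ha.ne' hu0) hv₀F hv₀M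
    -- `‖v₁‖ = m * a`
    have h1 : ‖v₁‖ = m * a := by
      have h2 : ‖v₁‖ • u = ((m : ℝ) * a) • u := by
        rw [← hv₁ray, hm, ← Int.cast_smul_eq_zsmul ℝ m, smul_smul]
      exact smul_left_injective ℝ hu0 h2
    have hmpos : 0 < m := by
      have h3 : 0 < (m : ℝ) * a := by
        rw [← h1]
        exact norm_pos_iff.mpr hv₁0
      have h4 : 0 < (m : ℝ) := by
        by_contra hle
        push Not at hle
        nlinarith
      exact_mod_cast h4
    -- `n * m = 1`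
    have h5 : (n : ℝ) * m = 1 := by
      have h6 : a • u = ((n : ℝ) * m * a) • u := by
        conv_lhs => rw [hn, hm]
        rw [← Int.cast_smul_eq_zsmul ℝ n, ← Int.cast_smul_eq_zsmul ℝ m, smul_smul, smul_smul]
      have h7 : a = (n : ℝ) * m * a := smul_left_injective ℝ hu0 h6
      have h8 : ((n : ℝ) * m - 1) * a = 0 := by linarith
      rcases mul_eq_zero.mp h8 with h9 | h9
      · linarith
      · exact absurd h9 ha.ne'
    have h10 : n * m = 1 := by exact_mod_cast h5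
    have hm1 : m = 1 := by
      rcases Int.mul_eq_one_iff_eq_one_or_neg_one.mp h10 with ⟨_, h⟩ | ⟨_, h⟩
      · exact h
      · omega
    rw [hm, hm1, one_smul]

end Groth.Agent.S17517
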