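import Groth.Statements.S17525
import Groth.Agent.Lib.Helper25LRExact
import Groth.Agent.Lib.Helper25HopfSub

set_option autoImplicit false
universe u
open HopfRep Groth.Agent.Lib.Helper25

namespace Groth.Agent.S17525

/-- Let `k` be a field and `1 → K → G → Q → 1` an exact sequence of affine group schemes of finite type
over `k`, written on coordinate rings: `AQ`, `AG`, `AK` are commutative Hopf algebras of finite type
over `k`, `φ : AQ → AG` is an injective bialgebra map (so `G → Q` is faithfully flat) and `ψ : AG →
AK` is a surjective bialgebra map (so `K` is a closed subgroup of `G`) whose kernel is the ideal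
generated by the image under `φ` of the augmentation ideal of `AQ` (so `K` is the kernel of `G →
Q`). Then `G` is linearly reductive — every finite-dimensional comodule is semisimple — if and only
if both `K` and `Q` are. -/
theorem result
    (k : Type u) [Field k]
    (AQ AG AK : Type u) [CommRing AQ] [HopfAlgebra k AQ] [Algebra.FiniteType k AQ]
    [CommRing AG] [HopfAlgebra k AG] [Algebra.FiniteType k AG]
    [CommRing AK] [HopfAlgebra k AK] [Algebra.FiniteType k AK]
    (φ : AQ →ₐc[k] AG) (hφ : Function.Injective φ)
    (ψ : AG →ₐc[k] AK) (hψ : Function.Surjective ψ)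
    (hker : RingHom.ker (ψ : AG →ₐ[k] AK) =
      Ideal.map (φ : AQ →ₐ[k] AG) (RingHom.ker (Bialgebra.counitAlgHom k AQ))) :
    HopfRep.IsLinearlyReductive k AG ↔
      HopfRep.IsLinearlyReductive k AK ∧ HopfRep.IsLinearlyReductive k AQ := by
  classical
  let B : Subalgebra k AG := (φ : AQ →ₐ[k] AG).range
  have hB : SGA3.IsHopfSubalgebra k AG B := isHopfSubalgebra_range φ
  have hJeq : Ideal.map (φ : AQ →+* AG) (RingHom.ker (Bialgebra.counitAlgHom k AQ)) =
      SGA3.augIdealSpan k AG B := map_ker_counit_eq_augIdealSpan φ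
  have hker' : RingHom.ker (ψ : AG →ₐ[k] AK) = SGA3.augIdealSpan k AG B := by
    rw [hker, ← hJeq]
    rfl
  have hker'' : ∀ a, ψ a = 0 ↔ a ∈ SGA3.augIdealSpan k AG B := by
    intro a
    rw [← hker']
    exact Iff.rfl
  constructor
  · intro hG
    refine ⟨?_, LRExact.isLinearlyReductive_of_injective φ hφ hG⟩
    exact LRExact.isLinearlyReductive_of_ker_eq_augIdealSpan B (Univ.isSemisimpleComod hG AG) hB
      ψ hψ hker''
  · rintro ⟨hK, hQ⟩
    haveI : (SGA3.augIdealSpan k AG B).IsHopfIdeal k := isHopfIdeal_augIdealSpan B hB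
    have hψJ : ∀ a ∈ SGA3.augIdealSpan k AG B, ψ a = 0 := fun a ha => (hker'' a).mpr ha
    have hinj : Function.Injective
        (HopfSub.quotLift (SGA3.augIdealSpan k AG B) ψ hψJ) := by
      rw [injective_iff_map_eq_zero]
      intro x hx
      obtain ⟨a, rfl⟩ := Ideal.Quotient.mk_surjective x
      rw [HopfSub.quotLift_mk] at hx
      exact Ideal.Quotient.eq_zero_iff_mem.mpr ((hker'' a).mp hx)
    have hN : IsLinearlyReductive k (AG ⧸ SGA3.augIdealSpan k AG B) :=
      LRExact.isLinearlyReductive_of_injective _ hinj hK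
    exact LRExact.isLinearlyReductive_of_extension φ hφ (SGA3.augIdealSpan k AG B) hJeq.symm hQ hN

end Groth.Agent.S17525
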