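import Groth.Statements.S17530
import Groth.Agent.Lib.Helper25Reynolds

set_option autoImplicit false
universe u
open GLin

namespace Groth.Agent.S17530

/-- Let `k` be a field, `H` a commutative Hopf algebra of finite type over `k` which is linearly
reductive (every finite-dimensional comodule semisimple; `G = Spec H`), `A` a commutative
`k`-algebra of finite type with a coaction of `H` that is an algebra map (an action of `G` on `Spec
A`), and `M` a finitely generated `A`-module with an `H`-coaction compatible with the module
structure and with the coaction on `A` (a `G`-equivariant coherent module on `Spec A`). Then the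
invariants `M^G` form a finitely generated module over the ring of invariants `A^G`. (The published
corollary is stated over an algebraically closed field; it is the affine case of a statement about
good moduli spaces valid over any Noetherian base, and is stated here over any field.) -/
theorem result
    (k : Type u) [Field k] (H : Type u) [CommRing H] [HopfAlgebra k H] [Algebra.FiniteType k H]
    (hG : HopfRep.IsLinearlyReductive k H)
    (A : Type u) [CommRing A] [Algebra k A] [Algebra.FiniteType k A]
    [HopfRep.Comod k H A] [GLin.IsCoactAlg k H A]
    (M : Type u) [AddCommGroup M] [Module k M] [Module A M] [IsScalarTower k A M] [Module.Finite A M]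
    [HopfRep.Comod k H M] [TameAct.IsHopfMod k H A M] :
    ∃ s : Finset M, (↑s : Set M) ⊆ ↑(HopfRep.fixedPts k H M) ∧
      (↑(HopfRep.fixedPts k H M) : Set M) ⊆
        ↑(Submodule.span ↥(GLin.invariants k H A) (↑s : Set M)) := by
  open Groth.Agent.Lib.Helper25 in
  classical
  haveI : IsNoetherianRing A := Algebra.FiniteType.isNoetherianRing k A
  have hssR := isSemisimpleComod_of_isLinearlyReductive hG A
  have hssM := isSemisimpleComod_of_isLinearlyReductive hG M
  obtain ⟨ER, hER, hERR, hERx⟩ := exists_reynolds hssR
  obtain ⟨EM, hEM, hEMM, hEMx⟩ := exists_reynolds hssM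
  have hkey : ∀ (a : A) (m : M), m ∈ HopfRep.fixedPts k H M → EM (a • m) = ER a • m := by
    intro a m hm
    have hm' : HopfRep.Comod.coact (k := k) (A := H) m = m ⊗ₜ[k] (1 : H) := hm
    let u : A →ₗ[k] M := (LinearMap.toSpanSingleton A M m).restrictScalars k
    have hu : Hoch.IsComodHom H u := by
      apply LinearMap.ext
      intro b
      change HopfRep.Comod.coact (k := k) (A := H) (b • m) =
        u.rTensor H (HopfRep.Comod.coact (k := k) (A := H) b)
      rw [TameAct.IsHopfMod.coact_smul, hm']
      generalize HopfRep.Comod.coact (k := k) (A := H) b = y
      induction y using TensorProduct.induction_on with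
      | zero => simp
      | add x y hx hy => simp only [map_add, LinearMap.add_apply, hx, hy]
      | tmul b' a' =>
        rw [TameAct.hmSMul_tmul, mul_one, LinearMap.rTensor_tmul]
        rfl
    have hcomm := reynolds_comm hssR hER hERR hERx hEM hEMM hEMx hu
    exact LinearMap.congr_fun hcomm a
  have hfg : (Submodule.span A (HopfRep.fixedPts k H M : Set M)).FG := IsNoetherian.noetherian _
  obtain ⟨s, hs, hspan⟩ := (Submodule.fg_span_iff_fg_span_finset_subset _).mp hfg
  refine ⟨s, hs, ?_⟩
  intro m hm
  have hmem : m ∈ Submodule.span A (s : Set M) := by
    rw [← hspan]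
    exact Submodule.subset_span hm
  obtain ⟨c, -, hc⟩ := Submodule.mem_span_finset.mp hmem
  have h1 : EM m = m := (hEMx m).mpr hm
  have h2 : m = ∑ y ∈ s, ER (c y) • y := by
    rw [← h1, ← hc, map_sum]
    apply Finset.sum_congr rfl
    intro y hy
    exact hkey (c y) y (hs hy)
  rw [h2]
  apply Submodule.sum_mem
  intro y hy
  have hinv : ER (c y) ∈ GLin.invariants k H A := (hERx _).mp (LinearMap.congr_fun hERR (c y))
  have : ER (c y) • y = (⟨ER (c y), hinv⟩ : GLin.invariants k H A) • y := rfl
  rw [this]
  exact Submodule.smul_mem _ _ (Submodule.subset_span hy)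

end Groth.Agent.S17530
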