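import Groth.Statements.S17538
-- import your own Groth.Agent.* helpers here

set_option autoImplicit false
universe u v
open CAlg

namespace Groth.Agent.S17538

open AdicCompletion in
theorem aux {A : Type u} [CommRing A] (I : Ideal A)
    (M : Type v) [AddCommGroup M] [Module A M] :
    ∃ ψ : AdicCompletion I (AdicCompletion I M) →ₗ[A] AdicCompletion I M,
      ψ ∘ₗ AdicCompletion.of I (AdicCompletion I M) = LinearMap.id := by
  -- the induced maps on quotients
  let e : ∀ n : ℕ, (AdicCompletion I M ⧸ (I ^ n • ⊤ : Submodule A (AdicCompletion I M))) →ₗ[A]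
      M ⧸ (I ^ n • ⊤ : Submodule A M) := fun n =>
    Submodule.liftQ _ (eval I M n) (pow_smul_top_le_ker_eval (I := I) (M := M) n)
  have he : ∀ n (y : AdicCompletion I M), e n (Submodule.Quotient.mk y) = eval I M n y :=
    fun n y => rfl
  let f : ∀ n : ℕ, AdicCompletion I (AdicCompletion I M) →ₗ[A] M ⧸ (I ^ n • ⊤ : Submodule A M) :=
    fun n => (e n).comp (eval I (AdicCompletion I M) n)
  have hf : ∀ {m n : ℕ} (hle : m ≤ n), transitionMap I M hle ∘ₗ f n = f m := by
    intro m n hle
    have h1 : transitionMap I M hle ∘ₗ e n = e m ∘ₗ transitionMap I (AdicCompletion I M) hle := by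
      apply Submodule.linearMap_qext
      ext y
      simp only [LinearMap.comp_apply, Submodule.mkQ_apply, he]
      rw [eval_apply, transitionMap_comp_eval_apply]
      rfl
    simp only [f]
    rw [← LinearMap.comp_assoc, h1, LinearMap.comp_assoc, transitionMap_comp_eval]
  refine ⟨lift I f hf, ?_⟩
  ext x n
  simp only [LinearMap.comp_apply, LinearMap.id_apply, eval_lift_apply, f]
  rw [eval_of]
  rfl


/-- For a commutative ring A, an ideal I and an A-module M, the canonical map from the I-adic completion
M^ to the I-adic completion of M^ admits an A-linear retraction (it is a split injection). (That M^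
is I-adically separated is standard.) -/
theorem result {A : Type u} [CommRing A] (I : Ideal A)
    (M : Type v) [AddCommGroup M] [Module A M] :
    ∃ ψ : AdicCompletion I (AdicCompletion I M) →ₗ[A] AdicCompletion I M,
      ψ ∘ₗ AdicCompletion.of I (AdicCompletion I M) = LinearMap.id := by
  exact aux I M

end Groth.Agent.S17538
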