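import Groth.Statements.S1755
import Groth.Agent.Lib.Helper28H1GlobD
import Groth.Agent.Lib.Helper28Deligne3
import Groth.Agent.Lib.Helper28ComplQuot2
import Groth.Agent.S1763
-- import your own Groth.Agent.* helpers here

set_option autoImplicit false
universe u
open LocCoh

namespace Groth.Agent.S1755

open Groth.Agent.Lib.Helper28.Deligne Groth.Agent.Lib.Helper28.H1Glob Groth.Agent.Lib.Helper28
  Groth.Agent.Lib.Helper8.DT IsLocalRing

/-- Associated primes of a ring (as a module over itself) pull back along ring isomorphisms. -/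
theorem comap_mem_associatedPrimes_of_ringEquiv {C C' : Type u} [CommRing C] [CommRing C']
    (e : C ≃+* C') {P' : Ideal C'} (hP' : P' ∈ associatedPrimes C' C') :
    P'.comap (e : C →+* C') ∈ associatedPrimes C C := by
  obtain ⟨hp, x, hx⟩ := hP'
  refine ⟨Ideal.comap_isPrime _ _, e.symm x, ?_⟩
  ext c
  rw [Ideal.mem_comap, hx, Ideal.mem_radical_iff, Ideal.mem_radical_iff]
  constructor
  · rintro ⟨n, hn⟩
    refine ⟨n, ?_⟩
    rw [Submodule.mem_colon_singleton, Submodule.mem_bot, smul_eq_mul] at hn ⊢
    apply e.injective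
    rw [map_mul, map_pow, RingEquiv.apply_symm_apply, map_zero]
    exact hn
  · rintro ⟨n, hn⟩
    refine ⟨n, ?_⟩
    rw [Submodule.mem_colon_singleton, Submodule.mem_bot, smul_eq_mul] at hn ⊢
    have := congrArg e hn
    rwa [map_mul, map_pow, RingEquiv.apply_symm_apply, map_zero] at this

/-- Transport of the dimension condition on associated primes along a ring isomorphism. -/
theorem forall_ass_two_le_of_ringEquiv {C C' : Type u} [CommRing C] [CommRing C']
    (e : C ≃+* C')
    (h : ∀ P ∈ associatedPrimes C C, (2 : WithBot ℕ∞) ≤ ringKrullDim (C ⧸ P)) :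
    ∀ P' ∈ associatedPrimes C' C', (2 : WithBot ℕ∞) ≤ ringKrullDim (C' ⧸ P') := by
  intro P' hP'
  have h1 := h _ (comap_mem_associatedPrimes_of_ringEquiv e hP')
  rwa [ringKrullDim_eq_of_ringEquiv (Ideal.quotientEquiv (P'.comap (e : C →+* C')) P' e
    (Ideal.map_comap_of_surjective (e : C →+* C') e.surjective P').symm)] at h1

/-- The completion of `(A/p)_Q` is isomorphic to the completion of `A_q / p A_q`. -/
theorem exists_ringEquiv_cpl_quotient {A : Type u} [CommRing A] [IsNoetherianRing A] (p : Ideal A)
    [p.IsPrime] (Q : Ideal (A ⧸ p)) [Q.IsPrime] (q : Ideal A) [q.IsPrime]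
    (hq : Q.comap (Ideal.Quotient.mk p) = q) :
    Nonempty (AdicCompletion ((maximalIdeal (Localization.AtPrime q)).map
        (Ideal.Quotient.mk (p.map (algebraMap A (Localization.AtPrime q)))))
        (Localization.AtPrime q ⧸ p.map (algebraMap A (Localization.AtPrime q))) ≃+*
      AdicCompletion (maximalIdeal (Localization.AtPrime Q)) (Localization.AtPrime Q)) := by
  have hM : Algebra.algebraMapSubmonoid (A ⧸ p) q.primeCompl = Q.primeCompl := by
    ext x
    constructor
    · rintro ⟨a, ha, rfl⟩
      intro hx
      apply ha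
      rw [← hq]
      exact hx
    · intro hx
      obtain ⟨a, rfl⟩ := Ideal.Quotient.mk_surjective x
      refine ⟨a, ?_, rfl⟩
      intro ha
      apply hx
      rw [← hq] at ha
      exact ha
  have inst : IsLocalization (Algebra.algebraMapSubmonoid (A ⧸ p) q.primeCompl)
      (Localization.AtPrime q ⧸ p.map (algebraMap A (Localization.AtPrime q))) := inferInstance
  rw [hM] at inst
  let e : (Localization.AtPrime q ⧸ p.map (algebraMap A (Localization.AtPrime q))) ≃+*
      Localization.AtPrime Q :=
    (IsLocalization.algEquiv Q.primeCompl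
      (Localization.AtPrime q ⧸ p.map (algebraMap A (Localization.AtPrime q)))
      (Localization.AtPrime Q)).toRingEquiv
  let f : Localization.AtPrime q →+* Localization.AtPrime Q :=
    (e : _ →+* Localization.AtPrime Q).comp
      (Ideal.Quotient.mk (p.map (algebraMap A (Localization.AtPrime q))))
  have hf : Function.Surjective f := e.surjective.comp Ideal.Quotient.mk_surjective
  have hmap : ((maximalIdeal (Localization.AtPrime q)).map
      (Ideal.Quotient.mk (p.map (algebraMap A (Localization.AtPrime q))))).map
      (e : _ →+* Localization.AtPrime Q) = maximalIdeal (Localization.AtPrime Q) := by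
    rw [Ideal.map_map]
    change (maximalIdeal (Localization.AtPrime q)).map f = _
    rcases Ideal.map_eq_top_or_isMaximal_of_surjective f hf
      (maximalIdeal.isMaximal (Localization.AtPrime q)) with h1 | h1
    · exfalso
      have h2 := Ideal.comap_map_of_surjective f hf (maximalIdeal (Localization.AtPrime q))
      rw [h1, Ideal.comap_top] at h2
      have h3 : Ideal.comap f ⊥ ≤ maximalIdeal (Localization.AtPrime q) := by
        apply IsLocalRing.le_maximalIdeal
        intro h4
        have h5 : (1 : Localization.AtPrime q) ∈ Ideal.comap f ⊥ := by rw [h4]; exact Submodule.mem_top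
        rw [Ideal.mem_comap, map_one, Ideal.mem_bot] at h5
        exact one_ne_zero h5
      rw [sup_eq_left.mpr h3] at h2
      exact (maximalIdeal.isMaximal (Localization.AtPrime q)).ne_top h2.symm
    · exact IsLocalRing.eq_maximalIdeal h1
  obtain ⟨ê, -⟩ := exists_ringEquiv_adicCompletion_of_ringEquiv _ _
    (IsNoetherian.noetherian _) e hmap
  exact ⟨ê⟩

/-- Kollár's criterion for finiteness of first local cohomology, sufficiency direction, in affine form.
Let A be a Noetherian ring, I an ideal and M a finite A-module. Suppose that for every associated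
prime p of M not containing I, every prime q containing both p and I, and every associated prime P
of the completion C of the local ring A_q/pA_q at its maximal ideal, the quotient C/P has Krull
dimension at least 2. Then H¹_I(M) is a finite A-module. (The criterion is an equivalence; only this
implication is asserted here.) -/
theorem result (A : Type u) [CommRing A] [IsNoetherianRing A] (I : Ideal A) (M : Type u) [AddCommGroup M] [Module A M] [Module.Finite A M] (h : ∀ p : Ideal A, p ∈ associatedPrimes A M → ¬ I ≤ p → ∀ (q : PrimeSpectrum A), p ≤ q.asIdeal → I ≤ q.asIdeal → ∀ P ∈ associatedPrimes (AdicCompletion ((IsLocalRing.maximalIdeal (Localization.AtPrime q.asIdeal)).map (Ideal.Quotient.mk (p.map (algebraMap A (Localization.AtPrime q.asIdeal))))) (Localization.AtPrime q.asIdeal ⧸ p.map (algebraMap A (Localization.AtPrime q.asIdeal)))) (AdicCompletion ((IsLocalRing.maximalIdeal (Localization.AtPrime q.asIdeal)).map (Ideal.Quotient.mk (p.map (algebraMap A (Localization.AtPrime q.asIdeal))))) (Localization.AtPrime q.asIdeal ⧸ p.map (algebraMap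 A (Localization.AtPrime q.asIdeal)))), (2 : WithBot ℕ∞) ≤ ringKrullDim (AdicCompletion ((IsLocalRing.maximalIdeal (Localization.AtPrime q.asIdeal)).map (Ideal.Quotient.mk (p.map (algebraMap A (Localization.AtPrime q.asIdeal))))) (Localization.AtPrime q.asIdeal ⧸ p.map (algebraMap A (Localization.AtPrime q.asIdeal))) ⧸ P)) : Module.Finite A (LocCoh.H I 1 M) := by
  rw [Groth.Agent.S1763.result A I M]
  intro p hp hIp
  have hpp : p.IsPrime := hp.isPrime
  have hJ0 : I.map (Ideal.Quotient.mk p) ≠ ⊥ := by
    intro h0
    apply hIp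
    have h1 := (Ideal.map_eq_bot_iff_le_ker (Ideal.Quotient.mk p)).mp h0
    rwa [Ideal.mk_ker] at h1
  have hfinB : Module.Finite (A ⧸ p) (DT (I.map (Ideal.Quotient.mk p)) (A ⧸ p)) := by
    apply finite_DT_of_completion (A ⧸ p) (I.map (Ideal.Quotient.mk p)) hJ0
    intro Q hQ hJQ
    have hqp : (Q.comap (Ideal.Quotient.mk p)).IsPrime := Ideal.comap_isPrime _ _
    have hpq : p ≤ Q.comap (Ideal.Quotient.mk p) := by
      intro x hx
      rw [Ideal.mem_comap, Ideal.Quotient.eq_zero_iff_mem.mpr hx]
      exact Q.zero_mem
    have hIq : I ≤ Q.comap (Ideal.Quotient.mk p) := Ideal.map_le_iff_le_comap.mp hJQ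
    have hyp := h p hp hIp ⟨Q.comap (Ideal.Quotient.mk p), hqp⟩ hpq hIq
    obtain ⟨ê⟩ := exists_ringEquiv_cpl_quotient p Q (Q.comap (Ideal.Quotient.mk p)) rfl
    exact forall_ass_two_le_of_ringEquiv ê hyp
  have hsurj : Function.Surjective (algebraMap A (A ⧸ p)) := Ideal.Quotient.mk_surjective
  have h1 : Module.Finite A (DT I (A ⧸ p)) :=
    (IsIT.finite_iff_of_surjective hsurj I (isIT_toDT I (A ⧸ p))
      (isIT_toDT (I.map (Ideal.Quotient.mk p)) (A ⧸ p))).mpr hfinB
  exact (isCoherentPushCompl_iff_finite_H1 A I (A ⧸ p)).mp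
    ((isCoherentPushCompl_iff_finite_DT A I (A ⧸ p)).mpr h1)

end Groth.Agent.S1755
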