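import Groth.Statements.S17552
import Groth.Agent.Lib.Helper14AdicFree2

set_option autoImplicit false
universe u
open W4c5adicflatcompl
open CAlg

namespace Groth.Agent.S17552

/-- For a complete Noetherian local ring A (maximal ideal m, m-adic completion Â), an A-module M is
isomorphic to the module of m-adically decaying functions Z → Â for some set Z (m-adically free)
exactly when M is flat and m-adically complete. M and Z live in the universe of A. -/
theorem result {A : Type u} [CommRing A] [IsNoetherianRing A] [IsLocalRing A]
    [IsAdicComplete (IsLocalRing.maximalIdeal A) A]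
    (M : Type u) [AddCommGroup M] [Module A M] :
    IsAdicFree (IsLocalRing.maximalIdeal A) M ↔
      Module.Flat A M ∧ IsAdicComplete (IsLocalRing.maximalIdeal A) M := by
  have hfg : (IsLocalRing.maximalIdeal A).FG := Ideal.fg_of_isNoetherianRing _
  have hcomp : IsAdicComplete (IsLocalRing.maximalIdeal A)
      (AdicCompletion (IsLocalRing.maximalIdeal A) A) := AdicCompletion.isAdicComplete hfg
  let e : A ≃ₗ[A] AdicCompletion (IsLocalRing.maximalIdeal A) A :=
    AdicCompletion.ofLinearEquiv (IsLocalRing.maximalIdeal A) A
  constructor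
  · rintro ⟨Z, ⟨f⟩⟩
    let E := Groth.Agent.Lib.Helper14.AdicFree.decayingCongr (I := IsLocalRing.maximalIdeal A) Z e
    constructor
    · have h1 : Module.Flat A (decaying (IsLocalRing.maximalIdeal A) Z A) :=
        Groth.Agent.Lib.Helper14.Dec.flat_decaying
      have h2 : Module.Flat A (decaying (IsLocalRing.maximalIdeal A) Z
          (AdicCompletion (IsLocalRing.maximalIdeal A) A)) := Module.Flat.of_linearEquiv E.symm
      exact Module.Flat.of_linearEquiv f
    · have h1 : IsAdicComplete (IsLocalRing.maximalIdeal A)
          (decaying (IsLocalRing.maximalIdeal A) Z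
            (AdicCompletion (IsLocalRing.maximalIdeal A) A)) :=
        Groth.Agent.Lib.Helper26.isAdicComplete_decaying _ Z _
      exact Groth.Agent.Lib.Helper14.AdicFree.isAdicComplete_of_linearEquiv f.symm
  · rintro ⟨hflat, hcomplete⟩
    obtain ⟨Z, ⟨f⟩⟩ := Groth.Agent.Lib.Helper14.AdicFree.exists_equiv_decaying (A := A) M
    exact ⟨Z, ⟨f.trans
      (Groth.Agent.Lib.Helper14.AdicFree.decayingCongr (I := IsLocalRing.maximalIdeal A) Z e)⟩⟩

end Groth.Agent.S17552
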