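import Groth.Statements.S1756
import Groth.Agent.Lib.Helper28RatliffF
import Groth.Agent.S1755
import Groth.Agent.S9126
-- import your own Groth.Agent.* helpers here

set_option autoImplicit false
universe u
open LocCoh

namespace Groth.Agent.S1756

open IsLocalRing Groth.Agent.Lib.Helper28.Ratliff

/-- Let A be a universally catenary Noetherian ring and I an ideal such that for every prime q
containing I the formal fibres of A_q satisfy (S_1), and let M be a finite A-module. If for every
associated prime p of M not containing I and every prime q containing both p and I the longest chain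
of primes from p to q has length at least 2, then the local cohomology module H^1_I(M) is a finite
A-module. (Affine form: finiteness of H^1_I(M) stands in for coherence of the pushforward of the
restriction of M~ to Spec A ∖ V(I).) -/
theorem result (A : Type u) [CommRing A] [IsNoetherianRing A] (hA : CAlg.IsUniversallyCatenary A) (I : Ideal A) (hF : ∀ q : PrimeSpectrum A, I ≤ q.asIdeal → EGA4.HasSnFormalFibres 1 (Localization.AtPrime q.asIdeal)) (M : Type u) [AddCommGroup M] [Module A M] [Module.Finite A M] (h : ∀ (p q : PrimeSpectrum A) (hpq : p ≤ q), p.asIdeal ∈ associatedPrimes A M → ¬ I ≤ p.asIdeal → I ≤ q.asIdeal → (2 : ℕ∞) ≤ Order.height (⟨q, hpq⟩ : Set.Ici p)) : Module.Finite A (LocCoh.H I 1 M) := by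
  apply Groth.Agent.S1755.result A I M
  intro p hp hIp q hpq hIq
  have hpp : p.IsPrime := hp.isPrime
  have hqp : q.asIdeal.IsPrime := q.2
  have hNR : IsNoetherianRing (Localization.AtPrime q.asIdeal) :=
    IsLocalization.isNoetherianRing q.asIdeal.primeCompl _ inferInstance
  have hUCR : CAlg.IsUniversallyCatenary (Localization.AtPrime q.asIdeal) :=
    Groth.Agent.S9126.result A (Localization.AtPrime q.asIdeal) hA
  have hdisj : Disjoint (q.asIdeal.primeCompl : Set A) (p : Set A) := by
    rw [Set.disjoint_left]
    intro x hx hxp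
    exact hx (hpq hxp)
  have hPp : (p.map (algebraMap A (Localization.AtPrime q.asIdeal))).IsPrime :=
    IsLocalization.isPrime_of_isPrime_disjoint q.asIdeal.primeCompl _ p hpp hdisj
  have hUCD : CAlg.IsUniversallyCatenary (Localization.AtPrime q.asIdeal ⧸
      p.map (algebraMap A (Localization.AtPrime q.asIdeal))) :=
    Groth.Agent.S9126.result (Localization.AtPrime q.asIdeal) _ hUCR
  have hFFD : EGA4.HasSnFormalFibres 1 (Localization.AtPrime q.asIdeal ⧸
      p.map (algebraMap A (Localization.AtPrime q.asIdeal))) :=
    hasSnFormalFibres_quotient 1 _ (hF q hIq) _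
  -- the dimension
  have hdim : (2 : WithBot ℕ∞) ≤ ringKrullDim (Localization.AtPrime q.asIdeal ⧸
      p.map (algebraMap A (Localization.AtPrime q.asIdeal))) := by
    have hsurj : Function.Surjective (Ideal.Quotient.mk p) := Ideal.Quotient.mk_surjective
    have hQ'p : (q.asIdeal.map (Ideal.Quotient.mk p)).IsPrime :=
      Ideal.map_isPrime_of_surjective hsurj (by rw [Ideal.mk_ker]; exact hpq)
    have hQ'c : (q.asIdeal.map (Ideal.Quotient.mk p)).comap (Ideal.Quotient.mk p) = q.asIdeal := by
      rw [Ideal.comap_map_of_surjective _ hsurj, ← RingHom.ker_eq_comap_bot, Ideal.mk_ker,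
        sup_eq_left]
      exact hpq
    rw [Groth.Agent.Lib.Helper28.Deligne.ringKrullDim_localization_quotient_map p q.asIdeal hpq
      (q.asIdeal.map (Ideal.Quotient.mk p)) hQ'c]
    have h1 := h ⟨p, hpp⟩ q hpq hp hIp hIq
    have h2 := height_Ici_le_height_map_mk ⟨p, hpp⟩ q hpq
    have h3 : (2 : ℕ∞) ≤ (q.asIdeal.map (Ideal.Quotient.mk p)).height := h1.trans h2
    exact (WithBot.coe_le_coe.mpr h3 : ((2 : ℕ∞) : WithBot ℕ∞) ≤ _)
  have key := two_le_ringKrullDim_quotient_of_mem_associatedPrimes_cpl _ hUCD hFFD hdim
  have key2 : ∀ J : Ideal (Localization.AtPrime q.asIdeal ⧸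
      p.map (algebraMap A (Localization.AtPrime q.asIdeal))),
      J = maximalIdeal (Localization.AtPrime q.asIdeal ⧸
        p.map (algebraMap A (Localization.AtPrime q.asIdeal))) →
      ∀ P ∈ associatedPrimes (AdicCompletion J (Localization.AtPrime q.asIdeal ⧸
        p.map (algebraMap A (Localization.AtPrime q.asIdeal))))
        (AdicCompletion J (Localization.AtPrime q.asIdeal ⧸
        p.map (algebraMap A (Localization.AtPrime q.asIdeal)))),
      (2 : WithBot ℕ∞) ≤ ringKrullDim (AdicCompletion J (Localization.AtPrime q.asIdeal ⧸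
        p.map (algebraMap A (Localization.AtPrime q.asIdeal))) ⧸ P) := by
    rintro J rfl
    exact key
  exact key2 _ (IsLocalRing.map_maximalIdeal_of_surjective _ Ideal.Quotient.mk_surjective)

end Groth.Agent.S1756
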