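import Groth.Statements.S1757
-- no extra imports

set_option autoImplicit false
universe u
open LocCoh

namespace Groth.Agent.S1757

theorem indep_of_mul (A : Type u) [CommRing A] (r : ℕ) (f : Fin r → A) (L : Fin r) (g : A)
    (h : Dual2.Independent (Function.update f L (f L * g))) : Dual2.Independent f := by
  classical
  set f' := Function.update f L (f L * g) with hf'
  have hf'L : f' L = f L * g := Function.update_self ..
  have hf'ne : ∀ i, i ≠ L → f' i = f i := fun i hi => Function.update_of_ne hi ..
  have hle : Ideal.span (Set.range f') ≤ Ideal.span (Set.range f) := by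
    rw [Ideal.span_le]
    rintro _ ⟨i, rfl⟩
    by_cases hi : i = L
    · rw [hi, hf'L]
      exact Ideal.mul_mem_right _ _ (Ideal.subset_span ⟨L, rfl⟩)
    · rw [hf'ne i hi]
      exact Ideal.subset_span ⟨i, rfl⟩
  intro a ha
  have h1 : a L ∈ Ideal.span (Set.range f') := by
    have := h (fun i => if i = L then a L else a i * g) (by
      have hpt : ∀ i, (if i = L then a L else a i * g) * f' i = g * (a i * f i) := by
        intro i
        by_cases hi : i = L
        · rw [if_pos hi, hi, hf'L]; ring
        · rw [if_neg hi, hf'ne i hi]; ring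
      rw [Finset.sum_congr rfl (fun i _ => hpt i), ← Finset.mul_sum, ha, mul_zero]) L
    simpa using this
  obtain ⟨b, hb⟩ := (Ideal.mem_span_range_iff_exists_fun).mp h1
  have h2 := h (fun i => if i = L then b L * f L else a i + b i * f L) (by
    have hpt : ∀ i, (if i = L then b L * f L else a i + b i * f L) * f' i =
        a i * f i + f L * (b i * f' i) - (if i = L then a L * f L else 0) := by
      intro i
      by_cases hi : i = L
      · rw [if_pos hi, if_pos hi, hi, hf'L]; ring
      · rw [if_neg hi, if_neg hi, hf'ne i hi]; ring
    rw [Finset.sum_congr rfl (fun i _ => hpt i), Finset.sum_sub_distrib, Finset.sum_add_distrib,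
      ← Finset.mul_sum, ha, hb, Finset.sum_ite_eq' Finset.univ L]
    simp only [Finset.mem_univ, if_true]
    ring)
  intro i
  by_cases hi : i = L
  · rw [hi]; exact hle h1
  · have h3 := h2 i
    rw [if_neg hi] at h3
    have h4 : b i * f L ∈ Ideal.span (Set.range f) :=
      Ideal.mul_mem_left _ _ (Ideal.subset_span ⟨L, rfl⟩)
    have h5 := Ideal.sub_mem _ (hle h3) h4
    simpa using h5

theorem length_add (A : Type u) [CommRing A] (r : ℕ) (f : Fin r → A) (L : Fin r) (g : A)
    (h : Dual2.Independent (Function.update f L (f L * g))) :
    Module.length A (A ⧸ Ideal.span (Set.range (Function.update f L (f L * g)))) =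
      Module.length A (A ⧸ Ideal.span (Set.range f)) +
        Module.length A (A ⧸ Ideal.span (Set.range (Function.update f L g))) := by
  classical
  set f' := Function.update f L (f L * g) with hf'
  set f'' := Function.update f L g with hf''
  have hf'L : f' L = f L * g := Function.update_self ..
  have hf'ne : ∀ i, i ≠ L → f' i = f i := fun i hi => Function.update_of_ne hi ..
  have hf''L : f'' L = g := Function.update_self ..
  have hf''ne : ∀ i, i ≠ L → f'' i = f i := fun i hi => Function.update_of_ne hi ..
  set I' := Ideal.span (Set.range f') with hI'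
  set I := Ideal.span (Set.range f) with hI
  set I'' := Ideal.span (Set.range f'') with hI''
  have hmem' : ∀ i, i ≠ L → f i ∈ I' := fun i hi => by
    rw [← hf'ne i hi]; exact Ideal.subset_span ⟨i, rfl⟩
  have hmem'' : ∀ i, i ≠ L → f i ∈ I'' := fun i hi => by
    rw [← hf''ne i hi]; exact Ideal.subset_span ⟨i, rfl⟩
  have hgI'' : g ∈ I'' := by rw [← hf''L]; exact Ideal.subset_span ⟨L, rfl⟩
  have hle : I' ≤ I := by
    rw [hI', Ideal.span_le]
    rintro _ ⟨i, rfl⟩
    by_cases hi : i = L
    · rw [hi, hf'L]
      exact Ideal.mul_mem_right _ _ (Ideal.subset_span ⟨L, rfl⟩)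
    · rw [hf'ne i hi]
      exact Ideal.subset_span ⟨i, rfl⟩
  have hle'' : I' ≤ I'' := by
    rw [hI', Ideal.span_le]
    rintro _ ⟨i, rfl⟩
    by_cases hi : i = L
    · rw [hi, hf'L]
      exact Ideal.mul_mem_left _ _ hgI''
    · rw [hf'ne i hi]
      exact hmem'' i hi
  have hmul : ∀ x ∈ I'', f L * x ∈ I' := by
    intro x hx
    refine Submodule.span_induction ?_ ?_ ?_ ?_ hx
    · rintro _ ⟨i, rfl⟩
      by_cases hi : i = L
      · rw [hi, hf''L, ← hf'L]; exact Ideal.subset_span ⟨L, rfl⟩
      · rw [hf''ne i hi]; exact Ideal.mul_mem_left _ _ (hmem' i hi)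
    · simp
    · intro x y _ _ hx hy; rw [mul_add]; exact Ideal.add_mem _ hx hy
    · intro a x _ hx; rw [smul_eq_mul, mul_left_comm]; exact Ideal.mul_mem_left _ _ hx
  have hker : ∀ x, f L * x ∈ I' → x ∈ I'' := by
    intro x hx
    obtain ⟨c, hc⟩ := (Ideal.mem_span_range_iff_exists_fun).mp hx
    have := h (fun i => if i = L then c L * g - x else c i * g) (by
      have hpt : ∀ i, (if i = L then c L * g - x else c i * g) * f' i =
          g * (c i * f' i) - (if i = L then x * f' L else 0) := by
        intro i
        by_cases hi : i = L
        · rw [if_pos hi, if_pos hi, hi]; ring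
        · rw [if_neg hi, if_neg hi]; ring
      rw [Finset.sum_congr rfl (fun i _ => hpt i), Finset.sum_sub_distrib, ← Finset.mul_sum, hc,
        Finset.sum_ite_eq' Finset.univ L]
      simp only [Finset.mem_univ, if_true]
      rw [hf'L]; ring) L
    rw [if_pos rfl] at this
    have h2 : c L * g ∈ I'' := Ideal.mul_mem_left _ _ hgI''
    have h3 := Ideal.sub_mem _ h2 (hle'' this)
    simpa using h3
  let φ : (A ⧸ I'') →ₗ[A] (A ⧸ I') :=
    Submodule.liftQ I'' ((Submodule.mkQ I').comp (LinearMap.mulLeft A (f L))) (by
      intro x hx
      rw [LinearMap.mem_ker, LinearMap.comp_apply, LinearMap.mulLeft_apply, Submodule.mkQ_apply,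
        Submodule.Quotient.mk_eq_zero]
      exact hmul x hx)
  let ψ : (A ⧸ I') →ₗ[A] (A ⧸ I) := Submodule.mapQ I' I LinearMap.id (by simpa using hle)
  have hφ : ∀ x : A, φ (Submodule.Quotient.mk x) = Submodule.Quotient.mk (f L * x) := fun x => rfl
  have hψ : ∀ x : A, ψ (Submodule.Quotient.mk x) = Submodule.Quotient.mk x := fun x => rfl
  have hφinj : Function.Injective φ := by
    rw [← LinearMap.ker_eq_bot, eq_bot_iff]
    intro y hy
    obtain ⟨x, rfl⟩ := Submodule.Quotient.mk_surjective _ y
    rw [LinearMap.mem_ker, hφ, Submodule.Quotient.mk_eq_zero] at hy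
    rw [Submodule.mem_bot, Submodule.Quotient.mk_eq_zero]
    exact hker x hy
  have hψsurj : Function.Surjective ψ := by
    intro y
    obtain ⟨x, rfl⟩ := Submodule.Quotient.mk_surjective _ y
    exact ⟨Submodule.Quotient.mk x, hψ x⟩
  have hex : Function.Exact φ ψ := by
    intro y
    constructor
    · intro hy
      obtain ⟨x, rfl⟩ := Submodule.Quotient.mk_surjective _ y
      rw [hψ, Submodule.Quotient.mk_eq_zero] at hy
      have hsup : I ≤ I' ⊔ Ideal.span {f L} := by
        rw [hI, Ideal.span_le]
        rintro _ ⟨i, rfl⟩
        by_cases hi : i = L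
        · rw [hi]; exact Submodule.mem_sup_right (Ideal.subset_span rfl)
        · exact Submodule.mem_sup_left (hmem' i hi)
      obtain ⟨y', hy', z, hz, rfl⟩ := Submodule.mem_sup.mp (hsup hy)
      obtain ⟨c, rfl⟩ := Ideal.mem_span_singleton'.mp hz
      refine ⟨Submodule.Quotient.mk c, ?_⟩
      rw [hφ, Submodule.Quotient.eq]
      have : f L * c - (y' + c * f L) = -y' := by ring
      rw [this]
      exact Submodule.neg_mem _ hy'
    · rintro ⟨z, rfl⟩
      obtain ⟨x, rfl⟩ := Submodule.Quotient.mk_surjective _ z
      rw [hφ, hψ, Submodule.Quotient.mk_eq_zero]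
      exact Ideal.mul_mem_right _ _ (Ideal.subset_span ⟨L, rfl⟩)
  rw [Module.length_eq_add_of_exact φ ψ hφinj hψsurj hex, add_comm]

theorem prod_split (r : ℕ) (e : Fin r → ℕ) (i : Fin r) (hi : 1 ≤ e i) :
    ∏ j, e j = ∏ j, Function.update e i (e i - 1) j + ∏ j, Function.update e i 1 j := by
  classical
  rw [Finset.prod_update_of_mem (Finset.mem_univ i), Finset.prod_update_of_mem (Finset.mem_univ i),
    ← add_mul]
  conv_lhs => rw [← Function.update_eq_self i e]
  rw [Finset.prod_update_of_mem (Finset.mem_univ i)]
  congr 1
  omega

theorem main (A : Type u) [CommRing A] [IsLocalRing A] (r : ℕ) (x : Fin r → A)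
    (hx : Ideal.span (Set.range x) = IsLocalRing.maximalIdeal A) :
    ∀ (N : ℕ) (e : Fin r → ℕ), (∑ i, e i = N) → (∀ i, 0 < e i) →
      Dual2.Independent (fun i => x i ^ e i) →
      Module.length A (A ⧸ Ideal.span (Set.range (fun i => x i ^ e i))) = ∏ i, (e i : ℕ∞) := by
  classical
  intro N
  induction N using Nat.strong_induction_on with
  | _ N ih =>
    intro e hN he hind
    by_cases hall : ∀ i, e i = 1
    · have h0 : (fun i => x i ^ e i) = x := by funext i; rw [hall i, pow_one]
      rw [h0, hx]
      have h1 : Module.length A (A ⧸ IsLocalRing.maximalIdeal A) = 1 := by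
        rw [Module.length_eq_one_iff]
        exact (isSimpleModule_iff_isCoatom).mpr (Ideal.isMaximal_def.mp inferInstance)
      rw [h1]
      simp [hall]
    · obtain ⟨i, hi⟩ := not_forall.mp hall
      have hi1 := he i
      have hi2 : 2 ≤ e i := by omega
      set e' := Function.update e i (e i - 1) with he'
      set e'' := Function.update e i 1 with he''
      have he'i : e' i = e i - 1 := Function.update_self ..
      have he''i : e'' i = 1 := Function.update_self ..
      have he'ne : ∀ j, j ≠ i → e' j = e j := fun j hj => Function.update_of_ne hj ..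
      have he''ne : ∀ j, j ≠ i → e'' j = e j := fun j hj => Function.update_of_ne hj ..
      set F : Fin r → A := fun j => x j ^ e' j with hF
      set G : Fin r → A := fun j => x j ^ e'' j with hG
      have hFe : Function.update F i (F i * x i) = fun j => x j ^ e j := by
        funext j
        by_cases hj : j = i
        · rw [hj, Function.update_self, hF]
          simp only
          rw [he'i, ← pow_succ]
          congr 1
          omega
        · rw [Function.update_of_ne hj, hF]
          simp only
          rw [he'ne j hj]
      have hGe : Function.update G i (G i * x i ^ (e i - 1)) = fun j => x j ^ e j := by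
        funext j
        by_cases hj : j = i
        · rw [hj, Function.update_self, hG]
          simp only
          rw [he''i, ← pow_add]
          congr 1
          omega
        · rw [Function.update_of_ne hj, hG]
          simp only
          rw [he''ne j hj]
      have hFG : Function.update F i (x i) = G := by
        funext j
        by_cases hj : j = i
        · rw [hj, Function.update_self, hG]
          simp only
          rw [he''i, pow_one]
        · rw [Function.update_of_ne hj, hF, hG]
          simp only
          rw [he'ne j hj, he''ne j hj]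
      have hindF : Dual2.Independent F := indep_of_mul A r F i (x i) (by rw [hFe]; exact hind)
      have hindG : Dual2.Independent G :=
        indep_of_mul A r G i (x i ^ (e i - 1)) (by rw [hGe]; exact hind)
      have hlen := length_add A r F i (x i) (by rw [hFe]; exact hind)
      rw [hFe, hFG] at hlen
      have hsplit := prod_split r e i hi1
      have hsum' : ∑ j, e' j < N := by
        rw [← hN]
        apply Finset.sum_lt_sum
        · intro j _
          by_cases hj : j = i
          · rw [hj, he'i]; omega
          · rw [he'ne j hj]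
        · exact ⟨i, Finset.mem_univ i, by rw [he'i]; omega⟩
      have hsum'' : ∑ j, e'' j < N := by
        rw [← hN]
        apply Finset.sum_lt_sum
        · intro j _
          by_cases hj : j = i
          · rw [hj, he''i]; omega
          · rw [he''ne j hj]
        · exact ⟨i, Finset.mem_univ i, by rw [he''i]; omega⟩
      have hpos' : ∀ j, 0 < e' j := by
        intro j
        by_cases hj : j = i
        · rw [hj, he'i]; omega
        · rw [he'ne j hj]; exact he j
      have hpos'' : ∀ j, 0 < e'' j := by
        intro j
        by_cases hj : j = i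
        · rw [hj, he''i]; omega
        · rw [he''ne j hj]; exact he j
      have ih' := ih _ hsum' e' rfl hpos' hindF
      have ih'' := ih _ hsum'' e'' rfl hpos'' hindG
      rw [hlen, ih', ih'']
      rw [← Nat.cast_prod, ← Nat.cast_prod, ← Nat.cast_prod, hsplit, Nat.cast_add]

/-- Let A be a local ring whose maximal ideal is generated by x_1, …, x_r, and let e_1, …, e_r be
positive integers such that x_1^{e_1}, …, x_r^{e_r} are independent. Then the length of
A/(x_1^{e_1}, …, x_r^{e_r}) equals the product e_1 ⋯ e_r. -/
theorem result (A : Type u) [CommRing A] [IsLocalRing A] (r : ℕ) (x : Fin r → A) (hx : Ideal.span (Set.range x) = IsLocalRing.maximalIdeal A) (e : Fin r → ℕ) (he : ∀ i, 0 < e i) (hind : Dual2.Independent (fun i => x i ^ e i)) : Module.length A (A ⧸ Ideal.span (Set.range (fun i => x i ^ e i))) = ∏ i, (e i : ℕ∞) := by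
  exact main A r x hx _ e rfl he hind

end Groth.Agent.S1757
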