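import Groth.Statements.S1758
import Mathlib

set_option autoImplicit false
universe u
open LocCoh

namespace Groth.Agent.S1758

/-- Let A → B be a flat ring map. If a family f_1, …, f_r of elements of A is independent (every linear
relation has coefficients in the ideal the family generates), then so is the family of their images
in B. -/
theorem result (A B : Type u) [CommRing A] [CommRing B] [Algebra A B] [Module.Flat A B] (r : ℕ) (f : Fin r → A) (hf : Dual2.Independent f) : Dual2.Independent (fun i => algebraMap A B (f i)) := by
  intro b hb i
  obtain ⟨k, a, y, hbx, hrel⟩ := Module.Flat.isTrivialRelation_of_sum_smul_eq_zero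
    (R := A) (M := B) (f := f) (x := b) (by
      rw [← hb]
      refine Finset.sum_congr rfl fun j _ => ?_
      rw [Algebra.smul_def, mul_comm])
  rw [hbx i]
  refine Ideal.sum_mem _ fun j _ => ?_
  have hj : a i j ∈ Ideal.span (Set.range f) := by
    apply hf (fun i' => a i' j)
    rw [← hrel j]
    refine Finset.sum_congr rfl fun i' _ => ?_
    ring
  rw [Algebra.smul_def]
  apply Ideal.mul_mem_right
  have hmap : Ideal.map (algebraMap A B) (Ideal.span (Set.range f)) ≤
      Ideal.span (Set.range fun i => algebraMap A B (f i)) := by
    rw [Ideal.map_span, Ideal.span_le]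
    rintro _ ⟨_, ⟨i', rfl⟩, rfl⟩
    exact Ideal.subset_span ⟨i', rfl⟩
  exact hmap (Ideal.mem_map_of_mem _ hj)

end Groth.Agent.S1758
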