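import Groth.Statements.S17581
import Mathlib
import Groth.Agent.Lib.Helper23BaseLocus
-- import your own Groth.Agent.* helpers here

set_option autoImplicit false
open CategoryTheory CategoryTheory.Limits AlgebraicGeometry
open PosLin

namespace Groth.Agent.S17581
open CategoryTheory CategoryTheory.Limits AlgebraicGeometry
open Groth.Agent.Lib.Helper23.BaseLocus TopologicalSpace

open Groth.Agent.Lib.Helper23.BaseLocus TopologicalSpace

theorem noeth (X : Scheme.{0}) [X.Over (Spec (CommRingCat.of ℂ))]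
    [IsProper (X ↘ Spec (CommRingCat.of ℂ))] (H : X.Modules) (hH : CohB1.IsAmple H) : NoetherianSpace X := by
  haveI : IsLocallyNoetherian X := LocallyOfFiniteType.isLocallyNoetherian (X ↘ Spec (CommRingCat.of ℂ))
  haveI : CompactSpace X := hH.2.1
  haveI : IsNoetherian X := {}
  infer_instance

/-- Let X be a projective variety over the complex numbers (an integral scheme, proper over ℂ, with an
ample invertible module) and L an invertible O_X-module; for m ≥ 1 let Bs(L^⊗m) be the base locus of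
L^⊗m (the points lying in no open X_s over which a global section s : O_X → L^⊗m is an isomorphism)
and B(L) = ⋂_{m ≥ 1} Bs(L^⊗m) the stable base locus. Then, among the closed sets Bs(L^⊗m) with m ≥
1, B(L) occurs and is the only minimal one: B(L) = Bs(L^⊗m) for some m ≥ 1, and for each m ≥ 1,
Bs(L^⊗m) is minimal in this family if and only if it coincides with B(L). -/
theorem result (X : Scheme.{0}) [X.Over (Spec (CommRingCat.of ℂ))] [IsIntegral X]
    [IsProper (X ↘ Spec (CommRingCat.of ℂ))] (H : X.Modules) (hH : CohB1.IsAmple H)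
    (L : X.Modules) (hL : PicF.IsInvertible L) :
    (∃ m : ℕ, 0 < m ∧ {x : X | ∀ s : Coh.structureModule X ⟶ CohB1.tensorPow L m, x ∉ CohB1.genLocus (CohB1.tensorPow L m) s} = {x : X | ∀ m : ℕ, 0 < m → ∀ s : Coh.structureModule X ⟶ CohB1.tensorPow L m, x ∉ CohB1.genLocus (CohB1.tensorPow L m) s}) ∧
    ∀ m : ℕ, 0 < m →
      ((∀ m' : ℕ, 0 < m' →
          {x : X | ∀ s : Coh.structureModule X ⟶ CohB1.tensorPow L m', x ∉ CohB1.genLocus (CohB1.tensorPow L m') s} ⊆ {x : X | ∀ s : Coh.structureModule X ⟶ CohB1.tensorPow L m, x ∉ CohB1.genLocus (CohB1.tensorPow L m) s} →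
          {x : X | ∀ s : Coh.structureModule X ⟶ CohB1.tensorPow L m', x ∉ CohB1.genLocus (CohB1.tensorPow L m') s} = {x : X | ∀ s : Coh.structureModule X ⟶ CohB1.tensorPow L m, x ∉ CohB1.genLocus (CohB1.tensorPow L m) s}) ↔
        {x : X | ∀ s : Coh.structureModule X ⟶ CohB1.tensorPow L m, x ∉ CohB1.genLocus (CohB1.tensorPow L m) s} = {x : X | ∀ m : ℕ, 0 < m → ∀ s : Coh.structureModule X ⟶ CohB1.tensorPow L m, x ∉ CohB1.genLocus (CohB1.tensorPow L m) s}) := by
  haveI := noeth X H hH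
  obtain ⟨n₀, hn₀, hst⟩ := stable_eq L hL
  change (∃ m : ℕ, 0 < m ∧ Bs L m = {x : X | ∀ m : ℕ, 0 < m → x ∈ Bs L m}) ∧
    ∀ m : ℕ, 0 < m → ((∀ m' : ℕ, 0 < m' → Bs L m' ⊆ Bs L m → Bs L m' = Bs L m) ↔
      Bs L m = {x : X | ∀ m : ℕ, 0 < m → x ∈ Bs L m})
  refine ⟨⟨1 * n₀, Nat.mul_pos Nat.one_pos hn₀, (hst 1 Nat.one_pos).symm⟩, fun m hm => ⟨fun h => ?_, fun h m' hm' hsub => ?_⟩⟩
  · have h1 : Bs L (m * n₀) ⊆ Bs L m := Bs_mul_subset L hL m n₀ hn₀
    rw [← h (m * n₀) (Nat.mul_pos hm hn₀) h1]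
    exact (hst m hm).symm
  · apply Set.Subset.antisymm hsub
    rw [h]
    intro x hx
    exact hx m' hm'

end Groth.Agent.S17581
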