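import Groth.Statements.S17592
-- import your own Groth.Agent.* helpers here
import Groth.Agent.Lib.Helper26HenselNbhd

set_option autoImplicit false
universe u
open Hensel

namespace Groth.Agent.S17592

open Groth.Agent.Lib.Helper26.HenselNbhd

/-- Let R → S be an étale ring map and I an ideal of R such that the induced map R/I → S/IS is
bijective. Then a Henselization of the pair (S, IS), regarded as an R-algebra, is a Henselization of
the pair (R, I). -/
theorem result (R : Type u) [CommRing R] (I : Ideal R)
    (S : Type u) [CommRing S] [Algebra R S] [Algebra.Etale R S]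
    (hq : Function.Bijective
      (Ideal.quotientMap (I.map (algebraMap R S)) (algebraMap R S) Ideal.le_comap_map))
    (H : Type u) [CommRing H] [Algebra S H] [Algebra R H] [IsScalarTower R S H]
    (hH : Hens2.IsPairHenselization S (I.map (algebraMap R S)) H) :
    Hens2.IsPairHenselization R I H := by
  have hmap : (I.map (algebraMap R S)).map (algebraMap S H) = I.map (algebraMap R H) := by
    rw [Ideal.map_map, ← IsScalarTower.algebraMap_eq]
  refine ⟨?_, ?_⟩
  · have := hH.1
    rw [hmap] at this
    exact this
  · intro C _ J f hC hIJ
    haveI := hC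
    obtain ⟨fS, hfS⟩ := exists_ringHom_of_etale_nbhd I hq J f hIJ
    have hIS : (I.map (algebraMap R S)).map fS ≤ J := by
      rw [Ideal.map_map, hfS]
      exact hIJ
    obtain ⟨g, hg, hguniq⟩ := hH.2 C J fS hC hIS
    refine ⟨g, ?_, ?_⟩
    · change g.comp (algebraMap R H) = f
      rw [IsScalarTower.algebraMap_eq R S H, ← RingHom.comp_assoc, hg, hfS]
    · intro g' hg'
      apply hguniq
      change g'.comp (algebraMap S H) = fS
      apply ringHom_ext_of_etale_nbhd I hq.2 J hC.jac f hIJ _ _ _ hfS
      rw [RingHom.comp_assoc, ← IsScalarTower.algebraMap_eq R S H]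
      exact hg'

end Groth.Agent.S17592
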