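import Groth.Statements.S17595
-- import your own Groth.Agent.* helpers here
import Groth.Agent.Lib.Helper26AwayQuot

set_option autoImplicit false
universe u
open Hensel

namespace Groth.Agent.S17595

section Helpers

variable {A R : Type u} [CommRing A] [CommRing R] [Algebra A R]

/-- quasi-finite at a prime ⟹ quasi-finite on a principal open neighbourhood. -/
theorem exists_quasiFinite_away [Algebra.FiniteType A R] (q : Ideal R) [q.IsPrime]
    [Algebra.QuasiFiniteAt A q] :
    ∃ r : R, r ∉ q ∧ Algebra.QuasiFinite A (Localization.Away r) := by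
  obtain ⟨S', hS', r, hrp, H⟩ :=
    Algebra.QuasiFiniteAt.exists_fg_and_exists_notMem_and_awayMap_bijective (R := A) q
  have : Module.Finite A S' := ⟨(Submodule.fg_top _).mpr hS'⟩
  have : Algebra.QuasiFinite A (Localization.Away r) := .trans _ S' _
  have : Algebra.QuasiFinite A (Localization.Away r.1) :=
    .of_surjective_algHom (Localization.awayMapₐ S'.val r) H.2
  exact ⟨r.1, hrp, this⟩

/-- a localization of a principal open on which `A → R` is quasi-finite is quasi-finite. -/
theorem quasiFinite_away_away (g r : R) [Algebra.QuasiFinite A (Localization.Away r)] :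
    Algebra.QuasiFinite A
      (Localization.Away (algebraMap R (Localization.Away g) r)) := by
  let Rg := Localization.Away g
  let r' : Rg := algebraMap R Rg r
  let T' := Localization.Away r'
  have hunit : IsUnit ((IsScalarTower.toAlgHom A R T') r) := by
    change IsUnit (algebraMap R T' r)
    rw [IsScalarTower.algebraMap_apply R Rg T']
    exact IsLocalization.Away.algebraMap_isUnit r'
  let f : Localization.Away r →ₐ[A] T' :=
    IsLocalization.Away.liftAlgHom r (f := IsScalarTower.toAlgHom A R T') hunit
  have hf : ∀ z : R, f (algebraMap R (Localization.Away r) z) = algebraMap R T' z := by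
    intro z
    simp [f]
  refine Algebra.QuasiFinite.of_forall_exists_mul_mem_range f ?_
  intro x
  obtain ⟨n, y, hy⟩ := IsLocalization.Away.surj r' x
  obtain ⟨a, z, hz⟩ := IsLocalization.Away.surj g y
  refine ⟨algebraMap R (Localization.Away r) (r ^ n * g ^ a), ?_, ?_⟩
  · rw [hf, map_mul, map_pow, map_pow]
    refine IsUnit.mul (IsUnit.pow _ ?_) (IsUnit.pow _ ?_)
    · rw [IsScalarTower.algebraMap_apply R Rg T']
      exact IsLocalization.Away.algebraMap_isUnit r'
    · rw [IsScalarTower.algebraMap_apply R Rg T']
      exact (IsLocalization.Away.algebraMap_isUnit g).map _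
  · refine ⟨algebraMap R (Localization.Away r) z, ?_⟩
    change f (algebraMap R (Localization.Away r) z) = _
    rw [hf, hf, map_mul, map_pow, map_pow, IsScalarTower.algebraMap_apply R Rg T' r,
      ← mul_assoc, hy, IsScalarTower.algebraMap_apply R Rg T' g, ← map_pow, ← map_mul, hz,
      ← IsScalarTower.algebraMap_apply]

end Helpers

/-- Suppose (A, I) is a Henselian pair, and R is an A-algebra of finite presentation for which A → R is
quasi-finite at each prime of R that contains IR. Then there is an étale R-algebra R' such that R/IR
→ R'/IR' is bijective and A → R' is quasi-finite. -/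
theorem result (A : Type u) [CommRing A] (I : Ideal A) [HenselianRing A I]
    (R : Type u) [CommRing R] [Algebra A R] [Algebra.FinitePresentation A R]
    (h : ∀ (p : Ideal R) [p.IsPrime], I.map (algebraMap A R) ≤ p → Algebra.QuasiFiniteAt A p)
    : ∃ (R' : Type u) (_ : CommRing R') (_ : Algebra R R') (_ : Algebra A R') (_ : IsScalarTower A R R'),
      Algebra.Etale R R' ∧
      Function.Bijective (Ideal.quotientMap ((I.map (algebraMap A R)).map (algebraMap R R'))
        (algebraMap R R') Ideal.le_comap_map) ∧ Algebra.QuasiFinite A R' := by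
  let T : Set R := {r | Algebra.QuasiFinite A (Localization.Away r)}
  let U : Set (PrimeSpectrum R) := ⋃ r ∈ T, (PrimeSpectrum.basicOpen r : Set (PrimeSpectrum R))
  have hUopen : IsOpen U :=
    isOpen_biUnion fun r _ => (PrimeSpectrum.basicOpen r).isOpen
  have hsub : PrimeSpectrum.zeroLocus ((I.map (algebraMap A R) : Ideal R) : Set R) ⊆ U := by
    intro p hp
    haveI := h p.asIdeal hp
    obtain ⟨r, hr, hrT⟩ := exists_quasiFinite_away (A := A) p.asIdeal
    exact Set.mem_biUnion hrT hr
  obtain ⟨g, hg, hgU⟩ := Groth.Agent.Lib.Helper26.AwayQuot.exists_basicOpen_subset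
    (I.map (algebraMap A R)) U hUopen hsub
  refine ⟨Localization.Away g, inferInstance, inferInstance, inferInstance, inferInstance,
    inferInstance, ?_, ?_⟩
  · exact Groth.Agent.Lib.Helper26.AwayQuot.quotientMap_away_bijective _ g hg _
  · rw [← RingHom.quasiFinite_algebraMap]
    let Rg := Localization.Away g
    apply RingHom.QuasiFinite.ofLocalizationSpanTarget (algebraMap A Rg)
      ((algebraMap R Rg) '' T)
    · by_contra hne
      obtain ⟨m, hm, hle⟩ := Ideal.exists_le_maximal _ hne
      haveI := hm.isPrime
      let p : PrimeSpectrum R := ⟨m.comap (algebraMap R Rg), inferInstance⟩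
      have hpg : p ∈ (PrimeSpectrum.basicOpen g : Set (PrimeSpectrum R)) := by
        change g ∉ m.comap (algebraMap R Rg)
        intro hgm
        exact hm.ne_top (Ideal.eq_top_of_isUnit_mem _ hgm
          (IsLocalization.Away.algebraMap_isUnit g))
      obtain ⟨r, hrT, hr⟩ := Set.mem_iUnion₂.mp (hgU hpg)
      exact hr (hle (Ideal.subset_span ⟨r, hrT, rfl⟩))
    · rintro ⟨_, r, hrT, rfl⟩
      haveI : Algebra.QuasiFinite A (Localization.Away r) := hrT
      have := quasiFinite_away_away (A := A) g r
      rw [← RingHom.quasiFinite_algebraMap] at this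
      convert this using 1
      exact (IsScalarTower.algebraMap_eq A Rg _).symm

end Groth.Agent.S17595
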