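import Groth.Statements.S17596
-- import your own Groth.Agent.* helpers here
import Groth.Agent.Lib.Helper26PairHzMore
import Groth.Agent.Lib.Helper26HenselFinPart
import Groth.Agent.S17595
import Groth.Agent.S0526

set_option autoImplicit false
universe u
open Hensel

namespace Groth.Agent.S17596

open Groth.Agent.Lib.Helper26.PairHz Groth.Agent.Lib.Helper26.HenselFinPart

section Helpers

variable {A : Type u} [CommRing A] (I : Ideal A)

/-- finiteness of `R/IR` gives quasi-finiteness at the primes over `V(IR)`. -/
theorem quasiFiniteAt_of_finite_quotient (R : Type u) [CommRing R] [Algebra A R]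
    [Algebra.FiniteType A R] [Module.Finite A (R ⧸ I.map (algebraMap A R))]
    (p : Ideal R) [p.IsPrime] (hp : I.map (algebraMap A R) ≤ p) : Algebra.QuasiFiniteAt A p := by
  have hle : I.map (algebraMap A R) ≤ (p.under A).map (algebraMap A R) := by
    apply Ideal.map_mono
    intro a ha
    rw [Ideal.under_def, Ideal.mem_comap]
    exact hp (Ideal.mem_map_of_mem _ ha)
  haveI : Module.Finite A (R ⧸ (p.under A).map (algebraMap A R)) :=
    Module.Finite.of_surjective (Ideal.Quotient.factorₐ A hle).toLinearMap
      (Ideal.Quotient.factor_surjective hle)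
  haveI : Algebra.WeaklyQuasiFiniteAt A p := inferInstance
  exact Algebra.QuasiFiniteAt.of_weaklyQuasiFiniteAt p

/-- transfer of finiteness of the special fibre -/
theorem finite_quotient_of_isPairHenselization {R B : Type u} [CommRing R] [CommRing B]
    [Algebra A R] [Algebra R B] [Algebra A B] [IsScalarTower A R B]
    (hB : Hens2.IsPairHenselization R (I.map (algebraMap A R)) B)
    [Module.Finite A (B ⧸ I.map (algebraMap A B))] :
    Module.Finite A (R ⧸ I.map (algebraMap A R)) := by
  obtain ⟨e⟩ := nonempty_algEquiv_quotient hB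
  exact Module.Finite.equiv e.symm.toLinearEquiv

end Helpers

/-- Let (A, I) be a Henselian pair and let B be a Henselization of the pair (R, IR) for a finitely
presented A-algebra R (that is, A → B is a Henselian finitely presented map of Henselian pairs). If
the induced map A/I → B/IB is module-finite, then B is module-finite and finitely presented over A. -/
theorem result (A : Type u) [CommRing A] (I : Ideal A)
    [HenselianRing A I] (R : Type u) [CommRing R] [Algebra A R] [Algebra.FinitePresentation A R]
    (B : Type u) [CommRing B] [Algebra R B] [Algebra A B] [IsScalarTower A R B]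
    (hB : Hens2.IsPairHenselization R (I.map (algebraMap A R)) B)
    (hfin : (Ideal.quotientMap (I.map (algebraMap A B)) (algebraMap A B) Ideal.le_comap_map).Finite) :
    Module.Finite A B ∧ Algebra.FinitePresentation A B := by
  -- Step 1
  haveI hfinB : Module.Finite A (B ⧸ I.map (algebraMap A B)) := by
    haveI : Module.Finite (A ⧸ I) (B ⧸ I.map (algebraMap A B)) := by
      rw [← RingHom.finite_algebraMap]
      exact hfin
    exact Module.Finite.trans (A ⧸ I) _
  haveI := finite_quotient_of_isPairHenselization I hB
  -- Step 3-4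
  obtain ⟨R', _, _, _, _, hEt, hq, hQF⟩ := Groth.Agent.S17595.result A I R
    (fun p _ hp => quasiFiniteAt_of_finite_quotient I R p hp)
  haveI := hEt
  haveI := hQF
  haveI : Algebra.FinitePresentation A R' := Algebra.FinitePresentation.trans A R R'
  have hN : IsNbhd (I.map (algebraMap A R)) R' := IsNbhd.of_quotientMap_bijective hq
  -- Step 5
  obtain ⟨ρ, -⟩ := exists_algHom_of_nbhd hB hN
  letI : Algebra R' B := ρ.toRingHom.toAlgebra
  haveI : IsScalarTower R R' B := IsScalarTower.of_algebraMap_eq (fun r => (ρ.commutes r).symm)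
  haveI : IsScalarTower A R' B := IsScalarTower.of_algebraMap_eq (fun a => by
    rw [IsScalarTower.algebraMap_apply A R B, IsScalarTower.algebraMap_apply R R' B,
      ← IsScalarTower.algebraMap_apply A R R'])
  have hB' := isPairHenselization_of_nbhd hB hN
  rw [map_map_tower I] at hB'
  -- Step 6
  haveI := finite_quotient_of_isPairHenselization I hB'
  -- Step 7
  obtain ⟨e, he, he1, hefin⟩ := exists_idem_finite_part (E := R') I
  -- Step 8
  haveI : IsLocalization.Away e (R' ⧸ Ideal.span {1 - e}) :=
    IsLocalization.Away.quotient_of_isIdempotentElem he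
  have hN₁ : IsNbhd (I.map (algebraMap A R')) (R' ⧸ Ideal.span {1 - e}) :=
    IsNbhd.away _ e he1 _
  -- Step 9
  obtain ⟨ρ₁, -⟩ := exists_algHom_of_nbhd hB' hN₁
  letI : Algebra (R' ⧸ Ideal.span {1 - e}) B := ρ₁.toRingHom.toAlgebra
  haveI : IsScalarTower R' (R' ⧸ Ideal.span {1 - e}) B :=
    IsScalarTower.of_algebraMap_eq (fun r => (ρ₁.commutes r).symm)
  haveI : IsScalarTower A (R' ⧸ Ideal.span {1 - e}) B := IsScalarTower.of_algebraMap_eq (fun a => by
    rw [IsScalarTower.algebraMap_apply A R' B,
      IsScalarTower.algebraMap_apply R' (R' ⧸ Ideal.span {1 - e}) B,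
      ← IsScalarTower.algebraMap_apply A R' (R' ⧸ Ideal.span {1 - e})])
  have hB₁ := isPairHenselization_of_nbhd hB' hN₁
  rw [map_map_tower I] at hB₁
  -- Step 10
  haveI := hefin
  haveI : Algebra.IsIntegral A (R' ⧸ Ideal.span {1 - e}) := Algebra.IsIntegral.of_finite A _
  haveI hH₁ : HenselianRing (R' ⧸ Ideal.span {1 - e})
      (I.map (algebraMap A (R' ⧸ Ideal.span {1 - e}))) :=
    Groth.Agent.S0526.result A I _
  obtain ⟨ε⟩ := nonempty_algEquiv (isPairHenselization_self (A := R' ⧸ Ideal.span {1 - e})
    (I := I.map (algebraMap A (R' ⧸ Ideal.span {1 - e})))) hB₁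
  let εA : (R' ⧸ Ideal.span {1 - e}) ≃ₐ[A] B := ε.restrictScalars A
  haveI : Algebra.FinitePresentation A (R' ⧸ Ideal.span {1 - e}) :=
    Algebra.FinitePresentation.quotient ⟨{1 - e}, by simp⟩
  exact ⟨Module.Finite.equiv εA.toLinearEquiv, Algebra.FinitePresentation.equiv εA⟩

end Groth.Agent.S17596
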