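import Groth.Statements.S17597
-- import your own Groth.Agent.* helpers here
import Groth.Agent.Lib.Helper26JacEtale
import Groth.Agent.S0526

set_option autoImplicit false
universe u
open Hensel

namespace Groth.Agent.S17597

open Groth.Agent.Lib.Helper26.JacEtale Groth.Agent.Lib.Helper2 MvPolynomial

/-- Let (A, I) be a Henselian pair and let B be a Henselization of the pair (R, IR) for a finitely
presented A-algebra R (so A → B is Henselian finitely presented). If the induced map A/I → B/IB is
surjective, then A → B is surjective. -/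
theorem result (A : Type u) [CommRing A] (I : Ideal A)
    [HenselianRing A I] (R : Type u) [CommRing R] [Algebra A R] [Algebra.FinitePresentation A R]
    (B : Type u) [CommRing B] [Algebra R B] [Algebra A B] [IsScalarTower A R B]
    (hB : Hens2.IsPairHenselization R (I.map (algebraMap A R)) B)
    (hsurj : Function.Surjective
      (Ideal.quotientMap (I.map (algebraMap A B)) (algebraMap A B) Ideal.le_comap_map)) :
    Function.Surjective (algebraMap A B) := by
  have hmap : (I.map (algebraMap A R)).map (algebraMap R B) = I.map (algebraMap A B) := by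
    rw [Ideal.map_map, ← IsScalarTower.algebraMap_eq]
  have hHB : HenselianRing B (I.map (algebraMap A B)) := by
    have := hB.1
    rw [hmap] at this
    exact this
  -- Step 0: A/I → R/IR is surjective
  have hR : ∀ r : R, ∃ a : A, r - algebraMap A R a ∈ I.map (algebraMap A R) := by
    intro r
    obtain ⟨g, hg, -⟩ := hB.2 (R ⧸ I.map (algebraMap A R)) ⊥ (Ideal.Quotient.mk _)
      (henselianRing_bot _) (by rw [Ideal.map_quotient_self])
    obtain ⟨z, hz⟩ := hsurj (Ideal.Quotient.mk _ (algebraMap R B r))
    obtain ⟨a', rfl⟩ := Ideal.Quotient.mk_surjective z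
    refine ⟨a', ?_⟩
    rw [Ideal.quotientMap_mk, Ideal.Quotient.mk_eq_mk_iff_sub_mem] at hz
    have hgι : ∀ r, g (algebraMap R B r) = Ideal.Quotient.mk _ r := fun r =>
      congrArg (fun k : R →+* R ⧸ I.map (algebraMap A R) => k r) hg
    have h1 : g (algebraMap A B a' - algebraMap R B r) = 0 := by
      have hle : I.map (algebraMap A B) ≤ RingHom.ker g := by
        rw [← hmap, Ideal.map_le_iff_le_comap]
        intro y hy
        rw [Ideal.mem_comap, RingHom.mem_ker, hgι, Ideal.Quotient.eq_zero_iff_mem]
        exact hy
      exact hle hz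
    rw [map_sub, IsScalarTower.algebraMap_apply A R B, hgι, hgι, ← map_sub,
      Ideal.Quotient.eq_zero_iff_mem] at h1
    have := Ideal.neg_mem_iff _ |>.mpr h1
    simpa using this
  -- Step 1: presentation
  obtain ⟨n, f, hf, -⟩ := Algebra.FinitePresentation.out (R := A) (A := R)
  have hIP : (I.map (algebraMap A (MvPolynomial (Fin n) A))).map f.toRingHom =
      I.map (algebraMap A R) := by
    rw [Ideal.map_map]
    congr 1
    ext r
    simp
  have hex : ∀ i : Fin n, ∃ (a : A) (G : MvPolynomial (Fin n) A),
      G ∈ I.map (algebraMap A (MvPolynomial (Fin n) A)) ∧ f (X i) = algebraMap A R a + f G := by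
    intro i
    obtain ⟨a, ha⟩ := hR (f (X i))
    rw [← hIP] at ha
    obtain ⟨G, hG, hGe⟩ := (Ideal.mem_map_iff_of_surjective f.toRingHom hf).mp ha
    refine ⟨a, G, hG, ?_⟩
    have : f G = f (X i) - algebraMap A R a := hGe
    rw [this]; ring
  choose a G hG hfG using hex
  -- Step 2: the generators land in the image of A
  let x : Fin n → B := fun i => algebraMap R B (f (X i))
  have hcomp : ∀ p : MvPolynomial (Fin n) A, algebraMap R B (f p) = aeval x p := by
    intro p
    have : (IsScalarTower.toAlgHom A R B).comp f = aeval x := by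
      apply MvPolynomial.algHom_ext
      intro i
      simp [x]
    exact congrArg (fun k : MvPolynomial (Fin n) A →ₐ[A] B => k p) this
  have hx : ∀ i, x i = algebraMap A B (a i) + aeval x (G i) := by
    intro i
    change algebraMap R B (f (X i)) = _
    rw [hfG i, map_add, ← IsScalarTower.algebraMap_apply, hcomp]
  have hgen : ∀ i, x i ∈ Set.range (algebraMap A B) :=
    mem_range_of_fixedPoint I hG (I.map (algebraMap A B)) hHB.jac le_rfl x hx
  have hrange : ∀ r : R, algebraMap R B r ∈ (algebraMap A B).range := by
    intro r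
    obtain ⟨p, rfl⟩ := hf r
    rw [hcomp]
    induction p using MvPolynomial.induction_on with
    | C c => rw [aeval_C]; exact ⟨c, rfl⟩
    | add p q hp hq => rw [map_add]; exact Subring.add_mem _ hp hq
    | mul_X p i hp =>
      rw [map_mul, aeval_X]
      exact Subring.mul_mem _ hp (hgen i)
  -- Step 3: universal property
  let K : Ideal A := RingHom.ker (algebraMap A B)
  let incl : A ⧸ K →+* B := RingHom.kerLift (algebraMap A B)
  have hincl : Function.Injective incl := RingHom.kerLift_injective _
  have hinclmk : ∀ a : A, incl (Ideal.Quotient.mk K a) = algebraMap A B a := fun a => rfl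
  have hex2 : ∀ r : R, ∃ z : A ⧸ K, incl z = algebraMap R B r := by
    intro r
    obtain ⟨a', ha'⟩ := hrange r
    exact ⟨Ideal.Quotient.mk K a', ha'⟩
  choose π₀ hπ₀ using hex2
  let π : R →+* A ⧸ K :=
    { toFun := π₀
      map_one' := hincl (by rw [hπ₀, map_one, map_one])
      map_mul' := fun r s => hincl (by rw [hπ₀, map_mul, map_mul, hπ₀, hπ₀])
      map_zero' := hincl (by rw [hπ₀, map_zero, map_zero])
      map_add' := fun r s => hincl (by rw [hπ₀, map_add, map_add, hπ₀, hπ₀]) }
  have hπ : ∀ r, incl (π r) = algebraMap R B r := hπ₀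
  have hπA : ∀ a' : A, π (algebraMap A R a') = Ideal.Quotient.mk K a' := by
    intro a'
    apply hincl
    rw [hπ, hinclmk, ← IsScalarTower.algebraMap_apply]
  haveI : Algebra.IsIntegral A (A ⧸ K) :=
    Algebra.isIntegral_of_surjective Ideal.Quotient.mk_surjective
  have hHK : HenselianRing (A ⧸ K) (I.map (algebraMap A (A ⧸ K))) :=
    Groth.Agent.S0526.result A I (A ⧸ K)
  have hle : (I.map (algebraMap A R)).map π ≤ I.map (algebraMap A (A ⧸ K)) := by
    rw [Ideal.map_map]
    have : π.comp (algebraMap A R) = algebraMap A (A ⧸ K) := by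
      ext a'
      exact hπA a'
    rw [this]
  obtain ⟨g, hg, -⟩ := hB.2 (A ⧸ K) _ π hHK hle
  obtain ⟨k, -, hkuniq⟩ := hB.2 B _ (algebraMap R B) hB.1 le_rfl
  have e1 : incl.comp g = k := hkuniq _ (by
    change (incl.comp g).comp (algebraMap R B) = algebraMap R B
    rw [RingHom.comp_assoc, hg]
    ext r
    exact hπ r)
  have e2 : RingHom.id B = k := hkuniq _ (by ext r; rfl)
  intro b
  have hb : incl (g b) = b := congrArg (fun k : B →+* B => k b) (e1.trans e2.symm)
  obtain ⟨a', ha'⟩ := Ideal.Quotient.mk_surjective (g b)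
  exact ⟨a', by rw [← hinclmk, ha', hb]⟩

end Groth.Agent.S17597
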