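import Groth.Statements.S17609
-- import your own Groth.Agent.* helpers here
import Groth.Agent.Lib.Helper26PairHzMore

set_option autoImplicit false
universe u
open Hensel

namespace Groth.Agent.S17609

open Groth.Agent.Lib.Helper26.PairHz Groth.Agent.Lib.Helper18ColimSys TensorProduct

/-- Let (A, I) be a Henselian pair and let B, C be Henselizations of the pairs (R, IR), (S, IS) for
finitely presented A-algebras R and S, with their induced A-algebra structures (so A → B and A → C
are Henselian finitely presented). Then every A-algebra map B → C (encoded as a B-algebra structure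
on C compatible with that of A) is Henselian finitely presented: there are a finitely presented
B-algebra T and a T-algebra structure on C compatible with that of B for which C is a Henselization
of the pair (T, IBT). -/
theorem result (A : Type u) [CommRing A] (I : Ideal A) [HenselianRing A I]
    (R : Type u) [CommRing R] [Algebra A R] [Algebra.FinitePresentation A R]
    (B : Type u) [CommRing B] [Algebra R B] [Algebra A B] [IsScalarTower A R B]
    (hB : Hens2.IsPairHenselization R (I.map (algebraMap A R)) B)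
    (S : Type u) [CommRing S] [Algebra A S] [Algebra.FinitePresentation A S]
    (C : Type u) [CommRing C] [Algebra S C] [Algebra A C] [IsScalarTower A S C]
    (hC : Hens2.IsPairHenselization S (I.map (algebraMap A S)) C)
    [Algebra B C] [IsScalarTower A B C] :
    ∃ (T : Type u) (_ : CommRing T) (_ : Algebra B T) (_ : Algebra T C) (_ : IsScalarTower B T C),
      Algebra.FinitePresentation B T ∧
      Hens2.IsPairHenselization T ((I.map (algebraMap A B)).map (algebraMap B T)) C := by
  classical
  obtain ⟨ρ, hS⟩ := exists_sys_of_isPairHenselization hC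
  obtain ⟨gen, hgen⟩ := (Algebra.FiniteType.out : (⊤ : Subalgebra A R).FG)
  obtain ⟨i₀⟩ := hS.nonempty
  obtain ⟨j, -, -, x, hx⟩ := hS.lift_fun i₀
    (fun k : gen => algebraMap B C (algebraMap R B (k : R)))
  -- the neighbourhood S' = j.C
  letI : Algebra A j.C := ((algebraMap S j.C).comp (algebraMap A S)).toAlgebra
  haveI : IsScalarTower A S j.C := IsScalarTower.of_algebraMap_eq (fun _ => rfl)
  haveI : Algebra.FinitePresentation A j.C := Algebra.FinitePresentation.trans A S j.C
  have hρA : ∀ a : A, ρ j (algebraMap A j.C a) = algebraMap A C a := by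
    intro a
    change ρ j (algebraMap S j.C (algebraMap A S a)) = _
    rw [AlgHom.commutes, ← IsScalarTower.algebraMap_apply]
  let ρA : j.C →ₐ[A] C := AlgHom.mk (ρ j : j.C →+* C) hρA
  -- the algebra T
  let rel : gen → B ⊗[A] j.C := fun k =>
    (algebraMap R B (k : R)) ⊗ₜ[A] (1 : j.C) - (1 : B) ⊗ₜ[A] (x k)
  let KT : Ideal (B ⊗[A] j.C) := Ideal.span (Set.range rel)
  have hKTfg : KT.FG := ⟨Finset.univ.image rel, by
    rw [Finset.coe_image, Finset.coe_univ, Set.image_univ]⟩
  haveI : Algebra.FinitePresentation B ((B ⊗[A] j.C) ⧸ KT) :=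
    Algebra.FinitePresentation.quotient hKTfg
  let Θ : B ⊗[A] j.C →ₐ[B] C :=
    Algebra.TensorProduct.lift (Algebra.ofId B C) ρA (fun _ _ => Commute.all _ _)
  have hΘ : ∀ (b : B) (s : j.C), Θ (b ⊗ₜ[A] s) = algebraMap B C b * ρ j s := by
    intro b s
    change Algebra.TensorProduct.lift (Algebra.ofId B C) ρA _ (b ⊗ₜ[A] s) = _
    rw [Algebra.TensorProduct.lift_tmul]
    rfl
  have hΘK : ∀ w ∈ KT, Θ.toRingHom w = 0 := by
    intro w hw
    have hle : KT ≤ RingHom.ker Θ.toRingHom := by
      rw [Ideal.span_le]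
      rintro _ ⟨k, rfl⟩
      rw [SetLike.mem_coe, RingHom.mem_ker]
      change Θ (rel k) = 0
      simp only [rel, map_sub, hΘ, map_one, mul_one, one_mul, hx, sub_self]
    exact hle hw
  letI : Algebra ((B ⊗[A] j.C) ⧸ KT) C := (Ideal.Quotient.lift KT Θ.toRingHom hΘK).toAlgebra
  have hTC : ∀ w : B ⊗[A] j.C, algebraMap ((B ⊗[A] j.C) ⧸ KT) C (Ideal.Quotient.mk KT w) = Θ w :=
    fun w => rfl
  haveI : IsScalarTower B ((B ⊗[A] j.C) ⧸ KT) C := IsScalarTower.of_algebraMap_eq (fun b => by
    change algebraMap B C b = algebraMap ((B ⊗[A] j.C) ⧸ KT) C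
      (Ideal.Quotient.mk KT (algebraMap B (B ⊗[A] j.C) b))
    rw [hTC, AlgHom.commutes])
  refine ⟨(B ⊗[A] j.C) ⧸ KT, inferInstance, inferInstance, inferInstance, inferInstance,
    inferInstance, ?_⟩
  -- C is a henselization of the neighbourhood
  letI : Algebra j.C C := (ρ j).toRingHom.toAlgebra
  haveI : IsScalarTower S j.C C := IsScalarTower.of_algebraMap_eq (fun p => ((ρ j).commutes p).symm)
  have hCj : Hens2.IsPairHenselization j.C ((I.map (algebraMap A S)).map (algebraMap S j.C)) C :=
    isPairHenselization_of_nbhd hC j.isNbhd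
  have hIj : (I.map (algebraMap A S)).map (algebraMap S j.C) = I.map (algebraMap A j.C) :=
    map_map_tower I
  have halgAC : (algebraMap ((B ⊗[A] j.C) ⧸ KT) C).comp
      ((algebraMap B ((B ⊗[A] j.C) ⧸ KT)).comp (algebraMap A B)) = algebraMap A C := by
    rw [← RingHom.comp_assoc, ← IsScalarTower.algebraMap_eq B, ← IsScalarTower.algebraMap_eq A B C]
  -- key tensor identity
  have hmkA : ∀ a : A, Ideal.Quotient.mk KT ((1 : B) ⊗ₜ[A] (algebraMap A j.C a)) =
      algebraMap B ((B ⊗[A] j.C) ⧸ KT) (algebraMap A B a) := by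
    intro a
    rw [IsScalarTower.algebraMap_apply B (B ⊗[A] j.C) ((B ⊗[A] j.C) ⧸ KT),
      Ideal.Quotient.algebraMap_eq, Algebra.TensorProduct.algebraMap_apply,
      Algebra.algebraMap_self, RingHom.id_apply, Algebra.algebraMap_eq_smul_one (A := j.C),
      ← TensorProduct.smul_tmul, Algebra.smul_def, mul_one]
  refine ⟨?_, ?_⟩
  · have := hC.1
    rw [map_map_tower I] at this
    rw [Ideal.map_map, Ideal.map_map, RingHom.comp_assoc, halgAC]
    exact this
  · intro D _ K f hD hK
    let f' : j.C →+* D := f.comp ((Ideal.Quotient.mk KT).comp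
      (Algebra.TensorProduct.includeRight (R := A) (A := B) (B := j.C)).toRingHom)
    have hf' : ∀ s : j.C, f' s = f (Ideal.Quotient.mk KT ((1 : B) ⊗ₜ[A] s)) := fun s => rfl
    have hf'A : f'.comp (algebraMap A j.C) =
        f.comp ((algebraMap B ((B ⊗[A] j.C) ⧸ KT)).comp (algebraMap A B)) := by
      refine RingHom.ext (fun a => ?_)
      change f' (algebraMap A j.C a) = f _
      rw [hf', hmkA]
      rfl
    have hle : ((I.map (algebraMap A S)).map (algebraMap S j.C)).map f' ≤ K := by
      rw [hIj, Ideal.map_map, hf'A, ← Ideal.map_map, ← Ideal.map_map]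
      exact hK
    obtain ⟨γ, hγ, hγuniq⟩ := hCj.2 D K f' hD hle
    have hγ' : ∀ s : j.C, γ (ρ j s) = f' s := fun s =>
      congrArg (fun k : j.C →+* D => k s) hγ
    -- γ agrees with f on B
    let hR : R →+* D := (f.comp (algebraMap B ((B ⊗[A] j.C) ⧸ KT))).comp (algebraMap R B)
    letI : Algebra A D := (f.comp ((algebraMap B ((B ⊗[A] j.C) ⧸ KT)).comp (algebraMap A B))).toAlgebra
    have c1 : ∀ a : A, γ (algebraMap B C (algebraMap R B (algebraMap A R a))) = algebraMap A D a := by
      intro a
      rw [← IsScalarTower.algebraMap_apply A R B, ← IsScalarTower.algebraMap_apply A B C,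
        ← hρA, hγ']
      exact congrArg (fun k : A →+* D => k a) hf'A
    have c2 : ∀ a : A, hR (algebraMap A R a) = algebraMap A D a := by
      intro a
      change f (algebraMap B _ (algebraMap R B (algebraMap A R a))) = _
      rw [← IsScalarTower.algebraMap_apply A R B]
      rfl
    let φ₁ : R →ₐ[A] D := AlgHom.mk ((γ.comp (algebraMap B C)).comp (algebraMap R B)) c1
    let φ₂ : R →ₐ[A] D := AlgHom.mk hR c2
    have hφ12 : φ₁ = φ₂ := by
      apply AlgHom.ext_of_adjoin_eq_top hgen
      intro r hr
      change γ (algebraMap B C (algebraMap R B r)) = f (algebraMap B _ (algebraMap R B r))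
      have h1 := hx ⟨r, hr⟩
      simp only at h1
      rw [← h1, hγ', hf']
      congr 1
      rw [IsScalarTower.algebraMap_apply B (B ⊗[A] j.C) ((B ⊗[A] j.C) ⧸ KT),
        Ideal.Quotient.algebraMap_eq, Algebra.TensorProduct.algebraMap_apply,
        Algebra.algebraMap_self, RingHom.id_apply, eq_comm, ← sub_eq_zero, ← map_sub,
        Ideal.Quotient.eq_zero_iff_mem]
      exact Ideal.subset_span ⟨⟨r, hr⟩, rfl⟩
    have hleR : (I.map (algebraMap A R)).map hR ≤ K := by
      rw [Ideal.map_map]
      have : hR.comp (algebraMap A R) =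
          f.comp ((algebraMap B ((B ⊗[A] j.C) ⧸ KT)).comp (algebraMap A B)) :=
        RingHom.ext c2
      rw [this, ← Ideal.map_map, ← Ideal.map_map]
      exact hK
    obtain ⟨kB, -, hkB⟩ := hB.2 D K hR hD hleR
    have e1 : γ.comp (algebraMap B C) = kB := hkB _ (by
      refine RingHom.ext (fun r => ?_)
      exact congrArg (fun k : R →ₐ[A] D => k r) hφ12)
    have e2 : f.comp (algebraMap B ((B ⊗[A] j.C) ⧸ KT)) = kB := hkB _ rfl
    have hγB : ∀ b : B, γ (algebraMap B C b) = f (algebraMap B _ b) := fun b =>
      congrArg (fun k : B →+* D => k b) (e1.trans e2.symm)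
    refine ⟨γ, ?_, ?_⟩
    · refine RingHom.ext (fun t => ?_)
      obtain ⟨w, rfl⟩ := Ideal.Quotient.mk_surjective t
      change γ (algebraMap _ C (Ideal.Quotient.mk KT w)) = f (Ideal.Quotient.mk KT w)
      rw [hTC]
      induction w using TensorProduct.induction_on with
      | zero => simp
      | tmul b s =>
        rw [hΘ, map_mul, hγB, hγ', hf', ← map_mul]
        congr 1
        rw [IsScalarTower.algebraMap_apply B (B ⊗[A] j.C) ((B ⊗[A] j.C) ⧸ KT),
          Ideal.Quotient.algebraMap_eq, Algebra.TensorProduct.algebraMap_apply,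
          Algebra.algebraMap_self, RingHom.id_apply, ← map_mul,
          Algebra.TensorProduct.tmul_mul_tmul, mul_one, one_mul]
      | add w₁ w₂ h₁ h₂ => rw [map_add, map_add, h₁, h₂, map_add, map_add]
    · intro γ' hγ'2
      apply hγuniq
      refine RingHom.ext (fun s => ?_)
      change γ' (ρ j s) = f' s
      rw [hf']
      have := congrArg (fun k : ((B ⊗[A] j.C) ⧸ KT) →+* D =>
        k (Ideal.Quotient.mk KT ((1 : B) ⊗ₜ[A] s))) hγ'2
      simp only [RingHom.coe_comp, Function.comp_apply] at this
      rw [← this, hTC, hΘ, map_one, one_mul]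

end Groth.Agent.S17609
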