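import Groth.Statements.S17599
import Groth.Agent.S6827
import Groth.Agent.S17609
import Groth.Agent.S17597
import Groth.Agent.S17596
import Groth.Agent.Lib.Helper26HFormal
import Groth.Agent.Lib.Helper26SmoothLift
import Groth.Agent.Lib.Helper26PairHzQuot
import Groth.Agent.Lib.Helper2HenselQuot

set_option autoImplicit false
universe u
open Hensel

namespace Groth.Agent.S17599

section Helpers

open TensorProduct Groth.Agent.Lib.Helper26.PairHz Groth.Agent.Lib.Helper26

/-- An endomorphism of a module which is the identity modulo a nilpotent (on the module) ideal is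
injective. -/
theorem injective_of_sub_id_mem {A E : Type*} [CommRing A] [AddCommGroup E] [Module A E]
    (K : Ideal A) (n : ℕ) (hn : K ^ n • (⊤ : Submodule A E) = ⊥) (θ : E →ₗ[A] E)
    (hθ : ∀ e, θ e - e ∈ K • (⊤ : Submodule A E)) : Function.Injective θ := by
  have key : ∀ (𝔞 : Ideal A) (e : E), e ∈ 𝔞 • (⊤ : Submodule A E) →
      θ e - e ∈ (𝔞 * K) • (⊤ : Submodule A E) := by
    intro 𝔞 e he
    refine Submodule.smul_induction_on he ?_ ?_
    · intro a ha m _
      have : θ (a • m) - a • m = a • (θ m - m) := by rw [map_smul, smul_sub]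
      rw [this, Submodule.mul_smul]
      exact Submodule.smul_mem_smul ha (hθ m)
    · intro x y hx hy
      have : θ (x + y) - (x + y) = (θ x - x) + (θ y - y) := by rw [map_add]; abel
      rw [this]; exact add_mem hx hy
  rw [injective_iff_map_eq_zero]
  intro e he
  have hj : ∀ j : ℕ, e ∈ K ^ j • (⊤ : Submodule A E) := by
    intro j
    induction j with
    | zero => simp
    | succ j ih =>
      have := key _ e ih
      rw [he, zero_sub] at this
      rw [pow_succ]
      exact (Submodule.neg_mem_iff _).mp this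
  have := hj n
  rw [hn] at this
  exact (Submodule.mem_bot A).mp this

variable {A : Type u} [CommRing A]

/-- A smooth model of `B` modulo `K`, mapping to `B`. -/
theorem exists_smooth_model (K : Ideal A) (B : Type u) [CommRing B] [Algebra A B]
    [HenselianRing B (K.map (algebraMap A B))]
    [Algebra.Smooth (A ⧸ K) (B ⧸ K.map (algebraMap A B))] :
    ∃ (R : Type u) (_ : CommRing R) (_ : Algebra A R) (_ : Algebra.Smooth A R) (ρ : R →ₐ[A] B)
      (e : (R ⧸ K.map (algebraMap A R)) ≃ₐ[A] (B ⧸ K.map (algebraMap A B))),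
      ∀ r, e (Ideal.Quotient.mk _ r) = Ideal.Quotient.mk _ (ρ r) := by
  obtain ⟨R, _, _, hR, ⟨e₀⟩⟩ := Groth.Agent.S6827.result (R := A) K (A₀ := B ⧸ K.map (algebraMap A B))
  let e : (R ⧸ K.map (algebraMap A R)) ≃ₐ[A] (B ⧸ K.map (algebraMap A B)) := e₀.restrictScalars A
  obtain ⟨ρ, hρ⟩ := SmoothLift.exists_lift_of_smooth (K.map (algebraMap A B))
    (e.toAlgHom.comp (Ideal.Quotient.mkₐ A _))
  exact ⟨R, _, _, hR, ρ, e, fun r => (hρ r).symm⟩

/-- Kernel of `φ` lies in `N H` if `φ` has a retraction modulo `K` and the truncation of `B` is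
formally smooth. -/
theorem ker_le_of_retraction_smooth (N K : Ideal A) (n : ℕ) (hNK : N ≤ K) (hKN : K ^ n ≤ N)
    {H B : Type u} [CommRing H] [CommRing B] [Algebra A H] [Algebra A B] (φ : H →ₐ[A] B)
    [Algebra.FormallySmooth (A ⧸ N) (B ⧸ N.map (algebraMap A B))]
    (u : B →ₐ[A] (H ⧸ K.map (algebraMap A H)))
    (hu : u.comp φ = Ideal.Quotient.mkₐ A _) :
    RingHom.ker (φ : H →+* B) ≤ N.map (algebraMap A H) := by
  let E := H ⧸ N.map (algebraMap A H)
  let C := H ⧸ K.map (algebraMap A H)
  have hle : N.map (algebraMap A H) ≤ K.map (algebraMap A H) := Ideal.map_mono hNK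
  let p : E →ₐ[A] C := Ideal.Quotient.factorₐ A hle
  have hp : Function.Surjective p := Ideal.Quotient.factor_surjective hle
  have hE : N.map (algebraMap A E) = ⊥ := by
    rw [IsScalarTower.algebraMap_eq A H E, ← Ideal.map_map, Ideal.Quotient.algebraMap_eq,
      Ideal.map_quotient_self]
  have hC : N.map (algebraMap A C) = ⊥ := by
    rw [eq_bot_iff]
    calc N.map (algebraMap A C) ≤ K.map (algebraMap A C) := Ideal.map_mono hNK
      _ = ⊥ := by
        rw [IsScalarTower.algebraMap_eq A H C, ← Ideal.map_map, Ideal.Quotient.algebraMap_eq,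
          Ideal.map_quotient_self]
  have hker : RingHom.ker (p : E →+* C) = (K.map (algebraMap A H)).map
      (Ideal.Quotient.mk (N.map (algebraMap A H))) := Ideal.Quotient.factor_ker hle
  have hnil : IsNilpotent (RingHom.ker (p : E →+* C)) := by
    refine ⟨n, ?_⟩
    rw [hker, ← Ideal.map_pow, ← Ideal.map_pow, Ideal.zero_eq_bot, eq_bot_iff]
    calc ((K ^ n).map (algebraMap A H)).map (Ideal.Quotient.mk (N.map (algebraMap A H)))
        ≤ (N.map (algebraMap A H)).map (Ideal.Quotient.mk (N.map (algebraMap A H))) :=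
          Ideal.map_mono (Ideal.map_mono hKN)
      _ = ⊥ := Ideal.map_quotient_self _
  obtain ⟨v, hv⟩ := HFormal.exists_lift N hE hC p hp hnil u
  -- the endomorphism `θ` of `E` induced by `v ∘ φ`
  let ψ : H →ₐ[A] E := v.comp φ
  have hψ : ∀ x ∈ N.map (algebraMap A H), ψ x = 0 := fun x hx => HFormal.algHom_kills N hE ψ x hx
  let θ : E →ₐ[A] E := Ideal.Quotient.liftₐ _ ψ hψ
  have hθmk : ∀ x : H, θ (Ideal.Quotient.mk _ x) = ψ x := fun x => rfl
  have hKE : (K • (⊤ : Submodule A E)) = (RingHom.ker (p : E →+* C)).restrictScalars A := by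
    rw [Ideal.smul_top_eq_map, hker, Ideal.map_map]
    rfl
  have hθ : ∀ e : E, θ.toLinearMap e - e ∈ K • (⊤ : Submodule A E) := by
    intro e
    obtain ⟨x, rfl⟩ := Ideal.Quotient.mk_surjective e
    rw [hKE]
    change θ (Ideal.Quotient.mk _ x) - Ideal.Quotient.mk _ x ∈ RingHom.ker (p : E →+* C)
    rw [RingHom.mem_ker, map_sub, sub_eq_zero, hθmk]
    change p (v (φ x)) = _
    have h1 := congrArg (fun k : B →ₐ[A] C => k (φ x)) hv
    have h2 := congrArg (fun k : H →ₐ[A] C => k x) hu
    simp only [AlgHom.comp_apply] at h1 h2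
    rw [h1, h2]
    rfl
  have hn : K ^ n • (⊤ : Submodule A E) = ⊥ := by
    rw [eq_bot_iff]
    refine Submodule.smul_le.mpr (fun a ha e _ => ?_)
    rw [Submodule.mem_bot, Algebra.smul_def, HFormal.algebraMap_eq_zero N hE a (hKN ha), zero_mul]
  have hinj := injective_of_sub_id_mem K n hn θ.toLinearMap hθ
  intro x hx
  have h1 : θ (Ideal.Quotient.mk _ x) = 0 := by
    rw [hθmk]
    change v (φ x) = 0
    rw [show φ x = 0 from hx, map_zero]
  have h2 : (Ideal.Quotient.mk (N.map (algebraMap A H)) x) = 0 := by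
    apply hinj
    rw [map_zero]
    exact h1
  exact Ideal.Quotient.eq_zero_iff_mem.mp h2

end Helpers


/-- Let (A, I) be a Henselian pair and let B be a Henselization of the pair (R₀, IR₀) for a finitely
presented A-algebra R₀ (so A → B is a Henselian finitely presented map of Henselian pairs). Assume
that A/I^r → B/I^rB is smooth for every r ≥ 1 (for Henselian finitely presented maps this is
equivalent to the h-formally smooth lifting property). Then there exist a smooth A-algebra R, a
Henselization H of the pair (R, IR) and a surjective A-algebra map H → B whose kernel is a finitely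
generated ideal contained in I^n H for every n. -/
theorem result (A : Type u) [CommRing A] (I : Ideal A)
    [HenselianRing A I] (R₀ : Type u) [CommRing R₀] [Algebra A R₀] [Algebra.FinitePresentation A R₀]
    (B : Type u) [CommRing B] [Algebra R₀ B] [Algebra A B] [IsScalarTower A R₀ B]
    (hB : Hens2.IsPairHenselization R₀ (I.map (algebraMap A R₀)) B)
    (het : ∀ r : ℕ, 1 ≤ r → Algebra.Smooth (A ⧸ I ^ r) (B ⧸ (I ^ r).map (algebraMap A B))) :
    ∃ (R : Type u) (_ : CommRing R) (_ : Algebra A R) (H : Type u) (_ : CommRing H) (_ : Algebra R H)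
      (_ : Algebra A H) (_ : IsScalarTower A R H),
      Algebra.Smooth A R ∧ Hens2.IsPairHenselization R (I.map (algebraMap A R)) H ∧
      ∃ φ : H →ₐ[A] B, Function.Surjective φ ∧ (RingHom.ker φ).FG ∧
        ∀ n : ℕ, RingHom.ker φ ≤ (I ^ n).map (algebraMap A H) := by
  classical
  have hI1 : I ^ 1 = I := pow_one I
  have hHB : HenselianRing B (I.map (algebraMap A B)) := by
    have := hB.1
    rwa [Groth.Agent.Lib.Helper26.PairHz.map_map_tower] at this
  haveI hHB1 : HenselianRing B ((I ^ 1).map (algebraMap A B)) := by rw [hI1]; exact hHB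
  haveI := het 1 le_rfl
  obtain ⟨R, _, _, hR, ρ, e, he⟩ := exists_smooth_model (I ^ 1) B
  let H := Groth.Agent.Lib.Helper26.PairHz.Hz R (I.map (algebraMap A R))
  letI : Algebra A H := ((algebraMap R H).comp (algebraMap A R)).toAlgebra
  haveI : IsScalarTower A R H := IsScalarTower.of_algebraMap_eq (fun _ => rfl)
  have hH : Hens2.IsPairHenselization R (I.map (algebraMap A R)) H :=
    Groth.Agent.Lib.Helper26.PairHz.isPairHenselization_Hz
  -- the map φ
  have hIB : (I.map (algebraMap A R)).map (ρ : R →+* B) ≤ I.map (algebraMap A B) := by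
    rw [Ideal.map_map]
    apply le_of_eq
    congr 1
    exact ρ.comp_algebraMap
  obtain ⟨g, hg, -⟩ := hH.2 B (I.map (algebraMap A B)) (ρ : R →+* B) hHB hIB
  let φ : H →ₐ[A] B := AlgHom.mk g (fun a => by
    change g (algebraMap R H (algebraMap A R a)) = _
    have := congrArg (fun k : R →+* B => k (algebraMap A R a)) hg
    simp only [RingHom.comp_apply] at this
    rw [this]
    exact ρ.commutes a)
  have hφρ : ∀ r, φ (algebraMap R H r) = ρ r := fun r =>
    congrArg (fun k : R →+* B => k r) hg
  refine ⟨R, inferInstance, inferInstance, H, inferInstance, inferInstance, inferInstance,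
    inferInstance, hR, hH, φ, ?_⟩
  -- `B` as an `H`-algebra
  letI : Algebra H B := (φ : H →+* B).toAlgebra
  haveI : IsScalarTower A H B := IsScalarTower.of_algebraMap_eq (fun a => (φ.commutes a).symm)
  obtain ⟨T, _, _, _, _, hT, hTB⟩ := Groth.Agent.S17609.result A I R H hH R₀ B hB
  haveI hHH : HenselianRing H (I.map (algebraMap A H)) := by
    have := hH.1
    rwa [Groth.Agent.Lib.Helper26.PairHz.map_map_tower] at this
  -- surjectivity modulo I
  have hsurj1 : ∀ b : B, ∃ h : H, b - φ h ∈ (I.map (algebraMap A H)).map (algebraMap H B) := by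
    intro b
    obtain ⟨z, hz⟩ := e.surjective (Ideal.Quotient.mk _ b)
    obtain ⟨r, rfl⟩ := Ideal.Quotient.mk_surjective z
    rw [he r, Ideal.Quotient.eq] at hz
    refine ⟨algebraMap R H r, ?_⟩
    rw [hφρ, Groth.Agent.Lib.Helper26.PairHz.map_map_tower, ← hI1]
    have := Ideal.neg_mem_iff _ |>.mpr hz
    rwa [neg_sub] at this
  have hsurjq : Function.Surjective
      (Ideal.quotientMap ((I.map (algebraMap A H)).map (algebraMap H B)) (algebraMap H B)
        Ideal.le_comap_map) := by
    intro z
    obtain ⟨b, rfl⟩ := Ideal.Quotient.mk_surjective z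
    obtain ⟨h, hh⟩ := hsurj1 b
    refine ⟨Ideal.Quotient.mk _ h, ?_⟩
    rw [Ideal.quotientMap_mk, Ideal.Quotient.eq]
    have := Ideal.neg_mem_iff _ |>.mpr hh
    rwa [neg_sub] at this
  have hsurj : Function.Surjective (algebraMap H B) :=
    Groth.Agent.S17597.result H (I.map (algebraMap A H)) T B hTB hsurjq
  obtain ⟨-, hfp⟩ := Groth.Agent.S17596.result H (I.map (algebraMap A H)) T B hTB
    (RingHom.Finite.of_surjective _ hsurjq)
  refine ⟨hsurj, ?_, ?_⟩
  · have := Algebra.FinitePresentation.ker_fG_of_surjective (Algebra.ofId H B) hsurj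
    exact this
  · intro n
    rcases Nat.eq_zero_or_pos n with rfl | hn
    · rw [pow_zero, Ideal.one_eq_top, Ideal.map_top]
      exact le_top
    · -- the retraction modulo I
      let C := H ⧸ (I ^ 1).map (algebraMap A H)
      let w : R →ₐ[A] C := (Ideal.Quotient.mkₐ A _).comp (IsScalarTower.toAlgHom A R H)
      have hw : ∀ x ∈ (I ^ 1).map (algebraMap A R), w x = 0 := by
        intro x hx
        change Ideal.Quotient.mk _ (algebraMap R H x) = 0
        rw [Ideal.Quotient.eq_zero_iff_mem,
          ← Groth.Agent.Lib.Helper26.PairHz.map_map_tower (I ^ 1) (C := R) (D := H)]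
        exact Ideal.mem_map_of_mem _ hx
      let wbar : (R ⧸ (I ^ 1).map (algebraMap A R)) →ₐ[A] C := Ideal.Quotient.liftₐ _ w hw
      let u : B →ₐ[A] C :=
        (wbar.comp e.symm.toAlgHom).comp (Ideal.Quotient.mkₐ A ((I ^ 1).map (algebraMap A B)))
      have hu : u.comp φ = Ideal.Quotient.mkₐ A ((I ^ 1).map (algebraMap A H)) := by
        -- both are ring maps out of the henselization `H` of `R`
        have hCbot : HenselianRing C ⊥ := Groth.Agent.Lib.Helper2.henselianRing_bot C
        have hle : (I.map (algebraMap A R)).map ((w : R →+* C)) ≤ ⊥ := by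
          rw [Ideal.map_le_iff_le_comap]
          intro x hx
          rw [Ideal.mem_comap, Ideal.mem_bot]
          exact hw x (by rw [hI1]; exact hx)
        obtain ⟨g0, -, hg0⟩ := hH.2 C ⊥ (w : R →+* C) hCbot hle
        have h1 : ((u.comp φ : H →ₐ[A] C) : H →+* C) = g0 := by
          apply hg0
          refine RingHom.ext (fun r => ?_)
          change u (φ (algebraMap R H r)) = w r
          rw [hφρ]
          change wbar (e.symm (Ideal.Quotient.mk _ (ρ r))) = w r
          rw [← he r, AlgEquiv.symm_apply_apply]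
          rfl
        have h2 : ((Ideal.Quotient.mkₐ A ((I ^ 1).map (algebraMap A H)) : H →ₐ[A] C) : H →+* C)
            = g0 := by
          apply hg0
          refine RingHom.ext (fun r => ?_)
          rfl
        ext x
        exact congrArg (fun k : H →+* C => k x) (h1.trans h2.symm)
      haveI := het n hn
      haveI : Algebra.FormallySmooth (A ⧸ I ^ n) (B ⧸ (I ^ n).map (algebraMap A B)) :=
        inferInstance
      exact ker_le_of_retraction_smooth (I ^ n) (I ^ 1) n (Ideal.pow_le_pow_right hn)
        (by rw [hI1]) φ u hu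

end Groth.Agent.S17599
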