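import Groth.Statements.S1760
import Groth.Agent.Lib.Helper5GorBC

set_option autoImplicit false
universe u
open scoped TensorProduct
open Goren

namespace Groth.Agent.S1760

/-- First assertion, written for the local ring B = O_{X,x}. Let k'/k be a finitely generated field
extension, B a Noetherian local k-algebra, and q a prime of B ⊗_k k' lying over the maximal ideal of
B. Then B is Gorenstein if and only if the localization of B ⊗_k k' at q is Gorenstein. -/
theorem result (k k' : Type u) [Field k] [Field k'] [Algebra k k'] (hfg : ∃ s : Finset k', IntermediateField.adjoin k (s : Set k') = ⊤) (B : Type u) [CommRing B] [IsLocalRing B] [IsNoetherianRing B] [Algebra k B] (q : PrimeSpectrum (B ⊗[k] k')) (hq : q.asIdeal.comap (algebraMap B (B ⊗[k] k')) = IsLocalRing.maximalIdeal B) : LocCoh.IsGorensteinLocalRing B ↔ LocCoh.IsGorensteinLocalRing (Localization.AtPrime q.asIdeal) := by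
  haveI : Algebra.EssFiniteType k k' := IntermediateField.fg_top_iff.mp hfg
  haveI : Algebra.EssFiniteType B (B ⊗[k] k') := inferInstance
  haveI : IsNoetherianRing (B ⊗[k] k') := Algebra.EssFiniteType.isNoetherianRing B _
  have h1 := Groth.Agent.Lib.Helper5.GorBC.gor_baseChange_field_iff k B k'
    (fun p _ => Groth.Agent.Lib.Helper5.GorBC.gorRing_tensor_field_of_fg k p.ResidueField k' hfg)
    q.asIdeal
  rw [← h1]
  exact Groth.Agent.Lib.Helper5.GorBC.gor_localization_maximalIdeal_iff B _ hq

end Groth.Agent.S1760
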