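import Groth.Statements.S17603
-- import your own Groth.Agent.* helpers here
import Groth.Agent.Lib.Helper26PairHzQuot

set_option autoImplicit false
universe u
open Hensel

namespace Groth.Agent.S17603

open Groth.Agent.Lib.Helper26.PairHz

/-- With converse part: let (A, I) be a Henselian pair, R a smooth A-algebra and B a Henselization of
the pair (R, IR), with the induced A-algebra structure (so A → B is h-smooth). Then B is flat over A
and A/I^r → B/I^rB is smooth for every r ≥ 1. -/
theorem result (A : Type u) [CommRing A] (I : Ideal A) [HenselianRing A I]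
    (R : Type u) [CommRing R] [Algebra A R] [Algebra.Smooth A R]
    (B : Type u) [CommRing B] [Algebra R B] [Algebra A B] [IsScalarTower A R B]
    (hB : Hens2.IsPairHenselization R (I.map (algebraMap A R)) B) :
    Module.Flat A B ∧ ∀ r : ℕ, 1 ≤ r → Algebra.Smooth (A ⧸ I ^ r) (B ⧸ (I ^ r).map (algebraMap A B)) := by
  exact ⟨flat_of_flat I hB, fun r _ => smooth_quotient_pow I hB r⟩

end Groth.Agent.S17603
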