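import Groth.Statements.S17604
-- import your own Groth.Agent.* helpers here
import Groth.Agent.Lib.Helper26HenselLift

set_option autoImplicit false
universe u
open Hensel

namespace Groth.Agent.S17604

open Groth.Agent.Lib.Helper26.HenselLift Groth.Agent.Lib.Helper2

/-- Let (A, I) be a Henselian pair, R and R' étale A-algebras, and B, B' Henselizations of the pairs (R,
IR), (R', IR') with their induced A-algebra structures (so B and B' are h-étale over A). Then
reduction modulo I is a bijection from A-algebra maps B → B' to A-algebra maps B/IB → B'/IB': two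
A-algebra maps B → B' that agree modulo IB' are equal, and every A-algebra map B/IB → B'/IB' is
induced by an A-algebra map B → B'. -/
theorem result (A : Type u) [CommRing A]
    (I : Ideal A) [HenselianRing A I]
    (R : Type u) [CommRing R] [Algebra A R] [Algebra.Etale A R]
    (B : Type u) [CommRing B] [Algebra R B] [Algebra A B] [IsScalarTower A R B]
    (hB : Hens2.IsPairHenselization R (I.map (algebraMap A R)) B)
    (R' : Type u) [CommRing R'] [Algebra A R'] [Algebra.Etale A R']
    (B' : Type u) [CommRing B'] [Algebra R' B'] [Algebra A B'] [IsScalarTower A R' B']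
    (hB' : Hens2.IsPairHenselization R' (I.map (algebraMap A R')) B') :
    (∀ φ ψ : B →ₐ[A] B', (∀ b : B, φ b - ψ b ∈ I.map (algebraMap A B')) → φ = ψ) ∧
    ∀ χ : (B ⧸ I.map (algebraMap A B)) →ₐ[A] (B' ⧸ I.map (algebraMap A B')),
      ∃ φ : B →ₐ[A] B', ∀ b : B,
        Ideal.Quotient.mk (I.map (algebraMap A B')) (φ b) = χ (Ideal.Quotient.mk (I.map (algebraMap A B)) b) := by
  have hmap' : (I.map (algebraMap A R')).map (algebraMap R' B') = I.map (algebraMap A B') := by
    rw [Ideal.map_map, ← IsScalarTower.algebraMap_eq]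
  have hHB' : HenselianRing B' (I.map (algebraMap A B')) := by
    have := hB'.1
    rw [hmap'] at this
    exact this
  -- the ideal condition for any A-algebra map R → C
  have hideal : ∀ {C : Type u} [CommRing C] [Algebra A C] (f : R →ₐ[A] C),
      (I.map (algebraMap A R)).map f.toRingHom ≤ I.map (algebraMap A C) := by
    intro C _ _ f
    rw [Ideal.map_map]
    have : f.toRingHom.comp (algebraMap A R) = algebraMap A C := by
      ext a; simp
    rw [this]
  let ι : R →ₐ[A] B := IsScalarTower.toAlgHom A R B
  refine ⟨?_, ?_⟩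
  · intro φ ψ h
    have h1 : φ.comp ι = ψ.comp ι := by
      haveI := hHB'
      apply algHom_lift_unique (I.map (algebraMap A B'))
      intro r
      rw [Ideal.Quotient.mk_eq_mk_iff_sub_mem]
      exact h (ι r)
    obtain ⟨g, -, hguniq⟩ := hB.2 B' (I.map (algebraMap A B')) (φ.comp ι).toRingHom hHB'
      (hideal (φ.comp ι))
    have e1 : φ.toRingHom = g := hguniq _ (by ext r; rfl)
    have e2 : ψ.toRingHom = g := hguniq _ (by
      rw [h1]; ext r; rfl)
    ext b
    exact congrArg (fun k : B →+* B' => k b) (e1.trans e2.symm)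
  · intro χ
    haveI := hHB'
    let σ₀ : R →ₐ[A] B' ⧸ I.map (algebraMap A B') :=
      (χ.comp (Ideal.Quotient.mkₐ A (I.map (algebraMap A B)))).comp ι
    obtain ⟨f, hf⟩ := exists_algHom_lift (I.map (algebraMap A B')) σ₀
    obtain ⟨g, hg, -⟩ := hB.2 B' (I.map (algebraMap A B')) f.toRingHom hHB' (hideal f)
    have hgι : ∀ r, g (algebraMap R B r) = f r := fun r =>
      congrArg (fun k : R →+* B' => k r) hg
    have cg : ∀ a, g (algebraMap A B a) = algebraMap A B' a := by
      intro a
      rw [IsScalarTower.algebraMap_apply A R B, hgι, AlgHom.commutes]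
    refine ⟨AlgHom.mk g cg, ?_⟩
    -- two ring maps B → B'/IB' agreeing on R
    let k₁ : B →+* B' ⧸ I.map (algebraMap A B') := (Ideal.Quotient.mk _).comp g
    let k₂ : B →+* B' ⧸ I.map (algebraMap A B') :=
      χ.toRingHom.comp (Ideal.Quotient.mk (I.map (algebraMap A B)))
    have hbot : (I.map (algebraMap A R)).map σ₀.toRingHom ≤ (⊥ : Ideal (B' ⧸ I.map (algebraMap A B'))) := by
      refine (hideal σ₀).trans ?_
      rw [Ideal.map_le_iff_le_comap]
      intro i hi
      rw [Ideal.mem_comap, Ideal.mem_bot, IsScalarTower.algebraMap_apply A B' (B' ⧸ I.map (algebraMap A B')),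
        Ideal.Quotient.algebraMap_eq, Ideal.Quotient.eq_zero_iff_mem]
      exact Ideal.mem_map_of_mem _ hi
    obtain ⟨k, -, hkuniq⟩ := hB.2 (B' ⧸ I.map (algebraMap A B')) ⊥ σ₀.toRingHom
      (henselianRing_bot _) hbot
    have e1 : k₁ = k := hkuniq _ (by
      ext r
      change Ideal.Quotient.mk _ (g (algebraMap R B r)) = σ₀ r
      rw [hgι, hf])
    have e2 : k₂ = k := hkuniq _ (by ext r; rfl)
    intro b
    exact congrArg (fun k : B →+* B' ⧸ I.map (algebraMap A B') => k b) (e1.trans e2.symm)

end Groth.Agent.S17604
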