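import Groth.Statements.S17605
-- import your own Groth.Agent.* helpers here

set_option autoImplicit false
universe u
open Hensel

namespace Groth.Agent.S17605

theorem isUnit_of_forall_not_mem_maximal {R : Type*} [CommRing R] (x : R)
    (h : ∀ m : Ideal R, m.IsMaximal → x ∉ m) : IsUnit x := by
  by_contra hx
  obtain ⟨m, hm, hxm⟩ := exists_max_ideal_of_mem_nonunits hx
  exact h m hm hxm

/-- Let A be a ring with an ideal I and let f₁, f₂ be elements of A such that D(f₂) ∩ V(I) ⊆ D(f₁) ∩
V(I) in Spec A. If H₁ is a Henselization of the pair (A_{f₁}, IA_{f₁}) and H₂ a Henselization of the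
pair (A_{f₂}, IA_{f₂}), with their induced A-algebra structures, then there is exactly one A-algebra
map H₁ → H₂. -/
theorem result (A : Type u) [CommRing A]
    (I : Ideal A) (f₁ f₂ : A)
    (h : (PrimeSpectrum.basicOpen f₂ : Set (PrimeSpectrum A)) ∩ PrimeSpectrum.zeroLocus (I : Set A) ⊆
      (PrimeSpectrum.basicOpen f₁ : Set (PrimeSpectrum A)) ∩ PrimeSpectrum.zeroLocus (I : Set A))
    (H₁ : Type u) [CommRing H₁] [Algebra (Localization.Away f₁) H₁] [Algebra A H₁]
    [IsScalarTower A (Localization.Away f₁) H₁]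
    (hH₁ : Hens2.IsPairHenselization (Localization.Away f₁)
      (I.map (algebraMap A (Localization.Away f₁))) H₁)
    (H₂ : Type u) [CommRing H₂] [Algebra (Localization.Away f₂) H₂] [Algebra A H₂]
    [IsScalarTower A (Localization.Away f₂) H₂]
    (hH₂ : Hens2.IsPairHenselization (Localization.Away f₂)
      (I.map (algebraMap A (Localization.Away f₂))) H₂) :
    Nonempty (H₁ →ₐ[A] H₂) ∧ Subsingleton (H₁ →ₐ[A] H₂) := by
  obtain ⟨hhens₂, -⟩ := hH₂
  obtain ⟨-, huniv₁⟩ := hH₁
  set J₂ : Ideal H₂ := (I.map (algebraMap A (Localization.Away f₂))).map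
    (algebraMap (Localization.Away f₂) H₂) with hJ₂
  have hJ₂' : J₂ = I.map (algebraMap A H₂) := by
    rw [hJ₂, Ideal.map_map, ← IsScalarTower.algebraMap_eq]
  -- f₁ is a unit in H₂
  have hu : IsUnit (algebraMap A H₂ f₁) := by
    apply isUnit_of_forall_not_mem_maximal
    intro m hm hmem
    have hJm : J₂ ≤ m := hhens₂.jac.trans (sInf_le ⟨bot_le, hm⟩)
    have : m.IsPrime := hm.isPrime
    let p : PrimeSpectrum A := ⟨m.comap (algebraMap A H₂), inferInstance⟩
    have hp2 : p ∈ (PrimeSpectrum.basicOpen f₂ : Set (PrimeSpectrum A)) := by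
      change f₂ ∉ m.comap (algebraMap A H₂)
      intro hf
      rw [Ideal.mem_comap] at hf
      have hunit : IsUnit (algebraMap A H₂ f₂) := by
        rw [IsScalarTower.algebraMap_apply A (Localization.Away f₂) H₂]
        exact (IsLocalization.Away.algebraMap_isUnit f₂).map _
      exact hm.ne_top (Ideal.eq_top_of_isUnit_mem _ hf hunit)
    have hpI : p ∈ PrimeSpectrum.zeroLocus (I : Set A) := by
      intro x hx
      change x ∈ m.comap (algebraMap A H₂)
      rw [Ideal.mem_comap]
      apply hJm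
      rw [hJ₂']
      exact Ideal.mem_map_of_mem _ hx
    have := (h ⟨hp2, hpI⟩).1
    exact this hmem
  -- lift
  let l : Localization.Away f₁ →+* H₂ := IsLocalization.Away.lift f₁ hu
  have hl : l.comp (algebraMap A (Localization.Away f₁)) = algebraMap A H₂ :=
    IsLocalization.Away.lift_comp f₁ hu
  have hle : (I.map (algebraMap A (Localization.Away f₁))).map l ≤ J₂ := by
    rw [Ideal.map_map, hl, hJ₂']
  obtain ⟨g, hg, hguniq⟩ := huniv₁ H₂ J₂ l hhens₂ hle
  have key : ∀ φ : H₁ →ₐ[A] H₂, (φ : H₁ →+* H₂) = g := by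
    intro φ
    apply hguniq
    apply IsLocalization.ringHom_ext (Submonoid.powers f₁)
    rw [RingHom.comp_assoc, ← IsScalarTower.algebraMap_eq, hl]
    exact φ.comp_algebraMap
  refine ⟨⟨{ g with commutes' := ?_ }⟩, ⟨?_⟩⟩
  · intro a
    change g (algebraMap A H₁ a) = _
    rw [IsScalarTower.algebraMap_apply A (Localization.Away f₁) H₁, ← RingHom.comp_apply, hg,
      ← RingHom.comp_apply, hl]
  · intro φ ψ
    apply AlgHom.coe_ringHom_injective
    rw [key φ, key ψ]

end Groth.Agent.S17605
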