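import Groth.Statements.S17607
-- import your own Groth.Agent.* helpers here
import Groth.Agent.Lib.Helper26PairHzMore
import Groth.Agent.S0526

set_option autoImplicit false
universe u
open Hensel

namespace Groth.Agent.S17607

open Groth.Agent.Lib.Helper26.PairHz Groth.Agent.Lib.Helper18ColimSys

section Helpers

variable {A : Type u} [CommRing A] (I : Ideal A)

/-- (ii) ⇒ (i) -/
theorem dir1 (B : Type u) [CommRing B] [Algebra A B]
    (R : Type u) [CommRing R] [Algebra A R] [Algebra R B] [IsScalarTower A R B]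
    [Algebra.FinitePresentation A R]
    (hB : Hens2.IsPairHenselization R (I.map (algebraMap A R)) B) :
    ∃ (n : ℕ) (P : Type u) (_ : CommRing P) (_ : Algebra (MvPolynomial (Fin n) A) P) (_ : Algebra A P)
        (_ : IsScalarTower A (MvPolynomial (Fin n) A) P),
        Hens2.IsPairHenselization (MvPolynomial (Fin n) A)
          (I.map (algebraMap A (MvPolynomial (Fin n) A))) P ∧
        ∃ φ : P →ₐ[A] B, Function.Surjective φ ∧ (RingHom.ker φ).FG := by
  obtain ⟨n, π, hπ, hker⟩ := (inferInstance : Algebra.FinitePresentation A R).out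
  let Pn := MvPolynomial (Fin n) A
  let J₀ : Ideal Pn := I.map (algebraMap A Pn)
  let P := Hz Pn J₀
  letI : Algebra A P := ((algebraMap Pn P).comp (algebraMap A Pn)).toAlgebra
  haveI : IsScalarTower A Pn P := IsScalarTower.of_algebraMap_eq (fun _ => rfl)
  have hP : Hens2.IsPairHenselization Pn J₀ P := isPairHenselization_Hz
  refine ⟨n, P, inferInstance, inferInstance, inferInstance, inferInstance, hP, ?_⟩
  let f₀ : Pn →+* B := (algebraMap R B).comp π.toRingHom
  have hf₀A : f₀.comp (algebraMap A Pn) = algebraMap A B := by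
    refine RingHom.ext (fun a => ?_)
    change algebraMap R B (π (algebraMap A Pn a)) = _
    rw [AlgHom.commutes, ← IsScalarTower.algebraMap_apply]
  have hle₀ : J₀.map f₀ ≤ (I.map (algebraMap A R)).map (algebraMap R B) := by
    rw [Ideal.map_map, hf₀A, map_map_tower]
  obtain ⟨φ₀, hφ₀, -⟩ := hP.2 B _ f₀ hB.1 hle₀
  have hφ₀' : ∀ p : Pn, φ₀ (algebraMap Pn P p) = algebraMap R B (π p) := fun p =>
    congrArg (fun k : Pn →+* B => k p) hφ₀
  let K : Ideal P := (RingHom.ker π.toRingHom).map (algebraMap Pn P)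
  have hKfg : K.FG := Ideal.FG.map hker _
  have hKker : ∀ x ∈ K, φ₀ x = 0 := by
    intro x hx
    have hle : K ≤ RingHom.ker φ₀ := by
      rw [Ideal.map_le_iff_le_comap]
      intro p hp
      rw [Ideal.mem_comap, RingHom.mem_ker, hφ₀']
      have : π p = 0 := hp
      rw [this, map_zero]
    exact hle hx
  -- the quotient
  haveI : HenselianRing P (J₀.map (algebraMap Pn P)) := hP.1
  haveI : Algebra.IsIntegral P (P ⧸ K) :=
    Algebra.isIntegral_of_surjective Ideal.Quotient.mk_surjective
  have hQ : HenselianRing (P ⧸ K) ((J₀.map (algebraMap Pn P)).map (algebraMap P (P ⧸ K))) :=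
    Groth.Agent.S0526.result P _ (P ⧸ K)
  let e := Ideal.quotientKerAlgEquivOfSurjective hπ
  let qm : Pn ⧸ RingHom.ker π.toRingHom →+* P ⧸ K :=
    Ideal.quotientMap K (algebraMap Pn P) Ideal.le_comap_map
  let ρ : R →+* P ⧸ K := qm.comp e.symm.toRingHom
  have hρ : ∀ p : Pn, ρ (π p) = Ideal.Quotient.mk K (algebraMap Pn P p) := by
    intro p
    have h1 : e.symm (π p) = Ideal.Quotient.mk _ p := by
      rw [AlgEquiv.symm_apply_eq]
      rfl
    change qm (e.symm (π p)) = _
    rw [h1]
    rfl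
  have hρA : ρ.comp (algebraMap A R) =
      (algebraMap P (P ⧸ K)).comp ((algebraMap Pn P).comp (algebraMap A Pn)) := by
    refine RingHom.ext (fun a => ?_)
    change ρ (algebraMap A R a) = _
    rw [← π.commutes a, hρ]
    rfl
  have hleρ : (I.map (algebraMap A R)).map ρ ≤
      (J₀.map (algebraMap Pn P)).map (algebraMap P (P ⧸ K)) := by
    rw [Ideal.map_map, hρA, Ideal.map_map, Ideal.map_map, RingHom.comp_assoc]
  obtain ⟨ψ, hψ, -⟩ := hB.2 (P ⧸ K) _ ρ hQ hleρ
  have hψ' : ∀ r : R, ψ (algebraMap R B r) = ρ r := fun r =>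
    congrArg (fun k : R →+* P ⧸ K => k r) hψ
  let φbar : P ⧸ K →+* B := Ideal.Quotient.lift K φ₀ hKker
  -- φbar ∘ ψ = id
  obtain ⟨k₁, -, hk₁⟩ := hB.2 B _ (algebraMap R B) hB.1 le_rfl
  have e1 : φbar.comp ψ = k₁ := hk₁ _ (by
    refine RingHom.ext (fun r => ?_)
    obtain ⟨p, rfl⟩ := hπ r
    change φbar (ψ (algebraMap R B (π p))) = algebraMap R B (π p)
    rw [hψ', hρ]
    change φ₀ (algebraMap Pn P p) = _
    rw [hφ₀'])
  have e2 : RingHom.id B = k₁ := hk₁ _ (RingHom.ext (fun r => rfl))
  have hφψ : ∀ b : B, φbar (ψ b) = b := fun b =>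
    congrArg (fun k : B →+* B => k b) (e1.trans e2.symm)
  -- ψ ∘ φ₀ = mk
  have hleQ : J₀.map ((algebraMap P (P ⧸ K)).comp (algebraMap Pn P)) ≤
      (J₀.map (algebraMap Pn P)).map (algebraMap P (P ⧸ K)) :=
    le_of_eq (Ideal.map_map _ _).symm
  obtain ⟨k₂, -, hk₂⟩ := hP.2 (P ⧸ K) _ ((algebraMap P (P ⧸ K)).comp (algebraMap Pn P)) hQ hleQ
  have e3 : ψ.comp φ₀ = k₂ := hk₂ _ (by
    refine RingHom.ext (fun p => ?_)
    change ψ (φ₀ (algebraMap Pn P p)) = _
    rw [hφ₀', hψ', hρ]
    rfl)
  have e4 : algebraMap P (P ⧸ K) = k₂ := hk₂ _ rfl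
  have hψφ : ∀ x : P, ψ (φ₀ x) = Ideal.Quotient.mk K x := fun x =>
    congrArg (fun k : P →+* P ⧸ K => k x) (e3.trans e4.symm)
  -- assemble
  have cφ : ∀ a : A, φ₀ (algebraMap A P a) = algebraMap A B a := by
    intro a
    change φ₀ (algebraMap Pn P (algebraMap A Pn a)) = _
    rw [hφ₀', AlgHom.commutes, ← IsScalarTower.algebraMap_apply]
  refine ⟨AlgHom.mk φ₀ cφ, ?_, ?_⟩
  · intro b
    obtain ⟨x, hx⟩ := Ideal.Quotient.mk_surjective (ψ b)
    refine ⟨x, ?_⟩
    change φ₀ x = b
    rw [← hφψ b, ← hx]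
    rfl
  · have : RingHom.ker (AlgHom.mk φ₀ cφ : P →ₐ[A] B) = K := by
      apply le_antisymm
      · intro x hx
        have hx0 : φ₀ x = 0 := hx
        have := hψφ x
        rw [hx0, map_zero] at this
        exact Ideal.Quotient.eq_zero_iff_mem.mp this.symm
      · intro x hx
        exact hKker x hx
    rw [this]
    exact hKfg

/-- (i) ⇒ (ii) -/
theorem dir2 (B : Type u) [CommRing B] [Algebra A B]
    [hBh : HenselianRing B (I.map (algebraMap A B))]
    (n : ℕ) (P : Type u) [CommRing P] [Algebra (MvPolynomial (Fin n) A) P] [Algebra A P]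
    [IsScalarTower A (MvPolynomial (Fin n) A) P]
    (hP : Hens2.IsPairHenselization (MvPolynomial (Fin n) A)
      (I.map (algebraMap A (MvPolynomial (Fin n) A))) P)
    (φ : P →ₐ[A] B) (hφ : Function.Surjective φ) (hker : (RingHom.ker φ).FG) :
    ∃ (R : Type u) (_ : CommRing R) (_ : Algebra A R) (_ : Algebra R B) (_ : IsScalarTower A R B),
      Algebra.FinitePresentation A R ∧ Hens2.IsPairHenselization R (I.map (algebraMap A R)) B := by
  classical
  let Pn := MvPolynomial (Fin n) A
  let J₀ : Ideal Pn := I.map (algebraMap A Pn)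
  obtain ⟨ρ, hS⟩ := exists_sys_of_isPairHenselization hP
  obtain ⟨s, hs⟩ := hker
  obtain ⟨i₀⟩ := hS.nonempty
  obtain ⟨j, -, -, x, hx⟩ := hS.lift_fun i₀ (fun a : s => (a : P))
  -- algebra structures on the neighbourhood
  letI : Algebra A j.C := ((algebraMap Pn j.C).comp (algebraMap A Pn)).toAlgebra
  haveI : IsScalarTower A Pn j.C := IsScalarTower.of_algebraMap_eq (fun _ => rfl)
  haveI : Algebra.FinitePresentation A j.C := Algebra.FinitePresentation.trans A Pn j.C
  let KC : Ideal j.C := Ideal.span (Set.range x)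
  have hKCfg : KC.FG := ⟨Finset.univ.image x, by
    rw [Finset.coe_image, Finset.coe_univ, Set.image_univ]⟩
  haveI : Algebra.FinitePresentation A (j.C ⧸ KC) := Algebra.FinitePresentation.quotient hKCfg
  -- the map to B
  have hρA : ∀ a : A, ρ j (algebraMap A j.C a) = algebraMap A P a := by
    intro a
    change ρ j (algebraMap Pn j.C (algebraMap A Pn a)) = _
    rw [AlgHom.commutes, ← IsScalarTower.algebraMap_apply]
  let θ : j.C →+* B := (φ : P →+* B).comp (ρ j : j.C →+* P)
  have hθ : ∀ c, θ c = φ (ρ j c) := fun c => rfl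
  have hθK : ∀ c ∈ KC, θ c = 0 := by
    intro c hc
    have hle : KC ≤ RingHom.ker θ := by
      rw [Ideal.span_le]
      rintro _ ⟨k, rfl⟩
      rw [SetLike.mem_coe, RingHom.mem_ker, hθ, hx]
      have : (k : P) ∈ RingHom.ker φ := by
        rw [← hs]
        exact Ideal.subset_span k.2
      exact this
    exact hle hc
  letI : Algebra (j.C ⧸ KC) B := (Ideal.Quotient.lift KC θ hθK).toAlgebra
  have hRB : ∀ c : j.C, algebraMap (j.C ⧸ KC) B (Ideal.Quotient.mk KC c) = φ (ρ j c) := fun c => rfl
  haveI : IsScalarTower A (j.C ⧸ KC) B := IsScalarTower.of_algebraMap_eq (fun a => by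
    rw [IsScalarTower.algebraMap_apply A j.C (j.C ⧸ KC), Ideal.Quotient.algebraMap_eq, hRB, hρA,
      AlgHom.commutes])
  refine ⟨j.C ⧸ KC, inferInstance, inferInstance, inferInstance, inferInstance, inferInstance, ?_⟩
  -- P is a henselization of the neighbourhood
  letI : Algebra j.C P := (ρ j).toRingHom.toAlgebra
  haveI : IsScalarTower Pn j.C P := IsScalarTower.of_algebraMap_eq (fun p => ((ρ j).commutes p).symm)
  have hPj : Hens2.IsPairHenselization j.C (J₀.map (algebraMap Pn j.C)) P :=
    isPairHenselization_of_nbhd hP j.isNbhd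
  have hJ₀j : J₀.map (algebraMap Pn j.C) = I.map (algebraMap A j.C) := map_map_tower I
  refine ⟨?_, ?_⟩
  · rw [map_map_tower]
    exact hBh
  · intro D _ K f hD hK
    have hle : (J₀.map (algebraMap Pn j.C)).map (f.comp (Ideal.Quotient.mk KC)) ≤ K := by
      rw [hJ₀j, Ideal.map_map]
      have : (f.comp (Ideal.Quotient.mk KC)).comp (algebraMap A j.C) =
          f.comp (algebraMap A (j.C ⧸ KC)) := RingHom.ext (fun a => rfl)
      rw [this, ← Ideal.map_map]
      exact hK
    obtain ⟨g₀, hg₀, hg₀uniq⟩ := hPj.2 D K (f.comp (Ideal.Quotient.mk KC)) hD hle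
    have hg₀' : ∀ c : j.C, g₀ (ρ j c) = f (Ideal.Quotient.mk KC c) := fun c =>
      congrArg (fun k : j.C →+* D => k c) hg₀
    have hg₀ker : ∀ y ∈ RingHom.ker (φ : P →+* B), g₀ y = 0 := by
      intro y hy
      have hle : RingHom.ker (φ : P →+* B) ≤ RingHom.ker g₀ := by
        change RingHom.ker φ ≤ _
        rw [← hs, Ideal.span_le]
        intro k hk
        rw [SetLike.mem_coe, RingHom.mem_ker]
        have := hg₀' (x ⟨k, hk⟩)
        rw [hx] at this
        rw [this]
        have : Ideal.Quotient.mk KC (x ⟨k, hk⟩) = 0 :=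
          Ideal.Quotient.eq_zero_iff_mem.mpr (Ideal.subset_span ⟨_, rfl⟩)
        rw [this, map_zero]
      exact hle hy
    let eq := RingHom.quotientKerEquivOfSurjective (f := (φ : P →+* B)) hφ
    let g : B →+* D := (Ideal.Quotient.lift _ g₀ hg₀ker).comp eq.symm.toRingHom
    have hgφ : ∀ y : P, g (φ y) = g₀ y := by
      intro y
      have h1 : eq.symm (φ y) = Ideal.Quotient.mk _ y := by
        rw [RingEquiv.symm_apply_eq]
        rfl
      change (Ideal.Quotient.lift _ g₀ hg₀ker) (eq.symm (φ y)) = _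
      rw [h1]
      rfl
    refine ⟨g, ?_, ?_⟩
    · refine RingHom.ext (fun r => ?_)
      obtain ⟨c, rfl⟩ := Ideal.Quotient.mk_surjective r
      change g (algebraMap (j.C ⧸ KC) B (Ideal.Quotient.mk KC c)) = f _
      rw [hRB, hgφ, hg₀']
    · intro g' hg'
      have h1 : g'.comp (φ : P →+* B) = g₀ := by
        apply hg₀uniq
        refine RingHom.ext (fun c => ?_)
        change g' (φ (ρ j c)) = f (Ideal.Quotient.mk KC c)
        rw [← hRB]
        exact congrArg (fun k : (j.C ⧸ KC) →+* D => k (Ideal.Quotient.mk KC c)) hg'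
      refine RingHom.ext (fun b => ?_)
      obtain ⟨y, rfl⟩ := hφ b
      rw [hgφ, ← h1]
      rfl

end Helpers

/-- Let (A, I) and (B, IB) be Henselian pairs with B an A-algebra. Then the following are equivalent:
(i) A → B is Henselian finitely presented, i.e. there are n, a Henselization P of the pair
(A[X₁,…,Xₙ], I·A[X₁,…,Xₙ]) (a Henselized polynomial ring) and a surjective A-algebra map P → B with
finitely generated kernel; (ii) there are a finitely presented A-algebra R and an R-algebra
structure on B compatible with that of A for which B is a Henselization of the pair (R, IR). -/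
theorem result (A : Type u) [CommRing A] (I : Ideal A)
    [HenselianRing A I] (B : Type u) [CommRing B] [Algebra A B]
    [HenselianRing B (I.map (algebraMap A B))] :
    (∃ (n : ℕ) (P : Type u) (_ : CommRing P) (_ : Algebra (MvPolynomial (Fin n) A) P) (_ : Algebra A P)
        (_ : IsScalarTower A (MvPolynomial (Fin n) A) P),
        Hens2.IsPairHenselization (MvPolynomial (Fin n) A)
          (I.map (algebraMap A (MvPolynomial (Fin n) A))) P ∧
        ∃ φ : P →ₐ[A] B, Function.Surjective φ ∧ (RingHom.ker φ).FG) ↔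
    ∃ (R : Type u) (_ : CommRing R) (_ : Algebra A R) (_ : Algebra R B) (_ : IsScalarTower A R B),
      Algebra.FinitePresentation A R ∧ Hens2.IsPairHenselization R (I.map (algebraMap A R)) B := by
  constructor
  · rintro ⟨n, P, _, _, _, _, hP, φ, hφ, hker⟩
    exact dir2 I B n P hP φ hφ hker
  · rintro ⟨R, _, _, _, _, hFP, hB⟩
    haveI := hFP
    exact dir1 I B R hB

end Groth.Agent.S17607
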