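import Groth.Statements.S17608
-- import your own Groth.Agent.* helpers here
import Groth.Agent.Lib.Helper26PairHzMore

set_option autoImplicit false
universe u
open Hensel

namespace Groth.Agent.S17608

open Groth.Agent.Lib.Helper26.PairHz Groth.Agent.Lib.Helper18ColimSys MvPolynomial

section Helpers

/-- descend a ring hom along a surjection -/
theorem exists_ringHom_desc {X Y D : Type*} [CommRing X] [CommRing Y] [CommRing D] (π : X →+* Y)
    (hπ : Function.Surjective π) (G : X →+* D) (hG : ∀ x, π x = 0 → G x = 0) :
    ∃ g : Y →+* D, ∀ x, g (π x) = G x := by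
  let e := RingHom.quotientKerEquivOfSurjective hπ
  have hk : ∀ x ∈ RingHom.ker π, G x = 0 := fun x hx => hG x hx
  refine ⟨(Ideal.Quotient.lift (RingHom.ker π) G hk).comp e.symm.toRingHom, ?_⟩
  intro x
  have h1 : e.symm (π x) = Ideal.Quotient.mk _ x := by
    rw [RingEquiv.symm_apply_eq]
    rfl
  change (Ideal.Quotient.lift (RingHom.ker π) G hk) (e.symm (π x)) = G x
  rw [h1]
  rfl

end Helpers

/-- Let (A, I) be a Henselian pair, let B be a Henselization of the pair (R, IR) for a finitely
presented A-algebra R, and let C be a Henselization of the pair (S, IS) for a finitely presented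
B-algebra S, all algebra structures being compatible (so A → B and B → C are Henselian finitely
presented maps of Henselian pairs). Then the composite A → C is Henselian finitely presented: there
are a finitely presented A-algebra T and a T-algebra structure on C compatible with that of A for
which C is a Henselization of the pair (T, IT). -/
theorem result (A : Type u) [CommRing A] (I : Ideal A) [HenselianRing A I]
    (R : Type u) [CommRing R] [Algebra A R] [Algebra.FinitePresentation A R]
    (B : Type u) [CommRing B] [Algebra R B] [Algebra A B] [IsScalarTower A R B]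
    (hB : Hens2.IsPairHenselization R (I.map (algebraMap A R)) B)
    (S : Type u) [CommRing S] [Algebra B S] [Algebra A S] [IsScalarTower A B S] [Algebra.FinitePresentation B S]
    (C : Type u) [CommRing C] [Algebra S C] [Algebra B C] [Algebra A C] [IsScalarTower B S C]
    [IsScalarTower A B C]
    (hC : Hens2.IsPairHenselization S (I.map (algebraMap A S)) C) :
    ∃ (T : Type u) (_ : CommRing T) (_ : Algebra A T) (_ : Algebra T C) (_ : IsScalarTower A T C),
      Algebra.FinitePresentation A T ∧ Hens2.IsPairHenselization T (I.map (algebraMap A T)) C := by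
  classical
  haveI hASC : IsScalarTower A S C := IsScalarTower.of_algebraMap_eq (fun a => by
    rw [IsScalarTower.algebraMap_apply A B S, ← IsScalarTower.algebraMap_apply B S C,
      ← IsScalarTower.algebraMap_apply A B C])
  obtain ⟨m, π, hπ, qs, hqs⟩ := (inferInstance : Algebra.FinitePresentation B S).out
  obtain ⟨ρ, hS⟩ := exists_sys_of_isPairHenselization hB
  obtain ⟨i₀⟩ := hS.nonempty
  let coeffs : Finset B := qs.biUnion (fun q => q.support.image q.coeff)
  obtain ⟨j, -, -, hj⟩ := hS.lift i₀ coeffs
  -- the neighbourhood R' = j.C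
  letI : Algebra A j.C := ((algebraMap R j.C).comp (algebraMap A R)).toAlgebra
  haveI : IsScalarTower A R j.C := IsScalarTower.of_algebraMap_eq (fun _ => rfl)
  haveI : Algebra.FinitePresentation A j.C := Algebra.FinitePresentation.trans A R j.C
  have hρA : ∀ a : A, ρ j (algebraMap A j.C a) = algebraMap A B a := by
    intro a
    change ρ j (algebraMap R j.C (algebraMap A R a)) = _
    rw [AlgHom.commutes, ← IsScalarTower.algebraMap_apply]
  -- descend the relations
  let pre : B → j.C := fun b => if h : ∃ x : j.C, ρ j x = b then h.choose else 0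
  have hpre : ∀ b ∈ coeffs, ρ j (pre b) = b := by
    intro b hb
    have h := hj b hb
    simp only [pre, dif_pos h]
    exact h.choose_spec
  let q' : MvPolynomial (Fin m) B → MvPolynomial (Fin m) j.C := fun q =>
    ∑ d ∈ q.support, monomial d (pre (q.coeff d))
  have hq' : ∀ q ∈ qs, MvPolynomial.map (ρ j : j.C →+* B) (q' q) = q := by
    intro q hq
    simp only [q', map_sum, MvPolynomial.map_monomial]
    conv_rhs => rw [← MvPolynomial.support_sum_monomial_coeff q]
    apply Finset.sum_congr rfl
    intro d hd
    congr 1
    apply hpre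
    exact Finset.mem_biUnion.mpr ⟨q, hq, Finset.mem_image_of_mem _ hd⟩
  let KT : Ideal (MvPolynomial (Fin m) j.C) := Ideal.span ((qs.image q' : Finset _) : Set _)
  have hKTfg : KT.FG := ⟨qs.image q', rfl⟩
  haveI : Algebra.FinitePresentation j.C (MvPolynomial (Fin m) j.C ⧸ KT) :=
    Algebra.FinitePresentation.quotient hKTfg
  haveI : Algebra.FinitePresentation A (MvPolynomial (Fin m) j.C ⧸ KT) :=
    Algebra.FinitePresentation.trans A j.C _
  -- the map T → S
  let τ : MvPolynomial (Fin m) j.C →+* S :=
    π.toRingHom.comp (MvPolynomial.map (ρ j : j.C →+* B))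
  have hτ : ∀ p, τ p = π (MvPolynomial.map (ρ j : j.C →+* B) p) := fun p => rfl
  have hπq : ∀ q ∈ qs, π q = 0 := by
    intro q hq
    have : q ∈ RingHom.ker π.toRingHom := by
      rw [← hqs]; exact Ideal.subset_span hq
    exact this
  have hτK : ∀ p ∈ KT, τ p = 0 := by
    intro p hp
    have hle : KT ≤ RingHom.ker τ := by
      rw [Ideal.span_le]
      intro p hp
      rw [Finset.coe_image] at hp
      obtain ⟨q, hq, rfl⟩ := hp
      rw [SetLike.mem_coe, RingHom.mem_ker, hτ, hq' q hq]
      exact hπq q hq
    exact hle hp
  let τbar : (MvPolynomial (Fin m) j.C ⧸ KT) →+* S := Ideal.Quotient.lift KT τ hτK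
  letI : Algebra (MvPolynomial (Fin m) j.C ⧸ KT) C := ((algebraMap S C).comp τbar).toAlgebra
  have hTC : ∀ p : MvPolynomial (Fin m) j.C,
      algebraMap (MvPolynomial (Fin m) j.C ⧸ KT) C (Ideal.Quotient.mk KT p) =
        algebraMap S C (π (MvPolynomial.map (ρ j : j.C →+* B) p)) := fun p => rfl
  have hAT : ∀ a : A, algebraMap A (MvPolynomial (Fin m) j.C ⧸ KT) a =
      Ideal.Quotient.mk KT (MvPolynomial.C (algebraMap A j.C a)) := fun a => rfl
  have hπC : ∀ b : B, π (MvPolynomial.C b) = algebraMap B S b := fun b => π.commutes b
  haveI : IsScalarTower A (MvPolynomial (Fin m) j.C ⧸ KT) C :=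
    IsScalarTower.of_algebraMap_eq (fun a => by
      change algebraMap A C a = algebraMap (MvPolynomial (Fin m) j.C ⧸ KT) C
        (Ideal.Quotient.mk KT (MvPolynomial.C (algebraMap A j.C a)))
      rw [hTC, MvPolynomial.map_C]
      change algebraMap A C a = algebraMap S C (π (MvPolynomial.C (ρ j (algebraMap A j.C a))))
      rw [hρA, hπC, ← IsScalarTower.algebraMap_apply A B S, ← IsScalarTower.algebraMap_apply A S C])
  refine ⟨MvPolynomial (Fin m) j.C ⧸ KT, inferInstance, inferInstance, inferInstance, inferInstance,
    inferInstance, ?_⟩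
  -- B is a henselization of the neighbourhood
  letI : Algebra j.C B := (ρ j).toRingHom.toAlgebra
  haveI : IsScalarTower R j.C B := IsScalarTower.of_algebraMap_eq (fun p => ((ρ j).commutes p).symm)
  have hBj : Hens2.IsPairHenselization j.C ((I.map (algebraMap A R)).map (algebraMap R j.C)) B :=
    isPairHenselization_of_nbhd hB j.isNbhd
  have hIj : (I.map (algebraMap A R)).map (algebraMap R j.C) = I.map (algebraMap A j.C) :=
    map_map_tower I
  refine ⟨?_, ?_⟩
  · have := hC.1
    rw [map_map_tower I] at this
    rw [map_map_tower I]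
    exact this
  · intro D _ K f hD hK
    let fR' : j.C →+* D := f.comp ((Ideal.Quotient.mk KT).comp (MvPolynomial.C : j.C →+* MvPolynomial (Fin m) j.C))
    have hfR' : ∀ r, fR' r = f (Ideal.Quotient.mk KT (MvPolynomial.C r)) := fun r => rfl
    have hfR'A : fR'.comp (algebraMap A j.C) = f.comp (algebraMap A _) := RingHom.ext (fun a => rfl)
    have hle : ((I.map (algebraMap A R)).map (algebraMap R j.C)).map fR' ≤ K := by
      rw [hIj, Ideal.map_map, hfR'A, ← Ideal.map_map]
      exact hK
    obtain ⟨β, hβ, hβuniq⟩ := hBj.2 D K fR' hD hle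
    have hβ' : ∀ r : j.C, β (ρ j r) = fR' r := fun r => congrArg (fun k : j.C →+* D => k r) hβ
    let G : MvPolynomial (Fin m) B →+* D :=
      MvPolynomial.eval₂Hom β (fun l => f (Ideal.Quotient.mk KT (X l)))
    have hGmap : ∀ p : MvPolynomial (Fin m) j.C,
        G (MvPolynomial.map (ρ j : j.C →+* B) p) = f (Ideal.Quotient.mk KT p) := by
      intro p
      have : G.comp (MvPolynomial.map (ρ j : j.C →+* B)) = f.comp (Ideal.Quotient.mk KT) := by
        apply MvPolynomial.ringHom_ext
        · intro r
          simp only [RingHom.coe_comp, Function.comp_apply, MvPolynomial.map_C, G,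
            MvPolynomial.coe_eval₂Hom, MvPolynomial.eval₂_C]
          exact hβ' r
        · intro l
          simp only [RingHom.coe_comp, Function.comp_apply, MvPolynomial.map_X, G,
            MvPolynomial.coe_eval₂Hom, MvPolynomial.eval₂_X]
      exact congrArg (fun k : MvPolynomial (Fin m) j.C →+* D => k p) this
    have hGker : ∀ p, π.toRingHom p = 0 → G p = 0 := by
      intro p hp
      have hle : RingHom.ker π.toRingHom ≤ RingHom.ker G := by
        rw [← hqs, Ideal.span_le]
        intro q hq
        rw [SetLike.mem_coe, RingHom.mem_ker, ← hq' q hq, hGmap]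
        have : Ideal.Quotient.mk KT (q' q) = 0 :=
          Ideal.Quotient.eq_zero_iff_mem.mpr (Ideal.subset_span (Finset.mem_image_of_mem _ hq))
        rw [this, map_zero]
      exact hle hp
    obtain ⟨gS, hgS⟩ := exists_ringHom_desc π.toRingHom hπ G hGker
    have hgS' : ∀ p, gS (π p) = G p := hgS
    have hGC : ∀ b : B, G (MvPolynomial.C b) = β b := by
      intro b
      simp only [G, MvPolynomial.coe_eval₂Hom, MvPolynomial.eval₂_C]
    have hgSA : gS.comp (algebraMap A S) = f.comp (algebraMap A _) := by
      refine RingHom.ext (fun a => ?_)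
      change gS (algebraMap A S a) = f (algebraMap A _ a)
      rw [IsScalarTower.algebraMap_apply A B S, ← hπC, hgS', hGC, ← hρA, hβ']
      rfl
    have hleS : (I.map (algebraMap A S)).map gS ≤ K := by
      rw [Ideal.map_map, hgSA, ← Ideal.map_map]
      exact hK
    obtain ⟨γ, hγ, hγuniq⟩ := hC.2 D K gS hD hleS
    have hγ' : ∀ s : S, γ (algebraMap S C s) = gS s := fun s =>
      congrArg (fun k : S →+* D => k s) hγ
    refine ⟨γ, ?_, ?_⟩
    · refine RingHom.ext (fun t => ?_)
      obtain ⟨p, rfl⟩ := Ideal.Quotient.mk_surjective t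
      change γ (algebraMap _ C (Ideal.Quotient.mk KT p)) = f (Ideal.Quotient.mk KT p)
      rw [hTC, hγ', hgS', hGmap]
    · intro γ' hγ'2
      have hγ'T : ∀ p : MvPolynomial (Fin m) j.C,
          γ' (algebraMap S C (π (MvPolynomial.map (ρ j : j.C →+* B) p))) =
            f (Ideal.Quotient.mk KT p) := by
        intro p
        rw [← hTC]
        exact congrArg (fun k : (MvPolynomial (Fin m) j.C ⧸ KT) →+* D =>
          k (Ideal.Quotient.mk KT p)) hγ'2
      apply hγuniq
      -- γ' ∘ alg_SC = gS
      have hγ'B : γ'.comp (algebraMap B C) = β := by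
        apply hβuniq
        refine RingHom.ext (fun r => ?_)
        change γ' (algebraMap B C (ρ j r)) = fR' r
        rw [IsScalarTower.algebraMap_apply B S C, ← hπC]
        have := hγ'T (MvPolynomial.C r)
        rw [MvPolynomial.map_C] at this
        rw [hfR']
        exact this
      have hcomp : (γ'.comp (algebraMap S C)).comp π.toRingHom = G := by
        apply MvPolynomial.ringHom_ext
        · intro b
          change γ' (algebraMap S C (π (MvPolynomial.C b))) = G (MvPolynomial.C b)
          rw [hπC, ← IsScalarTower.algebraMap_apply B S C, hGC]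
          exact congrArg (fun k : B →+* D => k b) hγ'B
        · intro l
          change γ' (algebraMap S C (π (X l))) = G (X l)
          have := hγ'T (X l)
          rw [MvPolynomial.map_X] at this
          rw [this]
          simp only [G, MvPolynomial.coe_eval₂Hom, MvPolynomial.eval₂_X]
      refine RingHom.ext (fun s => ?_)
      obtain ⟨p, rfl⟩ := hπ s
      change γ' (algebraMap S C (π p)) = gS (π p)
      rw [hgS']
      exact congrArg (fun k : MvPolynomial (Fin m) B →+* D => k p) hcomp

end Groth.Agent.S17608
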