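import Groth.Statements.S17610
-- import your own Groth.Agent.* helpers here
import Groth.Agent.Lib.Helper26PairHzMore
import Groth.Agent.Lib.Helper26HFormal

set_option autoImplicit false
universe u
open Hensel

namespace Groth.Agent.S17610

open Groth.Agent.Lib.Helper26.PairHz Groth.Agent.Lib.Helper26.HFormal

section Helpers

theorem finitePresentation_quotient_pow {A : Type u} [CommRing A] (I : Ideal A)
    {R₀ : Type u} [CommRing R₀] [Algebra A R₀] [Algebra.FinitePresentation A R₀]
    {B : Type u} [CommRing B] [Algebra R₀ B] [Algebra A B] [IsScalarTower A R₀ B]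
    (hB : Hens2.IsPairHenselization R₀ (I.map (algebraMap A R₀)) B) (r : ℕ) :
    Algebra.FinitePresentation (A ⧸ I ^ r) (B ⧸ (I ^ r).map (algebraMap A B)) := by
  obtain ⟨e⟩ := nonempty_algEquiv_quotient_pow I hB r
  haveI : Algebra.FinitePresentation (A ⧸ I ^ r) (R₀ ⧸ (I ^ r).map (algebraMap A R₀)) :=
    Algebra.FinitePresentation.equiv
      (Algebra.TensorProduct.quotIdealMapEquivQuotTensor R₀ (I ^ r)).symm
  exact Algebra.FinitePresentation.equiv e

end Helpers

/-- Let (A, I) be a Henselian pair and let B be a Henselization of the pair (R₀, IR₀) for a finitely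
presented A-algebra R₀ (so A → B is a Henselian finitely presented map of Henselian pairs). Then A →
B is h-formally étale, meaning that for all A-algebras E and C annihilated by some power I^N (N ≥
1), every surjective A-algebra map p : E → C with nilpotent kernel and every A-algebra map u : B →
C, there is exactly one A-algebra map v : B → E with p ∘ v = u, if and only if A/I^r → B/I^rB is
étale for every r ≥ 1. (Test algebras E, C are taken in the universe of A.) -/
theorem result (A : Type u) [CommRing A] (I : Ideal A)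
    [HenselianRing A I] (R₀ : Type u) [CommRing R₀] [Algebra A R₀] [Algebra.FinitePresentation A R₀]
    (B : Type u) [CommRing B] [Algebra R₀ B] [Algebra A B] [IsScalarTower A R₀ B]
    (hB : Hens2.IsPairHenselization R₀ (I.map (algebraMap A R₀)) B) :
    (∀ (E C : Type u) [CommRing E] [CommRing C] [Algebra A E] [Algebra A C] (N : ℕ), 1 ≤ N →
        (I ^ N).map (algebraMap A E) = ⊥ → (I ^ N).map (algebraMap A C) = ⊥ →
        ∀ (p : E →ₐ[A] C), Function.Surjective p → (∃ M : ℕ, 1 ≤ M ∧ RingHom.ker p ^ M = ⊥) →
        ∀ u : B →ₐ[A] C, ∃! v : B →ₐ[A] E, p.comp v = u) ↔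
    ∀ r : ℕ, 1 ≤ r → Algebra.Etale (A ⧸ I ^ r) (B ⧸ (I ^ r).map (algebraMap A B)) := by
  constructor
  · intro H r hr
    haveI := finitePresentation_quotient_pow I hB r
    haveI : Algebra.FormallyEtale (A ⧸ I ^ r) (B ⧸ (I ^ r).map (algebraMap A B)) := by
      apply formallyEtale_of_lifting (I ^ r)
      intro E C _ _ _ _ hE hC p hp hk u
      exact H E C r hr hE hC p hp ⟨2, by norm_num, hk⟩ u
    exact ⟨inferInstance, inferInstance⟩
  · intro H E C _ _ _ _ N hN hE hC p hp hM u
    obtain ⟨M, -, hM⟩ := hM
    have hnil : IsNilpotent (RingHom.ker (p : E →+* C)) := ⟨M, hM⟩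
    haveI := H N hN
    obtain ⟨v, hv⟩ := exists_lift (I ^ N) hE hC p hp hnil u
    exact ⟨v, hv, fun v' hv' => lift_unique (I ^ N) hE hC p hnil v' v (hv'.trans hv.symm)⟩

end Groth.Agent.S17610
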