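import Groth.Statements.S17613
-- import your own Groth.Agent.* helpers here
import Groth.Agent.Lib.Helper26HenselColim
import Groth.Agent.Lib.Helper18ColimSys

set_option autoImplicit false
universe u
open Hensel

namespace Groth.Agent.S17613

open Groth.Agent.Lib.Helper26.HenselColim Groth.Agent.Lib.Helper18ColimSys

/-- Let (A, I) be a Henselian pair and let B be a Henselization of the pair (R₀, IR₀) for a finitely
presented A-algebra R₀ (so A → B is Henselian finitely presented). Let (R_a) be a directed system of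
A-algebras with A-compatible transition maps such that each (R_a, IR_a) is a Henselian pair, and let
L be its direct limit with the induced A-algebra structure. Then the canonical map from the colimit
of the Hom_A(B, R_a) to Hom_A(B, L) is bijective: every A-algebra map B → L factors through some
R_a, and two A-algebra maps B → R_a whose composites with R_a → L agree become equal after passing
to some R_b. (Index set in the universe of the rings.) -/
theorem result (A : Type u) [CommRing A] (I : Ideal A)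
    [HenselianRing A I] (R₀ : Type u) [CommRing R₀] [Algebra A R₀] [Algebra.FinitePresentation A R₀]
    (B : Type u) [CommRing B] [Algebra R₀ B] [Algebra A B] [IsScalarTower A R₀ B]
    (hB : Hens2.IsPairHenselization R₀ (I.map (algebraMap A R₀)) B)
    {κ : Type u} [Preorder κ] [IsDirectedOrder κ] [Nonempty κ]
    (Ra : κ → Type u) [∀ a, CommRing (Ra a)] [∀ a, Algebra A (Ra a)]
    [∀ a, HenselianRing (Ra a) (I.map (algebraMap A (Ra a)))]
    (t : ∀ a b : κ, a ≤ b → (Ra a →+* Ra b)) [DirectedSystem Ra (fun a b h => t a b h)]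
    (ht : ∀ (a b : κ) (h : a ≤ b), (t a b h).comp (algebraMap A (Ra a)) = algebraMap A (Ra b))
    [Algebra A (DirectLimit Ra t)]
    (halg : ∀ (a : κ) (x : A), algebraMap A (DirectLimit Ra t) x =
      DirectLimit.Ring.of Ra t a (algebraMap A (Ra a) x)) :
    (∀ χ : B →ₐ[A] DirectLimit Ra t, ∃ (a : κ) (φ : B →ₐ[A] Ra a),
        ∀ x : B, DirectLimit.Ring.of Ra t a (φ x) = χ x) ∧
    ∀ (a : κ) (φ ψ : B →ₐ[A] Ra a),
      (∀ x : B, DirectLimit.Ring.of Ra t a (φ x) = DirectLimit.Ring.of Ra t a (ψ x)) →
      ∃ (b : κ) (h : a ≤ b), ∀ x : B, t a b h (φ x) = t a b h (ψ x) := by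
  have hL : HenselianRing (DirectLimit Ra t) (I.map (algebraMap A (DirectLimit Ra t))) :=
    henselianRing_directLimit I Ra t ht halg
  have hideal : ∀ {C : Type u} [CommRing C] [Algebra A C] (f : R₀ →ₐ[A] C),
      (I.map (algebraMap A R₀)).map f.toRingHom ≤ I.map (algebraMap A C) := by
    intro C _ _ f
    rw [Ideal.map_map]
    have : f.toRingHom.comp (algebraMap A R₀) = algebraMap A C := by
      ext a; simp
    rw [this]
  let ι : R₀ →ₐ[A] B := IsScalarTower.toAlgHom A R₀ B
  let gA : ∀ a, Ra a →ₐ[A] DirectLimit Ra t := fun a =>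
    AlgHom.mk (DirectLimit.Ring.of Ra t a) (fun x => (halg a x).symm)
  let tA : ∀ a b, a ≤ b → (Ra a →ₐ[A] Ra b) := fun a b h =>
    AlgHom.mk (t a b h) (fun x => congrArg (fun k : A →+* Ra b => k x) (ht a b h))
  have hS : Sys A Ra (DirectLimit Ra t) gA := by
    apply Sys.of_directed tA
    · intro i j h
      ext x
      exact DirectLimit.Ring.of_f h x
    · intro z
      induction z using DirectLimit.induction with
      | _ i x => exact ⟨i, x, rfl⟩
    · intro i x hx
      have : DirectLimit.Ring.of Ra t i x = DirectLimit.Ring.of Ra t i 0 := by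
        rw [map_zero]; exact hx
      obtain ⟨j, hij, hj⟩ := exists_le_eq Ra t i x 0 this
      exact ⟨j, hij, by rw [map_zero] at hj; exact hj⟩
  refine ⟨?_, ?_⟩
  · intro χ
    obtain ⟨a, ρ', hρ'⟩ := hS.lift_algHom R₀ (χ.comp ι)
    obtain ⟨φ₀, hφ₀, -⟩ := hB.2 (Ra a) _ ρ'.toRingHom inferInstance (hideal ρ')
    have hφ₀ι : ∀ r, φ₀ (algebraMap R₀ B r) = ρ' r := fun r =>
      congrArg (fun k : R₀ →+* Ra a => k r) hφ₀
    have cφ : ∀ x, φ₀ (algebraMap A B x) = algebraMap A (Ra a) x := by
      intro x
      rw [IsScalarTower.algebraMap_apply A R₀ B, hφ₀ι, AlgHom.commutes]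
    refine ⟨a, AlgHom.mk φ₀ cφ, ?_⟩
    obtain ⟨k, -, hkuniq⟩ := hB.2 (DirectLimit Ra t) _ (χ.comp ι).toRingHom hL (hideal (χ.comp ι))
    have e1 : (DirectLimit.Ring.of Ra t a).comp φ₀ = k := hkuniq _ (by
      ext r
      change DirectLimit.Ring.of Ra t a (φ₀ (algebraMap R₀ B r)) = χ (ι r)
      rw [hφ₀ι]
      exact congrArg (fun k : R₀ →ₐ[A] DirectLimit Ra t => k r) hρ')
    have e2 : χ.toRingHom = k := hkuniq _ (by ext r; rfl)
    intro x
    exact congrArg (fun k : B →+* DirectLimit Ra t => k x) (e1.trans e2.symm)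
  · intro a φ ψ h
    classical
    obtain ⟨s, hs⟩ := (Algebra.FiniteType.out : (⊤ : Subalgebra A R₀).FG)
    obtain ⟨b, hab, hb⟩ := exists_le_eq_finset Ra t s a (fun r => φ (ι r)) (fun r => ψ (ι r))
      (fun r _ => h (ι r))
    refine ⟨b, hab, ?_⟩
    have heq : (tA a b hab).comp (φ.comp ι) = (tA a b hab).comp (ψ.comp ι) := by
      apply AlgHom.ext_of_adjoin_eq_top hs
      intro r hr
      exact hb r hr
    obtain ⟨k, -, hkuniq⟩ := hB.2 (Ra b) _ ((tA a b hab).comp (φ.comp ι)).toRingHom inferInstance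
      (hideal _)
    have e1 : (t a b hab).comp φ.toRingHom = k := hkuniq _ (by ext r; rfl)
    have e2 : (t a b hab).comp ψ.toRingHom = k := hkuniq _ (by rw [heq]; ext r; rfl)
    intro x
    exact congrArg (fun k : B →+* Ra b => k x) (e1.trans e2.symm)

end Groth.Agent.S17613
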