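import Groth.Statements.S17617
-- import your own Groth.Agent.* helpers here
import Groth.Agent.Lib.Helper26PairHzUnique

set_option autoImplicit false
universe u
open Hensel

namespace Groth.Agent.S17617

section Helpers

open TensorProduct Groth.Agent.Lib.Helper26.PairHz Groth.Agent.Lib.Helper2

/-- Key lemma: if `H` is flat over `A`, there is a ring map `ψ : H → κ` killing the image of `m`, and
`1 ⊗ x̄ = 0` in `H ⊗ Q` for `x̄` with annihilator inside `m`, contradiction. -/
theorem false_of_tmul_eq_zero {A : Type u} [CommRing A] {Q : Type u} [AddCommGroup Q] [Module A Q]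
    {H : Type u} [CommRing H] [Algebra A H] [Module.Flat A H]
    {κ : Type u} [CommRing κ] [Nontrivial κ] (ψ : H →+* κ) (m : Ideal A)
    (hψ : ∀ a ∈ m, ψ (algebraMap A H a) = 0) (z : Q) (hz : ∀ a : A, a • z = 0 → a ∈ m)
    (h0 : (1 : H) ⊗ₜ[A] z = 0) : False := by
  have h1 : z ⊗ₜ[A] (1 : H) = 0 := by
    have := congrArg (TensorProduct.comm A H Q) h0
    simpa using this
  have hinj : Function.Injective
      (LinearMap.rTensor H (Submodule.span A (Set.range (fun _ : Unit => z))).subtype) :=
    Module.Flat.rTensor_preserves_injective_linearMap _ (Submodule.injective_subtype _)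
  obtain ⟨k, a, y, hy, ha⟩ :=
    TensorProduct.vanishesTrivially_of_sum_tmul_eq_zero_of_rTensor_injective A
      (m := fun _ : Unit => z) (n := fun _ : Unit => (1 : H)) hinj (by simpa using h1)
  have h2 : (1 : H) = ∑ j, a () j • y j := hy ()
  have h3 : ψ 1 = 0 := by
    rw [h2, map_sum]
    apply Finset.sum_eq_zero
    intro j _
    rw [Algebra.smul_def, map_mul, hψ, zero_mul]
    apply hz
    simpa using ha j
  rw [map_one] at h3
  exact one_ne_zero h3

theorem main (A : Type u) [CommRing A]
    (I : Ideal A) [HenselianRing A I]
    (M' M M'' : Type u) [AddCommGroup M'] [Module A M'] [AddCommGroup M] [Module A M]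
    [AddCommGroup M''] [Module A M''] (f : M' →ₗ[A] M) (g : M →ₗ[A] M'') (hfg : g.comp f = 0) :
    Function.Exact f g ↔
    ∀ (p : Ideal A) [p.IsPrime], I ≤ p →
      ∀ (H : Type u) [CommRing H] [Algebra (Localization.AtPrime p) H] [Algebra A H]
        [IsScalarTower A (Localization.AtPrime p) H],
        Hens2.IsPairHenselization (Localization.AtPrime p)
          (I.map (algebraMap A (Localization.AtPrime p))) H →
        Function.Exact (f.baseChange H) (g.baseChange H) := by
  constructor
  · intro hex p _ hIp H _ _ _ _ hH
    haveI : Module.Flat (Localization.AtPrime p) H := flat_of_isPairHenselization hH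
    haveI : Module.Flat A (Localization.AtPrime p) := IsLocalization.flat _ p.primeCompl
    haveI : Module.Flat A H := Module.Flat.trans A (Localization.AtPrime p) H
    have := Module.Flat.lTensor_exact H hex
    exact this
  · intro h
    rw [LinearMap.exact_iff]
    apply le_antisymm
    · intro x hx
      by_contra hxf
      let q := (LinearMap.range f).mkQ
      have hqx : q x ≠ 0 := by
        intro h0
        exact hxf ((Submodule.Quotient.mk_eq_zero _).mp h0)
      let J : Ideal A := Ideal.torsionOf A _ (q x)
      have hJ : J ≠ ⊤ := by
        intro hJ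
        have : (1 : A) ∈ J := hJ ▸ Submodule.mem_top
        rw [Ideal.mem_torsionOf_iff, one_smul] at this
        exact hqx this
      obtain ⟨m, hm, hJm⟩ := Ideal.exists_le_maximal J hJ
      haveI := hm.isPrime
      have hIm : I ≤ m := by
        intro a ha
        have h1 : a ∈ Ideal.jacobson (⊥ : Ideal A) := HenselianRing.jac ha
        rw [Ideal.jacobson, Ideal.mem_sInf] at h1
        exact h1 ⟨bot_le, hm⟩
      let R := Localization.AtPrime m
      let K : Ideal R := I.map (algebraMap A R)
      let H := Hz R K
      letI : Algebra A H := ((algebraMap R H).comp (algebraMap A R)).toAlgebra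
      haveI : IsScalarTower A R H := IsScalarTower.of_algebraMap_eq (fun _ => rfl)
      have hH : Hens2.IsPairHenselization R K H := isPairHenselization_Hz
      have hex := h m hIm H hH
      haveI : Module.Flat R H := flat_of_isPairHenselization hH
      haveI : Module.Flat A R := IsLocalization.flat _ m.primeCompl
      haveI : Module.Flat A H := Module.Flat.trans A R H
      -- the map to the residue field
      have hK : K ≤ IsLocalRing.maximalIdeal R := by
        rw [Ideal.map_le_iff_le_comap]
        intro a ha
        rw [Ideal.mem_comap, ← Localization.AtPrime.map_eq_maximalIdeal]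
        exact Ideal.mem_map_of_mem _ (hIm ha)
      obtain ⟨ψ, hψ, -⟩ := hH.2 (IsLocalRing.ResidueField R) ⊥ (IsLocalRing.residue R)
        (henselianRing_bot _) (by
          rw [Ideal.map_le_iff_le_comap]
          intro r hr
          rw [Ideal.mem_comap, Ideal.mem_bot, IsLocalRing.residue_eq_zero_iff]
          exact hK hr)
      have h1 : (1 : H) ⊗ₜ[A] x ∈ LinearMap.ker (g.baseChange H) := by
        rw [LinearMap.mem_ker, LinearMap.baseChange_tmul]
        rw [LinearMap.mem_ker.mp hx, tmul_zero]
      obtain ⟨y, hy⟩ := (hex _).mp h1
      have h2 : (1 : H) ⊗ₜ[A] q x = 0 := by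
        have := congrArg (q.baseChange H) hy
        rw [LinearMap.baseChange_tmul] at this
        rw [← this, ← LinearMap.comp_apply, ← LinearMap.baseChange_comp]
        have hqf : q.comp f = 0 := by
          ext z
          simp [q]
        rw [hqf, LinearMap.baseChange_zero, LinearMap.zero_apply]
      refine false_of_tmul_eq_zero ψ m ?_ (q x) ?_ h2
      · intro a ha
        have : ψ (algebraMap A H a) = IsLocalRing.residue R (algebraMap A R a) := by
          rw [← hψ]; rfl
        rw [this, IsLocalRing.residue_eq_zero_iff, ← Localization.AtPrime.map_eq_maximalIdeal]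
        exact Ideal.mem_map_of_mem _ ha
      · intro a ha
        exact hJm ((Ideal.mem_torsionOf_iff _ _).mpr ha)
    · rintro _ ⟨y, rfl⟩
      exact LinearMap.congr_fun hfg y

end Helpers

/-- Let (A, I) be a Henselian pair and let M' → M → M'' be A-linear maps with zero composite. Then M' →
M → M'' is exact if and only if for every prime ideal p of A containing I and every Henselization H
of the pair (A_p, IA_p), the sequence H ⊗_A M' → H ⊗_A M → H ⊗_A M'' is exact. (The modules H ⊗_A M
are the stalks at p of the sheaf associated to M on the affine Henselian scheme of (A, I), and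
exactness of a sequence of such sheaves is exactness at every stalk, so this is the statement that
the sequence of modules is exact exactly when the associated sequence of sheaves is.) -/
theorem result (A : Type u) [CommRing A]
    (I : Ideal A) [HenselianRing A I]
    (M' M M'' : Type u) [AddCommGroup M'] [Module A M'] [AddCommGroup M] [Module A M]
    [AddCommGroup M''] [Module A M''] (f : M' →ₗ[A] M) (g : M →ₗ[A] M'') (hfg : g.comp f = 0) :
    Function.Exact f g ↔
    ∀ (p : Ideal A) [p.IsPrime], I ≤ p →
      ∀ (H : Type u) [CommRing H] [Algebra (Localization.AtPrime p) H] [Algebra A H]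
        [IsScalarTower A (Localization.AtPrime p) H],
        Hens2.IsPairHenselization (Localization.AtPrime p)
          (I.map (algebraMap A (Localization.AtPrime p))) H →
        Function.Exact (f.baseChange H) (g.baseChange H) := by
  exact main A I M' M M'' f g hfg

end Groth.Agent.S17617
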