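import Groth.Statements.S17620
-- import your own Groth.Agent.* helpers here
import Groth.Agent.Lib.Helper26PairHens

set_option autoImplicit false
universe u
open Hensel

namespace Groth.Agent.S17620

open IsLocalRing Groth.Agent.Lib.Helper26 in
theorem aux
    (R : Type u) [CommRing R] [IsLocalRing R] (J : Ideal R)
    (H : Type u) [CommRing H] [IsLocalRing H] [Algebra R H] [IsLocalHom (algebraMap R H)]
    (hH : Hens2.IsPairHenselization R J H)
    (S : Type u) [CommRing S] [IsLocalRing S] [Algebra H S] [IsLocalHom (algebraMap H S)]
    [hS : Hensel.IsStrictHenselization H S]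
    [Algebra R S] [IsScalarTower R H S] [IsLocalHom (algebraMap R S)] :
    Hensel.IsStrictHenselization R S := by
  have hdecomp := exists_sub_mem_of_isPairHenselization J H hH
  have hJH : J.map (algebraMap R H) ≤ maximalIdeal H := by
    have := hH.1.jac
    rwa [IsLocalRing.jacobson_eq_maximalIdeal _ bot_ne_top] at this
  -- residue field of `H` is that of `R`
  have hres : Function.Surjective (algebraMap (ResidueField R) (ResidueField H)) := by
    intro y
    obtain ⟨x, rfl⟩ := residue_surjective y
    obtain ⟨r, hr⟩ := hdecomp x
    refine ⟨residue R r, ?_⟩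
    rw [ResidueField.algebraMap_residue]
    symm
    rw [← sub_eq_zero, ← map_sub, residue_eq_zero_iff]
    exact hJH hr
  refine ⟨hS.henselian, ?_, ?_⟩
  · -- separable closure
    have hsc := hS.isSepClosure
    have hsepRH : Algebra.IsSeparable (ResidueField R) (ResidueField H) := by
      refine ⟨fun y => ?_⟩
      obtain ⟨x, rfl⟩ := hres y
      exact isSeparable_algebraMap x
    have := hsc.separable
    exact ⟨hsc.sep_closed, Algebra.IsSeparable.trans (ResidueField R) (ResidueField H) (ResidueField S)⟩
  · intro T _ _ f _ τ hτ
    have hJT : J.map f ≤ maximalIdeal T := by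
      rw [Ideal.map_le_iff_le_comap]
      intro j hj
      have hjm : algebraMap R H j ∈ maximalIdeal H := hJH (Ideal.mem_map_of_mem _ hj)
      have hjR : j ∈ maximalIdeal R := by
        rw [mem_maximalIdeal, mem_nonunits_iff] at hjm ⊢
        intro hu
        exact hjm (hu.map _)
      rw [Ideal.mem_comap, mem_maximalIdeal, mem_nonunits_iff]
      rw [mem_maximalIdeal, mem_nonunits_iff] at hjR
      intro hu
      exact hjR (isUnit_of_map_unit f j hu)
    obtain ⟨f', hf', hf'uniq⟩ := hH.2 T (maximalIdeal T) f inferInstance hJT
    have hf'apply : ∀ r, f' (algebraMap R H r) = f r := fun r => by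
      rw [← hf']; rfl
    have hf'J : ∀ j ∈ J.map (algebraMap R H), f' j ∈ maximalIdeal T := by
      intro j hj
      apply hJT
      have : J.map f = (J.map (algebraMap R H)).map f' := by
        rw [Ideal.map_map, hf']
      rw [this]
      exact Ideal.mem_map_of_mem _ hj
    have hloc : IsLocalHom f' := by
      refine ⟨fun x hx => ?_⟩
      obtain ⟨r, hr⟩ := hdecomp x
      have hx' : f' x = f r + f' (x - algebraMap R H r) := by
        rw [map_sub, hf'apply]; ring
      rw [hx'] at hx
      have hfr : IsUnit (f r) := by
        rcases IsLocalRing.isUnit_or_isUnit_of_isUnit_add hx with h | h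
        · exact h
        · exact absurd h ((mem_nonunits_iff).mp ((mem_maximalIdeal _).mp (hf'J _ hr)))
      have hr' : IsUnit (algebraMap R H r) := (isUnit_of_map_unit f r hfr).map _
      by_contra hxu
      have hxm : x ∈ maximalIdeal H := (mem_maximalIdeal _).mpr hxu
      have : algebraMap R H r ∈ maximalIdeal H := by
        have h2 : algebraMap R H r = x - (x - algebraMap R H r) := by ring
        rw [h2]
        exact Ideal.sub_mem _ hxm (hJH hr)
      exact ((mem_maximalIdeal _).mp this) hr'
    have hτ' : τ.comp (ResidueField.map (algebraMap H S)) = ResidueField.map f' := by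
      ext y
      obtain ⟨x, rfl⟩ := hres y
      obtain ⟨r, rfl⟩ := residue_surjective x
      have h1 := congrArg (fun φ : ResidueField R →+* ResidueField T => φ (residue R r)) hτ
      simp only [RingHom.comp_apply, ResidueField.map_residue] at h1
      simp only [RingHom.comp_apply, ResidueField.algebraMap_residue, ResidueField.map_residue,
        hf'apply, ← IsScalarTower.algebraMap_apply]
      exact h1
    obtain ⟨g, ⟨hg1, hg2⟩, hguniq⟩ := hS.universal T f' τ hτ'
    refine ⟨g, ⟨?_, hg2⟩, ?_⟩
    · rw [IsScalarTower.algebraMap_eq R H S, ← RingHom.comp_assoc, hg1, hf']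
    · rintro g' ⟨hg'1, hg'2⟩
      apply hguniq
      refine ⟨?_, hg'2⟩
      apply hf'uniq
      rw [RingHom.comp_assoc, ← IsScalarTower.algebraMap_eq, hg'1]

/-- Let R be a local ring and J an ideal of R contained in the maximal ideal, let H be a Henselization
of the pair (R, J) which is a local ring with local structure map R → H, and let S be a strict
Henselization of the local ring H. Then S, with its composite R-algebra structure, is a strict
Henselization of the local ring R. (This is the identification of the strict Henselization of the
local ring of a scheme at a point with that of the local ring of its Henselization along a closed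
subscheme through the point.) -/
theorem result
    (R : Type u) [CommRing R] [IsLocalRing R] (J : Ideal R) (hJ : J ≤ IsLocalRing.maximalIdeal R)
    (H : Type u) [CommRing H] [IsLocalRing H] [Algebra R H] [IsLocalHom (algebraMap R H)]
    (hH : Hens2.IsPairHenselization R J H)
    (S : Type u) [CommRing S] [IsLocalRing S] [Algebra H S] [IsLocalHom (algebraMap H S)]
    [Hensel.IsStrictHenselization H S]
    [Algebra R S] [IsScalarTower R H S] [IsLocalHom (algebraMap R S)] :
    Hensel.IsStrictHenselization R S := by
  exact aux R J H hH S

end Groth.Agent.S17620
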