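import Groth.Statements.S17630
import Groth.Agent.Lib.LeadCohRank
import Groth.Agent.Lib.Helper27ResChase
import Groth.Agent.Lib.Helper4DevD
import Groth.Agent.S0002

set_option autoImplicit false
universe u
open CategoryTheory CategoryTheory.Limits AlgebraicGeometry
open Coherent

namespace Groth.Agent.S17630

/-- Let X be a scheme proper over a field k and 0 → C_0 → C_1 → C_2 → ⋯ an exact sequence of coherent
O_X-modules: the composite of consecutive maps is zero, the sequence is exact at every C_j with j ≥
1, and C_0 → C_1 is a monomorphism (the source numbers the sequence from C_{−1}; its argument and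
its application use that the first map is injective). Then for every i ≥ 0, |dim_k H^i(X, C_0) −
dim_k H^i(X, C_1)| ≤ Σ_{j=1}^{i+1} dim_k H^{i+1−j}(X, C_{j+1}) + Σ_{j=1}^{i} dim_k H^{i−j}(X,
C_{j+1}). (The published bound is 2 · Σ_{j=1}^{i+1} dim_k H^{i+1−j}(X, C_{j+1}); the argument given
yields the two sums here, and the published form fails for the sequence 0 → O(−3) → O(−1) → O_Z → 0
on the projective line, Z a subscheme of length 2, with i = 1: the left side is 2 and the published
right side is 0.) -/
theorem result (k : Type u) [Field k] (X : Scheme.{u})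
    [X.Over (Spec (CommRingCat.of k))] [IsProper (X ↘ Spec (CommRingCat.of k))]
    (C : ℕ → X.Modules) (hC : ∀ j, Coh.IsCoh (C j)) (d : ∀ j, C j ⟶ C (j + 1))
    (hd : ∀ j, d j ≫ d (j + 1) = 0) [Mono (d 0)]
    (hex : ∀ j, (ShortComplex.mk (d j) (d (j + 1)) (hd j)).Exact) (i : ℕ) :
    |(Module.finrank k (Coh.HH X (C 0) i) : ℤ) - (Module.finrank k (Coh.HH X (C 1) i) : ℤ)| ≤
      (Finset.Icc 1 (i + 1)).sum (fun j => ((Module.finrank k (Coh.HH X (C (j + 1)) (i + 1 - j))) : ℤ)) +
        (Finset.Icc 1 i).sum (fun j => ((Module.finrank k (Coh.HH X (C (j + 1)) (i - j))) : ℤ)) := by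
  classical
  haveI : IsNoetherianRing k := inferInstance
  haveI : IsLocallyNoetherian X :=
    LocallyOfFiniteType.isLocallyNoetherian (X ↘ Spec (CommRingCat.of k))
  -- abbreviations
  let Z : ℕ → X.Modules := fun j => kernel (d j)
  have hZ : ∀ j, Coh.IsCoh (Z j) := fun j =>
    Groth.Agent.Lib.Helper4.Dev.isCoh_kernel (d j) (hC j) (hC (j + 1))
  have finC : ∀ j m, Module.Finite k (Coh.HH X (C j) m) := fun j m =>
    Groth.Agent.S0002.result k X (C j) (hC j) m
  have finZ : ∀ j m, Module.Finite k (Coh.HH X (Z j) m) := fun j m =>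
    Groth.Agent.S0002.result k X (Z j) (hZ j) m
  -- the short exact sequences `0 → Z j → C j → Z (j+1) → 0`
  have hses : ∀ j, (Groth.Agent.Lib.Helper27ResChase.ses C d hd j).ShortExact := fun j =>
    Groth.Agent.Lib.Helper27ResChase.ses_shortExact C d hd j (hex j)
  -- Claim A
  have claimA : ∀ m j, Module.finrank k (Coh.HH X (Z j) m) ≤
      (Finset.range (m + 1)).sum (fun l => Module.finrank k (Coh.HH X (C (j + l)) (m - l))) := by
    intro m
    induction m with
    | zero =>
      intro j
      haveI : Module.Finite k (Coh.HH X (Groth.Agent.Lib.Helper27ResChase.ses C d hd j).X₂ 0) :=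
        finC j 0
      have := Groth.Agent.Lib.LeadCohRank.finrank_left_zero_le k
        (Groth.Agent.Lib.Helper27ResChase.ses C d hd j) (hses j)
      rw [show (0 : ℕ) + 1 = 1 from rfl, Finset.sum_range_one]
      exact this
    | succ m ih =>
      intro j
      haveI : Module.Finite k (Coh.HH X (Groth.Agent.Lib.Helper27ResChase.ses C d hd j).X₃ m) :=
        finZ (j + 1) m
      haveI : Module.Finite k
          (Coh.HH X (Groth.Agent.Lib.Helper27ResChase.ses C d hd j).X₁ (m + 1)) :=
        finZ j (m + 1)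
      haveI : Module.Finite k
          (Coh.HH X (Groth.Agent.Lib.Helper27ResChase.ses C d hd j).X₂ (m + 1)) :=
        finC j (m + 1)
      have h1 := Groth.Agent.Lib.LeadCohRank.finrank_left_succ_le k
        (Groth.Agent.Lib.Helper27ResChase.ses C d hd j) (hses j) m
      have h2 := ih (j + 1)
      rw [Finset.sum_range_succ']
      have h3 : (Finset.range (m + 1)).sum
          (fun l => Module.finrank k (Coh.HH X (C (j + (l + 1))) (m + 1 - (l + 1)))) =
          (Finset.range (m + 1)).sum
          (fun l => Module.finrank k (Coh.HH X (C (j + 1 + l)) (m - l))) := by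
        refine Finset.sum_congr rfl fun l _ => ?_
        have e1 : j + (l + 1) = j + 1 + l := by omega
        have e2 : m + 1 - (l + 1) = m - l := by omega
        rw [e1, e2]
      rw [h3]
      have h4 : Module.finrank k (Coh.HH X (Groth.Agent.Lib.Helper27ResChase.ses C d hd j).X₁ (m + 1))
          = Module.finrank k (Coh.HH X (Z j) (m + 1)) := rfl
      have h5 : Module.finrank k (Coh.HH X (Groth.Agent.Lib.Helper27ResChase.ses C d hd j).X₃ m)
          = Module.finrank k (Coh.HH X (Z (j + 1)) m) := rfl
      have h6 : Module.finrank k (Coh.HH X (Groth.Agent.Lib.Helper27ResChase.ses C d hd j).X₂ (m + 1))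
          = Module.finrank k (Coh.HH X (C j) (m + 1)) := rfl
      rw [h4, h5, h6] at h1
      simp only [Nat.add_zero, Nat.sub_zero]
      omega
  -- the first short exact sequence `0 → C 0 → C 1 → Z 2 → 0`
  let S' : ShortComplex X.Modules :=
    ShortComplex.mk (d 0) (kernel.lift (d 2) (d 1) (hd 1)) (by
      rw [← cancel_mono (kernel.ι (d 2)), Category.assoc, kernel.lift_ι, hd 0, zero_comp])
  have hS' : S'.ShortExact := by
    have hepi : Epi (kernel.lift (d 2) (d 1) (hd 1)) :=
      (ShortComplex.exact_iff_epi_kernel_lift _).1 (hex 1)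
    let φ : S' ⟶ ShortComplex.mk (d 0) (d 1) (hd 0) :=
      { τ₁ := 𝟙 _
        τ₂ := 𝟙 _
        τ₃ := kernel.ι (d 2)
        comm₁₂ := by simp [S']
        comm₂₃ := by simp [S'] }
    have hexact : S'.Exact := by
      rw [ShortComplex.exact_iff_of_epi_of_isIso_of_mono φ]
      exact hex 0
    exact { exact := hexact
            mono_f := (inferInstance : Mono (d 0))
            epi_g := hepi }
  haveI : Module.Finite k (Coh.HH X S'.X₁ i) := finC 0 i
  haveI : Module.Finite k (Coh.HH X S'.X₂ i) := finC 1 i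
  haveI : Module.Finite k (Coh.HH X S'.X₃ i) := finZ 2 i
  have b1 : Module.finrank k (Coh.HH X (C 1) i) ≤
      Module.finrank k (Coh.HH X (C 0) i) + Module.finrank k (Coh.HH X (Z 2) i) :=
    Groth.Agent.Lib.LeadCohRank.finrank_mid_le k S' hS' i
  have sumA : ∀ m, (Finset.range (m + 1)).sum
      (fun l => Module.finrank k (Coh.HH X (C (2 + l)) (m - l))) =
      (Finset.Icc 1 (m + 1)).sum (fun j => Module.finrank k (Coh.HH X (C (j + 1)) (m + 1 - j))) := by
    intro m
    rw [← Finset.Ico_add_one_right_eq_Icc, Finset.sum_Ico_eq_sum_range]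
    have : m + 1 + 1 - 1 = m + 1 := by omega
    rw [this]
    refine Finset.sum_congr rfl fun l _ => ?_
    have e1 : 2 + l = 1 + l + 1 := by omega
    have e2 : m - l = m + 1 - (1 + l) := by omega
    rw [e1, e2]
  have cA := claimA i 2
  rw [sumA i] at cA
  have key1 : (Module.finrank k (Coh.HH X (C 1) i) : ℤ) - Module.finrank k (Coh.HH X (C 0) i) ≤
      (Finset.Icc 1 (i + 1)).sum
        (fun j => ((Module.finrank k (Coh.HH X (C (j + 1)) (i + 1 - j))) : ℤ)) := by
    have : (Module.finrank k (Coh.HH X (C 1) i) : ℤ) ≤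
        Module.finrank k (Coh.HH X (C 0) i) + Module.finrank k (Coh.HH X (Z 2) i) := by
      exact_mod_cast b1
    have h2 : (Module.finrank k (Coh.HH X (Z 2) i) : ℤ) ≤ (Finset.Icc 1 (i + 1)).sum
        (fun j => ((Module.finrank k (Coh.HH X (C (j + 1)) (i + 1 - j))) : ℤ)) := by
      exact_mod_cast cA
    linarith
  have key2 : (Module.finrank k (Coh.HH X (C 0) i) : ℤ) - Module.finrank k (Coh.HH X (C 1) i) ≤
      (Finset.Icc 1 i).sum
        (fun j => ((Module.finrank k (Coh.HH X (C (j + 1)) (i - j))) : ℤ)) := by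
    cases i with
    | zero =>
      haveI : Module.Finite k (Coh.HH X S'.X₂ 0) := finC 1 0
      have := Groth.Agent.Lib.LeadCohRank.finrank_left_zero_le k S' hS'
      have h' : (Module.finrank k (Coh.HH X (C 0) 0) : ℤ) ≤ Module.finrank k (Coh.HH X (C 1) 0) := by
        exact_mod_cast this
      simp only [Finset.Icc_eq_empty_of_lt Nat.zero_lt_one, Finset.sum_empty]
      linarith
    | succ m =>
      haveI : Module.Finite k (Coh.HH X S'.X₃ m) := finZ 2 m
      haveI : Module.Finite k (Coh.HH X S'.X₁ (m + 1)) := finC 0 (m + 1)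
      haveI : Module.Finite k (Coh.HH X S'.X₂ (m + 1)) := finC 1 (m + 1)
      have b2 := Groth.Agent.Lib.LeadCohRank.finrank_left_succ_le k S' hS' m
      have cB := claimA m 2
      rw [sumA m] at cB
      have h' : (Module.finrank k (Coh.HH X (C 0) (m + 1)) : ℤ) ≤
          Module.finrank k (Coh.HH X (Z 2) m) + Module.finrank k (Coh.HH X (C 1) (m + 1)) := by
        exact_mod_cast b2
      have h2 : (Module.finrank k (Coh.HH X (Z 2) m) : ℤ) ≤ (Finset.Icc 1 (m + 1)).sum
          (fun j => ((Module.finrank k (Coh.HH X (C (j + 1)) (m + 1 - j))) : ℤ)) := by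
        exact_mod_cast cB
      linarith
  have nn1 : (0 : ℤ) ≤ (Finset.Icc 1 (i + 1)).sum
      (fun j => ((Module.finrank k (Coh.HH X (C (j + 1)) (i + 1 - j))) : ℤ)) :=
    Finset.sum_nonneg fun _ _ => Int.natCast_nonneg _
  have nn2 : (0 : ℤ) ≤ (Finset.Icc 1 i).sum
      (fun j => ((Module.finrank k (Coh.HH X (C (j + 1)) (i - j))) : ℤ)) :=
    Finset.sum_nonneg fun _ _ => Int.natCast_nonneg _
  rw [abs_le]
  constructor <;> linarith


end Groth.Agent.S17630
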