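import Groth.Statements.S17635
-- import your own Groth.Agent.* helpers here
import Mathlib.Analysis.Normed.MulAction

set_option autoImplicit false
open Finset
open Variety

namespace Groth.Agent.S17635

/-- the real sup-norm of a rational vector -/
noncomputable abbrev qn {r : ℕ} (v : Fin r → ℚ) : ℝ := ‖(fun j => ((v j : ℚ) : ℝ))‖

theorem qn_nonneg {r : ℕ} (v : Fin r → ℚ) : 0 ≤ qn v := norm_nonneg _

theorem qn_smul {r : ℕ} (q : ℚ) (v : Fin r → ℚ) : qn (q • v) = |(q : ℝ)| * qn v := by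
  have : (fun j => (((q • v) j : ℚ) : ℝ)) = (q : ℝ) • (fun j => ((v j : ℚ) : ℝ)) := by
    ext j; simp
  rw [qn, this, norm_smul, Real.norm_eq_abs]

theorem abs_coord_le {r : ℕ} (v : Fin r → ℚ) (j : Fin r) : |((v j : ℚ) : ℝ)| ≤ qn v := by
  have := norm_le_pi_norm (fun j => ((v j : ℚ) : ℝ)) j
  simpa [Real.norm_eq_abs] using this

theorem qn_le {r : ℕ} (v : Fin r → ℚ) {c : ℝ} (hc : 0 ≤ c) (h : ∀ j, |((v j : ℚ) : ℝ)| ≤ c) :
    qn v ≤ c := by
  rw [qn, pi_norm_le_iff_of_nonneg hc]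
  intro j
  simpa [Real.norm_eq_abs] using h j

theorem step_pos {r n : ℕ} (f : (Fin r → ℚ) → ℝ)
    (hhom : ∀ (q : ℚ) (v : Fin r → ℚ), 0 < q → f (q • v) = (q : ℝ) ^ n * f v)
    (i : Fin r) (Ci : ℝ)
    (hCi : ∀ (v : Fin r → ℚ) (b : ℕ), 1 ≤ b →
      |f (v - (b : ℚ) • Pi.single i 1) - f v| ≤
        Ci * (Finset.Icc 1 n).sum (fun q => qn v ^ (n - q) * (b : ℝ) ^ q))
    (u : Fin r → ℚ) (d : ℚ) (hd : 0 < d) :
    |f (u - d • Pi.single i 1) - f u| ≤
      Ci * (Finset.Icc 1 n).sum (fun q => qn u ^ (n - q) * (d : ℝ) ^ q) := by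
  set m : ℕ := d.den with hm
  set p : ℕ := d.num.toNat with hp
  have hm0 : 0 < m := d.den_pos
  have hmq : (0 : ℚ) < (m : ℚ) := by exact_mod_cast hm0
  have hmr : (0 : ℝ) < (m : ℝ) := by exact_mod_cast hm0
  have hnum : 0 < d.num := Rat.num_pos.mpr hd
  have hpz : (p : ℤ) = d.num := Int.toNat_of_nonneg hnum.le
  have hp1 : 1 ≤ p := by
    have : (0 : ℤ) < (p : ℤ) := by rw [hpz]; exact hnum
    exact_mod_cast this
  have hpq : (p : ℚ) = d * (m : ℚ) := by
    have h1 : ((p : ℤ) : ℚ) = (d.num : ℚ) := by rw [hpz]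
    rw [Rat.mul_den_eq_num]
    exact_mod_cast h1
  have hpr : (p : ℝ) = (d : ℝ) * (m : ℝ) := by
    have : ((p : ℚ) : ℝ) = ((d * (m : ℚ) : ℚ) : ℝ) := by rw [hpq]
    push_cast at this
    exact this
  have e1 : (m : ℚ) • (u - d • Pi.single i (1 : ℚ)) = (m : ℚ) • u - (p : ℚ) • Pi.single i (1 : ℚ) := by
    rw [smul_sub, smul_smul, hpq, mul_comm]
  have h1 := hhom (m : ℚ) (u - d • Pi.single i 1) hmq
  have h2 := hhom (m : ℚ) u hmq
  have h3 := hCi ((m : ℚ) • u) p hp1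
  rw [← e1, h1, h2, ← mul_sub, abs_mul, qn_smul] at h3
  have hmn : (0 : ℝ) < (m : ℝ) ^ n := pow_pos hmr n
  have hsum : (Finset.Icc 1 n).sum (fun q => (|((m : ℚ) : ℝ)| * qn u) ^ (n - q) * (p : ℝ) ^ q) =
      (m : ℝ) ^ n * (Finset.Icc 1 n).sum (fun q => qn u ^ (n - q) * (d : ℝ) ^ q) := by
    rw [Finset.mul_sum]
    apply Finset.sum_congr rfl
    intro q hq
    rw [Finset.mem_Icc] at hq
    have habs : |((m : ℚ) : ℝ)| = (m : ℝ) := by
      rw [abs_of_nonneg]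
      · push_cast; rfl
      · push_cast; exact hmr.le
    rw [habs, hpr, mul_pow, mul_pow]
    have : (m : ℝ) ^ n = (m : ℝ) ^ (n - q) * (m : ℝ) ^ q := by
      rw [← pow_add, Nat.sub_add_cancel hq.2]
    rw [this]
    ring
  rw [hsum] at h3
  have habs' : |((m : ℚ) : ℝ) ^ n| = (m : ℝ) ^ n := by
    push_cast
    exact abs_of_pos hmn
  rw [habs'] at h3
  have h4 : (m : ℝ) ^ n * |f (u - d • Pi.single i 1) - f u| ≤
      (m : ℝ) ^ n * (Ci * (Finset.Icc 1 n).sum (fun q => qn u ^ (n - q) * (d : ℝ) ^ q)) := by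
    calc _ ≤ _ := h3
      _ = _ := by ring
  exact le_of_mul_le_mul_left h4 hmn

theorem sum_nonneg' {n : ℕ} {a b : ℝ} (ha : 0 ≤ a) (hb : 0 ≤ b) :
    0 ≤ (Finset.Icc 1 n).sum (fun q => a ^ (n - q) * b ^ q) :=
  Finset.sum_nonneg fun _ _ => mul_nonneg (pow_nonneg ha _) (pow_nonneg hb _)

theorem sum_mono' {n : ℕ} {a a' b b' : ℝ} (ha : 0 ≤ a) (hb : 0 ≤ b) (haa : a ≤ a') (hbb : b ≤ b') :
    (Finset.Icc 1 n).sum (fun q => a ^ (n - q) * b ^ q) ≤
      (Finset.Icc 1 n).sum (fun q => a' ^ (n - q) * b' ^ q) :=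
  Finset.sum_le_sum fun _ _ => mul_le_mul (pow_le_pow_left₀ ha haa _) (pow_le_pow_left₀ hb hbb _)
    (pow_nonneg hb _) (pow_nonneg (ha.trans haa) _)

theorem step {r n : ℕ} (f : (Fin r → ℚ) → ℝ)
    (hhom : ∀ (q : ℚ) (v : Fin r → ℚ), 0 < q → f (q • v) = (q : ℝ) ^ n * f v)
    (i : Fin r) (Ci : ℝ)
    (hCi : ∀ (v : Fin r → ℚ) (b : ℕ), 1 ≤ b →
      |f (v - (b : ℚ) • Pi.single i 1) - f v| ≤
        Ci * (Finset.Icc 1 n).sum (fun q => qn v ^ (n - q) * (b : ℝ) ^ q))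
    (u : Fin r → ℚ) (d : ℚ) :
    |f (u - d • Pi.single i 1) - f u| ≤
      |Ci| * (Finset.Icc 1 n).sum (fun q =>
        (max (qn u) (qn (u - d • Pi.single i 1))) ^ (n - q) * |(d : ℝ)| ^ q) := by
  have hM0 : 0 ≤ max (qn u) (qn (u - d • Pi.single i 1)) := (qn_nonneg u).trans (le_max_left _ _)
  rcases lt_trichotomy d 0 with hd | hd | hd
  · -- negative
    have hd' : 0 < -d := neg_pos.mpr hd
    have h := step_pos f hhom i Ci hCi (u - d • Pi.single i 1) (-d) hd'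
    have e : u - d • Pi.single i (1 : ℚ) - (-d) • Pi.single i (1 : ℚ) = u := by
      rw [neg_smul, sub_neg_eq_add, sub_add_cancel]
    rw [e, abs_sub_comm] at h
    have habs : |(d : ℝ)| = ((-d : ℚ) : ℝ) := by
      push_cast
      rw [abs_of_neg]
      exact_mod_cast hd
    have hdr : (0 : ℝ) ≤ ((-d : ℚ) : ℝ) := by exact_mod_cast hd'.le
    rw [habs]
    have hS1 : 0 ≤ (Finset.Icc 1 n).sum
        (fun q => qn (u - d • Pi.single i 1) ^ (n - q) * ((-d : ℚ) : ℝ) ^ q) :=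
      sum_nonneg' (qn_nonneg _) hdr
    have hS2 : (Finset.Icc 1 n).sum
        (fun q => qn (u - d • Pi.single i 1) ^ (n - q) * ((-d : ℚ) : ℝ) ^ q) ≤
        (Finset.Icc 1 n).sum (fun q =>
          (max (qn u) (qn (u - d • Pi.single i 1))) ^ (n - q) * ((-d : ℚ) : ℝ) ^ q) :=
      sum_mono' (qn_nonneg _) hdr (le_max_right _ _) le_rfl
    have hC1 : Ci ≤ |Ci| := le_abs_self _
    have hC2 : 0 ≤ |Ci| := abs_nonneg _
    nlinarith [mul_le_mul_of_nonneg_right hC1 hS1, mul_le_mul_of_nonneg_left hS2 hC2]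
  · subst hd
    simp only [zero_smul, sub_zero, sub_self, abs_zero]
    exact mul_nonneg (abs_nonneg _)
      (sum_nonneg' ((qn_nonneg u).trans (le_max_left _ _)) (abs_nonneg _))
  · have h := step_pos f hhom i Ci hCi u d hd
    have hdr : (0 : ℝ) ≤ (d : ℝ) := by exact_mod_cast hd.le
    have habs : |(d : ℝ)| = (d : ℝ) := abs_of_nonneg hdr
    rw [habs]
    have hS1 : 0 ≤ (Finset.Icc 1 n).sum (fun q => qn u ^ (n - q) * (d : ℝ) ^ q) :=
      sum_nonneg' (qn_nonneg _) hdr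
    have hS2 : (Finset.Icc 1 n).sum (fun q => qn u ^ (n - q) * (d : ℝ) ^ q) ≤
        (Finset.Icc 1 n).sum (fun q =>
          (max (qn u) (qn (u - d • Pi.single i 1))) ^ (n - q) * (d : ℝ) ^ q) :=
      sum_mono' (qn_nonneg _) hdr (le_max_left _ _) le_rfl
    have hC1 : Ci ≤ |Ci| := le_abs_self _
    have hC2 : 0 ≤ |Ci| := abs_nonneg _
    nlinarith [mul_le_mul_of_nonneg_right hC1 hS1, mul_le_mul_of_nonneg_left hS2 hC2]

/-- hybrid vector -/
def hyb {r : ℕ} (v w : Fin r → ℚ) (S : Finset (Fin r)) : Fin r → ℚ :=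
  fun j => if j ∈ S then w j else v j

theorem qn_hyb_le {r : ℕ} (v w : Fin r → ℚ) (S : Finset (Fin r)) :
    qn (hyb v w S) ≤ max (qn v) (qn w) := by
  apply qn_le _ ((qn_nonneg v).trans (le_max_left _ _))
  intro j
  unfold hyb
  split_ifs
  · exact (abs_coord_le w j).trans (le_max_right _ _)
  · exact (abs_coord_le v j).trans (le_max_left _ _)

theorem hyb_insert {r : ℕ} (v w : Fin r → ℚ) (S : Finset (Fin r)) (k : Fin r) (hk : k ∉ S) :
    hyb v w (insert k S) = hyb v w S - (v k - w k) • Pi.single k (1 : ℚ) := by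
  ext j
  unfold hyb
  by_cases hjk : j = k
  · subst hjk
    simp [hk]
  · simp [hjk, Finset.mem_insert]

theorem chain {r n : ℕ} (f : (Fin r → ℚ) → ℝ)
    (hhom : ∀ (q : ℚ) (v : Fin r → ℚ), 0 < q → f (q • v) = (q : ℝ) ^ n * f v)
    (C : Fin r → ℝ)
    (hC : ∀ (i : Fin r) (v : Fin r → ℚ) (b : ℕ), 1 ≤ b →
      |f (v - (b : ℚ) • Pi.single i 1) - f v| ≤
        C i * (Finset.Icc 1 n).sum (fun q => qn v ^ (n - q) * (b : ℝ) ^ q))
    (v w : Fin r → ℚ) (S : Finset (Fin r)) :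
    |f v - f (hyb v w S)| ≤ (S.sum fun k => |C k|) *
      (Finset.Icc 1 n).sum (fun q => (max (qn v) (qn w)) ^ (n - q) * qn (v - w) ^ q) := by
  induction S using Finset.induction_on with
  | empty =>
    have : hyb v w ∅ = v := by ext j; simp [hyb]
    simp [this]
  | insert k S hk ih =>
    rw [Finset.sum_insert hk, add_mul]
    have hM0 : 0 ≤ max (qn v) (qn w) := (qn_nonneg v).trans (le_max_left _ _)
    have hs := step f hhom k (C k) (hC k) (hyb v w S) (v k - w k)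
    rw [← hyb_insert v w S k hk] at hs
    have hd : |((v k - w k : ℚ) : ℝ)| ≤ qn (v - w) := abs_coord_le (v - w) k
    have hs' : |f (hyb v w (insert k S)) - f (hyb v w S)| ≤ |C k| *
        (Finset.Icc 1 n).sum (fun q => (max (qn v) (qn w)) ^ (n - q) * qn (v - w) ^ q) := by
      refine hs.trans (mul_le_mul_of_nonneg_left ?_ (abs_nonneg _))
      exact sum_mono' ((qn_nonneg _).trans (le_max_left _ _)) (abs_nonneg _)
        (max_le (qn_hyb_le v w S) (qn_hyb_le v w _)) hd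
    calc |f v - f (hyb v w (insert k S))|
        = |(f v - f (hyb v w S)) - (f (hyb v w (insert k S)) - f (hyb v w S))| := by ring_nf
      _ ≤ |f v - f (hyb v w S)| + |f (hyb v w (insert k S)) - f (hyb v w S)| := abs_sub _ _
      _ ≤ _ := by linarith

/-- Let r and n be natural numbers and f : ℚ^r → ℝ a nonnegative function which is homogeneous of degree
n for positive rational scalars, f(q · v) = q^n · f(v) for q > 0; give ℚ^r the maximum norm ‖v‖ =
max_j |v_j| of its standard basis. Suppose that for every standard basis vector e_i there is a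
constant C_i with |f(v − b · e_i) − f(v)| ≤ C_i · Σ_{q=1}^{n} ‖v‖^{n−q} · b^q for all v ∈ ℚ^r and
all integers b ≥ 1. Then there is a constant C > 0 such that |f(v) − f(w)| ≤ C · Σ_{q=1}^{n}
max(‖v‖, ‖w‖)^{n−q} · ‖v − w‖^q for all v, w ∈ ℚ^r. (The source allows any norm on an r-dimensional
rational vector space with a chosen basis and argues with the maximum norm of that basis, which is
the case stated here.) -/
theorem result (r n : ℕ) (f : (Fin r → ℚ) → ℝ)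
    (hf0 : ∀ v, 0 ≤ f v)
    (hhom : ∀ (q : ℚ) (v : Fin r → ℚ), 0 < q → f (q • v) = (q : ℝ) ^ n * f v)
    (hdir : ∀ i : Fin r, ∃ Ci : ℝ, ∀ (v : Fin r → ℚ) (b : ℕ), 1 ≤ b →
      |f (v - (b : ℚ) • Pi.single i 1) - f v| ≤
        Ci * (Finset.Icc 1 n).sum (fun q => ‖(fun j => ((v j : ℚ) : ℝ))‖ ^ (n - q) * (b : ℝ) ^ q)) :
    ∃ C : ℝ, 0 < C ∧ ∀ v w : Fin r → ℚ,
      |f v - f w| ≤ C * (Finset.Icc 1 n).sum (fun q =>
        (max ‖(fun j => ((v j : ℚ) : ℝ))‖ ‖(fun j => ((w j : ℚ) : ℝ))‖) ^ (n - q) *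
          ‖(fun j => ((v j - w j : ℚ) : ℝ))‖ ^ q) := by
  choose C hC using hdir
  refine ⟨(Finset.univ.sum fun k => |C k|) + 1, ?_, ?_⟩
  · have : 0 ≤ Finset.univ.sum fun k => |C k| := Finset.sum_nonneg fun k _ => abs_nonneg _
    linarith
  · intro v w
    have h := chain f hhom C hC v w Finset.univ
    have hw : hyb v w Finset.univ = w := by ext j; simp [hyb]
    rw [hw] at h
    have hT : 0 ≤ (Finset.Icc 1 n).sum (fun q => (max (qn v) (qn w)) ^ (n - q) * qn (v - w) ^ q) :=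
      sum_nonneg' ((qn_nonneg v).trans (le_max_left _ _)) (qn_nonneg _)
    have h' : |f v - f w| ≤ ((Finset.univ.sum fun k => |C k|) + 1) *
        (Finset.Icc 1 n).sum (fun q => (max (qn v) (qn w)) ^ (n - q) * qn (v - w) ^ q) := by
      refine h.trans (mul_le_mul_of_nonneg_right ?_ hT)
      linarith
    exact h'

end Groth.Agent.S17635
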