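import Groth.Statements.S17642
import Mathlib
import Groth.Agent.Lib.Helper27ProjOverBC

set_option autoImplicit false
universe u
open CategoryTheory AlgebraicGeometry
open DerSch

namespace Groth.Agent.S17642

/-- Consider Noetherian schemes X and Y together with a morphism f : X ⟶ Y that is locally of finite
type. Given affine open subsets U ⊆ X and V ⊆ Y such that f(U) ⊆ V, the restriction of f to U can be
written as a composite U ⟶ W ⟶ P ⟶ Y in which the first map U ⟶ W is an open immersion, the middle
map W ⟶ P is a closed immersion, and the last map P ⟶ Y is both smooth and proper. In the published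
section every morphism is taken to be separated as a standing convention; since the printed proof
never uses this, no separatedness hypothesis appears here. -/
theorem result {X Y : Scheme.{u}}
    [IsNoetherian X] [IsNoetherian Y] (f : X ⟶ Y) [LocallyOfFiniteType f]
    (U : X.Opens) (hU : IsAffineOpen U) (V : Y.Opens) (hV : IsAffineOpen V) (hUV : U ≤ f ⁻¹ᵁ V) :
    ∃ (W P : Scheme.{u}) (g : (U : Scheme.{u}) ⟶ W) (h : W ⟶ P) (k : P ⟶ Y),
      IsOpenImmersion g ∧ IsClosedImmersion h ∧ Smooth k ∧ IsProper k ∧ g ≫ h ≫ k = U.ι ≫ f := by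
  obtain ⟨n, j, hj, hcomp⟩ :=
    Groth.Agent.Lib.Helper27ProjOverBC.exists_factor_scheme f U hU V hV hUV
  haveI : TopologicalSpace.NoetherianSpace (U : Scheme.{u}) :=
    TopologicalSpace.NoetherianSpace.set (U : Set X)
  haveI : QuasiCompact j := ⟨fun W _ _ => TopologicalSpace.NoetherianSpace.isCompact _⟩
  refine ⟨j.image, CohB1.ProjSpaceOver n Y, j.toImage, j.imageι, CohB1.ProjSpaceOver.toBase n Y,
    inferInstance, inferInstance, Groth.Agent.Lib.Helper27ChartPoly.smooth_toBase n Y,
    Groth.Agent.Lib.Helper27ProjSpaceFibres.isProper_toBase n Y, ?_⟩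
  rw [← Category.assoc, Scheme.Hom.toImage_imageι, hcomp]

end Groth.Agent.S17642
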