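import Groth.Statements.S17646
import Mathlib
import Groth.Agent.Lib.Helper24Uniform

set_option autoImplicit false
universe w v u
open CategoryTheory CategoryTheory.Limits
open GabLoc

namespace Groth.Agent.S17646

/-- Let C be a Grothendieck abelian category, E an indecomposable injective object of C (E is nonzero
and whenever E ≅ A ⊞ B one of A, B is zero) and S₁, S₂ localizing classes of objects (Serre classes
closed under coproducts). If there are an object of S₁ with a nonzero morphism to E and an object of
S₂ with a nonzero morphism to E, then there is an object belonging to both S₁ and S₂ with a nonzero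
morphism to E. Thus, on the set of isomorphism classes of indecomposable injectives, the subsets of
those having S-torsion, S localizing, are closed under finite intersections (they are also closed
under unions, and form a topology). The published definition of the injective spectrum says
injective objects without the word indecomposable; the published proof of this step uses that each
point of the spectrum is uniform, which is the indecomposable reading taken here. -/
theorem result {C : Type u} [Category.{v} C] [Abelian C]
    [IsGrothendieckAbelian.{w} C] (E : C) [Injective E] (hE : ¬ IsZero E)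
    (hind : ∀ (A B : C), Nonempty (E ≅ A ⊞ B) → IsZero A ∨ IsZero B)
    (S₁ S₂ : ObjectProperty C) (h₁ : GabLoc.IsLocalizing.{w} S₁) (h₂ : GabLoc.IsLocalizing.{w} S₂)
    (ht₁ : GabLoc.HasTorsion S₁ E) (ht₂ : GabLoc.HasTorsion S₂ E) :
    GabLoc.HasTorsion (S₁ ⊓ S₂) E := by
  open Groth.Agent.Lib.Helper24Uniform in
  obtain ⟨Y₁, hY₁, f₁, hf₁⟩ := ht₁
  obtain ⟨Y₂, hY₂, f₂, hf₂⟩ := ht₂
  haveI := h₁.isSerreClass
  haveI := h₂.isSerreClass
  have hM : ∀ {Y : C} (f : Y ⟶ E), f ≠ 0 → Subobject.mk (image.ι f) ≠ ⊥ := by
    intro Y f hf h
    apply hf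
    rw [← image.fac f, (Subobject.mk_eq_bot_iff_zero).1 h, comp_zero]
  have h3 := Groth.Agent.Lib.Helper24Uniform.uniform.{w} hind _ _ (hM f₁ hf₁) (hM f₂ hf₂)
  have hS : ∀ (S : ObjectProperty C) [S.IsSerreClass] {Y : C} (f : Y ⟶ E), S Y →
      S ((Subobject.mk (image.ι f) : Subobject E) : C) := by
    intro S _ Y f hY
    have h4 : S (image f) := S.prop_of_epi (factorThruImage f) hY
    exact S.prop_of_iso (Subobject.underlyingIso (image.ι f)).symm h4
  refine ⟨((Subobject.mk (image.ι f₁) ⊓ Subobject.mk (image.ι f₂) : Subobject E) : C), ⟨?_, ?_⟩,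
    (Subobject.mk (image.ι f₁) ⊓ Subobject.mk (image.ι f₂)).arrow, ?_⟩
  · exact S₁.prop_of_mono (Subobject.ofLE _ _ inf_le_left) (hS S₁ f₁ hY₁)
  · exact S₂.prop_of_mono (Subobject.ofLE _ _ inf_le_right) (hS S₂ f₂ hY₂)
  · intro h0
    apply h3
    rw [← Subobject.mk_arrow (Subobject.mk (image.ι f₁) ⊓ Subobject.mk (image.ι f₂))]
    exact (Subobject.mk_eq_bot_iff_zero).2 h0

end Groth.Agent.S17646
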