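import Groth.Statements.S17653
import Groth.Agent.Lib.Helper4IsolFib

set_option autoImplicit false
universe u
open CategoryTheory CategoryTheory.Limits AlgebraicGeometry TopologicalSpace
open Variety

namespace Groth.Agent.S17653

/-- Suppose X and Y are locally Noetherian schemes of the same pure dimension d (every irreducible
component of X and every irreducible component of Y has topological Krull dimension d), and π : X →
Y is a proper morphism between them. If there is a point x of X which is isolated in its fibre
π⁻¹(π(x)), i.e. some open neighbourhood of x meets that fibre only in x, then the image of π, with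
the subspace topology, has the same dimension as Y. -/
theorem result
    (X Y : Scheme.{u}) [IsLocallyNoetherian X] [IsLocallyNoetherian Y] (π : X ⟶ Y) [IsProper π]
    (d : WithBot ℕ∞) (hX : ∀ Z ∈ irreducibleComponents ↥X, topologicalKrullDim ↥Z = d)
    (hY : ∀ Z ∈ irreducibleComponents ↥Y, topologicalKrullDim ↥Z = d)
    (x : ↥X) (hx : ∃ U : X.Opens, x ∈ U ∧ ∀ x' ∈ U, π x' = π x → x' = x) :
    topologicalKrullDim ↥(Set.range (fun z : ↥X => π z)) = topologicalKrullDim ↥Y := by
  apply le_antisymm (topologicalKrullDim_subspace_le Y _)
  have hYd : topologicalKrullDim Y ≤ d :=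
    Groth.Agent.Lib.Helper4.IsolFib.topologicalKrullDim_le_of_forall_irreducibleComponents d
      (fun C hC => (hY C hC).le)
  refine hYd.trans ?_
  have hZ := irreducibleComponent_mem_irreducibleComponents x
  have hZcl := isClosed_of_mem_irreducibleComponents _ hZ
  rw [← hX _ hZ]
  have h1 := Groth.Agent.Lib.Helper4.IsolFib.topologicalKrullDim_le_closure_image_of_isolated π
    (irreducibleComponent x) hZ.1 hZcl x mem_irreducibleComponent hx
  refine h1.trans ?_
  have hclosed : IsClosed (π.base '' irreducibleComponent x) := π.isClosedMap _ hZcl
  rw [hclosed.closure_eq]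
  have hsub : π.base '' irreducibleComponent x ⊆ Set.range (fun z : X => π z) :=
    Set.image_subset_range _ _
  exact (Topology.IsEmbedding.inclusion hsub).isInducing.topologicalKrullDim_le

end Groth.Agent.S17653
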