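import Groth.Statements.S17658
import Mathlib

set_option autoImplicit false
universe u
open Surf

namespace Groth.Agent.S17658

open MvPolynomial

variable {k : Type u} [Field k] {σ : Type*}

/-- the span of monomials with exponents satisfying `P` -/
theorem span_eq_restrictSupport (P : (σ →₀ ℕ) → Prop) :
    Submodule.span k {f : MvPolynomial σ k | ∃ e : σ →₀ ℕ, P e ∧ f = monomial e 1} =
      restrictSupport k {e | P e} := by
  rw [restrictSupport_eq_span]
  congr 1
  ext f
  constructor
  · rintro ⟨e, he, rfl⟩
    exact ⟨e, he, rfl⟩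
  · rintro ⟨e, he, rfl⟩
    exact ⟨e, he, rfl⟩

/-- leading monomial argument -/
theorem eq_restrictSupport_of_degrees (mo : MonomialOrder σ) (E : Set (σ →₀ ℕ))
    (V : Submodule k (MvPolynomial σ k)) (hV : V ≤ restrictSupport k E)
    (h : ∀ e ∈ E, ∃ g ∈ V, g ≠ 0 ∧ mo.degree g = e) : V = restrictSupport k E := by
  classical
  apply le_antisymm hV
  have key : ∀ (s : mo.syn) (f : MvPolynomial σ k), f ∈ restrictSupport k E →
      mo.toSyn (mo.degree f) = s → f ∈ V := by
    intro s
    induction s using WellFoundedLT.induction with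
    | ind s ih =>
      intro f hf hs
      by_cases hf0 : f = 0
      · rw [hf0]; exact V.zero_mem
      have he : mo.degree f ∈ E := hf (Finset.mem_coe.mpr (mo.degree_mem_support hf0))
      obtain ⟨g, hgV, hg0, hge⟩ := h _ he
      set c : k := mo.leadingCoeff f / mo.leadingCoeff g with hc
      have hlg : mo.leadingCoeff g ≠ 0 := mo.leadingCoeff_ne_zero_iff.mpr hg0
      set f' := f - c • g with hf'
      have hf'mem : f' ∈ restrictSupport k E :=
        Submodule.sub_mem _ hf (Submodule.smul_mem _ _ (hV hgV))
      have hcoeff : f'.coeff (mo.degree f) = 0 := by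
        rw [hf', coeff_sub, coeff_smul, smul_eq_mul]
        have : g.coeff (mo.degree f) = mo.leadingCoeff g := by
          rw [← hge]; rfl
        rw [this, hc, div_mul_cancel₀ _ hlg]
        exact sub_self _
      have hf'V : f' ∈ V := by
        by_cases hf'0 : f' = 0
        · rw [hf'0]; exact V.zero_mem
        have hle : mo.toSyn (mo.degree f') ≤ mo.toSyn (mo.degree f) := by
          have h1 := mo.degree_sub_le (f := f) (g := c • g)
          have h2 : mo.toSyn (mo.degree (c • g)) ≤ mo.toSyn (mo.degree f) := by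
            have := mo.degree_smul_le (r := c) (f := g)
            rw [hge] at this
            exact this
          exact h1.trans (max_le le_rfl h2)
        have hne : mo.degree f' ≠ mo.degree f := by
          intro heq
          have := (mo.degree_mem_support hf'0)
          rw [heq, mem_support_iff] at this
          exact this hcoeff
        have hlt : mo.toSyn (mo.degree f') < s := by
          rw [← hs]
          exact lt_of_le_of_ne hle (fun h => hne (mo.toSyn.injective h))
        exact ih _ hlt f' hf'mem rfl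
      have : f = f' + c • g := by rw [hf']; ring
      rw [this]
      exact V.add_mem hf'V (V.smul_mem _ hgV)
  intro f hf
  exact key _ f hf rfl

/-- In the polynomial ring k[T₀,T₁,U,V] over a field k, bigraded by deg T₀ = deg T₁ = (0,1), deg U =
(1,−1), deg V = (1,0) (the Cox ring of the Hirzebruch surface F₁; its piece of bidegree (a,b) is the
space of sections of O(a(E+F)+bF)), let S_(a,b) denote the k-span of the monomials of bidegree
(a,b), so that S_(0,c) is the space of forms of degree c in T₀, T₁. A subspace W ⊆ S_(a,b) is called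
c-generating when W·S_(0,c) = S_(a,b+c). Fix a monomial order and natural numbers a, b, c, and let
W₀(a,b,c) be the set of monomials U^i V^(a−i) T₀^(b+i−j(c+1)) T₁^(j(c+1)) with 0 ≤ i ≤ a, j ≥ 0 and
j(c+1) < b+i, together with the monomials U^i V^(a−i) T₁^(b+i) with 0 ≤ i ≤ a. If every monomial of
W₀(a,b,c) is the leading monomial of some nonzero element of W, then W is c-generating. (The source
fixes the graded lexicographic order with U > V > T₀ > T₁ and works over the complex numbers; its
argument uses only that leading monomials are multiplicative and that W₀(a,b,c)·S_(0,c) contains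
every monomial of S_(a,b+c), so any monomial order and any field are allowed here. The printed index
j runs from 1; with that range the statement fails already for a = 0, b = c = 1 and W spanned by T₁,
and the range from 0 used here is the one matching the accompanying dimension count.) Variables are
indexed T₀ = 0, T₁ = 1, U = 2, V = 3. -/
theorem result (k : Type u) [Field k]
    (mo : MonomialOrder (Fin 4)) (a b c : ℕ) (W : Submodule k (MvPolynomial (Fin 4) k))
    (hW : W ≤ Submodule.span k {f : MvPolynomial (Fin 4) k | ∃ e : Fin 4 →₀ ℕ, e 2 + e 3 = a ∧ e 0 + e 1 = b + e 2 ∧ f = MvPolynomial.monomial e 1})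
    (h₁ : ∀ i j : ℕ, i ≤ a → j * (c + 1) < b + i → ∃ w ∈ W, w ≠ 0 ∧
      mo.degree w = Finsupp.single 0 (b + i - j * (c + 1)) + Finsupp.single 1 (j * (c + 1)) +
        Finsupp.single 2 i + Finsupp.single 3 (a - i))
    (h₂ : ∀ i : ℕ, i ≤ a → ∃ w ∈ W, w ≠ 0 ∧
      mo.degree w = Finsupp.single 1 (b + i) + Finsupp.single 2 i + Finsupp.single 3 (a - i)) :
    W * Submodule.span k {f : MvPolynomial (Fin 4) k | ∃ e : Fin 4 →₀ ℕ, e 2 + e 3 = 0 ∧ e 0 + e 1 = c + e 2 ∧ f = MvPolynomial.monomial e 1} =
      Submodule.span k {f : MvPolynomial (Fin 4) k | ∃ e : Fin 4 →₀ ℕ, e 2 + e 3 = a ∧ e 0 + e 1 = (b + c) + e 2 ∧ f = MvPolynomial.monomial e 1} := by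
  classical
  have e1 := span_eq_restrictSupport (k := k) (fun e : Fin 4 →₀ ℕ => e 2 + e 3 = a ∧ e 0 + e 1 = b + e 2)
  have e2 := span_eq_restrictSupport (k := k) (fun e : Fin 4 →₀ ℕ => e 2 + e 3 = 0 ∧ e 0 + e 1 = c + e 2)
  have e3 := span_eq_restrictSupport (k := k) (fun e : Fin 4 →₀ ℕ => e 2 + e 3 = a ∧ e 0 + e 1 = (b + c) + e 2)
  simp only [and_assoc] at e1 e2 e3
  rw [e1] at hW
  rw [e2, e3]
  have hle : W * restrictSupport k {e : Fin 4 →₀ ℕ | e 2 + e 3 = 0 ∧ e 0 + e 1 = c + e 2} ≤
      restrictSupport k {e : Fin 4 →₀ ℕ | e 2 + e 3 = a ∧ e 0 + e 1 = (b + c) + e 2} := by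
    rw [Submodule.mul_le]
    intro w hw t ht
    have hw' := hW hw
    rw [mem_restrictSupport_iff] at hw' ht ⊢
    intro d hd
    have hd' := MvPolynomial.support_mul w t (Finset.mem_coe.mp hd)
    rw [Finset.mem_add] at hd'
    obtain ⟨d1, hd1, d2, hd2, rfl⟩ := hd'
    have h1 := hw' (Finset.mem_coe.mpr hd1)
    have h2 := ht (Finset.mem_coe.mpr hd2)
    simp only [Set.mem_setOf_eq, Finsupp.add_apply] at h1 h2 ⊢
    omega
  apply eq_restrictSupport_of_degrees mo _ _ hle
  intro e he
  obtain ⟨he1, he2⟩ := he
  have hdm := Nat.div_add_mod (e 1) (c + 1)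
  have hmod : e 1 % (c + 1) < c + 1 := Nat.mod_lt (e 1) (by omega)
  rw [mul_comm] at hdm
  have hia : e 2 ≤ a := by omega
  have hmon : ∀ t : Fin 4 →₀ ℕ, (monomial t (1 : k)) ≠ 0 := fun t => by
    rw [Ne, monomial_eq_zero]; exact one_ne_zero
  by_cases hcase : (e 1 / (c + 1)) * (c + 1) < b + e 2
  · obtain ⟨w, hwW, hw0, hwdeg⟩ := h₁ (e 2) (e 1 / (c + 1)) hia hcase
    refine ⟨w * monomial (Finsupp.single 0 (c - e 1 % (c + 1)) + Finsupp.single 1 (e 1 % (c + 1))) 1,
      Submodule.mul_mem_mul hwW ?_, mul_ne_zero hw0 (hmon _), ?_⟩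
    · rw [monomial_mem_restrictSupport]
      left
      simp only [Set.mem_setOf_eq, Finsupp.add_apply, Finsupp.single_apply]
      simp
      omega
    · rw [mo.degree_mul hw0 (hmon _), mo.degree_monomial, if_neg one_ne_zero, hwdeg]
      generalize (e 1 / (c + 1)) * (c + 1) = q at *
      ext idx
      fin_cases idx <;> simp <;> omega
  · obtain ⟨w, hwW, hw0, hwdeg⟩ := h₂ (e 2) hia
    refine ⟨w * monomial (Finsupp.single 0 (e 0) + Finsupp.single 1 (e 1 - (b + e 2))) 1,
      Submodule.mul_mem_mul hwW ?_, mul_ne_zero hw0 (hmon _), ?_⟩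
    · rw [monomial_mem_restrictSupport]
      left
      simp only [Set.mem_setOf_eq, Finsupp.add_apply, Finsupp.single_apply]
      simp
      generalize (e 1 / (c + 1)) * (c + 1) = q at *
      omega
    · rw [mo.degree_mul hw0 (hmon _), mo.degree_monomial, if_neg one_ne_zero, hwdeg]
      generalize (e 1 / (c + 1)) * (c + 1) = q at *
      ext idx
      fin_cases idx <;> simp <;> omega

end Groth.Agent.S17658
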