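import Groth.Statements.S17662
import Mathlib

set_option autoImplicit false
universe u
open CIDisc

namespace Groth.Agent.S17662

open Matrix Equiv

variable {R : Type u} [CommRing R]

/-- abbreviation for the type of `e`-element subsets -/
abbrev Sub (r e : ℕ) := {s : Finset (Fin r) // s.card = e}

/-- the order embedding attached to a subset -/
noncomputable abbrev emb {r e : ℕ} (L : Sub r e) : Fin e ↪o Fin r := L.1.orderEmbOfFin L.2

/-- reindexing injective functions by (subset, permutation) -/
theorem sum_fun_eq_sum_sub_perm {e r : ℕ} (F : (Fin e → Fin r) → R)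
    (hF : ∀ τ, ¬ Function.Injective τ → F τ = 0) :
    ∑ τ : Fin e → Fin r, F τ =
      ∑ L : Sub r e, ∑ σ : Perm (Fin e), F (fun i => emb L (σ i)) := by
  classical
  rw [Finset.sum_sigma' (Finset.univ : Finset (Sub r e))
    (fun _ => (Finset.univ : Finset (Perm (Fin e))))
    (fun L σ => F (fun i => emb L (σ i)))]
  symm
  apply Finset.sum_of_injOn (fun x : (Σ _ : Sub r e, Perm (Fin e)) => fun i => emb x.1 (x.2 i))
  · rintro ⟨L, σ⟩ _ ⟨L', σ'⟩ _ h
    simp only at h
    have hL : L = L' := by
      apply Subtype.ext
      apply Finset.coe_injective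
      rw [← Finset.range_orderEmbOfFin L.1 L.2, ← Finset.range_orderEmbOfFin L'.1 L'.2]
      ext y
      constructor
      · rintro ⟨i, rfl⟩
        exact ⟨σ' (σ.symm i), by have := congrFun h (σ.symm i); simpa using this.symm⟩
      · rintro ⟨i, rfl⟩
        exact ⟨σ (σ'.symm i), by have := congrFun h (σ'.symm i); simpa using this⟩
    subst hL
    have : σ = σ' := by
      ext i
      have := congrFun h i
      exact congrArg Fin.val ((emb L).injective this)
    subst this
    rfl
  · intro _ _; exact Finset.mem_univ _
  · intro τ _ hτ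
    apply hF
    intro hinj
    apply hτ
    -- construct preimage
    let L : Sub r e := ⟨Finset.univ.image τ, by
      rw [Finset.card_image_of_injective _ hinj, Finset.card_univ, Fintype.card_fin]⟩
    have hmem : ∀ i, ∃ j, emb L j = τ i := by
      intro i
      have : τ i ∈ (L.1 : Set (Fin r)) := by
        simp [L]
      rw [← Finset.range_orderEmbOfFin L.1 L.2] at this
      exact this
    choose σ₀ hσ₀ using hmem
    have hσinj : Function.Injective σ₀ := by
      intro i j hij
      apply hinj
      rw [← hσ₀ i, ← hσ₀ j, hij]
    let σ : Perm (Fin e) := Equiv.ofBijective σ₀ (Finite.injective_iff_bijective.mp hσinj)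
    refine ⟨⟨L, σ⟩, Finset.mem_coe.mpr (Finset.mem_sigma.mpr ⟨Finset.mem_univ _, Finset.mem_univ _⟩), ?_⟩
    funext i
    exact hσ₀ i
  · intro _ _; rfl


/-- multilinear expansion of `det (A * B)` along the columns of `A` -/
theorem det_mul_eq_sum_fun {e r : ℕ} (A : Matrix (Fin e) (Fin r) R) (B : Matrix (Fin r) (Fin e) R) :
    (A * B).det = ∑ τ : Fin e → Fin r, (∏ j, B (τ j) j) * (A.submatrix id τ).det := by
  rw [← Matrix.det_transpose]
  have h1 : (A * B)ᵀ =
      Matrix.of (fun t : Fin e => ∑ j : Fin r, B j t • (fun s : Fin e => A s j)) := by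
    ext t s
    simp only [Matrix.transpose_apply, Matrix.mul_apply,
      Matrix.of_apply, Finset.sum_apply, Pi.smul_apply, smul_eq_mul]
    exact Finset.sum_congr rfl (fun j _ => mul_comm _ _)
  rw [h1]
  have h2 := (Matrix.detRowAlternating (R := R) (n := Fin e)).toMultilinearMap.map_sum
    (fun (t : Fin e) (j : Fin r) => B j t • (fun s : Fin e => A s j))
  change Matrix.detRowAlternating (R := R) (n := Fin e)
    (fun t : Fin e => ∑ j : Fin r, B j t • (fun s : Fin e => A s j)) = _
  erw [h2]
  refine Finset.sum_congr rfl (fun τ _ => ?_)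
  have h3 := (Matrix.detRowAlternating (R := R) (n := Fin e)).toMultilinearMap.map_smul_univ
    (fun t : Fin e => B (τ t) t) (fun (t : Fin e) => (fun s : Fin e => A s (τ t)))
  erw [h3]
  rw [smul_eq_mul]
  congr 1
  change Matrix.det (Matrix.of (fun (t : Fin e) (s : Fin e) => A s (τ t))) = _
  rw [← Matrix.det_transpose]
  rfl

/-- the Cauchy–Binet formula -/
theorem cauchy_binet {e r : ℕ} (A : Matrix (Fin e) (Fin r) R) (B : Matrix (Fin r) (Fin e) R) :
    (A * B).det = ∑ L : Sub r e, (A.submatrix id (emb L)).det * (B.submatrix (emb L) id).det := by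
  classical
  rw [det_mul_eq_sum_fun, sum_fun_eq_sum_sub_perm]
  · refine Finset.sum_congr rfl (fun L _ => ?_)
    rw [Matrix.det_apply' (B.submatrix (emb L) id), Finset.mul_sum]
    refine Finset.sum_congr rfl (fun σ _ => ?_)
    have h1 : (A.submatrix id (fun i => emb L (σ i))) = (A.submatrix id (emb L)).submatrix id σ := by
      ext i j; rfl
    rw [h1, Matrix.det_permute']
    simp only [Matrix.submatrix_apply, id_eq]
    ring
  · intro τ hτ
    rw [Function.Injective] at hτ
    push_neg at hτ
    obtain ⟨i, j, hij, hne⟩ := hτ
    rw [Matrix.det_zero_of_column_eq hne (fun k => by simp [hij]), mul_zero]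

/-- Let R be a commutative ring, M an r × n matrix over R and e ≥ 0; for each e-element set L of row
indices let A_L be an e × r matrix over R, and form the square matrix, indexed by the e-element sets
of row indices, whose (L, L') entry is the e × e minor of A_L on the columns L'. If the determinant
of that square matrix is a unit, then the sum over L of the ideals generated by the e × e minors of
the products A_L · M is the ideal generated by all e × e minors of M. (In the source R is the
coordinate ring of an affine scheme X of codimension e cut out by f_1, …, f_r in affine n-space, M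
is the image of the Jacobian matrix of the f_j, the A_L have entries in the ground field and cut out
complete intersections Z_L = V(A_L · f), so that the two sides are Σ_L Jac(Z_L) and Jac(X); the
source states the equality for general A_L and establishes it under the present invertibility
condition, which it shows to be generic.) -/
theorem result {R : Type u} [CommRing R] (e r n : ℕ)
    (M : Matrix (Fin r) (Fin n) R)
    (A : {s : Finset (Fin r) // s.card = e} → Matrix (Fin e) (Fin r) R)
    (hA : IsUnit (Matrix.det (Matrix.of fun i j : {s : Finset (Fin r) // s.card = e} =>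
      ((A i).submatrix id (j.1.orderEmbOfFin j.2)).det))) :
    (⨆ i, Ideal.span (Set.range fun t : {s : Finset (Fin n) // s.card = e} =>
        ((A i * M).submatrix id (t.1.orderEmbOfFin t.2)).det)) =
      Ideal.span (Set.range fun p : {s : Finset (Fin r) // s.card = e} × {s : Finset (Fin n) // s.card = e} =>
        (M.submatrix (p.1.1.orderEmbOfFin p.1.2) (p.2.1.orderEmbOfFin p.2.2)).det) := by
  classical
  set D : Matrix (Sub r e) (Sub r e) R := Matrix.of fun i j : Sub r e =>
      ((A i).submatrix id (j.1.orderEmbOfFin j.2)).det with hD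
  have hCB : ∀ (L : Sub r e) (T : Sub n e),
      ((A L * M).submatrix id (T.1.orderEmbOfFin T.2)).det =
        ∑ L' : Sub r e, D L L' * (M.submatrix (L'.1.orderEmbOfFin L'.2) (T.1.orderEmbOfFin T.2)).det := by
    intro L T
    have h1 : (A L * M).submatrix id (T.1.orderEmbOfFin T.2) =
        A L * M.submatrix id (T.1.orderEmbOfFin T.2) := by
      ext i j
      simp [Matrix.mul_apply]
    rw [h1, cauchy_binet]
    rfl
  apply le_antisymm
  · apply iSup_le
    intro L
    rw [Ideal.span_le]
    rintro _ ⟨T, rfl⟩
    simp only
    rw [hCB]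
    exact Ideal.sum_mem _ fun L' _ => Ideal.mul_mem_left _ _ (Ideal.subset_span ⟨(L', T), rfl⟩)
  · rw [Ideal.span_le]
    rintro _ ⟨⟨L', T⟩, rfl⟩
    simp only
    have hinv : D⁻¹ * D = 1 := Matrix.nonsing_inv_mul D hA
    have key : (M.submatrix (L'.1.orderEmbOfFin L'.2) (T.1.orderEmbOfFin T.2)).det =
        ∑ L : Sub r e, D⁻¹ L' L * ((A L * M).submatrix id (T.1.orderEmbOfFin T.2)).det := by
      have h2 : ∀ L, ((A L * M).submatrix id (T.1.orderEmbOfFin T.2)).det =
          (D *ᵥ fun L'' : Sub r e =>
            (M.submatrix (L''.1.orderEmbOfFin L''.2) (T.1.orderEmbOfFin T.2)).det) L := by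
        intro L
        rw [hCB]
        rfl
      simp_rw [h2]
      change _ = (D⁻¹ *ᵥ (D *ᵥ _)) L'
      rw [Matrix.mulVec_mulVec, hinv, Matrix.one_mulVec]
    rw [key]
    refine Ideal.sum_mem _ fun L _ => Ideal.mul_mem_left _ _ ?_
    exact (le_iSup (fun i => Ideal.span (Set.range fun t : {s : Finset (Fin n) // s.card = e} =>
        ((A i * M).submatrix id (t.1.orderEmbOfFin t.2)).det)) L) (Ideal.subset_span ⟨T, rfl⟩)

end Groth.Agent.S17662
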