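import Groth.Statements.S17677
import Groth.Agent.Lib.Helper25HochInt

set_option autoImplicit false
universe u
open Hoch

namespace Groth.Agent.S17677


open Groth.Agent.Lib.Helper25 in
/-- The coefficient at `0 ∈ M`. -/
noncomputable def coeff0 (k : Type u) [CommRing k] (M : Type u) [AddCommMonoid M] :
    AddMonoidAlgebra k M →ₗ[k] k :=
  Finsupp.lapply 0 ∘ₗ (AddMonoidAlgebra.coeffLinearEquiv k).toLinearMap

theorem coeff0_single (k : Type u) [CommRing k] (M : Type u) [AddCommMonoid M]
    (m : M) (r : k) [Decidable (m = 0)] :
    coeff0 k M (AddMonoidAlgebra.single m r) = if m = 0 then r else 0 := by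
  simp [coeff0, Finsupp.single_apply]

theorem coeff0_one (k : Type u) [CommRing k] (M : Type u) [AddCommMonoid M] :
    coeff0 k M 1 = 1 := by
  classical
  rw [AddMonoidAlgebra.one_def, coeff0_single, if_pos rfl]

open Groth.Agent.Lib.Helper25 in
theorem coeff0_integral (k : Type u) [CommRing k] (M : Type u) [AddCommMonoid M]
    (a : AddMonoidAlgebra k M) :
    slice (AddMonoidAlgebra k M) (coeff0 k M) (CoalgebraStruct.comul (R := k) a) =
      coeff0 k M a • (1 : AddMonoidAlgebra k M) := by
  classical
  suffices h : slice (AddMonoidAlgebra k M) (coeff0 k M) ∘ₗ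
      CoalgebraStruct.comul (R := k) (A := AddMonoidAlgebra k M) =
      (LinearMap.toSpanSingleton k (AddMonoidAlgebra k M) 1) ∘ₗ coeff0 k M from
    LinearMap.congr_fun h a
  apply AddMonoidAlgebra.lhom_ext'
  intro m
  ext
  simp only [LinearMap.coe_comp, Function.comp_apply, AddMonoidAlgebra.lsingle_apply,
    LinearMap.toSpanSingleton_apply]
  erw [AddMonoidAlgebra.comul_single]
  simp only [CommSemiring.comul_apply, TensorProduct.map_tmul, AddMonoidAlgebra.lsingle_apply,
    slice_tmul, coeff0_single]
  by_cases hm : m = 0
  · subst hm
    simp [AddMonoidAlgebra.one_def]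
  · simp [hm]



/-- Let k be a commutative ring, M a commutative monoid and V a right comodule over the monoid bialgebra
k[M] (a quasi-coherent module with an action of the diagonalizable monoid scheme Spec k[M]). Then
every 1-cocycle of the Hochschild complex of V is a 1-coboundary, i.e. the first Hochschild
cohomology module of the diagonalizable monoid with coefficients in V is zero. (The source works
over an algebraic space with M finitely generated and cancellative, hypotheses it uses only to
identify modules under the monoid with comodules; the cocycle computation, which is the affine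
statement given here, uses neither.) -/
theorem result (k : Type u) [CommRing k] (M : Type u)
    [AddCommMonoid M] (V : Type u) [AddCommGroup V] [Module k V]
    [HopfRep.Comod k (AddMonoidAlgebra k M) V] :
    Hoch.cocycles k (AddMonoidAlgebra k M) V 1 ≤ Hoch.coboundaries k (AddMonoidAlgebra k M) V 1 := by
  exact Groth.Agent.Lib.Helper25.cocycles_one_le_coboundaries_of_integral (coeff0 k M)
    (coeff0_one k M) (coeff0_integral k M)

end Groth.Agent.S17677
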