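import Groth.Statements.S17679
-- import your own Groth.Agent.* helpers here
import Mathlib.LinearAlgebra.Dimension.OrzechProperty
import Mathlib.LinearAlgebra.Finsupp.LinearCombination
import Mathlib.LinearAlgebra.Dimension.Constructions
import Mathlib.RingTheory.FiniteType

set_option autoImplicit false
open DiagMon

namespace Groth.Agent.S17679

/-- the generating set: standard basis vectors and the constant vector `-1`. -/
def gens (n : ℕ) : Finset (Fin n → ℤ) :=
  insert (fun _ => (-1 : ℤ)) (Finset.univ.image (fun i : Fin n => Pi.single i (1 : ℤ)))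

theorem card_gens (n : ℕ) : (gens n).card = n + 1 := by
  unfold gens
  rw [Finset.card_insert_of_notMem, Finset.card_image_of_injective]
  · simp
  · intro i j hij
    by_contra hne
    have := congrFun hij i
    simp [hne] at this
  · intro h
    rw [Finset.mem_image] at h
    obtain ⟨i, -, hi⟩ := h
    have := congrFun hi i
    simp at this

theorem closure_gens (n : ℕ) : AddSubmonoid.closure (gens n : Set (Fin n → ℤ)) = ⊤ := by
  rw [eq_top_iff]
  intro v _
  set m : ℕ := ∑ j, (v j).natAbs with hm
  have hmj : ∀ j, 0 ≤ v j + m := by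
    intro j
    have h1 : (v j).natAbs ≤ m := Finset.single_le_sum (f := fun j => (v j).natAbs)
      (fun _ _ => Nat.zero_le _) (Finset.mem_univ j)
    have h2 : -((v j).natAbs : ℤ) ≤ v j := by omega
    have h3 : ((v j).natAbs : ℤ) ≤ (m : ℤ) := by exact_mod_cast h1
    linarith
  have hv : v = (∑ j, (v j + m).toNat • (Pi.single j (1 : ℤ) : Fin n → ℤ)) +
      m • (fun _ => (-1 : ℤ)) := by
    ext i
    have h1 : (∑ j, (v j + m).toNat • (Pi.single j (1 : ℤ) : Fin n → ℤ)) i = v i + m := by
      rw [Finset.sum_apply, Finset.sum_eq_single i]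
      · rw [Pi.smul_apply, Pi.single_eq_same, nsmul_eq_mul, mul_one, Int.toNat_of_nonneg (hmj i)]
      · intro j _ hj
        rw [Pi.smul_apply, Pi.single_eq_of_ne hj.symm, smul_zero]
      · intro h; exact absurd (Finset.mem_univ i) h
    rw [Pi.add_apply, h1, Pi.smul_apply, nsmul_eq_mul]
    ring
  rw [hv]
  apply AddSubmonoid.add_mem
  · apply AddSubmonoid.sum_mem
    intro j _
    apply AddSubmonoid.nsmul_mem
    apply AddSubmonoid.subset_closure
    simp [gens]
  · apply AddSubmonoid.nsmul_mem
    apply AddSubmonoid.subset_closure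
    simp [gens]

theorem lower (n : ℕ) (hn : 1 ≤ n) (s : Finset (Fin n → ℤ))
    (hs : AddSubmonoid.closure (s : Set (Fin n → ℤ)) = ⊤) : n + 1 ≤ s.card := by
  by_contra hlt
  have hle : s.card ≤ n := by omega
  have hspan : ⊤ ≤ Submodule.span ℤ (Set.range (Subtype.val : s → Fin n → ℤ)) := by
    intro v _
    have hv : v ∈ AddSubmonoid.closure (s : Set (Fin n → ℤ)) := by rw [hs]; trivial
    have hcl : AddSubmonoid.closure (s : Set (Fin n → ℤ)) ≤
        (Submodule.span ℤ (s : Set (Fin n → ℤ))).toAddSubmonoid :=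
      AddSubmonoid.closure_le.mpr Submodule.subset_span
    have := hcl hv
    simpa using this
  have hcard : Fintype.card s ≤ Module.finrank ℤ (Fin n → ℤ) := by
    rw [Module.finrank_fintype_fun_eq_card, Fintype.card_coe, Fintype.card_fin]
    exact hle
  have hli : LinearIndependent ℤ (Subtype.val : s → Fin n → ℤ) :=
    linearIndependent_of_top_le_span_of_card_le_finrank hspan hcard
  -- `-(∑ a ∈ s, a)` is an `ℕ`-combination of `s`
  have hneg : -(∑ a : s, (a : Fin n → ℤ)) ∈ Submodule.span ℕ (s : Set (Fin n → ℤ)) := by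
    have : -(∑ a : s, (a : Fin n → ℤ)) ∈ AddSubmonoid.closure (s : Set (Fin n → ℤ)) := by
      rw [hs]; trivial
    rw [← Submodule.span_nat_eq_addSubmonoidClosure] at this
    exact this
  obtain ⟨c, hc⟩ := Submodule.mem_span_finset'.mp hneg
  have hsum : ∑ a : s, ((c a : ℤ) + 1) • (a : Fin n → ℤ) = 0 := by
    have h1 : ∑ a : s, ((c a : ℤ) + 1) • (a : Fin n → ℤ) =
        ∑ a : s, c a • (a : Fin n → ℤ) + ∑ a : s, (a : Fin n → ℤ) := by
      rw [← Finset.sum_add_distrib]
      apply Finset.sum_congr rfl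
      intro a _
      rw [add_smul, one_smul, natCast_zsmul]
    rw [h1, hc]
    simp
  have hzero := (Fintype.linearIndependent_iff.mp hli) (fun a => (c a : ℤ) + 1) hsum
  -- so `s` is empty
  have hempty : s = ∅ := by
    by_contra hne
    obtain ⟨a, ha⟩ := Finset.nonempty_iff_ne_empty.mpr hne
    have := hzero ⟨a, ha⟩
    have h2 : (0 : ℤ) ≤ (c ⟨a, ha⟩ : ℤ) := Int.natCast_nonneg _
    linarith
  subst hempty
  have h0 : (Pi.single ⟨0, hn⟩ (1 : ℤ) : Fin n → ℤ) ∈ AddSubmonoid.closure ((∅ : Finset (Fin n → ℤ)) : Set (Fin n → ℤ)) := by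
    rw [hs]; trivial
  simp only [Finset.coe_empty, AddSubmonoid.closure_empty, AddSubmonoid.mem_bot] at h0
  have := congrFun h0 ⟨0, hn⟩
  simp at this

/-- For n ≥ 1 the minimal number of generators of ℤ^n as an additive monoid is n + 1: some n + 1
elements generate ℤ^n as a monoid, and every finite set generating ℤ^n as a monoid has at least n +
1 elements. (For n = 0 the empty set generates the zero monoid, so the count n + 1 is stated for n ≥
1 only.) -/
theorem result (n : ℕ) (hn : 1 ≤ n) :
    (∃ s : Finset (Fin n → ℤ), s.card = n + 1 ∧ AddSubmonoid.closure (s : Set (Fin n → ℤ)) = ⊤) ∧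
    ∀ s : Finset (Fin n → ℤ), AddSubmonoid.closure (s : Set (Fin n → ℤ)) = ⊤ → n + 1 ≤ s.card := by
  exact ⟨⟨gens n, card_gens n, closure_gens n⟩, lower n hn⟩

end Groth.Agent.S17679
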