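import Groth.Statements.S17682
-- import your own Groth.Agent.* helpers here
import Mathlib.Algebra.MonoidAlgebra.Module

set_option autoImplicit false
universe u v w u'
open DiagMon

namespace Groth.Agent.S17682

open DirectSum

section
variable (R : Type u) [CommRing R]
    (A : Type v) [CommRing A] [Algebra R A] (M : Type w) [AddCommMonoid M] [DecidableEq M]
    (𝒜 : M → Submodule R A) [GradedAlgebra 𝒜] (R' : Type u') [CommRing R']
    [Algebra R R'] (F : A →ₐ[R] R')

/-- the component maps `a ↦ X^i · F a` on `𝒜 i`. -/
noncomputable def compMap (i : M) : 𝒜 i →ₗ[R] AddMonoidAlgebra R' M :=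
  (AddMonoidAlgebra.lsingle (R := R) i).comp (F.toLinearMap.comp (𝒜 i).subtype)

theorem compMap_apply (i : M) (a : 𝒜 i) :
    compMap R A M 𝒜 R' F i a = AddMonoidAlgebra.single i (F a) := rfl

/-- the graded map `A → R'[M]`, `a ↦ ∑ X^m F(a_m)`. -/
noncomputable def coact : A →ₐ[R] AddMonoidAlgebra R' M :=
  (DirectSum.toAlgebra R (fun i => 𝒜 i) (compMap R A M 𝒜 R' F)
    (by
      rw [compMap_apply]
      change AddMonoidAlgebra.single 0 (F 1) = 1
      rw [map_one]; rfl)
    (by
      intro i j ai aj
      rw [compMap_apply, compMap_apply, compMap_apply, AddMonoidAlgebra.single_mul_single,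
        ← map_mul]
      rfl)).comp (DirectSum.decomposeAlgEquiv 𝒜).toAlgHom

theorem coact_of_mem {m : M} {a : A} (ha : a ∈ 𝒜 m) :
    coact R A M 𝒜 R' F a = AddMonoidAlgebra.single m (F a) := by
  unfold coact
  rw [AlgHom.comp_apply]
  change (DirectSum.toAlgebra R (fun i => 𝒜 i) (compMap R A M 𝒜 R' F) _ _)
    (DirectSum.decompose 𝒜 a) = _
  rw [DirectSum.decompose_of_mem 𝒜 ha]
  rw [DirectSum.toAlgebra_apply]
  exact DirectSum.toAddMonoid_of (fun i => (compMap R A M 𝒜 R' F i).toAddMonoidHom) m
    (⟨a, ha⟩ : 𝒜 m)

theorem counit_single' (m : M) (r : R') :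
    Bialgebra.counitAlgHom R' (AddMonoidAlgebra R' M) (AddMonoidAlgebra.single m r) = r := by
  simp

end

/-- Let R be a commutative ring, A a commutative R-algebra graded by a commutative monoid M, N a
submonoid of M and R' a commutative R-algebra. For every R-algebra homomorphism F : A → R' vanishing
on the homogeneous elements of degree outside N there is a unique R-algebra homomorphism f : A →
R'[M] which is graded (a homogeneous element of degree m goes to a multiple of X^m), vanishes on
homogeneous elements of degree outside N, and composes with the augmentation X^m ↦ 1 to F. In the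
dictionary where an M-grading of A is an action of the diagonalizable monoid scheme Spec R[M] on
Spec A and graded maps A → R'[M] supported on N are equivariant maps from the monoid scheme of N
over R', this says that the attractor of Spec A for the magnet N is represented by the closed
subscheme of Spec A defined by the homogeneous elements of degree outside N. -/
theorem result (R : Type u) [CommRing R]
    (A : Type v) [CommRing A] [Algebra R A] (M : Type w) [AddCommMonoid M] [DecidableEq M]
    (𝒜 : M → Submodule R A) [GradedAlgebra 𝒜] (N : AddSubmonoid M) (R' : Type u') [CommRing R']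
    [Algebra R R'] (F : A →ₐ[R] R') (hF : ∀ m, m ∉ N → ∀ a ∈ 𝒜 m, F a = 0) :
    ∃! f : A →ₐ[R] AddMonoidAlgebra R' M,
      (∀ m, ∀ a ∈ 𝒜 m, f a =
          AddMonoidAlgebra.single m (Bialgebra.counitAlgHom R' (AddMonoidAlgebra R' M) (f a))) ∧
      (∀ m, m ∉ N → ∀ a ∈ 𝒜 m, f a = 0) ∧
      ∀ a, Bialgebra.counitAlgHom R' (AddMonoidAlgebra R' M) (f a) = F a := by
  refine ⟨coact R A M 𝒜 R' F, ⟨?_, ?_, ?_⟩, ?_⟩
  · intro m a ha
    rw [coact_of_mem R A M 𝒜 R' F ha, counit_single']
  · intro m hm a ha
    rw [coact_of_mem R A M 𝒜 R' F ha, hF m hm a ha]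
    simp
  · intro a
    induction a using DirectSum.Decomposition.inductionOn 𝒜 with
    | zero => simp
    | homogeneous a => rw [coact_of_mem R A M 𝒜 R' F a.2, counit_single']
    | add a b ha hb => rw [map_add, map_add, map_add, ha, hb]
  · rintro f' ⟨h1, -, h3⟩
    apply AlgHom.ext
    intro a
    induction a using DirectSum.Decomposition.inductionOn 𝒜 with
    | zero => simp
    | @homogeneous m a => rw [coact_of_mem R A M 𝒜 R' F a.2, h1 m a a.2, h3]
    | add a b ha hb => rw [map_add, map_add, ha, hb]

end Groth.Agent.S17682
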