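import Groth.Statements.S17683
-- import your own Groth.Agent.* helpers here

set_option autoImplicit false
universe u
open DiagMon

namespace Groth.Agent.S17683

open AddMonoidAlgebra in
theorem comap_single_mem {N : Type u} [AddCommMonoid N] (F : AddSubmonoid N) (x : N) (hx : x ∈ F) (r : ℤ) :
    AddMonoidAlgebra.comapDomain ((↑) : F → N) Subtype.val_injective (single x r) =
      single (⟨x, hx⟩ : F) r :=
  AddMonoidAlgebra.comapDomain_single_map ((↑) : F → N) Subtype.val_injective ⟨x, hx⟩ r

open AddMonoidAlgebra in
theorem comap_single_not_mem {N : Type u} [AddCommMonoid N] (F : AddSubmonoid N) (x : N) (hx : x ∉ F) (r : ℤ) :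
    AddMonoidAlgebra.comapDomain ((↑) : F → N) Subtype.val_injective (single x r) = 0 := by
  ext y
  have hy : x ≠ (y : N) := fun h => hx (h ▸ y.2)
  simp [hy]

open AddMonoidAlgebra in
theorem aux {N : Type u} [AddCommMonoid N] (F : AddSubmonoid N) :
    (∀ a b : AddMonoidAlgebra ℤ N,
        AddMonoidAlgebra.comapDomain ((↑) : F → N) Subtype.val_injective (a * b) =
          AddMonoidAlgebra.comapDomain ((↑) : F → N) Subtype.val_injective a *
            AddMonoidAlgebra.comapDomain ((↑) : F → N) Subtype.val_injective b) ↔
      ∀ x y : N, x + y ∈ F ↔ (x ∈ F ∧ y ∈ F) := by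
  constructor
  · intro h x y
    constructor
    · intro hxy
      have h1 := h (single x 1) (single y 1)
      rw [single_mul_single, comap_single_mem F _ hxy] at h1
      have hne : single (⟨x + y, hxy⟩ : F) ((1 : ℤ) * 1) ≠ 0 := by
        rw [Ne, single_eq_zero]; simp
      constructor
      · by_contra hx
        rw [comap_single_not_mem F x hx, zero_mul] at h1
        exact hne h1
      · by_contra hy
        rw [comap_single_not_mem F y hy, mul_zero] at h1
        exact hne h1
    · rintro ⟨hx, hy⟩
      exact F.add_mem hx hy
  · intro h a b
    induction a using AddMonoidAlgebra.induction_linear with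
    | zero => simp
    | add a₁ a₂ h₁ h₂ => rw [add_mul, comapDomain_add, comapDomain_add, add_mul, h₁, h₂]
    | single x r =>
      induction b using AddMonoidAlgebra.induction_linear with
      | zero => simp
      | add b₁ b₂ h₁ h₂ => rw [mul_add, comapDomain_add, comapDomain_add, mul_add, h₁, h₂]
      | single y s =>
        rw [single_mul_single]
        by_cases hx : x ∈ F
        · by_cases hy : y ∈ F
          · rw [comap_single_mem F x hx, comap_single_mem F y hy,
              comap_single_mem F (x + y) (F.add_mem hx hy), single_mul_single]
            rfl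
          · have hxy : x + y ∉ F := fun hh => hy ((h x y).mp hh).2
            rw [comap_single_not_mem F y hy, comap_single_not_mem F _ hxy, mul_zero]
        · have hxy : x + y ∉ F := fun hh => hx ((h x y).mp hh).1
          rw [comap_single_not_mem F x hx, comap_single_not_mem F _ hxy, zero_mul]

/-- Let N be a commutative monoid and F a submonoid of N. The additive projection ℤ[N] → ℤ[F] of monoid
algebras keeping the monomials with exponent in F and killing the others is multiplicative, i.e. F
is a face of N, if and only if for all x, y in N the sum x + y lies in F exactly when both x and y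
do. -/
theorem result {N : Type u} [AddCommMonoid N] (F : AddSubmonoid N) :
    (∀ a b : AddMonoidAlgebra ℤ N,
        AddMonoidAlgebra.comapDomain ((↑) : F → N) Subtype.val_injective (a * b) =
          AddMonoidAlgebra.comapDomain ((↑) : F → N) Subtype.val_injective a *
            AddMonoidAlgebra.comapDomain ((↑) : F → N) Subtype.val_injective b) ↔
      ∀ x y : N, x + y ∈ F ↔ (x ∈ F ∧ y ∈ F) := by
  exact aux F

end Groth.Agent.S17683
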