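import Groth.Statements.S17685
import Mathlib
import Groth.Agent.Lib.Helper15FixLocP
import Groth.Agent.Lib.Helper12Cart

set_option autoImplicit false
universe u
open CategoryTheory MonoidalCategory CartesianMonoidalCategory MonObj GrpObj AlgebraicGeometry
open AlgGrp

namespace Groth.Agent.S17685

/-- Let S be a scheme, F an S-scheme that is finite locally free over S (finite, flat and locally of
finite presentation) with a section e of F over S which is a surjective closed immersion (an
infinitesimal pointed S-scheme), and X an S-scheme with an action of the pointed scheme F, i.e. an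
S-morphism F ×_S X → X through which e acts as the identity. Then the subfunctor of F-fixed points
of X, whose T-points are the T-points x of X with g · x_{T'} = x_{T'} for every S-scheme T' over T
and every T'-point g of F, is represented by a closed subscheme of X. (The source allows F and X to
be algebraic spaces over S; this row is the case of schemes.) -/
theorem result (S : Scheme.{u})
    (F X : Over S) (e : 𝟙_ (Over S) ⟶ F) (act : F ⊗ X ⟶ X) (he : (e ▷ X) ≫ act = (λ_ X).hom)
    [IsFinite F.hom] [Flat F.hom] [LocallyOfFinitePresentation F.hom]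
    [IsClosedImmersion e.left] [Surjective e.left] :
    ∃ (Z : Scheme.{u}) (i : Z ⟶ X.left), IsClosedImmersion i ∧
      ∀ (T : Over S) (x : T ⟶ X), (∃ y : T.left ⟶ Z, y ≫ i = x.left) ↔
        ∀ (T' : Over S) (t : T' ⟶ T) (g : T' ⟶ F), lift g (t ≫ x) ≫ act = t ≫ x := by
  have hsurj : Surjective (e ▷ X).left := by
    have sq := (Groth.Agent.Lib.Helper12.isPullback_whiskerRight X e).map (Over.forget S)
    exact MorphismProperty.of_isPullback (P := @Surjective) sq.flip ‹Surjective e.left›
  have hstab : ∀ U : X.left.Opens, (snd F X).left ⁻¹ᵁ U ≤ act.left ⁻¹ᵁ U := by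
    intro U p hp
    obtain ⟨q, rfl⟩ := hsurj.surj p
    have h1 : act.left ((e ▷ X).left q) = (λ_ X).hom.left q := by
      rw [← Scheme.Hom.comp_apply, ← Over.comp_left, he]
    have h2 : (snd F X).left ((e ▷ X).left q) = (λ_ X).hom.left q := by
      rw [← Scheme.Hom.comp_apply, ← Over.comp_left, whiskerRight_snd, leftUnitor_hom]
    show act.left ((e ▷ X).left q) ∈ U
    rw [h1, ← h2]
    exact hp
  have hE : Groth.Agent.Lib.Helper15FixLocP.HasClosedEq act.left (snd F X).left :=
    ⟨_, Limits.equalizer.ι act.left (snd F X).left,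
      Groth.Agent.Lib.Helper11FixGen.isClosedImmersion_equalizer_of_stable _ _ hstab,
      Limits.equalizer.condition _ _,
      fun m hm => ⟨Limits.equalizer.lift m hm, Limits.equalizer.lift_ι _ _⟩⟩
  obtain ⟨Z, i, hi, hZ⟩ := Groth.Agent.Lib.Helper15FixLocP.exists_closed_coincidence_over F X X
    act (snd F X) hE (Groth.Agent.Lib.Helper15FixLocP.locProj_of_finite_flat F.hom)
  refine ⟨Z.left, i.left, hi, fun T x => ?_⟩
  rw [Groth.Agent.Lib.Helper15FixLoc.fixed_iff, hZ]
  constructor
  · rintro ⟨y, hy⟩
    refine ⟨Over.homMk y ?_, ?_⟩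
    · rw [← Over.w i, ← Category.assoc, hy, Over.w x]
    · ext1
      exact hy
  · rintro ⟨z, rfl⟩
    exact ⟨z.left, rfl⟩

end Groth.Agent.S17685
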