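import Groth.Statements.S17687
-- import your own Groth.Agent.* helpers here

set_option autoImplicit false
universe u v w
open DiagMon

namespace Groth.Agent.S17687

open DirectSum

section
variable {R : Type u} [CommRing R] {A : Type v} [CommRing A]
    [Algebra R A] {M : Type w} [AddCommMonoid M] [DecidableEq M]
    (𝒜 : M → Submodule R A) [GradedAlgebra 𝒜]

theorem exists_homogeneous_generators [Algebra.FiniteType R A] :
    ∃ T : Finset A, (∀ t ∈ T, ∃ m, t ∈ 𝒜 m) ∧ Algebra.adjoin R (T : Set A) = ⊤ := by
  classical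
  obtain ⟨s, hs⟩ := (Algebra.FiniteType.out : (⊤ : Subalgebra R A).FG)
  refine ⟨s.biUnion (fun a => (DirectSum.decompose 𝒜 a).support.image
    (fun i => ((DirectSum.decompose 𝒜 a) i : A))), ?_, ?_⟩
  · intro t ht
    simp only [Finset.mem_biUnion, Finset.mem_image] at ht
    obtain ⟨a, -, i, -, rfl⟩ := ht
    exact ⟨i, (DirectSum.decompose 𝒜 a i).2⟩
  · rw [eq_top_iff, ← hs]
    apply Algebra.adjoin_le
    intro a ha
    rw [← DirectSum.sum_support_decompose 𝒜 a]
    apply Subalgebra.sum_mem
    intro i hi
    apply Algebra.subset_adjoin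
    exact Finset.mem_coe.mpr
      (Finset.mem_biUnion.mpr ⟨a, ha, Finset.mem_image.mpr ⟨i, hi, rfl⟩⟩)

theorem key (T : Finset A) (hT : ∀ t ∈ T, ∃ m, t ∈ 𝒜 m)
    (hgen : Algebra.adjoin R (T : Set A) = ⊤) (N : AddSubmonoid M) :
    Ideal.span {a : A | ∃ m : M, m ∉ N ∧ a ∈ 𝒜 m} =
      Ideal.span {t : A | t ∈ T ∧ ∃ m : M, m ∉ N ∧ t ∈ 𝒜 m} := by
  set K : Ideal A := Ideal.span {t : A | t ∈ T ∧ ∃ m : M, m ∉ N ∧ t ∈ 𝒜 m} with hK
  apply le_antisymm
  · rw [Ideal.span_le]
    rintro a ⟨m, hm, ha⟩
    -- monomials
    have hmono : ∀ x ∈ Submonoid.closure (T : Set A), ∃ d, x ∈ 𝒜 d ∧ (d ∉ N → x ∈ K) := by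
      intro x hx
      induction hx using Submonoid.closure_induction with
      | mem t ht =>
        obtain ⟨d, hd⟩ := hT t ht
        exact ⟨d, hd, fun hdN => Ideal.subset_span ⟨ht, d, hdN, hd⟩⟩
      | one => exact ⟨0, SetLike.GradedOne.one_mem, fun h => absurd N.zero_mem h⟩
      | mul x y _ _ hx hy =>
        obtain ⟨dx, hdx, hxK⟩ := hx
        obtain ⟨dy, hdy, hyK⟩ := hy
        refine ⟨dx + dy, SetLike.GradedMul.mul_mem hdx hdy, fun h => ?_⟩
        by_cases hx' : dx ∈ N
        · by_cases hy' : dy ∈ N
          · exact absurd (N.add_mem hx' hy') h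
          · exact K.mul_mem_left _ (hyK hy')
        · exact K.mul_mem_right _ (hxK hx')
    have hproj : ∀ x ∈ Submodule.span R (Submonoid.closure (T : Set A) : Set A),
        GradedAlgebra.proj 𝒜 m x ∈ K.restrictScalars R := by
      intro x hx
      induction hx using Submodule.span_induction with
      | mem x hx =>
        obtain ⟨d, hd, hxK⟩ := hmono x hx
        rw [GradedAlgebra.proj_apply]
        by_cases hdm : d = m
        · subst hdm
          rw [DirectSum.decompose_of_mem_same 𝒜 hd]
          exact hxK hm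
        · rw [DirectSum.decompose_of_mem_ne 𝒜 hd hdm]
          exact Submodule.zero_mem _
      | zero => rw [map_zero]; exact Submodule.zero_mem _
      | add x y _ _ hx hy => rw [map_add]; exact Submodule.add_mem _ hx hy
      | smul r x _ hx => rw [map_smul]; exact Submodule.smul_mem _ r hx
    have hmem : a ∈ Submodule.span R (Submonoid.closure (T : Set A) : Set A) := by
      rw [← Algebra.adjoin_eq_span, hgen]
      trivial
    have := hproj a hmem
    rw [GradedAlgebra.proj_apply, DirectSum.decompose_of_mem_same 𝒜 ha] at this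
    exact this
  · apply Ideal.span_mono
    rintro t ⟨-, m, hm, ht⟩
    exact ⟨m, hm, ht⟩

end

/-- Let R be a commutative ring and A a commutative R-algebra of finite type graded by a commutative
monoid M. Then the set of ideals J_N, N running over all submonoids of M, where J_N is generated by
the homogeneous elements of degree not in N (the ideal of the attractor of Spec A for the magnet N),
is finite: Spec A has finitely many attractors and hence finitely many pure magnets. (The source
assumes Spec A of finite presentation over the base; its proof uses only a finite set of homogeneous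
algebra generators, so finite type is assumed here.) -/
theorem result (R : Type u) [CommRing R] (A : Type v) [CommRing A]
    [Algebra R A] [Algebra.FiniteType R A] (M : Type w) [AddCommMonoid M] [DecidableEq M]
    (𝒜 : M → Submodule R A) [GradedAlgebra 𝒜] :
    (Set.range fun N : AddSubmonoid M => Ideal.span {a : A | ∃ m : M, m ∉ N ∧ a ∈ 𝒜 m}).Finite := by
  obtain ⟨T, hT, hgen⟩ := exists_homogeneous_generators (R := R) 𝒜
  have hfin : {U : Set A | U ⊆ (T : Set A)}.Finite := T.finite_toSet.finite_subsets
  apply (hfin.image (fun U => Ideal.span U)).subset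
  rintro _ ⟨N, rfl⟩
  refine ⟨{t : A | t ∈ T ∧ ∃ m : M, m ∉ N ∧ t ∈ 𝒜 m}, fun t ht => ht.1, ?_⟩
  exact (key 𝒜 T hT hgen N).symm

end Groth.Agent.S17687
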