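import Groth.Statements.S17689
-- import your own Groth.Agent.* helpers here
import Groth.Agent.Lib.Helper20AWN
import Mathlib

set_option autoImplicit false
universe u
open CategoryTheory AlgebraicGeometry
open Neron

namespace Groth.Agent.S17689

section Helpers
open AlgebraicGeometry CategoryTheory

theorem exists_pow_mem_range
    (R S K L : Type u) [CommRing R] [IsDomain R] [IsDiscreteValuationRing R]
    [CommRing S] [IsDomain S] [Algebra R S] [Module.Finite R S]
    [Field K] [Field L] [Algebra R K] [IsFractionRing R K] [Algebra S L] [IsFractionRing S L]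
    [Algebra K L] [Algebra R L] [IsScalarTower R S L] [IsScalarTower R K L] [IsPurelyInseparable K L]
    (q : ℕ) [ExpChar K q] (s : S) :
    ∃ n : ℕ, ∃ r : R, algebraMap R S r = s ^ q ^ n := by
  obtain ⟨n, y, hy⟩ := IsPurelyInseparable.pow_mem K q (algebraMap S L s)
  have hint : IsIntegral R y := by
    have h1 : IsIntegral R (algebraMap S L s ^ q ^ n) :=
      ((Algebra.IsIntegral.isIntegral (R := R) s).map (IsScalarTower.toAlgHom R S L)).pow _
    rw [← hy] at h1
    exact (isIntegral_algHom_iff (IsScalarTower.toAlgHom R K L) (algebraMap K L).injective).mp h1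
  obtain ⟨r, hr⟩ := (IsIntegrallyClosed.isIntegral_iff (R := R) (K := K)).mp hint
  refine ⟨n, r, ?_⟩
  apply IsFractionRing.injective S L
  rw [map_pow, ← hy, ← hr, ← IsScalarTower.algebraMap_apply, ← IsScalarTower.algebraMap_apply]

theorem aux
    (R S K L : Type u) [CommRing R] [IsDomain R] [IsDiscreteValuationRing R]
    [CommRing S] [IsDomain S] [IsDiscreteValuationRing S] [Algebra R S] [Module.Finite R S] [FaithfulSMul R S]
    [Field K] [Field L] [Algebra R K] [IsFractionRing R K] [Algebra S L] [IsFractionRing S L]
    [Algebra K L] [Algebra R L] [IsScalarTower R S L] [IsScalarTower R K L] [IsPurelyInseparable K L] :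
    FlatMor.IsUnivHomeo (Spec.map (CommRingCat.ofHom (algebraMap R S))) := by
  rw [Groth.Agent.Lib.Helper20.AWN.isUnivHomeo_iff_UH]
  refine ⟨?_, ?_, ?_⟩
  · exact algebraMap_isIntegral_iff.mpr inferInstance
  · exact Algebra.IsIntegral.comap_surjective R S
  · intro K' _ χ₁ χ₂ hχ
    ext s
    obtain ⟨q, hq⟩ : ∃ q, ExpChar K q := ⟨ringExpChar K, ringExpChar.expChar K⟩
    obtain ⟨n, r, hr⟩ := exists_pow_mem_range R S K L q s
    have hpow : χ₁ s ^ q ^ n = χ₂ s ^ q ^ n := by
      rw [← map_pow, ← map_pow, ← hr]
      exact RingHom.congr_fun hχ r
    rcases hq with _ | ⟨hprime⟩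
    · simpa using hpow
    · -- q prime, CharP K q
      have hqR : (q : R) = 0 := by
        apply IsFractionRing.injective R K
        rw [map_natCast, map_zero]
        exact CharP.cast_eq_zero K q
      have hqK' : (q : K') = 0 := by
        have := congrArg (fun x => χ₁ (algebraMap R S x)) hqR
        simpa using this
      haveI : CharP K' q := (CharP.charP_iff_prime_eq_zero hprime).mpr hqK'
      haveI : ExpChar K' q := ExpChar.prime hprime
      have hinj := iterateFrobenius_inj K' q n
      apply hinj
      rw [iterateFrobenius_def, iterateFrobenius_def]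
      exact hpow

end Helpers

/-- Let R ⊆ S be a finite extension of discrete valuation rings (the structure map R → S is injective
and S is a finite R-module) such that the induced extension K ⊆ L of fraction fields is purely
inseparable. Then the morphism Spec S → Spec R is a universal homeomorphism: every base change of it
is a homeomorphism on underlying spaces. (No excellence hypothesis is needed here.) -/
theorem result
    (R S K L : Type u) [CommRing R] [IsDomain R] [IsDiscreteValuationRing R]
    [CommRing S] [IsDomain S] [IsDiscreteValuationRing S] [Algebra R S] [Module.Finite R S] [FaithfulSMul R S]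
    [Field K] [Field L] [Algebra R K] [IsFractionRing R K] [Algebra S L] [IsFractionRing S L]
    [Algebra K L] [Algebra R L] [IsScalarTower R S L] [IsScalarTower R K L] [IsPurelyInseparable K L] :
    FlatMor.IsUnivHomeo (Spec.map (CommRingCat.ofHom (algebraMap R S))) := by
  exact aux R S K L

end Groth.Agent.S17689
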