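import Groth.Statements.S17690
import Mathlib
import Groth.Agent.Lib.Helper7QE2

open Groth.Agent.Lib.Helper7.QE TensorProduct

set_option autoImplicit false
universe u
open Neron

namespace Groth.Agent.S17690

/-- Let R be an excellent discrete valuation ring (Noetherian, universally catenary, G-ring, J-2) with
fraction field K, and let L be a finite purely inseparable field extension of K. Then the integral
closure S of R in L is a discrete valuation ring, and S is a finite R-module. -/
theorem result
    (R K L : Type u) [CommRing R] [IsDomain R] [IsDiscreteValuationRing R] (hR : EGA4.IsExcellent R)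
    [Field K] [Algebra R K] [IsFractionRing R K] [Field L] [Algebra K L] [FiniteDimensional K L]
    [IsPurelyInseparable K L] [Algebra R L] [IsScalarTower R K L] :
    IsDiscreteValuationRing ↥(integralClosure R L) ∧ Module.Finite R ↥(integralClosure R L) := by
  obtain ⟨hN, -, hG, hJ⟩ := hR
  haveI := hN
  have hNag : CAlg.IsNagata R :=
    isNagata_of_gRing_of_J2 R (fun p _ => hG.2 p) (fun B _ _ hfin => hJ B inferInstance)
  have hN2 : CAlg.IsN2 R :=
    Groth.Agent.Lib.Helper14.isN2_of_ringEquiv (RingEquiv.quotientBot R) (hNag.2 ⊥)
  have hfin : Module.Finite R ↥(integralClosure R L) :=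
    Groth.Agent.Lib.Helper14.IsN2.finite hN2 K L
  refine ⟨?_, hfin⟩
  haveI := hfin
  haveI : IsNoetherianRing ↥(integralClosure R L) := IsNoetherianRing.of_finite R _
  have hinj : Function.Injective (algebraMap R ↥(integralClosure R L)) := by
    intro a b hab
    have h1 : algebraMap R L a = algebraMap R L b := congrArg Subtype.val hab
    rw [IsScalarTower.algebraMap_apply R K L, IsScalarTower.algebraMap_apply R K L] at h1
    exact IsFractionRing.injective R K ((algebraMap K L).injective h1)
  -- every element has a power in `R`
  have hpow : ∀ x : ↥(integralClosure R L), ∃ n > 0,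
      x ^ n ∈ (algebraMap R ↥(integralClosure R L)).range := by
    intro x
    obtain ⟨n, y, hy⟩ := IsPurelyInseparable.pow_mem K (ringExpChar K) (x : L)
    have hq : 0 < ringExpChar K ^ n := pow_pos (expChar_pos K (ringExpChar K)) n
    refine ⟨ringExpChar K ^ n, hq, ?_⟩
    have hyint : IsIntegral R y := by
      have h1 : IsIntegral R ((x : L) ^ ringExpChar K ^ n) := x.2.pow _
      rw [← hy] at h1
      exact (isIntegral_algebraMap_iff (algebraMap K L).injective).mp h1
    obtain ⟨r, hr⟩ := IsIntegrallyClosed.isIntegral_iff.mp hyint
    refine ⟨r, Subtype.ext ?_⟩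
    show algebraMap R L r = (x : L) ^ ringExpChar K ^ n
    rw [IsScalarTower.algebraMap_apply R K L, hr, hy]
  have hhomeo := PrimeSpectrum.isHomeomorph_comap (algebraMap R ↥(integralClosure R L)) hpow (by
    rw [(RingHom.injective_iff_ker_eq_bot _).mp hinj]; exact bot_le)
  -- local
  haveI : IsLocalRing ↥(integralClosure R L) := by
    apply IsLocalRing.of_unique_max_ideal
    obtain ⟨n, hn⟩ := Ideal.exists_maximal ↥(integralClosure R L)
    refine ⟨n, hn, fun n' hn' => ?_⟩
    haveI := hn.isPrime
    haveI := hn'.isPrime
    have h1 : (n.comap (algebraMap R ↥(integralClosure R L))).IsMaximal :=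
      Ideal.isMaximal_comap_of_isIntegral_of_isMaximal n
    have h2 : (n'.comap (algebraMap R ↥(integralClosure R L))).IsMaximal :=
      Ideal.isMaximal_comap_of_isIntegral_of_isMaximal n'
    have h3 : n'.comap (algebraMap R ↥(integralClosure R L)) =
        n.comap (algebraMap R ↥(integralClosure R L)) := by
      rw [IsLocalRing.eq_maximalIdeal h1, IsLocalRing.eq_maximalIdeal h2]
    have h4 : (⟨n', inferInstance⟩ : PrimeSpectrum ↥(integralClosure R L)) = ⟨n, inferInstance⟩ :=
      hhomeo.injective (PrimeSpectrum.ext h3)
    exact congrArg PrimeSpectrum.asIdeal h4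
  have hnf : ¬ IsField ↥(integralClosure R L) := by
    intro hF
    exact IsDiscreteValuationRing.not_isField R
      (isField_of_isIntegral_of_isField hinj hF)
  haveI : IsIntegrallyClosed ↥(integralClosure R L) :=
    integralClosure.isIntegrallyClosedOfFiniteExtension K
  haveI : IsDedekindDomain ↥(integralClosure R L) :=
    { toIsDomain := inferInstance
      toIsNoetherian := inferInstance
      toDimensionLEOne := inferInstance
      toIsIntegralClosure := ‹IsIntegrallyClosed ↥(integralClosure R L)› }
  have hD : IsDedekindDomain ↥(integralClosure R L) := inferInstance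
  have htfae := (IsDiscreteValuationRing.TFAE ↥(integralClosure R L) hnf).out 0 2
  exact htfae.mpr hD


end Groth.Agent.S17690
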