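import Groth.Statements.S1771
import Groth.Agent.Lib.Helper28SecFiniteF
import Groth.Agent.S1763
-- import your own Groth.Agent.* helpers here

set_option autoImplicit false
universe u
open LocCoh

namespace Groth.Agent.S1771

open Groth.Agent.Lib.Helper28.SecFinite

theorem two_le_height_map_mk {A : Type u} [CommRing A] (I : Ideal A) (p : Ideal A) [hp : p.IsPrime]
    (h : ∀ (q : PrimeSpectrum A) (hpq : (⟨p, hp⟩ : PrimeSpectrum A) ≤ q), I ≤ q.asIdeal →
      (2 : ℕ∞) ≤ Order.height (⟨q, hpq⟩ : Set.Ici (⟨p, hp⟩ : PrimeSpectrum A))) :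
    (2 : ℕ∞) ≤ (I.map (Ideal.Quotient.mk p)).height := by
  have hsurj : Function.Surjective (Ideal.Quotient.mk p) := Ideal.Quotient.mk_surjective
  rw [Ideal.height_eq_inf_minimalPrimes]
  refine le_iInf₂ fun P' hP' => ?_
  have hP'p : P'.IsPrime := hP'.1.1
  have hJP' : I.map (Ideal.Quotient.mk p) ≤ P' := hP'.1.2
  set q : PrimeSpectrum A := ⟨P'.comap (Ideal.Quotient.mk p), Ideal.comap_isPrime _ _⟩ with hq
  have hpq : (⟨p, hp⟩ : PrimeSpectrum A) ≤ q := by
    change p ≤ P'.comap (Ideal.Quotient.mk p)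
    intro x hx
    rw [Ideal.mem_comap, Ideal.Quotient.eq_zero_iff_mem.mpr hx]
    exact P'.zero_mem
  have hIq : I ≤ q.asIdeal := Ideal.map_le_iff_le_comap.mp hJP'
  have h2 := h q hpq hIq
  let F : Set.Ici (⟨p, hp⟩ : PrimeSpectrum A) → PrimeSpectrum (A ⧸ p) := fun x =>
    ⟨x.1.asIdeal.map (Ideal.Quotient.mk p), Ideal.map_isPrime_of_surjective hsurj (by
      rw [Ideal.mk_ker]; exact x.2)⟩
  have hcm : ∀ x : Set.Ici (⟨p, hp⟩ : PrimeSpectrum A),
      (x.1.asIdeal.map (Ideal.Quotient.mk p)).comap (Ideal.Quotient.mk p) = x.1.asIdeal := by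
    intro x
    rw [Ideal.comap_map_of_surjective _ hsurj, ← RingHom.ker_eq_comap_bot, Ideal.mk_ker,
      sup_eq_left]
    exact x.2
  have hF : StrictMono F := by
    intro x y hxy
    have hle : x.1.asIdeal ≤ y.1.asIdeal := hxy.le
    refine lt_of_le_of_ne (Ideal.map_mono hle : (F x).asIdeal ≤ (F y).asIdeal) ?_
    intro heq
    have h1 : (F x).asIdeal = (F y).asIdeal := congrArg PrimeSpectrum.asIdeal heq
    have h3 : x.1.asIdeal = y.1.asIdeal := by
      rw [← hcm x, ← hcm y]
      exact congrArg (Ideal.comap (Ideal.Quotient.mk p)) h1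
    exact hxy.ne (Subtype.ext (PrimeSpectrum.ext h3))
  have h3 := Order.height_le_height_apply_of_strictMono F hF ⟨q, hpq⟩
  have h4 : (F ⟨q, hpq⟩).asIdeal = P' := Ideal.map_comap_of_surjective _ hsurj P'
  have h5 := PrimeSpectrum.height_eq_orderHeight (F ⟨q, hpq⟩)
  rw [h4] at h5
  rw [h5]
  exact h2.trans h3

/-- Let A be a Noetherian ring which is Nagata and universally catenary, I an ideal of A and M a finite
A-module. Suppose that for every associated prime p of M not containing I and every prime q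
containing both p and I, the longest chain of primes from p to q has length at least 2. Then the
local cohomology module H^1_I(M) is a finite A-module. The published statement asserts that the
pushforward of a coherent sheaf from the open complement of V(I) is coherent; this is its affine
form, stated as finiteness of H^1_I(M). -/
theorem result (A : Type u) [CommRing A] [IsNoetherianRing A] (hN : CAlg.IsNagata A) (hU : CAlg.IsUniversallyCatenary A) (I : Ideal A) (M : Type u) [AddCommGroup M] [Module A M] [Module.Finite A M] (h : ∀ (p q : PrimeSpectrum A) (hpq : p ≤ q), p.asIdeal ∈ associatedPrimes A M → ¬ I ≤ p.asIdeal → I ≤ q.asIdeal → (2 : ℕ∞) ≤ Order.height (⟨q, hpq⟩ : Set.Ici p)) : Module.Finite A (LocCoh.H I 1 M) := by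
  rw [Groth.Agent.S1763.result A I M]
  intro p hpA hIp
  have hp : p.IsPrime := hpA.isPrime
  have hUC' : CAlg.IsUniversallyCatenary (A ⧸ p) := Groth.Agent.S9126.result A (A ⧸ p) hU
  have hN2 : CAlg.IsN2 (A ⧸ p) := hN.2 p
  have hint : Module.Finite (A ⧸ p) (integralClosure (A ⧸ p) (FractionRing (A ⧸ p))) :=
    hN2 (FractionRing (A ⧸ p)) inferInstance
  have hJ : (2 : ℕ∞) ≤ (I.map (Ideal.Quotient.mk p)).height :=
    two_le_height_map_mk I p (fun q hpq hIq => h ⟨p, hp⟩ q hpq hpA hIp hIq)
  exact finite_H1_quotient_prime I p hIp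
    (finite_secSubalgebra_of_isUniversallyCatenary (A ⧸ p) hUC' hint _ hJ)

end Groth.Agent.S1771
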