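import Groth.Statements.S17713
-- import your own Groth.Agent.* helpers here
import Groth.Agent.Lib.Helper26Todd

set_option autoImplicit false
open MoretBailly

namespace Groth.Agent.S17713

open PowerSeries Groth.Agent.Lib.Helper26

/-- `B(-x) e^x = B(x)` for the Bernoulli series `B(x) = x / (1 - e^{-x})`. -/
theorem rescale_neg_one_bern_mul_exp :
    rescale (-1 : ℚ) (bernoulli'PowerSeries ℚ) * exp ℚ = bernoulli'PowerSeries ℚ := by
  have h1 : rescale (-1 : ℚ) (bernoulli'PowerSeries ℚ) = bernoulliPowerSeries ℚ := by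
    ext n
    rw [coeff_rescale, coeff_bern]
    simp only [bernoulliPowerSeries, coeff_mk, bernoulli, eq_ratCast, Rat.cast_id]
    ring_nf
  have h2 := bernoulliPowerSeries_mul_exp_sub_one ℚ
  have h3 := bernoulli'PowerSeries_mul_exp_sub_one ℚ
  have hne : (exp ℚ - 1 : ℚ⟦X⟧) ≠ 0 := by
    intro h
    have := congrArg (coeff 1) h
    simp [coeff_exp, coeff_one] at this
  apply mul_right_cancel₀ hne
  rw [h3, h1]
  calc bernoulliPowerSeries ℚ * exp ℚ * (exp ℚ - 1)
      = (bernoulliPowerSeries ℚ * (exp ℚ - 1)) * exp ℚ := by ring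
    _ = X * exp ℚ := by rw [h2]

theorem rescale_neg_bern_mul_exp (q : ℚ) :
    rescale (-q) (bernoulli'PowerSeries ℚ) * rescale q (exp ℚ) =
      rescale q (bernoulli'PowerSeries ℚ) := by
  have h := congrArg (rescale q) rescale_neg_one_bern_mul_exp
  rw [map_mul, rescale_rescale, neg_one_mul] at h
  exact h

theorem coeff_zero_bern_pow (m : ℕ) : coeff 0 (bernoulli'PowerSeries ℚ ^ m) = 1 := by
  induction m with
  | zero => simp
  | succ m ih => rw [pow_succ, coeff_zero_mul4, ih, coeff_bern_zero]; ring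

theorem coeff_one_bern_pow (m : ℕ) : coeff 1 (bernoulli'PowerSeries ℚ ^ m) = (m : ℚ) / 2 := by
  induction m with
  | zero => simp [coeff_one]
  | succ m ih =>
    rw [pow_succ, coeff_one_mul4, ih, coeff_zero_bern_pow, coeff_bern_zero, coeff_bern_one]
    push_cast; ring

theorem aux (m d : ℕ) (s : ℤ) :
    ∃ P : Polynomial ℚ, P.natDegree ≤ m ∧ ∀ p : ℕ,
      PowerSeries.coeff (m + 2) ((PowerSeries.rescale (-(d : ℚ)) (bernoulli'PowerSeries ℚ))⁻¹ * PowerSeries.rescale (-((d : ℚ) * p)) (bernoulli'PowerSeries ℚ) * bernoulli'PowerSeries ℚ ^ (m + 2 + 1) * PowerSeries.rescale ((d : ℚ) * p - d - ((m + 2 : ℕ) : ℚ) - 1 + s) (PowerSeries.exp ℚ)) =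
        bernoulli' (m + 2) * ((d : ℚ) * p) ^ (m + 2) / (Nat.factorial (m + 2) : ℚ) +
          (2 * (s : ℚ) - d - ((m + 2 : ℕ) : ℚ) - 1) / 2 * bernoulli' (m + 1) * ((d : ℚ) * p) ^ (m + 1) / (Nat.factorial (m + 1) : ℚ) +
          P.eval (p : ℚ) := by
  set c : ℚ := -(d : ℚ) - ((m + 2 : ℕ) : ℚ) - 1 + s with hc
  set I := (rescale (-(d : ℚ)) (bernoulli'PowerSeries ℚ))⁻¹ with hI
  set H : ℚ⟦X⟧ := I * bernoulli'PowerSeries ℚ ^ (m + 2 + 1) * rescale c (exp ℚ) with hH
  have hG0 : coeff 0 (rescale (-(d : ℚ)) (bernoulli'PowerSeries ℚ)) = 1 := by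
    rw [coeff_rescale, coeff_bern_zero]; simp
  have hG1 : coeff 1 (rescale (-(d : ℚ)) (bernoulli'PowerSeries ℚ)) = -(d : ℚ) / 2 := by
    rw [coeff_rescale, coeff_bern_one]; ring
  have hI0 : coeff 0 I = 1 := coeff_zero_inv4 _ hG0
  have hI1 : coeff 1 I = (d : ℚ) / 2 := by
    rw [hI, coeff_one_inv4 _ hG0, hG1]; ring
  have hE0 : coeff 0 (rescale c (exp ℚ)) = 1 := by rw [coeff_rescale_exp]; simp
  have hE1 : coeff 1 (rescale c (exp ℚ)) = c := by rw [coeff_rescale_exp]; simp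
  have hH0 : coeff 0 H = 1 := by
    rw [hH, coeff_zero_mul4, coeff_zero_mul4, hI0, coeff_zero_bern_pow, hE0]; ring
  have hH1 : coeff 1 H = (2 * (s : ℚ) - d - ((m + 2 : ℕ) : ℚ) - 1) / 2 := by
    rw [hH, coeff_one_mul4, coeff_one_mul4, coeff_zero_mul4, hI0, hI1, coeff_zero_bern_pow,
      coeff_one_bern_pow, hE0, hE1, hc]
    push_cast; ring
  refine ⟨∑ k ∈ Finset.range (m + 1), Polynomial.C (coeff k (bernoulli'PowerSeries ℚ) *
    (d : ℚ) ^ k * coeff (m + 2 - k) H) * Polynomial.X ^ k, ?_, ?_⟩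
  · apply Polynomial.natDegree_sum_le_of_forall_le
    intro k hk
    exact (Polynomial.natDegree_C_mul_X_pow_le _ _).trans (Nat.lt_succ_iff.mp (Finset.mem_range.mp hk))
  · intro p
    set q : ℚ := (d : ℚ) * p with hq
    have hsplit : rescale ((d : ℚ) * p - d - ((m + 2 : ℕ) : ℚ) - 1 + s) (exp ℚ) =
        rescale q (exp ℚ) * rescale c (exp ℚ) := by
      rw [exp_mul_exp_eq_exp_add]
      congr 2
      rw [hq, hc]; ring
    have hT : I * rescale (-q) (bernoulli'PowerSeries ℚ) * bernoulli'PowerSeries ℚ ^ (m + 2 + 1) *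
        rescale ((d : ℚ) * p - d - ((m + 2 : ℕ) : ℚ) - 1 + s) (exp ℚ) =
        rescale q (bernoulli'PowerSeries ℚ) * H := by
      rw [hsplit, ← rescale_neg_bern_mul_exp q, hH]
      ring
    rw [hT, coeff_mul, Finset.Nat.sum_antidiagonal_eq_sum_range_succ_mk, Finset.sum_range_succ,
      Finset.sum_range_succ]
    have e1 : m + 2 - (m + 1) = 1 := by omega
    have e2 : m + 2 - (m + 2) = 0 := by omega
    simp only [e1, e2, hH0, hH1, coeff_rescale, coeff_bern]
    rw [Polynomial.eval_finsetSum]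
    have hsum : ∑ k ∈ Finset.range (m + 1), q ^ k * (bernoulli' k / (k.factorial : ℚ)) *
        coeff (m + 2 - k) H =
        ∑ k ∈ Finset.range (m + 1), Polynomial.eval (p : ℚ) (Polynomial.C
          (bernoulli' k / (k.factorial : ℚ) * (d : ℚ) ^ k * coeff (m + 2 - k) H) *
            Polynomial.X ^ k) := by
      apply Finset.sum_congr rfl
      intro k _
      rw [Polynomial.eval_mul, Polynomial.eval_C, Polynomial.eval_pow, Polynomial.eval_X, hq,
        mul_pow]
      ring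
    rw [hsum]
    ring

/-- Let n ≥ 2 and d ≥ 1 be natural numbers and s an integer, and write B(x) = x/(1 - e^(-x)) for the
exponential generating series of the Bernoulli numbers B'_i (convention B'_1 = 1/2). For a natural
number p consider the product B(-dx)^(-1) B(-dpx) B(x)^(n+1) e^((dp-d-n-1+s)x) in ℚ[[x]] (the
Todd-class integrand of a Hirzebruch–Riemann–Roch computation) and let λ_n(p) be its coefficient of
x^n. Then λ_n(p) is a polynomial in p whose two top terms are B'_n (dp)^n/n! and ((2s-d-n-1)/2)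
B'_(n-1) (dp)^(n-1)/(n-1)!: there is a polynomial P over ℚ of degree at most n - 2 with λ_n(p) equal
to the sum of these two terms and P(p), for every p. -/
theorem result (n d : ℕ) (s : ℤ) (hn : 2 ≤ n) (hd : 1 ≤ d) :
    ∃ P : Polynomial ℚ, P.natDegree ≤ n - 2 ∧ ∀ p : ℕ,
      PowerSeries.coeff n ((PowerSeries.rescale (-(d : ℚ)) (bernoulli'PowerSeries ℚ))⁻¹ * PowerSeries.rescale (-((d : ℚ) * p)) (bernoulli'PowerSeries ℚ) * bernoulli'PowerSeries ℚ ^ (n + 1) * PowerSeries.rescale ((d : ℚ) * p - d - n - 1 + s) (PowerSeries.exp ℚ)) =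
        bernoulli' n * ((d : ℚ) * p) ^ n / (Nat.factorial n : ℚ) +
          (2 * (s : ℚ) - d - n - 1) / 2 * bernoulli' (n - 1) * ((d : ℚ) * p) ^ (n - 1) / (Nat.factorial (n - 1) : ℚ) +
          P.eval (p : ℚ) := by
  obtain ⟨m, rfl⟩ : ∃ m, n = m + 2 := ⟨n - 2, by omega⟩
  exact aux m d s

end Groth.Agent.S17713
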