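import Groth.Statements.S17714
-- import your own Groth.Agent.* helpers here
import Groth.Agent.S17713
import Groth.Agent.Lib.Helper26BernSign

set_option autoImplicit false
open MoretBailly

namespace Groth.Agent.S17714

open Groth.Agent.Lib.Helper26

/-- the Todd coefficient `λ_n(p)`. -/
noncomputable abbrev lam (n d : ℕ) (s : ℤ) (p : ℕ) : ℚ :=
  PowerSeries.coeff n ((PowerSeries.rescale (-(d : ℚ)) (bernoulli'PowerSeries ℚ))⁻¹ * PowerSeries.rescale (-((d : ℚ) * p)) (bernoulli'PowerSeries ℚ) * bernoulli'PowerSeries ℚ ^ (n + 1) * PowerSeries.rescale ((d : ℚ) * p - d - n - 1 + s) (PowerSeries.exp ℚ))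

/-- if `B'_n < 0` the coefficient is eventually negative. -/
theorem eventually_neg_top (n d : ℕ) (s : ℤ) (hn : 2 ≤ n) (hd : 1 ≤ d) (hB : bernoulli' n < 0) :
    ∃ N : ℕ, ∀ p : ℕ, N ≤ p → lam n d s p < 0 := by
  obtain ⟨P, hPdeg, hP⟩ := Groth.Agent.S17713.result n d s hn hd
  have hd' : (0 : ℚ) < (d : ℚ) := by exact_mod_cast hd
  set a : ℚ := bernoulli' n * (d : ℚ) ^ n / (n.factorial : ℚ) with ha
  have ha_neg : a < 0 := by
    have h1 : (0 : ℚ) < (d : ℚ) ^ n / (n.factorial : ℚ) := by positivity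
    have : a = bernoulli' n * ((d : ℚ) ^ n / (n.factorial : ℚ)) := by rw [ha]; ring
    rw [this]
    exact mul_neg_of_neg_of_pos hB h1
  set b : ℚ := (2 * (s : ℚ) - d - n - 1) / 2 * bernoulli' (n - 1) * (d : ℚ) ^ (n - 1) /
    ((n - 1).factorial : ℚ) with hb
  set P' : Polynomial ℚ := Polynomial.C b * Polynomial.X ^ (n - 1) + P with hP'
  have hP'deg : P'.natDegree < n := by
    have h1 : (Polynomial.C b * Polynomial.X ^ (n - 1)).natDegree ≤ n - 1 :=
      Polynomial.natDegree_C_mul_X_pow_le _ _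
    have h2 : P'.natDegree ≤
        max (Polynomial.C b * Polynomial.X ^ (n - 1)).natDegree P.natDegree :=
      Polynomial.natDegree_add_le (Polynomial.C b * Polynomial.X ^ (n - 1)) P
    have h3 : max (Polynomial.C b * Polynomial.X ^ (n - 1)).natDegree P.natDegree ≤ n - 1 :=
      max_le h1 (hPdeg.trans (by omega))
    omega
  obtain ⟨N, hN⟩ := eventually_neg_of_leading_neg a ha_neg n (by omega) P' hP'deg
  refine ⟨N, fun p hp => ?_⟩
  have h := hN p hp
  unfold lam
  rw [hP p]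
  have e : a * (p : ℚ) ^ n + P'.eval (p : ℚ) =
      bernoulli' n * ((d : ℚ) * p) ^ n / (n.factorial : ℚ) +
        (2 * (s : ℚ) - d - n - 1) / 2 * bernoulli' (n - 1) * ((d : ℚ) * p) ^ (n - 1) /
          ((n - 1).factorial : ℚ) + P.eval (p : ℚ) := by
    rw [hP', Polynomial.eval_add, Polynomial.eval_mul, Polynomial.eval_C, Polynomial.eval_pow,
      Polynomial.eval_X, ha, hb, mul_pow, mul_pow]
    ring
  rw [← e]
  exact h

/-- if `B'_n = 0` and `((2s-d-n-1)/2) B'_{n-1} < 0` the coefficient is eventually negative. -/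
theorem eventually_neg_sub (n d : ℕ) (s : ℤ) (hn : 2 ≤ n) (hd : 1 ≤ d) (hB0 : bernoulli' n = 0)
    (hneg : (2 * (s : ℚ) - d - n - 1) / 2 * bernoulli' (n - 1) < 0) :
    ∃ N : ℕ, ∀ p : ℕ, N ≤ p → lam n d s p < 0 := by
  obtain ⟨P, hPdeg, hP⟩ := Groth.Agent.S17713.result n d s hn hd
  have hd' : (0 : ℚ) < (d : ℚ) := by exact_mod_cast hd
  set b : ℚ := (2 * (s : ℚ) - d - n - 1) / 2 * bernoulli' (n - 1) * (d : ℚ) ^ (n - 1) /
    ((n - 1).factorial : ℚ) with hb
  have hb_neg : b < 0 := by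
    have h1 : (0 : ℚ) < (d : ℚ) ^ (n - 1) / ((n - 1).factorial : ℚ) := by positivity
    have : b = ((2 * (s : ℚ) - d - n - 1) / 2 * bernoulli' (n - 1)) *
        ((d : ℚ) ^ (n - 1) / ((n - 1).factorial : ℚ)) := by rw [hb]; ring
    rw [this]
    exact mul_neg_of_neg_of_pos hneg h1
  obtain ⟨N, hN⟩ := eventually_neg_of_leading_neg b hb_neg (n - 1) (by omega) P (by omega)
  refine ⟨N, fun p hp => ?_⟩
  have h := hN p hp
  unfold lam
  rw [hP p, hB0]
  have e : b * (p : ℚ) ^ (n - 1) + P.eval (p : ℚ) =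
      0 * ((d : ℚ) * p) ^ n / (n.factorial : ℚ) +
        (2 * (s : ℚ) - d - n - 1) / 2 * bernoulli' (n - 1) * ((d : ℚ) * p) ^ (n - 1) /
          ((n - 1).factorial : ℚ) + P.eval (p : ℚ) := by
    rw [hb, mul_pow]
    ring
  rw [← e]
  exact h

/-- Let n ≥ 2 and d ≥ 1 be natural numbers with n congruent to 0 or 1 modulo 4, and s an integer with 2s
> n + d + 1. Write B(x) = x/(1 - e^(-x)) for the exponential generating series of the Bernoulli
numbers (B'_1 = 1/2). Then for all sufficiently large natural numbers p the coefficient of x^n in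
B(-dx)^(-1) B(-dpx) B(x)^(n+1) e^((dp-d-n-1+s)x) is strictly negative. (The published statement
asserts this for every n ≥ 2 not congruent to 2 modulo 4. For n congruent to 3 modulo 4 the
coefficient is a polynomial in p of degree n - 1 with leading coefficient (2s-d-n-1) B'_(n-1)
d^(n-1)/(2 (n-1)!) > 0, so it is eventually positive: for n = 3, d = 1, s = 3 it equals (p^2 -
1)/24. The residues 0 and 1 are exactly the ones the leading-term argument gives.) -/
theorem result (n d : ℕ) (s : ℤ) (hn : 2 ≤ n)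
    (hmod : n % 4 = 0 ∨ n % 4 = 1) (hd : 1 ≤ d) (hs : (n : ℤ) + d + 1 < 2 * s) :
    ∃ P : ℕ, ∀ p : ℕ, P ≤ p →
      PowerSeries.coeff n ((PowerSeries.rescale (-(d : ℚ)) (bernoulli'PowerSeries ℚ))⁻¹ * PowerSeries.rescale (-((d : ℚ) * p)) (bernoulli'PowerSeries ℚ) * bernoulli'PowerSeries ℚ ^ (n + 1) * PowerSeries.rescale ((d : ℚ) * p - d - n - 1 + s) (PowerSeries.exp ℚ)) < 0 := by
  rcases hmod with h0 | h1
  · obtain ⟨j, rfl⟩ : ∃ j, n = 4 * j := ⟨n / 4, by omega⟩
    exact eventually_neg_top (4 * j) d s hn hd (bernoulli'_four_mul_neg (by omega))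
  · obtain ⟨j, rfl⟩ : ∃ j, n = 4 * j + 1 := ⟨n / 4, by omega⟩
    have hj : j ≠ 0 := by omega
    apply eventually_neg_sub (4 * j + 1) d s hn hd
    · exact bernoulli'_eq_zero_of_odd ⟨2 * j, by ring⟩ (by omega)
    · have hB : bernoulli' (4 * j + 1 - 1) < 0 := by
        rw [Nat.add_sub_cancel]
        exact bernoulli'_four_mul_neg hj
      have hs' : (0 : ℚ) < (2 * (s : ℚ) - d - ((4 * j + 1 : ℕ) : ℚ) - 1) / 2 := by
        have : (((4 * j + 1 : ℕ) : ℤ) : ℚ) + (d : ℚ) + 1 < 2 * (s : ℚ) := by exact_mod_cast hs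
        push_cast at this ⊢
        linarith
      exact mul_neg_of_pos_of_neg hs' hB

end Groth.Agent.S17714
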