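import Groth.Statements.S17715
-- import your own Groth.Agent.* helpers here
import Groth.Agent.Lib.Helper26Todd

set_option autoImplicit false
open MoretBailly

namespace Groth.Agent.S17715

open PowerSeries Groth.Agent.Lib.Helper26 in
theorem aux (d p : ℕ) :
    PowerSeries.coeff 3 ((PowerSeries.rescale (-(d : ℚ)) (bernoulli'PowerSeries ℚ))⁻¹ * PowerSeries.rescale (-((d : ℚ) * p)) (bernoulli'PowerSeries ℚ) * bernoulli'PowerSeries ℚ ^ (4) * PowerSeries.rescale ((d : ℚ) * p - d - 3) (PowerSeries.exp ℚ)) =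
      -((d : ℚ) * (d + 2) * (p - 1) * (d * p - d - 2)) / 24 := by
  have hG0 : coeff 0 (rescale (-(d : ℚ)) (bernoulli'PowerSeries ℚ)) = 1 := by
    rw [coeff_rescale, coeff_bern_zero]; simp
  have hG1 : coeff 1 (rescale (-(d : ℚ)) (bernoulli'PowerSeries ℚ)) = -(d : ℚ) / 2 := by
    rw [coeff_rescale, coeff_bern_one]; ring
  have hG2 : coeff 2 (rescale (-(d : ℚ)) (bernoulli'PowerSeries ℚ)) = (d : ℚ) ^ 2 / 12 := by
    rw [coeff_rescale, coeff_bern_two]; ring
  have hG3 : coeff 3 (rescale (-(d : ℚ)) (bernoulli'PowerSeries ℚ)) = 0 := by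
    rw [coeff_rescale, coeff_bern_three]; ring
  have hF0 : coeff 0 (rescale (-((d : ℚ) * p)) (bernoulli'PowerSeries ℚ)) = 1 := by
    rw [coeff_rescale, coeff_bern_zero]; simp
  have hF1 : coeff 1 (rescale (-((d : ℚ) * p)) (bernoulli'PowerSeries ℚ)) = -((d : ℚ) * p) / 2 := by
    rw [coeff_rescale, coeff_bern_one]; ring
  have hF2 : coeff 2 (rescale (-((d : ℚ) * p)) (bernoulli'PowerSeries ℚ)) =
      ((d : ℚ) * p) ^ 2 / 12 := by
    rw [coeff_rescale, coeff_bern_two]; ring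
  have hF3 : coeff 3 (rescale (-((d : ℚ) * p)) (bernoulli'PowerSeries ℚ)) = 0 := by
    rw [coeff_rescale, coeff_bern_three]; ring
  have hE0 : coeff 0 (rescale ((d : ℚ) * p - d - 3) (exp ℚ)) = 1 := by
    rw [coeff_rescale_exp]; simp
  have hE1 : coeff 1 (rescale ((d : ℚ) * p - d - 3) (exp ℚ)) = (d : ℚ) * p - d - 3 := by
    rw [coeff_rescale_exp]; simp
  have hE2 : coeff 2 (rescale ((d : ℚ) * p - d - 3) (exp ℚ)) = ((d : ℚ) * p - d - 3) ^ 2 / 2 := by
    rw [coeff_rescale_exp]; norm_num [Nat.factorial]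
  have hE3 : coeff 3 (rescale ((d : ℚ) * p - d - 3) (exp ℚ)) = ((d : ℚ) * p - d - 3) ^ 3 / 6 := by
    rw [coeff_rescale_exp]; norm_num [Nat.factorial]
  -- B^2
  have hB20 : coeff 0 (bernoulli'PowerSeries ℚ * bernoulli'PowerSeries ℚ) = 1 := by
    rw [coeff_zero_mul4, coeff_bern_zero]; ring
  have hB21 : coeff 1 (bernoulli'PowerSeries ℚ * bernoulli'PowerSeries ℚ) = 1 := by
    rw [coeff_one_mul4, coeff_bern_zero, coeff_bern_one]; ring
  have hB22 : coeff 2 (bernoulli'PowerSeries ℚ * bernoulli'PowerSeries ℚ) = 5 / 12 := by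
    rw [coeff_two_mul4, coeff_bern_zero, coeff_bern_one, coeff_bern_two]; ring
  have hB23 : coeff 3 (bernoulli'PowerSeries ℚ * bernoulli'PowerSeries ℚ) = 1 / 12 := by
    rw [coeff_three_mul4, coeff_bern_zero, coeff_bern_one, coeff_bern_two, coeff_bern_three]; ring
  have h4 : bernoulli'PowerSeries ℚ ^ 4 =
      (bernoulli'PowerSeries ℚ * bernoulli'PowerSeries ℚ) *
        (bernoulli'PowerSeries ℚ * bernoulli'PowerSeries ℚ) := by ring
  have hB40 : coeff 0 (bernoulli'PowerSeries ℚ ^ 4) = 1 := by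
    rw [h4, coeff_zero_mul4, hB20]; ring
  have hB41 : coeff 1 (bernoulli'PowerSeries ℚ ^ 4) = 2 := by
    rw [h4, coeff_one_mul4, hB20, hB21]; ring
  have hB42 : coeff 2 (bernoulli'PowerSeries ℚ ^ 4) = 11 / 6 := by
    rw [h4, coeff_two_mul4, hB20, hB21, hB22]; ring
  have hB43 : coeff 3 (bernoulli'PowerSeries ℚ ^ 4) = 1 := by
    rw [h4, coeff_three_mul4, hB20, hB21, hB22, hB23]; ring
  -- G⁻¹
  have hI0 := coeff_zero_inv4 _ hG0
  have hI1 := coeff_one_inv4 _ hG0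
  have hI2 := coeff_two_inv4 _ hG0
  have hI3 := coeff_three_inv4 _ hG0
  rw [hG1] at hI1
  rw [hG1, hG2] at hI2
  rw [hG1, hG2, hG3] at hI3
  -- G⁻¹ * F2
  set I := (rescale (-(d : ℚ)) (bernoulli'PowerSeries ℚ))⁻¹ with hI
  set F := rescale (-((d : ℚ) * p)) (bernoulli'PowerSeries ℚ) with hF
  set B4 := bernoulli'PowerSeries ℚ ^ 4 with hB4
  set E := rescale ((d : ℚ) * p - d - 3) (exp ℚ) with hE
  have hP0 : coeff 0 (I * F) = 1 := by rw [coeff_zero_mul4, hI0, hF0]; ring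
  have hP1 : coeff 1 (I * F) = (d : ℚ) / 2 - (d : ℚ) * p / 2 := by
    rw [coeff_one_mul4, hI0, hI1, hF0, hF1]; ring
  have hP2 : coeff 2 (I * F) = coeff 0 I * coeff 2 F + coeff 1 I * coeff 1 F + coeff 2 I * coeff 0 F :=
    coeff_two_mul4 _ _
  have hP3 : coeff 3 (I * F) = coeff 0 I * coeff 3 F + coeff 1 I * coeff 2 F +
      coeff 2 I * coeff 1 F + coeff 3 I * coeff 0 F := coeff_three_mul4 _ _
  rw [hI0, hI1, hI2, hF0, hF1, hF2] at hP2
  rw [hI0, hI1, hI2, hI3, hF0, hF1, hF2, hF3] at hP3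
  have hQ0 : coeff 0 (I * F * B4) = 1 := by rw [coeff_zero_mul4, hP0, hB40]; ring
  have hQ1 := coeff_one_mul4 (I * F) B4
  have hQ2 := coeff_two_mul4 (I * F) B4
  have hQ3 := coeff_three_mul4 (I * F) B4
  rw [hP0, hP1, hB40, hB41] at hQ1
  rw [hP0, hP1, hP2, hB40, hB41, hB42] at hQ2
  rw [hP0, hP1, hP2, hP3, hB40, hB41, hB42, hB43] at hQ3
  rw [coeff_three_mul4, hQ0, hQ1, hQ2, hQ3, hE0, hE1, hE2, hE3]
  ring

/-- Write B(x) = x/(1 - e^(-x)) for the exponential generating series of the Bernoulli numbers (B'_1 =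
1/2). For all natural numbers d and p the coefficient of x^3 in B(-dx)^(-1) B(-dpx) B(x)^4
e^((dp-d-3)x), i.e. the case n = 3, s = 1 of the Todd-class integrand, equals
-d(d+2)(p-1)(dp-d-2)/24 = -(d^3+2d^2) p^2/24 + (d^3+3d^2+2d) p/12 - (d^3+4d^2+4d)/24. (The published
closed form has the same p^2 and p coefficients but constant term -(d^3+2d^2+2d)/24; direct
expansion gives the value stated here, which vanishes at p = 1.) -/
theorem result (d p : ℕ) :
    PowerSeries.coeff 3 ((PowerSeries.rescale (-(d : ℚ)) (bernoulli'PowerSeries ℚ))⁻¹ * PowerSeries.rescale (-((d : ℚ) * p)) (bernoulli'PowerSeries ℚ) * bernoulli'PowerSeries ℚ ^ (4) * PowerSeries.rescale ((d : ℚ) * p - d - 3) (PowerSeries.exp ℚ)) =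
      -((d : ℚ) * (d + 2) * (p - 1) * (d * p - d - 2)) / 24 := by
  exact aux d p

end Groth.Agent.S17715
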