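import Groth.Statements.S17717
-- import your own Groth.Agent.* helpers here
import Groth.Agent.Lib.Helper26Todd

set_option autoImplicit false
open MoretBailly

namespace Groth.Agent.S17717

open PowerSeries Groth.Agent.Lib.Helper26 in
theorem aux (d p : ℕ) (s : ℤ) :
    PowerSeries.coeff 1 ((PowerSeries.rescale (-(d : ℚ)) (bernoulli'PowerSeries ℚ))⁻¹ * PowerSeries.rescale (-((d : ℚ) * p)) (bernoulli'PowerSeries ℚ) * bernoulli'PowerSeries ℚ ^ (2) * PowerSeries.rescale ((d : ℚ) * p - d - 2 + s) (PowerSeries.exp ℚ)) =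
      (d : ℚ) * (p - 1) / 2 + s - 1 := by
  have hG0 : coeff 0 (rescale (-(d : ℚ)) (bernoulli'PowerSeries ℚ)) = 1 := by
    rw [coeff_rescale, coeff_bern_zero]; simp
  have hG1 : coeff 1 (rescale (-(d : ℚ)) (bernoulli'PowerSeries ℚ)) = -(d : ℚ) / 2 := by
    rw [coeff_rescale, coeff_bern_one]; ring
  have hF0 : coeff 0 (rescale (-((d : ℚ) * p)) (bernoulli'PowerSeries ℚ)) = 1 := by
    rw [coeff_rescale, coeff_bern_zero]; simp
  have hF1 : coeff 1 (rescale (-((d : ℚ) * p)) (bernoulli'PowerSeries ℚ)) = -((d : ℚ) * p) / 2 := by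
    rw [coeff_rescale, coeff_bern_one]; ring
  have hE0 : coeff 0 (rescale ((d : ℚ) * p - d - 2 + s) (exp ℚ)) = 1 := by
    rw [coeff_rescale_exp]; simp
  have hE1 : coeff 1 (rescale ((d : ℚ) * p - d - 2 + s) (exp ℚ)) = (d : ℚ) * p - d - 2 + s := by
    rw [coeff_rescale_exp]; simp
  have hB20 : coeff 0 (bernoulli'PowerSeries ℚ ^ 2) = 1 := by
    rw [pow_two, coeff_zero_mul4, coeff_bern_zero]; ring
  have hB21 : coeff 1 (bernoulli'PowerSeries ℚ ^ 2) = 1 := by
    rw [pow_two, coeff_one_mul4, coeff_bern_zero, coeff_bern_one]; ring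
  rw [coeff_one_mul4, coeff_one_mul4, coeff_one_mul4, coeff_zero_mul4, coeff_zero_mul4,
    coeff_zero_inv4 _ hG0, coeff_one_inv4 _ hG0, hG1, hF0, hF1, hE0, hE1, hB20, hB21]
  ring

/-- Write B(x) = x/(1 - e^(-x)) for the exponential generating series of the Bernoulli numbers (B'_1 =
1/2). For all natural numbers d, p and every integer s the coefficient of x in B(-dx)^(-1) B(-dpx)
B(x)^2 e^((dp-d-2+s)x), i.e. the case n = 1 of the Todd-class integrand, equals d(p-1)/2 + s - 1. -/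
theorem result (d p : ℕ) (s : ℤ) :
    PowerSeries.coeff 1 ((PowerSeries.rescale (-(d : ℚ)) (bernoulli'PowerSeries ℚ))⁻¹ * PowerSeries.rescale (-((d : ℚ) * p)) (bernoulli'PowerSeries ℚ) * bernoulli'PowerSeries ℚ ^ (2) * PowerSeries.rescale ((d : ℚ) * p - d - 2 + s) (PowerSeries.exp ℚ)) =
      (d : ℚ) * (p - 1) / 2 + s - 1 := by
  exact aux d p s

end Groth.Agent.S17717
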