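import Groth.Statements.S17718
-- import your own Groth.Agent.* helpers here
import Groth.Agent.S17714

set_option autoImplicit false
open MoretBailly

namespace Groth.Agent.S17718

open Groth.Agent.Lib.Helper26

/-- Let n ≥ 2 and d ≥ 1 be natural numbers with n not congruent to 2 modulo 4, and write B(x) = x/(1 -
e^(-x)) for the exponential generating series of the Bernoulli numbers (B'_1 = 1/2). Then there is
an integer s ≥ 1 such that for all sufficiently large natural numbers p the coefficient of x^n in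
B(-dx)^(-1) B(-dpx) B(x)^(n+1) e^((dp-d-n-1+s)x) is strictly negative. (The published argument fixes
any s with 2s > n + d + 1, which gives the sign only for n congruent to 0 or 1 modulo 4; for n
congruent to 3 modulo 4 the choice s = 1 makes the leading coefficient (2s-d-n-1) B'_(n-1)
d^(n-1)/(2 (n-1)!) negative instead.) -/
theorem result (n d : ℕ) (hn : 2 ≤ n)
    (hmod : n % 4 ≠ 2) (hd : 1 ≤ d) :
    ∃ s : ℤ, 1 ≤ s ∧ ∃ P : ℕ, ∀ p : ℕ, P ≤ p →
      PowerSeries.coeff n ((PowerSeries.rescale (-(d : ℚ)) (bernoulli'PowerSeries ℚ))⁻¹ * PowerSeries.rescale (-((d : ℚ) * p)) (bernoulli'PowerSeries ℚ) * bernoulli'PowerSeries ℚ ^ (n + 1) * PowerSeries.rescale ((d : ℚ) * p - d - n - 1 + s) (PowerSeries.exp ℚ)) < 0 := by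
  by_cases h3 : n % 4 = 3
  · -- take s = 1
    refine ⟨1, le_refl _, ?_⟩
    obtain ⟨j, rfl⟩ : ∃ j, n = 4 * j + 3 := ⟨n / 4, by omega⟩
    apply Groth.Agent.S17714.eventually_neg_sub (4 * j + 3) d 1 hn hd
    · exact bernoulli'_eq_zero_of_odd ⟨2 * j + 1, by ring⟩ (by omega)
    · have hB : 0 < bernoulli' (4 * j + 3 - 1) := by
        have e : 4 * j + 3 - 1 = 4 * j + 2 := by omega
        rw [e]
        exact bernoulli'_four_mul_add_two_pos j
      have hs' : (2 * ((1 : ℤ) : ℚ) - d - ((4 * j + 3 : ℕ) : ℚ) - 1) / 2 < 0 := by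
        have hd' : (1 : ℚ) ≤ (d : ℚ) := by exact_mod_cast hd
        have hj' : (0 : ℚ) ≤ (j : ℚ) := by positivity
        push_cast
        linarith
      exact mul_neg_of_neg_of_pos hs' hB
  · have hmod' : n % 4 = 0 ∨ n % 4 = 1 := by omega
    refine ⟨(n : ℤ) + d + 1, by omega, ?_⟩
    exact Groth.Agent.S17714.result n d ((n : ℤ) + d + 1) hn hmod' hd (by omega)

end Groth.Agent.S17718
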