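import Groth.Statements.S17720
import Mathlib

set_option autoImplicit false
universe u
open CAlg

namespace Groth.Agent.S17720

open MvPowerSeries IsLocalRing

/-- The projection `A⟦x, y⟧ → (A/I)⟦t⟧`, reducing coefficients mod `I`, `x ↦ t`, `y ↦ 0`. -/
noncomputable def proj {A : Type u} [CommRing A] (I : Ideal A) :
    MvPowerSeries (Fin 2) A →+* PowerSeries (A ⧸ I) where
  toFun h := PowerSeries.mk fun n =>
    Ideal.Quotient.mk I (MvPowerSeries.coeff (Finsupp.single 0 n) h)
  map_one' := by
    classical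
    ext n
    rw [PowerSeries.coeff_mk, PowerSeries.coeff_one, MvPowerSeries.coeff_one]
    by_cases hn : n = 0
    · subst hn; simp
    · rw [if_neg hn, if_neg (by simpa using hn)]; simp
  map_mul' h h' := by
    classical
    ext n
    rw [PowerSeries.coeff_mk, PowerSeries.coeff_mul, MvPowerSeries.coeff_mul,
      Finsupp.antidiagonal_single, Finset.sum_map, map_sum]
    refine Finset.sum_congr rfl fun x _ => ?_
    simp [PowerSeries.coeff_mk]
  map_zero' := by ext n; simp
  map_add' h h' := by ext n; simp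

theorem coeff_proj {A : Type u} [CommRing A] (I : Ideal A) (h : MvPowerSeries (Fin 2) A) (n : ℕ) :
    PowerSeries.coeff n (proj I h) =
      Ideal.Quotient.mk I (MvPowerSeries.coeff (Finsupp.single 0 n) h) := by
  exact PowerSeries.coeff_mk n (fun n =>
    Ideal.Quotient.mk I (MvPowerSeries.coeff (Finsupp.single 0 n) h))

theorem proj_X0 {A : Type u} [CommRing A] (I : Ideal A) :
    proj I (MvPowerSeries.X 0) = PowerSeries.X := by
  classical
  ext n
  rw [coeff_proj, MvPowerSeries.coeff_X, PowerSeries.coeff_X]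
  by_cases hn : n = 1
  · subst hn; simp
  · rw [if_neg hn, if_neg]
    · simp
    · intro h
      exact hn (Finsupp.single_injective 0 h)

theorem proj_X1 {A : Type u} [CommRing A] (I : Ideal A) :
    proj I (MvPowerSeries.X 1) = 0 := by
  classical
  ext n
  rw [coeff_proj, MvPowerSeries.coeff_X, if_neg]
  · simp
  · intro h
    have := DFunLike.congr_fun h 1
    simp at this

theorem proj_C {A : Type u} [CommRing A] (I : Ideal A) (a : A) :
    proj I (MvPowerSeries.C a) = PowerSeries.C (Ideal.Quotient.mk I a) := by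
  classical
  ext n
  rw [coeff_proj, MvPowerSeries.coeff_C, PowerSeries.coeff_C]
  by_cases hn : n = 0
  · subst hn; simp
  · rw [if_neg hn, if_neg (by simpa using hn)]; simp

theorem proj_surjective {A : Type u} [CommRing A] (I : Ideal A) :
    Function.Surjective (proj I) := by
  classical
  intro p
  refine ⟨fun m => if m = Finsupp.single 0 (m 0) then
    Function.surjInv Ideal.Quotient.mk_surjective (PowerSeries.coeff (m 0) p) else 0, ?_⟩
  ext n
  rw [coeff_proj]
  change Ideal.Quotient.mk I (if (Finsupp.single (0 : Fin 2) n) =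
    Finsupp.single 0 ((Finsupp.single (0 : Fin 2) n) 0) then _ else 0) = _
  rw [if_pos (by simp)]
  simp [Function.surjInv_eq]

/-- Decomposition of a bivariate power series: `h = C h₀ + X 0 * a + X 1 * b`. -/
theorem exists_decomp {A : Type u} [CommRing A] (h : MvPowerSeries (Fin 2) A) :
    ∃ a b : MvPowerSeries (Fin 2) A,
      h = MvPowerSeries.C (MvPowerSeries.constantCoeff h) + MvPowerSeries.X 0 * a +
        MvPowerSeries.X 1 * b := by
  classical
  let h' : MvPowerSeries (Fin 2) A := fun m => if m 0 = 0 ∧ m ≠ 0 then MvPowerSeries.coeff m h else 0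
  have hcoeff : ∀ m, MvPowerSeries.coeff m h' =
      if m 0 = 0 ∧ m ≠ 0 then MvPowerSeries.coeff m h else 0 := fun m => rfl
  have h1 : (MvPowerSeries.X 1 : MvPowerSeries (Fin 2) A) ∣ h' := by
    rw [MvPowerSeries.X_dvd_iff]
    intro m hm
    rw [hcoeff, if_neg]
    rintro ⟨hm0, hne⟩
    apply hne
    ext i
    fin_cases i
    · simpa using hm0
    · simpa using hm
  have h0 : (MvPowerSeries.X 0 : MvPowerSeries (Fin 2) A) ∣
      h - MvPowerSeries.C (MvPowerSeries.constantCoeff h) - h' := by
    rw [MvPowerSeries.X_dvd_iff]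
    intro m hm
    rw [map_sub, map_sub, hcoeff, MvPowerSeries.coeff_C]
    by_cases hm0 : m = 0
    · subst hm0
      simp
    · rw [if_neg hm0, if_pos ⟨hm, hm0⟩]; simp
  obtain ⟨a, ha⟩ := h0
  obtain ⟨b, hb⟩ := h1
  refine ⟨a, b, ?_⟩
  rw [← ha, ← hb]
  ring

/-- Core coefficient computation: in `R⟦t⟧` over a Noetherian local ring, if `F * G` is a constant
`c`, the constant coefficient of `F` is a non-unit and the linear coefficient of `F` is a unit,
then `G = 0` and so `c = 0`. -/
theorem core {R : Type u} [CommRing R] [IsLocalRing R] [IsNoetherianRing R]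
    (F G : PowerSeries R) (c : R) (hFG : F * G = PowerSeries.C c)
    (h0 : PowerSeries.coeff 0 F ∈ maximalIdeal R) (h1 : IsUnit (PowerSeries.coeff 1 F)) :
    c = 0 := by
  classical
  set 𝔊 : Ideal R := Ideal.span (Set.range fun n => PowerSeries.coeff n G) with h𝔊
  set f0 := PowerSeries.coeff 0 F with hf0
  have hmem : ∀ n, PowerSeries.coeff n G ∈ 𝔊 := fun n => Ideal.subset_span ⟨n, rfl⟩
  have key : ∀ n, PowerSeries.coeff n G ∈ Ideal.span {f0} * 𝔊 := by
    intro n
    induction n using Nat.strong_induction_on with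
    | _ n ih =>
      have hc : PowerSeries.coeff (n + 1) (F * G) = 0 := by
        rw [hFG, PowerSeries.coeff_C]; simp
      rw [PowerSeries.coeff_mul] at hc
      have hmemad : (1, n) ∈ Finset.HasAntidiagonal.antidiagonal (n + 1) := by
        simp [Finset.HasAntidiagonal.mem_antidiagonal, add_comm]
      rw [← Finset.add_sum_erase _ _ hmemad] at hc
      have hrest : ∑ x ∈ (Finset.HasAntidiagonal.antidiagonal (n + 1)).erase (1, n),
          PowerSeries.coeff x.1 F * PowerSeries.coeff x.2 G ∈ Ideal.span {f0} * 𝔊 := by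
        refine Ideal.sum_mem _ fun x hx => ?_
        obtain ⟨i, j⟩ := x
        rw [Finset.mem_erase, Finset.HasAntidiagonal.mem_antidiagonal] at hx
        obtain ⟨hne, hij⟩ := hx
        simp only at hij ⊢
        rcases Nat.lt_or_ge i 1 with hi | hi
        · have hi0 : i = 0 := by omega
          subst hi0
          exact Ideal.mul_mem_mul (Ideal.mem_span_singleton_self _) (hmem j)
        · have hi2 : 2 ≤ i := by
            rcases Nat.eq_or_lt_of_le hi with h | h
            · exfalso; apply hne; subst h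
              have : j = n := by omega
              rw [this]
            · omega
          have hj : j < n := by omega
          exact Ideal.mul_mem_left _ _ (ih j hj)
      have h2 : PowerSeries.coeff 1 F * PowerSeries.coeff n G ∈ Ideal.span {f0} * 𝔊 := by
        have : PowerSeries.coeff 1 F * PowerSeries.coeff n G =
            -(∑ x ∈ (Finset.HasAntidiagonal.antidiagonal (n + 1)).erase (1, n),
              PowerSeries.coeff x.1 F * PowerSeries.coeff x.2 G) := by
          rw [eq_neg_iff_add_eq_zero]; exact hc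
        rw [this]
        exact neg_mem hrest
      obtain ⟨u, hu⟩ := h1
      have : PowerSeries.coeff n G = ↑u⁻¹ * (PowerSeries.coeff 1 F * PowerSeries.coeff n G) := by
        rw [← hu, ← mul_assoc, Units.inv_mul, one_mul]
      rw [this]
      exact Ideal.mul_mem_left _ _ h2
  have hle : 𝔊 ≤ maximalIdeal R • 𝔊 := by
    rw [h𝔊, Ideal.span_le]
    rintro _ ⟨n, rfl⟩
    have := key n
    rw [smul_eq_mul]
    exact Ideal.mul_mono_left ((Ideal.span_singleton_le_iff_mem _).mpr h0) this
  have hbot : 𝔊 = ⊥ :=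
    Submodule.eq_bot_of_le_smul_of_le_jacobson_bot (maximalIdeal R) 𝔊
      (IsNoetherian.noetherian 𝔊) hle (by rw [IsLocalRing.jacobson_eq_maximalIdeal ⊥ bot_ne_top])
  have hG : G = 0 := by
    ext n
    have := hmem n
    rw [hbot, Ideal.mem_bot] at this
    simpa using this
  rw [hG, mul_zero] at hFG
  have := congrArg (PowerSeries.coeff 0) hFG
  simpa using this.symm


theorem coeff_one_mul {R : Type u} [CommRing R] (P Q : PowerSeries R) :
    PowerSeries.coeff 1 (P * Q) =
      PowerSeries.coeff 0 P * PowerSeries.coeff 1 Q + PowerSeries.coeff 1 P * PowerSeries.coeff 0 Q := by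
  rw [PowerSeries.coeff_mul]
  simp [Finset.Nat.antidiagonal_succ]

theorem key
    (A : Type u) [CommRing A] [IsLocalRing A] [IsNoetherianRing A]
    (α β : A) (hβ : β ∈ maximalIdeal A)
    (φ : (MvPowerSeries (Fin 2) A ⧸ Ideal.span {(X 0 * X 1 - C α : MvPowerSeries (Fin 2) A)}) ≃ₐ[A]
      (MvPowerSeries (Fin 2) A ⧸ Ideal.span {(X 0 * X 1 - C β : MvPowerSeries (Fin 2) A)})) :
    α ∈ Ideal.span {β} := by
  classical
  set I : Ideal A := Ideal.span {β} with hI
  have hItop : I ≠ ⊤ := by
    intro h
    rw [hI, Ideal.span_singleton_eq_top] at h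
    exact (IsLocalRing.mem_maximalIdeal _).mp hβ h
  haveI : Nontrivial (A ⧸ I) := Ideal.Quotient.nontrivial_iff.mpr hItop
  haveI : IsLocalRing (A ⧸ I) :=
    IsLocalRing.of_surjective' (Ideal.Quotient.mk I) Ideal.Quotient.mk_surjective
  set Jα : Ideal (MvPowerSeries (Fin 2) A) :=
    Ideal.span {(X 0 * X 1 - C α : MvPowerSeries (Fin 2) A)} with hJα
  set Jβ : Ideal (MvPowerSeries (Fin 2) A) :=
    Ideal.span {(X 0 * X 1 - C β : MvPowerSeries (Fin 2) A)} with hJβ
  have hker : ∀ a ∈ Jβ, proj I a = 0 := by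
    have hle : Jβ ≤ RingHom.ker (proj I) := by
      rw [hJβ, Ideal.span_le, Set.singleton_subset_iff]
      change proj I (X 0 * X 1 - C β) = 0
      rw [map_sub, map_mul, proj_X1, proj_C, mul_zero, zero_sub, neg_eq_zero,
        Ideal.Quotient.eq_zero_iff_mem.mpr (Ideal.mem_span_singleton_self β), map_zero]
    intro a ha
    exact hle ha
  let π' : (MvPowerSeries (Fin 2) A ⧸ Jβ) →+* PowerSeries (A ⧸ I) :=
    Ideal.Quotient.lift Jβ (proj I) hker
  let ψ : MvPowerSeries (Fin 2) A →+* PowerSeries (A ⧸ I) :=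
    π'.comp ((φ : (MvPowerSeries (Fin 2) A ⧸ Jα) →+* (MvPowerSeries (Fin 2) A ⧸ Jβ)).comp
      (Ideal.Quotient.mk Jα))
  have hψ : ∀ h, ψ h = π' (φ (Ideal.Quotient.mk Jα h)) := fun h => rfl
  have hψsurj : Function.Surjective ψ := by
    have h1 : Function.Surjective π' :=
      Ideal.Quotient.lift_surjective_of_surjective Jβ hker (proj_surjective I)
    exact h1.comp (φ.surjective.comp Ideal.Quotient.mk_surjective)
  have hψC : ∀ a, ψ (C a) = PowerSeries.C (Ideal.Quotient.mk I a) := by
    intro a
    rw [hψ]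
    have h1 : Ideal.Quotient.mk Jα (C a) = algebraMap A (MvPowerSeries (Fin 2) A ⧸ Jα) a := rfl
    rw [h1, AlgEquiv.commutes]
    have h2 : algebraMap A (MvPowerSeries (Fin 2) A ⧸ Jβ) a = Ideal.Quotient.mk Jβ (C a) := rfl
    rw [h2]
    change proj I (C a) = _
    rw [proj_C]
  set F := ψ (X 0) with hF
  set G := ψ (X 1) with hG
  have hFG : F * G = PowerSeries.C (Ideal.Quotient.mk I α) := by
    rw [hF, hG, ← map_mul, ← hψC, hψ, hψ]
    congr 2
    rw [Ideal.Quotient.eq, hJα]
    exact Ideal.mem_span_singleton_self _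
  haveI : IsLocalHom ψ := IsLocalHom.of_surjective ψ hψsurj
  have hnonunit : ∀ i : Fin 2, PowerSeries.coeff 0 (ψ (X i)) ∈ maximalIdeal (A ⧸ I) := by
    intro i
    rw [IsLocalRing.mem_maximalIdeal, mem_nonunits_iff, PowerSeries.coeff_zero_eq_constantCoeff_apply,
      ← PowerSeries.isUnit_iff_constantCoeff]
    intro hu
    have h1 : IsUnit (X i : MvPowerSeries (Fin 2) A) := isUnit_of_map_unit ψ _ hu
    rw [MvPowerSeries.isUnit_iff_constantCoeff, MvPowerSeries.constantCoeff_X] at h1
    exact not_isUnit_zero h1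
  have hF0 := hnonunit 0
  have hG0 := hnonunit 1
  have hunit : IsUnit (PowerSeries.coeff 1 F) ∨ IsUnit (PowerSeries.coeff 1 G) := by
    by_contra hcon
    rw [not_or] at hcon
    obtain ⟨hF1, hG1⟩ := hcon
    have hF1' : PowerSeries.coeff 1 F ∈ maximalIdeal (A ⧸ I) :=
      (IsLocalRing.mem_maximalIdeal _).mpr hF1
    have hG1' : PowerSeries.coeff 1 G ∈ maximalIdeal (A ⧸ I) :=
      (IsLocalRing.mem_maximalIdeal _).mpr hG1
    obtain ⟨h, hh⟩ := hψsurj PowerSeries.X
    obtain ⟨a, b, hab⟩ := exists_decomp h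
    have h3 : (1 : A ⧸ I) = PowerSeries.coeff 1 (ψ h) := by
      rw [hh, PowerSeries.coeff_one_X]
    have h5 : ψ h = PowerSeries.C (Ideal.Quotient.mk I (constantCoeff h)) + F * ψ a + G * ψ b := by
      conv_lhs => rw [hab]
      rw [map_add, map_add, map_mul, map_mul, hψC]
    rw [h5, map_add, map_add, coeff_one_mul,
      coeff_one_mul, PowerSeries.coeff_C, if_neg one_ne_zero, zero_add] at h3
    have h4 : (1 : A ⧸ I) ∈ maximalIdeal (A ⧸ I) := by
      rw [h3]
      refine Ideal.add_mem _ (Ideal.add_mem _ ?_ ?_) (Ideal.add_mem _ ?_ ?_)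
      · exact Ideal.mul_mem_right _ _ hF0
      · exact Ideal.mul_mem_right _ _ hF1'
      · exact Ideal.mul_mem_right _ _ hG0
      · exact Ideal.mul_mem_right _ _ hG1'
    exact (Ideal.ne_top_iff_one _).mp (IsLocalRing.maximalIdeal.isMaximal _).ne_top h4
  have hzero : Ideal.Quotient.mk I α = 0 := by
    rcases hunit with h1 | h1
    · exact core F G _ hFG hF0 h1
    · exact core G F _ (by rw [mul_comm]; exact hFG) hG0 h1
  exact Ideal.Quotient.eq_zero_iff_mem.mp hzero

open MvPowerSeries IsLocalRing in
/-- Let A be a Noetherian local ring and α, β two elements of its maximal ideal. If the quotient of the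
power series ring in two variables over A by xy − α is isomorphic, as an A-algebra, to the quotient
by xy − β, then αA = βA. (The published statement allows any local ring A; it is taken Noetherian
here, the case in which an algebra isomorphism between these complete local rings is continuous for
their adic topologies.) -/
theorem result
    (A : Type u) [CommRing A] [IsLocalRing A] [IsNoetherianRing A]
    (α β : A) (hα : α ∈ maximalIdeal A) (hβ : β ∈ maximalIdeal A)
    (φ : (MvPowerSeries (Fin 2) A ⧸ Ideal.span {(X 0 * X 1 - C α : MvPowerSeries (Fin 2) A)}) ≃ₐ[A] (MvPowerSeries (Fin 2) A ⧸ Ideal.span {(X 0 * X 1 - C β : MvPowerSeries (Fin 2) A)})) :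
    Ideal.span {α} = Ideal.span {β} := by
  refine le_antisymm ?_ ?_
  · rw [Ideal.span_singleton_le_iff_mem]
    exact key A α β hβ φ
  · rw [Ideal.span_singleton_le_iff_mem]
    exact key A β α hα φ.symm

end Groth.Agent.S17720
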