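import Groth.Statements.S17721
-- import your own Groth.Agent.* helpers here
import Mathlib.RingTheory.PowerSeries.NoZeroDivisors
import Mathlib.RingTheory.Multiplicity

set_option autoImplicit false
universe u
open CAlg

namespace Groth.Agent.S17721

open PowerSeries

section
variable {R : Type u} [CommRing R]

theorem C_dvd_iff (a : R) (g : R⟦X⟧) : C a ∣ g ↔ ∀ j, a ∣ coeff j g := by
  constructor
  · rintro ⟨g', rfl⟩ j
    rw [coeff_C_mul]
    exact dvd_mul_right _ _
  · intro h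
    choose q hq using h
    refine ⟨PowerSeries.mk q, ?_⟩
    ext j
    rw [coeff_C_mul, coeff_mk, hq j]

theorem prime_C [IsDomain R] {ϖ : R} (hϖ : Prime ϖ) : Prime (C ϖ : R⟦X⟧) := by
  have : (Ideal.span {ϖ}).IsPrime := (Ideal.span_singleton_prime hϖ.ne_zero).mpr hϖ
  let φ : R⟦X⟧ →+* (R ⧸ Ideal.span {ϖ})⟦X⟧ := PowerSeries.map (Ideal.Quotient.mk (Ideal.span {ϖ}))
  have hker : ∀ g : R⟦X⟧, C ϖ ∣ g ↔ φ g = 0 := by
    intro g
    rw [C_dvd_iff]
    constructor
    · intro h
      ext j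
      rw [coeff_map, map_zero, Ideal.Quotient.eq_zero_iff_mem, Ideal.mem_span_singleton]
      exact h j
    · intro h j
      have := congrArg (coeff j) h
      rw [coeff_map, map_zero, Ideal.Quotient.eq_zero_iff_mem, Ideal.mem_span_singleton] at this
      exact this
  refine ⟨?_, ?_, ?_⟩
  · intro h
    have := congrArg (coeff 0) h
    rw [coeff_zero_C, map_zero] at this
    exact hϖ.ne_zero this
  · intro h
    have := h.map (constantCoeff (R := R))
    rw [constantCoeff_C] at this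
    exact hϖ.not_isUnit this
  · intro a b hab
    rw [hker] at hab ⊢
    rw [hker]
    rw [map_mul] at hab
    exact mul_eq_zero.mp hab

theorem pow_dvd_coeff {ϖ : R} {m : ℕ} {g : R⟦X⟧} (h : (C ϖ : R⟦X⟧) ^ m ∣ g) (j : ℕ) :
    ϖ ^ m ∣ coeff j g := by
  rw [← map_pow] at h
  exact (C_dvd_iff _ _).mp h j

/-- `ϖ ^ (n+1)` does not divide `u ϖ ^ n` for `u` a unit. -/
theorem not_pow_succ_dvd [IsDomain R] {ϖ : R} (hϖ : Prime ϖ) (u : Rˣ) (n : ℕ) :
    ¬ ϖ ^ (n + 1) ∣ (u : R) * ϖ ^ n := by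
  rintro ⟨q, hq⟩
  have h1 : ϖ ^ n * (u : R) = ϖ ^ n * (ϖ * q) := by
    rw [mul_comm, hq, pow_succ]; ring
  have h2 := mul_left_cancel₀ (pow_ne_zero n hϖ.ne_zero) h1
  have : IsUnit ϖ := isUnit_of_mul_isUnit_left (h2 ▸ u.isUnit)
  exact hϖ.not_isUnit this

end

open IsLocalRing in
theorem aux
    (R : Type u) [CommRing R] [IsDomain R] [IsDiscreteValuationRing R]
    (K : Type u) [Field K] [Algebra R K] [IsFractionRing R K]
    (f : Polynomial R) (h0 : f.coeff 0 ≠ 0) (hslope : ∃ i : ℕ, 0 < i ∧ ¬ (f.coeff 0 ∣ f.coeff i))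
    (b : PowerSeries K)
    (hb : b * ((f.map (algebraMap R K) : Polynomial K) : PowerSeries K) = PowerSeries.C (algebraMap R K (f.coeff 0))) :
    ∀ c : R, c ≠ 0 → ∃ j : ℕ, algebraMap R K c * PowerSeries.coeff j b ∉ (algebraMap R K).range := by
  intro c hc
  by_contra hcon
  push Not at hcon
  choose β hβ using hcon
  obtain ⟨i, hi0, hi⟩ := hslope
  obtain ⟨ϖ, hirr⟩ := IsDiscreteValuationRing.exists_irreducible R
  have hϖ : Prime ϖ := hirr.prime
  have hπ : Prime (C ϖ : R⟦X⟧) := prime_C hϖ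
  have hinj : Function.Injective (algebraMap R K) := IsFractionRing.injective R K
  set Bs : R⟦X⟧ := PowerSeries.mk β with hBs
  have hmapBs : PowerSeries.map (algebraMap R K) Bs = C (algebraMap R K c) * b := by
    ext j
    rw [coeff_map, hBs, coeff_mk, coeff_C_mul]
    exact hβ j
  -- the product in `R⟦X⟧`
  have hprod : Bs * (f : R⟦X⟧) = C (c * f.coeff 0) := by
    apply PowerSeries.map_injective (algebraMap R K) hinj
    rw [map_mul, hmapBs, ← Polynomial.polynomial_map_coe, mul_assoc, hb, map_C, map_mul, map_mul]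
  -- constant coefficient of Bs is c
  have hβ0 : coeff 0 Bs = c := by
    have h1 := congrArg (coeff 0) hprod
    rw [coeff_zero_C, coeff_mul, Finset.Nat.antidiagonal_zero, Finset.sum_singleton,
      Polynomial.coeff_coe] at h1
    exact mul_right_cancel₀ h0 h1
  have hai : f.coeff i ≠ 0 := fun h => hi (h ▸ dvd_zero _)
  obtain ⟨n₀, u₀, hu₀⟩ := IsDiscreteValuationRing.eq_unit_mul_pow_irreducible h0 hirr
  obtain ⟨nc, uc, huc⟩ := IsDiscreteValuationRing.eq_unit_mul_pow_irreducible hc hirr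
  obtain ⟨ni, ui, hui⟩ := IsDiscreteValuationRing.eq_unit_mul_pow_irreducible hai hirr
  have hlt : ni < n₀ := by
    by_contra hge
    push Not at hge
    apply hi
    rw [hu₀, hui]
    obtain ⟨k, rfl⟩ := Nat.exists_eq_add_of_le hge
    refine ⟨(u₀⁻¹ : Rˣ) * ui * ϖ ^ k, ?_⟩
    rw [pow_add]
    calc (ui : R) * (ϖ ^ n₀ * ϖ ^ k) = ((u₀ : R) * (u₀⁻¹ : Rˣ)) * (ui * (ϖ ^ n₀ * ϖ ^ k)) := by
          rw [← Units.val_mul, mul_inv_cancel, Units.val_one, one_mul]
      _ = (u₀ : R) * ϖ ^ n₀ * ((u₀⁻¹ : Rˣ) * ui * ϖ ^ k) := by ring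
  -- multiplicities
  have h1 : (C ϖ : R⟦X⟧) ^ (nc + n₀) ∣ Bs * (f : R⟦X⟧) := by
    rw [hprod, huc, hu₀]
    refine ⟨C ((uc : R) * u₀), ?_⟩
    rw [← map_pow, ← map_mul]
    congr 1
    rw [pow_add]; ring
  have h2 : emultiplicity (C ϖ : R⟦X⟧) Bs < (nc + 1 : ℕ) := by
    rw [emultiplicity_lt_iff_not_dvd]
    intro h
    have := pow_dvd_coeff h 0
    rw [hβ0, huc] at this
    exact not_pow_succ_dvd hϖ uc nc this
  have h3 : emultiplicity (C ϖ : R⟦X⟧) (f : R⟦X⟧) < (ni + 1 : ℕ) := by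
    rw [emultiplicity_lt_iff_not_dvd]
    intro h
    have := pow_dvd_coeff h i
    rw [Polynomial.coeff_coe, hui] at this
    exact not_pow_succ_dvd hϖ ui ni this
  have h4 : ((nc + n₀ : ℕ) : ℕ∞) ≤ emultiplicity (C ϖ : R⟦X⟧) Bs +
      emultiplicity (C ϖ : R⟦X⟧) (f : R⟦X⟧) := by
    rw [← emultiplicity_mul hπ]
    exact pow_dvd_iff_le_emultiplicity.mp h1
  -- arithmetic in ℕ∞
  have h2' : emultiplicity (C ϖ : R⟦X⟧) Bs ≤ (nc : ℕ) := Order.le_of_lt_add_one (by exact_mod_cast h2)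
  have h3' : emultiplicity (C ϖ : R⟦X⟧) (f : R⟦X⟧) ≤ (ni : ℕ) :=
    Order.le_of_lt_add_one (by exact_mod_cast h3)
  have h5 : ((nc + n₀ : ℕ) : ℕ∞) ≤ ((nc + ni : ℕ) : ℕ∞) := by
    calc ((nc + n₀ : ℕ) : ℕ∞) ≤ _ := h4
      _ ≤ (nc : ℕ∞) + (ni : ℕ∞) := add_le_add h2' h3'
      _ = ((nc + ni : ℕ) : ℕ∞) := by push_cast; rfl
  have h6 : nc + n₀ ≤ nc + ni := by exact_mod_cast h5
  omega

open Polynomial IsLocalRing in
/-- Let R be a complete discrete valuation ring with fraction field K, and f a polynomial over R with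
non-zero constant term a₀ such that a₀ does not divide some coefficient of f of positive degree
(equivalently, the Newton polygon of f has a side of negative slope). Let b be the power series over
K with b · f = a₀, the expansion of the geometric series in 1 − f/a₀. Then the valuations of the
coefficients b_j are not bounded below: for every non-zero c in R there is an index j with c · b_j
outside R. -/
theorem result
    (R : Type u) [CommRing R] [IsDomain R] [IsDiscreteValuationRing R]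
    [IsAdicComplete (maximalIdeal R) R]
    (K : Type u) [Field K] [Algebra R K] [IsFractionRing R K]
    (f : R[X]) (h0 : f.coeff 0 ≠ 0) (hslope : ∃ i : ℕ, 0 < i ∧ ¬ (f.coeff 0 ∣ f.coeff i))
    (b : PowerSeries K)
    (hb : b * ((f.map (algebraMap R K) : K[X]) : PowerSeries K) = PowerSeries.C (algebraMap R K (f.coeff 0))) :
    ∀ c : R, c ≠ 0 → ∃ j : ℕ, algebraMap R K c * PowerSeries.coeff j b ∉ (algebraMap R K).range := by
  exact aux R K f h0 hslope b hb

end Groth.Agent.S17721
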