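import Groth.Statements.S17722
-- import your own Groth.Agent.* helpers here
import Mathlib.RingTheory.Flat.FaithfullyFlat.Algebra

set_option autoImplicit false
universe u
open CAlg

namespace Groth.Agent.S17722

open IsLocalRing in
theorem aux
    (R R' : Type u) [CommRing R] [CommRing R']
    [IsLocalRing R']
    [Algebra R R'] [Module.FaithfullyFlat R R']
    (p : Ideal R) (hp : (p.map (algebraMap R R')).IsPrincipal) :
    p.IsPrincipal := by
  obtain ⟨a', ha'⟩ := hp.principal
  change p.map (algebraMap R R') = Ideal.span {a'} at ha'
  have hcm := Ideal.comap_map_eq_self_of_faithfullyFlat (B := R') p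
  -- find `x ∈ p` whose image generates `p R'`
  have key : ∃ x ∈ p, Ideal.span {algebraMap R R' x} = Ideal.span {a'} := by
    by_contra hcon
    push Not at hcon
    have hall : ∀ y ∈ p.map (algebraMap R R'), y ∈ Ideal.span {a'} * maximalIdeal R' := by
      intro y hy
      refine Submodule.span_induction ?_ ?_ ?_ ?_ hy
      · rintro _ ⟨x, hx, rfl⟩
        have hx' : algebraMap R R' x ∈ Ideal.span {a'} := ha' ▸ Ideal.mem_map_of_mem _ hx
        obtain ⟨c, hc⟩ := Ideal.mem_span_singleton'.mp hx'
        have hcu : ¬ IsUnit c := by
          intro hu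
          apply hcon x hx
          rw [← hc]
          exact Ideal.span_singleton_mul_left_unit hu a'
        rw [← hc, mul_comm c a']
        exact Ideal.mul_mem_mul (Ideal.mem_span_singleton_self a')
          ((mem_maximalIdeal c).mpr hcu)
      · exact Ideal.zero_mem _
      · intro x y _ _ hx hy
        exact Ideal.add_mem _ hx hy
      · intro r x _ hx
        exact Ideal.mul_mem_left _ r hx
    have h1 : a' ∈ Ideal.span {a'} * maximalIdeal R' :=
      hall a' (ha' ▸ Ideal.mem_span_singleton_self a')
    obtain ⟨c, hc, hca⟩ := Ideal.mem_span_singleton_mul.mp h1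
    have hu : IsUnit (1 - c) := IsLocalRing.isUnit_one_sub_self_of_mem_nonunits c hc
    have h2 : a' * (1 - c) = 0 := by rw [mul_sub, mul_one, hca, sub_self]
    have h3 : a' = 0 := by
      have := congrArg (· * (hu.unit⁻¹ : R'ˣ).1) h2
      simpa [mul_assoc] using this
    apply hcon 0 p.zero_mem
    rw [map_zero, h3]
  obtain ⟨x, hx, hxa⟩ := key
  refine ⟨⟨x, ?_⟩⟩
  change p = Ideal.span {x}
  rw [← hcm, ha', ← hxa, ← Set.image_singleton, ← Ideal.map_span,
    Ideal.comap_map_eq_self_of_faithfullyFlat]

/-- Let R → R' be a faithfully flat ring map between Noetherian integrally closed local domains, and p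
an ideal of R. If the ideal pR' generated by the image of p is principal, then p is principal. (The
second assertion of the published lemma, descent of unique factorization, is not part of this row.) -/
theorem result
    (R R' : Type u) [CommRing R] [CommRing R'] [IsDomain R] [IsDomain R']
    [IsNoetherianRing R] [IsNoetherianRing R'] [IsLocalRing R] [IsLocalRing R']
    [IsIntegrallyClosed R] [IsIntegrallyClosed R']
    [Algebra R R'] [Module.FaithfullyFlat R R']
    (p : Ideal R) (hp : (p.map (algebraMap R R')).IsPrincipal) :
    p.IsPrincipal := by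
  exact aux R R' p hp

end Groth.Agent.S17722
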