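import Groth.Statements.S17725
-- import your own Groth.Agent.* helpers here
import Mathlib.Topology.NoetherianSpace
import Mathlib.Topology.Sober

set_option autoImplicit false
universe u
open SpecSp

namespace Groth.Agent.S17725

open TopologicalSpace

section
variable {X : Type*} [TopologicalSpace X]

/-- A set saturated for the equivalence relation generated by specialization is closed,
in a quasi-sober space with finitely many irreducible components. -/
theorem isClosed_of_saturated [NoetherianSpace X] [QuasiSober X] (T : Set X)
    (hT : ∀ x ∈ T, ∀ y, Relation.EqvGen (fun x y : X => x ⤳ y) x y → y ∈ T) :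
    IsClosed T := by
  have hfin : (irreducibleComponents X).Finite := NoetherianSpace.finite_irreducibleComponents
  have hEq : T = ⋃ Z ∈ {Z ∈ irreducibleComponents X | (Z ∩ T).Nonempty}, Z := by
    ext x
    simp only [Set.mem_iUnion, Set.mem_ofPred_eq, exists_prop]
    constructor
    · intro hx
      exact ⟨irreducibleComponent x, ⟨irreducibleComponent_mem_irreducibleComponents x,
        ⟨x, mem_irreducibleComponent, hx⟩⟩, mem_irreducibleComponent⟩
    · rintro ⟨Z, ⟨hZ, ⟨z, hzZ, hzT⟩⟩, hxZ⟩
      obtain ⟨η, hη⟩ := QuasiSober.sober hZ.1
        (isClosed_of_mem_irreducibleComponents Z hZ)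
      have h1 : η ⤳ z := hη.specializes hzZ
      have h2 : η ⤳ x := hη.specializes hxZ
      have hηT : η ∈ T := hT z hzT η (Relation.EqvGen.symm _ _ (Relation.EqvGen.rel _ _ h1))
      exact hT η hηT x (Relation.EqvGen.rel _ _ h2)
  rw [hEq]
  exact (hfin.subset (fun Z hZ => hZ.1)).isClosed_biUnion
    fun Z hZ => isClosed_of_mem_irreducibleComponents Z hZ.1

theorem eqvGen_specializes [NoetherianSpace X] [QuasiSober X] [ConnectedSpace X] (p q : X) :
    Relation.EqvGen (fun x y : X => x ⤳ y) p q := by
  set S : Set X := {x | Relation.EqvGen (fun x y : X => x ⤳ y) p x} with hS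
  have h1 : IsClosed S := by
    apply isClosed_of_saturated
    intro x hx y hxy
    exact Relation.EqvGen.trans _ _ _ hx hxy
  have h2 : IsClosed Sᶜ := by
    apply isClosed_of_saturated
    intro x hx y hxy hy
    exact hx (Relation.EqvGen.trans _ _ _ hy (Relation.EqvGen.symm _ _ hxy))
  have hclopen : IsClopen S := ⟨h1, by simpa using h2.isOpen_compl⟩
  have huniv : S = Set.univ := hclopen.eq_univ ⟨p, Relation.EqvGen.refl p⟩
  have : q ∈ S := huniv ▸ Set.mem_univ q
  exact this

end

open AlgebraicGeometry in

open AlgebraicGeometry in
/-- In a connected Noetherian scheme any two points p, q are linked by a finite chain of points p = x₁,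
…, xₙ = q such that for each i one of x_i, x_{i+1} is a specialization of the other; equivalently, p
and q are related by the equivalence relation generated by the specialization relation. -/
theorem result
    (X : Scheme.{u}) [IsNoetherian X] [ConnectedSpace X] (p q : X) :
    Relation.EqvGen (fun x y : X => x ⤳ y) p q := by
  exact eqvGen_specializes p q

end Groth.Agent.S17725
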