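import Groth.Statements.S17726
-- import your own Groth.Agent.* helpers here
import Mathlib.Algebra.Ring.NonZeroDivisors

set_option autoImplicit false
universe u
open CAlg

namespace Groth.Agent.S17726

/-- two non-zero-divisors generating the same principal ideal differ by a unit. -/
theorem exists_unit_mul_of_span_eq {A : Type u} [CommRing A] {x y : A}
    (hx : x ∈ nonZeroDivisors A) (h : Ideal.span {x} = Ideal.span {y}) :
    ∃ u : Aˣ, x = y * u := by
  have h1 : x ∈ Ideal.span {y} := h ▸ Ideal.mem_span_singleton_self x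
  have h2 : y ∈ Ideal.span {x} := h.symm ▸ Ideal.mem_span_singleton_self y
  obtain ⟨c, hc⟩ := Ideal.mem_span_singleton'.mp h1  -- c * y = x
  obtain ⟨d, hd⟩ := Ideal.mem_span_singleton'.mp h2  -- d * x = y
  have h3 : x * (c * d) = x * 1 := by
    rw [mul_one]
    calc x * (c * d) = c * (d * x) := by ring
      _ = x := by rw [hd, hc]
  have h4 : c * d = 1 := (mul_cancel_left_mem_nonZeroDivisors hx).mp h3
  refine ⟨⟨c, d, h4, by rw [mul_comm]; exact h4⟩, ?_⟩
  change x = y * c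
  rw [mul_comm, hc]

/-- if `f` is a non-unit non-zero-divisor and `f ^ a = f ^ b * unit` then `a = b`. -/
theorem pow_eq_of_assoc {A : Type u} [CommRing A] {f : A} (hf : f ∈ nonZeroDivisors A)
    (hfu : ¬ IsUnit f) {a b : ℕ} (u : Aˣ) (h : f ^ a = f ^ b * u) : a = b := by
  rcases lt_trichotomy a b with hab | hab | hab
  · exfalso
    obtain ⟨k, rfl⟩ := Nat.exists_eq_add_of_lt hab
    have h1 : f ^ a * 1 = f ^ a * (f ^ (k + 1) * u) := by
      rw [mul_one]
      calc f ^ a = f ^ (a + k + 1) * u := h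
        _ = f ^ a * (f ^ (k + 1) * u) := by rw [add_assoc, pow_add]; ring
    have h2 := (mul_cancel_left_mem_nonZeroDivisors (pow_mem hf a)).mp h1
    have h3 : IsUnit (f ^ (k + 1)) := by
      have : f ^ (k + 1) * u = 1 := h2.symm
      exact IsUnit.of_mul_eq_one _ this
    exact hfu ((isUnit_pow_iff (Nat.succ_ne_zero k)).mp h3)
  · exact hab
  · exfalso
    obtain ⟨k, rfl⟩ := Nat.exists_eq_add_of_lt hab
    have h1 : f ^ b * (f ^ (k + 1)) = f ^ b * u := by
      calc f ^ b * f ^ (k + 1) = f ^ (b + k + 1) := by rw [add_assoc, ← pow_add]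
        _ = f ^ b * u := h
    have h2 := (mul_cancel_left_mem_nonZeroDivisors (pow_mem hf b)).mp h1
    have h3 : IsUnit (f ^ (k + 1)) := h2 ▸ u.isUnit
    exact hfu ((isUnit_pow_iff (Nat.succ_ne_zero k)).mp h3)

/-- Let f and g be non-zero-divisors of a commutative ring A, not both units; think of them as local
equations, at a point of the union of the supports, of two effective Cartier divisors E and D. If
the ideals generated by g^{m₁} and f^{n₁} coincide, and likewise for g^{m₂} and f^{n₂}, then m₁ n₂ =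
m₂ n₁. So all pairs (m, n) with m D = n E locally at the point are proportional, and the saturation
of the monoid they form is generated by a single element. -/
theorem result
    (A : Type u) [CommRing A] (f g : A)
    (hf : f ∈ nonZeroDivisors A) (hg : g ∈ nonZeroDivisors A) (hfg : ¬ (IsUnit f ∧ IsUnit g))
    (m₁ n₁ m₂ n₂ : ℕ)
    (h₁ : Ideal.span {g ^ m₁} = Ideal.span {f ^ n₁})
    (h₂ : Ideal.span {g ^ m₂} = Ideal.span {f ^ n₂}) :
    m₁ * n₂ = m₂ * n₁ := by
  obtain ⟨u₁, hu₁⟩ := exists_unit_mul_of_span_eq (pow_mem hg m₁) h₁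
  obtain ⟨u₂, hu₂⟩ := exists_unit_mul_of_span_eq (pow_mem hg m₂) h₂
  by_cases hfu : IsUnit f
  · have hgu : ¬ IsUnit g := fun h => hfg ⟨hfu, h⟩
    have hm₁ : m₁ = 0 := by
      by_contra hne
      have : IsUnit (g ^ m₁) := by rw [hu₁]; exact (hfu.pow n₁).mul u₁.isUnit
      exact hgu ((isUnit_pow_iff hne).mp this)
    have hm₂ : m₂ = 0 := by
      by_contra hne
      have : IsUnit (g ^ m₂) := by rw [hu₂]; exact (hfu.pow n₂).mul u₂.isUnit
      exact hgu ((isUnit_pow_iff hne).mp this)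
    rw [hm₁, hm₂, zero_mul, zero_mul]
  · -- g^(m₁ m₂) = f^(n₁ m₂) u₁^m₂ = f^(n₂ m₁) u₂^m₁
    have e1 : g ^ (m₁ * m₂) = f ^ (n₁ * m₂) * (u₁ ^ m₂ : Aˣ) := by
      rw [pow_mul, hu₁, mul_pow, ← pow_mul, Units.val_pow_eq_pow_val]
    have e2 : g ^ (m₁ * m₂) = f ^ (n₂ * m₁) * (u₂ ^ m₁ : Aˣ) := by
      rw [mul_comm m₁ m₂, pow_mul, hu₂, mul_pow, ← pow_mul, Units.val_pow_eq_pow_val]
    have e3 : f ^ (n₁ * m₂) = f ^ (n₂ * m₁) * ((u₂ ^ m₁ * (u₁ ^ m₂)⁻¹ : Aˣ) : A) := by
      have : f ^ (n₁ * m₂) * (u₁ ^ m₂ : Aˣ) = f ^ (n₂ * m₁) * (u₂ ^ m₁ : Aˣ) := e1.symm.trans e2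
      rw [Units.val_mul, ← mul_assoc, ← this, mul_assoc, ← Units.val_mul, mul_inv_cancel,
        Units.val_one, mul_one]
    have := pow_eq_of_assoc hf hfu _ e3
    rw [mul_comm m₁ n₂, ← this, mul_comm]

end Groth.Agent.S17726
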