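import Groth.Statements.S17727
import Mathlib

set_option autoImplicit false
universe u
open Neron

namespace Groth.Agent.S17727

open CategoryTheory AlgebraicGeometry


open CategoryTheory AlgebraicGeometry in
/-- Let f : E → S be a morphism of schemes and U ⊆ S a schematically dense open subscheme such that f
restricts to an isomorphism over U and the preimage of U is schematically dense in E. Then for every
section σ of f and every point s of S there is an open neighbourhood W of σ(s) in E on which f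
restricts to an open immersion. (The published statements conclude that the section lands in the
étale locus of f, in one published form for an algebraic space E, in another for f locally of finite
type over a Noetherian base; the affine-local argument gives the sharper conclusion recorded here,
for schemes.) -/
theorem result
    {E S : Scheme.{u}} (f : E ⟶ S) (U : S.Opens) (hU : CInt.IsSchematicallyDense U)
    (hiso : IsIso (morphismRestrict f U)) (hdense : CInt.IsSchematicallyDense (f ⁻¹ᵁ U))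
    (σ : S ⟶ E) (hσ : σ ≫ f = 𝟙 S) (s : S) :
    ∃ W : E.Opens, σ.base s ∈ W ∧ IsOpenImmersion (W.ι ≫ f) := by
  -- key fact: on `f⁻¹U`, `σ ∘ f` is the identity
  have K : (f ⁻¹ᵁ U).ι ≫ f ≫ σ = (f ⁻¹ᵁ U).ι := by
    set m := (f ⁻¹ᵁ U).ι ≫ f ≫ σ with hm
    have hmf : m ≫ f = (f ⁻¹ᵁ U).ι ≫ f := by
      rw [hm, Category.assoc, Category.assoc, hσ, Category.comp_id]
    have hrange : Set.range m ⊆ Set.range (f ⁻¹ᵁ U).ι := by
      rintro _ ⟨x, rfl⟩
      rw [Scheme.Opens.range_ι]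
      show f (m x) ∈ U
      have : f (m x) = f ((f ⁻¹ᵁ U).ι x) := by
        rw [← Scheme.Hom.comp_apply, hmf, Scheme.Hom.comp_apply]
      rw [this]
      exact x.2
    have hfac := IsOpenImmersion.lift_fac (f ⁻¹ᵁ U).ι m hrange
    set m' := IsOpenImmersion.lift (f ⁻¹ᵁ U).ι m hrange with hm'
    have h1 : m' ≫ (f ∣_ U) = 𝟙 _ ≫ (f ∣_ U) := by
      rw [← cancel_mono U.ι, Category.assoc, morphismRestrict_ι, ← Category.assoc, hfac, hmf,
        Category.id_comp, morphismRestrict_ι]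
    have h2 : m' = 𝟙 _ := (cancel_mono (f ∣_ U)).mp h1
    rw [← hfac, h2, Category.id_comp]
  -- an affine open neighbourhood of `σ s`
  obtain ⟨W₀, hW₀, hsW₀⟩ : ∃ W₀ : E.Opens, IsAffineOpen W₀ ∧ σ.base s ∈ W₀ := by
    obtain ⟨_, ⟨W₀, hW₀, rfl⟩, hsW₀, -⟩ :=
      E.isBasis_affineOpens.exists_subset_of_mem_open (Set.mem_univ (σ.base s)) isOpen_univ
    exact ⟨W₀, hW₀, hsW₀⟩
  have hW₀' : IsAffine W₀.toScheme := hW₀
  let V₀ : S.Opens := σ ⁻¹ᵁ W₀
  let W : E.Opens := W₀ ⊓ f ⁻¹ᵁ V₀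
  have hWV : W ≤ f ⁻¹ᵁ V₀ := inf_le_right
  have hVW : V₀ ≤ σ ⁻¹ᵁ W := by
    intro v hv
    refine ⟨hv, ?_⟩
    show f (σ v) ∈ V₀
    rw [← Scheme.Hom.comp_apply, hσ]
    exact hv
  have hsW : σ.base s ∈ W := by
    refine ⟨hsW₀, ?_⟩
    show f (σ s) ∈ V₀
    rw [← Scheme.Hom.comp_apply, hσ]
    exact hsW₀
  let f' : W.toScheme ⟶ V₀.toScheme := f.resLE V₀ W hWV
  let σ' : V₀.toScheme ⟶ W.toScheme := σ.resLE W V₀ hVW
  have hσf : σ' ≫ f' = 𝟙 _ := by
    rw [← cancel_mono V₀.ι, Category.assoc, Scheme.Hom.resLE_comp_ι, ← Category.assoc,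
      Scheme.Hom.resLE_comp_ι, Category.assoc, hσ, Category.comp_id, Category.id_comp]
  -- the other composite
  let g₂ : W.toScheme ⟶ W₀.toScheme := E.homOfLE inf_le_left
  let D : E.Opens := W ⊓ f ⁻¹ᵁ U
  let d : D.toScheme ⟶ W.toScheme := E.homOfLE inf_le_left
  have hdg : d ≫ (f' ≫ σ' ≫ g₂) = d ≫ g₂ := by
    rw [← cancel_mono W₀.ι]
    simp only [Category.assoc, g₂, d, Scheme.homOfLE_ι]
    have e1 : σ' ≫ W.ι = V₀.ι ≫ σ := Scheme.Hom.resLE_comp_ι σ hVW
    have e2 : f' ≫ V₀.ι = W.ι ≫ f := Scheme.Hom.resLE_comp_ι f hWV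
    rw [e1, reassoc_of% e2, Scheme.homOfLE_ι_assoc]
    have hD : D.ι = E.homOfLE (inf_le_right : D ≤ f ⁻¹ᵁ U) ≫ (f ⁻¹ᵁ U).ι :=
      (Scheme.homOfLE_ι _ _).symm
    rw [hD, Category.assoc, K]
  have hdinj : Function.Injective d.appTop.hom := by
    rw [Scheme.homOfLE_appTop]
    have key : ∀ (A B : E.Opens) (_ : A = W) (_ : B = W ⊓ f ⁻¹ᵁ U)
        (i : Opposite.op A ⟶ Opposite.op B), Function.Injective (E.presheaf.map i).hom := by
      intro A B hA hB i
      subst hA hB
      have : i = (homOfLE (inf_le_left : W ⊓ f ⁻¹ᵁ U ≤ W)).op := Subsingleton.elim _ _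
      rw [this]
      exact hdense W
    exact key _ _ (by simp) (by simp [D]) _
  have hg : f' ≫ σ' ≫ g₂ = g₂ := by
    apply ext_of_isAffine
    have h1 := congrArg Scheme.Hom.appTop hdg
    rw [Scheme.Hom.comp_appTop, Scheme.Hom.comp_appTop] at h1
    ext x
    apply hdinj
    exact congrArg (fun k => k.hom x) h1
  have hfσ : f' ≫ σ' = 𝟙 _ := by
    rw [← cancel_mono g₂, Category.assoc, hg, Category.id_comp]
  have hf'iso : IsIso f' := ⟨σ', hfσ, hσf⟩
  refine ⟨W, hsW, ?_⟩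
  have : W.ι ≫ f = f' ≫ V₀.ι := (Scheme.Hom.resLE_comp_ι f hWV).symm
  rw [this]
  infer_instance

end Groth.Agent.S17727
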