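import Groth.Statements.S17733
import Mathlib
import Groth.Agent.Lib.Helper20CDivEq

set_option autoImplicit false
universe u
open CDiv

namespace Groth.Agent.S17733
open CategoryTheory AlgebraicGeometry
open Groth.Agent.Lib.Helper20CDivEq Groth.Agent.Lib.Helper20.EffCartier

theorem isUnit_germ_of_notMem_support {S : Scheme.{u}} (D : S.IdealSheafData) {W : S.Opens}
    (hW : IsAffineOpen W) (d : Γ(S, W)) (hD : D.ideal ⟨W, hW⟩ = Ideal.span {d}) (ξ : S)
    (hξW : ξ ∈ W) (hξ : ξ ∉ (D.support : Set S)) : IsUnit (S.presheaf.germ W ξ hξW d) := by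
  have h1 : ξ ∉ S.zeroLocus (U := W) (D.ideal ⟨W, hW⟩) := fun h =>
    hξ ((Scheme.IdealSheafData.mem_support_iff_of_mem (U := ⟨W, hW⟩) hξW).mpr h)
  rw [Scheme.mem_zeroLocus_iff] at h1
  push Not at h1
  obtain ⟨g, hg, hξg⟩ := h1
  rw [hD] at hg
  obtain ⟨c, rfl⟩ := Ideal.mem_span_singleton'.mp hg
  rw [Scheme.mem_basicOpen _ _ _ hξW, map_mul] at hξg
  exact isUnit_of_mul_isUnit_right hξg

theorem key {S S' : Scheme.{u}} [IsLocallyNoetherian S]
    (hnorm : ∀ x : S, IsDomain (S.presheaf.stalk x) ∧ IsIntegrallyClosed (S.presheaf.stalk x))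
    (f : S' ⟶ S) (hcl : IsClosedMap f.base) (hsurj : Function.Surjective f.base)
    (U : S.Opens) (hU : CInt.IsSchematicallyDense U)
    (D E : S.IdealSheafData)
    (hD : BlowUp.IsEffCartierIdeal D) (hE : BlowUp.IsEffCartierIdeal E)
    (hDU : (D.support : Set S) ⊆ (U : Set S)ᶜ) (hEU : (E.support : Set S) ⊆ (U : Set S)ᶜ)
    (h : D.comap f = E.comap f) (x : S) :
    ∃ W : S.affineOpens, x ∈ W.1 ∧ D.ideal W = E.ideal W := by
  haveI := (hnorm x).1
  obtain ⟨WD, hxWD, dD, hdD, hDD⟩ := hD x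
  obtain ⟨UE, hUE, hxUE, hUEle, eE, heE, hEE⟩ := exists_le_of_isEffCartierIdeal hE x WD.1 hxWD
  obtain ⟨W, hW, hxW, hWle, hdomW⟩ := exists_affineOpen_isDomain x UE hxUE
  have hWWD : W ≤ WD.1 := hWle.trans hUEle
  set d : Γ(S, W) := (S.presheaf.map (homOfLE hWWD).op).hom dD with hd
  set e : Γ(S, W) := (S.presheaf.map (homOfLE hWle).op).hom eE with he
  have hDW : D.ideal ⟨W, hW⟩ = Ideal.span {d} := by
    have := D.map_ideal (U := ⟨W, hW⟩) (V := WD) hWWD
    rw [hDD, Ideal.map_span, Set.image_singleton] at this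
    exact this.symm
  have hEW : E.ideal ⟨W, hW⟩ = Ideal.span {e} := by
    have := E.map_ideal (U := ⟨W, hW⟩) (V := ⟨UE, hUE⟩) hWle
    rw [hEE, Ideal.map_span, Set.image_singleton] at this
    exact this.symm
  have hd0 : d ≠ 0 := by
    intro h0
    have h1 : S.presheaf.germ W x hxW d = S.presheaf.germ WD.1 x hxWD dD :=
      TopCat.Presheaf.germ_res_apply S.presheaf (homOfLE hWWD) x hxW dD
    have h2 := Groth.Agent.Lib.Helper20CDivEq.germ_mem_nonZeroDivisors WD.2 dD hdD ⟨x, hxWD⟩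
    rw [← h1, h0, map_zero] at h2
    exact zero_notMem_nonZeroDivisors h2
  have he0 : e ≠ 0 := by
    intro h0
    have h1 : S.presheaf.germ W x hxW e = S.presheaf.germ UE x hxUE eE :=
      TopCat.Presheaf.germ_res_apply S.presheaf (homOfLE hWle) x hxW eE
    have h2 := Groth.Agent.Lib.Helper20CDivEq.germ_mem_nonZeroDivisors hUE eE heE ⟨x, hxUE⟩
    rw [← h1, h0, map_zero] at h2
    exact zero_notMem_nonZeroDivisors h2
  -- the generic point of `W`
  set ξ : S := hW.fromSpec ⟨⊥, Ideal.isPrime_bot⟩ with hξdef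
  have hξW : ξ ∈ W := fromSpec_mem hW _
  have hξ : ∀ y ∈ W, ξ ⤳ y := by
    intro y hy
    have h1 : (⟨⊥, Ideal.isPrime_bot⟩ : PrimeSpectrum Γ(S, W)) ⤳ hW.primeIdealOf ⟨y, hy⟩ :=
      (PrimeSpectrum.le_iff_specializes _ _).mp bot_le
    have h2 := h1.map hW.fromSpec.continuous
    rwa [hW.fromSpec_primeIdealOf ⟨y, hy⟩] at h2
  have hξU : ξ ∈ U := by
    by_contra hξU
    have hbot : W ⊓ U = ⊥ := by
      rw [eq_bot_iff]
      rintro z ⟨hzW, hzU⟩
      exact hξU ((hξ z hzW).mem_open U.2 hzU)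
    have hinj := hU W
    have hsub : Subsingleton Γ(S, W ⊓ U) := by
      rw [hbot]; infer_instance
    have : (1 : Γ(S, W)) = 0 := hinj (Subsingleton.elim _ _)
    exact one_ne_zero this
  have hdξ : IsUnit (S.presheaf.germ W ξ hξW d) :=
    isUnit_germ_of_notMem_support D hW d hDW ξ hξW (fun hmem => hDU hmem hξU)
  have heξ : IsUnit (S.presheaf.germ W ξ hξW e) :=
    isUnit_germ_of_notMem_support E hW e hEW ξ hξW (fun hmem => hEU hmem hξU)
  have h1 : e ∈ Ideal.span {d} :=
    mem_span_of_comap_le hnorm f hcl hsurj D E h.ge hW d e hd0 hDW hEW ξ hξW hξ hdξ heξ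
  have h2 : d ∈ Ideal.span {e} :=
    mem_span_of_comap_le hnorm f hcl hsurj E D h.le hW e d he0 hEW hDW ξ hξW hξ heξ hdξ
  refine ⟨⟨W, hW⟩, hxW, ?_⟩
  rw [hDW, hEW]
  apply le_antisymm
  · rw [Ideal.span_singleton_le_iff_mem]; exact h2
  · rw [Ideal.span_singleton_le_iff_mem]; exact h1


open CategoryTheory AlgebraicGeometry in
/-- Let S be a locally Noetherian normal scheme (every local ring an integrally closed domain), f : S' →
S a proper morphism whose scheme-theoretic image is S (its kernel ideal sheaf is zero), and U ⊆ S a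
schematically dense open subscheme such that f⁻¹(U) is also schematically dense in S'. Suppose D and
E are effective Cartier divisors of S, encoded by ideal sheaves each locally generated on an affine
open by one non-zero-divisor, with supports disjoint from U. If the pulled-back ideal sheaves of D
and E along f coincide, then D = E. -/
theorem result
    {S S' : Scheme.{u}} [IsLocallyNoetherian S]
    (hnorm : ∀ x : S, IsDomain (S.presheaf.stalk x) ∧ IsIntegrallyClosed (S.presheaf.stalk x))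
    (f : S' ⟶ S) [IsProper f] (hdom : f.ker = ⊥)
    (U : S.Opens) (hU : CInt.IsSchematicallyDense U) (hU' : CInt.IsSchematicallyDense (f ⁻¹ᵁ U))
    (D E : S.IdealSheafData)
    (hD : (∀ x : S, ∃ U : S.affineOpens, x ∈ (U : S.Opens) ∧ ∃ g : Γ(S, U), g ∈ nonZeroDivisors Γ(S, U) ∧ D.ideal U = Ideal.span {g}))
    (hE : (∀ x : S, ∃ U : S.affineOpens, x ∈ (U : S.Opens) ∧ ∃ g : Γ(S, U), g ∈ nonZeroDivisors Γ(S, U) ∧ E.ideal U = Ideal.span {g}))
    (hDU : (D.support : Set S) ⊆ (U : Set S)ᶜ) (hEU : (E.support : Set S) ⊆ (U : Set S)ᶜ)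
    (h : D.comap f = E.comap f) : D = E := by
  have hstd : IsSchemeTheoreticallyDominant f := ⟨hdom⟩
  have hdomi : IsDominant f := inferInstance
  have hcl : IsClosedMap f.base := f.isClosedMap
  have hsurj : Function.Surjective f.base := by
    rw [← Set.range_eq_univ]
    have h1 : IsClosed (Set.range f.base) := hcl.isClosed_range
    rw [← h1.closure_eq]
    exact f.denseRange.closure_eq
  have hkey := key hnorm f hcl hsurj U hU D E hD hE hDU hEU h
  choose W hxW hW using hkey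
  refine Scheme.IdealSheafData.ext_of_iSup_eq_top W ?_ hW
  rw [eq_top_iff]
  intro x _
  exact TopologicalSpace.Opens.mem_iSup.mpr ⟨x, hxW x⟩

end Groth.Agent.S17733
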