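import Groth.Statements.S17738
import Mathlib
import Groth.Agent.Lib.Helper20GalIdem
import Groth.Agent.Lib.Helper4EtNormalSch
import Groth.Agent.S18926

set_option autoImplicit false
universe u
open CategoryTheory AlgebraicGeometry
open QsChow

namespace Groth.Agent.S17738
open CategoryTheory AlgebraicGeometry Limits TensorProduct

lemma etale_field (k L : Type u) [Field k] [Field L] [Algebra k L] [FiniteDimensional k L]
    [IsGalois k L] : Algebra.Etale k L := by
  haveI : Algebra.FormallyEtale k L := Algebra.FormallyEtale.of_isSeparable k L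
  haveI : Algebra.FinitePresentation k L :=
    Algebra.FinitePresentation.of_finiteType.mp inferInstance
  exact ⟨inferInstance, inferInstance⟩

/-- nontrivial idempotent from a disconnected nonempty scheme -/
lemma exists_idem_of_not_connected (Y : Scheme.{u}) [Nonempty Y] (h : ¬ ConnectedSpace Y) :
    ∃ e : Γ(Y, ⊤), e * e = e ∧ e ≠ 0 ∧ e ≠ 1 := by
  have hpre : ¬ PreconnectedSpace Y := fun hp => h { toPreconnectedSpace := hp, toNonempty := ‹_› }
  rw [preconnectedSpace_iff_clopen] at hpre
  push Not at hpre
  obtain ⟨s, hs, hs0, hs1⟩ := hpre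
  obtain ⟨e, he, hes⟩ := Groth.Agent.S18926.exists_idem_of_isClopen s hs
  refine ⟨e, ?_, ?_, ?_⟩
  · have : e * (1 - e) = e - e * e := by ring
    rw [this] at he
    exact (sub_eq_zero.mp he).symm
  · rintro rfl
    rw [← hes] at hs0
    simp at hs0
  · rintro rfl
    apply hs1
    rw [← hes]
    simp


/-- Sections of the base change to a field extension. -/
lemma nonempty_ringEquiv_sections (k : Type u) [Field k] (X : Scheme.{u})
    (s : X ⟶ Spec (CommRingCat.of k)) [CompactSpace X] [QuasiSeparatedSpace X]
    (L : Type u) [Field L] [Algebra k L] :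
    letI : Algebra k Γ(X, ⊤) := ((Scheme.ΓSpecIso (CommRingCat.of k)).inv ≫ s.appTop).hom.toAlgebra
    Nonempty (L ⊗[k] Γ(X, ⊤) ≃+*
      Γ(pullback s (Spec.map (CommRingCat.ofHom (algebraMap k L))), ⊤)) := by
  letI : Algebra k Γ(X, ⊤) := ((Scheme.ΓSpecIso (CommRingCat.of k)).inv ≫ s.appTop).hom.toAlgebra
  set t := Spec.map (CommRingCat.ofHom (algebraMap k L)) with ht
  have H := IsPullback.of_hasPullback s t
  have hUST : (⊤ : (Spec (CommRingCat.of L)).Opens) ≤ t ⁻¹ᵁ ⊤ := le_top
  have hUSX : (⊤ : X.Opens) ≤ s ⁻¹ᵁ ⊤ := le_top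
  have hUY : (⊤ : (pullback s t).Opens) = pullback.fst s t ⁻¹ᵁ ⊤ ⊓ pullback.snd s t ⁻¹ᵁ ⊤ := by
    simp
  haveI : Flat t := by
    rw [ht, HasRingHomProperty.Spec_iff (P := @Flat)]
    simp only [CommRingCat.hom_ofHom]
    rw [RingHom.flat_algebraMap_iff]
    infer_instance
  have hiso := isIso_pushoutSection_of_isQuasiSeparated_of_flat_right H hUST hUSX hUY
    (isAffineOpen_top _) (isAffineOpen_top _) (by simpa using CompactSpace.isCompact_univ)
    (by simpa using isQuasiSeparated_univ)
  have hpo := (isIso_pushoutSection_iff H hUST hUSX hUY).mp hiso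
  simp only [Groth.Agent.S18926.appLE_top] at hpo
  -- replace the base rings by k and L
  have hpo' : IsPushout ((Scheme.ΓSpecIso (CommRingCat.of k)).inv ≫ s.appTop)
      (CommRingCat.ofHom (algebraMap k L))
      ((pullback.fst s t).appTop) ((Scheme.ΓSpecIso (CommRingCat.of L)).inv ≫
        (pullback.snd s t).appTop) := by
    refine hpo.of_iso (Scheme.ΓSpecIso (CommRingCat.of k)) (Iso.refl _)
      (Scheme.ΓSpecIso (CommRingCat.of L)) (Iso.refl _) ?_ ?_ ?_ ?_
    · simp
    · rw [ht, Scheme.ΓSpecIso_naturality]
    · simp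
    · simp
  have hten := (CommRingCat.isPushout_tensorProduct k L Γ(X, ⊤)).flip
  exact ⟨(hten.isoIsPushout _ _ hpo').commRingCatIsoToRingEquiv⟩



/-- Take a field k and an irreducible normal k-variety X (a separated scheme of finite type over k all
of whose local rings are integrally closed domains) and let L be a finite Galois extension of k. If
the base change of X to L is not irreducible, then there is an intermediate field F of L over k,
different from k, such that the structure morphism of X factors through a k-morphism from X to Spec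
F. -/
theorem result
    (k : Type u) [Field k] (X : Scheme.{u}) [X.Over (Spec (CommRingCat.of k))]
    [IrreducibleSpace X] (hX : Pi1.IsNormalScheme X)
    [IsSeparated (X ↘ Spec (CommRingCat.of k))] [LocallyOfFiniteType (X ↘ Spec (CommRingCat.of k))]
    [QuasiCompact (X ↘ Spec (CommRingCat.of k))]
    (L : Type u) [Field L] [Algebra k L] [FiniteDimensional k L] [IsGalois k L]
    (hred : ¬ IrreducibleSpace ↥(Curv2.bc k X L)) :
    ∃ F : IntermediateField k L, F ≠ ⊥ ∧
      ∃ g : X ⟶ Spec (CommRingCat.of F),
        g ≫ Spec.map (CommRingCat.ofHom (algebraMap k F)) = X ↘ Spec (CommRingCat.of k) := by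
  set s := X ↘ Spec (CommRingCat.of k) with hs
  set t := Spec.map (CommRingCat.ofHom (algebraMap k L)) with ht
  -- X is integral
  haveI : IsReduced X := by
    haveI : ∀ x : X, _root_.IsReduced (X.presheaf.stalk x) := fun x => by
      haveI := (hX x).1
      infer_instance
    exact isReduced_of_isReduced_stalk X
  haveI : IsIntegral X := isIntegral_of_irreducibleSpace_of_isReduced X
  -- the projection is finite etale surjective
  haveI : Etale t := by
    rw [ht, HasRingHomProperty.Spec_iff (P := @Etale)]
    simp only [CommRingCat.hom_ofHom]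
    rw [RingHom.etale_algebraMap]
    exact etale_field k L
  haveI : IsFinite t := by
    rw [ht, IsFinite.SpecMap_iff]
    simp only [CommRingCat.hom_ofHom]
    exact RingHom.finite_algebraMap.mpr inferInstance
  haveI : Surjective t := by rw [ht]; infer_instance
  haveI : Etale (pullback.fst s t) := inferInstance
  haveI : IsFinite (pullback.fst s t) := inferInstance
  haveI : Surjective (pullback.fst s t) := inferInstance
  haveI : Nonempty ↥(pullback s t) := by
    obtain ⟨x⟩ := (inferInstance : Nonempty X)
    obtain ⟨y, -⟩ := (pullback.fst s t).surjective x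
    exact ⟨y⟩
  -- not connected
  have hconn : ¬ ConnectedSpace ↥(pullback s t) := by
    intro hc
    obtain ⟨hint, -⟩ := Groth.Agent.Lib.Helper4.EtNormalSch.isIntegral_and_normal_of_finite_etale
      hX (pullback.fst s t)
    exact hred inferInstance
  obtain ⟨e, hee, he0, he1⟩ := exists_idem_of_not_connected (pullback s t) hconn
  -- transport to the tensor product
  haveI : CompactSpace X := (quasiCompact_iff_compactSpace s).mp inferInstance
  haveI : QuasiSeparatedSpace X := (quasiSeparated_iff_quasiSeparatedSpace s).mp inferInstance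
  letI : Algebra k Γ(X, ⊤) := ((Scheme.ΓSpecIso (CommRingCat.of k)).inv ≫ s.appTop).hom.toAlgebra
  obtain ⟨ψ⟩ := nonempty_ringEquiv_sections k X s L
  obtain ⟨F, hF, ⟨α⟩⟩ := Groth.Agent.Lib.Helper20.GalIdem.exists_intermediateField_algHom
    (k := k) (A := Γ(X, ⊤)) (L := L) (ψ.symm e)
    (by rw [← map_mul, hee])
    (by rw [Ne, map_eq_zero_iff _ ψ.symm.injective]; exact he0)
    (by rw [Ne, ← map_one ψ.symm, ψ.symm.injective.eq_iff]; exact he1)
  refine ⟨F, hF, X.toSpecΓ ≫ Spec.map (CommRingCat.ofHom α.toRingHom), ?_⟩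
  rw [Category.assoc, ← Spec.map_comp, ← CommRingCat.ofHom_comp]
  have hα : α.toRingHom.comp (algebraMap k F) = algebraMap k Γ(X, ⊤) := α.comp_algebraMap
  rw [hα]
  change X.toSpecΓ ≫ Spec.map ((Scheme.ΓSpecIso (CommRingCat.of k)).inv ≫ s.appTop) = s
  rw [Spec.map_comp, ← Scheme.toSpecΓ_naturality_assoc, toSpecΓ_SpecMap_ΓSpecIso_inv,
    Category.comp_id]

end Groth.Agent.S17738
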