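import Groth.Statements.S17740
import Mathlib
import Groth.Agent.Lib.Helper16QsChow
-- import your own Groth.Agent.* helpers here

set_option autoImplicit false
set_option linter.style.haveILetI false
set_option linter.unusedSectionVars false
open QsChow

namespace Groth.Agent.S17740

open Groth.Agent.Lib.Helper16QsChow


/-- For an integer n ≥ 2 put s := n / 2 + 1 (integer part) and, for 2 ≤ j ≤ s, let k_j be the integer
part of the base-2 logarithm of (2n - 1)/(2j - 3); let P := F_2[ε_1, …, ε_s]/(ε_1^n, ε_2^(2^k_2), …,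
ε_s^(2^k_s)) over the field F_2 with two elements, and let τ be the F_2-algebra involution of P with
τ(ε_1) = ε_1 and τ(ε_j) = ε_j + ε_1^(2j-3) for 2 ≤ j ≤ s (it exists since (2j-3)·2^k_j ≥ n, and is
unique). Let 1 ≤ m ≤ n. If for some y in P the element y + τ(y) lies in the ideal ε_1^m P, then y +
τ(y) = ε_1^m z for some τ-fixed z in P. Equivalently: the map from the τ-fixed subalgebra modulo
ε_1^m to P modulo ε_1^m induced by the inclusion is injective on the image of id + τ. -/
theorem result (n : ℕ) (hn : 2 ≤ n)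
    (τ : QsChow.P n →ₐ[ZMod 2] QsChow.P n) (hτ1 : τ (QsChow.eps n 1) = QsChow.eps n 1)
    (hτ : ∀ j : ℕ, 2 ≤ j → j ≤ QsChow.numVars n →
      τ (QsChow.eps n j) = QsChow.eps n j + QsChow.eps n 1 ^ (2 * j - 3))
    (m : ℕ) (hm1 : 1 ≤ m) (hmn : m ≤ n) (y : QsChow.P n)
    (hy : y + τ y ∈ Ideal.span ({QsChow.eps n 1 ^ m} : Set (QsChow.P n))) :
    ∃ z : QsChow.P n, τ z = z ∧ y + τ y = QsChow.eps n 1 ^ m * z := by
  have hw := tau_eps_two n τ hτ1 hτ hn
  have hφ := tau_phi n τ hτ1 hτ hn
  obtain ⟨α, β, rfl⟩ := decomp n hn y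
  have hy1 : phi n α + phi n β * eps n 2 + τ (phi n α + phi n β * eps n 2)
      = eps n 1 * phi n β := by
    rw [map_add, map_mul, hφ, hφ, hw]
    linear_combination (phi n α + phi n β * eps n 2) * two_eq_zero n
  rw [hy1] at hy ⊢
  rw [Ideal.mem_span_singleton'] at hy
  obtain ⟨c, hc⟩ := hy
  obtain ⟨m', rfl⟩ : ∃ m', m = m' + 1 := ⟨m - 1, by omega⟩
  have h1 : eps n 1 * (phi n β - eps n 1 ^ m' * c) = 0 := by
    rw [pow_succ] at hc
    linear_combination - hc
  obtain ⟨c', hc'⟩ := ann_eps_one n (by omega) _ h1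
  have hnm : n - 1 = m' + (n - (m' + 1)) := by omega
  obtain ⟨α'', β'', hc''⟩ := decomp n hn (c + eps n 1 ^ (n - (m' + 1)) * c')
  have h2 : phi n β = eps n 1 ^ m' * (phi n α'' + phi n β'' * eps n 2) := by
    rw [← hc'', mul_add, ← mul_assoc, ← pow_add, ← hnm]
    linear_combination hc'
  have h3 : eps n 1 ^ (m' + 1) * phi n β'' = 0 := by
    have := congrArg τ h2
    rw [map_mul, map_pow, hτ1, map_add, map_mul, hφ, hφ, hφ, hw, h2] at this
    rw [pow_succ]
    linear_combination - this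
  refine ⟨phi n α'', hφ α'', ?_⟩
  rw [h2, pow_succ]
  rw [pow_succ] at h3
  linear_combination eps n 2 * h3

end Groth.Agent.S17740
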