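import Groth.Statements.S17746
import Mathlib
import Groth.Agent.S17738
import Groth.Agent.Lib.Helper18Sec
import Groth.Agent.Lib.Helper20NormFin
import Groth.Agent.Lib.Helper20NormalSec
import Groth.Agent.Lib.Helper11SmInt
import Groth.Agent.Lib.Helper4EtNormalSch

set_option autoImplicit false
universe u
open CategoryTheory AlgebraicGeometry
open QsChow

namespace Groth.Agent.S17746
open CategoryTheory AlgebraicGeometry Limits


/-- For a field extension K of k (separable algebraic) and a k-scheme X with weight function δ, call
norm subgroup of CH_j(X) the subgroup generated by the classes of the push-forwards to X of j-cycles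
on the base changes X_F, over the intermediate fields F of K over k that are finite over k and
different from k (the quotient by it is the degree-j part of the conormed Chow group of X relative
to K over k). Let L be an intermediate field of K over k that is finite Galois over k, and let X be
a smooth variety over k (smooth, separated and quasi-compact structure morphism) that is connected
and whose base change X_L is not connected. Then for every weight function δ on X (a dimension
function induced from weight 0 on Spec k) and every integer j the norm subgroup of CH_j(X) relative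
to K over k is the whole Chow group: all conormed Chow groups of X vanish. -/
theorem result
    (k : Type u) [Field k] (K : Type u) [Field K] [Algebra k K] [Algebra.IsSeparable k K]
    (L : IntermediateField k K) [FiniteDimensional k L] [IsGalois k L]
    (X : Scheme.{u}) [X.Over (Spec (CommRingCat.of k))]
    (hsm : Smooth (X ↘ Spec (CommRingCat.of k))) [IsSeparated (X ↘ Spec (CommRingCat.of k))]
    [QuasiCompact (X ↘ Spec (CommRingCat.of k))]
    [ConnectedSpace X] (hdisc : ¬ ConnectedSpace ↥(Curv2.bc k X L))
    (δ : X → ℤ) (hδ : Cyc.IsSetup X δ)
    (hcompat : Cyc.DeltaCompat (X ↘ Spec (CommRingCat.of k)) δ (fun _ => 0)) (j : ℤ) :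
    QsChow.normSubgroup k K X δ j = ⊤ := by
  haveI := hsm
  -- Spec k is normal
  have hk : Pi1.IsNormalScheme (Spec (CommRingCat.of k)) := by
    apply Groth.Agent.Lib.Helper20NormalSec.isNormalScheme_of_forall_exists_affine
    intro y
    refine ⟨⊤, isAffineOpen_top _, trivial, ?_⟩
    apply Groth.Agent.Lib.Helper11SmInt.isNormalRing_of_isField
    exact MulEquiv.isField (Field.toIsField k)
      (Scheme.ΓSpecIso (CommRingCat.of k)).commRingCatIsoToRingEquiv.toMulEquiv
  have hX : Pi1.IsNormalScheme X :=
    Groth.Agent.Lib.Helper20NormFin.isNormalScheme_of_smooth hk (X ↘ Spec (CommRingCat.of k))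
  -- X is irreducible
  haveI : LocallyOfFiniteType (X ↘ Spec (CommRingCat.of k)) := inferInstance
  haveI : IsLocallyNoetherian X :=
    LocallyOfFiniteType.isLocallyNoetherian (X ↘ Spec (CommRingCat.of k))
  haveI : CompactSpace X :=
    (quasiCompact_iff_compactSpace (X ↘ Spec (CommRingCat.of k))).mp inferInstance
  haveI : IsNoetherian X := {}
  haveI : IrreducibleSpace X :=
    Groth.Agent.Lib.Helper4.EtNormalSch.irreducibleSpace_of_connected (fun t => (hX t).1)
      TopologicalSpace.NoetherianSpace.finite_irreducibleComponents
  have hred : ¬ IrreducibleSpace ↥(Curv2.bc k X L) := fun h => hdisc inferInstance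
  obtain ⟨F, hF, g, hg⟩ := Groth.Agent.S17738.result k X hX L hred
  -- lift to K
  let F' : IntermediateField k K := IntermediateField.lift F
  let e : F ≃ₐ[k] F' := IntermediateField.liftAlgEquiv F
  haveI : FiniteDimensional k F := inferInstance
  haveI : FiniteDimensional k F' := e.toLinearEquiv.finiteDimensional
  have hF' : F' ≠ ⊥ := by
    intro h
    apply hF
    apply IntermediateField.lift_injective L
    rw [show IntermediateField.lift F = ⊥ from h]
    simp
  refine Groth.Agent.Helper18Sec.main3 k K F' hF' X
    (g ≫ Spec.map (CommRingCat.ofHom (e.symm : F' →ₐ[k] F).toRingHom)) ?_ δ j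
  rw [Category.assoc, ← Spec.map_comp, ← CommRingCat.ofHom_comp]
  have : ((e.symm : F' →ₐ[k] F).toRingHom).comp (algebraMap k F') = algebraMap k F :=
    (e.symm : F' →ₐ[k] F).comp_algebraMap
  rw [this, hg]

end Groth.Agent.S17746
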