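import Groth.Statements.S17747
import Mathlib
import Groth.Agent.Lib.Helper16QsChow3
import Groth.Agent.S17741
-- import your own Groth.Agent.* helpers here

set_option autoImplicit false
set_option linter.style.haveILetI false
set_option linter.unusedSectionVars false
open QsChow

namespace Groth.Agent.S17747

open Groth.Agent.Lib.Helper16QsChow MvPolynomial

/-! ### arithmetic for odd `n` -/

lemma twoExp_odd (n : ℕ) (hodd : Odd n) : twoExp n = 0 := by
  unfold twoExp
  apply padicValNat.eq_zero_of_not_dvd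
  exact hodd.not_two_dvd_nat

lemma kprime_one_odd (n : ℕ) (hodd : Odd n) : kprime n 1 = 0 := by
  unfold kprime
  rw [if_pos rfl, twoExp_odd n hodd]

lemma lt_two_pow_klog (n : ℕ) (hn : 2 ≤ n) (hodd : Odd n) : n < 2 ^ klog n 2 := by
  have h1 := klog_spec n 2 le_rfl
  have h2 := klog_two_pos n hn
  obtain ⟨K, hK⟩ : ∃ K, klog n 2 = K + 1 := ⟨klog n 2 - 1, by omega⟩
  rw [hK] at h1 ⊢
  obtain ⟨m, rfl⟩ := hodd
  rw [pow_succ] at h1 ⊢
  omega

lemma kprime_two_odd (n : ℕ) (hn : 2 ≤ n) (hodd : Odd n) : kprime n 2 = klog n 2 - 1 := by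
  unfold kprime
  rw [if_neg (by norm_num), if_pos rfl]
  have : klog n 2 = Nat.log 2 n + 1 := by
    unfold klog
    simp only [show 2 * 2 - 3 = 1 from rfl, Nat.div_one]
    rw [Nat.log_eq_iff (Or.inl (by omega))]
    have h1 : 2 ^ Nat.log 2 n ≤ n := Nat.pow_log_le_self 2 (by omega)
    have h2 : n < 2 ^ (Nat.log 2 n + 1) := Nat.lt_pow_succ_log_self (by norm_num) n
    have h3 : 0 < Nat.log 2 n := Nat.log_pos (by norm_num) hn
    obtain ⟨L, hL⟩ : ∃ L, Nat.log 2 n = L + 1 := ⟨Nat.log 2 n - 1, by omega⟩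
    rw [hL] at h1 h2 ⊢
    obtain ⟨m, rfl⟩ := hodd
    rw [pow_succ] at h1 h2
    rw [pow_succ] at h2
    constructor
    · rw [pow_succ, pow_succ]; omega
    · rw [pow_succ, pow_succ, pow_succ]; omega
  omega

lemma kprime_ge_odd (n j : ℕ) (hodd : Odd n) (hj : 3 ≤ j) (hjs : j ≤ numVars n) :
    kprime n j = klog n j := by
  unfold kprime klog
  rw [if_neg (by omega), if_neg (by omega)]
  have hdn : 2 * j - 3 + 2 ≤ n := by
    unfold numVars at hjs; obtain ⟨m, rfl⟩ := hodd; omega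
  generalize hd : 2 * j - 3 = d at hdn
  have hd3 : 3 ≤ d := by omega
  have hpos : 2 * n / d ≠ 0 := by
    have : 1 ≤ 2 * n / d := by
      rw [Nat.le_div_iff_mul_le (by omega)]; omega
    omega
  apply le_antisymm
  · apply Nat.le_log_of_pow_le (by norm_num)
    have h1 : 2 ^ Nat.log 2 (2 * n / d) ≤ 2 * n / d := Nat.pow_log_le_self 2 hpos
    generalize Nat.log 2 (2 * n / d) = k at h1
    rw [Nat.le_div_iff_mul_le (by omega)] at h1 ⊢
    rcases k with _ | k
    · simp only [pow_zero, one_mul]; omega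
    rcases k with _ | k
    · simp only [zero_add, pow_one] at h1 ⊢
      obtain ⟨m, rfl⟩ := hodd
      omega
    · rw [pow_succ, pow_succ] at h1 ⊢
      have e : 2 ^ k * 2 * 2 * d = 4 * (2 ^ k * d) := by ring
      rw [e] at h1 ⊢
      obtain ⟨m, rfl⟩ := hodd
      omega
  · apply Nat.log_mono_right
    apply Nat.div_le_div_right
    omega

lemma lt_mul_klog (n j : ℕ) (hodd : Odd n) (hj : 3 ≤ j) (hjs : j ≤ numVars n) :
    n < (2 * j - 3) * 2 ^ klog n j := by
  have h1 := klog_spec n j (by omega)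
  have hdn : 2 * j - 3 + 2 ≤ n := by
    unfold numVars at hjs; obtain ⟨m, rfl⟩ := hodd; omega
  rcases Nat.eq_zero_or_pos (klog n j) with h0 | h0
  · rw [h0, pow_zero, mul_one] at h1; omega
  · obtain ⟨K, hK⟩ : ∃ K, klog n j = K + 1 := ⟨klog n j - 1, by omega⟩
    rw [hK, pow_succ, ← mul_assoc] at h1 ⊢
    obtain ⟨m, rfl⟩ := hodd
    omega

/-! ### the ideals -/

/-- the ideal generated by `e_1` -/
noncomputable def E1 (n : ℕ) : Ideal (FreeE n) := Ideal.span {X (some (i0 n))}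

lemma e1_pow_mul_mem_E1 (n m : ℕ) (hm : 0 < m) (y : FreeE n) :
    (X (some (i0 n)) : FreeE n) ^ m * y ∈ E1 n := by
  unfold E1
  rw [Ideal.mem_span_singleton]
  exact Dvd.dvd.mul_right (dvd_pow_self _ (by omega)) y

lemma hrel_two_sub (n : ℕ) (hn : 2 ≤ n) (hodd : Odd n) :
    hrel n 2 - (X (some (i1 n hn)) : FreeE n) ^ 2 ^ (klog n 2 - 1) ∈ E1 n := by
  have e := e2_pow_eq n hn
  have h2 : hrel n 2 - (X (some (i1 n hn)) : FreeE n) ^ 2 ^ (klog n 2 - 1) =
      X (some (i0 n)) ^ (2 ^ klog n 2 - n) * X none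
      + ∑ t ∈ Finset.range (klog n 2 - 1), (X (some (i0 n)) : FreeE n) ^ (2 ^ klog n 2 - 2 ^ (t + 1))
        * X (some (i1 n hn)) ^ 2 ^ t := by
    rw [e]; ring
  rw [h2]
  apply Ideal.add_mem
  · exact e1_pow_mul_mem_E1 n _ (by have := lt_two_pow_klog n hn hodd; omega) _
  · apply Ideal.sum_mem
    intro t ht
    rw [Finset.mem_range] at ht
    apply e1_pow_mul_mem_E1
    have : 2 ^ (t + 1) < 2 ^ klog n 2 := Nat.pow_lt_pow_right (by norm_num) (by omega)
    omega

lemma hrel_ge_sub (n : ℕ) (hn : 2 ≤ n) (hodd : Odd n) (i : Fin (numVars n)) (hi : 2 ≤ i.val) :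
    hrel n (i.val + 1) - (X (some i) : FreeE n) ^ 2 ^ klog n (i.val + 1) ∈ E1 n := by
  have e := ei_pow_eq n hn i hi
  rw [bound_ge n i (by omega)] at e
  have h2 : hrel n (i.val + 1) - (X (some i) : FreeE n) ^ 2 ^ klog n (i.val + 1) =
      X (some (i0 n)) ^ ((2 * (i.val + 1) - 3) * 2 ^ klog n (i.val + 1) - n) * X none
      + X (some (i0 n)) ^ ((2 * (i.val + 1) - 4) * 2 ^ klog n (i.val + 1)) * sPoly n (i.val + 1) := by
    rw [e]; ring
  rw [h2]
  apply Ideal.add_mem
  · apply e1_pow_mul_mem_E1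
    have := lt_mul_klog n (i.val + 1) hodd (by omega) i.isLt
    omega
  · apply e1_pow_mul_mem_E1
    have : 0 < 2 ^ klog n (i.val + 1) := by positivity
    have h4 : 1 ≤ 2 * (i.val + 1) - 4 := by omega
    exact Nat.mul_pos (by omega) this

lemma e1_mem (n : ℕ) : (X (some (i0 n)) : FreeE n) ∈ oddIdeal n :=
  Ideal.subset_span (Or.inl (Or.inl (evar_one n).symm))

lemma E1_le (n : ℕ) : E1 n ≤ oddIdeal n := by
  unfold E1
  rw [Ideal.span_le, Set.singleton_subset_iff]
  exact e1_mem n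

lemma x2_mem (n : ℕ) : (X none : FreeE n) ^ 2 ∈ oddIdeal n :=
  Ideal.subset_span (Or.inl (Or.inr rfl))

lemma gen_mem (n : ℕ) (i : Fin (numVars n)) :
    (X (some i) : FreeE n) ^ 2 ^ kprime n (i.val + 1) ∈ oddIdeal n := by
  apply Ideal.subset_span
  right
  refine ⟨i, ?_⟩
  show evar n (i.val + 1) ^ 2 ^ kprime n (i.val + 1) = _
  rw [evar_succ]

lemma presIdeal_le (n : ℕ) (hn : 2 ≤ n) (hodd : Odd n) : presIdeal n ≤ oddIdeal n := by
  unfold presIdeal
  rw [Ideal.span_le]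
  rintro p (hp | ⟨i, rfl⟩)
  · rcases hp with rfl | rfl | rfl
    · rw [evar_one]
      apply E1_le
      have := e1_pow_mul_mem_E1 n n (by omega) 1
      rwa [mul_one] at this
    · rw [evar_one]; exact Ideal.mul_mem_right _ _ (e1_mem n)
    · exact x2_mem n
  · show hrel n (i.val + 1) ∈ oddIdeal n
    by_cases h0 : i.val = 0
    · have : hrel n (i.val + 1) = 0 := by
        unfold hrel
        rw [if_neg (by omega), if_neg (by omega)]
      rw [this]; exact Ideal.zero_mem _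
    by_cases h1 : i.val = 1
    · have hi : i = i1 n hn := Fin.ext h1
      have h3 := E1_le n (hrel_two_sub n hn hodd)
      have h4 := gen_mem n (i1 n hn)
      have e : (i1 n hn).val + 1 = 2 := by simp [i1]
      rw [e, kprime_two_odd n hn hodd] at h4
      have := Ideal.add_mem _ h3 h4
      rw [sub_add_cancel] at this
      rw [h1]; exact this
    · have hi : 2 ≤ i.val := by omega
      have h3 := E1_le n (hrel_ge_sub n hn hodd i hi)
      have h4 := gen_mem n i
      rw [kprime_ge_odd n (i.val + 1) hodd (by omega) i.isLt] at h4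
      have := Ideal.add_mem _ h3 h4
      rwa [sub_add_cancel] at this

lemma oddIdeal_le (n : ℕ) (hn : 2 ≤ n) (hodd : Odd n) : oddIdeal n ≤ E1 n ⊔ presIdeal n := by
  unfold oddIdeal
  rw [Ideal.span_le]
  rintro p (hp | ⟨i, rfl⟩)
  · rcases hp with rfl | rfl
    · rw [evar_one]
      exact Ideal.mem_sup_left (Ideal.subset_span rfl)
    · exact Ideal.mem_sup_right (gen3_mem n)
  · show evar n (i.val + 1) ^ 2 ^ kprime n (i.val + 1) ∈ E1 n ⊔ presIdeal n
    rw [evar_succ]
    by_cases h0 : i.val = 0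
    · have hi : i = i0 n := Fin.ext h0
      rw [h0, kprime_one_odd n hodd, pow_zero, pow_one, hi]
      exact Ideal.mem_sup_left (Ideal.subset_span rfl)
    by_cases h1 : i.val = 1
    · have hi : i = i1 n hn := Fin.ext h1
      rw [h1, kprime_two_odd n hn hodd, hi]
      have h3 : hrel n 2 ∈ E1 n ⊔ presIdeal n := by
        apply Ideal.mem_sup_right
        have := hrel_mem n (i1 n hn)
        have e : (i1 n hn).val + 1 = 2 := by simp [i1]
        rwa [e] at this
      have h4 := Ideal.sub_mem _ h3 (Ideal.mem_sup_left (hrel_two_sub n hn hodd)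
        : _ ∈ E1 n ⊔ presIdeal n)
      rwa [sub_sub_cancel] at h4
    · have hi : 2 ≤ i.val := by omega
      rw [kprime_ge_odd n (i.val + 1) hodd (by omega) i.isLt]
      have h3 : hrel n (i.val + 1) ∈ E1 n ⊔ presIdeal n := Ideal.mem_sup_right (hrel_mem n i)
      have h4 := Ideal.sub_mem _ h3 (Ideal.mem_sup_left (hrel_ge_sub n hn hodd i hi)
        : _ ∈ E1 n ⊔ presIdeal n)
      rwa [sub_sub_cancel] at h4


/-- Let n ≥ 2, s := n / 2 + 1, k_j the integer part of log_2((2n-1)/(2j-3)) for 2 ≤ j ≤ s, P := F_2[ε_1,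
…, ε_s]/(ε_1^n, ε_2^(2^k_2), …, ε_s^(2^k_s)), τ the F_2-algebra involution of P fixing ε_1 and
sending ε_j to ε_j + ε_1^(2j-3) (2 ≤ j ≤ s), and ē_1 := ε_1, ē_2 := ε_2^2 + ε_1ε_2, ē_j := ε_j +
ε_1^(2j-4)ε_2 (j ≥ 3), x̄ := ε_1^(n-1)ε_2; write 2^a for the exact power of 2 dividing n, l for the
integer with n = 2^a(2l-3), and k'_1 := a, k'_2 := the integer part of log_2 n, k'_j := the integer
part of log_2(2n/(2j-3)) for j ≥ 3. Suppose n is odd (so a = 0). Then for a polynomial q in F_2[e_1,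
…, e_s, x] the image φ(q) (φ : e_j ↦ ē_j, x ↦ x̄) lies in ε_1 · P^τ, P^τ the τ-fixed subalgebra, if
and only if q lies in the ideal generated by e_1, x^2 and the powers e_j^(2^k'_j) for 2 ≤ j ≤ s.
Since φ maps onto P^τ, this says that P^τ modulo ε_1 is F_2[e_2, …, e_s, x]/(e_2^(2^k'_2), …,
e_s^(2^k'_s), x^2). -/
theorem result (n : ℕ) (hn : 2 ≤ n)
    (τ : QsChow.P n →ₐ[ZMod 2] QsChow.P n) (hτ1 : τ (QsChow.eps n 1) = QsChow.eps n 1)
    (hτ : ∀ j : ℕ, 2 ≤ j → j ≤ QsChow.numVars n →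
      τ (QsChow.eps n j) = QsChow.eps n j + QsChow.eps n 1 ^ (2 * j - 3))
    (hodd : Odd n) (q : QsChow.FreeE n) :
    (∃ w : QsChow.P n, τ w = w ∧ QsChow.phi n q = QsChow.eps n 1 * w) ↔ q ∈ QsChow.oddIdeal n := by
  constructor
  · rintro ⟨w, hw, hq⟩
    have hr := Groth.Agent.S17741.result n hn τ hτ1 hτ
    have hwr : w ∈ (phi n).range := by
      rw [hr, AlgHom.mem_equalizer]
      exact hw
    obtain ⟨q', rfl⟩ := hwr
    have hker : q - X (some (i0 n)) * q' ∈ RingHom.ker (phi n) := by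
      rw [RingHom.mem_ker, map_sub, map_mul, phi_i0, hq]
      exact sub_self _
    rw [ker_phi_eq n hn] at hker
    have h1 := presIdeal_le n hn hodd hker
    have h2 : X (some (i0 n)) * q' ∈ oddIdeal n := Ideal.mul_mem_right _ _ (e1_mem n)
    have := Ideal.add_mem _ h1 h2
    rwa [sub_add_cancel] at this
  · intro hq
    have h1 := oddIdeal_le n hn hodd hq
    obtain ⟨y, hy, r, hr, rfl⟩ := Submodule.mem_sup.mp h1
    unfold E1 at hy
    rw [Ideal.mem_span_singleton'] at hy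
    obtain ⟨q', rfl⟩ := hy
    refine ⟨phi n q', tau_phi n τ hτ1 hτ hn q', ?_⟩
    have hr0 : phi n r = 0 := by
      rw [← RingHom.mem_ker, ker_phi_eq n hn]; exact hr
    rw [map_add, map_mul, phi_i0, hr0, add_zero, mul_comm]

end Groth.Agent.S17747
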