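import Groth.Statements.S17748
import Mathlib
import Groth.Agent.Lib.Helper16QsChow3
import Groth.Agent.S17741
-- import your own Groth.Agent.* helpers here

set_option autoImplicit false
set_option linter.style.haveILetI false
set_option linter.unusedSectionVars false
open QsChow

namespace Groth.Agent.S17748

open Groth.Agent.Lib.Helper16QsChow MvPolynomial

/-! ### arithmetic for `n = 2^a m`, `m ≥ 3` odd, `a ≥ 1` -/

lemma odd_part_unique (x y d m : ℕ) (h : 2 ^ x * d = 2 ^ y * m) (hd : Odd d) (hm : Odd m) :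
    d = m := by
  apply Nat.dvd_antisymm
  · have : d ∣ 2 ^ y * m := ⟨2 ^ x, by rw [← h]; ring⟩
    exact (Nat.Coprime.pow_right y hd.coprime_two_right).dvd_of_dvd_mul_left this
  · have : m ∣ 2 ^ x * d := ⟨2 ^ y, by rw [h]; ring⟩
    exact (Nat.Coprime.pow_right x hm.coprime_two_right).dvd_of_dvd_mul_left this

section arith

variable {a m n : ℕ}

lemma lIdx_eq (hta : twoExp n = a) (hnm : n = 2 ^ a * m) : lIdx n = (m + 3) / 2 := by
  unfold lIdx
  rw [hta]
  conv_lhs => rw [hnm]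
  rw [Nat.mul_div_cancel_left _ (by positivity)]

lemma two_mul_le (hnm : n = 2 ^ a * m) (ha : 1 ≤ a) : 2 * m ≤ n := by
  rw [hnm]
  apply Nat.mul_le_mul_right
  calc 2 = 2 ^ 1 := rfl
    _ ≤ 2 ^ a := Nat.pow_le_pow_right (by norm_num) ha

lemma three_mul_le (hnm : n = 2 ^ a * m) (hm3 : 3 ≤ m) : 3 * 2 ^ a ≤ n := by
  rw [hnm, mul_comm]
  exact Nat.mul_le_mul_left _ hm3

lemma ne_two_pow (hnm : n = 2 ^ a * m) (hm : Odd m) (hm3 : 3 ≤ m) (k : ℕ) : n ≠ 2 ^ k := by
  intro h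
  have := odd_part_unique a k m 1 (by rw [← hnm, h, mul_one]) hm odd_one
  omega

lemma lt_two_pow_klog (hnm : n = 2 ^ a * m) (hm : Odd m) (hm3 : 3 ≤ m) : n < 2 ^ klog n 2 := by
  have h1 := klog_spec n 2 le_rfl
  have h2 := ne_two_pow hnm hm hm3 (klog n 2)
  simp only [show 2 * 2 - 3 = 1 from rfl, one_mul] at h1
  omega

lemma a_lt_klog (hnm : n = 2 ^ a * m) (hm : Odd m) (hm3 : 3 ≤ m) : a < klog n 2 := by
  have h1 := lt_two_pow_klog hnm hm hm3
  have h2 := three_mul_le hnm hm3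
  have h3 : 2 ^ a < 2 ^ klog n 2 := by
    have : 0 < 2 ^ a := by positivity
    omega
  exact (Nat.pow_lt_pow_iff_right (by norm_num)).mp h3

lemma two_pow_le_sub (hnm : n = 2 ^ a * m) (hm : Odd m) (hm3 : 3 ≤ m) :
    2 ^ a ≤ 2 ^ klog n 2 - n := by
  have h1 := lt_two_pow_klog hnm hm hm3
  have h2 := a_lt_klog hnm hm hm3
  apply Nat.le_of_dvd (by omega)
  apply Nat.dvd_sub
  · exact pow_dvd_pow 2 h2.le
  · exact ⟨m, hnm⟩

lemma two_pow_le_sub' (hnm : n = 2 ^ a * m) (hm : Odd m) (hm3 : 3 ≤ m) (t : ℕ)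
    (ht : t < klog n 2 - 1) : 2 ^ a ≤ 2 ^ klog n 2 - 2 ^ (t + 1) := by
  have h2 := a_lt_klog hnm hm hm3
  obtain ⟨K, hK⟩ : ∃ K, klog n 2 = K + 1 := ⟨klog n 2 - 1, by omega⟩
  rw [hK] at ht h2 ⊢
  have h3 : 2 ^ (t + 1) ≤ 2 ^ K := Nat.pow_le_pow_right (by norm_num) (by omega)
  have h4 : 2 ^ a ≤ 2 ^ K := Nat.pow_le_pow_right (by norm_num) (by omega)
  rw [pow_succ]
  omega

lemma kprime_one (hta : twoExp n = a) : kprime n 1 = a := by
  unfold kprime
  rw [if_pos rfl, hta]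

lemma kprime_two (hn : 2 ≤ n) (hnm : n = 2 ^ a * m) (hm : Odd m) (hm3 : 3 ≤ m) :
    kprime n 2 = klog n 2 - 1 := by
  unfold kprime
  rw [if_neg (by norm_num), if_pos rfl]
  have : klog n 2 = Nat.log 2 n + 1 := by
    unfold klog
    simp only [show 2 * 2 - 3 = 1 from rfl, Nat.div_one]
    rw [Nat.log_eq_iff (Or.inl (by omega))]
    have h1 : 2 ^ Nat.log 2 n ≤ n := Nat.pow_log_le_self 2 (by omega)
    have h2 : n < 2 ^ (Nat.log 2 n + 1) := Nat.lt_pow_succ_log_self (by norm_num) n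
    have h3 := ne_two_pow hnm hm hm3 (Nat.log 2 n)
    rw [pow_succ] at h2
    constructor
    · rw [pow_succ]; omega
    · rw [pow_succ, pow_succ]; omega
  omega

lemma klog_l (hnm : n = 2 ^ a * m) (hm3 : 3 ≤ m) (l : ℕ) (hl : 2 * l - 3 = m) :
    klog n l = a := by
  unfold klog
  rw [hl]
  have hmpos : 0 < m := by omega
  have hle : m ≤ 2 ^ a * m := Nat.le_mul_of_pos_left m (by positivity)
  have hpos : (2 * n - 1) / m ≠ 0 := by
    have : 1 ≤ (2 * n - 1) / m := by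
      rw [Nat.le_div_iff_mul_le hmpos]; omega
    omega
  rw [Nat.log_eq_iff (Or.inr ⟨by norm_num, hpos⟩), Nat.le_div_iff_mul_le hmpos,
    Nat.div_lt_iff_lt_mul hmpos]
  have e : 2 ^ (a + 1) * m = 2 * (2 ^ a * m) := by ring
  rw [e, hnm]
  constructor <;> omega

lemma kprime_l (hnm : n = 2 ^ a * m) (hm3 : 3 ≤ m) (l : ℕ) (hl : 2 * l - 3 = m) :
    kprime n l = a + 1 := by
  unfold kprime
  rw [if_neg (by omega), if_neg (by omega), hl, hnm]
  have : 2 * (2 ^ a * m) / m = 2 ^ (a + 1) := by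
    rw [show 2 * (2 ^ a * m) = 2 ^ (a + 1) * m by ring]
    exact Nat.mul_div_cancel _ (by omega)
  rw [this, Nat.log_pow (by norm_num)]

lemma kprime_ge (hnm : n = 2 ^ a * m) (hm : Odd m) (j : ℕ) (hj : 3 ≤ j) (hjs : j ≤ numVars n)
    (hjl : 2 * j - 3 ≠ m) : kprime n j = klog n j := by
  unfold kprime klog
  rw [if_neg (by omega), if_neg (by omega)]
  have hdn : 2 * j - 3 + 1 ≤ n := by
    unfold numVars at hjs; omega
  have hdodd : Odd (2 * j - 3) := ⟨j - 2, by omega⟩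
  generalize 2 * j - 3 = d at hdn hdodd hjl
  have hd1 : 1 ≤ d := by
    rcases hdodd with ⟨c, rfl⟩; omega
  have hpos : 2 * n / d ≠ 0 := by
    have : 1 ≤ 2 * n / d := by
      rw [Nat.le_div_iff_mul_le (by omega)]; omega
    omega
  apply le_antisymm
  · apply Nat.le_log_of_pow_le (by norm_num)
    have h1 : 2 ^ Nat.log 2 (2 * n / d) ≤ 2 * n / d := Nat.pow_log_le_self 2 hpos
    generalize Nat.log 2 (2 * n / d) = k at h1
    rw [Nat.le_div_iff_mul_le (by omega)] at h1 ⊢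
    have hne : 2 ^ k * d ≠ 2 * n := by
      intro h
      apply hjl
      apply odd_part_unique k (a + 1) d m _ hdodd hm
      rw [h, hnm]; ring
    omega
  · apply Nat.log_mono_right
    apply Nat.div_le_div_right
    omega

lemma lt_mul_klog (hnm : n = 2 ^ a * m) (hm : Odd m) (j : ℕ) (hj : 3 ≤ j)
    (hjl : 2 * j - 3 ≠ m) : n < (2 * j - 3) * 2 ^ klog n j := by
  have h1 := klog_spec n j (by omega)
  have hdodd : Odd (2 * j - 3) := ⟨j - 2, by omega⟩
  have hne : (2 * j - 3) * 2 ^ klog n j ≠ n := by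
    intro h
    apply hjl
    apply odd_part_unique (klog n j) a (2 * j - 3) m _ hdodd hm
    rw [mul_comm, h]; exact hnm
  omega

lemma two_pow_le_mul' (hnm : n = 2 ^ a * m) (hm3 : 3 ≤ m) (j : ℕ) (hj : 3 ≤ j) :
    2 ^ a ≤ (2 * j - 4) * 2 ^ klog n j := by
  have h1 := klog_spec n j (by omega)
  have h2 := three_mul_le hnm hm3
  obtain ⟨c, hc⟩ : ∃ c, 2 * j - 4 = c + 1 := ⟨2 * j - 5, by omega⟩
  have hc' : 2 * j - 3 = c + 2 := by omega
  rw [hc'] at h1
  rw [hc]
  generalize 2 ^ klog n j = Q at h1 ⊢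
  generalize 2 ^ a = A at h2 ⊢
  have e1 : (c + 2) * Q = c * Q + 2 * Q := by ring
  have e2 : (c + 1) * Q = c * Q + Q := by ring
  rw [e1] at h1
  rw [e2]
  by_contra hcon
  omega

end arith


/-! ### the polynomial part -/

lemma two_eq_zero_FreeP (n : ℕ) : (2 : FreeP n) = 0 := by
  have h : (2 : ZMod 2) = 0 := by decide
  have := congrArg (algebraMap (ZMod 2) (FreeP n)) h
  rwa [map_ofNat, map_zero] at this

/-- the preimage of `x̄` under `ψ`. -/
noncomputable def gg (n : ℕ) (hn : 2 ≤ n) (a m : ℕ) (il : Fin (numVars n)) : FreeP n :=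
  X il ^ 2 ^ a + X (i0 n) ^ ((m - 1) * 2 ^ a) * sP n hn a

/-- the ideal `(e_1^(2^a))`. -/
noncomputable def A1 (n a : ℕ) : Ideal (FreeP n) := Ideal.span {X (i0 n) ^ 2 ^ a}

/-- the ideal `(e_1^(2^a), e_1 e_l^(2^a))`. -/
noncomputable def E2 (n a : ℕ) (il : Fin (numVars n)) : Ideal (FreeP n) :=
  A1 n a ⊔ Ideal.span {X (i0 n) * X il ^ 2 ^ a}

lemma mem_A1 (n a k : ℕ) (hk : 2 ^ a ≤ k) (y : FreeP n) : X (i0 n) ^ k * y ∈ A1 n a := by
  unfold A1
  rw [Ideal.mem_span_singleton]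
  exact Dvd.dvd.mul_right (pow_dvd_pow _ hk) y

lemma A1_le_E2 (n a : ℕ) (il : Fin (numVars n)) : A1 n a ≤ E2 n a il := le_sup_left

theorem theta_hrel_two (n : ℕ) (hn : 2 ≤ n) (g : FreeP n) :
    theta n g (hrel n 2) = X (i0 n) ^ (2 ^ klog n 2 - n) * g + sP n hn (klog n 2) := by
  unfold hrel
  rw [if_pos rfl, map_add, map_mul, map_pow, evar_one, theta_some, xvar, theta_none,
    ← rename_sP n hn 2, theta_rename]

theorem theta_hrel_ge (n : ℕ) (hn : 2 ≤ n) (g : FreeP n) (i : Fin (numVars n)) (hi : 2 ≤ i.val) :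
    theta n g (hrel n (i.val + 1)) = X i ^ 2 ^ klog n (i.val + 1)
      + X (i0 n) ^ ((2 * (i.val + 1) - 3) * 2 ^ klog n (i.val + 1) - n) * g
      + X (i0 n) ^ ((2 * (i.val + 1) - 4) * 2 ^ klog n (i.val + 1))
        * sP n hn (klog n (i.val + 1)) := by
  have hrel_eq : hrel n (i.val + 1) = X (some i) ^ 2 ^ klog n (i.val + 1)
      + X (some (i0 n)) ^ ((2 * (i.val + 1) - 3) * 2 ^ klog n (i.val + 1) - n) * X none
      + X (some (i0 n)) ^ ((2 * (i.val + 1) - 4) * 2 ^ klog n (i.val + 1))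
        * sPoly n (i.val + 1) := by
    unfold hrel
    rw [if_neg (by omega), if_pos ⟨by omega, i.isLt⟩, evar_one, evar_succ]
    rfl
  rw [hrel_eq, map_add, map_add, map_mul, map_mul, map_pow, map_pow, map_pow, theta_some,
    theta_some, theta_none, ← rename_sP n hn, theta_rename]

section poly

variable {a m n : ℕ} (hn : 2 ≤ n) (il : Fin (numVars n))

lemma psi_gg (hnm : n = 2 ^ a * m) (hm3 : 3 ≤ m) (hl : 2 * (il.val + 1) - 3 = m) :
    psi n (gg n hn a m il) = eps n 1 ^ (n - 1) * eps n 2 := by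
  have hi : 2 ≤ il.val := by omega
  have hk : klog n (il.val + 1) = a := klog_l hnm hm3 _ hl
  unfold gg
  rw [map_add, map_mul, map_pow, map_pow, psi_X, psi_X, phi_i0, phi_ge n il hi, psi_sP,
    add_pow_two_pow (two_eq_zero n), mul_pow, ← pow_mul]
  have h3 := eps_pow_bound n il
  rw [bound_ge n il (by omega), hk] at h3
  rw [h3, zero_add, eps_two_pow_eq n hn a]
  have e1 : (2 * (il.val + 1) - 4) * 2 ^ a = (m - 1) * 2 ^ a := by congr 1; omega
  rw [e1]
  have e2 : n - 1 = (m - 1) * 2 ^ a + (2 ^ a - 1) := by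
    obtain ⟨c, hc⟩ : ∃ c, m = c + 1 := ⟨m - 1, by omega⟩
    rw [hnm, hc]
    simp only [Nat.add_sub_cancel]
    have : 0 < 2 ^ a := by positivity
    have e : 2 ^ a * (c + 1) = c * 2 ^ a + 2 ^ a := by ring
    rw [e]; omega
  rw [e2, pow_add]
  set S := ∑ t ∈ Finset.range a, eps n 1 ^ (2 ^ a - 2 ^ (t + 1))
    * (eps n 2 ^ 2 + eps n 1 * eps n 2) ^ 2 ^ t with hS
  linear_combination (eps n 1 ^ ((m - 1) * 2 ^ a) * S) * two_eq_zero n

lemma e1_gg_sub (hm3 : 3 ≤ m) :
    X (i0 n) * gg n hn a m il - X (i0 n) * X il ^ 2 ^ a ∈ A1 n a := by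
  have : X (i0 n) * gg n hn a m il - X (i0 n) * X il ^ 2 ^ a
      = X (i0 n) ^ ((m - 1) * 2 ^ a) * (X (i0 n) * sP n hn a) := by
    unfold gg; ring
  rw [this]
  exact mem_A1 n a _ (Nat.le_mul_of_pos_left _ (by omega)) _

lemma e1_pow_gg_mem (hm3 : 3 ≤ m) (k : ℕ) (hk : 0 < k) (y : FreeP n) :
    X (i0 n) ^ k * gg n hn a m il * y ∈ E2 n a il := by
  obtain ⟨d, rfl⟩ : ∃ d, k = d + 1 := ⟨k - 1, by omega⟩
  have : X (i0 n) ^ (d + 1) * gg n hn a m il * y
      = X (i0 n) ^ ((m - 1) * 2 ^ a) * (X (i0 n) ^ (d + 1) * sP n hn a * y)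
        + (X (i0 n) ^ d * y) * (X (i0 n) * X il ^ 2 ^ a) := by
    unfold gg; ring
  rw [this]
  apply Ideal.add_mem
  · exact A1_le_E2 n a il (mem_A1 n a _ (Nat.le_mul_of_pos_left _ (by omega)) _)
  · exact Ideal.mem_sup_right (Ideal.mul_mem_left _ _ (Ideal.subset_span rfl))

lemma gg_sq_sub (hm3 : 3 ≤ m) :
    gg n hn a m il ^ 2 - X il ^ 2 ^ (a + 1) ∈ A1 n a := by
  have : gg n hn a m il ^ 2 - X il ^ 2 ^ (a + 1)
      = X (i0 n) ^ ((m - 1) * 2 ^ a) * (X (i0 n) ^ ((m - 1) * 2 ^ a) * sP n hn a ^ 2) := by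
    unfold gg
    rw [pow_succ 2 a, pow_mul]
    linear_combination (X il ^ 2 ^ a * X (i0 n) ^ ((m - 1) * 2 ^ a) * sP n hn a)
      * two_eq_zero_FreeP n
  rw [this]
  exact mem_A1 n a _ (Nat.le_mul_of_pos_left _ (by omega)) _

lemma theta_hrel_two_sub (hnm : n = 2 ^ a * m) (hm : Odd m) (hm3 : 3 ≤ m) (g : FreeP n) :
    theta n g (hrel n 2) - X (i1 n hn) ^ 2 ^ (klog n 2 - 1) ∈ A1 n a := by
  rw [theta_hrel_two n hn]
  have hK := klog_two_pos n hn
  obtain ⟨K', hK'⟩ : ∃ K', klog n 2 = K' + 1 := ⟨klog n 2 - 1, by omega⟩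
  have h2 : X (i0 n) ^ (2 ^ klog n 2 - n) * g + sP n hn (klog n 2)
        - X (i1 n hn) ^ 2 ^ (klog n 2 - 1)
      = X (i0 n) ^ (2 ^ klog n 2 - n) * g
        + ∑ t ∈ Finset.range (klog n 2 - 1), (X (i0 n) : FreeP n) ^ (2 ^ klog n 2 - 2 ^ (t + 1))
          * X (i1 n hn) ^ 2 ^ t := by
    unfold sP
    rw [hK']
    simp only [Nat.add_sub_cancel]
    rw [Finset.sum_range_succ]
    simp only [Nat.sub_self, pow_zero, one_mul]
    ring
  rw [h2]
  apply Ideal.add_mem
  · exact mem_A1 n a _ (two_pow_le_sub hnm hm hm3) _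
  · apply Ideal.sum_mem
    intro t ht
    rw [Finset.mem_range] at ht
    exact mem_A1 n a _ (two_pow_le_sub' hnm hm hm3 t ht) _

lemma theta_hrel_ge_sub (hnm : n = 2 ^ a * m) (hm : Odd m) (hm3 : 3 ≤ m)
    (i : Fin (numVars n)) (hi : 2 ≤ i.val) (hil : 2 * (i.val + 1) - 3 ≠ m) :
    theta n (gg n hn a m il) (hrel n (i.val + 1)) - X i ^ 2 ^ klog n (i.val + 1)
      ∈ E2 n a il := by
  rw [theta_hrel_ge n hn _ i hi]
  have h2 : X i ^ 2 ^ klog n (i.val + 1)
      + X (i0 n) ^ ((2 * (i.val + 1) - 3) * 2 ^ klog n (i.val + 1) - n) * gg n hn a m il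
      + X (i0 n) ^ ((2 * (i.val + 1) - 4) * 2 ^ klog n (i.val + 1))
        * sP n hn (klog n (i.val + 1)) - X i ^ 2 ^ klog n (i.val + 1)
      = X (i0 n) ^ ((2 * (i.val + 1) - 3) * 2 ^ klog n (i.val + 1) - n) * gg n hn a m il * 1
      + X (i0 n) ^ ((2 * (i.val + 1) - 4) * 2 ^ klog n (i.val + 1))
        * sP n hn (klog n (i.val + 1)) := by ring
  rw [h2]
  apply Ideal.add_mem
  · apply e1_pow_gg_mem hn il hm3
    have := lt_mul_klog hnm hm (i.val + 1) (by omega) hil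
    omega
  · exact A1_le_E2 n a il (mem_A1 n a _ (two_pow_le_mul' hnm hm3 (i.val + 1) (by omega)) _)

lemma theta_hrel_l (hnm : n = 2 ^ a * m) (hm3 : 3 ≤ m) (hl : 2 * (il.val + 1) - 3 = m) :
    theta n (gg n hn a m il) (hrel n (il.val + 1)) = 0 := by
  have hi : 2 ≤ il.val := by omega
  have hk : klog n (il.val + 1) = a := klog_l hnm hm3 _ hl
  rw [theta_hrel_ge n hn _ il hi, hk, hl]
  have e1 : m * 2 ^ a - n = 0 := by rw [hnm, mul_comm]; exact Nat.sub_self _
  have e2 : 2 * (il.val + 1) - 4 = m - 1 := by omega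
  rw [e1, e2, pow_zero, one_mul]
  unfold gg
  linear_combination (X il ^ 2 ^ a + X (i0 n) ^ ((m - 1) * 2 ^ a) * sP n hn a)
    * two_eq_zero_FreeP n

end poly

lemma even_gen (n : ℕ) (i : Fin (numVars n)) :
    (X i : FreeP n) ^ 2 ^ kprime n (i.val + 1) ∈ evenIdeal n := by
  apply Ideal.subset_span
  right
  refine ⟨i, ?_⟩
  show evarE n (i.val + 1) ^ 2 ^ kprime n (i.val + 1) = _
  rw [evarE_succ]

lemma even_gen0 (n : ℕ) (il : Fin (numVars n)) (hil : il.val + 1 = lIdx n) :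
    X (i0 n) * X il ^ 2 ^ (kprime n (lIdx n) - 1) ∈ evenIdeal n := by
  apply Ideal.subset_span
  left
  rw [Set.mem_singleton_iff, evarE_one, ← hil, evarE_succ]

section ideals

variable {a m n : ℕ} (hn : 2 ≤ n) (il : Fin (numVars n))
  (hta : twoExp n = a) (hnm : n = 2 ^ a * m) (hm : Odd m) (hm3 : 3 ≤ m)
  (hl : 2 * (il.val + 1) - 3 = m) (hil : il.val + 1 = lIdx n)

include hta in
lemma A1_le_even : A1 n a ≤ evenIdeal n := by
  unfold A1
  rw [Ideal.span_le, Set.singleton_subset_iff]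
  have := even_gen n (i0 n)
  have e : (i0 n).val + 1 = 1 := by simp [i0]
  rw [e, kprime_one hta] at this
  exact this

include hta hnm hm3 hl hil in
lemma E2_le_even : E2 n a il ≤ evenIdeal n := by
  unfold E2
  apply sup_le (A1_le_even hta)
  rw [Ideal.span_le, Set.singleton_subset_iff]
  have := even_gen0 n il hil
  rw [← hil, kprime_l hnm hm3 _ hl] at this
  simpa using this

include hn hta hnm hm hm3 hl hil in
lemma ker_le_even : RingHom.ker (psi n) ≤ evenIdeal n := by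
  have hE2 := E2_le_even il hta hnm hm3 hl hil
  apply ker_psi_le n hn (gg n hn a m il)
  rintro p (hp | ⟨i, rfl⟩)
  · rcases hp with rfl | rfl | rfl
    · rw [map_pow, evar_one, theta_some]
      apply A1_le_even hta
      have h3 := three_mul_le hnm hm3
      have := mem_A1 n a n (by omega) 1
      rwa [mul_one] at this
    · rw [map_mul, evar_one, theta_some, xvar, theta_none]
      have h1 := A1_le_even hta (e1_gg_sub hn il hm3)
      have h2 : X (i0 n) * X il ^ 2 ^ a ∈ evenIdeal n :=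
        hE2 (Ideal.mem_sup_right (Ideal.subset_span rfl))
      have := Ideal.add_mem _ h1 h2
      rwa [sub_add_cancel] at this
    · rw [map_pow, xvar, theta_none]
      have h1 := A1_le_even hta (gg_sq_sub hn il hm3)
      have h2 := even_gen n il
      rw [kprime_l hnm hm3 _ hl] at h2
      have := Ideal.add_mem _ h1 h2
      rwa [sub_add_cancel] at this
  · show theta n _ (hrel n (i.val + 1)) ∈ _
    by_cases h0 : i.val = 0
    · have : hrel n (i.val + 1) = 0 := by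
        unfold hrel
        rw [if_neg (by omega), if_neg (by omega)]
      rw [this, map_zero]; exact Ideal.zero_mem _
    by_cases h1 : i.val = 1
    · have h3 := A1_le_even hta (theta_hrel_two_sub hn hnm hm hm3 (gg n hn a m il))
      have h4 := even_gen n (i1 n hn)
      have e : (i1 n hn).val + 1 = 2 := by simp [i1]
      rw [e, kprime_two hn hnm hm hm3] at h4
      have := Ideal.add_mem _ h3 h4
      rw [sub_add_cancel] at this
      rw [h1]; exact this
    · have hi : 2 ≤ i.val := by omega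
      by_cases hil' : 2 * (i.val + 1) - 3 = m
      · have : i = il := Fin.ext (by omega)
        rw [this, theta_hrel_l hn il hnm hm3 hl]; exact Ideal.zero_mem _
      · have h3 := hE2 (theta_hrel_ge_sub hn il hnm hm hm3 i hi hil')
        have h4 := even_gen n i
        rw [kprime_ge hnm hm (i.val + 1) (by omega) i.isLt hil'] at h4
        have := Ideal.add_mem _ h3 h4
        rwa [sub_add_cancel] at this

include hn hta hnm hm hm3 hl hil in
lemma even_le : evenIdeal n ≤ A1 n a ⊔ RingHom.ker (psi n) := by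
  have hpg := psi_gg hn il hnm hm3 hl
  have hker : ∀ p ∈ presIdeal n, theta n (gg n hn a m il) p ∈ RingHom.ker (psi n) := by
    intro p hp
    rw [RingHom.mem_ker, ← phi_eq_psi_theta n _ hpg, ← RingHom.mem_ker, ker_phi_eq n hn]
    exact hp
  have hA : ∀ p ∈ A1 n a, p ∈ A1 n a ⊔ RingHom.ker (psi n) := fun p hp => Ideal.mem_sup_left hp
  have h0 : X (i0 n) * X il ^ 2 ^ a ∈ A1 n a ⊔ RingHom.ker (psi n) := by
    have h1 : X (i0 n) * gg n hn a m il ∈ A1 n a ⊔ RingHom.ker (psi n) := by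
      apply Ideal.mem_sup_right
      have := hker _ (gen2_mem n)
      rwa [map_mul, theta_some, theta_none] at this
    have := Ideal.sub_mem _ h1 (hA _ (e1_gg_sub hn il hm3))
    rwa [sub_sub_cancel] at this
  have hE2 : E2 n a il ≤ A1 n a ⊔ RingHom.ker (psi n) := by
    unfold E2
    apply sup_le le_sup_left
    rw [Ideal.span_le, Set.singleton_subset_iff]; exact h0
  unfold evenIdeal
  rw [Ideal.span_le]
  rintro p (hp | ⟨i, rfl⟩)
  · rw [Set.mem_singleton_iff] at hp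
    subst hp
    rw [evarE_one, ← hil, evarE_succ, kprime_l hnm hm3 _ hl]
    simpa using h0
  · show evarE n (i.val + 1) ^ 2 ^ kprime n (i.val + 1) ∈ A1 n a ⊔ RingHom.ker (psi n)
    rw [evarE_succ]
    by_cases h0' : i.val = 0
    · have hi : i = i0 n := Fin.ext h0'
      rw [h0', kprime_one hta, hi]
      apply hA
      have := mem_A1 n a (2 ^ a) le_rfl 1
      rwa [mul_one] at this
    by_cases h1 : i.val = 1
    · have hi : i = i1 n hn := Fin.ext h1
      rw [h1, kprime_two hn hnm hm hm3, hi]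
      have h3 : theta n (gg n hn a m il) (hrel n 2) ∈ A1 n a ⊔ RingHom.ker (psi n) := by
        apply Ideal.mem_sup_right
        have := hker _ (hrel_mem n (i1 n hn))
        have e : (i1 n hn).val + 1 = 2 := by simp [i1]
        rwa [e] at this
      have h4 := Ideal.sub_mem _ h3 (hA _ (theta_hrel_two_sub hn hnm hm hm3 (gg n hn a m il)))
      rwa [sub_sub_cancel] at h4
    · have hi : 2 ≤ i.val := by omega
      by_cases hil' : 2 * (i.val + 1) - 3 = m
      · have : i = il := Fin.ext (by omega)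
        rw [this, kprime_l hnm hm3 _ hl]
        have h3 : gg n hn a m il ^ 2 ∈ A1 n a ⊔ RingHom.ker (psi n) := by
          apply Ideal.mem_sup_right
          have := hker _ (gen3_mem n)
          rwa [map_pow, theta_none] at this
        have h4 := Ideal.sub_mem _ h3 (hA _ (gg_sq_sub hn il hm3))
        rwa [sub_sub_cancel] at h4
      · rw [kprime_ge hnm hm (i.val + 1) (by omega) i.isLt hil']
        have h3 : theta n (gg n hn a m il) (hrel n (i.val + 1)) ∈ A1 n a ⊔ RingHom.ker (psi n) :=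
          Ideal.mem_sup_right (hker _ (hrel_mem n i))
        have h4 := Ideal.sub_mem _ h3 (hE2 (theta_hrel_ge_sub hn il hnm hm hm3 i hi hil'))
        rwa [sub_sub_cancel] at h4

end ideals


/-- Let n ≥ 2, s := n / 2 + 1, k_j the integer part of log_2((2n-1)/(2j-3)) for 2 ≤ j ≤ s, P := F_2[ε_1,
…, ε_s]/(ε_1^n, ε_2^(2^k_2), …, ε_s^(2^k_s)), τ the F_2-algebra involution of P fixing ε_1 and
sending ε_j to ε_j + ε_1^(2j-3) (2 ≤ j ≤ s), and ē_1 := ε_1, ē_2 := ε_2^2 + ε_1ε_2, ē_j := ε_j +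
ε_1^(2j-4)ε_2 (j ≥ 3), x̄ := ε_1^(n-1)ε_2; write 2^a for the exact power of 2 dividing n, l for the
integer with n = 2^a(2l-3), and k'_1 := a, k'_2 := the integer part of log_2 n, k'_j := the integer
part of log_2(2n/(2j-3)) for j ≥ 3. Suppose n is even and not a power of 2 — equivalently a ≥ 1 and
n ≠ 2^a, which is how the hypothesis is written — and let ψ : F_2[e_1, …, e_s] → P be the algebra
map with e_j ↦ ē_j. Then (i) for a polynomial q, ψ(q) lies in ε_1^(2^a) · P^τ (P^τ the τ-fixed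
subalgebra) if and only if q lies in the ideal generated by the powers e_j^(2^k'_j) for 1 ≤ j ≤ s
and the product e_1 · e_l^(2^(k'_l - 1)); (ii) every τ-fixed element of P is ψ(q) plus an element of
ε_1^(2^a) · P^τ for some q. That is, P^τ modulo ε_1^(2^a) is F_2[e_1, …, e_s]/(e_1^(2^k'_1), …,
e_s^(2^k'_s), e_1 e_l^(2^(k'_l - 1))) via ψ. -/
theorem result (n : ℕ) (hn : 2 ≤ n)
    (τ : QsChow.P n →ₐ[ZMod 2] QsChow.P n) (hτ1 : τ (QsChow.eps n 1) = QsChow.eps n 1)
    (hτ : ∀ j : ℕ, 2 ≤ j → j ≤ QsChow.numVars n →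
      τ (QsChow.eps n j) = QsChow.eps n j + QsChow.eps n 1 ^ (2 * j - 3))
    (ha : 1 ≤ QsChow.twoExp n) (hne : n ≠ 2 ^ QsChow.twoExp n) :
    (∀ q : QsChow.FreeP n,
      (∃ w : QsChow.P n, τ w = w ∧ QsChow.psi n q = QsChow.eps n 1 ^ 2 ^ QsChow.twoExp n * w) ↔
        q ∈ QsChow.evenIdeal n) ∧
    (∀ z : QsChow.P n, τ z = z → ∃ q : QsChow.FreeP n, ∃ w : QsChow.P n,
      τ w = w ∧ z = QsChow.psi n q + QsChow.eps n 1 ^ 2 ^ QsChow.twoExp n * w) := by
  obtain ⟨a, hta⟩ : ∃ a, twoExp n = a := ⟨_, rfl⟩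
  rw [hta] at ha hne ⊢
  have hn0 : n ≠ 0 := by omega
  obtain ⟨m, hnm⟩ : 2 ^ a ∣ n := by
    rw [← hta]; exact pow_padicValNat_dvd
  have hm : Odd m := by
    by_contra hcon
    rw [Nat.not_odd_iff_even] at hcon
    obtain ⟨c, hc⟩ := hcon
    have : 2 ^ (padicValNat 2 n + 1) ∣ n := by
      show 2 ^ (twoExp n + 1) ∣ n
      rw [hta]
      exact ⟨c, by rw [hnm, hc, pow_succ]; ring⟩
    exact pow_succ_padicValNat_not_dvd hn0 this
  have hm1 : m ≠ 1 := by
    rintro rfl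
    apply hne
    rw [mul_one] at hnm; exact hnm
  have hm0 : m ≠ 0 := by
    rintro rfl
    rw [mul_zero] at hnm; omega
  have hm3 : 3 ≤ m := by
    obtain ⟨c, rfl⟩ := hm; omega
  have hl := lIdx_eq hta hnm
  have h2m := two_mul_le hnm ha
  have hls : lIdx n ≤ numVars n := by
    unfold numVars; rw [hl]; omega
  have hl3 : 3 ≤ lIdx n := by rw [hl]; omega
  obtain ⟨il, hil⟩ : ∃ il : Fin (numVars n), il.val + 1 = lIdx n :=
    ⟨⟨lIdx n - 1, by omega⟩, by simp only []; omega⟩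
  have hlm : 2 * (il.val + 1) - 3 = m := by
    rw [hil, hl]; obtain ⟨c, rfl⟩ := hm; omega
  have hpg := psi_gg hn il hnm hm3 hlm
  have hrange : (psi n).range = AlgHom.equalizer τ (AlgHom.id (ZMod 2) (P n)) := by
    rw [range_psi_eq n _ hpg]
    exact Groth.Agent.S17741.result n hn τ hτ1 hτ
  have hker_le := ker_le_even hn il hta hnm hm hm3 hlm hil
  have heven_le := even_le hn il hta hnm hm hm3 hlm hil
  refine ⟨fun q => ⟨?_, ?_⟩, ?_⟩
  · rintro ⟨w, hw, hq⟩
    have hwr : w ∈ (psi n).range := by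
      rw [hrange, AlgHom.mem_equalizer]; exact hw
    obtain ⟨q', hq'⟩ := hwr
    have hk : q - X (i0 n) ^ 2 ^ a * q' ∈ RingHom.ker (psi n) := by
      rw [RingHom.mem_ker, map_sub, map_mul, map_pow, psi_X, phi_i0, hq, ← hq']
      exact sub_self _
    have h1 : X (i0 n) ^ 2 ^ a * q' ∈ evenIdeal n :=
      A1_le_even hta (mem_A1 n a _ le_rfl q')
    have := Ideal.add_mem _ (hker_le hk) h1
    rwa [sub_add_cancel] at this
  · intro hq
    obtain ⟨y, hy, r, hr, rfl⟩ := Submodule.mem_sup.mp (heven_le hq)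
    unfold A1 at hy
    rw [Ideal.mem_span_singleton'] at hy
    obtain ⟨q', rfl⟩ := hy
    refine ⟨psi n q', ?_, ?_⟩
    · rw [psi_apply]; exact tau_phi n τ hτ1 hτ hn _
    · rw [map_add, map_mul, map_pow, psi_X, phi_i0, RingHom.mem_ker.mp hr, add_zero, mul_comm]
  · intro z hz
    have hzr : z ∈ (psi n).range := by
      rw [hrange, AlgHom.mem_equalizer]; exact hz
    obtain ⟨q, hq⟩ := hzr
    exact ⟨q, 0, map_zero τ, by rw [mul_zero, add_zero]; exact hq.symm⟩

end Groth.Agent.S17748
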