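import Groth.Statements.S17749
import Mathlib
import Groth.Agent.Lib.Helper16QsChow3
import Groth.Agent.S17741
-- import your own Groth.Agent.* helpers here

set_option autoImplicit false
set_option linter.style.haveILetI false
set_option linter.unusedSectionVars false
open QsChow

namespace Groth.Agent.S17749

open Groth.Agent.Lib.Helper16QsChow MvPolynomial

lemma two_le_pow (b : ℕ) (hb : 1 ≤ b) : 2 ≤ 2 ^ b := by
  calc 2 = 2 ^ 1 := rfl
    _ ≤ 2 ^ b := Nat.pow_le_pow_right (by norm_num) hb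

/-- `x̄ = S_b(u, v)` when `n = 2^b`. -/
lemma psi_sP_eq (b : ℕ) (hb : 1 ≤ b) :
    psi (2 ^ b) (sP (2 ^ b) (two_le_pow b hb) b)
      = eps (2 ^ b) 1 ^ (2 ^ b - 1) * eps (2 ^ b) 2 := by
  have hn := two_le_pow b hb
  rw [psi_sP]
  have h1 := eps_two_pow_eq (2 ^ b) hn b
  have h2 := eps_two_pow (2 ^ b) hn
  rw [klog_two_pow b hb] at h2
  rw [h2] at h1
  linear_combination (-1 : P (2 ^ b)) * h1 - (eps (2 ^ b) 1 ^ (2 ^ b - 1) * eps (2 ^ b) 2)
    * two_eq_zero (2 ^ b)

lemma two_eq_zero_FreeP (n : ℕ) : (2 : FreeP n) = 0 := by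
  have h : (2 : ZMod 2) = 0 := by decide
  have := congrArg (algebraMap (ZMod 2) (FreeP n)) h
  rwa [map_ofNat, map_zero] at this

lemma gen0_mem (b : ℕ) (hb : 1 ≤ b) :
    X (i0 (2 ^ b)) * sP (2 ^ b) (two_le_pow b hb) b ∈ powIdeal (2 ^ b) := by
  apply Ideal.subset_span
  left
  rw [Set.mem_singleton_iff, kprime_two_two_pow, evarE_one, evarE_two _ (two_le_pow b hb)]
  rfl

lemma geni_mem (b : ℕ) (i : Fin (numVars (2 ^ b))) :
    (X i : FreeP (2 ^ b)) ^ 2 ^ kprime (2 ^ b) (i.val + 1) ∈ powIdeal (2 ^ b) := by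
  apply Ideal.subset_span
  right
  refine ⟨i, ?_⟩
  show evarE (2 ^ b) (i.val + 1) ^ 2 ^ kprime (2 ^ b) (i.val + 1) = _
  rw [evarE_succ]

lemma X0_pow_mem (b : ℕ) : (X (i0 (2 ^ b)) : FreeP (2 ^ b)) ^ 2 ^ b ∈ powIdeal (2 ^ b) := by
  have := geni_mem b (i0 (2 ^ b))
  have e : (i0 (2 ^ b)).val + 1 = 1 := by simp [i0]
  rw [e, kprime_one_two_pow] at this
  exact this


/-- Let n ≥ 2, s := n / 2 + 1, k_j the integer part of log_2((2n-1)/(2j-3)) for 2 ≤ j ≤ s, P := F_2[ε_1,
…, ε_s]/(ε_1^n, ε_2^(2^k_2), …, ε_s^(2^k_s)), τ the F_2-algebra involution of P fixing ε_1 and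
sending ε_j to ε_j + ε_1^(2j-3) (2 ≤ j ≤ s), and ē_1 := ε_1, ē_2 := ε_2^2 + ε_1ε_2, ē_j := ε_j +
ε_1^(2j-4)ε_2 (j ≥ 3), x̄ := ε_1^(n-1)ε_2; write 2^a for the exact power of 2 dividing n, l for the
integer with n = 2^a(2l-3), and k'_1 := a, k'_2 := the integer part of log_2 n, k'_j := the integer
part of log_2(2n/(2j-3)) for j ≥ 3. Suppose n = 2^a with a ≥ 1 (so ε_1^(2^a) = 0 in P) and let ψ :
F_2[e_1, …, e_s] → P be the algebra map with e_j ↦ ē_j. Then the range of ψ is the τ-fixed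
subalgebra P^τ and the kernel of ψ is the ideal generated by the powers e_j^(2^k'_j) for 1 ≤ j ≤ s
together with e_1 · Σ_{t < k'_2} e_1^(2^k'_2 - 2^(t+1)) e_2^(2^t). That is, P^τ ≅ F_2[e_1, …,
e_s]/(e_1^(2^k'_1), …, e_s^(2^k'_s), e_1 Σ_{t<k'_2} e_1^(2^k'_2 - 2^(t+1)) e_2^(2^t)) via ψ. -/
theorem result (n : ℕ) (hn : 2 ≤ n)
    (τ : QsChow.P n →ₐ[ZMod 2] QsChow.P n) (hτ1 : τ (QsChow.eps n 1) = QsChow.eps n 1)
    (hτ : ∀ j : ℕ, 2 ≤ j → j ≤ QsChow.numVars n →
      τ (QsChow.eps n j) = QsChow.eps n j + QsChow.eps n 1 ^ (2 * j - 3))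
    (b : ℕ) (hb : 1 ≤ b) (hnb : n = 2 ^ b) :
    (QsChow.psi n).range = AlgHom.equalizer τ (AlgHom.id (ZMod 2) (QsChow.P n)) ∧
      RingHom.ker (QsChow.psi n) = QsChow.powIdeal n := by
  subst hnb
  have hK := klog_two_pow b hb
  set g := sP (2 ^ b) hn b with hg
  have hpg : psi (2 ^ b) g = eps (2 ^ b) 1 ^ (2 ^ b - 1) * eps (2 ^ b) 2 := psi_sP_eq b hb
  refine ⟨?_, ?_⟩
  · rw [range_psi_eq (2 ^ b) g hpg]
    exact Groth.Agent.S17741.result (2 ^ b) hn τ hτ1 hτ
  apply le_antisymm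
  · apply ker_psi_le (2 ^ b) hn g
    rintro p (hp | ⟨i, rfl⟩)
    · rcases hp with rfl | rfl | rfl
      · rw [map_pow, evar_one, theta_some]
        exact X0_pow_mem b
      · rw [map_mul, evar_one, theta_some, xvar, theta_none]
        exact gen0_mem b hb
      · rw [map_pow, xvar, theta_none, hg, sP]
        haveI : CharP (FreeP (2 ^ b)) 2 :=
          CharTwo.of_one_ne_zero_of_two_eq_zero one_ne_zero (two_eq_zero_FreeP _)
        rw [sum_pow_char]
        apply Ideal.sum_mem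
        intro t ht
        rw [Finset.mem_range] at ht
        rw [mul_pow, ← pow_mul, ← pow_mul, ← pow_succ]
        by_cases htb : t + 1 = b
        · have e1 : (2 ^ b - 2 ^ (t + 1)) * 2 = 0 := by rw [htb]; simp
          rw [e1, pow_zero, one_mul, htb]
          have := geni_mem b (i1 (2 ^ b) hn)
          have e : (i1 (2 ^ b) hn).val + 1 = 2 := by simp [i1]
          rw [e, kprime_two_two_pow] at this
          exact this
        · have hle : 2 ^ b ≤ (2 ^ b - 2 ^ (t + 1)) * 2 := by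
            have h1 : 2 ^ (t + 2) ≤ 2 ^ b := Nat.pow_le_pow_right (by norm_num) (by omega)
            have h2 : 2 ^ (t + 2) = 2 * 2 ^ (t + 1) := by rw [pow_succ']
            omega
          obtain ⟨d, hd⟩ := Nat.exists_eq_add_of_le hle
          rw [hd, pow_add, mul_assoc]
          exact Ideal.mul_mem_right _ _ (X0_pow_mem b)
    · show theta (2 ^ b) g (hrel (2 ^ b) (i.val + 1)) ∈ _
      by_cases h0 : i.val = 0
      · have : hrel (2 ^ b) (i.val + 1) = 0 := by
          unfold hrel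
          rw [if_neg (by omega), if_neg (by omega)]
        rw [this, map_zero]; exact Ideal.zero_mem _
      by_cases h1 : i.val = 1
      · have : theta (2 ^ b) g (hrel (2 ^ b) (i.val + 1)) = 0 := by
          rw [h1]
          unfold hrel
          rw [if_pos rfl, map_add, map_mul, map_pow, evar_one, theta_some, xvar, theta_none,
            ← rename_sP (2 ^ b) hn 2, theta_rename, hK]
          simp only [Nat.sub_self, pow_zero, one_mul]
          linear_combination g * two_eq_zero_FreeP (2 ^ b)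
        rw [this]; exact Ideal.zero_mem _
      · have hi : 2 ≤ i.val := by omega
        have hrel_eq : hrel (2 ^ b) (i.val + 1) = X (some i) ^ 2 ^ klog (2 ^ b) (i.val + 1)
            + X (some (i0 (2 ^ b))) ^ ((2 * (i.val + 1) - 3) * 2 ^ klog (2 ^ b) (i.val + 1) - 2 ^ b)
              * X none
            + X (some (i0 (2 ^ b))) ^ ((2 * (i.val + 1) - 4) * 2 ^ klog (2 ^ b) (i.val + 1))
              * sPoly (2 ^ b) (i.val + 1) := by
          unfold hrel
          rw [if_neg (by omega), if_pos ⟨by omega, i.isLt⟩, evar_one, evar_succ]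
          rfl
        obtain ⟨hB, hA⟩ := two_pow_le_mul b (i.val + 1) hb (by omega)
        rw [hrel_eq, map_add, map_add, map_mul, map_mul, map_pow, map_pow, map_pow, theta_some,
          theta_some, theta_none, ← rename_sP (2 ^ b) hn, theta_rename]
        apply Ideal.add_mem
        apply Ideal.add_mem
        · have := geni_mem b i
          rwa [kprime_ge_two_pow b (i.val + 1) (by omega)] at this
        · obtain ⟨d, hd⟩ : ∃ d, (2 * (i.val + 1) - 3) * 2 ^ klog (2 ^ b) (i.val + 1) - 2 ^ b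
              = d + 1 := ⟨_, (Nat.succ_pred_eq_of_pos (by omega)).symm⟩
          rw [hd, pow_succ, mul_assoc]
          exact Ideal.mul_mem_left _ _ (gen0_mem b hb)
        · obtain ⟨d, hd⟩ := Nat.exists_eq_add_of_le hB
          rw [hd, pow_add, mul_assoc]
          exact Ideal.mul_mem_right _ _ (X0_pow_mem b)
  · unfold powIdeal
    rw [Ideal.span_le]
    rintro p (hp | ⟨i, rfl⟩)
    · rw [Set.mem_singleton_iff] at hp
      subst hp
      rw [SetLike.mem_coe, RingHom.mem_ker, kprime_two_two_pow, evarE_one, evarE_two _ hn]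
      show psi (2 ^ b) (X (i0 (2 ^ b)) * g) = 0
      rw [map_mul, hpg, psi_X, phi_i0, ← mul_assoc, ← pow_succ',
        show 2 ^ b - 1 + 1 = 2 ^ b by omega, eps_one_pow_n, zero_mul]
    · rw [SetLike.mem_coe, RingHom.mem_ker]
      show psi (2 ^ b) (evarE (2 ^ b) (i.val + 1) ^ 2 ^ kprime (2 ^ b) (i.val + 1)) = 0
      rw [evarE_succ, map_pow, psi_X]
      by_cases h0 : i.val = 0
      · have : i = i0 (2 ^ b) := Fin.ext h0
        rw [this, phi_i0]
        have e : (i0 (2 ^ b)).val + 1 = 1 := by simp [i0]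
        rw [e, kprime_one_two_pow, eps_one_pow_n]
      by_cases h1 : i.val = 1
      · have : i = i1 (2 ^ b) hn := Fin.ext h1
        rw [this, phi_i1]
        have e : (i1 (2 ^ b) hn).val + 1 = 2 := by simp [i1]
        have hw := eps_two_pow (2 ^ b) hn
        rw [hK] at hw
        rw [e, kprime_two_two_pow, add_pow_two_pow (two_eq_zero _), mul_pow, ← pow_mul,
          mul_comm 2 (2 ^ b), pow_mul, hw]
        simp
      · have hi : 2 ≤ i.val := by omega
        obtain ⟨hB, -⟩ := two_pow_le_mul b (i.val + 1) hb (by omega)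
        rw [kprime_ge_two_pow b (i.val + 1) (by omega), phi_ge _ i hi,
          add_pow_two_pow (two_eq_zero _), mul_pow, ← pow_mul]
        have h3 := eps_pow_bound (2 ^ b) i
        rw [bound_ge _ i (by omega)] at h3
        rw [h3, eps_one_pow_eq_zero _ hB]
        simp

end Groth.Agent.S17749
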