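import Groth.Statements.S17754
-- import your own Groth.Agent.* helpers here
import Mathlib

set_option autoImplicit false
universe u
open CAlg

namespace Groth.Agent.S17754

section Helpers

variable (R : Type u) [CommRing R] [IsNoetherianRing R] [IsLocalRing R]

local notation "𝔪" => IsLocalRing.maximalIdeal R

lemma smodEq_pow_iff' {R : Type*} [CommRing R] (J : Ideal R) (n : ℕ) (x y : R) :
    x ≡ y [SMOD (J ^ n • ⊤ : Submodule R R)] ↔ x - y ∈ J ^ n := by
  rw [SModEq.sub_mem, smul_eq_mul, Ideal.mul_top]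

lemma mpow_ne_top (n : ℕ) : 𝔪 ^ (n + 1) ≠ ⊤ :=
  fun h => (IsLocalRing.maximalIdeal.isMaximal R).ne_top
    (top_le_iff.1 (h ▸ Ideal.pow_le_self (Nat.succ_ne_zero n)))

theorem isArtinianRing_quot_mpow (n : ℕ) : IsArtinianRing (R ⧸ 𝔪 ^ (n + 1)) := by
  haveI : Nontrivial (R ⧸ 𝔪 ^ (n + 1)) := Ideal.Quotient.nontrivial_iff.2 (mpow_ne_top R n)
  haveI : IsLocalRing (R ⧸ 𝔪 ^ (n + 1)) :=
    IsLocalRing.of_surjective' (Ideal.Quotient.mk (𝔪 ^ (n + 1))) Ideal.Quotient.mk_surjective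
  have hle : IsLocalRing.maximalIdeal (R ⧸ 𝔪 ^ (n + 1)) ≤
      (𝔪).map (Ideal.Quotient.mk (𝔪 ^ (n + 1))) := by
    intro x hx
    obtain ⟨a, rfl⟩ := Ideal.Quotient.mk_surjective x
    have ha : a ∈ 𝔪 := by
      rw [IsLocalRing.mem_maximalIdeal] at hx ⊢
      exact fun hu => hx (hu.map (Ideal.Quotient.mk (𝔪 ^ (n + 1))))
    exact Ideal.mem_map_of_mem _ ha
  rw [isArtinianRing_iff_isNilpotent_maximalIdeal]
  refine ⟨n + 1, ?_⟩
  rw [Ideal.zero_eq_bot, ← le_bot_iff]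
  calc IsLocalRing.maximalIdeal (R ⧸ 𝔪 ^ (n + 1)) ^ (n + 1)
      ≤ ((𝔪).map (Ideal.Quotient.mk (𝔪 ^ (n + 1)))) ^ (n + 1) := Ideal.pow_right_mono hle _
    _ = (𝔪 ^ (n + 1)).map (Ideal.Quotient.mk (𝔪 ^ (n + 1))) := by rw [← Ideal.map_pow]
    _ = ⊥ := Ideal.map_quotient_self _
    _ ≤ ⊥ := le_rfl

lemma stabilizes_mod_pow (J : ℕ → Ideal R) (hanti : Antitone J) (j : ℕ) :
    ∃ n₀, ∀ n, n₀ ≤ n → J n ⊔ 𝔪 ^ j = J n₀ ⊔ 𝔪 ^ j := by
  cases j with
  | zero =>
    refine ⟨0, fun n _ => ?_⟩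
    rw [pow_zero, Ideal.one_eq_top, sup_top_eq, sup_top_eq]
  | succ j' =>
    haveI : IsArtinianRing (R ⧸ 𝔪 ^ (j' + 1)) := isArtinianRing_quot_mpow R j'
    let f : ℕ →o (Ideal (R ⧸ 𝔪 ^ (j' + 1)))ᵒᵈ :=
      { toFun := fun n => OrderDual.toDual (Ideal.map (Ideal.Quotient.mk (𝔪 ^ (j' + 1))) (J n))
        monotone' := fun m n hmn => OrderDual.toDual_le_toDual.2 (Ideal.map_mono (hanti hmn)) }
    obtain ⟨n₀, hn₀⟩ := IsArtinian.monotone_stabilizes f
    refine ⟨n₀, fun n hn => ?_⟩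
    have h1 : Ideal.map (Ideal.Quotient.mk (𝔪 ^ (j' + 1))) (J n₀) =
        Ideal.map (Ideal.Quotient.mk (𝔪 ^ (j' + 1))) (J n) := hn₀ n hn
    have h2 := congrArg (Ideal.comap (Ideal.Quotient.mk (𝔪 ^ (j' + 1)))) h1
    rw [Ideal.comap_map_of_surjective _ Ideal.Quotient.mk_surjective,
      Ideal.comap_map_of_surjective _ Ideal.Quotient.mk_surjective, ← RingHom.ker_eq_comap_bot,
      Ideal.mk_ker] at h2
    exact h2.symm

/-- Chevalley's lemma for open ideals. -/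
theorem chevalley [IsAdicComplete 𝔪 R] (J : ℕ → Ideal R) (hanti : Antitone J)
    (hopen : ∀ n, ∃ e, 𝔪 ^ e ≤ J n) (N : ℕ) :
    ∃ n, J n ≤ (⨅ i, J i) ⊔ 𝔪 ^ N := by
  choose n₀ hn₀ using stabilizes_mod_pow R J hanti
  let ν : ℕ → ℕ := fun j => Nat.rec (n₀ 0) (fun j' v => max (max v (n₀ (j' + 1))) (j' + 1)) j
  have hν_succ : ∀ j, ν (j + 1) = max (max (ν j) (n₀ (j + 1))) (j + 1) := fun j => rfl
  have hν_mono : ∀ j, ν j ≤ ν (j + 1) := by
    intro j
    rw [hν_succ]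
    exact le_trans (le_max_left _ _) (le_max_left _ _)
  have hν_ge : ∀ j, n₀ j ≤ ν j := by
    intro j
    cases j with
    | zero => exact le_rfl
    | succ j' => rw [hν_succ]; exact le_trans (le_max_right _ _) (le_max_left _ _)
  have hν_id : ∀ j, j ≤ ν j := by
    intro j
    cases j with
    | zero => exact Nat.zero_le _
    | succ j' => rw [hν_succ]; exact le_max_right _ _
  have hstab : ∀ j n, ν j ≤ n → J n ⊔ 𝔪 ^ j = J (ν j) ⊔ 𝔪 ^ j := by
    intro j n hn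
    rw [hn₀ j n (le_trans (hν_ge j) hn), hn₀ j (ν j) (hν_ge j)]
  refine ⟨ν N, ?_⟩
  intro x hx
  have hstep : ∀ (i : ℕ) (z : R), z ∈ J (ν (N + i)) →
      ∃ z' : R, z' ∈ J (ν (N + i + 1)) ∧ z - z' ∈ 𝔪 ^ (N + i) := by
    intro i z hz
    have h1 : z ∈ J (ν (N + i + 1)) ⊔ 𝔪 ^ (N + i) := by
      rw [hstab (N + i) (ν (N + i + 1)) (hν_mono _)]
      exact Submodule.mem_sup_left hz
    obtain ⟨z', hz', e, he, hze⟩ := Submodule.mem_sup.1 h1
    refine ⟨z', hz', ?_⟩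
    have : z - z' = e := by rw [← hze]; ring
    rw [this]
    exact he
  let u : ∀ i : ℕ, {z : R // z ∈ J (ν (N + i))} := fun i =>
    Nat.rec (motive := fun i => {z : R // z ∈ J (ν (N + i))}) ⟨x, hx⟩
      (fun i z => ⟨Classical.choose (hstep i z.1 z.2), (Classical.choose_spec (hstep i z.1 z.2)).1⟩) i
  have hu0 : (u 0).1 = x := rfl
  have hu : ∀ i, (u i).1 - (u (i + 1)).1 ∈ 𝔪 ^ (N + i) := fun i =>
    (Classical.choose_spec (hstep i (u i).1 (u i).2)).2
  have hdiff : ∀ {m n : ℕ}, m ≤ n → (u m).1 - (u n).1 ∈ 𝔪 ^ (N + m) := by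
    intro m n hmn
    induction n, hmn using Nat.le_induction with
    | base => rw [sub_self]; exact Ideal.zero_mem _
    | succ n hmn ih =>
      have : (u m).1 - (u (n + 1)).1 = ((u m).1 - (u n).1) + ((u n).1 - (u (n + 1)).1) := by ring
      rw [this]
      exact Ideal.add_mem _ ih (Ideal.pow_le_pow_right (Nat.add_le_add_left hmn N) (hu n))
  have hcauchy : ∀ {m n : ℕ}, m ≤ n →
      (u m).1 ≡ (u n).1 [SMOD (𝔪 ^ m • ⊤ : Submodule R R)] := by
    intro m n hmn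
    rw [smodEq_pow_iff']
    exact Ideal.pow_le_pow_right (Nat.le_add_left m N) (hdiff hmn)
  obtain ⟨L, hL⟩ := IsPrecomplete.prec' (I := 𝔪) (fun i => (u i).1) hcauchy
  have hL' : ∀ i, (u i).1 - L ∈ 𝔪 ^ i := fun i => by
    have := hL i
    rwa [smodEq_pow_iff'] at this
  have hLJ : L ∈ ⨅ i, J i := by
    rw [Ideal.mem_iInf]
    intro n
    obtain ⟨e, he⟩ := hopen n
    have h1 : (u (max e n)).1 ∈ J n := by
      apply hanti _ (u (max e n)).2
      exact le_trans (le_max_right e n) (le_trans (Nat.le_add_left _ N) (hν_id _))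
    have h2 : (u (max e n)).1 - L ∈ J n :=
      he (Ideal.pow_le_pow_right (le_max_left e n) (hL' (max e n)))
    have : L = (u (max e n)).1 - ((u (max e n)).1 - L) := by ring
    rw [this]
    exact Ideal.sub_mem _ h1 h2
  have hxL : x - L ∈ 𝔪 ^ N := by
    have h1 : (u 0).1 - (u N).1 ∈ 𝔪 ^ (N + 0) := hdiff (Nat.zero_le N)
    have h2 := hL' N
    have : x - L = ((u 0).1 - (u N).1) + ((u N).1 - L) := by rw [hu0]; ring
    rw [this]
    exact Ideal.add_mem _ h1 h2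
  have : x = L + (x - L) := by ring
  rw [this]
  exact Ideal.add_mem _ (Submodule.mem_sup_left hLJ) (Submodule.mem_sup_right hxL)

/-- Krull: ideals are closed in a Noetherian local ring. -/
theorem mem_of_forall_mem_sup_pow (I : Ideal R) (x : R) (h : ∀ t, x ∈ I ⊔ 𝔪 ^ t) : x ∈ I := by
  have hH : IsHausdorff 𝔪 (R ⧸ I) := inferInstance
  rw [← Ideal.Quotient.eq_zero_iff_mem]
  apply hH.haus
  intro t
  rw [SModEq.zero]
  obtain ⟨a, ha, b, hb, hab⟩ := Submodule.mem_sup.1 (h t)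
  have : (Ideal.Quotient.mk I x) = b • (Ideal.Quotient.mk I 1) := by
    rw [← hab, map_add, Ideal.Quotient.eq_zero_iff_mem.2 ha, zero_add]
    rw [Algebra.smul_def, map_one, mul_one]
    rfl
  rw [this]
  exact Submodule.smul_mem_smul hb Submodule.mem_top

end Helpers

/-- Let R be a complete Noetherian local ring with maximal ideal m, and let I_0 ⊇ I_1 ⊇ I_2 ⊇ ⋯ be a
descending sequence of ideals of R whose intersection is zero. Then for every natural number n there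
is an index s with I_s contained in m^n; that is, the filtration by the I_s is at least as fine as
the m-adic one. -/
theorem result (R : Type u) [CommRing R] [IsNoetherianRing R] [IsLocalRing R] [IsAdicComplete (IsLocalRing.maximalIdeal R) R] (I : ℕ → Ideal R) (hI : Antitone I) (hinf : ⨅ s, I s = ⊥) (n : ℕ) : ∃ s : ℕ, I s ≤ IsLocalRing.maximalIdeal R ^ n := by
  have hanti : Antitone (fun s => I s ⊔ IsLocalRing.maximalIdeal R ^ s) := by
    intro a b hab
    exact sup_le_sup (hI hab) (Ideal.pow_le_pow_right hab)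
  have hopen : ∀ s, ∃ e, IsLocalRing.maximalIdeal R ^ e ≤ I s ⊔ IsLocalRing.maximalIdeal R ^ s :=
    fun s => ⟨s, le_sup_right⟩
  have hbot : (⨅ s, I s ⊔ IsLocalRing.maximalIdeal R ^ s) = ⊥ := by
    rw [eq_bot_iff, ← hinf]
    intro x hx
    rw [Ideal.mem_iInf] at hx ⊢
    intro s₀
    apply mem_of_forall_mem_sup_pow R (I s₀) x
    intro t
    have h1 := hx (max s₀ t)
    have h2 : I (max s₀ t) ⊔ IsLocalRing.maximalIdeal R ^ (max s₀ t) ≤
        I s₀ ⊔ IsLocalRing.maximalIdeal R ^ t :=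
      sup_le_sup (hI (le_max_left _ _)) (Ideal.pow_le_pow_right (le_max_right _ _))
    exact h2 h1
  obtain ⟨s, hs⟩ := chevalley R (fun s => I s ⊔ IsLocalRing.maximalIdeal R ^ s) hanti hopen n
  refine ⟨s, ?_⟩
  rw [hbot, bot_sup_eq] at hs
  exact le_trans le_sup_left hs

end Groth.Agent.S17754
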