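import Groth.Statements.S17755
import Groth.Agent.Lib.Helper29GorFinLen
import Groth.Agent.S2931
import Groth.Agent.Lib.Helper8LCDepth

set_option autoImplicit false
universe u
open LocCoh

namespace Groth.Agent.S17755
open Groth.Agent.Lib.Helper28

section aux
open IsLocalRing Groth.Agent.Lib.Helper28 Groth.Agent.Lib.Helper29.GorAnn

variable {R' R : Type u} [CommRing R'] [hR' : LocCoh.IsGorensteinLocalRing R'] [CommRing R]
  [IsLocalRing R] [IsNoetherianRing R] [Algebra R' R]
  (hπ : Function.Surjective (algebraMap R' R))

/-- A Gorenstein local ring is a Cohen–Macaulay ring. -/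
theorem isCohenMacaulayRing_of_gorenstein (R' : Type u) [CommRing R']
    [hR' : LocCoh.IsGorensteinLocalRing R'] : LocCoh.IsCohenMacaulayRing R' where
  isCohenMacaulayLocalRing_localization := fun P _ =>
    haveI := (isGorensteinRing_of_isGorensteinLocalRing R').isGorensteinLocalRing_localization P
    Groth.Agent.S0341.result _

include hπ in
/-- Dimension formula in a homomorphic image of a Gorenstein local ring. -/
theorem dim_quot_eq (p₀ p : Ideal R) [p₀.IsPrime] [p.IsPrime] (h : p₀ ≤ p) (e e₀ : ℕ)
    (he : ringKrullDim (R ⧸ p) = e) (he₀ : ringKrullDim (R ⧸ p₀) = e₀) :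
    (p.map (Ideal.Quotient.mk p₀)).height + (e : ℕ∞) = (e₀ : ℕ∞) := by
  haveI := isCohenMacaulayRing_of_gorenstein R'
  obtain ⟨r', hr'⟩ := Groth.Agent.Lib.Helper5.exists_nat_ringKrullDim_eq R'
  obtain ⟨d, hd, hde⟩ := height_add_dim hπ r' hr' p (p.comap (algebraMap R' R)) rfl e he
  obtain ⟨d₀, hd₀, hde₀⟩ := height_add_dim hπ r' hr' p₀ (p₀.comap (algebraMap R' R)) rfl e₀ he₀
  have hadd := Groth.Agent.S2931.height_eq_add_of_cm (p₀.comap (algebraMap R' R))
    (p.comap (algebraMap R' R)) (Ideal.comap_mono h)
  have htr := Groth.Agent.Lib.Helper29AdjDepthSurj.height_quot_eq_of_surjective hπ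
    (p₀.comap (algebraMap R' R)) p₀ rfl p
  rw [sup_of_le_left (Ideal.comap_mono h), sup_of_le_left h] at htr
  rw [htr, hd, hd₀] at hadd
  have hfin : (p.map (Ideal.Quotient.mk p₀)).height ≠ ⊤ := by
    intro htop
    rw [htop, top_add] at hadd
    exact ENat.natCast_ne_top d hadd
  obtain ⟨k, hk⟩ := ENat.ne_top_iff_exists.mp hfin
  rw [← hk] at hadd ⊢
  have h1 : d = k + d₀ := by exact_mod_cast hadd
  have h2 : k + e = e₀ := by omega
  exact_mod_cast h2

section loc

variable {A : Type u} [CommRing A] [IsNoetherianRing A] (M : Type u) [AddCommGroup M]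
  [Module A M] [Module.Finite A M]

/-- `ht(p/p₀) ≤ dim M_p` for primes `p₀ ≤ p` in the support of `M`. -/
theorem height_le_supportDim_localization (p₀ p : Ideal A) [hp₀ : p₀.IsPrime] [hp : p.IsPrime]
    (h : p₀ ≤ p) (hann : Module.annihilator A M ≤ p₀) :
    ((p.map (Ideal.Quotient.mk p₀)).height : WithBot ℕ∞) ≤
      Module.supportDim (Localization.AtPrime p) (LocalizedModule p.primeCompl M) := by
  obtain ⟨hp', hcomap⟩ := isPrime_map_and_comap_map_of_le p h
  have hmem : (⟨p₀.map (algebraMap A (Localization.AtPrime p)), hp'⟩ :
      PrimeSpectrum (Localization.AtPrime p)) ∈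
      Module.support (Localization.AtPrime p) (LocalizedModule p.primeCompl M) := by
    rw [mem_support_isLocalizedModule_iff p.primeCompl
      (Localization.AtPrime p) (LocalizedModule.mkLinearMap p.primeCompl M)]
    have : PrimeSpectrum.comap (algebraMap A (Localization.AtPrime p))
        ⟨p₀.map (algebraMap A (Localization.AtPrime p)), hp'⟩ = ⟨p₀, hp₀⟩ := by
      apply PrimeSpectrum.ext
      exact hcomap
    rw [this, Module.support_eq_zeroLocus]
    exact hann
  have h4 := ringKrullDim_quotient_le_supportDim hmem
  change ringKrullDim (Localization.AtPrime p ⧸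
    p₀.map (algebraMap A (Localization.AtPrime p))) ≤ _ at h4
  rw [ringKrullDim_localization_quotient_eq_height p₀ p h] at h4
  exact h4

/-- Local cohomology of a zero module vanishes. -/
theorem subsingleton_H_of_subsingleton (I : Ideal A) (N : Type u) [AddCommGroup N] [Module A N]
    [Subsingleton N] (j : ℕ) : Subsingleton (LocCoh.H I j N) := by
  have hN : LocCoh.IsPowerTorsion I N := by
    intro x
    exact ⟨0, fun a _ => Subsingleton.elim _ _⟩
  obtain ⟨⟨e⟩, h2⟩ := Groth.Agent.S0323.result A I N hN
  rcases Nat.eq_zero_or_pos j with rfl | hj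
  · exact e.toEquiv.subsingleton
  · exact h2 j hj

end loc

end aux


/-- Let R be a Noetherian local ring with maximal ideal m which is a homomorphic image of a Gorenstein
local ring, and let M be a finitely generated R-module whose support has dimension n. Then the
following are equivalent: (1) M is generalized Cohen–Macaulay, i.e. the local cohomology module
H^i_m(M) has finite length for every i < n; (2) M is equidimensional, i.e. R ⧸ p has dimension n for
every minimal prime p of the annihilator of M, and for every prime p ≠ m containing the annihilator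
of M the localization M_p is a Cohen–Macaulay module over R_p (its depth equals the dimension of its
support). -/
theorem result (R : Type u) [CommRing R] [IsNoetherianRing R] [IsLocalRing R] (R' : Type u) [CommRing R'] [LocCoh.IsGorensteinLocalRing R'] (g : R' →+* R) (hg : Function.Surjective g) (M : Type u) [AddCommGroup M] [Module R M] [Module.Finite R M] (n : ℕ) (hn : Module.supportDim R M = n) : (∀ i : ℕ, i < n → IsFiniteLength R (LocCoh.H (IsLocalRing.maximalIdeal R) i M)) ↔ ((∀ p ∈ (Module.annihilator R M).minimalPrimes, ringKrullDim (R ⧸ p) = n) ∧ ∀ (p : Ideal R) [p.IsPrime], p ≠ IsLocalRing.maximalIdeal R → Module.annihilator R M ≤ p → LocCoh.IsCohenMacaulayModule (Localization.AtPrime p) (LocalizedModule p.primeCompl M)) := by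
  classical
  letI : Algebra R' R := g.toAlgebra
  have hπ : Function.Surjective (algebraMap R' R) := hg
  letI : Module R' M := Module.compHom M g
  haveI : IsScalarTower R' R M := IsScalarTower.of_algebraMap_smul (fun c x => rfl)
  obtain ⟨r', hr'⟩ := Groth.Agent.Lib.Helper5.exists_nat_ringKrullDim_eq R'
  have hfl := fun i => Groth.Agent.Lib.Helper29.GorFinLen.finiteLength_iff hπ M r' hr' i
  have hdimq : ∀ (p : Ideal R) [p.IsPrime], ∃ e : ℕ, ringKrullDim (R ⧸ p) = e := by
    intro p hp
    have hnt : Nontrivial (R ⧸ p) := Ideal.Quotient.nontrivial_iff.mpr hp.ne_top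
    have hloc : IsLocalRing (R ⧸ p) :=
      IsLocalRing.of_surjective' (Ideal.Quotient.mk p) Ideal.Quotient.mk_surjective
    exact Groth.Agent.Lib.Helper5.exists_nat_ringKrullDim_eq (R ⧸ p)
  constructor
  · intro H
    -- key: for `p ≠ m` in the support, with `e = dim R/p`: `n - e ≤ depth M_p`
    have key : ∀ (p : Ideal R) [p.IsPrime], p ≠ IsLocalRing.maximalIdeal R →
        Module.annihilator R M ≤ p → ∀ e : ℕ, ringKrullDim (R ⧸ p) = e →
        ((n - e : ℕ) : ℕ∞) ≤ LocCoh.depth (Localization.AtPrime p)
          (LocalizedModule p.primeCompl M) := by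
      intro p hp hpm hle e he
      have hpM : (⟨p, hp⟩ : PrimeSpectrum R) ∈ Module.support R M := by
        rw [Module.support_eq_zeroLocus]
        exact hle
      haveI hnt : Nontrivial (LocalizedModule p.primeCompl M) := Module.mem_support_iff.mp hpM
      by_contra hlt
      rw [not_le] at hlt
      have hne : LocCoh.depth (Localization.AtPrime p) (LocalizedModule p.primeCompl M) ≠ ⊤ :=
        ne_top_of_lt hlt
      obtain ⟨k, hk⟩ := ENat.ne_top_iff_exists.mp hne
      rw [← hk] at hlt
      have hk' : k < n - e := by exact_mod_cast hlt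
      have hIM : IsLocalRing.maximalIdeal (Localization.AtPrime p) •
          (⊤ : Submodule (Localization.AtPrime p) (LocalizedModule p.primeCompl M)) ≠ ⊤ :=
        maximalIdeal_smul_top_ne_top
      obtain ⟨y, hy⟩ := Groth.Agent.Lib.Helper8.LC.H_ne_zero_of_depth_eq
        (IsLocalRing.maximalIdeal (Localization.AtPrime p)) k
        (LocalizedModule p.primeCompl M) hIM hk.symm
      have h1 := (hfl (k + e)).mp (H (k + e) (by omega)) ⟨p, hp⟩ hpm e k he rfl
      exact hy (Subsingleton.elim _ _)
    refine ⟨?_, ?_⟩
    · intro p hp
      haveI hpp : p.IsPrime := hp.1.1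
      have hpM : (⟨p, hpp⟩ : PrimeSpectrum R) ∈ Module.support R M := by
        rw [Module.support_eq_zeroLocus]
        exact hp.1.2
      have hle : ringKrullDim (R ⧸ p) ≤ (n : WithBot ℕ∞) :=
        le_of_le_of_eq (ringKrullDim_quotient_le_supportDim (p := ⟨p, hpp⟩) hpM) hn
      obtain ⟨e, he⟩ := hdimq p
      have hmin' : IsMin (⟨⟨p, hpp⟩, hpM⟩ : Module.support R M) := by
        rintro ⟨b, hb2⟩ hb
        have hb' : b.asIdeal ≤ p := hb
        have hbann : Module.annihilator R M ≤ b.asIdeal := by
          have hb3 : b ∈ PrimeSpectrum.zeroLocus (Module.annihilator R M : Set R) := by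
            rw [← Module.support_eq_zeroLocus]
            exact hb2
          exact hb3
        exact hp.2 ⟨b.2, hbann⟩ hb'
      by_cases hpm : p = IsLocalRing.maximalIdeal R
      · -- the support is `{m}`
        have h0 : Module.supportDim R M ≤ 0 := by
          unfold Module.supportDim
          haveI : Subsingleton (Module.support R M) := by
            refine ⟨fun a b => ?_⟩
            have key2 : ∀ c : Module.support R M, c = ⟨⟨p, hpp⟩, hpM⟩ := by
              intro c
              have hc : c.1.asIdeal ≤ p := by
                rw [hpm]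
                exact IsLocalRing.le_maximalIdeal c.1.2.ne_top
              have hc2 := hmin' (b := c) hc
              apply Subtype.ext
              apply PrimeSpectrum.ext
              exact le_antisymm hc hc2
            rw [key2 a, key2 b]
          exact Order.krullDim_nonpos_of_subsingleton
        rw [hn] at h0
        have hn0 : n = 0 := by
          have : (n : WithBot ℕ∞) ≤ ((0 : ℕ) : WithBot ℕ∞) := h0
          have h2 : n ≤ 0 := by exact_mod_cast this
          omega
        rw [hn0, hpm]
        exact ringKrullDim_quotient_maximalIdeal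
      · have hk := key p hpm hp.1.2 e he
        haveI hnt : Nontrivial (LocalizedModule p.primeCompl M) := Module.mem_support_iff.mp hpM
        have h2 := depth_le_supportDim (R := Localization.AtPrime p)
          (M := LocalizedModule p.primeCompl M)
        rw [supportDim_localization_eq_height p M hpM, Order.height_eq_zero.mpr hmin'] at h2
        have h3 : LocCoh.depth (Localization.AtPrime p) (LocalizedModule p.primeCompl M) ≤ 0 := by
          exact_mod_cast h2
        have h4 : ((n - e : ℕ) : ℕ∞) ≤ 0 := hk.trans h3
        have h5 : n - e ≤ 0 := by exact_mod_cast h4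
        rw [he] at hle ⊢
        have h6 : e ≤ n := by exact_mod_cast hle
        have : e = n := by omega
        rw [this]
    · intro p hp hpm hle
      have hpM : (⟨p, hp⟩ : PrimeSpectrum R) ∈ Module.support R M := by
        rw [Module.support_eq_zeroLocus]
        exact hle
      haveI hnt : Nontrivial (LocalizedModule p.primeCompl M) := Module.mem_support_iff.mp hpM
      obtain ⟨e, he⟩ := hdimq p
      have hk := key p hpm hle e he
      have hC := depth_le_supportDim (R := Localization.AtPrime p)
        (M := LocalizedModule p.primeCompl M)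
      have hB := supportDim_localization_add_ringKrullDim_quotient_le p M hpM
      rw [hn, he] at hB
      obtain ⟨dN, hdN⟩ := exists_natCast_eq_supportDim (R := Localization.AtPrime p)
        (M := LocalizedModule p.primeCompl M)
      unfold LocCoh.IsCohenMacaulayModule
      rw [hdN] at hB hC ⊢
      have hB' : dN + e ≤ n := by exact_mod_cast hB
      have h1 : ((dN : ℕ) : ℕ∞) ≤ LocCoh.depth (Localization.AtPrime p)
          (LocalizedModule p.primeCompl M) := by
        refine le_trans ?_ hk
        have : dN ≤ n - e := by omega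
        exact_mod_cast this
      have h2 : LocCoh.depth (Localization.AtPrime p) (LocalizedModule p.primeCompl M) ≤
          ((dN : ℕ) : ℕ∞) := by exact_mod_cast hC
      rw [le_antisymm h2 h1]
      rfl
  · rintro ⟨Heq, Hcm⟩ i hi
    rw [hfl i]
    intro p hpm e j he hj
    by_cases hpM : p ∈ Module.support R M
    swap
    · rw [Module.notMem_support_iff] at hpM
      haveI := hpM
      exact subsingleton_H_of_subsingleton _ _ j
    haveI hnt : Nontrivial (LocalizedModule p.asIdeal.primeCompl M) :=
      Module.mem_support_iff.mp hpM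
    have hle : Module.annihilator R M ≤ p.asIdeal := by
      have := hpM
      rw [Module.support_eq_zeroLocus] at this
      exact this
    have hcm := Hcm p.asIdeal hpm hle
    obtain ⟨p₀, hp₀min, hp₀p⟩ := Ideal.exists_minimalPrimes_le hle
    haveI hp₀prime : p₀.IsPrime := hp₀min.1.1
    have hdq := dim_quot_eq hπ p₀ p.asIdeal hp₀p e n he (Heq p₀ hp₀min)
    have hA := height_le_supportDim_localization M p₀ p.asIdeal hp₀p hp₀min.1.2
    unfold LocCoh.IsCohenMacaulayModule at hcm
    rw [hcm] at hA
    have hA' : (p.asIdeal.map (Ideal.Quotient.mk p₀)).height ≤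
        LocCoh.depth (Localization.AtPrime p.asIdeal)
          (LocalizedModule p.asIdeal.primeCompl M) := by exact_mod_cast hA
    have hdepth : ((j + 1 : ℕ) : ℕ∞) ≤ LocCoh.depth (Localization.AtPrime p.asIdeal)
        (LocalizedModule p.asIdeal.primeCompl M) := by
      refine le_trans ?_ hA'
      have hfin : (p.asIdeal.map (Ideal.Quotient.mk p₀)).height ≠ ⊤ := by
        intro htop
        rw [htop, top_add] at hdq
        exact ENat.natCast_ne_top n hdq.symm
      obtain ⟨k, hk⟩ := ENat.ne_top_iff_exists.mp hfin
      rw [← hk] at hdq ⊢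
      have h1 : k + e = n := by exact_mod_cast hdq
      have : j + 1 ≤ k := by omega
      exact_mod_cast this
    have hIM : IsLocalRing.maximalIdeal (Localization.AtPrime p.asIdeal) •
        (⊤ : Submodule (Localization.AtPrime p.asIdeal)
          (LocalizedModule p.asIdeal.primeCompl M)) ≠ ⊤ :=
      maximalIdeal_smul_top_ne_top
    refine ⟨fun a b => ?_⟩
    have hz := Groth.Agent.Lib.Helper8.LC.H_eq_zero_of_lt_depth
      (IsLocalRing.maximalIdeal (Localization.AtPrime p.asIdeal)) (j + 1)
      (LocalizedModule p.asIdeal.primeCompl M) hIM hdepth j (Nat.lt_succ_self j)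
    rw [hz a, hz b]

end Groth.Agent.S17755
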