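import Groth.Statements.S17757
import Groth.Agent.Lib.Helper8Watts

set_option autoImplicit false
universe u
open LocCoh

namespace Groth.Agent.S17757

/-- Let R be a Noetherian local ring of Krull dimension d, I an ideal of R and M an arbitrary R-module.
Then the top local cohomology H^d_I(M) is isomorphic, as an R-module, to H^d_I(R) ⊗_R M (existence
of an R-linear isomorphism; the functor H^d_I is right exact). -/
theorem result (R : Type u) [CommRing R] [IsNoetherianRing R] [IsLocalRing R] (d : ℕ) (hd : ringKrullDim R = d) (I : Ideal R) (M : Type u) [AddCommGroup M] [Module R M] : Nonempty (LocCoh.H I d M ≃ₗ[R] TensorProduct R (LocCoh.H I d R) M) := by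
  have hcd : LocCoh.CdLE R I d := Groth.Agent.S0325.result R I d hd.le
  exact ⟨(Groth.Agent.Lib.Helper8.Watts.τEquiv I d hcd (ModuleCat.of R M)).symm⟩

end Groth.Agent.S17757
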