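import Groth.Statements.S17758
import Groth.Agent.Lib.Helper29HLVT
import Groth.Agent.Lib.Helper8NV
import Groth.Agent.Lib.Helper8Acyc

set_option autoImplicit false
universe u
open LocCoh

namespace Groth.Agent.S17758

/-- Let R be a complete Noetherian local domain of Krull dimension d with maximal ideal m, and I a
proper ideal of R of arithmetic rank at most d − 2: there are elements f_1, …, f_t with t + 2 ≤ d
such that I and (f_1, …, f_t) have the same radical. Then the punctured spectrum of R ⧸ I, viewed as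
the set of prime ideals of R that contain I and differ from m, is a nonempty connected subset of
Spec R. (Connectedness is taken here to include nonemptiness, so the unit ideal, whose punctured
spectrum is empty, is excluded; for a proper I nonemptiness is automatic, since otherwise I would be
m-primary and m would be minimal over an ideal generated by t ≤ d − 2 elements, against Krull's
height bound.) -/
theorem result (R : Type u) [CommRing R] [IsDomain R] [IsNoetherianRing R] [IsLocalRing R] [IsAdicComplete (IsLocalRing.maximalIdeal R) R] (d : ℕ) (hd : ringKrullDim R = d) (t : ℕ) (ht : t + 2 ≤ d) (f : Fin t → R) (I : Ideal R) (hItop : I ≠ ⊤) (hI : I.radical = (Ideal.span (Set.range f)).radical) : IsConnected {x : PrimeSpectrum R | I ≤ x.asIdeal ∧ x.asIdeal ≠ IsLocalRing.maximalIdeal R} := by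
  classical
  open Groth.Agent.Lib.Helper29.HLVT Groth.Agent.Lib.Helper8.Cd Groth.Agent.Lib.Helper8.Acyc in
  -- (F1) vanishing above `t` for every ideal with the same radical as `I`
  have hF1 : ∀ (J : Ideal R), J.radical = I.radical → ∀ j : ℕ, t < j →
      Subsingleton (LocCoh.H J j R) := by
    intro J hJ j hj
    refine subsingleton_of_radical_eq (hJ.trans hI) j R ?_
    exact ⟨fun x y => by
      rw [bound_span_range t f R j hj x, bound_span_range t f R j hj y]⟩
  -- (F2) non-vanishing
  have hF2 : Nontrivial (LocCoh.H (IsLocalRing.maximalIdeal R) d R) :=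
    Groth.Agent.Lib.Helper8.NV.nonvanishing R R d
      (by rw [Module.supportDim_self_eq_ringKrullDim, hd])
  have hIm : I ≤ IsLocalRing.maximalIdeal R := IsLocalRing.le_maximalIdeal hItop
  -- radical of an ideal all of whose primes are maximal
  have hradm : ∀ J : Ideal R, J ≤ IsLocalRing.maximalIdeal R →
      (∀ Q : Ideal R, Q.IsPrime → J ≤ Q → Q = IsLocalRing.maximalIdeal R) →
      J.radical = (IsLocalRing.maximalIdeal R).radical := by
    intro J hJm hJ
    rw [Ideal.IsPrime.radical (inferInstance : (IsLocalRing.maximalIdeal R).IsPrime)]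
    apply le_antisymm
    · exact (Ideal.IsPrime.radical_le_iff inferInstance).mpr hJm
    · rw [Ideal.radical_eq_sInf]
      refine le_sInf ?_
      rintro Q ⟨hJQ, hQ⟩
      rw [hJ Q hQ hJQ]
  refine ⟨?_, ?_⟩
  · -- nonempty
    by_contra hemp
    rw [Set.not_nonempty_iff_eq_empty] at hemp
    have hall : ∀ Q : Ideal R, Q.IsPrime → I ≤ Q → Q = IsLocalRing.maximalIdeal R := by
      intro Q hQ hIQ
      by_contra hne
      have : (⟨Q, hQ⟩ : PrimeSpectrum R) ∈ ({x : PrimeSpectrum R | I ≤ x.asIdeal ∧
          x.asIdeal ≠ IsLocalRing.maximalIdeal R} : Set (PrimeSpectrum R)) := ⟨hIQ, hne⟩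
      rw [hemp] at this
      exact this
    have h1 := hF1 (IsLocalRing.maximalIdeal R) (hradm I hIm hall).symm d (by omega)
    exact not_subsingleton _ h1
  · -- preconnected
    rw [isPreconnected_closed_iff]
    intro Z1 Z2 hZ1 hZ2 hcov hne1 hne2
    obtain ⟨a, rfl⟩ := (PrimeSpectrum.isClosed_iff_zeroLocus_ideal Z1).mp hZ1
    obtain ⟨b, rfl⟩ := (PrimeSpectrum.isClosed_iff_zeroLocus_ideal Z2).mp hZ2
    by_contra hemp
    rw [Set.not_nonempty_iff_eq_empty] at hemp
    obtain ⟨P1, ⟨hIP1, hP1m⟩, haP1⟩ := hne1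
    obtain ⟨P2, ⟨hIP2, hP2m⟩, hbP2⟩ := hne2
    rw [PrimeSpectrum.mem_zeroLocus] at haP1 hbP2
    have haP1' : a ⊔ I ≤ P1.asIdeal := sup_le haP1 hIP1
    have hbP2' : b ⊔ I ≤ P2.asIdeal := sup_le hbP2 hIP2
    have ham : a ⊔ I ≤ IsLocalRing.maximalIdeal R :=
      haP1'.trans (IsLocalRing.le_maximalIdeal P1.2.ne_top)
    have hbm : b ⊔ I ≤ IsLocalRing.maximalIdeal R :=
      hbP2'.trans (IsLocalRing.le_maximalIdeal P2.2.ne_top)
    have h2 : Subsingleton (LocCoh.H (a ⊔ I) d R) :=
      H_subsingleton_of_complete_domain R d hd (a ⊔ I) ⟨P1.asIdeal, P1.2, haP1', hP1m⟩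
    have h3 : Subsingleton (LocCoh.H (b ⊔ I) d R) :=
      H_subsingleton_of_complete_domain R d hd (b ⊔ I) ⟨P2.asIdeal, P2.2, hbP2', hP2m⟩
    have hinf : ((a ⊔ I) ⊓ (b ⊔ I)).radical = I.radical := by
      apply le_antisymm
      · rw [Ideal.radical_le_radical_iff, Ideal.radical_eq_sInf]
        refine le_sInf ?_
        rintro Q ⟨hIQ, hQ⟩
        by_cases hQm : Q = IsLocalRing.maximalIdeal R
        · rw [hQm]; exact inf_le_left.trans ham
        · have hQU : (⟨Q, hQ⟩ : PrimeSpectrum R) ∈ ({x : PrimeSpectrum R | I ≤ x.asIdeal ∧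
              x.asIdeal ≠ IsLocalRing.maximalIdeal R} : Set (PrimeSpectrum R)) := ⟨hIQ, hQm⟩
          rcases hcov hQU with h | h
          · rw [PrimeSpectrum.mem_zeroLocus] at h
            exact inf_le_left.trans (sup_le h hIQ)
          · rw [PrimeSpectrum.mem_zeroLocus] at h
            exact inf_le_right.trans (sup_le h hIQ)
      · exact Ideal.radical_mono (le_inf le_sup_right le_sup_right)
    have hsup : ((a ⊔ I) ⊔ (b ⊔ I)).radical = (IsLocalRing.maximalIdeal R).radical := by
      apply hradm _ (sup_le ham hbm)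
      intro Q hQ hle
      by_contra hQm
      have hQmem : (⟨Q, hQ⟩ : PrimeSpectrum R) ∈ ({x : PrimeSpectrum R | I ≤ x.asIdeal ∧
          x.asIdeal ≠ IsLocalRing.maximalIdeal R} ∩ (PrimeSpectrum.zeroLocus (a : Set R) ∩
          PrimeSpectrum.zeroLocus (b : Set R)) : Set (PrimeSpectrum R)) := by
        refine ⟨⟨(le_sup_right.trans le_sup_left).trans hle, hQm⟩, ?_, ?_⟩
        · rw [PrimeSpectrum.mem_zeroLocus]
          exact fun x hx => hle (Ideal.mem_sup_left (Ideal.mem_sup_left hx))
        · rw [PrimeSpectrum.mem_zeroLocus]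
          exact fun x hx => hle (Ideal.mem_sup_right (Ideal.mem_sup_left hx))
      rw [hemp] at hQmem
      exact hQmem
    obtain ⟨e, rfl⟩ : ∃ e, d = e + 1 := ⟨d - 1, by omega⟩
    have h1 : Subsingleton (LocCoh.H ((a ⊔ I) ⊓ (b ⊔ I)) e R) := hF1 _ hinf e (by omega)
    have h4 := MV_vanish (a ⊔ I) (b ⊔ I) e R h1 h2 h3
    have h5 := subsingleton_of_radical_eq hsup.symm (e + 1) R h4
    exact not_subsingleton _ h5

end Groth.Agent.S17758
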