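import Groth.Statements.S17760
import Groth.Agent.Lib.Helper29ExtArt
import Groth.Agent.Lib.Helper8ExtBC
import Groth.Agent.Lib.Helper8BridgeT4
import Groth.Agent.Lib.Helper8Matlis
import Groth.Agent.Lib.Helper8FinLen
import Groth.Agent.Lib.Helper5FBC
import Groth.Agent.Lib.Helper28ComplCat
import Groth.Agent.S11617

set_option autoImplicit false
universe u
open CategoryTheory Opposite
open LocCoh

namespace Groth.Agent.S17760

/-- Let R be a Noetherian local ring, I an ideal of R and M a finitely generated R-module whose support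
has dimension n. Then for every i ≥ 0 the R-module Ext^i_R(R ⧸ I, H^n_I(M)) has finite length; in
particular the top local cohomology module H^n_I(M) is I-cofinite. -/
theorem result (R : Type u) [CommRing R] [IsNoetherianRing R] [IsLocalRing R] (I : Ideal R) (M : Type u) [AddCommGroup M] [Module R M] [Module.Finite R M] (n : ℕ) (hn : Module.supportDim R M = n) (i : ℕ) : IsFiniteLength R (((Ext R (ModuleCat.{u} R) i).obj (op (ModuleCat.of R (R ⧸ I)))).obj (ModuleCat.of R (LocCoh.H I n M))) := by
  open Groth.Agent.Lib.Helper29.ExtArt TensorProduct IsLocalRing in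
  classical
  set_option linter.style.haveILetI false in
  have hnt : Nontrivial M := by
    by_contra hns
    rw [not_nontrivial_iff_subsingleton] at hns
    rw [Module.supportDim_eq_bot_of_subsingleton] at hn
    exact absurd hn (by simp)
  haveI hHart : IsArtinian R (LocCoh.H I n M) := Groth.Agent.S3262.result R I M n hn
  suffices key : IsFiniteLength R (Abelian.Ext.{u} (ModuleCat.of R (R ⧸ I))
      (ModuleCat.of R (LocCoh.H I n M)) i) from
    (Groth.Agent.Lib.Helper8.FinLen.isFiniteLength_congr
      (Groth.Agent.Lib.Helper8.Bridge.Ψ i (ModuleCat.of R (R ⧸ I))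
        (ModuleCat.of R (LocCoh.H I n M)))).mpr key
  haveI : IsAdicComplete
      (IsLocalRing.maximalIdeal (AdicCompletion (IsLocalRing.maximalIdeal R) R))
      (AdicCompletion (IsLocalRing.maximalIdeal R) R) :=
    Groth.Agent.Lib.Helper28.isAdicComplete_maximalIdeal_adicCompletion R
  haveI : Module.FaithfullyFlat R (AdicCompletion (IsLocalRing.maximalIdeal R) R) :=
    Module.FaithfullyFlat.of_flat_of_isLocalHom
  have hdim : Module.supportDim (AdicCompletion (IsLocalRing.maximalIdeal R) R)
      (AdicCompletion (IsLocalRing.maximalIdeal R) R ⊗[R] M) = n := by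
    rw [Groth.Agent.Lib.Helper5.FBC.supportDim_tensor_of_flat,
      Groth.Agent.Lib.Helper28.ringKrullDim_fibRing_adicCompletion, add_zero, hn]
  haveI : IsArtinian R (Abelian.Ext.{u} (ModuleCat.of R (R ⧸ I))
      (ModuleCat.of R (LocCoh.H I n M)) i) :=
    isArtinian_ext (ModuleCat.of R (LocCoh.H I n M)) i (ModuleCat.of R (R ⧸ I))
  obtain ⟨eBC⟩ := Groth.Agent.Lib.Helper8.ExtBC.ext_baseChange R
    (AdicCompletion (IsLocalRing.maximalIdeal R) R) (LocCoh.H I n M) i (R ⧸ I)
  obtain ⟨eH⟩ := Groth.Agent.S11617.result R (AdicCompletion (IsLocalRing.maximalIdeal R) R) I M n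
  have hX : ∀ a ∈ I.map (algebraMap R (AdicCompletion (IsLocalRing.maximalIdeal R) R)),
      ∀ x : AdicCompletion (IsLocalRing.maximalIdeal R) R ⊗[R] (R ⧸ I), a • x = 0 := by
    intro a ha
    refine Submodule.span_induction (p := fun a _ =>
      ∀ x : AdicCompletion (IsLocalRing.maximalIdeal R) R ⊗[R] (R ⧸ I), a • x = 0)
      ?_ ?_ ?_ ?_ ha
    · rintro _ ⟨b, hb, rfl⟩ x
      induction x using TensorProduct.induction_on with
      | zero => rw [smul_zero]
      | tmul r y =>
        obtain ⟨y, rfl⟩ := Ideal.Quotient.mk_surjective y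
        rw [algebraMap_smul, ← TensorProduct.tmul_smul]
        have : b • (Ideal.Quotient.mk I y) = 0 := by
          rw [← Ideal.Quotient.mk_eq_mk, ← Submodule.Quotient.mk_smul, smul_eq_mul]
          exact (Submodule.Quotient.mk_eq_zero _).mpr (I.mul_mem_right _ hb)
        rw [this, TensorProduct.tmul_zero]
      | add y z hy hz => rw [smul_add, hy, hz, add_zero]
    · intro x
      rw [zero_smul]
    · intro a b _ _ ha hb x
      rw [add_smul, ha, hb, add_zero]
    · intro c a _ ha x
      rw [smul_eq_mul, mul_smul, ha, smul_zero]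
  have hfl' := isFiniteLength_ext_complete (AdicCompletion (IsLocalRing.maximalIdeal R) R)
    (I.map (algebraMap R (AdicCompletion (IsLocalRing.maximalIdeal R) R)))
    (AdicCompletion (IsLocalRing.maximalIdeal R) R ⊗[R] M) n hdim.le
    (ModuleCat.of (AdicCompletion (IsLocalRing.maximalIdeal R) R)
      (AdicCompletion (IsLocalRing.maximalIdeal R) R ⊗[R] (R ⧸ I)))
    (ModuleCat.of (AdicCompletion (IsLocalRing.maximalIdeal R) R)
      (AdicCompletion (IsLocalRing.maximalIdeal R) R ⊗[R] LocCoh.H I n M)) hX eH i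
  have hfl'' := (Groth.Agent.Lib.Helper8.FinLen.isFiniteLength_congr eBC).mpr hfl'
  obtain ⟨k, hk⟩ :=
    Groth.Agent.Lib.Helper8.Matlis.exists_pow_smul_eq_zero_of_isFiniteLength _ hfl''
  refine isFiniteLength_of_isArtinian_of_pow_smul _ k ?_
  intro a ha x
  have h1 : algebraMap R (AdicCompletion (IsLocalRing.maximalIdeal R) R) a ∈
      IsLocalRing.maximalIdeal (AdicCompletion (IsLocalRing.maximalIdeal R) R) ^ k := by
    rw [AdicCompletion.maximalIdeal_eq_map, ← Ideal.map_pow]
    exact Ideal.mem_map_of_mem _ ha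
  have h2 := hk _ h1 ((1 : AdicCompletion (IsLocalRing.maximalIdeal R) R) ⊗ₜ[R] x)
  have h3 : (1 : AdicCompletion (IsLocalRing.maximalIdeal R) R) ⊗ₜ[R] (a • x) =
      (1 : AdicCompletion (IsLocalRing.maximalIdeal R) R) ⊗ₜ[R] (0 : Abelian.Ext.{u}
        (ModuleCat.of R (R ⧸ I)) (ModuleCat.of R (LocCoh.H I n M)) i) := by
    rw [TensorProduct.tmul_smul, ← algebraMap_smul (AdicCompletion (IsLocalRing.maximalIdeal R) R) a,
      h2, TensorProduct.tmul_zero]
  exact Module.FaithfullyFlat.tensorProduct_mk_injective (A := R)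
    (B := AdicCompletion (IsLocalRing.maximalIdeal R) R) _ h3

end Groth.Agent.S17760
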