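import Groth.Statements.S17763
import Groth.Agent.S0333
import Groth.Agent.S1736

set_option autoImplicit false
universe u
open LocCoh

namespace Groth.Agent.S17763

open IsLocalRing

section Helpers

/-- (copied from helper29's `Helper29HLVT.ringKrullDim_quotient_eq_one`.) -/
theorem ringKrullDim_quotient_eq_one {R : Type*} [CommRing R] [IsLocalRing R] (P : Ideal R)
    [P.IsPrime] (hPm : P ≠ maximalIdeal R)
    (h : ∀ Q : Ideal R, Q.IsPrime → P < Q → Q = maximalIdeal R) :
    ringKrullDim (R ⧸ P) = 1 := by
  apply le_antisymm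
  · have : Ring.KrullDimLE 1 (R ⧸ P) := by
      apply Ring.KrullDimLE.mk₁'
      intro J hJ0 hJ
      have hcomap : (J.comap (Ideal.Quotient.mk P)).IsPrime := Ideal.comap_isPrime _ _
      have hlt : P < J.comap (Ideal.Quotient.mk P) := by
        refine lt_of_le_of_ne ?_ ?_
        · conv_lhs => rw [← Ideal.mk_ker (I := P)]
          exact Ideal.comap_mono bot_le
        · intro heq
          apply hJ0
          rw [← Ideal.map_comap_of_surjective (Ideal.Quotient.mk P) Ideal.Quotient.mk_surjective J,
            ← heq, Ideal.map_quotient_self P]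
      have hm := h _ hcomap hlt
      have hmax : (J.comap (Ideal.Quotient.mk P)).IsMaximal := hm ▸ maximalIdeal.isMaximal R
      have := (Ideal.map_eq_top_or_isMaximal_of_surjective (Ideal.Quotient.mk P)
        Ideal.Quotient.mk_surjective hmax)
      rw [Ideal.map_comap_of_surjective (Ideal.Quotient.mk P) Ideal.Quotient.mk_surjective J] at this
      exact this.resolve_left hJ.ne_top
    exact Ring.krullDimLE_iff.mp this
  · rw [ringKrullDim, Order.one_le_krullDim_iff]
    have hker : RingHom.ker (Ideal.Quotient.mk P) ≤ maximalIdeal R := by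
      rw [Ideal.mk_ker]; exact IsLocalRing.le_maximalIdeal (Ideal.IsPrime.ne_top inferInstance)
    have hprime : ((maximalIdeal R).map (Ideal.Quotient.mk P)).IsPrime :=
      Ideal.map_isPrime_of_surjective Ideal.Quotient.mk_surjective hker
    refine ⟨⟨⊥, Ideal.isPrime_bot⟩, ⟨_, hprime⟩, ?_⟩
    change (⊥ : Ideal (R ⧸ P)) < _
    refine lt_of_le_of_ne bot_le ?_
    intro h0
    have h1 := h0.symm
    rw [Ideal.map_eq_bot_iff_le_ker, Ideal.mk_ker] at h1
    exact hPm (le_antisymm (IsLocalRing.le_maximalIdeal (Ideal.IsPrime.ne_top inferInstance)) h1)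

/-- a prime of coheight one above an ideal with positive-dimensional quotient. -/
theorem exists_prime_coheight_one (R : Type u) [CommRing R] [IsNoetherianRing R] [IsLocalRing R]
    (I : Ideal R) (hI : 0 < ringKrullDim (R ⧸ I)) :
    ∃ p : Ideal R, p.IsPrime ∧ I ≤ p ∧ ringKrullDim (R ⧸ p) = 1 := by
  -- a prime above `I` different from the maximal ideal
  have hex : ∃ q : Ideal R, q.IsPrime ∧ I ≤ q ∧ q ≠ maximalIdeal R := by
    by_contra hcon
    push Not at hcon
    have hnt : Nontrivial (R ⧸ I) := by
      by_contra hnt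
      rw [not_nontrivial_iff_subsingleton] at hnt
      rw [ringKrullDim_eq_bot_of_subsingleton] at hI
      exact absurd hI (by simp)
    have : Ring.KrullDimLE 0 (R ⧸ I) := by
      rw [Ring.krullDimLE_zero_iff]
      intro J hJ
      have hc : (J.comap (Ideal.Quotient.mk I)).IsPrime := Ideal.comap_isPrime _ _
      have hle : I ≤ J.comap (Ideal.Quotient.mk I) := by
        conv_lhs => rw [← Ideal.mk_ker (I := I)]
        exact Ideal.comap_mono bot_le
      have hm := hcon _ hc hle
      have hmax : (J.comap (Ideal.Quotient.mk I)).IsMaximal := hm ▸ maximalIdeal.isMaximal R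
      have := (Ideal.map_eq_top_or_isMaximal_of_surjective (Ideal.Quotient.mk I)
        Ideal.Quotient.mk_surjective hmax)
      rw [Ideal.map_comap_of_surjective (Ideal.Quotient.mk I) Ideal.Quotient.mk_surjective J] at this
      exact this.resolve_left hJ.ne_top
    have h0 : ringKrullDim (R ⧸ I) ≤ 0 := Ring.krullDimLE_iff.mp this
    exact absurd hI (not_lt.mpr h0)
  obtain ⟨q, hq, hIq, hqm⟩ := hex
  -- choose a maximal such prime
  obtain ⟨p, ⟨hp, hIp, hpm⟩, hpmax⟩ :=
    set_has_maximal_iff_noetherian.mpr (inferInstance : IsNoetherian R R)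
      {q : Ideal R | q.IsPrime ∧ I ≤ q ∧ q ≠ maximalIdeal R} ⟨q, hq, hIq, hqm⟩
  refine ⟨p, hp, hIp, ?_⟩
  have := hp
  apply ringKrullDim_quotient_eq_one p hpm
  intro Q hQ hpQ
  by_contra hQm
  exact hpmax Q ⟨hQ, hIp.trans hpQ.le, hQm⟩ hpQ

end Helpers

/-- Let R be a Noetherian local ring of Krull dimension d. Then the following are equivalent: (1)
H^d_I(R) = 0 for every ideal I of R such that R ⧸ I has positive dimension; (2) H^d_p(R) = 0 for
every prime ideal p of R such that R ⧸ p has dimension one. -/
theorem result (R : Type u) [CommRing R] [IsNoetherianRing R] [IsLocalRing R] (d : ℕ) (hd : ringKrullDim R = d) : (∀ I : Ideal R, 0 < ringKrullDim (R ⧸ I) → Subsingleton (LocCoh.H I d R)) ↔ (∀ (p : Ideal R) [p.IsPrime], ringKrullDim (R ⧸ p) = 1 → Subsingleton (LocCoh.H p d R)) := by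
  constructor
  · intro h p hp hdim
    apply h p
    rw [hdim]
    exact zero_lt_one
  · intro h I hI
    obtain ⟨p, hp, hIp, hdim⟩ := exists_prime_coheight_one R I hI
    have hvan : Subsingleton (LocCoh.H p d R) := @h p hp hdim
    have h1 : ∀ (M : Type u) [AddCommGroup M] [Module R M] (i : ℕ), d ≤ i →
        Subsingleton (LocCoh.H p i M) := by
      intro M _ _ i hi
      exact Groth.Agent.S0333.result R p d hd R
        (fun q hq _ hqp => by
          rw [Module.mem_support_iff_of_finite, Module.annihilator_eq_bot.mpr inferInstance]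
          exact bot_le) hvan M i hi
    have hJ : p ≤ (⊥ : Ideal R).jacobson := by
      rw [IsLocalRing.jacobson_eq_maximalIdeal ⊥ bot_ne_top]
      exact IsLocalRing.le_maximalIdeal hp.ne_top
    exact Groth.Agent.S1736.result R d hd I p hIp hJ h1 R d le_rfl

end Groth.Agent.S17763
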