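import Groth.Statements.S17765
import Mathlib
import Groth.Agent.S0604
import Groth.Agent.S7137
import Groth.Agent.Lib.Helper28RegLoc
import Groth.Agent.Lib.Helper5RLR3
import Groth.Agent.Lib.Helper28Depth
import Groth.Agent.Lib.Helper5Depth
-- import your own Groth.Agent.* helpers here

set_option autoImplicit false
universe u
open CategoryTheory
open LocCoh

namespace Groth.Agent.S17765

open CategoryTheory.Limits IsLocalRing

/-- pd of the localized module over the localization is bounded by pd over the base. -/
theorem pdLE_localizedModule {B : Type u} [CommRing B] (S : Submonoid B)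
    (M : Type u) [AddCommGroup M] [Module B M] (n : ℕ)
    (hn : HasProjectiveDimensionLE (ModuleCat.of B M) n) :
    HasProjectiveDimensionLE (ModuleCat.of (Localization S) (LocalizedModule S M)) n := by
  have h1 : HasProjectiveDimensionLE ((ModuleCat.of B M).localizedModule S) n :=
    ModuleCat.localizedModule_hasProjectiveDimensionLE n S (ModuleCat.of B M)
  have hloc := ModuleCat.localizedModule_isLocalizedModule (ModuleCat.of B M) S
  let e₀ : ((ModuleCat.of B M).localizedModule S) ≃ₗ[B] LocalizedModule S M :=
    @IsLocalizedModule.linearEquiv _ _ S _ _ _ _ _ _ _ _ _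
      ((ModuleCat.of B M).localizedModuleMkLinearMap S)
      (LocalizedModule.mkLinearMap S M) hloc inferInstance
  let e : ((ModuleCat.of B M).localizedModule S) ≃ₗ[Localization S] LocalizedModule S M :=
    LinearEquiv.extendScalarsOfIsLocalization S (Localization S) e₀
  have h2 : HasProjectiveDimensionLT ((ModuleCat.of B M).localizedModule S) (n + 1) := h1
  exact hasProjectiveDimensionLT_of_iso e.toModuleIso (n + 1)

/-- for a regular local ring, dim ≤ depth. -/
theorem dim_le_depth_of_regular (R : Type u) [CommRing R] [IsRegularLocalRing R] :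
    ringKrullDim R ≤ ((LocCoh.depth R R : ℕ∞) : WithBot ℕ∞) := by
  obtain ⟨rs, hdim, hrs, hreg⟩ :=
    Groth.Agent.Lib.Helper5.exists_isRegular_ofList_eq_maximalIdeal (R := R)
  rw [hdim]
  have hmem : ∀ r ∈ rs, r ∈ maximalIdeal R := by
    intro r hr
    rw [← hrs]
    exact Ideal.subset_span hr
  have := Groth.Agent.Lib.Helper28.length_le_idealDepth (I := maximalIdeal R) (M := R)
    hreg.toIsWeaklyRegular hmem
  exact_mod_cast this

/-- Let B be a regular local ring, M a finitely generated B-module and p an associated prime ideal of M.
Then the height of p is at most the projective dimension of M: for every n such that M has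
projective dimension at most n, ht p ≤ n. -/
theorem result (B : Type u) [CommRing B] [IsRegularLocalRing B] (M : Type u) [AddCommGroup M] [Module B M] [Module.Finite B M] (p : Ideal B) (hp : p ∈ associatedPrimes B M) (n : ℕ) (hn : HasProjectiveDimensionLE (ModuleCat.of B M) n) : p.height ≤ n := by
  haveI := hp.isPrime
  haveI : IsRegularLocalRing (Localization.AtPrime p) :=
    Groth.Agent.Lib.Helper28.isRegularLocalRing_localization_of_isRegularLocalRing B p
  have hass := Module.associatedPrimes.mem_associatedPrimes_atPrime_of_mem_associatedPrimes hp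
  have hnt : Nontrivial (LocalizedModule p.primeCompl M) := by
    by_contra hcon
    rw [not_nontrivial_iff_subsingleton] at hcon
    rw [associatedPrimes.eq_empty_of_subsingleton] at hass
    exact hass
  have hdepth : LocCoh.depth (Localization.AtPrime p) (LocalizedModule p.primeCompl M) = 0 :=
    Groth.Agent.Lib.Helper5.depth_eq_zero_iff_maximalIdeal_mem_associatedPrimes.2 hass
  have hpd := pdLE_localizedModule p.primeCompl M n hn
  have hpd' : projectiveDimension
      (ModuleCat.of (Localization.AtPrime p) (LocalizedModule p.primeCompl M)) ≤ n :=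
    (projectiveDimension_le_iff _ _).2 hpd
  have hne : projectiveDimension
      (ModuleCat.of (Localization.AtPrime p) (LocalizedModule p.primeCompl M)) ≠ ⊤ := by
    intro h
    rw [h] at hpd'
    have h2 : ((n : ℕ∞) : WithBot ℕ∞) ≠ ((⊤ : ℕ∞) : WithBot ℕ∞) := by
      rw [Ne, WithBot.coe_inj]
      exact ENat.coe_ne_top n
    exact h2 (top_le_iff.1 hpd')
  have hnz : ¬ IsZero (ModuleCat.of (Localization.AtPrime p) (LocalizedModule p.primeCompl M)) := by
    rw [ModuleCat.isZero_iff_subsingleton]
    exact not_subsingleton _
  obtain ⟨e, he⟩ := Groth.Agent.S7137.exists_nat_pd _ hne hnz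
  have hAB := Groth.Agent.S0604.result (Localization.AtPrime p)
    (LocalizedModule p.primeCompl M) e he
  rw [hdepth, add_zero] at hAB
  have hdim := dim_le_depth_of_regular (Localization.AtPrime p)
  rw [hAB, IsLocalization.AtPrime.ringKrullDim_eq_height p (Localization.AtPrime p)] at hdim
  rw [he] at hpd'
  have h1 : ((p.height : ℕ∞) : WithBot ℕ∞) ≤ ((n : ℕ∞) : WithBot ℕ∞) := by
    refine hdim.trans ?_
    exact_mod_cast hpd'
  exact_mod_cast h1

end Groth.Agent.S17765
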