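import Groth.Statements.S17770
import Groth.Agent.Lib.Helper29GrSerre3
import Groth.Agent.Lib.Helper29GrStarLocalArt
import Groth.Agent.Lib.Helper8GV

set_option autoImplicit false
universe u
open BigOperators
open GrLC

namespace Groth.Agent.S17770

/-- Let R = ⊕_{n ≥ 0} R_n be a Noetherian positively ℤ-graded ring which is standard graded (irrelevant
ideal generated by R_1), with R_0 Artinian, *local with unique homogeneous maximal ideal m, and of
Krull dimension d. Let M be a finitely generated graded R-module, H_M(n) = ℓ_{R_0}(M_n) its Hilbert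
function and P_M ∈ ℚ[X] its Hilbert polynomial, i.e. a polynomial with P_M(n) = H_M(n) for all
sufficiently large n (taken as given). Then for every integer n, H_M(n) − P_M(n) = Σ_{i = 0}^{d}
(−1)^i ℓ_{R_0}(H^i_m(M)_n), where H^i_m(M)_n are the homogeneous pieces of graded local cohomology
with support in m computed from any *injective resolution of M (their lengths are finite, and the
pieces vanish for i > d). -/
theorem result (R : Type u) [CommRing R] [IsNoetherianRing R] (𝒜 : ℤ → AddSubgroup R) [GradedRing 𝒜] (hpos : ∀ n : ℤ, n < 0 → 𝒜 n = ⊥) (hstd : Ideal.span (⋃ n ∈ Set.Ioi (0 : ℤ), (𝒜 n : Set R)) = Ideal.span ((𝒜 1 : AddSubgroup R) : Set R)) [IsArtinianRing (GrLC.deg0 𝒜)] (m : HomogeneousIdeal 𝒜) (hm : GrLC.IsStarLocal 𝒜 m) (d : ℕ) (hd : ringKrullDim R = d) (M : Type u) [AddCommGroup M] [Module R M] [Module.Finite R M] (ℳ : ℤ → AddSubgroup M) [DirectSum.Decomposition ℳ] [SetLike.GradedSMul 𝒜 ℳ] (E : GrLC.StarInjRes 𝒜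 ℳ) (P : Polynomial ℚ) (hP : ∃ N : ℤ, ∀ n : ℤ, N ≤ n → P.eval (n : ℚ) = ((Module.length (GrLC.deg0 𝒜) (GrLC.comp 𝒜 ℳ n)).toNat : ℚ)) (n : ℤ) : ((Module.length (GrLC.deg0 𝒜) (GrLC.comp 𝒜 ℳ n)).toNat : ℚ) - P.eval (n : ℚ) = ∑ i ∈ Finset.range (d + 1), (-1 : ℚ) ^ i * ((Module.length (GrLC.deg0 𝒜) (E.Hcomp m i n)).toNat : ℚ) := by
  classical
  let a : HomogeneousIdeal 𝒜 :=
    ⟨Groth.Agent.Lib.Helper29.GrHmod.Rp 𝒜, Groth.Agent.Lib.Helper29.GrHmod.Rp_isHomogeneous 𝒜⟩
  have ha : a.toIdeal = Ideal.span (⋃ n ∈ Set.Ioi (0 : ℤ), (𝒜 n : Set R)) := rfl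
  obtain ⟨D₀, hD₀⟩ := Groth.Agent.Lib.Helper8.Cd.exists_bound a.toIdeal
  have hD : Groth.Agent.Lib.Helper8.Cd.Bound a.toIdeal (max D₀ d) :=
    fun Y _ _ j hj y => hD₀ Y j (lt_of_le_of_lt (le_max_left _ _) hj) y
  have key := Groth.Agent.Lib.Helper29GrSerre.serre_aux a hpos ha (max D₀ d) hD M ⊥ M ℳ
    LinearMap.id Function.surjective_id LinearMap.ker_id E P hP n
  have hle := Groth.Agent.Lib.Helper29.GrHmod.Rp_le 𝒜 hpos m hm
  obtain ⟨N, hN⟩ := Groth.Agent.Lib.Helper29GrStarLocalArt.exists_pow_le_Rp 𝒜 hpos m hm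
  have hgam : ∀ j, GrLC.gam m.toIdeal (E.X j).carrier = GrLC.gam a.toIdeal (E.X j).carrier :=
    fun j => Groth.Agent.Lib.Helper29GrStarLocalArt.gam_eq_of_pow_le hle N hN _
  have hlen : ∀ i, Module.length (GrLC.deg0 𝒜) (E.Hcomp m i n) =
      Module.length (GrLC.deg0 𝒜) (E.Hcomp a i n) := fun i =>
    Groth.Agent.Lib.Helper29GrStarLocalArt.length_Hcomp_eq_of_gam_eq E m a hgam i n
  have hvan : ∀ i, d < i → E.Hcomp a i n = ⊥ := by
    intro i hi
    refine Groth.Agent.Lib.Helper29GrCMEnd.Hcomp_eq_bot_of_H_eq_zero a E i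
      (Groth.Agent.Lib.Helper8.GV.H_eq_zero_of_supportDim_lt a.toIdeal i M ?_) n
    have h1 : Module.supportDim R M ≤ ringKrullDim R := Module.supportDim_le_ringKrullDim R M
    rw [hd] at h1
    refine lt_of_le_of_lt h1 ?_
    exact_mod_cast hi
  show ((Groth.Agent.Lib.Helper29GrSerre.hf 𝒜 ℳ n : ℕ) : ℚ) - P.eval (n : ℚ) = _
  rw [key]
  unfold Groth.Agent.Lib.Helper29GrSerre.chi Groth.Agent.Lib.Helper29GrEulerAdd.hl
  push_cast
  symm
  have hsub : Finset.range (d + 1) ⊆ Finset.range (max D₀ d + 1) := by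
    intro i hi
    rw [Finset.mem_range] at hi ⊢
    have := le_max_right D₀ d
    omega
  rw [← Finset.sum_subset hsub]
  · refine Finset.sum_congr rfl fun i _ => ?_
    rw [hlen i]
  · intro i _ hi
    rw [Finset.mem_range, not_lt] at hi
    rw [hvan i (by omega)]
    simp

end Groth.Agent.S17770
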