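import Groth.Statements.S17772
import Groth.Agent.S17770
import Groth.Agent.Lib.Helper29GrDimHt
import Groth.Agent.Lib.Helper29GrCMEnd

set_option autoImplicit false
universe u
open GrLC

namespace Groth.Agent.S17772

/-- Let R = ⊕_{n ≥ 0} R_n be a positively ℤ-graded ring which is standard graded (irrelevant ideal
generated by R_1), with R_0 Artinian, *local with unique homogeneous maximal ideal m, and
Cohen–Macaulay of Krull dimension d; let H_R(n) = ℓ_{R_0}(R_n) be its Hilbert function and P_R ∈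
ℚ[X] its Hilbert polynomial (a polynomial agreeing with H_R for all large n, taken as given). Then
the a-invariant of R, the largest degree in which H^d_m(R) is nonzero (computed from any *injective
resolution of R), equals the supremum of the integers n with P_R(n) ≠ H_R(n). (The published text
writes 'min' for this supremum; the set of such n is unbounded below whenever it is nonempty, e.g.
all n < 0 for a polynomial ring over a field, and the published one-line proof H_R(n) − P_R(n) =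
(−1)^d ℓ(H^d_m(R)_n) identifies the set with the nonzero degrees of H^d_m(R), whose largest element
is a(R).) -/
theorem result (R : Type u) [CommRing R] [LocCoh.IsCohenMacaulayRing R] (𝒜 : ℤ → AddSubgroup R) [GradedRing 𝒜] (hpos : ∀ n : ℤ, n < 0 → 𝒜 n = ⊥) (hstd : Ideal.span (⋃ n ∈ Set.Ioi (0 : ℤ), (𝒜 n : Set R)) = Ideal.span ((𝒜 1 : AddSubgroup R) : Set R)) [IsArtinianRing (GrLC.deg0 𝒜)] (m : HomogeneousIdeal 𝒜) (hm : GrLC.IsStarLocal 𝒜 m) (d : ℕ) (hd : ringKrullDim R = d) (I : GrLC.StarInjRes 𝒜 𝒜) (P : Polynomial ℚ) (hP : ∃ N : ℤ, ∀ n : ℤ, N ≤ n → P.eval (n : ℚ) = ((Module.length (GrLC.deg0 𝒜) (GrLC.comp 𝒜 𝒜 n)).toNat : ℚ)) : GrLC.endDeg (I.Hgr m d) = ⨆ (n : ℤ) (_ : P.eval (n : ℚ) ≠ ((Module.length (GrLC.deg0 𝒜) (GrLC.comp 𝒜 𝒜 n)).toNat : ℚ)), ((n : WithTop ℤ) : WithBot (WithTop ℤ)) := by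
  classical
  haveI hmax : m.toIdeal.IsMaximal :=
    Groth.Agent.Lib.Helper29.GrHmod.isMaximal_of_isStarLocal 𝒜 hpos m hm
  have hht := Groth.Agent.Lib.Helper29GrDimHt.height_eq 𝒜 hpos m hm d hd
  let a : HomogeneousIdeal 𝒜 :=
    ⟨Groth.Agent.Lib.Helper29.GrHmod.Rp 𝒜, Groth.Agent.Lib.Helper29.GrHmod.Rp_isHomogeneous 𝒜⟩
  have ha : a.toIdeal = Ideal.span (⋃ n ∈ Set.Ioi (0 : ℤ), (𝒜 n : Set R)) := rfl
  have hle := Groth.Agent.Lib.Helper29.GrHmod.Rp_le 𝒜 hpos m hm
  obtain ⟨N, hN⟩ := Groth.Agent.Lib.Helper29GrStarLocalArt.exists_pow_le_Rp 𝒜 hpos m hm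
  have hgam : ∀ j, GrLC.gam m.toIdeal (I.X j).carrier = GrLC.gam a.toIdeal (I.X j).carrier :=
    fun j => Groth.Agent.Lib.Helper29GrStarLocalArt.gam_eq_of_pow_le hle N hN _
  have hfin : ∀ n : ℤ, Module.length (GrLC.deg0 𝒜) (I.Hcomp m d n) ≠ ⊤ := by
    intro n
    rw [Groth.Agent.Lib.Helper29GrStarLocalArt.length_Hcomp_eq_of_gam_eq I m a hgam d n]
    exact Groth.Agent.Lib.Helper29GrSerre.length_Hcomp_ne_top a hpos ha I d n
  have hvan : ∀ (j : ℕ) (n : ℤ), j < d → I.Hcomp m j n = ⊥ := by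
    intro j n hlt
    exact Groth.Agent.Lib.Helper29GrCMEnd.Hcomp_eq_bot_of_H_eq_zero m I j
      (Groth.Agent.Lib.Helper29MaxVanish.H_self_eq_zero_of_lt_height m.toIdeal inferInstance j
        (by rw [hht]; exact_mod_cast hlt)) _
  have hiff : ∀ n : ℤ, (I.Hgr m d n ≠ ⊥) ↔
      (P.eval (n : ℚ) ≠ ((Module.length (GrLC.deg0 𝒜) (GrLC.comp 𝒜 𝒜 n)).toNat : ℚ)) := by
    intro n
    have hS := Groth.Agent.S17770.result R 𝒜 hpos hstd m hm d hd R 𝒜 I P hP n
    rw [Finset.sum_eq_single_of_mem d (Finset.mem_range.mpr (Nat.lt_succ_self d))] at hS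
    swap
    · intro j hj hne
      have hjd : j < d := lt_of_le_of_ne (Nat.lt_succ_iff.mp (Finset.mem_range.mp hj)) hne
      haveI : Subsingleton ↥(I.Hcomp m j n) :=
        Submodule.subsingleton_iff_eq_bot.mpr (hvan j n hjd)
      have hz : Module.length (GrLC.deg0 𝒜) (I.Hcomp m j n) = 0 := Module.length_eq_zero
      rw [hz]
      simp
    rw [Ne, Groth.Agent.Lib.Helper29GrQuotEnd.Hgr_eq_bot_iff]
    constructor
    · intro hne heq
      rw [heq, sub_self] at hS
      have h0 : ((Module.length (GrLC.deg0 𝒜) (I.Hcomp m d n)).toNat : ℚ) = 0 := by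
        rcases mul_eq_zero.mp hS.symm with h | h
        · exact absurd h (pow_ne_zero _ (by norm_num))
        · exact h
      have h1 : (Module.length (GrLC.deg0 𝒜) (I.Hcomp m d n)).toNat = 0 := by exact_mod_cast h0
      rcases (ENat.toNat_eq_zero).mp h1 with h | h
      · exact hne (Submodule.subsingleton_iff_eq_bot.mp (Module.length_eq_zero_iff.mp h))
      · exact hfin n h
    · intro hne hbot
      apply hne
      haveI : Subsingleton ↥(I.Hcomp m d n) := Submodule.subsingleton_iff_eq_bot.mpr hbot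
      have hz : Module.length (GrLC.deg0 𝒜) (I.Hcomp m d n) = 0 := Module.length_eq_zero
      rw [hz] at hS
      simp only [ENat.toNat_zero, Nat.cast_zero, mul_zero] at hS
      exact (sub_eq_zero.mp hS).symm
  unfold GrLC.endDeg
  refine iSup_congr fun n => ?_
  exact iSup_congr_Prop (hiff n) (fun _ => rfl)

end Groth.Agent.S17772
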