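import Groth.Statements.S17773
import Groth.Agent.Lib.Helper8DeltaP
import Groth.Agent.Lib.Helper8TorFlip

set_option autoImplicit false
universe u
open CategoryTheory CategoryTheory.Limits
open CAlg

namespace Groth.Agent.S17773

open CategoryTheory.Limits MonoidalCategory Groth.Agent.Helper13Tor
  Groth.Agent.Lib.Helper8.DeltaP Groth.Agent.Lib.Helper8.TorFlip

section Helpers

variable {R : Type u} [CommRing R]

/-- `Tor_n(-, N)`. -/
noncomputable abbrev TT (N : ModuleCat.{u} R) (n : ℕ) : ModuleCat.{u} R ⥤ ModuleCat.{u} R :=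
  (Tor (ModuleCat.{u} R) n).flip.obj N

theorem TT_isEffDeltaP (N : ModuleCat.{u} R) :
    IsEffDeltaP (TT N) (fun X => Module.Flat R X) where
  exists_δ S hS n := Groth.Agent.Helper13Tor.exists_δ S hS N n
  isZero_of_P X hX n := by
    have := hX
    exact isZero_tor_of_flat N X (n + 1) (by omega)

/-- `Tor_0(-, N) ≅ - ⊗ N`. -/
noncomputable def e0 (N : ModuleCat.{u} R) : TT N 0 ≅ tensorRight N :=
  NatIso.ofComponents (fun X => (torZeroIso.app X).app N) (fun f =>
    congr_arg (fun t => t.app N) (torZeroIso.hom.naturality f))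

/-- left derived functors of isomorphic functors. -/
noncomputable def leftDerivedIso {C D : Type*} [Category C] [Category D] [Abelian C]
    [HasProjectiveResolutions C] [Abelian D] {F G : C ⥤ D} [F.Additive] [G.Additive]
    (β : F ≅ G) (n : ℕ) : F.leftDerived n ≅ G.leftDerived n where
  hom := NatTrans.leftDerived β.hom n
  inv := NatTrans.leftDerived β.inv n
  hom_inv_id := by
    rw [← NatTrans.leftDerived_comp, β.hom_inv_id, NatTrans.leftDerived_id]
  inv_hom_id := by
    rw [← NatTrans.leftDerived_comp, β.inv_hom_id, NatTrans.leftDerived_id]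

end Helpers

/-- Let R be a commutative ring, M and N two R-modules, and F a flat resolution of M: a chain complex F
of flat R-modules concentrated in non-negative degrees together with a quasi-isomorphism from F to M
placed in degree 0. Then for every i ≥ 0 the i-th homology module of the complex F ⊗_R N is
isomorphic to Tor_i^R(M, N), the i-th left derived functor of − ⊗_R N evaluated at M (existence of
an isomorphism of R-modules). -/
theorem result (R : Type u) [CommRing R] (M N : Type u) [AddCommGroup M] [Module R M] [AddCommGroup N] [Module R N] (F : ChainComplex (ModuleCat.{u} R) ℕ) (hF : ∀ i : ℕ, Module.Flat R (F.X i)) (φ : F ⟶ (ChainComplex.single₀ (ModuleCat.{u} R)).obj (ModuleCat.of R M)) [QuasiIso φ] (i : ℕ) : Nonempty ((((MonoidalCategory.tensorRight (ModuleCat.of R N)).mapHomologicalComplex (ComplexShape.down ℕ)).obj F).homology i ≅ ((Tor' (ModuleCat.{u} R) i).obj (ModuleCat.of R M)).obj (ModuleCat.of R N)) := by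
  have hK := fun j => exactAt_succ_of_quasiIso F φ j
  obtain ⟨e1⟩ := nonempty_iso (TT_isEffDeltaP (ModuleCat.of R N)) (tensorRight (ModuleCat.of R N))
    (e0 (ModuleCat.of R N)) F hK hF (opcyclesZeroIso F φ) i
  have e2 : ((Tor (ModuleCat.{u} R) i).obj (ModuleCat.of R N)).obj (ModuleCat.of R M) ≅
      ((Tor (ModuleCat.{u} R) i).obj (ModuleCat.of R M)).obj (ModuleCat.of R N) :=
    ((torFlipIso i).app (ModuleCat.of R N)).app (ModuleCat.of R M)
  have e3 : ((Tor' (ModuleCat.{u} R) i).obj (ModuleCat.of R M)).obj (ModuleCat.of R N) ≅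
      ((Tor (ModuleCat.{u} R) i).obj (ModuleCat.of R N)).obj (ModuleCat.of R M) :=
    (leftDerivedIso (BraidedCategory.tensorLeftIsoTensorRight (ModuleCat.of R N)).symm i).app
      (ModuleCat.of R M)
  exact ⟨e1.symm ≪≫ e2.symm ≪≫ e3.symm⟩

end Groth.Agent.S17773
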