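import Groth.Statements.S17774
import Groth.Agent.Lib.Helper29GorHull
import Groth.Agent.Lib.Helper28FGDim
import Groth.Agent.S0341
import Groth.Agent.S0302

set_option autoImplicit false
universe u
open CategoryTheory Opposite
open LocCoh

namespace Groth.Agent.S17774

/-- Let (S, n) be a Gorenstein local ring, I an ideal of S of height g such that R = S ⧸ I is a
Cohen–Macaulay local ring, of Krull dimension d, and E an injective hull of the residue field of S.
Then the canonical module of R is Ext^g_S(R, S), in the following sense: the Matlis dual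
Hom_S(Ext^g_S(R, S), E) is isomorphic as an S-module to the top local cohomology H^d_n(R) of R
regarded as an S-module (existence of an S-linear isomorphism; Hom into E over S and local
cohomology with support in n agree with the corresponding notions over R for R-modules). -/
theorem result (S : Type u) [CommRing S] [LocCoh.IsGorensteinLocalRing S] (I : Ideal S) (g : ℕ) (hg : I.height = g) [LocCoh.IsCohenMacaulayLocalRing (S ⧸ I)] (d : ℕ) (hd : ringKrullDim (S ⧸ I) = d) (E : Type u) [AddCommGroup E] [Module S E] (f : IsLocalRing.ResidueField S →ₗ[S] E) (hf : InjHull.IsInjectiveHull f) : Nonempty ((((Ext S (ModuleCat.{u} S) g).obj (op (ModuleCat.of S (S ⧸ I)))).obj (ModuleCat.of S S) →ₗ[S] E) ≃ₗ[S] LocCoh.H (IsLocalRing.maximalIdeal S) d (S ⧸ I)) := by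
  classical
  obtain ⟨n, hn⟩ := Groth.Agent.Lib.Helper5.exists_nat_ringKrullDim_eq S
  have hCM : LocCoh.IsCohenMacaulayLocalRing S := Groth.Agent.S0341.result S
  have hI : I ≠ ⊤ := by
    intro h
    have : Nontrivial (S ⧸ I) := inferInstance
    exact (Ideal.Quotient.nontrivial_iff.mp this) h
  have hsum := Groth.Agent.Lib.Helper28.height_add_ringKrullDim_quotient_eq_of_isCohenMacaulayLocalRing I hI
  rw [hg, hd, hn] at hsum
  have hgd : g + d = n := by exact_mod_cast hsum
  obtain ⟨f', hf'⟩ := Groth.Agent.Lib.Helper29.GorHull.exists_isInjectiveHull_of_gorenstein S n hn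
  obtain ⟨e, _⟩ := Groth.Agent.S0302.result S (IsLocalRing.ResidueField S) _ E f' hf' f hf
  obtain ⟨dd⟩ := Groth.Agent.Lib.Helper29.GorHull.duality_gorenstein S n hn (S ⧸ I) d (by omega)
  have hnd : n - d = g := by omega
  rw [hnd] at dd
  exact ⟨(dd.trans (LinearEquiv.congrRight e)).symm⟩

end Groth.Agent.S17774
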