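import Groth.Statements.S17779
import Mathlib

set_option autoImplicit false
open DRR

namespace Groth.Agent.S17779

/-- alternating binomial power sum -/
def T (n k : ℕ) : ℤ := ∑ j ∈ Finset.range (n + 1), (-1 : ℤ) ^ (n - j) * (n.choose j : ℤ) * (j : ℤ) ^ k

def U (n k : ℕ) : ℤ := ∑ i ∈ Finset.range (n + 1), (-1 : ℤ) ^ (n - i) * (n.choose i : ℤ) * ((i : ℤ) + 1) ^ k

theorem T_succ_succ (n k : ℕ) : T (n + 1) (k + 1) = ((n : ℤ) + 1) * U n k := by
  unfold T U
  rw [Finset.sum_range_succ', Finset.mul_sum]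
  simp only [Nat.cast_zero, ne_eq, Nat.add_eq_zero_iff, one_ne_zero, and_false, not_false_eq_true,
    zero_pow, mul_zero, add_zero]
  apply Finset.sum_congr rfl
  intro i _
  have h := Nat.add_one_mul_choose_eq n i
  have h' : ((n : ℤ) + 1) * (n.choose i : ℤ) = ((n + 1).choose (i + 1) : ℤ) * ((i : ℤ) + 1) := by
    exact_mod_cast h
  rw [Nat.add_sub_add_right]
  push_cast
  rw [pow_succ]
  linear_combination (-(-1 : ℤ) ^ (n - i) * ((i : ℤ) + 1) ^ k) * h'

theorem T_succ (n k : ℕ) : T (n + 1) k = U n k - T n k := by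
  have h1 : T (n + 1) k = (∑ i ∈ Finset.range (n + 1),
      (-1 : ℤ) ^ (n - i) * ((n + 1).choose (i + 1) : ℤ) * ((i : ℤ) + 1) ^ k)
      + (-1 : ℤ) ^ (n + 1) * (0 : ℤ) ^ k := by
    unfold T
    rw [Finset.sum_range_succ']
    simp only [Nat.add_sub_add_right, Nat.cast_add, Nat.cast_one, Nat.cast_zero, Nat.sub_zero,
      Nat.choose_zero_right, mul_one]
  have h2 : T n k = (∑ i ∈ Finset.range n,
      (-1 : ℤ) ^ (n - (i + 1)) * (n.choose (i + 1) : ℤ) * ((i : ℤ) + 1) ^ k)
      + (-1 : ℤ) ^ n * (0 : ℤ) ^ k := by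
    unfold T
    rw [Finset.sum_range_succ']
    simp only [Nat.cast_add, Nat.cast_one, Nat.cast_zero, Nat.sub_zero,
      Nat.choose_zero_right, mul_one]
  have h3 : (∑ i ∈ Finset.range (n + 1),
      (-1 : ℤ) ^ (n - i) * (n.choose (i + 1) : ℤ) * ((i : ℤ) + 1) ^ k)
      = - ∑ i ∈ Finset.range n,
      (-1 : ℤ) ^ (n - (i + 1)) * (n.choose (i + 1) : ℤ) * ((i : ℤ) + 1) ^ k := by
    rw [Finset.sum_range_succ, Nat.choose_succ_self, Nat.cast_zero, mul_zero, zero_mul, add_zero,
      ← Finset.sum_neg_distrib]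
    apply Finset.sum_congr rfl
    intro i hi
    rw [Finset.mem_range] at hi
    have : n - i = (n - (i + 1)) + 1 := by omega
    rw [this, pow_succ]
    ring
  have h4 : (∑ i ∈ Finset.range (n + 1),
      (-1 : ℤ) ^ (n - i) * ((n + 1).choose (i + 1) : ℤ) * ((i : ℤ) + 1) ^ k)
      = U n k + ∑ i ∈ Finset.range (n + 1),
      (-1 : ℤ) ^ (n - i) * (n.choose (i + 1) : ℤ) * ((i : ℤ) + 1) ^ k := by
    unfold U
    rw [← Finset.sum_add_distrib]
    apply Finset.sum_congr rfl
    intro i _
    rw [Nat.choose_succ_succ]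
    push_cast
    ring
  rw [h1, h4, h3, h2, pow_succ]
  ring

theorem T_rec (n k : ℕ) : T (n + 1) (k + 1) = ((n : ℤ) + 1) * (T (n + 1) k + T n k) := by
  rw [T_succ_succ, T_succ]
  ring

theorem T_zero_right (n : ℕ) : T n 0 = if n = 0 then 1 else 0 := by
  unfold T
  simp only [pow_zero, mul_one]
  have := Int.alternating_sum_range_choose (n := n)
  rw [← this]
  by_cases hn : n = 0
  · subst hn; simp
  · -- (-1)^(n-j) = (-1)^n * (-1)^j ... 
    rw [Finset.sum_congr rfl (g := fun j => (-1 : ℤ) ^ n * ((-1 : ℤ) ^ j * (n.choose j : ℤ)))]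
    · rw [← Finset.mul_sum, this, if_neg hn, mul_zero]
    · intro j hj
      rw [Finset.mem_range] at hj
      have hjn : j ≤ n := by omega
      have : (-1 : ℤ) ^ n = (-1) ^ (n - j) * (-1) ^ j := by rw [← pow_add, Nat.sub_add_cancel hjn]
      rw [this]
      have h2 : ((-1 : ℤ) ^ j) * ((-1 : ℤ) ^ j) = 1 := by rw [← pow_add, ← two_mul, pow_mul]; simp
      linear_combination (-(-1 : ℤ) ^ (n - j) * (n.choose j : ℤ)) * h2

theorem T_zero_left (k : ℕ) : T 0 k = if k = 0 then 1 else 0 := by
  unfold T
  by_cases hk : k = 0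
  · subst hk; simp
  · simp [hk]

/-- claimed value -/
def V (n k : ℕ) : ℤ :=
  if k = n + 1 then (((n + 1).choose 2 * n.factorial : ℕ) : ℤ)
  else if k = n then (n.factorial : ℤ) else 0

theorem main (n : ℕ) : ∀ k, k ≤ n + 1 → T n k = V n k := by
  induction n with
  | zero =>
    intro k hk
    rw [T_zero_left]
    unfold V
    interval_cases k
    · simp
    · simp
  | succ n ih =>
    intro k
    induction k with
    | zero =>
      intro _
      rw [T_zero_right]
      unfold V
      simp
    | succ k ihk =>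
      intro hk
      rw [T_rec, ihk (by omega), ih k (by omega)]
      unfold V
      rcases Nat.lt_trichotomy k n with h | h | h
      · -- k < n
        have h1 : k ≠ n + 1 + 1 := by omega
        have h2 : k ≠ n + 1 := by omega
        have h3 : k ≠ n := by omega
        have h4 : k + 1 ≠ n + 1 + 1 := by omega
        have h5 : k + 1 ≠ n + 1 := by omega
        simp [h1, h2, h3, h4, h5]
      · subst h
        have h1 : k ≠ k + 1 + 1 := by omega
        have h2 : k ≠ k + 1 := by omega
        have h4 : k + 1 ≠ k + 1 + 1 := by omega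
        simp only [h1, h2, h4, if_false, if_true, zero_add]
        rw [Nat.factorial_succ]
        push_cast
        ring
      · have hk' : k = n + 1 := by omega
        subst hk'
        have h1 : n + 1 ≠ n + 1 + 1 := by omega
        have h3 : n + 1 ≠ n := by omega
        simp only [h1, h3, if_false, if_true]
        have e1 : (n + 1 + 1).choose 2 = (n + 1).choose 2 + (n + 1) := by
          rw [Nat.choose_succ_succ' (n + 1) 1, Nat.choose_one_right]; ring
        rw [e1, Nat.factorial_succ]
        push_cast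
        ring

/-- For natural numbers n and k with k ≤ n + 1, the alternating sum over j = 0, …, n of (−1)^(n−j) C(n,
j) j^k (with the convention 0^0 = 1) equals n! · n(n+1)/2 when k = n + 1, equals n! when k = n, and
vanishes when k < n. (The published statement takes n ≥ 1 and divides through by n!; the case n = 0
holds as well and is included.) -/
theorem result (n k : ℕ) (hk : k ≤ n + 1) :
    (∑ j ∈ Finset.range (n + 1), (-1 : ℤ) ^ (n - j) * (n.choose j : ℤ) * (j : ℤ) ^ k) =
      (if k = n + 1 then (((n + 1).choose 2 * n.factorial : ℕ) : ℤ)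
        else if k = n then (n.factorial : ℤ) else 0) := by
  exact main n k hk

end Groth.Agent.S17779
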