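import Groth.Statements.S17780
import Mathlib
import Groth.Agent.S17779

set_option autoImplicit false
universe u
open DRR

namespace Groth.Agent.S17780

/-- For x, y in a commutative ring and a natural number n, (n+1)! · x · y^n equals the sum over j = 0,
…, n of (−1)^(n−j) C(n, j) (x + j y)^(n+1), minus (n · (n+1)!/2) · y^(n+1). (The published identity
is stated in ℚ[x, y] with an overall factor 1/(n+1) and the coefficients C(n, j)(−1)^(n−j)/n!; it is
given here multiplied through by (n+1)!, which makes it an identity with integer coefficients valid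
in every commutative ring; n · (n+1)!/2 is an integer.) -/
theorem result (A : Type u) [CommRing A] (x y : A) (n : ℕ) :
    ((n + 1).factorial : A) * x * y ^ n =
      (∑ j ∈ Finset.range (n + 1), (-1 : A) ^ (n - j) * (n.choose j : A) * (x + (j : A) * y) ^ (n + 1))
        - ((n * (n + 1).factorial / 2 : ℕ) : A) * y ^ (n + 1) := by
  classical
  have hT : ∀ m, m ≤ n + 1 →
      (∑ j ∈ Finset.range (n + 1), (-1 : A) ^ (n - j) * (n.choose j : A) * (j : A) ^ m)
        = ((Groth.Agent.S17779.V n m : ℤ) : A) := by
    intro m hm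
    rw [← Groth.Agent.S17779.main n m hm]
    unfold Groth.Agent.S17779.T
    push_cast
    rfl
  have hexp : ∀ j : ℕ, (x + (j : A) * y) ^ (n + 1)
      = ∑ m ∈ Finset.range (n + 1 + 1), (j : A) ^ m * (y ^ m * x ^ (n + 1 - m) * ((n + 1).choose m : A)) := by
    intro j
    rw [add_comm, add_pow]
    apply Finset.sum_congr rfl
    intro m _
    rw [mul_pow]
    ring
  have hsum : (∑ j ∈ Finset.range (n + 1), (-1 : A) ^ (n - j) * (n.choose j : A) * (x + (j : A) * y) ^ (n + 1))
      = ∑ m ∈ Finset.range (n + 1 + 1), ((Groth.Agent.S17779.V n m : ℤ) : A) *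
          (y ^ m * x ^ (n + 1 - m) * ((n + 1).choose m : A)) := by
    simp_rw [hexp, Finset.mul_sum]
    rw [Finset.sum_comm]
    apply Finset.sum_congr rfl
    intro m hm
    rw [Finset.mem_range] at hm
    rw [← hT m (by omega), Finset.sum_mul]
    apply Finset.sum_congr rfl
    intro j _
    ring
  rw [hsum, Finset.sum_range_succ, Finset.sum_range_succ]
  have hzero : ∑ m ∈ Finset.range n, ((Groth.Agent.S17779.V n m : ℤ) : A) *
          (y ^ m * x ^ (n + 1 - m) * ((n + 1).choose m : A)) = 0 := by
    apply Finset.sum_eq_zero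
    intro m hm
    rw [Finset.mem_range] at hm
    have : Groth.Agent.S17779.V n m = 0 := by
      unfold Groth.Agent.S17779.V
      rw [if_neg (by omega), if_neg (by omega)]
    rw [this, Int.cast_zero, zero_mul]
  have hVn : Groth.Agent.S17779.V n n = (n.factorial : ℤ) := by
    unfold Groth.Agent.S17779.V
    rw [if_neg (by omega), if_pos rfl]
  have hVn1 : Groth.Agent.S17779.V n (n + 1) = (((n + 1).choose 2 * n.factorial : ℕ) : ℤ) := by
    unfold Groth.Agent.S17779.V
    rw [if_pos rfl]
  rw [hzero, hVn, hVn1, zero_add]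
  have e1 : n + 1 - n = 1 := by omega
  have e2 : n + 1 - (n + 1) = 0 := by omega
  rw [e1, e2, Nat.choose_self, Nat.choose_succ_self_right, pow_zero, pow_one]
  have e3 : n * (n + 1).factorial / 2 = (n + 1).choose 2 * n.factorial := by
    rw [Nat.choose_two_right, Nat.factorial_succ]
    have h2 : 2 ∣ (n + 1) * (n + 1 - 1) := by
      rw [Nat.add_sub_cancel, mul_comm]
      exact Nat.even_mul_succ_self n |>.two_dvd
    rw [Nat.div_mul_right_comm h2]
    congr 1
    rw [Nat.add_sub_cancel]
    ring
  rw [e3, Nat.factorial_succ]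
  push_cast
  ring

end Groth.Agent.S17780
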