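import Groth.Statements.S17781
import Mathlib

set_option autoImplicit false
open Variety

namespace Groth.Agent.S17781

/-- Lucas: `p ∤ C(d-1, p^j - 1)` when `p^j ∣ d`, `d ≥ 1`. -/
theorem lucas_part (p : ℕ) (hp : p.Prime) : ∀ (j d : ℕ), 1 ≤ d → p ^ j ∣ d →
    ¬ p ∣ (d - 1).choose (p ^ j - 1) := by
  have : Fact p.Prime := ⟨hp⟩
  intro j
  induction j with
  | zero =>
    intro d _ _
    simp only [pow_zero, Nat.sub_self, Nat.choose_zero_right]
    exact hp.one_lt.ne' ∘ Nat.dvd_one.mp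
  | succ j ih =>
    intro d hd hdvd
    obtain ⟨d', rfl⟩ : p ∣ d := dvd_trans (dvd_pow_self p (Nat.succ_ne_zero j)) hdvd
    have hd' : 1 ≤ d' := by
      rcases Nat.eq_zero_or_pos d' with h | h
      · subst h; omega
      · exact h
    have hdvd' : p ^ j ∣ d' := by
      rw [pow_succ, mul_comm] at hdvd
      exact Nat.dvd_of_mul_dvd_mul_left hp.pos hdvd
    have hp1 : 1 ≤ p := hp.one_lt.le
    have e1 : p * d' - 1 = (p - 1) + p * (d' - 1) := by
      obtain ⟨t, rfl⟩ : ∃ t, d' = t + 1 := ⟨d' - 1, by omega⟩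
      obtain ⟨q, rfl⟩ : ∃ q, p = q + 1 := ⟨p - 1, by omega⟩
      simp only [Nat.add_sub_cancel]
      ring_nf
      omega
    have hpj : 1 ≤ p ^ j := Nat.one_le_pow _ _ hp.pos
    have e2 : p ^ (j + 1) - 1 = (p - 1) + p * (p ^ j - 1) := by
      rw [pow_succ, mul_comm]
      obtain ⟨t, ht⟩ : ∃ t, p ^ j = t + 1 := ⟨p ^ j - 1, by omega⟩
      rw [ht]
      obtain ⟨q, rfl⟩ : ∃ q, p = q + 1 := ⟨p - 1, by omega⟩
      simp only [Nat.add_sub_cancel]
      ring_nf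
      omega
    have hlt : p - 1 < p := by omega
    have m1 : (p * d' - 1) % p = p - 1 := by
      rw [e1, Nat.add_mul_mod_self_left, Nat.mod_eq_of_lt hlt]
    have m2 : (p * d' - 1) / p = d' - 1 := by
      rw [e1, Nat.add_mul_div_left _ _ hp.pos, Nat.div_eq_of_lt hlt, zero_add]
    have m3 : (p ^ (j + 1) - 1) % p = p - 1 := by
      rw [e2, Nat.add_mul_mod_self_left, Nat.mod_eq_of_lt hlt]
    have m4 : (p ^ (j + 1) - 1) / p = p ^ j - 1 := by
      rw [e2, Nat.add_mul_div_left _ _ hp.pos, Nat.div_eq_of_lt hlt, zero_add]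
    have hl := Choose.choose_modEq_choose_mod_mul_choose_div_nat (n := p * d' - 1)
      (k := p ^ (j + 1) - 1) (p := p)
    rw [m1, m2, m3, m4, Nat.choose_self, one_mul] at hl
    intro hdiv
    apply ih d' hd' hdvd'
    exact (Nat.modEq_zero_iff_dvd.mp (hl.symm.trans (Nat.modEq_zero_iff_dvd.mpr hdiv)))

theorem val_choose_pp (p : ℕ) (hp : p.Prime) (j d : ℕ) (hd : 1 ≤ d) (hdvd : p ^ j ∣ d) :
    (d.choose (p ^ j)).factorization p + j = d.factorization p := by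
  have hpj : 1 ≤ p ^ j := Nat.one_le_pow _ _ hp.pos
  have hle : p ^ j ≤ d := Nat.le_of_dvd hd hdvd
  have hid : d * (d - 1).choose (p ^ j - 1) = d.choose (p ^ j) * p ^ j := by
    have := Nat.add_one_mul_choose_eq (d - 1) (p ^ j - 1)
    rwa [Nat.sub_add_cancel hd, Nat.sub_add_cancel hpj] at this
  have h1 : d.choose (p ^ j) ≠ 0 := Nat.choose_ne_zero hle
  have h2 : (d - 1).choose (p ^ j - 1) ≠ 0 := Nat.choose_ne_zero (by omega)
  have h3 : p ^ j ≠ 0 := by omega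
  have h4 : d ≠ 0 := by omega
  have := congrArg (fun n => n.factorization p) hid
  simp only [Nat.factorization_mul h4 h2, Nat.factorization_mul h1 h3, Finsupp.add_apply,
    hp.factorization_pow, Finsupp.single_eq_same] at this
  rw [Nat.factorization_eq_zero_of_not_dvd (lucas_part p hp j d hd hdvd)] at this
  omega

theorem lemB (z d N : ℕ) (hd : 1 ≤ d) (hN : 1 ≤ N)
    (h : ∀ m, 1 ≤ m → m ≤ N → z ∣ d.choose m) :
    ∀ δ, 1 ≤ δ → δ ≤ N → δ ∣ d → z ∣ d / δ := by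
  intro δ hδ1 hδN hδd
  have hz : z ≠ 0 := by
    intro h0
    have := h 1 le_rfl hN
    rw [h0, Nat.choose_one_right, zero_dvd_iff] at this
    omega
  have hdδ : d / δ ≠ 0 := by
    have : 0 < d / δ := Nat.div_pos (Nat.le_of_dvd hd hδd) hδ1
    omega
  rw [← Nat.factorization_le_iff_dvd hz hdδ]
  intro p
  by_cases hp : p.Prime
  · have hpj : p ^ δ.factorization p ∣ δ := Nat.ordProj_dvd δ p
    have hpjd : p ^ δ.factorization p ∣ d := dvd_trans hpj hδd
    have hpj1 : 1 ≤ p ^ δ.factorization p := Nat.one_le_pow _ _ hp.pos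
    have hpjN : p ^ δ.factorization p ≤ N := le_trans (Nat.le_of_dvd hδ1 hpj) hδN
    have hzC := h _ hpj1 hpjN
    have hC0 : d.choose (p ^ δ.factorization p) ≠ 0 :=
      Nat.choose_ne_zero (Nat.le_of_dvd hd hpjd)
    have h1 : z.factorization p ≤ (d.choose (p ^ δ.factorization p)).factorization p :=
      (Nat.factorization_le_iff_dvd hz hC0).mpr hzC p
    have h2 := val_choose_pp p hp (δ.factorization p) d hd hpjd
    rw [Nat.factorization_div hδd, Finsupp.tsub_apply]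
    omega
  · rw [Nat.factorization_eq_zero_of_not_prime z hp]
    exact Nat.zero_le _

theorem lemA (z d N : ℕ) (hd : 1 ≤ d)
    (h : ∀ δ, 1 ≤ δ → δ ≤ N → δ ∣ d → z ∣ d / δ) :
    ∀ m, 1 ≤ m → m ≤ N → z ∣ d.choose m := by
  intro m hm1 hmN
  have hδpos : 0 < Nat.gcd d m := Nat.gcd_pos_of_pos_right d hm1
  have hδm : Nat.gcd d m ≤ m := Nat.le_of_dvd hm1 (Nat.gcd_dvd_right d m)
  have hz := h (Nat.gcd d m) hδpos (le_trans hδm hmN) (Nat.gcd_dvd_left d m)
  refine dvd_trans hz ?_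
  have hid : d * (d - 1).choose (m - 1) = d.choose m * m := by
    have := Nat.add_one_mul_choose_eq (d - 1) (m - 1)
    rwa [Nat.sub_add_cancel hd, Nat.sub_add_cancel hm1] at this
  have hcop : Nat.Coprime (d / Nat.gcd d m) (m / Nat.gcd d m) :=
    Nat.coprime_div_gcd_div_gcd hδpos
  obtain ⟨d1, hd1⟩ := Nat.gcd_dvd_left d m
  obtain ⟨m1, hm1'⟩ := Nat.gcd_dvd_right d m
  have e1 : d / Nat.gcd d m = d1 :=
    Nat.div_eq_of_eq_mul_right hδpos hd1
  have e2 : m / Nat.gcd d m = m1 :=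
    Nat.div_eq_of_eq_mul_right hδpos hm1'
  rw [e1, e2] at hcop
  rw [e1]
  have h3 : d1 * (d - 1).choose (m - 1) = d.choose m * m1 := by
    apply Nat.eq_of_mul_eq_mul_left hδpos
    calc Nat.gcd d m * (d1 * (d - 1).choose (m - 1))
        = (Nat.gcd d m * d1) * (d - 1).choose (m - 1) := by ring
      _ = d * (d - 1).choose (m - 1) := by rw [← hd1]
      _ = d.choose m * m := hid
      _ = d.choose m * (Nat.gcd d m * m1) := by rw [← hm1']
      _ = Nat.gcd d m * (d.choose m * m1) := by ring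
  have h4 : d1 ∣ d.choose m * m1 := ⟨_, h3.symm⟩
  exact hcop.dvd_of_dvd_mul_right h4

/-- χ(d,n) -/
def chi (d n : ℕ) : ℤ := 1 - (-1 : ℤ) ^ n * ((d - 1).choose n : ℤ)

theorem chi_zero (d : ℕ) : chi d 0 = 0 := by simp [chi]

theorem chi_succ (d k : ℕ) (hd : 1 ≤ d) :
    chi d (k + 1) = chi d k + (-1 : ℤ) ^ k * (d.choose (k + 1) : ℤ) := by
  obtain ⟨e, rfl⟩ : ∃ e, d = e + 1 := ⟨d - 1, by omega⟩
  simp only [chi, Nat.add_sub_cancel]
  rw [Nat.choose_succ_succ' e k]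
  push_cast
  ring

theorem step1_mp (z : ℤ) (d N : ℕ) (hd : 1 ≤ d)
    (h : ∀ n, 1 ≤ n → n ≤ N → z ∣ chi d n) :
    ∀ m, 1 ≤ m → m ≤ N → z ∣ (d.choose m : ℤ) := by
  intro m hm1 hmN
  obtain ⟨k, rfl⟩ : ∃ k, m = k + 1 := ⟨m - 1, by omega⟩
  have h1 : z ∣ chi d (k + 1) := h _ hm1 hmN
  have h0 : z ∣ chi d k := by
    rcases Nat.eq_zero_or_pos k with hk | hk
    · subst hk; rw [chi_zero]; exact dvd_zero _
    · exact h k hk (by omega)
  rw [chi_succ d k hd] at h1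
  have h2 : z ∣ (-1 : ℤ) ^ k * (d.choose (k + 1) : ℤ) := (dvd_add_right h0).mp h1
  have hu : IsUnit ((-1 : ℤ) ^ k) := (isUnit_one.neg).pow k
  exact (hu.dvd_mul_left).mp h2

theorem step1_mpr (z : ℤ) (d N : ℕ) (hd : 1 ≤ d)
    (h : ∀ m, 1 ≤ m → m ≤ N → z ∣ (d.choose m : ℤ)) :
    ∀ n, n ≤ N → z ∣ chi d n := by
  intro n
  induction n with
  | zero => intro _; rw [chi_zero]; exact dvd_zero _
  | succ k ih =>
    intro hk
    rw [chi_succ d k hd]
    exact dvd_add (ih (by omega)) (Dvd.dvd.mul_left (h (k + 1) (by omega) hk) _)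


/-- Let d ≥ 1 and N ≥ 1 be integers and let I(d, N) be the greatest common divisor of the quotients d/δ
over the divisors δ of d with 1 ≤ δ ≤ N. Then I(d, N) equals the greatest common divisor of the
integers χ(d, n) = 1 − (−1)^n C(d − 1, n) for 1 ≤ n ≤ N (χ(d, n) is the Euler characteristic of O_H
for a degree-d hypersurface H in projective n-space). Both greatest common divisors are taken in ℤ,
normalised to be non-negative. -/
theorem result (d N : ℕ) (hd : 1 ≤ d) (hN : 1 ≤ N) :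
    (Finset.Icc 1 N).gcd (fun n => 1 - (-1 : ℤ) ^ n * ((d - 1).choose n : ℤ)) =
      ((Finset.Icc 1 N).filter (fun δ => δ ∣ d)).gcd (fun δ => ((d / δ : ℕ) : ℤ)) := by
  apply dvd_antisymm_of_normalize_eq Finset.normalize_gcd Finset.normalize_gcd
  · apply Finset.dvd_gcd
    intro δ hδ
    rw [Finset.mem_filter, Finset.mem_Icc] at hδ
    obtain ⟨⟨hδ1, hδN⟩, hδd⟩ := hδ
    obtain ⟨G, hG⟩ : ∃ G : ℤ, G = (Finset.Icc 1 N).gcd
      (fun n => 1 - (-1 : ℤ) ^ n * ((d - 1).choose n : ℤ)) := ⟨_, rfl⟩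
    rw [← hG]
    have h1 : ∀ n, 1 ≤ n → n ≤ N → G ∣ chi d n := by
      intro n hn1 hnN
      rw [hG]
      exact Finset.gcd_dvd (f := fun n => 1 - (-1 : ℤ) ^ n * ((d - 1).choose n : ℤ))
        (Finset.mem_Icc.mpr ⟨hn1, hnN⟩)
    have h2 := step1_mp G d N hd h1
    have h3 : ∀ m, 1 ≤ m → m ≤ N → G.natAbs ∣ d.choose m := by
      intro m hm1 hmN
      exact Int.natAbs_dvd_natAbs.mpr (h2 m hm1 hmN)
    have h4 := lemB G.natAbs d N hd hN h3 δ hδ1 hδN hδd
    exact Int.natAbs_dvd.mp (Int.natCast_dvd_natCast.mpr h4)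
  · apply Finset.dvd_gcd
    intro n hn
    rw [Finset.mem_Icc] at hn
    obtain ⟨G, hG⟩ : ∃ G : ℤ, G = ((Finset.Icc 1 N).filter (fun δ => δ ∣ d)).gcd
      (fun δ => ((d / δ : ℕ) : ℤ)) := ⟨_, rfl⟩
    rw [← hG]
    have h1 : ∀ δ, 1 ≤ δ → δ ≤ N → δ ∣ d → G.natAbs ∣ d / δ := by
      intro δ hδ1 hδN hδd
      have : G ∣ ((d / δ : ℕ) : ℤ) := by
        rw [hG]
        exact Finset.gcd_dvd (f := fun δ => ((d / δ : ℕ) : ℤ))
          (Finset.mem_filter.mpr ⟨Finset.mem_Icc.mpr ⟨hδ1, hδN⟩, hδd⟩)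
      exact Int.natAbs_dvd_natAbs.mpr this
    have h2 := lemA G.natAbs d N hd h1
    have h3 : ∀ m, 1 ≤ m → m ≤ N → G ∣ (d.choose m : ℤ) := by
      intro m hm1 hmN
      exact Int.natAbs_dvd.mp (Int.natCast_dvd_natCast.mpr (h2 m hm1 hmN))
    exact step1_mpr G d N hd h3 n hn.2

end Groth.Agent.S17781
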