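import Groth.Statements.S17794
import Mathlib
import Groth.Agent.Lib.Helper9QuotSh
import Groth.Agent.Lib.Helper12Kernel
import Groth.Agent.Lib.Helper12Torsor
import Groth.Agent.S12442

set_option autoImplicit false
universe u
open CategoryTheory CategoryTheory.Limits MonoidalCategory CartesianMonoidalCategory MonObj GrpObj AlgebraicGeometry
open GrpSch

namespace Groth.Agent.S17794


instance hasIsos_fppf : Precoverage.HasIsos Scheme.fppfPrecoverage.{u} := by
  unfold Scheme.fppfPrecoverage
  have : (@Flat ⊓ @LocallyOfFinitePresentation : MorphismProperty Scheme.{u}).ContainsIdentities :=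
    ⟨fun X => ⟨inferInstanceAs (Flat (𝟙 X)), inferInstanceAs (LocallyOfFinitePresentation (𝟙 X))⟩⟩
  infer_instance

instance jointlySurjective_fppf : Scheme.JointlySurjective Scheme.fppfPrecoverage.{u} := by
  unfold Scheme.fppfPrecoverage
  infer_instance

lemma exists_cover_of_epi {S : Scheme.{u}} {G H : Over S} (f : G ⟶ H)
    (h : Epi (QuotSh.repMap Scheme.fppfPrecoverage f)) :
    ∃ R ∈ Scheme.fppfPrecoverage H.left, ∀ ⦃V : Scheme.{u}⦄ (g : V ⟶ H.left), R g →
      ∃ l : Over.mk (g ≫ H.hom) ⟶ G, l.left ≫ f.left = g := by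
  have h1 : Sheaf.IsLocallySurjective (QuotSh.repMap Scheme.fppfPrecoverage f) :=
    (Sheaf.isLocallySurjective_iff_epi _).mpr h
  have h2 : Presheaf.IsLocallySurjective (QuotSh.J Scheme.fppfPrecoverage S)
      (Functor.whiskerRight (yoneda.map f) uliftFunctor.{u+1, u}) :=
    (Presheaf.isLocallySurjective_presheafToSheaf_map_iff _ _).1 h1
  have h3 := h2.imageSieve_mem (U := H) (ULift.up (𝟙 H))
  rw [GrothendieckTopology.mem_over_iff,
    Precoverage.mem_toGrothendieck_iff_of_isStableUnderComposition] at h3
  obtain ⟨R, hR, hle⟩ := h3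
  refine ⟨R, hR, fun V g hg => ?_⟩
  have h4 := hle _ _ hg
  rw [Sieve.overEquiv_iff] at h4
  obtain ⟨t, ht⟩ := h4
  refine ⟨t.down, ?_⟩
  have h5 := congrArg ULift.down ht
  have h6 : t.down ≫ f = Over.homMk g rfl ≫ 𝟙 H := h5
  have h7 := congrArg CommaMorphism.left h6
  simpa using h7


lemma flat_snd_of_lift {S : Scheme.{u}} {G H N : Over S} [GrpObj G] [GrpObj H] (f : G ⟶ H)
    [IsMonHom f] (i : N ⟶ G) (hi : AlgGrp.IsKernel i f) (hN : Flat N.hom) {V : Scheme.{u}}
    (l : V ⟶ G.left) : Flat (pullback.snd f.left (l ≫ f.left)) := by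
  have B := Groth.Agent.Lib.Helper12.Kernel.isPullback_act_of_isKernel i f hi
  have B' := Functor.map_isPullback (Over.forget S) B
  simp only [Over.forget_obj, Over.forget_map] at B'
  have hfl : Flat (fst G N).left := by
    have : (fst G N).left = pullback.fst G.hom N.hom := rfl
    rw [this]; infer_instance
  have A := IsPullback.of_hasPullback f.left (l ≫ f.left)
  have hc : pullback.fst f.left (l ≫ f.left) ≫ f.left =
      (pullback.snd f.left (l ≫ f.left) ≫ l) ≫ f.left := by
    rw [Category.assoc, pullback.condition]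
  have s : IsPullback (B'.lift _ _ hc ≫ ((G ◁ i) ≫ μ[G]).left)
      (pullback.snd f.left (l ≫ f.left)) f.left (l ≫ f.left) := by
    rw [B'.lift_fst]; exact A
  have key := IsPullback.of_right s (B'.lift_snd _ _ hc) B'
  exact MorphismProperty.of_isPullback (P := @Flat) key hfl



/-- Let S be a scheme and f : G → H a homomorphism of S-group schemes, both of finite presentation over
S (locally of finite presentation, quasi-compact and quasi-separated), and let i : N → G be the
kernel of f (the square formed by i, f, the unit section of H and N → S is cartesian). Then f is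
faithfully flat (flat and surjective) if and only if the map of representable sheaves h_G → h_H
induced by f on the big fppf site of S is an epimorphism of sheaves of sets and N is flat over S. -/
theorem result {S : Scheme.{u}} {G H N : Over S} [GrpObj G] [GrpObj H] (f : G ⟶ H) [IsMonHom f] [LocallyOfFinitePresentation G.hom] [QuasiCompact G.hom] [QuasiSeparated G.hom] [LocallyOfFinitePresentation H.hom] [QuasiCompact H.hom] [QuasiSeparated H.hom] (i : N ⟶ G) (hi : AlgGrp.IsKernel i f) : (Flat f.left ∧ Surjective f.left) ↔ (Epi (QuotSh.repMap Scheme.fppfPrecoverage f) ∧ Flat N.hom) := by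
  constructor
  · rintro ⟨hfl, hsurj⟩
    have hlfp : LocallyOfFinitePresentation f.left := by
      have : LocallyOfFinitePresentation (f.left ≫ H.hom) := by rw [Over.w f]; infer_instance
      exact Groth.Agent.S12442.result f.left H.hom
    refine ⟨Groth.Agent.Lib.Helper9.epi_repMap_fppf f, ?_⟩
    have hi' := Functor.map_isPullback (Over.forget S) hi
    simp only [Over.forget_obj, Over.forget_map] at hi'
    have h1 : Flat (toUnit N).left := MorphismProperty.of_isPullback (P := @Flat) hi' hfl
    have h2 : N.hom = (toUnit N).left ≫ (𝟙_ (Over S)).hom := (Over.w (toUnit N)).symm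
    have h3 : Flat (𝟙_ (Over S)).hom := inferInstanceAs (Flat (𝟙 S))
    rw [h2]; infer_instance
  · rintro ⟨hepi, hN⟩
    obtain ⟨R, hR, hlift⟩ := exists_cover_of_epi f hepi
    constructor
    · refine Groth.Agent.Lib.Helper12.of_mem_fpqcPrecoverage
        Groth.Agent.Lib.Helper12.descendsAlong_flat f.left R
        (Scheme.fppfPrecoverage_le_fpqcPrecoverage _ hR) (fun V g hg => ?_)
      obtain ⟨l, hl⟩ := hlift g hg
      rw [← hl]
      exact flat_snd_of_lift f i hi hN l.left
    · obtain ⟨I, Z, φ, rfl⟩ := Presieve.exists_eq_ofArrows R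
      let 𝒰 : Scheme.Cover Scheme.fppfPrecoverage H.left := ⟨⟨I, Z, φ⟩, hR⟩
      refine ⟨fun x => ?_⟩
      obtain ⟨j, y, hy⟩ := 𝒰.exists_eq x
      obtain ⟨l, hl⟩ := hlift (φ j) ⟨j⟩
      refine ⟨l.left y, ?_⟩
      rw [← Scheme.Hom.comp_apply, hl]
      exact hy

end Groth.Agent.S17794
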