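import Groth.Statements.S17797
import Mathlib

set_option autoImplicit false
universe u
open CAlg

namespace Groth.Agent.S17797

open IsLocalRing

/-- Suppose k is a field of characteristic zero and S is a local domain that is an essentially
finite-type k-algebra. Then there are an extension field K of k, a K-algebra A of finite type and a
maximal ideal m of A such that S is isomorphic over k to the localization A_m. -/
theorem result (k : Type u) [Field k] [CharZero k] (S : Type u) [CommRing S] [IsDomain S] [IsLocalRing S] [Algebra k S] [Algebra.EssFiniteType k S] : ∃ (K : Type u) (_ : Field K) (_ : Algebra k K) (A : Type u) (_ : CommRing A) (_ : Algebra K A) (_ : Algebra k A) (_ : IsScalarTower k K A) (_ : Algebra.FiniteType K A) (m : Ideal A) (_ : m.IsMaximal), Nonempty (S ≃ₐ[k] Localization.AtPrime m) := by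
  classical
  obtain ⟨ι, hι⟩ := exists_isTranscendenceBasis k (ResidueField S)
  have hsurj : Function.Surjective (residue S) := residue_surjective
  choose t ht using fun i : ι => hsurj i.1
  let φ : MvPolynomial ι k →ₐ[k] S := MvPolynomial.aeval t
  let resA : S →ₐ[k] ResidueField S := IsScalarTower.toAlgHom k S (ResidueField S)
  have hresA : ∀ x, resA x = residue S x := fun x => rfl
  have hcomp : ∀ p, resA (φ p) = MvPolynomial.aeval (fun i : ι => (i : ResidueField S)) p := by
    intro p
    have : resA.comp φ = MvPolynomial.aeval (fun i : ι => (i : ResidueField S)) := by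
      apply MvPolynomial.algHom_ext
      intro i
      simp [φ, hresA, ht]
    rw [← this]; rfl
  have hφ : ∀ p : MvPolynomial ι k, p ≠ 0 → IsUnit (φ p) := by
    intro p hp
    by_contra hnu
    have h0 : residue S (φ p) = 0 := (residue_eq_zero_iff _).mpr ((mem_maximalIdeal _).mpr hnu)
    rw [← hresA, hcomp] at h0
    exact hp (hι.1.eq_zero_of_aeval_eq_zero p h0)
  let ψ : FractionRing (MvPolynomial ι k) →+* S :=
    IsLocalization.lift (M := nonZeroDivisors (MvPolynomial ι k)) (g := φ.toRingHom)
      (fun y => hφ y (nonZeroDivisors.ne_zero y.2))
  letI algKS : Algebra (FractionRing (MvPolynomial ι k)) S := ψ.toAlgebra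
  have hψ : ∀ p : MvPolynomial ι k, ψ (algebraMap _ _ p) = φ p := fun p =>
    IsLocalization.lift_eq _ p
  haveI : IsScalarTower k (FractionRing (MvPolynomial ι k)) S :=
    IsScalarTower.of_algebraMap_eq (fun a => by
      show algebraMap k S a = ψ (algebraMap k (FractionRing (MvPolynomial ι k)) a)
      rw [IsScalarTower.algebraMap_apply k (MvPolynomial ι k) (FractionRing (MvPolynomial ι k)), hψ]
      simp [φ])
  haveI : Algebra.EssFiniteType (FractionRing (MvPolynomial ι k)) S :=
    Algebra.EssFiniteType.of_comp k (FractionRing (MvPolynomial ι k)) S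
  -- residue field algebraic over K
  haveI : Algebra.IsAlgebraic (FractionRing (MvPolynomial ι k)) (ResidueField S) := by
    rw [hι.isAlgebraic_iff (S := FractionRing (MvPolynomial ι k))]
    intro i
    have : (i : ResidueField S) = algebraMap (FractionRing (MvPolynomial ι k)) (ResidueField S)
        (algebraMap (MvPolynomial ι k) _ (MvPolynomial.X i)) := by
      rw [IsScalarTower.algebraMap_apply (FractionRing (MvPolynomial ι k)) S (ResidueField S)]
      show _ = algebraMap S (ResidueField S) (ψ _)
      rw [hψ]
      simp [φ, ht, ResidueField.algebraMap_eq]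
    rw [this]
    exact isAlgebraic_algebraMap _
  -- the finite type subalgebra
  let A : Subalgebra (FractionRing (MvPolynomial ι k)) S :=
    Algebra.EssFiniteType.subalgebra (FractionRing (MvPolynomial ι k)) S
  let M : Submonoid A := Algebra.EssFiniteType.submonoid (FractionRing (MvPolynomial ι k)) S
  haveI hloc : IsLocalization M S :=
    Algebra.EssFiniteType.isLocalization (R := FractionRing (MvPolynomial ι k)) (S := S)
  let p : Ideal A := (maximalIdeal S).comap (algebraMap A S)
  haveI hpprime : p.IsPrime := Ideal.comap_isPrime _ _
  have hM : M = p.primeCompl := by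
    ext x
    show IsUnit (algebraMap A S x) ↔ x ∉ p
    rw [Ideal.mem_comap, mem_maximalIdeal, mem_nonunits_iff, not_not]
  haveI : IsLocalization.AtPrime S p := by
    show IsLocalization p.primeCompl S
    rw [← hM]; exact hloc
  -- maximality
  have hpmax : p.IsMaximal := by
    let g : A →ₐ[FractionRing (MvPolynomial ι k)] ResidueField S :=
      (IsScalarTower.toAlgHom (FractionRing (MvPolynomial ι k)) S (ResidueField S)).comp A.val
    have hg : ∀ a : A, g a = residue S (a : S) := fun a => rfl
    have hgp : ∀ a : A, a ∈ p ↔ g a = 0 := by
      intro a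
      rw [hg, residue_eq_zero_iff]
      rfl
    let f : (A ⧸ p) →ₐ[FractionRing (MvPolynomial ι k)] ResidueField S :=
      Ideal.Quotient.liftₐ p g (fun a ha => (hgp a).mp ha)
    have hf : Function.Injective f := by
      rw [injective_iff_map_eq_zero]
      intro x hx
      obtain ⟨a, rfl⟩ := Ideal.Quotient.mk_surjective x
      have : g a = 0 := hx
      exact Ideal.Quotient.eq_zero_iff_mem.mpr ((hgp a).mpr this)
    haveI : Algebra.IsIntegral (FractionRing (MvPolynomial ι k)) (ResidueField S) :=
      Algebra.IsAlgebraic.isIntegral
    haveI : Algebra.IsIntegral (FractionRing (MvPolynomial ι k)) (A ⧸ p) :=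
      Algebra.IsIntegral.of_injective f hf
    have hfield : IsField (A ⧸ p) := by
      have := isField_of_isIntegral_of_isField' (R := FractionRing (MvPolynomial ι k))
        (S := A ⧸ p) (Field.toIsField (FractionRing (MvPolynomial ι k)))
      exact this
    exact Ideal.Quotient.maximal_of_isField p hfield
  let e : S ≃ₐ[A] Localization.AtPrime p := IsLocalization.algEquiv p.primeCompl S _
  exact ⟨FractionRing (MvPolynomial ι k), inferInstance, inferInstance, A, inferInstance,
    inferInstance, inferInstance, inferInstance, inferInstance, p, hpmax,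
    ⟨e.restrictScalars k⟩⟩

end Groth.Agent.S17797
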