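import Groth.Statements.S17825
-- import your own Groth.Agent.* helpers here

set_option autoImplicit false
universe u
open CategoryTheory CategoryTheory.Limits AlgebraicGeometry
open JacVar

namespace Groth.Agent.S17825

/-- Let S be a scheme, Y an S-scheme separated over S, F a presheaf of sets on the category of
S-schemes, f : h_Y ⟶ F a morphism from the functor of points of Y, and s : F ⟶ h_Y a section of f (s
followed by f is the identity). Then F is represented by a closed subscheme of Y: there are an
S-scheme Z, a morphism i : Z ⟶ Y over S which is a closed immersion, and an isomorphism F ≅ h_Z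
whose composite with h_i : h_Z ⟶ h_Y is s. (The published lemma treats the case where Y is the r-th
symmetric power of a curve, F the functor of degree-r invertible families modulo twisting and f the
divisor-class map.) -/
theorem result {S : Scheme.{u}} (Y : Over S) [IsSeparated Y.hom]
    (F : (Over S)ᵒᵖ ⥤ Type u) (f : yoneda.obj Y ⟶ F) (s : F ⟶ yoneda.obj Y) (hsf : s ≫ f = 𝟙 F) :
    ∃ (Z : Over S) (i : Z ⟶ Y), IsClosedImmersion i.left ∧
      ∃ e : F ≅ yoneda.obj Z, e.hom ≫ yoneda.map i = s := by
  -- the idempotent endomorphism of `Y`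
  obtain ⟨φ, hφ⟩ : ∃ φ : Y ⟶ Y, yoneda.map φ = f ≫ s := ⟨_, (yoneda.map_preimage (f ≫ s))⟩
  have hfs : ∀ (T : (Over S)ᵒᵖ) (x : F.obj T), f.app T (s.app T x) = x := by
    intro T x
    have := types_congr_hom (congr_app hsf T) x
    simpa using this
  have hφf : ∀ (T : (Over S)ᵒᵖ) (y : T.unop ⟶ Y), s.app T (f.app T y) = y ≫ φ := by
    intro T y
    have h1 := types_congr_hom (congr_app hφ T) y
    simpa using h1.symm
  have hsφ : ∀ (T : (Over S)ᵒᵖ) (x : F.obj T), s.app T x ≫ φ = s.app T x := by
    intro T x
    rw [← hφf, hfs]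
  refine ⟨equalizer (𝟙 Y) φ, equalizer.ι (𝟙 Y) φ, inferInstance, ?_⟩
  have hι : equalizer.ι (𝟙 Y) φ ≫ φ = equalizer.ι (𝟙 Y) φ := by
    have := equalizer.condition (𝟙 Y) φ
    simpa using this.symm
  let toZ : F ⟶ yoneda.obj (equalizer (𝟙 Y) φ) :=
    { app := fun T => ↾(fun x => equalizer.lift (f := 𝟙 Y) (g := φ) (s.app T x)
        (by rw [Category.comp_id, hsφ]))
      naturality := by
        intro T T' g
        ext x
        apply equalizer.hom_ext
        have := NatTrans.naturality_apply s g x
        simp only [yoneda_obj_map] at this ⊢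
        simp [this] }
  let fromZ : yoneda.obj (equalizer (𝟙 Y) φ) ⟶ F := yoneda.map (equalizer.ι (𝟙 Y) φ) ≫ f
  refine ⟨⟨toZ, fromZ, ?_, ?_⟩, ?_⟩
  · ext T x
    simp [toZ, fromZ, hfs]
  · ext T z
    apply equalizer.hom_ext
    simp [fromZ, toZ, hφf, hι]
  · ext T x
    simp [toZ]

end Groth.Agent.S17825
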