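import Groth.Statements.S1783
import Groth.Agent.Lib.Helper5ShriekA
import Groth.Agent.Lib.Helper5LocDD

set_option autoImplicit false
universe u
open CategoryTheory
attribute [local instance] HasDerivedCategory.standard
open Dual2

namespace Groth.Agent.S1783

/-- Let R → A be a ring map of finite type between Noetherian rings, where φ^!(K) is formed from a
presentation ψ : R[x_1, …, x_n] → A as RHom_P(A, K ⊗^L_R P)[n], assuming the derived base change to
P exists and taking for RHom_P(A, −) a right adjoint of restriction of scalars along ψ. If K in D(R)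
has vanishing cohomology below some degree, then so does φ^!(K); if moreover all cohomology modules
of K are finite R-modules, then all cohomology modules of φ^!(K) are finite A-modules. -/
theorem result (R A : Type u) [CommRing R] [CommRing A] [IsNoetherianRing R] [IsNoetherianRing A] [Algebra R A] (n : ℕ) (ψ : MvPolynomial (Fin n) R →ₐ[R] A) (hψ : Function.Surjective ψ) [DRing.HasLBaseChange (algebraMap R (MvPolynomial (Fin n) R))] (Rψ : Dual.D (MvPolynomial (Fin n) R) ⥤ Dual.D A) (adj : DRing.restrictD ψ.toRingHom ⊣ Rψ) (K : Dual.D R) (a : ℤ) (hKa : ∀ i : ℤ, i < a → Subsingleton (Dual.HD R K i)) : (∃ b : ℤ, ∀ i : ℤ, i < b → Subsingleton (Dual.HD A (Dual2.shriekVia n Rψ K) i)) ∧ ((∀ i : ℤ, Module.Finite R (Dual.HD R K i)) → ∀ i : ℤ, Module.Finite A (Dual.HD A (Dual2.shriekVia n Rψ K) i)) := by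
  obtain ⟨e⟩ := Groth.Agent.Lib.Helper5.LocD.lbc_iso_extD (MvPolynomial (Fin n) R) K
  have hLa : ∀ i : ℤ, i < a → Subsingleton (Dual.HD (MvPolynomial (Fin n) R)
      ((DRing.LBaseChange (algebraMap R (MvPolynomial (Fin n) R))).obj K) i) := fun i hi => by
    haveI := Groth.Agent.Lib.Helper5.Bass.subsingleton_HD_extD (MvPolynomial (Fin n) R) K i
      (hKa i hi)
    exact (((DerivedCategory.homologyFunctor (ModuleCat.{u} (MvPolynomial (Fin n) R)) i).mapIso
      e).toLinearEquiv).toEquiv.subsingleton
  letI : Algebra (MvPolynomial (Fin n) R) A := ψ.toRingHom.toAlgebra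
  haveI : Module.Finite (MvPolynomial (Fin n) R) A :=
    Module.Finite.of_surjective (Algebra.linearMap (MvPolynomial (Fin n) R) A) hψ
  have e2 : ∀ i : ℤ, (DerivedCategory.homologyFunctor (ModuleCat.{u} A) i).obj
      (Dual2.shriekVia n Rψ K) ≅ (DerivedCategory.homologyFunctor (ModuleCat.{u} A) ((n : ℤ) + i)).obj
      (Rψ.obj ((DRing.LBaseChange (algebraMap R (MvPolynomial (Fin n) R))).obj K)) := fun i =>
    ((DerivedCategory.homologyFunctor (ModuleCat.{u} A) 0).shiftIso (n : ℤ) i ((n : ℤ) + i)
      rfl).app _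
  refine ⟨⟨a - n, fun i hi => ?_⟩, fun hfin i => ?_⟩
  · haveI := Groth.Agent.Lib.Helper5.Shriek.subsingleton_HD_rightAdjoint Rψ adj _ a hLa
      ((n : ℤ) + i) (by omega)
    exact (e2 i).toLinearEquiv.toEquiv.subsingleton
  · have hLfin : ∀ j : ℤ, Module.Finite (MvPolynomial (Fin n) R)
        (Dual.HD (MvPolynomial (Fin n) R)
          ((DRing.LBaseChange (algebraMap R (MvPolynomial (Fin n) R))).obj K) j) := fun j => by
      haveI := Groth.Agent.Lib.Helper5.Bass.finite_HD_extD (MvPolynomial (Fin n) R) K j (hfin j)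
      exact Module.Finite.equiv
        ((DerivedCategory.homologyFunctor (ModuleCat.{u} (MvPolynomial (Fin n) R)) j).mapIso
          e.symm).toLinearEquiv
    haveI := Groth.Agent.Lib.Helper5.Coext.finite_HD_rightAdjoint Rψ adj _ a hLa hLfin
      ((n : ℤ) + i)
    exact Module.Finite.equiv (e2 i).symm.toLinearEquiv

end Groth.Agent.S1783
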