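import Groth.Statements.S17833
import Mathlib
import Groth.Agent.Lib.Helper11RigidityB
import Groth.Agent.Lib.Helper11SmInt

set_option autoImplicit false
universe u
open CategoryTheory MonoidalCategory CartesianMonoidalCategory MonObj GrpObj AlgebraicGeometry
open AlgGrp

namespace Groth.Agent.S17833

open Groth.Agent.Lib.Helper11Rigidity Groth.Agent.Lib.Helper11SmInt

section Formal

variable {C : Type*} [Category C] [CartesianMonoidalCategory C]
variable {G H Q : C} [GrpObj G] [GrpObj Q]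

theorem comp_phi {T : C} (u : G ⟶ G) (g : T ⟶ G) :
    g ≫ (u * (𝟙 G)⁻¹) = (g ≫ u) * g⁻¹ := by
  rw [MonObj.comp_mul, GrpObj.comp_inv, Category.comp_id]

theorem phi_comp_eq (j : H ⟶ G) (q : G ⟶ Q) [IsMonHom q]
    (hker : IsPullback j (toUnit H) q η[Q]) (u : G ⟶ G) [IsMonHom u] (hH : j ≫ u = j)
    {T : C} (g₁ g₂ : T ⟶ G) (h : g₁ ≫ q = g₂ ≫ q) :
    g₁ ≫ (u * (𝟙 G)⁻¹) = g₂ ≫ (u * (𝟙 G)⁻¹) := by
  obtain ⟨d, hd⟩ : ∃ d : T ⟶ G, d = g₁⁻¹ * g₂ := ⟨_, rfl⟩
  have hdq : d ≫ q = toUnit T ≫ η[Q] := by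
    rw [hd, MonObj.mul_comp, GrpObj.inv_comp, h, toUnit_eta, inv_mul_cancel]
  obtain ⟨h', hh', -⟩ : ∃ h' : T ⟶ H, h' ≫ j = d ∧ h' ≫ toUnit H = toUnit T :=
    ⟨hker.lift d (toUnit T) hdq, hker.lift_fst _ _ _, hker.lift_snd _ _ _⟩
  have hdu : d ≫ u = d := by rw [← hh', Category.assoc, hH]
  have hg₂ : g₂ = g₁ * d := by rw [hd]; group
  rw [comp_phi, comp_phi, hg₂, MonObj.mul_comp, hdu]
  group

theorem phi_comp_q (q : G ⟶ Q) [IsMonHom q] (u : G ⟶ G) (hQ : u ≫ q = q) :
    (u * (𝟙 G)⁻¹) ≫ q = 1 := by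
  rw [MonObj.mul_comp, GrpObj.inv_comp, hQ, Category.id_comp, mul_inv_cancel]

end Formal


/-- Over an algebraically closed field k, let G be a connected smooth k-group scheme of finite type (in
the terminology of the notes, a smooth connected algebraic group), and H an affine normal subgroup
scheme of G such that the quotient G/H is an abelian variety: here j : H → G is the kernel of a flat
surjective homomorphism q : G → Q of k-group schemes with Q proper over k, and H is affine. Then an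
automorphism u of the algebraic group G which fixes H pointwise (j ∘ u = j) and induces the identity
of Q (q ∘ u = q) is the identity. Equivalently, the map from the group of automorphisms of G fixing
H pointwise to the automorphism group of G/H is injective. -/
theorem result (k : Type u) [Field k] [IsAlgClosed k]
    (G H Q : Over (Spec (CommRingCat.of k))) [GrpObj G] [GrpObj H] [GrpObj Q]
    [Smooth G.hom] [QuasiCompact G.hom] [ConnectedSpace ↥G.left]
    [IsAffine H.left] [IsProper Q.hom]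
    (j : H ⟶ G) [IsMonHom j] (q : G ⟶ Q) [IsMonHom q] [Flat q.left] [Surjective q.left]
    (hker : AlgGrp.IsKernel j q)
    (u : G ≅ G) [IsMonHom u.hom] (hH : j ≫ u.hom = j) (hQ : u.hom ≫ q = q) :
    u.hom = 𝟙 G := by
  -- `Q` is integral
  have hGdom : ∀ x : G.left, IsDomain (G.left.presheaf.stalk x) :=
    isDomain_stalk_of_smooth k G.hom
  have hQdom := isDomain_stalk_of_flat_surjective q.left hGdom
  have : ConnectedSpace Q.left := q.left.surjective.connectedSpace q.left.continuous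
  have : CompactSpace Q.left := QuasiCompact.compactSpace_of_compactSpace Q.hom
  have : IsNoetherian Q.left := { __ := LocallyOfFiniteType.isLocallyNoetherian Q.hom }
  have hQint : IsIntegral Q.left := isIntegral_of_connected_of_isDomain_stalk hQdom
  have hΓ : Function.Bijective Q.hom.appTop := appTop_bijective_of_isAlgClosed Q.hom
  -- `q.left` is an effective epimorphism
  have hqw : q.left ≫ Q.hom = G.hom := Over.w q
  have : QuasiCompact (q.left ≫ Q.hom) := by rw [hqw]; infer_instance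
  have : QuasiCompact q.left := QuasiCompact.of_comp q.left Q.hom
  have hEE : EffectiveEpi q.left := inferInstance
  have hepi : Epi q.left := inferInstance
  -- descend `φ`
  obtain ⟨φ, hφ⟩ : ∃ φ : G ⟶ G, φ = u.hom * (𝟙 G)⁻¹ := ⟨_, rfl⟩
  have hφq : φ ≫ q = 1 := by rw [hφ]; exact phi_comp_q q u.hom hQ
  have hdesc : ∀ {Z : Scheme.{u}} (g₁ g₂ : Z ⟶ G.left), g₁ ≫ q.left = g₂ ≫ q.left →
      g₁ ≫ φ.left = g₂ ≫ φ.left := by
    intro Z g₁ g₂ h12
    have hw : g₂ ≫ G.hom = g₁ ≫ G.hom := by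
      rw [← hqw, ← Category.assoc, ← Category.assoc, h12]
    let T : Over (Spec (CommRingCat.of k)) := Over.mk (g₁ ≫ G.hom)
    let g₁' : T ⟶ G := Over.homMk g₁ rfl
    let g₂' : T ⟶ G := Over.homMk g₂ hw
    have h' : g₁' ≫ q = g₂' ≫ q := Over.OverMorphism.ext h12
    have := phi_comp_eq j q hker u.hom hH g₁' g₂' h'
    rw [← hφ] at this
    exact congrArg (fun f => f.left) this
  obtain ⟨ψ₀, hψ₀⟩ : ∃ ψ₀ : Q.left ⟶ G.left, q.left ≫ ψ₀ = φ.left :=
    ⟨EffectiveEpi.desc q.left φ.left hdesc, EffectiveEpi.fac _ _ _⟩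
  have hψw : ψ₀ ≫ G.hom = Q.hom := by
    rw [← cancel_epi q.left, ← Category.assoc, hψ₀, Over.w φ, hqw]
  let ψ : Q ⟶ G := Over.homMk ψ₀ hψw
  have hqψ : q ≫ ψ = φ := Over.OverMorphism.ext hψ₀
  have hepi' : Epi q := Over.epi_of_epi_left q
  have hψq : ψ ≫ q = toUnit Q ≫ η[Q] := by
    rw [← cancel_epi q, ← Category.assoc, hqψ, hφq, toUnit_eta, MonObj.comp_one]
  obtain ⟨ψ', hψ'⟩ : ∃ ψ' : Q ⟶ H, ψ' ≫ j = ψ :=
    ⟨hker.lift ψ (toUnit Q) hψq, hker.lift_fst _ _ _⟩
  -- `ψ'` is constant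
  have hconst : ψ'.left = Q.hom ≫ η[Q].left ≫ ψ'.left :=
    eq_comp_of_appTop_bijective Q.hom η[Q].left (Over.w η[Q]) hΓ ψ'.left ⊤
      (isAffineOpen_top H.left) (fun _ _ => trivial)
  have hψ'c : ψ' = toUnit Q ≫ η[Q] ≫ ψ' := Over.OverMorphism.ext hconst
  -- conclude
  have hφc : φ = toUnit G ≫ (η[Q] ≫ ψ' ≫ j) := by
    have h1 : φ = q ≫ ψ' ≫ j := by rw [hψ', hqψ]
    rw [h1]
    conv_lhs => rw [hψ'c]
    simp only [Category.assoc]
    rw [← Category.assoc q (toUnit Q)]
    congr 1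
    exact toUnit_unique _ _
  have hη : η[G] ≫ φ = η[G] := by
    rw [hφ, comp_phi, IsMonHom.one_hom, eta_eq_one, mul_inv_cancel]
  have hc : η[Q] ≫ ψ' ≫ j = η[G] := by
    have := hη
    rw [hφc, ← Category.assoc, pt_toUnit, Category.id_comp] at this
    exact this
  have hφ1 : φ = 1 := by rw [hφc, hc, toUnit_eta]
  rw [hφ] at hφ1
  exact mul_inv_eq_one.mp hφ1

end Groth.Agent.S17833
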