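import Groth.Statements.S17840
import Groth.Agent.Lib.Helper4DimFormulaS

set_option autoImplicit false
set_option linter.style.haveILetI false
universe u
open CategoryTheory AlgebraicGeometry
open Cyc

namespace Groth.Agent.S17840

/-- Let (Y, δY) be a locally Noetherian scheme with universally catenary local rings and a dimension
function, f : X ⟶ Y a flat morphism locally of finite type between irreducible schemes with generic
points ξ and η, and δX the induced function on X, δX(x) = δY(f x) + trdeg_{κ(f x)} κ(x). Put d =
δX(ξ) − δY(η). Then d ≥ 0, every irreducible component of every fibre of f has dimension d, and for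
every point x of X the fibre of f over f(x) has dimension d. (The published statement is for schemes
separated of finite type over a Noetherian excellent regular separated base S with δ the S-dimension
— transcendence degree of the residue field minus the dimension of the local ring of S at the image
point — and for the fibre over every point of Y; the fibre over a point outside f(X) is empty, so
the dimension statement is made here at points of the image; this row allows any dimension function
δY on a locally Noetherian Y with universally catenary local rings, with δX induced from it.) -/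
theorem result {X Y : Scheme.{u}} (f : X ⟶ Y) [Flat f] [LocallyOfFiniteType f]
    [IrreducibleSpace X] [IrreducibleSpace Y] (δX : X → ℤ) (δY : Y → ℤ) (hY : Cyc.IsSetup Y δY)
    (hδ : Cyc.DeltaCompat f δX δY) :
    0 ≤ δX (genericPoint X) - δY (genericPoint Y) ∧
      Cyc.HasRelDim f (δX (genericPoint X) - δY (genericPoint Y)).toNat ∧
      ∀ x : X, topologicalKrullDim ↥(f.fiber (f x)) =
        ((δX (genericPoint X) - δY (genericPoint Y)).toNat : WithBot ℕ∞) := by
  obtain ⟨hNoeth, hcatY, hdimY⟩ := hY
  haveI := hNoeth
  haveI : IsLocallyNoetherian X := LocallyOfFiniteType.isLocallyNoetherian f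
  haveI := Groth.Agent.Lib.Helper4.DimFormula.isDominant_of_flat f
  have hgen := Groth.Agent.Lib.Helper4.DimFormula.base_genericPoint_eq_of_flat f
  obtain ⟨n, hn, hδn⟩ := hδ (genericPoint X)
  have hle : ∀ x : X, ringKrullDim (Y.presheaf.stalk (f.base x)) ≤
      ringKrullDim (X.presheaf.stalk x) := fun x =>
    Groth.Agent.Lib.Helper10.CodimFib.ringKrullDim_stalk_le_of_flat f x
  have hn' : n = Groth.Agent.Lib.Helper4.DimFormula.genTrdeg f := by
    have h1 := Groth.Agent.Lib.Helper4.DimFormula.trdeg_genericPoint_eq f
    have h2 : ((n : ℕ) : Cardinal.{u}) =
        (Groth.Agent.Lib.Helper4.DimFormula.genTrdeg f : Cardinal.{u}) := hn.symm.trans h1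
    exact_mod_cast h2
  have hd : δX (genericPoint X) - δY (genericPoint Y) = (n : ℤ) := by
    rw [hδn, show f (genericPoint X) = genericPoint Y from hgen]
    ring
  rw [hd, Int.toNat_natCast, hn']
  refine ⟨Int.natCast_nonneg _, ?_, ?_⟩
  · intro y T hT
    exact Groth.Agent.Lib.Helper4.DimFormula.topologicalKrullDim_irreducibleComponent_fiber_eq_of_le
      f hle y T hT
  · intro x
    exact Groth.Agent.Lib.Helper4.DimFormula.topologicalKrullDim_fiber_eq_of_le f hle x

end Groth.Agent.S17840
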