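import Groth.Statements.S17843
import Mathlib

set_option autoImplicit false
universe u v
open CAlg

namespace Groth.Agent.S17843

open Polynomial

section sc
variable {S : Type*} [CommRing S]

/-- the linear polynomial `c T` -/
noncomputable def sc (c : S) : S[X] := C c * X

lemma comp_sc_sc (p : S[X]) (c d : S) : (p.comp (sc c)).comp (sc d) = p.comp (sc (c * d)) := by
  rw [Polynomial.comp_assoc]
  congr 1
  simp only [sc, Polynomial.mul_comp, Polynomial.C_comp, Polynomial.X_comp, map_mul]
  ring

lemma coeff_comp_sc (p : S[X]) (c : S) (j : ℕ) : (p.comp (sc c)).coeff j = p.coeff j * c ^ j :=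
  Polynomial.comp_C_mul_X_coeff

lemma map_comp_sc {S' : Type*} [CommRing S'] (f : S →+* S') (p : S[X]) (c : S) :
    (p.comp (sc c)).map f = (p.map f).comp (sc (f c)) := by
  rw [Polynomial.map_comp]
  simp [sc]

/-- uniformization over a finite index type -/
lemma uniformize {ι : Type*} [Finite ι] (P : ι → ℕ → Prop)
    (hmono : ∀ i e e', e ≤ e' → P i e → P i e') (hex : ∀ i, ∃ e, P i e) : ∃ e, ∀ i, P i e := by
  classical
  have := Fintype.ofFinite ι
  choose n hn using hex
  refine ⟨Finset.univ.sup n, fun i => hmono i _ _ (Finset.le_sup (Finset.mem_univ i)) (hn i)⟩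

end sc

section lifts
variable (R : Type u) [CommRing R] (r : R)

local notation "L" => Localization.Away r

/-- Lemma A -/
lemma exists_lift (p : L[X]) (a : R) (hp : p.coeff 0 = algebraMap R L a) :
    ∃ e : ℕ, ∃ q : R[X], q.map (algebraMap R L) = p.comp (sc (algebraMap R L (r ^ e))) ∧
      q.coeff 0 = a := by
  obtain ⟨b, hb, hP⟩ := IsLocalization.integerNormalization_spec (Submonoid.powers r) p
  obtain ⟨e, rfl⟩ := hb
  set P := IsLocalization.integerNormalization (Submonoid.powers r) p with hPdef
  have hcoef : ∀ j, algebraMap R L (P.coeff j) = algebraMap R L (r ^ e) * p.coeff j := by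
    intro j
    have := congrArg (fun Q : L[X] => Q.coeff j) hP
    simp only [Polynomial.coeff_map, Polynomial.coeff_smul] at this
    rw [this, Algebra.smul_def]
  refine ⟨e, C a + X * ((divX P).comp (sc (r ^ e))), ?_, ?_⟩
  · ext j
    rw [Polynomial.coeff_map, coeff_comp_sc]
    cases j with
    | zero =>
      rw [Polynomial.coeff_add, Polynomial.coeff_C_zero, Polynomial.coeff_X_mul_zero, add_zero,
        pow_zero, mul_one, hp]
    | succ i =>
      rw [Polynomial.coeff_add, Polynomial.coeff_C_succ, zero_add, Polynomial.coeff_X_mul,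
        coeff_comp_sc, Polynomial.coeff_divX, map_mul, hcoef]
      simp only [map_pow]
      ring
  · rw [Polynomial.coeff_add, Polynomial.coeff_C_zero, Polynomial.coeff_X_mul_zero, add_zero]

/-- Lemma A, monotone in `e` -/
lemma lift_mono (p : L[X]) (a : R) (e e' : ℕ) (h : e ≤ e')
    (hq : ∃ q : R[X], q.map (algebraMap R L) = p.comp (sc (algebraMap R L (r ^ e))) ∧
      q.coeff 0 = a) :
    ∃ q : R[X], q.map (algebraMap R L) = p.comp (sc (algebraMap R L (r ^ e'))) ∧
      q.coeff 0 = a := by
  obtain ⟨q, hq1, hq2⟩ := hq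
  obtain ⟨k, rfl⟩ := Nat.exists_eq_add_of_le h
  refine ⟨q.comp (sc (r ^ k)), ?_, ?_⟩
  · rw [map_comp_sc, hq1, comp_sc_sc, ← map_mul, ← pow_add]
  · rw [coeff_comp_sc, pow_zero, mul_one, hq2]

/-- Lemma C -/
lemma exists_kill (g : R[X]) (hg : g.map (algebraMap R L) = 0) (hg0 : g.coeff 0 = 0) :
    ∃ M : ℕ, g.comp (sc (r ^ M)) = 0 := by
  have h1 : ∀ j, ∃ n : ℕ, r ^ n * g.coeff j = 0 := by
    intro j
    have : algebraMap R L (g.coeff j) = 0 := by
      have := congrArg (fun Q : L[X] => Q.coeff j) hg
      simpa using this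
    obtain ⟨⟨c, n, rfl⟩, hc⟩ := (IsLocalization.map_eq_zero_iff (Submonoid.powers r) L _).1 this
    exact ⟨n, hc⟩
  choose n hn using h1
  refine ⟨g.support.sup n, ?_⟩
  ext j
  rw [coeff_comp_sc, Polynomial.coeff_zero]
  by_cases hj : j ∈ g.support
  · cases j with
    | zero => rw [hg0, zero_mul]
    | succ i =>
      have hle : n (i + 1) ≤ g.support.sup n * (i + 1) :=
        (Finset.le_sup hj).trans (Nat.le_mul_of_pos_right _ (Nat.succ_pos i))
      obtain ⟨k, hk⟩ := Nat.exists_eq_add_of_le hle
      rw [← pow_mul, hk, pow_add, mul_comm, mul_assoc, mul_comm _ (g.coeff _), ← mul_assoc,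
        mul_comm _ (g.coeff _)]
      rw [mul_assoc]
      have := hn (i + 1)
      rw [mul_comm] at this
      rw [← mul_assoc, this, zero_mul]
  · rw [Polynomial.notMem_support_iff.1 hj, zero_mul]

lemma kill_mono (g : R[X]) (M M' : ℕ) (h : M ≤ M') (hg : g.comp (sc (r ^ M)) = 0) :
    g.comp (sc (r ^ M')) = 0 := by
  obtain ⟨k, rfl⟩ := Nat.exists_eq_add_of_le h
  rw [pow_add, ← comp_sc_sc, hg, Polynomial.zero_comp]

end lifts


/-- In the case of an affine scheme of finite presentation, let B be a finitely presented R-algebra, r ∈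
R, and x : B → R[1/r][T] an R-algebra homomorphism whose value at T = 0, a homomorphism B → R[1/r],
is induced by a homomorphism x̃₀ : B → R. Then for every large enough n, the homomorphism x(rⁿT) : B
→ R[1/r][T] is induced by a homomorphism x̃ : B → R[T] whose value at T = 0 is x̃₀. The published
statement is for algebraic spaces locally of finite presentation over R; this row takes an affine
scheme of finite presentation. -/
theorem result
    (R : Type u) (B : Type v) [CommRing R] [CommRing B] [Algebra R B]
    [Algebra.FinitePresentation R B] (r : R)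
    (x : B →ₐ[R] Polynomial (Localization.Away r))
    (x₀ : B →ₐ[R] R)
    (hx₀ : (algebraMap R (Localization.Away r)).comp x₀.toRingHom =
      (Polynomial.evalRingHom 0).comp x.toRingHom) :
    ∃ N : ℕ, ∀ n : ℕ, N ≤ n →
      ∃ y : B →ₐ[R] Polynomial R,
        (Polynomial.evalRingHom 0).comp y.toRingHom = x₀.toRingHom ∧
        (Polynomial.mapRingHom (algebraMap R (Localization.Away r))).comp y.toRingHom =
          (Polynomial.aeval (Polynomial.C (algebraMap R (Localization.Away r) (r ^ n)) * Polynomial.X) :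
              Polynomial (Localization.Away r) →ₐ[Localization.Away r] Polynomial (Localization.Away r)).toRingHom.comp
            x.toRingHom := by
  classical
  obtain ⟨m, φ, hφsurj, hfg⟩ := Algebra.FinitePresentation.out (R := R) (A := B)
  obtain ⟨s, hs⟩ := hfg
  have hp0 : ∀ b : B, (x b).coeff 0 = algebraMap R (Localization.Away r) (x₀ b) := by
    intro b
    have := RingHom.congr_fun hx₀ b
    simp only [RingHom.coe_comp, Function.comp_apply, Polynomial.coe_evalRingHom,
      AlgHom.toRingHom_eq_coe, RingHom.coe_coe] at this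
    rw [Polynomial.coeff_zero_eq_eval_zero, this]
  obtain ⟨e, he⟩ := uniformize (fun (i : Fin m) (e : ℕ) => ∃ q : R[X],
      q.map (algebraMap R (Localization.Away r)) =
        (x (φ (MvPolynomial.X i))).comp (sc (algebraMap R (Localization.Away r) (r ^ e))) ∧
      q.coeff 0 = x₀ (φ (MvPolynomial.X i)))
    (fun i e e' h hq => lift_mono R r _ _ e e' h hq)
    (fun i => exists_lift R r _ _ (hp0 _))
  choose q hq1 hq2 using he
  let ψ : MvPolynomial (Fin m) R →ₐ[R] R[X] := MvPolynomial.aeval q
  have H1 : ∀ g, (ψ g).map (algebraMap R (Localization.Away r)) =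
      (x (φ g)).comp (sc (algebraMap R (Localization.Away r) (r ^ e))) := by
    have : (Polynomial.mapRingHom (algebraMap R (Localization.Away r))).comp ψ.toRingHom =
        (Polynomial.compRingHom (sc (algebraMap R (Localization.Away r) (r ^ e)))).comp
          (x.toRingHom.comp φ.toRingHom) := by
      apply MvPolynomial.ringHom_ext
      · intro a
        simp only [RingHom.coe_comp, Function.comp_apply, AlgHom.toRingHom_eq_coe,
          RingHom.coe_coe, Polynomial.coe_mapRingHom, Polynomial.coe_compRingHom_apply]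
        have h1 : ψ (MvPolynomial.C a) = Polynomial.C a := by
          simp [ψ]
        have h2 : x (φ (MvPolynomial.C a)) = Polynomial.C (algebraMap R _ a) := by
          rw [← MvPolynomial.algebraMap_eq, AlgHom.commutes, AlgHom.commutes]
          rfl
        rw [h1, h2, Polynomial.map_C, Polynomial.C_comp]
      · intro i
        simp only [RingHom.coe_comp, Function.comp_apply, AlgHom.toRingHom_eq_coe,
          RingHom.coe_coe, Polynomial.coe_mapRingHom, Polynomial.coe_compRingHom_apply]
        have h1 : ψ (MvPolynomial.X i) = q i := by simp [ψ]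
        rw [h1, hq1]
    intro g
    have := RingHom.congr_fun this g
    simpa using this
  have H2 : ∀ g, (ψ g).coeff 0 = x₀ (φ g) := by
    have : (Polynomial.evalRingHom 0).comp ψ.toRingHom = x₀.toRingHom.comp φ.toRingHom := by
      apply MvPolynomial.ringHom_ext
      · intro a
        simp only [RingHom.coe_comp, Function.comp_apply, AlgHom.toRingHom_eq_coe,
          RingHom.coe_coe, Polynomial.coe_evalRingHom]
        have h1 : ψ (MvPolynomial.C a) = Polynomial.C a := by
          simp [ψ]
        rw [h1, ← MvPolynomial.algebraMap_eq, AlgHom.commutes, AlgHom.commutes, Polynomial.eval_C]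
        rfl
      · intro i
        simp only [RingHom.coe_comp, Function.comp_apply, AlgHom.toRingHom_eq_coe,
          RingHom.coe_coe, Polynomial.coe_evalRingHom]
        have h1 : ψ (MvPolynomial.X i) = q i := by simp [ψ]
        rw [h1, ← Polynomial.coeff_zero_eq_eval_zero, hq2]
    intro g
    have := RingHom.congr_fun this g
    simp only [RingHom.coe_comp, Function.comp_apply, AlgHom.toRingHom_eq_coe,
      RingHom.coe_coe, Polynomial.coe_evalRingHom] at this
    rw [Polynomial.coeff_zero_eq_eval_zero, this]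
  have hker : ∀ g ∈ s, φ g = 0 := by
    intro g hg
    have : g ∈ RingHom.ker φ.toRingHom := by
      rw [← hs]; exact Ideal.subset_span hg
    exact this
  obtain ⟨M, hM⟩ := uniformize (fun (g : (s : Set (MvPolynomial (Fin m) R))) (M : ℕ) =>
      (ψ g.1).comp (sc (r ^ M)) = 0)
    (fun g M M' h hg => kill_mono R r _ M M' h hg)
    (fun g => exists_kill R r _ (by rw [H1, hker g.1 g.2, map_zero, Polynomial.zero_comp])
      (by rw [H2, hker g.1 g.2, map_zero]))
  let ψ' : MvPolynomial (Fin m) R →ₐ[R] R[X] :=
    (Polynomial.aeval (sc (r ^ M)) : R[X] →ₐ[R] R[X]).comp ψ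
  have hψ' : ∀ g, ψ' g = (ψ g).comp (sc (r ^ M)) := fun g => rfl
  have hkerle : RingHom.ker φ.toRingHom ≤ RingHom.ker ψ'.toRingHom := by
    rw [← hs, Ideal.span_le]
    intro g hg
    change ψ' g = 0
    rw [hψ']
    exact hM ⟨g, hg⟩
  let y₀ : B →ₐ[R] R[X] := AlgHom.liftOfSurjective φ hφsurj ψ' hkerle
  have hy₀ : ∀ g, y₀ (φ g) = (ψ g).comp (sc (r ^ M)) := fun g =>
    AlgHom.liftOfSurjective_apply φ hφsurj ψ' hkerle g
  refine ⟨e + M, fun n hn => ?_⟩
  obtain ⟨k, rfl⟩ := Nat.exists_eq_add_of_le hn
  refine ⟨(Polynomial.aeval (sc (r ^ k)) : R[X] →ₐ[R] R[X]).comp y₀, ?_, ?_⟩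
  · ext b
    obtain ⟨g, rfl⟩ := hφsurj b
    simp only [RingHom.coe_comp, Function.comp_apply, AlgHom.toRingHom_eq_coe,
      RingHom.coe_coe, Polynomial.coe_evalRingHom, AlgHom.coe_comp]
    rw [hy₀, ← Polynomial.comp_eq_aeval, ← Polynomial.coeff_zero_eq_eval_zero, coeff_comp_sc,
      coeff_comp_sc, pow_zero, pow_zero, mul_one, mul_one, H2]
  · ext1 b
    obtain ⟨g, rfl⟩ := hφsurj b
    simp only [RingHom.coe_comp, Function.comp_apply, AlgHom.toRingHom_eq_coe,
      RingHom.coe_coe, Polynomial.coe_mapRingHom, AlgHom.coe_comp]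
    rw [hy₀, ← Polynomial.comp_eq_aeval, ← Polynomial.comp_eq_aeval, map_comp_sc, map_comp_sc,
      H1, comp_sc_sc, comp_sc_sc, ← map_mul, ← map_mul, ← pow_add, ← pow_add, ← add_assoc]
    rfl

end Groth.Agent.S17843
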