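import Groth.Statements.S17858
import Groth.Agent.Lib.Helper2PiPts

set_option autoImplicit false
open CategoryTheory AlgebraicGeometry
universe u
open Algz

namespace Groth.Agent.S17858

open Limits in
theorem isAffineOpen_inf_preimage {W Y S : Scheme.{u}} (j : W ⟶ Y) (g : S ⟶ Y)
    (D : W.Opens) (E : S.Opens) (V : Y.Opens) (hD : IsAffineOpen D) (hE : IsAffineOpen E)
    (hV : IsAffineOpen V) (hDV : D ≤ j ⁻¹ᵁ V) (hEV : E ≤ g ⁻¹ᵁ V) :
    IsAffineOpen ((pullback.fst j g) ⁻¹ᵁ D ⊓ (pullback.snd j g) ⁻¹ᵁ E) := by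
  haveI : IsAffine (D : Scheme.{u}) := hD
  haveI : IsAffine (E : Scheme.{u}) := hE
  haveI : IsAffine (V : Scheme.{u}) := hV
  have hd : Set.range (D.ι ≫ j) ⊆ Set.range V.ι := by
    rintro _ ⟨x, rfl⟩
    rw [Scheme.Opens.range_ι]
    exact hDV x.2
  have he : Set.range (E.ι ≫ g) ⊆ Set.range V.ι := by
    rintro _ ⟨x, rfl⟩
    rw [Scheme.Opens.range_ι]
    exact hEV x.2
  let d : (D : Scheme.{u}) ⟶ V := IsOpenImmersion.lift V.ι (D.ι ≫ j) hd
  let e : (E : Scheme.{u}) ⟶ V := IsOpenImmersion.lift V.ι (E.ι ≫ g) he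
  have hd' : d ≫ V.ι = D.ι ≫ j := IsOpenImmersion.lift_fac _ _ _
  have he' : e ≫ V.ι = E.ι ≫ g := IsOpenImmersion.lift_fac _ _ _
  let φ : pullback d e ⟶ pullback j g := pullback.map d e j g D.ι E.ι V.ι hd' he'
  have hrange : (φ.opensRange : Set ↥(pullback j g)) =
      ((pullback.fst j g) ⁻¹ᵁ D ⊓ (pullback.snd j g) ⁻¹ᵁ E : (pullback j g).Opens) := by
    change Set.range φ = _
    rw [Scheme.Pullback.range_map]
    simp only [Scheme.Opens.range_ι]
    rfl
  have : φ.opensRange = (pullback.fst j g) ⁻¹ᵁ D ⊓ (pullback.snd j g) ⁻¹ᵁ E :=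
    SetLike.coe_injective hrange
  rw [← this]
  exact isAffineOpen_opensRange φ

open Limits in
theorem main {W Y : Scheme.{u}} (j : W ⟶ Y) [CompactSpace Y] [QuasiCompact j] :
    ∃ m : ℕ, ∀ (B : CommRingCat.{u}) (g : Spec B ⟶ Y),
      ∃ U : Fin m → (Limits.pullback j g).Opens, (∀ k, IsAffineOpen (U k)) ∧ ⨆ k, U k = ⊤ := by
  classical
  let 𝒱 : Y.OpenCover := Y.affineCover.finiteSubcover
  let V : 𝒱.I₀ → Y.Opens := fun l => (𝒱.f l).opensRange
  have hV : ∀ l, IsAffineOpen (V l) := fun l => isAffineOpen_opensRange (𝒱.f l)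
  have hcomp : ∀ l, IsCompact (j ⁻¹ᵁ V l : Set W) := fun l =>
    quasiCompact_iff_forall_isAffineOpen.mp inferInstance (V l) (hV l)
  have hs : ∀ l, ∃ s : Set W.affineOpens, s.Finite ∧ j ⁻¹ᵁ V l = ⨆ i ∈ s, (i : W.Opens) := fun l =>
    isCompact_iff_finite_and_eq_biUnion_affineOpens.mp (hcomp l)
  choose s hsfin hs using hs
  haveI : ∀ l, Finite (s l) := fun l => (hsfin l).to_subtype
  haveI : Finite (Σ l : 𝒱.I₀, s l) := inferInstance
  let e : (Σ l : 𝒱.I₀, s l) ≃ Fin (Nat.card (Σ l : 𝒱.I₀, s l)) := Finite.equivFin _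
  refine ⟨Nat.card (Σ l : 𝒱.I₀, s l), fun B g => ?_⟩
  obtain ⟨b, hb, hbV⟩ := Groth.Agent.Lib.Helper2.PiPts.exists_partition (R := B) (J := 𝒱.I₀)
    (fun l => g ⁻¹ᵁ V l) (fun x => ⟨𝒱.idx (g x), 𝒱.covers _⟩)
  let E : 𝒱.I₀ → (Spec B).Opens := fun l => PrimeSpectrum.basicOpen (b l)
  have hE : ∀ l, IsAffineOpen (E l) := fun l => IsAffineOpen.Spec_basicOpen (b l)
  refine ⟨fun k => (pullback.fst j g) ⁻¹ᵁ ((e.symm k).2.1 : W.Opens) ⊓
    (pullback.snd j g) ⁻¹ᵁ E (e.symm k).1, fun k => ?_, ?_⟩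
  · apply isAffineOpen_inf_preimage j g _ _ (V (e.symm k).1) (e.symm k).2.1.2 (hE _) (hV _)
    · rw [hs]
      exact le_iSup₂ (f := fun (i : W.affineOpens) (_ : i ∈ s (e.symm k).1) => (i : W.Opens))
        (e.symm k).2.1 (e.symm k).2.2
    · exact hbV _
  · rw [eq_top_iff]
    intro x _
    -- find l with b l ∉ snd x
    have hl : ∃ l, b l ∉ (pullback.snd j g x).asIdeal := by
      by_contra hcon
      push Not at hcon
      have : Ideal.span (Set.range b) ≤ (pullback.snd j g x).asIdeal := by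
        rw [Ideal.span_le]
        rintro _ ⟨l, rfl⟩
        exact hcon l
      rw [hb] at this
      exact (pullback.snd j g x).isPrime.ne_top (top_le_iff.mp this)
    obtain ⟨l, hl⟩ := hl
    have hxE : pullback.snd j g x ∈ E l := hl
    have hgV : g (pullback.snd j g x) ∈ V l := hbV l hxE
    have hjV : pullback.fst j g x ∈ j ⁻¹ᵁ V l := by
      change j (pullback.fst j g x) ∈ V l
      rw [← Scheme.Hom.comp_apply, pullback.condition, Scheme.Hom.comp_apply]
      exact hgV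
    rw [hs l] at hjV
    simp only [TopologicalSpace.Opens.mem_iSup] at hjV
    obtain ⟨D, hD, hxD⟩ := hjV
    rw [TopologicalSpace.Opens.mem_iSup]
    refine ⟨e ⟨l, ⟨D, hD⟩⟩, ?_⟩
    dsimp only
    rw [Equiv.symm_apply_apply]
    exact ⟨hxD, hxE⟩

/-- Let `j : W ⟶ Y` be a quasi-affine morphism of quasi-compact quasi-separated schemes. There is a
natural number `m` such that for every commutative ring `B` and every morphism `Spec B ⟶ Y`, the
fibre product `W ×_Y Spec B` is the union of `m` affine open subschemes. -/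
theorem result {W Y : Scheme.{u}} (j : W ⟶ Y)
    [CompactSpace W] [QuasiSeparatedSpace W] [CompactSpace Y] [QuasiSeparatedSpace Y]
    (hj : Mor2.IsQuasiAffine j) :
    ∃ m : ℕ, ∀ (B : CommRingCat.{u}) (g : Spec B ⟶ Y),
      ∃ U : Fin m → (Limits.pullback j g).Opens, (∀ k, IsAffineOpen (U k)) ∧ ⨆ k, U k = ⊤ := by
  haveI : QuasiCompact j := hj.1
  exact main j

end Groth.Agent.S17858
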