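import Groth.Statements.S17859
-- import your own Groth.Agent.* helpers here
import Mathlib.RingTheory.Finiteness.Projective
import Mathlib.LinearAlgebra.Contraction

set_option autoImplicit false
open CategoryTheory MonoidalCategory
universe u
open Algz

namespace Groth.Agent.S17859

section LA
open TensorProduct

variable (R : Type u) [CommRing R] (M : Type u) [AddCommGroup M] [Module R M] {n : ℕ}
    (f : (Fin n → R) →ₗ[R] M) (g : M →ₗ[R] Fin n → R)

/-- basis-like vectors -/
noncomputable def ee (i : Fin n) : M := f (fun j => if i = j then 1 else 0)
/-- dual coordinates -/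
noncomputable def ph (i : Fin n) : Module.Dual R M := (LinearMap.proj i : (Fin n → R) →ₗ[R] R) ∘ₗ g

/-- The coevaluation for a split surjection `f : Rⁿ → M`, `g : M → Rⁿ`. -/
noncomputable def coev : R →ₗ[R] M ⊗[R] Module.Dual R M :=
  LinearMap.toSpanSingleton R _ (∑ i : Fin n, ee R M f i ⊗ₜ[R] ph R M g i)

theorem coev_apply (r : R) :
    coev R M f g r = r • ∑ i : Fin n, ee R M f i ⊗ₜ[R] ph R M g i := by
  simp [coev]

variable (hfg : f ∘ₗ g = LinearMap.id)
include hfg

theorem sum_eq (x : M) : ∑ i : Fin n, (ph R M g i x) • ee R M f i = x := by
  have h1 : f (g x) = x := by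
    have := congr_arg (fun h => h x) hfg
    simpa using this
  conv_rhs => rw [← h1, LinearMap.pi_apply_eq_sum_univ]
  rfl

theorem sum_eq' (ψ : Module.Dual R M) : ∑ i : Fin n, (ψ (ee R M f i)) • ph R M g i = ψ := by
  ext x
  conv_rhs => rw [← sum_eq R M f g hfg x]
  simp [mul_comm]

theorem tri1 :
    (contractLeft R M).lTensor _ ∘ₗ
        (TensorProduct.assoc R _ _ _).toLinearMap ∘ₗ (coev R M f g).rTensor M =
      (TensorProduct.rid R _).symm.toLinearMap ∘ₗ (TensorProduct.lid R _).toLinearMap := by
  apply TensorProduct.ext'
  intro r x
  simp only [LinearMap.coe_comp, Function.comp_apply, LinearEquiv.coe_toLinearMap,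
    LinearMap.rTensor_tmul, coev_apply, lid_tmul, rid_symm_apply]
  rw [Finset.smul_sum, TensorProduct.sum_tmul, map_sum, map_sum]
  simp only [TensorProduct.smul_tmul', assoc_tmul, LinearMap.lTensor_tmul, contractLeft_apply]
  conv_rhs => rw [← sum_eq R M f g hfg x, Finset.smul_sum, TensorProduct.sum_tmul]
  refine Finset.sum_congr rfl fun i _ => ?_
  simp only [TensorProduct.smul_tmul, smul_eq_mul, mul_one, mul_comm]

theorem tri2 :
    (contractLeft R M).rTensor _ ∘ₗ
        (TensorProduct.assoc R _ _ _).symm.toLinearMap ∘ₗ
          (coev R M f g).lTensor (Module.Dual R M) =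
      (TensorProduct.lid R _).symm.toLinearMap ∘ₗ (TensorProduct.rid R _).toLinearMap := by
  apply TensorProduct.ext'
  intro ψ r
  simp only [LinearMap.coe_comp, Function.comp_apply, LinearEquiv.coe_toLinearMap,
    LinearMap.lTensor_tmul, coev_apply, rid_tmul, lid_symm_apply]
  rw [Finset.smul_sum, TensorProduct.tmul_sum, map_sum, map_sum]
  simp only [TensorProduct.tmul_smul, map_smul, assoc_symm_tmul, LinearMap.rTensor_tmul,
    contractLeft_apply]
  conv_rhs => rw [← sum_eq' R M f g hfg ψ, TensorProduct.tmul_sum, Finset.smul_sum]
  refine Finset.sum_congr rfl fun i _ => ?_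
  rw [← TensorProduct.smul_tmul]
  congr 1
  simp [mul_comm]

end LA

/-- Over an affine scheme, that is for modules over a commutative ring `R`, a finitely generated
projective `R`-module `M`, viewed as an object of the monoidal category of `R`-modules (tensor
product over `R`), has a right dual. (The published statement is the equivalence, for quasi-coherent
sheaves on a quasi-compact quasi-separated scheme, between being dualizable and being a vector
bundle; stated here is the affine case of the implication from vector bundle to dualizable. The
converse implication, that a module admitting a dual is finitely generated projective, is stated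
separately and is not repeated here.) -/
theorem result (R : Type u) [CommRing R] (M : ModuleCat.{u} R)
    [Module.Finite R M] [Module.Projective R M] : Nonempty (HasRightDual M) := by
  obtain ⟨n, f, g, -, -, hfg⟩ := Module.Finite.exists_comp_eq_id_of_projective R M
  refine ⟨{ rightDual := ModuleCat.of R (Module.Dual R M), exact := ?_ }⟩
  exact
    { coevaluation' := ModuleCat.ofHom (coev R M f g)
      evaluation' := ModuleCat.ofHom (contractLeft R M)
      coevaluation_evaluation' := by
        ext : 1
        apply tri2 R M f g hfg
      evaluation_coevaluation' := by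
        ext : 1
        apply tri1 R M f g hfg }

end Groth.Agent.S17859
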