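import Groth.Statements.S1786
import Groth.Agent.S1801
import Groth.Agent.Lib.Helper5RelGorE
import Groth.Agent.Lib.Helper5HasLDer

set_option autoImplicit false
universe u
open CategoryTheory
attribute [local instance] HasDerivedCategory.standard
open scoped TensorProduct
open Dual2

namespace Groth.Agent.S1786

/-- Let R → A be a ring map between Noetherian rings which is flat and of finite type, presented as a
surjection ψ : P = R[x_1, …, x_n] → A. For K in D(R) form φ^!(K) = RHom_P(A, K ⊗^L_R P)[n], where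
the derived base change D(R) → D(P) is assumed to exist and RHom_P(A, −) : D(P) → D(A) is taken to
be a right adjoint of restriction of scalars along ψ, and put ω_{A/R} = φ^!(R); assume also that the
derived base change functors D(A) → D(A_f) exist for all f ∈ A. Then all fibre rings A ⊗_R κ(p), for
p a prime of R, are Gorenstein if and only if ω_{A/R} is invertible in the following sense: for
every prime q of A there are f ∈ A with f ∉ q and an integer m such that ω_{A/R} ⊗^L_A A_f ≅ A_f[m]
in D(A_f). -/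
theorem result (R A : Type u) [CommRing R] [CommRing A] [IsNoetherianRing R] [IsNoetherianRing A] [Algebra R A] (n : ℕ) (ψ : MvPolynomial (Fin n) R →ₐ[R] A) (hψ : Function.Surjective ψ) [DRing.HasLBaseChange (algebraMap R (MvPolynomial (Fin n) R))] (Rψ : Dual.D (MvPolynomial (Fin n) R) ⥤ Dual.D A) (adj : DRing.restrictD ψ.toRingHom ⊣ Rψ) [Module.Flat R A] [hL : ∀ f : A, DRing.HasLBaseChange (algebraMap A (Localization.Away f))] : (∀ p : PrimeSpectrum R, LocCoh.IsGorensteinRing (A ⊗[R] p.asIdeal.ResidueField)) ↔ (∀ q : PrimeSpectrum A, ∃ (f : A) (_ : f ∉ q.asIdeal) (m : ℤ), Nonempty ((DRing.LBaseChange (algebraMap A (Localization.Away f))).obj (Dual2.shriekVia n Rψ (Dual.inD R R)) ≅ (Dual.inD (Localization.Away f) (Localization.Away f))⟦m⟧)) := by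
  classical
  obtain ⟨hab, hfin, -, -, hdual⟩ := Groth.Agent.S1801.result R A n ψ hψ Rψ adj
  obtain ⟨a, b, hb⟩ := hab
  obtain ⟨r⟩ := Groth.Agent.Lib.Helper5.RelGor.nonempty_ffRep_of_bdd_finite
    (Dual2.shriekVia n Rψ (Dual.inD R R)) ⟨b, fun i hi => hb i (Or.inr hi)⟩ hfin
  constructor
  · intro hgor q
    haveI := Groth.Agent.Lib.Helper5.HasLDer.hasLBaseChange
      (Algebra.TensorProduct.includeRight :
        A →ₐ[R] (PrimeSpectrum.comap (algebraMap R A) q).asIdeal.ResidueField ⊗[R] A).toRingHom
    have hX := hdual (PrimeSpectrum.comap (algebraMap R A) q).asIdeal.ResidueField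
    haveI : LocCoh.IsGorensteinRing
        (A ⊗[R] (PrimeSpectrum.comap (algebraMap R A) q).asIdeal.ResidueField) :=
      hgor (PrimeSpectrum.comap (algebraMap R A) q)
    haveI hg' : LocCoh.IsGorensteinRing
        ((PrimeSpectrum.comap (algebraMap R A) q).asIdeal.ResidueField ⊗[R] A) :=
      Groth.Agent.Lib.Helper5.GorRing.gorRing_of_ringEquiv
        (Algebra.TensorProduct.comm R A
          (PrimeSpectrum.comap (algebraMap R A) q).asIdeal.ResidueField).toRingEquiv
    obtain ⟨Q, hQ⟩ := Groth.Agent.Lib.Helper5.RelGor.exists_prime_fibre R A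
      (PrimeSpectrum.comap (algebraMap R A) q) q rfl
    haveI := hg'.isGorensteinLocalRing_localization Q.asIdeal
    obtain ⟨n₀, h0, h1⟩ := Groth.Agent.Lib.Helper5.RelGor.local_of_gor _ r hX Q.asIdeal q hQ
    obtain ⟨f, hf, ⟨e⟩⟩ := Groth.Agent.Lib.Helper5.RelGor.exists_away_iso_of_local
      (Dual2.shriekVia n Rψ (Dual.inD R R)) ⟨a, b, hb⟩ hfin q n₀ h0 h1
    haveI : Module.Flat A (Localization.Away f) := IsLocalization.flat _ (Submonoid.powers f)
    obtain ⟨e'⟩ := Groth.Agent.Lib.Helper5.LocD.lbc_iso_extD (Localization.Away f)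
      (Dual2.shriekVia n Rψ (Dual.inD R R))
    exact ⟨f, hf, -n₀, ⟨e' ≪≫ e⟩⟩
  · intro hinv p
    haveI := Groth.Agent.Lib.Helper5.HasLDer.hasLBaseChange
      (Algebra.TensorProduct.includeRight :
        A →ₐ[R] p.asIdeal.ResidueField ⊗[R] A).toRingHom
    have hX := hdual p.asIdeal.ResidueField
    haveI : LocCoh.IsGorensteinRing (p.asIdeal.ResidueField ⊗[R] A) :=
      Groth.Agent.Lib.Helper5.RelGor.gorRing_of_invertible _ r hX hinv
    exact Groth.Agent.Lib.Helper5.GorRing.gorRing_of_ringEquiv
      (Algebra.TensorProduct.comm R p.asIdeal.ResidueField A).toRingEquiv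

end Groth.Agent.S1786
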