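import Groth.Statements.S17863
-- import your own Groth.Agent.* helpers here
import Mathlib

set_option autoImplicit false
open CategoryTheory AlgebraicGeometry
universe u
open Algz

namespace Groth.Agent.S17863

/-- Let `A` be a commutative ring which is `I`-adically complete for an ideal `I` and let `X` be a
quasi-affine scheme. Then the natural map from `X(A)` to compatible systems in the `X(A/I^n)` is
bijective: two morphisms `Spec A ⟶ X` with the same restriction to every `Spec (A/I^n)` are equal,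
and every family of morphisms `Spec (A/I^n) ⟶ X` compatible with the transition maps `Spec (A/I^n) ⟶
Spec (A/I^(n+1))` is the family of restrictions of a morphism `Spec A ⟶ X`. -/
theorem result (A : Type u) [CommRing A] (I : Ideal A) [IsAdicComplete I A]
    (X : Scheme.{u}) [X.IsQuasiAffine] :
    (∀ f g : Spec (CommRingCat.of A) ⟶ X,
      (∀ n : ℕ, Spec.map (CommRingCat.ofHom (Ideal.Quotient.mk (I ^ n))) ≫ f =
        Spec.map (CommRingCat.ofHom (Ideal.Quotient.mk (I ^ n))) ≫ g) → f = g) ∧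
    (∀ e : ∀ n : ℕ, Spec (CommRingCat.of (A ⧸ I ^ n)) ⟶ X,
      (∀ n : ℕ, Spec.map (CommRingCat.ofHom (Ideal.Quotient.factorPowSucc I n)) ≫ e (n + 1) = e n) →
      ∃ f : Spec (CommRingCat.of A) ⟶ X,
        ∀ n : ℕ, Spec.map (CommRingCat.ofHom (Ideal.Quotient.mk (I ^ n))) ≫ f = e n) := by
  constructor
  · intro f g h
    rw [← cancel_mono X.toSpecΓ]
    obtain ⟨φ, hφ⟩ : ∃ φ, Spec.map φ = f ≫ X.toSpecΓ := ⟨Spec.preimage _, Spec.map_preimage _⟩
    obtain ⟨ψ, hψ⟩ : ∃ ψ, Spec.map ψ = g ≫ X.toSpecΓ := ⟨Spec.preimage _, Spec.map_preimage _⟩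
    rw [← hφ, ← hψ]
    congr 1
    ext x
    rw [IsHausdorff.eq_iff_smodEq (I := I)]
    intro n
    have h1 : Spec.map (φ ≫ CommRingCat.ofHom (Ideal.Quotient.mk (I ^ n))) =
        Spec.map (ψ ≫ CommRingCat.ofHom (Ideal.Quotient.mk (I ^ n))) := by
      rw [Spec.map_comp, Spec.map_comp, hφ, hψ, ← Category.assoc, ← Category.assoc, h n]
    have h2 := Spec.map_injective h1
    have h3 := congrArg (fun k => k.hom x) h2
    simp only [CommRingCat.hom_comp, CommRingCat.hom_ofHom, RingHom.comp_apply] at h3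
    rw [SModEq.sub_mem, smul_eq_mul, Ideal.mul_top, ← Ideal.Quotient.eq]
    exact h3
  · intro e he
    let φ : ∀ n, Γ(X, ⊤) →+* A ⧸ I ^ (id n) := fun n => (Spec.preimage (e n ≫ X.toSpecΓ)).hom
    have hφ : ∀ n, Spec.map (CommRingCat.ofHom (φ n)) = e n ≫ X.toSpecΓ := fun n =>
      Spec.map_preimage _
    have hcompat : ∀ {m : ℕ}, (Ideal.Quotient.factorPow I (strictMono_id.monotone m.le_succ)).comp
        (φ (m + 1)) = φ m := by
      intro m
      have h1 : Spec.map (CommRingCat.ofHom (φ (m + 1)) ≫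
          CommRingCat.ofHom (Ideal.Quotient.factorPowSucc I m)) =
          Spec.map (CommRingCat.ofHom (φ m)) := by
        rw [Spec.map_comp, hφ, hφ, ← Category.assoc, he m]
      have h2 := Spec.map_injective h1
      have h3 := congrArg (fun k => k.hom) h2
      simp only [CommRingCat.hom_comp, CommRingCat.hom_ofHom] at h3
      exact h3
    let Φ : Γ(X, ⊤) →+* A := IsAdicComplete.StrictMono.liftRingHom I strictMono_id φ hcompat
    have hΦ : ∀ n, (Ideal.Quotient.mk (I ^ n)).comp Φ = φ n := fun n =>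
      IsAdicComplete.StrictMono.mk_comp_liftRingHom I strictMono_id φ hcompat
    have hΦ' : ∀ n, Spec.map (CommRingCat.ofHom (Ideal.Quotient.mk (I ^ n))) ≫
        Spec.map (CommRingCat.ofHom Φ) = e n ≫ X.toSpecΓ := by
      intro n
      rw [← Spec.map_comp, ← hφ n]
      congr 1
      ext x
      exact congrArg (fun k => k x) (hΦ n)
    have hrange : Set.range (Spec.map (CommRingCat.ofHom Φ)) ⊆ Set.range X.toSpecΓ := by
      rintro _ ⟨x, rfl⟩
      -- a maximal ideal above x
      obtain ⟨𝔪, hmax, hle⟩ := Ideal.exists_le_maximal (x : PrimeSpectrum A).asIdeal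
        (x : PrimeSpectrum A).isPrime.ne_top
      have hI𝔪 : I ≤ 𝔪 := le_trans (IsAdicComplete.le_jacobson_bot I)
        (sInf_le ⟨bot_le, hmax⟩)
      let 𝔭 : PrimeSpectrum A := ⟨𝔪, hmax.isPrime⟩
      have h𝔭 : 𝔭 ∈ Set.range (PrimeSpectrum.comap (Ideal.Quotient.mk (I ^ 1))) := by
        rw [_root_.range_comap_of_surjective _ _ Ideal.Quotient.mk_surjective,
          Ideal.mk_ker, PrimeSpectrum.mem_zeroLocus, pow_one]
        exact hI𝔪
      obtain ⟨q, hq⟩ := h𝔭
      have hspec : (x : PrimeSpectrum A) ⤳ 𝔭 := (PrimeSpectrum.le_iff_specializes _ _).mp hle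
      have h1 : (Spec.map (CommRingCat.ofHom Φ)) 𝔭 ∈ Set.range X.toSpecΓ := by
        let q' : ↥(Spec (CommRingCat.of (A ⧸ I ^ 1))) := q
        have h2 := congrArg (fun k : Spec (CommRingCat.of (A ⧸ I ^ 1)) ⟶ Spec Γ(X, ⊤) => k q') (hΦ' 1)
        simp only [Scheme.Hom.comp_apply] at h2
        have h3 : (Spec.map (CommRingCat.ofHom (Ideal.Quotient.mk (I ^ 1)))) q' = 𝔭 := hq
        rw [h3] at h2
        rw [h2]
        exact ⟨_, rfl⟩
      exact (hspec.map (Spec.map (CommRingCat.ofHom Φ)).continuous).mem_open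
        X.toSpecΓ.isOpenEmbedding.isOpen_range h1
    refine ⟨IsOpenImmersion.lift X.toSpecΓ (Spec.map (CommRingCat.ofHom Φ)) hrange, fun n => ?_⟩
    rw [← cancel_mono X.toSpecΓ, Category.assoc, IsOpenImmersion.lift_fac]
    exact hΦ' n

end Groth.Agent.S17863
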