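import Groth.Statements.S17864
-- import your own Groth.Agent.* helpers here
import Groth.Agent.Lib.Helper14InvLim
import Mathlib

set_option autoImplicit false
universe u
open Algz

namespace Groth.Agent.S17864

section Helpers

variable {A : Type u} [CommRing A] (I : Ideal A)
  {N Q : Type u} [AddCommGroup N] [Module A N] [AddCommGroup Q] [Module A Q]

theorem map_mem_pow_smul_top (f : N →ₗ[A] Q) (n : ℕ) {x : N}
    (hx : x ∈ (I ^ n • ⊤ : Submodule A N)) : f x ∈ (I ^ n • ⊤ : Submodule A Q) :=
  Submodule.smul_top_le_comap_smul_top (I ^ n) f hx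

theorem isHausdorff_of_retract (i : Q →ₗ[A] N) (π : N →ₗ[A] Q) (h : π ∘ₗ i = LinearMap.id)
    [IsHausdorff I N] : IsHausdorff I Q := by
  refine ⟨fun x hx => ?_⟩
  have h1 : i x = 0 := by
    apply IsHausdorff.haus (I := I) inferInstance
    intro n
    have := hx n
    rw [SModEq.zero] at this ⊢
    exact map_mem_pow_smul_top I i n this
  have h2 : x = π (i x) := by
    have := LinearMap.congr_fun h x
    simpa using this.symm
  rw [h2, h1, map_zero]

theorem isPrecomplete_of_retract (i : Q →ₗ[A] N) (π : N →ₗ[A] Q) (h : π ∘ₗ i = LinearMap.id)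
    [IsPrecomplete I N] : IsPrecomplete I Q := by
  refine ⟨fun c hc => ?_⟩
  obtain ⟨L, hL⟩ := IsPrecomplete.prec' (I := I) (fun n => i (c n)) (by
    intro m n hmn
    have := hc hmn
    rw [SModEq.sub_mem] at this ⊢
    rw [← map_sub]
    exact map_mem_pow_smul_top I i m this)
  refine ⟨π L, fun n => ?_⟩
  have h2 : c n = π (i (c n)) := by
    have := LinearMap.congr_fun h (c n)
    simpa using this.symm
  have := hL n
  rw [SModEq.sub_mem] at this ⊢
  rw [h2, ← map_sub]
  exact map_mem_pow_smul_top I π n this

theorem isHausdorff_pi [IsHausdorff I A] (r : ℕ) : IsHausdorff I (Fin r → A) := by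
  refine ⟨fun x hx => ?_⟩
  funext j
  apply IsHausdorff.haus (I := I) (M := A) inferInstance
  intro n
  have := hx n
  rw [SModEq.zero] at this ⊢
  rw [Groth.Agent.Lib.Helper14.mem_smul_top_pi] at this
  have hj := this j
  rw [smul_eq_mul, Ideal.mul_top]
  exact hj

theorem isAdicComplete_of_finite_projective [IsAdicComplete I A] [Module.Finite A Q]
    [Module.Projective A Q] : IsAdicComplete I Q := by
  obtain ⟨n, f, g, _, _, hfg⟩ := Module.Finite.exists_comp_eq_id_of_projective A Q
  haveI := isHausdorff_pi I n
  haveI := Groth.Agent.Lib.Helper14.isPrecomplete_pi I n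
  haveI := isHausdorff_of_retract I g f hfg
  haveI := isPrecomplete_of_retract I g f hfg
  exact {}

end Helpers

/-- The full-faithfulness assertion. Let `A` be a commutative ring which is `I`-adically complete for an
ideal `I`, and `P`, `Q` finitely generated projective `A`-modules. An `A`-linear map `P → Q` is
determined by its reductions modulo the powers `I^n`, and every family of `A`-linear maps `P/I^n P →
Q/I^n Q` compatible with the transition maps is the family of reductions of an `A`-linear map `P →
Q`. (The companion assertion, that compatible systems of finite projective modules over the rings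
`A/I^n` lift to `A`, is not restated here.) -/
theorem result (A : Type u) [CommRing A] (I : Ideal A)
    [IsAdicComplete I A] (P Q : Type u) [AddCommGroup P] [Module A P] [Module.Finite A P]
    [Module.Projective A P] [AddCommGroup Q] [Module A Q] [Module.Finite A Q] [Module.Projective A Q] :
    (∀ f f' : P →ₗ[A] Q, (∀ n : ℕ, f.reduceModIdeal (I ^ n) = f'.reduceModIdeal (I ^ n)) → f = f') ∧
    (∀ g : ∀ n : ℕ, P ⧸ (I ^ n • ⊤ : Submodule A P) →ₗ[A] Q ⧸ (I ^ n • ⊤ : Submodule A Q),
      (∀ n : ℕ, AdicCompletion.transitionMap I Q (Nat.le_succ n) ∘ₗ g (n + 1) =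
        g n ∘ₗ AdicCompletion.transitionMap I P (Nat.le_succ n)) →
      ∃ f : P →ₗ[A] Q, ∀ n : ℕ, f.reduceModIdeal (I ^ n) = g n) := by
  haveI : IsAdicComplete I Q := isAdicComplete_of_finite_projective I
  constructor
  · intro f f' h
    ext p
    rw [IsHausdorff.eq_iff_smodEq (I := I)]
    intro n
    have := LinearMap.congr_fun (h n) (Submodule.Quotient.mk p)
    rw [LinearMap.reduceModIdeal_apply, LinearMap.reduceModIdeal_apply] at this
    exact this
  · intro g hg
    have compat : ∀ {m n : ℕ} (hle : m ≤ n),
        Submodule.factorPow I Q hle ∘ₗ (g n ∘ₗ Submodule.mkQ (I ^ n • ⊤ : Submodule A P)) =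
          g m ∘ₗ Submodule.mkQ (I ^ m • ⊤ : Submodule A P) := by
      intro m n hle
      induction n, hle using Nat.le_induction with
      | base =>
        ext x
        simp
      | succ n hmn ih =>
        ext x
        have h1 := LinearMap.congr_fun (hg n) (Submodule.Quotient.mk x)
        have h2 := LinearMap.congr_fun ih x
        simp only [LinearMap.comp_apply, Submodule.mkQ_apply] at h1 h2 ⊢
        rw [← h2]
        have h3 : AdicCompletion.transitionMap I P (Nat.le_succ n)
            (Submodule.Quotient.mk x) = Submodule.Quotient.mk x := rfl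
        rw [h3] at h1
        rw [← h1]
        generalize g (n + 1) (Submodule.Quotient.mk x) = z
        induction z using Submodule.Quotient.induction_on with
        | _ q => rfl
    refine ⟨IsAdicComplete.lift I (fun n => g n ∘ₗ Submodule.mkQ (I ^ n • ⊤ : Submodule A P))
      compat, fun n => ?_⟩
    apply LinearMap.ext
    intro y
    induction y using Submodule.Quotient.induction_on with
    | _ x =>
      change (LinearMap.reduceModIdeal (I ^ n) _) (Submodule.Quotient.mk x) = _
      rw [LinearMap.reduceModIdeal_apply, IsAdicComplete.mk_lift]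
      rfl

end Groth.Agent.S17864
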