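import Groth.Statements.S17866
-- import your own Groth.Agent.* helpers here
import Mathlib

set_option autoImplicit false
open CategoryTheory AlgebraicGeometry
universe u
open Algz

namespace Groth.Agent.S17866

section Top

open Topology Set

variable {X T : Type*} [TopologicalSpace X] [TopologicalSpace T]

/-- Constructible sets are retrocompact. -/
theorem isRetrocompact_of_isConstructible {s : Set X} (hs : IsConstructible s) :
    IsRetrocompact s := by
  have hsub : IsSublattice {U : Set X | IsOpen U ∧ IsRetrocompact U} :=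
    ⟨fun U hU V hV => ⟨hU.1.union hV.1, hU.2.union hV.2⟩,
      fun U hU V hV => ⟨hU.1.inter hV.1, hU.2.inter_isOpen hV.2 hV.1⟩⟩
  refine BooleanSubalgebra.closure_sdiff_sup_induction (s := {U : Set X | IsOpen U ∧ IsRetrocompact U})
    (p := fun s _ => IsRetrocompact s) hsub ⟨isOpen_empty, .empty⟩ ⟨isOpen_univ, .univ⟩
    ?_ ?_ s hs
  · intro x hx y hy V hVc hVo
    have : x \ y ∩ V = (x ∩ V) ∩ yᶜ := by
      ext z; simp only [mem_inter_iff, mem_diff, mem_compl_iff]; tauto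
    rw [this]
    exact (hx.2 hVc hVo).inter_right hy.1.isClosed_compl
  · intro x _ y _ hx hy
    exact hx.union hy

/-- The image of a constructible set under an embedding with range `Z' \ Z`, for closed
constructible `Z`, `Z'`, is constructible. -/
theorem isConstructible_image_of_range_eq_diff {Z Z' : Set X} (hZ : IsClosed Z)
    (hZc : IsConstructible Z) (hZ' : IsClosed Z') (hZ'c : IsConstructible Z')
    {f : T → X} (hf : IsEmbedding f) (hr : range f = Z' \ Z) {s : Set T}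
    (hs : IsConstructible s) : IsConstructible (f '' s) := by
  have hmem : ∀ t, f t ∈ Zᶜ := fun t => by
    have : f t ∈ Z' \ Z := hr ▸ mem_range_self t
    exact this.2
  let f' : T → ↥(Zᶜ) := fun t => ⟨f t, hmem t⟩
  have hf'emb : IsEmbedding f' := hf.codRestrict _ hmem
  have hrange : range f' = Subtype.val ⁻¹' Z' := by
    ext ⟨x, hx⟩
    simp only [mem_range, mem_preimage, f', Subtype.mk.injEq]
    constructor
    · rintro ⟨t, rfl⟩
      have : f t ∈ Z' \ Z := hr ▸ mem_range_self t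
      exact this.1
    · intro hx'
      have : x ∈ range f := by rw [hr]; exact ⟨hx', hx⟩
      exact this
  have hf'cl : IsClosedEmbedding f' :=
    ⟨hf'emb, by rw [hrange]; exact hZ'.preimage continuous_subtype_val⟩
  have hopen : IsOpenEmbedding (Subtype.val : ↥(Zᶜ) → X) := hZ.isOpen_compl.isOpenEmbedding_subtypeVal
  have hcomp : IsRetrocompact (range f')ᶜ := by
    rw [hrange, ← preimage_compl]
    exact (isRetrocompact_of_isConstructible hZ'c.compl).preimage_of_isOpenEmbedding hopen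
  have h1 : IsConstructible (f' '' s) := hs.image_of_isClosedEmbedding hf'cl hcomp
  have h2 : IsConstructible (Subtype.val '' (f' '' s)) := by
    refine h1.image_of_isOpenEmbedding hopen ?_
    rw [Subtype.range_coe]
    exact isRetrocompact_of_isConstructible hZc.compl
  rwa [← image_comp] at h2

/-- `Z ∪ f '' s` is closed for `s` closed, `f` an embedding with range `Z' \ Z`. -/
theorem isClosed_union_image {Z Z' : Set X} (hZ : IsClosed Z) (hZ' : IsClosed Z')
    {f : T → X} (hf : IsEmbedding f) (hr : range f = Z' \ Z) {s : Set T}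
    (hs : IsClosed s) : IsClosed (Z ∪ f '' s) := by
  obtain ⟨F, hF, rfl⟩ := hf.isInducing.isClosed_iff.mp hs
  have : Z ∪ f '' (f ⁻¹' F) = Z ∪ (F ∩ Z') := by
    rw [image_preimage_eq_inter_range, hr]
    ext x
    simp only [mem_union, mem_inter_iff, mem_diff]
    tauto
  rw [this]
  exact hZ.union (hF.inter hZ')

end Top

section Sch

open Set W4c5algebraiztannaka

variable {Y₁ Y₂ Y₃ : Scheme.{u}} (g₁ : Y₁ ⟶ Y₂) (g₂ : Y₂ ⟶ Y₃)

/-- Data of one stratum of the second cover. -/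
structure Stratum (Zlo Zhi : Set Y₃) where
  T : Scheme.{u}
  g : T ⟶ Y₃
  s : T ⟶ Y₂
  imm : IsImmersion g
  range_eq : Set.range (fun t : T => g t) = Zhi \ Zlo
  fac : s ≫ g₂ = g

variable {g₂}

/-- The refined chain inside one stratum. -/
def SS {Zlo Zhi : Set Y₃} (D : Stratum g₂ Zlo Zhi) (W : Set Y₂) : Set Y₃ :=
  Zlo ∪ (fun t : D.T => D.g t) '' ((fun t : D.T => D.s t) ⁻¹' W)

theorem SS_empty {Zlo Zhi : Set Y₃} (D : Stratum g₂ Zlo Zhi) : SS D ∅ = Zlo := by
  simp [SS]

theorem SS_univ {Zlo Zhi : Set Y₃} (D : Stratum g₂ Zlo Zhi) (hle : Zlo ⊆ Zhi) :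
    SS D univ = Zhi := by
  rw [SS, preimage_univ, image_univ, D.range_eq, union_diff_cancel hle]

theorem SS_mono {Zlo Zhi : Set Y₃} (D : Stratum g₂ Zlo Zhi) {W W' : Set Y₂} (h : W ⊆ W') :
    SS D W ⊆ SS D W' :=
  union_subset_union_right _ (image_mono (preimage_mono h))

theorem SS_isClosed {Zlo Zhi : Set Y₃} (D : Stratum g₂ Zlo Zhi) (hlo : IsClosed Zlo)
    (hhi : IsClosed Zhi) {W : Set Y₂} (hW : IsClosed W) : IsClosed (SS D W) := by
  haveI := D.imm
  exact isClosed_union_image hlo hhi D.g.isEmbedding D.range_eq (hW.preimage D.s.continuous)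

theorem SS_isConstructible {Zlo Zhi : Set Y₃} (D : Stratum g₂ Zlo Zhi) (hlo : IsClosed Zlo)
    (hloc : Topology.IsConstructible Zlo)
    (hhi : IsClosed Zhi) (hhic : Topology.IsConstructible Zhi) {W : Set Y₂}
    (hW : Topology.IsConstructible W) : Topology.IsConstructible (SS D W) := by
  haveI := D.imm
  refine hloc.union ?_
  exact isConstructible_image_of_range_eq_diff hlo hloc hhi hhic D.g.isEmbedding D.range_eq
    (D.s.isConstructible_preimage hW)

theorem SS_diff {Zlo Zhi : Set Y₃} (D : Stratum g₂ Zlo Zhi) (W W' : Set Y₂) :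
    SS D W' \ SS D W = (fun t : D.T => D.g t) '' ((fun t : D.T => D.s t) ⁻¹' (W' \ W)) := by
  haveI := D.imm
  have hinj : Function.Injective (fun t : D.T => D.g t) := D.g.isEmbedding.injective
  have hdisj : ∀ t : D.T, D.g t ∉ Zlo := fun t => by
    have : D.g t ∈ Zhi \ Zlo := D.range_eq ▸ mem_range_self t
    exact this.2
  rw [preimage_diff, image_diff hinj]
  ext x
  simp only [SS, mem_diff, mem_union, mem_image, mem_preimage]
  constructor
  · rintro ⟨h1 | ⟨t, ht, rfl⟩, h2⟩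
    · exact absurd (Or.inl h1) h2
    · exact ⟨⟨t, ht, rfl⟩, fun h3 => h2 (Or.inr h3)⟩
  · rintro ⟨⟨t, ht, rfl⟩, h2⟩
    refine ⟨Or.inr ⟨t, ht, rfl⟩, ?_⟩
    rintro (h3 | h3)
    · exact hdisj t h3
    · exact h2 h3

theorem hasSectOver_SS {Zlo Zhi : Set Y₃} (D : Stratum g₂ Zlo Zhi) (W W' : Set Y₂)
    (h : HasSectOver g₁ (W' \ W)) : HasSectOver (g₁ ≫ g₂) (SS D W' \ SS D W) := by
  obtain ⟨T, gT, sT, himm, hrange, hfac⟩ := h
  haveI := D.imm
  haveI := himm
  refine ⟨Limits.pullback D.s gT, Limits.pullback.fst D.s gT ≫ D.g,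
    Limits.pullback.snd D.s gT ≫ sT, inferInstance, ?_, ?_⟩
  · rw [SS_diff, ← hrange]
    have h1 : Set.range (Limits.pullback.fst D.s gT) = D.s ⁻¹' Set.range gT :=
      Scheme.Pullback.range_fst D.s gT
    have h2 : (fun t : ↥(Limits.pullback D.s gT) => (Limits.pullback.fst D.s gT ≫ D.g) t) =
        (fun t : D.T => D.g t) ∘ (fun t => (Limits.pullback.fst D.s gT) t) := by
      funext t
      simp [Scheme.Hom.comp_apply]
    rw [h2, Set.range_comp]
    congr 1
  · rw [Category.assoc, ← Category.assoc sT, hfac, ← Limits.pullback.condition_assoc, D.fac]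

theorem main (m₁ m₂ : ℕ)
    (h₁ : IsNisCoverLen g₁ m₁) (h₂ : IsNisCoverLen g₂ m₂) :
    IsNisCoverLen (g₁ ≫ g₂) (m₁ * m₂) := by
  haveI := h₁.etale
  haveI := h₂.etale
  refine ⟨inferInstance, ?_⟩
  obtain ⟨Z, hZ0, hZlast, hZmono, hZcc, hZsec⟩ := h₁.flag
  obtain ⟨Z', hZ'0, hZ'last, hZ'mono, hZ'cc, hZ'sec⟩ := h₂.flag
  have hD : ∀ k : Fin m₂, Nonempty (Stratum g₂ (Z' k.castSucc) (Z' k.succ)) := fun k => by
    obtain ⟨T, g, s, himm, hr, hfac⟩ := hZ'sec k
    exact ⟨⟨T, g, s, himm, hr, hfac⟩⟩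
  let D : ∀ k : Fin m₂, Stratum g₂ (Z' k.castSucc) (Z' k.succ) := fun k => (hD k).some
  rcases Nat.eq_zero_or_pos m₁ with hm₁ | hm₁
  · subst hm₁
    have hY₂ : IsEmpty Y₂ := by
      constructor
      intro y
      have h3 : y ∈ Z (Fin.last 0) := hZlast ▸ mem_univ y
      rw [show Fin.last 0 = 0 from rfl, hZ0] at h3
      exact h3
    have hY₃ : ∀ y : Y₃, False := by
      intro y
      have key : ∀ k : ℕ, ∀ hk : k < m₂ + 1, y ∉ Z' ⟨k, hk⟩ := by
        intro k
        induction k with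
        | zero =>
          intro hk
          rw [show (⟨0, hk⟩ : Fin (m₂+1)) = 0 from rfl, hZ'0]
          exact notMem_empty y
        | succ k ih =>
          intro hk hy
          have hk' : k < m₂ := by omega
          have h1 := ih (by omega)
          have h3 : y ∈ Z' (Fin.succ ⟨k, hk'⟩) \ Z' (Fin.castSucc ⟨k, hk'⟩) := ⟨hy, h1⟩
          rw [← (D ⟨k, hk'⟩).range_eq] at h3
          obtain ⟨t, -⟩ := h3
          exact hY₂.false ((D ⟨k, hk'⟩).s t)
      refine key m₂ (by omega) ?_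
      rw [show (⟨m₂, by omega⟩ : Fin (m₂+1)) = Fin.last m₂ from rfl, hZ'last]
      trivial
    rw [Nat.zero_mul]
    refine ⟨fun _ => ∅, rfl, ?_, fun _ _ _ => le_rfl,
      fun _ => ⟨isClosed_empty, .empty⟩, fun k => k.elim0⟩
    ext y
    exact (hY₃ y).elim
  · let Sn : ℕ → ℕ → Set Y₃ := fun a b =>
      if h : a < m₂ ∧ b < m₁ + 1 then SS (D ⟨a, h.1⟩) (Z ⟨b, h.2⟩) else univ
    have hZ'le : ∀ k : Fin m₂, Z' k.castSucc ⊆ Z' k.succ := fun k =>
      hZ'mono (Fin.castSucc_lt_succ (i := k)).le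
    have F1 : ∀ a (ha : a < m₂), Sn a 0 = Z' ⟨a, by omega⟩ := by
      intro a ha
      simp only [Sn]
      rw [dif_pos ⟨ha, by omega⟩, show (⟨0, by omega⟩ : Fin (m₁+1)) = 0 from rfl, hZ0, SS_empty]
      rfl
    have F2 : ∀ a (ha : a < m₂), Sn a m₁ = Z' ⟨a + 1, by omega⟩ := by
      intro a ha
      simp only [Sn]
      rw [dif_pos ⟨ha, by omega⟩, show (⟨m₁, by omega⟩ : Fin (m₁+1)) = Fin.last m₁ from rfl,
        hZlast, SS_univ _ (hZ'le _)]
      rfl
    have F3 : Sn m₂ 0 = Z' ⟨m₂, by omega⟩ := by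
      simp only [Sn]
      rw [dif_neg (by omega), show (⟨m₂, by omega⟩ : Fin (m₂+1)) = Fin.last m₂ from rfl, hZ'last]
    have F4 : ∀ a (ha : a < m₂), Sn (a + 1) 0 = Sn a m₁ := by
      intro a ha
      rw [F2 a ha]
      rcases Nat.lt_or_ge (a + 1) m₂ with h | h
      · rw [F1 (a + 1) h]
      · have : a + 1 = m₂ := by omega
        subst this
        rw [F3]
    have F5 : ∀ a b, a < m₂ → b < m₁ → Sn a b ⊆ Sn a (b + 1) ∧
        HasSectOver (g₁ ≫ g₂) (Sn a (b + 1) \ Sn a b) := by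
      intro a b ha hb
      simp only [Sn]
      rw [dif_pos ⟨ha, by omega⟩, dif_pos ⟨ha, by omega⟩]
      refine ⟨SS_mono _ (hZmono ?_), ?_⟩
      · exact Fin.mk_le_mk.mpr (by omega)
      · exact hasSectOver_SS g₁ _ _ _ (hZsec ⟨b, hb⟩)
    have F6 : ∀ a b, IsClosed (Sn a b) ∧ Topology.IsConstructible (Sn a b) := by
      intro a b
      simp only [Sn]
      split_ifs with h
      · exact ⟨SS_isClosed _ (hZ'cc _).1 (hZ'cc _).1 (hZcc _).1,
          SS_isConstructible _ (hZ'cc _).1 (hZ'cc _).2 (hZ'cc _).1 (hZ'cc _).2 (hZcc _).2⟩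
      · exact ⟨isClosed_univ, .univ⟩
    let Zc : ℕ → Set Y₃ := fun i => Sn (i / m₁) (i % m₁)
    have hstep : ∀ i, i < m₁ * m₂ → Zc (i + 1) = Sn (i / m₁) (i % m₁ + 1) := by
      intro i hi
      have ha : i / m₁ < m₂ := Nat.div_lt_of_lt_mul hi
      have hb : i % m₁ < m₁ := Nat.mod_lt i hm₁
      have hi' : i + 1 = m₁ * (i / m₁) + (i % m₁ + 1) := by
        have := Nat.div_add_mod i m₁
        omega
      simp only [Zc]
      rcases Nat.lt_or_ge (i % m₁ + 1) m₁ with h | h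
      · have e1 : (i + 1) / m₁ = i / m₁ := by
          rw [hi', Nat.mul_add_div hm₁, Nat.div_eq_of_lt h]
          simp
        have e2 : (i + 1) % m₁ = i % m₁ + 1 := by
          rw [hi', Nat.mul_add_mod, Nat.mod_eq_of_lt h]
        rw [e1, e2]
      · have hb' : i % m₁ + 1 = m₁ := by omega
        have e1 : (i + 1) / m₁ = i / m₁ + 1 := by
          rw [hi', Nat.mul_add_div hm₁, hb', Nat.div_self hm₁]
        have e2 : (i + 1) % m₁ = 0 := by
          rw [hi', Nat.mul_add_mod, hb', Nat.mod_self]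
        rw [e1, e2, hb', F4 _ ha]
    have hZc0 : Zc 0 = ∅ := by
      simp only [Zc, Nat.zero_div, Nat.zero_mod]
      rcases Nat.eq_zero_or_pos m₂ with h | h
      · subst h
        rw [F3]
        exact hZ'0
      · rw [F1 0 h]
        exact hZ'0
    have hZclast : Zc (m₁ * m₂) = univ := by
      simp only [Zc, Nat.mul_div_cancel_left _ hm₁, Nat.mul_mod_right]
      rw [F3, show (⟨m₂, by omega⟩ : Fin (m₂+1)) = Fin.last m₂ from rfl, hZ'last]
    refine ⟨fun i => Zc i.val, hZc0, hZclast, ?_, fun k => F6 _ _, ?_⟩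
    · rw [Fin.monotone_iff_le_succ]
      intro i
      show Zc i.val ⊆ Zc (i.val + 1)
      rw [hstep i.val i.isLt]
      exact (F5 _ _ (Nat.div_lt_of_lt_mul i.isLt) (Nat.mod_lt _ hm₁)).1
    · intro i
      show HasSectOver (g₁ ≫ g₂) (Zc (i.val + 1) \ Zc i.val)
      rw [hstep i.val i.isLt]
      exact (F5 _ _ (Nat.div_lt_of_lt_mul i.isLt) (Nat.mod_lt _ hm₁)).2

end Sch

/-- In the case of schemes. Let `g₁ : Y₁ ⟶ Y₂` and `g₂ : Y₂ ⟶ Y₃` be Nisnevich covers of quasi-compact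
quasi-separated schemes of lengths at most `m₁` and `m₂` respectively. Then `g₁ ≫ g₂` is a Nisnevich
cover of length at most `m₁ * m₂`. (The original form is for quasi-compact quasi-separated algebraic
spaces; stated here for schemes.) -/
theorem result {Y₁ Y₂ Y₃ : Scheme.{u}} (g₁ : Y₁ ⟶ Y₂) (g₂ : Y₂ ⟶ Y₃)
    [CompactSpace Y₁] [QuasiSeparatedSpace Y₁] [CompactSpace Y₂] [QuasiSeparatedSpace Y₂]
    [CompactSpace Y₃] [QuasiSeparatedSpace Y₃] (m₁ m₂ : ℕ)
    (h₁ : W4c5algebraiztannaka.IsNisCoverLen g₁ m₁) (h₂ : W4c5algebraiztannaka.IsNisCoverLen g₂ m₂) :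
    W4c5algebraiztannaka.IsNisCoverLen (g₁ ≫ g₂) (m₁ * m₂) := by
  exact main g₁ m₁ m₂ h₁ h₂

end Groth.Agent.S17866
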