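import Groth.Statements.S17871
-- import your own Groth.Agent.* helpers here
import Mathlib
import Groth.Agent.Lib.Helper26CoverGen
import Groth.Agent.Lib.Helper26UnivFlat
import Groth.Agent.Lib.Helper2PullbackSec2
import Groth.Agent.Lib.Helper2FPAff
import Groth.Agent.Lib.Helper18Strict6

set_option autoImplicit false
open CategoryTheory AlgebraicGeometry Opposite
universe u
open Algz

namespace Groth.Agent.S17871

set_option linter.style.haveILetI false

open Groth.Agent.Lib.Helper26.CoverGen Groth.Agent.Lib.Helper2 Submodule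

/-- the ideal of global functions whose basic open lies in the open `V`. -/
def idealOfOpen (Y : Scheme.{u}) (V : Y.Opens) : Ideal Γ(Y, ⊤) where
  carrier := {c | Y.basicOpen c ≤ V}
  zero_mem' := by simp
  add_mem' := fun {a b} ha hb => (Y.basicOpen_add_le a b).trans (sup_le ha hb)
  smul_mem' := fun a c hc => by
    change Y.basicOpen (a * c) ≤ V
    rw [Y.basicOpen_mul]; exact inf_le_right.trans hc

theorem mem_idealOfOpen {Y : Scheme.{u}} {V : Y.Opens} {c : Γ(Y, ⊤)} :
    c ∈ idealOfOpen Y V ↔ Y.basicOpen c ≤ V := Iff.rfl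

theorem sup_idealOfOpen {Y : Scheme.{u}} [IsAffine Y] {J : Type*} (t : Finset J) (V : J → Y.Opens)
    (hV : ∀ y : Y, ∃ j ∈ t, y ∈ V j) : t.sup (fun j => idealOfOpen Y (V j)) = ⊤ := by
  let s : Set Γ(Y, ⊤) := {c | ∃ j ∈ t, Y.basicOpen c ≤ V j}
  have hs : Ideal.span s = ⊤ := by
    rw [← (isAffineOpen_top Y).self_le_iSup_basicOpen_iff]
    intro y _
    obtain ⟨j, hj, hy⟩ := hV y
    obtain ⟨c, hc, hyc⟩ := (isAffineOpen_top Y).exists_basicOpen_le (V := V j) ⟨y, hy⟩ trivial
    exact TopologicalSpace.Opens.mem_iSup.2 ⟨⟨c, j, hj, hc⟩, hyc⟩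
  rw [eq_top_iff, ← hs, Ideal.span_le]
  rintro c ⟨j, hj, hc⟩
  exact (Finset.le_sup (f := fun j => idealOfOpen Y (V j)) hj) hc

/-- a counted presentation of `Γ(F, W)` gives a counted presentation of the global sections of
`f^* F` away from every `c` whose basic open maps into `W`. -/
theorem presAway_sections {Y X : Scheme.{u}} [IsAffine Y] (f : Y ⟶ X) (F : X.Modules)
    [F.IsQuasicoherent] {W : X.Opens} (hW : IsAffineOpen W) {n r : ℕ}
    (hpres : HasPres Γ(X, W) Γ(F, W) n r) (c : Γ(Y, ⊤)) (hc : Y.basicOpen c ≤ f ⁻¹ᵁ W) :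
    PresAway Γ(Y, ⊤) Γ((Scheme.Modules.pullback f).obj F, ⊤) c n r := by
  have hD : IsAffineOpen (Y.basicOpen c) := (isAffineOpen_top Y).basicOpen c
  letI : Algebra Γ(X, W) Γ(Y, Y.basicOpen c) := (f.appLE W (Y.basicOpen c) hc).hom.toAlgebra
  obtain ⟨e⟩ := PullbackSec.nonempty_sections_linearEquiv f F hD hW hc
  have h1 : HasPres Γ(Y, Y.basicOpen c) Γ((Scheme.Modules.pullback f).obj F, Y.basicOpen c) n r :=
    (hpres.baseChange).of_linearEquiv e
  haveI : ((Scheme.Modules.pullback f).obj F).IsQuasicoherent :=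
    PullbackSec.isQuasicoherent_pullback f F
  letI := FPAff.moduleRes ((Scheme.Modules.pullback f).obj F) (Y.basicOpen_le c)
  haveI := FPAff.isScalarTower_basicOpen ((Scheme.Modules.pullback f).obj F) c
  haveI := FPAff.isLocalizedModule_basicOpen ((Scheme.Modules.pullback f).obj F)
    (isAffineOpen_top Y) c
  haveI : IsLocalization.Away c Γ(Y, Y.basicOpen c) :=
    (isAffineOpen_top Y).isLocalization_basicOpen c
  exact PresAway_of_isLocalizedModule c (FPAff.resₗ _ (Y.basicOpen_le c)) h1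

/-- uniform counted presentation of the global sections of `f^* F` for `f : Y ⟶ X`, `Y` affine. -/
theorem exists_uniform_presentation {X : Scheme.{u}} (F : X.Modules) (hF : CohB1.IsFP F)
    (t : Finset X.affineOpens) (ht : ∀ x : X, ∃ U ∈ t, x ∈ U.1) (nn rr : X.affineOpens → ℕ)
    (hnr : ∀ U : X.affineOpens, HasPres Γ(X, U.1) Γ(F, U.1) (nn U) (rr U))
    {Y : Scheme.{u}} [IsAffine Y] (f : Y ⟶ X) :
    ∃ (q : Fin (t.card * ∑ U ∈ t, nn U) → Γ((Scheme.Modules.pullback f).obj F, ⊤))
      (T : Fin (t.card * (∑ U ∈ t, rr U + t.card * ∑ U ∈ t, nn U)) →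
        (Fin (t.card * ∑ U ∈ t, nn U) → Γ(Y, ⊤))),
      span Γ(Y, ⊤) (Set.range q) = ⊤ ∧ (∀ l, ∑ a, T l a • q a = 0) ∧
      ∀ v : Fin (t.card * ∑ U ∈ t, nn U) → Γ(Y, ⊤), ∑ a, v a • q a = 0 →
        v ∈ span Γ(Y, ⊤) (Set.range T) := by
  classical
  haveI : F.IsQuasicoherent := Groth.Agent.Helper18Strict.isQCoh_of_isFP F hF
  set G := (Scheme.Modules.pullback f).obj F with hG
  haveI : G.IsQuasicoherent := PullbackSec.isQuasicoherent_pullback f F
  haveI : SheafOfModules.IsFinitePresentation (R := Y.ringCatSheaf) G :=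
    Groth.Agent.Helper18Strict.isFP_pullback f F hF
  haveI : Module.FinitePresentation Γ(Y, ⊤) Γ(G, ⊤) :=
    FPAff.finitePresentation_sections G (isAffineOpen_top Y)
  let I : X.affineOpens → Ideal Γ(Y, ⊤) := fun U => idealOfOpen Y (f ⁻¹ᵁ U.1)
  have hI : t.sup I = ⊤ := sup_idealOfOpen t (fun U => f ⁻¹ᵁ U.1) (fun y => ht (f y))
  have hpres : ∀ U ∈ t, ∀ c ∈ I U, PresAway Γ(Y, ⊤) Γ(G, ⊤) c (nn U) (rr U) :=
    fun U _ c hc => presAway_sections f F U.2 (hnr U) c hc
  set N₁ := ∑ U ∈ t, nn U with hN₁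
  set R₁ := ∑ U ∈ t, rr U with hR₁
  -- generators
  obtain ⟨T₁, hT₁, hT₁'⟩ := exists_generators_of_cover t I N₁ Γ(G, ⊤)
    (fun U hU c hc => ((hpres U hU c hc).genAway).mono
      (Finset.single_le_sum (f := nn) (fun _ _ => Nat.zero_le _) hU))
    (by rw [hI, sup_top_eq])
  obtain ⟨q, hq⟩ := exists_fin_of_finset (S := Γ(Y, ⊤)) T₁ (t.card * N₁) hT₁ hT₁'
  -- relations
  set π := Fintype.linearCombination Γ(Y, ⊤) q with hπ
  have hπs : Function.Surjective π := by
    rw [← LinearMap.range_eq_top, Fintype.range_linearCombination, hq]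
  haveI : Module.Finite Γ(Y, ⊤) (LinearMap.ker π) :=
    Module.Finite.iff_fg.2 (Module.FinitePresentation.fg_ker π hπs)
  obtain ⟨T₂, hT₂, hT₂'⟩ := exists_generators_of_cover t I (R₁ + t.card * N₁) (LinearMap.ker π)
    (fun U hU c hc => (genAway_ker (hpres U hU c hc) q hq).mono
      (Nat.add_le_add_right
        (Finset.single_le_sum (f := rr) (fun _ _ => Nat.zero_le _) hU) _))
    (by rw [hI, sup_top_eq])
  obtain ⟨T₃, hT₃⟩ := exists_fin_of_finset (S := Γ(Y, ⊤)) T₂ (t.card * (R₁ + t.card * N₁)) hT₂ hT₂'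
  have hker : span Γ(Y, ⊤) (Set.range fun l => ((T₃ l : LinearMap.ker π) : Fin (t.card * N₁) → Γ(Y, ⊤)))
      = LinearMap.ker π := by
    have h1 := congrArg (Submodule.map (LinearMap.ker π).subtype) hT₃
    rw [Submodule.map_span, Submodule.map_subtype_top] at h1
    have h2 : (⇑(LinearMap.ker π).subtype '' Set.range T₃) =
        Set.range fun l => ((T₃ l : LinearMap.ker π) : Fin (t.card * N₁) → Γ(Y, ⊤)) := by
      ext z
      simp [Set.mem_image]
    rw [← h2]
    exact h1
  refine ⟨q, fun l => (T₃ l : Fin (t.card * N₁) → Γ(Y, ⊤)), hq, ?_, ?_⟩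
  · intro l
    have := LinearMap.mem_ker.1 (T₃ l).2
    exact (Fintype.linearCombination_apply Γ(Y, ⊤) q _).symm.trans this
  · intro v hv
    rw [hker, LinearMap.mem_ker]
    exact (Fintype.linearCombination_apply Γ(Y, ⊤) q v).trans hv

/-- Let `X` be a quasi-compact quasi-separated scheme, `A i` a family of commutative rings indexed by an
arbitrary type together with morphisms `f i : Spec (A i) ⟶ X`, and `F` an `O_X`-module locally of
finite presentation (a finitely presented quasi-coherent sheaf). Then the product over `i` of the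
modules of global sections of the pullbacks `(f i)^* F` is a finitely presented module over the
product of the rings of global sections `Γ(Spec (A i), O)` (that is, over `Π i, A i`). The point is
that the index set may be infinite. -/
theorem result (X : Scheme.{u}) [CompactSpace X] [QuasiSeparatedSpace X]
    {ι : Type u} (A : ι → CommRingCat.{u}) (f : ∀ i, Spec (A i) ⟶ X) (F : X.Modules) (hF : CohB1.IsFP F) :
    Module.FinitePresentation (∀ i, Γ(Spec (A i), ⊤))
      (∀ i, Γ((Scheme.Modules.pullback (f i)).obj F, ⊤)) := by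
  classical
  haveI : F.IsQuasicoherent := Groth.Agent.Helper18Strict.isQCoh_of_isFP F hF
  haveI : SheafOfModules.IsFinitePresentation (R := X.ringCatSheaf) F := hF
  obtain ⟨t, ht⟩ := Groth.Agent.Lib.Helper26.UnivFlat.exists_finite_affine_cover (X := X)
  have hp : ∀ U : X.affineOpens, ∃ n r, HasPres Γ(X, U.1) Γ(F, U.1) n r := fun U => by
    haveI := FPAff.finitePresentation_sections F U.2
    exact exists_hasPres _
  choose nn rr hnr using hp
  exact finitePresentation_pi (fun i => Γ(Spec (A i), ⊤))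
    (fun i => Γ((Scheme.Modules.pullback (f i)).obj F, ⊤)) _ _
    (fun i => exists_uniform_presentation F hF t ht nn rr hnr (f i))

end Groth.Agent.S17871
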