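import Groth.Statements.S17867
-- import your own Groth.Agent.* helpers here
import Mathlib
import Groth.Agent.S17871
import Groth.Agent.Lib.Helper26StrataGen
import Groth.Agent.Lib.Helper1Fib3
import Groth.Agent.Lib.Helper20LocFree
import Groth.Agent.Lib.Helper18CIntA
import Groth.Agent.Lib.Helper23FinTypeLocal

set_option autoImplicit false
open CategoryTheory AlgebraicGeometry
universe u
open Algz

namespace Groth.Agent.S17867

set_option linter.style.haveILetI false

open Groth.Agent.Lib.Helper26.CoverGen Groth.Agent.Lib.Helper26.StrataGen Groth.Agent.Lib.Helper2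
  Submodule TensorProduct Groth.Agent.S17871 CategoryTheory.Limits

/-- transport of spanning sets along a semilinear additive equivalence. -/
theorem span_image_eq_top_of_semilinear {A A' P P' : Type*} [CommRing A] [CommRing A']
    [AddCommGroup P] [AddCommGroup P'] [Module A P] [Module A' P'] (ρ : A →+* A')
    (e : P →+ P') (he : ∀ r x, e (r • x) = ρ r • e x) (he' : Function.Surjective e)
    (S : Set P) (hS : span A S = ⊤) : span A' (e '' S) = ⊤ := by
  rw [eq_top_iff]
  rintro y -
  obtain ⟨x, rfl⟩ := he' y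
  have hx : x ∈ span A S := by rw [hS]; trivial
  induction hx using Submodule.span_induction with
  | mem x hx => exact Submodule.subset_span ⟨x, hx, rfl⟩
  | zero => rw [map_zero]; exact Submodule.zero_mem _
  | add x y _ _ hx hy => rw [map_add]; exact Submodule.add_mem _ hx hy
  | smul r x _ hx => rw [he]; exact Submodule.smul_mem _ _ hx

/-- sections over an affine open of a quasi-coherent quotient of a free module of rank `N` are
spanned by `N` elements. -/
theorem exists_finset_span_of_epi {T : Scheme.{u}} (N : ℕ) (H : T.Modules) [H.IsQuasicoherent]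
    (ψ : FlatMod.freeMod T N ⟶ H) [Epi ψ] {V : T.Opens} (hV : IsAffineOpen V) :
    ∃ S : Finset Γ(H, V), S.card ≤ N ∧ span Γ(T, V) (S : Set Γ(H, V)) = ⊤ := by
  classical
  haveI : (FlatMod.freeMod T N).IsQuasicoherent :=
    Groth.Agent.Lib.Helper20.LocFree.isQuasicoherent_freeMod _ _
  have hsurj := Groth.Agent.Lib.Helper23.FinType.surjective_app_of_epi ψ hV
  let one' : Γ(Coh.structureModule T, V) := (1 : Γ(T, V))
  have hone : ∀ x : Γ(Coh.structureModule T, V),
      x ∈ span Γ(T, V) (Set.range (fun _ : Fin 1 => one')) := by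
    intro x
    have h1 : (show Γ(T, V) from x) • one' = x := mul_one (show Γ(T, V) from x)
    rw [← h1]
    exact Submodule.smul_mem _ _ (Submodule.subset_span ⟨0, rfl⟩)
  have hspan := Groth.Agent.Helper18CInt.sigma_span (fun _ : Fin N => Coh.structureModule T) V
    (fun _ => 1) (fun _ _ => one')
    (fun _ x _ => hone x)
  let y : (Σ _ : Fin N, Fin 1) → Γ(H, V) := fun a =>
    ψ.app V ((Sigma.ι (fun _ : Fin N => Coh.structureModule T) a.1).app V one')
  refine ⟨Finset.univ.image y, Finset.card_image_le.trans (by simp), ?_⟩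
  rw [eq_top_iff]
  rintro z -
  obtain ⟨x, rfl⟩ := hsurj z
  have hx := hspan (Submodule.mem_top (x := x))
  have key : ∀ t ∈ span Γ(T, V) (Set.range fun a : (Σ _ : Fin N, Fin 1) =>
      (Sigma.ι (fun _ : Fin N => Coh.structureModule T) a.1).app V one'),
      Groth.Agent.Helper18CInt.appLin ψ V t ∈
        span Γ(T, V) ((Finset.univ.image y : Finset Γ(H, V)) : Set Γ(H, V)) := by
    intro t ht
    induction ht using Submodule.span_induction with
    | mem t ht =>
      obtain ⟨a, rfl⟩ := ht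
      exact Submodule.subset_span (Finset.mem_coe.2 (Finset.mem_image.2 ⟨a, Finset.mem_univ _, rfl⟩))
    | zero => rw [map_zero]; exact Submodule.zero_mem _
    | add t t' _ _ h h' => rw [map_add]; exact Submodule.add_mem _ h h'
    | smul c t _ h => rw [map_smul]; exact Submodule.smul_mem _ _ h
  exact key x hx

theorem surjective_app_of_immersion {T Y : Scheme.{u}} (g : T ⟶ Y) [IsImmersion g] (D : Y.Opens)
    (hD : IsAffineOpen D) (hcl : IsClosed ((Subtype.val : D → Y) ⁻¹' Set.range g)) :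
    IsAffineOpen (g ⁻¹ᵁ D) ∧ Function.Surjective (g.app D).hom := by
  haveI : IsPreimmersion (g ∣_ D) := inferInstance
  have hr : Set.range (g ∣_ D) = (Subtype.val : D → Y) ⁻¹' Set.range g := by
    ext y
    constructor
    · rintro ⟨x, rfl⟩
      exact ⟨x.1, (morphismRestrict_base_coe g D x).symm⟩
    · rintro ⟨x, hx⟩
      have hxD : x ∈ g ⁻¹ᵁ D := by
        change g x ∈ D
        rw [hx]; exact y.2
      let x' : (g ⁻¹ᵁ D).toScheme := ⟨x, hxD⟩
      refine ⟨x', Subtype.ext ?_⟩
      exact (morphismRestrict_base_coe g D x').trans hx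
  haveI : IsClosedImmersion (g ∣_ D) := by
    apply IsClosedImmersion.of_isPreimmersion
    rw [hr]
    exact hcl
  haveI : IsAffine D.toScheme := hD
  obtain ⟨h1, h2⟩ := IsClosedImmersion.isAffine_surjective_of_isAffine (g ∣_ D)
  refine ⟨h1, ?_⟩
  have h2' : Function.Surjective (g.appLE (D.ι ''ᵁ ⊤) ((g ⁻¹ᵁ D).ι ''ᵁ ((g ∣_ D) ⁻¹ᵁ ⊤))
      (image_morphismRestrict_preimage g D ⊤).le).hom := by
    rw [← morphismRestrict_app']; exact h2
  have e1 : D.ι ''ᵁ ⊤ = D := Scheme.Opens.ι_image_top D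
  have e2 : (g ⁻¹ᵁ D).ι ''ᵁ ((g ∣_ D) ⁻¹ᵁ ⊤) = g ⁻¹ᵁ D := by
    rw [Scheme.Hom.preimage_top]; exact Scheme.Opens.ι_image_top _
  have h4 := (Scheme.Hom.appLE_congr g _ e1 e2 (fun φ => Function.Surjective φ.hom)).1 h2'
  rw [Scheme.Hom.app_eq_appLE]
  exact h4

theorem exists_epi_of_section {Y U T : Scheme.{u}} (f : U ⟶ Y) (G : Y.Modules) (N : ℕ)
    (φ : FlatMod.freeMod U N ⟶ (Scheme.Modules.pullback f).obj G) [Epi φ]
    (g : T ⟶ Y) (s : T ⟶ U) (hsf : s ≫ f = g) :
    ∃ ψ : FlatMod.freeMod T N ⟶ (Scheme.Modules.pullback g).obj G, Epi ψ := by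
  haveI : (Scheme.Modules.pullback s).IsLeftAdjoint :=
    ⟨_, ⟨Scheme.Modules.pullbackPushforwardAdjunction s⟩⟩
  haveI : Epi ((Scheme.Modules.pullback s).map φ) := (Scheme.Modules.pullback s).map_epi φ
  refine ⟨(Groth.Agent.Lib.Helper1.Fib.pullbackFreeModIso s N).inv ≫ (Scheme.Modules.pullback s).map φ ≫
    ((Scheme.Modules.pullbackComp s f).app G).hom ≫ ((Scheme.Modules.pullbackCongr hsf).app G).hom, ?_⟩
  infer_instance

/-- the generation data on a stratum of a Nisnevich cover. -/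
theorem stratumGen_of_section {Y U T : Scheme.{u}} [IsAffine Y] (f : U ⟶ Y) (G : Y.Modules)
    [G.IsQuasicoherent] (N : ℕ)
    (φ : FlatMod.freeMod U N ⟶ (Scheme.Modules.pullback f).obj G) [Epi φ]
    (g : T ⟶ Y) (s : T ⟶ U) [IsImmersion g] (hsf : s ≫ f = g)
    (Vk Vk1 : Y.Opens) (hrange : Set.range g = (Vk : Set Y) \ Vk1) :
    StratumGen Γ(Y, ⊤) (idealOfOpen Y Vk) (idealOfOpen Y Vk1) N Γ(G, ⊤) := by
  classical
  intro b hb
  have hbD : Y.basicOpen b ≤ Vk := hb
  set D := Y.basicOpen b with hDdef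
  have hD : IsAffineOpen D := (isAffineOpen_top Y).basicOpen b
  have hcl : IsClosed ((Subtype.val : D → Y) ⁻¹' Set.range g) := by
    have : (Subtype.val : D → Y) ⁻¹' Set.range g = ((Subtype.val : D → Y) ⁻¹' (Vk1 : Set Y))ᶜ := by
      ext y
      rw [hrange]
      simp only [Set.mem_preimage, Set.mem_sdiff, Set.mem_compl_iff]
      exact ⟨fun h => h.2, fun h => ⟨hbD y.2, h⟩⟩
    rw [this, isClosed_compl_iff]
    exact Vk1.isOpen.preimage continuous_subtype_val
  obtain ⟨hV, hsurj⟩ := surjective_app_of_immersion g D hD hcl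
  refine ⟨Γ(Y, D), inferInstance, inferInstance, isLocalization_away_of_isAffine b, Γ(T, g ⁻¹ᵁ D),
    inferInstance, (g.app D).hom, hsurj, ?_, ?_⟩
  · intro r hr
    change Y.basicOpen (b * r) ≤ Vk1
    intro y hy
    rw [Y.basicOpen_mul] at hy
    by_contra hy1
    have hyr : y ∈ Set.range g := by rw [hrange]; exact ⟨hbD hy.1, hy1⟩
    obtain ⟨t, rfl⟩ := hyr
    have h1 : t ∈ g ⁻¹ᵁ (Y.basicOpen (algebraMap Γ(Y, ⊤) Γ(Y, D) r)) := by
      change g t ∈ Y.basicOpen (Y.presheaf.map (homOfLE (Y.basicOpen_le b)).op r)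
      rw [Scheme.basicOpen_res]
      exact hy
    rw [Scheme.Hom.preimage_basicOpen] at h1
    have h2 : g.app D (algebraMap Γ(Y, ⊤) Γ(Y, D) r) = 0 := hr
    rw [h2, Scheme.basicOpen_zero] at h1
    exact h1
  · obtain ⟨ψ, hψ⟩ := exists_epi_of_section f G N φ g s hsf
    haveI : ((Scheme.Modules.pullback g).obj G).IsQuasicoherent :=
      PullbackSec.isQuasicoherent_pullback g G
    obtain ⟨S, hS, hSspan⟩ := exists_finset_span_of_epi N _ ψ hV
    letI algRC : Algebra Γ(Y, ⊤) Γ(T, g ⁻¹ᵁ D) := (g.appLE ⊤ (g ⁻¹ᵁ D) le_top).hom.toAlgebra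
    obtain ⟨e⟩ := PullbackSec.nonempty_sections_linearEquiv g G hV (isAffineOpen_top Y) le_top
    letI algBC : Algebra Γ(Y, D) Γ(T, g ⁻¹ᵁ D) := (g.app D).hom.toAlgebra
    haveI : IsScalarTower Γ(Y, ⊤) Γ(Y, D) Γ(T, g ⁻¹ᵁ D) := by
      refine IsScalarTower.of_algebraMap_eq' ?_
      change (g.appLE ⊤ (g ⁻¹ᵁ D) le_top).hom =
        (g.app D).hom.comp (Y.presheaf.map (homOfLE (Y.basicOpen_le b)).op).hom
      rw [← CommRingCat.hom_comp, Scheme.Hom.app_eq_appLE, Scheme.Hom.map_appLE]
    let c := TensorProduct.AlgebraTensorModule.cancelBaseChange Γ(Y, ⊤) Γ(Y, D) Γ(T, g ⁻¹ᵁ D)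
      Γ(T, g ⁻¹ᵁ D) Γ(G, ⊤)
    let E := c ≪≫ₗ e
    refine ⟨S.image E.symm, Finset.card_image_le.trans hS, ?_⟩
    rw [Finset.coe_image]
    have := Submodule.map_span E.symm.toLinearMap (S : Set _)
    rw [hSspan, Submodule.map_top, LinearMap.range_eq_top.2 E.symm.surjective] at this
    exact this.symm


/-- transport of spanning sets backwards along a semilinear additive equivalence. -/
theorem span_symm_image_eq_top_of_semilinear {A A' P P' : Type*} [CommRing A] [CommRing A']
    [AddCommGroup P] [AddCommGroup P'] [Module A P] [Module A' P'] (ρ : A →+* A')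
    (hρ : Function.Surjective ρ)
    (e : P ≃+ P') (he : ∀ r x, e (r • x) = ρ r • e x)
    (S : Set P') (hS : span A' S = ⊤) : span A (e.symm '' S) = ⊤ := by
  rw [eq_top_iff]
  rintro x -
  have key : ∀ y ∈ span A' S, e.symm y ∈ span A (e.symm '' S) := by
    intro y hy
    induction hy using Submodule.span_induction with
    | mem y hy => exact Submodule.subset_span ⟨y, hy, rfl⟩
    | zero => rw [map_zero]; exact Submodule.zero_mem _
    | add y y' _ _ h h' => rw [map_add]; exact Submodule.add_mem _ h h'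
    | smul r' y _ h =>
      obtain ⟨r, rfl⟩ := hρ r'
      have : e.symm (ρ r • y) = r • e.symm y := by
        apply e.injective
        rw [he, e.apply_symm_apply, e.apply_symm_apply]
      rw [this]
      exact Submodule.smul_mem _ _ h
  have := key (e x) (by rw [hS]; trivial)
  rwa [e.symm_apply_apply] at this

theorem main (R : CommRingCat.{u}) (M : ModuleCat.{u} R)
    [Module.Finite R M] {U : Scheme.{u}}
    (f : U ⟶ Spec R) (m N : ℕ) (hf : W4c5algebraiztannaka.IsNisCoverLen f m)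
    (hgen : ∃ φ : FlatMod.freeMod U N ⟶ (Scheme.Modules.pullback f).obj (AlgebraicGeometry.tilde M),
      Epi φ) :
    ∃ s : Fin (N * m) → M, Submodule.span R (Set.range s) = ⊤ := by
  classical
  obtain ⟨φ, hφ⟩ := hgen
  obtain ⟨Z, hZ0, hZm, -, hZcl, hsect⟩ := hf.flag
  -- transport between `M` and the global sections of `tilde M`
  let e0 : M ≅ (moduleSpecΓFunctor (R := R)).obj (tilde M) := (tilde.toTildeΓNatIso (R := R)).app M
  obtain ⟨ρ, hρ, j, hj⟩ := FPAff.exists_semilinear_Γtop R (tilde M)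
  let a : M ≃+ Γ(tilde M, ⊤) := e0.toLinearEquiv.toAddEquiv.trans j
  have ha : ∀ (r : R) (x : M), a (r • x) = ρ r • a x := by
    intro r x
    change j (e0.toLinearEquiv (r • x)) = ρ r • j (e0.toLinearEquiv x)
    rw [map_smul, hj]
  haveI : Module.Finite Γ(Spec R, ⊤) Γ(tilde M, ⊤) := by
    obtain ⟨S, hS⟩ := (Module.Finite.fg_top : (⊤ : Submodule R M).FG)
    refine ⟨⟨S.image a, ?_⟩⟩
    rw [Finset.coe_image]
    exact span_image_eq_top_of_semilinear ρ a.toAddMonoidHom ha a.surjective _ hS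
  -- the ideals of the flag
  let Zn : ℕ → Set (Spec R) := fun i => Z ⟨min i m, by omega⟩
  have hZncl : ∀ i, IsClosed (Zn i) := fun i => (hZcl _).1
  let I : ℕ → Ideal Γ(Spec R, ⊤) := fun i => idealOfOpen (Spec R) ⟨(Zn i)ᶜ, (hZncl i).isOpen_compl⟩
  have hI0 : I 0 = ⊤ := by
    rw [eq_top_iff]
    intro c _
    change (Spec R).basicOpen c ≤ ⟨(Zn 0)ᶜ, (hZncl 0).isOpen_compl⟩
    intro y _
    change y ∈ (Zn 0)ᶜ
    have : Zn 0 = ∅ := by
      have h0 : (⟨min 0 m, by omega⟩ : Fin (m + 1)) = 0 := Fin.ext (by simp)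
      change Z ⟨min 0 m, _⟩ = ∅
      rw [h0, hZ0]
    rw [this]; exact Set.notMem_empty y
  have hIm : I m ≤ nilradical Γ(Spec R, ⊤) := by
    intro c hc
    have hc' : (Spec R).basicOpen c ≤ ⟨(Zn m)ᶜ, (hZncl m).isOpen_compl⟩ := hc
    rw [mem_nilradical, Scheme.isNilpotent_iff_basicOpen_eq_bot, eq_bot_iff]
    intro y hy
    have h1 : y ∈ (Zn m)ᶜ := hc' hy
    have : Zn m = Set.univ := by
      have h0 : (⟨min m m, by omega⟩ : Fin (m + 1)) = Fin.last m := Fin.ext (by simp)
      change Z ⟨min m m, _⟩ = Set.univ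
      rw [h0, hZm]
    rw [this] at h1
    exact absurd (Set.mem_univ y) h1
  have hstrata : ∀ k, 0 ≤ k → k < m →
      StratumGen Γ(Spec R, ⊤) (I k) (I (k + 1)) N Γ(tilde M, ⊤) := by
    intro k _ hk
    obtain ⟨T, g, s, hg, hrange, hsf⟩ := hsect ⟨k, hk⟩
    have h1 : Zn k = Z (Fin.castSucc ⟨k, hk⟩) := by
      change Z ⟨min k m, _⟩ = _
      congr 1
      exact Fin.ext (by simp [hk.le])
    have h2 : Zn (k + 1) = Z (Fin.succ ⟨k, hk⟩) := by
      change Z ⟨min (k + 1) m, _⟩ = _
      congr 1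
      exact Fin.ext (by simp [Nat.succ_le_of_lt hk])
    refine stratumGen_of_section f (tilde M) N φ g s hsf _ _ ?_
    change Set.range g = (Zn k)ᶜ \ (Zn (k + 1))ᶜ
    rw [h1, h2]
    have : Set.range g = Z (Fin.succ ⟨k, hk⟩) \ Z (Fin.castSucc ⟨k, hk⟩) := hrange
    rw [this]
    ext y
    simp only [Set.mem_sdiff, Set.mem_compl_iff, not_not]
    tauto
  obtain ⟨T, hT, hTspan⟩ := exists_generators_of_strata m N I hIm m 0 (zero_add m) Γ(tilde M, ⊤)
    hstrata (by rw [hI0, sup_top_eq])
  obtain ⟨q, hq⟩ := exists_fin_of_finset (S := Γ(Spec R, ⊤)) T (m * N) hT hTspan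
  refine ⟨fun i => a.symm (q (Fin.cast (Nat.mul_comm N m) i)), ?_⟩
  have hrange : Set.range (fun i => a.symm (q (Fin.cast (Nat.mul_comm N m) i))) =
      a.symm '' Set.range q := by
    ext x
    constructor
    · rintro ⟨i, rfl⟩
      exact ⟨_, ⟨_, rfl⟩, rfl⟩
    · rintro ⟨_, ⟨i, rfl⟩, rfl⟩
      exact ⟨Fin.cast (Nat.mul_comm m N) i, by simp⟩
  rw [hrange]
  exact span_symm_image_eq_top_of_semilinear ρ hρ.2 a ha _ hq

/-- In the case of schemes. Let `R` be a commutative ring and `f : U ⟶ Spec R` a Nisnevich cover of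
length at most `m`, with `U` a quasi-compact quasi-separated scheme, and let `M` be a finite
`R`-module. If the pullback `f^* M~` of the associated sheaf of modules is a quotient of the free
module of rank `N` on `U` (it is generated by `N` global sections), then `M` is generated by `N * m`
elements. (Finite generation of `M` follows from the other hypotheses by faithfully flat descent and
is assumed here; the original form is for a Nisnevich cover by a quasi-compact quasi-separated
algebraic space, stated here for a scheme `U`.) -/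
theorem result (R : CommRingCat.{u}) (M : ModuleCat.{u} R)
    [Module.Finite R M] {U : Scheme.{u}} [CompactSpace U] [QuasiSeparatedSpace U]
    (f : U ⟶ Spec R) (m N : ℕ) (hf : W4c5algebraiztannaka.IsNisCoverLen f m)
    (hgen : ∃ φ : FlatMod.freeMod U N ⟶ (Scheme.Modules.pullback f).obj (AlgebraicGeometry.tilde M), Epi φ) :
    ∃ s : Fin (N * m) → M, Submodule.span R (Set.range s) = ⊤ := by
  exact main R M f m N hf hgen

end Groth.Agent.S17867
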