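import Groth.Statements.S17869
-- import your own Groth.Agent.* helpers here
import Mathlib

set_option autoImplicit false
open CategoryTheory AlgebraicGeometry
universe u
open Algz

namespace Groth.Agent.S17869

section Helpers
open CategoryTheory AlgebraicGeometry Topology

theorem aux {U : Scheme.{u}} [CompactSpace U] [QuasiSeparatedSpace U]
    (k : ℕ) (V : Fin k → U.Opens) (hV : ∀ i, IsCompact (V i : Set U)) (hcov : ⨆ i, V i = ⊤) :
    W4c5algebraiztannaka.IsNisCoverLen
      (Limits.Sigma.desc (fun i => (V i).ι) : (∐ fun i => ((V i : U.Opens) : Scheme.{u})) ⟶ U) k := by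
  haveI : IsZariskiLocalAtSource @Etale.{u} :=
    HasRingHomProperty.instIsZariskiLocalAtSource (Q := RingHom.Etale)
  refine ⟨IsZariskiLocalAtSource.sigmaDesc (fun i => inferInstance), ?_⟩
  -- the flag
  let Z : Fin (k + 1) → Set U := fun j => {x | ∀ i : Fin k, (j : ℕ) ≤ (i : ℕ) → x ∉ V i}
  have hZcompl : ∀ j : Fin (k + 1), (Z j)ᶜ = ⋃ i : {i : Fin k // (j : ℕ) ≤ (i : ℕ)}, (V i.1 : Set U) := by
    intro j
    ext x
    simp only [Z, Set.mem_compl_iff, Set.mem_ofPred_eq, Set.mem_iUnion, Subtype.exists,
      not_forall, not_not, SetLike.mem_coe, exists_prop]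
  refine ⟨Z, ?_, ?_, ?_, ?_, ?_⟩
  · -- Z 0 = ∅
    ext x
    simp only [Z, Set.mem_ofPred_eq, Set.mem_empty_iff_false, iff_false, not_forall, not_not]
    have hx : x ∈ (⨆ i, V i : U.Opens) := by rw [hcov]; trivial
    rw [TopologicalSpace.Opens.mem_iSup] at hx
    obtain ⟨i, hi⟩ := hx
    exact ⟨i, Nat.zero_le _, hi⟩
  · -- Z last = univ
    ext x
    simp only [Z, Set.mem_ofPred_eq, Set.mem_univ, iff_true, Fin.val_last]
    intro i hi
    exact absurd i.2 (not_lt.mpr hi)
  · -- monotone
    intro a b hab x hx i hi
    exact hx i (le_trans (Fin.le_def.mp hab) hi)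
  · intro j
    have hopen : IsOpen (Z j)ᶜ := by
      rw [hZcompl]
      exact isOpen_iUnion fun i => (V i.1).isOpen
    have hcomp : IsCompact (Z j)ᶜ := by
      rw [hZcompl]
      exact isCompact_iUnion fun i => hV i.1
    refine ⟨isOpen_compl_iff.mp hopen, ?_⟩
    have := (hcomp.isRetrocompact hopen).isConstructible hopen
    simpa using this.compl
  · intro j
    -- closed subset of V j
    have hC : IsClosed ((V j).ι ⁻¹' (Z j.succ)) := by
      apply IsClosed.preimage (V j).ι.continuous
      have hopen : IsOpen (Z j.succ)ᶜ := by
        rw [hZcompl]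
        exact isOpen_iUnion fun i => (V i.1).isOpen
      exact isOpen_compl_iff.mp hopen
    let I := Scheme.IdealSheafData.vanishingIdeal (X := (V j : Scheme.{u})) ⟨_, hC⟩
    refine ⟨I.subscheme, I.subschemeι ≫ (V j).ι,
      I.subschemeι ≫ Limits.Sigma.ι (fun i => ((V i : U.Opens) : Scheme.{u})) j,
      inferInstance, ?_, ?_⟩
    · -- range
      have h1 : Set.range (fun t : I.subscheme => (I.subschemeι ≫ (V j).ι) t) =
          (V j).ι '' (Set.range I.subschemeι) := by
        rw [← Set.range_comp]
        rfl
      rw [h1, Scheme.IdealSheafData.range_subschemeι,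
        Scheme.IdealSheafData.coe_support_vanishingIdeal]
      change (V j).ι '' ((V j).ι ⁻¹' (Z j.succ)) = _
      rw [Set.image_preimage_eq_inter_range, Scheme.Opens.range_ι]
      ext x
      simp only [Z, Set.mem_inter_iff, Set.mem_ofPred_eq, SetLike.mem_coe, Set.mem_sdiff,
        Fin.val_succ, Fin.val_castSucc, not_forall, not_not]
      constructor
      · rintro ⟨h1, h2⟩
        exact ⟨h1, j, le_refl _, h2⟩
      · rintro ⟨h1, i, hi, hxi⟩
        refine ⟨h1, ?_⟩
        rcases Nat.eq_or_lt_of_le hi with h | h
        · have : j = i := Fin.ext h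
          rw [this]; exact hxi
        · exact absurd hxi (h1 i h)
    · rw [Category.assoc, Limits.Sigma.ι_desc]

end Helpers

/-- In the case of schemes. Let `U` be a quasi-compact quasi-separated scheme and `V 0, …, V (k-1)`
quasi-compact open subschemes which cover `U`. Then the canonical morphism from the disjoint union
`∐ V i` to `U` is a Nisnevich cover of length at most `k`. (The published example states more
generally that, for a Nisnevich cover of `Y` of length at most `m` with source `U`, the composite
from the disjoint union `∐ V i` to `Y` has length at most `m * k`; stated here is the case of the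
identity of `U`, to which the published argument reduces, and the general bound follows by composing
Nisnevich covers. The original form is for quasi-compact quasi-separated algebraic spaces, with the
members of the cover quasi-compact; stated here for schemes.) -/
theorem result {U : Scheme.{u}} [CompactSpace U] [QuasiSeparatedSpace U]
    (k : ℕ) (V : Fin k → U.Opens) (hV : ∀ i, IsCompact (V i : Set U)) (hcov : ⨆ i, V i = ⊤) :
    W4c5algebraiztannaka.IsNisCoverLen
      (Limits.Sigma.desc (fun i => (V i).ι) : (∐ fun i => ((V i : U.Opens) : Scheme.{u})) ⟶ U) k := by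
  exact aux k V hV hcov

end Groth.Agent.S17869
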