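import Groth.Statements.S17873
import Mathlib
import Groth.Agent.Lib.Helper28DepthLoc
-- import your own Groth.Agent.* helpers here

set_option autoImplicit false
universe u
open GRRSing

namespace Groth.Agent.S17873

open Groth.Agent.Lib.Helper28 RingTheory.Sequence

/-- Davis' coset form of prime avoidance. -/
theorem exists_add_notMem_of_forall_not_le {R : Type u} [CommRing R] (x : R) (I : Ideal R)
    (s : Finset (Ideal R)) (hs : ∀ p ∈ s, p.IsPrime)
    (h : ∀ p ∈ s, ¬ (Ideal.span {x} ⊔ I ≤ p)) :
    ∃ r ∈ I, ∀ p ∈ s, x + r ∉ p := by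
  classical
  induction' hn : s.card with n ih generalizing s
  · rw [Finset.card_eq_zero] at hn
    subst hn
    exact ⟨0, I.zero_mem, fun p hp => absurd hp (Finset.notMem_empty p)⟩
  · have hne : s.Nonempty := by
      rw [← Finset.card_pos]; omega
    obtain ⟨p, hp, hpmin⟩ := s.exists_minimal hne
    have hcard : (s.erase p).card = n := by
      rw [Finset.card_erase_of_mem hp]; omega
    obtain ⟨r', hr'I, hr'⟩ := ih (s.erase p) (fun q hq => hs q (Finset.mem_of_mem_erase hq))
      (fun q hq => h q (Finset.mem_of_mem_erase hq)) hcard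
    by_cases hy : x + r' ∈ p
    · have hpP : p.IsPrime := hs p hp
      have hIp : ¬ I ≤ p := by
        intro hIp
        apply h p hp
        refine sup_le ?_ hIp
        rw [Ideal.span_singleton_le_iff_mem]
        have := p.sub_mem hy (hIp hr'I)
        simpa using this
      obtain ⟨a, haI, hap⟩ := Set.not_subset.mp hIp
      have hq : ∀ q ∈ s.erase p, ∃ b ∈ q, b ∉ p := by
        intro q hq
        have hqs := Finset.mem_of_mem_erase hq
        have hqne : q ≠ p := Finset.ne_of_mem_erase hq
        have : ¬ q ≤ p := by
          intro hle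
          exact hqne (le_antisymm hle (hpmin hqs hle))
        exact Set.not_subset.mp this
      choose! b hbq hbp using hq
      let B := ∏ q ∈ s.erase p, b q
      have hBp : B ∉ p := by
        intro hB
        rw [Ideal.IsPrime.prod_mem_iff] at hB
        obtain ⟨q, hq, hbq'⟩ := hB
        exact hbp q hq hbq'
      have hBq : ∀ q ∈ s.erase p, B ∈ q := fun q hq => Ideal.prod_mem q hq (hbq q hq)
      refine ⟨r' + a * B, I.add_mem hr'I (I.mul_mem_right _ haI), fun q hq => ?_⟩
      rw [← add_assoc]
      by_cases hqp : q = p
      · rw [hqp]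
        intro hmem
        have h2 : a * B ∈ p := by
          have := p.sub_mem hmem hy
          simpa using this
        rcases hpP.mem_or_mem h2 with h3 | h3
        · exact hap h3
        · exact hBp h3
      · have hq' : q ∈ s.erase p := Finset.mem_erase.mpr ⟨hqp, hq⟩
        intro hmem
        apply hr' q hq'
        have := q.sub_mem hmem (q.mul_mem_left a (hBq q hq'))
        simpa using this
    · refine ⟨r', hr'I, fun q hq => ?_⟩
      by_cases hqp : q = p
      · rw [hqp]; exact hy
      · exact hr' q (Finset.mem_erase.mpr ⟨hqp, hq⟩)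

section
variable {T : Type u} [CommRing T] [IsNoetherianRing T]

/-- generating lists whose prefix of length `i` is weakly regular. -/
theorem exists_lists_prefix_weaklyRegular (J : Ideal T) (hJ : J • (⊤ : Submodule T T) ≠ ⊤)
    (j : ℕ) (hj : LocCoh.idealDepth J T = j) (c : ℕ) (ts0 : List T) (hlen0 : ts0.length = c)
    (hspan0 : Ideal.ofList ts0 = J) (i : ℕ) (hi : i ≤ j) :
    ∃ l1 l2 : List T, l1.length = i ∧ (l1 ++ l2).length = c ∧ Ideal.ofList (l1 ++ l2) = J ∧
      IsWeaklyRegular T l1 := by
  induction i with
  | zero => exact ⟨[], ts0, rfl, by simpa using hlen0, by simpa using hspan0, .nil T T⟩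
  | succ i ih =>
    obtain ⟨l1, l2, hl1, hlen, hspan, hreg⟩ := ih (by omega)
    have hmem1 : ∀ r ∈ l1, r ∈ J := fun r hr => by
      rw [← hspan]
      exact Ideal.subset_span (List.mem_append_left _ hr)
    have hd := idealDepth_quot_ofList_add_length J T hJ l1 hmem1 hreg
    rw [hj, hl1] at hd
    have hJM' := smul_top_quot_ofList_ne_top J hmem1 hJ
    have h1 : 1 ≤ LocCoh.idealDepth J (T ⧸ (Ideal.ofList l1 • ⊤ : Submodule T T)) := by
      generalize LocCoh.idealDepth J (T ⧸ (Ideal.ofList l1 • ⊤ : Submodule T T)) = d at hd
      induction d using ENat.recTopCoe with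
      | top => simp at hd
      | coe d =>
        have : d + i = j := by exact_mod_cast hd
        have : 1 ≤ d := by omega
        exact_mod_cast this
    obtain ⟨r0, hr0J, hr0reg⟩ := (one_le_idealDepth_iff hJM').mp h1
    have key : ∀ p ∈ associatedPrimes T (T ⧸ (Ideal.ofList l1 • ⊤ : Submodule T T)), ¬ J ≤ p :=
      fun p hp hJp => not_isSMulRegular_of_mem_associatedPrimes hp (hJp hr0J) hr0reg
    have hann : ∀ p ∈ associatedPrimes T (T ⧸ (Ideal.ofList l1 • ⊤ : Submodule T T)),
        Ideal.ofList l1 ≤ p := by
      intro p hp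
      refine le_trans ?_ (IsAssociatedPrime.annihilator_le hp)
      intro r hr
      rw [Submodule.mem_annihilator]
      intro m _
      obtain ⟨t, rfl⟩ := Submodule.Quotient.mk_surjective _ m
      rw [← Submodule.Quotient.mk_smul, Submodule.Quotient.mk_eq_zero]
      exact Submodule.smul_mem_smul hr Submodule.mem_top
    have hnt : Nontrivial (T ⧸ (Ideal.ofList l1 • ⊤ : Submodule T T)) :=
      nontrivial_of_smul_top_ne_top hJM'
    obtain ⟨p0, hp0⟩ := associatedPrimes.nonempty T (T ⧸ (Ideal.ofList l1 • ⊤ : Submodule T T))
    cases l2 with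
    | nil =>
      exfalso
      apply key p0 hp0
      rw [← hspan, List.append_nil]
      exact hann p0 hp0
    | cons a l2' =>
      have hfin := associatedPrimes.finite T (T ⧸ (Ideal.ofList l1 • ⊤ : Submodule T T))
      have hJeq : J = Ideal.ofList l1 ⊔ (Ideal.span {a} ⊔ Ideal.ofList l2') := by
        rw [← hspan, Ideal.ofList_append, Ideal.ofList_cons]
      obtain ⟨r, hrI, hr⟩ := exists_add_notMem_of_forall_not_le a (Ideal.ofList l2') hfin.toFinset
        (fun p hp => (hfin.mem_toFinset.mp hp).isPrime)
        (fun p hp hle => key p (hfin.mem_toFinset.mp hp) (by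
          rw [hJeq]
          exact sup_le (hann p (hfin.mem_toFinset.mp hp)) hle))
      have hregar : IsSMulRegular (T ⧸ (Ideal.ofList l1 • ⊤ : Submodule T T)) (a + r) := by
        by_contra hcon
        have h2 : a + r ∈ ({ r : T | IsSMulRegular (T ⧸ (Ideal.ofList l1 • ⊤ : Submodule T T)) r })ᶜ :=
          hcon
        rw [← biUnion_associatedPrimes_eq_compl_regular] at h2
        obtain ⟨p, hp, hmem⟩ := Set.mem_iUnion₂.mp h2
        exact hr p (hfin.mem_toFinset.mpr hp) hmem
      refine ⟨l1 ++ [a + r], l2', by simp [hl1], ?_, ?_, ?_⟩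
      · simpa using hlen
      · rw [hJeq, List.append_assoc, Ideal.ofList_append, List.singleton_append, Ideal.ofList_cons]
        congr 1
        apply le_antisymm
        · refine sup_le ?_ le_sup_right
          rw [Ideal.span_singleton_le_iff_mem]
          exact Ideal.add_mem _ (Ideal.mem_sup_left (Ideal.mem_span_singleton_self a))
            (Ideal.mem_sup_right hrI)
        · refine sup_le ?_ le_sup_right
          rw [Ideal.span_singleton_le_iff_mem]
          have h3 : (a + r) - r ∈ Ideal.span {a + r} ⊔ Ideal.ofList l2' :=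
            Ideal.sub_mem _ (Ideal.mem_sup_left (Ideal.mem_span_singleton_self _))
              (Ideal.mem_sup_right hrI)
          simpa using h3
      · exact (isWeaklyRegular_append_iff T l1 [a + r]).mpr
          ⟨hreg, (isWeaklyRegular_singleton_iff _ (a + r)).mpr hregar⟩

end

/-- Let T be a Cohen–Macaulay Noetherian local ring, J a proper ideal of T, j the grade of J (the
J-depth of T, i.e. the supremum of the lengths of T-regular sequences inside J; a natural number
here) and c the minimal number of generators of J (equal to the dimension of J/𝔪J over the residue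
field). Then j ≤ c and there is a generating sequence t_1, …, t_c of J such that t_1, …, t_j is a
T-regular sequence. (The published statement does not exclude J = T; there c = 1 while the grade,
read as the depth of T, can exceed 1, so this row assumes J proper.) -/
theorem result {T : Type u} [CommRing T] [LocCoh.IsCohenMacaulayLocalRing T]
    (J : Ideal T) (hJ : J ≠ ⊤) (j : ℕ) (hj : LocCoh.idealDepth J T = j) :
    j ≤ Submodule.spanFinrank J ∧
      ∃ ts : List T, ts.length = Submodule.spanFinrank J ∧ Ideal.ofList ts = J ∧
        RingTheory.Sequence.IsRegular T (ts.take j) := by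
  classical
  have hJT : J • (⊤ : Submodule T T) ≠ ⊤ := by
    rw [smul_eq_mul, Ideal.mul_top]; exact hJ
  obtain ⟨s, hscard, hsspan⟩ :=
    Submodule.FG.exists_span_finset_card_eq_spanFinrank (Ideal.fg_of_isNoetherianRing J)
  have hspan0 : Ideal.ofList s.toList = J := by
    rw [← hsspan]
    unfold Ideal.ofList
    congr 1
    ext r
    simp
  obtain ⟨l1, l2, hl1, hlen, hspan, hreg⟩ := exists_lists_prefix_weaklyRegular J hJT j hj
    (Submodule.spanFinrank J) s.toList (by rw [Finset.length_toList, hscard]) hspan0 j le_rfl
  constructor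
  · rw [← hlen, List.length_append]; omega
  · refine ⟨l1 ++ l2, hlen, hspan, ?_⟩
    rw [List.take_left' hl1]
    refine ⟨hreg, ?_⟩
    intro h
    apply hJT
    have hle : Ideal.ofList l1 ≤ J := by
      rw [← hspan, Ideal.ofList_append]
      exact le_sup_left
    have h2 : (Ideal.ofList l1 • ⊤ : Submodule T T) ≤ J • ⊤ := Submodule.smul_mono_left hle
    exact eq_top_iff.mpr (h.le.trans h2)

end Groth.Agent.S17873
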