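import Groth.Statements.S17874
import Mathlib
import Groth.Agent.Lib.Helper28DepthLoc
import Groth.Agent.Lib.Helper28DepthCM2
import Groth.Agent.Lib.Helper28DepthMore
import Groth.Agent.S17873
-- import your own Groth.Agent.* helpers here

set_option autoImplicit false
universe u
open GRRSing

namespace Groth.Agent.S17874

open Groth.Agent.Lib.Helper28 RingTheory.Sequence

/-- Over a local ring, a generating family of the maximal ideal with more members than the
minimal number of generators has a redundant member. -/
theorem exists_redundant_local {R : Type u} [CommRing R] [IsLocalRing R] [IsNoetherianRing R]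
    {ι : Type} [Fintype ι] [DecidableEq ι] (g : ι → R)
    (hg : Ideal.span (Set.range g) = IsLocalRing.maximalIdeal R)
    (hcard : (IsLocalRing.maximalIdeal R).spanFinrank < Fintype.card ι) :
    ∃ j : ι, g j ∈ Ideal.span (g '' {l | l ≠ j}) := by
  classical
  have hgm : ∀ l, g l ∈ IsLocalRing.maximalIdeal R := fun l => hg ▸ Ideal.subset_span ⟨l, rfl⟩
  let c : ι → (↥(IsLocalRing.maximalIdeal R) ⧸
      (IsLocalRing.maximalIdeal R • (⊤ : Submodule R ↥(IsLocalRing.maximalIdeal R)))) :=
    fun l => Submodule.Quotient.mk ⟨g l, hgm l⟩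
  have hfr := IsLocalRing.spanFinrank_eq_finrank_quotient (IsLocalRing.maximalIdeal R)
    (IsLocalRing.maximalIdeal R).fg_of_isNoetherianRing
  have hnli : ¬ LinearIndependent (R ⧸ IsLocalRing.maximalIdeal R) c := by
    intro hli
    have := hli.fintype_card_le_finrank
    omega
  obtain ⟨lam, hsum, j, hj⟩ := Fintype.not_linearIndependent_iff.mp hnli
  choose u hu using fun l => Ideal.Quotient.mk_surjective (lam l)
  have huj : IsUnit (u j) := by
    rw [← IsLocalRing.notMem_maximalIdeal]
    intro hmem
    apply hj
    rw [← hu j]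
    exact Ideal.Quotient.eq_zero_iff_mem.mpr hmem
  have hsum' : ∑ l, u l * g l ∈ IsLocalRing.maximalIdeal R • IsLocalRing.maximalIdeal R := by
    have h1 : (∑ l, lam l • c l) =
        Submodule.mkQ _ (∑ l, u l • (⟨g l, hgm l⟩ : ↥(IsLocalRing.maximalIdeal R))) := by
      rw [map_sum]
      refine Finset.sum_congr rfl fun l _ => ?_
      rw [← hu l]
      rfl
    rw [h1, Submodule.mkQ_apply, Submodule.Quotient.mk_eq_zero, Submodule.mem_smul_top_iff] at hsum
    simpa [smul_eq_mul] using hsum
  refine ⟨j, ?_⟩
  have hgl : ∀ l, l ≠ j → g l ∈ Ideal.span (g '' {l | l ≠ j}) :=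
    fun l hl => Ideal.subset_span ⟨l, hl, rfl⟩
  have hgj : g j ∈ Ideal.span (g '' {l | l ≠ j}) ⊔
      IsLocalRing.maximalIdeal R • IsLocalRing.maximalIdeal R := by
    have h2 : u j * g j = ∑ l, u l * g l - ∑ l ∈ Finset.univ.erase j, u l * g l := by
      rw [← Finset.add_sum_erase _ _ (Finset.mem_univ j)]; ring
    have h3 : u j * g j ∈ Ideal.span (g '' {l | l ≠ j}) ⊔
        IsLocalRing.maximalIdeal R • IsLocalRing.maximalIdeal R := by
      rw [h2]
      refine Ideal.sub_mem _ (Ideal.mem_sup_right hsum') ?_
      refine Ideal.mem_sup_left (Ideal.sum_mem _ fun l hl => ?_)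
      exact Ideal.mul_mem_left _ _ (hgl l (Finset.ne_of_mem_erase hl))
    obtain ⟨v, hv⟩ := huj.exists_left_inv
    have : g j = v * (u j * g j) := by rw [← mul_assoc, hv, one_mul]
    rw [this]
    exact Ideal.mul_mem_left _ _ h3
  have hle0 : Ideal.span (Set.range g) ≤ Ideal.span (g '' {l | l ≠ j}) ⊔
      IsLocalRing.maximalIdeal R • IsLocalRing.maximalIdeal R := by
    rw [Ideal.span_le]
    rintro _ ⟨l, rfl⟩
    by_cases hl : l = j
    · rw [hl]; exact hgj
    · exact Ideal.mem_sup_left (hgl l hl)
  rw [hg] at hle0
  have := Submodule.le_of_le_smul_of_le_jacobson_bot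
    (N := Ideal.span (g '' {l | l ≠ j})) (N' := IsLocalRing.maximalIdeal R)
    (I := IsLocalRing.maximalIdeal R)
    (IsLocalRing.maximalIdeal R).fg_of_isNoetherianRing
    (IsLocalRing.maximalIdeal_le_jacobson _) hle0
  exact this (hgm j)

/-- Global version: a generating list of a prime `p`, longer than the embedding dimension of
`T_p`, has a member redundant after localizing at `p`. -/
theorem exists_redundant {T : Type u} [CommRing T] [IsNoetherianRing T] (p : Ideal T) [p.IsPrime]
    (gs : List T) (hgs : Ideal.ofList gs = p)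
    (hcard : (IsLocalRing.maximalIdeal (Localization.AtPrime p)).spanFinrank < gs.length) :
    ∃ (j : ℕ) (hj : j < gs.length) (s : T), s ∉ p ∧ s * gs[j] ∈ Ideal.ofList (gs.eraseIdx j) := by
  classical
  let g : Fin gs.length → Localization.AtPrime p :=
    fun l => algebraMap T (Localization.AtPrime p) gs[l]
  have hg : Ideal.span (Set.range g) = IsLocalRing.maximalIdeal (Localization.AtPrime p) := by
    rw [← IsLocalization.AtPrime.map_eq_maximalIdeal p (Localization.AtPrime p)]
    have hp' : Ideal.map (algebraMap T (Localization.AtPrime p)) p =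
        Ideal.map (algebraMap T (Localization.AtPrime p)) (Ideal.ofList gs) := by rw [hgs]
    rw [hp', Ideal.ofList, Ideal.map_span]
    congr 1
    ext x
    constructor
    · rintro ⟨l, rfl⟩
      exact ⟨gs[l], List.getElem_mem _, rfl⟩
    · rintro ⟨y, hy, rfl⟩
      obtain ⟨l, hl, rfl⟩ := List.getElem_of_mem hy
      exact ⟨⟨l, hl⟩, rfl⟩
  obtain ⟨j, hj⟩ := exists_redundant_local g hg (by simpa using hcard)
  have hle : Ideal.span (g '' {l | l ≠ j}) ≤
      Ideal.map (algebraMap T (Localization.AtPrime p)) (Ideal.ofList (gs.eraseIdx j)) := by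
    rw [Ideal.span_le]
    rintro _ ⟨l, hl, rfl⟩
    apply Ideal.mem_map_of_mem
    apply Ideal.subset_span
    rw [Set.mem_ofPred_eq, List.mem_eraseIdx_iff_getElem]
    exact ⟨l, l.2, fun h => hl (Fin.ext h), rfl⟩
  obtain ⟨⟨i, s⟩, his⟩ := (IsLocalization.mem_map_algebraMap_iff p.primeCompl
    (Localization.AtPrime p)).mp (hle hj)
  simp only [g] at his
  rw [← map_mul, ← sub_eq_zero, ← map_sub,
    IsLocalization.map_eq_zero_iff p.primeCompl (Localization.AtPrime p)] at his
  obtain ⟨s', hs'⟩ := his
  refine ⟨j, j.2, s' * s, ?_, ?_⟩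
  · exact fun h => (p.primeCompl.mul_mem s'.2 s.2) h
  · have h1 : (s' : T) * (s : T) * gs[(j : ℕ)] = s' * i := by
      have : (s' : T) * (gs[(j : ℕ)] * s - i) = 0 := hs'
      linear_combination this
    rw [h1]
    exact Ideal.mul_mem_left _ _ i.2

section
variable {T : Type u} [CommRing T] [IsNoetherianRing T]

/-- Davis-type modification: turn the generators `l1 ++ l2` (with `l1` already weakly regular)
into a weakly regular list, modulo `J * (y)`. -/
theorem exists_prefix_regular (J : Ideal T) (hJ : J • (⊤ : Submodule T T) ≠ ⊤)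
    (j : ℕ) (hj : LocCoh.idealDepth J T = j) (y : T)
    (l2 l1 : List T) (hgen : Ideal.ofList (l1 ++ l2) ⊔ Ideal.span {y} = J)
    (hreg : IsWeaklyRegular T l1) (hlen : l1.length + l2.length ≤ j) :
    ∃ l : List T, l.length = l1.length + l2.length ∧ Ideal.ofList l ⊔ Ideal.span {y} = J ∧
      IsWeaklyRegular T l ∧ Ideal.ofList (l1 ++ l2) ≤ Ideal.ofList l ⊔ J * Ideal.span {y} := by
  induction l2 generalizing l1 with
  | nil =>
    exact ⟨l1, by simp, by simpa using hgen, hreg, by simp⟩
  | cons a l2' ih =>
    have hyJ : Ideal.span {y} ≤ J := hgen ▸ le_sup_right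
    have hall : Ideal.ofList (l1 ++ a :: l2') ≤ J := hgen ▸ le_sup_left
    have hmem1 : ∀ r ∈ l1, r ∈ J := fun r hr =>
      hall (Ideal.subset_span (List.mem_append_left _ hr))
    have haJ : a ∈ J := hall (Ideal.subset_span (by simp))
    have hl2J : Ideal.ofList l2' ≤ J := by
      refine le_trans ?_ hall
      apply Ideal.span_mono
      intro x hx
      have hx' : x ∈ l2' := hx
      show x ∈ l1 ++ a :: l2'
      simp [hx']
    have hd := idealDepth_quot_ofList_add_length J T hJ l1 hmem1 hreg
    rw [hj] at hd
    have hJM' := smul_top_quot_ofList_ne_top J hmem1 hJ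
    have h1 : 1 ≤ LocCoh.idealDepth J (T ⧸ (Ideal.ofList l1 • ⊤ : Submodule T T)) := by
      generalize LocCoh.idealDepth J (T ⧸ (Ideal.ofList l1 • ⊤ : Submodule T T)) = d at hd
      induction d using ENat.recTopCoe with
      | top => simp at hd
      | coe d =>
        have : d + l1.length = j := by exact_mod_cast hd
        have h' : (a :: l2').length = l2'.length + 1 := rfl
        have : 1 ≤ d := by omega
        exact_mod_cast this
    obtain ⟨r0, hr0J, hr0reg⟩ := (one_le_idealDepth_iff hJM').mp h1
    have key : ∀ P ∈ associatedPrimes T (T ⧸ (Ideal.ofList l1 • ⊤ : Submodule T T)), ¬ J ≤ P :=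
      fun P hP hJP => not_isSMulRegular_of_mem_associatedPrimes hP (hJP hr0J) hr0reg
    have hann : ∀ P ∈ associatedPrimes T (T ⧸ (Ideal.ofList l1 • ⊤ : Submodule T T)),
        Ideal.ofList l1 ≤ P := by
      intro P hP
      refine le_trans ?_ (IsAssociatedPrime.annihilator_le hP)
      intro r hr
      rw [Submodule.mem_annihilator]
      intro m _
      obtain ⟨t, rfl⟩ := Submodule.Quotient.mk_surjective _ m
      rw [← Submodule.Quotient.mk_smul, Submodule.Quotient.mk_eq_zero]
      exact Submodule.smul_mem_smul hr Submodule.mem_top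
    have hfin := associatedPrimes.finite T (T ⧸ (Ideal.ofList l1 • ⊤ : Submodule T T))
    have hJeq : J = Ideal.ofList l1 ⊔ (Ideal.span {a} ⊔ Ideal.ofList l2') ⊔ Ideal.span {y} := by
      rw [← hgen, Ideal.ofList_append, Ideal.ofList_cons]
    obtain ⟨r, hrI, hr⟩ := Groth.Agent.S17873.exists_add_notMem_of_forall_not_le a
      (Ideal.ofList l2' ⊔ J * Ideal.span {y}) hfin.toFinset
      (fun P hP => (hfin.mem_toFinset.mp hP).isPrime)
      (fun P hP hle => by
        have hPass := hfin.mem_toFinset.mp hP
        have hPprime := hPass.isPrime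
        apply key P hPass
        have h2 : J * Ideal.span {y} ≤ P := le_trans (le_trans le_sup_right le_sup_right) hle
        rcases (Ideal.IsPrime.mul_le hPprime).mp h2 with h3 | h3
        · exact h3
        · rw [hJeq]
          refine sup_le (sup_le (hann P hPass) (sup_le ?_ ?_)) h3
          · exact le_trans le_sup_left hle
          · exact le_trans (le_trans le_sup_left le_sup_right) hle)
    have hregar : IsSMulRegular (T ⧸ (Ideal.ofList l1 • ⊤ : Submodule T T)) (a + r) := by
      by_contra hcon
      have h2 : a + r ∈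
          ({ r : T | IsSMulRegular (T ⧸ (Ideal.ofList l1 • ⊤ : Submodule T T)) r })ᶜ := hcon
      rw [← biUnion_associatedPrimes_eq_compl_regular] at h2
      obtain ⟨P, hP, hmem⟩ := Set.mem_iUnion₂.mp h2
      exact hr P (hfin.mem_toFinset.mpr hP) hmem
    have hJy : J * Ideal.span {y} ≤ Ideal.span {y} := Ideal.mul_le_right
    have hJyJ : J * Ideal.span {y} ≤ J := Ideal.mul_le_left
    have hrJ : r ∈ J := (sup_le hl2J hJyJ) hrI
    -- new generators
    have hgen' : Ideal.ofList ((l1 ++ [a + r]) ++ l2') ⊔ Ideal.span {y} = J := by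
      apply le_antisymm
      · refine sup_le ?_ hyJ
        rw [Ideal.ofList_append, Ideal.ofList_append, Ideal.ofList_singleton]
        refine sup_le (sup_le ?_ ?_) hl2J
        · exact Ideal.span_le.mpr fun x hx => hmem1 x hx
        · rw [Ideal.span_singleton_le_iff_mem]
          exact J.add_mem haJ hrJ
      · rw [hJeq]
        have hA : Ideal.ofList ((l1 ++ [a + r]) ++ l2') =
            Ideal.ofList l1 ⊔ Ideal.span {a + r} ⊔ Ideal.ofList l2' := by
          rw [Ideal.ofList_append, Ideal.ofList_append, Ideal.ofList_singleton]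
        rw [hA]
        refine sup_le (sup_le ?_ (sup_le ?_ ?_)) le_sup_right
        · exact le_trans (le_trans le_sup_left le_sup_left) le_sup_left
        · rw [Ideal.span_singleton_le_iff_mem]
          have hr' : r ∈ Ideal.ofList l2' ⊔ Ideal.span {y} :=
            (sup_le_sup_left hJy _) hrI
          have h3 : (a + r) - r ∈ Ideal.ofList l1 ⊔ Ideal.span {a + r} ⊔ Ideal.ofList l2' ⊔
              Ideal.span {y} := by
            refine Ideal.sub_mem _ ?_ ?_
            · exact Ideal.mem_sup_left (Ideal.mem_sup_left (Ideal.mem_sup_right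
                (Ideal.mem_span_singleton_self _)))
            · rcases Submodule.mem_sup.mp hr' with ⟨u, hu, v, hv, rfl⟩
              exact Ideal.add_mem _ (Ideal.mem_sup_left (Ideal.mem_sup_right hu))
                (Ideal.mem_sup_right hv)
          simpa using h3
        · exact le_trans le_sup_right le_sup_left
    have hreg' : IsWeaklyRegular T (l1 ++ [a + r]) :=
      (isWeaklyRegular_append_iff T l1 [a + r]).mpr
        ⟨hreg, (isWeaklyRegular_singleton_iff _ (a + r)).mpr hregar⟩
    obtain ⟨l, hl_len, hl_gen, hl_reg, hl_le⟩ := ih (l1 ++ [a + r]) hgen' hreg' (by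
      simp only [List.length_append, List.length_cons, List.length_nil] at hlen ⊢
      omega)
    refine ⟨l, ?_, hl_gen, hl_reg, ?_⟩
    · simp only [List.length_append, List.length_cons, List.length_nil] at hl_len ⊢
      omega
    · rw [Ideal.ofList_append, Ideal.ofList_cons]
      rw [Ideal.ofList_append, Ideal.ofList_append, Ideal.ofList_singleton] at hl_le
      refine sup_le ?_ (sup_le ?_ ?_)
      · exact le_trans (le_trans le_sup_left le_sup_left) hl_le
      · rw [Ideal.span_singleton_le_iff_mem]
        have h4 : a + r ∈ Ideal.ofList l ⊔ J * Ideal.span {y} :=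
          hl_le (Ideal.mem_sup_left (Ideal.mem_sup_right (Ideal.mem_span_singleton_self _)))
        have h5 : r ∈ Ideal.ofList l ⊔ J * Ideal.span {y} := by
          rcases Submodule.mem_sup.mp hrI with ⟨u, hu, v, hv, rfl⟩
          exact Ideal.add_mem _ (hl_le (Ideal.mem_sup_right hu)) (Ideal.mem_sup_right hv)
        have := Ideal.sub_mem _ h4 h5
        simpa using this
      · exact le_trans le_sup_right hl_le

end

/-- Part (a) of the d-sequence condition from minimality of the number of generators. -/
theorem notMem_span_others {T : Type u} [CommRing T] (ts : List T)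
    (hlen : ts.length ≤ (Ideal.ofList ts).spanFinrank) (i : Fin ts.length) :
    ts[i] ∉ Ideal.span
      (Set.range fun j : {j : Fin ts.length // j ≠ i} => ts[(j : Fin ts.length)]) := by
  classical
  intro hmem
  have heq : Ideal.ofList ts = Ideal.span
      (Set.range fun j : {j : Fin ts.length // j ≠ i} => ts[(j : Fin ts.length)]) := by
    apply le_antisymm
    · rw [Ideal.ofList, Ideal.span_le]
      intro x hx
      obtain ⟨n, hn, rfl⟩ := List.getElem_of_mem hx
      by_cases hni : (⟨n, hn⟩ : Fin ts.length) = i
      · subst hni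
        exact hmem
      · exact Ideal.subset_span ⟨⟨⟨n, hn⟩, hni⟩, rfl⟩
    · rw [Ideal.span_le]
      rintro _ ⟨j, rfl⟩
      exact Ideal.subset_span (List.getElem_mem _)
  have hfin : (Set.range fun j : {j : Fin ts.length // j ≠ i} =>
      ts[(j : Fin ts.length)]).Finite := Set.finite_range _
  have h1 := Submodule.spanFinrank_span_le_ncard_of_finite (R := T) hfin
  have h2 : (Set.range fun j : {j : Fin ts.length // j ≠ i} => ts[(j : Fin ts.length)]).ncard ≤
      Nat.card {j : Fin ts.length // j ≠ i} := by
    rw [← Set.image_univ]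
    exact (Set.ncard_image_le Set.finite_univ).trans (by rw [Set.ncard_univ])
  have h3 : Nat.card {j : Fin ts.length // j ≠ i} = ts.length - 1 := by
    rw [Nat.card_eq_fintype_card]
    simp [Fintype.card_subtype_compl]
  have hpos : 0 < ts.length := i.pos
  rw [heq] at hlen
  have := hlen.trans (h1.trans h2)
  omega

/-- Part (b) of the d-sequence condition at a position where the member is regular modulo the
previous ones. -/
theorem colon_eq_of_isSMulRegular {T : Type u} [CommRing T] (I : Ideal T) (x z : T)
    (hx : IsSMulRegular (T ⧸ (I • ⊤ : Submodule T T)) x) :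
    I.colon {z * x} = I.colon {z} := by
  have hI : (I • ⊤ : Submodule T T) = I := by simp
  ext a
  rw [Submodule.mem_colon_singleton, Submodule.mem_colon_singleton]
  constructor
  · intro h
    have h0 : x • (Submodule.Quotient.mk (a * z) : T ⧸ (I • ⊤ : Submodule T T)) = x • 0 := by
      rw [smul_zero, ← Submodule.Quotient.mk_smul, Submodule.Quotient.mk_eq_zero, hI]
      have : x • (a * z) = a • (z * x) := by simp only [smul_eq_mul]; ring
      rw [this]; exact h
    have h1 := hx h0
    rw [Submodule.Quotient.mk_eq_zero, hI] at h1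
    exact h1
  · intro h
    have : a • (z * x) = x * (a • z) := by simp only [smul_eq_mul]; ring
    rw [this]; exact Ideal.mul_mem_left _ _ h

/-- Assemble a d-sequence from a weakly regular prefix. -/
theorem isDSeq_append {T : Type u} [CommRing T] (l t : List T) (hl : IsWeaklyRegular T l)
    (ha : (l ++ t).length ≤ (Ideal.ofList (l ++ t)).spanFinrank)
    (hb : ∀ (i k : ℕ) (hk : k < (l ++ t).length) (hik : i ≤ k), l.length ≤ i →
      (Ideal.ofList ((l ++ t).take i)).colon
          {(l ++ t)[k] * (l ++ t)[i]'(Nat.lt_of_le_of_lt hik hk)} =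
        (Ideal.ofList ((l ++ t).take i)).colon {(l ++ t)[k]}) :
    W4c5grrsingularflat.IsDSeq (l ++ t) := by
  refine ⟨fun i => notMem_span_others _ ha i, ?_⟩
  intro i k hk hik
  by_cases hi : i < l.length
  · have h1 : (l ++ t).take i = l.take i := List.take_append_of_le_length hi.le
    have h2 : (l ++ t)[i]'(Nat.lt_of_le_of_lt hik hk) = l[i] := List.getElem_append_left hi
    rw [h1, h2]
    exact colon_eq_of_isSMulRegular _ _ _ (hl.regular_mod_prev i hi)
  · exact hb i k hk hik (not_lt.mp hi)

section
variable {T : Type u} [CommRing T] [IsNoetherianRing T] [IsLocalRing T]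

/-- Unmixedness: over a Cohen--Macaulay local ring, if `l ⊆ p` is a regular sequence of length
`ht p`, then `p` is maximal among the associated primes of `T/(l)` containing it. -/
theorem eq_of_le_of_mem_associatedPrimes (hM : LocCoh.IsCohenMacaulayModule T T)
    (p : Ideal T) [hp : p.IsPrime] (r : ℕ)
    (hr : Module.supportDim T (T ⧸ (p • ⊤ : Submodule T T)) + r = Module.supportDim T T)
    (l : List T) (hlen : l.length = r) (hmem : ∀ x ∈ l, x ∈ p) (hreg : IsWeaklyRegular T l)
    (q : Ideal T) (hq : q ∈ associatedPrimes T (T ⧸ (Ideal.ofList l • ⊤ : Submodule T T)))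
    (hpq : p ≤ q) : q = p := by
  have hnt : Nontrivial T := nontrivial_of_isCohenMacaulayModule hM
  have hpm : p ≤ IsLocalRing.maximalIdeal T := IsLocalRing.le_maximalIdeal hp.ne_top
  have hxm : ∀ x ∈ l, x ∈ IsLocalRing.maximalIdeal T := fun x hx => hpm (hmem x hx)
  have hP : (⟨p, hp⟩ : PrimeSpectrum T) ∈ Module.support T T := by
    rw [Module.mem_support_iff]
    exact (localizedModuleSelfEquiv p).toEquiv.nontrivial
  obtain ⟨h1, h2, -, -⟩ := cm_prime_quot_properties hM ⟨p, hp⟩ hP r hr l hlen hmem hreg
  have hNCM := isCohenMacaulayModule_quot_ofList hM l hxm hreg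
  have hqdim := ringKrullDim_quotient_eq_supportDim_of_isCohenMacaulayModule hNCM hq
  have hqp : q.IsPrime := hq.isPrime
  by_contra hne
  have hlt : p < q := lt_of_le_of_ne hpq (Ne.symm hne)
  have h3 := ringKrullDim_quotient_succ_le_of_lt hlt
  rw [hqdim, h1, h2] at h3
  have hqtop : q ≠ ⊤ := hqp.ne_top
  have hntq : Nontrivial (T ⧸ p) := Ideal.Quotient.nontrivial_iff.mpr hp.ne_top
  have hb : ringKrullDim (T ⧸ p) ≤ ringKrullDim T :=
    ringKrullDim_le_of_surjective _ Ideal.Quotient.mk_surjective
  have hb' : ringKrullDim (T ⧸ p) ≠ ⊤ := ne_top_of_le_ne_top ringKrullDim_ne_top hb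
  have hb0 : ringKrullDim (T ⧸ p) ≠ ⊥ := by
    intro h
    have h0 := ringKrullDim_nonneg_of_nontrivial (R := T ⧸ p)
    rw [h] at h0
    exact absurd h0 (by simp)
  obtain ⟨b, hb⟩ : ∃ b : ℕ, ringKrullDim (T ⧸ p) = (b : WithBot ℕ∞) := by
    rcases hd : ringKrullDim (T ⧸ p) with _ | d
    · exact absurd hd hb0
    · rcases d with _ | d
      · exact absurd hd hb'
      · exact ⟨d, rfl⟩
  rw [hb] at h3
  have h' : ((b + 1 : ℕ) : WithBot ℕ∞) ≤ ((b : ℕ) : WithBot ℕ∞) := by exact_mod_cast h3
  have : b + 1 ≤ b := by exact_mod_cast h'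
  omega

/-- The key colon identity `(I : y^2) = (I : y)` at the last position. -/
theorem colon_sq_eq (hM : LocCoh.IsCohenMacaulayModule T T)
    (p : Ideal T) [hp : p.IsPrime] (r : ℕ)
    (hr : Module.supportDim T (T ⧸ (p • ⊤ : Submodule T T)) + r = Module.supportDim T T)
    (l : List T) (hlen : l.length = r) (hreg : IsWeaklyRegular T l) (y : T)
    (hgen : Ideal.ofList l ⊔ Ideal.span {y} = p) (s : T) (hs : s ∉ p)
    (hsy : s * y ∈ Ideal.ofList l) :
    (Ideal.ofList l).colon {y * y} = (Ideal.ofList l).colon {y} := by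
  have hI : (Ideal.ofList l • ⊤ : Submodule T T) = Ideal.ofList l := by simp
  have hmem : ∀ x ∈ l, x ∈ p := fun x hx => hgen ▸ Ideal.mem_sup_left (Ideal.subset_span hx)
  have hyp : y ∈ p := hgen ▸ Ideal.mem_sup_right (Ideal.mem_span_singleton_self y)
  ext a
  rw [Submodule.mem_colon_singleton, Submodule.mem_colon_singleton]
  constructor
  · intro h
    by_contra hcon
    have hz : (Submodule.Quotient.mk (a * y) : T ⧸ (Ideal.ofList l • ⊤ : Submodule T T)) ≠ 0 := by
      rw [Ne, Submodule.Quotient.mk_eq_zero, hI]
      exact hcon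
    obtain ⟨q, hq, hle⟩ := exists_le_isAssociatedPrime_of_isNoetherianRing T _ hz
    have hann : ∀ t : T, t * (a * y) ∈ Ideal.ofList l → t ∈ q := by
      intro t ht
      apply hle
      rw [Submodule.mem_colon_singleton, ← Submodule.Quotient.mk_smul, Submodule.mem_bot,
        Submodule.Quotient.mk_eq_zero, hI]
      exact ht
    have hpq : p ≤ q := by
      rw [← hgen]
      refine sup_le ?_ ?_
      · intro t ht
        exact hann t (Ideal.mul_mem_right _ _ ht)
      · rw [Ideal.span_singleton_le_iff_mem]
        apply hann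
        have : y * (a * y) = a • (y * y) := by simp only [smul_eq_mul]; ring
        rw [this]; exact h
    have hqp := eq_of_le_of_mem_associatedPrimes hM p r hr l hlen hmem hreg q hq hpq
    apply hs
    rw [← hqp]
    apply hann
    have : s * (a * y) = a * (s * y) := by ring
    rw [this]
    exact Ideal.mul_mem_left _ _ hsy
  · intro h
    have : a • (y * y) = y * (a • y) := by simp only [smul_eq_mul]; ring
    rw [this]; exact Ideal.mul_mem_left _ _ h

end

/-- Let T be a Cohen–Macaulay Noetherian local ring and p a prime ideal of T whose minimal number of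
generators is at most height(p) + 1, and assume the localization T_p is a regular local ring. In
that case some d-sequence generates p: there is a list of elements generating p, no member of which
lies in the ideal of the others, and such that for all positions i ≤ k the colon ideals ((t_1, …,
t_{i-1}) : t_k t_i) and ((t_1, …, t_{i-1}) : t_k) coincide. -/
theorem result {T : Type u} [CommRing T] [LocCoh.IsCohenMacaulayLocalRing T]
    (p : Ideal T) [p.IsPrime] (hgen : (Submodule.spanFinrank p : ℕ∞) ≤ p.height + 1)
    [IsRegularLocalRing (Localization.AtPrime p)] :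
    ∃ ts : List T, Ideal.ofList ts = p ∧ W4c5grrsingularflat.IsDSeq ts := by
  classical
  have hp : p.IsPrime := inferInstance
  have hregl : IsRegularLocalRing (Localization.AtPrime p) := inferInstance
  have hM : LocCoh.IsCohenMacaulayModule T T :=
    LocCoh.IsCohenMacaulayLocalRing.supportDim_eq_depth
  have hnt : Nontrivial T := nontrivial_of_isCohenMacaulayModule hM
  have hP : (⟨p, hp⟩ : PrimeSpectrum T) ∈ Module.support T T := by
    rw [Module.mem_support_iff]
    exact (localizedModuleSelfEquiv p).toEquiv.nontrivial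
  have hht : p.height =
      ((IsLocalRing.maximalIdeal (Localization.AtPrime p)).spanFinrank : ℕ∞) := by
    have h1 := hregl.spanFinrank_maximalIdeal
    rw [IsLocalization.AtPrime.ringKrullDim_eq_height p (Localization.AtPrime p)] at h1
    exact_mod_cast h1.symm
  obtain ⟨h, hh⟩ : ∃ h : ℕ, (IsLocalRing.maximalIdeal (Localization.AtPrime p)).spanFinrank = h :=
    ⟨_, rfl⟩
  rw [hh] at hht
  obtain ⟨h1, -⟩ := cm_localization_aux hM ⟨p, hp⟩ hP
  have hdp : LocCoh.idealDepth p T = h := by
    rw [Module.supportDim_eq_of_equiv (localizedModuleSelfEquiv p), supportDim_localization_self,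
      hht] at h1
    exact_mod_cast h1.symm
  have hpm : p ≤ IsLocalRing.maximalIdeal T := IsLocalRing.le_maximalIdeal hp.ne_top
  have hpT : p • (⊤ : Submodule T T) ≠ ⊤ := smul_top_ne_top_of_le_maximalIdeal hpm
  have hr : Module.supportDim T (T ⧸ (p • ⊤ : Submodule T T)) + h = Module.supportDim T T := by
    have := supportDim_eq_add_idealDepth_of_isCohenMacaulayModule p hp.ne_top hM
    rw [hdp] at this
    exact_mod_cast this.symm
  have hc1 : h ≤ p.spanFinrank := by
    have := Ideal.height_le_spanFinrank p hp.ne_top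
    rw [hht] at this
    exact_mod_cast this
  have hc2 : p.spanFinrank ≤ h + 1 := by
    rw [hht] at hgen
    exact_mod_cast hgen
  obtain ⟨gsF, hgsF_card, hgsF_span⟩ := Submodule.FG.exists_span_finset_card_eq_spanFinrank
    (IsNoetherian.noetherian p)
  obtain ⟨gs, hgs_def⟩ : ∃ gs : List T, gs = gsF.toList := ⟨_, rfl⟩
  have hgs_len : gs.length = p.spanFinrank := by rw [hgs_def, Finset.length_toList, hgsF_card]
  have hgs : Ideal.ofList gs = p := by
    rw [← hgsF_span, Ideal.ofList, Ideal.span]
    congr 1
    ext x
    simp [hgs_def]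
  rcases Nat.lt_or_ge h p.spanFinrank with hlt | hge
  · -- `p` needs `h + 1` generators
    have hc : p.spanFinrank = h + 1 := by omega
    obtain ⟨j, hj, s₀, hs₀, hs₀y⟩ := exists_redundant p gs hgs (by rw [hh, hgs_len]; exact hlt)
    have hperm := List.getElem_cons_eraseIdx_perm hj
    have hsplit : Ideal.ofList ([] ++ gs.eraseIdx j) ⊔ Ideal.span {gs[j]} = p := by
      rw [List.nil_append, ← hgs, sup_comm, ← Ideal.ofList_cons]
      unfold Ideal.ofList
      congr 1
      ext x
      exact hperm.mem_iff
    have hlen2 : (gs.eraseIdx j).length = h := by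
      rw [List.length_eraseIdx_of_lt hj]; omega
    obtain ⟨l, hl_len, hl_gen, hl_reg, hl_le⟩ := exists_prefix_regular p hpT h hdp gs[j]
      (gs.eraseIdx j) [] hsplit (IsWeaklyRegular.nil T T) (by simp [hlen2])
    rw [List.nil_append] at hl_le
    have hl_len' : l.length = h := by simpa [hlen2] using hl_len
    -- the multiplier
    have h2 := hl_le hs₀y
    obtain ⟨u, hu, v, hv, huv⟩ := Submodule.mem_sup.mp h2
    obtain ⟨π, hπ, hπv⟩ := Ideal.mem_mul_span_singleton.mp hv
    have hsy : (s₀ - π) * gs[j] ∈ Ideal.ofList l := by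
      have : (s₀ - π) * gs[j] = u := by rw [sub_mul, hπv, ← huv]; ring
      rw [this]; exact hu
    have hs : s₀ - π ∉ p := by
      intro hmem
      apply hs₀
      have := p.add_mem hmem hπ
      simpa using this
    refine ⟨l ++ [gs[j]], ?_, ?_⟩
    · rw [Ideal.ofList_append, Ideal.ofList_singleton]
      exact hl_gen
    · have hof : Ideal.ofList (l ++ [gs[j]]) = p := by
        rw [Ideal.ofList_append, Ideal.ofList_singleton]
        exact hl_gen
      refine isDSeq_append l [gs[j]] hl_reg ?_ ?_
      · rw [hof, hc]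
        simp [hl_len']
      · intro i k hk hik hi
        have hk' : k < l.length + 1 := by simpa using hk
        have hki : k = l.length := by omega
        have hii : i = l.length := by omega
        subst hki
        subst hii
        have e1 : (l ++ [gs[j]]).take l.length = l := by simp
        have e2 : (l ++ [gs[j]])[l.length]'hk = gs[j] := by simp
        rw [e1, e2]
        exact colon_sq_eq hM p h hr l hl_len' hl_reg gs[j] hl_gen (s₀ - π) hs hsy
  · -- `p` is generated by `h` elements
    have hc : p.spanFinrank = h := by omega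
    have hsplit : Ideal.ofList ([] ++ gs) ⊔ Ideal.span {(0 : T)} = p := by
      rw [List.nil_append, hgs]
      simp
    obtain ⟨l, hl_len, hl_gen, hl_reg, -⟩ := exists_prefix_regular p hpT h hdp 0
      gs [] hsplit (IsWeaklyRegular.nil T T) (by simp [hgs_len, hc])
    have hof : Ideal.ofList l = p := by simpa using hl_gen
    have hl_len' : l.length = h := by simpa [hgs_len, hc] using hl_len
    refine ⟨l, hof, ?_⟩
    have := isDSeq_append l [] hl_reg (by rw [List.append_nil, hof, hc, hl_len'])
      (by
        intro i k hk hik hi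
        simp only [List.append_nil] at hk
        omega)
    simpa using this

end Groth.Agent.S17874
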