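import Groth.Statements.S17875
-- import your own Groth.Agent.* helpers here
import Mathlib.Data.Nat.Choose.Sum
import Mathlib.Data.Nat.Choose.Cast
import Mathlib.Tactic.FieldSimp
import Mathlib.Tactic.Ring
import Mathlib.Tactic.Linarith

set_option autoImplicit false
universe u
open Polynomial
open GRRSing

namespace Groth.Agent.S17875

theorem eval_div_eq_choose (n k : ℕ) :
    (descPochhammer ℚ k).eval (n : ℚ) / (k.factorial : ℚ) = (n.choose k : ℚ) := by
  rw [descPochhammer_eval_eq_descFactorial, Nat.descFactorial_eq_factorial_mul_choose]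
  have : (k.factorial : ℚ) ≠ 0 := by exact_mod_cast k.factorial_ne_zero
  push_cast
  field_simp

theorem sub_one_pow {R : Type u} [CommRing R] (r : R) (k : ℕ) :
    (r - 1) ^ k = ∑ u ∈ Finset.range (k + 1), r ^ u * (-1) ^ (k - u) * (k.choose u : R) := by
  rw [sub_eq_add_neg, add_pow]

theorem coeff_descPochhammer_eq_zero (k j : ℕ) (h : k < j) :
    (descPochhammer ℤ k).coeff j = 0 := by
  apply Polynomial.coeff_eq_zero_of_natDegree_lt
  rw [descPochhammer_natDegree]
  exact h

/-- Let R be a commutative ℚ-algebra, r an element of R and δ a natural number with (r - 1) ^ (δ + 1) =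
0. Write s(k, j) for the signed Stirling numbers of the first kind, the coefficients of x (x - 1) ⋯
(x - k + 1) = Σ_j s(k, j) x ^ j. Then (i) for every natural number n, r ^ n = Σ_{k ≤ δ} [n (n - 1) ⋯
(n - k + 1) / k!] (r - 1) ^ k; and (ii) in the polynomial ring R[x], Σ_{k ≤ δ} [x (x - 1) ⋯ (x - k +
1) / k!] (r - 1) ^ k = Σ_{j ≤ δ} [Σ_{k ≤ δ} Σ_{u ≤ k} (-1) ^ (k - u) s(k, j) / (u! (k - u)!) · r ^
u] x ^ j. -/
theorem result {R : Type u} [CommRing R] [Algebra ℚ R]
    (r : R) (δ : ℕ) (hr : (r - 1) ^ (δ + 1) = 0) :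
    (∀ n : ℕ, r ^ n = ∑ k ∈ Finset.range (δ + 1), ((descPochhammer ℚ k).eval (n : ℚ) / (k.factorial : ℚ)) • (r - 1) ^ k) ∧
    (∑ k ∈ Finset.range (δ + 1), ((k.factorial : ℚ)⁻¹ • (descPochhammer R k * Polynomial.C ((r - 1) ^ k))) =
      ∑ j ∈ Finset.range (δ + 1), Polynomial.C (∑ k ∈ Finset.range (δ + 1), ∑ u ∈ Finset.range (k + 1),
        (((-1 : ℚ) ^ (k - u) * (((descPochhammer ℤ k).coeff j : ℤ) : ℚ)) / ((u.factorial * (k - u).factorial : ℕ) : ℚ)) • r ^ u) * Polynomial.X ^ j) := by
  constructor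
  · intro n
    have hpow : ∀ k, δ + 1 ≤ k → (r - 1) ^ k = 0 := fun k hk => by
      obtain ⟨m, rfl⟩ := Nat.exists_eq_add_of_le hk
      rw [pow_add, hr, zero_mul]
    simp_rw [eval_div_eq_choose]
    have h1 : r ^ n = ∑ k ∈ Finset.range (n + 1), (n.choose k : ℚ) • (r - 1) ^ k := by
      conv_lhs => rw [show r = (r - 1) + 1 by ring, add_pow]
      refine Finset.sum_congr rfl fun k _ => ?_
      rw [one_pow, mul_one, Nat.cast_smul_eq_nsmul ℚ, nsmul_eq_mul, mul_comm]
    rw [h1]
    have hA : ∑ k ∈ Finset.range (n + 1), (n.choose k : ℚ) • (r - 1) ^ k =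
        ∑ k ∈ Finset.range (n + 1 + (δ + 1)), (n.choose k : ℚ) • (r - 1) ^ k := by
      apply Finset.sum_subset
      · intro k hk
        simp only [Finset.mem_range] at hk ⊢
        omega
      · intro k _ hk
        simp only [Finset.mem_range, not_lt] at hk
        rw [Nat.choose_eq_zero_of_lt (by omega)]
        simp
    have hB : ∑ k ∈ Finset.range (δ + 1), (n.choose k : ℚ) • (r - 1) ^ k =
        ∑ k ∈ Finset.range (n + 1 + (δ + 1)), (n.choose k : ℚ) • (r - 1) ^ k := by
      apply Finset.sum_subset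
      · intro k hk
        simp only [Finset.mem_range] at hk ⊢
        omega
      · intro k _ hk
        simp only [Finset.mem_range, not_lt] at hk
        rw [hpow k hk, smul_zero]
    rw [hA, hB]
  · -- compare coefficients
    ext j
    simp only [Polynomial.finsetSum_coeff, Polynomial.coeff_smul, Polynomial.coeff_mul_C,
      Polynomial.coeff_C_mul, Polynomial.coeff_X_pow]
    have hkey : ∀ k, (k.factorial : ℚ)⁻¹ • ((descPochhammer R k).coeff j * (r - 1) ^ k) =
        ∑ u ∈ Finset.range (k + 1),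
        (((-1 : ℚ) ^ (k - u) * (((descPochhammer ℤ k).coeff j : ℤ) : ℚ)) / ((u.factorial * (k - u).factorial : ℕ) : ℚ)) • r ^ u := by
      intro k
      rw [sub_one_pow, Finset.mul_sum, Finset.smul_sum]
      refine Finset.sum_congr rfl fun u hu => ?_
      have huk : u ≤ k := by
        simp only [Finset.mem_range] at hu
        omega
      rw [← descPochhammer_map (Int.castRingHom R), Polynomial.coeff_map]
      have hc : (k.choose u : R) = algebraMap ℚ R (k.choose u : ℚ) := by simp
      have hs : (Int.castRingHom R) ((descPochhammer ℤ k).coeff j) =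
          algebraMap ℚ R (((descPochhammer ℤ k).coeff j : ℤ) : ℚ) := by simp
      have hm : ((-1 : R)) ^ (k - u) = algebraMap ℚ R ((-1 : ℚ) ^ (k - u)) := by simp
      rw [hc, hs, hm, Algebra.smul_def, Algebra.smul_def, Nat.cast_choose ℚ huk]
      have hk0 : (k.factorial : ℚ) ≠ 0 := by exact_mod_cast k.factorial_ne_zero
      have hu0 : (u.factorial : ℚ) ≠ 0 := by exact_mod_cast u.factorial_ne_zero
      have hku0 : ((k - u).factorial : ℚ) ≠ 0 := by exact_mod_cast (k - u).factorial_ne_zero
      have hq : ((-1 : ℚ) ^ (k - u) * (((descPochhammer ℤ k).coeff j : ℤ) : ℚ)) / ((u.factorial * (k - u).factorial : ℕ) : ℚ)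
          = (k.factorial : ℚ)⁻¹ * ((((descPochhammer ℤ k).coeff j : ℤ) : ℚ) * ((-1 : ℚ) ^ (k - u) *
            ((k.factorial : ℚ) / ((u.factorial : ℚ) * ((k - u).factorial : ℚ))))) := by
        push_cast
        field_simp
      rw [hq]
      simp only [map_mul]
      ring
    simp_rw [hkey]
    simp only [mul_ite, mul_one, mul_zero, Finset.sum_ite_eq, Finset.mem_range]
    by_cases hj : j < δ + 1
    · rw [if_pos hj]
    · rw [if_neg hj]
      refine Finset.sum_eq_zero fun k hk => ?_
      simp only [Finset.mem_range] at hk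
      refine Finset.sum_eq_zero fun u _ => ?_
      rw [coeff_descPochhammer_eq_zero k j (by omega)]
      simp

end Groth.Agent.S17875
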