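import Groth.Statements.S17878
import Mathlib

set_option autoImplicit false
universe u
open Filter Topology
open GRRSing

namespace Groth.Agent.S17878

noncomputable def a (j : ℕ) (y : ℂ) : ℂ := ∑' k : ℕ, (k : ℂ) ^ j * y ^ k

lemma summ (j : ℕ) {y : ℂ} (hy : ‖y‖ < 1) : Summable (fun k : ℕ => (k : ℂ) ^ j * y ^ k) :=
  summable_pow_mul_geometric_of_norm_lt_one j hy

lemma a_rec (j : ℕ) {y : ℂ} (hy : ‖y‖ < 1) :
    a j y = (if j = 0 then 1 else 0) +
      y * ∑ i ∈ Finset.range (j + 1), (j.choose i : ℂ) * a i y := by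
  unfold a
  rw [(summ j hy).tsum_eq_zero_add]
  congr 1
  · cases j <;> simp
  · have : ∀ k : ℕ, ((k + 1 : ℕ) : ℂ) ^ j * y ^ (k + 1) =
        y * ∑ i ∈ Finset.range (j + 1), (j.choose i : ℂ) * ((k : ℂ) ^ i * y ^ k) := by
      intro k
      push_cast
      rw [add_pow]
      simp only [one_pow, mul_one]
      rw [Finset.sum_mul, Finset.mul_sum]
      refine Finset.sum_congr rfl fun i _ => ?_
      ring
    simp only [this]
    rw [tsum_mul_left, Summable.tsum_finsetSum]
    · congr 1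
      refine Finset.sum_congr rfl fun i _ => ?_
      rw [tsum_mul_left]
    · intro i _
      exact (summ i hy).mul_left _

lemma a_rec' (j : ℕ) {y : ℂ} (hy : ‖y‖ < 1) :
    a j y = ((if j = 0 then 1 else 0) +
      y * ∑ i ∈ Finset.range j, (j.choose i : ℂ) * a i y) / (1 - y) := by
  have h1 : (1 : ℂ) - y ≠ 0 := by
    intro h
    have : y = 1 := by linear_combination -h
    rw [this] at hy
    simp at hy
  rw [eq_div_iff h1]
  have := a_rec j hy
  rw [Finset.sum_range_succ, Nat.choose_self] at this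
  linear_combination this

lemma E_rec (E : ℕ → ℚ)
    (hE : PowerSeries.mk (fun j => E j / (j.factorial : ℚ)) * (PowerSeries.exp ℚ + 1) = 2) (j : ℕ) :
    E j + ∑ i ∈ Finset.range (j + 1), (j.choose i : ℚ) * E i = if j = 0 then 2 else 0 := by
  have h := congrArg (PowerSeries.coeff j) hE
  rw [PowerSeries.coeff_mul, Finset.Nat.sum_antidiagonal_eq_sum_range_succ_mk] at h
  simp only [PowerSeries.coeff_mk, map_add, PowerSeries.coeff_exp, PowerSeries.coeff_one] at h
  have h2 : PowerSeries.coeff j (2 : PowerSeries ℚ) = if j = 0 then 2 else 0 := by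
    rw [← map_ofNat (PowerSeries.C (R := ℚ)) 2, PowerSeries.coeff_C]
  rw [h2] at h
  have hj : (j.factorial : ℚ) ≠ 0 := by exact_mod_cast j.factorial_ne_zero
  have h3 : (j.factorial : ℚ) * (if j = 0 then (2 : ℚ) else 0) = if j = 0 then 2 else 0 := by
    split_ifs with h0
    · subst h0; simp
    · simp
  rw [← h3, ← h, Finset.mul_sum]
  have hterm : ∀ i ∈ Finset.range j.succ,
      (j.factorial : ℚ) * (E i / (i.factorial : ℚ) * ((algebraMap ℚ ℚ) (1 / ((j - i).factorial : ℚ)) +
        if j - i = 0 then 1 else 0)) = (j.choose i : ℚ) * E i + (if i = j then E j else 0) := by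
    intro i hi
    have hij : i ≤ j := Nat.lt_succ_iff.1 (Finset.mem_range.1 hi)
    have hi0 : (i.factorial : ℚ) ≠ 0 := by exact_mod_cast i.factorial_ne_zero
    have hji0 : ((j - i).factorial : ℚ) ≠ 0 := by exact_mod_cast (j - i).factorial_ne_zero
    rw [Nat.cast_choose ℚ hij]
    simp only [Algebra.algebraMap_self, RingHom.id_apply]
    by_cases h0 : i = j
    · subst h0
      simp only [Nat.sub_self, if_true, Nat.factorial_zero, Nat.cast_one]
      field_simp
    · have : ¬ (j - i = 0) := by omega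
      rw [if_neg this, if_neg h0, add_zero, add_zero]
      field_simp
  rw [Finset.sum_congr rfl hterm, Finset.sum_add_distrib, Finset.sum_ite_eq' (Finset.range j.succ) j]
  simp only [Finset.mem_range, Nat.lt_succ_self, if_true]
  ring


lemma tendsto_a (E : ℕ → ℚ)
    (hE : PowerSeries.mk (fun j => E j / (j.factorial : ℚ)) * (PowerSeries.exp ℚ + 1) = 2) (j : ℕ) :
    Tendsto (fun y : ℝ => a j (y : ℂ)) (𝓝[Set.Ioo (-1 : ℝ) 1] (-1 : ℝ)) (𝓝 ((E j : ℂ) / 2)) := by
  induction j using Nat.strong_induction_on with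
  | _ j ih =>
  have hy : Tendsto (fun y : ℝ => (y : ℂ)) (𝓝[Set.Ioo (-1 : ℝ) 1] (-1 : ℝ)) (𝓝 (-1 : ℂ)) := by
    have := (Complex.continuous_ofReal.tendsto (-1 : ℝ)).mono_left
      (nhdsWithin_le_nhds (s := Set.Ioo (-1 : ℝ) 1))
    simpa using this
  have hnum : Tendsto (fun y : ℝ => ((if j = 0 then (1 : ℂ) else 0) +
      (y : ℂ) * ∑ i ∈ Finset.range j, (j.choose i : ℂ) * a i (y : ℂ)) / (1 - (y : ℂ)))
      (𝓝[Set.Ioo (-1 : ℝ) 1] (-1 : ℝ))
      (𝓝 (((if j = 0 then (1 : ℂ) else 0) +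
        (-1) * ∑ i ∈ Finset.range j, (j.choose i : ℂ) * ((E i : ℂ) / 2)) / (1 - (-1)))) := by
    refine Tendsto.div (tendsto_const_nhds.add (hy.mul ?_)) (tendsto_const_nhds.sub hy)
      (by norm_num)
    exact tendsto_finsetSum _ fun i hi => tendsto_const_nhds.mul (ih i (Finset.mem_range.1 hi))
  have hval : ((if j = 0 then (1 : ℂ) else 0) +
        (-1) * ∑ i ∈ Finset.range j, (j.choose i : ℂ) * ((E i : ℂ) / 2)) / (1 - (-1)) =
      (E j : ℂ) / 2 := by
    have hrec := E_rec E hE j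
    rw [Finset.sum_range_succ, Nat.choose_self, Nat.cast_one, one_mul] at hrec
    have hS : ∑ i ∈ Finset.range j, (j.choose i : ℂ) * ((E i : ℂ) / 2) =
        (∑ i ∈ Finset.range j, (j.choose i : ℂ) * (E i : ℂ)) / 2 := by
      rw [Finset.sum_div]
      refine Finset.sum_congr rfl fun i _ => by ring
    rw [hS]
    by_cases hj0 : j = 0
    · subst hj0
      simp only [Finset.range_zero, Finset.sum_empty, if_true] at hrec ⊢
      have h1 : E 0 = 1 := by linarith
      rw [h1]
      norm_num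
    · rw [if_neg hj0] at hrec ⊢
      have h3 : (2 : ℚ) * E j + ∑ i ∈ Finset.range j, (j.choose i : ℚ) * E i = 0 := by
        linarith [hrec]
      have h4 : (2 : ℂ) * (E j : ℂ) + ∑ i ∈ Finset.range j, (j.choose i : ℂ) * (E i : ℂ) = 0 := by
        exact_mod_cast congrArg (fun q : ℚ => (q : ℂ)) h3
      have h5 : ∑ i ∈ Finset.range j, (j.choose i : ℂ) * (E i : ℂ) = -2 * (E j : ℂ) := by
        linear_combination h4
      rw [h5]
      ring
  rw [hval] at hnum
  refine hnum.congr' ?_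
  filter_upwards [self_mem_nhdsWithin] with y hy'
  have hn : ‖(y : ℂ)‖ < 1 := by
    rw [Complex.norm_real]
    exact abs_lt.2 hy'
  exact (a_rec' j hn).symm

/-- Let T be a nonzero commutative normed ℂ-algebra such that the map ℂ → T/nilradical(T) is surjective,
let P = Σ_j d_j x ^ j be a polynomial over T and put h_k = P(k). Let E_0, E_1, … be the rational
numbers with 2/(e^t + 1) = Σ_j E_j t ^ j / j! (so E_0 = 1, E_1 = -1/2). Then for every complex y
with |y| < 1 the series Σ_k h_k y ^ k converges in T, and as y → -1 along real y in (-1, 1) its sum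
tends to (1/2) Σ_j E_j d_j. (The published statement allows any norm topology on T as a complex
vector space; this row takes T a normed ℂ-algebra.) -/
theorem result {T : Type u} [NormedCommRing T] [NormedAlgebra ℂ T] [Nontrivial T]
    (hT : Function.Surjective (algebraMap ℂ (T ⧸ nilradical T)))
    (E : ℕ → ℚ) (hE : PowerSeries.mk (fun j => E j / (j.factorial : ℚ)) * (PowerSeries.exp ℚ + 1) = 2)
    (P : Polynomial T) :
    (∀ y : ℂ, ‖y‖ < 1 → Summable (fun k : ℕ => y ^ k • P.eval (k : T))) ∧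
    Tendsto (fun y : ℝ => ∑' k : ℕ, ((y : ℂ) ^ k) • P.eval (k : T)) (𝓝[Set.Ioo (-1 : ℝ) 1] (-1 : ℝ))
      (𝓝 ((2 : ℂ)⁻¹ • ∑ j ∈ Finset.range (P.natDegree + 1), ((E j : ℚ) : ℂ) • P.coeff j)) := by
  have hterm : ∀ (y : ℂ) (k : ℕ), y ^ k • P.eval (k : T) =
      ∑ j ∈ Finset.range (P.natDegree + 1), ((k : ℂ) ^ j * y ^ k) • P.coeff j := by
    intro y k
    rw [Polynomial.eval_eq_sum_range, Finset.smul_sum]
    refine Finset.sum_congr rfl fun j _ => ?_
    have : (k : T) ^ j = algebraMap ℂ T ((k : ℂ) ^ j) := by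
      rw [map_pow, map_natCast]
    rw [this, mul_comm, ← Algebra.smul_def, smul_smul, mul_comm]
  have hsum : ∀ y : ℂ, ‖y‖ < 1 → ∀ j, Summable (fun k : ℕ => ((k : ℂ) ^ j * y ^ k) • P.coeff j) :=
    fun y hy j => (summ j hy).smul_const _
  have htsum : ∀ y : ℂ, ‖y‖ < 1 → ∑' k : ℕ, y ^ k • P.eval (k : T) =
      ∑ j ∈ Finset.range (P.natDegree + 1), a j y • P.coeff j := by
    intro y hy
    simp only [hterm]
    rw [Summable.tsum_finsetSum fun j _ => hsum y hy j]
    refine Finset.sum_congr rfl fun j _ => ?_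
    rw [(summ j hy).tsum_smul_const]
    rfl
  refine ⟨fun y hy => ?_, ?_⟩
  · simp only [hterm]
    exact summable_sum fun j _ => hsum y hy j
  · have hlim : Tendsto (fun y : ℝ => ∑ j ∈ Finset.range (P.natDegree + 1), a j (y : ℂ) • P.coeff j)
        (𝓝[Set.Ioo (-1 : ℝ) 1] (-1 : ℝ))
        (𝓝 (∑ j ∈ Finset.range (P.natDegree + 1), ((E j : ℂ) / 2) • P.coeff j)) :=
      tendsto_finsetSum _ fun j _ => (tendsto_a E hE j).smul_const _
    have hval : (2 : ℂ)⁻¹ • ∑ j ∈ Finset.range (P.natDegree + 1), ((E j : ℚ) : ℂ) • P.coeff j =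
        ∑ j ∈ Finset.range (P.natDegree + 1), ((E j : ℂ) / 2) • P.coeff j := by
      rw [Finset.smul_sum]
      refine Finset.sum_congr rfl fun j _ => ?_
      rw [smul_smul]
      congr 1
      ring
    rw [hval]
    refine hlim.congr' ?_
    filter_upwards [self_mem_nhdsWithin] with y hy'
    have hn : ‖(y : ℂ)‖ < 1 := by
      rw [Complex.norm_real]
      exact abs_lt.2 hy'
    exact (htsum _ hn).symm

end Groth.Agent.S17878
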