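import Groth.Statements.S17880
-- import your own Groth.Agent.* helpers here
import Mathlib
import Groth.Agent.S7383
import Groth.Agent.Lib.Helper26SepLim

set_option autoImplicit false
universe u
open CategoryTheory AlgebraicGeometry
open Lim

namespace Groth.Agent.S17880

/-- Let f : Y → X be a morphism of schemes with X and Y quasi-compact and quasi-separated. Then f is the
composite of an affine morphism Y → Z and a morphism Z → X of finite presentation (locally of finite
presentation, quasi-compact and quasi-separated); if f is separated, Z → X can in addition be chosen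
separated. Both assertions are packaged in one existential. -/
theorem result {X Y : Scheme.{u}} (f : Y ⟶ X)
    [CompactSpace X] [QuasiSeparatedSpace X] [CompactSpace Y] [QuasiSeparatedSpace Y] :
    ∃ (Z : Scheme.{u}) (g : Y ⟶ Z) (h : Z ⟶ X), IsAffineHom g ∧ LocallyOfFinitePresentation h ∧
      QuasiCompact h ∧ QuasiSeparated h ∧ (IsSeparated f → IsSeparated h) ∧ g ≫ h = f := by
  obtain ⟨I, _, hdir, hne, D, c, hc, hprops, hafft, ⟨e⟩⟩ := Groth.Agent.S7383.result f
  haveI : IsIso e.hom.left := inferInstanceAs (IsIso ((Over.forget X).map e.hom))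
  haveI : IsIso e.inv.left := inferInstanceAs (IsIso ((Over.forget X).map e.inv))
  haveI : IsFiltered I := isFiltered_of_directed_le_nonempty I
  haveI : IsConnected Iᵒᵖ := IsCofiltered.isConnected _
  haveI : ∀ {i j : Iᵒᵖ} (a : i ⟶ j), IsAffineHom ((D ⋙ Over.forget X).map a) :=
    fun a => hafft _ _ a
  let t : ∀ j : Iᵒᵖ, (D ⋙ Over.forget X).obj j ⟶ X := fun j => (D.obj j).hom
  haveI : ∀ j : Iᵒᵖ, QuasiCompact (t j) := fun j => (hprops j).2.1
  haveI : ∀ j : Iᵒᵖ, QuasiSeparated (t j) := fun j => (hprops j).2.2
  haveI : ∀ j : Iᵒᵖ, CompactSpace ((D ⋙ Over.forget X).obj j) := fun j =>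
    QuasiCompact.compactSpace_of_compactSpace (t j)
  haveI : ∀ j : Iᵒᵖ, QuasiSeparatedSpace ((D ⋙ Over.forget X).obj j) := fun j =>
    quasiSeparatedSpace_of_quasiSeparated (t j)
  have hT : c.pt.hom = e.hom.left ≫ f := (Over.w e.hom).symm
  let T : ((Over.forget X).mapCone c).pt ⟶ X := c.pt.hom
  have hlim : Limits.IsLimit ((Over.forget X).mapCone c) :=
    Limits.isLimitOfPreserves (Over.forget X) hc
  -- choose the stage
  have hstage : ∃ j : Iᵒᵖ, IsSeparated f → IsSeparated (t j) := by
    by_cases hsep : IsSeparated f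
    · haveI : IsSeparated T := by
        show IsSeparated c.pt.hom
        rw [hT]; infer_instance
      obtain ⟨j, hj⟩ := Groth.Agent.Lib.Helper26.SepLim.exists_isSeparated_stage
        (D ⋙ Over.forget X) ((Over.forget X).mapCone c) t
        (fun a => Over.w (D.map a)) T (fun j => Over.w (c.π.app j)) hlim
      exact ⟨j, fun _ => hj⟩
    · exact ⟨Opposite.op hne.some, fun h => absurd h hsep⟩
  obtain ⟨j, hj⟩ := hstage
  haveI : IsAffineHom (((Over.forget X).mapCone c).π.app j) :=
    isAffineHom_π_app (D ⋙ Over.forget X) ((Over.forget X).mapCone c) hlim j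
  haveI : IsAffineHom (c.π.app j).left := ‹IsAffineHom (((Over.forget X).mapCone c).π.app j)›
  refine ⟨(D.obj j).left, e.inv.left ≫ (c.π.app j).left, (D.obj j).hom, inferInstance,
    (hprops j).1, (hprops j).2.1, (hprops j).2.2, hj, ?_⟩
  rw [Category.assoc, Over.w (c.π.app j)]
  exact Over.w e.inv

end Groth.Agent.S17880
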