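import Groth.Statements.S17881
-- import your own Groth.Agent.* helpers here
import Mathlib.Tactic.LinearCombination
import Mathlib.Tactic.Ring

set_option autoImplicit false
universe u
open CAlg

namespace Groth.Agent.S17881

/-- Let O be a subring of a nontrivial commutative ring A. The following are equivalent: (i) A is a
local ring, every non-unit of A belongs to O, and for every unit u of A one of u, u⁻¹ belongs to O —
equivalently O is the preimage in the local ring A of a valuation ring of the residue field of A,
which makes O a semi-valuation ring with semi-fraction ring A; (ii) for all f, g in A generating the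
unit ideal, either f ∈ gO or g ∈ fO. (A is taken nontrivial: over the zero ring (ii) holds and (i)
fails.) -/
theorem result (A : Type u) [CommRing A] [Nontrivial A]
    (O : Subring A) :
    (IsLocalRing A ∧ (∀ a : A, ¬ IsUnit a → a ∈ O) ∧ (∀ u : Aˣ, (u : A) ∈ O ∨ ((u⁻¹ : Aˣ) : A) ∈ O)) ↔
      ∀ f g : A, IsCoprime f g → (∃ o ∈ O, f = g * o) ∨ (∃ o ∈ O, g = f * o) := by
  constructor
  · rintro ⟨hloc, hnu, hu⟩ f g hfg
    -- key: if `g` is a unit then the conclusion holds
    have key : ∀ f g : A, IsUnit g → (∃ o ∈ O, f = g * o) ∨ (∃ o ∈ O, g = f * o) := by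
      intro f g hg
      obtain ⟨v, rfl⟩ := hg
      by_cases hf : IsUnit f
      · obtain ⟨w, rfl⟩ := hf
        rcases hu (v⁻¹ * w) with h | h
        · left
          refine ⟨_, h, ?_⟩
          rw [Units.val_mul, ← mul_assoc, Units.mul_inv, one_mul]
        · right
          refine ⟨_, h, ?_⟩
          rw [mul_inv_rev, inv_inv, Units.val_mul, ← mul_assoc, Units.mul_inv, one_mul]
      · left
        refine ⟨(v⁻¹ : Aˣ) * f, hnu _ ?_, ?_⟩
        · intro h
          exact hf ((Units.isUnit_units_mul _ _).mp h)
        · rw [← mul_assoc, Units.mul_inv, one_mul]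
    obtain ⟨a, b, hab⟩ := hfg
    have h1 : IsUnit (a * f + b * g) := by rw [hab]; exact isUnit_one
    rcases IsLocalRing.isUnit_or_isUnit_of_isUnit_add h1 with h | h
    · exact (key g f (isUnit_of_mul_isUnit_right h)).symm
    · exact key f g (isUnit_of_mul_isUnit_right h)
  · intro h
    have hloc : IsLocalRing A := by
      refine IsLocalRing.of_isUnit_or_isUnit_one_sub_self ?_
      intro a
      have hc : IsCoprime a (1 - a) := ⟨1, 1, by ring⟩
      rcases h a (1 - a) hc with ⟨o, -, ho⟩ | ⟨o, -, ho⟩
      · right
        refine IsUnit.of_mul_eq_one (1 + o) ?_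
        linear_combination (-1 : A) * ho
      · left
        refine IsUnit.of_mul_eq_one (1 + o) ?_
        linear_combination (-1 : A) * ho
    refine ⟨hloc, ?_, ?_⟩
    · intro a ha
      rcases h a 1 (isCoprime_one_right) with ⟨o, ho, hao⟩ | ⟨o, -, hao⟩
      · rw [one_mul] at hao
        rwa [hao]
      · exact absurd (IsUnit.of_mul_eq_one o hao.symm) ha
    · intro u
      rcases h (u : A) 1 (isCoprime_one_right) with ⟨o, ho, hao⟩ | ⟨o, ho, hao⟩
      · left
        rw [one_mul] at hao
        rwa [hao]
      · right
        have : ((u⁻¹ : Aˣ) : A) = o := by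
          rw [Units.inv_eq_of_mul_eq_one_right hao.symm]
        rwa [this]

end Groth.Agent.S17881
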