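import Groth.Statements.S17882
-- import your own Groth.Agent.* helpers here
import Mathlib.LinearAlgebra.Matrix.Adjugate
import Mathlib.LinearAlgebra.LinearIndependent.Lemmas

set_option autoImplicit false
universe u
open CAlg

namespace Groth.Agent.S17882

theorem cramer_rows {B : Type u} [CommRing B] {r : ℕ} (M : Matrix (Fin r) (Fin r) B)
    (x : Fin r → B) : ∑ i, (M.updateRow i x).det • M i = M.det • x := by
  have h := Matrix.mulVec_cramer M.transpose x
  rw [Matrix.det_transpose] at h
  rw [← h]
  ext j
  simp only [Finset.sum_apply, Pi.smul_apply, smul_eq_mul, Matrix.mulVec, dotProduct,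
    Matrix.transpose_apply, Matrix.cramer_transpose_apply]
  exact Finset.sum_congr rfl fun i _ => mul_comm _ _

/-- Let B be a commutative ring, r ≥ 1, N a finitely generated submodule of B^r, and n_1, …, n_r ∈ N.
Suppose the determinant of the matrix with rows n_1, …, n_r is a nonzerodivisor of B and that the
determinant of every matrix whose rows lie in N is a multiple of it (the image of the top exterior
power of N in that of B^r ≅ B is the principal ideal generated by n_1 ∧ ⋯ ∧ n_r, a nonzerodivisor).
Then n_1, …, n_r are linearly independent over B and span N: N is free of rank r with this basis. -/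
theorem result (B : Type u) [CommRing B] (r : ℕ) (hr : 0 < r)
    (N : Submodule B (Fin r → B)) (hN : N.FG) (n : Fin r → (Fin r → B)) (hn : ∀ i, n i ∈ N)
    (hgen : ∀ m : Fin r → (Fin r → B), (∀ i, m i ∈ N) →
      Matrix.det (Matrix.of m) ∈ Ideal.span {Matrix.det (Matrix.of n)})
    (hnzd : Matrix.det (Matrix.of n) ∈ nonZeroDivisors B) :
    LinearIndependent B n ∧ Submodule.span B (Set.range n) = N := by
  set M : Matrix (Fin r) (Fin r) B := Matrix.of n with hM
  have hMi : ∀ i, M i = n i := fun i => rfl
  constructor
  · rw [Fintype.linearIndependent_iff]
    intro c hc i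
    have h1 : Matrix.vecMul c M = 0 := by
      ext j
      have := congr_fun hc j
      simp only [Finset.sum_apply, Pi.smul_apply, smul_eq_mul, Pi.zero_apply] at this
      simpa [Matrix.vecMul, dotProduct, hM] using this
    have h2 : Matrix.vecMul c (M * M.adjugate) = 0 := by
      rw [← Matrix.vecMul_vecMul, h1, Matrix.zero_vecMul]
    rw [Matrix.mul_adjugate, Matrix.vecMul_smul, Matrix.vecMul_one] at h2
    have h3 := congr_fun h2 i
    simp only [Pi.smul_apply, smul_eq_mul, Pi.zero_apply] at h3
    exact (mul_left_mem_nonZeroDivisors_eq_zero_iff hnzd).mp h3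
  · apply le_antisymm
    · rw [Submodule.span_le]
      rintro _ ⟨i, rfl⟩
      exact hn i
    · intro x hx
      have hdet : ∀ i, ∃ a : B, (M.updateRow i x).det = a * M.det := by
        intro i
        have hmem := hgen (fun k => (M.updateRow i x) k) (by
          intro k
          by_cases hk : k = i
          · subst hk
            simpa using hx
          · simpa [Matrix.updateRow_ne hk, hMi] using hn k)
        rw [Ideal.mem_span_singleton'] at hmem
        obtain ⟨a, ha⟩ := hmem
        exact ⟨a, ha.symm⟩
      choose a ha using hdet
      have key := cramer_rows M x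
      have hx' : x = ∑ i, a i • n i := by
        ext j
        have hj := congr_fun key j
        simp only [Finset.sum_apply, Pi.smul_apply, smul_eq_mul, ha, hMi] at hj
        have : M.det * x j = M.det * ∑ i, a i * n i j := by
          rw [← hj, Finset.mul_sum]
          exact Finset.sum_congr rfl fun i _ => by ring
        have h4 := mul_cancel_left_mem_nonZeroDivisors hnzd |>.mp this
        simpa using h4
      rw [hx']
      exact Submodule.sum_mem _ fun i _ => Submodule.smul_mem _ _ (Submodule.subset_span ⟨i, rfl⟩)

end Groth.Agent.S17882
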