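import Groth.Statements.S17886
import Mathlib
import Groth.Agent.S1110
import Groth.Agent.Lib.Helper23VeryAmple5
-- import your own Groth.Agent.* helpers here

set_option autoImplicit false
universe u
open CategoryTheory AlgebraicGeometry
open FlatMor

namespace Groth.Agent.S17886


open TopologicalSpace in
/-- In a Noetherian scheme every point has a dense affine open neighbourhood. -/
theorem exists_dense_isAffineOpen_mem (X : Scheme.{u}) [NoetherianSpace X] (x : X) :
    ∃ U : X.Opens, x ∈ U ∧ IsAffineOpen U ∧ Dense (U : Set X) := by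
  have hwf : WellFoundedGT X.Opens := (inferInstance : NoetherianSpace X)
  obtain ⟨U₀, hU₀, hxU₀, -⟩ := exists_isAffineOpen_mem_and_subset (X := X) (x := x) (U := ⊤) trivial
  obtain ⟨U, ⟨hU, hxU⟩, hmax⟩ := hwf.wf.has_min {U : X.Opens | IsAffineOpen U ∧ x ∈ U} ⟨U₀, hU₀, hxU₀⟩
  refine ⟨U, hxU, hU, ?_⟩
  rw [dense_iff_inter_open]
  intro O hO hne
  by_contra hcon
  rw [Set.not_nonempty_iff_eq_empty] at hcon
  obtain ⟨y, hy⟩ := hne
  obtain ⟨W, hW, hyW, hWO⟩ := exists_isAffineOpen_mem_and_subset (U := ⟨O, hO⟩) (x := y) hy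
  have hdisj : Disjoint U W := by
    rw [← Opens.coe_disjoint, Set.disjoint_iff_inter_eq_empty]
    apply Set.eq_empty_of_subset_empty
    rintro z ⟨hzU, hzW⟩
    rw [← hcon]
    exact ⟨hWO hzW, hzU⟩
  have haff : IsAffineOpen (U ⊔ W) := hU.sup_of_disjoint hW hdisj
  have hlt : U < U ⊔ W := by
    refine lt_of_le_of_ne le_sup_left fun h => ?_
    have hyU : y ∈ U := by rw [h]; exact Or.inr hyW
    have : y ∈ (O ∩ (U : Set X)) := ⟨hy, hyU⟩
    rw [hcon] at this
    exact this
  exact hmax (U ⊔ W) ⟨haff, Or.inl hxU⟩ hlt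

/-- Let S be a Noetherian scheme and f : X → S separated and of finite type. Then X is covered by
finitely many affine opens U_1, …, U_n each of which is dense in X and quasi-projective over S (of
finite type with a relatively ample invertible module). -/
theorem result {S X : Scheme.{u}} (f : X ⟶ S)
    [IsNoetherian S] [IsSeparated f] [QuasiCompact f] [LocallyOfFiniteType f] :
    ∃ (n : ℕ) (U : Fin n → X.Opens), (⨆ i, U i) = ⊤ ∧
      ∀ i, IsAffineOpen (U i) ∧ Dense ((U i : Set X)) ∧ RelProj.IsQuasiProjective ((U i).ι ≫ f) := by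
  haveI : IsLocallyNoetherian X := LocallyOfFiniteType.isLocallyNoetherian f
  haveI : CompactSpace X := QuasiCompact.compactSpace_of_compactSpace f
  haveI : IsNoetherian X := { }
  haveI : TopologicalSpace.NoetherianSpace X := IsNoetherian.noetherianSpace
  choose V hxV hVaff hVd using exists_dense_isAffineOpen_mem X
  obtain ⟨T, hT⟩ := isCompact_univ.elim_finite_subcover (fun x => (V x : Set X)) (fun x => (V x).2)
    (fun x _ => Set.mem_iUnion.2 ⟨x, hxV x⟩)
  let e := T.equivFin
  refine ⟨T.card, fun i => V (e.symm i).1, ?_, fun i => ⟨hVaff _, hVd _, ?_⟩⟩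
  · rw [eq_top_iff]
    intro y _
    obtain ⟨x, hx⟩ := Set.mem_iUnion.1 (hT (Set.mem_univ y))
    obtain ⟨hxT, hyx⟩ := Set.mem_iUnion.1 hx
    refine TopologicalSpace.Opens.mem_iSup.2 ⟨e ⟨x, hxT⟩, ?_⟩
    simpa using hyx
  · set U := V (e.symm i).1 with hUdef
    have hU : IsAffineOpen U := hVaff _
    haveI : IsAffine (↑U : Scheme.{u}) := hU
    haveI : TopologicalSpace.NoetherianSpace ↥(↑U : Scheme.{u}) :=
      U.ι.isOpenEmbedding.isInducing.noetherianSpace
    haveI : QuasiCompact U.ι := by
      rw [quasiCompact_iff]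
      intro W _ _
      exact TopologicalSpace.NoetherianSpace.isCompact _
    refine ⟨inferInstance, inferInstance, Coh.structureModule _, ?_⟩
    exact Groth.Agent.Lib.Helper23.VeryAmple5.isRelAmple_of_isAmple _ _
      (Groth.Agent.S1110.isAmple_structureModule_of_isAffine _)

end Groth.Agent.S17886
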