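import Groth.Statements.S18743
import Mathlib
import Groth.Agent.S18732
import Groth.Agent.S10855

set_option autoImplicit false
universe u
open CategoryTheory CategoryTheory.Limits AlgebraicGeometry TopologicalSpace
open ModPair

namespace Groth.Agent.S18743

theorem interior_inf_eq_basicOpen {Z : Scheme.{u}} (K : Z.IdealSheafData) (U : Z.affineOpens)
    (a : Γ(Z, U.1)) (ha : K.ideal U = Ideal.span {a}) :
    ModPair.interior K ⊓ U.1 = Z.basicOpen a := by
  ext x
  simp only [TopologicalSpace.Opens.coe_inf, Set.mem_inter_iff, SetLike.mem_coe]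
  constructor
  · rintro ⟨hx1, hx2⟩
    have : x ∉ K.support := hx1
    rw [Scheme.IdealSheafData.mem_support_iff_of_mem hx2, ha, Scheme.zeroLocus_span,
      Scheme.zeroLocus_singleton] at this
    simpa using this
  · intro hx
    have hxU := Z.basicOpen_le a hx
    refine ⟨?_, hxU⟩
    show x ∉ K.support
    rw [Scheme.IdealSheafData.mem_support_iff_of_mem hxU, ha, Scheme.zeroLocus_span,
      Scheme.zeroLocus_singleton]
    simpa using hx

/-- the complement of an effective Cartier divisor is scheme-theoretically dense -/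
theorem isSchemeTheoreticallyDominant_interior {Z : Scheme.{u}} (K : Z.IdealSheafData)
    (hK : BlowUp.IsEffCartierIdeal K) :
    IsSchemeTheoreticallyDominant (ModPair.interior K).ι := by
  set O := ModPair.interior K with hO
  haveI hqc : QuasiCompact O.ι := Groth.Agent.S18732.quasiCompact_ι K hK (𝟙 Z)
  rw [isSchemeTheoreticallyDominant_iff]
  let J : Type u := {U : Z.affineOpens // ∃ a : Γ(Z, U.1), a ∈ nonZeroDivisors Γ(Z, U.1) ∧
    K.ideal U = Ideal.span {a}}
  apply Scheme.IdealSheafData.ext_of_iSup_eq_top (fun j : J => j.1)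
  · rw [eq_top_iff]
    intro x _
    obtain ⟨U, hxU, a, ha0, ha⟩ := hK x
    exact TopologicalSpace.Opens.mem_iSup.mpr ⟨⟨U, a, ha0, ha⟩, hxU⟩
  · rintro ⟨U, a, ha0, ha⟩
    simp only [Scheme.Hom.ker_apply, Scheme.IdealSheafData.ideal_bot, Pi.bot_apply]
    rw [eq_bot_iff]
    intro z hz
    rw [RingHom.mem_ker] at hz
    rw [Ideal.mem_bot]
    have h1 := interior_inf_eq_basicOpen K U a ha
    have hle : Z.basicOpen a ≤ O.ι ''ᵁ O.ι ⁻¹ᵁ U.1 := by
      rw [← h1]
      rintro t ⟨ht1, ht2⟩
      exact ⟨⟨t, ht1⟩, ht2, rfl⟩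
    -- restriction of `z` to the basic open of `a` vanishes
    haveI := U.2.isLocalization_basicOpen a
    have hD' : O.ι ''ᵁ O.ι ⁻¹ᵁ U.1 ≤ U.1 := Set.image_preimage_subset _ _
    have hz' : (Z.presheaf.map (homOfLE hD').op).hom z = 0 := hz
    have h2 : algebraMap Γ(Z, U.1) Γ(Z, Z.basicOpen a) z = 0 := by
      have h3 : (Z.presheaf.map (homOfLE (Z.basicOpen_le a)).op) =
          Z.presheaf.map (homOfLE hD').op ≫ Z.presheaf.map (homOfLE hle).op := by
        rw [← Functor.map_comp]
        rfl
      show (Z.presheaf.map (homOfLE (Z.basicOpen_le a)).op).hom z = 0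
      rw [h3, CommRingCat.hom_comp, RingHom.comp_apply, hz', map_zero]
    obtain ⟨⟨_, m, rfl⟩, hm⟩ := (IsLocalization.map_eq_zero_iff (Submonoid.powers a)
      Γ(Z, Z.basicOpen a) _).mp h2
    simp only at hm
    have ham : a ^ m ∈ nonZeroDivisors Γ(Z, U.1) := pow_mem ha0 m
    exact (mem_nonZeroDivisors_iff_right.mp ham) z (by rw [mul_comm]; exact hm)

theorem interior_comap {X Y : Scheme.{u}} (g : X ⟶ Y) (K : Y.IdealSheafData) :
    ModPair.interior (K.comap g) = g ⁻¹ᵁ ModPair.interior K := by
  ext x
  show x ∉ (K.comap g).support ↔ g x ∉ K.support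
  rw [Scheme.IdealSheafData.support_comap]
  rfl

/-- Let (S, I_S), (T, I_T), (X, I_X) be schemes equipped with quasi-coherent ideal sheaves of effective
Cartier divisors, p : X ⟶ S a morphism with the modulus condition I_X ≤ I_S.comap p, and f : T ⟶ S a
minimal morphism (I_T = I_S.comap f) which is flat. Then the ambient product of (T, I_T) and (X,
I_X) over (S, I_S) has total space all of X ×_S T with modulus pulled back from X: the open
pr₁⁻¹(X°) ∩ pr₂⁻¹(T°) (X°, T° the complements of the supports) is scheme-theoretically dominant in X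
×_S T, the closed immersion of its scheme-theoretic image is an isomorphism, and I_X.comap pr₁ is
the ideal sheaf of an effective Cartier divisor. -/
theorem result {S T X : Scheme.{u}} (IS : S.IdealSheafData)
    (IT : T.IdealSheafData) (IX : X.IdealSheafData) (hS : BlowUp.IsEffCartierIdeal IS)
    (hT : BlowUp.IsEffCartierIdeal IT) (hX : BlowUp.IsEffCartierIdeal IX)
    (p : X ⟶ S) (hp : ModPair.IsAmbient IX IS p) (f : T ⟶ S) (hf : ModPair.IsMinimal IT IS f) [Flat f] :
    IsSchemeTheoreticallyDominant (ModPair.prodInterior p f IX IT).ι ∧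
      IsIso (ModPair.mprodι p f IX IT) ∧
      BlowUp.IsEffCartierIdeal (IX.comap (pullback.fst p f)) := by
  have hc : BlowUp.IsEffCartierIdeal (IX.comap (pullback.fst p f)) :=
    Groth.Agent.S10855.result (pullback.fst p f) IX hX
  have hle : ModPair.interior IX ≤ p ⁻¹ᵁ ModPair.interior IS := by
    rw [← interior_comap]
    intro x hx
    have hx' : x ∉ IX.support := hx
    show x ∉ (IS.comap p).support
    exact fun h => hx' (Scheme.IdealSheafData.support_antitone hp h)
  have heq : ModPair.prodInterior p f IX IT = ModPair.interior (IX.comap (pullback.fst p f)) := by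
    rw [interior_comap]
    unfold ModPair.prodInterior
    rw [inf_eq_left]
    have hIT : IT = IS.comap f := hf
    rw [hIT, interior_comap, ← Scheme.Hom.comp_preimage, ← pullback.condition,
      Scheme.Hom.comp_preimage]
    exact (pullback.fst p f).preimage_mono hle
  have ha : IsSchemeTheoreticallyDominant (ModPair.prodInterior p f IX IT).ι := by
    rw [heq]
    exact isSchemeTheoreticallyDominant_interior _ hc
  refine ⟨ha, ?_, hc⟩
  show IsIso (ModPair.prodInterior p f IX IT).ι.ker.subschemeι
  rw [Scheme.isIso_subschemeι_iff_eq_bot]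
  exact ha.ker_eq_bot

end Groth.Agent.S18743
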