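import Groth.Statements.S17887
import Mathlib
import Groth.Agent.S18743

set_option autoImplicit false
universe u
open CategoryTheory AlgebraicGeometry
open BlowUp

namespace Groth.Agent.S17887

theorem isEffCartierIdeal_top {Y : Scheme.{u}} : BlowUp.IsEffCartierIdeal (⊤ : Y.IdealSheafData) := by
  intro x
  obtain ⟨_, ⟨U, hU, rfl⟩, hxU, -⟩ := Y.isBasis_affineOpens.exists_subset_of_mem_open
    (Set.mem_univ x) isOpen_univ
  refine ⟨⟨U, hU⟩, hxU, 1, one_mem _, ?_⟩
  simp [Ideal.span_singleton_one]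

/-- pulling back an ideal sheaf along a morphism missing its support gives an effective Cartier
ideal (namely `⊤`) -/
theorem isEffCartierIdeal_comap_of_disjoint {X Y : Scheme.{u}} (𝓘 : X.IdealSheafData) (g : Y ⟶ X)
    (hg : ∀ y : Y, g y ∉ 𝓘.support) : BlowUp.IsEffCartierIdeal (𝓘.comap g) := by
  have : 𝓘.comap g = ⊤ := by
    rw [← Scheme.IdealSheafData.support_eq_bot_iff, Scheme.IdealSheafData.support_comap]
    ext y
    simp only [TopologicalSpace.Closeds.coe_preimage, Set.mem_preimage, SetLike.mem_coe,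
      TopologicalSpace.Closeds.coe_bot, Set.mem_empty_iff_false, iff_false]
    exact hg y
  rw [this]
  exact isEffCartierIdeal_top

/-- a blow-up is an isomorphism away from the centre: the canonical section -/
theorem exists_section_of_isBlowUp {X X' : Scheme.{u}} (𝓘 : X.IdealSheafData) (π : X' ⟶ X)
    (hπ : BlowUp.IsBlowUp π 𝓘) :
    ∃ h : (ModPair.interior 𝓘 : X.Opens).toScheme ⟶ X', h ≫ π = (ModPair.interior 𝓘).ι ∧
      IsOpenImmersion h ∧ Set.range h = (π ⁻¹ᵁ ModPair.interior 𝓘 : Set X') ∧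
      ((π ∣_ ModPair.interior 𝓘) ≫ h = (π ⁻¹ᵁ ModPair.interior 𝓘).ι) := by
  set W := ModPair.interior 𝓘 with hW
  have hWι : BlowUp.IsEffCartierIdeal (𝓘.comap W.ι) :=
    isEffCartierIdeal_comap_of_disjoint 𝓘 W.ι (fun y => y.2)
  obtain ⟨h, hh, -⟩ := hπ.2 _ W.ι hWι
  have hh : h ≫ π = W.ι := hh
  have hg₂ : BlowUp.IsEffCartierIdeal (𝓘.comap ((π ⁻¹ᵁ W).ι ≫ π)) :=
    isEffCartierIdeal_comap_of_disjoint 𝓘 _ (fun y => y.2)
  obtain ⟨h₂, -, hh₂⟩ := hπ.2 _ ((π ⁻¹ᵁ W).ι ≫ π) hg₂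
  have hr : (π ∣_ W) ≫ h = (π ⁻¹ᵁ W).ι := by
    have e1 : (π ∣_ W) ≫ h = h₂ := hh₂ _ (by
      show ((π ∣_ W) ≫ h) ≫ π = _
      rw [Category.assoc, hh, morphismRestrict_ι])
    have e2 : (π ⁻¹ᵁ W).ι = h₂ := hh₂ _ rfl
    rw [e1, e2]
  have hrange : Set.range h ⊆ Set.range (π ⁻¹ᵁ W).ι := by
    rw [Scheme.Opens.range_ι]
    rintro _ ⟨w, rfl⟩
    show π (h w) ∈ W
    rw [← Scheme.Hom.comp_apply, hh]
    exact w.2
  let r' : W.toScheme ⟶ (π ⁻¹ᵁ W).toScheme := IsOpenImmersion.lift (π ⁻¹ᵁ W).ι h hrange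
  have hr' : r' ≫ (π ⁻¹ᵁ W).ι = h := IsOpenImmersion.lift_fac _ _ _
  have h1 : r' ≫ (π ∣_ W) = 𝟙 _ := by
    rw [← cancel_mono W.ι, Category.assoc, morphismRestrict_ι, ← Category.assoc, hr', hh,
      Category.id_comp]
  have h2 : (π ∣_ W) ≫ r' = 𝟙 _ := by
    rw [← cancel_mono (π ⁻¹ᵁ W).ι, Category.assoc, hr', hr, Category.id_comp]
  haveI : IsIso r' := ⟨π ∣_ W, h1, h2⟩
  have hopen : IsOpenImmersion h := by
    rw [← hr']
    infer_instance
  refine ⟨h, hh, hopen, ?_, hr⟩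
  rw [← hr', Scheme.Hom.comp_base, TopCat.coe_comp, Set.range_comp,
    Set.range_eq_univ.mpr (ConcreteCategory.bijective_of_isIso r'.base).2, Set.image_univ,
    Scheme.Opens.range_ι]

/-- Let X be a Noetherian scheme, U ⊆ X an open subscheme that is schematically dense in X, I a
quasi-coherent ideal sheaf on X whose support does not meet U, and π : X' → X a blowing-up of X
along I. Then π⁻¹(U) is schematically dense in X'. -/
theorem result {X X' : Scheme.{u}} [IsNoetherian X]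
    (U : X.Opens) [IsSchemeTheoreticallyDominant U.ι] (𝓘 : X.IdealSheafData)
    (hU : Disjoint (𝓘.support : Set X) (U : Set X)) (π : X' ⟶ X) (hπ : BlowUp.IsBlowUp π 𝓘) :
    IsSchemeTheoreticallyDominant (π ⁻¹ᵁ U).ι := by
  set W := ModPair.interior 𝓘 with hW
  obtain ⟨h, hh, hopen, hrange, hr⟩ := exists_section_of_isBlowUp 𝓘 π hπ
  haveI := hopen
  have hUW : U ≤ W := by
    intro x hx hx'
    exact (Set.disjoint_left.mp hU) hx' hx
  -- `h` is scheme-theoretically dominant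
  have hO : IsSchemeTheoreticallyDominant (π ⁻¹ᵁ W).ι := by
    have := Groth.Agent.S18743.isSchemeTheoreticallyDominant_interior (𝓘.comap π) hπ.1
    rwa [Groth.Agent.S18743.interior_comap] at this
  have hrange' : Set.range (π ⁻¹ᵁ W).ι ⊆ Set.range h := by
    rw [hrange, Scheme.Opens.range_ι]
  have hhdom : IsSchemeTheoreticallyDominant h := by
    have e : IsOpenImmersion.lift h (π ⁻¹ᵁ W).ι hrange' ≫ h = (π ⁻¹ᵁ W).ι :=
      IsOpenImmersion.lift_fac _ _ _
    -- the lift is an isomorphism since the ranges agree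
    have hrange'' : Set.range h = Set.range (π ⁻¹ᵁ W).ι := by
      rw [hrange, Scheme.Opens.range_ι]
    have e' : (IsOpenImmersion.isoOfRangeEq h (π ⁻¹ᵁ W).ι hrange'').hom ≫ (π ⁻¹ᵁ W).ι = h :=
      IsOpenImmersion.isoOfRangeEq_hom_fac _ _ _
    rw [← e']
    infer_instance
  -- `U → W` is scheme-theoretically dominant
  have hUWr : Set.range U.ι ⊆ Set.range W.ι := by
    rw [Scheme.Opens.range_ι, Scheme.Opens.range_ι]
    exact hUW
  have hjU : IsSchemeTheoreticallyDominant (IsOpenImmersion.lift W.ι U.ι hUWr) :=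
    IsSchemeTheoreticallyDominant.of_isPullback (IsOpenImmersion.isPullback_lift_id _ _ hUWr).flip
  let j : U.toScheme ⟶ X' := IsOpenImmersion.lift W.ι U.ι hUWr ≫ h
  haveI : IsSchemeTheoreticallyDominant j := inferInstance
  have hjπ : j ≫ π = U.ι := by
    show (IsOpenImmersion.lift W.ι U.ι hUWr ≫ h) ≫ π = U.ι
    rw [Category.assoc, hh, IsOpenImmersion.lift_fac]
  have hjrange : Set.range j = Set.range (π ⁻¹ᵁ U).ι := by
    rw [Scheme.Opens.range_ι]
    apply Set.Subset.antisymm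
    · rintro _ ⟨u, rfl⟩
      show π (j u) ∈ U
      rw [← Scheme.Hom.comp_apply, hjπ]
      exact u.2
    · intro x' hx'
      have hx'U : π x' ∈ U := hx'
      have hx'W : x' ∈ (π ⁻¹ᵁ W : Set X') := hUW hx'U
      rw [← hrange] at hx'W
      obtain ⟨w, rfl⟩ := hx'W
      have hw : (h ≫ π) w ∈ U := by rw [Scheme.Hom.comp_apply]; exact hx'U
      rw [hh] at hw
      -- `w ∈ U`, so it comes from `U`
      refine ⟨⟨w.1, hw⟩, ?_⟩
      show h ((IsOpenImmersion.lift W.ι U.ι hUWr) ⟨w.1, hw⟩) = h w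
      congr 1
      apply W.ι.isOpenEmbedding.injective
      have e3 : ∀ (φ : U.toScheme ⟶ X), φ = U.ι → ∀ t : U.toScheme, φ t = U.ι t := by
        rintro φ rfl t; rfl
      exact e3 _ (IsOpenImmersion.lift_fac W.ι U.ι hUWr) ⟨w.1, hw⟩
  have e' : (IsOpenImmersion.isoOfRangeEq j (π ⁻¹ᵁ U).ι hjrange).inv ≫ j = (π ⁻¹ᵁ U).ι :=
    IsOpenImmersion.isoOfRangeEq_inv_fac _ _ _
  rw [← e']
  infer_instance

end Groth.Agent.S17887
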