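import Groth.Statements.S17889
import Groth.Agent.Lib.Helper2BlowSep

set_option autoImplicit false
universe u
open CategoryTheory AlgebraicGeometry TopologicalSpace
open BlowUp

namespace Groth.Agent.S17889

/-- Let X be a Noetherian scheme, X₀ ⊆ X an open subscheme, p : Z → X a morphism of finite type with Z
Noetherian, and F ⊆ X, G ⊆ Z closed subsets with p⁻¹(F ∩ X₀) ∩ G = ∅. Let a be a quasi-coherent
ideal sheaf on X whose support does not meet X₀, which contains the vanishing ideal I_F of F, and
which is contained in the kernel ideal of V(I_F·O_Z + I_G) → Z → X (the ideal of the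
scheme-theoretic image under p of p⁻¹(F) ∩ G). Let π : X' → X be a blowing-up along a, Z' = Z ×_X X'
with projections π' : Z' → Z and p' : Z' → X'. Then p'⁻¹ of the closure in X' of π⁻¹(F ∩ X₀) is
disjoint from the closure in Z' of π'⁻¹(G ∩ p⁻¹(X₀)). Taking a to be that kernel ideal shows such an
a exists. -/
theorem result
    {X Z : Scheme.{u}} [IsNoetherian X] [IsNoetherian Z] (p : Z ⟶ X) [LocallyOfFiniteType p]
    (X₀ : X.Opens) (F : Closeds X) (G : Closeds Z)
    (hFG : p.base ⁻¹' ((F : Set X) ∩ (X₀ : Set X)) ∩ (G : Set Z) = ∅)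
    (𝔞 : X.IdealSheafData) (h₁ : Disjoint (𝔞.support : Set X) (X₀ : Set X))
    (h₂ : Scheme.IdealSheafData.vanishingIdeal F ≤ 𝔞)
    (h₃ : 𝔞 ≤ (((Scheme.IdealSheafData.vanishingIdeal F).comap p ⊔
      Scheme.IdealSheafData.vanishingIdeal G).subschemeι ≫ p).ker)
    {X' : Scheme.{u}} (π : X' ⟶ X) (hπ : BlowUp.IsBlowUp π 𝔞) :
    (Limits.pullback.snd p π).base ⁻¹' closure (π.base ⁻¹' ((F : Set X) ∩ (X₀ : Set X))) ∩
      closure ((Limits.pullback.fst p π).base ⁻¹' ((G : Set Z) ∩ (p ⁻¹ᵁ X₀ : Set Z))) = ∅ := by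
  have h₃' : 𝔞.comap p ≤ (Scheme.IdealSheafData.vanishingIdeal F).comap p ⊔
      Scheme.IdealSheafData.vanishingIdeal G :=
    Scheme.IdealSheafData.le_map_iff_comap_le.mp h₃
  have key := Groth.Agent.Lib.Helper2.BlowSep.disjoint_preimage_closure_closure
    (Limits.pullback.snd p π) (𝔞.comap π)
    ((Scheme.IdealSheafData.vanishingIdeal F).comap π)
    ((Scheme.IdealSheafData.vanishingIdeal G).comap (Limits.pullback.fst p π)) hπ.1
    (Scheme.IdealSheafData.comap_mono π h₂) ?h
    (π.base ⁻¹' ((F : Set X) ∩ (X₀ : Set X)))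
    ((Limits.pullback.fst p π).base ⁻¹' ((G : Set Z) ∩ (p ⁻¹ᵁ X₀ : Set Z))) ?hSK ?hSE ?hTN ?hTE
  · exact Set.disjoint_iff_inter_eq_empty.mp key
  case h =>
    rw [← Scheme.IdealSheafData.comap_comp, ← Scheme.IdealSheafData.comap_comp,
      ← Limits.pullback.condition, Scheme.IdealSheafData.comap_comp, Scheme.IdealSheafData.comap_comp,
      ← Scheme.IdealSheafData.comap_sup]
    exact Scheme.IdealSheafData.comap_mono _ h₃'
  case hSK =>
    intro y hy
    rw [Scheme.IdealSheafData.support_comap]
    have : π y ∈ ((Scheme.IdealSheafData.vanishingIdeal F).support : Set X) := by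
      rw [Scheme.IdealSheafData.coe_support_vanishingIdeal]
      exact hy.1
    exact this
  case hSE =>
    rw [Set.disjoint_left]
    intro y hy hyE
    rw [Scheme.IdealSheafData.support_comap] at hyE
    exact Set.disjoint_left.mp h₁ hyE hy.2
  case hTN =>
    intro w hw
    rw [Scheme.IdealSheafData.support_comap]
    have : Limits.pullback.fst p π w ∈ ((Scheme.IdealSheafData.vanishingIdeal G).support : Set Z) := by
      rw [Scheme.IdealSheafData.coe_support_vanishingIdeal]
      exact hw.1
    exact this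
  case hTE =>
    intro w hw hwE
    rw [Scheme.IdealSheafData.support_comap] at hwE
    have h1 : π (Limits.pullback.snd p π w) = p (Limits.pullback.fst p π w) := by
      rw [← Scheme.Hom.comp_apply, ← Scheme.Hom.comp_apply, Limits.pullback.condition]
    have h2 : p (Limits.pullback.fst p π w) ∈ X₀ := hw.2
    exact Set.disjoint_left.mp h₁ hwE (h1 ▸ h2)

end Groth.Agent.S17889
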