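import Groth.Statements.S17898
-- import your own Groth.Agent.* helpers here
import Mathlib
import Groth.Agent.S19892
import Groth.Agent.Lib.Helper10ValSq

set_option autoImplicit false
universe u
open CategoryTheory AlgebraicGeometry
open ValCrit

namespace Groth.Agent.S17898

open IsLocalRing Groth.Agent.S19892

/-- Let f : Y → X be a morphism of schemes (not assumed separated), K a field with valuation rings R ⊆
R' (inclusion ι), i : Spec K → Y and φ : Spec R → X a commutative square over f, and g : Spec R' → Y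
a lift of Spec R' → Spec R → X restricting to i on Spec K. Let K̃ be the residue field of R', R̃ ⊆
K̃ the image of R (a valuation ring of K̃) with the surjection σ : R → R̃. Then every h̃ : Spec R̃ →
Y whose restriction to Spec K̃ is Spec K̃ → Spec R' → Y (via g) and which lies over Spec R̃ → Spec R
→ X is induced by a unique h : Spec R → Y compatible with the whole diagram: h restricts to i on
Spec K, lies over φ, restricts to g along Spec R' → Spec R and to h̃ along Spec R̃ → Spec R. (ι, R̃,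
σ are given as data pinned by their defining equations.) -/
theorem result {X Y : Scheme.{u}} (f : Y ⟶ X)
    (K : Type u) [Field K] (R R' : ValuationSubring K) (hRR' : R ≤ R')
    (ι : ↥R →+* ↥R') (hι : ∀ x : ↥R, ((ι x : ↥R') : K) = (x : K))
    (i : Spec (CommRingCat.of K) ⟶ Y) (φ : Spec (CommRingCat.of ↥R) ⟶ X)
    (w : Spec.map (CommRingCat.ofHom R.subtype) ≫ φ = i ≫ f)
    (g : Spec (CommRingCat.of ↥R') ⟶ Y) (hg₁ : Spec.map (CommRingCat.ofHom R'.subtype) ≫ g = i)
    (hg₂ : g ≫ f = Spec.map (CommRingCat.ofHom ι) ≫ φ)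
    (Rt : ValuationSubring (IsLocalRing.ResidueField ↥R')) (σ : ↥R →+* ↥Rt) (hσs : Function.Surjective σ)
    (hσ : ∀ x : ↥R, ((σ x : ↥Rt) : IsLocalRing.ResidueField ↥R') = IsLocalRing.residue ↥R' (ι x))
    (ht : Spec (CommRingCat.of ↥Rt) ⟶ Y)
    (hht₁ : Spec.map (CommRingCat.ofHom Rt.subtype) ≫ ht =
      Spec.map (CommRingCat.ofHom (IsLocalRing.residue ↥R')) ≫ g)
    (hht₂ : ht ≫ f = Spec.map (CommRingCat.ofHom σ) ≫ φ) :
    ∃! h : Spec (CommRingCat.of ↥R) ⟶ Y, Spec.map (CommRingCat.ofHom R.subtype) ≫ h = i ∧ h ≫ f = φ ∧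
      Spec.map (CommRingCat.ofHom ι) ≫ h = g ∧ Spec.map (CommRingCat.ofHom σ) ≫ h = ht := by
  classical
  have hsubRR' : CommRingCat.ofHom R.subtype =
      CommRingCat.ofHom ι ≫ CommRingCat.ofHom R'.subtype := by
    ext a
    exact (hι a).symm
  -- σ is a local homomorphism, so it maps the closed point to the closed point
  have hσloc : IsLocalHom σ := IsLocalHom.of_surjective σ hσs
  have hσcl : Spec.map (CommRingCat.ofHom σ) (closedPoint ↥Rt) = closedPoint ↥R :=
    comap_closedPoint σ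
  set y₀ : Y := ht (closedPoint ↥Rt) with hy₀
  let ε : Y.presheaf.stalk y₀ ⟶ CommRingCat.of ↥Rt := Scheme.stalkClosedPointTo ht
  have hε : Spec.map ε ≫ Y.fromSpecStalk y₀ = ht := Scheme.Spec_stalkClosedPointTo_fromSpecStalk ht
  -- g factors through Spec 𝒪_{Y,y₀}
  have hgspec : g (closedPoint ↥R') ⤳ y₀ := by
    have h1 : g (closedPoint ↥R') = ht (Spec.map (CommRingCat.ofHom Rt.subtype)
        (closedPoint (IsLocalRing.ResidueField ↥R'))) := by
      change _ = (Spec.map (CommRingCat.ofHom Rt.subtype) ≫ ht) _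
      rw [hht₁]
      change _ = g (Spec.map (CommRingCat.ofHom (IsLocalRing.residue ↥R')) _)
      congr 1
      exact (comap_closedPoint (IsLocalRing.residue ↥R')).symm
    rw [h1]
    exact (specializes_closedPoint (R := ↥Rt) _).map ht.continuous
  obtain ⟨β', hβ'⟩ := Groth.Agent.Lib.Helper10.ValSq.exists_factor_fromSpecStalk
    (S := CommRingCat.of ↥R') g y₀ hgspec
  have hcompat : β' ≫ CommRingCat.ofHom (IsLocalRing.residue ↥R') =
      ε ≫ CommRingCat.ofHom Rt.subtype := by
    apply Spec.map_injective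
    rw [← cancel_mono (Y.fromSpecStalk y₀), Spec.map_comp, Spec.map_comp, Category.assoc,
      Category.assoc, ← hβ', hε, hht₁]
  -- the maximal ideal of R' is contained in R
  have hmR' : ∀ t : ↥R', ¬ IsUnit t → (t : K) ∈ R := by
    intro t htu
    by_cases h0 : (t : K) = 0
    · rw [h0]; exact zero_mem _
    rcases R.mem_or_inv_mem (t : K) with h1 | h1
    · exact h1
    · exfalso
      apply htu
      refine IsUnit.of_mul_eq_one (⟨(t : K)⁻¹, hRR' h1⟩ : ↥R') ?_
      ext
      change (t : K) * (t : K)⁻¹ = 1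
      exact mul_inv_cancel₀ h0
  have hδmem : ∀ a : Y.presheaf.stalk y₀, ((β'.hom a : ↥R') : K) ∈ R := by
    intro a
    obtain ⟨r, hr⟩ := hσs (ε.hom a)
    have h1 : IsLocalRing.residue ↥R' (β'.hom a) = IsLocalRing.residue ↥R' (ι r) := by
      have := congrArg (fun m => m.hom a) hcompat
      change IsLocalRing.residue ↥R' (β'.hom a) = ((ε.hom a : ↥Rt) : IsLocalRing.ResidueField ↥R')
        at this
      rw [this, ← hr, hσ]
    have h2 : ¬ IsUnit (β'.hom a - ι r) := by
      rw [← mem_nonunits_iff, ← IsLocalRing.mem_maximalIdeal, ← IsLocalRing.residue_eq_zero_iff,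
        map_sub, h1, sub_self]
    have h3 := hmR' _ h2
    have h4 : ((β'.hom a : ↥R') : K) = ((β'.hom a - ι r : ↥R') : K) + (r : K) := by
      rw [← hι r]; push_cast; ring
    rw [h4]
    exact add_mem h3 r.2
  let δ : Y.presheaf.stalk y₀ ⟶ CommRingCat.of ↥R :=
    CommRingCat.ofHom ((R'.subtype.comp β'.hom).codRestrict R.toSubring hδmem)
  have hδι : δ ≫ CommRingCat.ofHom ι = β' := by
    ext a
    exact hι _
  have hδσ : δ ≫ CommRingCat.ofHom σ = ε := by
    ext a
    change ((σ (δ.hom a) : ↥Rt) : IsLocalRing.ResidueField ↥R') = _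
    rw [hσ]
    have h1 := congrArg (fun m => m.hom a) hδι
    change ι (δ.hom a) = β'.hom a at h1
    rw [h1]
    have := congrArg (fun m => m.hom a) hcompat
    exact this
  let hh : Spec (CommRingCat.of ↥R) ⟶ Y := Spec.map δ ≫ Y.fromSpecStalk y₀
  have hh3 : Spec.map (CommRingCat.ofHom ι) ≫ hh = g := by
    rw [hβ', ← hδι, Spec.map_comp, Category.assoc]
  have hh4 : Spec.map (CommRingCat.ofHom σ) ≫ hh = ht := by
    rw [← hε, ← hδσ, Spec.map_comp, Category.assoc]
  have hh1 : Spec.map (CommRingCat.ofHom R.subtype) ≫ hh = i := by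
    rw [hsubRR', Spec.map_comp, Category.assoc, hh3, hg₁]
  -- general principle
  have hfact : ∀ h' : Spec (CommRingCat.of ↥R) ⟶ Y,
      Spec.map (CommRingCat.ofHom σ) ≫ h' = ht →
      ∃ θ : Y.presheaf.stalk y₀ ⟶ CommRingCat.of ↥R, h' = Spec.map θ ≫ Y.fromSpecStalk y₀ := by
    intro h' h4
    apply Groth.Agent.Lib.Helper10.ValSq.exists_factor_fromSpecStalk (S := CommRingCat.of ↥R)
    have : h' (closedPoint ↥R) = y₀ := by
      rw [hy₀, ← h4, ← hσcl]; rfl
    rw [this]
  set s : X := φ (closedPoint ↥R) with hs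
  have hh2 : hh ≫ f = φ := by
    have hcl : (hh ≫ f) (closedPoint ↥R) = s := by
      have h1 : hh (closedPoint ↥R) = y₀ := by
        rw [hy₀, ← hh4, ← hσcl]; rfl
      change f (hh (closedPoint ↥R)) = s
      rw [h1, hy₀]
      change (ht ≫ f) (closedPoint ↥Rt) = s
      rw [hht₂]
      change φ (Spec.map (CommRingCat.ofHom σ) (closedPoint ↥Rt)) = s
      rw [hσcl]
    obtain ⟨θ, hθ⟩ := Groth.Agent.Lib.Helper10.ValSq.exists_factor_fromSpecStalk
      (S := CommRingCat.of ↥R) (hh ≫ f) s (by rw [hcl])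
    refine eq_of_factor_mono (X.fromSpecStalk s) ↥R K (hh ≫ f) φ θ
      (Scheme.stalkClosedPointTo φ) hθ (Scheme.Spec_stalkClosedPointTo_fromSpecStalk φ).symm ?_
    change Spec.map (CommRingCat.ofHom R.subtype) ≫ hh ≫ f =
      Spec.map (CommRingCat.ofHom R.subtype) ≫ φ
    rw [← Category.assoc, hh1, w]
  refine ⟨hh, ⟨hh1, hh2, hh3, hh4⟩, ?_⟩
  rintro h' ⟨h1, h2, h3, h4⟩
  obtain ⟨θ', hθ'⟩ := hfact h' h4
  refine eq_of_factor_mono (Y.fromSpecStalk y₀) ↥R K h' hh θ' δ hθ' rfl ?_
  change Spec.map (CommRingCat.ofHom R.subtype) ≫ h' = Spec.map (CommRingCat.ofHom R.subtype) ≫ hh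
  rw [h1, hh1]

end Groth.Agent.S17898
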