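import Groth.Statements.S17899
import Groth.Agent.Lib.Helper28SemiVal

set_option autoImplicit false
universe u
open TensorProduct
open CAlg

namespace Groth.Agent.S17899

/-- Let A be a local ring with residue field K, R a valuation ring of K and O ⊆ A the preimage of R
under A → K (so O is a semi-valuation ring with semi-fraction ring A, S = Spec O is glued from U =
Spec A and T = Spec R). Let C be an O-algebra of finite type which is U-admissible (C → A ⊗_O C
injective) and such that A ⊗_O C is flat and of finite presentation over A. Then C is flat and of
finite presentation over O. (The published assertion is more general: the base may be any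
quasi-compact quasi-separated U-admissible scheme over Spec O, and the scheme over it any
quasi-compact quasi-separated admissible scheme. This row is the case of an affine scheme over Spec
O itself, the case in which the published proof carries out its argument.) -/
theorem result
    (A : Type u) [CommRing A] [IsLocalRing A] (R : ValuationSubring (IsLocalRing.ResidueField A))
    (O : Subring A) (hO : O = R.toSubring.comap (IsLocalRing.residue A))
    (C : Type u) [CommRing C] [Algebra ↥O C] [Algebra.FiniteType ↥O C]
    (hadm : Function.Injective (Algebra.TensorProduct.includeRight : C →ₐ[↥O] A ⊗[↥O] C))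
    (hflat : Module.Flat A (A ⊗[↥O] C)) (hfp : Algebra.FinitePresentation A (A ⊗[↥O] C)) :
    Module.Flat ↥O C ∧ Algebra.FinitePresentation ↥O C := by
  have h1 : ∀ a ∈ IsLocalRing.maximalIdeal A, a ∈ O := by
    intro a ha
    rw [hO, Subring.mem_comap]
    have : IsLocalRing.residue A a = 0 := (IsLocalRing.residue_eq_zero_iff a).mpr ha
    rw [this]
    exact zero_mem _
  have h2 : ∀ a : A, a ∈ O ∨ ∃ b ∈ O, a * b = 1 := by
    intro a
    by_cases ha : a ∈ IsLocalRing.maximalIdeal A
    · exact Or.inl (h1 a ha)
    · have hau : IsUnit a := by
        rw [IsLocalRing.mem_maximalIdeal, mem_nonunits_iff, not_not] at ha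
        exact ha
      obtain ⟨b, hab⟩ := hau.exists_right_inv
      rcases R.mem_or_inv_mem (IsLocalRing.residue A a) with h | h
      · left
        rw [hO, Subring.mem_comap]
        exact h
      · right
        refine ⟨b, ?_, hab⟩
        rw [hO, Subring.mem_comap]
        have h3 : IsLocalRing.residue A a * IsLocalRing.residue A b = 1 := by
          rw [← map_mul, hab, map_one]
        have h4 : IsLocalRing.residue A b = (IsLocalRing.residue A a)⁻¹ :=
          eq_inv_of_mul_eq_one_right h3
        rw [h4]
        exact h
  haveI := hflat
  haveI := hfp
  exact ⟨Groth.Agent.Lib.Helper28.SemiVal.flat_of_admissible O h1 h2 C hadm,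
    Groth.Agent.Lib.Helper28.SemiVal.finitePresentation_of_admissible O h1 h2 C hadm⟩

end Groth.Agent.S17899
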