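import Groth.Statements.S17902
import Mathlib

set_option autoImplicit false
universe u
open CAlg

namespace Groth.Agent.S17902

section pieceA

variable {A : Type u} [CommRing A] {M : Type u} [AddCommGroup M] [Module A M] {n : ℕ}

/-- the map attached to a family -/
noncomputable def lmap (s : Fin n → M) : (Fin n → A) →ₗ[A] M := Fintype.linearCombination A s

lemma lmap_apply (s : Fin n → M) (v : Fin n → A) : lmap s v = ∑ j, v j • s j := by
  simp [lmap, Fintype.linearCombination_apply]

variable (s : Fin n → M) (g : A)
  (hbij : Function.Bijective (LocalizedModule.map (Submonoid.powers g) (lmap s)))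

include hbij in
lemma exists_pow_smul_eq (m : M) : ∃ (k : ℕ) (v : Fin n → A), g ^ k • m = lmap s v := by
  obtain ⟨x, hx⟩ := hbij.2 (LocalizedModule.mk m 1)
  induction x using LocalizedModule.induction_on with
  | _ v t =>
    rw [LocalizedModule.map_mk, LocalizedModule.mk_eq] at hx
    obtain ⟨u, hu⟩ := hx
    rcases t with ⟨_, k1, rfl⟩
    rcases u with ⟨_, k2, rfl⟩
    refine ⟨k2 + k1, g ^ k2 • v, ?_⟩
    simp only [Submonoid.smul_def, one_smul] at hu
    rw [map_smul, hu, pow_add, mul_smul]

include hbij in
lemma exists_pow_smul_eq_zero (v : Fin n → A) (hv : lmap s v = 0) : ∃ k : ℕ, g ^ k • v = 0 := by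
  have h1 : LocalizedModule.map (Submonoid.powers g) (lmap s) (LocalizedModule.mk v 1) =
      LocalizedModule.map (Submonoid.powers g) (lmap s) 0 := by
    rw [LocalizedModule.map_mk, hv, map_zero, LocalizedModule.zero_mk]
  have h2 := hbij.1 h1
  rw [← LocalizedModule.zero_mk (1 : Submonoid.powers g), LocalizedModule.mk_eq] at h2
  obtain ⟨⟨_, k, rfl⟩, hu⟩ := h2
  refine ⟨k, ?_⟩
  simpa [Submonoid.smul_def] using hu

variable (q : Ideal A) [q.IsPrime] (hgq : g ∉ q)

lemma mk_lmap (v : Fin n → A) :
    LocalizedModule.mkLinearMap q.primeCompl M (lmap s v) =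
      ∑ j, algebraMap A (Localization.AtPrime q) (v j) •
        LocalizedModule.mkLinearMap q.primeCompl M (s j) := by
  rw [lmap_apply, map_sum]
  refine Finset.sum_congr rfl fun j _ => ?_
  rw [map_smul, algebraMap_smul]

include hbij hgq in
lemma span_eq_top_at :
    Submodule.span (Localization.AtPrime q)
      (Set.range fun j => LocalizedModule.mkLinearMap q.primeCompl M (s j)) = ⊤ := by
  rw [eq_top_iff]
  intro x _
  induction x using LocalizedModule.induction_on with
  | _ m t =>
    have hgk : ∀ k : ℕ, g ^ k ∈ q.primeCompl := fun k hk => hgq (Ideal.IsPrime.mem_of_pow_mem ‹_› k hk)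
    obtain ⟨k, v, hkv⟩ := exists_pow_smul_eq s g hbij m
    have h1 : LocalizedModule.mk m t =
        (Localization.mk 1 (⟨g ^ k, hgk k⟩ * t) : Localization.AtPrime q) •
          LocalizedModule.mkLinearMap q.primeCompl M (lmap s v) := by
      rw [LocalizedModule.mkLinearMap_apply, ← hkv, LocalizedModule.mk_smul_mk, one_smul,
        mul_one, LocalizedModule.mk_eq]
      refine ⟨1, ?_⟩
      simp only [one_smul, Submonoid.smul_def, mul_smul]
      rw [smul_comm]
    rw [h1, mk_lmap]
    refine Submodule.smul_mem _ _ (Submodule.sum_mem _ fun j _ => ?_)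
    exact Submodule.smul_mem _ _ (Submodule.subset_span ⟨j, rfl⟩)

include hbij hgq in
lemma linearIndependent_at :
    LinearIndependent (Localization.AtPrime q)
      (fun j => LocalizedModule.mkLinearMap q.primeCompl M (s j)) := by
  rw [Fintype.linearIndependent_iff]
  intro c hc j
  obtain ⟨w, hw⟩ := IsLocalization.exist_integer_multiples q.primeCompl
    (S := Localization.AtPrime q) Finset.univ c
  choose a ha using fun i => hw i (Finset.mem_univ i)
  have h1 : LocalizedModule.mkLinearMap q.primeCompl M (lmap s a) = 0 := by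
    rw [mk_lmap]
    have : ∀ i, algebraMap A (Localization.AtPrime q) (a i) •
        LocalizedModule.mkLinearMap q.primeCompl M (s i) =
        (w : A) • (c i • LocalizedModule.mkLinearMap q.primeCompl M (s i)) := by
      intro i
      rw [ha i, smul_assoc]
    simp only [this]
    rw [← Finset.smul_sum, hc, smul_zero]
  rw [IsLocalizedModule.eq_zero_iff q.primeCompl] at h1
  obtain ⟨u, hu⟩ := h1
  have h2 : lmap s ((u : A) • a) = 0 := by
    rw [map_smul]
    exact hu
  obtain ⟨k, hk⟩ := exists_pow_smul_eq_zero s g hbij _ h2
  have hkj : g ^ k * ((u : A) * a j) = 0 := by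
    have := congrFun hk j
    simpa using this
  have h3 : algebraMap A (Localization.AtPrime q) (a j) = 0 := by
    rw [IsLocalization.map_eq_zero_iff q.primeCompl]
    refine ⟨⟨g ^ k * u, ?_⟩, ?_⟩
    · refine mul_mem (fun hk' => hgq (Ideal.IsPrime.mem_of_pow_mem ‹_› k hk')) u.2
    · simp only
      rw [mul_assoc]
      exact hkj
  rw [ha j] at h3
  have hwu : IsUnit (algebraMap A (Localization.AtPrime q) (w : A)) :=
    IsLocalization.map_units _ w
  rw [Algebra.smul_def] at h3
  exact (hwu.mul_right_eq_zero).mp h3

end pieceA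

section pieceB

open TensorProduct

variable {A : Type u} [CommRing A] (P : Finset (PrimeSpectrum A))

/-- complement of the union of the primes -/
def SS : Submonoid A := ⨅ p ∈ P, p.asIdeal.primeCompl

lemma mem_SS {x : A} : x ∈ SS P ↔ ∀ p ∈ P, x ∉ p.asIdeal := by
  simp [SS, Submonoid.mem_iInf, Ideal.primeCompl]

lemma disjoint_SS {p : PrimeSpectrum A} (hp : p ∈ P) :
    Disjoint (SS P : Set A) (p.asIdeal : Set A) := by
  rw [Set.disjoint_left]
  intro x hx hx'
  exact (mem_SS P).mp hx p hp hx'

lemma exists_le_of_maximal (m : Ideal (Localization (SS P))) [hm : m.IsPrime] :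
    ∃ p ∈ P, m.comap (algebraMap A (Localization (SS P))) ≤ p.asIdeal := by
  classical
  have hsub : ((m.comap (algebraMap A (Localization (SS P))) : Ideal A) : Set A) ⊆
      ⋃ p ∈ (P : Set (PrimeSpectrum A)), (p.asIdeal : Set A) := by
    intro x hx
    by_contra hcon
    have hxS : x ∈ SS P := by
      rw [mem_SS]
      intro p hp hxp
      apply hcon
      simp only [Set.mem_iUnion]
      exact ⟨p, hp, hxp⟩
    have hu : IsUnit (algebraMap A (Localization (SS P)) x) :=
      IsLocalization.map_units _ ⟨x, hxS⟩
    exact hm.ne_top (Ideal.eq_top_of_isUnit_mem _ hx hu)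
  by_cases hne : P.Nonempty
  · obtain ⟨a, ha⟩ := hne
    exact (Ideal.subset_union_prime (s := P) (f := fun p => p.asIdeal) a a
      (fun i _ _ _ => i.isPrime)).mp hsub
  · rw [Finset.not_nonempty_iff_eq_empty] at hne
    subst hne
    have := hsub (Ideal.zero_mem _)
    simp at this

instance finite_maxSpec : Finite (MaximalSpectrum (Localization (SS P))) := by
  classical
  have key : ∀ m : MaximalSpectrum (Localization (SS P)), ∃ p : {p // p ∈ P},
      m.asIdeal = Ideal.map (algebraMap A (Localization (SS P))) p.1.asIdeal := by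
    intro m
    have := m.isMaximal.isPrime
    obtain ⟨p, hp, hle⟩ := exists_le_of_maximal P m.asIdeal
    refine ⟨⟨p, hp⟩, ?_⟩
    have h1 : m.asIdeal ≤ Ideal.map (algebraMap A (Localization (SS P))) p.asIdeal := by
      rw [← IsLocalization.map_under (SS P) (Localization (SS P)) m.asIdeal]
      exact Ideal.map_mono hle
    have h2 : Ideal.map (algebraMap A (Localization (SS P))) p.asIdeal ≠ ⊤ :=
      (IsLocalization.map_algebraMap_ne_top_iff_disjoint (SS P) (Localization (SS P)) _).mpr
        (disjoint_SS P hp)
    exact m.isMaximal.eq_of_le h2 h1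
  choose φ hφ using key
  refine Finite.of_injective φ ?_
  intro m m' h
  apply MaximalSpectrum.ext
  rw [hφ m, hφ m', h]

section rank

variable {M : Type u} [AddCommGroup M] [Module A M] [Module.Finite A M] [Module.Projective A M]
  (n : ℕ)

lemma rank_of_hP (p : PrimeSpectrum A) (g : A) (hg : g ∉ p.asIdeal)
    (b : Module.Basis (Fin n) (Localization.Away g) (LocalizedModule (Submonoid.powers g) M)) :
    Module.rankAtStalk M p = n := by
  have hp : p ∈ Set.range (PrimeSpectrum.comap (algebraMap A (Localization.Away g))) := by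
    rw [PrimeSpectrum.localization_away_comap_range (Localization.Away g) g]
    exact hg
  obtain ⟨p', rfl⟩ := hp
  rw [← Module.rankAtStalk_isBaseChange (IsLocalizedModule.isBaseChange (Submonoid.powers g)
    (Localization.Away g) (LocalizedModule.mkLinearMap (Submonoid.powers g) M)) p']
  have : Module.Free (Localization.Away g) (LocalizedModule (Submonoid.powers g) M) :=
    Module.Free.of_basis b
  have : Nontrivial (Localization.Away g) :=
    ⟨⟨0, 1, fun h => p'.isPrime.ne_top (by
      rw [Ideal.eq_top_iff_one, ← h]; exact zero_mem _)⟩⟩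
  rw [Module.rankAtStalk_eq_finrank_of_free]
  simp [Module.finrank_eq_card_basis b]

lemma finrank_quot_tensor (R : Type u) [CommRing R] (N : Type u) [AddCommGroup N] [Module R N]
    [Module.Finite R N] [Module.Flat R N] (m : Ideal R) [hm : m.IsMaximal] :
    Module.finrank (R ⧸ m) ((R ⧸ m) ⊗[R] N) = Module.rankAtStalk N ⟨m, hm.isPrime⟩ := by
  let _ := Ideal.Quotient.field m
  rw [Module.rankAtStalk_eq]
  let e : m.ResidueField ⊗[R ⧸ m] ((R ⧸ m) ⊗[R] N) ≃ₗ[m.ResidueField] m.ResidueField ⊗[R] N :=
    AlgebraTensorModule.cancelBaseChange R (R ⧸ m) m.ResidueField m.ResidueField N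
  change _ = Module.finrank m.ResidueField (m.ResidueField ⊗[R] N)
  rw [← e.finrank_eq]
  exact (Module.finrank_baseChange (R := m.ResidueField) (S := R ⧸ m)
    (M' := (R ⧸ m) ⊗[R] N)).symm

include P in
lemma rank_SS (hrank : ∀ p ∈ P, Module.rankAtStalk M p = n)
    (m : MaximalSpectrum (Localization (SS P))) :
    Module.finrank (Localization (SS P) ⧸ m.asIdeal)
      ((Localization (SS P) ⧸ m.asIdeal) ⊗[Localization (SS P)] LocalizedModule (SS P) M) = n := by
  have := m.isMaximal
  rw [finrank_quot_tensor]
  rw [Module.rankAtStalk_isBaseChange (IsLocalizedModule.isBaseChange (SS P)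
    (Localization (SS P)) (LocalizedModule.mkLinearMap (SS P) M))]
  have := m.isMaximal.isPrime
  obtain ⟨p, hp, hle⟩ := exists_le_of_maximal P m.asIdeal
  rw [← hrank p hp]
  exact Module.rankAtStalk_eq_of_le_of_finite_of_flat M hle

include P in
lemma exists_family (hrank : ∀ p ∈ P, Module.rankAtStalk M p = n) :
    ∃ (s : Fin n → M) (r : A), r ∈ SS P ∧
      Function.Bijective (LocalizedModule.map (Submonoid.powers r) (lmap s)) := by
  obtain ⟨b⟩ := Module.nonempty_basis_of_flat_of_finrank_eq (Localization (SS P))
    (LocalizedModule (SS P) M) n (rank_SS P n hrank)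
  have hsurj := fun j => IsLocalizedModule.surj (SS P)
    (LocalizedModule.mkLinearMap (SS P) M) (b j)
  choose x hx using hsurj
  let s : Fin n → M := fun j => (x j).1
  let b' := b.isUnitSMul (w := fun j => algebraMap A (Localization (SS P)) (x j).2)
    (fun j => IsLocalization.map_units _ (x j).2)
  have hb' : ∀ j, b' j = LocalizedModule.mkLinearMap (SS P) M (s j) := by
    intro j
    rw [Module.Basis.isUnitSMul_apply, ← hx j, algebraMap_smul]
    rfl
  let fpi : (Fin n → A) →ₗ[A] (Fin n → Localization (SS P)) :=
    LinearMap.pi fun i => Algebra.linearMap A (Localization (SS P)) ∘ₗ LinearMap.proj i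
  have hfpi : IsLocalizedModule (SS P) fpi :=
    IsLocalizedModule.pi (SS P) fun _ : Fin n => Algebra.linearMap A (Localization (SS P))
  let k : (Fin n → Localization (SS P)) →ₗ[A] LocalizedModule (SS P) M :=
    (b'.equivFun.symm.toLinearMap).restrictScalars A
  have hk : IsLocalizedModule.map (SS P) fpi (LocalizedModule.mkLinearMap (SS P) M) (lmap s) = k := by
    apply IsLocalizedModule.ext (SS P) fpi
      (IsLocalizedModule.map_units (LocalizedModule.mkLinearMap (SS P) M))
    rw [IsLocalizedModule.map_comp]
    refine LinearMap.ext fun v => ?_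
    simp only [LinearMap.coe_comp, Function.comp_apply, lmap_apply, map_sum, map_smul, k,
      LinearMap.coe_restrictScalars, LinearEquiv.coe_coe, Module.Basis.equivFun_symm_apply, hb',
      fpi, LinearMap.pi_apply, LinearMap.coe_proj, Function.eval, Algebra.linearMap_apply,
      algebraMap_smul]
  have hbij : Function.Bijective (IsLocalizedModule.map (SS P) fpi
      (LocalizedModule.mkLinearMap (SS P) M) (lmap s)) := by
    rw [hk]
    exact b'.equivFun.symm.bijective
  have : Module.FinitePresentation A M := Module.finitePresentation_of_projective A M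
  obtain ⟨r, hr, h⟩ := exists_bijective_map_powers (SS P) fpi
    (LocalizedModule.mkLinearMap (SS P) M) (lmap s) hbij
  exact ⟨s, r, hr, h r dvd_rfl⟩

end rank

end pieceB


/-- Let A be a commutative ring, M a finitely generated projective A-module, n a natural number and P a
finite set of prime ideals of A such that for every p in P there is g outside p with M_g free of
rank n over A_g. Then there exist n elements of M and an open subset U of Spec A containing P such
that for every prime q in U the images of these elements in M_q form a basis of M_q over A_q. (The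
published conclusion is that the associated sheaf is free of rank n on some open neighbourhood of P;
the form given here, with n global elements of M, is what its proof produces.) -/
theorem result (A : Type u) [CommRing A] (M : Type u) [AddCommGroup M] [Module A M]
    [Module.Finite A M] [Module.Projective A M] (n : ℕ) (P : Finset (PrimeSpectrum A))
    (hP : ∀ p ∈ P, ∃ g : A, g ∉ p.asIdeal ∧
      Nonempty (Module.Basis (Fin n) (Localization.Away g) (LocalizedModule (Submonoid.powers g) M))) :
    ∃ (s : Fin n → M) (U : Set (PrimeSpectrum A)), IsOpen U ∧ (∀ p ∈ P, p ∈ U) ∧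
      ∀ q ∈ U,
        LinearIndependent (Localization.AtPrime q.asIdeal)
            (fun j => LocalizedModule.mkLinearMap q.asIdeal.primeCompl M (s j)) ∧
          Submodule.span (Localization.AtPrime q.asIdeal)
            (Set.range fun j => LocalizedModule.mkLinearMap q.asIdeal.primeCompl M (s j)) = ⊤ := by
  have hrank : ∀ p ∈ P, Module.rankAtStalk M p = n := fun p hp => by
    obtain ⟨g, hg, ⟨b⟩⟩ := hP p hp
    exact rank_of_hP n p g hg b
  obtain ⟨s, r, hr, hbij⟩ := exists_family P n hrank
  refine ⟨s, (PrimeSpectrum.basicOpen r : Set _), (PrimeSpectrum.basicOpen r).isOpen, ?_, ?_⟩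
  · intro p hp
    exact (mem_SS P).mp hr p hp
  · intro q hq
    exact ⟨linearIndependent_at s r hbij q.asIdeal hq, span_eq_top_at s r hbij q.asIdeal hq⟩

end Groth.Agent.S17902
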