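import Groth.Statements.S17903
import Mathlib
import Groth.Agent.S17900
import Groth.Agent.Lib.Helper22PushoutSections

set_option autoImplicit false
universe u
open CategoryTheory AlgebraicGeometry
open Pinch

namespace Groth.Agent.S17903

open AlgebraicGeometry CategoryTheory CategoryTheory.Limits TopologicalSpace Opposite
open Groth.Agent.Lib.Helper22

/-- the forgetful functor from schemes to sheafed spaces of commutative rings. -/
noncomputable abbrev FSh : Scheme.{u} ⥤ SheafedSpace.{u+1, u, u} CommRingCat.{u} :=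
  Scheme.forgetToLocallyRingedSpace ⋙ LocallyRingedSpace.forgetToSheafedSpace

example {X Y : Scheme.{u}} (f : X ⟶ Y) (U : Y.Opens) :
    (FSh.map f).hom.c.app (op U) = f.app U := rfl

/-- ring-hom form of the flat corner lemma S17900. -/
lemma flat_of_fibreSquare {R B' B A' A : CommRingCat.{u}} (ρ : R ⟶ B') (φB : B' ⟶ B)
    (φA' : B' ⟶ A') (ψB : B ⟶ A) (ψA' : A' ⟶ A) (comm : φB ≫ ψB = φA' ≫ ψA')
    (hsurj : Function.Surjective ψA'.hom)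
    (hpull : ∀ (b : B) (a' : A'), ψB.hom b = ψA'.hom a' →
      ∃! b' : B', φB.hom b' = b ∧ φA'.hom b' = a')
    (hB : (ρ ≫ φB).hom.Flat) (hA' : (ρ ≫ φA').hom.Flat) (hA : (ρ ≫ φB ≫ ψB).hom.Flat) :
    ρ.hom.Flat := by
  letI : Algebra B' B := φB.hom.toAlgebra
  letI : Algebra B' A' := φA'.hom.toAlgebra
  letI : Algebra B A := ψB.hom.toAlgebra
  letI : Algebra A' A := ψA'.hom.toAlgebra
  letI : Algebra B' A := (φB ≫ ψB).hom.toAlgebra
  letI : Algebra R B' := ρ.hom.toAlgebra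
  letI : Algebra R B := (ρ ≫ φB).hom.toAlgebra
  letI : Algebra R A' := (ρ ≫ φA').hom.toAlgebra
  letI : Algebra R A := (ρ ≫ φB ≫ ψB).hom.toAlgebra
  haveI : IsScalarTower B' B A := IsScalarTower.of_algebraMap_eq' rfl
  haveI : IsScalarTower B' A' A := IsScalarTower.of_algebraMap_eq' (by
    show (φB ≫ ψB).hom = ψA'.hom.comp φA'.hom
    rw [comm]; rfl)
  haveI : IsScalarTower R B' B := IsScalarTower.of_algebraMap_eq' rfl
  haveI : IsScalarTower R B' A' := IsScalarTower.of_algebraMap_eq' rfl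
  haveI : IsScalarTower R B' A := IsScalarTower.of_algebraMap_eq' rfl
  haveI : IsScalarTower R B A := IsScalarTower.of_algebraMap_eq' rfl
  haveI : IsScalarTower R A' A := IsScalarTower.of_algebraMap_eq' (by
    show (ρ ≫ φB ≫ ψB).hom = ψA'.hom.comp (ρ ≫ φA').hom
    rw [comm]; rfl)
  haveI : Module.Flat R B := hB
  haveI : Module.Flat R A' := hA'
  haveI : Module.Flat R A := hA
  exact Groth.Agent.S17900.result R B' B A' A ⟨hsurj, hpull⟩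

/-- for a pushout square of schemes in sheafed spaces, sections over an open of the corner form a
fibre product. -/
lemma scheme_pushout_sections {X Z Z' X' : Scheme.{u}} (ι : Z ⟶ X) (q : Z ⟶ Z') (π : X ⟶ X')
    (ι' : Z' ⟶ X')
    (hpo : IsPushout (FSh.map ι) (FSh.map q) (FSh.map π) (FSh.map ι')) (U' : X'.Opens)
    (hW : ι ⁻¹ᵁ (π ⁻¹ᵁ U') ≤ q ⁻¹ᵁ (ι' ⁻¹ᵁ U')) :
    ∀ (b : Γ(Z', ι' ⁻¹ᵁ U')) (a' : Γ(X, π ⁻¹ᵁ U')),
      (q.appLE (ι' ⁻¹ᵁ U') (ι ⁻¹ᵁ (π ⁻¹ᵁ U')) hW).hom b = (ι.app (π ⁻¹ᵁ U')).hom a' →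
      ∃! b' : Γ(X', U'), (ι'.app U').hom b' = b ∧ (π.app U').hom b' = a' := by
  intro b a' hba
  obtain ⟨s, hs1, hs2⟩ := PSp.pushout_sections_exists hpo U' a' b (by
    intro h
    refine Eq.trans ?_ hba
    have h' : op (q ⁻¹ᵁ ι' ⁻¹ᵁ U') = op (ι ⁻¹ᵁ π ⁻¹ᵁ U') := h
    have hm : (eqToHom h' : op (q ⁻¹ᵁ ι' ⁻¹ᵁ U') ⟶ op (ι ⁻¹ᵁ π ⁻¹ᵁ U')) = (homOfLE hW).op :=
      Subsingleton.elim _ _
    show (Z.presheaf.map (eqToHom h')).hom ((q.app (ι' ⁻¹ᵁ U')).hom b) =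
      (q.app (ι' ⁻¹ᵁ U') ≫ Z.presheaf.map (homOfLE hW).op).hom b
    rw [hm]
    rfl)
  refine ⟨s, ⟨hs2, hs1⟩, ?_⟩
  rintro t ⟨ht2, ht1⟩
  exact PSp.pushout_sections_ext hpo U' t s (ht1.trans hs1.symm) (ht2.trans hs2.symm)

set_option backward.isDefEq.respectTransparency.types false in

/-- Let S be a scheme and Z → X, Z → Z', X → X', Z' → X' a commutative square of S-schemes in which Z →
X and Z' → X' are closed immersions and Z → Z' and X → X' are affine, and which is a pushout square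
in the category of ringed spaces. If X, Z and Z' are flat over S then X' is flat over S. -/
theorem result {S X Z Z' X' : Scheme.{u}}
    (fX : X ⟶ S) (fZ' : Z' ⟶ S) (fX' : X' ⟶ S) (ι : Z ⟶ X) (q : Z ⟶ Z') (π : X ⟶ X') (ι' : Z' ⟶ X')
    [IsClosedImmersion ι] [IsClosedImmersion ι'] [IsAffineHom q] [IsAffineHom π]
    (hq : q ≫ fZ' = ι ≫ fX) (hπ : π ≫ fX' = fX) (hι' : ι' ≫ fX' = fZ')
    (hpo : IsPushout ((Scheme.forgetToLocallyRingedSpace ⋙ LocallyRingedSpace.forgetToSheafedSpace).map ι) ((Scheme.forgetToLocallyRingedSpace ⋙ LocallyRingedSpace.forgetToSheafedSpace).map q)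
      ((Scheme.forgetToLocallyRingedSpace ⋙ LocallyRingedSpace.forgetToSheafedSpace).map π) ((Scheme.forgetToLocallyRingedSpace ⋙ LocallyRingedSpace.forgetToSheafedSpace).map ι'))
    [Flat fX] [Flat (ι ≫ fX)] [Flat fZ'] :
    Flat fX' := by
  have hcomm : ι ≫ π = q ≫ ι' := by
    apply (Scheme.forgetToLocallyRingedSpace ⋙ LocallyRingedSpace.forgetToSheafedSpace).map_injective
    rw [Functor.map_comp, Functor.map_comp]
    exact hpo.w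
  rw [HasRingHomProperty.iff_appLE (P := @Flat)]
  intro V U' e
  have hUX : IsAffineOpen (π ⁻¹ᵁ U'.1) := U'.2.preimage π
  have hUZ' : IsAffineOpen (ι' ⁻¹ᵁ U'.1) := U'.2.preimage ι'
  have hWaff : IsAffineOpen (ι ⁻¹ᵁ (π ⁻¹ᵁ U'.1)) := hUX.preimage ι
  have hW : ι ⁻¹ᵁ (π ⁻¹ᵁ U'.1) ≤ q ⁻¹ᵁ (ι' ⁻¹ᵁ U'.1) := by
    intro z hz
    show ι' (q z) ∈ U'.1
    rw [← Scheme.Hom.comp_apply, ← hcomm]
    exact hz
  have eX : π ⁻¹ᵁ U'.1 ≤ fX ⁻¹ᵁ V.1 := by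
    intro x hx
    show fX x ∈ V.1
    rw [← hπ]
    exact e hx
  have eZ' : ι' ⁻¹ᵁ U'.1 ≤ fZ' ⁻¹ᵁ V.1 := by
    intro x hx
    show fZ' x ∈ V.1
    rw [← hι']
    exact e hx
  have eZ : ι ⁻¹ᵁ (π ⁻¹ᵁ U'.1) ≤ (ι ≫ fX) ⁻¹ᵁ V.1 := by
    intro z hz
    exact eX hz
  refine flat_of_fibreSquare (fX'.appLE V.1 U'.1 e) (ι'.app U'.1) (π.app U'.1)
    (q.appLE (ι' ⁻¹ᵁ U'.1) (ι ⁻¹ᵁ (π ⁻¹ᵁ U'.1)) hW) (ι.app (π ⁻¹ᵁ U'.1)) ?_
    (ι.app_surjective _ hUX) (scheme_pushout_sections ι q π ι' hpo U'.1 hW) ?_ ?_ ?_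
  · -- commutativity
    rw [Scheme.Hom.app_eq_appLE, Scheme.Hom.app_eq_appLE, Scheme.Hom.app_eq_appLE,
      Scheme.Hom.appLE_comp_appLE, Scheme.Hom.appLE_comp_appLE]
    congr 1
    exact hcomm.symm
  · -- Z' flat
    have h1 : fX'.appLE V.1 U'.1 e ≫ ι'.app U'.1 = fZ'.appLE V.1 (ι' ⁻¹ᵁ U'.1) eZ' := by
      rw [Scheme.Hom.app_eq_appLE, Scheme.Hom.appLE_comp_appLE]
      congr 1
    rw [h1]
    exact HasRingHomProperty.appLE (P := @Flat) fZ' inferInstance V ⟨_, hUZ'⟩ eZ'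
  · -- X flat
    have h1 : fX'.appLE V.1 U'.1 e ≫ π.app U'.1 = fX.appLE V.1 (π ⁻¹ᵁ U'.1) eX := by
      rw [Scheme.Hom.app_eq_appLE, Scheme.Hom.appLE_comp_appLE]
      congr 1
    rw [h1]
    exact HasRingHomProperty.appLE (P := @Flat) fX inferInstance V ⟨_, hUX⟩ eX
  · -- Z flat
    have h1 : fX'.appLE V.1 U'.1 e ≫ ι'.app U'.1 ≫
        q.appLE (ι' ⁻¹ᵁ U'.1) (ι ⁻¹ᵁ (π ⁻¹ᵁ U'.1)) hW =
        (ι ≫ fX).appLE V.1 (ι ⁻¹ᵁ (π ⁻¹ᵁ U'.1)) eZ := by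
      rw [Scheme.Hom.app_eq_appLE, Scheme.Hom.appLE_comp_appLE, Scheme.Hom.appLE_comp_appLE]
      congr 1
      rw [Category.assoc, hι', hq]
    rw [h1]
    exact HasRingHomProperty.appLE (P := @Flat) (ι ≫ fX) inferInstance V ⟨_, hWaff⟩ eZ

end Groth.Agent.S17903
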