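import Groth.Statements.S17904
import Mathlib
import Groth.Agent.Lib.Helper22PoShC

set_option autoImplicit false
universe u
open CategoryTheory AlgebraicGeometry
open Pinch

namespace Groth.Agent.S17904

/-- Let S be a scheme and Z → X, Z → Z', X → X', Z' → X' a commutative square of S-schemes in which Z →
X and Z' → X' are closed immersions and Z → Z' and X → X' are affine, which is a pushout square in
the category of ringed spaces, with X, Z and Z' flat over S. Then for every morphism T → S the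
square of base changes Z_T → X_T, Z_T → Z'_T, X_T → X'_T, Z'_T → X'_T is a pushout square in the
category of ringed spaces. -/
theorem result {S X Z Z' X' : Scheme.{u}}
    (fX : X ⟶ S) (fZ' : Z' ⟶ S) (fX' : X' ⟶ S) (ι : Z ⟶ X) (q : Z ⟶ Z') (π : X ⟶ X') (ι' : Z' ⟶ X')
    [IsClosedImmersion ι] [IsClosedImmersion ι'] [IsAffineHom q] [IsAffineHom π]
    (hq : q ≫ fZ' = ι ≫ fX) (hπ : π ≫ fX' = fX) (hι' : ι' ≫ fX' = fZ')
    (hpo : IsPushout ((Scheme.forgetToLocallyRingedSpace ⋙ LocallyRingedSpace.forgetToSheafedSpace).map ι) ((Scheme.forgetToLocallyRingedSpace ⋙ LocallyRingedSpace.forgetToSheafedSpace).map q)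
      ((Scheme.forgetToLocallyRingedSpace ⋙ LocallyRingedSpace.forgetToSheafedSpace).map π) ((Scheme.forgetToLocallyRingedSpace ⋙ LocallyRingedSpace.forgetToSheafedSpace).map ι'))
    [Flat fX] [Flat (ι ≫ fX)] [Flat fZ']
    {T : Scheme.{u}} (g : T ⟶ S) :
    IsPushout
      ((Scheme.forgetToLocallyRingedSpace ⋙ LocallyRingedSpace.forgetToSheafedSpace).map
        ((Over.pullback g).map (Over.homMk ι rfl : Over.mk (ι ≫ fX) ⟶ Over.mk fX)).left)
      ((Scheme.forgetToLocallyRingedSpace ⋙ LocallyRingedSpace.forgetToSheafedSpace).map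
        ((Over.pullback g).map (Over.homMk q hq : Over.mk (ι ≫ fX) ⟶ Over.mk fZ')).left)
      ((Scheme.forgetToLocallyRingedSpace ⋙ LocallyRingedSpace.forgetToSheafedSpace).map
        ((Over.pullback g).map (Over.homMk π hπ : Over.mk fX ⟶ Over.mk fX')).left)
      ((Scheme.forgetToLocallyRingedSpace ⋙ LocallyRingedSpace.forgetToSheafedSpace).map
        ((Over.pullback g).map (Over.homMk ι' hι' : Over.mk fZ' ⟶ Over.mk fX')).left) := by
  have hP := Groth.Agent.Lib.Helper22.PinchSch.isPushout_scheme_of_sheafedSpace ι q π ι' hpo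
  have hfl : Flat (ι ≫ π ≫ fX') := by rw [hπ]; infer_instance
  -- the four base-changed maps
  let iT : Limits.pullback (ι ≫ fX) g ⟶ Limits.pullback fX g :=
    ((Over.pullback g).map (Over.homMk ι rfl : Over.mk (ι ≫ fX) ⟶ Over.mk fX)).left
  let qT : Limits.pullback (ι ≫ fX) g ⟶ Limits.pullback fZ' g :=
    ((Over.pullback g).map (Over.homMk q hq : Over.mk (ι ≫ fX) ⟶ Over.mk fZ')).left
  let πT : Limits.pullback fX g ⟶ Limits.pullback fX' g :=
    ((Over.pullback g).map (Over.homMk π hπ : Over.mk fX ⟶ Over.mk fX')).left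
  let ιT : Limits.pullback fZ' g ⟶ Limits.pullback fX' g :=
    ((Over.pullback g).map (Over.homMk ι' hι' : Over.mk fZ' ⟶ Over.mk fX')).left
  have iT1 : iT ≫ Limits.pullback.fst fX g = Limits.pullback.fst (ι ≫ fX) g ≫ ι :=
    Limits.pullback.lift_fst _ _ _
  have iT2 : iT ≫ Limits.pullback.snd fX g = Limits.pullback.snd (ι ≫ fX) g :=
    Limits.pullback.lift_snd _ _ _
  have qT1 : qT ≫ Limits.pullback.fst fZ' g = Limits.pullback.fst (ι ≫ fX) g ≫ q :=
    Limits.pullback.lift_fst _ _ _
  have qT2 : qT ≫ Limits.pullback.snd fZ' g = Limits.pullback.snd (ι ≫ fX) g :=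
    Limits.pullback.lift_snd _ _ _
  have πT1 : πT ≫ Limits.pullback.fst fX' g = Limits.pullback.fst fX g ≫ π :=
    Limits.pullback.lift_fst _ _ _
  have πT2 : πT ≫ Limits.pullback.snd fX' g = Limits.pullback.snd fX g :=
    Limits.pullback.lift_snd _ _ _
  have ιT1 : ιT ≫ Limits.pullback.fst fX' g = Limits.pullback.fst fZ' g ≫ ι' :=
    Limits.pullback.lift_fst _ _ _
  have ιT2 : ιT ≫ Limits.pullback.snd fX' g = Limits.pullback.snd fZ' g :=
    Limits.pullback.lift_snd _ _ _
  have hPT : IsPullback (Limits.pullback.fst fX' g) (Limits.pullback.snd fX' g) fX' g :=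
    IsPullback.of_hasPullback fX' g
  have hFX : IsPullback (Limits.pullback.fst fX g) πT π (Limits.pullback.fst fX' g) := by
    refine IsPullback.of_bot ?_ πT1.symm hPT
    rw [πT2, hπ]
    exact IsPullback.of_hasPullback fX g
  have hFY : IsPullback (Limits.pullback.fst fZ' g) ιT ι' (Limits.pullback.fst fX' g) := by
    refine IsPullback.of_bot ?_ ιT1.symm hPT
    rw [ιT2, hι']
    exact IsPullback.of_hasPullback fZ' g
  have hFZ : IsPullback (Limits.pullback.fst (ι ≫ fX) g) iT ι (Limits.pullback.fst fX g) := by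
    refine IsPullback.of_bot ?_ iT1.symm (IsPullback.of_hasPullback fX g)
    rw [iT2]
    exact IsPullback.of_hasPullback (ι ≫ fX) g
  have h2 : qT ≫ ιT = iT ≫ πT := by
    apply Limits.pullback.hom_ext
    · rw [Category.assoc, Category.assoc, ιT1, πT1, ← Category.assoc, ← Category.assoc, qT1, iT1,
        Category.assoc, Category.assoc, hP.w]
    · rw [Category.assoc, Category.assoc, ιT2, πT2, qT2, iT2]
  exact Groth.Agent.Lib.Helper22.PoSh.isPushout_sheafedSpace_baseChange fX' ι q π ι' hP hfl g hPT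
    hFX hFY hFZ qT1 h2

end Groth.Agent.S17904
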