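import Groth.Statements.S17905
import Mathlib
import Groth.Agent.Lib.Helper22PinchSchC

set_option autoImplicit false
universe u
open CategoryTheory AlgebraicGeometry
open Pinch

namespace Groth.Agent.S17905

/-- Let S be a scheme and Z → X, Z → Z', X → X', Z' → X' a commutative square of S-schemes which is a
pushout square in the category of ringed spaces, with Z → X and Z' → X' closed immersions, X → X'
affine, Z → Z' finite, flat and surjective, and X, Z, Z' flat over S. Suppose that for every T → S
the map O_T → (f_T)_* O_{X_T} induced by the base change f_T : X_T → T of X → S is an isomorphism.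
Then for every T → S the map O_T → (f'_T)_* O_{X'_T} induced by the base change of X' → S is an
isomorphism. (The published lemma is stated for the pinching of a finite surjective Z → Z' whose
fibres lie in affine opens of X, with X → S admitting a section; this row assumes X → X' only affine
and drops the affine-fibre and section conditions, which the printed proof does not use.) -/
theorem result {S X Z Z' X' : Scheme.{u}}
    (fX : X ⟶ S) (fZ' : Z' ⟶ S) (fX' : X' ⟶ S) (ι : Z ⟶ X) (q : Z ⟶ Z') (π : X ⟶ X') (ι' : Z' ⟶ X')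
    [IsClosedImmersion ι] [IsClosedImmersion ι'] [IsFinite q] [Flat q] [Surjective q] [IsAffineHom π]
    (hq : q ≫ fZ' = ι ≫ fX) (hπ : π ≫ fX' = fX) (hι' : ι' ≫ fX' = fZ')
    (hpo : IsPushout ((Scheme.forgetToLocallyRingedSpace ⋙ LocallyRingedSpace.forgetToSheafedSpace).map ι) ((Scheme.forgetToLocallyRingedSpace ⋙ LocallyRingedSpace.forgetToSheafedSpace).map q)
      ((Scheme.forgetToLocallyRingedSpace ⋙ LocallyRingedSpace.forgetToSheafedSpace).map π) ((Scheme.forgetToLocallyRingedSpace ⋙ LocallyRingedSpace.forgetToSheafedSpace).map ι'))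
    [Flat fX] [Flat (ι ≫ fX)] [Flat fZ']
    (hX : ∀ (T : Scheme.{u}) (g : T ⟶ S) (U : T.Opens), IsIso ((Limits.pullback.snd fX g).app U))
    (T : Scheme.{u}) (g : T ⟶ S) (U : T.Opens) :
    IsIso ((Limits.pullback.snd fX' g).app U) := by
  have hP := Groth.Agent.Lib.Helper22.PinchSch.isPushout_scheme_of_sheafedSpace ι q π ι' hpo
  have h1 : IsPullback ((Limits.pullback.snd fX' g) ⁻¹ᵁ U).ι ((Limits.pullback.snd fX' g) ∣_ U)
      (Limits.pullback.snd fX' g) U.ι := (isPullback_morphismRestrict (Limits.pullback.snd fX' g) U).flip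
  have h2 : IsPullback (Limits.pullback.fst fX' g) (Limits.pullback.snd fX' g) fX' g :=
    IsPullback.of_hasPullback fX' g
  have hPT := h1.paste_horiz h2
  have hiso : IsIso ((Limits.pullback.snd fX' g) ∣_ U).appTop :=
    Groth.Agent.Lib.Helper22.PinchSch.isIso_appTop_of_pinching fX fX' ι q π ι' hπ hP (U.ι ≫ g) _ _ hPT
      (hX U.toScheme (U.ι ≫ g) ⊤)
  rw [morphismRestrict_appTop] at hiso
  have hmap : IsIso ((Limits.pullback fX' g).presheaf.map
      (eqToHom (image_morphismRestrict_preimage (Limits.pullback.snd fX' g) U ⊤)).op) := by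
    rw [eqToHom_op, eqToHom_map]; infer_instance
  have h3 : IsIso ((Limits.pullback.snd fX' g).app (U.ι ''ᵁ ⊤)) :=
    @IsIso.of_isIso_comp_right _ _ _ _ _ _ _ hmap hiso
  rw [U.ι_image_top] at h3
  exact h3

end Groth.Agent.S17905
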