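import Groth.Statements.S17911
import Groth.Agent.Lib.Helper17GerbGlob3
-- import your own Groth.Agent.* helpers here

set_option autoImplicit false
universe u
open CategoryTheory AlgebraicGeometry
open Gerb

namespace Groth.Agent.S17911

/-- Let S be a scheme and let 𝒳, 𝒴 be gerbes over the big fppf site of schemes over S (stacks in
groupoids in which objects exist locally and any two objects over the same scheme are locally
isomorphic), and let φ : 𝒳 → 𝒴 be a functor over Sch_S. Suppose 𝒳 has an object s over S itself such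
that, for every object x of 𝒳 admitting a morphism to s (that is, for every pullback of s), φ
induces a bijection from the automorphisms of x over the identity to those of φ(x) — the induced
homomorphism of automorphism sheaves Aut(s) → Aut(φ s) is an isomorphism. Then φ is an equivalence
over Sch_S: some functor over Sch_S in the other direction is inverse to φ up to isomorphisms over
Sch_S. -/
theorem result (S : Scheme.{u}) (𝒳 𝒴 : AlgSt.Cat S)
    (h𝒳 : Gerb.IsGerbe (QuotSh.J Scheme.fppfPrecoverage S) 𝒳)
    (h𝒴 : Gerb.IsGerbe (QuotSh.J Scheme.fppfPrecoverage S) 𝒴)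
    (φ : 𝒳 ⥤ᵇ 𝒴) (s : 𝒳.obj) (hs : 𝒳.p.obj s = Over.mk (𝟙 S))
    (hφ : ∀ (x : 𝒳.obj) (c : x ⟶ s), Function.Bijective (Gerb.autMap φ x)) :
    FibCat.IsEquivOver φ := by
  open Groth.Agent.Lib.Helper17 Groth.Agent.Lib.Helper17.GerbGlob in
  have hfib := h𝒳.1.1
  have hfib' := h𝒴.1.1
  exact isEquivOver_of_bijective_aut (QuotSh.J Scheme.fppfPrecoverage S) h𝒳 h𝒴
    (Over.mkIdTerminal (X := S)) φ hs
    (fun x' c α α' hα hα' e => inj_of_autMap_injective hfib φ x' (hφ x' c).1 α α' hα hα' e)
    (fun x' c β hβ => surj_of_autMap_surjective hfib' φ x' (hφ x' c).2 β hβ)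

end Groth.Agent.S17911
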