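import Groth.Statements.S17934
-- import your own Groth.Agent.* helpers here
import Groth.Agent.Lib.Helper26MultCrv

set_option autoImplicit false
universe u
open MultCrv

namespace Groth.Agent.S17934

/-- Let R be a discrete valuation ring, n ≥ 1, A = R[X]/(X^n) with z the class of X, and M a finitely
generated A-module that is torsion-free as an R-module. Then for 1 ≤ i ≤ n the graded piece
M^(i)/M^(i-1) of the second canonical filtration (M^(i) the elements killed by z^i) is a free
R-module. (Statement at a closed point of the sheaf statement on a primitive multiple curve of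
multiplicity n, whose local rings are of the form R[X]/(X^n) with R the local ring of the reduced
smooth curve; stated for every discrete valuation ring R.) -/
theorem result (R : Type u) [CommRing R] [IsDomain R] [IsDiscreteValuationRing R] (n : ℕ) (hn : 1 ≤ n) (M : Type u) [AddCommGroup M] [Module (MultCrv.Rn R n) M] [Module R M] [IsScalarTower R (MultCrv.Rn R n) M] [Module.Finite (MultCrv.Rn R n) M] [Module.IsTorsionFree R M] (i : ℕ) (hi : 1 ≤ i) (hin : i ≤ n) : Module.Free R (MultCrv.G2 R n M i) := by
  -- the map `[m] ↦ z^(i-1) m`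
  let f : ↥(MultCrv.filt2 R n M i) →ₗ[MultCrv.Rn R n] M :=
    (MultCrv.z R n ^ (i - 1)) • (MultCrv.filt2 R n M i).subtype
  have hf : ∀ x : ↥(MultCrv.filt2 R n M i), f x = MultCrv.z R n ^ (i - 1) • (x : M) := fun x => rfl
  have hker : Submodule.comap (MultCrv.filt2 R n M i).subtype (MultCrv.filt2 R n M (i - 1)) ≤
      LinearMap.ker f := by
    intro x hx
    rw [LinearMap.mem_ker, hf]
    exact hx
  have hker' : LinearMap.ker f ≤
      Submodule.comap (MultCrv.filt2 R n M i).subtype (MultCrv.filt2 R n M (i - 1)) := by
    intro x hx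
    rw [LinearMap.mem_ker, hf] at hx
    exact hx
  let ψ : MultCrv.G2 R n M i →ₗ[MultCrv.Rn R n] M := Submodule.liftQ _ f hker
  have hψ : Function.Injective ψ := by
    rw [← LinearMap.ker_eq_bot]
    exact Submodule.ker_liftQ_eq_bot _ _ _ hker'
  have hR : Module.Finite R (MultCrv.Rn R n) := Groth.Agent.Lib.Helper26.finite_Rn R n
  have hnoeth : IsNoetherianRing (MultCrv.Rn R n) := IsNoetherianRing.of_finite R (MultCrv.Rn R n)
  have hfinq : Module.Finite (MultCrv.Rn R n) (MultCrv.G2 R n M i) := inferInstance
  exact Groth.Agent.Lib.Helper26.free_of_injective R n M _ ψ hψ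

end Groth.Agent.S17934
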