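import Groth.Statements.S17946
-- import your own Groth.Agent.* helpers here
import Groth.Agent.Lib.Helper26MultCrv

set_option autoImplicit false
universe u
open MultCrv

namespace Groth.Agent.S17946

/-- Let R be a discrete valuation ring, n ≥ 1, A = R[X]/(X^n) with z the class of X, and φ : M → N an
A-linear map of finitely generated A-modules. Then φ is injective if and only if its restriction to
the submodule M^(1) of elements killed by z is injective. The induced maps M^(i)/M^(i-1) →
N^(i)/N^(i-1), 1 ≤ i < n, with M^(j) the elements killed by z^j, are then injective as well; that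
immediate consequence, which the published statement includes, is not part of this row. (Statement
at a closed point of the sheaf statement on a primitive multiple curve of multiplicity n with local
rings R[X]/(X^n); stated for every discrete valuation ring R.) -/
theorem result (R : Type u) [CommRing R] [IsDomain R] [IsDiscreteValuationRing R] (n : ℕ) (hn : 1 ≤ n) (M N : Type u) [AddCommGroup M] [Module (MultCrv.Rn R n) M] [Module.Finite (MultCrv.Rn R n) M] [AddCommGroup N] [Module (MultCrv.Rn R n) N] [Module.Finite (MultCrv.Rn R n) N] (φ : M →ₗ[MultCrv.Rn R n] N) : Function.Injective φ ↔ ∀ u : M, u ∈ MultCrv.filt2 R n M 1 → φ u = 0 → u = 0 := by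
  constructor
  · intro h u _ hu
    exact h (by rw [hu, map_zero])
  · intro h
    rw [injective_iff_map_eq_zero]
    intro m hm
    by_contra hne
    have hex : ∃ k, MultCrv.z R n ^ k • m = 0 :=
      ⟨n, by rw [Groth.Agent.Lib.Helper26.z_pow_n]; exact zero_smul (MultCrv.Rn R n) m⟩
    classical
    have hk : MultCrv.z R n ^ (Nat.find hex) • m = 0 := Nat.find_spec hex
    have hk0 : Nat.find hex ≠ 0 := by
      intro h0
      rw [h0, pow_zero, one_smul] at hk
      exact hne hk
    obtain ⟨j, hj⟩ := Nat.exists_eq_succ_of_ne_zero hk0
    have hjm : MultCrv.z R n ^ j • m ≠ 0 := Nat.find_min hex (by omega : j < Nat.find hex)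
    have hmem : MultCrv.z R n ^ j • m ∈ MultCrv.filt2 R n M 1 := by
      change MultCrv.z R n ^ 1 • (MultCrv.z R n ^ j • m) = 0
      rw [pow_one, smul_smul, ← pow_succ', ← Nat.succ_eq_add_one, ← hj]
      exact hk
    exact hjm (h _ hmem (by rw [map_smul, hm, smul_zero]))

end Groth.Agent.S17946
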