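import Groth.Statements.S17959
import Mathlib
import Groth.Agent.S17968

set_option autoImplicit false
open CategoryTheory CategoryTheory.Limits AlgebraicGeometry
universe u
open Hensel

namespace Groth.Agent.S17959
open CategoryTheory CategoryTheory.Limits AlgebraicGeometry TensorProduct Opposite TopologicalSpace

section Alg

/-- kernel of `R₂ → R₁ ⊗[R₀] R₂` for flat `R₂` -/
theorem ker_includeRight_of_flat (R₀ R₁ R₂ : Type u) [CommRing R₀] [CommRing R₁] [CommRing R₂]
    [Algebra R₀ R₁] [Algebra R₀ R₂] [Module.Flat R₀ R₂] (x : R₂)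
    (hx : (1 : R₁) ⊗ₜ[R₀] x = 0) :
    x ∈ Ideal.map (algebraMap R₀ R₂) (RingHom.ker (algebraMap R₀ R₁)) := by
  let a : R₀ →ₗ[R₀] R₁ := Algebra.linearMap R₀ R₁
  have hex : Function.Exact (LinearMap.ker a).subtype a := LinearMap.exact_subtype_ker_map a
  have hex' := Module.Flat.rTensor_exact R₂ hex
  have h1 : (LinearMap.rTensor R₂ a) ((1 : R₀) ⊗ₜ[R₀] x) = 0 := by
    rw [LinearMap.rTensor_tmul]
    simpa [a] using hx
  obtain ⟨z, hz⟩ := (hex' _).mp h1
  have h2 : x = TensorProduct.lid R₀ R₂ (LinearMap.rTensor R₂ (LinearMap.ker a).subtype z) := by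
    rw [hz]; simp
  rw [h2]
  clear hz h2 h1
  induction z using TensorProduct.induction_on with
  | zero => simp
  | tmul k y =>
    rw [LinearMap.rTensor_tmul, TensorProduct.lid_tmul, Algebra.smul_def]
    refine Ideal.mul_mem_right _ _ (Ideal.mem_map_of_mem _ ?_)
    have : a k.1 = 0 := k.2
    simpa [a] using this
  | add z₁ z₂ h₁ h₂ =>
    rw [map_add, map_add]
    exact Ideal.add_mem _ h₁ h₂

theorem ker_inr_of_isPushout_of_flat {R₀ R₁ R₂ P : CommRingCat.{u}} (a : R₀ ⟶ R₁) (b : R₀ ⟶ R₂)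
    (a' : R₁ ⟶ P) (b' : R₂ ⟶ P) (h : IsPushout a b a' b') (hb : b.hom.Flat) :
    RingHom.ker b'.hom = Ideal.map b.hom (RingHom.ker a.hom) := by
  apply le_antisymm
  · intro x hx
    letI := a.hom.toAlgebra
    letI := b.hom.toAlgebra
    haveI : Module.Flat R₀ R₂ := hb
    have hpo' := CommRingCat.isPushout_tensorProduct R₀ R₁ R₂
    let e := hpo'.isoIsPushout _ _ h
    have he : e.hom.hom ((1 : R₁) ⊗ₜ[R₀] x) = b'.hom x := by
      have := IsPushout.inr_isoIsPushout_hom _ _ hpo' h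
      exact congrArg (fun m => m.hom x) this
    have h0 : (1 : R₁) ⊗ₜ[R₀] x = 0 := by
      have : e.hom.hom ((1 : R₁) ⊗ₜ[R₀] x) = e.hom.hom 0 := by
        rw [he, map_zero]; exact hx
      exact (ConcreteCategory.bijective_of_isIso e.hom).1 this
    exact ker_includeRight_of_flat R₀ R₁ R₂ x h0
  · rw [Ideal.map_le_iff_le_comap]
    intro x hx
    rw [Ideal.mem_comap, RingHom.mem_ker]
    have := congrArg (fun m => m.hom x) h.w
    simp only [CommRingCat.hom_comp, RingHom.comp_apply] at this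
    rw [← this, (RingHom.mem_ker).mp hx, map_zero]

end Alg

section Idem

theorem section_ext' {X : Scheme.{u}} {U : X.Opens} (a b : Γ(X, U))
    (h : ∀ (x : X) (hx : x ∈ U), X.presheaf.germ U x hx a = X.presheaf.germ U x hx b) : a = b :=
  TopCat.Presheaf.section_ext X.sheaf U a b h

theorem germ_eq_zero_of_notMem {Y : Scheme.{u}} (e : Γ(Y, ⊤)) (he : IsIdempotentElem e) (y : Y)
    (hy : y ∉ Y.basicOpen e) : Y.presheaf.germ ⊤ y trivial e = 0 := by
  rw [Scheme.mem_basicOpen_top] at hy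
  have h1 : Y.presheaf.germ ⊤ y trivial e + Y.presheaf.germ ⊤ y trivial (1 - e) = 1 := by
    rw [← map_add, add_sub_cancel, map_one]
  have hu : IsUnit (Y.presheaf.germ ⊤ y trivial (1 - e)) :=
    (IsLocalRing.isUnit_or_isUnit_of_add_one h1).resolve_left hy
  have h0 : Y.presheaf.germ ⊤ y trivial e * Y.presheaf.germ ⊤ y trivial (1 - e) = 0 := by
    rw [← map_mul, mul_sub, mul_one, he.eq, sub_self, map_zero]
  exact (hu.mul_left_eq_zero).mp h0

theorem germ_eq_one_of_mem {Y : Scheme.{u}} (e : Γ(Y, ⊤)) (he : IsIdempotentElem e) (y : Y)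
    (hy : y ∈ Y.basicOpen e) : Y.presheaf.germ ⊤ y trivial e = 1 := by
  rw [Scheme.mem_basicOpen_top] at hy
  have h : Y.presheaf.germ ⊤ y trivial e * Y.presheaf.germ ⊤ y trivial e =
      Y.presheaf.germ ⊤ y trivial e * 1 := by
    rw [← map_mul, he.eq, mul_one]
  exact hy.mul_left_cancel h

theorem idem_eq_of_basicOpen_eq {Y : Scheme.{u}} (e₁ e₂ : Γ(Y, ⊤)) (h₁ : IsIdempotentElem e₁)
    (h₂ : IsIdempotentElem e₂) (h : Y.basicOpen e₁ = Y.basicOpen e₂) : e₁ = e₂ := by
  refine section_ext' e₁ e₂ fun y hy => ?_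
  by_cases hy1 : y ∈ Y.basicOpen e₁
  · rw [germ_eq_one_of_mem e₁ h₁ y hy1, germ_eq_one_of_mem e₂ h₂ y (h ▸ hy1)]
  · rw [germ_eq_zero_of_notMem e₁ h₁ y hy1, germ_eq_zero_of_notMem e₂ h₂ y (h ▸ hy1)]

theorem isClopen_basicOpen_of_idem {Y : Scheme.{u}} (e : Γ(Y, ⊤)) (he : IsIdempotentElem e) :
    IsClopen ((Y.basicOpen e : Y.Opens) : Set Y) := by
  have hdisj : Y.basicOpen e ⊓ Y.basicOpen (1 - e) = ⊥ := by
    rw [← Scheme.basicOpen_mul]
    have : e * (1 - e) = 0 := by
      rw [mul_sub, mul_one, he.eq, sub_self]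
    rw [this, Scheme.basicOpen_zero]
  have hcov : ∀ y : Y, y ∈ Y.basicOpen e ∨ y ∈ Y.basicOpen (1 - e) := by
    intro y
    rw [Scheme.mem_basicOpen_top, Scheme.mem_basicOpen_top]
    have h1 : Y.presheaf.germ ⊤ y trivial e + Y.presheaf.germ ⊤ y trivial (1 - e) = 1 := by
      rw [← map_add, add_sub_cancel, map_one]
    exact IsLocalRing.isUnit_or_isUnit_of_add_one h1
  have hcompl : ((Y.basicOpen e : Y.Opens) : Set Y)ᶜ = (Y.basicOpen (1 - e) : Set Y) := by
    ext y
    constructor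
    · intro hy
      exact (hcov y).resolve_left hy
    · intro hy hy'
      have : y ∈ Y.basicOpen e ⊓ Y.basicOpen (1 - e) := ⟨hy', hy⟩
      rw [hdisj] at this
      exact this
  exact ⟨by rw [← isOpen_compl_iff, hcompl]; exact (Y.basicOpen (1 - e)).2, (Y.basicOpen e).2⟩

theorem exists_idem_of_isClopen {Y : Scheme.{u}} (s : Set Y) (hs : IsClopen s) :
    ∃ e : Γ(Y, ⊤), IsIdempotentElem e ∧ ((Y.basicOpen e : Y.Opens) : Set Y) = s := by
  let U : Y.Opens := ⟨s, hs.isOpen⟩
  let V : Y.Opens := ⟨sᶜ, hs.compl.isOpen⟩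
  have hUV : U ⊓ V = ⊥ := by
    ext y
    simp [U, V]
  have hcov : (⊤ : Y.Opens) ≤ U ⊔ V := by
    intro y _
    by_cases hy : y ∈ s
    · exact Or.inl hy
    · exact Or.inr hy
  haveI : Subsingleton Γ(Y, U ⊓ V) := by
    rw [hUV]; infer_instance
  let x : RingHom.eqLocus
      (RingHom.comp (Y.sheaf.obj.map (homOfLE inf_le_left : U ⊓ V ⟶ U).op).hom
        (RingHom.fst (Y.sheaf.obj.obj <| op U) (Y.sheaf.obj.obj <| op V)))
      (RingHom.comp (Y.sheaf.obj.map (homOfLE inf_le_right : U ⊓ V ⟶ V).op).hom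
        (RingHom.snd (Y.sheaf.obj.obj <| op U) (Y.sheaf.obj.obj <| op V))) :=
    ⟨((1 : Γ(Y, U)), (0 : Γ(Y, V))), Subsingleton.elim (α := Γ(Y, U ⊓ V)) _ _⟩
  have hx : IsIdempotentElem x := by
    apply Subtype.ext
    show ((1 : Γ(Y, U)), (0 : Γ(Y, V))) * ((1 : Γ(Y, U)), (0 : Γ(Y, V))) =
      ((1 : Γ(Y, U)), (0 : Γ(Y, V)))
    simp
  let e0 : Γ(Y, U ⊔ V) := (Y.sheaf.objSupIsoProdEqLocus U V).inv x
  have he0 : IsIdempotentElem e0 := hx.map (Y.sheaf.objSupIsoProdEqLocus U V).inv.hom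
  let e : Γ(Y, ⊤) := Y.presheaf.map (homOfLE hcov).op e0
  have he : IsIdempotentElem e := he0.map (Y.presheaf.map (homOfLE hcov).op).hom
  have h1 : Y.presheaf.map (homOfLE (le_top : U ≤ ⊤)).op e = 1 := by
    have := Y.sheaf.objSupIsoProdEqLocus_inv_fst U V x
    simp only [e]
    rw [← CommRingCat.comp_apply, ← Functor.map_comp]
    exact this
  have h2 : Y.presheaf.map (homOfLE (le_top : V ≤ ⊤)).op e = 0 := by
    have := Y.sheaf.objSupIsoProdEqLocus_inv_snd U V x
    simp only [e]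
    rw [← CommRingCat.comp_apply, ← Functor.map_comp]
    exact this
  refine ⟨e, he, ?_⟩
  ext y
  constructor
  · intro hy
    by_contra hys
    have hyV : y ∈ V := hys
    have hg : Y.presheaf.germ ⊤ y trivial e = 0 := by
      have := TopCat.Presheaf.germ_res_apply Y.presheaf (homOfLE (le_top : V ≤ ⊤)) y hyV e
      rw [← this, h2, map_zero]
    have hu : IsUnit (Y.presheaf.germ ⊤ y trivial e) := (Scheme.mem_basicOpen_top Y e y).mp hy
    rw [hg] at hu
    exact not_isUnit_zero hu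
  · intro hys
    have hyU : y ∈ U := hys
    have hg : Y.presheaf.germ ⊤ y trivial e = 1 := by
      have := TopCat.Presheaf.germ_res_apply Y.presheaf (homOfLE (le_top : U ≤ ⊤)) y hyU e
      rw [← this, h1, map_one]
    refine (Scheme.mem_basicOpen_top Y e y).mpr ?_
    rw [hg]
    exact isUnit_one

end Idem

section Jac

theorem isUnit_one_add_of_mem_ker {X X₀ : Scheme.{u}} (i : X₀ ⟶ X) [IsClosedImmersion i]
    (hX : ∀ (Y : Scheme.{u}) (g : Y ⟶ X), IsFinite g →
      ∀ V : Set ↥(pullback g (i)), IsClopen V →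
        ∃! U : Set ↥Y, IsClopen U ∧ (pullback.fst g (i)).base ⁻¹' U = V)
    (c : Γ(X, ⊤)) (hc : i.appTop.hom c = 0) : IsUnit (1 + c) := by
  let Z : Closeds X := ⟨((X.basicOpen (1 + c) : X.Opens) : Set X)ᶜ,
    (X.basicOpen (1 + c)).2.isClosed_compl⟩
  let I := Scheme.IdealSheafData.vanishingIdeal Z
  have hr : Set.range I.subschemeι = (Z : Set X) := by
    rw [Scheme.IdealSheafData.range_subschemeι, Scheme.IdealSheafData.coe_support_vanishingIdeal]
  have hpre : i ⁻¹ᵁ X.basicOpen (1 + c) = ⊤ := by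
    rw [Scheme.preimage_basicOpen_top]
    have : i.appTop (1 + c) = 1 := by
      change i.appTop.hom (1 + c) = 1
      rw [map_add, map_one, hc, add_zero]
    rw [this, Scheme.basicOpen_of_isUnit _ isUnit_one]
  have hempty : IsEmpty ↥(pullback I.subschemeι i) := by
    refine ⟨fun y₀ => ?_⟩
    have hw : I.subschemeι ((pullback.fst I.subschemeι i) y₀) = i ((pullback.snd I.subschemeι i) y₀) := by
      rw [← Scheme.Hom.comp_apply, ← Scheme.Hom.comp_apply, pullback.condition]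
    have h1 : I.subschemeι ((pullback.fst I.subschemeι i) y₀) ∈ (Z : Set X) := by
      rw [← hr]; exact ⟨_, rfl⟩
    have h2 : (pullback.snd I.subschemeι i) y₀ ∈ i ⁻¹ᵁ X.basicOpen (1 + c) := by
      rw [hpre]; trivial
    rw [hw] at h1
    exact h1 h2
  obtain ⟨U, hU, huniq⟩ := hX I.subscheme I.subschemeι inferInstance ∅ isClopen_empty
  have e1 := huniq ∅ ⟨isClopen_empty, by simp⟩
  have e2 := huniq Set.univ ⟨isClopen_univ, by
    ext y; exact (hempty.false y).elim⟩
  have hEU : (∅ : Set I.subscheme) = Set.univ := e1.trans e2.symm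
  have hZ : (Z : Set X) = ∅ := by
    rw [← hr]
    ext x
    simp only [Set.mem_range, Set.mem_empty_iff_false, iff_false, not_exists]
    intro y
    have : y ∈ (Set.univ : Set I.subscheme) := trivial
    rw [← hEU] at this
    exact this.elim
  refine RingedSpace.isUnit_of_isUnit_germ (X := X.toRingedSpace) ⊤ (1 + c) ?_
  intro x hx
  have hxm : x ∈ X.basicOpen (1 + c) := by
    by_contra hxn
    have : x ∈ (Z : Set X) := hxn
    rw [hZ] at this
    exact this
  exact (Scheme.mem_basicOpen_top X (1 + c) x).mp hxm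

end Jac

section Main

variable {X X₀ : Scheme.{u}} (i : X₀ ⟶ X) [IsClosedImmersion i]

theorem isPushout_appTop {X T S Y : Scheme.{u}} {f : T ⟶ S} {g : Y ⟶ X} {iX : X ⟶ S} {iY : Y ⟶ T}
    (H : IsPullback g iY iX f) [Flat f] [IsAffine S] [IsAffine T] [CompactSpace X]
    [QuasiSeparatedSpace X] :
    IsPushout iX.appTop f.appTop g.appTop iY.appTop := by
  have hiso := isIso_pushoutSection_of_isQuasiSeparated_of_flat_right H
    (US := ⊤) (UT := ⊤) (UX := ⊤) (UY := ⊤) le_top le_top (by simp) (isAffineOpen_top _)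
    (isAffineOpen_top _) isCompact_univ (isQuasiSeparated_univ)
  have hpo := (isIso_pushoutSection_iff H (US := ⊤) (UT := ⊤) (UX := ⊤) (UY := ⊤) le_top le_top
    (by simp)).mp hiso
  have e1 : ∀ {A B : Scheme.{u}} (h : A ⟶ B), h.appLE ⊤ ⊤ le_top = h.appTop :=
    fun h => Scheme.Hom.appLE_eq_app h
  rw [e1, e1, e1, e1] at hpo
  exact hpo

theorem surjOn_idem [CompactSpace X] [QuasiSeparatedSpace X]
    (hX : ∀ (Y : Scheme.{u}) (g : Y ⟶ X), IsFinite g →
      ∀ V : Set ↥(pullback g (i)), IsClopen V →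
        ∃! U : Set ↥Y, IsClopen U ∧ (pullback.fst g (i)).base ⁻¹' U = V)
    (C : Type u) [CommRing C] [Algebra Γ(X, ⊤) C] [Module.Finite Γ(X, ⊤) C]
    [Module.Flat Γ(X, ⊤) C] :
    Set.SurjOn (Ideal.Quotient.mk (Ideal.map (algebraMap Γ(X, ⊤) C) (RingHom.ker i.appTop.hom)))
      {e : C | IsIdempotentElem e} {e | IsIdempotentElem e} := by
  intro eb heb
  obtain ⟨et, rfl⟩ := Ideal.Quotient.mk_surjective eb
  let φ : Γ(X, ⊤) ⟶ CommRingCat.of C := CommRingCat.ofHom (algebraMap Γ(X, ⊤) C)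
  have hφflat : φ.hom.Flat := (RingHom.flat_algebraMap_iff (R := Γ(X, ⊤)) (S := C)).mpr inferInstance
  let t := X.toSpecΓ
  let c := Spec.map φ
  haveI : Flat c := Flat.SpecMap_iff.mpr hφflat
  haveI : IsFinite c := (IsFinite.SpecMap_iff φ).mpr
    ((RingHom.finite_algebraMap (A := Γ(X, ⊤)) (B := C)).mpr inferInstance)
  let g := pullback.fst t c
  let sn := pullback.snd t c
  haveI : IsFinite g := inferInstanceAs (IsFinite (pullback.fst t c))
  have H₂ : IsPullback g sn t c := IsPullback.of_hasPullback t c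
  haveI hα : IsIso sn.appTop := by
    have hpo := isPushout_appTop H₂
    haveI : IsIso t.appTop := by
      rw [Scheme.toSpecΓ_appTop]; infer_instance
    exact hpo.isIso_inr_of_isIso
  let π₁ := pullback.fst g i
  let π₂ := pullback.snd g i
  have H₁ : IsPullback π₁ π₂ g i := IsPullback.of_hasPullback g i
  have H₀ : IsPullback π₂ (π₁ ≫ sn) (i ≫ t) c := (H₁.paste_horiz H₂.flip).flip
  haveI : CompactSpace X₀ := QuasiCompact.compactSpace_of_compactSpace i
  haveI : QuasiSeparatedSpace X₀ := quasiSeparatedSpace_of_quasiSeparated i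
  have hpo₀ := isPushout_appTop H₀
  let θc : CommRingCat.of C ⟶ Γ(pullback g i, ⊤) :=
    (Scheme.ΓSpecIso (CommRingCat.of C)).inv ≫ (π₁ ≫ sn).appTop
  have hpo' : IsPushout i.appTop φ π₂.appTop θc := by
    refine hpo₀.of_iso (Scheme.ΓSpecIso Γ(X, ⊤)) (Iso.refl _) (Scheme.ΓSpecIso (CommRingCat.of C))
      (Iso.refl _) ?_ ?_ ?_ ?_
    · simp [t, Scheme.toSpecΓ_appTop]
    · exact Scheme.ΓSpecIso_naturality φ
    · simp
    · simp [θc]
  have hθker : RingHom.ker θc.hom =
      Ideal.map (algebraMap Γ(X, ⊤) C) (RingHom.ker i.appTop.hom) :=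
    ker_inr_of_isPushout_of_flat _ _ _ _ hpo' hφflat
  have het : et * et - et ∈ Ideal.map (algebraMap Γ(X, ⊤) C) (RingHom.ker i.appTop.hom) := by
    have h1 : Ideal.Quotient.mk (Ideal.map (algebraMap Γ(X, ⊤) C) (RingHom.ker i.appTop.hom))
        (et * et) = Ideal.Quotient.mk (Ideal.map (algebraMap Γ(X, ⊤) C)
          (RingHom.ker i.appTop.hom)) et := by
      rw [map_mul]; exact heb
    exact Ideal.Quotient.eq.mp h1
  have hε : IsIdempotentElem (θc.hom et) := by
    show θc.hom et * θc.hom et = θc.hom et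
    rw [← map_mul, ← sub_eq_zero, ← map_sub, ← RingHom.mem_ker, hθker]
    exact het
  obtain ⟨U, ⟨hUc, hUV⟩, -⟩ := hX _ g inferInstance _ (isClopen_basicOpen_of_idem _ hε)
  obtain ⟨eY, heY, heYU⟩ := exists_idem_of_isClopen U hUc
  let ψ : Γ(pullback t c, ⊤) →+* C :=
    (Scheme.ΓSpecIso (CommRingCat.of C)).hom.hom.comp (inv sn.appTop).hom
  have he : IsIdempotentElem (ψ eY) := heY.map ψ
  have hθe : θc.hom (ψ eY) = π₁.appTop.hom eY := by
    have h1 : (inv sn.appTop ≫ (Scheme.ΓSpecIso (CommRingCat.of C)).hom) ≫ θc = π₁.appTop := by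
      simp [θc]
    exact congrArg (fun m => m.hom eY) h1
  have hbo : (pullback g i).basicOpen (θc.hom (ψ eY)) = (pullback g i).basicOpen (θc.hom et) := by
    rw [hθe]
    have h2 := Scheme.preimage_basicOpen_top π₁ eY
    rw [← h2]
    ext y
    have : y ∈ π₁.base ⁻¹' U ↔ y ∈ (((pullback g i).basicOpen (θc.hom et) : (pullback g i).Opens) :
        Set ↥(pullback g i)) := by rw [hUV]
    rw [← heYU] at this
    exact this
  have heq := idem_eq_of_basicOpen_eq _ _ (he.map θc.hom) hε hbo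
  refine ⟨ψ eY, he, ?_⟩
  rw [Ideal.Quotient.eq, ← hθker, RingHom.mem_ker, map_sub, heq, sub_self]

end Main


/-- Let X be a quasi-compact quasi-separated scheme and i : X₀ ⟶ X a closed immersion such that (X, X₀)
is a henselian couple, i.e. for every finite morphism g : Y ⟶ X every open-closed subset of Y ×_X X₀
is the inverse image under the first projection of exactly one open-closed subset of Y. Let B = Γ(X,
O_X) and let J be the kernel of the restriction map B → Γ(X₀, O_{X₀}). Then (B, J) is a henselian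
pair. -/
theorem result {X X₀ : Scheme.{u}}
    (i : X₀ ⟶ X) [IsClosedImmersion i] [CompactSpace ↥X] [QuasiSeparatedSpace ↥X]
    (hX : ∀ (Y : Scheme.{u}) (g : Y ⟶ X), IsFinite g →
      ∀ V : Set ↥(pullback g (i)), IsClopen V →
        ∃! U : Set ↥Y, IsClopen U ∧ (pullback.fst g (i)).base ⁻¹' U = V) :
    HenselianRing (Γ(X, ⊤) : Type u) (RingHom.ker i.appTop.hom) := by
  have hjac : RingHom.ker i.appTop.hom ≤ Ideal.jacobson ⊥ := by
    intro b hb
    rw [Ideal.mem_jacobson_bot]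
    intro y
    have : b * y ∈ RingHom.ker i.appTop.hom := Ideal.mul_mem_right _ _ hb
    rw [add_comm]
    exact isUnit_one_add_of_mem_ker i hX _ this
  refine Groth.Agent.S17968.aux _ _ hjac ?_
  intro m p hp _
  haveI : Module.Finite Γ(X, ⊤) (AdjoinRoot p) := hp.finite_adjoinRoot
  haveI : Module.Free Γ(X, ⊤) (AdjoinRoot p) := hp.free_adjoinRoot
  exact surjOn_idem i hX (AdjoinRoot p)

end Groth.Agent.S17959
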