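import Groth.Statements.S17962
-- import your own Groth.Agent.* helpers here

set_option autoImplicit false
open CategoryTheory CategoryTheory.Limits AlgebraicGeometry
universe u
open Hensel

namespace Groth.Agent.S17962

/-- Let i : X₀ ⟶ X be a closed immersion such that (X, X₀) is a henselian couple, i.e. for every finite
morphism g : Y ⟶ X every open-closed subset of Y ×_X X₀ is the inverse image under the first
projection of exactly one open-closed subset of Y. Then for every finite morphism h : Y ⟶ X the
couple (Y, Y ×_X X₀), with the first projection as closed immersion, is again henselian. -/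
theorem result {X X₀ : Scheme.{u}}
    (i : X₀ ⟶ X) [IsClosedImmersion i]
    (hX : ∀ (Y : Scheme.{u}) (g : Y ⟶ X), IsFinite g →
      ∀ V : Set ↥(pullback g (i)), IsClopen V →
        ∃! U : Set ↥Y, IsClopen U ∧ (pullback.fst g (i)).base ⁻¹' U = V)
    {Y : Scheme.{u}} (h : Y ⟶ X) [IsFinite h] :
    ∀ (Z : Scheme.{u}) (g : Z ⟶ Y), IsFinite g →
      ∀ V : Set ↥(pullback g (pullback.fst h i)), IsClopen V →
        ∃! U : Set ↥Z, IsClopen U ∧ (pullback.fst g (pullback.fst h i)).base ⁻¹' U = V := by
  intro Z g hg V hV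
  let e := pullbackRightPullbackFstIso h i g
  have he : e.hom ≫ pullback.fst (g ≫ h) i = pullback.fst g (pullback.fst h i) :=
    pullbackRightPullbackFstIso_hom_fst h i g
  have hfin : IsFinite (g ≫ h) := inferInstance
  -- preimage under `e.hom` and `e.inv` are mutually inverse
  have hhi : ∀ W : Set ↥(pullback g (pullback.fst h i)),
      e.hom.base ⁻¹' (e.inv.base ⁻¹' W) = W := by
    intro W
    rw [← Set.preimage_comp]
    have : (e.inv.base : _ → _) ∘ (e.hom.base : _ → _) = id := by
      ext x
      simp only [Function.comp_apply, id]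
      rw [← Scheme.Hom.comp_apply, e.hom_inv_id]
      rfl
    rw [this, Set.preimage_id]
  have hclopen : IsClopen (e.inv.base ⁻¹' V) := hV.preimage e.inv.continuous
  have hfst : ∀ U : Set ↥Z, (pullback.fst g (pullback.fst h i)).base ⁻¹' U =
      e.hom.base ⁻¹' ((pullback.fst (g ≫ h) i).base ⁻¹' U) := by
    intro U
    rw [← he]
    rfl
  obtain ⟨U, ⟨hU1, hU2⟩, hU3⟩ := hX Z (g ≫ h) hfin (e.inv.base ⁻¹' V) hclopen
  refine ⟨U, ⟨hU1, ?_⟩, ?_⟩
  · rw [hfst, hU2, hhi]
  · intro U' ⟨hU'1, hU'2⟩
    apply hU3
    refine ⟨hU'1, ?_⟩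
    rw [hfst] at hU'2
    rw [← hU'2]
    -- e.inv ⁻¹' (e.hom ⁻¹' W) = W
    rw [← Set.preimage_comp]
    have : (e.hom.base : _ → _) ∘ (e.inv.base : _ → _) = id := by
      ext x
      simp only [Function.comp_apply, id]
      rw [← Scheme.Hom.comp_apply, e.inv_hom_id]
      rfl
    rw [this, Set.preimage_id]

end Groth.Agent.S17962
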