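import Groth.Statements.S17971
import Groth.Agent.Lib.Helper26HenselIdem
import Mathlib

set_option autoImplicit false
open CategoryTheory CategoryTheory.Limits AlgebraicGeometry
universe u
open Hensel

namespace Groth.Agent.S17971

-- unique lifting of clopen subsets along a map
def Lift {P Y : Type*} [TopologicalSpace P] [TopologicalSpace Y] (j : P → Y) : Prop :=
  ∀ V : Set P, IsClopen V → ∃! U : Set Y, IsClopen U ∧ j ⁻¹' U = V

-- the lifting property only depends on the range of an embedding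
theorem Lift.of_range_eq {P P' Y : Type*} [TopologicalSpace P] [TopologicalSpace P']
    [TopologicalSpace Y] {j : P → Y} {j' : P' → Y} (hj : Topology.IsEmbedding j)
    (hj' : Topology.IsEmbedding j') (hr : Set.range j = Set.range j') (h : Lift j) : Lift j' := by
  let φ : P ≃ₜ P' := hj.toHomeomorph.trans ((Homeomorph.setCongr hr).trans hj'.toHomeomorph.symm)
  have hφ : ∀ p, j' (φ p) = j p := by
    intro p
    have h1 : (hj'.toHomeomorph (φ p) : Y) = j p := by
      show (hj'.toHomeomorph (hj'.toHomeomorph.symm _) : Y) = j p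
      rw [Homeomorph.apply_symm_apply]
      rfl
    exact h1
  have hpre : ∀ U : Set Y, j ⁻¹' U = φ ⁻¹' (j' ⁻¹' U) := by
    intro U
    ext p
    simp only [Set.mem_preimage, hφ]
  intro V' hV'
  obtain ⟨U, ⟨hU, hUV⟩, huniq⟩ := h (φ ⁻¹' V') (hV'.preimage φ.continuous)
  have key : ∀ U : Set Y, j ⁻¹' U = φ ⁻¹' V' ↔ j' ⁻¹' U = V' := by
    intro U
    rw [hpre]
    exact φ.surjective.preimage_injective.eq_iff
  refine ⟨U, ⟨hU, (key U).mp hUV⟩, ?_⟩
  rintro U' ⟨hU', hU'V⟩
  exact huniq U' ⟨hU', (key U').mpr hU'V⟩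

-- the lifting property is invariant under homeomorphisms of the target
theorem Lift.of_comp_homeomorph {P Y Y' : Type*} [TopologicalSpace P] [TopologicalSpace Y]
    [TopologicalSpace Y'] {j : P → Y} (ψ : Y ≃ₜ Y') (h : Lift (ψ ∘ j)) : Lift j := by
  intro V hV
  obtain ⟨U, ⟨hU, hUV⟩, huniq⟩ := h V hV
  refine ⟨ψ ⁻¹' U, ⟨hU.preimage ψ.continuous, hUV⟩, ?_⟩
  rintro U' ⟨hU', hU'V⟩
  have h1 := huniq (ψ.symm ⁻¹' U') ⟨hU'.preimage ψ.symm.continuous, by
    rw [Set.preimage_comp, ← Set.preimage_comp (f := ψ), ψ.symm_comp_self, Set.preimage_id]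
    exact hU'V⟩
  rw [← h1, ← Set.preimage_comp, ψ.symm_comp_self, Set.preimage_id]

open PrimeSpectrum in
-- ring-theoretic form of the lifting property for a quotient map
theorem lift_comap_mk_iff (B : Type u) [CommRing B] (J : Ideal B) :
    Lift (PrimeSpectrum.comap (Ideal.Quotient.mk J)) ↔
      Set.BijOn (Ideal.Quotient.mk J) {e : B | IsIdempotentElem e} {e | IsIdempotentElem e} := by
  have hpre : ∀ e : B, PrimeSpectrum.comap (Ideal.Quotient.mk J) ⁻¹' (basicOpen e : Set _) =
      (basicOpen (Ideal.Quotient.mk J e) : Set _) := by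
    intro e
    ext p
    simp
  have hinj : ∀ {R : Type u} [CommRing R] (e₁ e₂ : R), IsIdempotentElem e₁ → IsIdempotentElem e₂ →
      (basicOpen e₁ : Set (PrimeSpectrum R)) = basicOpen e₂ → e₁ = e₂ := by
    intro R _ e₁ e₂ h₁ h₂ h
    have := isIdempotentElemEquivClopens.injective (a₁ := ⟨e₁, h₁⟩) (a₂ := ⟨e₂, h₂⟩)
      (TopologicalSpace.Clopens.ext h)
    exact congrArg Subtype.val this
  constructor
  · intro h
    refine ⟨fun e he => he.map _, ?_, ?_⟩
    · intro e₁ h₁ e₂ h₂ h12
      obtain ⟨U, -, huniq⟩ := h (basicOpen (Ideal.Quotient.mk J e₁))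
        (PrimeSpectrum.isClopen_iff.mpr ⟨_, h₁.map _, rfl⟩)
      have ha := huniq (basicOpen e₁) ⟨PrimeSpectrum.isClopen_iff.mpr ⟨_, h₁, rfl⟩, hpre e₁⟩
      have hb := huniq (basicOpen e₂) ⟨PrimeSpectrum.isClopen_iff.mpr ⟨_, h₂, rfl⟩, by rw [hpre e₂, h12]⟩
      exact hinj e₁ e₂ h₁ h₂ (ha.trans hb.symm)
    · intro e' he'
      obtain ⟨U, ⟨hU, hUV⟩, -⟩ := h (basicOpen e') (PrimeSpectrum.isClopen_iff.mpr ⟨_, he', rfl⟩)
      obtain ⟨e, he, rfl⟩ := PrimeSpectrum.isClopen_iff.mp hU
      refine ⟨e, he, ?_⟩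
      rw [hpre] at hUV
      exact hinj _ _ (he.map _) he' hUV
  · rintro ⟨-, hinjOn, hsurj⟩ V hV
    obtain ⟨e', he', rfl⟩ := PrimeSpectrum.isClopen_iff.mp hV
    obtain ⟨e, he, rfl⟩ := hsurj he'
    refine ⟨basicOpen e, ⟨PrimeSpectrum.isClopen_iff.mpr ⟨_, he, rfl⟩, hpre e⟩, ?_⟩
    rintro U' ⟨hU', hU'V⟩
    obtain ⟨e₂, he₂, rfl⟩ := PrimeSpectrum.isClopen_iff.mp hU'
    rw [hpre] at hU'V
    have h1 := hinj _ _ (he₂.map _) (he.map _) hU'V
    rw [hinjOn he₂ he h1]

-- the two closed subspaces `Spec B ×_{Spec A} Spec (A/I)` and `Spec (B/IB)` of `Spec B` agree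
theorem range_fst_eq (A : Type u) [CommRing A] (I : Ideal A) (B : Type u) [CommRing B]
    (φ : A →+* B) :
    Set.range (pullback.fst (Spec.map (CommRingCat.ofHom φ))
      (Spec.map (CommRingCat.ofHom (Ideal.Quotient.mk I)))).base =
    Set.range (PrimeSpectrum.comap (Ideal.Quotient.mk (I.map φ))) := by
  have h1 := Scheme.Pullback.range_fst (Spec.map (CommRingCat.ofHom φ))
    (Spec.map (CommRingCat.ofHom (Ideal.Quotient.mk I)))
  have h2 : Set.range (Spec.map (CommRingCat.ofHom (Ideal.Quotient.mk I))).base =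
      PrimeSpectrum.zeroLocus (I : Set A) := by
    have := range_comap_of_surjective _ (Ideal.Quotient.mk I)
      Ideal.Quotient.mk_surjective
    rw [Ideal.mk_ker] at this
    exact this
  have h3 : Set.range (PrimeSpectrum.comap (Ideal.Quotient.mk (I.map φ))) =
      PrimeSpectrum.zeroLocus ((I.map φ : Ideal B) : Set B) := by
    have := range_comap_of_surjective _ (Ideal.Quotient.mk (I.map φ))
      Ideal.Quotient.mk_surjective
    rw [Ideal.mk_ker] at this
    exact this
  rw [h3]
  refine h1.trans ?_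
  rw [h2]
  have h4 : (Spec.map (CommRingCat.ofHom φ)).base ⁻¹' PrimeSpectrum.zeroLocus (I : Set A) =
      PrimeSpectrum.zeroLocus (φ '' (I : Set A)) :=
    PrimeSpectrum.preimage_comap_zeroLocus φ _
  refine h4.trans ?_
  rw [Ideal.map, PrimeSpectrum.zeroLocus_span]

theorem lift_fst_iff (A : Type u) [CommRing A] (I : Ideal A) (B : Type u) [CommRing B]
    (φ : A →+* B) :
    Lift (pullback.fst (Spec.map (CommRingCat.ofHom φ))
      (Spec.map (CommRingCat.ofHom (Ideal.Quotient.mk I)))).base ↔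
    Lift (PrimeSpectrum.comap (Ideal.Quotient.mk (I.map φ))) := by
  haveI : IsClosedImmersion (Spec.map (CommRingCat.ofHom (Ideal.Quotient.mk I))) :=
    IsClosedImmersion.spec_of_surjective (CommRingCat.ofHom (Ideal.Quotient.mk I))
      Ideal.Quotient.mk_surjective
  have hj : Topology.IsEmbedding (pullback.fst (Spec.map (CommRingCat.ofHom φ))
      (Spec.map (CommRingCat.ofHom (Ideal.Quotient.mk I)))).base :=
    (Scheme.Hom.isClosedEmbedding _).isEmbedding
  have hj' : Topology.IsEmbedding (PrimeSpectrum.comap (Ideal.Quotient.mk (I.map φ))) :=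
    (PrimeSpectrum.isClosedEmbedding_comap_of_surjective _ _
      Ideal.Quotient.mk_surjective).isEmbedding
  have hr := range_fst_eq A I B φ
  exact ⟨fun h => Lift.of_range_eq hj hj' hr h, fun h => Lift.of_range_eq hj' hj hr.symm h⟩

-- a morphism from an affine scheme to `Spec A` factors through `Spec Γ`
theorem eq_isoSpec_comp {A : Type u} [CommRing A] {Y : Scheme.{u}} [IsAffine Y]
    (g : Y ⟶ Spec (CommRingCat.of A)) :
    g = Y.isoSpec.hom ≫ Spec.map ((Scheme.ΓSpecIso (CommRingCat.of A)).inv ≫ g.appTop) := by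
  have h1 := Scheme.isoSpec_hom_naturality g
  rw [Scheme.isoSpec_Spec_hom] at h1
  rw [Spec.map_comp, ← Category.assoc, h1, Category.assoc, ← Spec.map_comp, Iso.inv_hom_id,
    Spec.map_id, Category.comp_id]

-- the lifting property for a finite morphism from an affine scheme, in ring terms
theorem lift_of_affine {A : Type u} [CommRing A] (I : Ideal A) {Y : Scheme.{u}} [IsAffine Y]
    (g : Y ⟶ Spec (CommRingCat.of A))
    (h : Lift (PrimeSpectrum.comap (Ideal.Quotient.mk
      (I.map ((Scheme.ΓSpecIso (CommRingCat.of A)).inv ≫ g.appTop).hom)))) :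
    Lift (pullback.fst g (Spec.map (CommRingCat.ofHom (Ideal.Quotient.mk I)))).base := by
  haveI : IsClosedImmersion (Spec.map (CommRingCat.ofHom (Ideal.Quotient.mk I))) :=
    IsClosedImmersion.spec_of_surjective (CommRingCat.ofHom (Ideal.Quotient.mk I))
      Ideal.Quotient.mk_surjective
  set φ := ((Scheme.ΓSpecIso (CommRingCat.of A)).inv ≫ g.appTop).hom with hφ
  set i := Spec.map (CommRingCat.ofHom (Ideal.Quotient.mk I)) with hi
  have h0 := (lift_fst_iff A I _ φ).mpr h
  have hg : g = Y.isoSpec.hom ≫ Spec.map (CommRingCat.ofHom φ) := eq_isoSpec_comp g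
  let ψ : Y ≃ₜ Spec Γ(Y, ⊤) := Scheme.homeoOfIso Y.isoSpec
  refine Lift.of_comp_homeomorph ψ ?_
  have hj₀ : Topology.IsEmbedding (pullback.fst (Spec.map (CommRingCat.ofHom φ)) i).base :=
    (Scheme.Hom.isClosedEmbedding _).isEmbedding
  have hj : Topology.IsEmbedding (ψ ∘ (pullback.fst g i).base) :=
    ψ.isEmbedding.comp (Scheme.Hom.isClosedEmbedding _).isEmbedding
  refine Lift.of_range_eq hj₀ hj ?_ h0
  have h1 := Scheme.Pullback.range_fst (Spec.map (CommRingCat.ofHom φ)) i
  have h2 := Scheme.Pullback.range_fst g i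
  rw [Set.range_comp]
  refine h1.trans ?_
  have h3 : Set.range (pullback.fst g i).base = ψ ⁻¹' ((Spec.map (CommRingCat.ofHom φ)).base ⁻¹'
      Set.range i.base) := by
    refine h2.trans ?_
    conv_lhs => rw [hg]
    rfl
  rw [h3, ψ.image_preimage]

/-- For a commutative ring A and an ideal I, the pair (A, I) is henselian if and only if the couple
(Spec A, Spec (A/I)) is henselian, i.e. if and only if for every finite morphism g : Y ⟶ Spec A
every open-closed subset of Y ×_{Spec A} Spec (A/I) is the inverse image under the first projection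
of exactly one open-closed subset of Y. -/
theorem result (A : Type u) [CommRing A] (I : Ideal A) :
    HenselianRing A I ↔
    ∀ (Y : Scheme.{u}) (g : Y ⟶ Spec (CommRingCat.of A)), IsFinite g →
      ∀ V : Set ↥(pullback g (Spec.map (CommRingCat.ofHom (Ideal.Quotient.mk I)))), IsClopen V →
        ∃! U : Set ↥Y, IsClopen U ∧ (pullback.fst g (Spec.map (CommRingCat.ofHom (Ideal.Quotient.mk I)))).base ⁻¹' U = V := by
  constructor
  · intro hH Y g hg
    haveI := hH
    haveI := hg
    haveI : IsAffine Y := isAffine_of_isAffineHom g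
    refine lift_of_affine I g ?_
    set φ := ((Scheme.ΓSpecIso (CommRingCat.of A)).inv ≫ g.appTop).hom with hφ
    letI : Algebra A Γ(Y, ⊤) := φ.toAlgebra
    have hfin : φ.Finite := by
      have h1 : g.appTop.hom.Finite := Scheme.Hom.finite_appTop g
      have h2 : (Scheme.ΓSpecIso (CommRingCat.of A)).inv.hom.Finite :=
        RingHom.Finite.of_surjective _
          ((ConcreteCategory.bijective_of_isIso (Scheme.ΓSpecIso (CommRingCat.of A)).inv).2)
      exact h1.comp h2
    haveI : Module.Finite A Γ(Y, ⊤) := hfin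
    haveI : Algebra.IsIntegral A Γ(Y, ⊤) := Algebra.IsIntegral.of_finite A _
    exact (lift_comap_mk_iff _ _).mpr
      (Groth.Agent.Lib.Helper26.HenselIdem.idem_bijOn A I Γ(Y, ⊤))
  · intro H
    refine Groth.Agent.Lib.Helper26.HenselIdem.henselian_of_finite_bijOn A I ?_
    intro B _ _ hB
    have hfin : IsFinite (Spec.map (CommRingCat.ofHom (algebraMap A B))) := by
      rw [IsFinite.SpecMap_iff]
      exact RingHom.finite_algebraMap.mpr hB
    have h1 : Lift (pullback.fst (Spec.map (CommRingCat.ofHom (algebraMap A B)))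
        (Spec.map (CommRingCat.ofHom (Ideal.Quotient.mk I)))).base :=
      H _ _ hfin
    exact (lift_comap_mk_iff _ _).mp ((lift_fst_iff A I B (algebraMap A B)).mp h1)

end Groth.Agent.S17971
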