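import Groth.Statements.S17964
import Groth.Agent.S17971
import Mathlib

set_option autoImplicit false
open CategoryTheory CategoryTheory.Limits AlgebraicGeometry
universe u
open Hensel

namespace Groth.Agent.S17964

open Groth.Agent.S17971 (Lift)

-- topological lemma: clopen lifting can be checked on a disjoint open cover
theorem lift_of_cover {J : Type*} {Y : Type*} [TopologicalSpace Y] (Z : Set Y)
    (Yj : J → Type*) [∀ j, TopologicalSpace (Yj j)]
    (p : ∀ j, Yj j → Y) (hp : ∀ j, Topology.IsOpenEmbedding (p j))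
    (hdisj : ∀ j j' y y', p j y = p j' y' → j = j') (hcov : ∀ y, ∃ j y', p j y' = y)
    (h : ∀ j, Lift (Subtype.val : ↥((p j) ⁻¹' Z) → Yj j)) : Lift (Subtype.val : ↥Z → Y) := by
  intro V hV
  have hVj : ∀ j, IsClopen {z : ↥((p j) ⁻¹' Z) | (⟨p j z.1, z.2⟩ : ↥Z) ∈ V} := by
    intro j
    have hc : Continuous (fun z : ↥((p j) ⁻¹' Z) => (⟨p j z.1, z.2⟩ : ↥Z)) :=
      ((hp j).continuous.comp continuous_subtype_val).subtype_mk _
    exact hV.preimage hc
  choose U hU hUuniq using fun j => h j _ (hVj j)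
  have hinj : ∀ j y y', p j y = p j y' → y = y' := fun j y y' hyy => (hp j).injective hyy
  have hmem : ∀ (W : ∀ j, Set (Yj j)) j y', p j y' ∈ ⋃ j, p j '' W j ↔ y' ∈ W j := by
    intro W j y'
    constructor
    · intro hy
      obtain ⟨j', hj'⟩ := Set.mem_iUnion.mp hy
      obtain ⟨y'', hy'', he⟩ := hj'
      obtain rfl := hdisj j' j y'' y' he
      obtain rfl := hinj j' y'' y' he
      exact hy''
    · intro hy
      exact Set.mem_iUnion.mpr ⟨j, y', hy, rfl⟩
  have hopen : ∀ W : ∀ j, Set (Yj j), (∀ j, IsOpen (W j)) → IsOpen (⋃ j, p j '' W j) :=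
    fun W hW => isOpen_iUnion fun j => (hp j).isOpenMap _ (hW j)
  refine ⟨⋃ j, p j '' U j, ⟨⟨?_, hopen U fun j => (hU j).1.isOpen⟩, ?_⟩, ?_⟩
  · rw [← isOpen_compl_iff]
    have : (⋃ j, p j '' U j)ᶜ = ⋃ j, p j '' (U j)ᶜ := by
      ext y
      obtain ⟨j, y', rfl⟩ := hcov y
      rw [Set.mem_compl_iff, hmem U, hmem (fun j => (U j)ᶜ), Set.mem_compl_iff]
    rw [this]
    exact hopen _ fun j => (hU j).1.isClosed.isOpen_compl
  · ext ⟨y, hy⟩
    obtain ⟨j, y', rfl⟩ := hcov y
    rw [Set.mem_preimage, hmem U]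
    have h1 := (hU j).2
    have h2 : (⟨y', hy⟩ : ↥((p j) ⁻¹' Z)) ∈ Subtype.val ⁻¹' U j ↔
        (⟨y', hy⟩ : ↥((p j) ⁻¹' Z)) ∈ {z : ↥((p j) ⁻¹' Z) | (⟨p j z.1, z.2⟩ : ↥Z) ∈ V} := by
      rw [h1]
    exact h2
  · rintro U' ⟨hU', hU'V⟩
    have h3 : ∀ j, (p j) ⁻¹' U' = U j := by
      intro j
      apply hUuniq j
      refine ⟨hU'.preimage (hp j).continuous, ?_⟩
      ext ⟨y', hy⟩
      have : (⟨p j y', hy⟩ : ↥Z) ∈ Subtype.val ⁻¹' U' ↔ (⟨p j y', hy⟩ : ↥Z) ∈ V := by
        rw [hU'V]
      exact this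
    ext y
    obtain ⟨j, y', rfl⟩ := hcov y
    rw [hmem U, ← h3 j]
    rfl

theorem lift_subtype_iff {P Y : Type*} [TopologicalSpace P] [TopologicalSpace Y] {k : P → Y}
    (hk : Topology.IsEmbedding k) : Lift k ↔ Lift (Subtype.val : ↥(Set.range k) → Y) := by
  have hr : Set.range k = Set.range (Subtype.val : ↥(Set.range k) → Y) := by
    rw [Subtype.range_coe]
  exact ⟨Lift.of_range_eq hk Topology.IsEmbedding.subtypeVal hr,
    Lift.of_range_eq Topology.IsEmbedding.subtypeVal hk hr.symm⟩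

theorem lift_subtype_of_eq {Y : Type*} [TopologicalSpace Y] {Z Z' : Set Y} (h : Z = Z')
    (hL : Lift (Subtype.val : ↥Z → Y)) : Lift (Subtype.val : ↥Z' → Y) := by
  subst h
  exact hL

-- points of the coproduct
theorem sigmaι_mem_range_map_iff {ι : Type u} (X X₀ : ι → Scheme.{u}) (i : ∀ j, X₀ j ⟶ X j)
    (j : ι) (x : X j) :
    Sigma.ι X j x ∈ Set.range (Limits.Sigma.map i) ↔ x ∈ Set.range (i j) := by
  constructor
  · rintro ⟨w, hw⟩
    obtain ⟨⟨j', x₀⟩, rfl⟩ := (sigmaMk X₀).surjective w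
    rw [sigmaMk_mk, ← Scheme.Hom.comp_apply, Limits.Sigma.ι_map, Scheme.Hom.comp_apply] at hw
    have := (sigmaι_eq_iff X j' j (i j' x₀) x).mp hw
    cases this
    exact ⟨x₀, rfl⟩
  · rintro ⟨x₀, rfl⟩
    refine ⟨Sigma.ι X₀ j x₀, ?_⟩
    rw [← Scheme.Hom.comp_apply, Limits.Sigma.ι_map, Scheme.Hom.comp_apply]

theorem isPullback_sigma {ι : Type u} (X X₀ : ι → Scheme.{u}) (i : ∀ j, X₀ j ⟶ X j) (j : ι) :
    IsPullback (Limits.Sigma.ι X₀ j) (i j) (Limits.Sigma.map i) (Limits.Sigma.ι X j) := by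
  have H : ∀ s : PullbackCone (Limits.Sigma.map i) (Limits.Sigma.ι X j),
      Set.range s.fst ⊆ Set.range (Limits.Sigma.ι X₀ j) := by
    rintro s _ ⟨t, rfl⟩
    obtain ⟨⟨j', x₀⟩, hx⟩ := (sigmaMk X₀).surjective (s.fst t)
    rw [sigmaMk_mk] at hx
    have h1 : Limits.Sigma.map i (s.fst t) = Limits.Sigma.ι X j (s.snd t) := by
      rw [← Scheme.Hom.comp_apply, ← Scheme.Hom.comp_apply, s.condition]
    rw [← hx, ← Scheme.Hom.comp_apply, Limits.Sigma.ι_map, Scheme.Hom.comp_apply] at h1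
    have := (sigmaι_eq_iff X j' j (i j' x₀) (s.snd t)).mp h1
    have hj : j' = j := congrArg Sigma.fst this
    subst hj
    exact ⟨x₀, hx⟩
  refine ⟨⟨Limits.Sigma.ι_map i j⟩, ⟨PullbackCone.IsLimit.mk _
    (fun s => IsOpenImmersion.lift (Limits.Sigma.ι X₀ j) s.fst (H s)) ?_ ?_ ?_⟩⟩
  · intro s
    exact IsOpenImmersion.lift_fac _ _ _
  · intro s
    rw [← cancel_mono (Limits.Sigma.ι X j), Category.assoc, ← Limits.Sigma.ι_map i j,
      IsOpenImmersion.lift_fac_assoc, s.condition]
  · intro s m hm1 hm2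
    rw [← cancel_mono (Limits.Sigma.ι X₀ j), hm1, IsOpenImmersion.lift_fac]

theorem isClosedImmersion_sigmaMap {ι : Type u} (X X₀ : ι → Scheme.{u}) (i : ∀ j, X₀ j ⟶ X j)
    [∀ j, IsClosedImmersion (i j)] : IsClosedImmersion (Limits.Sigma.map i) := by
  rw [IsZariskiLocalAtTarget.iff_of_openCover (P := @IsClosedImmersion) (sigmaOpenCover X)]
  intro j
  have hpb := isPullback_sigma X X₀ i j
  have h1 : pullback.snd (Limits.Sigma.map i) (Limits.Sigma.ι X j) =
      hpb.isoPullback.inv ≫ i j := by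
    rw [IsPullback.isoPullback_inv_snd]
  change IsClosedImmersion (pullback.snd (Limits.Sigma.map i) (Limits.Sigma.ι X j))
  rw [h1]
  infer_instance

theorem isClosedImmersion_sigmaι {ι : Type u} (X : ι → Scheme.{u}) (j : ι) :
    IsClosedImmersion (Limits.Sigma.ι X j) := by
  apply IsClosedImmersion.of_isPreimmersion
  have : Set.range (Limits.Sigma.ι X j) = sigmaMk X '' Set.range (Sigma.mk j) := by
    ext y
    constructor
    · rintro ⟨x, rfl⟩
      exact ⟨⟨j, x⟩, ⟨x, rfl⟩, sigmaMk_mk X j x⟩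
    · rintro ⟨_, ⟨x, rfl⟩, rfl⟩
      exact ⟨x, (sigmaMk_mk X j x).symm⟩
  rw [this]
  exact (sigmaMk X).isClosedMap _ Topology.IsClosedEmbedding.sigmaMk.isClosed_range

/-- Let (X_j) be a family of schemes indexed by a type ι, with closed immersions i_j : X_{j,0} ⟶ X_j,
and consider the induced morphism of disjoint unions ∐ X_{j,0} ⟶ ∐ X_j. Then the couple (∐ X_j, ∐
X_{j,0}) is henselian (for every finite morphism g : Y ⟶ ∐ X_j, every open-closed subset of the
fibre product of Y with ∐ X_{j,0} is the inverse image under the first projection of exactly one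
open-closed subset of Y) if and only if each couple (X_j, X_{j,0}) is henselian. -/
theorem result {ι : Type u} (X X₀ : ι → Scheme.{u})
    (i : ∀ j, X₀ j ⟶ X j) [∀ j, IsClosedImmersion (i j)] :
    (∀ (Y : Scheme.{u}) (g : Y ⟶ ∐ X), IsFinite g →
      ∀ V : Set ↥(pullback g (Limits.Sigma.map i)), IsClopen V →
        ∃! U : Set ↥Y, IsClopen U ∧ (pullback.fst g (Limits.Sigma.map i)).base ⁻¹' U = V) ↔
    ∀ j : ι, ∀ (Y : Scheme.{u}) (g : Y ⟶ X j), IsFinite g →
      ∀ V : Set ↥(pullback g (i j)), IsClopen V →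
        ∃! U : Set ↥Y, IsClopen U ∧ (pullback.fst g (i j)).base ⁻¹' U = V := by
  haveI : IsClosedImmersion (Limits.Sigma.map i) := isClosedImmersion_sigmaMap X X₀ i
  have hcl : ∀ j, IsClosedImmersion (Limits.Sigma.ι X j) := isClosedImmersion_sigmaι X
  constructor
  · intro H j Y g hg
    haveI := hcl j
    have hfin : IsFinite (g ≫ Limits.Sigma.ι X j) := inferInstance
    have h1 : Lift (pullback.fst (g ≫ Limits.Sigma.ι X j) (Limits.Sigma.map i)).base :=
      H Y _ hfin
    have hr : Set.range (pullback.fst (g ≫ Limits.Sigma.ι X j) (Limits.Sigma.map i)).base =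
        Set.range (pullback.fst g (i j)).base := by
      have e1 := Scheme.Pullback.range_fst (g ≫ Limits.Sigma.ι X j) (Limits.Sigma.map i)
      have e2 := Scheme.Pullback.range_fst g (i j)
      refine e1.trans (Eq.trans ?_ e2.symm)
      ext y
      rw [Set.mem_preimage, Set.mem_preimage, Scheme.Hom.comp_apply]
      exact sigmaι_mem_range_map_iff X X₀ i j (g y)
    exact Lift.of_range_eq
      (pullback.fst (g ≫ Limits.Sigma.ι X j) (Limits.Sigma.map i)).isClosedEmbedding.isEmbedding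
      (pullback.fst g (i j)).isClosedEmbedding.isEmbedding hr h1
  · intro H Y g hg
    change Lift (pullback.fst g (Limits.Sigma.map i)).base
    rw [lift_subtype_iff (pullback.fst g (Limits.Sigma.map i)).isClosedEmbedding.isEmbedding]
    have hZ : Set.range (pullback.fst g (Limits.Sigma.map i)).base =
        g.base ⁻¹' Set.range (Limits.Sigma.map i).base := Scheme.Pullback.range_fst _ _
    refine lift_subtype_of_eq hZ.symm ?_
    have e1 : ∀ j (y : ↥(pullback g (Limits.Sigma.ι X j))),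
        g (pullback.fst g (Limits.Sigma.ι X j) y) =
          Limits.Sigma.ι X j (pullback.snd g (Limits.Sigma.ι X j) y) := by
      intro j y
      rw [← Scheme.Hom.comp_apply, ← Scheme.Hom.comp_apply, pullback.condition]
    apply lift_of_cover (g.base ⁻¹' Set.range (Limits.Sigma.map i).base)
      (fun j => ↥(pullback g (Limits.Sigma.ι X j)))
      (fun j => (pullback.fst g (Limits.Sigma.ι X j)).base)
    · intro j
      exact (pullback.fst g (Limits.Sigma.ι X j)).isOpenEmbedding
    · intro j j' y y' hyy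
      have h2 := e1 j y
      have h3 := e1 j' y'
      have hyy' : pullback.fst g (Limits.Sigma.ι X j) y =
          pullback.fst g (Limits.Sigma.ι X j') y' := hyy
      rw [hyy', h3] at h2
      have := (sigmaι_eq_iff X j' j _ _).mp h2
      exact (congrArg Sigma.fst this).symm
    · intro y
      obtain ⟨⟨j, x⟩, hx⟩ := (sigmaMk X).surjective (g y)
      rw [sigmaMk_mk] at hx
      obtain ⟨z, hz, -⟩ := Scheme.Pullback.exists_preimage_pullback
        (f := g) (g := Limits.Sigma.ι X j) y x hx.symm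
      exact ⟨j, z, hz⟩
    · intro j
      have hfinj : IsFinite (pullback.snd g (Limits.Sigma.ι X j)) := inferInstance
      have h1 : Lift (pullback.fst (pullback.snd g (Limits.Sigma.ι X j)) (i j)).base :=
        H j _ _ hfinj
      rw [lift_subtype_iff
        (pullback.fst (pullback.snd g (Limits.Sigma.ι X j)) (i j)).isClosedEmbedding.isEmbedding]
        at h1
      refine lift_subtype_of_eq ?_ h1
      refine (Scheme.Pullback.range_fst _ _).trans ?_
      ext y
      rw [Set.mem_preimage, Set.mem_preimage, Set.mem_preimage]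
      rw [← sigmaι_mem_range_map_iff X X₀ i j]
      have := e1 j y
      rw [← this]

end Groth.Agent.S17964
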