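import Groth.Statements.S17969
-- import your own Groth.Agent.* helpers here
import Mathlib

set_option autoImplicit false
universe u
open scoped TensorProduct
open CAlg

namespace Groth.Agent.S17969

section Helpers
open Polynomial
theorem aux
    (A : Type u) [CommRing A] [IsDomain A] [IsIntegrallyClosed A]
    (B : Type u) [CommRing B] [Algebra A B] [Module.Finite A B] [NoZeroSMulDivisors A B]
    (x : B) (hx : Algebra.adjoin A {x} = ⊤) :
    ∃ P : Polynomial A, P.Monic ∧
      Polynomial.map (algebraMap A (FractionRing A)) P =
        (LinearMap.mulLeft (FractionRing A) ((1 : FractionRing A) ⊗ₜ[A] x)).charpoly ∧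
      RingHom.ker (Polynomial.aeval x).toRingHom = Ideal.span {P} := by
  classical
  set K := FractionRing A with hK
  set y : K ⊗[A] B := (1 : K) ⊗ₜ[A] x with hy
  have hsurj : Function.Surjective (Polynomial.aeval (R := A) x) := by
    rw [← AlgHom.range_eq_top, ← Algebra.adjoin_singleton_eq_range_aeval]; exact hx
  have hrel : ∀ f : A[X], (1 : K) ⊗ₜ[A] (aeval x f) = aeval y (f.map (algebraMap A K)) := by
    intro f
    have h1 : (1 : K) ⊗ₜ[A] (aeval x f) =
        (Algebra.TensorProduct.includeRight : B →ₐ[A] K ⊗[A] B) (aeval x f) := rfl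
    rw [h1, ← Polynomial.aeval_algHom_apply, Polynomial.aeval_map_algebraMap]
    rfl
  have hadj : Algebra.adjoin K {y} = ⊤ := by
    rw [Algebra.adjoin_singleton_eq_range_aeval, AlgHom.range_eq_top]
    intro z
    induction z using TensorProduct.induction_on with
    | zero => exact ⟨0, map_zero _⟩
    | tmul k b =>
      obtain ⟨f, rfl⟩ := hsurj b
      refine ⟨C k * f.map (algebraMap A K), ?_⟩
      rw [map_mul, aeval_C, ← hrel, Algebra.TensorProduct.algebraMap_apply,
        Algebra.TensorProduct.tmul_mul_tmul, one_mul, mul_one]
      rfl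
    | add z w hz hw =>
      obtain ⟨f, rfl⟩ := hz
      obtain ⟨g, rfl⟩ := hw
      exact ⟨f + g, map_add _ _ _⟩
  have hint : IsIntegral K y := Algebra.IsIntegral.isIntegral y
  have hχ : (LinearMap.mulLeft K y).charpoly = minpoly K y := by
    have h1 := charpoly_leftMulMatrix (PowerBasis.ofAdjoinEqTop hint hadj)
    rw [Algebra.leftMulMatrix_apply, LinearMap.charpoly_toMatrix] at h1
    exact h1
  have hxint : IsIntegral A x := Algebra.IsIntegral.isIntegral x
  obtain ⟨q, hqm, hq0⟩ := hxint
  have hdvd : minpoly K y ∣ q.map (algebraMap A K) := by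
    apply minpoly.dvd
    rw [← hrel, aeval_def, hq0, TensorProduct.tmul_zero]
  obtain ⟨P, hP⟩ := IsIntegrallyClosed.eq_map_mul_C_of_dvd K hqm hdvd
  rw [(minpoly.monic hint).leadingCoeff, C_1, mul_one] at hP
  have hinjAK : Function.Injective (algebraMap A K) := IsFractionRing.injective A K
  have hPm : P.Monic := by
    apply Polynomial.monic_of_injective hinjAK
    rw [hP]
    exact minpoly.monic hint
  refine ⟨P, hPm, hP.trans hχ.symm, ?_⟩
  have hinj : ∀ b : B, (1 : K) ⊗ₜ[A] b = 0 → b = 0 := by
    intro b hb
    have h1 := (IsLocalizedModule.eq_zero_iff (nonZeroDivisors A) (TensorProduct.mk A K B 1)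
      (m := b)).mp hb
    obtain ⟨s, hs⟩ := h1
    have hs0 : (s : A) ≠ 0 := nonZeroDivisors.coe_ne_zero s
    exact (smul_eq_zero.mp hs).resolve_left hs0
  have hPx : aeval x P = 0 := by
    apply hinj
    rw [hrel, hP, minpoly.aeval]
  ext f
  rw [RingHom.mem_ker, Ideal.mem_span_singleton]
  constructor
  · intro hf
    have hf' : aeval x f = 0 := hf
    have hdiv := Polynomial.modByMonic_add_div f P
    have hr0 : aeval x (f %ₘ P) = 0 := by
      have h2 : aeval x f = aeval x (f %ₘ P) + aeval x P * aeval x (f /ₘ P) := by
        rw [← map_mul, ← map_add, hdiv]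
      rw [hPx, zero_mul, add_zero] at h2
      rw [← h2]; exact hf'
    have hr : f %ₘ P = 0 := by
      by_contra hne
      have hdeg : ((f %ₘ P).map (algebraMap A K)).degree < (minpoly K y).degree := by
        rw [← hP, degree_map_eq_of_injective hinjAK, degree_map_eq_of_injective hinjAK]
        exact degree_modByMonic_lt f hPm
      have hne' : (f %ₘ P).map (algebraMap A K) ≠ 0 := by
        rwa [Ne, Polynomial.map_eq_zero_iff hinjAK]
      have hle := minpoly.degree_le_of_ne_zero K y hne' (by rw [← hrel, hr0, TensorProduct.tmul_zero])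
      exact absurd (lt_of_le_of_lt hle hdeg) (lt_irrefl _)
    exact (Polynomial.modByMonic_eq_zero_iff_dvd hPm).mp hr
  · rintro ⟨g, rfl⟩
    change aeval x (P * g) = 0
    rw [map_mul, hPx, zero_mul]

end Helpers

/-- Let A be an integrally closed domain with fraction field K and B a commutative A-algebra which is
finite and torsion-free as an A-module and generated as an A-algebra by a single element x. Let P be
the characteristic polynomial of multiplication by 1 ⊗ x on the finite free K-module K ⊗_A B. Then P
has coefficients in A, namely P is the image of a monic polynomial over A, and the kernel of the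
A-algebra map A[T] → B sending T to x is generated by that polynomial, so that B is A[T]/(P). -/
theorem result
    (A : Type u) [CommRing A] [IsDomain A] [IsIntegrallyClosed A]
    (B : Type u) [CommRing B] [Algebra A B] [Module.Finite A B] [NoZeroSMulDivisors A B]
    (x : B) (hx : Algebra.adjoin A {x} = ⊤) :
    ∃ P : Polynomial A, P.Monic ∧
      Polynomial.map (algebraMap A (FractionRing A)) P =
        (LinearMap.mulLeft (FractionRing A) ((1 : FractionRing A) ⊗ₜ[A] x)).charpoly ∧
      RingHom.ker (Polynomial.aeval x).toRingHom = Ideal.span {P} := by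
  exact aux A B x hx

end Groth.Agent.S17969
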