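import Groth.Statements.S17974
-- import your own Groth.Agent.* helpers here
import Groth.Agent.Lib.Helper26Unram

set_option autoImplicit false
universe u
open Unram

namespace Groth.Agent.S17974

/-- Let A be a commutative ring, B an unramified A-algebra (formally unramified and of finite type), C
an A-algebra, p a prime ideal of C, and u, v : B → C two A-algebra homomorphisms which agree after
composition with C → C/p. Then there is an element f of C not in p such that u and v agree after
composition with the localization map C → C[1/f]. -/
theorem result
    (A : Type u) [CommRing A] (B : Type u) [CommRing B] [Algebra A B]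
    [Algebra.FormallyUnramified A B] [Algebra.FiniteType A B]
    (C : Type u) [CommRing C] [Algebra A C] (p : Ideal C) [p.IsPrime]
    (u v : B →ₐ[A] C)
    (huv : (Ideal.Quotient.mk p).comp u.toRingHom = (Ideal.Quotient.mk p).comp v.toRingHom) :
    ∃ f : C, f ∉ p ∧
      (algebraMap C (Localization.Away f)).comp u.toRingHom =
        (algebraMap C (Localization.Away f)).comp v.toRingHom := by
  obtain ⟨w, hw1, hw2⟩ := Groth.Agent.Lib.Helper26.exists_separating_elem A B C u v
  have hmem : w - 1 ∈ p := by
    apply hw2
    intro b
    have := RingHom.congr_fun huv b
    simp only [RingHom.comp_apply] at this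
    exact Ideal.Quotient.eq.mp this
  refine ⟨w, ?_, ?_⟩
  · intro hwp
    have : (1 : C) ∈ p := by
      have := p.sub_mem hwp hmem
      simpa using this
    exact (Ideal.IsPrime.ne_top inferInstance) ((Ideal.eq_top_iff_one p).mpr this)
  · ext b
    simp only [RingHom.comp_apply]
    have hunit : IsUnit (algebraMap C (Localization.Away w) w) :=
      IsLocalization.Away.algebraMap_isUnit w
    have h0 := congr_arg (algebraMap C (Localization.Away w)) (hw1 b)
    rw [map_mul, map_zero, map_sub] at h0
    have := (hunit.mul_left_eq_zero).mp h0
    exact (sub_eq_zero.mp this).symm

end Groth.Agent.S17974
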