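import Groth.Statements.S17975
-- import your own Groth.Agent.* helpers here
import Mathlib

set_option autoImplicit false
universe u
open Hensel

namespace Groth.Agent.S17975

section Helpers
open Polynomial

variable (A : Type u) [CommRing A] [IsLocalRing A] (C : Type u) [CommRing C] [Algebra A C]

local notation "𝔍" => Ideal.map (algebraMap A C) (IsLocalRing.maximalIdeal A)

theorem aux [Module.Finite A C]
    (Q₀ : Polynomial (IsLocalRing.ResidueField A)) (hQ₀ : Q₀.Monic)
    (e : (C ⧸ 𝔍) ≃ₐ[A] AdjoinRoot Q₀)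
    (x : C) (hx : e (Ideal.Quotient.mk 𝔍 x) = AdjoinRoot.root Q₀) :
    Algebra.adjoin A {x} = ⊤ ∧
      ∃ Q : Polynomial A, Q.Monic ∧ Q.natDegree = Q₀.natDegree ∧
        Polynomial.map (IsLocalRing.residue A) Q = Q₀ ∧ Polynomial.aeval x Q = 0 := by
  classical
  set pb := AdjoinRoot.powerBasis' hQ₀ with hpb
  have hgen : pb.gen = AdjoinRoot.root Q₀ := rfl
  have hdim : pb.dim = Q₀.natDegree := rfl
  -- e (mk (Σ a i • x^i)) = Σ residue (a i) • root^i
  have heval : ∀ a : Fin pb.dim → A, e (Ideal.Quotient.mk 𝔍 (∑ i, a i • x ^ (i : ℕ))) =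
      ∑ i, (IsLocalRing.residue A (a i)) • pb.basis i := by
    intro a
    rw [map_sum, map_sum]
    apply Finset.sum_congr rfl
    intro i _
    rw [Algebra.smul_def, map_mul, map_mul, map_pow, map_pow, hx, pb.basis_eq_pow, hgen,
      ← Ideal.Quotient.algebraMap_eq, ← IsScalarTower.algebraMap_apply, AlgEquiv.commutes,
      ← Algebra.smul_def]
    exact (IsScalarTower.algebraMap_smul (IsLocalRing.ResidueField A) (a i) _).symm
  have key : ∀ c : C, ∃ a : Fin pb.dim → A, c - ∑ i, a i • x ^ (i : ℕ) ∈ 𝔍 := by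
    intro c
    have hy := pb.basis.sum_repr (e (Ideal.Quotient.mk 𝔍 c))
    choose a ha using fun i : Fin pb.dim =>
      IsLocalRing.residue_surjective (pb.basis.repr (e (Ideal.Quotient.mk 𝔍 c)) i)
    refine ⟨a, ?_⟩
    rw [← Ideal.Quotient.eq]
    apply e.injective
    rw [heval a, ← hy]
    apply Finset.sum_congr rfl
    intro i _
    rw [ha]
  set N : Submodule A C := Submodule.span A (Set.range fun i : Fin pb.dim => x ^ (i : ℕ)) with hN
  have hNtop : N = ⊤ := by
    rw [eq_top_iff]
    apply Submodule.le_of_le_smul_of_le_jacobson_bot (I := IsLocalRing.maximalIdeal A)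
      Module.Finite.fg_top (IsLocalRing.maximalIdeal_le_jacobson ⊥)
    intro c _
    obtain ⟨a, ha⟩ := key c
    rw [Submodule.mem_sup]
    refine ⟨∑ i, a i • x ^ (i : ℕ), ?_, c - ∑ i, a i • x ^ (i : ℕ), ?_, by abel⟩
    · exact Submodule.sum_mem _ fun i _ =>
        Submodule.smul_mem _ _ (Submodule.subset_span ⟨i, rfl⟩)
    · rw [Ideal.smul_top_eq_map]
      exact ha
  have hadj : Algebra.adjoin A {x} = ⊤ := by
    rw [eq_top_iff]
    intro c _
    have hc : c ∈ N := hNtop ▸ Submodule.mem_top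
    have hle : N ≤ Subalgebra.toSubmodule (Algebra.adjoin A {x}) := by
      rw [Submodule.span_le]
      rintro _ ⟨i, rfl⟩
      exact Subalgebra.pow_mem _ (Algebra.self_mem_adjoin_singleton A x) _
    exact hle hc
  obtain ⟨a, ha⟩ := (Submodule.mem_span_range_iff_exists_fun A).mp
    (hNtop ▸ Submodule.mem_top : x ^ pb.dim ∈ N)
  set q : A[X] := ∑ i : Fin pb.dim, Polynomial.C (a i) * X ^ (i : ℕ) with hq
  have hqdeg : q.degree < pb.dim := degree_sum_fin_lt a
  have hQm : (X ^ pb.dim - q).Monic := monic_X_pow_sub hqdeg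
  have hQdeg : (X ^ pb.dim - q).natDegree = pb.dim := by
    apply natDegree_eq_of_degree_eq_some
    rw [degree_sub_eq_left_of_degree_lt, degree_X_pow]
    rw [degree_X_pow]
    exact hqdeg
  have hQx : aeval x (X ^ pb.dim - q) = 0 := by
    rw [map_sub, map_pow, aeval_X, hq, map_sum]
    simp only [map_mul, aeval_C, map_pow, aeval_X, ← Algebra.smul_def]
    rw [ha, sub_self]
  refine ⟨hadj, X ^ pb.dim - q, hQm, hQdeg, ?_, hQx⟩
  have hroot : AdjoinRoot.mk Q₀ (map (IsLocalRing.residue A) (X ^ pb.dim - q)) = 0 := by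
    rw [← AdjoinRoot.aeval_eq]
    have h1 : aeval (AdjoinRoot.root Q₀) (X ^ pb.dim - q) = 0 := by
      rw [← hx]
      have : (e.toAlgHom.comp (Ideal.Quotient.mkₐ A 𝔍)) x = e (Ideal.Quotient.mk 𝔍 x) := rfl
      rw [← this, aeval_algHom_apply, hQx, map_zero]
    rw [← h1]
    exact aeval_map_algebraMap _ _ _
  have hdvd : Q₀ ∣ map (IsLocalRing.residue A) (X ^ pb.dim - q) := AdjoinRoot.mk_eq_zero.mp hroot
  have hmm : (map (IsLocalRing.residue A) (X ^ pb.dim - q)).Monic := hQm.map _
  refine eq_of_monic_of_dvd_of_natDegree_le hQ₀ hmm hdvd ?_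
  rw [hQm.natDegree_map, hQdeg, hdim]

end Helpers

/-- Let A be a local ring with maximal ideal m and residue field k, C a commutative A-algebra which is
finitely generated as an A-module, Q₀ a monic polynomial of degree n over k, e an A-algebra
isomorphism from C/mC to k[T]/(Q₀), and x an element of C whose class is sent by e to the class of
T. Then x generates C as an A-algebra, and x is a root of a monic polynomial Q over A of degree n
whose reduction modulo m equals Q₀. -/
theorem result
    (A : Type u) [CommRing A] [IsLocalRing A] (C : Type u) [CommRing C] [Algebra A C] [Module.Finite A C]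
    (Q₀ : Polynomial (IsLocalRing.ResidueField A)) (hQ₀ : Q₀.Monic)
    (e : (C ⧸ Ideal.map (algebraMap A C) (IsLocalRing.maximalIdeal A)) ≃ₐ[A] AdjoinRoot Q₀)
    (x : C) (hx : e (Ideal.Quotient.mk (Ideal.map (algebraMap A C) (IsLocalRing.maximalIdeal A)) x) = AdjoinRoot.root Q₀) :
    Algebra.adjoin A {x} = ⊤ ∧
      ∃ Q : Polynomial A, Q.Monic ∧ Q.natDegree = Q₀.natDegree ∧
        Polynomial.map (IsLocalRing.residue A) Q = Q₀ ∧ Polynomial.aeval x Q = 0 := by
  exact aux A C Q₀ hQ₀ e x hx

end Groth.Agent.S17975
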