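import Groth.Statements.S17976
import Groth.Agent.Lib.Helper13FinPartD
-- import your own Groth.Agent.* helpers here

set_option autoImplicit false
universe u
open Hensel

namespace Groth.Agent.S17976
open TensorProduct Groth.Agent.Lib.Helper26.PairHz Groth.Agent.Helper13FinPart
set_option linter.style.haveILetI false

/-- Let A be a commutative ring, I an ideal of A and B an A-algebra of finite type such that B/IB is a
finite A-module. Then there exist an etale A-algebra A' such that A → A'/IA' is surjective with
kernel I, and a commutative ring C which is an A'-algebra finite over A' and an etale B-algebra,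
with compatible A-algebra structures, such that B → C/IC is surjective with kernel IB. In scheme
language: an etale affine neighbourhood S' of Spec (A/I) in Spec A and an etale neighbourhood Z =
Spec C of Spec (B/IB) in Spec B, finite over S', forming a commutative square. -/
theorem result
    (A : Type u) [CommRing A] (I : Ideal A) (B : Type u) [CommRing B] [Algebra A B] [Algebra.FiniteType A B]
    (hfin : Module.Finite A (B ⧸ Ideal.map (algebraMap A B) I)) :
    ∃ (A' : Type u) (_ : CommRing A') (_ : Algebra A A') (_ : Algebra.Etale A A')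
      (C : Type u) (_ : CommRing C) (_ : Algebra A C) (_ : Algebra A' C) (_ : Algebra B C)
      (_ : IsScalarTower A A' C) (_ : IsScalarTower A B C),
      Function.Surjective ((Ideal.Quotient.mk (Ideal.map (algebraMap A A') I)).comp (algebraMap A A')) ∧
      RingHom.ker ((Ideal.Quotient.mk (Ideal.map (algebraMap A A') I)).comp (algebraMap A A')) = I ∧
      Algebra.Etale B C ∧ Module.Finite A' C ∧
      Function.Surjective ((Ideal.Quotient.mk (Ideal.map (algebraMap A C) I)).comp (algebraMap B C)) ∧
      RingHom.ker ((Ideal.Quotient.mk (Ideal.map (algebraMap A C) I)).comp (algebraMap B C)) =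
        Ideal.map (algebraMap A B) I := by
  haveI := hfin
  obtain ⟨j, x, hxi, h1x, hfinC⟩ := exists_stage I B
  have hN := j.isNbhd
  letI algBT : Algebra B (j.C ⊗[A] B) := Algebra.TensorProduct.rightAlgebra
  haveI : IsScalarTower A B (j.C ⊗[A] B) := Algebra.TensorProduct.right_isScalarTower
  refine ⟨j.C, inferInstance, inferInstance, inferInstance, (j.C ⊗[A] B) ⧸ Ideal.span {1 - x},
    inferInstance, inferInstance, inferInstance, inferInstance, inferInstance, inferInstance,
    ?_, ?_, ?_, hfinC, ?_, ?_⟩
  · intro z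
    obtain ⟨c, rfl⟩ := Ideal.Quotient.mk_surjective z
    obtain ⟨a, ha⟩ := hN.surj c
    refine ⟨a, ?_⟩
    rw [RingHom.comp_apply, eq_comm, Ideal.Quotient.mk_eq_mk_iff_sub_mem]
    exact ha
  · ext a
    rw [RingHom.mem_ker, RingHom.comp_apply, Ideal.Quotient.eq_zero_iff_mem]
    exact ⟨hN.inj a, fun h => Ideal.mem_map_of_mem _ h⟩
  · haveI : Algebra.Etale B (j.C ⊗[A] B) :=
      Algebra.Etale.of_equiv (Algebra.TensorProduct.commRight A B j.C)
    haveI : IsLocalization.Away x ((j.C ⊗[A] B) ⧸ Ideal.span {1 - x}) :=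
      IsLocalization.Away.quotient_of_isIdempotentElem hxi
    haveI : Algebra.Etale (j.C ⊗[A] B) ((j.C ⊗[A] B) ⧸ Ideal.span {1 - x}) :=
      Algebra.Etale.of_isLocalizationAway x
    exact Algebra.Etale.comp B (j.C ⊗[A] B) _
  · intro z
    obtain ⟨c, rfl⟩ := Ideal.Quotient.mk_surjective z
    obtain ⟨t, rfl⟩ := Ideal.Quotient.mk_surjective c
    obtain ⟨b, hb⟩ := exists_sub_one_tmul_mem hN B t
    refine ⟨b, ?_⟩
    rw [RingHom.comp_apply, eq_comm, Ideal.Quotient.mk_eq_mk_iff_sub_mem]
    exact map_mem_map I (Ideal.Quotient.mkₐ A (Ideal.span {1 - x})) hb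
  · ext b
    rw [RingHom.mem_ker, RingHom.comp_apply, Ideal.Quotient.eq_zero_iff_mem]
    constructor
    · intro h
      obtain ⟨σ, -⟩ := hN.exists_sigma
      obtain ⟨ψ, hψ⟩ := exists_psi σ B
      have hJ : ∀ t ∈ Ideal.span {1 - x}, ψ t = 0 := by
        intro t ht
        obtain ⟨w, rfl⟩ := Ideal.mem_span_singleton'.mp ht
        rw [map_mul, algHom_eq_zero_of_mem I ψ h1x, mul_zero]
      have h1 := algHom_eq_zero_of_mem I (Ideal.Quotient.liftₐ (Ideal.span {1 - x}) ψ hJ) h
      have h2 : (Ideal.Quotient.liftₐ (Ideal.span {1 - x}) ψ hJ)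
          (algebraMap B ((j.C ⊗[A] B) ⧸ Ideal.span {1 - x}) b) = ψ ((1 : j.C) ⊗ₜ[A] b) := rfl
      rw [h2, hψ, Ideal.Quotient.eq_zero_iff_mem] at h1
      exact h1
    · intro h
      exact map_mem_map I (IsScalarTower.toAlgHom A B ((j.C ⊗[A] B) ⧸ Ideal.span {1 - x})) h

end Groth.Agent.S17976
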