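import Groth.Statements.S17977
-- import your own Groth.Agent.* helpers here
import Mathlib.RingTheory.Unramified.LocalStructure
import Mathlib.RingTheory.QuasiFinite.Basic
import Mathlib.RingTheory.Etale.Basic

set_option autoImplicit false
universe u
open EGA4loc

namespace Groth.Agent.S17977

/-- Let A be a local ring, B a local ring which is a local-etale A-algebra, and C a local ring with a
local structure map A → C. Then every A-algebra homomorphism B → C is local. (The source states this
for local ind-etale B, i.e. filtered colimits of local-etale algebras along local maps, and reduces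
at once to the local-etale case stated here.) -/
theorem result (A : Type u) [CommRing A] [IsLocalRing A]
    (B : Type u) [CommRing B] [IsLocalRing B] [Algebra A B] (hB : EGA4loc.IsEssentiallyEtale A B)
    (C : Type u) [CommRing C] [IsLocalRing C] [Algebra A C] [IsLocalHom (algebraMap A C)]
    (φ : B →ₐ[A] C) : IsLocalHom φ.toRingHom := by
  obtain ⟨D, _, _, q, _, hD, hq, ⟨e⟩⟩ := hB
  let ψ : Localization.AtPrime q →ₐ[A] C := φ.comp (e.symm : Localization.AtPrime q →ₐ[A] B)
  let θ : D →ₐ[A] C := ψ.comp (IsScalarTower.toAlgHom A D (Localization.AtPrime q))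
  have hθ : ∀ d : D, θ d = ψ (algebraMap D (Localization.AtPrime q) d) := fun d => rfl
  -- the prime `P = θ⁻¹(m_C)`
  let P : Ideal D := (IsLocalRing.maximalIdeal C).comap θ.toRingHom
  have hPprime : P.IsPrime := Ideal.comap_isPrime _ _
  have hPq : P ≤ q := by
    intro d hd
    by_contra hdq
    have hu : IsUnit (algebraMap D (Localization.AtPrime q) d) :=
      IsLocalization.map_units (Localization.AtPrime q) (⟨d, hdq⟩ : q.primeCompl)
    have hu' : IsUnit (θ d) := by
      rw [hθ]
      exact hu.map ψ
    exact ((IsLocalRing.mem_maximalIdeal _).mp hd) hu'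
  have hunder : P.under A = q.under A := by
    rw [Ideal.under_def, Ideal.under_def, hq]
    ext a
    simp only [Ideal.mem_comap, P]
    have : θ.toRingHom (algebraMap A D a) = algebraMap A C a := by
      simp
    rw [this]
    constructor
    · intro h
      by_contra hna
      have hau : IsUnit a := by
        by_contra h'
        exact hna ((IsLocalRing.mem_maximalIdeal _).mpr h')
      exact ((IsLocalRing.mem_maximalIdeal _).mp h) (hau.map (algebraMap A C))
    · intro h
      rw [IsLocalRing.mem_maximalIdeal, mem_nonunits_iff] at h ⊢
      intro hu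
      exact h (isUnit_of_map_unit (algebraMap A C) a hu)
  have hPeq : P = q := Algebra.QuasiFinite.eq_of_le_of_under_eq (R := A) P q hPq hunder
  constructor
  intro b hb
  by_contra hnb
  -- `e b` lies in the maximal ideal of the localization
  have h1 : e b ∈ IsLocalRing.maximalIdeal (Localization.AtPrime q) := by
    rw [IsLocalRing.mem_maximalIdeal, mem_nonunits_iff]
    intro hu
    apply hnb
    have := hu.map (e.symm : Localization.AtPrime q →ₐ[A] B)
    simpa using this
  obtain ⟨d, s, hds⟩ := IsLocalization.exists_mk'_eq q.primeCompl (e b)
  rw [← hds] at h1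
  have hdq : d ∈ q := (IsLocalization.AtPrime.mk'_mem_maximal_iff (Localization.AtPrime q) q d s).mp h1
  -- but `θ d` is a unit
  have h2 : ψ (e b) = φ b := by simp [ψ]
  have h3 : algebraMap D (Localization.AtPrime q) d =
      e b * algebraMap D (Localization.AtPrime q) (s : D) := by
    rw [← hds, IsLocalization.mk'_spec]
  have h4 : IsUnit (θ d) := by
    rw [hθ, h3, map_mul, h2]
    exact IsUnit.mul hb ((IsLocalization.map_units (Localization.AtPrime q) s).map ψ)
  have h5 : d ∉ P := fun hd => ((IsLocalRing.mem_maximalIdeal _).mp hd) h4
  exact h5 (hPeq ▸ hdq)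

end Groth.Agent.S17977
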