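import Groth.Statements.S17978
-- import your own Groth.Agent.* helpers here
import Groth.Agent.Lib.Helper26Unram
import Mathlib.RingTheory.Etale.Basic

set_option autoImplicit false
universe u
open EGA4loc

namespace Groth.Agent.S17978

/-- Let A be a local ring, B a local ring which is a local-etale A-algebra, and C a local ring with a
local structure map A → C. Then two A-algebra homomorphisms B → C which agree after composition with
the residue map of C are equal; in other words an A-algebra map B → C is determined by the map it
induces on residue fields. (The source states this for local ind-etale B and reduces to the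
local-etale case stated here; C is an arbitrary local A-algebra with local structure map.) -/
theorem result (A : Type u) [CommRing A] [IsLocalRing A]
    (B : Type u) [CommRing B] [IsLocalRing B] [Algebra A B] (hB : EGA4loc.IsEssentiallyEtale A B)
    (C : Type u) [CommRing C] [IsLocalRing C] [Algebra A C] [IsLocalHom (algebraMap A C)]
    (u v : B →ₐ[A] C)
    (h : (IsLocalRing.residue C).comp u.toRingHom = (IsLocalRing.residue C).comp v.toRingHom) :
    u = v := by
  obtain ⟨D, _, _, q, _, hD, hq, ⟨e⟩⟩ := hB
  -- the maps `D → C`
  let ι : D →ₐ[A] B := (e.symm : Localization.AtPrime q →ₐ[A] B).comp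
    (IsScalarTower.toAlgHom A D (Localization.AtPrime q))
  let u' : D →ₐ[A] C := u.comp ι
  let v' : D →ₐ[A] C := v.comp ι
  obtain ⟨w, hw1, hw2⟩ := Groth.Agent.Lib.Helper26.exists_separating_elem A D C u' v'
  have hmem : w - 1 ∈ IsLocalRing.maximalIdeal C := by
    apply hw2
    intro d
    have := RingHom.congr_fun h (ι d)
    simp only [RingHom.comp_apply] at this
    rw [← Ideal.Quotient.eq]
    exact this
  have hwu : IsUnit w := by
    by_contra hnu
    have hw : w ∈ IsLocalRing.maximalIdeal C := (IsLocalRing.mem_maximalIdeal w).mpr hnu
    have : (1 : C) ∈ IsLocalRing.maximalIdeal C := by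
      have := (IsLocalRing.maximalIdeal C).sub_mem hw hmem
      simpa using this
    exact (IsLocalRing.maximalIdeal.isMaximal C).ne_top ((Ideal.eq_top_iff_one _).mpr this)
  have huv' : u' = v' := by
    ext d
    have := (hwu.mul_left_eq_zero).mp (hw1 d)
    exact (sub_eq_zero.mp this).symm
  -- extend to the localization
  have h2 : (u.comp (e.symm : Localization.AtPrime q →ₐ[A] B)).toRingHom =
      (v.comp (e.symm : Localization.AtPrime q →ₐ[A] B)).toRingHom := by
    apply IsLocalization.ringHom_ext q.primeCompl
    ext d
    exact AlgHom.congr_fun huv' d
  ext b
  have := RingHom.congr_fun h2 (e b)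
  simpa using this

end Groth.Agent.S17978
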