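import Groth.Statements.S17979
-- import your own Groth.Agent.* helpers here
import Mathlib.RingTheory.Nakayama
import Mathlib.RingTheory.AdjoinRoot
import Mathlib.RingTheory.Polynomial.Basic
import Mathlib.Tactic.Ring
import Mathlib.Tactic.LinearCombination

set_option autoImplicit false
universe u
open Hensel

namespace Groth.Agent.S17979

open Polynomial in
theorem coprime_lift (A : Type u) [CommRing A] [IsLocalRing A]
    (Q R : Polynomial A) (hQ : Q.Monic)
    (h : IsCoprime (Polynomial.map (IsLocalRing.residue A) Q) (Polynomial.map (IsLocalRing.residue A) R)) :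
    IsCoprime Q R := by
  obtain ⟨a₀, b₀, hab⟩ := h
  obtain ⟨a, rfl⟩ := Polynomial.map_surjective _ IsLocalRing.residue_surjective a₀
  obtain ⟨b, rfl⟩ := Polynomial.map_surjective _ IsLocalRing.residue_surjective b₀
  set g : A[X] := a * Q + b * R - 1 with hg
  have hgmap : g.map (IsLocalRing.residue A) = 0 := by
    rw [hg, Polynomial.map_sub, Polynomial.map_add, Polynomial.map_mul, Polynomial.map_mul,
      Polynomial.map_one, hab, sub_self]
  have hgcoeff : ∀ i, g.coeff i ∈ IsLocalRing.maximalIdeal A := by
    intro i
    have := congr_arg (fun p => Polynomial.coeff p i) hgmap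
    simp only [Polynomial.coeff_map, Polynomial.coeff_zero] at this
    exact (IsLocalRing.residue_eq_zero_iff _).mp this
  have hfin : Module.Finite A (AdjoinRoot Q) := hQ.finite_adjoinRoot
  let N : Submodule A (AdjoinRoot Q) :=
    (Ideal.span {AdjoinRoot.mk Q R}).restrictScalars A
  have hNle : (⊤ : Submodule A (AdjoinRoot Q)) ≤ N :=
    Submodule.le_of_le_smul_of_le_jacobson_bot (I := IsLocalRing.maximalIdeal A)
      Module.Finite.fg_top (IsLocalRing.maximalIdeal_le_jacobson _) (by
      intro y _
      obtain ⟨p, rfl⟩ := AdjoinRoot.mk_surjective y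
      have hp : p = p * b * R + p * a * Q - p * g := by rw [hg]; ring
      have h1 : AdjoinRoot.mk Q p = AdjoinRoot.mk Q (p * b) * AdjoinRoot.mk Q R
          - AdjoinRoot.mk Q (p * g) := by
        conv_lhs => rw [hp]
        rw [map_sub, map_add, map_mul, map_mul (AdjoinRoot.mk Q) (p * a) Q, AdjoinRoot.mk_self,
          mul_zero, add_zero]
      rw [h1]
      refine Submodule.sub_mem _ (Submodule.mem_sup_left ?_) (Submodule.mem_sup_right ?_)
      · change _ ∈ Ideal.span {AdjoinRoot.mk Q R}
        exact Ideal.mul_mem_left _ _ (Ideal.subset_span rfl)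
      · have hgs : g = ∑ i ∈ g.support, Polynomial.C (g.coeff i) * Polynomial.X ^ i :=
          Polynomial.as_sum_support_C_mul_X_pow g
        have h2 : AdjoinRoot.mk Q (p * g) =
            ∑ i ∈ g.support, g.coeff i • AdjoinRoot.mk Q (p * Polynomial.X ^ i) := by
          conv_lhs => rw [hgs, Finset.mul_sum, map_sum]
          refine Finset.sum_congr rfl fun i _ => ?_
          rw [Algebra.smul_def, AdjoinRoot.algebraMap_eq, ← AdjoinRoot.mk_C, ← map_mul]
          congr 1
          ring
        rw [h2]
        exact Submodule.sum_mem _ fun i _ =>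
          Submodule.smul_mem_smul (hgcoeff i) Submodule.mem_top)
  have h1N : (1 : AdjoinRoot Q) ∈ N := hNle Submodule.mem_top
  change (1 : AdjoinRoot Q) ∈ Ideal.span {AdjoinRoot.mk Q R} at h1N
  rw [Ideal.mem_span_singleton'] at h1N
  obtain ⟨c, hc⟩ := h1N
  obtain ⟨c', rfl⟩ := AdjoinRoot.mk_surjective c
  have h3 : AdjoinRoot.mk Q (1 - c' * R) = 0 := by
    rw [map_sub, map_mul, hc, map_one, sub_self]
  rw [AdjoinRoot.mk_eq_zero] at h3
  obtain ⟨d, hd⟩ := h3
  exact ⟨d, c', by linear_combination (-1 : A[X]) * hd⟩

/-- Let A be a local ring with residue field k and Q, R polynomials over A with Q monic. If the images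
of Q and R in k[T] generate the unit ideal, then Q and R already generate the unit ideal of A[T]. -/
theorem result (A : Type u) [CommRing A] [IsLocalRing A]
    (Q R : Polynomial A) (hQ : Q.Monic)
    (h : IsCoprime (Polynomial.map (IsLocalRing.residue A) Q) (Polynomial.map (IsLocalRing.residue A) R)) :
    IsCoprime Q R := by
  exact coprime_lift A Q R hQ h

end Groth.Agent.S17979
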