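import Groth.Statements.S1798
import Groth.Agent.Lib.Helper17PuncAnn4

set_option autoImplicit false
universe u
open CategoryTheory AlgebraicGeometry
open LocCoh

namespace Groth.Agent.S1798

/-- Let A be a ring, J ⊆ I finitely generated ideals, U the open complement of V(I) in Spec A and p ≥ 0.
If some power of J kills H^p(U, O_U), then for each finite locally free O_U-module F some power of J
kills H^p(U, F). -/
theorem result (A : Type u) [CommRing A] (J I : Ideal A) (hJI : J ≤ I) (hJ : J.FG) (hI : I.FG) (p n : ℕ) (hO : ∀ a ∈ J ^ n, ∀ x : Coh.HH (↑(LocCoh.puncturedOpen A I)) (Coh.structureModule (↑(LocCoh.puncturedOpen A I))) p, a • x = 0) (F : (↑(LocCoh.puncturedOpen A I) : Scheme.{u}).Modules) (hF : FlatMod.IsFinLocFree F) : ∃ m : ℕ, ∀ a ∈ J ^ m, ∀ x : Coh.HH (↑(LocCoh.puncturedOpen A I)) F p, a • x = 0 := by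
  classical
  open Groth.Agent.Lib.Helper17.PuncAnn Groth.Agent.Lib.Helper17.FlatDev in
  haveI : CompactSpace ↥(↑(LocCoh.puncturedOpen A I) : Scheme.{u}) := compactSpace_puncturedOpen A I hI
  -- basic opens of elements of `I` are affine
  have haff : ∀ f ∈ I, IsAffineOpen ((↑(LocCoh.puncturedOpen A I) : Scheme.{u}).basicOpen
      (ρ (A := A) (X := (↑(LocCoh.puncturedOpen A I) : Scheme.{u})) ⊤ f : Γ((↑(LocCoh.puncturedOpen A I) : Scheme.{u}), ⊤))) := by
    intro f hf
    have h1 : (↑(LocCoh.puncturedOpen A I) : Scheme.{u}).basicOpen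
        (ρ (A := A) (X := (↑(LocCoh.puncturedOpen A I) : Scheme.{u})) ⊤ f : Γ((↑(LocCoh.puncturedOpen A I) : Scheme.{u}), ⊤)) =
        (LocCoh.puncturedOpen A I).ι ⁻¹ᵁ (PrimeSpectrum.basicOpen f : (Spec (CommRingCat.of A)).Opens) := by
      rw [← basicOpen_eq_of_affine (R := CommRingCat.of A) f, Scheme.preimage_basicOpen_top]
      rfl
    rw [h1]
    refine IsAffineOpen.preimage_of_isOpenImmersion
      (isAffineOpen_top (Spec (CommRingCat.of A)) |>.basicOpen
        ((Scheme.ΓSpecIso (CommRingCat.of A)).inv f) |> fun h => by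
          rwa [basicOpen_eq_of_affine] at h) (LocCoh.puncturedOpen A I).ι ?_
    rw [Scheme.Opens.opensRange_ι]
    intro x hx
    change x ∈ (PrimeSpectrum.zeroLocus (R := A) (I : Set A))ᶜ
    intro hx'
    exact hx (hx' hf)
  -- a generating set of `J`
  obtain ⟨S, hS⟩ := hJ
  have hSJ : ∀ f ∈ S, f ∈ J := fun f hf => hS ▸ Ideal.subset_span hf
  have hN : ∀ f : A, ∃ N : ℕ, f ∈ S → ∀ a : A,
      (∀ y : Coh.HH (↑(LocCoh.puncturedOpen A I) : Scheme.{u}) (Coh.structureModule (↑(LocCoh.puncturedOpen A I) : Scheme.{u})) p, a • y = 0) →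
        ∀ x : Coh.HH (↑(LocCoh.puncturedOpen A I) : Scheme.{u}) F p, (f ^ N * a) • x = 0 := by
    intro f
    by_cases hf : f ∈ S
    · obtain ⟨N, hN⟩ := exists_pow_mul_smul_eq_zero (A := A) (X := (↑(LocCoh.puncturedOpen A I) : Scheme.{u})) f
        (haff f (hJI (hSJ f hf))) F hF p
      exact ⟨N, fun _ => hN⟩
    · exact ⟨0, fun h => absurd h hf⟩
  choose N hN using hN
  set K : Ideal A := Ideal.span ((fun f => f ^ (N f + 1)) '' (S : Set A)) with hK
  have hJK : J ≤ K.radical := by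
    rw [← hS, Ideal.span_le]
    intro f hf
    exact ⟨N f + 1, Ideal.subset_span ⟨f, hf, rfl⟩⟩
  obtain ⟨M, hM⟩ := Ideal.exists_pow_le_of_le_radical_of_fg hJK ⟨S, hS⟩
  refine ⟨M + n, fun a ha x => ?_⟩
  rw [pow_add] at ha
  -- the annihilator of `x`
  let ann : Ideal A := LinearMap.ker (LinearMap.toSpanSingleton A _ x)
  suffices h : J ^ M * J ^ n ≤ ann by
    have := h ha
    rwa [LinearMap.mem_ker, LinearMap.toSpanSingleton_apply] at this
  rw [Ideal.mul_le]
  intro r hr s hs
  have hrK : r ∈ K := hM hr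
  rw [hK] at hrK
  change (r * s) • x = 0
  clear hr
  induction hrK using Submodule.span_induction with
  | mem r hr' =>
    obtain ⟨f, hf, rfl⟩ := hr'
    have := hN f hf (f * s) (fun y => by rw [mul_smul, hO s hs y, smul_zero]) x
    rw [← mul_assoc, ← pow_succ] at this
    exact this
  | zero => rw [zero_mul, zero_smul]
  | add r r' _ _ ihr ihr' => rw [add_mul, add_smul, ihr, ihr', add_zero]
  | smul c r _ ih =>
    rw [smul_eq_mul, mul_assoc, mul_smul, ih, smul_zero]

end Groth.Agent.S1798
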