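import Groth.Statements.S17982
-- import your own Groth.Agent.* helpers here
import Groth.Agent.Lib.Helper26FinLocalProd

set_option autoImplicit false
universe u
open Hensel

namespace Groth.Agent.S17982

/-- Let A be a local ring and B a commutative A-algebra which is finitely generated as an A-module. Then
B is ring-isomorphic to a finite product of local rings if and only if the canonical homomorphism
from B to the product of the localizations of B at its maximal ideals is bijective. -/
theorem result
    (A : Type u) [CommRing A] [IsLocalRing A] (B : Type u) [CommRing B] [Algebra A B] [Module.Finite A B] :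
    (∃ (ι : Type u) (_ : Fintype ι) (C : ι → Type u) (_ : ∀ j, CommRing (C j)),
        (∀ j, IsLocalRing (C j)) ∧ Nonempty (B ≃+* (∀ j, C j))) ↔
    Function.Bijective
      (RingHom.pi (fun n : MaximalSpectrum B => algebraMap B (Localization.AtPrime n.asIdeal))) := by
  constructor
  · intro h
    exact Groth.Agent.Lib.Helper26.FinLocalProd.p3_of_p2 A B
      (Groth.Agent.Lib.Helper26.FinLocalProd.p2_of_p1 A B h)
  · intro h
    exact Groth.Agent.Lib.Helper26.FinLocalProd.p1_of_p3 B h

end Groth.Agent.S17982
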