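import Groth.Statements.S17983
import Mathlib
-- import your own Groth.Agent.* helpers here

set_option autoImplicit false
universe u
open WeilNum

namespace Groth.Agent.S17983.Aux

open Polynomial ComplexConjugate

namespace WN

lemma eval_conj (P : ℤ[X]) (z : ℂ) :
    (P.map (algebraMap ℤ ℂ)).eval (conj z) = conj ((P.map (algebraMap ℤ ℂ)).eval z) := by
  rw [eval_map, eval_map, Polynomial.hom_eval₂]
  congr 1
  exact RingHom.ext_int _ _

/-- reciprocal polynomial `x^n P(q/x)` -/
noncomputable def star (P : ℤ[X]) (q : ℤ) : ℤ[X] :=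
  ∑ j ∈ Finset.range (P.natDegree + 1), monomial (P.natDegree - j) (P.coeff j * q ^ j)

lemma coeff_star (P : ℤ[X]) (q : ℤ) (m : ℕ) :
    (star P q).coeff m = if m ≤ P.natDegree then P.coeff (P.natDegree - m) * q ^ (P.natDegree - m)
      else 0 := by
  unfold star
  rw [finsetSum_coeff]
  simp only [coeff_monomial]
  split_ifs with hm
  · rw [Finset.sum_eq_single (P.natDegree - m)]
    · rw [if_pos (by omega)]
    · intro j hj hne
      rw [Finset.mem_range] at hj
      rw [if_neg (by omega)]
    · intro h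
      exact absurd (Finset.mem_range.mpr (by omega)) h
  · refine Finset.sum_eq_zero fun j hj => ?_
    rw [if_neg (by omega)]

lemma eval_star (P : ℤ[X]) (hP : P.Monic) (q : ℤ) (w z : ℂ) (hwz : w * z = (q : ℂ)) :
    ((star P q).map (algebraMap ℤ ℂ)).eval w =
      w ^ P.natDegree * (P.map (algebraMap ℤ ℂ)).eval z := by
  have hdeg : (P.map (algebraMap ℤ ℂ)).natDegree = P.natDegree :=
    hP.natDegree_map _
  rw [eval_eq_sum_range (p := P.map (algebraMap ℤ ℂ)), hdeg, Finset.mul_sum, eval_map]
  unfold star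
  rw [eval₂_finsetSum]
  refine Finset.sum_congr rfl fun j hj => ?_
  rw [Finset.mem_range] at hj
  rw [eval₂_monomial, coeff_map]
  have : w ^ P.natDegree = w ^ j * w ^ (P.natDegree - j) := by
    rw [← pow_add]; congr 1; omega
  rw [this]
  simp only [algebraMap_int_eq, eq_intCast, Int.cast_mul, Int.cast_pow]
  rw [← hwz, mul_pow]
  ring

theorem core (P : ℤ[X]) (hP : P.Monic) (q : ℤ) (hq : 0 < q)
    (hsep : (P.map (algebraMap ℤ ℂ)).Separable)
    (hnorm : ∀ z ∈ (P.map (algebraMap ℤ ℂ)).roots, z * conj z = (q : ℂ))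
    (hnr : ∀ z ∈ (P.map (algebraMap ℤ ℂ)).roots, z.im ≠ 0) :
    Even P.natDegree ∧ ∀ r ≤ P.natDegree / 2,
      P.coeff (P.natDegree / 2 - r) = q ^ r * P.coeff (P.natDegree / 2 + r) := by
  classical
  set Pc := P.map (algebraMap ℤ ℂ) with hPc
  have hPcm : Pc.Monic := hP.map _
  have hPc0 : Pc ≠ 0 := hPcm.ne_zero
  have hdeg : Pc.natDegree = P.natDegree := hP.natDegree_map _
  set S := Pc.roots.toFinset with hS
  have hnodup : Pc.roots.Nodup := nodup_roots hsep
  have hcard : S.card = P.natDegree := by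
    rw [hS, Multiset.toFinset_card_of_nodup hnodup, IsAlgClosed.card_roots_eq_natDegree, hdeg]
  have hmemS : ∀ z, z ∈ S ↔ Pc.eval z = 0 := by
    intro z
    rw [hS, Multiset.mem_toFinset, mem_roots hPc0, IsRoot.def]
  have hmemR : ∀ z, z ∈ S → z ∈ Pc.roots := fun z hz => Multiset.mem_toFinset.mp hz
  have hconj : ∀ z ∈ S, conj z ∈ S := by
    intro z hz
    rw [hmemS] at hz ⊢
    rw [hPc, eval_conj, ← hPc, hz, map_zero]
  -- reciprocal identity
  have hD : star P q - C (P.coeff 0) * P = 0 := by
    by_contra hD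
    have hdegD : (star P q - C (P.coeff 0) * P).natDegree < P.natDegree := by
      rw [natDegree_lt_iff_degree_lt hD, degree_lt_iff_coeff_zero]
      intro m hm
      rw [coeff_sub, coeff_star, coeff_C_mul]
      rcases Nat.lt_or_ge P.natDegree m with h | h
      · rw [if_neg (by omega), coeff_eq_zero_of_natDegree_lt h]; simp
      · have : m = P.natDegree := le_antisymm h hm
        subst this
        rw [if_pos le_rfl, Nat.sub_self, pow_zero, mul_one, hP.coeff_natDegree, mul_one, sub_self]
    have hzero : (star P q - C (P.coeff 0) * P).map (algebraMap ℤ ℂ) = 0 := by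
      refine eq_zero_of_natDegree_lt_card_of_eval_eq_zero' _ S ?_ ?_
      · intro w hw
        have hz := hconj w hw
        have hwz : w * conj w = (q : ℂ) := hnorm w (hmemR w hw)
        rw [Polynomial.map_sub, eval_sub, eval_star P hP q w (conj w) hwz, Polynomial.map_mul,
          eval_mul, (hmemS _).mp hz, (hmemS w).mp hw]
        simp
      · rw [hcard]
        exact lt_of_le_of_lt natDegree_map_le hdegD
    apply hD
    exact Polynomial.map_injective _ (RingHom.injective_int (algebraMap ℤ ℂ)) (by rw [hzero, Polynomial.map_zero])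
  have hF7 : ∀ m ≤ P.natDegree,
      P.coeff (P.natDegree - m) * q ^ (P.natDegree - m) = P.coeff 0 * P.coeff m := by
    intro m hm
    have := congrArg (fun f => f.coeff m) hD
    simp only [coeff_sub, coeff_star, if_pos hm, coeff_C_mul, coeff_zero] at this
    linarith
  -- parity and constant coefficient
  set Sp := S.filter (fun z => 0 < z.im) with hSp
  have hneg : S.filter (fun z => ¬ 0 < z.im) = Sp.image conj := by
    ext z
    simp only [Finset.mem_filter, Finset.mem_image, hSp]
    constructor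
    · rintro ⟨hz, him⟩
      refine ⟨conj z, ⟨hconj z hz, ?_⟩, Complex.conj_conj z⟩
      have := hnr z (hmemR z hz)
      rw [Complex.conj_im]
      have : z.im < 0 := lt_of_le_of_ne (not_lt.mp him) this
      linarith
    · rintro ⟨w, ⟨hw, him⟩, rfl⟩
      refine ⟨hconj w hw, ?_⟩
      rw [Complex.conj_im]; linarith
  have hinj : Function.Injective (conj : ℂ → ℂ) := (starRingEnd ℂ).injective
  have hcard2 : P.natDegree = 2 * Sp.card := by
    rw [← hcard, ← Finset.card_filter_add_card_filter_not (s := S) (fun z => 0 < z.im), hneg,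
      Finset.card_image_of_injective _ hinj]
    ring
  have hprod : ∏ z ∈ S, z = (q : ℂ) ^ Sp.card := by
    rw [← Finset.prod_filter_mul_prod_filter_not S (fun z => 0 < z.im), hneg,
      Finset.prod_image (fun x _ y _ h => hinj h), ← Finset.prod_mul_distrib,
      Finset.prod_congr rfl (fun z hz => hnorm z (hmemR z (Finset.mem_filter.mp hz).1)),
      Finset.prod_const]
  have hprodR : ∏ z ∈ S, z = Pc.roots.prod := by
    rw [Finset.prod_eq_multiset_prod, hS, Multiset.toFinset_val,
      Multiset.dedup_eq_self.mpr hnodup, Multiset.map_id']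
  have ha0 : P.coeff 0 = q ^ Sp.card := by
    have h1 := (IsAlgClosed.splits Pc).coeff_zero_eq_prod_roots_of_monic hPcm
    rw [← hprodR, hprod, hdeg, hcard2, pow_mul, neg_one_sq, one_pow, one_mul, hPc, coeff_map] at h1
    have : ((P.coeff 0 : ℤ) : ℂ) = ((q ^ Sp.card : ℤ) : ℂ) := by
      push_cast; simpa using h1
    exact_mod_cast this
  refine ⟨⟨Sp.card, by rw [hcard2]; ring⟩, ?_⟩
  have hhalf : P.natDegree / 2 = Sp.card := by omega
  intro r hr
  rw [hhalf] at hr ⊢
  have h7 := hF7 (Sp.card + r) (by omega)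
  rw [ha0] at h7
  have e1 : P.natDegree - (Sp.card + r) = Sp.card - r := by omega
  rw [e1] at h7
  have e2 : q ^ Sp.card = q ^ (Sp.card - r) * q ^ r := by
    rw [← pow_add]; congr 1; omega
  rw [e2] at h7
  have hq0 : q ^ (Sp.card - r) ≠ 0 := pow_ne_zero _ hq.ne'
  apply mul_left_cancel₀ hq0
  linarith

theorem main (p e : ℕ) [Fact p.Prime] (he : 0 < e)
    (K : Type*) [Field K] [CharZero K] (π : K) (hπ : IsIntegral ℤ π)
    (hweil : ∀ z ∈ (minpoly ℤ π).aroots ℂ, ‖z‖ = Real.sqrt ((p : ℝ) ^ e))
    (hnr : ∀ z ∈ (minpoly ℤ π).aroots ℂ, z.im ≠ 0) :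
    Even (minpoly ℤ π).natDegree ∧
      ∀ r ≤ (minpoly ℤ π).natDegree / 2,
        (minpoly ℤ π).coeff ((minpoly ℤ π).natDegree / 2 - r) =
          (p : ℤ) ^ (e * r) * (minpoly ℤ π).coeff ((minpoly ℤ π).natDegree / 2 + r) := by
  have hp : 0 < p := (Fact.out : p.Prime).pos
  have hsep : ((minpoly ℤ π).map (algebraMap ℤ ℂ)).Separable := by
    have h1 : minpoly ℚ π = (minpoly ℤ π).map (algebraMap ℤ ℚ) :=
      minpoly.isIntegrallyClosed_eq_field_fractions' ℚ hπ
    have h2 : (minpoly ℚ π).Separable :=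
      (minpoly.irreducible (hπ.tower_top)).separable
    have h3 := h2.map (f := algebraMap ℚ ℂ)
    rw [h1, Polynomial.map_map] at h3
    have : (algebraMap ℚ ℂ).comp (algebraMap ℤ ℚ) = algebraMap ℤ ℂ := RingHom.ext_int _ _
    rwa [this] at h3
  have hq : (0 : ℤ) < (p : ℤ) ^ e := by positivity
  have hnorm : ∀ z ∈ ((minpoly ℤ π).map (algebraMap ℤ ℂ)).roots,
      z * conj z = (((p : ℤ) ^ e : ℤ) : ℂ) := by
    intro z hz
    have h1 := hweil z hz
    rw [Complex.mul_conj, Complex.normSq_eq_norm_sq, h1, Real.sq_sqrt (by positivity)]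
    push_cast; rfl
  obtain ⟨h1, h2⟩ := core (minpoly ℤ π) (minpoly.monic hπ) ((p : ℤ) ^ e) hq hsep hnorm hnr
  refine ⟨h1, fun r hr => ?_⟩
  rw [h2 r hr, pow_mul]

end WN

end Groth.Agent.S17983.Aux

namespace Groth.Agent.S17983

/-- Let p be a prime number, e ≥ 1 and q = p^e. Let π be an element of a field of characteristic zero
which is integral over ℤ, with minimal polynomial P over ℤ, and assume that every complex root of P
has absolute value √q and that no complex root of P is real (π is a nonreal Weil q-number). Then the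
degree of P is even, say 2d, and writing a_j for the coefficient of x^j in P one has a_{d−r} = q^r ·
a_{d+r} for every 0 ≤ r ≤ d. -/
theorem result (p e : ℕ) [Fact p.Prime] (he : 0 < e)
    (K : Type u) [Field K] [CharZero K] (π : K) (hπ : IsIntegral ℤ π)
    (hweil : ∀ z ∈ (minpoly ℤ π).aroots ℂ, ‖z‖ = Real.sqrt ((p : ℝ) ^ e))
    (hnr : ∀ z ∈ (minpoly ℤ π).aroots ℂ, z.im ≠ 0) :
    Even (minpoly ℤ π).natDegree ∧
      ∀ r ≤ (minpoly ℤ π).natDegree / 2,
        (minpoly ℤ π).coeff ((minpoly ℤ π).natDegree / 2 - r) =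
          (p : ℤ) ^ (e * r) * (minpoly ℤ π).coeff ((minpoly ℤ π).natDegree / 2 + r) := by
  exact Aux.WN.main p e he K π hπ hweil hnr

end Groth.Agent.S17983
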