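import Groth.Statements.S17989
import Groth.Agent.S0345
import Groth.Agent.Lib.Helper29ExtSes

set_option autoImplicit false
universe u
open CategoryTheory
open CAlg

namespace Groth.Agent.S17989

section aux

open CategoryTheory CategoryTheory.Abelian Groth.Agent.Lib.Helper29Gorenstein Groth.Agent.S0345

/-- A Gorenstein ring of Krull dimension at most `N` has injective dimension at most `N` over itself. -/
theorem hasInjectiveDimensionLT_of_gorenstein (A : Type u) [CommRing A] [hG : LocCoh.IsGorensteinRing A]
    (N : ℕ) (hN : ringKrullDim A ≤ N) :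
    HasInjectiveDimensionLT (ModuleCat.of A A) (N + 1) := by
  show HasInjectiveDimensionLE (ModuleCat.of A A) N
  rw [ModuleCat.hasInjectiveDimensionLE_iff_forall_primeSpectrum]
  intro p
  haveI := hG.isGorensteinLocalRing_localization p.asIdeal
  obtain ⟨d, hd⟩ := exists_natCast_ringKrullDim (Localization.AtPrime p.asIdeal)
  have h1 := (depth_eq_and_hasInjectiveDimensionLT (Localization.AtPrime p.asIdeal) d hd).2
  have hdN : d ≤ N := by
    have hht : ringKrullDim (Localization.AtPrime p.asIdeal) = p.asIdeal.height :=
      IsLocalization.AtPrime.ringKrullDim_eq_height p.asIdeal _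
    have h3 : (p.asIdeal.height : WithBot ℕ∞) ≤ ringKrullDim A :=
      Ideal.height_le_ringKrullDim_of_isPrime
    rw [← hht, hd] at h3
    have := h3.trans hN
    exact_mod_cast this
  have h2 : HasInjectiveDimensionLT
      (ModuleCat.of (Localization.AtPrime p.asIdeal) (Localization.AtPrime p.asIdeal)) (N + 1) :=
    hasInjectiveDimensionLT_of_ge _ (d + 1) (N + 1) (by omega)
  exact (loc_iff p.asIdeal.primeCompl N).mpr h2

end aux

/-- Let S be a Gorenstein ring (a Noetherian ring all of whose localizations at prime ideals have finite
injective dimension as modules over themselves) of Krull dimension 1, and let M be a finitely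
generated reflexive S-module (the canonical map M → M** is bijective). Then Ext¹_S(M, S) = 0. -/
theorem result (S : Type u) [CommRing S]
    [LocCoh.IsGorensteinRing S] (hdim : ringKrullDim S = 1)
    (M : Type u) [AddCommGroup M] [Module S M] [Module.Finite S M] [Module.IsReflexive S M] :
    Subsingleton (Abelian.Ext (ModuleCat.of S M) (ModuleCat.of S S) 1) := by
  classical
  open CategoryTheory.Abelian Groth.Agent.Lib.Helper29ExtSes in
  haveI hinj : HasInjectiveDimensionLT (ModuleCat.of S S) 2 :=
    hasInjectiveDimensionLT_of_gorenstein S 1 (by rw [hdim]; rfl)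
  -- `M*` is finitely generated, choose a surjection from a finite free module
  haveI : Module.Finite S (Module.Dual S M) := by
    obtain ⟨n, f, hf⟩ := Module.Finite.exists_fin' S M
    have hinj' : Function.Injective f.dualMap := LinearMap.dualMap_injective_of_surjective hf
    exact Module.Finite.of_injective f.dualMap hinj'
  obtain ⟨a, π, hπ⟩ := Module.Finite.exists_fin' S (Module.Dual S M)
  -- `M ≅ M** ↪ (S^a)*`
  let ι : M →ₗ[S] Module.Dual S (Fin a → S) :=
    π.dualMap ∘ₗ (Module.evalEquiv S M).toLinearMap
  have hι : Function.Injective ι := by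
    have h1 : Function.Injective π.dualMap := LinearMap.dualMap_injective_of_surjective hπ
    exact h1.comp (Module.evalEquiv S M).injective
  let F := Module.Dual S (Fin a → S)
  let q : F →ₗ[S] (F ⧸ LinearMap.range ι) := (LinearMap.range ι).mkQ
  have hq : Function.Surjective q := Submodule.mkQ_surjective _
  have hex : Function.Exact ι q := by
    intro y
    rw [Submodule.mkQ_apply, Submodule.Quotient.mk_eq_zero]
    rfl
  have hS := ses_shortExact ι q hι hq hex
  haveI : Module.Projective S F := inferInstance
  haveI : CategoryTheory.Projective (ModuleCat.of S F) :=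
    (IsProjective.iff_projective.{u, u} F).mp inferInstance
  refine ⟨fun x y => ?_⟩
  suffices h : ∀ x : Ext.{u} (ModuleCat.of S M) (ModuleCat.of S S) 1, x = 0 by rw [h x, h y]
  intro x
  have h0 : hS.extClass.comp x (rfl : 1 + 1 = 2) = 0 :=
    Ext.eq_zero_of_hasInjectiveDimensionLT _ 2 (le_refl 2)
  obtain ⟨x₂, hx₂⟩ := Ext.contravariant_sequence_exact₁ hS (ModuleCat.of S S) x rfl h0
  rw [← hx₂, Ext.eq_zero_of_projective x₂, Ext.comp_zero]

end Groth.Agent.S17989
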