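import Groth.Statements.S17988
import Mathlib
import Groth.Agent.S17989
import Groth.Agent.Lib.Helper5IntDim
import Groth.Agent.Lib.Helper29ExtSes

set_option autoImplicit false
universe u
open CAlg

namespace Groth.Agent.S17988

section aux
open CategoryTheory CategoryTheory.Abelian Groth.Agent.Lib.Helper29ExtSes

section partA

variable (Λ : Type u) [CommRing Λ] [IsDomain Λ] [IsPrincipalIdealRing Λ]
  (S : Type u) [CommRing S] [Algebra Λ S] [Module.Finite Λ S] [Module.Free Λ S]
  (M : Type u) [AddCommGroup M] [Module S M] [Module Λ M] [IsScalarTower Λ S M] [Module.Finite S M]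

include S in
theorem free_of_eval_injective (h : Function.Injective (Module.Dual.eval S M)) :
    Module.Free Λ M := by
  haveI : Module.Finite Λ M := Module.Finite.trans S M
  haveI : Module.IsTorsionFree Λ S := inferInstance
  haveI : Module.IsTorsionFree Λ M := by
    apply Module.IsTorsionFree.of_smul_eq_zero
    intro l m hlm
    by_cases hl : l = 0
    · exact Or.inl hl
    · right
      apply h
      rw [map_zero]
      ext f
      have h1 : f (l • m) = 0 := by rw [hlm, map_zero]
      rw [← algebraMap_smul S l m, map_smul, smul_eq_mul, ← Algebra.smul_def] at h1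
      rcases smul_eq_zero.mp h1 with h2 | h2
      · exact absurd h2 hl
      · simpa using h2
  infer_instance

variable [IsReduced S]

include Λ in
theorem eval_injective_of_free [Module.Free Λ M] :
    Function.Injective (Module.Dual.eval S M) := by
  haveI : IsNoetherianRing S := IsNoetherianRing.of_finite Λ S
  haveI : Module.FinitePresentation S M := Module.finitePresentation_of_finite S M
  haveI : Module.IsTorsionFree Λ M := inferInstance
  haveI : Algebra.IsIntegral Λ S := inferInstance
  rw [injective_iff_map_eq_zero]
  intro m hm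
  by_contra hm0
  let Ann : Ideal S := LinearMap.ker (LinearMap.toSpanSingleton S M m)
  have hAnn : ∀ s, s ∈ Ann ↔ s • m = 0 := fun s => by
    simp only [Ann, LinearMap.mem_ker, LinearMap.toSpanSingleton_apply]
  let T : Submonoid S := Algebra.algebraMapSubmonoid S (nonZeroDivisors Λ)
  have hdisj : Disjoint (Ann : Set S) (T : Set S) := by
    rw [Set.disjoint_left]
    rintro s hs ⟨l, hl, rfl⟩
    have h1 : l • m = 0 := by
      rw [← algebraMap_smul S l m]
      exact (hAnn _).mp hs
    rcases smul_eq_zero.mp h1 with h | h
    · exact nonZeroDivisors.ne_zero hl h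
    · exact hm0 h
  obtain ⟨𝔮, h𝔮prime, hle, h𝔮T⟩ := Ideal.exists_le_prime_disjoint Ann T hdisj
  have hmin : 𝔮 ∈ minimalPrimes S := by
    obtain ⟨𝔭, h𝔭, h𝔭𝔮⟩ := Ideal.exists_minimalPrimes_le (I := ⊥) (J := 𝔮) bot_le
    have h𝔭𝔮' : 𝔭 = 𝔮 := by
      by_contra hne
      have hlt : 𝔭 < 𝔮 := lt_of_le_of_ne h𝔭𝔮 hne
      haveI := h𝔭.1.1
      have h1 := Ideal.IsIntegral.comap_lt_comap (R := Λ) hlt
      have h2 : 𝔮.comap (algebraMap Λ S) = ⊥ := by
        rw [eq_bot_iff]
        intro l hl
        by_contra hl0
        exact Set.disjoint_left.mp h𝔮T hl ⟨l, mem_nonZeroDivisors_of_ne_zero hl0, rfl⟩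
      rw [h2] at h1
      exact not_lt_bot h1
    rw [← h𝔭𝔮']
    exact h𝔭
  haveI : Ring.KrullDimLE 0 (Localization.AtPrime 𝔮) := .of_isLocalization _ hmin _
  letI : Field (Localization.AtPrime 𝔮) := Ring.KrullDimLE.isField_of_isReduced.toField
  have hm1 : LocalizedModule.mkLinearMap 𝔮.primeCompl M m ≠ 0 := by
    intro h0
    rw [LocalizedModule.mkLinearMap_apply, ← LocalizedModule.zero_mk 1, LocalizedModule.mk_eq] at h0
    obtain ⟨u, hu⟩ := h0
    have h1 : (u : S) • m = 0 := by
      have h2 : u • m = 0 := by simpa using hu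
      exact h2
    exact u.2 (hle ((hAnn _).mpr h1))
  obtain ⟨φ, hφ⟩ := Module.Projective.exists_dual_ne_zero (Localization.AtPrime 𝔮) hm1
  let g : M →ₗ[S] Localization.AtPrime 𝔮 :=
    (φ.restrictScalars S) ∘ₗ LocalizedModule.mkLinearMap 𝔮.primeCompl M
  obtain ⟨h, s, hs⟩ := Module.FinitePresentation.exists_lift_of_isLocalizedModule 𝔮.primeCompl
    (Algebra.linearMap S (Localization.AtPrime 𝔮)) g
  have h3 : algebraMap S (Localization.AtPrime 𝔮) (h m) = (s : S) • g m := by
    have h6 : algebraMap S (Localization.AtPrime 𝔮) (h m) = s • g m := by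
      have := LinearMap.congr_fun hs m
      simpa using this
    exact h6
  have h4 : h m = 0 := by
    have := LinearMap.congr_fun hm h
    simpa using this
  rw [h4, map_zero, Algebra.smul_def] at h3
  have hsu : IsUnit (algebraMap S (Localization.AtPrime 𝔮) s) :=
    IsLocalization.map_units (Localization.AtPrime 𝔮) s
  have h5 : g m = 0 := (hsu.mul_right_eq_zero).mp h3.symm
  exact hφ h5

end partA

section partC

variable (S : Type u) [CommRing S] [IsNoetherianRing S]
  (M : Type u) [AddCommGroup M] [Module S M] [Module.Finite S M]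

/-- Over a Noetherian ring of self-injective dimension at most one, `M → M**` is surjective for
every finitely generated module. -/
theorem eval_surjective_of_injdim [HasInjectiveDimensionLT (ModuleCat.of S S) 2] :
    Function.Surjective (Module.Dual.eval S M) := by
  classical
  obtain ⟨a, p, hp⟩ := Module.Finite.exists_fin' S M
  obtain ⟨b, q, hq⟩ := Module.Finite.exists_fin' S (LinearMap.ker p)
  let d : (Fin b → S) →ₗ[S] (Fin a → S) := (LinearMap.ker p).subtype ∘ₗ q
  have hd_range : LinearMap.range d = LinearMap.ker p := by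
    rw [LinearMap.range_comp, LinearMap.range_eq_top.mpr hq, Submodule.map_top,
      Submodule.range_subtype]
  let C : Submodule S (Module.Dual S (Fin b → S)) := LinearMap.range d.dualMap
  let r : Module.Dual S (Fin a → S) →ₗ[S] C := d.dualMap.rangeRestrict
  have hr : Function.Surjective r := LinearMap.surjective_rangeRestrict _
  have hpinj : Function.Injective p.dualMap := LinearMap.dualMap_injective_of_surjective hp
  have hex1 : Function.Exact p.dualMap r := by
    intro φ
    constructor
    · intro h
      have h1 : d.dualMap φ = 0 := congrArg Subtype.val h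
      have h2 : LinearMap.ker p ≤ LinearMap.ker φ := by
        rw [← hd_range]
        rintro _ ⟨y, rfl⟩
        exact LinearMap.congr_fun h1 y
      let e := p.quotKerEquivOfSurjective hp
      refine ⟨(LinearMap.ker p).liftQ φ h2 ∘ₗ e.symm.toLinearMap, ?_⟩
      ext x
      have h3 : e.symm (p (Pi.single x 1)) = Submodule.Quotient.mk (Pi.single x 1) := by
        rw [LinearEquiv.symm_apply_eq]
        rfl
      simp only [LinearMap.dualMap_apply, LinearMap.coe_comp, LinearEquiv.coe_coe,
        Function.comp_apply, LinearMap.coe_single]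
      rw [h3]
      rfl
    · rintro ⟨ψ, rfl⟩
      apply Subtype.ext
      change d.dualMap (p.dualMap ψ) = 0
      ext y
      have h1 : p (d (Pi.single y 1)) = 0 := by
        have : d (Pi.single y 1) ∈ LinearMap.ker p := by
          rw [← hd_range]
          exact ⟨_, rfl⟩
        exact this
      simp only [LinearMap.dualMap_apply, LinearMap.coe_comp, Function.comp_apply,
        LinearMap.coe_single, LinearMap.zero_apply]
      rw [h1, map_zero]
  have hS1 := ses_shortExact (K := Module.Dual S M) (M := Module.Dual S (Fin a → S)) (Q := C)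
    p.dualMap r hpinj hr hex1
  -- second sequence `0 → C → G₁* → G₁*/C → 0`
  let F := Module.Dual S (Fin b → S)
  have hex2 : Function.Exact C.subtype C.mkQ := by
    intro y
    rw [Submodule.mkQ_apply, Submodule.Quotient.mk_eq_zero]
    simp
  have hS2 := ses_shortExact (K := C) (M := F) (Q := F ⧸ C)
    C.subtype C.mkQ C.subtype_injective (Submodule.mkQ_surjective _) hex2
  haveI : Module.Projective S F := inferInstance
  haveI : CategoryTheory.Projective (ModuleCat.of S F) :=
    (IsProjective.iff_projective.{u, u} F).mp inferInstance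
  have hC : ∀ x : Ext.{u} (ModuleCat.of S C) (ModuleCat.of S S) 1, x = 0 := by
    intro x
    have h0 : hS2.extClass.comp x (rfl : 1 + 1 = 2) = 0 :=
      Ext.eq_zero_of_hasInjectiveDimensionLT _ 2 (le_refl 2)
    obtain ⟨x₂, hx₂⟩ := Ext.contravariant_sequence_exact₁ hS2 (ModuleCat.of S S) x rfl h0
    rw [← hx₂, Ext.eq_zero_of_projective x₂, Ext.comp_zero]
  intro ξ
  have h0 : hS1.extClass.comp (Ext.mk₀ (ModuleCat.ofHom ξ)) (rfl : 1 + 0 = 1) = 0 := hC _
  obtain ⟨x₂, hx₂⟩ := Ext.contravariant_sequence_exact₁ hS1 (ModuleCat.of S S)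
    (Ext.mk₀ (ModuleCat.ofHom ξ)) rfl h0
  obtain ⟨ψ', rfl⟩ := (Ext.mk₀_bijective _ _).2 x₂
  rw [Ext.mk₀_comp_mk₀] at hx₂
  have hψ' := (Ext.mk₀_bijective _ _).1 hx₂
  obtain ⟨g, hg⟩ := (Module.evalEquiv S (Fin a → S)).surjective ψ'.hom
  refine ⟨p g, ?_⟩
  ext f
  have h1 : ξ f = ψ'.hom (p.dualMap f) := by
    have := congrArg (fun k => k.hom f) hψ'
    exact this.symm
  rw [h1, ← hg]
  rfl

end partC

end aux

/-- Let Λ be a principal ideal domain and S a commutative Λ-algebra which is finitely generated and free
as a Λ-module and reduced as a ring; let M be a finitely generated S-module. Then M is torsionless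
(the canonical map M → M** to the double S-dual is injective) if and only if M is free as a
Λ-module. If in addition S is a Gorenstein ring (it has Krull dimension at most 1, being finite over
Λ), then M is reflexive (M → M** bijective) if and only if M is free as a Λ-module, so that for such
S torsionless and reflexive finitely generated modules coincide. The published statement is the case
Λ = ℤ, resp. Λ = ℤ_ℓ for a prime ℓ, with S the minimal central order R_w of a finite set of Weil
q-numbers, resp. its ℓ-adic completion R_w ⊗ ℤ_ℓ, under the assumption that R_w is Gorenstein; the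
argument given there uses only that S is finite free over Λ, reduced, and (for reflexivity)
Gorenstein of dimension one. -/
theorem result (Λ : Type u) [CommRing Λ] [IsDomain Λ] [IsPrincipalIdealRing Λ]
    (S : Type u) [CommRing S] [Algebra Λ S] [Module.Finite Λ S] [Module.Free Λ S] [IsReduced S]
    (M : Type u) [AddCommGroup M] [Module S M] [Module Λ M] [IsScalarTower Λ S M] [Module.Finite S M] :
    (Function.Injective (Module.Dual.eval S M) ↔ Module.Free Λ M) ∧
      (LocCoh.IsGorensteinRing S → (Module.IsReflexive S M ↔ Module.Free Λ M)) := by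
  refine ⟨⟨fun h => free_of_eval_injective Λ S M h, fun h => eval_injective_of_free Λ S M⟩, ?_⟩
  intro hG
  have hdim : ringKrullDim S ≤ ((1 : ℕ) : WithBot ℕ∞) := by
    have h1 : ringKrullDim S ≤ ringKrullDim Λ :=
      Groth.Agent.Lib.Helper5.ringKrullDim_le_of_isIntegral Λ S
    have h2 : Ring.KrullDimLE 1 Λ := inferInstance
    exact h1.trans (Ring.krullDimLE_iff.mp h2)
  haveI : CategoryTheory.HasInjectiveDimensionLT (ModuleCat.of S S) 2 :=
    Groth.Agent.S17989.hasInjectiveDimensionLT_of_gorenstein S 1 hdim
  constructor
  · intro hrefl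
    exact free_of_eval_injective Λ S M (Module.bijective_dual_eval S M).injective
  · intro hfree
    haveI : IsNoetherianRing S := IsNoetherianRing.of_finite Λ S
    exact ⟨⟨eval_injective_of_free Λ S M, eval_surjective_of_injdim S M⟩⟩

end Groth.Agent.S17988
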