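import Groth.Statements.S17990
import Mathlib

set_option autoImplicit false
universe u
open CAlg

namespace Groth.Agent.S17990

section aux

variable {S : Type u} [CommRing S] {M : Type u} [AddCommGroup M] [Module S M]

/-- The trace ideal of `M`. -/
def tr (S : Type u) [CommRing S] (M : Type u) [AddCommGroup M] [Module S M] : Ideal S :=
  Ideal.span {a | ∃ (f : Module.Dual S M) (m : M), f m = a}

lemma apply_mem_tr (f : Module.Dual S M) (m : M) : f m ∈ tr S M :=
  Ideal.subset_span ⟨f, m, rfl⟩

lemma eq_zero_of_forall_dual [Module.IsReflexive S M] {m : M}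
    (h : ∀ f : Module.Dual S M, f m = 0) : m = 0 := by
  have h1 : Module.evalEquiv S M m = 0 := by
    apply LinearMap.ext
    intro f
    rw [Module.evalEquiv_apply, Module.Dual.eval_apply, h f]
    rfl
  exact (LinearEquiv.map_eq_zero_iff _).mp h1

lemma eq_zero_of_mul_tr [Module.IsReflexive S M]
    (hinj : Function.Injective (algebraMap S (Module.End S M))) {s : S}
    (h : ∀ a ∈ tr S M, s * a = 0) : s = 0 := by
  apply hinj
  rw [map_zero]
  apply LinearMap.ext
  intro m
  rw [Module.algebraMap_end_apply, LinearMap.zero_apply]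
  apply eq_zero_of_forall_dual (S := S)
  intro f
  rw [map_smul, smul_eq_mul]
  exact h _ (apply_mem_tr f m)

lemma exists_mem_tr_nonZeroDivisors [IsNoetherianRing S] [Module.IsReflexive S M]
    (hinj : Function.Injective (algebraMap S (Module.End S M))) :
    ∃ x ∈ tr S M, x ∈ nonZeroDivisors S := by
  classical
  by_contra hcon
  push_neg at hcon
  have hfin : (associatedPrimes S S).Finite := associatedPrimes.finite S S
  have hsub : ((tr S M : Ideal S) : Set S) ⊆
      ⋃ p ∈ (hfin.toFinset : Set (Ideal S)), (p : Set S) := by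
    intro x hx
    have h1 : x ∈ (nonZeroDivisors S : Set S)ᶜ := hcon x hx
    rw [← biUnion_associatedPrimes_eq_compl_nonZeroDivisors] at h1
    simpa using h1
  obtain ⟨p, hp, hle⟩ := (Ideal.subset_union_prime (s := hfin.toFinset)
    (f := fun p : Ideal S => p) ⊥ ⊥
    (fun p hp _ _ => ((Set.Finite.mem_toFinset hfin).mp hp).isPrime)).mp hsub
  have hp' : IsAssociatedPrime p S := (Set.Finite.mem_toFinset hfin).mp hp
  obtain ⟨-, z, hz⟩ := isAssociatedPrime_iff.mp hp'
  have hz0 : z = 0 := eq_zero_of_mul_tr hinj (s := z) (fun a ha => by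
    have h2 : a ∈ Submodule.colon (⊥ : Submodule S S) {z} := hz ▸ hle ha
    rw [Submodule.mem_colon_singleton, Submodule.mem_bot, smul_eq_mul] at h2
    rw [mul_comm]
    exact h2)
  apply hp'.isPrime.ne_top
  rw [hz, hz0]
  ext r
  simp [Submodule.mem_colon_singleton]

lemma exists_socle_elt [IsNoetherianRing S] (hdim : ringKrullDim S ≤ 1) (P : Ideal S) [P.IsPrime]
    (x : S) (hx : x ∈ nonZeroDivisors S) (hxP : x ∈ P) :
    ∃ y : S, y ∉ Ideal.span {x} ∧ ∀ a ∈ P, a * y ∈ Ideal.span {x} := by
  have hmin : P ∈ (Ideal.span {x}).minimalPrimes := by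
    refine ⟨⟨inferInstance, (Ideal.span_singleton_le_iff_mem _).mpr hxP⟩, ?_⟩
    rintro q ⟨hq, hxq⟩ hqP
    by_contra hnot
    have hlt : q < P := lt_of_le_of_ne hqP (fun h => hnot (h ▸ le_rfl))
    obtain ⟨p, hp, hpq⟩ := Ideal.exists_minimalPrimes_le (bot_le : (⊥ : Ideal S) ≤ q)
    haveI := hp.1.1
    have hpq' : p < q := lt_of_le_of_ne hpq (fun h => by
      subst h
      exact notMem_nonZeroDivisors_of_mem_mem_minimalPrimes
        ((Ideal.span_singleton_le_iff_mem _).mp hxq) hp hx)
    have h1 := Ideal.height_add_one_le_of_lt_of_isPrime hpq'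
    have h2 := Ideal.height_add_one_le_of_lt_of_isPrime hlt
    have h3 : (P.height : WithBot ℕ∞) ≤ 1 :=
      le_trans Ideal.height_le_ringKrullDim_of_isPrime hdim
    have h4 : P.height ≤ 1 := by exact_mod_cast h3
    have h5 : 1 ≤ q.height := le_trans (by simp) h1
    have h6 : (2 : ℕ∞) ≤ 1 := by
      calc (2 : ℕ∞) = 1 + 1 := by norm_num
        _ ≤ q.height + 1 := add_le_add h5 le_rfl
        _ ≤ P.height := h2
        _ ≤ 1 := h4
    exact absurd h6 (by norm_num)
  have hass : P ∈ associatedPrimes S (S ⧸ Ideal.span {x}) := by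
    apply Module.associatedPrimes.minimalPrimes_annihilator_subset_associatedPrimes
    rwa [Ideal.annihilator_quotient]
  obtain ⟨-, ybar, hy⟩ := isAssociatedPrime_iff.mp hass
  obtain ⟨y, rfl⟩ := Ideal.Quotient.mk_surjective ybar
  refine ⟨y, ?_, ?_⟩
  · intro hmem
    have h0 : Ideal.Quotient.mk (Ideal.span {x}) y = 0 := Ideal.Quotient.eq_zero_iff_mem.mpr hmem
    apply (inferInstance : P.IsPrime).ne_top
    rw [hy, h0]
    ext r
    simp [Submodule.mem_colon_singleton]
  · intro a ha
    have h2 : a ∈ Submodule.colon (⊥ : Submodule S (S ⧸ Ideal.span {x}))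
        {Ideal.Quotient.mk (Ideal.span {x}) y} := hy ▸ ha
    rw [Submodule.mem_colon_singleton, Submodule.mem_bot] at h2
    rw [← Ideal.Quotient.eq_zero_iff_mem, map_mul]
    exact h2

lemma tr_eq_top [IsNoetherianRing S] [Module.IsReflexive S M] (hdim : ringKrullDim S ≤ 1)
    (hb : Function.Bijective (algebraMap S (Module.End S M))) : tr S M = ⊤ := by
  by_contra hne
  obtain ⟨P, hPmax, hle⟩ := Ideal.exists_le_maximal _ hne
  haveI := hPmax.isPrime
  obtain ⟨x, hxτ, hx⟩ := exists_mem_tr_nonZeroDivisors hb.1
  obtain ⟨y, hy, hPy⟩ := exists_socle_elt hdim P x hx (hle hxτ)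
  -- multiplication by `x` on `S` and on `M`
  let μS : S →ₗ[S] S := LinearMap.lsmul S S x
  have hμS : Function.Injective μS := by
    rw [injective_iff_map_eq_zero]
    intro b hb0
    have h1 : x * b = 0 := hb0
    exact (mul_right_mem_nonZeroDivisors_eq_zero_iff hx).mp (by rwa [mul_comm])
  let μ : M →ₗ[S] M := LinearMap.lsmul S M x
  have hμ : Function.Injective μ := by
    rw [injective_iff_map_eq_zero]
    intro m hm
    have h1 : x • m = 0 := hm
    apply eq_zero_of_forall_dual (S := S)
    intro f
    have h2 : x * f m = 0 := by rw [← smul_eq_mul, ← map_smul, h1, map_zero]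
    exact (mul_right_mem_nonZeroDivisors_eq_zero_iff hx).mp (by rwa [mul_comm])
  have hrange : ∀ m : M, (y • (LinearMap.id : M →ₗ[S] M)) m ∈ LinearMap.range μ := by
    intro m
    have hmem : ∀ f : Module.Dual S M,
        (y • Module.Dual.eval S M m) f ∈ LinearMap.range μS := by
      intro f
      have h1 : f m * y ∈ Ideal.span {x} := hPy _ (hle (apply_mem_tr f m))
      obtain ⟨b, hb1⟩ := Ideal.mem_span_singleton'.mp h1
      refine ⟨b, ?_⟩
      change x • b = y • (f m)
      rw [smul_eq_mul, smul_eq_mul, mul_comm x b, hb1, mul_comm]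
    let eS := LinearEquiv.ofInjective μS hμS
    let β : Module.Dual S (Module.Dual S M) :=
      eS.symm.toLinearMap ∘ₗ
        (LinearMap.codRestrict (LinearMap.range μS) (y • Module.Dual.eval S M m) hmem)
    have hβ : ∀ f : Module.Dual S M, x * β f = y * f m := by
      intro f
      have h1 : eS (β f) =
          (LinearMap.codRestrict (LinearMap.range μS) (y • Module.Dual.eval S M m) hmem) f :=
        eS.apply_symm_apply _
      have h2 := congrArg Subtype.val h1
      exact h2
    refine ⟨(Module.evalEquiv S M).symm β, ?_⟩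
    have h3 : x • (Module.evalEquiv S M).symm β - y • m = 0 := by
      apply eq_zero_of_forall_dual (S := S)
      intro f
      rw [map_sub, map_smul, map_smul, Module.apply_evalEquiv_symm_apply, smul_eq_mul,
        smul_eq_mul, hβ f, sub_self]
    exact sub_eq_zero.mp h3
  let e := LinearEquiv.ofInjective μ hμ
  let ψ : M →ₗ[S] M := e.symm.toLinearMap ∘ₗ
    (LinearMap.codRestrict (LinearMap.range μ) (y • (LinearMap.id : M →ₗ[S] M)) hrange)
  have hψ : ∀ m : M, x • ψ m = y • m := by
    intro m
    have h1 : e (ψ m) =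
        (LinearMap.codRestrict (LinearMap.range μ) (y • (LinearMap.id : M →ₗ[S] M)) hrange) m :=
      e.apply_symm_apply _
    exact congrArg Subtype.val h1
  obtain ⟨r, hr⟩ := hb.2 ψ
  have hr' : ∀ m : M, ψ m = r • m := fun m => by
    rw [← hr, Module.algebraMap_end_apply]
  have hxy : x * r - y = 0 := by
    apply hb.1
    rw [map_zero]
    apply LinearMap.ext
    intro m
    rw [Module.algebraMap_end_apply, LinearMap.zero_apply, sub_smul, mul_smul, ← hr', hψ, sub_self]
  apply hy
  rw [Ideal.mem_span_singleton']
  exact ⟨r, by rw [mul_comm]; exact sub_eq_zero.mp hxy⟩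

lemma nonempty_equiv_of_tr_eq_top (hb : Function.Bijective (algebraMap S (Module.End S M)))
    (htr : tr S M = ⊤) (P : Ideal S) [hP : P.IsPrime] :
    Nonempty (LocalizedModule P.primeCompl M ≃ₗ[Localization.AtPrime P] Localization.AtPrime P) := by
  have hex : ∃ (f : Module.Dual S M) (m : M), f m ∉ P := by
    by_contra hcon
    push_neg at hcon
    have h1 : tr S M ≤ P := Ideal.span_le.mpr (by rintro a ⟨f, m, rfl⟩; exact hcon f m)
    rw [htr] at h1
    exact hP.ne_top (top_le_iff.mp h1)
  obtain ⟨f, m, hfm⟩ := hex
  obtain ⟨s, hs⟩ := hb.2 ((LinearMap.toSpanSingleton S M m) ∘ₗ f)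
  have hs' : ∀ x : M, s • x = f x • m := fun x => by
    have h1 := LinearMap.congr_fun hs x
    simpa using h1
  have hst : s * f m = f m * f m := by
    have h1 := congrArg f (hs' m)
    rw [map_smul, map_smul, smul_eq_mul, smul_eq_mul] at h1
    exact h1
  have key : ∀ x : M, (f m * f m) • x = (f m * f x) • m := by
    intro x
    rw [← hst, mul_comm s (f m), mul_smul, hs', ← mul_smul]
  have htt : f m * f m ∈ P.primeCompl := P.primeCompl.mul_mem hfm hfm
  let α : Localization.AtPrime P →ₗ[Localization.AtPrime P] LocalizedModule P.primeCompl M :=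
    LinearMap.toSpanSingleton _ _ (LocalizedModule.mk m 1)
  have hα : ∀ a, α a = a • LocalizedModule.mk m 1 := fun a => rfl
  have hsurj : Function.Surjective α := by
    intro z
    induction z using LocalizedModule.induction_on with
    | h x v =>
      refine ⟨Localization.mk (f m * f x) (⟨f m * f m, htt⟩ * v), ?_⟩
      rw [hα, LocalizedModule.mk_smul_mk, mul_one, ← key x]
      exact LocalizedModule.mk_cancel_common_left ⟨f m * f m, htt⟩ v x
  have hinj : Function.Injective α := by
    rw [injective_iff_map_eq_zero]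
    intro a ha
    induction a using Localization.induction_on with
    | H cv =>
      obtain ⟨c, v⟩ := cv
      rw [hα, LocalizedModule.mk_smul_mk, ← LocalizedModule.zero_mk (v * 1),
        LocalizedModule.mk_eq] at ha
      obtain ⟨u, hu⟩ := ha
      rw [smul_zero, smul_zero] at hu
      have h1 := congrArg f hu
      rw [map_zero] at h1
      simp only [Submonoid.smul_def, map_smul, smul_eq_mul] at h1
      rw [Localization.mk_eq_mk', IsLocalization.mk'_eq_zero_iff]
      refine ⟨u * (v * 1) * ⟨f m, hfm⟩, ?_⟩
      simp only [Submonoid.coe_mul]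
      calc (u : S) * ((v : S) * ((1 : P.primeCompl) : S)) * f m * c
          = (u : S) * (((v : S) * ((1 : P.primeCompl) : S)) * (c * f m)) := by ring
        _ = 0 := h1
  exact ⟨(LinearEquiv.ofBijective α ⟨hinj, hsurj⟩).symm⟩

lemma exists_local_generator (P : Ideal S) [hP : P.IsPrime]
    (e : LocalizedModule P.primeCompl M ≃ₗ[Localization.AtPrime P] Localization.AtPrime P) :
    ∃ m₀ : M, (∀ x : M, ∃ u c : S, u ∉ P ∧ u • x = c • m₀) ∧
      (∀ c : S, c • m₀ = 0 → ∃ u : S, u ∉ P ∧ u * c = 0) := by
  have hmk : ∀ z : LocalizedModule P.primeCompl M, ∃ m v, LocalizedModule.mk m v = z := fun z => by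
    induction z using LocalizedModule.induction_on with
    | h m s => exact ⟨m, s, rfl⟩
  obtain ⟨m₀, v, hm₀⟩ := hmk (e.symm 1)
  refine ⟨m₀, ?_, ?_⟩
  · intro x
    have hloc : ∀ a : Localization.AtPrime P, ∃ c w, Localization.mk c w = a := fun a => by
      induction a using Localization.induction_on with
      | H cw => exact ⟨cw.1, cw.2, rfl⟩
    obtain ⟨c, w, hcw⟩ := hloc (e (LocalizedModule.mk x 1))
    have h1 : LocalizedModule.mk x (1 : P.primeCompl) = LocalizedModule.mk (c • m₀) (w * v) := by
      rw [← LocalizedModule.mk_smul_mk, hm₀, ← map_smul,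
        smul_eq_mul, mul_one, hcw, LinearEquiv.symm_apply_apply]
    rw [LocalizedModule.mk_eq] at h1
    obtain ⟨u, hu⟩ := h1
    refine ⟨u * (w * v), u * c, ?_, ?_⟩
    · exact (u * (w * v)).2
    · rw [one_smul] at hu
      rw [mul_smul (u : S) c m₀, mul_smul (u : S) ((w : S) * (v : S)) x]
      exact hu
  · intro c hc
    have h1 : (Localization.mk c (1 : P.primeCompl)) = 0 := by
      apply e.symm.injective
      rw [map_zero]
      have h2 : Localization.mk c (1 : P.primeCompl) =
          Localization.mk c (1 : P.primeCompl) • (1 : Localization.AtPrime P) := by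
        rw [smul_eq_mul, mul_one]
      rw [h2, map_smul, ← hm₀, LocalizedModule.mk_smul_mk, hc, LocalizedModule.zero_mk]
    rw [Localization.mk_eq_mk', IsLocalization.mk'_eq_zero_iff] at h1
    obtain ⟨u, hu⟩ := h1
    exact ⟨u, u.2, hu⟩

lemma bijective_of_locally_free [Module.Finite S M]
    (h : ∀ (P : Ideal S) (_ : P.IsPrime),
      Nonempty (LocalizedModule P.primeCompl M ≃ₗ[Localization.AtPrime P] Localization.AtPrime P)) :
    Function.Bijective (algebraMap S (Module.End S M)) := by
  classical
  constructor
  · rw [injective_iff_map_eq_zero]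
    intro s hs
    have hs' : ∀ x : M, s • x = 0 := fun x => by
      change (algebraMap S (Module.End S M) s) x = 0
      rw [hs, LinearMap.zero_apply]
    by_contra hne
    have hJ : Ideal.span {s} ≠ ⊥ := by
      rw [Ne, Ideal.span_singleton_eq_bot]
      exact hne
    -- annihilator of s
    let J : Ideal S := Submodule.colon (⊥ : Submodule S S) {s}
    have hJtop : J ≠ ⊤ := by
      intro htop
      have h1 : (1 : S) ∈ J := htop ▸ Submodule.mem_top
      rw [Submodule.mem_colon_singleton, Submodule.mem_bot, one_smul] at h1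
      exact hne h1
    obtain ⟨P, hPmax, hle⟩ := Ideal.exists_le_maximal _ hJtop
    haveI := hPmax.isPrime
    obtain ⟨e⟩ := h P inferInstance
    obtain ⟨m₀, -, h2⟩ := exists_local_generator P e
    obtain ⟨u, hu, hus⟩ := h2 s (hs' m₀)
    apply hu
    apply hle
    rw [Submodule.mem_colon_singleton, Submodule.mem_bot, smul_eq_mul]
    exact hus
  · intro φ
    let J : Ideal S :=
      Submodule.colon (LinearMap.range (Algebra.linearMap S (Module.End S M))) {φ}
    by_cases hJtop : J = ⊤
    · have h1 : (1 : S) ∈ J := hJtop ▸ Submodule.mem_top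
      rw [Submodule.mem_colon_singleton, one_smul] at h1
      obtain ⟨b, hb⟩ := h1
      exact ⟨b, hb⟩
    · exfalso
      obtain ⟨P, hPmax, hle⟩ := Ideal.exists_le_maximal _ hJtop
      haveI := hPmax.isPrime
      obtain ⟨e⟩ := h P inferInstance
      obtain ⟨m₀, h1, -⟩ := exists_local_generator P e
      choose u c hu huc using h1
      obtain ⟨G, hG⟩ := (Module.Finite.fg_top : (⊤ : Submodule S M).FG)
      let U : S := ∏ g ∈ G, u g
      have hU : U ∉ P := by
        have h3 : U ∈ P.primeCompl := P.primeCompl.prod_mem (fun g _ => hu g)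
        exact h3
      let u₀ := u (φ m₀)
      let c₀ := c (φ m₀)
      have h0 : u₀ • φ m₀ = c₀ • m₀ := huc (φ m₀)
      have hmem : u₀ * U ∈ J := by
        rw [Submodule.mem_colon_singleton]
        refine ⟨c₀ * U, ?_⟩
        apply LinearMap.ext_on_range (v := fun g : G => (g : M))
        · rw [Subtype.range_coe_subtype]
          simpa using hG
        · rintro ⟨g, hg⟩
          simp only [Algebra.linearMap_apply, Module.algebraMap_end_apply, LinearMap.smul_apply]
          have hUg : u g * ∏ x ∈ G.erase g, u x = U := Finset.mul_prod_erase G u hg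
          have h4 : (u₀ * u g) • φ g = (c₀ * u g) • g := by
            calc (u₀ * u g) • φ g = u₀ • φ (u g • g) := by rw [map_smul, mul_smul]
              _ = u₀ • φ (c g • m₀) := by rw [huc g]
              _ = c g • (u₀ • φ m₀) := by rw [map_smul, smul_comm]
              _ = c g • (c₀ • m₀) := by rw [h0]
              _ = c₀ • (c g • m₀) := by rw [smul_comm]
              _ = c₀ • (u g • g) := by rw [← huc g]
              _ = (c₀ * u g) • g := by rw [mul_smul]
          calc (c₀ * U) • g = (∏ x ∈ G.erase g, u x) • ((c₀ * u g) • g) := by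
                rw [← mul_smul, ← hUg]; ring_nf
            _ = (∏ x ∈ G.erase g, u x) • ((u₀ * u g) • φ g) := by rw [h4]
            _ = (u₀ * U) • φ g := by rw [← mul_smul, ← hUg]; ring_nf
      exact (hPmax.isPrime.mul_mem_iff_mem_or_mem.not.mpr (by
        push_neg
        exact ⟨hu (φ m₀), hU⟩)) (hle hmem)

end aux

/-- Let S be a reduced Gorenstein ring (Noetherian, all localizations at primes of finite injective
dimension over themselves) whose Krull dimension is ≤ 1; let M be a finitely generated S-module
which is reflexive (M → M** bijective). Then M is locally free of rank 1, i.e. the localization M_P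
is isomorphic to S_P as an S_P-module for every prime ideal P of S, if and only if the natural ring
map S → End_S(M), sending s to multiplication by s, is bijective. -/
theorem result (S : Type u) [CommRing S]
    [IsReduced S] [LocCoh.IsGorensteinRing S] (hdim : ringKrullDim S ≤ 1)
    (M : Type u) [AddCommGroup M] [Module S M] [Module.Finite S M] [Module.IsReflexive S M] :
    (∀ (P : Ideal S) (_ : P.IsPrime),
        Nonempty (LocalizedModule P.primeCompl M ≃ₗ[Localization.AtPrime P] Localization.AtPrime P)) ↔
      Function.Bijective (algebraMap S (Module.End S M)) := by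
  constructor
  · intro h
    exact bijective_of_locally_free h
  · intro hb P hP
    exact nonempty_equiv_of_tr_eq_top hb (tr_eq_top hdim hb) P

end Groth.Agent.S17990
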