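import Groth.Statements.S18019
-- import your own Groth.Agent.* helpers here
import Mathlib.Algebra.Polynomial.Div
import Mathlib.Algebra.CharP.Two
import Mathlib.Tactic.Ring
import Mathlib.Tactic.LinearCombination

set_option autoImplicit false
universe u
open ClassStk

namespace Groth.Agent.S18019

open Polynomial in
theorem u_monic (R : Type u) [CommRing R] [IsDomain R] (a : R) :
    (X * (X + C a) : R[X]).Monic :=
  (monic_X).mul (monic_X_add_C a)

open Polynomial in
theorem u_natDegree (R : Type u) [CommRing R] [IsDomain R] (a : R) :
    (X * (X + C a) : R[X]).natDegree = 2 := by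
  rw [natDegree_mul X_ne_zero (X_add_C_ne_zero a), natDegree_X, natDegree_X_add_C]

open Polynomial in
theorem u_comp (R : Type u) [CommRing R] [CharP R 2] (a : R) :
    (X * (X + C a) : R[X]).comp (X + C a) = X * (X + C a) := by
  have h2 : C a + C a = (0 : R[X]) := by
    rw [← C_add, CharTwo.add_self_eq_zero, C_0]
  simp only [mul_comp, X_comp, add_comp, C_comp]
  linear_combination (X + C a) * h2

open Polynomial in
theorem forward (R : Type u) [CommRing R] [IsDomain R] [CharP R 2] (a : R) (ha : a ≠ 0) :
    ∀ (n : ℕ) (f : R[X]), f.natDegree = n → f.comp (X + C a) = f →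
      f ∈ Algebra.adjoin R ({X * (X + C a)} : Set R[X]) := by
  intro n
  induction n using Nat.strong_induction_on with
  | _ n ih =>
    intro f hn hf
    set u : R[X] := X * (X + C a) with hu
    have hum : u.Monic := u_monic R a
    have hud : u.natDegree = 2 := u_natDegree R a
    have hdecomp : f %ₘ u + u * (f /ₘ u) = f := modByMonic_add_div f u
    -- apply σ
    have hσ : (f %ₘ u).comp (X + C a) + u * (f /ₘ u).comp (X + C a) = f := by
      have := congr_arg (fun g => g.comp (X + C a)) hdecomp
      simp only [add_comp, mul_comp] at this
      rw [hf, hu, u_comp] at this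
      exact this
    have hdegr : (f %ₘ u).degree < u.degree := degree_modByMonic_lt f hum
    have hnatr : (f %ₘ u).natDegree ≤ 1 := by
      by_cases h0 : f %ₘ u = 0
      · rw [h0]; simp
      · have := (natDegree_lt_natDegree_iff h0).mpr hdegr
        omega
    have hdegσ : ((f %ₘ u).comp (X + C a)).degree < u.degree := by
      by_cases h0 : (f %ₘ u).comp (X + C a) = 0
      · rw [h0, degree_zero]
        exact bot_lt_iff_ne_bot.mpr (by rw [Ne, degree_eq_bot]; exact hum.ne_zero)
      · rw [degree_eq_natDegree h0, degree_eq_natDegree hum.ne_zero, hud]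
        have h1 : ((f %ₘ u).comp (X + C a)).natDegree ≤ (f %ₘ u).natDegree * (X + C a).natDegree :=
          natDegree_comp_le
        rw [natDegree_X_add_C, mul_one] at h1
        exact_mod_cast (by omega : ((f %ₘ u).comp (X + C a)).natDegree < 2)
    obtain ⟨hq, hr⟩ := div_modByMonic_unique ((f /ₘ u).comp (X + C a))
      ((f %ₘ u).comp (X + C a)) hum ⟨hσ, hdegσ⟩
    -- `r` is constant
    have hrform : f %ₘ u = C ((f %ₘ u).coeff 1) * X + C ((f %ₘ u).coeff 0) :=
      eq_X_add_C_of_natDegree_le_one hnatr
    have hr1 : (f %ₘ u).coeff 1 = 0 := by
      have h1 := hr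
      rw [hrform] at h1
      have h2 := congr_arg (fun g => g.coeff 0) h1
      simp only [add_comp, mul_comp, C_comp, X_comp, coeff_add, mul_coeff_zero, coeff_C_zero,
        coeff_X_zero, mul_zero, zero_add] at h2
      simp at h2
      rcases h2 with h2 | h2
      · simpa using h2
      · exact absurd h2 ha
    have hrC : f %ₘ u = C ((f %ₘ u).coeff 0) := by
      rw [hrform, hr1]
      simp
    -- `q` is in the subalgebra
    have hqmem : f /ₘ u ∈ Algebra.adjoin R ({u} : Set R[X]) := by
      by_cases hlt : f.natDegree < 2
      · have : f /ₘ u = 0 := by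
          rw [divByMonic_eq_zero_iff hum]
          by_cases hf0 : f = 0
          · rw [hf0, degree_zero]
            exact bot_lt_iff_ne_bot.mpr (by rw [Ne, degree_eq_bot]; exact hum.ne_zero)
          · rw [degree_eq_natDegree hf0, degree_eq_natDegree hum.ne_zero, hud]
            exact_mod_cast hlt
        rw [this]
        exact Subalgebra.zero_mem _
      · have hqd : (f /ₘ u).natDegree = f.natDegree - 2 := by
          rw [natDegree_divByMonic f hum, hud]
        exact ih (f /ₘ u).natDegree (by omega) (f /ₘ u) rfl hq.symm
    rw [← hdecomp, hrC]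
    refine Subalgebra.add_mem _ ?_ (Subalgebra.mul_mem _ (Algebra.subset_adjoin rfl) hqmem)
    exact Subalgebra.algebraMap_mem _ _

open Polynomial in
/-- Let R be an integral domain of characteristic 2 and let a be a nonzero element of R, so that x ↦ x +
a defines an R-algebra involution of the polynomial ring R[x] (an action of the group of order two).
A polynomial f is invariant, f(x + a) = f(x), if and only if f belongs to the R-subalgebra generated
by u = x (x + a); in other words the ring of invariants is the polynomial ring R[u]. -/
theorem result (R : Type u) [CommRing R] [IsDomain R]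
    [CharP R 2] (a : R) (ha : a ≠ 0) (f : Polynomial R) :
    f.comp (X + C a) = f ↔ f ∈ Algebra.adjoin R ({X * (X + C a)} : Set (Polynomial R)) := by
  constructor
  · intro hf
    exact forward R a ha f.natDegree f rfl hf
  · intro hf
    induction hf using Algebra.adjoin_induction with
    | mem x hx =>
      rw [Set.mem_singleton_iff] at hx
      rw [hx, u_comp]
    | algebraMap r => simp
    | add x y _ _ hx hy => rw [add_comp, hx, hy]
    | mul x y _ _ hx hy => rw [mul_comp, hx, hy]

end Groth.Agent.S18019
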