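import Groth.Statements.S18020
-- import your own Groth.Agent.* helpers here

set_option autoImplicit false
open W4c5stacksedinertia

namespace Groth.Agent.S18020

open W4c5stacksedinertia in
theorem card_of (H : Type) [Group H] [Finite H] : (Idx.of H).card = Nat.card H := by
  unfold Idx.card Idx.rep
  have h1 : Quotient.mk FinGrp.setoid (Quotient.out (s := FinGrp.setoid) (Idx.of H)) =
      Quotient.mk FinGrp.setoid (FinGrp.of H) := Quotient.out_eq _
  obtain ⟨e⟩ := Quotient.exact h1
  rw [Nat.card_congr e.toEquiv]
  change Nat.card (Fin (Nat.card H)) = Nat.card H
  simp

open W4c5stacksedinertia in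
theorem cl_mem (n : ℕ) (H : Type) [Group H] [Finite H] (h : Nat.card H ≤ n) : cl H ∈ Kle n := by
  unfold cl Kle
  apply Finsupp.single_mem_supported
  simp only [Set.mem_ofPred_eq]
  rw [card_of]
  exact h

open W4c5stacksedinertia in
theorem inertiaROf_mem (n : ℕ) (G : Type) [Group G] [Finite G] (h : Nat.card G ≤ n) (r : ℕ) :
    inertiaROf r G ∈ Kle n := by
  unfold inertiaROf
  refine finsum_induction (fun x => x ∈ Kle n) (Submodule.zero_mem _)
    (fun x y hx hy => Submodule.add_mem _ hx hy) ?_
  intro O
  apply cl_mem
  exact le_trans (Nat.card_le_card_of_injective Subtype.val Subtype.val_injective) h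

open W4c5stacksedinertia in
/-- In the rational vector space K with basis the isomorphism classes of finite groups (the class of a
group standing for its classifying groupoid), the inertia operator, which sends the class of a
finite group to the sum over its conjugacy classes of the classes of the centralizers of
representatives, preserves the subspace spanned by the classes of groups of order at most `n`. -/
theorem result (n : ℕ) (v : K) (hv : v ∈ Kle n) :
    inertia v ∈ Kle n := by
  change Finsupp.linearCombination ℚ (fun i : Idx => inertiaROf 1 i.rep) v ∈ Kle n
  rw [Finsupp.linearCombination_apply]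
  refine Submodule.sum_mem _ ?_
  intro i hi
  refine Submodule.smul_mem _ _ ?_
  apply inertiaROf_mem
  have := (Finsupp.mem_supported _ _).mp hv hi
  exact this

end Groth.Agent.S18020
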