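import Groth.Statements.S18021
import Mathlib
import Groth.Agent.Lib.Helper11InertiaE

set_option autoImplicit false
open W4c5stacksedinertia

namespace Groth.Agent.S18021

open Groth.Agent.Lib.Helper11Inertia


open W4c5stacksedinertia in
/-- In the rational vector space K with basis the isomorphism classes of finite groups (the class of a
group standing for its classifying groupoid), the inertia operator is diagonalizable with spectrum
the positive integers: the eigenspaces attached to natural numbers span everything, and a rational
number is an eigenvalue if and only if it is a positive integer. -/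
theorem result :
    (⨆ n : ℕ, Module.End.eigenspace inertia (n : ℚ)) = ⊤ ∧
    ∀ μ : ℚ, Module.End.HasEigenvalue inertia μ ↔ ∃ n : ℕ, 0 < n ∧ μ = (n : ℚ) := by
  refine ⟨?_, ?_⟩
  · rw [eq_top_iff]
    intro v _
    obtain ⟨N, hN1, hN⟩ := exists_vanish v
    rw [← sum_PN N hN1 v]
    apply Submodule.sum_mem
    intro k _
    have hmem : PN N k v ∈ Module.End.eigenspace inertia (k : ℚ) := by
      rw [Module.End.mem_eigenspace_iff]
      exact inertia_PN N k v hN
    exact (le_iSup (fun n : ℕ => Module.End.eigenspace inertia (n : ℚ)) k) hmem
  · intro μ
    constructor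
    · intro h
      obtain ⟨v, hv⟩ := h.exists_hasEigenvector
      have hv0 : v ≠ 0 := hv.2
      have hvμ : inertia v = μ • v := hv.apply_eq_smul
      obtain ⟨N, _, hN⟩ := exists_vanish v
      have h1 := eigen_inertiaR μ v hvμ N
      rw [hN N le_rfl] at h1
      have h2 : ∏ j ∈ Finset.range N, (μ - (j : ℚ)) = 0 := by
        rcases smul_eq_zero.mp h1.symm with h | h
        · exact h
        · exact absurd h hv0
      obtain ⟨j, _, hj⟩ := Finset.prod_eq_zero_iff.mp h2
      have hμj : μ = (j : ℚ) := sub_eq_zero.mp hj
      refine ⟨j, ?_, hμj⟩
      rcases Nat.eq_zero_or_pos j with h0 | h0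
      · exfalso
        subst h0
        apply hv0
        apply inertia_injective
        rw [hvμ, hμj, Nat.cast_zero, zero_smul]
      · exact h0
    · rintro ⟨n, hn, rfl⟩
      have : NeZero n := ⟨hn.ne'⟩
      have hcard : Nat.card (Multiplicative (ZMod n)) = n := by
        rw [Nat.card_congr Multiplicative.toAdd, Nat.card_zmod]
      have h1 : inertia (cl (Multiplicative (ZMod n))) = (n : ℚ) • cl (Multiplicative (ZMod n)) := by
        show inertiaR 1 (cl (Multiplicative (ZMod n))) = _
        rw [inertiaR_cl, inertiaROf_comm _ (fun a b => mul_comm a b), hcard, Nat.descFactorial_one]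
      apply Module.End.hasEigenvalue_of_hasEigenvector (x := cl (Multiplicative (ZMod n)))
      refine ⟨?_, ?_⟩
      · rw [Module.End.mem_eigenspace_iff]
        exact h1
      · unfold cl
        exact Finsupp.single_ne_zero.mpr one_ne_zero

end Groth.Agent.S18021
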