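import Groth.Statements.S18024
import Mathlib
import Groth.Agent.Lib.Helper11InertiaE

set_option autoImplicit false
open W4c5stacksedinertia

namespace Groth.Agent.S18024

open Groth.Agent.Lib.Helper11Inertia


open W4c5stacksedinertia in
/-- In the rational vector space K with basis the isomorphism classes of finite groups (the class of a
group standing for its classifying groupoid), for every `r` the kernel of `inertiaR r` is the span
of the eigenspaces of the inertia operator with eigenvalue a natural number `k < r`. -/
theorem result (r : ℕ) :
    LinearMap.ker (inertiaR r) = ⨆ k ∈ Finset.range r, Module.End.eigenspace inertia (k : ℚ) := by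
  apply le_antisymm
  · intro v hv
    rw [LinearMap.mem_ker] at hv
    have hN : ∀ r', r ≤ r' → inertiaR r' v = 0 := by
      intro r' hr'
      induction r', hr' using Nat.le_induction with
      | base => exact hv
      | succ m _ ih =>
        have h := inertia_comp_inertiaR m v
        rw [ih, map_zero, smul_zero, add_zero] at h
        exact h.symm
    rcases Nat.eq_zero_or_pos r with h0 | h0
    · subst h0
      rw [inertiaR_zero] at hv
      rw [hv]
      exact Submodule.zero_mem _
    · rw [← sum_PN r h0 v]
      apply Submodule.sum_mem
      intro k hk
      have hmem : PN r k v ∈ Module.End.eigenspace inertia (k : ℚ) := by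
        rw [Module.End.mem_eigenspace_iff]
        exact inertia_PN r k v hN
      exact (le_iSup₂ (f := fun k (_ : k ∈ Finset.range r) =>
        Module.End.eigenspace inertia (k : ℚ)) k hk) hmem
  · apply iSup₂_le
    intro k hk v hv
    rw [Finset.mem_range] at hk
    rw [Module.End.mem_eigenspace_iff] at hv
    rw [LinearMap.mem_ker, eigen_inertiaR_nat k v hv r,
      Nat.descFactorial_eq_zero_iff_lt.mpr hk, Nat.cast_zero, zero_smul]

end Groth.Agent.S18024
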