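import Groth.Statements.S18025
import Mathlib
import Groth.Agent.Lib.Helper11InertiaD

set_option autoImplicit false
open W4c5stacksedinertia

namespace Groth.Agent.S18025

open Groth.Agent.Lib.Helper11Inertia


open W4c5stacksedinertia in
/-- In the rational vector space K with basis the isomorphism classes of finite groups (the class of a
group standing for its classifying groupoid), the operators `P k := ∑ r, ((-1)^(r+k) / r!) *
Nat.choose r k • inertiaR r` (a finite sum on each vector) are the eigenprojections of the inertia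
operator: `P k v` lies in the `k`-eigenspace of the inertia operator for every `v` and `k`, and `∑
k, P k v = v`. -/
theorem result (v : K) :
    (∀ k : ℕ, (∑ᶠ r : ℕ, (((-1 : ℚ) ^ (r + k)) / (Nat.factorial r : ℚ) * (Nat.choose r k : ℚ)) •
        inertiaR r v) ∈ Module.End.eigenspace inertia (k : ℚ)) ∧
    (∑ᶠ k : ℕ, ∑ᶠ r : ℕ, (((-1 : ℚ) ^ (r + k)) / (Nat.factorial r : ℚ) * (Nat.choose r k : ℚ)) •
        inertiaR r v) = v := by
  obtain ⟨N, hN1, hN⟩ := exists_vanish v
  have e : ∀ k : ℕ, (∑ᶠ r : ℕ, (((-1 : ℚ) ^ (r + k)) / (Nat.factorial r : ℚ) * (Nat.choose r k : ℚ)) •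
      inertiaR r v) = PN N k v := fun k => finsum_eq_PN N k v hN
  refine ⟨?_, ?_⟩
  · intro k
    rw [e k, Module.End.mem_eigenspace_iff]
    exact inertia_PN N k v hN
  · rw [show (fun k : ℕ => ∑ᶠ r : ℕ,
        (((-1 : ℚ) ^ (r + k)) / (Nat.factorial r : ℚ) * (Nat.choose r k : ℚ)) • inertiaR r v) =
        fun k => PN N k v from funext e]
    rw [finsum_eq_sum_of_support_subset (s := Finset.range N)]
    · exact sum_PN N hN1 v
    · intro k hk
      rw [Function.mem_support] at hk
      rw [Finset.coe_range, Set.mem_Iio]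
      by_contra hcon
      push Not at hcon
      exact hk (PN_eq_zero N k v hcon)

end Groth.Agent.S18025
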