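import Groth.Statements.S18026
import Groth.Agent.Lib.Helper3HenselE
import Mathlib

set_option autoImplicit false
universe u
open Hensel

namespace Groth.Agent.S18026

open AlgebraicGeometry CategoryTheory

-- ring level: finiteness of `A → B_e` from finiteness of `A → B/(1-e)`, `e` idempotent
theorem finite_comp_of_idem {A B C : Type u} [CommRing A] [CommRing B] [CommRing C]
    (φ : A →+* B) (ψ : B →+* C) (e : B) (he : IsIdempotentElem e)
    (hloc : @IsLocalization.Away B _ e C _ ψ.toAlgebra)
    (hfin : ((Ideal.Quotient.mk (Ideal.span {1 - e})).comp φ).Finite) : (ψ.comp φ).Finite := by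
  letI := ψ.toAlgebra
  haveI := hloc
  haveI : IsLocalization.Away e (B ⧸ Ideal.span {1 - e}) :=
    IsLocalization.Away.quotient_of_isIdempotentElem he
  let χ : (B ⧸ Ideal.span {1 - e}) ≃ₐ[B] C :=
    IsLocalization.algEquiv (Submonoid.powers e) _ _
  have h1 : ψ = (χ : (B ⧸ Ideal.span {1 - e}) →+* C).comp (Ideal.Quotient.mk _) := by
    ext b
    have := χ.commutes b
    rw [RingHom.comp_apply]
    exact this.symm
  rw [h1, RingHom.comp_assoc]
  exact RingHom.Finite.comp (RingHom.Finite.of_surjective _ χ.surjective) hfin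

open AlgebraicGeometry CategoryTheory in
/-- Let `A` be a henselian discrete valuation ring and `f : T ⟶ Spec A` an étale surjective morphism of
schemes. Then some open subscheme `U` of `T` is finite over `Spec A` and still maps onto it; in
particular `U → Spec A` is a finite étale cover sitting inside `T` as an open subscheme (étaleness
of the restriction is automatic, and surjectivity records that `U` meets the closed fibre). (The
published statement asks for an open component of `T` finite étale over `Spec A`; when `T` is not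
separated — two copies of `Spec A` glued along the generic point — no open and closed subset of `T`
is finite over `Spec A`, while the published proof constructs an open subscheme, the spectrum of the
local ring of `T` at a point of the closed fibre; so this row asks only for an open subscheme.) -/
theorem result
    (A : Type u) [CommRing A] [IsDomain A] [IsDiscreteValuationRing A] [HenselianLocalRing A]
    (T : Scheme.{u}) (f : T ⟶ Spec (CommRingCat.of A)) [Etale f] [Surjective f] :
    ∃ U : T.Opens, IsFinite (U.ι ≫ f) ∧ Surjective (U.ι ≫ f) := by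
  obtain ⟨t, ht⟩ := f.surjective (IsLocalRing.closedPoint A)
  obtain ⟨_, ⟨W, hW, rfl⟩, htW, -⟩ := T.isBasis_affineOpens.exists_subset_of_mem_open
    (Set.mem_univ t) isOpen_univ
  have hWle : W ≤ f ⁻¹ᵁ ⊤ := le_top
  set φ : CommRingCat.of A ⟶ Γ(T, W) := (Scheme.ΓSpecIso (CommRingCat.of A)).inv ≫ f.appLE ⊤ W hWle with hφ
  have key : Spec.map φ = hW.fromSpec ≫ f := by
    rw [← IsAffineOpen.SpecMap_appLE_fromSpec f (isAffineOpen_top _) hW hWle,
      IsAffineOpen.fromSpec_top, Scheme.isoSpec_Spec_inv, ← Spec.map_comp]
  have hφet : φ.hom.Etale := by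
    rw [← HasRingHomProperty.Spec_iff (P := @Etale), key]
    infer_instance
  letI : Algebra A Γ(T, W) := φ.hom.toAlgebra
  haveI : Algebra.Etale A Γ(T, W) := hφet
  let q : PrimeSpectrum Γ(T, W) := hW.primeIdealOf ⟨t, htW⟩
  have hq : hW.fromSpec q = t := hW.fromSpec_primeIdealOf ⟨t, htW⟩
  have hqφ : Spec.map φ q = IsLocalRing.closedPoint A := by
    rw [key, Scheme.Hom.comp_apply, hq, ht]
  haveI : q.asIdeal.LiesOver (IsLocalRing.maximalIdeal A) := by
    constructor
    have := congrArg PrimeSpectrum.asIdeal hqφ
    exact this.symm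
  haveI : Algebra.QuasiFiniteAt A q.asIdeal := inferInstance
  obtain ⟨e, he, heq, hfin, -⟩ :=
    Groth.Agent.Lib.Helper3.Hensel.exists_idempotent_of_quasiFiniteAt (R := A) q.asIdeal
  have hU : IsAffineOpen (T.basicOpen e) := hW.basicOpen e
  refine ⟨T.basicOpen e, ?_, ?_⟩
  · rw [← hU.isoSpec_hom_fromSpec, Category.assoc,
      MorphismProperty.cancel_left_of_respectsIso (P := @IsFinite)]
    have hUle : T.basicOpen e ≤ f ⁻¹ᵁ ⊤ := le_top
    set ψ : Γ(T, W) ⟶ Γ(T, T.basicOpen e) :=
      T.presheaf.map (homOfLE (T.basicOpen_le e)).op with hψ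
    have key2 : hU.fromSpec ≫ f = Spec.map (φ ≫ ψ) := by
      rw [← IsAffineOpen.SpecMap_appLE_fromSpec f (isAffineOpen_top _) hU hUle,
        IsAffineOpen.fromSpec_top, Scheme.isoSpec_Spec_inv, ← Spec.map_comp, hφ, Category.assoc,
        hψ, Scheme.Hom.appLE_map]
    have hfin' : ((Ideal.Quotient.mk (Ideal.span {1 - e})).comp φ.hom).Finite := by
      have h0 : (Ideal.Quotient.mk (Ideal.span {1 - e})).comp φ.hom =
          algebraMap A (Γ(T, W) ⧸ Ideal.span {1 - e}) := rfl
      rw [h0, RingHom.finite_algebraMap]
      exact hfin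
    rw [key2, IsFinite.SpecMap_iff, CommRingCat.hom_comp]
    exact finite_comp_of_idem φ.hom ψ.hom e he (hW.isLocalization_basicOpen e) hfin'
  · have htU : t ∈ T.basicOpen e := by
      rw [← hq]
      change q ∈ hW.fromSpec ⁻¹ᵁ T.basicOpen e
      rw [hW.fromSpec_preimage_basicOpen]
      exact heq
    constructor
    have hopen : IsOpenMap ((T.basicOpen e).ι ≫ f) := Scheme.Hom.isOpenMap _
    have hr : IsOpen (Set.range ((T.basicOpen e).ι ≫ f)) := hopen.isOpen_range
    intro x
    have hx : x ⤳ IsLocalRing.closedPoint A := IsLocalRing.specializes_closedPoint x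
    have hmem : IsLocalRing.closedPoint A ∈ Set.range ((T.basicOpen e).ι ≫ f) :=
      ⟨⟨t, htU⟩, by rw [Scheme.Hom.comp_apply]; exact ht⟩
    exact hx.mem_open hr hmem

end Groth.Agent.S18026
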