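import Groth.Statements.S3033
import Groth.Agent.Lib.Helper3GrpFibDim
import Groth.Agent.Lib.Helper12Act
import Groth.Agent.Lib.Helper14LocNoeth
import Groth.Agent.S5341
import Mathlib

set_option autoImplicit false
universe u
open CategoryTheory MonoidalCategory CartesianMonoidalCategory MonObj GrpObj AlgebraicGeometry TensorProduct
open SGA3

namespace Groth.Agent.S3033

/-- the local fibre dimension of `X → S` is invariant under the action of a group scheme. -/
theorem fibreDimAt_act {S : Scheme.{u}} (G X : Over S) [GrpObj G] [LocallyOfFiniteType X.hom]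
    (a : AlgGrp.Action G X) (z : ↥(G ⊗ X).left) :
    FlatMor.fibreDimAt X.hom (a.act.left z) = FlatMor.fibreDimAt X.hom ((snd G X).left z) := by
  have hA : ∀ w : ↥(G ⊗ X).left, FlatMor.fibreDimAt (fst G X).left w =
      FlatMor.fibreDimAt X.hom ((snd G X).left w) := fun w =>
    Groth.Agent.Lib.Helper3.LocDimBC.fibreDimAt_eq_of_isPullback X.hom G.hom (snd G X).left
      (fst G X).left (IsPullback.of_hasPullback G.hom X.hom).flip w
  have h1 : (Groth.Agent.Lib.Helper12.shearIso a).hom ≫ fst G X = fst G X := by
    simp [Groth.Agent.Lib.Helper12.shearIso, Groth.Agent.Lib.Helper12.shear]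
  have h2 : (Groth.Agent.Lib.Helper12.shearIso a).hom ≫ snd G X = a.act := by
    simp [Groth.Agent.Lib.Helper12.shearIso, Groth.Agent.Lib.Helper12.shear]
  haveI : IsIso (Groth.Agent.Lib.Helper12.shearIso a).hom.left := inferInstance
  have e1 : FlatMor.fibreDimAt (fst G X).left ((Groth.Agent.Lib.Helper12.shearIso a).hom.left z) =
      FlatMor.fibreDimAt (fst G X).left z := by
    rw [← Groth.Agent.Lib.Helper3.FlatFibDim.fibreDimAt_comp_of_isOpenImmersion, ← Over.comp_left, h1]
  rw [hA, hA, ← Scheme.Hom.comp_apply, ← Over.comp_left, h2] at e1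
  exact e1

/-- Let A be a local artinian ring and G a group scheme locally of finite type over A acting on a
nonempty A-scheme X locally of finite type, such that the morphism G ×_A X → X ×_A X, (g, x) ↦ (g·x,
x), is surjective. Then all connected components of X have the same dimension. The published
statement also asserts that the connected components are irreducible; that is not asserted here (it
is stated separately). -/
theorem result (A : Type u) [CommRing A] [IsArtinianRing A] [IsLocalRing A]
    (G X : Over (Spec (CommRingCat.of A))) [GrpObj G] [LocallyOfFiniteType G.hom] [LocallyOfFiniteType X.hom] [Nonempty X.left]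
    (a : AlgGrp.Action G X) (hΦ : Surjective (lift a.act (snd G X)).left) (x y : X.left) :
    topologicalKrullDim ↥(connectedComponent x) = topologicalKrullDim ↥(connectedComponent y) := by
  haveI : Subsingleton (Spec (CommRingCat.of A)) := by
    refine ⟨fun p q => PrimeSpectrum.ext ?_⟩
    have hp : p.asIdeal.IsMaximal := IsArtinianRing.isMaximal_of_isPrime p.asIdeal
    have hq : q.asIdeal.IsMaximal := IsArtinianRing.isMaximal_of_isPrime q.asIdeal
    rw [IsLocalRing.eq_maximalIdeal hp, IsLocalRing.eq_maximalIdeal hq]
  -- the local dimension is constant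
  have hconst : ∀ x y : X.left, FlatMor.localDim X.left y = FlatMor.localDim X.left x := by
    intro x y
    obtain ⟨w, hw1, hw2⟩ := Scheme.Pullback.exists_preimage_pullback (f := X.hom) (g := X.hom) y x
      (Subsingleton.elim _ _)
    obtain ⟨z, hz⟩ := hΦ.surj w
    have h := fibreDimAt_act G X a z
    rw [Groth.Agent.S5341.fibreDimAt_eq_localDim_of_subsingleton,
      Groth.Agent.S5341.fibreDimAt_eq_localDim_of_subsingleton] at h
    have e1 : a.act.left z = y := by
      rw [← hw1, ← hz, ← Scheme.Hom.comp_apply]
      show _ = ((lift a.act (snd G X)).left ≫ (fst X X).left) z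
      rw [← Over.comp_left, lift_fst]
    have e2 : (snd G X).left z = x := by
      rw [← hw2, ← hz, ← Scheme.Hom.comp_apply]
      show _ = ((lift a.act (snd G X)).left ≫ (snd X X).left) z
      rw [← Over.comp_left, lift_snd]
    rw [e1, e2] at h
    exact h
  -- connected components are open
  haveI : IsLocallyNoetherian X.left := LocallyOfFiniteType.isLocallyNoetherian X.hom
  haveI : LocallyConnectedSpace X.left := by
    apply Groth.Agent.Lib.Helper14.locallyConnectedSpace_of_locally_noetherian
    intro x
    obtain ⟨_, ⟨W, hW, rfl⟩, hxW, -⟩ := X.left.isBasis_affineOpens.exists_subset_of_mem_open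
      (Set.mem_univ x) isOpen_univ
    replace hW : IsAffineOpen W := hW
    haveI : IsNoetherianRing Γ(X.left, W) := IsLocallyNoetherian.component_noetherian ⟨W, hW⟩
    exact ⟨W, W.isOpen.mem_nhds hxW, noetherianSpace_of_isAffineOpen W hW⟩
  have hdim : ∀ x : X.left, topologicalKrullDim ↥(connectedComponent x) = FlatMor.localDim X.left x := by
    intro x
    have hopen : IsOpen (connectedComponent x) := isOpen_connectedComponent
    have hemb := hopen.isOpenEmbedding_subtypeVal
    rw [Groth.Agent.Lib.Helper7.TopDim.topologicalKrullDim_eq_iSup_localDim]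
    apply le_antisymm
    · refine iSup_le fun c => ?_
      rw [Groth.Agent.Lib.Helper4.VarDim.localDim_eq_of_isOpenEmbedding hemb c]
      exact (hconst x c.1).le
    · have := Groth.Agent.Lib.Helper4.VarDim.localDim_eq_of_isOpenEmbedding hemb
        ⟨x, mem_connectedComponent⟩
      rw [← this]
      exact le_iSup (fun c : connectedComponent x => FlatMor.localDim _ c) ⟨x, mem_connectedComponent⟩
  rw [hdim, hdim, hconst]

end Groth.Agent.S3033
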