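import Groth.Statements.S5373
import Mathlib
import Groth.Agent.Lib.Helper12Cart
import Groth.Agent.Lib.Helper12Torsor
import Groth.Agent.Lib.Helper12Descent
import Groth.Agent.S5370

set_option autoImplicit false
universe u
open CategoryTheory CategoryTheory.Limits MonoidalCategory CartesianMonoidalCategory MonObj GrpObj AlgebraicGeometry
open SGA3

namespace Groth.Agent.S5373


open Groth.Agent.Lib.Helper12 Groth.Agent.S5370

/-- Base change of a singleton fpqc covering. -/
lemma singleton_mem_of_isPullback {A B C D : Scheme.{u}} {f' : A ⟶ B} {g' : A ⟶ C} {g : B ⟶ D}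
    {f : C ⟶ D} (h : IsPullback f' g' g f) (hf : Presieve.singleton f ∈ Scheme.fpqcPrecoverage D) :
    Presieve.singleton f' ∈ Scheme.fpqcPrecoverage B := by
  rw [← Presieve.ofArrows_pUnit] at hf ⊢
  exact Precoverage.mem_coverings_of_isPullback (fun _ : PUnit.{1} => f) hf g (fun _ => f')
    (fun _ => g') (fun _ => h)

open MorphismProperty in
/-- Descent along a singleton fpqc covering, in terms of an arbitrary pullback square. -/
lemma descend_of_isPullback {P : MorphismProperty Scheme.{u}} [IsZariskiLocalAtTarget P]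
    (hP : P.DescendsAlong (@Surjective ⊓ @Flat ⊓ @QuasiCompact : MorphismProperty Scheme.{u}))
    {A B C D : Scheme.{u}} {f' : A ⟶ B} {g' : A ⟶ C} {g : B ⟶ D}
    {f : C ⟶ D} (h : IsPullback f' g' g f) (hf : Presieve.singleton f ∈ Scheme.fpqcPrecoverage D)
    (hg' : P g') : P g := by
  apply of_mem_fpqcPrecoverage hP g (Presieve.singleton f) hf
  rintro Y' _ ⟨⟩
  rw [← h.isoPullback_hom_snd] at hg'
  exact (P.cancel_left_of_respectsIso _ _).mp hg'

section Cat

variable {C : Type*} [Category C] [CartesianMonoidalCategory C]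

/-- `X ×_Y X ⟶ X × X` is the base change of the diagonal of `Y` along `p × p`. -/
lemma isPullback_diag {X Y : C} (p : X ⟶ Y) [HasPullback p p] :
    IsPullback (lift (pullback.fst p p) (pullback.snd p p)) (pullback.fst p p ≫ p) (p ⊗ₘ p)
      (lift (𝟙 Y) (𝟙 Y)) := by
  have hc1 : ∀ s : PullbackCone (p ⊗ₘ p) (lift (𝟙 Y) (𝟙 Y)), (s.fst ≫ fst X X) ≫ p = s.snd := by
    intro s
    have h1 := congr($(s.condition) ≫ fst Y Y)
    simpa only [Category.assoc, tensorHom_fst, lift_fst, Category.comp_id] using h1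
  have hc2 : ∀ s : PullbackCone (p ⊗ₘ p) (lift (𝟙 Y) (𝟙 Y)), (s.fst ≫ snd X X) ≫ p = s.snd := by
    intro s
    have h2 := congr($(s.condition) ≫ snd Y Y)
    simpa only [Category.assoc, tensorHom_snd, lift_snd, Category.comp_id] using h2
  refine ⟨⟨?_⟩, ⟨PullbackCone.IsLimit.mk _
    (fun s => pullback.lift (s.fst ≫ fst X X) (s.fst ≫ snd X X) ((hc1 s).trans (hc2 s).symm))
    ?_ ?_ ?_⟩⟩
  · apply CartesianMonoidalCategory.hom_ext
    · simp
    · simp [pullback.condition]
  · intro s
    apply CartesianMonoidalCategory.hom_ext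
    · rw [Category.assoc, lift_fst, pullback.lift_fst]
    · rw [Category.assoc, lift_snd, pullback.lift_snd]
  · intro s
    rw [pullback.lift_fst_assoc, hc1]
  · intro s m hm1 hm2
    apply pullback.hom_ext
    · rw [pullback.lift_fst, ← hm1]; simp
    · rw [pullback.lift_snd, ← hm1]; simp

end Cat


lemma of_isPullback_of_isPullback {P : MorphismProperty Scheme.{u}} [P.RespectsIso]
    {A A' B C D : Scheme.{u}} {f₁ : A ⟶ B} {g₁ : A ⟶ C} {f₂ : A' ⟶ B} {g₂ : A' ⟶ C}
    {k : B ⟶ D} {h h' : C ⟶ D} (e : h = h') (h1 : IsPullback f₁ g₁ k h) (h2 : IsPullback f₂ g₂ k h')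
    (hg : P g₁) : P g₂ := by
  subst e
  rw [← h2.isoPullback_hom_snd]
  rw [← h1.isoPullback_hom_snd] at hg
  exact (P.cancel_left_of_respectsIso _ _).mpr ((P.cancel_left_of_respectsIso _ _).mp hg)

/-- Descent of closed-immersion-ness of the diagonal along `q × q`. -/
lemma isClosedImmersion_diag_of_cover {S : Scheme.{u}} (X Y Z' : Over S) (p : X ⟶ Y)
    (q' : Z' ⟶ Y) (r' : Z' ⟶ X) (hrq : r' ≫ p = q')
    (hq : Presieve.singleton q'.left ∈ Scheme.fpqcPrecoverage Y.left)
    {W : Scheme.{u}} {vv : W ⟶ (X ⊗ X).left} {a : W ⟶ Y.left}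
    (hpb : IsPullback vv a (p ⊗ₘ p).left (lift (𝟙 Y) (𝟙 Y)).left)
    (hv : IsClosedImmersion vv) : IsClosedImmersion (lift (𝟙 Y) (𝟙 Y)).left := by
  have hc1 : Presieve.singleton (q' ▷ Y).left ∈ Scheme.fpqcPrecoverage (Y ⊗ Y).left :=
    singleton_mem_of_isPullback ((isPullback_whiskerRight Y q').map (Over.forget S)) hq
  have hc2 : Presieve.singleton (Z' ◁ q').left ∈ Scheme.fpqcPrecoverage (Z' ⊗ Y).left :=
    singleton_mem_of_isPullback ((isPullback_whiskerLeft Z' q').map (Over.forget S)) hq
  have heq : (Z' ◁ q').left ≫ (q' ▷ Y).left = (r' ⊗ₘ r').left ≫ (p ⊗ₘ p).left := by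
    rw [← Over.comp_left, ← Over.comp_left, ← tensorHom_def', tensorHom_comp_tensorHom, hrq]
  refine descend_of_isPullback descendsAlong_isClosedImmersion
    (IsPullback.of_hasPullback (lift (𝟙 Y) (𝟙 Y)).left (q' ▷ Y).left) hc1 ?_
  refine descend_of_isPullback descendsAlong_isClosedImmersion
    (IsPullback.of_hasPullback (pullback.snd (lift (𝟙 Y) (𝟙 Y)).left (q' ▷ Y).left)
      (Z' ◁ q').left) hc2 ?_
  have h1 := (IsPullback.of_hasPullback (pullback.snd (lift (𝟙 Y) (𝟙 Y)).left (q' ▷ Y).left)
      (Z' ◁ q').left).paste_horiz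
      (IsPullback.of_hasPullback (lift (𝟙 Y) (𝟙 Y)).left (q' ▷ Y).left)
  have h2 := (IsPullback.of_hasPullback vv (r' ⊗ₘ r').left).paste_horiz hpb.flip
  have : IsClosedImmersion (pullback.snd vv (r' ⊗ₘ r').left) := inferInstance
  exact of_isPullback_of_isPullback (P := @IsClosedImmersion) heq.symm h2 h1 this




/-- Let p : X → Y be a morphism of S-schemes and v : X ×_Y X → X ×_S X the canonical monomorphism (the
graph of the effective equivalence relation defined by p). Then (i) v is an immersion, and a closed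
immersion if Y is separated over S; (ii) if p is covering for the fpqc topology (some Z → Y which is
flat, surjective, with every affine open of Y the image of a quasi-compact open of Z, factors
through p), so that Y represents the quotient sheaf of X by this equivalence relation, and v is a
closed immersion, then Y is separated over S. -/
theorem result (S : Scheme.{u}) (X Y : Over S) (p : X ⟶ Y) :
    letI v : (pullback p p) ⟶ X ⊗ X := lift (pullback.fst p p) (pullback.snd p p)
    IsImmersion v.left ∧ (IsSeparated Y.hom → IsClosedImmersion v.left) ∧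
    ((∃ (Z : Scheme.{u}) (q : Z ⟶ Y.left) (r : Z ⟶ X.left), r ≫ p.left = q ∧ Surjective q ∧ Flat q ∧
        ∀ V : Y.left.Opens, IsAffineOpen V → ∃ W : Z.Opens, IsCompact (W : Set Z) ∧ q.base '' (W : Set Z) = (V : Set Y.left)) →
      IsClosedImmersion v.left → IsSeparated Y.hom) := by
  have hpb := (isPullback_diag p).map (Over.forget S)
  have hΔ : (lift (𝟙 Y) (𝟙 Y)).left = pullback.diagonal Y.hom := rfl
  refine ⟨?_, ?_, ?_⟩
  · have : IsImmersion (lift (𝟙 Y) (𝟙 Y)).left := by rw [hΔ]; infer_instance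
    exact MorphismProperty.of_isPullback (P := @IsImmersion) hpb.flip this
  · intro hsep
    have : IsClosedImmersion (lift (𝟙 Y) (𝟙 Y)).left := by rw [hΔ]; infer_instance
    exact MorphismProperty.of_isPullback (P := @IsClosedImmersion) hpb.flip this
  · rintro ⟨Z, q, r, hrq, hqs, hqf, hqc⟩ hv
    have hq := singleton_mem_fpqcPrecoverage q hqc
    let Z' : Over S := Over.mk (q ≫ Y.hom)
    let q' : Z' ⟶ Y := Over.homMk q rfl
    let r' : Z' ⟶ X := Over.homMk r (by
      change r ≫ X.hom = q ≫ Y.hom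
      rw [← Over.w p, ← Category.assoc, hrq])
    have hrq' : r' ≫ p = q' := by
      ext
      exact hrq
    have := isClosedImmersion_diag_of_cover X Y Z' p q' r' hrq' hq hpb hv
    rw [hΔ] at this
    exact ⟨this⟩

end Groth.Agent.S5373
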