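import Groth.Statements.S5369
import Mathlib
import Groth.Agent.Lib.Helper12Cart
import Groth.Agent.Lib.Helper12Act
import Groth.Agent.Lib.Helper12Torsor
import Groth.Agent.Lib.Helper12Descent
import Groth.Agent.S5370
import Groth.Agent.S5373

set_option autoImplicit false
universe u
open CategoryTheory CategoryTheory.Limits MonoidalCategory CartesianMonoidalCategory MonObj GrpObj AlgebraicGeometry
open SGA3

namespace Groth.Agent.S5369


open Groth.Agent.Lib.Helper12 Groth.Agent.S5370 Groth.Agent.S5373

section Cat

variable {C : Type*} [Category C] [CartesianMonoidalCategory C]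

/-- The section `(a, id) : Y ⟶ X ⊗ Y` over a point `a : 𝟙 ⟶ X` is the fibre of `fst`. -/
lemma isPullback_section {X Y : C} (a : 𝟙_ C ⟶ X) :
    IsPullback (lift (toUnit Y ≫ a) (𝟙 Y)) (toUnit Y) (fst X Y) a := by
  refine ⟨⟨by simp⟩, ⟨PullbackCone.IsLimit.mk _ (fun s => s.fst ≫ snd X Y) ?_ ?_ ?_⟩⟩
  · intro s
    apply CartesianMonoidalCategory.hom_ext
    · rw [Category.assoc, lift_fst, s.condition, ← Category.assoc]
      congr 1
      exact toUnit_unique _ _
    · simp
  · intro s
    exact toUnit_unique _ _
  · intro s m hm1 hm2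
    rw [← hm1]
    simp

end Cat

variable {S : Scheme.{u}}

/-- the left regular action. -/
noncomputable def regAct (G : Over S) [GrpObj G] : AlgGrp.Action G G where
  act := μ[G]
  one_act := MonObj.one_mul G
  mul_act := MonObj.mul_assoc G

/-- `(g, h) ↦ (g u(h), g)` is a closed immersion if `u` is. -/
lemma isClosedImmersion_lift (G G' : Over S) [GrpObj G] (u : G' ⟶ G)
    (hu : IsClosedImmersion u.left) :
    IsClosedImmersion (lift ((G ◁ u) ≫ μ[G]) (fst G G')).left := by
  have h1 : lift ((G ◁ u) ≫ μ[G]) (fst G G') =
      (G ◁ u) ≫ (shearIso (regAct G)).hom ≫ (β_ G G).hom := by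
    apply CartesianMonoidalCategory.hom_ext
    · simp [shearIso, shear, regAct]
    · simp [shearIso, shear, regAct]
  have h2 : IsClosedImmersion (G ◁ u).left :=
    MorphismProperty.of_isPullback (P := @IsClosedImmersion)
      ((isPullback_whiskerLeft G u).map (Over.forget _)).flip hu
  have h3 : IsIso ((shearIso (regAct G)).hom ≫ (β_ G G).hom).left :=
    inferInstanceAs (IsIso ((Over.forget S).map ((shearIso (regAct G)).hom ≫ (β_ G G).hom)))
  rw [h1, Over.comp_left]
  infer_instance




/-- Let u : G' → G be a monomorphism of S-group schemes and p : G → G'' a morphism of S-schemes which is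
covering for the fpqc topology (some Z → G'' which is flat, surjective, with every affine open of
G'' the image of a quasi-compact open of Z, factors through p) and such that the square (g, h) ↦
g·u(h), first projection G ×_S G' → G, p, p is cartesian, so that G'' represents the fpqc quotient
sheaf G/G'. Let ε'' be the composite of the unit section of G with p. Then the square formed by u,
the structure morphism G' → S, p and ε'' is cartesian; u is an immersion; and G'' is separated over
S if and only if u is a closed immersion, if and only if ε'' is a closed immersion. -/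
theorem result (S : Scheme.{u}) (G G' G'' : Over S) [GrpObj G] [GrpObj G']
    (u : G' ⟶ G) [IsMonHom u] [Mono u] (p : G ⟶ G'')
    (hcov : (∃ (Z : Scheme.{u}) (q : Z ⟶ G''.left) (r : Z ⟶ G.left), r ≫ p.left = q ∧ Surjective q ∧ Flat q ∧
        ∀ V : G''.left.Opens, IsAffineOpen V → ∃ W : Z.Opens, IsCompact (W : Set Z) ∧ q.base '' (W : Set Z) = (V : Set G''.left)))
    (hsq : IsPullback ((G ◁ u) ≫ μ[G]) (fst G G') p p) :
    IsPullback u (toUnit G') p (η[G] ≫ p) ∧ IsImmersion u.left ∧
    (IsSeparated G''.hom ↔ IsClosedImmersion u.left) ∧ (IsClosedImmersion u.left ↔ IsClosedImmersion (η[G] ≫ p).left) := by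
  obtain ⟨Z, q, r, hrq, hqs, hqf, hqc⟩ := hcov
  have hq := singleton_mem_fpqcPrecoverage q hqc
  have hj : lift (toUnit G' ≫ η[G]) (𝟙 G') ≫ (G ◁ u) ≫ μ[G] = u := by
    rw [← Category.assoc, lift_whiskerLeft, Category.id_comp, lift_comp_one_left]
  have h1 : IsPullback u (toUnit G') p (η[G] ≫ p) := by
    have := (isPullback_section (Y := G') η[G]).paste_horiz hsq
    rwa [hj] at this
  have h1' : IsPullback u.left (toUnit G').left p.left (η[G] ≫ p).left := h1.map (Over.forget S)
  have hsec : (η[G] ≫ p).left ≫ G''.hom = 𝟙 S := Over.w (η[G] ≫ p)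
  have himm : IsImmersion (η[G] ≫ p).left := by
    have : IsImmersion ((η[G] ≫ p).left ≫ G''.hom) := by
      rw [hsec]; exact (inferInstance : IsImmersion (𝟙 S))
    exact IsImmersion.of_comp _ G''.hom
  have h4a : IsClosedImmersion (η[G] ≫ p).left → IsClosedImmersion u.left := fun h =>
    MorphismProperty.of_isPullback (P := @IsClosedImmersion) h1'.flip h
  have h4b : IsClosedImmersion u.left → IsClosedImmersion (η[G] ≫ p).left := by
    intro hu
    have h2 := (IsPullback.of_hasPullback u.left r).paste_horiz h1'.flip
    rw [hrq] at h2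
    exact descend_of_isPullback descendsAlong_isClosedImmersion h2 hq inferInstance
  refine ⟨h1, MorphismProperty.of_isPullback (P := @IsImmersion) h1'.flip himm, ⟨?_, ?_⟩,
    ⟨h4b, h4a⟩⟩
  · intro hsep
    apply h4a
    have : IsClosedImmersion ((η[G] ≫ p).left ≫ G''.hom) := by
      rw [hsec]; exact (inferInstance : IsClosedImmersion (𝟙 S))
    exact IsClosedImmersion.of_comp _ G''.hom
  · intro hu
    have hv : lift (pullback.fst p p) (pullback.snd p p) =
        hsq.isoPullback.inv ≫ lift ((G ◁ u) ≫ μ[G]) (fst G G') := by
      rw [Iso.eq_inv_comp]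
      apply CartesianMonoidalCategory.hom_ext
      · rw [Category.assoc, lift_fst, lift_fst, hsq.isoPullback_hom_fst]
      · rw [Category.assoc, lift_snd, lift_snd, hsq.isoPullback_hom_snd]
    have hcl : IsClosedImmersion (lift (pullback.fst p p) (pullback.snd p p)).left := by
      rw [hv, Over.comp_left]
      have : IsIso hsq.isoPullback.inv.left :=
        inferInstanceAs (IsIso ((Over.forget S).map hsq.isoPullback.inv))
      have := isClosedImmersion_lift G G' u hu
      infer_instance
    exact (Groth.Agent.S5373.result S G G'' p).2.2 ⟨Z, q, r, hrq, hqs, hqf, hqc⟩ hcl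

end Groth.Agent.S5369
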