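import Groth.Statements.S18027
import Groth.Agent.S3033
import Groth.Agent.S5369
import Groth.Agent.Lib.Helper25IdComp
import Groth.Agent.Lib.Helper27BMCohDim
import Groth.Agent.Lib.Helper3DimCons
import Groth.Agent.Lib.Helper7TopDim
import Groth.Agent.Lib.Helper14LocNoeth
import Mathlib

set_option autoImplicit false
set_option linter.style.haveILetI false
universe u
open CategoryTheory MonoidalCategory CartesianMonoidalCategory MonObj GrpObj AlgebraicGeometry CategoryTheory.Limits
open AlgGrp

namespace Groth.Agent.S18027

open Groth.Agent.Lib.Helper25.IdComp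

section
variable {k : Type u} [Field k] (G : Over (Spec (CommRingCat.of k))) [GrpObj G]

-- the graph of the regular action is surjective
theorem surjective_regAct :
    Surjective (lift (Groth.Agent.S5369.regAct G).act (snd G G)).left := by
  have h : lift (fst G G * (snd G G)⁻¹) (snd G G) ≫
      lift (Groth.Agent.S5369.regAct G).act (snd G G) = 𝟙 _ := by
    apply CartesianMonoidalCategory.hom_ext
    · simp only [Category.assoc, lift_fst, Category.id_comp]
      change lift (fst G G * (snd G G)⁻¹) (snd G G) ≫ μ[G] = _
      rw [← Hom.mul_def, inv_mul_cancel_right]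
    · simp
  refine ⟨fun y => ⟨(lift (fst G G * (snd G G)⁻¹) (snd G G)).left y, ?_⟩⟩
  rw [← Scheme.Hom.comp_apply, ← Over.comp_left, h]
  rfl

variable [LocallyOfFiniteType G.hom]

theorem locallyConnectedSpace_left : LocallyConnectedSpace G.left := by
  haveI : IsLocallyNoetherian G.left := LocallyOfFiniteType.isLocallyNoetherian G.hom
  apply Groth.Agent.Lib.Helper14.locallyConnectedSpace_of_locally_noetherian
  intro x
  obtain ⟨_, ⟨W, hW, rfl⟩, hxW, -⟩ := G.left.isBasis_affineOpens.exists_subset_of_mem_open
    (Set.mem_univ x) isOpen_univ
  replace hW : IsAffineOpen W := hW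
  haveI : IsNoetherianRing Γ(G.left, W) := IsLocallyNoetherian.component_noetherian ⟨W, hW⟩
  exact ⟨W, W.isOpen.mem_nhds hxW, noetherianSpace_of_isAffineOpen W hW⟩

-- the dimension of a group scheme locally of finite type over a field is that of its identity component
theorem dim_eq_dim_idComp :
    topologicalKrullDim G.left = topologicalKrullDim ↥(connectedComponent (ePt G)) := by
  haveI := locallyConnectedSpace_left G
  haveI : Nonempty G.left := ⟨ePt G⟩
  have hopen : ∀ x : G.left, IsOpen (connectedComponent x) := fun x => isOpen_connectedComponent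
  rw [Groth.Agent.Lib.Helper7.TopDim.topologicalKrullDim_eq_iSup_of_open_cover
    (fun x : G.left => (⟨connectedComponent x, hopen x⟩ : TopologicalSpace.Opens G.left))
    (by
      rw [eq_top_iff]
      intro x _
      exact TopologicalSpace.Opens.mem_iSup.mpr ⟨x, mem_connectedComponent⟩)]
  apply le_antisymm
  · refine iSup_le fun x => ?_
    exact (Groth.Agent.S3033.result k G G (Groth.Agent.S5369.regAct G) (surjective_regAct G)
      x (ePt G)).le
  · exact le_iSup (fun x : G.left => topologicalKrullDim
      ↥(⟨connectedComponent x, hopen x⟩ : TopologicalSpace.Opens G.left)) (ePt G)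

-- the identity component has finite dimension
theorem dim_idComp_lt_top :
    topologicalKrullDim ↥(connectedComponent (ePt G)) < ⊤ := by
  haveI := locallyConnectedSpace_left G
  have hopen : IsOpen (connectedComponent (ePt G)) := isOpen_connectedComponent
  obtain ⟨U, hU⟩ : ∃ U : G.left.Opens, (U : Set G.left) = connectedComponent (ePt G) :=
    ⟨⟨_, hopen⟩, rfl⟩
  have hc : IsCompact (U : Set G.left) := by
    rw [hU]; exact isCompact_connectedComponent_ePt G
  haveI : CompactSpace ↥(U : Set G.left) := isCompact_iff_compactSpace.mp hc
  haveI : CompactSpace ↥(U : Scheme.{u}) := isCompact_iff_compactSpace.mp hc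
  have h := Groth.Agent.Lib.Helper3.DimCons.topologicalKrullDim_lt_top_of_lft_field k
    (U.ι ≫ G.hom)
  have e : topologicalKrullDim ↥(connectedComponent (ePt G)) = topologicalKrullDim ↥U := by
    rw [← hU]; rfl
  rw [e]
  exact h

end

-- a closed irreducible subset of an irreducible closed set of the same finite dimension is everything
theorem eq_of_dim_eq {T : Type u} [TopologicalSpace T] [QuasiSober T] {Z W : Set T}
    (hZ : IsIrreducible Z) (hZc : IsClosed Z) (hW : IsIrreducible W) (hWc : IsClosed W)
    (hZW : Z ⊆ W) (hdim : topologicalKrullDim ↥Z = topologicalKrullDim ↥W)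
    (hfin : topologicalKrullDim ↥W < ⊤) : Z = W := by
  have hξZ := hZ.isGenericPoint_genericPoint hZc
  have hξW := hW.isGenericPoint_genericPoint hWc
  generalize hZ.genericPoint = x at hξZ
  generalize hW.genericPoint = y at hξW
  have hx : closure ({x} : Set T) = Z := hξZ
  have hy : closure ({y} : Set T) = W := hξW
  by_cases hne : y ∈ closure ({x} : Set T)
  · apply Set.Subset.antisymm hZW
    rw [← hy, ← hx]
    exact closure_minimal (Set.singleton_subset_iff.mpr hne) isClosed_closure
  · exfalso
    have hxy : x ∈ closure ({y} : Set T) := by
      rw [hy]; apply hZW; rw [← hx]; exact subset_closure rfl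
    have h1 := Groth.Agent.Lib.Helper27BMCoh.krullDim_closure_add_one_le hxy hne
    rw [hx, hy, hdim] at h1
    have hnb : topologicalKrullDim ↥W ≠ ⊥ := by
      haveI : Nonempty ↥W := hW.nonempty.to_subtype
      unfold topologicalKrullDim
      rw [Order.krullDim_ne_bot_iff]
      obtain ⟨w⟩ := ‹Nonempty ↥W›
      exact ⟨⟨closure {w}, isIrreducible_singleton.closure, isClosed_closure⟩⟩
    obtain ⟨a, ha⟩ := WithBot.ne_bot_iff_exists.mp hnb
    rw [← ha] at h1 hfin
    have ha' : a ≠ ⊤ := by
      rintro rfl
      exact lt_irrefl _ hfin
    obtain ⟨m, rfl⟩ := ENat.ne_top_iff_exists.mp ha'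
    have h2 : ((m + 1 : ℕ) : WithBot ℕ∞) ≤ ((m : ℕ) : WithBot ℕ∞) := by
      push_cast; exact h1
    have h3 : m + 1 ≤ m := by exact_mod_cast h2
    omega

/-- Let `k` be a field and `u : G ⟶ H` a homomorphism of smooth `k`-group schemes which is a closed
immersion, where `G` and `H` have the same dimension. Then `u` carries the connected component of
the identity of `G` onto the connected component of the identity of `H`; as `u` is a closed
immersion and `H` is reduced, `u` therefore restricts to an isomorphism between the identity
components. (The second printed assertion, on the groups of components, is not included.) -/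
theorem result (k : Type u) [Field k]
    (G H : Over (Spec (CommRingCat.of k))) [GrpObj G] [GrpObj H]
    [Smooth G.hom] [Smooth H.hom] (u : G ⟶ H) [IsMonHom u] [IsClosedImmersion u.left]
    (hdim : topologicalKrullDim ↥G.left = topologicalKrullDim ↥H.left)
    (t : ↥((𝟙_ (Over (Spec (CommRingCat.of k)))).left)) :
    ⇑u.left.base '' connectedComponent (η[G].left.base t) = connectedComponent (η[H].left.base t) := by
  have htG : η[G].left.base t = ePt G :=
    congrArg _ (Subsingleton.elim (α := Spec (CommRingCat.of k)) _ _)
  have htH : η[H].left.base t = ePt H :=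
    congrArg _ (Subsingleton.elim (α := Spec (CommRingCat.of k)) _ _)
  rw [htG, htH]
  have hue : u.left (ePt G) = ePt H := by
    change (η[G] ≫ u).left _ = _
    rw [IsMonHom.one_hom]
    rfl
  have hemb := u.left.isClosedEmbedding
  have hZW : u.left '' connectedComponent (ePt G) ⊆ connectedComponent (ePt H) := by
    have := u.left.continuous.image_connectedComponent_subset (ePt G)
    rwa [hue] at this
  have hdimZ : topologicalKrullDim ↥(u.left '' connectedComponent (ePt G)) =
      topologicalKrullDim ↥(connectedComponent (ePt G)) :=
    (IsHomeomorph.topologicalKrullDim_eq _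
      (hemb.isEmbedding.homeomorphImage (connectedComponent (ePt G))).isHomeomorph).symm
  exact eq_of_dim_eq
    ((isIrreducible_connectedComponent_ePt G).image _ u.left.continuous.continuousOn)
    (hemb.isClosedMap _ isClosed_connectedComponent)
    (isIrreducible_connectedComponent_ePt H) isClosed_connectedComponent hZW
    (by rw [hdimZ, ← dim_eq_dim_idComp G, ← dim_eq_dim_idComp H, hdim])
    (dim_idComp_lt_top H)

end Groth.Agent.S18027
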