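import Groth.Statements.S18029
-- import your own Groth.Agent.* helpers here
import Mathlib
import Groth.Agent.S0414
import Groth.Agent.Lib.Helper26Closure
import Groth.Agent.Lib.Helper5FlatPreimm
import Groth.Agent.Lib.Helper11FlatClosure

set_option autoImplicit false
universe u
open CategoryTheory MonoidalCategory CartesianMonoidalCategory MonObj GrpObj AlgebraicGeometry CategoryTheory.Limits
open AlgGrp

namespace Groth.Agent.S18029

/-- general form: `t₀ : T' ⟶ X` a flat quasi-compact scheme-theoretically dominant monomorphism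
factoring through every dense open of the reduced scheme `X`. -/
theorem aux {X : Scheme.{u}} [IsReduced X] {T' : Scheme.{u}} (t₀ : T' ⟶ X) [Flat t₀]
    [QuasiCompact t₀] [Mono t₀] [IsSchemeTheoreticallyDominant t₀]
    (hdense : ∀ U : X.Opens, Dense (U : Set X) → Set.range t₀ ⊆ (U : Set X))
    (G : Over X) [GrpObj G] [LocallyOfFiniteType G.hom] [QuasiCompact G.hom]
    (Hη : Over T') [GrpObj Hη] (i : Hη ⟶ Red.bc t₀ G) [IsMonHom i] [IsClosedImmersion i.left] :
    ∃ (U : X.Opens) (ηU : T' ⟶ (U : Scheme.{u})) (HU : Over (U : Scheme.{u}))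
      (_ : GrpObj HU) (j : HU ⟶ Red.bc U.ι G) (φ : Hη.left ⟶ HU.left),
      ηU ≫ U.ι = t₀ ∧ IsMonHom j ∧ IsClosedImmersion j.left ∧
      IsPullback φ Hη.hom HU.hom ηU ∧
      φ ≫ j.left ≫ pullback.fst G.hom U.ι = i.left ≫ pullback.fst G.hom t₀ := by
  obtain ⟨f₀, hf₀⟩ : ∃ f₀ : Hη.left ⟶ G.left, f₀ = i.left ≫ pullback.fst G.hom t₀ := ⟨_, rfl⟩
  haveI : QuasiCompact f₀ := by rw [hf₀]; infer_instance
  have hw : f₀ ≫ G.hom = Hη.hom ≫ t₀ := by
    rw [hf₀, Category.assoc, pullback.condition, ← Category.assoc]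
    congr 1
    exact Over.w i
  obtain ⟨g, hg⟩ : ∃ g : f₀.image ⟶ X, g = f₀.imageι ≫ G.hom := ⟨_, rfl⟩
  haveI : LocallyOfFiniteType g := by rw [hg]; infer_instance
  haveI : QuasiCompact g := by rw [hg]; infer_instance
  obtain ⟨U, hU, hflat, -⟩ := Groth.Agent.S0414.result g
  -- the generic point of the open
  have hrange : Set.range t₀ ⊆ Set.range U.ι := by
    rw [Scheme.Opens.range_ι]
    exact hdense U hU
  obtain ⟨ηU, hηU⟩ : ∃ ηU : T' ⟶ (U : Scheme.{u}), ηU ≫ U.ι = t₀ :=
    ⟨IsOpenImmersion.lift U.ι t₀ hrange, IsOpenImmersion.lift_fac _ _ _⟩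
  have hsq : IsPullback (𝟙 T') ηU t₀ U.ι := by
    refine ⟨⟨by rw [Category.id_comp, hηU]⟩, ⟨PullbackCone.IsLimit.mk _ (fun s => s.fst)
      (fun s => Category.comp_id _) (fun s => ?_)
      (fun s m hm _ => by rw [← hm, Category.comp_id])⟩⟩
    rw [← cancel_mono U.ι, Category.assoc, hηU]
    exact s.condition
  haveI : Mono ηU := mono_of_mono_fac hηU
  haveI : Flat ηU := MorphismProperty.of_isPullback (P := @Flat) hsq inferInstance
  haveI : QuasiCompact ηU := MorphismProperty.of_isPullback (P := @QuasiCompact) hsq inferInstance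
  haveI : IsSchemeTheoreticallyDominant ηU := IsSchemeTheoreticallyDominant.of_isPullback hsq
  -- the closed subscheme over `U`
  obtain ⟨jo, hjo⟩ : ∃ jo : Over.mk g ⟶ G, jo.left = f₀.imageι :=
    ⟨Over.homMk f₀.imageι hg.symm, rfl⟩
  obtain ⟨j, hj⟩ : ∃ j : Red.bc U.ι (Over.mk g) ⟶ Red.bc U.ι G,
      j = (Over.pullback U.ι).map jo := ⟨_, rfl⟩
  have hj1 : j.left ≫ pullback.fst G.hom U.ι = pullback.fst g U.ι ≫ f₀.imageι := by
    rw [hj, ← hjo]
    exact pullback.lift_fst _ _ _
  have hj2 : j.left ≫ pullback.snd G.hom U.ι = pullback.snd g U.ι := by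
    rw [hj]
    exact pullback.lift_snd _ _ _
  have hbig : IsPullback (pullback.fst g U.ι) (j.left ≫ pullback.snd G.hom U.ι)
      (f₀.imageι ≫ G.hom) U.ι := by
    rw [hj2, ← hg]
    exact IsPullback.of_hasPullback g U.ι
  have htop : IsPullback (pullback.fst g U.ι) j.left f₀.imageι (pullback.fst G.hom U.ι) :=
    IsPullback.of_bot hbig hj1.symm (IsPullback.of_hasPullback G.hom U.ι)
  haveI : IsClosedImmersion j.left :=
    MorphismProperty.of_isPullback (P := @IsClosedImmersion) htop inferInstance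
  haveI : Flat (Red.bc U.ι (Over.mk g)).hom := by
    change Flat (pullback.snd g U.ι)
    rw [← pullbackRestrictIsoRestrict_hom_morphismRestrict]
    infer_instance
  -- the dense map
  have hcomm : f₀.toImage ≫ g = (Hη.hom ≫ ηU) ≫ U.ι := by
    rw [hg, Scheme.Hom.toImage_imageι_assoc, hw, Category.assoc, hηU]
  obtain ⟨φ, hφ⟩ : ∃ φ : Hη.left ⟶ pullback g U.ι,
      φ = pullback.lift f₀.toImage (Hη.hom ≫ ηU) hcomm := ⟨_, rfl⟩
  have hφ1 : φ ≫ pullback.fst g U.ι = f₀.toImage := by rw [hφ, pullback.lift_fst]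
  have hφ2 : φ ≫ pullback.snd g U.ι = Hη.hom ≫ ηU := by rw [hφ, pullback.lift_snd]
  haveI hstd : IsSchemeTheoreticallyDominant f₀.toImage :=
    Groth.Agent.Lib.Helper11FlatClosure.toImage_dominant f₀
  have hsq' : IsPullback (𝟙 Hη.left) φ f₀.toImage (pullback.fst g U.ι) := by
    refine ⟨⟨by rw [Category.id_comp, hφ1]⟩, ⟨PullbackCone.IsLimit.mk _ (fun s => s.fst)
      (fun s => Category.comp_id _) (fun s => ?_)
      (fun s m hm _ => by rw [← hm, Category.comp_id])⟩⟩
    rw [← cancel_mono (pullback.fst g U.ι), Category.assoc, hφ1]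
    exact s.condition
  haveI : IsSchemeTheoreticallyDominant φ := IsSchemeTheoreticallyDominant.of_isPullback hsq'
  haveI : QuasiCompact (φ ≫ pullback.fst g U.ι) := by rw [hφ1]; infer_instance
  haveI : QuasiCompact φ := QuasiCompact.of_comp φ (pullback.fst g U.ι)
  have hφj : φ ≫ j.left ≫ pullback.fst G.hom U.ι = i.left ≫ pullback.fst G.hom t₀ := by
    rw [hj1, ← Category.assoc, hφ1, Scheme.Hom.toImage_imageι, hf₀]
  obtain ⟨⟨inst, hmon⟩, hpb⟩ := Groth.Agent.Lib.Helper26.Closure.main U.ι ηU t₀ hηU G Hη i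
    (Red.bc U.ι (Over.mk g)) j φ hφj hφ2
  exact ⟨U, ηU, _, inst, j, φ, hηU, hmon, inferInstance, hpb, hφj⟩

/-- Closed subgroups of the generic fibre spread out. Let `X` be an integral scheme with generic point
`η : Spec K(X) ⟶ X`, `G` an affine `X`-group scheme locally of finite presentation and `H_η` a
closed subgroup scheme of the generic fibre `G_η = G ×_X Spec K(X)`. Then there are a non-empty open
`U ⊆ X` (through which `η` factors) and a closed subgroup scheme `H_U` of `G ×_X U` whose generic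
fibre is `H_η`: a cartesian square presents `H_η` as `H_U ×_U Spec K(X)`, compatibly with the
embeddings into `G`. -/
theorem result
    (X : Scheme.{u}) [IsIntegral X] (G : Over X) [GrpObj G]
    [IsAffineHom G.hom] [LocallyOfFinitePresentation G.hom]
    (Hη : Over (Spec X.functionField)) [GrpObj Hη]
    (i : Hη ⟶ Red.bc (X.fromSpecStalk (genericPoint X)) G) [IsMonHom i] [IsClosedImmersion i.left] :
    ∃ (U : X.Opens) (ηU : Spec X.functionField ⟶ (U : Scheme.{u})) (HU : Over (U : Scheme.{u}))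
      (_ : GrpObj HU) (j : HU ⟶ Red.bc U.ι G) (φ : Hη.left ⟶ HU.left),
      ηU ≫ U.ι = X.fromSpecStalk (genericPoint X) ∧ IsMonHom j ∧ IsClosedImmersion j.left ∧
      IsPullback φ Hη.hom HU.hom ηU ∧
      φ ≫ j.left ≫ pullback.fst G.hom U.ι = i.left ≫ pullback.fst G.hom (X.fromSpecStalk (genericPoint X)) := by
  haveI : Flat (X.fromSpecStalk (genericPoint X)) :=
    Groth.Agent.Lib.Helper5.FlatPreimm.flat_fromSpecStalk X _
  haveI : QuasiCompact (X.fromSpecStalk (genericPoint X)) := by
    haveI : Finite (Spec (X.presheaf.stalk (genericPoint X))) := by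
      show Finite (PrimeSpectrum X.functionField)
      infer_instance
    exact ⟨fun U _ _ => (Set.toFinite _).isCompact⟩
  have hrange : ∀ z ∈ Set.range (X.fromSpecStalk (genericPoint X)), z ⤳ genericPoint X := by
    intro z hz
    rw [Scheme.range_fromSpecStalk] at hz
    exact hz
  haveI : IsDominant (X.fromSpecStalk (genericPoint X)) := by
    rw [isDominant_iff]
    have h1 : genericPoint X ∈ Set.range (X.fromSpecStalk (genericPoint X)) := by
      rw [Scheme.range_fromSpecStalk]
      exact specializes_rfl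
    have h2 : Dense ({genericPoint X} : Set X) := by
      rw [dense_iff_closure_eq]
      exact (genericPoint_spec X).def
    exact h2.mono (Set.singleton_subset_iff.mpr h1)
  haveI : IsSchemeTheoreticallyDominant (X.fromSpecStalk (genericPoint X)) :=
    IsSchemeTheoreticallyDominant.of_isDominant _
  refine aux (X.fromSpecStalk (genericPoint X)) ?_ G Hη i
  intro U hU z hz
  have hη : genericPoint X ∈ (U : Set X) := by
    rw [(genericPoint_spec X).mem_open_set_iff U.isOpen]
    obtain ⟨y, hy⟩ := hU.nonempty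
    exact ⟨y, Set.mem_univ y, hy⟩
  exact (hrange z hz).mem_open U.isOpen hη

end Groth.Agent.S18029
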