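import Groth.Statements.S18040
import Mathlib


set_option autoImplicit false
universe u
open AdjLin

namespace Groth.Agent.S18040

/-- Let k be an algebraically closed field of characteristic zero and Z a finite set of points of
projective 3-space over k, realised as points of the projectivization of k⁴, a homogeneous form in
four variables being evaluated at the chosen representative of a point (its vanishing does not
depend on the choice). Suppose Z has the Cayley–Bacharach property in degree n: every form of degree
n vanishing at all points of Z but one vanishes at that point as well. Then for every m ≤ n, either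
there is a nonzero form of degree n − m vanishing at every point of Z, or the rank of the evaluation
map from forms of degree m to functions on Z is at most the number of points of Z minus the
dimension of the space of forms of degree n − m. -/
theorem result (k : Type u) [Field k] [IsAlgClosed k] [CharZero k]
    (Z : Finset (Projectivization k (Fin 4 → k))) (n : ℕ)
    (hCB : (∀ z ∈ Z, ∀ p : MvPolynomial (Fin 4) k, p.IsHomogeneous n →
      (∀ z' ∈ Z, z' ≠ z → MvPolynomial.eval z'.rep p = 0) → MvPolynomial.eval z.rep p = 0))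
    (m : ℕ) (hm : m ≤ n) :
    (∃ s : MvPolynomial (Fin 4) k, s.IsHomogeneous (n - m) ∧ s ≠ 0 ∧ ∀ z ∈ Z, MvPolynomial.eval z.rep s = 0) ∨
      Module.finrank k (LinearMap.range
          ((LinearMap.pi fun z : ↥Z => (MvPolynomial.aeval (R := k) z.1.rep).toLinearMap) ∘ₗ
            (MvPolynomial.homogeneousSubmodule (Fin 4) k m).subtype)) +
        Module.finrank k ↥(MvPolynomial.homogeneousSubmodule (Fin 4) k (n - m)) ≤ Z.card := by
  classical
  have : Infinite k := inferInstance
  by_cases hs : ∃ s : MvPolynomial (Fin 4) k, s.IsHomogeneous (n - m) ∧ s ≠ 0 ∧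
      ∀ z ∈ Z, MvPolynomial.eval z.rep s = 0
  · exact Or.inl hs
  right
  -- evaluation maps
  set ev : ∀ d : ℕ, ↥(MvPolynomial.homogeneousSubmodule (Fin 4) k d) →ₗ[k] (↥Z → k) := fun d =>
    (LinearMap.pi fun z : ↥Z => (MvPolynomial.aeval (R := k) z.1.rep).toLinearMap) ∘ₗ
      (MvPolynomial.homogeneousSubmodule (Fin 4) k d).subtype with hev
  have hev_apply : ∀ (d : ℕ) (p : ↥(MvPolynomial.homogeneousSubmodule (Fin 4) k d)) (z : ↥Z),
      ev d p z = MvPolynomial.eval z.1.rep p.1 := by
    intro d p z
    rfl
  change Module.finrank k (LinearMap.range (ev m)) +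
    Module.finrank k ↥(MvPolynomial.homogeneousSubmodule (Fin 4) k (n - m)) ≤ Z.card
  -- injectivity in degree n - m
  have hinj : Function.Injective (ev (n - m)) := by
    rw [← LinearMap.ker_eq_bot, LinearMap.ker_eq_bot']
    intro p hp
    by_contra hne
    apply hs
    refine ⟨p.1, (MvPolynomial.mem_homogeneousSubmodule _ _).mp p.2, fun h0 => hne (Subtype.ext h0),
      fun z hz => ?_⟩
    have h1 := congrFun hp ⟨z, hz⟩
    rw [hev_apply] at h1
    exact h1
  rw [← LinearMap.finrank_range_of_inj hinj]
  -- the image in degree n misses the basis vectors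
  have hmiss : ∀ z : ↥Z, (fun j : ↥Z => if z = j then (1 : k) else 0) ∉ LinearMap.range (ev n) := by
    rintro z ⟨r, hr⟩
    have h1 := hCB z.1 z.2 r.1 ((MvPolynomial.mem_homogeneousSubmodule _ _).mp r.2) (by
      intro z' hz' hne
      have h2 := congrFun hr ⟨z', hz'⟩
      rw [hev_apply] at h2
      rw [h2, if_neg]
      intro h3
      exact hne (congrArg Subtype.val h3).symm)
    have h2 := congrFun hr z
    rw [hev_apply, h1] at h2
    simp at h2
  -- the orthogonal space of the image in degree n
  let D : Submodule k (↥Z → k) :=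
    { carrier := {w | ∀ c ∈ LinearMap.range (ev n), ∑ z, w z * c z = 0}
      add_mem' := by
        intro a b ha hb c hc
        simp only [Pi.add_apply, add_mul, Finset.sum_add_distrib]
        rw [ha c hc, hb c hc, add_zero]
      zero_mem' := by
        intro c _
        simp
      smul_mem' := by
        intro t a ha c hc
        simp only [Pi.smul_apply, smul_eq_mul, mul_assoc]
        rw [← Finset.mul_sum, ha c hc, mul_zero] }
  have hD : ∀ z : ↥Z, ∃ x ∈ D, (LinearMap.proj z : (↥Z → k) →ₗ[k] k) x ≠ 0 := by
    intro z
    obtain ⟨g, hgz, hgC⟩ := Submodule.exists_le_ker_of_notMem (hmiss z)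
    refine ⟨fun z' => g (fun j => if z' = j then 1 else 0), ?_, hgz⟩
    intro c hc
    have h1 : g c = 0 := hgC hc
    rw [LinearMap.pi_apply_eq_sum_univ g c] at h1
    refine Eq.trans (Finset.sum_congr rfl (fun i _ => ?_)) h1
    rw [smul_eq_mul, mul_comm]
  obtain ⟨w, hwD, hw⟩ := Module.Dual.exists_forall_mem_ne_zero_of_forall_exists D
    (fun z : ↥Z => (LinearMap.proj z : (↥Z → k) →ₗ[k] k)) hD
  -- the weighted pairing
  let T : (↥Z → k) →ₗ[k] Module.Dual k (↥Z → k) :=
    ∑ z : ↥Z, w z • (LinearMap.proj z : (↥Z → k) →ₗ[k] k).smulRight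
      (LinearMap.proj z : (↥Z → k) →ₗ[k] k)
  have hT : ∀ a v : ↥Z → k, T a v = ∑ z, w z * (a z * v z) := by
    intro a v
    simp [T, LinearMap.sum_apply]
  have hTinj : Function.Injective T := by
    rw [← LinearMap.ker_eq_bot, LinearMap.ker_eq_bot']
    intro a ha
    funext z
    have h1 : T a (fun j => if z = j then 1 else 0) = 0 := by rw [ha]; rfl
    rw [hT] at h1
    simp only [mul_ite, mul_one, mul_zero, Finset.sum_ite_eq, Finset.mem_univ, if_true] at h1
    rcases mul_eq_zero.mp h1 with h2 | h2
    · exact absurd h2 (hw z)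
    · exact h2
  have hle : (LinearMap.range (ev m)).map T ≤ (LinearMap.range (ev (n - m))).dualAnnihilator := by
    rintro _ ⟨a, ⟨p, rfl⟩, rfl⟩
    rw [Submodule.mem_dualAnnihilator]
    rintro _ ⟨q, rfl⟩
    rw [hT]
    have hpq : (p.1 * q.1) ∈ MvPolynomial.homogeneousSubmodule (Fin 4) k n := by
      rw [MvPolynomial.mem_homogeneousSubmodule]
      have h1 := ((MvPolynomial.mem_homogeneousSubmodule _ _).mp p.2).mul
        ((MvPolynomial.mem_homogeneousSubmodule _ _).mp q.2)
      rwa [Nat.add_sub_cancel' hm] at h1
    have h2 := hwD (ev n ⟨p.1 * q.1, hpq⟩) ⟨_, rfl⟩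
    rw [← h2]
    refine Finset.sum_congr rfl (fun z _ => ?_)
    rw [hev_apply, hev_apply, hev_apply, map_mul]
  have h1 : Module.finrank k (LinearMap.range (ev m)) =
      Module.finrank k ((LinearMap.range (ev m)).map T) :=
    LinearEquiv.finrank_eq (Submodule.equivMapOfInjective T hTinj _)
  have h2 := Submodule.finrank_mono hle
  have h3 := Subspace.finrank_add_finrank_dualAnnihilator_eq (LinearMap.range (ev (n - m)))
  have h4 : Module.finrank k (↥Z → k) = Z.card := by
    rw [Module.finrank_fintype_fun_eq_card, Fintype.card_coe]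
  omega

end Groth.Agent.S18040
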