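import Groth.Statements.S18050
import Groth.Agent.Lib.Helper27Euclid

set_option autoImplicit false
open STCI

namespace Groth.Agent.S18050

open W4c5stcicurvesp3 Groth.Agent.Lib.Helper27 in
theorem aux (t : ℕ) : ∀ (a b : ℕ), 0 < b → b ≤ a → irem a b (t + 1) = 0 →
    (∀ i, 0 < i → i < t + 1 → irem a b i ≠ 0) →
    (∑ i ∈ Finset.Icc 1 (t + 1), idiv a b i) * Nat.gcd b a ≤ a := by
  induction t with
  | zero =>
    intro a b hb hba hz _
    rw [zero_add, irem_one] at hz
    have hdvd : b ∣ a := Nat.dvd_of_mod_eq_zero hz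
    simp only [zero_add, Finset.Icc_self, Finset.sum_singleton, idiv_one]
    rw [Nat.gcd_eq_left hdvd]
    exact Nat.div_mul_le_self a b
  | succ t ih =>
    intro a b hb hba hz hmin
    have h1 : a % b ≠ 0 := by
      have := hmin 1 Nat.one_pos (by omega)
      rwa [irem_one] at this
    have hb' : 0 < a % b := Nat.pos_of_ne_zero h1
    have hlt : a % b < b := Nat.mod_lt a hb
    have hz' : irem b (a % b) (t + 1) = 0 := by
      rw [← irem_succ_eq a b h1]; exact hz
    have hmin' : ∀ i, 0 < i → i < t + 1 → irem b (a % b) i ≠ 0 := by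
      intro i hi hit
      rw [← irem_succ_eq a b h1]
      exact hmin (i + 1) (by omega) (by omega)
    have IH := ih b (a % b) hb' hlt.le hz' hmin'
    have hsum : ∑ i ∈ Finset.Icc 1 (t + 1 + 1), idiv a b i
        = a / b + ∑ i ∈ Finset.Icc 1 (t + 1), idiv b (a % b) i := by
      rw [← Finset.sum_Ioc_add_eq_sum_Icc (by omega : 1 ≤ t + 1 + 1), idiv_one, add_comm]
      congr 1
      rw [← Finset.Icc_add_one_left_eq_Ioc]
      rw [← Finset.image_add_right_Icc 1 (t + 1) 1]
      rw [Finset.sum_image (by intro x _ y _ h; simpa using h)]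
      apply Finset.sum_congr rfl
      intro i hi
      rw [Finset.mem_Icc] at hi
      exact idiv_succ_eq a b h1 i (by omega)
    rw [hsum]
    have hgcd : Nat.gcd b a = Nat.gcd (a % b) b := Nat.gcd_rec b a
    rw [hgcd]
    set g := Nat.gcd (a % b) b with hg
    set S := ∑ i ∈ Finset.Icc 1 (t + 1), idiv b (a % b) i with hS
    have hgr : g ≤ a % b := Nat.le_of_dvd hb' (Nat.gcd_dvd_left _ _)
    have hgb : g ≤ b := Nat.le_of_dvd hb (Nat.gcd_dvd_right _ _)
    have hq : 1 ≤ a / b := Nat.div_pos hba hb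
    have hN : b * (a / b) + a % b = a := Nat.div_add_mod a b
    obtain ⟨q, hq'⟩ : ∃ q, a / b = q + 1 := ⟨a / b - 1, by omega⟩
    rw [hq'] at hN ⊢
    have h2 : q * g ≤ q * b := Nat.mul_le_mul_left q hgb
    nlinarith

open W4c5stcicurvesp3 in
/-- Let k ≤ N be positive integers, let t be the least positive integer with rem_t(N, k) = 0, where
rem_0 = k, rem_1 = N mod k and rem_i is the remainder of rem_{i-2} by rem_{i-1} (iterated Euclidean
remainders), and let d_i be the corresponding iterated quotients (d_1 = ⌊N/k⌋, d_i =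
⌊rem_{i-2}/rem_{i-1}⌋). Then d_1 + ⋯ + d_t ≤ N/gcd(k, N); stated in the cleared form (d_1 + ⋯ + d_t)
· gcd(k, N) ≤ N. -/
theorem result (k N t : ℕ) (hk : 0 < k) (hkN : k ≤ N) (ht : 0 < t)
    (hzero : irem N k t = 0) (hmin : ∀ i, 0 < i → i < t → irem N k i ≠ 0) :
    (∑ i ∈ Finset.Icc 1 t, idiv N k i) * Nat.gcd k N ≤ N := by
  obtain ⟨t', rfl⟩ : ∃ t', t = t' + 1 := ⟨t - 1, by omega⟩
  exact aux t' N k hk hkN hzero hmin

end Groth.Agent.S18050
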