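import Groth.Statements.S18051
import Groth.Agent.Lib.Helper27Euclid

set_option autoImplicit false
open STCI

namespace Groth.Agent.S18051

theorem key3 (e f r s : ℚ) (he : 2 ≤ e) (hf : 1 ≤ f) (hs : 0 < s) (hsr : s ≤ r) :
    ((f * r + s) - r) / e + (r - s) / (e + f) + s / (e + f + 1)
      ≤ (f * r + s) ^ 2 / (e * (f * r + s) + r) := by
  obtain ⟨E, rfl⟩ : ∃ E, e = 2 + E := ⟨e - 2, by ring⟩
  obtain ⟨F, rfl⟩ : ∃ F, f = 1 + F := ⟨f - 1, by ring⟩
  obtain ⟨R, rfl⟩ : ∃ R, r = s + R := ⟨r - s, by ring⟩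
  have hE : 0 ≤ E := by linarith
  have hF : 0 ≤ F := by linarith
  have hR : 0 ≤ R := by linarith
  have h1 : (0 : ℚ) < 2 + E := by positivity
  have h2 : (0 : ℚ) < 2 + E + (1 + F) := by positivity
  have h3 : (0 : ℚ) < 2 + E + (1 + F) + 1 := by positivity
  have h4 : (0 : ℚ) < (2 + E) * ((1 + F) * (s + R) + s) + (s + R) := by positivity
  rw [div_add_div _ _ h1.ne' h2.ne', div_add_div _ _ (by positivity) h3.ne',
    div_le_div_iff₀ (by positivity) h4, ← sub_nonneg]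
  ring_nf
  positivity

open W4c5stcicurvesp3 in
/-- Let k ≤ N/2 be positive integers and let r_i = rem_i(N, k), d_i = div_i(N, k) be the iterated
Euclidean remainders and quotients of (N, k) (r_0 = k, r_1 = N mod k, r_2 = r_0 mod r_1, d_1 =
⌊N/k⌋, d_2 = ⌊r_0/r_1⌋). If the least positive t with r_t = 0 satisfies t ≥ 3, i.e. r_1 ≠ 0 and r_2
≠ 0, then (r_0 - r_1)/d_1 + (r_1 - r_2)/(d_1 + d_2) + r_2/(d_1 + d_2 + 1) ≤ k²/N (in ℚ). -/
theorem result (k N : ℕ) (hk : 0 < k) (hkN : 2 * k ≤ N)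
    (h1 : irem N k 1 ≠ 0) (h2 : irem N k 2 ≠ 0) :
    ((irem N k 0 : ℚ) - irem N k 1) / (idiv N k 1)
      + ((irem N k 1 : ℚ) - irem N k 2) / ((idiv N k 1 : ℚ) + idiv N k 2)
      + (irem N k 2 : ℚ) / ((idiv N k 1 : ℚ) + idiv N k 2 + 1)
      ≤ (k : ℚ) ^ 2 / N := by
  open Groth.Agent.Lib.Helper27 in
  rw [irem_one] at h1
  have e2 : irem N k 2 = k % (N % k) := by
    rw [irem_add_two, irem_one, irem_zero, if_neg h1]
  have d2 : idiv N k 2 = k / (N % k) := by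
    rw [idiv_add_two, irem_one, irem_zero, if_neg h1]
  rw [e2] at h2
  rw [e2, d2, irem_zero, irem_one, idiv_one]
  have hr1 : 0 < N % k := Nat.pos_of_ne_zero h1
  have hr1k : N % k < k := Nat.mod_lt N hk
  have hs : 0 < k % (N % k) := Nat.pos_of_ne_zero h2
  have hsr : k % (N % k) < N % k := Nat.mod_lt k hr1
  have hN : k * (N / k) + N % k = N := Nat.div_add_mod N k
  have hK : N % k * (k / (N % k)) + k % (N % k) = k := Nat.div_add_mod k (N % k)
  have he : 2 ≤ N / k := by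
    rw [Nat.le_div_iff_mul_le hk]; exact hkN
  have hf : 1 ≤ k / (N % k) := Nat.div_pos hr1k.le hr1
  have hNq : (N : ℚ) = ((N / k : ℕ) : ℚ) * (k : ℚ) + ((N % k : ℕ) : ℚ) := by
    rw [mul_comm]; exact_mod_cast hN.symm
  have hKq : (k : ℚ) = ((k / (N % k) : ℕ) : ℚ) * ((N % k : ℕ) : ℚ) + ((k % (N % k) : ℕ) : ℚ) := by
    rw [mul_comm]; exact_mod_cast hK.symm
  have key := key3 ((N / k : ℕ) : ℚ) ((k / (N % k) : ℕ) : ℚ) ((N % k : ℕ) : ℚ)
    ((k % (N % k) : ℕ) : ℚ) (by exact_mod_cast he) (by exact_mod_cast hf) (by exact_mod_cast hs)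
    (by exact_mod_cast hsr.le)
  rw [← hKq, ← hNq] at key
  exact key

end Groth.Agent.S18051
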