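import Groth.Statements.S18052
import Groth.Agent.Lib.Helper27Euclid

set_option autoImplicit false
open STCI

namespace Groth.Agent.S18052

theorem key_ineq (e b r : ℚ) (he : 1 ≤ e) (hr : 0 < r) (hrb : r < b) :
    (b - r) / e + r ^ 2 / (b + e * r) ≤ b ^ 2 / (e * b + r) := by
  have hb : 0 < b := lt_trans hr hrb
  have he0 : 0 < e := lt_of_lt_of_le one_pos he
  have h1 : 0 < b + e * r := by positivity
  have h2 : 0 < e * b + r := by positivity
  rw [div_add_div _ _ he0.ne' h1.ne', div_le_div_iff₀ (by positivity) h2]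
  have h3 : 0 ≤ (e - 1) * b * r * (b - r) := by
    apply mul_nonneg
    · apply mul_nonneg
      · apply mul_nonneg
        · linarith
        · exact hb.le
      · exact hr.le
    · linarith
  nlinarith [h3]

open W4c5stcicurvesp3 Groth.Agent.Lib.Helper27 in
theorem sum_idiv_shift (a b : ℕ) (h1 : a % b ≠ 0) (m : ℕ) :
    ∑ j ∈ Finset.Icc 1 (m + 2), (idiv a b j : ℚ)
      = (a / b : ℕ) + ∑ j ∈ Finset.Icc 1 (m + 1), (idiv b (a % b) j : ℚ) := by
  rw [← Finset.sum_Ioc_add_eq_sum_Icc (by omega : 1 ≤ m + 2), idiv_one, add_comm]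
  congr 1
  rw [← Finset.Icc_add_one_left_eq_Ioc]
  rw [← Finset.image_add_right_Icc 1 (m + 1) 1]
  rw [Finset.sum_image (by intro x _ y _ h; simpa using h)]
  apply Finset.sum_congr rfl
  intro i hi
  rw [Finset.mem_Icc] at hi
  rw [idiv_succ_eq a b h1 i (by omega)]

open W4c5stcicurvesp3 Groth.Agent.Lib.Helper27 in
theorem aux (t : ℕ) : ∀ (a b : ℕ) (c : ℚ), 0 ≤ c → 0 < b → b ≤ a → irem a b (t + 1) = 0 →
    (∀ i, 0 < i → i < t + 1 → irem a b i ≠ 0) →
    ∑ i ∈ Finset.range (t + 1), ((irem a b i : ℚ) - irem a b (i + 1)) /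
        (c + ∑ j ∈ Finset.Icc 1 (i + 1), (idiv a b j : ℚ))
      ≤ (b : ℚ) ^ 2 / (a + c * b) := by
  induction t with
  | zero =>
    intro a b c hc hb hba hz _
    rw [zero_add, irem_one] at hz
    have hdvd : b ∣ a := Nat.dvd_of_mod_eq_zero hz
    obtain ⟨q, rfl⟩ := hdvd
    have hbq : (0 : ℚ) < b := by exact_mod_cast hb
    have hq : 0 < q := by
      rcases Nat.eq_zero_or_pos q with h | h
      · subst h; omega
      · exact h
    have hqq : (0 : ℚ) < q := by exact_mod_cast hq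
    simp only [zero_add, Finset.range_one, Finset.sum_singleton, Finset.Icc_self, idiv_one,
      irem_zero, irem_one, Nat.mul_mod_right, Nat.cast_zero, sub_zero]
    rw [Nat.mul_div_cancel_left q hb]
    push_cast
    rw [div_le_div_iff₀ (by positivity) (by positivity)]
    apply le_of_eq
    ring
  | succ t ih =>
    intro a b c hc hb hba hz hmin
    have h1 : a % b ≠ 0 := by
      have := hmin 1 Nat.one_pos (by omega)
      rwa [irem_one] at this
    have hb' : 0 < a % b := Nat.pos_of_ne_zero h1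
    have hlt : a % b < b := Nat.mod_lt a hb
    have hz' : irem b (a % b) (t + 1) = 0 := by
      rw [← irem_succ_eq a b h1]; exact hz
    have hmin' : ∀ i, 0 < i → i < t + 1 → irem b (a % b) i ≠ 0 := by
      intro i hi hit
      rw [← irem_succ_eq a b h1]
      exact hmin (i + 1) (by omega) (by omega)
    have hq : 1 ≤ a / b := Nat.div_pos hba hb
    have hqq : (1 : ℚ) ≤ ((a / b : ℕ) : ℚ) := by exact_mod_cast hq
    have IH := ih b (a % b) (c + ((a / b : ℕ) : ℚ)) (by linarith) hb' hlt.le hz' hmin'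
    rw [Finset.sum_range_succ']
    have hsum : ∑ i ∈ Finset.range (t + 1), ((irem a b (i + 1) : ℚ) - irem a b (i + 1 + 1)) /
        (c + ∑ j ∈ Finset.Icc 1 (i + 1 + 1), (idiv a b j : ℚ))
        = ∑ i ∈ Finset.range (t + 1), ((irem b (a % b) i : ℚ) - irem b (a % b) (i + 1)) /
        (c + ((a / b : ℕ) : ℚ) + ∑ j ∈ Finset.Icc 1 (i + 1), (idiv b (a % b) j : ℚ)) := by
      apply Finset.sum_congr rfl
      intro i _
      rw [irem_succ_eq a b h1 i, irem_succ_eq a b h1 (i + 1), sum_idiv_shift a b h1 i, add_assoc]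
    rw [hsum]
    simp only [zero_add, Finset.Icc_self, Finset.sum_singleton, idiv_one, irem_zero, irem_one]
    have hN : b * (a / b) + a % b = a := Nat.div_add_mod a b
    have hNq : (a : ℚ) = (b : ℚ) * ((a / b : ℕ) : ℚ) + ((a % b : ℕ) : ℚ) := by
      exact_mod_cast hN.symm
    have hrq : (0 : ℚ) < ((a % b : ℕ) : ℚ) := by exact_mod_cast hb'
    have hrb : (((a % b : ℕ) : ℚ)) < (b : ℚ) := by exact_mod_cast hlt
    have key := key_ineq (c + ((a / b : ℕ) : ℚ)) (b : ℚ) ((a % b : ℕ) : ℚ) (by linarith) hrq hrb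
    have e1 : (a : ℚ) + c * b = (c + ((a / b : ℕ) : ℚ)) * b + ((a % b : ℕ) : ℚ) := by
      rw [hNq]; ring
    rw [e1]
    have e2 : (b : ℚ) + (c + ((a / b : ℕ) : ℚ)) * ((a % b : ℕ) : ℚ)
        = (b : ℚ) + (c + ((a / b : ℕ) : ℚ)) * ((a % b : ℕ) : ℚ) := rfl
    calc _ ≤ ((a % b : ℕ) : ℚ) ^ 2 / ((b : ℚ) + (c + ((a / b : ℕ) : ℚ)) * ((a % b : ℕ) : ℚ))
            + ((b : ℚ) - ((a % b : ℕ) : ℚ)) / (c + ((a / b : ℕ) : ℚ)) := by
          exact add_le_add_left IH _
      _ ≤ _ := by rw [add_comm]; exact key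

open W4c5stcicurvesp3 in
/-- Let k ≤ N/2 be positive integers, let r_i = rem_i(N, k) and d_i = div_i(N, k) be the iterated
Euclidean remainders and quotients of (N, k) (r_0 = k, r_1 = N mod k, …; d_1 = ⌊N/k⌋, d_i =
⌊r_{i-2}/r_{i-1}⌋), and let t be the least positive integer with r_t = 0. Then the sum over i = 0,
…, t - 1 of (r_i - r_{i+1})/(d_1 + ⋯ + d_{i+1}) is at most k²/N (in ℚ). -/
theorem result (k N t : ℕ) (hk : 0 < k) (hkN : 2 * k ≤ N) (ht : 0 < t)
    (hzero : irem N k t = 0) (hmin : ∀ i, 0 < i → i < t → irem N k i ≠ 0) :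
    ∑ i ∈ Finset.range t, ((irem N k i : ℚ) - irem N k (i + 1)) / (∑ j ∈ Finset.Icc 1 (i + 1), (idiv N k j : ℚ))
      ≤ (k : ℚ) ^ 2 / N := by
  obtain ⟨t', rfl⟩ : ∃ t', t = t' + 1 := ⟨t - 1, by omega⟩
  have := aux t' N k 0 le_rfl hk (by omega) hzero hmin
  simpa using this

end Groth.Agent.S18052
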