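import Groth.Statements.S18053
import Mathlib.Tactic

set_option autoImplicit false
open STCI

namespace Groth.Agent.S18053

/-- Let (p_k)_{k ≥ 1} be a sequence of nonnegative integers and n a nonnegative integer such that (i)
p_1 ≤ 9 - (2/5)n, (ii) p_1 ≥ p_2 ≥ p_3 ≥ ⋯, (iii) Σ_k p_k ≤ 19 - n, and (iv) n/4 + Σ_{k ≥ 1}
p_k/(k(k+1)) ≥ 6. Then n = 0 and (p_k) is one of (9, 8, 2), (9, 9), (9, 9, 1) (followed by zeros).
Here the sequence is indexed from 0 (so p 0 is p_1 and the weight of p k is 1/((k+1)(k+2))), (iii)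
is stated for every partial sum, and the series in (iv) is the real sum Σ' over all k. -/
theorem result (p : ℕ → ℕ) (n : ℕ)
    (h1 : (p 0 : ℝ) ≤ 9 - (2 / 5 : ℝ) * n) (h2 : Antitone p)
    (h3 : ∀ m : ℕ, ((∑ k ∈ Finset.range m, p k : ℕ) : ℝ) ≤ 19 - (n : ℝ))
    (h4 : (6 : ℝ) ≤ (n : ℝ) / 4 + ∑' k : ℕ, (p k : ℝ) / (((k : ℝ) + 1) * ((k : ℝ) + 2))) :
    n = 0 ∧ (p = (fun k => if k = 0 then 9 else if k = 1 then 8 else if k = 2 then 2 else 0)
      ∨ p = (fun k => if k = 0 then 9 else if k = 1 then 9 else 0)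
      ∨ p = (fun k => if k = 0 then 9 else if k = 1 then 9 else if k = 2 then 1 else 0)) := by
  -- p vanishes from index 19 on
  have hzero : ∀ k, 19 ≤ k → p k = 0 := by
    intro k hk
    by_contra hne
    have hpos : 1 ≤ p k := Nat.one_le_iff_ne_zero.mpr hne
    have hsum : k + 1 ≤ ∑ j ∈ Finset.range (k + 1), p j := by
      calc k + 1 = ∑ _j ∈ Finset.range (k + 1), 1 := by simp
        _ ≤ ∑ j ∈ Finset.range (k + 1), p j := by
          apply Finset.sum_le_sum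
          intro j hj
          rw [Finset.mem_range] at hj
          exact le_trans hpos (h2 (by omega))
    have h3' := h3 (k + 1)
    have hsumR : ((k + 1 : ℕ) : ℝ) ≤ ((∑ j ∈ Finset.range (k + 1), p j : ℕ) : ℝ) := by
      exact_mod_cast hsum
    have hn0 : (0 : ℝ) ≤ n := Nat.cast_nonneg n
    have hk' : ((19 : ℕ) : ℝ) ≤ ((k : ℕ) : ℝ) := by exact_mod_cast hk
    have h5 := le_trans hsumR h3'
    push_cast at h5 hk'
    linarith
  have htsum : ∑' k : ℕ, (p k : ℝ) / (((k : ℝ) + 1) * ((k : ℝ) + 2))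
      = ∑ k ∈ Finset.range 19, (p k : ℝ) / (((k : ℝ) + 1) * ((k : ℝ) + 2)) := by
    apply tsum_eq_sum
    intro k hk
    rw [Finset.mem_range, not_lt] at hk
    rw [hzero k hk]
    simp
  rw [htsum] at h4
  have h3' := h3 19
  simp only [Finset.sum_range_succ, Finset.sum_range_zero, zero_add] at h4 h3'
  have a01 : p 1 ≤ p 0 := h2 (by omega)
  have a12 : p 2 ≤ p 1 := h2 (by omega)
  have a23 : p 3 ≤ p 2 := h2 (by omega)
  have a34 : p 4 ≤ p 2 := h2 (by omega)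
  have a45 : p 5 ≤ p 2 := h2 (by omega)
  have a56 : p 6 ≤ p 2 := h2 (by omega)
  have a67 : p 7 ≤ p 2 := h2 (by omega)
  have a78 : p 8 ≤ p 2 := h2 (by omega)
  have a89 : p 9 ≤ p 2 := h2 (by omega)
  have a910 : p 10 ≤ p 2 := h2 (by omega)
  have a1011 : p 11 ≤ p 2 := h2 (by omega)
  have a1112 : p 12 ≤ p 2 := h2 (by omega)
  have a1213 : p 13 ≤ p 2 := h2 (by omega)
  have a1314 : p 14 ≤ p 2 := h2 (by omega)
  have a1415 : p 15 ≤ p 2 := h2 (by omega)
  have a1516 : p 16 ≤ p 2 := h2 (by omega)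
  have a1617 : p 17 ≤ p 2 := h2 (by omega)
  have a1718 : p 18 ≤ p 2 := h2 (by omega)
  -- integer forms of the hypotheses
  have H1 : 5 * p 0 + 2 * n ≤ 45 := by
    have : (5 : ℝ) * (p 0 : ℝ) + 2 * (n : ℝ) ≤ 45 := by linarith
    exact_mod_cast this
  have H3 : p 0 + p 1 + p 2 + p 3 + p 4 + p 5 + p 6 + p 7 + p 8 + p 9 + p 10 + p 11 + p 12
      + p 13 + p 14 + p 15 + p 16 + p 17 + p 18 + n ≤ 19 := by
    have : ((p 0 + p 1 + p 2 + p 3 + p 4 + p 5 + p 6 + p 7 + p 8 + p 9 + p 10 + p 11 + p 12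
      + p 13 + p 14 + p 15 + p 16 + p 17 + p 18 : ℕ) : ℝ) + (n : ℝ) ≤ 19 := by linarith
    exact_mod_cast this
  have H4 : 360 ≤ 15 * n + 30 * p 0 + 10 * p 1 + 5 * p 2 + 3 * (p 3 + p 4 + p 5 + p 6 + p 7
      + p 8 + p 9 + p 10 + p 11 + p 12 + p 13 + p 14 + p 15 + p 16 + p 17 + p 18) := by
    have hnn : ∀ k, (0 : ℝ) ≤ (p k : ℝ) := fun k => Nat.cast_nonneg _
    have : (360 : ℝ) ≤ 15 * (n : ℝ) + 30 * (p 0 : ℝ) + 10 * (p 1 : ℝ) + 5 * (p 2 : ℝ)
        + 3 * ((p 3 : ℝ) + p 4 + p 5 + p 6 + p 7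
      + p 8 + p 9 + p 10 + p 11 + p 12 + p 13 + p 14 + p 15 + p 16 + p 17 + p 18) := by
      norm_num at h4
      linarith [hnn 3, hnn 4, hnn 5, hnn 6, hnn 7, hnn 8, hnn 9, hnn 10, hnn 11, hnn 12, hnn 13,
        hnn 14, hnn 15, hnn 16, hnn 17, hnn 18]
    exact_mod_cast this
  have hmain : n = 0 ∧ p 3 = 0 ∧ ((p 0 = 9 ∧ p 1 = 8 ∧ p 2 = 2) ∨ (p 0 = 9 ∧ p 1 = 9 ∧ p 2 = 0)
      ∨ (p 0 = 9 ∧ p 1 = 9 ∧ p 2 = 1)) := by
    obtain ⟨R, hR⟩ : ∃ R, R = p 3 + p 4 + p 5 + p 6 + p 7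
      + p 8 + p 9 + p 10 + p 11 + p 12 + p 13 + p 14 + p 15 + p 16 + p 17 + p 18 := ⟨_, rfl⟩
    have hR1 : R ≤ 16 * p 2 := by omega
    have hR2 : p 3 ≤ R := by omega
    have H3' : p 0 + p 1 + p 2 + R + n ≤ 19 := by omega
    have H4' : 360 ≤ 15 * n + 30 * p 0 + 10 * p 1 + 5 * p 2 + 3 * R := by omega
    clear H3 H4 hR a23 a34 a45 a56 a67 a78 a89 a910 a1011 a1112 a1213 a1314 a1415 a1516 a1617 a1718
    clear h1 h2 h3 h4 hzero htsum h3'
    generalize p 0 = a at *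
    generalize p 1 = b at *
    generalize p 2 = c at *
    generalize p 3 = d at *
    have ha9 : a ≤ 9 := by omega
    have ha5 : 5 ≤ a := by omega
    have hb0 : b ≤ a := a01
    interval_cases a <;> interval_cases b <;> omega
  obtain ⟨hn, hp3, hcases⟩ := hmain
  refine ⟨hn, ?_⟩
  have htail : ∀ k, 3 ≤ k → p k = 0 := by
    intro k hk
    have := h2 hk
    omega
  rcases hcases with ⟨e0, e1, e2⟩ | ⟨e0, e1, e2⟩ | ⟨e0, e1, e2⟩
  · left
    funext k
    rcases k with _ | _ | _ | k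
    · simpa using e0
    · simpa using e1
    · simpa using e2
    · simpa using htail (k + 3) (by omega)
  · right; left
    funext k
    rcases k with _ | _ | _ | k
    · simpa using e0
    · simpa using e1
    · simpa using e2
    · simpa using htail (k + 3) (by omega)
  · right; right
    funext k
    rcases k with _ | _ | _ | k
    · simpa using e0
    · simpa using e1
    · simpa using e2
    · simpa using htail (k + 3) (by omega)

end Groth.Agent.S18053
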