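import Groth.Statements.S18054
import Mathlib.Tactic

set_option autoImplicit false
open STCI

namespace Groth.Agent.S18054

/-- AM-GM step: with `X = d t + 10 n ≤ Y` and `d n = s t`, get `40 s t² ≤ Y²`. -/
theorem amgm (s t d n Y : ℤ) (hn : s * t = d * n) (hd : 0 < d) (ht : 0 < t) (hn0 : 0 < n)
    (hXY : d * t + 10 * n ≤ Y) : 40 * s * t ^ 2 ≤ Y ^ 2 := by
  have hX : 0 < d * t + 10 * n := by positivity
  have h1 : (d * t + 10 * n) ^ 2 ≤ Y ^ 2 := by
    apply pow_le_pow_left₀ hX.le hXY
  have h2 : 40 * s * t ^ 2 ≤ (d * t + 10 * n) ^ 2 := by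
    have : (d * t + 10 * n) ^ 2 - 40 * s * t ^ 2 = (d * t - 10 * n) ^ 2 + 40 * t * (d * n - s * t) := by
      ring
    have h3 : d * n - s * t = 0 := by linarith
    rw [h3] at this
    nlinarith [sq_nonneg (d * t - 10 * n)]
  linarith

theorem mid (s t d n : ℤ) (hs5 : 5 ≤ s) (hs12 : s ≤ 12) (hst : s ≤ t) (hd : 4 ≤ d) (hn2 : 2 ≤ n)
    (hn : s * t = d * n)
    (h : 3 * (s * t * (s - 6) + d * t + 10 * n) ≤ s * (2 * s ^ 2 - 6 * s + 7) - 3) : False := by
  have hd0 : 0 < d := by linarith
  have ht0 : 0 < t := by linarith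
  have hn0 : 0 < n := by linarith
  interval_cases s
  · have := amgm 5 t d n (44 + 5 * t) hn hd0 ht0 hn0 (by linarith)
    nlinarith
  · have := amgm 6 t d n 85 hn hd0 ht0 hn0 (by linarith)
    nlinarith
  · have := amgm 7 t d n (146 - 7 * t) hn hd0 ht0 hn0 (by linarith)
    have hY : 0 < 146 - 7 * t := by
      have : 0 < d * t + 10 * n := by positivity
      linarith
    nlinarith
  · have := amgm 8 t d n (231 - 16 * t) hn hd0 ht0 hn0 (by linarith)
    have hY : 0 < 231 - 16 * t := by
      have : 0 < d * t + 10 * n := by positivity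
      linarith
    nlinarith
  · have := amgm 9 t d n (344 - 27 * t) hn hd0 ht0 hn0 (by linarith)
    have hY : 0 < 344 - 27 * t := by
      have : 0 < d * t + 10 * n := by positivity
      linarith
    nlinarith
  · have := amgm 10 t d n (489 - 40 * t) hn hd0 ht0 hn0 (by linarith)
    have hY : 0 < 489 - 40 * t := by
      have : 0 < d * t + 10 * n := by positivity
      linarith
    nlinarith
  · have := amgm 11 t d n (670 - 55 * t) hn hd0 ht0 hn0 (by linarith)
    have hY : 0 < 670 - 55 * t := by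
      have : 0 < d * t + 10 * n := by positivity
      linarith
    nlinarith
  · have := amgm 12 t d n (891 - 72 * t) hn hd0 ht0 hn0 (by linarith)
    have hY : 0 < 891 - 72 * t := by
      have : 0 < d * t + 10 * n := by positivity
      linarith
    nlinarith

theorem small (t d n : ℤ) (hst : 4 ≤ t) (hd : 4 ≤ d) (hn2 : 2 ≤ n)
    (hn : 4 * t = d * n)
    (h : 3 * (4 * t * (4 - 6) + d * t + 10 * n) ≤ 4 * (2 * 4 ^ 2 - 6 * 4 + 7) - 3) : False := by
  have hd7 : d ≤ 7 := by
    by_contra hcon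
    push Not at hcon
    have : 8 * t ≤ d * t := by nlinarith
    linarith
  interval_cases d <;> omega

theorem big (s t d n : ℤ) (hs : 13 ≤ s) (hst : s ≤ t) (hd : 4 ≤ d) (hn2 : 2 ≤ n)
    (h : 3 * (s * t * (s - 6) + d * t + 10 * n) ≤ s * (2 * s ^ 2 - 6 * s + 7) - 3) : False := by
  have h1 : s * s * (s - 6) ≤ s * t * (s - 6) := by
    have : 0 ≤ s * (s - 6) * (t - s) := by
      apply mul_nonneg
      · apply mul_nonneg <;> linarith
      · linarith
    nlinarith
  have h2 : 0 < d * t := by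
    apply mul_pos <;> linarith
  have h3 : 0 ≤ s * ((s - 13) * (s + 1)) := by
    apply mul_nonneg
    · linarith
    · apply mul_nonneg <;> linarith
  nlinarith

/-- Let s, t, d, g be integers with t ≥ s ≥ 4, d ≥ 1, g ≥ 0 and d dividing st; put n = st/d and assume n
≥ 2; put r = d[n(s - 4) + t] + (2 - 2g)n and assume r ≤ (s/3)(2s² - 6s + 7) - 1. Then d ≤ g + 3.
(The bound is written cleared of the denominator 3; s(2s² - 6s + 7) is always divisible by 3, so
this is the same condition.) -/
theorem result (s t d g n : ℤ) (hs : 4 ≤ s) (hst : s ≤ t) (hd : 1 ≤ d) (hg : 0 ≤ g)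
    (hn : s * t = d * n) (hn2 : 2 ≤ n)
    (hr : 3 * (d * (n * (s - 4) + t) + (2 - 2 * g) * n) ≤ s * (2 * s ^ 2 - 6 * s + 7) - 3) :
    d ≤ g + 3 := by
  by_contra hcon
  push Not at hcon
  have hd4 : 4 ≤ d := by linarith
  have hgn : g * n ≤ (d - 4) * n := by
    apply mul_le_mul_of_nonneg_right <;> linarith
  have hstar : 3 * (s * t * (s - 6) + d * t + 10 * n) ≤ s * (2 * s ^ 2 - 6 * s + 7) - 3 := by
    have e1 : d * (n * (s - 4) + t) + (2 - 2 * g) * n
        = s * t * (s - 4) + d * t + 2 * n - 2 * (g * n) := by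
      rw [hn]; ring
    have e2 : (d - 4) * n = s * t - 4 * n := by
      rw [hn]; ring
    rw [e1] at hr
    rw [e2] at hgn
    have e3 : s * t * (s - 6) = s * t * (s - 4) - 2 * (s * t) := by ring
    rw [e3]
    linarith
  rcases le_or_gt 13 s with h13 | h13
  · exact big s t d n h13 hst hd4 hn2 hstar
  · rcases le_or_gt 5 s with h5 | h5
    · exact mid s t d n h5 (by linarith) hst hd4 hn2 hn hstar
    · have hs4 : s = 4 := by linarith
      subst hs4
      exact small t d n hst hd4 hn2 hn hstar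

end Groth.Agent.S18054
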