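import Groth.Statements.S18055
import Mathlib.Tactic

set_option autoImplicit false
open STCI

namespace Groth.Agent.S18055

/-- the arithmetic core: from `t * u ≤ d²(s-4) + 2d + d j`, `u = s j - d² ≥ 1`. -/
theorem core (d s t n j : ℤ) (hd : 1 ≤ d) (hs : 1 ≤ s) (hst : s ≤ t)
    (hn : s * t = d * n) (hn2 : 2 ≤ n) (hj : 1 ≤ j) (hu : 1 ≤ s * j - d ^ 2)
    (hheart : t * (s * j - d ^ 2) ≤ d ^ 2 * (s - 4) + 2 * d + d * j) :
    s < 2 * d ^ 2 ∧ t < 2 * d ^ 4 := by
  have part1 : s < 2 * d ^ 2 := by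
    by_contra hcon
    push Not at hcon
    have h1 : s * (s * j - d ^ 2) ≤ t * (s * j - d ^ 2) := by
      apply mul_le_mul_of_nonneg_right hst (by linarith)
    have h2 : 2 * d ^ 2 * s ≤ s * s := by
      apply mul_le_mul_of_nonneg_right hcon (by linarith)
    have h3 : s * s * (j - 1) ≤ d * j + 2 * d - 4 * d ^ 2 := by
      have e : s * (s * j - d ^ 2) = s * s * (j - 1) + s * s - d ^ 2 * s := by ring
      have e' : d ^ 2 * (s - 4) = d ^ 2 * s - 4 * d ^ 2 := by ring
      linarith
    have hd2 : d ≤ d ^ 2 := by nlinarith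
    have hs2d : 2 * d ≤ s := by linarith
    have h4 : 4 * d ≤ s * s := by nlinarith
    have h5 : 4 * d * (j - 1) ≤ s * s * (j - 1) := by
      apply mul_le_mul_of_nonneg_right h4 (by linarith)
    have h6 : 3 * d ≤ 3 * (d * j) := by nlinarith
    nlinarith
  refine ⟨part1, ?_⟩
  by_contra hcon
  push Not at hcon
  -- multiply the inequality by s
  have hdn : 2 * d ≤ s * t := by rw [hn]; nlinarith
  have hdia : (s * j - d ^ 2) * (s * t - d) ≤ d ^ 2 * s ^ 2 - 4 * d ^ 2 * s + 2 * d * s + d ^ 3 := by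
    have := mul_le_mul_of_nonneg_left hheart (by linarith : (0 : ℤ) ≤ s)
    have e : s * (t * (s * j - d ^ 2)) = (s * j - d ^ 2) * (s * t - d) + d * (s * j - d ^ 2) := by
      ring
    have e' : s * (d ^ 2 * (s - 4) + 2 * d + d * j)
        = d ^ 2 * s ^ 2 - 4 * d ^ 2 * s + 2 * d * s + d ^ 3 + d * (s * j - d ^ 2) := by ring
    linarith
  have h1 : s * t - d ≤ (s * j - d ^ 2) * (s * t - d) := by
    have := mul_le_mul_of_nonneg_right hu (by linarith : (0 : ℤ) ≤ s * t - d)
    linarith
  have h2 : 2 * d ^ 4 * s ≤ s * t := by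
    have := mul_le_mul_of_nonneg_left hcon (by linarith : (0 : ℤ) ≤ s)
    linarith
  have hf : 2 * d ^ 4 * s - d ≤ d ^ 2 * s ^ 2 - 4 * d ^ 2 * s + 2 * d * s + d ^ 3 := by linarith
  have hd2 : d ≤ d ^ 2 := by nlinarith
  have hd3 : d ^ 2 ≤ d ^ 3 := by nlinarith
  have hd4 : d ^ 3 ≤ d ^ 4 := by nlinarith
  have hd0 : 0 < d := by linarith
  rcases le_or_gt s (d ^ 2) with hsd | hsd
  · have h3 : d ^ 2 * s ^ 2 ≤ d ^ 4 * s := by
      have : s * s ≤ d ^ 2 * s := mul_le_mul_of_nonneg_right hsd (by linarith)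
      have := mul_le_mul_of_nonneg_left this (by positivity : (0 : ℤ) ≤ d ^ 2)
      nlinarith
    have h4 : d ^ 4 ≤ d ^ 4 * s := by nlinarith [pow_pos hd0 4]
    have h5 : 2 * d ≤ 2 * d * s := by nlinarith
    have h6 : 4 * d * s ≤ 4 * d ^ 2 * s := by nlinarith
    nlinarith
  · have hs' : s ≤ 2 * d ^ 2 - 1 := by linarith
    have h3 : d ^ 2 * s ^ 2 ≤ 2 * d ^ 4 * s - d ^ 2 * s := by
      have : s * s ≤ (2 * d ^ 2 - 1) * s := mul_le_mul_of_nonneg_right hs' (by linarith)
      have := mul_le_mul_of_nonneg_left this (by positivity : (0 : ℤ) ≤ d ^ 2)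
      nlinarith
    have h4 : 5 * d ^ 2 * s - 2 * d * s ≤ d ^ 3 + d := by linarith
    have h5 : 2 * d * s ≤ 2 * d ^ 2 * s := by nlinarith
    have h6 : d ^ 2 * (d ^ 2 + 1) ≤ d ^ 2 * s := by
      apply mul_le_mul_of_nonneg_left (by linarith) (by positivity)
    nlinarith

/-- Let d ≥ 1, g ≥ 0 and 1 ≤ s ≤ t be integers with d dividing st, put n = st/d and r = d[n(s - 4) + t]
+ (2 - 2g)n, and assume n ≥ 2, r > 0 and (n - 1) divides r. Then s < 2d² and t < 2d⁴. This is the
statement about the degree data (d, g the degree and genus of the curve, s ≤ t the degrees of the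
two surfaces) to which the published proof reduces the degree bound: there the divisibility and
positivity express that r/(n - 1), the common value of the type numbers of the pair, is a positive
integer; the geometric hypotheses themselves are not part of this row. -/
theorem result (d g s t n : ℤ) (hd : 1 ≤ d) (hg : 0 ≤ g) (hs : 1 ≤ s) (hst : s ≤ t)
    (hn : s * t = d * n) (hn2 : 2 ≤ n)
    (hpos : 0 < d * (n * (s - 4) + t) + (2 - 2 * g) * n)
    (hdvd : (n - 1) ∣ d * (n * (s - 4) + t) + (2 - 2 * g) * n) :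
    s < 2 * d ^ 2 ∧ t < 2 * d ^ 4 := by
  obtain ⟨q, hq⟩ := hdvd
  have hn1 : 0 < n - 1 := by linarith
  have hq1 : 1 ≤ q := by
    by_contra hcon
    push Not at hcon
    have : (n - 1) * q ≤ 0 := by
      apply mul_nonpos_of_nonneg_of_nonpos <;> linarith
    linarith
  obtain ⟨w, hw⟩ : ∃ w, w = d * (s - 4) + 2 - 2 * g := ⟨_, rfl⟩
  have hr : d * (n * (s - 4) + t) + (2 - 2 * g) * n = n * w + d * t := by rw [hw]; ring
  rw [hr] at hq
  obtain ⟨j, hj⟩ : ∃ j, j = q - w := ⟨_, rfl⟩
  have hnj : n * j = d * t + q := by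
    rw [hj]; linear_combination (-1 : ℤ) * hq
  have hdt : 0 < d * t := by
    apply mul_pos <;> linarith
  have hj1 : 1 ≤ j := by
    by_contra hcon
    push Not at hcon
    have : n * j ≤ 0 := by
      apply mul_nonpos_of_nonneg_of_nonpos <;> linarith
    linarith
  have hspade : (n - 1) * j ≤ d * (s + t - 4) + 2 := by
    have e : (n - 1) * j = d * t + w := by
      have : (n - 1) * j = n * j - j := by ring
      rw [this, hnj, hj]; ring
    rw [e, hw]
    have : d * (s + t - 4) = d * t + d * (s - 4) := by ring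
    linarith
  have hspade' : (s * t - d) * j ≤ d ^ 2 * (s + t - 4) + 2 * d := by
    have := mul_le_mul_of_nonneg_left hspade (by linarith : (0 : ℤ) ≤ d)
    have e : d * ((n - 1) * j) = (s * t - d) * j := by rw [hn]; ring
    have e' : d * (d * (s + t - 4) + 2) = d ^ 2 * (s + t - 4) + 2 * d := by ring
    linarith
  have hclub : t * (s * j - d ^ 2) = d * q := by
    have : t * (s * j - d ^ 2) = (s * t) * j - d ^ 2 * t := by ring
    rw [this, hn]
    have : d * n * j = d * (n * j) := by ring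
    rw [this, hnj]; ring
  have hu : 1 ≤ s * j - d ^ 2 := by
    by_contra hcon
    push Not at hcon
    have : t * (s * j - d ^ 2) ≤ 0 := by
      apply mul_nonpos_of_nonneg_of_nonpos <;> linarith
    have : 0 < d * q := by
      apply mul_pos <;> linarith
    linarith
  have hheart : t * (s * j - d ^ 2) ≤ d ^ 2 * (s - 4) + 2 * d + d * j := by
    have e : t * (s * j - d ^ 2) = (s * t - d) * j + d * j - d ^ 2 * t := by ring
    have e' : d ^ 2 * (s + t - 4) = d ^ 2 * (s - 4) + d ^ 2 * t := by ring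
    linarith
  exact core d s t n j hd hs hst hn hn2 hj1 hu hheart

end Groth.Agent.S18055
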