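import Groth.Statements.S18057
import Groth.Agent.Lib.Helper3FSmStalk
import Groth.Agent.Lib.Helper19FSArtinLen
import Groth.Agent.S2315
import Mathlib

set_option autoImplicit false
universe u
open STCI

namespace Groth.Agent.S18057

open AlgebraicGeometry CategoryTheory

set_option linter.style.haveILetI false

theorem map_genericPoint {X' X : Scheme.{u}} (f : X' ⟶ X)
    [IrreducibleSpace ↥X'] [IrreducibleSpace ↥X] [Flat f] :
    f (genericPoint X') = genericPoint X := by
  have h1 : genericPoint X ⤳ f (genericPoint X') :=
    (genericPoint_spec X).specializes (Set.mem_univ _)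
  obtain ⟨x', hx', hfx'⟩ := (Flat.generalizingMap f) h1
  have h2 : genericPoint X' ⤳ x' := (genericPoint_spec X').specializes (Set.mem_univ _)
  have : x' = genericPoint X' := (hx'.antisymm h2).eq
  rw [← hfx', this]

theorem length_stalk_congr {X : Scheme.{u}} (y η : X) (h : y = η) :
    Module.length (X.presheaf.stalk y) (X.presheaf.stalk y) =
      Module.length (X.presheaf.stalk η) (X.presheaf.stalk η) := by
  subst h; rfl

theorem isArtinianRing_stalk_congr {X : Scheme.{u}} (y η : X) (h : y = η)
    (hA : IsArtinianRing (X.presheaf.stalk η)) : IsArtinianRing (X.presheaf.stalk y) := by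
  subst h; exact hA

open AlgebraicGeometry CategoryTheory in

open AlgebraicGeometry CategoryTheory in
/-- For a morphism f : X' → X between irreducible Noetherian schemes that is flat and formally smooth,
with X defined over a field (rendered: the ring of global sections of X contains a subring that is a
field, which for nonempty X is the same as giving a morphism from X to the spectrum of a field), the
local rings of X' and X at their generic points η', η (Artinian local rings) satisfy length
O_{X',η'} = length O_{X,η}. Formal smoothness is the infinitesimal lifting property against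
square-zero thickenings of affine schemes. -/
theorem result {X' X : Scheme.{u}} (f : X' ⟶ X)
    [IrreducibleSpace ↥X'] [IrreducibleSpace ↥X] [IsNoetherian X'] [IsNoetherian X] [Flat f]
    (hf : MoreMor.IsFormallySmoothHom f) (hK : ∃ K : Subring Γ(X, ⊤), IsField K) :
    Module.length (X'.presheaf.stalk (genericPoint X')) (X'.presheaf.stalk (genericPoint X'))
      = Module.length (X.presheaf.stalk (genericPoint X)) (X.presheaf.stalk (genericPoint X)) := by
  have hη := map_genericPoint f
  rw [← length_stalk_congr _ _ hη]
  haveI : IsArtinianRing (X'.presheaf.stalk (genericPoint X')) :=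
    (Groth.Agent.S2315.result X').2 inferInstance
  haveI : IsArtinianRing (X.presheaf.stalk (f (genericPoint X'))) :=
    isArtinianRing_stalk_congr _ _ hη ((Groth.Agent.S2315.result X).2 inferInstance)
  have hfl : (f.stalkMap (genericPoint X')).hom.Flat := Flat.stalkMap f (genericPoint X')
  have hfs := Groth.Agent.Lib.Helper3.FSmStalk.formallySmooth_stalkMap f hf (genericPoint X')
  algebraize [(f.stalkMap (genericPoint X')).hom]
  exact (Groth.Agent.Lib.Helper19.FSArtin.length_eq_of_flat_formallySmooth
    (X.presheaf.stalk (f (genericPoint X'))) (X'.presheaf.stalk (genericPoint X'))).symm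

end Groth.Agent.S18057
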