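import Groth.Statements.S1806
import Groth.Agent.S11626
import Groth.Agent.S11618
import Groth.Agent.Lib.Helper8LocLES2

set_option autoImplicit false
universe u
open CategoryTheory
open LocCoh

namespace Groth.Agent.S1806

open Groth.Agent.Lib.Helper8 Groth.Agent.Lib.Helper8.LC Groth.Agent.Lib.Helper8.MV
  Groth.Agent.Lib.Helper8.LocLES

section

variable {A : Type u} [CommRing A] [IsNoetherianRing A]

/-- If the local cohomology at a minimal prime `p` over `a` vanishes, every class of `H^i_a(M)` is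
killed by an element outside `p`. -/
theorem exists_smul_eq_zero (a : Ideal A) (M : Type u) [AddCommGroup M] [Module A M] (i : ℕ)
    (p : Ideal A) (hp : p ∈ a.minimalPrimes) [hpp : p.IsPrime]
    (hvan : Subsingleton (LocCoh.H (IsLocalRing.maximalIdeal (Localization.AtPrime p)) i
      (LocalizedModule p.primeCompl M)))
    (x : LocCoh.H a i M) : ∃ s : A, s ∉ p ∧ s • x = 0 := by
  have h1 : Subsingleton (LocCoh.H (Ideal.map (algebraMap A (Localization.AtPrime p)) a) i
      (LocalizedModule p.primeCompl M)) :=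
    Acyc.subsingleton_of_radical_eq (Groth.Agent.S11626.radical_map_eq a p hp) i _ hvan
  obtain ⟨e⟩ := Groth.Agent.S11618.result A a p.primeCompl M i
  have h2 : Subsingleton (LocalizedModule p.primeCompl (LocCoh.H a i M)) :=
    e.toEquiv.subsingleton
  have h3 : LocalizedModule.mk x (1 : p.primeCompl) = LocalizedModule.mk 0 (1 : p.primeCompl) :=
    Subsingleton.elim _ _
  rw [LocalizedModule.mk_eq] at h3
  obtain ⟨u, hu⟩ := h3
  refine ⟨u.1, u.2, ?_⟩
  rw [one_smul, one_smul, smul_zero] at hu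
  exact hu

/-- Key vanishing: if the local cohomology at every prime containing `a` but not `b` vanishes,
every class in `H^i_a(M)` is `b`-power torsion. -/
theorem key (b : A) (M : Type u) [AddCommGroup M] [Module A M] (i : ℕ) :
    ∀ a : Ideal A, (∀ p : PrimeSpectrum A, a ≤ p.asIdeal → b ∉ p.asIdeal →
      Subsingleton (LocCoh.H (IsLocalRing.maximalIdeal (Localization.AtPrime p.asIdeal)) i
        (LocalizedModule p.asIdeal.primeCompl M))) →
      ∀ x : LocCoh.H a i M, ∃ n : ℕ, b ^ n • x = 0 := by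
  have step : ∀ a : Ideal A, (∀ a' : Ideal A, a < a' →
      (∀ p : PrimeSpectrum A, a' ≤ p.asIdeal → b ∉ p.asIdeal →
        Subsingleton (LocCoh.H (IsLocalRing.maximalIdeal (Localization.AtPrime p.asIdeal)) i
          (LocalizedModule p.asIdeal.primeCompl M))) →
        ∀ x : LocCoh.H a' i M, ∃ n : ℕ, b ^ n • x = 0) →
      (∀ p : PrimeSpectrum A, a ≤ p.asIdeal → b ∉ p.asIdeal →
        Subsingleton (LocCoh.H (IsLocalRing.maximalIdeal (Localization.AtPrime p.asIdeal)) i
          (LocalizedModule p.asIdeal.primeCompl M))) →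
        ∀ x : LocCoh.H a i M, ∃ n : ℕ, b ^ n • x = 0 := by
    intro a ih hyp x
    by_cases hb : b ∈ a.radical
    · obtain ⟨m, hm⟩ := hb
      obtain ⟨k, hk⟩ := isPowerTorsion_H a i (ModuleCat.of A M) x
      refine ⟨m * k, ?_⟩
      rw [pow_mul]
      exact hk _ (Ideal.pow_mem_pow hm k)
    · rw [← Ideal.sInf_minimalPrimes, Submodule.mem_sInf] at hb
      push Not at hb
      obtain ⟨p', hp', hbp'⟩ := hb
      obtain ⟨p, hp, hbp⟩ : ∃ p : Ideal A, p ∈ a.minimalPrimes ∧ b ∉ p := ⟨p', hp', hbp'⟩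
      have hpp : p.IsPrime := hp.1.1
      obtain ⟨s, hs, hsx⟩ := exists_smul_eq_zero a M i p hp (hyp ⟨p, hpp⟩ hp.1.2 hbp) x
      have hlt : a < a ⊔ Ideal.span {s} := by
        refine lt_of_le_of_ne le_sup_left (fun heq => hs (hp.1.2 ?_))
        rw [heq]
        exact Ideal.mem_sup_right (Ideal.mem_span_singleton_self s)
      have hx : x ∈ LinearMap.range ((Dual2.HmapOfLE
          (le_sup_left : a ≤ a ⊔ Ideal.span {s}) i).app (ModuleCat.of A M)).hom := by
        rw [mem_range_p_iff]
        exact ⟨1, by rw [pow_one]; exact hsx⟩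
      obtain ⟨x', rfl⟩ := hx
      obtain ⟨n, hn⟩ := ih _ hlt (fun q hq hbq => hyp q (le_sup_left.trans hq) hbq) x'
      exact ⟨n, by rw [← map_smul, hn, map_zero]⟩
  intro a
  exact IsNoetherian.induction (P := fun a : Ideal A =>
    (∀ p : PrimeSpectrum A, a ≤ p.asIdeal → b ∉ p.asIdeal →
        Subsingleton (LocCoh.H (IsLocalRing.maximalIdeal (Localization.AtPrime p.asIdeal)) i
          (LocalizedModule p.asIdeal.primeCompl M))) →
        ∀ x : LocCoh.H a i M, ∃ n : ℕ, b ^ n • x = 0) step a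

/-- Vanishing of `H^i_a(M_b)` from the key lemma. -/
theorem H_loc_eq_zero (b : A) (M : Type u) [AddCommGroup M] [Module A M] (i : ℕ) (a : Ideal A)
    (hyp : ∀ p : PrimeSpectrum A, a ≤ p.asIdeal → b ∉ p.asIdeal →
      Subsingleton (LocCoh.H (IsLocalRing.maximalIdeal (Localization.AtPrime p.asIdeal)) i
        (LocalizedModule p.asIdeal.primeCompl M)))
    (y : (localCohomology a i).obj (ModuleCat.of A (LocalizedModule (Submonoid.powers b) M))) :
    y = 0 := by
  have hloc := isLocalizedModule_d b a i M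
  obtain ⟨⟨x, ⟨_, n, rfl⟩⟩, hx⟩ := hloc.surj y
  have hx0 : (localCohomology a i).map (ModuleCat.ofHom
      (LocalizedModule.mkLinearMap (Submonoid.powers b) M)) x = 0 := by
    rw [d_eq_zero_iff]
    exact key b M i a hyp x
  have h1 : b ^ n • y = 0 := by
    have h2 : b ^ n • y = ((localCohomology a i).map (ModuleCat.ofHom
      (LocalizedModule.mkLinearMap (Submonoid.powers b) M))).hom x := hx
    rw [h2]
    exact hx0
  apply (pow_smul_bijective_H_loc b a i M n).1
  show b ^ n • y = b ^ n • 0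
  rw [h1, smul_zero]

theorem surj_step (b : A) (M : Type u) [AddCommGroup M] [Module A M] (i : ℕ) (a : Ideal A)
    (hyp : ∀ p : PrimeSpectrum A, a ≤ p.asIdeal → b ∉ p.asIdeal →
      Subsingleton (LocCoh.H (IsLocalRing.maximalIdeal (Localization.AtPrime p.asIdeal)) i
        (LocalizedModule p.asIdeal.primeCompl M))) :
    Function.Surjective ((Dual2.HmapOfLE (le_sup_left : a ≤ a ⊔ Ideal.span {b}) i).app
      (ModuleCat.of A M)).hom := by
  intro x
  have := (mem_range_p_iff b a i M x).mpr (key b M i a hyp x)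
  exact this

theorem inj_step (b : A) (M : Type u) [AddCommGroup M] [Module A M] (i : ℕ) (a : Ideal A)
    (hyp : ∀ p : PrimeSpectrum A, a ≤ p.asIdeal → b ∉ p.asIdeal → ∀ j : ℕ, j + 1 = i →
      Subsingleton (LocCoh.H (IsLocalRing.maximalIdeal (Localization.AtPrime p.asIdeal)) j
        (LocalizedModule p.asIdeal.primeCompl M))) :
    Function.Injective ((Dual2.HmapOfLE (le_sup_left : a ≤ a ⊔ Ideal.span {b}) i).app
      (ModuleCat.of A M)).hom := by
  cases i with
  | zero => exact p_zero_injective b a (ModuleCat.of A M)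
  | succ j =>
    rw [← LinearMap.ker_eq_bot, eq_bot_iff]
    intro w hw
    obtain ⟨δ, -, hδ2⟩ := les_δ b a j (ModuleCat.of A M)
    obtain ⟨y, rfl⟩ := (hδ2 w).mp hw
    have hy : y = 0 := H_loc_eq_zero b M j a (fun p hp hbp => hyp p hp hbp j rfl) y
    rw [hy, map_zero]
    exact Submodule.zero_mem _

theorem surj_fg (M : Type u) [AddCommGroup M] [Module A M] (i : ℕ) (J : Ideal A) (hJ : J.FG) :
    ∀ a : Ideal A, (∀ p : PrimeSpectrum A, a ≤ p.asIdeal → ¬ (a ⊔ J ≤ p.asIdeal) →
      Subsingleton (LocCoh.H (IsLocalRing.maximalIdeal (Localization.AtPrime p.asIdeal)) i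
        (LocalizedModule p.asIdeal.primeCompl M))) →
      ∀ (a' : Ideal A) (hle : a ≤ a'), a' = a ⊔ J →
        Function.Surjective ((Dual2.HmapOfLE hle i).app (ModuleCat.of A M)).hom := by
  refine Submodule.fg_induction (motive := fun (J : Ideal A) _ => ∀ a : Ideal A,
    (∀ p : PrimeSpectrum A, a ≤ p.asIdeal → ¬ (a ⊔ J ≤ p.asIdeal) →
      Subsingleton (LocCoh.H (IsLocalRing.maximalIdeal (Localization.AtPrime p.asIdeal)) i
        (LocalizedModule p.asIdeal.primeCompl M))) →
      ∀ (a' : Ideal A) (hle : a ≤ a'), a' = a ⊔ J →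
        Function.Surjective ((Dual2.HmapOfLE hle i).app (ModuleCat.of A M)).hom) ?_ ?_ J hJ
  · intro b a hyp a' hle heq
    subst heq
    exact surj_step b M i a (fun p hp hbp => hyp p hp (fun hle' => hbp
      (hle' (Ideal.mem_sup_right (Ideal.mem_span_singleton_self b)))))
  · intro J₁ J₂ _ _ ih₁ ih₂ a hyp a' hle heq
    have h1 : a ≤ a ⊔ J₁ := le_sup_left
    have h2 : a ⊔ J₁ ≤ a' := by
      rw [heq, ← sup_assoc]
      exact le_sup_left
    intro x
    obtain ⟨y, hy⟩ := ih₁ a (fun p hp hn => hyp p hp (fun hle' => hn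
      ((sup_le_sup_left le_sup_left a).trans hle'))) (a ⊔ J₁) h1 rfl x
    obtain ⟨z, hz⟩ := ih₂ (a ⊔ J₁) (fun p hp hn => hyp p (le_sup_left.trans hp) (fun hle' => hn
      (by rw [sup_assoc]; exact hle'))) a' h2 (by rw [heq, sup_assoc]) y
    refine ⟨z, ?_⟩
    rw [← HmapOfLE_comp h1 h2, hz, hy]

theorem inj_fg (M : Type u) [AddCommGroup M] [Module A M] (i : ℕ) (J : Ideal A) (hJ : J.FG) :
    ∀ a : Ideal A, (∀ p : PrimeSpectrum A, a ≤ p.asIdeal → ¬ (a ⊔ J ≤ p.asIdeal) →
      ∀ j : ℕ, j + 1 = i →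
      Subsingleton (LocCoh.H (IsLocalRing.maximalIdeal (Localization.AtPrime p.asIdeal)) j
        (LocalizedModule p.asIdeal.primeCompl M))) →
      ∀ (a' : Ideal A) (hle : a ≤ a'), a' = a ⊔ J →
        Function.Injective ((Dual2.HmapOfLE hle i).app (ModuleCat.of A M)).hom := by
  refine Submodule.fg_induction (motive := fun (J : Ideal A) _ => ∀ a : Ideal A,
    (∀ p : PrimeSpectrum A, a ≤ p.asIdeal → ¬ (a ⊔ J ≤ p.asIdeal) → ∀ j : ℕ, j + 1 = i →
      Subsingleton (LocCoh.H (IsLocalRing.maximalIdeal (Localization.AtPrime p.asIdeal)) j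
        (LocalizedModule p.asIdeal.primeCompl M))) →
      ∀ (a' : Ideal A) (hle : a ≤ a'), a' = a ⊔ J →
        Function.Injective ((Dual2.HmapOfLE hle i).app (ModuleCat.of A M)).hom) ?_ ?_ J hJ
  · intro b a hyp a' hle heq
    subst heq
    exact inj_step b M i a (fun p hp hbp => hyp p hp (fun hle' => hbp
      (hle' (Ideal.mem_sup_right (Ideal.mem_span_singleton_self b)))))
  · intro J₁ J₂ _ _ ih₁ ih₂ a hyp a' hle heq
    have h1 : a ≤ a ⊔ J₁ := le_sup_left
    have h2 : a ⊔ J₁ ≤ a' := by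
      rw [heq, ← sup_assoc]
      exact le_sup_left
    have hi1 := ih₁ a (fun p hp hn => hyp p hp (fun hle' => hn
      ((sup_le_sup_left le_sup_left a).trans hle'))) (a ⊔ J₁) h1 rfl
    have hi2 := ih₂ (a ⊔ J₁) (fun p hp hn => hyp p (le_sup_left.trans hp) (fun hle' => hn
      (by rw [sup_assoc]; exact hle'))) a' h2 (by rw [heq, sup_assoc])
    intro x y hxy
    apply hi2
    apply hi1
    rw [HmapOfLE_comp h1 h2, HmapOfLE_comp h1 h2]
    exact hxy

end

/-- Let A be a Noetherian ring, I ⊆ I' ideals, M an A-module and i ≥ 0, and let Ψ : H^i_{I'}(M) →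
H^i_I(M) be the comparison map. (1) If the local cohomology H^i of M_p with support in the maximal
ideal of A_p vanishes for every prime p ⊇ I with p ⊉ I', then Ψ is surjective. (2) If the
corresponding H^{i−1} vanish (encoded as vanishing of H^j for every j with j + 1 = i, a vacuous
condition when i = 0), then Ψ is injective. Hence Ψ is bijective when both hold. -/
theorem result (A : Type u) [CommRing A] [IsNoetherianRing A] (I I' : Ideal A) (h : I ≤ I') (M : Type u) [AddCommGroup M] [Module A M] (i : ℕ) : ((∀ p : PrimeSpectrum A, I ≤ p.asIdeal → ¬ I' ≤ p.asIdeal → Subsingleton (LocCoh.H (IsLocalRing.maximalIdeal (Localization.AtPrime p.asIdeal)) i (LocalizedModule p.asIdeal.primeCompl M))) → Function.Surjective ((Dual2.HmapOfLE h i).app (ModuleCat.of A M)).hom) ∧ ((∀ p : PrimeSpectrum A, I ≤ p.asIdeal → ¬ I' ≤ p.asIdeal → ∀ j : ℕ, j + 1 = i → Subsingleton (LocCoh.H (IsLocalRing.maximalIdeal (Localization.AtPrime p.asIdeal)) j (LocalizedModule p.asIdeal.primeCompl M))) → Function.Injective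 ((Dual2.HmapOfLE h i).app (ModuleCat.of A M)).hom) := by
  have hI' : I' = I ⊔ I' := (sup_eq_right.mpr h).symm
  constructor
  · intro hyp
    exact surj_fg M i I' (IsNoetherian.noetherian I') I
      (fun p hp hn => hyp p hp (fun hle => hn (sup_le hp hle))) I' h hI'
  · intro hyp
    exact inj_fg M i I' (IsNoetherian.noetherian I') I
      (fun p hp hn => hyp p hp (fun hle => hn (sup_le hp hle))) I' h hI'

end Groth.Agent.S1806
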