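import Groth.Statements.S18063
import Mathlib

set_option autoImplicit false
universe u
open CategoryTheory MonoidalCategory CartesianMonoidalCategory MonObj GrpObj AlgebraicGeometry CategoryTheory.Limits
open AlgGrp

namespace Groth.Agent.S18063

/-- `Spec` of an injective ring map is scheme-theoretically dominant. -/
theorem isSchemeTheoreticallyDominant_specMap {R K : CommRingCat.{u}} (φ : R ⟶ K)
    (hφ : Function.Injective φ.hom) : IsSchemeTheoreticallyDominant (Spec.map φ) := by
  rw [isSchemeTheoreticallyDominant_iff]
  refine Scheme.IdealSheafData.ext_of_isAffine ?_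
  rw [(Spec.map φ).ker_apply ⟨⊤, isAffineOpen_top _⟩]
  simp only [Scheme.IdealSheafData.ideal_bot, Pi.bot_apply]
  rw [← RingHom.injective_iff_ker_eq_bot]
  have hnat := Scheme.ΓSpecIso_naturality φ
  have h1 : (Spec.map φ).appTop = (Scheme.ΓSpecIso R).hom ≫ φ ≫ (Scheme.ΓSpecIso K).inv := by
    rw [← Category.assoc, ← hnat, Category.assoc, Iso.hom_inv_id, Category.comp_id]
  show Function.Injective (Spec.map φ).appTop.hom
  rw [h1]
  simp only [CommRingCat.hom_comp, RingHom.coe_comp]
  exact ((ConcreteCategory.bijective_of_isIso (Scheme.ΓSpecIso K).inv).1.comp hφ).comp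
    (ConcreteCategory.bijective_of_isIso (Scheme.ΓSpecIso R).hom).1

/-- Morphisms to a separated `S`-scheme that agree after precomposition with a
scheme-theoretically dominant morphism are equal. -/
theorem over_ext_of_isSchemeTheoreticallyDominant {S : Scheme.{u}} {W V X : Over S}
    [IsSeparated X.hom] (u : W ⟶ V) [IsSchemeTheoreticallyDominant u.left] (g₁ g₂ : V ⟶ X)
    (h : u ≫ g₁ = u ≫ g₂) : g₁ = g₂ := by
  have hcl : IsClosedImmersion (equalizer.ι g₁ g₂).left := inferInstance
  have hfac : (equalizer.lift u h).left ≫ (equalizer.ι g₁ g₂).left = u.left := by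
    rw [← Over.comp_left, equalizer.lift_ι]
  have hker : (equalizer.ι g₁ g₂).left.ker = ⊥ := by
    rw [← le_bot_iff]
    have := Scheme.Hom.le_ker_comp (equalizer.lift u h).left (equalizer.ι g₁ g₂).left
    rw [hfac, Scheme.Hom.ker_eq_bot u.left] at this
    exact this
  have hiso : IsIso (equalizer.ι g₁ g₂).left := IsClosedImmersion.isIso_iff_ker_eq_bot.mpr hker
  ext1
  rw [← cancel_epi (equalizer.ι g₁ g₂).left]
  exact congr($(equalizer.condition g₁ g₂).left)


/-- A is a discrete valuation ring, K denotes its field of fractions and k its residue field, and G is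
an A-group scheme that is flat, separated and of finite presentation. If the generic fibre G_K is
commutative, then the special fibre G_k is commutative. (The published statement does not require G
separated over A, and its proof argues by density of the generic fibre; without separatedness the
conclusion fails: gluing copies of Spec A indexed by a finite non-abelian group along their common
generic point gives a flat group scheme of finite presentation over A whose generic fibre is the
trivial group and whose special fibre is that non-abelian constant group. So G is taken separated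
here.) -/
theorem result (A : Type u) [CommRing A] [IsDomain A] [IsDiscreteValuationRing A]
    (K : Type u) [Field K] [Algebra A K] [IsFractionRing A K]
    (G : Over (Spec (CommRingCat.of A))) [GrpObj G] [Flat G.hom] [LocallyOfFinitePresentation G.hom] [QuasiCompact G.hom]
    [IsSeparated G.hom] [IsCommMonObj (Red.bc (Spec.map (CommRingCat.ofHom (algebraMap A K))) G)] :
    IsCommMonObj (Red.bc (Spec.map (CommRingCat.ofHom (algebraMap A (IsLocalRing.ResidueField A)))) G) := by
  set jK : Spec (CommRingCat.of K) ⟶ Spec (CommRingCat.of A) :=
    Spec.map (CommRingCat.ofHom (algebraMap A K)) with hjKdef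
  have hjK : IsSchemeTheoreticallyDominant jK :=
    isSchemeTheoreticallyDominant_specMap _ (IsFractionRing.injective A K)
  have hcomm : IsCommMonObj G := by
    constructor
    have hK : (β_ (Red.bc jK G) (Red.bc jK G)).hom ≫ μ[Red.bc jK G] = μ[Red.bc jK G] :=
      IsCommMonObj.mul_comm _
    -- rewrite in terms of the base change functor
    have hK' : Functor.LaxMonoidal.μ (Over.pullback jK) G G ≫
        (Over.pullback jK).map ((β_ G G).hom ≫ μ[G]) =
        Functor.LaxMonoidal.μ (Over.pullback jK) G G ≫ (Over.pullback jK).map μ[G] := by
      rw [Functor.map_comp, Functor.LaxBraided.braided_assoc]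
      exact hK
    have hK'' : (Over.pullback jK).map ((β_ G G).hom ≫ μ[G]) = (Over.pullback jK).map μ[G] :=
      (cancel_epi _).mp hK'
    -- pass to underlying schemes
    have hleft : pullback.fst (G ⊗ G).hom jK ≫ ((β_ G G).hom ≫ μ[G]).left =
        pullback.fst (G ⊗ G).hom jK ≫ μ[G].left := by
      have h1 := congrArg (fun m => m.left ≫ pullback.fst G.hom jK) hK''
      simp only [Over.pullback, Over.homMk_left, pullback.lift_fst] at h1
      exact h1
    -- the generic fibre of `G ⊗ G` is scheme-theoretically dominant
    have hflat : Flat (G ⊗ G).hom := by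
      rw [Over.tensorObj_hom]
      infer_instance
    have hSTD : IsSchemeTheoreticallyDominant (pullback.fst (G ⊗ G).hom jK) := inferInstance
    let W : Over (Spec (CommRingCat.of A)) := Over.mk (pullback.fst (G ⊗ G).hom jK ≫ (G ⊗ G).hom)
    let u : W ⟶ G ⊗ G := Over.homMk (pullback.fst (G ⊗ G).hom jK) rfl
    have hu : IsSchemeTheoreticallyDominant u.left := hSTD
    apply over_ext_of_isSchemeTheoreticallyDominant u
    ext1
    exact hleft
  infer_instance

end Groth.Agent.S18063
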