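import Groth.Statements.S18069
import Mathlib
import Groth.Agent.Lib.Helper11RigidAnti

set_option autoImplicit false
universe u
open CategoryTheory MonoidalCategory CartesianMonoidalCategory MonObj GrpObj AlgebraicGeometry CategoryTheory.Limits
open AlgGrp

namespace Groth.Agent.S18069

open Groth.Agent.Lib.Helper11RigidAnti CategoryTheory.Limits in
/-- Künneth for two quasi-compact quasi-separated schemes over a field, one of them with only
constant global functions -/
lemma appTop_snd_bijective' {k : Type u} [Field k] (X T : Over (Spec (CommRingCat.of k)))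
    [QuasiCompact X.hom] [QuasiSeparated X.hom] [QuasiCompact T.hom] [QuasiSeparated T.hom]
    (hX : Function.Bijective ((Scheme.ΓSpecIso (CommRingCat.of k)).inv ≫ X.hom.appTop).hom) :
    Function.Bijective (snd X T).left.appTop.hom := by
  have H := isPullback_fst_snd X T
  have hcomp : CompactSpace X.left := QuasiCompact.compactSpace_of_compactSpace X.hom
  have hqs : QuasiSeparatedSpace X.left := quasiSeparatedSpace_of_quasiSeparated X.hom
  have hcompT : CompactSpace T.left := QuasiCompact.compactSpace_of_compactSpace T.hom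
  have hqsT : QuasiSeparatedSpace T.left := quasiSeparatedSpace_of_quasiSeparated T.hom
  have hflat : (X.hom.appLE ⊤ ⊤ le_top).hom.Flat := by
    let : Field Γ(Spec (CommRingCat.of k), ⊤) := isField_Γ_Spec.toField
    algebraize [(X.hom.appLE ⊤ ⊤ le_top).hom]
    exact (inferInstance : Module.Flat Γ(Spec (CommRingCat.of k), ⊤) Γ(X.left, ⊤))
  have hiso := isIso_pushoutSection_of_isCompact_of_flat_right_of_ringHomFlat H
    (US := ⊤) (UT := ⊤) (UX := ⊤) (UY := ⊤) le_top le_top (by simp) (isAffineOpen_top _)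
    isCompact_univ isQuasiSeparated_univ isCompact_univ isQuasiSeparated_univ hflat
  have hXiso : IsIso X.hom.appTop := by
    have h1 : IsIso ((Scheme.ΓSpecIso (CommRingCat.of k)).inv ≫ X.hom.appTop) :=
      (ConcreteCategory.isIso_iff_bijective _).mpr hX
    exact IsIso.of_isIso_comp_left (Scheme.ΓSpecIso (CommRingCat.of k)).inv _
  have hXiso' : IsIso (X.hom.appLE ⊤ ⊤ le_top) := by
    rw [appLE_top_top]; exact hXiso
  have hinr : IsIso (pushout.inr (X.hom.appLE ⊤ ⊤ le_top) (T.hom.appLE ⊤ ⊤ le_top)) :=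
    inferInstance
  have hcomp2 : pushout.inr (X.hom.appLE ⊤ ⊤ le_top) (T.hom.appLE ⊤ ⊤ le_top) ≫
      pushoutSection H (US := ⊤) (UT := ⊤) (UX := ⊤) (UY := ⊤) le_top le_top (by simp) =
      (snd X T).left.appTop := by
    rw [pushoutSection, pushout.inr_desc, appLE_top_top]
  have : IsIso (snd X T).left.appTop := by
    rw [← hcomp2]; infer_instance
  exact (ConcreteCategory.isIso_iff_bijective _).mp this


/-- Let k be a field and G₁, G₂ connected k-group schemes of finite type. Then G₁ × G₂ is anti-affine,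
i.e. O(G₁ × G₂) = k, if and only if G₁ and G₂ are both anti-affine. -/
theorem result (k : Type u) [Field k]
    (G₁ G₂ : Over (Spec (CommRingCat.of k))) [GrpObj G₁] [LocallyOfFiniteType G₁.hom] [QuasiCompact G₁.hom] [ConnectedSpace ↥G₁.left]
    [GrpObj G₂] [LocallyOfFiniteType G₂.hom] [QuasiCompact G₂.hom] [ConnectedSpace ↥G₂.left] :
    Function.Bijective ((Scheme.ΓSpecIso (CommRingCat.of k)).inv ≫ (G₁ ⊗ G₂).hom.appTop).hom ↔
      Function.Bijective ((Scheme.ΓSpecIso (CommRingCat.of k)).inv ≫ G₁.hom.appTop).hom ∧ Function.Bijective ((Scheme.ΓSpecIso (CommRingCat.of k)).inv ≫ G₂.hom.appTop).hom := by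
  have hn1 : IsLocallyNoetherian G₁.left := LocallyOfFiniteType.isLocallyNoetherian G₁.hom
  have hn2 : IsLocallyNoetherian G₂.left := LocallyOfFiniteType.isLocallyNoetherian G₂.hom
  -- general principle
  have key : ∀ {A B C : CommRingCat.{u}} (α : A ⟶ B) (β : B ⟶ C) (σ : C ⟶ B),
      β ≫ σ = 𝟙 B → Function.Bijective (α ≫ β).hom → Function.Bijective α.hom := by
    intro A B C α β σ hσ hαβ
    have hβinj : Function.Injective β.hom := by
      intro x y hxy
      have := congrArg σ.hom hxy
      rw [← CommRingCat.comp_apply, ← CommRingCat.comp_apply, hσ] at this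
      exact this
    refine ⟨?_, ?_⟩
    · intro x y hxy
      apply hαβ.1
      rw [CommRingCat.comp_apply, CommRingCat.comp_apply, hxy]
    · intro y
      obtain ⟨c, hc⟩ := hαβ.2 (β.hom y)
      refine ⟨c, hβinj ?_⟩
      rw [← hc, CommRingCat.comp_apply]
  constructor
  · intro h
    constructor
    · refine key ((Scheme.ΓSpecIso (CommRingCat.of k)).inv ≫ G₁.hom.appTop)
        (fst G₁ G₂).left.appTop (lift (𝟙 G₁) (toUnit G₁ ≫ η[G₂])).left.appTop ?_ ?_
      · rw [← Scheme.Hom.comp_appTop, ← Over.comp_left, lift_fst]; rfl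
      · rw [Category.assoc, ← Scheme.Hom.comp_appTop, Over.w]; exact h
    · refine key ((Scheme.ΓSpecIso (CommRingCat.of k)).inv ≫ G₂.hom.appTop)
        (snd G₁ G₂).left.appTop (lift (toUnit G₂ ≫ η[G₁]) (𝟙 G₂)).left.appTop ?_ ?_
      · rw [← Scheme.Hom.comp_appTop, ← Over.comp_left, lift_snd]; rfl
      · rw [Category.assoc, ← Scheme.Hom.comp_appTop, Over.w]; exact h
  · rintro ⟨h1, h2⟩
    have h3 := appTop_snd_bijective' G₁ G₂ h1
    have h4 : (Scheme.ΓSpecIso (CommRingCat.of k)).inv ≫ (G₁ ⊗ G₂).hom.appTop =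
        ((Scheme.ΓSpecIso (CommRingCat.of k)).inv ≫ G₂.hom.appTop) ≫ (snd G₁ G₂).left.appTop := by
      rw [Category.assoc, ← Scheme.Hom.comp_appTop, Over.w]
    rw [h4, CommRingCat.hom_comp, RingHom.coe_comp]
    exact h3.comp h2

end Groth.Agent.S18069
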