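import Groth.Statements.S18083
-- import your own Groth.Agent.* helpers here
import Mathlib
import Groth.Agent.Lib.Helper26RegInd

set_option autoImplicit false
universe u
open CategoryTheory MonoidalCategory CartesianMonoidalCategory MonObj GrpObj AlgebraicGeometry CategoryTheory.Limits
open AlgGrp

namespace Groth.Agent.S18083

open Groth.Agent.Lib.Helper26.DvrSpec Groth.Agent.Lib.Helper26.RegInd Groth.Agent.Lib.Helper26.BcTrans
open Groth.Agent.S5366 (ser ser_true_top ser_false)

lemma nilp_iff {S : Scheme.{u}} (H : Over S) [GrpObj H] :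
    AGF.IsNilpotentGrp H ↔ ∃ n, Ser H false n := by
  constructor
  · rintro ⟨n, hn⟩
    refine ⟨n, fun X => ?_⟩
    rw [ser_false, Subgroup.lowerCentralSeries_eq_bot_iff_upperCentralSeries_eq_top]
    exact hn X
  · rintro ⟨n, hn⟩
    refine ⟨n, fun X => ?_⟩
    rw [← Subgroup.lowerCentralSeries_eq_bot_iff_upperCentralSeries_eq_top, ← ser_false]
    exact hn X

lemma solv_iff {S : Scheme.{u}} (H : Over S) [GrpObj H] :
    Red.IsSolvableGrp H ↔ ∃ n, Ser H true n := by
  constructor
  · rintro ⟨n, hn⟩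
    refine ⟨n, fun X => ?_⟩
    rw [ser_true_top]
    exact hn X
  · rintro ⟨n, hn⟩
    refine ⟨n, fun X => ?_⟩
    rw [← ser_true_top]
    exact hn X

/-- A is a regular local ring, K denotes its field of fractions and k its residue field; G is a flat
separated A-group scheme of finite presentation, and d is a natural number. If G_K contains a
commutative (resp. nilpotent, resp. solvable) closed subgroup scheme of dimension d, then so does
G_k. (The published statement does not require G separated; its proof goes through the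
specialisation of commutativity, nilpotency and solvability over a discrete valuation ring by a
density argument that is valid for separated group schemes, so G is taken separated here.) -/
theorem result (A : Type u) [CommRing A] [IsDomain A] [IsRegularLocalRing A]
    (K : Type u) [Field K] [Algebra A K] [IsFractionRing A K]
    (G : Over (Spec (CommRingCat.of A))) [GrpObj G] [Flat G.hom] [LocallyOfFinitePresentation G.hom] [QuasiCompact G.hom]
    [IsSeparated G.hom] (d : ℕ) :
    ((∃ (H : Over (Spec (CommRingCat.of K))) (_ : GrpObj H) (i : H ⟶ Red.bc (Spec.map (CommRingCat.ofHom (algebraMap A K))) G),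
        IsMonHom i ∧ IsClosedImmersion i.left ∧ IsCommMonObj H ∧ topologicalKrullDim ↥H.left = (d : WithBot ℕ∞)) → ∃ (H : Over (Spec (CommRingCat.of (IsLocalRing.ResidueField A)))) (_ : GrpObj H) (i : H ⟶ Red.bc (Spec.map (CommRingCat.ofHom (algebraMap A (IsLocalRing.ResidueField A)))) G),
        IsMonHom i ∧ IsClosedImmersion i.left ∧ IsCommMonObj H ∧ topologicalKrullDim ↥H.left = (d : WithBot ℕ∞)) ∧
    ((∃ (H : Over (Spec (CommRingCat.of K))) (_ : GrpObj H) (i : H ⟶ Red.bc (Spec.map (CommRingCat.ofHom (algebraMap A K))) G),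
        IsMonHom i ∧ IsClosedImmersion i.left ∧ AGF.IsNilpotentGrp H ∧ topologicalKrullDim ↥H.left = (d : WithBot ℕ∞)) → ∃ (H : Over (Spec (CommRingCat.of (IsLocalRing.ResidueField A)))) (_ : GrpObj H) (i : H ⟶ Red.bc (Spec.map (CommRingCat.ofHom (algebraMap A (IsLocalRing.ResidueField A)))) G),
        IsMonHom i ∧ IsClosedImmersion i.left ∧ AGF.IsNilpotentGrp H ∧ topologicalKrullDim ↥H.left = (d : WithBot ℕ∞)) ∧
    ((∃ (H : Over (Spec (CommRingCat.of K))) (_ : GrpObj H) (i : H ⟶ Red.bc (Spec.map (CommRingCat.ofHom (algebraMap A K))) G),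
        IsMonHom i ∧ IsClosedImmersion i.left ∧ Red.IsSolvableGrp H ∧ topologicalKrullDim ↥H.left = (d : WithBot ℕ∞)) → ∃ (H : Over (Spec (CommRingCat.of (IsLocalRing.ResidueField A)))) (_ : GrpObj H) (i : H ⟶ Red.bc (Spec.map (CommRingCat.ofHom (algebraMap A (IsLocalRing.ResidueField A)))) G),
        IsMonHom i ∧ IsClosedImmersion i.left ∧ Red.IsSolvableGrp H ∧ topologicalKrullDim ↥H.left = (d : WithBot ℕ∞)) := by
  have key : ∀ (bb : Bool) (n : ℕ),
      (∃ (H : Over (Spec (CommRingCat.of K))) (_ : GrpObj H) (i : H ⟶ Red.bc (Spec.map (CommRingCat.ofHom (algebraMap A K))) G),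
        IsMonHom i ∧ IsClosedImmersion i.left ∧ Ser H bb n ∧ topologicalKrullDim ↥H.left = (d : WithBot ℕ∞)) →
      ∃ (H : Over (Spec (CommRingCat.of (IsLocalRing.ResidueField A)))) (_ : GrpObj H) (i : H ⟶ Red.bc (Spec.map (CommRingCat.ofHom (algebraMap A (IsLocalRing.ResidueField A)))) G),
        IsMonHom i ∧ IsClosedImmersion i.left ∧ Ser H bb n ∧ topologicalKrullDim ↥H.left = (d : WithBot ℕ∞) := by
    rintro bb n ⟨H, inst, i, h1, h2, hs, h3⟩
    obtain ⟨H', inst', i', h1', h2', hs', h3'⟩ := main (Kind.ser bb n) A K G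
      (fun _ _ _ => inferInstance) d ⟨H, inst, i, h1, h2, hs, h3⟩
    exact ⟨H', inst', i', h1', h2', hs', h3'⟩
  refine ⟨?_, ?_, ?_⟩
  · rintro ⟨H, inst, i, h1, h2, hc, h3⟩
    obtain ⟨H', inst', i', h1', h2', hs', h3'⟩ :=
      key false 1 ⟨H, inst, i, h1, h2, (isCommMonObj_iff_ser H).mp hc, h3⟩
    exact ⟨H', inst', i', h1', h2', (isCommMonObj_iff_ser H').mpr hs', h3'⟩
  · rintro ⟨H, inst, i, h1, h2, hc, h3⟩
    obtain ⟨n, hn⟩ := (nilp_iff H).mp hc
    obtain ⟨H', inst', i', h1', h2', hs', h3'⟩ := key false n ⟨H, inst, i, h1, h2, hn, h3⟩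
    exact ⟨H', inst', i', h1', h2', (nilp_iff H').mpr ⟨n, hs'⟩, h3'⟩
  · rintro ⟨H, inst, i, h1, h2, hc, h3⟩
    obtain ⟨n, hn⟩ := (solv_iff H).mp hc
    obtain ⟨H', inst', i', h1', h2', hs', h3'⟩ := key true n ⟨H, inst, i, h1, h2, hn, h3⟩
    exact ⟨H', inst', i', h1', h2', (solv_iff H').mpr ⟨n, hs'⟩, h3'⟩

end Groth.Agent.S18083
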