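import Groth.Statements.S18112
import Groth.Agent.Lib.Helper27IntValued

set_option autoImplicit false
universe u
open CategoryTheory CategoryTheory.Limits MonoidalCategory CartesianMonoidalCategory MonObj GrpObj AlgebraicGeometry
open AbVar

namespace Groth.Agent.S18112

open Polynomial in
/-- for `b` large, `g! q_j b^(2g) (1/b)^j` is an integer. -/
theorem step1 (g : ℕ) (u v : ℚ) (Q : ℚ[X]) (hQ : Q.natDegree ≤ g)
    (N : ℤ → ℕ → ℕ)
    (hpoly : ∀ (a : ℤ) (b : ℕ), 0 < b → u < (a : ℚ) / (b : ℚ) → (a : ℚ) / (b : ℚ) < v →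
      ((N a b : ℕ) : ℚ) / (b : ℚ) ^ (2 * g) = Q.eval ((a : ℚ) / (b : ℚ)))
    (j : ℕ) (b : ℕ) (hb : 0 < b) (hbig : (g : ℚ) + 2 < (b : ℚ) * (v - u)) :
    ∃ z : ℤ, (Nat.factorial g : ℚ) * ((b : ℚ) ^ (2 * g) * (Q.coeff j * (1 / (b : ℚ)) ^ j)) = z := by
  have hbq : (0 : ℚ) < b := by exact_mod_cast hb
  set R : ℚ[X] := C ((b : ℚ) ^ (2 * g)) * Q.comp (C (1 / (b : ℚ)) * X) with hR
  have hdeg : R.natDegree ≤ g := by
    refine le_trans (natDegree_C_mul_le _ _) ?_
    refine le_trans natDegree_comp_le ?_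
    have : (C (1 / (b : ℚ)) * X).natDegree ≤ 1 := by
      refine le_trans (natDegree_C_mul_le _ _) ?_
      exact natDegree_X_le
    calc Q.natDegree * (C (1 / (b : ℚ)) * X).natDegree ≤ Q.natDegree * 1 :=
          Nat.mul_le_mul_left _ this
      _ ≤ g := by omega
  set a₀ : ℤ := ⌊(b : ℚ) * u⌋ + 1 with ha₀
  have hval : ∀ i : ℕ, i ≤ g → ∃ z : ℤ, R.eval ((a₀ : ℚ) + i) = z := by
    intro i hi
    have h1 : (b : ℚ) * u < (a₀ : ℚ) := by
      rw [ha₀]; push_cast
      exact Int.lt_floor_add_one _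
    have h2 : (a₀ : ℚ) ≤ (b : ℚ) * u + 1 := by
      rw [ha₀]; push_cast
      linarith [Int.floor_le ((b : ℚ) * u)]
    have hiq : (i : ℚ) ≤ g := by exact_mod_cast hi
    have hi0 : (0 : ℚ) ≤ i := Nat.cast_nonneg i
    have hlow : u < ((a₀ + i : ℤ) : ℚ) / (b : ℚ) := by
      rw [lt_div_iff₀ hbq]; push_cast; linarith
    have hhigh : ((a₀ + i : ℤ) : ℚ) / (b : ℚ) < v := by
      rw [div_lt_iff₀ hbq]; push_cast; linarith
    have := hpoly (a₀ + i) b hb hlow hhigh
    refine ⟨(N (a₀ + i) b : ℤ), ?_⟩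
    rw [hR, eval_mul, eval_C, eval_comp, eval_mul, eval_C, eval_X]
    have e : 1 / (b : ℚ) * ((a₀ : ℚ) + i) = ((a₀ + i : ℤ) : ℚ) / (b : ℚ) := by
      push_cast; ring
    rw [e, ← this]
    have hb0 : ((b : ℚ) ^ (2 * g)) ≠ 0 := pow_ne_zero _ hbq.ne'
    field_simp
    push_cast
    ring
  obtain ⟨T, hT⟩ := Groth.Agent.Lib.Helper27.exists_int_poly_of_int_values g R hdeg a₀ hval
  refine ⟨T.coeff j, ?_⟩
  have := congrArg (fun p => p.coeff j) hT
  simp only [coeff_C_mul, coeff_map, eq_intCast, hR, comp_C_mul_X_coeff] at this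
  exact this

open Polynomial in
theorem arith_core (g : ℕ) (u v : ℚ) (huv : u < v) (Q : ℚ[X]) (hQ : Q.natDegree ≤ g)
    (N : ℤ → ℕ → ℕ)
    (hpoly : ∀ (a : ℤ) (b : ℕ), 0 < b → u < (a : ℚ) / (b : ℚ) → (a : ℚ) / (b : ℚ) < v →
      ((N a b : ℕ) : ℚ) / (b : ℚ) ^ (2 * g) = Q.eval ((a : ℚ) / (b : ℚ)))
    (j : ℕ) : ∃ z : ℤ, (Nat.factorial g : ℚ) * Q.coeff j = (z : ℚ) := by
  rcases Nat.lt_or_ge g j with hj | hj
  · refine ⟨0, ?_⟩
    rw [coeff_eq_zero_of_natDegree_lt (by omega)]
    simp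
  have hvu : 0 < v - u := by linarith
  set B : ℕ := ⌈((g : ℚ) + 2) / (v - u)⌉₊ + 1 with hB
  have hBbig : ∀ b : ℕ, B ≤ b → (g : ℚ) + 2 < (b : ℚ) * (v - u) := by
    intro b hb
    have h1 : ((g : ℚ) + 2) / (v - u) ≤ (⌈((g : ℚ) + 2) / (v - u)⌉₊ : ℚ) := Nat.le_ceil _
    have h2 : ((⌈((g : ℚ) + 2) / (v - u)⌉₊ : ℕ) : ℚ) + 1 ≤ (b : ℚ) := by
      have : ((B : ℕ) : ℚ) ≤ (b : ℚ) := by exact_mod_cast hb
      rw [hB] at this; push_cast at this; exact this
    have h3 : ((g : ℚ) + 2) / (v - u) < (b : ℚ) := by linarith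
    rwa [div_lt_iff₀ hvu] at h3
  have hB0 : 0 < B := by rw [hB]; omega
  obtain ⟨z₁, hz₁⟩ := step1 g u v Q hQ N hpoly j B hB0 (hBbig B le_rfl)
  obtain ⟨z₂, hz₂⟩ := step1 g u v Q hQ N hpoly j (B + 1) (by omega) (hBbig (B + 1) (by omega))
  -- rewrite b^(2g) (1/b)^j = b^(2g-j)
  have hpow : ∀ b : ℕ, 0 < b → (b : ℚ) ^ (2 * g) * (Q.coeff j * (1 / (b : ℚ)) ^ j)
      = Q.coeff j * (b : ℚ) ^ (2 * g - j) := by
    intro b hb
    have hbq : (b : ℚ) ≠ 0 := by exact_mod_cast hb.ne'
    have : 2 * g = (2 * g - j) + j := by omega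
    rw [this, pow_add, one_div, inv_pow]
    have : 2 * g - j + j - j = 2 * g - j := by omega
    rw [this]
    field_simp
  rw [hpow B hB0] at hz₁
  rw [hpow (B + 1) (by omega)] at hz₂
  have hcop : IsCoprime ((B : ℤ) ^ (2 * g - j)) (((B + 1 : ℕ) : ℤ) ^ (2 * g - j)) := by
    apply IsCoprime.pow
    rw [Int.isCoprime_iff_gcd_eq_one]
    simp
  obtain ⟨s, t, hst⟩ := hcop
  refine ⟨s * z₁ + t * z₂, ?_⟩
  have hstq : (s : ℚ) * (B : ℚ) ^ (2 * g - j) + (t : ℚ) * ((B + 1 : ℕ) : ℚ) ^ (2 * g - j) = 1 := by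
    exact_mod_cast hst
  push_cast
  rw [← hz₁, ← hz₂]
  have : (Nat.factorial g : ℚ) * Q.coeff j = (Nat.factorial g : ℚ) * Q.coeff j * 1 := by ring
  rw [this, ← hstq]
  push_cast
  ring

/-- Let k be an algebraically closed field of characteristic zero, A an abelian variety over k (a proper
smooth k-group scheme with geometrically connected fibres) of dimension g, (A^t, φ) a given dual
abelian variety of A for the fppf topology with A^t itself an abelian variety, and P an invertible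
module on A ×_k A^t whose class is a Poincaré class; for a k-point α of A^t write P_α for the
restriction of P to A × {α}. Let L be an ample invertible O_A-module with an inverse L' (L ⊗ L' ≅
O_A), negative powers of L meaning powers of L'. For a coherent O_A-module G write h^i_gen(G) for
the generic value of h^i(A, G ⊗ P_α), rendered as the minimum over all k-points α of A^t (the
generic value by semicontinuity), and for b ≥ 1 let b_A : A → A be multiplication by b. Let F be a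
coherent O_A-module and i ≥ 0, and consider the i-th cohomological rank function of F with respect
to L, the function on the rationals x = a/b (b ≥ 1) with value b^{-2g} · h^i_gen(b_A^* F ⊗ L^{ab}).
Suppose that on an open interval (u, v), u < v rational, this function agrees with a polynomial Q
with rational coefficients of degree at most g. Then every coefficient of Q lies in (1/g!)ℤ, i.e. g!
· Q has integer coefficients. (Stated for a coherent module; the source allows any object of the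
bounded derived category of coherent modules. The degree bound on Q, which the source takes from the
local polynomiality of rank functions, is made a hypothesis here.) -/
theorem result (k : Type u) [Field k] [IsAlgClosed k] [CharZero k]
    (A At : Over (Spec (CommRingCat.of k))) [GrpObj A] [IsProper A.hom] [Smooth A.hom] [GeometricallyConnected A.hom]
    [GrpObj At] [IsProper At.hom] [Smooth At.hom] [GeometricallyConnected At.hom]
    (φ : ∀ T : Over (Spec (CommRingCat.of k)), PicF.Cl (PicF.XT A.hom T) → (T ⟶ At))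
    (hφ : AbDual.IsDualAV Scheme.fppfPrecoverage A At φ)
    (P : (pullback A.hom At.hom).Modules) (hP : PicF.IsInvertible P)
    (hPξ : AbDual.IsPoincareCl A At φ (PicF.cl P))
    (g : ℕ) (hg : topologicalKrullDim ↥A.left = g)
    (L L' : A.left.Modules) (hL : CohB1.IsAmple L) (hLL' : Nonempty (CohB1.tensorMod L L' ≅ Coh.structureModule A.left))
    (F : A.left.Modules) (hF : Coh.IsCoh F) (i : ℕ) (u v : ℚ) (huv : u < v)
    (Q : Polynomial ℚ) (hQ : Q.natDegree ≤ g)
    (hpoly : ∀ (a : ℤ) (b : ℕ), 0 < b → u < (a : ℚ) / (b : ℚ) → (a : ℚ) / (b : ℚ) < v →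
      ((W4c5cohrankabvar.hgen k P (W4c5cohrankabvar.twist A F L L' b (a * b)) i : ℕ) : ℚ) / (b : ℚ) ^ (2 * g) =
        Q.eval ((a : ℚ) / (b : ℚ)))
    (j : ℕ) : ∃ z : ℤ, (Nat.factorial g : ℚ) * Q.coeff j = (z : ℚ) := by
  exact arith_core g u v huv Q hQ
    (fun a b => W4c5cohrankabvar.hgen k P (W4c5cohrankabvar.twist A F L L' b (a * b)) i) hpoly j

end Groth.Agent.S18112
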