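import Groth.Statements.S18121
import Mathlib
import Mathlib.Tactic

set_option autoImplicit false
universe u
open Pinch

namespace Groth.Agent.S18121

/-- Let B be a commutative ring, b an element of B, B' := B[z]/(z^2 - b) the rank-two B-algebra with z^2
= b, and Ψ : B[u, v] → B'[t] the B-algebra homomorphism with u ↦ z t and v ↦ t. Then the kernel of Ψ
is the principal ideal generated by u^2 - b v^2, and a polynomial of B'[t] lies in the image of Ψ as
soon as its constant coefficient lies in B. Equivalently, B[u, v]/(u^2 - b v^2) is the fibre product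
of B'[t] and B over B' (for t ↦ 0 and the inclusion of B): the pinching of Spec B' × 𝔸¹ along Spec
B' × {0} by the double cover Spec B' → Spec B is the hypersurface u^2 = b v^2 over B; for B = K[w]
and b = w this is the pinch point u^2 = v^2 w. -/
theorem result (B : Type u) [CommRing B] (b : B) :
    letI Ψ : MvPolynomial (Fin 2) B →ₐ[B] Polynomial (AdjoinRoot (Polynomial.X ^ 2 - Polynomial.C b)) :=
      MvPolynomial.aeval
        ![Polynomial.C (AdjoinRoot.root (Polynomial.X ^ 2 - Polynomial.C b)) * Polynomial.X, Polynomial.X]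
    RingHom.ker Ψ.toRingHom =
        Ideal.span {MvPolynomial.X 0 ^ 2 - MvPolynomial.C b * MvPolynomial.X 1 ^ 2} ∧
      ∀ G : Polynomial (AdjoinRoot (Polynomial.X ^ 2 - Polynomial.C b)),
        (∃ c : B, G.coeff 0 = algebraMap B (AdjoinRoot (Polynomial.X ^ 2 - Polynomial.C b)) c) →
          G ∈ Ψ.range := by
  classical
  rcases subsingleton_or_nontrivial B with hsub | hnt
  · constructor
    · exact Subsingleton.elim _ _
    · intro G _
      haveI : Subsingleton (Polynomial (AdjoinRoot (Polynomial.X ^ 2 - Polynomial.C b))) :=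
        Module.subsingleton B _
      have : G = 0 := Subsingleton.elim _ _
      rw [this]
      exact Subalgebra.zero_mem _
  set g : Polynomial B := Polynomial.X ^ 2 - Polynomial.C b with hgdef
  have hgm : g.Monic := Polynomial.monic_X_pow_sub_C b (by norm_num)
  have hgdeg : g.natDegree = 2 := Polynomial.natDegree_X_pow_sub_C
  have hg1 : g ≠ 1 := by
    intro h
    rw [h, Polynomial.natDegree_one] at hgdeg
    norm_num at hgdeg
  set z : AdjoinRoot g := AdjoinRoot.root g with hz
  set ι : B →+* AdjoinRoot g := algebraMap B (AdjoinRoot g) with hι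
  have hzz : z * z = ι b := by
    have h1 : AdjoinRoot.mk g (Polynomial.X ^ 2 - Polynomial.C b) = 0 := AdjoinRoot.mk_self
    rw [map_sub, map_pow, AdjoinRoot.mk_X, AdjoinRoot.mk_C, sub_eq_zero] at h1
    rw [← pow_two]
    exact h1
  have hindep : ∀ a c : B, ι a + ι c * z = 0 → a = 0 ∧ c = 0 := by
    intro a c h
    have h1 : AdjoinRoot.mk g (Polynomial.C c * Polynomial.X + Polynomial.C a) = 0 := by
      rw [map_add, map_mul, AdjoinRoot.mk_C, AdjoinRoot.mk_C, AdjoinRoot.mk_X, add_comm]
      exact h
    rw [AdjoinRoot.mk_eq_zero] at h1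
    have h2 : Polynomial.C c * Polynomial.X + Polynomial.C a = 0 := by
      by_contra h0
      refine hgm.not_dvd_of_natDegree_lt h0 ?_ h1
      rw [hgdeg]
      exact lt_of_le_of_lt Polynomial.natDegree_linear_le (by norm_num)
    constructor
    · have h3 := congrArg (fun p => Polynomial.coeff p 0) h2
      simpa using h3
    · have h3 := congrArg (fun p => Polynomial.coeff p 1) h2
      simpa using h3
  have hspan : ∀ β : AdjoinRoot g, ∃ a c : B, β = ι a + ι c * z := by
    intro β
    obtain ⟨p, rfl⟩ := AdjoinRoot.mk_surjective β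
    have h1 : AdjoinRoot.mk g p = AdjoinRoot.mk g (p %ₘ g) := by
      rw [AdjoinRoot.mk_eq_mk]
      refine ⟨p /ₘ g, ?_⟩
      have h2 := Polynomial.modByMonic_add_div p g
      rw [sub_eq_iff_eq_add, add_comm]
      exact h2.symm
    have h2 : (p %ₘ g).natDegree ≤ 1 := by
      have h3 := Polynomial.natDegree_modByMonic_lt p hgm hg1
      omega
    obtain ⟨c, a, h3⟩ := Polynomial.exists_eq_X_add_C_of_natDegree_le_one h2
    refine ⟨a, c, ?_⟩
    rw [h1, h3, map_add, map_mul, AdjoinRoot.mk_C, AdjoinRoot.mk_C, AdjoinRoot.mk_X, add_comm]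
    rfl
  set gg : MvPolynomial (Fin 2) B :=
    MvPolynomial.X 0 ^ 2 - MvPolynomial.C b * MvPolynomial.X 1 ^ 2 with hgg
  set Ψ : MvPolynomial (Fin 2) B →ₐ[B] Polynomial (AdjoinRoot g) :=
    MvPolynomial.aeval ![Polynomial.C z * Polynomial.X, Polynomial.X] with hΨ
  have hΨ0 : Ψ (MvPolynomial.X 0) = Polynomial.C z * Polynomial.X := by
    rw [hΨ, MvPolynomial.aeval_X]; rfl
  have hΨ1 : Ψ (MvPolynomial.X 1) = Polynomial.X := by
    rw [hΨ, MvPolynomial.aeval_X]; rfl
  have hΨC : ∀ a : B, Ψ (MvPolynomial.C a) = Polynomial.C (ι a) := by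
    intro a
    rw [← MvPolynomial.algebraMap_eq, AlgHom.commutes]
    rfl
  have hΨgg : Ψ gg = 0 := by
    rw [hgg, map_sub, map_pow, map_mul, map_pow, hΨ0, hΨ1, hΨC, mul_pow, ← map_pow, pow_two z,
      hzz, sub_self]
  have hΨv : ∀ P : Polynomial B, Ψ (Polynomial.aeval (MvPolynomial.X 1) P) = P.map ι := by
    intro P
    induction P using Polynomial.induction_on' with
    | add p q hp hq => rw [map_add, map_add, hp, hq, Polynomial.map_add]
    | monomial n a =>
      rw [Polynomial.aeval_monomial, map_mul, map_pow, hΨ1, Polynomial.map_monomial,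
        MvPolynomial.algebraMap_eq, hΨC, Polynomial.C_mul_X_pow_eq_monomial]
  have hnf : ∀ F : MvPolynomial (Fin 2) B, ∃ F₀ F₁ : Polynomial B,
      F - (Polynomial.aeval (MvPolynomial.X 1) F₀ +
        MvPolynomial.X 0 * Polynomial.aeval (MvPolynomial.X 1) F₁) ∈ Ideal.span {gg} := by
    intro F
    induction F using MvPolynomial.induction_on with
    | C a =>
      refine ⟨Polynomial.C a, 0, ?_⟩
      rw [Polynomial.aeval_C, map_zero, mul_zero, add_zero, MvPolynomial.algebraMap_eq, sub_self]
      exact Ideal.zero_mem _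
    | add p q hp hq =>
      obtain ⟨p0, p1, hp⟩ := hp
      obtain ⟨q0, q1, hq⟩ := hq
      refine ⟨p0 + q0, p1 + q1, ?_⟩
      have e : p + q - (Polynomial.aeval (MvPolynomial.X 1) (p0 + q0) +
          MvPolynomial.X 0 * Polynomial.aeval (MvPolynomial.X 1) (p1 + q1)) =
          (p - (Polynomial.aeval (MvPolynomial.X 1) p0 +
            MvPolynomial.X 0 * Polynomial.aeval (MvPolynomial.X 1) p1)) +
          (q - (Polynomial.aeval (MvPolynomial.X 1) q0 +
            MvPolynomial.X 0 * Polynomial.aeval (MvPolynomial.X 1) q1)) := by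
        rw [map_add, map_add]
        ring
      rw [e]
      exact Ideal.add_mem _ hp hq
    | mul_X p i hp =>
      obtain ⟨p0, p1, hp⟩ := hp
      have hi : i = 0 ∨ i = 1 := by
        revert i
        decide
      rcases hi with rfl | rfl
      · refine ⟨Polynomial.C b * Polynomial.X ^ 2 * p1, p0, ?_⟩
        have e : p * MvPolynomial.X 0 - (Polynomial.aeval (MvPolynomial.X 1)
              (Polynomial.C b * Polynomial.X ^ 2 * p1) +
            MvPolynomial.X 0 * Polynomial.aeval (MvPolynomial.X 1) p0) =
            (p - (Polynomial.aeval (MvPolynomial.X 1) p0 +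
              MvPolynomial.X 0 * Polynomial.aeval (MvPolynomial.X 1) p1)) * MvPolynomial.X 0 +
            Polynomial.aeval (MvPolynomial.X 1) p1 * gg := by
          rw [map_mul, map_mul, map_pow, Polynomial.aeval_C, Polynomial.aeval_X,
            MvPolynomial.algebraMap_eq, hgg]
          ring
        rw [e]
        exact Ideal.add_mem _ (Ideal.mul_mem_right _ _ hp)
          (Ideal.mul_mem_left _ _ (Ideal.subset_span rfl))
      · refine ⟨Polynomial.X * p0, Polynomial.X * p1, ?_⟩
        have e : p * MvPolynomial.X 1 - (Polynomial.aeval (MvPolynomial.X 1) (Polynomial.X * p0) +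
            MvPolynomial.X 0 * Polynomial.aeval (MvPolynomial.X 1) (Polynomial.X * p1)) =
            (p - (Polynomial.aeval (MvPolynomial.X 1) p0 +
              MvPolynomial.X 0 * Polynomial.aeval (MvPolynomial.X 1) p1)) * MvPolynomial.X 1 := by
          rw [map_mul, map_mul, Polynomial.aeval_X]
          ring
        rw [e]
        exact Ideal.mul_mem_right _ _ hp
  constructor
  · apply le_antisymm
    · intro F hF
      rw [RingHom.mem_ker] at hF
      have hF' : Ψ F = 0 := hF
      obtain ⟨F₀, F₁, hmem⟩ := hnf F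
      have hker : Ψ (F - (Polynomial.aeval (MvPolynomial.X 1) F₀ +
          MvPolynomial.X 0 * Polynomial.aeval (MvPolynomial.X 1) F₁)) = 0 := by
        obtain ⟨q, hq⟩ := Ideal.mem_span_singleton'.mp hmem
        rw [← hq, map_mul, hΨgg, mul_zero]
      rw [map_sub, hF', zero_sub, neg_eq_zero, map_add, map_mul, hΨv, hΨv, hΨ0] at hker
      have hcoef : ∀ n, F₀.coeff (n + 1) = 0 ∧ F₁.coeff n = 0 := by
        intro n
        have h1 := congrArg (fun P => Polynomial.coeff P (n + 1)) hker
        simp only [Polynomial.coeff_add, Polynomial.coeff_map, mul_assoc, Polynomial.coeff_C_mul,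
          Polynomial.coeff_X_mul, Polynomial.coeff_zero] at h1
        rw [mul_comm z] at h1
        exact hindep _ _ h1
      have hcoef0 : F₀.coeff 0 = 0 := by
        have h1 := congrArg (fun P => Polynomial.coeff P 0) hker
        simp only [Polynomial.coeff_add, Polynomial.coeff_map, mul_assoc, Polynomial.coeff_C_mul,
          Polynomial.coeff_X_mul_zero, Polynomial.coeff_zero, mul_zero, add_zero] at h1
        have h2 : ι (F₀.coeff 0) + ι 0 * z = 0 := by rw [map_zero, zero_mul, add_zero]; exact h1
        exact (hindep _ _ h2).1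
      have hF₀ : F₀ = 0 := by
        ext n
        rcases n with _ | n
        · simpa using hcoef0
        · simpa using (hcoef n).1
      have hF₁ : F₁ = 0 := by
        ext n
        simpa using (hcoef n).2
      rw [hF₀, hF₁, map_zero, mul_zero, add_zero, sub_zero] at hmem
      exact hmem
    · rw [Ideal.span_le, Set.singleton_subset_iff, SetLike.mem_coe, RingHom.mem_ker]
      exact hΨgg
  · rintro G ⟨c₀, hc₀⟩
    rw [G.as_sum_range]
    refine Subalgebra.sum_mem _ (fun n _ => ?_)
    rcases n with _ | m
    · rw [hc₀, Polynomial.monomial_zero_left]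
      exact ⟨MvPolynomial.C c₀, hΨC c₀⟩
    · obtain ⟨a, c, hac⟩ := hspan (G.coeff (m + 1))
      refine ⟨MvPolynomial.C a * MvPolynomial.X 1 ^ (m + 1) +
        MvPolynomial.C c * MvPolynomial.X 0 * MvPolynomial.X 1 ^ m, ?_⟩
      show Ψ _ = _
      rw [map_add, map_mul, map_mul, map_mul, map_pow, map_pow, hΨC, hΨC, hΨ0, hΨ1, hac,
        ← Polynomial.C_mul_X_pow_eq_monomial, map_add, map_mul, pow_succ]
      ring

end Groth.Agent.S18121
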