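import Groth.Statements.S18122
import Mathlib.Tactic
import Mathlib.Algebra.MvPolynomial.Derivation

set_option autoImplicit false
universe u
open Pinch

namespace Groth.Agent.S18122

open MvPolynomial

/-- substitute `X 0 ↦ 0`. -/
noncomputable def phi (K : Type u) [Field K] :
    MvPolynomial (Fin 2) K →ₐ[K] MvPolynomial (Fin 2) K :=
  MvPolynomial.aeval (fun i => if i = 0 then 0 else MvPolynomial.X i)

theorem sub_phi_mem (K : Type u) [Field K] (f : MvPolynomial (Fin 2) K) :
    f - phi K f ∈ Ideal.span {(X 0 : MvPolynomial (Fin 2) K)} := by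
  have h : (Ideal.Quotient.mk (Ideal.span {(X 0 : MvPolynomial (Fin 2) K)})).comp
      (phi K).toRingHom = Ideal.Quotient.mk (Ideal.span {(X 0 : MvPolynomial (Fin 2) K)}) := by
    apply MvPolynomial.ringHom_ext
    · intro a
      simp [phi]
    · intro i
      by_cases hi : i = 0
      · subst hi
        simp only [phi, RingHom.coe_comp, Function.comp_apply, AlgHom.toRingHom_eq_coe,
          RingHom.coe_coe, aeval_X, if_true, map_zero]
        symm
        rw [Ideal.Quotient.eq_zero_iff_mem]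
        exact Ideal.subset_span rfl
      · simp [phi, hi]
  rw [← Ideal.Quotient.eq_zero_iff_mem, map_sub, sub_eq_zero]
  have := congrArg (fun g => g f) h
  simpa using this.symm

theorem X0_dvd_of_mul (K : Type u) [Field K] (f g : MvPolynomial (Fin 2) K)
    (h : X 1 * f = X 0 * g) : ∃ e, f = X 0 * e := by
  have h1 := congrArg (phi K) h
  have hx : phi K (X 0) = 0 := by simp [phi]
  have hy : phi K (X 1) = X 1 := by simp [phi]
  rw [map_mul, map_mul, hx, hy, zero_mul] at h1
  have h2 : phi K f = 0 := by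
    rcases mul_eq_zero.mp h1 with h3 | h3
    · exact absurd h3 (X_ne_zero _)
    · exact h3
  have h3 := sub_phi_mem K f
  rw [h2, sub_zero, Ideal.mem_span_singleton'] at h3
  obtain ⟨e, he⟩ := h3
  exact ⟨e, by rw [← he, mul_comm]⟩

/-- Let K be a field in which 2 ≠ 0, S = K[x, y], and R ⊆ S the K-subalgebra generated by x^2, x y and
y; R is the coordinate ring of the pinch point u^2 = v^2 w (u = x y, v = y, w = x^2) and S is its
normalization. Then restriction along R ⊆ S is a bijection from the K-derivations S → S onto the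
K-derivations R → S: every K-derivation R → S extends uniquely to S. In sheaf terms, the natural
injective map from the tangent sheaf of the normalization to the dual of the pulled-back sheaf of
differentials of the pinch point is an isomorphism. (The text works over an algebraically closed
field of characteristic different from 2 and for every semi-smooth variety; only this model case is
stated, and the computation uses only 2 ≠ 0.) -/
theorem result
    (K : Type u) [Field K] [NeZero (2 : K)] :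
    letI R : Subalgebra K (MvPolynomial (Fin 2) K) :=
      Algebra.adjoin K {MvPolynomial.X 0 ^ 2, MvPolynomial.X 0 * MvPolynomial.X 1, MvPolynomial.X 1}
    ∀ δ : Derivation K R (MvPolynomial (Fin 2) K),
      ∃! D : Derivation K (MvPolynomial (Fin 2) K) (MvPolynomial (Fin 2) K),
        ∀ r : R, D (r : MvPolynomial (Fin 2) K) = δ r := by
  intro δ
  have m1 : (X 0 ^ 2 : MvPolynomial (Fin 2) K) ∈ Algebra.adjoin K
      ({X 0 ^ 2, X 0 * X 1, X 1} : Set (MvPolynomial (Fin 2) K)) :=
    Algebra.subset_adjoin (by simp)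
  have m2 : (X 0 * X 1 : MvPolynomial (Fin 2) K) ∈ Algebra.adjoin K
      ({X 0 ^ 2, X 0 * X 1, X 1} : Set (MvPolynomial (Fin 2) K)) :=
    Algebra.subset_adjoin (by simp)
  have m3 : (X 1 : MvPolynomial (Fin 2) K) ∈ Algebra.adjoin K
      ({X 0 ^ 2, X 0 * X 1, X 1} : Set (MvPolynomial (Fin 2) K)) :=
    Algebra.subset_adjoin (by simp)
  set A := δ ⟨_, m1⟩ with hA
  set Bv := δ ⟨_, m2⟩ with hBv
  set Cv := δ ⟨_, m3⟩ with hCv
  have h2 : (MvPolynomial.C (2⁻¹ : K) : MvPolynomial (Fin 2) K) * 2 = 1 := by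
    have : (2 : MvPolynomial (Fin 2) K) = MvPolynomial.C (2 : K) :=
      (map_ofNat MvPolynomial.C 2).symm
    rw [this, ← map_mul, inv_mul_cancel₀ (NeZero.ne (2 : K)), map_one]
  -- the relation (xy)^2 = x^2 y^2 in R
  have hrel : (⟨_, m2⟩ : Algebra.adjoin K
      ({X 0 ^ 2, X 0 * X 1, X 1} : Set (MvPolynomial (Fin 2) K))) * ⟨_, m2⟩
      = ⟨_, m1⟩ * (⟨_, m3⟩ * ⟨_, m3⟩) := by
    apply Subtype.ext
    simp only [MulMemClass.coe_mul]
    ring
  have hδ := congrArg δ hrel
  rw [Derivation.leibniz, Derivation.leibniz, Derivation.leibniz] at hδ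
  simp only [Subalgebra.smul_def, smul_eq_mul, MulMemClass.coe_mul] at hδ
  rw [← hA, ← hBv, ← hCv] at hδ
  -- hδ : x y Bv + x y Bv = x^2 (y Cv + y Cv) + y y A
  have hx0 : (X 0 : MvPolynomial (Fin 2) K) ≠ 0 := X_ne_zero _
  have hy0 : (X 1 : MvPolynomial (Fin 2) K) ≠ 0 := X_ne_zero _
  have h3 : X 1 * A = X 0 * (2 * Bv - 2 * X 0 * Cv) := by
    apply mul_left_cancel₀ hy0
    linear_combination (-1 : MvPolynomial (Fin 2) K) * hδ
  obtain ⟨e', he'⟩ := X0_dvd_of_mul K A _ h3
  set e := MvPolynomial.C (2⁻¹ : K) * e' with he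
  have hAe : A = 2 * X 0 * e := by
    rw [he', he]
    calc X 0 * e' = (C (2⁻¹ : K) * 2) * (X 0 * e') := by rw [h2, one_mul]
      _ = _ := by ring
  have hBe : Bv = X 1 * e + X 0 * Cv := by
    have h4 : X 0 * (2 * (X 1 * e)) = X 0 * (2 * Bv - 2 * X 0 * Cv) := by
      rw [← h3, hAe]; ring
    have h5 := mul_left_cancel₀ hx0 h4
    calc Bv = (C (2⁻¹ : K) * 2) * Bv := by rw [h2, one_mul]
      _ = C (2⁻¹ : K) * (2 * Bv - 2 * X 0 * Cv) + (C (2⁻¹ : K) * 2) * (X 0 * Cv) := by ring
      _ = C (2⁻¹ : K) * (2 * (X 1 * e)) + (C (2⁻¹ : K) * 2) * (X 0 * Cv) := by rw [← h5]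
      _ = (C (2⁻¹ : K) * 2) * (X 1 * e) + (C (2⁻¹ : K) * 2) * (X 0 * Cv) := by ring
      _ = _ := by rw [h2, one_mul, one_mul]
  -- the derivation
  set D : Derivation K (MvPolynomial (Fin 2) K) (MvPolynomial (Fin 2) K) :=
    mkDerivation K ![e, Cv] with hD
  have hD0 : D (X 0) = e := by rw [hD, mkDerivation_X]; rfl
  have hD1 : D (X 1) = Cv := by rw [hD, mkDerivation_X]; rfl
  have hl1 : D (X 0 ^ 2) = A := by
    rw [pow_two, Derivation.leibniz, hD0, hAe]
    simp only [smul_eq_mul]; ring
  have hl2 : D (X 0 * X 1) = Bv := by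
    rw [Derivation.leibniz, hD0, hD1, hBe]
    simp only [smul_eq_mul]; ring
  have hext : ∀ (x : MvPolynomial (Fin 2) K) (hx : x ∈ Algebra.adjoin K
      ({X 0 ^ 2, X 0 * X 1, X 1} : Set (MvPolynomial (Fin 2) K))), D x = δ ⟨x, hx⟩ := by
    intro x hx
    induction hx using Algebra.adjoin_induction with
    | mem x hx =>
      simp only [Set.mem_insert_iff, Set.mem_singleton_iff] at hx
      rcases hx with rfl | rfl | rfl
      · exact hl1
      · exact hl2
      · exact hD1
    | algebraMap r =>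
      rw [Derivation.map_algebraMap]
      have : (⟨algebraMap K (MvPolynomial (Fin 2) K) r, Subalgebra.algebraMap_mem _ r⟩ :
          Algebra.adjoin K ({X 0 ^ 2, X 0 * X 1, X 1} : Set (MvPolynomial (Fin 2) K)))
          = algebraMap K _ r := rfl
      rw [this, Derivation.map_algebraMap]
    | add x y hx hy ihx ihy =>
      rw [map_add, ihx, ihy, ← map_add]
      rfl
    | mul x y hx hy ihx ihy =>
      rw [Derivation.leibniz, ihx, ihy]
      have : (⟨x * y, mul_mem hx hy⟩ : Algebra.adjoin K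
          ({X 0 ^ 2, X 0 * X 1, X 1} : Set (MvPolynomial (Fin 2) K))) = ⟨x, hx⟩ * ⟨y, hy⟩ := rfl
      rw [this, Derivation.leibniz]
      simp only [Subalgebra.smul_def, smul_eq_mul]
  refine ⟨D, fun r => hext r.1 r.2, ?_⟩
  intro D' hD'
  apply MvPolynomial.derivation_ext
  intro i
  have h1' : D' (X 1) = D (X 1) := by
    rw [hD1, hCv]
    exact hD' ⟨_, m3⟩
  have h0' : D' (X 0) = D (X 0) := by
    have hsq : D' (X 0 ^ 2) = D (X 0 ^ 2) := by
      rw [hext _ m1]
      exact hD' ⟨_, m1⟩
    rw [pow_two, Derivation.leibniz, Derivation.leibniz] at hsq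
    simp only [smul_eq_mul] at hsq
    have h6 : X 0 * (2 * D' (X 0)) = X 0 * (2 * D (X 0)) := by
      linear_combination hsq
    have h7 := mul_left_cancel₀ hx0 h6
    calc D' (X 0) = (C (2⁻¹ : K) * 2) * D' (X 0) := by rw [h2, one_mul]
      _ = C (2⁻¹ : K) * (2 * D' (X 0)) := by ring
      _ = C (2⁻¹ : K) * (2 * D (X 0)) := by rw [h7]
      _ = (C (2⁻¹ : K) * 2) * D (X 0) := by ring
      _ = _ := by rw [h2, one_mul]
  fin_cases i
  · exact h0'
  · exact h1'

end Groth.Agent.S18122
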