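import Groth.Statements.S18123
import Mathlib
import Mathlib.Tactic

set_option autoImplicit false
universe u
open Pinch

namespace Groth.Agent.S18123

/-- Let K be a field in which 2 ≠ 0, S = K[x, y], and R ⊆ S the K-subalgebra generated by x^2, x y, y,
the coordinate ring of the pinch point with normalization S, obtained by gluing the plane along the
line y = 0 via x ↦ -x. A K-derivation D of S maps R into R if and only if D(y) is a multiple of y
and D(x) = y s + x p(x^2) for some s in S and some polynomial p in one variable. Every K-derivation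
R → S extends uniquely to S, and under this identification the derivations mapping R into R form the
image of the tangent sheaf of the pinch point in that of its normalization; so this image contains y
times all derivations of S, and modulo those it is spanned by the odd multiples x^(2k+1) ∂/∂x, the
part of the tangent sheaf of the line y = 0 invariant under x ↦ -x. (The text works over an
algebraically closed field of characteristic different from 2; the computation uses only 2 ≠ 0.) -/
theorem result
    (K : Type u) [Field K] [NeZero (2 : K)]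
    (D : Derivation K (MvPolynomial (Fin 2) K) (MvPolynomial (Fin 2) K)) :
    letI x : MvPolynomial (Fin 2) K := MvPolynomial.X 0
    letI y : MvPolynomial (Fin 2) K := MvPolynomial.X 1
    letI R : Subalgebra K (MvPolynomial (Fin 2) K) := Algebra.adjoin K {x ^ 2, x * y, y}
    (∀ r ∈ R, D r ∈ R) ↔
      (D y ∈ Ideal.span {y} ∧
        ∃ (s : MvPolynomial (Fin 2) K) (p : Polynomial K), D x = y * s + x * Polynomial.aeval (x ^ 2) p) := by
  classical
  set x : MvPolynomial (Fin 2) K := MvPolynomial.X 0 with hx
  set y : MvPolynomial (Fin 2) K := MvPolynomial.X 1 with hy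
  set R : Subalgebra K (MvPolynomial (Fin 2) K) := Algebra.adjoin K {x ^ 2, x * y, y} with hR
  have m1 : x ^ 2 ∈ R := Algebra.subset_adjoin (by simp)
  have m2 : x * y ∈ R := Algebra.subset_adjoin (by simp)
  have m3 : y ∈ R := Algebra.subset_adjoin (by simp)
  -- Lemma B'
  have hB : ∀ e : MvPolynomial (Fin 2) K, y * e ∈ R ∧ x * y * e ∈ R := by
    intro e
    induction e using MvPolynomial.induction_on with
    | C a =>
      constructor
      · rw [mul_comm, ← MvPolynomial.algebraMap_eq, ← Algebra.smul_def]
        exact R.smul_mem m3 a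
      · rw [mul_comm, ← MvPolynomial.algebraMap_eq, ← Algebra.smul_def]
        exact R.smul_mem m2 a
    | add p q hp hq =>
      constructor
      · rw [mul_add]
        exact R.add_mem hp.1 hq.1
      · rw [mul_add]
        exact R.add_mem hp.2 hq.2
    | mul_X p i hp =>
      have hi : i = 0 ∨ i = 1 := by
        revert i
        decide
      rcases hi with rfl | rfl
      · constructor
        · have e1 : y * (p * MvPolynomial.X 0) = x * y * p := by rw [hx]; ring
          rw [e1]
          exact hp.2
        · have e1 : x * y * (p * MvPolynomial.X 0) = x ^ 2 * (y * p) := by rw [hx]; ring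
          rw [e1]
          exact R.mul_mem m1 hp.1
      · constructor
        · have e1 : y * (p * MvPolynomial.X 1) = (y * p) * y := by rw [hy]; ring
          rw [e1]
          exact R.mul_mem hp.1 m3
        · have e1 : x * y * (p * MvPolynomial.X 1) = (x * y * p) * y := by rw [hy]; ring
          rw [e1]
          exact R.mul_mem hp.2 m3
  let ρ : MvPolynomial (Fin 2) K →ₐ[K] Polynomial K :=
    MvPolynomial.aeval (![Polynomial.X, 0] : Fin 2 → Polynomial K)
  let ι : Polynomial K →ₐ[K] MvPolynomial (Fin 2) K := Polynomial.aeval x
  have hρx : ρ x = Polynomial.X := by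
    show MvPolynomial.aeval _ (MvPolynomial.X 0) = _
    rw [MvPolynomial.aeval_X]; rfl
  have hρy : ρ y = 0 := by
    show MvPolynomial.aeval _ (MvPolynomial.X 1) = _
    rw [MvPolynomial.aeval_X]; rfl
  have hιX : ι Polynomial.X = x := Polynomial.aeval_X x
  have hsub : ∀ f : MvPolynomial (Fin 2) K, f - ι (ρ f) ∈ Ideal.span {y} := by
    intro f
    induction f using MvPolynomial.induction_on with
    | C a =>
      have e1 : ι (ρ (MvPolynomial.C a)) = MvPolynomial.C a := by
        rw [← MvPolynomial.algebraMap_eq, AlgHom.commutes, AlgHom.commutes]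
      rw [e1, sub_self]
      exact Ideal.zero_mem _
    | add p q hp hq =>
      have e1 : p + q - ι (ρ (p + q)) = (p - ι (ρ p)) + (q - ι (ρ q)) := by
        rw [map_add, map_add]; ring
      rw [e1]
      exact Ideal.add_mem _ hp hq
    | mul_X p i hp =>
      have hi : i = 0 ∨ i = 1 := by
        revert i
        decide
      rcases hi with rfl | rfl
      · have e1 : p * MvPolynomial.X 0 - ι (ρ (p * MvPolynomial.X 0)) = (p - ι (ρ p)) * x := by
          rw [map_mul, map_mul]
          show p * x - ι (ρ p) * ι (ρ x) = _
          rw [hρx, hιX]; ring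
        rw [e1]
        exact Ideal.mul_mem_right _ _ hp
      · have e1 : p * MvPolynomial.X 1 - ι (ρ (p * MvPolynomial.X 1)) = p * y := by
          rw [map_mul, map_mul]
          show p * y - ι (ρ p) * ι (ρ y) = _
          rw [hρy, map_zero, mul_zero, sub_zero]
        rw [e1]
        exact Ideal.mul_mem_left _ _ (Ideal.subset_span rfl)
  let E : Subalgebra K (Polynomial K) := (Polynomial.expand K 2).range
  have hE : ∀ q : Polynomial K, q ∈ E ↔ ∀ n, ¬ 2 ∣ n → q.coeff n = 0 := by
    intro q
    constructor
    · rintro ⟨p, rfl⟩ n hn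
      show (Polynomial.expand K 2 p).coeff n = 0
      rw [Polynomial.coeff_expand (by norm_num), if_neg hn]
    · intro h
      refine ⟨Polynomial.contract 2 q, ?_⟩
      show Polynomial.expand K 2 (Polynomial.contract 2 q) = q
      ext n
      rw [Polynomial.coeff_expand (by norm_num)]
      split_ifs with hd
      · rw [Polynomial.coeff_contract (by norm_num), Nat.div_mul_cancel hd]
      · exact (h n hd).symm
  have hRE : ∀ f ∈ R, ρ f ∈ E := by
    have hle : R ≤ E.comap ρ := by
      apply Algebra.adjoin_le
      intro f hf
      simp only [Set.mem_insert_iff, Set.mem_singleton_iff] at hf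
      rw [SetLike.mem_coe, Subalgebra.mem_comap]
      rcases hf with rfl | rfl | rfl
      · rw [map_pow, hρx]
        exact ⟨Polynomial.X, Polynomial.expand_X 2⟩
      · rw [map_mul, hρy, mul_zero]
        exact E.zero_mem
      · rw [hρy]
        exact E.zero_mem
    intro f hf
    exact hle hf
  -- Lemma C
  have hC1 : ∀ q : Polynomial K, Polynomial.X * q ∈ E → ∀ n, 2 ∣ n → q.coeff n = 0 := by
    intro q hq n hn
    have h1 := (hE _).mp hq (n + 1) (by omega)
    rwa [Polynomial.coeff_X_mul] at h1
  have h2K : (2 : K) ≠ 0 := NeZero.ne 2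
  constructor
  · intro hD
    have hDy := hRE _ (hD y m3)
    have hDxy := hRE _ (hD (x * y) m2)
    have hDx2 := hRE _ (hD (x ^ 2) m1)
    rw [Derivation.leibniz, map_add, smul_eq_mul, smul_eq_mul, map_mul, map_mul, hρx, hρy, zero_mul,
      add_zero] at hDxy
    have hρDy : ρ (D y) = 0 := by
      ext n
      rw [Polynomial.coeff_zero]
      by_cases hn : 2 ∣ n
      · exact hC1 _ hDxy n hn
      · exact (hE _).mp hDy n hn
    have hXDx : Polynomial.X * ρ (D x) ∈ E := by
      rw [pow_two, Derivation.leibniz, smul_eq_mul, ← two_mul, map_mul, map_mul, hρx] at hDx2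
      have h1 := E.smul_mem hDx2 (2⁻¹ : K)
      have h2 : (2⁻¹ : K) • (ρ 2 * (Polynomial.X * ρ (D x))) = Polynomial.X * ρ (D x) := by
        have h3 : ρ 2 = Polynomial.C (2 : K) := by
          rw [map_ofNat]
          exact (map_ofNat Polynomial.C 2).symm
        rw [h3, Algebra.smul_def, Polynomial.algebraMap_eq, ← mul_assoc, ← map_mul,
          inv_mul_cancel₀ h2K, map_one, one_mul]
      rwa [h2] at h1
    constructor
    · have h1 := hsub (D y)
      rwa [hρDy, map_zero, sub_zero] at h1
    · have h0 : (ρ (D x)).coeff 0 = 0 := hC1 _ hXDx 0 (dvd_zero 2)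
      obtain ⟨q', hq'⟩ := Polynomial.X_dvd_iff.mpr h0
      have hq'E : q' ∈ E := by
        rw [hE]
        intro n hn
        have h1 := hC1 _ hXDx (n + 1) (by omega)
        rwa [hq', Polynomial.coeff_X_mul] at h1
      obtain ⟨p, hp⟩ := hq'E
      have hp' : Polynomial.expand K 2 p = q' := hp
      obtain ⟨s, hs⟩ := Ideal.mem_span_singleton'.mp (hsub (D x))
      refine ⟨s, p, ?_⟩
      have h1 : ι (ρ (D x)) = x * Polynomial.aeval (x ^ 2) p := by
        rw [hq', ← hp', map_mul, hιX]
        show x * Polynomial.aeval x (Polynomial.expand K 2 p) = _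
        rw [Polynomial.expand_aeval]
      rw [← h1]
      have h2 : D x = (D x - ι (ρ (D x))) + ι (ρ (D x)) := by ring
      rw [← hs, mul_comm s y] at h2
      exact h2
  · rintro ⟨hDy, s, p, hDx⟩
    obtain ⟨e, he⟩ := Ideal.mem_span_singleton'.mp hDy
    have hP : Polynomial.aeval (x ^ 2) p ∈ R := by
      have h1 := Polynomial.aeval_subalgebra_coe p R ⟨x ^ 2, m1⟩
      rw [← h1]
      exact (Polynomial.aeval (⟨x ^ 2, m1⟩ : R) p).2
    intro r hr
    induction hr using Algebra.adjoin_induction with
    | mem f hf =>
      simp only [Set.mem_insert_iff, Set.mem_singleton_iff] at hf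
      rcases hf with rfl | rfl | rfl
      · rw [pow_two, Derivation.leibniz, smul_eq_mul, hDx]
        have e1 : x * (y * s + x * Polynomial.aeval (x ^ 2) p) =
            x * y * s + x ^ 2 * Polynomial.aeval (x ^ 2) p := by ring
        rw [e1]
        exact R.add_mem (R.add_mem (hB s).2 (R.mul_mem m1 hP)) (R.add_mem (hB s).2 (R.mul_mem m1 hP))
      · rw [Derivation.leibniz, smul_eq_mul, smul_eq_mul, ← he, hDx]
        have e1 : x * (e * y) + y * (y * s + x * Polynomial.aeval (x ^ 2) p) =
            x * y * e + y * (y * s + x * Polynomial.aeval (x ^ 2) p) := by ring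
        rw [e1]
        exact R.add_mem (hB e).2 (hB _).1
      · rw [← he, mul_comm]
        exact (hB e).1
    | algebraMap a =>
      rw [Derivation.map_algebraMap]
      exact R.zero_mem
    | add f g _ _ hf hg =>
      rw [map_add]
      exact R.add_mem hf hg
    | mul f g hf' hg' hf hg =>
      rw [Derivation.leibniz, smul_eq_mul, smul_eq_mul]
      exact R.add_mem (R.mul_mem hf' hg) (R.mul_mem hg' hf)

end Groth.Agent.S18123
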