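import Groth.Statements.S18125
import Mathlib.Tactic

set_option autoImplicit false
universe u
open Pinch

namespace Groth.Agent.S18125

open MvPolynomial in
/-- substitute `X 0 ↦ 0`. -/
noncomputable def phi (K : Type u) [Field K] (n : ℕ) :
    MvPolynomial (Fin (n + 3)) K →ₐ[K] MvPolynomial (Fin (n + 3)) K :=
  MvPolynomial.aeval (fun i => if i = 0 then 0 else MvPolynomial.X i)

open MvPolynomial in
theorem sub_phi_mem (K : Type u) [Field K] (n : ℕ) (f : MvPolynomial (Fin (n + 3)) K) :
    f - phi K n f ∈ Ideal.span {(X 0 : MvPolynomial (Fin (n + 3)) K)} := by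
  have h : (Ideal.Quotient.mk (Ideal.span {(X 0 : MvPolynomial (Fin (n + 3)) K)})).comp
      (phi K n).toRingHom = Ideal.Quotient.mk (Ideal.span {(X 0 : MvPolynomial (Fin (n + 3)) K)}) := by
    apply MvPolynomial.ringHom_ext
    · intro a
      simp [phi]
    · intro i
      by_cases hi : i = 0
      · subst hi
        simp only [phi, RingHom.coe_comp, Function.comp_apply, AlgHom.toRingHom_eq_coe,
          RingHom.coe_coe, aeval_X, if_true, map_zero]
        symm
        rw [Ideal.Quotient.eq_zero_iff_mem]
        exact Ideal.subset_span rfl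
      · simp [phi, hi]
  rw [← Ideal.Quotient.eq_zero_iff_mem, map_sub, sub_eq_zero]
  have := congrArg (fun g => g f) h
  simpa using this.symm

/-- Let K be a field in which 2 ≠ 0, n ≥ 0, S = K[u, v, w, t_1, …, t_n] (u, v, w the first three
variables), h = u^2 - v^2 w the equation of the pinch-point model, and Jac the ideal generated by h
and its three partial derivatives 2u, -2vw, -v^2, which cuts out the scheme-theoretic singular locus
of {h = 0}. Then the ideal (u, v) of the double locus is Jac + (v), and the colon ideal of Jac by
(v) is (u, v, w). Consequently (u, v)/Jac, the ideal of the double locus restricted to the singular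
locus, is an invertible sheaf on the pinch locus u = v = w = 0: it is free of rank one over K[t_1,
…, t_n] on the class of v. (The text states this for every semi-smooth variety and reduces to this
model; K algebraically closed is not needed for the model computation.) -/
theorem result
    (K : Type u) [Field K] [NeZero (2 : K)] (n : ℕ) :
    letI u : MvPolynomial (Fin (n + 3)) K := MvPolynomial.X 0
    letI v : MvPolynomial (Fin (n + 3)) K := MvPolynomial.X 1
    letI w : MvPolynomial (Fin (n + 3)) K := MvPolynomial.X 2
    letI Jac : Ideal (MvPolynomial (Fin (n + 3)) K) :=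
      Ideal.span {u ^ 2 - v ^ 2 * w, 2 * u, -(2 * v * w), -(v ^ 2)}
    Ideal.span {u, v} = Jac ⊔ Ideal.span {v} ∧ Jac.colon (Ideal.span {v}) = Ideal.span {u, v, w} := by
  set u : MvPolynomial (Fin (n + 3)) K := MvPolynomial.X 0 with hu_def
  set v : MvPolynomial (Fin (n + 3)) K := MvPolynomial.X 1 with hv_def
  set w : MvPolynomial (Fin (n + 3)) K := MvPolynomial.X 2 with hw_def
  set Jac : Ideal (MvPolynomial (Fin (n + 3)) K) :=
    Ideal.span {u ^ 2 - v ^ 2 * w, 2 * u, -(2 * v * w), -(v ^ 2)} with hJac_def
  have h2 : (MvPolynomial.C (2⁻¹ : K) : MvPolynomial (Fin (n + 3)) K) * 2 = 1 := by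
    have : (2 : MvPolynomial (Fin (n + 3)) K) = MvPolynomial.C (2 : K) :=
      (map_ofNat MvPolynomial.C 2).symm
    rw [this, ← map_mul, inv_mul_cancel₀ (NeZero.ne (2 : K)), map_one]
  have hJ1 : u ^ 2 - v ^ 2 * w ∈ Jac := Ideal.subset_span (by simp)
  have hJ2 : 2 * u ∈ Jac := Ideal.subset_span (by simp)
  have hJ3 : -(2 * v * w) ∈ Jac := Ideal.subset_span (by simp)
  have hJ4 : -(v ^ 2) ∈ Jac := Ideal.subset_span (by simp)
  have hu : u ∈ Jac := by
    have : u = MvPolynomial.C (2⁻¹ : K) * (2 * u) := by
      rw [← mul_assoc, h2, one_mul]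
    rw [this]
    exact Ideal.mul_mem_left _ _ hJ2
  have hvw : v * w ∈ Jac := by
    have : v * w = -(MvPolynomial.C (2⁻¹ : K)) * (-(2 * v * w)) := by
      have : -(MvPolynomial.C (2⁻¹ : K)) * (-(2 * v * w))
          = (MvPolynomial.C (2⁻¹ : K) * 2) * (v * w) := by ring
      rw [this, h2, one_mul]
    rw [this]
    exact Ideal.mul_mem_left _ _ hJ3
  have hvv : v ^ 2 ∈ Jac := by
    have : v ^ 2 = -(-(v ^ 2)) := by ring
    rw [this]
    exact Ideal.neg_mem_iff _ |>.mpr hJ4
  constructor
  · apply le_antisymm
    · rw [Ideal.span_le]
      intro x hx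
      rcases hx with rfl | rfl
      · exact Ideal.mem_sup_left hu
      · exact Ideal.mem_sup_right (Ideal.subset_span rfl)
    · apply sup_le
      · rw [Ideal.span_le]
        intro x hx
        simp only [Set.mem_insert_iff, Set.mem_singleton_iff] at hx
        rw [SetLike.mem_coe, Ideal.mem_span_pair]
        rcases hx with rfl | rfl | rfl | rfl
        · exact ⟨u, -(v * w), by ring⟩
        · exact ⟨2, 0, by ring⟩
        · exact ⟨0, -(2 * w), by ring⟩
        · exact ⟨0, -v, by ring⟩
      · apply Ideal.span_mono
        intro x hx
        simp only [Set.mem_singleton_iff] at hx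
        simp [hx]
  · ext f
    rw [Ideal.mem_colon_span_singleton]
    constructor
    · intro hf
      -- Jac is contained in the ideal generated by u, v w, v^2
      have hJle : Jac ≤ Ideal.span {u, v * w, v ^ 2} := by
        rw [Ideal.span_le]
        intro x hx
        simp only [Set.mem_insert_iff, Set.mem_singleton_iff] at hx
        rw [SetLike.mem_coe, Ideal.mem_span_insert]
        rcases hx with rfl | rfl | rfl | rfl
        · refine ⟨u, -(w * v ^ 2), ?_, by ring⟩
          exact Ideal.neg_mem_iff _ |>.mpr
            (Ideal.mul_mem_left _ _ (Ideal.subset_span (by simp)))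
        · exact ⟨2, 0, Ideal.zero_mem _, by ring⟩
        · refine ⟨0, -(2 * (v * w)), ?_, by ring⟩
          exact Ideal.neg_mem_iff _ |>.mpr
            (Ideal.mul_mem_left _ _ (Ideal.subset_span (by simp)))
        · refine ⟨0, -(v ^ 2), ?_, by ring⟩
          exact Ideal.neg_mem_iff _ |>.mpr (Ideal.subset_span (by simp))
      have hf' := hJle hf
      rw [Ideal.mem_span_insert] at hf'
      obtain ⟨a, z, hz, hfz⟩ := hf'
      rw [Ideal.mem_span_pair] at hz
      obtain ⟨b, c, rfl⟩ := hz
      have hphiu : phi K n u = 0 := by simp [phi, u]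
      have h10 : (1 : Fin (n + 3)) ≠ 0 := by
        intro h
        have := congrArg Fin.val h
        rw [Fin.val_one, Fin.val_zero] at this
        omega
      have h20 : (2 : Fin (n + 3)) ≠ 0 := by
        intro h
        have := congrArg Fin.val h
        rw [Fin.val_two, Fin.val_zero] at this
        omega
      have hphiv : phi K n v = v := by
        simp only [phi, v, MvPolynomial.aeval_X]
        rw [if_neg h10]
      have hphiw : phi K n w = w := by
        simp only [phi, w, MvPolynomial.aeval_X]
        rw [if_neg h20]
      have h3 := congrArg (phi K n) hfz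
      simp only [map_mul, map_add, map_pow, hphiu, hphiv, hphiw, mul_zero, zero_add] at h3
      have hv0 : v ≠ 0 := MvPolynomial.X_ne_zero _
      have h4 : phi K n f = phi K n b * w + phi K n c * v := by
        apply mul_right_cancel₀ hv0
        rw [h3]; ring
      obtain ⟨e, he⟩ := Ideal.mem_span_singleton'.mp (sub_phi_mem K n f)
      have h5 : f = e * u + (phi K n c * v + phi K n b * w) := by
        have : f = (f - phi K n f) + phi K n f := by ring
        rw [this, ← he, h4]; ring
      rw [h5]
      apply Ideal.add_mem
      · exact Ideal.mul_mem_left _ _ (Ideal.subset_span (by simp))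
      · apply Ideal.add_mem
        · exact Ideal.mul_mem_left _ _ (Ideal.subset_span (by simp))
        · exact Ideal.mul_mem_left _ _ (Ideal.subset_span (by simp))
    · intro hf
      have hle : Ideal.span {u, v, w} ≤ Jac.colon (Ideal.span {v}) := by
        rw [Ideal.span_le]
        intro x hx
        simp only [Set.mem_insert_iff, Set.mem_singleton_iff] at hx
        rw [SetLike.mem_coe, Ideal.mem_colon_span_singleton]
        rcases hx with rfl | rfl | rfl
        · exact Ideal.mul_mem_right _ _ hu
        · have : v * v = v ^ 2 := by ring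
          rw [this]; exact hvv
        · rw [mul_comm]; exact hvw
      have := hle hf
      rwa [Ideal.mem_colon_span_singleton] at this

end Groth.Agent.S18125
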