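import Groth.Statements.S18127
import Mathlib.Tactic
import Mathlib.LinearAlgebra.Matrix.Transvection

set_option autoImplicit false
universe u
open LocAlg

namespace Groth.Agent.S18127

open Matrix

/-- lifting a list of transvections along a surjective ring hom. -/
theorem exists_lift_transvec {R k : Type*} [CommRing R] [CommRing k] (f : R →+* k)
    (hf : Function.Surjective f) {n : ℕ} (L : List (TransvectionStruct (Fin n) k)) :
    ∃ P : Matrix (Fin n) (Fin n) R, P.det = 1 ∧
      P.map f = (L.map TransvectionStruct.toMatrix).prod := by
  induction L with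
  | nil =>
    refine ⟨1, det_one, ?_⟩
    simp
  | cons t L ih =>
    obtain ⟨P, hP1, hP2⟩ := ih
    obtain ⟨c, hc⟩ := hf t.c
    refine ⟨transvection t.i t.j c * P, ?_, ?_⟩
    · rw [det_mul, det_transvection_of_ne _ _ t.hij, hP1, one_mul]
    · rw [List.map_cons, List.prod_cons, ← hP2, Matrix.map_mul]
      congr 1
      ext a b
      simp only [TransvectionStruct.toMatrix, transvection, Matrix.map_apply, Matrix.add_apply,
        Matrix.one_apply, Matrix.single_apply, map_add]
      split_ifs <;> simp [hc]

/-- a matrix whose reduction is diagonal with many zero diagonal entries has determinant in a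
power of the ideal. -/
theorem det_mem_pow {R k : Type*} [CommRing R] [CommRing k] (f : R →+* k) {n : ℕ}
    (N : Matrix (Fin n) (Fin n) R) (D : Fin n → k) (hN : N.map f = diagonal D)
    (Z : Finset (Fin n)) (hZ : ∀ i ∈ Z, D i = 0) :
    N.det ∈ (RingHom.ker f) ^ Z.card := by
  rw [det_apply']
  apply Ideal.sum_mem
  intro σ _
  apply Ideal.mul_mem_left
  have hsplit : ∏ i, N (σ i) i = (∏ i ∈ Z, N (σ i) i) * ∏ i ∈ Zᶜ, N (σ i) i := by
    rw [Finset.prod_mul_prod_compl]
  rw [hsplit]
  apply Ideal.mul_mem_right
  have := Ideal.prod_mem_prod (s := Z) (I := fun _ => RingHom.ker f) (x := fun i => N (σ i) i) ?_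
  · simpa [Finset.prod_const] using this
  · intro i hi
    rw [RingHom.mem_ker]
    have h1 : (N.map f) (σ i) i = diagonal D (σ i) i := by rw [hN]
    rw [Matrix.map_apply] at h1
    rw [h1]
    by_cases h : σ i = i
    · rw [h, diagonal_apply_eq]; exact hZ i hi
    · exact diagonal_apply_ne _ h

/-- Let R be a local ring with maximal ideal m and algebraically closed residue field, and M an n × n
matrix over R whose reduction modulo m has rank at most r. Then the determinant of M lies in m^(n −
r). (The published setting is the local ring of germs of holomorphic functions at a point of a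
complex manifold, where this says that the determinant vanishes to order at least n − r at a point
where the matrix has rank at most r.) -/
theorem result
    {R : Type u} [CommRing R] [IsLocalRing R] [IsAlgClosed (IsLocalRing.ResidueField R)]
    {n : ℕ} (M : Matrix (Fin n) (Fin n) R) (r : ℕ)
    (hr : (M.map (IsLocalRing.residue R)).rank ≤ r) :
    M.det ∈ IsLocalRing.maximalIdeal R ^ (n - r) := by
  classical
  obtain ⟨L, L', D, hD⟩ := Matrix.Pivot.exists_list_transvec_mul_mul_list_transvec_eq_diagonal
    (M.map (IsLocalRing.residue R))
  obtain ⟨P, hP1, hP2⟩ := exists_lift_transvec (IsLocalRing.residue R)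
    IsLocalRing.residue_surjective L
  obtain ⟨Q, hQ1, hQ2⟩ := exists_lift_transvec (IsLocalRing.residue R)
    IsLocalRing.residue_surjective L'
  have hdet : (P * M * Q).det = M.det := by
    rw [det_mul, det_mul, hP1, hQ1, one_mul, mul_one]
  have hmap : (P * M * Q).map (IsLocalRing.residue R) = diagonal D := by
    rw [Matrix.map_mul, Matrix.map_mul, hP2, hQ2, hD]
  -- rank of the diagonal matrix
  have hrank : (diagonal D).rank = (M.map (IsLocalRing.residue R)).rank := by
    rw [← hD, rank_mul_eq_left_of_isUnit_det, rank_mul_eq_right_of_isUnit_det]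
    · rw [TransvectionStruct.det_toMatrix_prod]; exact isUnit_one
    · rw [TransvectionStruct.det_toMatrix_prod]; exact isUnit_one
  rw [rank_diagonal] at hrank
  set Z : Finset (Fin n) := Finset.univ.filter (fun i => D i = 0) with hZdef
  have hZcard : n - r ≤ Z.card := by
    have h1 : Fintype.card {i // D i ≠ 0} = (Finset.univ.filter (fun i => D i ≠ 0)).card := by
      rw [Fintype.card_subtype]
    have h2 : (Finset.univ.filter (fun i => D i ≠ 0)).card + Z.card = n := by
      have := Finset.card_filter_add_card_filter_not (s := (Finset.univ : Finset (Fin n)))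
        (fun i => D i ≠ 0)
      simp only [Finset.card_univ, Fintype.card_fin, not_not] at this
      exact this
    omega
  have key := det_mem_pow (IsLocalRing.residue R) (P * M * Q) D hmap Z (by
    intro i hi
    rw [hZdef, Finset.mem_filter] at hi
    exact hi.2)
  rw [hdet, IsLocalRing.ker_residue] at key
  exact Ideal.pow_le_pow_right hZcard key

end Groth.Agent.S18127
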