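import Groth.Statements.S18128
import Groth.Agent.Lib.Helper28BE2
-- import your own Groth.Agent.* helpers here

set_option autoImplicit false
universe u
open CAlg

namespace Groth.Agent.S18128

open Groth.Agent.Lib.Helper28 Groth.Agent.Lib.Helper28.BE

/-- Local step of Buchsbaum–Eisenbud: let R be a Noetherian local ring with maximal ideal m, and 0 →
R^(n_e) → ⋯ → R^(n_1) → R^(n_0) a complex of finite free modules, the map R^(n_(i+1)) → R^(n_i)
being given by the matrix A i, with 1 ≤ e and e at most the depth of R (there is an R-regular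
sequence of length e inside m). If for every prime ideal p ≠ m the complex of matrices over R_p
obtained by localization is exact at R_p^(n_e), …, R_p^(n_1), then the complex is exact at R^(n_e),
…, R^(n_1). -/
theorem result
    {R : Type u} [CommRing R] [IsLocalRing R] [IsNoetherianRing R]
    (e : ℕ) (he : 1 ≤ e) (n : ℕ → ℕ) (A : (i : ℕ) → Matrix (Fin (n i)) (Fin (n (i + 1))) R)
    (hA : ∀ i, i + 2 ≤ e → A i * A (i + 1) = 0)
    (rs : List R) (hlen : rs.length = e) (hmem : ∀ x ∈ rs, x ∈ IsLocalRing.maximalIdeal R)
    (hreg : RingTheory.Sequence.IsRegular R rs)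
    (hloc : ∀ (p : Ideal R) [p.IsPrime], p ≠ IsLocalRing.maximalIdeal R →
      LinearMap.ker ((A (e - 1)).map (algebraMap R (Localization.AtPrime p))).mulVecLin = ⊥ ∧
        ∀ i, i + 2 ≤ e →
          LinearMap.ker ((A i).map (algebraMap R (Localization.AtPrime p))).mulVecLin =
            LinearMap.range ((A (i + 1)).map (algebraMap R (Localization.AtPrime p))).mulVecLin) :
    LinearMap.ker (A (e - 1)).mulVecLin = ⊥ ∧
      ∀ i, i + 2 ≤ e → LinearMap.ker (A i).mulVecLin = LinearMap.range (A (i + 1)).mulVecLin := by
  apply exact_of_forall_ker_eq_Bsub he A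
  -- depth of free modules
  have hdepth : ((e : ℕ) : ℕ∞) ≤ LocCoh.idealDepth (IsLocalRing.maximalIdeal R) R := by
    rw [← hlen]
    exact length_le_idealDepth hreg.toIsWeaklyRegular hmem
  have hR : ∀ j, ExtVanish (IsLocalRing.maximalIdeal R) (Fin j → R) e := by
    intro j
    rw [← natCast_le_idealDepth_iff_extVanish]
    exact hdepth.trans (idealDepth_le_idealDepth_pi_fin _ R j)
  refine descend e A hA e le_rfl hR ?_ ?_
  · -- torsion of the homology
    intro k hk x hx
    apply exists_pow_smul_mem_of_forall_prime
    intro p _ hp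
    have hx' : (algebraMap R (Localization.AtPrime p)) ∘ x ∈
        LinearMap.ker ((A k).map (algebraMap R (Localization.AtPrime p))).mulVecLin := by
      rw [LinearMap.mem_ker, Matrix.mulVecLin_apply]
      funext i
      rw [← RingHom.map_mulVec]
      have : (A k).mulVec x = 0 := hx
      rw [this]
      simp
    by_cases hk' : k + 1 < e
    · rw [(hloc p hp).2 k (by omega)] at hx'
      obtain ⟨s, hs, hsx⟩ := exists_smul_mem_range_of_map p (A (k + 1)) x hx'
      exact ⟨s, hs, by rw [Bsub_of_lt A hk']; exact hsx⟩
    · obtain rfl : e = k + 1 := by omega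
      have h1 : LinearMap.ker ((A k).map (algebraMap R (Localization.AtPrime p))).mulVecLin = ⊥ :=
        (hloc p hp).1
      rw [h1, Submodule.mem_bot] at hx'
      obtain ⟨s, hs, hsx⟩ := exists_smul_eq_zero_of_map p x hx'
      exact ⟨s, hs, by rw [hsx]; exact Submodule.zero_mem _⟩
  · -- the top module
    rw [Bsub_of_not_lt A (lt_irrefl e)]
    exact extVanish_of_linearEquiv
      (Submodule.quotEquivOfEqBot (⊥ : Submodule R (Fin (n e) → R)) rfl).symm (hR (n e))

end Groth.Agent.S18128
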