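import Groth.Statements.S18136
import Mathlib.Tactic
import Mathlib.Data.Finset.Order

set_option autoImplicit false
universe u v
open IsLocalRing
open CAlg

namespace Groth.Agent.S18136

/-- linear independence in the cotangent space, in terms of elements. -/
theorem li_cotangent_iff {R : Type*} [CommRing R] [IsLocalRing R] {κ : Type*} [Fintype κ]
    (v : κ → maximalIdeal R) :
    LinearIndependent (ResidueField R) (⇑(maximalIdeal R).toCotangent ∘ v) ↔
      ∀ b : κ → R, (∑ x, b x * (v x : R)) ∈ maximalIdeal R ^ 2 → ∀ x, b x ∈ maximalIdeal R := by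
  have hsum : ∀ b : κ → R, ∑ x, (residue R (b x)) • ((maximalIdeal R).toCotangent (v x))
      = (maximalIdeal R).toCotangent (∑ x, b x • v x) := by
    intro b
    rw [map_sum]
    apply Finset.sum_congr rfl
    intro x _
    rw [map_smul]
    exact algebraMap_smul (ResidueField R) (b x) ((maximalIdeal R).toCotangent (v x))
  have hcoe : ∀ b : κ → R, ((∑ x, b x • v x : maximalIdeal R) : R) = ∑ x, b x * (v x : R) := by
    intro b
    rw [Submodule.coe_sum]
    apply Finset.sum_congr rfl
    intro x _
    rfl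
  rw [Fintype.linearIndependent_iff]
  constructor
  · intro h b hb x
    have h0 : ∑ x, (residue R (b x)) • ((maximalIdeal R).toCotangent (v x)) = 0 := by
      rw [hsum, Ideal.toCotangent_eq_zero, hcoe]
      exact hb
    have := h (fun x => residue R (b x)) h0 x
    rwa [residue_eq_zero_iff] at this
  · intro h c hc x
    choose b hb using fun x => residue_surjective (R := R) (c x)
    have h0 : (∑ x, b x * (v x : R)) ∈ maximalIdeal R ^ 2 := by
      rw [← hcoe, ← Ideal.toCotangent_eq_zero, ← hsum]
      simp only [hb]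
      exact hc
    have := h b h0 x
    rw [← hb x, residue_eq_zero_iff]
    exact this

/-- Let A be a regular local ring with maximal ideal m and residue field k, written as a directed
colimit of regular local rings A_j with local transition maps (compatible maps ψ_j : A_j → A that
are jointly surjective, an element dying in A dying at some later stage). Let f_1, …, f_c, g_1, …,
g_d ∈ m have linearly independent classes in m/m^2 over k, and put I = (f_1, …, f_c) ⊆ I' = (f_1, …,
f_c, g_1, …, g_d) (so I is generated by part of a regular system of parameters of A and I'/I by part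
of a regular system of parameters of A/I; for a regular local ring the condition on I ⊆ I' is stated
through such a joint family). Then there are an index j_0 and ideals I_j ⊆ I'_j ⊆ A_j for j ≥ j_0
such that: each I_j is generated by c elements and I'_j by these together with d further elements of
the maximal ideal m_j, the c + d classes in m_j/m_j^2 being linearly independent over the residue
field of A_j; the transition maps carry I_i, I'_i onto generators of I_j, I'_j for j_0 ≤ i ≤ j; and
I_j, I'_j generate I, I' in A. -/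
theorem result
    {A : Type u} [CommRing A] [IsRegularLocalRing A]
    {ι : Type v} [Preorder ι] [Nonempty ι] [IsDirected ι (· ≤ ·)]
    (B : ι → Type u) [∀ j, CommRing (B j)] [∀ j, IsRegularLocalRing (B j)]
    (φ : ∀ i j, i ≤ j → (B i →+* B j)) (hφloc : ∀ i j (h : i ≤ j), IsLocalHom (φ i j h))
    (hφ : ∀ i j l (hij : i ≤ j) (hjl : j ≤ l), (φ j l hjl).comp (φ i j hij) = φ i l (hij.trans hjl))
    (ψ : ∀ j, B j →+* A) (hψ : ∀ i j (h : i ≤ j), (ψ j).comp (φ i j h) = ψ i)
    (hsurj : ∀ a : A, ∃ j, ∃ x : B j, ψ j x = a)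
    (hker : ∀ j (x : B j), ψ j x = 0 → ∃ l, ∃ h : j ≤ l, φ j l h x = 0)
    (c d : ℕ) (f : Fin c → maximalIdeal A) (g : Fin d → maximalIdeal A)
    (hind : LinearIndependent (ResidueField A) (⇑(maximalIdeal A).toCotangent ∘ Sum.elim f g)) :
    ∃ j₀ : ι, ∃ (P : ∀ j, j₀ ≤ j → Ideal (B j)) (Q : ∀ j, j₀ ≤ j → Ideal (B j)),
      (∀ j (hj : j₀ ≤ j), ∃ (F : Fin c → maximalIdeal (B j)) (E : Fin d → maximalIdeal (B j)),
        LinearIndependent (ResidueField (B j)) (⇑(maximalIdeal (B j)).toCotangent ∘ Sum.elim F E) ∧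
        P j hj = Ideal.span (Set.range (fun s => (F s : B j))) ∧
        Q j hj = P j hj ⊔ Ideal.span (Set.range (fun t => (E t : B j)))) ∧
      (∀ i j (hi : j₀ ≤ i) (hij : i ≤ j),
        (P i hi).map (φ i j hij) = P j (le_trans hi hij) ∧ (Q i hi).map (φ i j hij) = Q j (le_trans hi hij)) ∧
      (∀ j (hj : j₀ ≤ j),
        (P j hj).map (ψ j) = Ideal.span (Set.range (fun s => (f s : A))) ∧
        (Q j hj).map (ψ j) = Ideal.span (Set.range (fun s => (f s : A))) ⊔ Ideal.span (Set.range (fun t => (g t : A)))) := by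
  classical
  -- compatibility in pointwise form
  have hψ' : ∀ i j (h : i ≤ j) (x : B i), ψ j (φ i j h x) = ψ i x := by
    intro i j h x
    exact RingHom.congr_fun (hψ i j h) x
  have hφ' : ∀ i j l (hij : i ≤ j) (hjl : j ≤ l) (x : B i),
      φ j l hjl (φ i j hij x) = φ i l (hij.trans hjl) x := by
    intro i j l hij hjl x
    exact RingHom.congr_fun (hφ i j l hij hjl) x
  -- each ψ j reflects units
  have hψloc : ∀ j (x : B j), IsUnit (ψ j x) → IsUnit x := by
    intro j x hx
    obtain ⟨a, ha⟩ := isUnit_iff_exists_inv.mp hx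
    obtain ⟨l, y, hy⟩ := hsurj a
    obtain ⟨l', hjl', hll'⟩ := exists_ge_ge j l
    have hz : ψ l' (φ j l' hjl' x * φ l l' hll' y - 1) = 0 := by
      rw [map_sub, map_mul, hψ', hψ', hy, ha, map_one, sub_self]
    obtain ⟨l'', hl'', hzero⟩ := hker l' _ hz
    rw [map_sub, map_mul, hφ', hφ', map_one, sub_eq_zero] at hzero
    have hu : IsUnit (φ j l'' (hjl'.trans hl'') x) := IsUnit.of_mul_eq_one _ hzero
    haveI := hφloc j l'' (hjl'.trans hl'')
    exact isUnit_of_map_unit (φ j l'' (hjl'.trans hl'')) x hu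
  have hψmem : ∀ j (x : B j), x ∈ maximalIdeal (B j) → ψ j x ∈ maximalIdeal A := by
    intro j x hx
    rw [mem_maximalIdeal, mem_nonunits_iff] at hx ⊢
    exact fun h => hx (hψloc j x h)
  have hψsq : ∀ j (x : B j), x ∈ maximalIdeal (B j) ^ 2 → ψ j x ∈ maximalIdeal A ^ 2 := by
    intro j x hx
    have h1 : ψ j x ∈ (maximalIdeal (B j) ^ 2).map (ψ j) := Ideal.mem_map_of_mem _ hx
    rw [Ideal.map_pow] at h1
    have h2 : (maximalIdeal (B j)).map (ψ j) ≤ maximalIdeal A := by
      rw [Ideal.map_le_iff_le_comap]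
      intro y hy
      exact hψmem j y hy
    exact Ideal.pow_right_mono h2 2 h1
  -- lifts of the f's and g's
  choose jf xf hxf using fun s => hsurj (f s : A)
  choose jg xg hxg using fun t => hsurj (g t : A)
  obtain ⟨j₀, hj₀⟩ := (Finset.univ.image jf ∪ Finset.univ.image jg).exists_le
  have hjf : ∀ s, jf s ≤ j₀ := fun s =>
    hj₀ _ (Finset.mem_union_left _ (Finset.mem_image_of_mem _ (Finset.mem_univ s)))
  have hjg : ∀ t, jg t ≤ j₀ := fun t =>
    hj₀ _ (Finset.mem_union_right _ (Finset.mem_image_of_mem _ (Finset.mem_univ t)))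
  set F₀ : Fin c → B j₀ := fun s => φ (jf s) j₀ (hjf s) (xf s) with hF₀
  set E₀ : Fin d → B j₀ := fun t => φ (jg t) j₀ (hjg t) (xg t) with hE₀
  have hF₀ψ : ∀ s, ψ j₀ (F₀ s) = f s := fun s => by rw [hF₀]; simp only; rw [hψ', hxf]
  have hE₀ψ : ∀ t, ψ j₀ (E₀ t) = g t := fun t => by rw [hE₀]; simp only; rw [hψ', hxg]
  refine ⟨j₀, fun j hj => Ideal.span (Set.range (fun s => φ j₀ j hj (F₀ s))),
    fun j hj => Ideal.span (Set.range (fun s => φ j₀ j hj (F₀ s))) ⊔
      Ideal.span (Set.range (fun t => φ j₀ j hj (E₀ t))), ?_, ?_, ?_⟩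
  · intro j hj
    have hFψ : ∀ s, ψ j (φ j₀ j hj (F₀ s)) = f s := fun s => by rw [hψ', hF₀ψ]
    have hEψ : ∀ t, ψ j (φ j₀ j hj (E₀ t)) = g t := fun t => by rw [hψ', hE₀ψ]
    have hFmem : ∀ s, φ j₀ j hj (F₀ s) ∈ maximalIdeal (B j) := by
      intro s
      rw [mem_maximalIdeal, mem_nonunits_iff]
      intro hu
      have h1 : IsUnit (ψ j (φ j₀ j hj (F₀ s))) := hu.map (ψ j)
      rw [hFψ] at h1
      exact (mem_nonunits_iff.mp ((mem_maximalIdeal _).mp (f s).2)) h1
    have hEmem : ∀ t, φ j₀ j hj (E₀ t) ∈ maximalIdeal (B j) := by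
      intro t
      rw [mem_maximalIdeal, mem_nonunits_iff]
      intro hu
      have h1 : IsUnit (ψ j (φ j₀ j hj (E₀ t))) := hu.map (ψ j)
      rw [hEψ] at h1
      exact (mem_nonunits_iff.mp ((mem_maximalIdeal _).mp (g t).2)) h1
    refine ⟨fun s => ⟨φ j₀ j hj (F₀ s), hFmem s⟩, fun t => ⟨φ j₀ j hj (E₀ t), hEmem t⟩, ?_, rfl, rfl⟩
    rw [li_cotangent_iff]
    intro b hb x
    have hA := (li_cotangent_iff (Sum.elim f g)).mp hind (fun x => ψ j (b x)) ?_ x
    · by_contra hx
      have hux : IsUnit (b x) := by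
        by_contra hnu
        exact hx ((mem_maximalIdeal _).mpr (mem_nonunits_iff.mpr hnu))
      exact (mem_nonunits_iff.mp ((mem_maximalIdeal _).mp hA)) (hux.map (ψ j))
    · have := hψsq j _ hb
      rw [map_sum] at this
      convert this using 1
      apply Finset.sum_congr rfl
      intro y _
      rw [map_mul]
      congr 1
      rcases y with s | t
      · simp only [Sum.elim_inl]; exact (hFψ s).symm
      · simp only [Sum.elim_inr]; exact (hEψ t).symm
  · intro i j hi hij
    have h1 : (Ideal.span (Set.range (fun s => φ j₀ i hi (F₀ s)))).map (φ i j hij)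
        = Ideal.span (Set.range (fun s => φ j₀ j (le_trans hi hij) (F₀ s))) := by
      rw [Ideal.map_span, ← Set.range_comp]
      congr 2
      funext s
      simp only [Function.comp_apply]
      rw [hφ']
    have h2 : (Ideal.span (Set.range (fun t => φ j₀ i hi (E₀ t)))).map (φ i j hij)
        = Ideal.span (Set.range (fun t => φ j₀ j (le_trans hi hij) (E₀ t))) := by
      rw [Ideal.map_span, ← Set.range_comp]
      congr 2
      funext s
      simp only [Function.comp_apply]
      rw [hφ']
    refine ⟨h1, ?_⟩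
    rw [Ideal.map_sup, h1, h2]
  · intro j hj
    have h1 : (Ideal.span (Set.range (fun s => φ j₀ j hj (F₀ s)))).map (ψ j)
        = Ideal.span (Set.range (fun s => (f s : A))) := by
      rw [Ideal.map_span, ← Set.range_comp]
      congr 2
      funext s
      simp only [Function.comp_apply]
      rw [hψ', hF₀ψ]
    have h2 : (Ideal.span (Set.range (fun t => φ j₀ j hj (E₀ t)))).map (ψ j)
        = Ideal.span (Set.range (fun t => (g t : A))) := by
      rw [Ideal.map_span, ← Set.range_comp]
      congr 2
      funext s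
      simp only [Function.comp_apply]
      rw [hψ', hE₀ψ]
    refine ⟨h1, ?_⟩
    rw [Ideal.map_sup, h1, h2]

end Groth.Agent.S18136
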