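import Groth.Statements.S18153
import Mathlib
-- import your own Groth.Agent.* helpers here

set_option autoImplicit false
universe u w
open FrobAlg

namespace Groth.Agent.S18153.Aux

set_option autoImplicit false

namespace JacP
open MvPolynomial

variable {R : Type u} [CommRing R] {m : ℕ} {σ : Type w}

lemma X_mul_pderiv_monomial (i : Fin m ⊕ σ) (d : (Fin m ⊕ σ) →₀ ℕ) :
    X i * pderiv i (monomial d (1 : R)) = monomial d 1 * C ((d i : ℕ) : R) := by
  rw [pderiv_monomial, one_mul]
  by_cases h : d i = 0
  · simp [h]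
  · have hd : Finsupp.single i 1 + (d - Finsupp.single i 1) = d := by
      ext j
      by_cases hj : j = i
      · subst hj
        simp only [Finsupp.coe_add, Finsupp.coe_tsub, Pi.add_apply, Pi.sub_apply,
          Finsupp.single_eq_same]
        omega
      · simp [Ne.symm hj]
    rw [X, monomial_mul, hd, one_mul, mul_comm, C_mul_monomial, mul_one]

lemma det_eq_zero_of_col_sum_zero {n : ℕ} (hn : 0 < n) (A : Matrix (Fin n) (Fin n) R)
    (h : ∀ j, ∑ i, A i j = 0) : A.det = 0 := by
  have h1 : Matrix.vecMul (fun _ => (1 : R)) A = 0 := by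
    funext j
    simp [Matrix.vecMul, dotProduct, h j]
  have h2 := Matrix.vecMul_vecMul (fun _ => (1 : R)) A A.adjugate
  rw [h1, Matrix.zero_vecMul, Matrix.mul_adjugate, Matrix.vecMul_smul, Matrix.vecMul_one] at h2
  have h3 := congrFun h2 ⟨0, hn⟩
  simpa using h3.symm

/-- the Euler-twisted gradient -/
noncomputable def L' : MvPolynomial (Fin m ⊕ σ) R →ₗ[R] (Fin m → MvPolynomial (Fin m ⊕ σ) R) :=
  LinearMap.pi fun j => (LinearMap.mulLeft R (X (Sum.inl j))).comp (pderiv (Sum.inl j)).toLinearMap

/-- coefficient of the Euler-twisted Jacobian determinant, as a multilinear map -/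
noncomputable def Phi (μ : (Fin m ⊕ σ) →₀ ℕ) :
    MultilinearMap R (fun _ : Fin m => MvPolynomial (Fin m ⊕ σ) R) R :=
  (lcoeff R μ).compMultilinearMap
    (((Matrix.detRowAlternating (R := MvPolynomial (Fin m ⊕ σ) R)
      (n := Fin m)).toMultilinearMap.restrictScalars R).compLinearMap (fun _ => L'))

lemma Phi_apply (μ : (Fin m ⊕ σ) →₀ ℕ) (f : Fin m → MvPolynomial (Fin m ⊕ σ) R) :
    Phi μ f = coeff μ (Matrix.of fun i j : Fin m =>
      X (Sum.inl j) * pderiv (Sum.inl j) (f i)).det := rfl

lemma Phi_eq_zero (hm : 0 < m) (μ : (Fin m ⊕ σ) →₀ ℕ)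
    (hμ : ∀ j : Fin m, ((μ (Sum.inl j) : ℕ) : R) = 0) : Phi (R := R) μ = 0 := by
  classical
  apply Module.Basis.ext_multilinear (fun _ => basisMonomials (Fin m ⊕ σ) R)
  intro v
  rw [zero_apply, Phi_apply]
  simp only [coe_basisMonomials]
  have hmat : (Matrix.of fun i j : Fin m =>
      X (Sum.inl j) * pderiv (Sum.inl j) (monomial (v i) (1 : R))) =
      Matrix.of fun i j : Fin m => monomial (v i) (1 : R) *
        (C.mapMatrix (Matrix.of fun i j : Fin m => ((v i (Sum.inl j) : ℕ) : R))) i j := by
    ext i j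
    simp only [Matrix.of_apply, X_mul_pderiv_monomial, RingHom.mapMatrix_apply, Matrix.map_apply]
  rw [hmat, Matrix.det_mul_column, ← RingHom.map_det, ← monomial_sum_one, mul_comm, C_mul_monomial,
    mul_one, coeff_monomial]
  split_ifs with hs
  · apply det_eq_zero_of_col_sum_zero hm
    intro j
    simp only [Matrix.of_apply]
    rw [← Nat.cast_sum, ← Finsupp.finsetSum_apply, hs]
    exact hμ j
  · rfl

theorem main (p : ℕ) [Fact p.Prime] [CharP R p] (hm : 0 < m)
    (f : Fin m → MvPolynomial (Fin m ⊕ σ) R) :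
    coeff (Finsupp.sumElim (Finsupp.equivFunOnFinite.symm fun _ : Fin m => p - 1) (0 : σ →₀ ℕ))
      (Matrix.of fun i j : Fin m => pderiv (Sum.inl j) (f i)).det = 0 := by
  set μ : (Fin m ⊕ σ) →₀ ℕ :=
    Finsupp.sumElim (Finsupp.equivFunOnFinite.symm fun _ : Fin m => p - 1) (0 : σ →₀ ℕ) with hμ
  let ν : (Fin m ⊕ σ) →₀ ℕ := ∑ j : Fin m, Finsupp.single (Sum.inl j) 1
  have h1 : coeff μ (Matrix.of fun i j : Fin m => pderiv (Sum.inl j) (f i)).det =
      coeff (ν + μ) (monomial ν 1 *
        (Matrix.of fun i j : Fin m => pderiv (Sum.inl j) (f i)).det) := by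
    rw [coeff_monomial_mul, one_mul]
  have h2 : monomial ν (1 : R) * (Matrix.of fun i j : Fin m => pderiv (Sum.inl j) (f i)).det =
      (Matrix.of fun i j : Fin m => X (Sum.inl j) * pderiv (Sum.inl j) (f i)).det := by
    rw [monomial_sum_one, ← Matrix.det_mul_row]
    rfl
  rw [h1, h2, ← Phi_apply, Phi_eq_zero hm, zero_apply]
  intro j
  have hν : ν (Sum.inl j) = 1 := by
    simp only [ν, Finsupp.finsetSum_apply]
    rw [Finset.sum_eq_single j]
    · exact Finsupp.single_eq_same
    · intro i _ hi
      simp [Finsupp.single_apply, hi]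
    · intro h; exact absurd (Finset.mem_univ j) h
  have hμj : μ (Sum.inl j) = p - 1 := by
    rw [hμ, Finsupp.sumElim_inl]; rfl
  have hp : 1 ≤ p := (Fact.out : p.Prime).one_le
  rw [Finsupp.add_apply, hν, hμj, show 1 + (p - 1) = p by omega]
  exact CharP.cast_eq_zero R p

end JacP

end Groth.Agent.S18153.Aux

namespace Groth.Agent.S18153

/-- Let R be a commutative ring of prime characteristic p and f_1, …, f_m (m ≥ 1) polynomials over R in
the variables t_1, …, t_m and a further, possibly empty, family of variables s_a. Then in the m × m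
Jacobian determinant det(∂f_i/∂t_j) with respect to the t-variables, the coefficient of the monomial
t_1^{p-1} ⋯ t_m^{p-1} (all s-exponents zero) vanishes. (In the source this is the claim, for formal
power series in n ≥ m variables over the base field, to which the proof of the proposition reduces;
the coefficient in question only involves truncations of the f_i, so the polynomial form over any
ring of characteristic p is the same assertion.) -/
theorem result
    (p : ℕ) [Fact p.Prime] (R : Type u) [CommRing R] [CharP R p]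
    {m : ℕ} (hm : 0 < m) (σ : Type w) (f : Fin m → MvPolynomial (Fin m ⊕ σ) R) :
    MvPolynomial.coeff
        (Finsupp.sumElim (Finsupp.equivFunOnFinite.symm fun _ : Fin m => p - 1) (0 : σ →₀ ℕ))
        (Matrix.of fun i j : Fin m => MvPolynomial.pderiv (Sum.inl j) (f i)).det = 0 := by
  exact Aux.JacP.main p hm f

end Groth.Agent.S18153
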