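import Groth.Statements.S18155
import Groth.Agent.Lib.Helper3EtLift
import Mathlib

set_option autoImplicit false
universe u v
open FrobAlg

namespace Groth.Agent.S18155

open Groth.Agent.Lib.Helper3.EtLift

set_option maxHeartbeats 1600000

-- the kernel of the residue map of W₂(k) is square-zero
theorem ker_res_sq (p : ℕ) [Fact p.Prime] (k : Type u) [CommRing k] [CharP k p] :
    (RingHom.ker (res p k)) ^ 2 = ⊥ := by
  rw [eq_bot_iff, pow_two, Ideal.mul_le]
  intro x hx y hy
  rw [Ideal.mem_bot]
  obtain ⟨X, rfl⟩ := WittVector.truncate_surjective p 2 k x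
  obtain ⟨Y, rfl⟩ := WittVector.truncate_surjective p 2 k y
  rw [RingHom.mem_ker, res_truncate] at hx hy
  have hX : X = WittVector.verschiebung (X.shift 1) := by
    have := WittVector.eq_iterate_verschiebung (x := X) (n := 1)
      (fun i hi => by
        have : i = 0 := by omega
        rw [this]; exact hx)
    simpa using this
  have hY : Y = WittVector.verschiebung (Y.shift 1) := by
    have := WittVector.eq_iterate_verschiebung (x := Y) (n := 1)
      (fun i hi => by
        have : i = 0 := by omega
        rw [this]; exact hy)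
    simpa using this
  have hXY : X * Y = WittVector.verschiebung (WittVector.verschiebung
      (WittVector.frobenius (X.shift 1 * Y.shift 1))) := by
    conv_lhs => rw [hX, hY]
    rw [← WittVector.verschiebung_mul_frobenius, WittVector.frobenius_verschiebung,
      ← mul_assoc, ← WittVector.verschiebung_frobenius]
  rw [← map_mul, hXY]
  apply TruncatedWittVector.ext
  intro i
  rw [WittVector.coeff_truncate]
  fin_cases i
  · show (WittVector.verschiebung _).coeff 0 = _
    rw [WittVector.verschiebung_coeff_zero]
    exact (TruncatedWittVector.coeff_zero p 2 k _).symm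
  · show (WittVector.verschiebung _).coeff 1 = _
    rw [show (1 : ℕ) = Nat.succ 0 from rfl, WittVector.verschiebung_coeff_succ,
      WittVector.verschiebung_coeff_zero]
    exact (TruncatedWittVector.coeff_zero p 2 k _).symm

-- the p-th power map as a ring hom when p = 0 in C
noncomputable def powHom (p : ℕ) [hp : Fact p.Prime] (C : Type*) [CommRing C] (h0 : (p : C) = 0) :
    C →+* C where
  toFun x := x ^ p
  map_one' := one_pow p
  map_mul' x y := mul_pow x y p
  map_zero' := zero_pow hp.out.ne_zero
  map_add' x y := by
    rw [add_pow_prime_eq hp.out, h0]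
    ring

-- type synonym carrying a twisted algebra structure
def Tw (E : Type*) : Type _ := E

noncomputable instance (E : Type*) [CommRing E] : CommRing (Tw E) := inferInstanceAs (CommRing E)

/-- Let k be an algebraically closed field of characteristic p, A a commutative k-algebra and C an étale
A-algebra. If A admits a flat lifting over W_2(k) together with a lift of Frobenius, then so does C.
(The source states this for an étale cover Y → X of smooth varieties over k; its argument uses only
that Y is étale over X, and the affine case is stated here with no smoothness or finiteness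
hypothesis on A over k.) -/
theorem result
    (p : ℕ) [Fact p.Prime] (k : Type u) [Field k] [IsAlgClosed k] [CharP k p]
    (A C : Type v) [CommRing A] [CommRing C] [Algebra k A] [Algebra k C]
    [Algebra A C] [IsScalarTower k A C] [Algebra.Etale A C]
    (hA : FrobAlg.IsFLiftable p k A) : FrobAlg.IsFLiftable p k C := by
  obtain ⟨B, _, ι, π, Φ, hΦ⟩ := hA
  obtain ⟨I, hI⟩ : ∃ I : Ideal B, I = RingHom.ker π := ⟨_, rfl⟩
  -- A as a B ⧸ I algebra
  let eA : (B ⧸ I) ≃+* A := (Ideal.quotEquivOfEq hI).trans
    (RingHom.quotientKerEquivOfSurjective hΦ.surj)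
  letI algQA : Algebra (B ⧸ I) A := eA.toRingHom.toAlgebra
  letI algBA : Algebra B A := π.toAlgebra
  haveI : IsScalarTower B (B ⧸ I) A := IsScalarTower.of_algebraMap_eq (fun b => by
    show π b = eA (Ideal.Quotient.mk I b)
    simp [eA])
  letI algQC : Algebra (B ⧸ I) C := ((algebraMap A C).comp (algebraMap (B ⧸ I) A)).toAlgebra
  haveI : IsScalarTower (B ⧸ I) A C := IsScalarTower.of_algebraMap_eq' rfl
  letI algBC : Algebra B C := ((algebraMap A C).comp π).toAlgebra
  haveI : IsScalarTower B A C := IsScalarTower.of_algebraMap_eq' rfl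
  haveI : IsScalarTower B (B ⧸ I) C := IsScalarTower.of_algebraMap_eq (fun b => by
    show algebraMap A C (π b) = algebraMap A C (eA (Ideal.Quotient.mk I b))
    simp [eA])
  haveI : Algebra.Etale (B ⧸ I) A := by
    let e' : (B ⧸ I) ≃ₐ[B ⧸ I] A := AlgEquiv.ofRingEquiv (f := eA) (fun x => rfl)
    exact Algebra.Etale.of_equiv e'
  haveI : Algebra.Etale (B ⧸ I) C := Algebra.Etale.comp (B ⧸ I) A C
  obtain ⟨E, _, _, _, ψ, hψs, hψk⟩ := exists_etale_lift B I C
  -- nilpotency of the kernel
  have hker : RingHom.ker ψ.toRingHom =
      (RingHom.ker (res p k)).map ((algebraMap B E).comp ι) := by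
    rw [hψk, hI, hΦ.ker_eq, Ideal.map_map]
  have hnil : IsNilpotent (RingHom.ker ψ.toRingHom) := by
    refine ⟨2, ?_⟩
    rw [hker, ← Ideal.map_pow, ker_res_sq, Ideal.map_bot, Ideal.zero_eq_bot]
  -- p = 0 in C
  have hp0 : (p : C) = 0 := by
    have : (p : k) = 0 := CharP.cast_eq_zero k p
    rw [← map_natCast (algebraMap k C), this, map_zero]
  -- twisted structures
  letI algTwE : Algebra B (Tw E) := ((algebraMap B E).comp Φ).toAlgebra
  letI algTwC : Algebra B (Tw C) := ((algebraMap B C).comp Φ).toAlgebra
  let g : Tw E →ₐ[B] Tw C :=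
    { toRingHom := ψ.toRingHom
      commutes' := fun b => by
        show ψ (algebraMap B E (Φ b)) = algebraMap B C (Φ b)
        exact ψ.commutes _ }
  let f : E →ₐ[B] Tw C :=
    { toRingHom := (powHom p C hp0).comp ψ.toRingHom
      commutes' := fun b => by
        show (ψ (algebraMap B E b)) ^ p = algebraMap A C (π (Φ b))
        rw [ψ.commutes, hΦ.red, map_pow]
        rfl }
  let h : E →ₐ[B] Tw E := Algebra.FormallySmooth.liftOfSurjective f g hψs hnil
  have hh : ∀ x : E, ψ (h x) = ψ x ^ p := fun x =>
    Algebra.FormallySmooth.liftOfSurjective_apply f g hψs hnil x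
  refine ⟨E, inferInstance, (algebraMap B E).comp ι, ψ.toRingHom, h.toRingHom, ?_⟩
  refine { flat := ?_, surj := hψs, ker_eq := hker, comm := ?_, semi := ?_, red := hh }
  · exact RingHom.Flat.comp hΦ.flat (RingHom.flat_algebraMap_iff.mpr inferInstance)
  · ext w
    show ψ (algebraMap B E (ι w)) = algebraMap k C (res p k w)
    rw [ψ.commutes]
    show algebraMap A C (π (ι w)) = _
    have := congr($(hΦ.comm) w)
    rw [RingHom.comp_apply] at this
    rw [this, RingHom.comp_apply, ← IsScalarTower.algebraMap_apply]
  · ext w
    show h (algebraMap B E (ι w)) = algebraMap B E (ι (sigma p k w))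
    rw [h.commutes]
    show algebraMap B E (Φ (ι w)) = _
    have := congr($(hΦ.semi) w)
    rw [RingHom.comp_apply] at this
    rw [this]
    rfl

end Groth.Agent.S18155
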