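import Groth.Statements.S18190
import Groth.Agent.Lib.Helper27OrbRRMatrix

set_option autoImplicit false
open OrbRR

namespace Groth.Agent.S18190

/-- Let N ≥ 1 and let f : ℤ/Nℤ → ℚ be f(x) = x(x − N)/2 + (N² − 1)/12, where x is read as its
representative with 0 ≤ x < N. The real N × N matrix indexed by ℤ/Nℤ whose (i, j) entry is f(j −
i)/N, a symmetric circulant matrix, is positive semidefinite. -/
theorem result (N : ℕ) [NeZero N] :
    (Matrix.of fun i j : ZMod N =>
        ((((j - i).val : ℝ) * (((j - i).val : ℝ) - (N : ℝ))) / 2 + ((N : ℝ) ^ 2 - 1) / 12) / (N : ℝ)).PosSemidef := by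
  open Groth.Agent.Lib.Helper27 in
  have hM : (Matrix.of fun i j : ZMod N =>
        ((((j - i).val : ℝ) * (((j - i).val : ℝ) - (N : ℝ))) / 2 + ((N : ℝ) ^ 2 - 1) / 12) / (N : ℝ))
      = Matrix.of fun i j : ZMod N => orbQuad ℝ N (j - i).val / (N : ℝ) := by
    ext i j
    simp [orbQuad]
  rw [hM]
  apply Matrix.PosSemidef.of_dotProduct_mulVec_nonneg
  · ext i j
    simp only [Matrix.conjTranspose_apply, Matrix.of_apply, star_trivial]
    rw [orbQuad_val_symm]
  · intro x
    have e : star x ⬝ᵥ (Matrix.mulVec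
        (Matrix.of fun i j : ZMod N => orbQuad ℝ N (j - i).val / (N : ℝ)) x)
        = ∑ i : ZMod N, ∑ j : ZMod N, x i * (orbQuad ℝ N (j - i).val / (N : ℝ)) * x j := by
      simp only [dotProduct, Matrix.mulVec, Matrix.of_apply, star_trivial, Pi.star_apply]
      apply Finset.sum_congr rfl
      intro i _
      rw [Finset.mul_sum]
      apply Finset.sum_congr rfl
      intro j _
      ring
    rw [e]
    exact quadform_nonneg N x

end Groth.Agent.S18190
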