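import Groth.Statements.S18204
import Mathlib.Tactic
import Mathlib.AlgebraicGeometry.Morphisms.FlatMono
import Mathlib.AlgebraicGeometry.Noetherian
import Groth.Agent.Lib.Helper27LocImm

set_option autoImplicit false
universe u
open LocImm

namespace Groth.Agent.S18204

open CategoryTheory AlgebraicGeometry in
/-- A localizing immersion (localizing and injective on points) of Noetherian schemes which is locally
of finite type is an open immersion. -/
theorem result {X Y : Scheme.{u}} [IsNoetherian X] [IsNoetherian Y]
    (f : X ⟶ Y) (hf : LocImm.IsLocImmersion f) [LocallyOfFiniteType f] : IsOpenImmersion f := by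
  have hm : Mono f := Groth.Agent.Lib.Helper27.LocImmLib.mono_of_isLocImmersion f hf
  have hflat : Flat f := by
    rw [HasRingHomProperty.iff_exists_appLE (P := @Flat)
      (RingHom.Flat.stableUnderComposition.stableUnderCompositionWithLocalizationAway
        RingHom.Flat.holdsForLocalizationAway).1]
    intro x
    obtain ⟨U, V, hxV, e, hUV⟩ := hf.1 x
    refine ⟨U, V, hxV, e, ?_⟩
    unfold LocImm.IsLocHom at hUV
    obtain ⟨S, hS⟩ := hUV
    exact @IsLocalization.flat _ _ _ _ (f.appLE U V e).hom.toAlgebra S hS
  have hfp : LocallyOfFinitePresentation f := inferInstance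
  exact IsOpenImmersion.of_flat_of_mono f

end Groth.Agent.S18204
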