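import Groth.Statements.S18232
import Groth.Agent.Lib.Helper22Thick

set_option autoImplicit false
universe u
open CategoryTheory MonoidalCategory CartesianMonoidalCategory AlgebraicGeometry Opposite
open Magnet

namespace Groth.Agent.S18232

open CategoryTheory.Limits

/-- base change of a square-zero closed immersion of affine schemes is a closed immersion with
nilpotent kernel -/
theorem isNilpotent_ker_of_isPullback {X X₀ : Scheme.{u}} {A B : CommRingCat.{u}} (φ : A ⟶ B)
    (hφ : Function.Surjective φ) (hI : RingHom.ker φ.hom ^ 2 = ⊥)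
    {i' : X₀ ⟶ X} {g₀ : X₀ ⟶ Spec B} {g : X ⟶ Spec A} (sq : IsPullback i' g₀ g (Spec.map φ)) :
    IsClosedImmersion i' ∧ IsNilpotent i'.ker := by
  have : IsClosedImmersion (Spec.map φ) := IsClosedImmersion.spec_of_surjective φ hφ
  have hcl : IsClosedImmersion i' := MorphismProperty.of_isPullback sq.flip ‹_›
  refine ⟨hcl, 2, ?_⟩
  have htop : RingHom.ker ((Spec.map φ).appTop).hom ^ 2 = ⊥ := by
    have hnat : (Spec.map φ).appTop ≫ (Scheme.ΓSpecIso B).hom = (Scheme.ΓSpecIso A).hom ≫ φ :=
      Scheme.ΓSpecIso_naturality φ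
    have hinjB : Function.Injective (Scheme.ΓSpecIso B).hom.hom :=
      (ConcreteCategory.bijective_of_isIso (Scheme.ΓSpecIso B).hom).1
    have hinjA : Function.Injective (Scheme.ΓSpecIso A).hom.hom :=
      (ConcreteCategory.bijective_of_isIso (Scheme.ΓSpecIso A).hom).1
    have hker : RingHom.ker ((Spec.map φ).appTop).hom ≤
        (RingHom.ker φ.hom).comap (Scheme.ΓSpecIso A).hom.hom := by
      intro x hx
      rw [Ideal.mem_comap, RingHom.mem_ker]
      have h := congrArg (fun ψ => ψ.hom x) hnat
      simp only [CommRingCat.hom_comp, RingHom.coe_comp, Function.comp_apply] at h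
      rw [← h, (RingHom.mem_ker).mp hx, map_zero]
    rw [eq_bot_iff]
    intro x hx
    have hx1 : x ∈ ((RingHom.ker φ.hom).comap (Scheme.ΓSpecIso A).hom.hom) ^ 2 :=
      Ideal.pow_right_mono hker 2 hx
    have hx' : (Scheme.ΓSpecIso A).hom.hom x ∈ RingHom.ker φ.hom ^ 2 := by
      have := Ideal.mem_map_of_mem (Scheme.ΓSpecIso A).hom.hom hx1
      rw [Ideal.map_pow] at this
      refine Ideal.pow_right_mono ?_ 2 this
      exact Ideal.map_comap_le
    rw [hI, Ideal.mem_bot] at hx'
    exact hinjA (by rw [hx', map_zero])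
  apply Scheme.IdealSheafData.ext
  funext V
  rw [Scheme.IdealSheafData.ideal_pow, Pi.pow_apply, Scheme.Hom.ker_apply]
  have hle := Groth.Agent.Lib.Helper22.Thick.ker_app_le sq (isAffineOpen_top _) V.2
    (U := ⊤) (V := V.1) (by simp)
  change _ = (⊥ : Ideal _)
  rw [eq_bot_iff]
  calc RingHom.ker (i'.app V.1).hom ^ 2
      ≤ ((RingHom.ker ((Spec.map φ).app ⊤).hom).map (g.appLE ⊤ V.1 (by simp)).hom) ^ 2 :=
        Ideal.pow_right_mono hle 2
    _ = ⊥ := by
        rw [← Ideal.map_pow]
        have : RingHom.ker ((Spec.map φ).app ⊤).hom ^ 2 = ⊥ := htop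
        rw [this, Ideal.map_bot]
    _ ≤ _ := le_rfl

/-- general form: uniqueness of lifts of attractor points along a square-zero thickening of
affine schemes, for an equivariant formally unramified morphism -/
theorem unique_lift (S : Scheme.{u}) (M : Type) [AddCommMonoid M]
    (N : AddSubmonoid M) {X Y : Over S} (aX : Magnet.MonAct (Magnet.AMonS S M) X)
    (aY : Magnet.MonAct (Magnet.AMonS S M) Y) (f : X ⟶ Y) (hf : Magnet.MonAct.IsEquivariant aX aY f)
    [FormallyUnramified f.left] {A B' : CommRingCat.{u}} (φ : A ⟶ B')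
    (hφs : Function.Surjective φ) (hI : RingHom.ker φ.hom ^ 2 = ⊥)
    (str : Spec A ⟶ S) (l₁ l₂ : (Magnet.attr aX N).obj (op (Over.mk str)))
    (htop : (Magnet.attr aX N).map (Over.homMk (Spec.map φ) rfl :
        Over.mk (Spec.map φ ≫ str) ⟶ Over.mk str).op l₁ =
      (Magnet.attr aX N).map (Over.homMk (Spec.map φ) rfl :
        Over.mk (Spec.map φ ≫ str) ⟶ Over.mk str).op l₂)
    (hbot : (Magnet.MonAct.eqvHom.postcomp (Magnet.subAct S M N) f hf).app _ l₁ =
      (Magnet.MonAct.eqvHom.postcomp (Magnet.subAct S M N) f hf).app _ l₂) :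
    l₁ = l₂ := by
  set t : Over.mk (Spec.map φ ≫ str) ⟶ Over.mk str := Over.homMk (Spec.map φ) rfl with ht
  set B := Magnet.AMonS S N with hB
  -- the pullback square
  have sq : IsPullback (B ◁ t).left (pullback.snd B.hom (Spec.map φ ≫ str))
      (pullback.snd B.hom str) (Spec.map φ) := by
    have hbig : IsPullback (pullback.fst B.hom (Spec.map φ ≫ str))
        (pullback.snd B.hom (Spec.map φ ≫ str)) B.hom (Spec.map φ ≫ str) :=
      IsPullback.of_hasPullback _ _
    have hright : IsPullback (pullback.fst B.hom str) (pullback.snd B.hom str) B.hom str :=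
      IsPullback.of_hasPullback _ _
    refine IsPullback.of_right (h₁₂ := pullback.fst B.hom str) (h₂₂ := str)
      (v₁₃ := B.hom) ?_ ?_ hright
    · have e : (B ◁ t).left ≫ pullback.fst B.hom str = pullback.fst B.hom (Spec.map φ ≫ str) :=
        Over.whiskerLeft_left_fst t
      rw [e]
      exact hbig
    · exact Over.whiskerLeft_left_snd t
  obtain ⟨hcl, hnil⟩ := isNilpotent_ker_of_isPullback φ hφs hI sq
  have h1 : (B ◁ t).left ≫ l₁.1.left = (B ◁ t).left ≫ l₂.1.left := by
    have := congrArg (fun z => z.1.left) htop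
    exact this
  have h2 : l₁.1.left ≫ f.left = l₂.1.left ≫ f.left := by
    have := congrArg (fun z => z.1.left) hbot
    exact this
  have := FormallyUnramified.hom_ext (B ◁ t).left hnil f.left h1 h2
  exact Subtype.ext (Over.OverMorphism.ext this)


/-- Let S be a scheme, M a finitely generated abelian group, N a submonoid of M, and let X, Y be
S-schemes with actions of the diagonalizable group scheme D(M)_S and f : X → Y an equivariant,
formally unramified S-morphism. Then the induced map f^N : X^N → Y^N, viewed as a transformation of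
functors on S-schemes, is again formally unramified: for every ring A, ideal I of A with I² = 0 and
structure morphism Spec A → S, writing T = Spec (A/I) ⊂ T' = Spec A, two elements of X^N(T') with
the same restriction to T and the same image in Y^N(T') are equal. (Stated for schemes; the
published statement is for algebraic spaces over S.) -/
theorem result (S : Scheme.{u}) (M : Type) [AddCommGroup M]
    [AddGroup.FG M] (N : AddSubmonoid M) {X Y : Over S} (aX : Magnet.MonAct (Magnet.AMonS S M) X)
    (aY : Magnet.MonAct (Magnet.AMonS S M) Y) (f : X ⟶ Y) (hf : Magnet.MonAct.IsEquivariant aX aY f)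
    [FormallyUnramified f.left] (A : Type u) [CommRing A] (I : Ideal A) (hI : I ^ 2 = ⊥)
    (str : Spec (CommRingCat.of A) ⟶ S) (l₁ l₂ : (Magnet.attr aX N).obj (op (Over.mk str)))
    (htop : (Magnet.attr aX N).map (Over.homMk (Spec.map (CommRingCat.ofHom (Ideal.Quotient.mk I))) rfl :
        Over.mk (Spec.map (CommRingCat.ofHom (Ideal.Quotient.mk I)) ≫ str) ⟶ Over.mk str).op l₁ =
      (Magnet.attr aX N).map (Over.homMk (Spec.map (CommRingCat.ofHom (Ideal.Quotient.mk I))) rfl :
        Over.mk (Spec.map (CommRingCat.ofHom (Ideal.Quotient.mk I)) ≫ str) ⟶ Over.mk str).op l₂)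
    (hbot : (Magnet.MonAct.eqvHom.postcomp (Magnet.subAct S M N) f hf).app _ l₁ =
      (Magnet.MonAct.eqvHom.postcomp (Magnet.subAct S M N) f hf).app _ l₂) :
    l₁ = l₂ := by
  refine unique_lift S M N aX aY f hf (CommRingCat.ofHom (Ideal.Quotient.mk I))
    Ideal.Quotient.mk_surjective ?_ str l₁ l₂ htop hbot
  have : RingHom.ker (CommRingCat.ofHom (Ideal.Quotient.mk I)).hom = I := by
    simp [Ideal.mk_ker]
  rw [this, hI]

end Groth.Agent.S18232
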