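import Groth.Statements.S18239
import Groth.Agent.Lib.Helper25GrSmF

set_option autoImplicit false
universe u
open DiagMon

namespace Groth.Agent.S18239

/-- Let R be a commutative ring, N a fine and sharp commutative monoid (finitely generated,
cancellative, and 0 its only invertible element) and A a commutative R-algebra graded by N which is
smooth over R. Then A is isomorphic, as an algebra over its degree-zero part A_0, to the symmetric
algebra of a finitely generated projective A_0-module; that is, Spec A → Spec A_0 is a vector bundle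
whose zero section is the closed subscheme Spec A_0 cut out by the elements of non-zero degree.
(This is the affine, graded form of the statement that for a smooth S-scheme X with a
Zariski-locally linearizable action of a diagonalizable group D(M)_S and a finitely generated
submonoid N of M the map from the attractor X^N to X^{N*} is a vector bundle: here the base is
affine, N* = 0, and X = Spec A equals its own attractor X^N, an N-grading of A being an action of
the monoid scheme of N; the fixed-point scheme X^0 is Spec A_0.) -/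
theorem result (R : Type u) [CommRing R] (A : Type u)
    [CommRing A] [Algebra R A] (N : Type) [AddCommMonoid N] [DecidableEq N] [AddMonoid.FG N] [IsCancelAdd N]
    (hsharp : ∀ n : N, IsAddUnit n → n = 0) (𝒜 : N → Submodule R A) [GradedAlgebra 𝒜]
    [Algebra.Smooth R A] :
    ∃ (P : Type u) (_ : AddCommGroup P) (_ : Module (𝒜 0) P), Module.Finite (𝒜 0) P ∧
      Module.Projective (𝒜 0) P ∧ Nonempty (A ≃ₐ[𝒜 0] SymmetricAlgebra (𝒜 0) P) := by
  classical
  have hz : ∀ a b : N, a + b = 0 → a = 0 :=
    fun a b h => hsharp a (isAddUnit_iff_exists_neg.mpr ⟨b, h⟩)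
  obtain ⟨ℓ, hℓ⟩ := Groth.Agent.Lib.Helper25.GrSm.exists_length N hsharp
  haveI : IsScalarTower R (𝒜 0) A := IsScalarTower.of_algebraMap_eq (fun r => rfl)
  haveI : Algebra.FormallySmooth R (𝒜 0) :=
    Groth.Agent.Lib.Helper25.GrSm.formallySmooth_zero 𝒜 hz
  obtain ⟨hfin, hproj⟩ := Groth.Agent.Lib.Helper25.GrSm.cotangent_irr_finite_projective 𝒜 hz
  obtain ⟨s₀, hs₀⟩ := Module.projective_lifting_property
    (Groth.Agent.Lib.Helper25.GrSm.qmap 𝒜 hz) LinearMap.id
    (Groth.Agent.Lib.Helper25.GrSm.qmap_surjective 𝒜 hz)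
  have hs₀' : ∀ p, Groth.Agent.Lib.Helper25.GrSm.qmap 𝒜 hz (s₀ p) = p := fun p => by
    have := congrArg (fun f => f p) hs₀
    simpa using this
  obtain ⟨S, hS⟩ := Groth.Agent.Lib.Helper25.GrSm.exists_finset 𝒜 hz s₀ hs₀'
  have hsurj := Groth.Agent.Lib.Helper25.GrSm.lift_sec_surjective 𝒜 hz s₀ hs₀' ℓ hℓ S hS
  have hinj := Groth.Agent.Lib.Helper25.GrSm.lift_injective (R := R)
    (Groth.Agent.Lib.Helper25.GrSm.proj0 𝒜 hz)
    (Groth.Agent.Lib.Helper25.GrSm.sec 𝒜 hz s₀ S)
    (Groth.Agent.Lib.Helper25.GrSm.qmap 𝒜 hz)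
    (Groth.Agent.Lib.Helper25.GrSm.proj0_sec 𝒜 hz s₀ hs₀' S)
    (Groth.Agent.Lib.Helper25.GrSm.qmap_sec 𝒜 hz s₀ hs₀' S hS)
    (Groth.Agent.Lib.Helper25.GrSm.qmap_mul 𝒜 hz) hsurj
  exact ⟨_, inferInstance, inferInstance, hfin, hproj,
    ⟨(AlgEquiv.ofBijective _ ⟨hinj, hsurj⟩).symm⟩⟩

end Groth.Agent.S18239
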