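import Groth.Statements.S18247
import Mathlib
import Mathlib.Tactic

set_option autoImplicit false
universe u
open W4c5m1nsnscurves
open Curves

namespace Groth.Agent.S18247

/-- Case n = 5: the coordinate ring of U_5 over ℤ (m = 2 indices, standing for the points 4 and 5;
generators a, c, c̄, c_4, c̄_4, c_5, c̄_5, c_{45}, c_{54} with the linear and the two quadratic
relations for the one pair of indices, and no triple) is the polynomial ring on a, c_4, c̄_4, c_5,
c̄_5, c_{45}: the ℤ-algebra map from the polynomial ring in six variables sending the variables to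
these six classes, in this order, is bijective. -/
theorem result :
    Function.Bijective (MvPolynomial.aeval (R := ℤ) (S₁ := URing ℤ 2)
      ![ugen ℤ 2 .a, ugen ℤ 2 (.ci 0), ugen ℤ 2 (.cbi 0), ugen ℤ 2 (.ci 1), ugen ℤ 2 (.cbi 1),
        ugen ℤ 2 (.cij 0 1 Fin.zero_ne_one)]) := by
  classical
  have h01 : (0 : Fin 2) ≠ 1 := Fin.zero_ne_one
  have h10 : (1 : Fin 2) ≠ 0 := Ne.symm Fin.zero_ne_one
  have hcases : ∀ i j : Fin 2, i ≠ j → (i = 0 ∧ j = 1) ∨ (i = 1 ∧ j = 0) := by decide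
  have hnotrip : ∀ i j k : Fin 2, i ≠ j → j ≠ k → i ≠ k → False := by decide
  let L : MvPolynomial (Fin 6) ℤ :=
    MvPolynomial.X 0 + MvPolynomial.X 1 + MvPolynomial.X 2 + MvPolynomial.X 3 + MvPolynomial.X 4 -
      MvPolynomial.X 5
  let g' : UGen 2 → MvPolynomial (Fin 6) ℤ := fun g => match g with
    | .a => MvPolynomial.X 0
    | .c => L * MvPolynomial.X 3 + MvPolynomial.X 5 * MvPolynomial.X 1 -
        MvPolynomial.X 1 * MvPolynomial.X 3
    | .cb => L * MvPolynomial.X 2 + MvPolynomial.X 5 * MvPolynomial.X 4 -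
        MvPolynomial.X 2 * MvPolynomial.X 4
    | .ci i => if i = 0 then MvPolynomial.X 1 else MvPolynomial.X 3
    | .cbi i => if i = 0 then MvPolynomial.X 2 else MvPolynomial.X 4
    | .cij i _ _ => if i = 0 then MvPolynomial.X 5 else L
  let ψ' : MvPolynomial (UGen 2) ℤ →ₐ[ℤ] MvPolynomial (Fin 6) ℤ := MvPolynomial.aeval g'
  have hψ'X : ∀ g, ψ' (MvPolynomial.X g) = g' g := fun g => MvPolynomial.aeval_X g' g
  have hker : ∀ p ∈ Ideal.span (URel ℤ 2), ψ' p = 0 := by
    have hle : Ideal.span (URel ℤ 2) ≤ RingHom.ker ψ'.toRingHom := by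
      rw [Ideal.span_le]
      intro r hr
      rw [SetLike.mem_coe, RingHom.mem_ker]
      show ψ' r = 0
      rcases hr with ((⟨q, rfl⟩ | ⟨q, rfl⟩) | ⟨q, rfl⟩) | ⟨q, rfl⟩
      · obtain ⟨⟨i, j⟩, hij⟩ := q
        rcases hcases i j hij with ⟨rfl, rfl⟩ | ⟨rfl, rfl⟩
        · simp only [map_add, map_sub, map_mul, hψ'X, g', if_pos, if_neg h10]
          simp only [L]
          ring
        · simp only [map_add, map_sub, map_mul, hψ'X, g', if_pos, if_neg h10]
          simp only [L]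
          ring
      · obtain ⟨⟨i, j⟩, hij⟩ := q
        rcases hcases i j hij with ⟨rfl, rfl⟩ | ⟨rfl, rfl⟩
        · simp only [map_add, map_sub, map_mul, hψ'X, g', if_pos, if_neg h10]
          simp only [L]
          ring
        · simp only [map_add, map_sub, map_mul, hψ'X, g', if_pos, if_neg h10]
          simp only [L]
          ring
      · obtain ⟨⟨i, j⟩, hij⟩ := q
        rcases hcases i j hij with ⟨rfl, rfl⟩ | ⟨rfl, rfl⟩
        · simp only [map_add, map_sub, map_mul, hψ'X, g', if_pos, if_neg h10]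
          simp only [L]
          ring
        · simp only [map_add, map_sub, map_mul, hψ'X, g', if_pos, if_neg h10]
          simp only [L]
          ring
      · obtain ⟨⟨i, j, k⟩, hq1, hq2, hq3⟩ := q
        exact (hnotrip i j k hq1 hq2 hq3).elim
    intro p hp
    exact hle hp
  let ψ : URing ℤ 2 →ₐ[ℤ] MvPolynomial (Fin 6) ℤ :=
    Ideal.Quotient.liftₐ (Ideal.span (URel ℤ 2)) ψ' hker
  have hψgen : ∀ g, ψ (ugen ℤ 2 g) = g' g := by
    intro g
    show Ideal.Quotient.liftₐ (Ideal.span (URel ℤ 2)) ψ' hker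
      (Ideal.Quotient.mk (Ideal.span (URel ℤ 2)) (MvPolynomial.X g)) = g' g
    rw [Ideal.Quotient.liftₐ_apply, Ideal.Quotient.lift_mk]
    exact hψ'X g
  -- relations in the quotient
  have hlin : ugen ℤ 2 (.cij 0 1 h01) + ugen ℤ 2 (.cij 1 0 h10) -
      (ugen ℤ 2 .a + ugen ℤ 2 (.ci 0) + ugen ℤ 2 (.cbi 0) + ugen ℤ 2 (.ci 1) + ugen ℤ 2 (.cbi 1)) = 0 := by
    have hmem : (MvPolynomial.X (.cij 0 1 h01) + MvPolynomial.X (.cij 1 0 h10) -
        (MvPolynomial.X .a + MvPolynomial.X (.ci 0) + MvPolynomial.X (.cbi 0) +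
          MvPolynomial.X (.ci 1) + MvPolynomial.X (.cbi 1)) : MvPolynomial (UGen 2) ℤ) ∈
        Ideal.span (URel ℤ 2) := by
      apply Ideal.subset_span
      left; left; left
      exact ⟨⟨(0, 1), h01⟩, rfl⟩
    have h := Ideal.Quotient.eq_zero_iff_mem.mpr hmem
    rw [map_sub, map_add, map_add, map_add, map_add, map_add] at h
    exact h
  have hq1 : ugen ℤ 2 (.cij 1 0 h10) * ugen ℤ 2 (.ci 1) + ugen ℤ 2 (.cij 0 1 h01) * ugen ℤ 2 (.ci 0) -
      ugen ℤ 2 (.ci 0) * ugen ℤ 2 (.ci 1) - ugen ℤ 2 .c = 0 := by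
    have hmem : (MvPolynomial.X (.cij 1 0 h10) * MvPolynomial.X (.ci 1) +
        MvPolynomial.X (.cij 0 1 h01) * MvPolynomial.X (.ci 0) -
        MvPolynomial.X (.ci 0) * MvPolynomial.X (.ci 1) - MvPolynomial.X .c :
          MvPolynomial (UGen 2) ℤ) ∈ Ideal.span (URel ℤ 2) := by
      apply Ideal.subset_span
      left; left; right
      exact ⟨⟨(0, 1), h01⟩, rfl⟩
    have h := Ideal.Quotient.eq_zero_iff_mem.mpr hmem
    rw [map_sub, map_sub, map_add, map_mul, map_mul, map_mul] at h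
    exact h
  have hq2 : ugen ℤ 2 (.cij 1 0 h10) * ugen ℤ 2 (.cbi 0) + ugen ℤ 2 (.cij 0 1 h01) * ugen ℤ 2 (.cbi 1) -
      ugen ℤ 2 (.cbi 0) * ugen ℤ 2 (.cbi 1) - ugen ℤ 2 .cb = 0 := by
    have hmem : (MvPolynomial.X (.cij 1 0 h10) * MvPolynomial.X (.cbi 0) +
        MvPolynomial.X (.cij 0 1 h01) * MvPolynomial.X (.cbi 1) -
        MvPolynomial.X (.cbi 0) * MvPolynomial.X (.cbi 1) - MvPolynomial.X .cb :
          MvPolynomial (UGen 2) ℤ) ∈ Ideal.span (URel ℤ 2) := by
      apply Ideal.subset_span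
      left; right
      exact ⟨⟨(0, 1), h01⟩, rfl⟩
    have h := Ideal.Quotient.eq_zero_iff_mem.mpr hmem
    rw [map_sub, map_sub, map_add, map_mul, map_mul, map_mul] at h
    exact h
  set φ := MvPolynomial.aeval (R := ℤ) (S₁ := URing ℤ 2)
      ![ugen ℤ 2 .a, ugen ℤ 2 (.ci 0), ugen ℤ 2 (.cbi 0), ugen ℤ 2 (.ci 1), ugen ℤ 2 (.cbi 1),
        ugen ℤ 2 (.cij 0 1 Fin.zero_ne_one)] with hφ
  have hφ0 : φ (MvPolynomial.X 0) = ugen ℤ 2 .a := by rw [hφ, MvPolynomial.aeval_X]; rfl
  have hφ1 : φ (MvPolynomial.X 1) = ugen ℤ 2 (.ci 0) := by rw [hφ, MvPolynomial.aeval_X]; rfl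
  have hφ2 : φ (MvPolynomial.X 2) = ugen ℤ 2 (.cbi 0) := by rw [hφ, MvPolynomial.aeval_X]; rfl
  have hφ3 : φ (MvPolynomial.X 3) = ugen ℤ 2 (.ci 1) := by rw [hφ, MvPolynomial.aeval_X]; rfl
  have hφ4 : φ (MvPolynomial.X 4) = ugen ℤ 2 (.cbi 1) := by rw [hφ, MvPolynomial.aeval_X]; rfl
  have hφ5 : φ (MvPolynomial.X 5) = ugen ℤ 2 (.cij 0 1 h01) := by
    rw [hφ, MvPolynomial.aeval_X]; rfl
  have hφL : φ L = ugen ℤ 2 .a + ugen ℤ 2 (.ci 0) + ugen ℤ 2 (.cbi 0) + ugen ℤ 2 (.ci 1) +
      ugen ℤ 2 (.cbi 1) - ugen ℤ 2 (.cij 0 1 h01) := by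
    simp only [L, map_add, map_sub, hφ0, hφ1, hφ2, hφ3, hφ4, hφ5]
  constructor
  · -- injective
    have hcomp : ψ.comp φ = AlgHom.id ℤ _ := by
      apply MvPolynomial.algHom_ext
      intro i
      rw [AlgHom.comp_apply, AlgHom.id_apply]
      fin_cases i
      · show ψ (φ (MvPolynomial.X 0)) = MvPolynomial.X 0
        rw [hφ0, hψgen]
      · show ψ (φ (MvPolynomial.X 1)) = MvPolynomial.X 1
        rw [hφ1, hψgen]
        exact if_pos rfl
      · show ψ (φ (MvPolynomial.X 2)) = MvPolynomial.X 2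
        rw [hφ2, hψgen]
        exact if_pos rfl
      · show ψ (φ (MvPolynomial.X 3)) = MvPolynomial.X 3
        rw [hφ3, hψgen]
        exact if_neg h10
      · show ψ (φ (MvPolynomial.X 4)) = MvPolynomial.X 4
        rw [hφ4, hψgen]
        exact if_neg h10
      · show ψ (φ (MvPolynomial.X 5)) = MvPolynomial.X 5
        rw [hφ5, hψgen]
        exact if_pos rfl
    intro p q hpq
    have h := congrArg ψ hpq
    have hp : ψ (φ p) = p := by rw [← AlgHom.comp_apply, hcomp]; rfl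
    have hq : ψ (φ q) = q := by rw [← AlgHom.comp_apply, hcomp]; rfl
    rw [hp, hq] at h
    exact h
  · -- surjective
    have hcomp : φ.comp ψ' = Ideal.Quotient.mkₐ ℤ (Ideal.span (URel ℤ 2)) := by
      apply MvPolynomial.algHom_ext
      intro g
      rw [AlgHom.comp_apply, hψ'X]
      show φ (g' g) = ugen ℤ 2 g
      cases g with
      | a => exact hφ0
      | c =>
        show φ (L * MvPolynomial.X 3 + MvPolynomial.X 5 * MvPolynomial.X 1 -
          MvPolynomial.X 1 * MvPolynomial.X 3) = _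
        rw [map_sub, map_add, map_mul, map_mul, map_mul, hφL, hφ1, hφ3, hφ5]
        linear_combination hq1 - ugen ℤ 2 (.ci 1) * hlin
      | cb =>
        show φ (L * MvPolynomial.X 2 + MvPolynomial.X 5 * MvPolynomial.X 4 -
          MvPolynomial.X 2 * MvPolynomial.X 4) = _
        rw [map_sub, map_add, map_mul, map_mul, map_mul, hφL, hφ2, hφ4, hφ5]
        linear_combination hq2 - ugen ℤ 2 (.cbi 0) * hlin
      | ci i =>
        have : i = 0 ∨ i = 1 := by revert i; decide
        rcases this with rfl | rfl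
        · show φ (if (0 : Fin 2) = 0 then MvPolynomial.X 1 else MvPolynomial.X 3) = _
          rw [if_pos rfl, hφ1]
        · show φ (if (1 : Fin 2) = 0 then MvPolynomial.X 1 else MvPolynomial.X 3) = _
          rw [if_neg h10, hφ3]
      | cbi i =>
        have : i = 0 ∨ i = 1 := by revert i; decide
        rcases this with rfl | rfl
        · show φ (if (0 : Fin 2) = 0 then MvPolynomial.X 2 else MvPolynomial.X 4) = _
          rw [if_pos rfl, hφ2]
        · show φ (if (1 : Fin 2) = 0 then MvPolynomial.X 2 else MvPolynomial.X 4) = _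
          rw [if_neg h10, hφ4]
      | cij i j h =>
        rcases hcases i j h with ⟨rfl, rfl⟩ | ⟨rfl, rfl⟩
        · show φ (if (0 : Fin 2) = 0 then MvPolynomial.X 5 else L) = _
          rw [if_pos rfl, hφ5]
        · show φ (if (1 : Fin 2) = 0 then MvPolynomial.X 5 else L) = _
          rw [if_neg h10, hφL]
          linear_combination -hlin
    intro x
    obtain ⟨p, rfl⟩ := Ideal.Quotient.mk_surjective x
    refine ⟨ψ' p, ?_⟩
    rw [← AlgHom.comp_apply, hcomp]
    rfl

end Groth.Agent.S18247
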