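import Groth.Statements.S18248
import Mathlib
-- import your own Groth.Agent.* helpers here

set_option autoImplicit false
set_option linter.style.haveILetI false
set_option linter.unusedSectionVars false
universe u
open W4c5m1nsnscurves
open Curves

namespace Groth.Agent.S18248

open MvPolynomial

/-- number of pairs i<j -/
theorem card_lt_pairs (m : ℕ) :
    Fintype.card {q : Fin m × Fin m // q.1 < q.2} * 2 = m * (m - 1) := by
  rw [Fintype.card_subtype, ← Finset.sum_range_id_mul_two]
  congr 1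
  rw [Finset.card_filter, Fintype.sum_prod_type_right]
  rw [← Fin.sum_univ_eq_sum_range (fun i => i) m]
  refine Finset.sum_congr rfl fun j _ => ?_
  rw [← Finset.card_filter]
  have : (Finset.univ.filter fun i : Fin m => i < j) = Finset.Iio j := by
    ext i; simp
  rw [this, Fin.card_Iio]

section rels
variable (R : Type u) [CommRing R] (m : ℕ)

theorem rel_lin (i j : Fin m) (h : i ≠ j) :
    ugen R m (.cij i j h) + ugen R m (.cij j i h.symm) =
      ugen R m .a + ugen R m (.ci i) + ugen R m (.cbi i) + ugen R m (.ci j) + ugen R m (.cbi j) := by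
  rw [← sub_eq_zero]
  have : (X (.cij i j h) + X (.cij j i h.symm) -
      (X .a + X (.ci i) + X (.cbi i) + X (.ci j) + X (.cbi j)) : MvPolynomial (UGen m) R) ∈
      Ideal.span (URel R m) :=
    Ideal.subset_span (Or.inl (Or.inl (Or.inl ⟨⟨(i, j), h⟩, rfl⟩)))
  have h2 := (Ideal.Quotient.eq_zero_iff_mem).2 this
  simpa [ugen] using h2

theorem rel_c (i j : Fin m) (h : i ≠ j) :
    ugen R m .c = ugen R m (.cij j i h.symm) * ugen R m (.ci j) +
      ugen R m (.cij i j h) * ugen R m (.ci i) - ugen R m (.ci i) * ugen R m (.ci j) := by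
  rw [eq_comm, ← sub_eq_zero]
  have : (X (.cij j i h.symm) * X (.ci j) + X (.cij i j h) * X (.ci i) -
      X (.ci i) * X (.ci j) - X .c : MvPolynomial (UGen m) R) ∈
      Ideal.span (URel R m) :=
    Ideal.subset_span (Or.inl (Or.inl (Or.inr ⟨⟨(i, j), h⟩, rfl⟩)))
  have h2 := (Ideal.Quotient.eq_zero_iff_mem).2 this
  simpa [ugen] using h2

theorem rel_cb (i j : Fin m) (h : i ≠ j) :
    ugen R m .cb = ugen R m (.cij j i h.symm) * ugen R m (.cbi i) +
      ugen R m (.cij i j h) * ugen R m (.cbi j) - ugen R m (.cbi i) * ugen R m (.cbi j) := by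
  rw [eq_comm, ← sub_eq_zero]
  have : (X (.cij j i h.symm) * X (.cbi i) + X (.cij i j h) * X (.cbi j) -
      X (.cbi i) * X (.cbi j) - X .cb : MvPolynomial (UGen m) R) ∈
      Ideal.span (URel R m) :=
    Ideal.subset_span (Or.inl (Or.inr ⟨⟨(i, j), h⟩, rfl⟩))
  have h2 := (Ideal.Quotient.eq_zero_iff_mem).2 this
  simpa [ugen] using h2

end rels

/-- weight-one index type -/
abbrev G1 (m : ℕ) : Type := Unit ⊕ Fin m ⊕ Fin m ⊕ {q : Fin m × Fin m // q.1 < q.2}

/-- the embedding of weight-one indices into generators -/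
def iota (m : ℕ) : G1 m → UGen m
  | .inl _ => .a
  | .inr (.inl i) => .ci i
  | .inr (.inr (.inl i)) => .cbi i
  | .inr (.inr (.inr q)) => .cij q.1.1 q.1.2 (ne_of_lt q.2)

theorem card_G1 (m : ℕ) : Fintype.card (G1 m) = (m + 2) * (m + 1) / 2 := by
  have h := card_lt_pairs m
  simp only [G1, Fintype.card_sum, Fintype.card_unit, Fintype.card_fin]
  set N := Fintype.card {q : Fin m × Fin m // q.1 < q.2} with hN
  have h2 : (m + 2) * (m + 1) = 2 * (1 + (m + (m + N))) := by
    rcases m with _ | n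
    · simp at h ⊢; omega
    · simp only [Nat.add_sub_cancel] at h
      nlinarith [h]
  rw [h2, Nat.mul_div_cancel_left _ (by norm_num : 0 < 2)]

section tangent
variable (k : Type u) [Field k] (m : ℕ)

/-- the tangent vector attached to a generator -/
def evec : UGen m → (G1 m → k)
  | .a => Pi.single (Sum.inl ()) 1
  | .c => 0
  | .cb => 0
  | .ci i => Pi.single (Sum.inr (Sum.inl i)) 1
  | .cbi i => Pi.single (Sum.inr (Sum.inr (Sum.inl i))) 1
  | .cij i j _ =>
      if h : i < j then Pi.single (Sum.inr (Sum.inr (Sum.inr ⟨(i, j), h⟩))) 1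
      else if h' : j < i then
        (Pi.single (Sum.inl ()) 1 + Pi.single (Sum.inr (Sum.inl i)) 1 +
          Pi.single (Sum.inr (Sum.inr (Sum.inl i))) 1 + Pi.single (Sum.inr (Sum.inl j)) 1 +
          Pi.single (Sum.inr (Sum.inr (Sum.inl j))) 1) -
          Pi.single (Sum.inr (Sum.inr (Sum.inr ⟨(j, i), h'⟩))) 1
      else 0

theorem evec_iota (g : G1 m) : evec k m (iota m g) = Pi.single g 1 := by
  rcases g with _ | i | i | q
  · rfl
  · rfl
  · rfl
  · obtain ⟨⟨i, j⟩, h⟩ := q
    simp only [iota, evec]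
    rw [dif_pos h]

theorem evec_lin (i j : Fin m) (h : i ≠ j) :
    evec k m (.cij i j h) + evec k m (.cij j i h.symm) =
      evec k m .a + evec k m (.ci i) + evec k m (.cbi i) + evec k m (.ci j) + evec k m (.cbi j) := by
  rcases lt_or_gt_of_ne h with h1 | h1
  · simp only [evec]
    rw [dif_pos h1, dif_neg (not_lt.2 h1.le), dif_pos h1]
    abel
  · simp only [evec]
    rw [dif_neg (not_lt.2 h1.le), dif_pos h1, dif_pos h1]
    abel

/-- the algebra hom to the trivial square zero extension -/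
noncomputable def Phi0 : MvPolynomial (UGen m) k →ₐ[k] TrivSqZeroExt k (G1 m → k) :=
  MvPolynomial.aeval (fun g => TrivSqZeroExt.inr (evec k m g))

theorem Phi0_rel : ∀ p ∈ Ideal.span (URel k m), (Phi0 k m).toRingHom p = 0 := by
  intro p hp
  have : Ideal.span (URel k m) ≤ RingHom.ker (Phi0 k m).toRingHom := by
    rw [Ideal.span_le]
    rintro p (((⟨q, rfl⟩ | ⟨q, rfl⟩) | ⟨q, rfl⟩) | ⟨q, rfl⟩)
    · obtain ⟨⟨i, j⟩, h⟩ := q
      simp only [SetLike.mem_coe, RingHom.mem_ker, AlgHom.toRingHom_eq_coe, RingHom.coe_coe,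
        Phi0, map_sub, map_add, aeval_X]
      rw [← TrivSqZeroExt.inr_add, evec_lin]
      simp only [TrivSqZeroExt.inr_add]
      abel
    · obtain ⟨⟨i, j⟩, h⟩ := q
      simp only [SetLike.mem_coe, RingHom.mem_ker, AlgHom.toRingHom_eq_coe, RingHom.coe_coe,
        Phi0, map_sub, map_add, map_mul, aeval_X, TrivSqZeroExt.inr_mul_inr]
      simp [evec]
    · obtain ⟨⟨i, j⟩, h⟩ := q
      simp only [SetLike.mem_coe, RingHom.mem_ker, AlgHom.toRingHom_eq_coe, RingHom.coe_coe,
        Phi0, map_sub, map_add, map_mul, aeval_X, TrivSqZeroExt.inr_mul_inr]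
      simp [evec]
    · obtain ⟨⟨i, j, l⟩, h⟩ := q
      simp only [SetLike.mem_coe, RingHom.mem_ker, AlgHom.toRingHom_eq_coe, RingHom.coe_coe,
        Phi0, map_sub, map_add, map_mul, aeval_X, TrivSqZeroExt.inr_mul_inr, add_mul]
      simp [evec]
  exact this hp

/-- the hom from `URing k m` -/
noncomputable def Phi : URing k m →+* TrivSqZeroExt k (G1 m → k) :=
  Ideal.Quotient.lift (Ideal.span (URel k m)) (Phi0 k m).toRingHom (Phi0_rel k m)

theorem Phi_ugen (g : UGen m) : Phi k m (ugen k m g) = TrivSqZeroExt.inr (evec k m g) := by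
  simp [Phi, ugen, Phi0]

theorem Phi_algebraMap (c : k) : Phi k m (algebraMap k (URing k m) c) = TrivSqZeroExt.inl c := by
  have : algebraMap k (URing k m) c = Ideal.Quotient.mk _ (MvPolynomial.C c) := rfl
  rw [this]
  simp [Phi, Phi0]
  rfl

theorem ugen_mem (g : UGen m) : ugen k m g ∈ uorigin k m :=
  Ideal.subset_span ⟨g, rfl⟩

theorem Phi_fst_of_mem {x : URing k m} (hx : x ∈ uorigin k m) : (Phi k m x).fst = 0 := by
  have : uorigin k m ≤ RingHom.ker
      ((TrivSqZeroExt.fstHom k k (G1 m → k)).toRingHom.comp (Phi k m)) := by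
    rw [uorigin, Ideal.span_le]
    rintro _ ⟨g, rfl⟩
    simp [Phi_ugen]
  have h := this hx
  simpa using h

theorem Phi_sq {x : URing k m} (hx : x ∈ uorigin k m ^ 2) : Phi k m x = 0 := by
  rw [pow_two] at hx
  refine Submodule.mul_induction_on hx ?_ ?_
  · intro a ha b hb
    rw [map_mul]
    ext
    · simp [Phi_fst_of_mem k m ha]
    · simp [Phi_fst_of_mem k m ha, Phi_fst_of_mem k m hb]
  · intro a b ha hb
    rw [map_add, ha, hb, add_zero]

/-- class of a generator in the cotangent space -/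
noncomputable def gc (g : UGen m) : (uorigin k m).Cotangent :=
  (uorigin k m).toCotangent ⟨ugen k m g, ugen_mem k m g⟩

theorem smul_cot_eq_zero {i : URing k m} (hi : i ∈ uorigin k m) (s : (uorigin k m).Cotangent) :
    i • s = 0 := by
  obtain ⟨y, rfl⟩ := Ideal.toCotangent_surjective _ s
  rw [← map_smul, Ideal.toCotangent_eq_zero, pow_two]
  exact Ideal.mul_mem_mul hi y.2

theorem exists_const (a : URing k m) : ∃ c : k, a - algebraMap k _ c ∈ uorigin k m := by
  obtain ⟨p, rfl⟩ := Ideal.Quotient.mk_surjective a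
  induction p using MvPolynomial.induction_on with
  | C c => exact ⟨c, by
      have : algebraMap k (URing k m) c = Ideal.Quotient.mk _ (MvPolynomial.C c) := rfl
      rw [this, sub_self]; exact zero_mem _⟩
  | add p q hp hq =>
    obtain ⟨c, hc⟩ := hp
    obtain ⟨d, hd⟩ := hq
    refine ⟨c + d, ?_⟩
    rw [map_add, map_add]
    have := add_mem hc hd
    convert this using 1
    ring
  | mul_X p g _ =>
    refine ⟨0, ?_⟩
    rw [map_zero, sub_zero, map_mul]
    exact Ideal.mul_mem_left _ _ (ugen_mem k m g)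

theorem gc_c (hm : 2 ≤ m) : gc k m .c = 0 := by
  rw [gc, Ideal.toCotangent_eq_zero, pow_two]
  have h01 : (⟨0, by omega⟩ : Fin m) ≠ ⟨1, by omega⟩ := by simp [Fin.ext_iff]
  show ugen k m .c ∈ _
  rw [rel_c k m _ _ h01]
  exact sub_mem (add_mem (Ideal.mul_mem_mul (ugen_mem k m _) (ugen_mem k m _))
    (Ideal.mul_mem_mul (ugen_mem k m _) (ugen_mem k m _)))
    (Ideal.mul_mem_mul (ugen_mem k m _) (ugen_mem k m _))

theorem gc_cb (hm : 2 ≤ m) : gc k m .cb = 0 := by
  rw [gc, Ideal.toCotangent_eq_zero, pow_two]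
  have h01 : (⟨0, by omega⟩ : Fin m) ≠ ⟨1, by omega⟩ := by simp [Fin.ext_iff]
  show ugen k m .cb ∈ _
  rw [rel_cb k m _ _ h01]
  exact sub_mem (add_mem (Ideal.mul_mem_mul (ugen_mem k m _) (ugen_mem k m _))
    (Ideal.mul_mem_mul (ugen_mem k m _) (ugen_mem k m _)))
    (Ideal.mul_mem_mul (ugen_mem k m _) (ugen_mem k m _))

theorem gc_lin (i j : Fin m) (h : i ≠ j) :
    gc k m (.cij i j h) = gc k m .a + gc k m (.ci i) + gc k m (.cbi i) + gc k m (.ci j) +
      gc k m (.cbi j) - gc k m (.cij j i h.symm) := by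
  simp only [gc, ← map_add, ← map_sub]
  congr 1
  apply Subtype.ext
  simp only [AddSubgroupClass.coe_sub, Submodule.coe_add]
  rw [eq_sub_iff_add_eq]
  exact rel_lin k m i j h

/-- the comparison map -/
noncomputable def Tmap : (G1 m → k) →ₗ[k] (uorigin k m).Cotangent :=
  Fintype.linearCombination k (fun g => gc k m (iota m g))

theorem gc_mem_range (hm : 2 ≤ m) (g : UGen m) : gc k m g ∈ LinearMap.range (Tmap k m) := by
  have hS : ∀ g' : G1 m, gc k m (iota m g') ∈ LinearMap.range (Tmap k m) := by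
    intro g'
    rw [Tmap, Fintype.range_linearCombination]
    exact Submodule.subset_span ⟨g', rfl⟩
  rcases g with _ | _ | _ | i | i | ⟨i, j, h⟩
  · exact hS (Sum.inl ())
  · rw [gc_c k m hm]; exact zero_mem _
  · rw [gc_cb k m hm]; exact zero_mem _
  · exact hS (Sum.inr (Sum.inl i))
  · exact hS (Sum.inr (Sum.inr (Sum.inl i)))
  · rcases lt_or_gt_of_ne h with h1 | h1
    · exact hS (Sum.inr (Sum.inr (Sum.inr ⟨(i, j), h1⟩)))
    · rw [gc_lin]
      exact sub_mem (add_mem (add_mem (add_mem (add_mem (hS (Sum.inl ())) (hS (Sum.inr (Sum.inl i))))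
        (hS (Sum.inr (Sum.inr (Sum.inl i))))) (hS (Sum.inr (Sum.inl j))))
        (hS (Sum.inr (Sum.inr (Sum.inl j))))) (hS (Sum.inr (Sum.inr (Sum.inr ⟨(j, i), h1⟩))))

theorem smul_mem_range (a : URing k m) {s : (uorigin k m).Cotangent}
    (hs : s ∈ LinearMap.range (Tmap k m)) : a • s ∈ LinearMap.range (Tmap k m) := by
  obtain ⟨c, hc⟩ := exists_const k m a
  have : a • s = c • s := by
    have h1 : a = algebraMap k _ c + (a - algebraMap k _ c) := by ring
    calc a • s = (algebraMap k _ c + (a - algebraMap k _ c)) • s := by rw [← h1]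
      _ = algebraMap k (URing k m) c • s + (a - algebraMap k _ c) • s :=
        add_smul (algebraMap k (URing k m) c) (a - algebraMap k _ c) s
      _ = algebraMap k (URing k m) c • s := by rw [smul_cot_eq_zero k m hc, add_zero]
      _ = c • s := algebraMap_smul (URing k m) c s
  rw [this]
  exact Submodule.smul_mem _ _ hs

theorem Tmap_surjective (hm : 2 ≤ m) : Function.Surjective (Tmap k m) := by
  rw [← LinearMap.range_eq_top, eq_top_iff]
  rintro s -
  obtain ⟨⟨x, hx⟩, rfl⟩ := Ideal.toCotangent_surjective _ s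
  have key : ∀ (x : URing k m) (hx : x ∈ uorigin k m),
      (uorigin k m).toCotangent ⟨x, hx⟩ ∈ LinearMap.range (Tmap k m) := by
    intro x hx
    unfold uorigin at hx
    induction hx using Submodule.span_induction with
    | mem x h =>
      obtain ⟨g, rfl⟩ := h
      exact gc_mem_range k m hm g
    | zero =>
      have : (⟨0, zero_mem _⟩ : uorigin k m) = 0 := rfl
      rw [this, map_zero]; exact zero_mem _
    | add x y hx hy hx' hy' =>
      have : (⟨x + y, add_mem hx hy⟩ : uorigin k m) = ⟨x, hx⟩ + ⟨y, hy⟩ := rfl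
      rw [this, map_add]
      exact add_mem hx' hy'
    | smul a x hx hx' =>
      have : (⟨a • x, Submodule.smul_mem _ a hx⟩ : uorigin k m) = a • ⟨x, hx⟩ := rfl
      rw [this, map_smul]
      exact smul_mem_range k m a hx'
  exact key x hx

/-- a representative of `Tmap v` -/
noncomputable def yrep (v : G1 m → k) : URing k m :=
  ∑ g, algebraMap k (URing k m) (v g) * ugen k m (iota m g)

theorem yrep_mem (v : G1 m → k) : yrep k m v ∈ uorigin k m :=
  sum_mem fun g _ => Ideal.mul_mem_left _ _ (ugen_mem k m _)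

theorem Tmap_eq (v : G1 m → k) :
    Tmap k m v = (uorigin k m).toCotangent ⟨yrep k m v, yrep_mem k m v⟩ := by
  have : (⟨yrep k m v, yrep_mem k m v⟩ : uorigin k m) =
      ∑ g, algebraMap k (URing k m) (v g) • ⟨ugen k m (iota m g), ugen_mem k m _⟩ := by
    apply Subtype.ext
    rw [Submodule.coe_sum]
    exact Finset.sum_congr rfl fun g _ => rfl
  rw [this, map_sum, Tmap, Fintype.linearCombination_apply]
  refine Finset.sum_congr rfl fun g _ => ?_
  rw [map_smul]
  exact (algebraMap_smul (URing k m) (v g) (gc k m (iota m g))).symm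

theorem Phi_yrep (v : G1 m → k) : Phi k m (yrep k m v) = TrivSqZeroExt.inr v := by
  rw [yrep, map_sum]
  have : ∀ g : G1 m, Phi k m (algebraMap k (URing k m) (v g) * ugen k m (iota m g)) =
      TrivSqZeroExt.inr (Pi.single g (v g)) := by
    intro g
    rw [map_mul, Phi_algebraMap, Phi_ugen, evec_iota, TrivSqZeroExt.inl_mul_inr]
    congr 1
    rw [← Pi.single_smul, smul_eq_mul, mul_one]
  simp only [this]
  rw [← TrivSqZeroExt.inr_sum]
  congr 1
  exact Finset.univ_sum_single v

theorem Tmap_injective : Function.Injective (Tmap k m) := by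
  rw [← LinearMap.ker_eq_bot, eq_bot_iff]
  intro v hv
  rw [LinearMap.mem_ker, Tmap_eq, Ideal.toCotangent_eq_zero] at hv
  have h := Phi_sq k m hv
  rw [Phi_yrep] at h
  have : v = 0 := by
    have := congrArg TrivSqZeroExt.snd h
    simpa using this
  rw [this]; exact zero_mem _

theorem finrank_cot (hm : 2 ≤ m) :
    Module.finrank k (uorigin k m).Cotangent = (m + 2) * (m + 1) / 2 := by
  have e := LinearEquiv.ofBijective (Tmap k m) ⟨Tmap_injective k m, Tmap_surjective k m hm⟩
  rw [← e.finrank_eq, Module.finrank_fintype_fun_eq_card, card_G1]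

end tangent

theorem adjoin_range_ugen (R : Type u) [CommRing R] (m : ℕ) :
    Algebra.adjoin R (Set.range (ugen R m)) = ⊤ := by
  rw [eq_top_iff]
  rintro x -
  obtain ⟨p, rfl⟩ := Ideal.Quotient.mk_surjective x
  induction p using MvPolynomial.induction_on with
  | C c => exact Subalgebra.algebraMap_mem _ c
  | add p q hp hq => rw [map_add]; exact add_mem hp hq
  | mul_X p g hp =>
    rw [map_mul]
    exact mul_mem hp (Algebra.subset_adjoin ⟨g, rfl⟩)

theorem adjoin_top (m : ℕ) (hm : 2 ≤ m) :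
    Algebra.adjoin ℤ ({ugen ℤ m .a} ∪ Set.range (fun i : Fin m => ugen ℤ m (.ci i)) ∪
        Set.range (fun i : Fin m => ugen ℤ m (.cbi i)) ∪
        Set.range (fun q : {q : Fin m × Fin m // q.1 < q.2} =>
          ugen ℤ m (.cij q.1.1 q.1.2 (ne_of_lt q.2)))) = ⊤ := by
  set S := Algebra.adjoin ℤ ({ugen ℤ m .a} ∪ Set.range (fun i : Fin m => ugen ℤ m (.ci i)) ∪
        Set.range (fun i : Fin m => ugen ℤ m (.cbi i)) ∪
        Set.range (fun q : {q : Fin m × Fin m // q.1 < q.2} =>
          ugen ℤ m (.cij q.1.1 q.1.2 (ne_of_lt q.2)))) with hS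
  have ha : ugen ℤ m .a ∈ S :=
    Algebra.subset_adjoin (Or.inl (Or.inl (Or.inl rfl)))
  have hci : ∀ i, ugen ℤ m (.ci i) ∈ S := fun i =>
    Algebra.subset_adjoin (Or.inl (Or.inl (Or.inr ⟨i, rfl⟩)))
  have hcbi : ∀ i, ugen ℤ m (.cbi i) ∈ S := fun i =>
    Algebra.subset_adjoin (Or.inl (Or.inr ⟨i, rfl⟩))
  have hlt : ∀ (i j : Fin m) (h : i < j), ugen ℤ m (.cij i j (ne_of_lt h)) ∈ S := fun i j h =>
    Algebra.subset_adjoin (Or.inr ⟨⟨(i, j), h⟩, rfl⟩)
  have hij : ∀ (i j : Fin m) (h : i ≠ j), ugen ℤ m (.cij i j h) ∈ S := by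
    intro i j h
    rcases lt_or_gt_of_ne h with h1 | h1
    · exact hlt i j h1
    · have := rel_lin ℤ m i j h
      have h2 : ugen ℤ m (.cij i j h) = ugen ℤ m .a + ugen ℤ m (.ci i) + ugen ℤ m (.cbi i) +
          ugen ℤ m (.ci j) + ugen ℤ m (.cbi j) - ugen ℤ m (.cij j i h.symm) := by
        rw [← this]; ring
      rw [h2]
      exact sub_mem (add_mem (add_mem (add_mem (add_mem ha (hci i)) (hcbi i)) (hci j)) (hcbi j))
        (hlt j i h1)
  have h01 : (⟨0, by omega⟩ : Fin m) ≠ ⟨1, by omega⟩ := by simp [Fin.ext_iff]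
  rw [eq_top_iff, ← adjoin_range_ugen ℤ m]
  refine Algebra.adjoin_le ?_
  rintro _ ⟨g, rfl⟩
  rcases g with _ | _ | _ | i | i | ⟨i, j, h⟩
  · exact ha
  · show ugen ℤ m .c ∈ S
    rw [rel_c ℤ m _ _ h01]
    exact sub_mem (add_mem (mul_mem (hij _ _ _) (hci _)) (mul_mem (hij _ _ _) (hci _)))
      (mul_mem (hci _) (hci _))
  · show ugen ℤ m .cb ∈ S
    rw [rel_cb ℤ m _ _ h01]
    exact sub_mem (add_mem (mul_mem (hij _ _ _) (hcbi _)) (mul_mem (hij _ _ _) (hcbi _)))
      (mul_mem (hcbi _) (hcbi _))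
  · exact hci i
  · exact hcbi i
  · exact hij i j h


/-- Let m ≥ 2, so that n = m + 3 ≥ 5 points are marked. For every field k, the Zariski cotangent space
of U_n over k at the origin, that is I/I² for the ideal I of the coordinate ring of U_n over k
generated by the classes of all the generators a, c, c̄, c_i, c̄_i, c_{ij}, has dimension (n − 1)(n
− 2)/2 = (m + 2)(m + 1)/2 over k; and the weight-one classes a, c_i, c̄_i (all indices i) and c_{ij}
(i < j) generate the coordinate ring of U_n over ℤ as a ℤ-algebra (so they form a minimal generating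
set). -/
theorem result (m : ℕ) (hm : 2 ≤ m) :
    (∀ (k : Type u) [Field k], Module.finrank k (uorigin k m).Cotangent = (m + 2) * (m + 1) / 2) ∧
    Algebra.adjoin ℤ ({ugen ℤ m .a} ∪ Set.range (fun i : Fin m => ugen ℤ m (.ci i)) ∪
        Set.range (fun i : Fin m => ugen ℤ m (.cbi i)) ∪
        Set.range (fun q : {q : Fin m × Fin m // q.1 < q.2} => ugen ℤ m (.cij q.1.1 q.1.2 (ne_of_lt q.2)))) = ⊤ := by
  exact ⟨fun k _ => finrank_cot k m hm, adjoin_top m hm⟩

end Groth.Agent.S18248
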