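import Groth.Statements.S18252
import Mathlib
import Groth.Agent.Lib.Helper16UCurve
-- import your own Groth.Agent.* helpers here

set_option autoImplicit false
set_option linter.style.haveILetI false
set_option linter.unusedSectionVars false
universe u
open W4c5m1nsnscurves
open Curves

namespace Groth.Agent.S18252

open MvPolynomial Helper16UCurve

section back
variable (R : Type u) [CommRing R] (m : ℕ)

/-- images of the generators of `URing R (m+1)` in the curve algebra -/
noncomputable def gimg : UGen (m + 1) → CA R m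
  | .a => al R m (ugen R m .a)
  | .c => al R m (ugen R m .c)
  | .cb => al R m (ugen R m .cb)
  | .ci j => if hj : (j : ℕ) < m then al R m (ugen R m (.ci ⟨j, hj⟩)) else xx R m .x2
  | .cbi j => if hj : (j : ℕ) < m then al R m (ugen R m (.cbi ⟨j, hj⟩))
      else xx R m .x3 - al R m (ugen R m .a) - xx R m .x2
  | .cij j j' h =>
      if hj : (j : ℕ) < m then
        if hj' : (j' : ℕ) < m then
          al R m (ugen R m (.cij ⟨j, hj⟩ ⟨j', hj'⟩
            (fun e => h (Fin.ext (by simpa using congrArg Fin.val e)))))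
        else xx R m (.xi ⟨j, hj⟩)
      else
        if hj' : (j' : ℕ) < m then
          al R m (ugen R m (.ci ⟨j', hj'⟩)) + al R m (ugen R m (.cbi ⟨j', hj'⟩)) + xx R m .x3 -
            xx R m (.xi ⟨j', hj'⟩)
        else 0

theorem gimg_ci_cast (i : Fin m) : gimg R m (.ci i.castSucc) = al R m (ugen R m (.ci i)) := by
  simp only [gimg]
  rw [dif_pos (by simp)]
  rfl

theorem gimg_ci_last : gimg R m (.ci (Fin.last m)) = xx R m .x2 := by
  simp only [gimg]
  rw [dif_neg (by simp)]

theorem gimg_cbi_cast (i : Fin m) : gimg R m (.cbi i.castSucc) = al R m (ugen R m (.cbi i)) := by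
  simp only [gimg]
  rw [dif_pos (by simp)]
  rfl

theorem gimg_cbi_last :
    gimg R m (.cbi (Fin.last m)) = xx R m .x3 - al R m (ugen R m .a) - xx R m .x2 := by
  simp only [gimg]
  rw [dif_neg (by simp)]

theorem gimg_cij_cc (i i' : Fin m) (h : i.castSucc ≠ i'.castSucc) (h' : i ≠ i') :
    gimg R m (.cij i.castSucc i'.castSucc h) = al R m (ugen R m (.cij i i' h')) := by
  simp only [gimg]
  rw [dif_pos (by simp), dif_pos (by simp)]
  rfl

theorem gimg_cij_cl (i : Fin m) (h : i.castSucc ≠ Fin.last m) :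
    gimg R m (.cij i.castSucc (Fin.last m) h) = xx R m (.xi i) := by
  simp only [gimg]
  rw [dif_pos (by simp), dif_neg (by simp)]
  rfl

theorem gimg_cij_lc (i : Fin m) (h : Fin.last m ≠ i.castSucc) :
    gimg R m (.cij (Fin.last m) i.castSucc h) =
      al R m (ugen R m (.ci i)) + al R m (ugen R m (.cbi i)) + xx R m .x3 - xx R m (.xi i) := by
  simp only [gimg]
  rw [dif_neg (by simp), dif_pos (by simp)]
  rfl

/-- the backward map on polynomials -/
noncomputable def G0 : MvPolynomial (UGen (m + 1)) R →+* CA R m :=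
  eval₂Hom ((al R m).comp (algebraMap R (URing R m))) (gimg R m)

theorem G0_X (g : UGen (m + 1)) : G0 R m (X g) = gimg R m g := by
  simp [G0]

theorem G0_C (r : R) : G0 R m (C r) = al R m (algebraMap R (URing R m) r) := by
  simp [G0]

theorem alin (i j : Fin m) (h : i ≠ j) :
    al R m (ugen R m (.cij i j h)) + al R m (ugen R m (.cij j i h.symm)) =
      al R m (ugen R m .a) + al R m (ugen R m (.ci i)) + al R m (ugen R m (.cbi i)) +
      al R m (ugen R m (.ci j)) + al R m (ugen R m (.cbi j)) := by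
  simp only [← map_add, rel_lin R m i j h]

theorem ac (i j : Fin m) (h : i ≠ j) :
    al R m (ugen R m .c) = al R m (ugen R m (.cij j i h.symm)) * al R m (ugen R m (.ci j)) +
      al R m (ugen R m (.cij i j h)) * al R m (ugen R m (.ci i)) -
      al R m (ugen R m (.ci i)) * al R m (ugen R m (.ci j)) := by
  simp only [← map_add, ← map_mul, ← map_sub, ← rel_c R m i j h]

theorem acb (i j : Fin m) (h : i ≠ j) :
    al R m (ugen R m .cb) = al R m (ugen R m (.cij j i h.symm)) * al R m (ugen R m (.cbi i)) +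
      al R m (ugen R m (.cij i j h)) * al R m (ugen R m (.cbi j)) -
      al R m (ugen R m (.cbi i)) * al R m (ugen R m (.cbi j)) := by
  simp only [← map_add, ← map_mul, ← map_sub, ← rel_cb R m i j h]

theorem acubic (i j l : Fin m) (h1 : i ≠ j) (h2 : j ≠ l) (h3 : i ≠ l) :
    al R m (ugen R m (.cij i j h1)) * al R m (ugen R m (.cij j l h2)) +
      al R m (ugen R m (.cij j i h1.symm)) * al R m (ugen R m (.cij i l h3)) -
      al R m (ugen R m (.cij i l h3)) * al R m (ugen R m (.cij j l h2)) +
      (al R m (ugen R m .a) + al R m (ugen R m (.ci l)) + al R m (ugen R m (.cbi l))) *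
        al R m (ugen R m (.ci l)) = al R m (ugen R m .c) := by
  simp only [← map_add, ← map_mul, ← map_sub, rel_cubic R m i j l h1 h2 h3]

theorem G0_lin (j j' : Fin (m + 1)) (h : j ≠ j') :
    G0 R m (X (.cij j j' h) + X (.cij j' j h.symm) -
      (X .a + X (.ci j) + X (.cbi j) + X (.ci j') + X (.cbi j'))) = 0 := by
  simp only [map_sub, map_add, G0_X]
  rcases Fin.eq_castSucc_or_eq_last j with ⟨i, rfl⟩ | rfl <;>
    rcases Fin.eq_castSucc_or_eq_last j' with ⟨i', rfl⟩ | rfl
  · have h' : i ≠ i' := fun e => h (by rw [e])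
    rw [gimg_cij_cc R m i i' _ h', gimg_cij_cc R m i' i _ h'.symm, gimg_ci_cast, gimg_ci_cast,
      gimg_cbi_cast, gimg_cbi_cast]
    have : gimg R m .a = al R m (ugen R m .a) := rfl
    rw [this]
    linear_combination alin R m i i' h'
  · rw [gimg_cij_cl, gimg_cij_lc, gimg_ci_cast, gimg_cbi_cast, gimg_ci_last, gimg_cbi_last]
    have : gimg R m .a = al R m (ugen R m .a) := rfl
    rw [this]
    ring
  · rw [gimg_cij_cl, gimg_cij_lc, gimg_ci_cast, gimg_cbi_cast, gimg_ci_last, gimg_cbi_last]
    have : gimg R m .a = al R m (ugen R m .a) := rfl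
    rw [this]
    ring
  · exact absurd rfl h

theorem G0_c (j j' : Fin (m + 1)) (h : j ≠ j') :
    G0 R m (X (.cij j' j h.symm) * X (.ci j') + X (.cij j j' h) * X (.ci j) -
      X (.ci j) * X (.ci j') - X .c) = 0 := by
  simp only [map_sub, map_add, map_mul, G0_X]
  have hc : gimg R m .c = al R m (ugen R m .c) := rfl
  rw [hc]
  rcases Fin.eq_castSucc_or_eq_last j with ⟨i, rfl⟩ | rfl <;>
    rcases Fin.eq_castSucc_or_eq_last j' with ⟨i', rfl⟩ | rfl
  · have h' : i ≠ i' := fun e => h (by rw [e])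
    rw [gimg_cij_cc R m i i' _ h', gimg_cij_cc R m i' i _ h'.symm, gimg_ci_cast, gimg_ci_cast]
    linear_combination - ac R m i i' h'
  · rw [gimg_cij_cl, gimg_cij_lc, gimg_ci_cast, gimg_ci_last]
    linear_combination - crel1 R m i
  · rw [gimg_cij_cl, gimg_cij_lc, gimg_ci_cast, gimg_ci_last]
    linear_combination - crel1 R m i'
  · exact absurd rfl h

theorem G0_cb (j j' : Fin (m + 1)) (h : j ≠ j') :
    G0 R m (X (.cij j' j h.symm) * X (.cbi j) + X (.cij j j' h) * X (.cbi j') -
      X (.cbi j) * X (.cbi j') - X .cb) = 0 := by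
  simp only [map_sub, map_add, map_mul, G0_X]
  have hc : gimg R m .cb = al R m (ugen R m .cb) := rfl
  rw [hc]
  rcases Fin.eq_castSucc_or_eq_last j with ⟨i, rfl⟩ | rfl <;>
    rcases Fin.eq_castSucc_or_eq_last j' with ⟨i', rfl⟩ | rfl
  · have h' : i ≠ i' := fun e => h (by rw [e])
    rw [gimg_cij_cc R m i i' _ h', gimg_cij_cc R m i' i _ h'.symm, gimg_cbi_cast, gimg_cbi_cast]
    linear_combination - acb R m i i' h'
  · rw [gimg_cij_cl, gimg_cij_lc, gimg_cbi_cast, gimg_cbi_last]
    linear_combination crel2 R m i - crel1 R m i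
  · rw [gimg_cij_cl, gimg_cij_lc, gimg_cbi_cast, gimg_cbi_last]
    linear_combination crel2 R m i' - crel1 R m i'
  · exact absurd rfl h

theorem G0_cubic (j j' j'' : Fin (m + 1)) (h1 : j ≠ j') (h2 : j' ≠ j'') (h3 : j ≠ j'') :
    G0 R m (X (.cij j j' h1) * X (.cij j' j'' h2) +
      X (.cij j' j h1.symm) * X (.cij j j'' h3) -
      X (.cij j j'' h3) * X (.cij j' j'' h2) +
      (X .a + X (.ci j'') + X (.cbi j'')) * X (.ci j'') - X .c) = 0 := by
  simp only [map_sub, map_add, map_mul, G0_X]
  have hc : gimg R m .c = al R m (ugen R m .c) := rfl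
  have ha : gimg R m .a = al R m (ugen R m .a) := rfl
  rw [hc, ha]
  rcases Fin.eq_castSucc_or_eq_last j with ⟨i, rfl⟩ | rfl <;>
    rcases Fin.eq_castSucc_or_eq_last j' with ⟨i', rfl⟩ | rfl <;>
    rcases Fin.eq_castSucc_or_eq_last j'' with ⟨i'', rfl⟩ | rfl
  · -- all old
    have h1' : i ≠ i' := fun e => h1 (by rw [e])
    have h2' : i' ≠ i'' := fun e => h2 (by rw [e])
    have h3' : i ≠ i'' := fun e => h3 (by rw [e])
    rw [gimg_cij_cc R m i i' _ h1', gimg_cij_cc R m i' i'' _ h2', gimg_cij_cc R m i' i _ h1'.symm,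
      gimg_cij_cc R m i i'' _ h3', gimg_ci_cast, gimg_cbi_cast]
    linear_combination acubic R m i i' i'' h1' h2' h3'
  · -- k = last
    have h1' : i ≠ i' := fun e => h1 (by rw [e])
    rw [gimg_cij_cc R m i i' _ h1', gimg_cij_cc R m i' i _ h1'.symm, gimg_cij_cl, gimg_cij_cl,
      gimg_ci_last, gimg_cbi_last]
    linear_combination - crel3 R m i i' h1'
  · -- j = last
    have h3' : i ≠ i'' := fun e => h3 (by rw [e])
    rw [gimg_cij_cl, gimg_cij_lc, gimg_cij_lc, gimg_cij_cc R m i i'' _ h3', gimg_ci_cast,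
      gimg_cbi_cast]
    linear_combination crel2 R m i - crel3 R m i i'' h3' +
      (al R m (ugen R m (.cbi i)) - al R m (ugen R m (.ci i'')) - xx R m (.xi i)) *
        alin R m i i'' h3' - ac R m i i'' h3' + acb R m i i'' h3'
  · exact absurd rfl h2
  · -- i = last
    have h2' : i' ≠ i'' := fun e => h2 (by rw [e])
    rw [gimg_cij_cl, gimg_cij_lc, gimg_cij_lc, gimg_cij_cc R m i' i'' _ h2', gimg_ci_cast,
      gimg_cbi_cast]
    linear_combination crel2 R m i' - crel3 R m i' i'' h2' +
      (al R m (ugen R m (.cbi i')) - al R m (ugen R m (.ci i'')) - xx R m (.xi i')) *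
        alin R m i' i'' h2' - ac R m i' i'' h2' + acb R m i' i'' h2'
  · exact absurd rfl h3
  · exact absurd rfl h1
  · exact absurd rfl h1

theorem G0_rel : ∀ p ∈ Ideal.span (URel R (m + 1)), G0 R m p = 0 := by
  intro p hp
  have : Ideal.span (URel R (m + 1)) ≤ RingHom.ker (G0 R m) := by
    rw [Ideal.span_le]
    rintro p (((⟨q, rfl⟩ | ⟨q, rfl⟩) | ⟨q, rfl⟩) | ⟨q, rfl⟩)
    · obtain ⟨⟨j, j'⟩, h⟩ := q
      exact G0_lin R m j j' h
    · obtain ⟨⟨j, j'⟩, h⟩ := q
      exact G0_c R m j j' h
    · obtain ⟨⟨j, j'⟩, h⟩ := q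
      exact G0_cb R m j j' h
    · obtain ⟨⟨j, j', j''⟩, h1, h2, h3⟩ := q
      exact G0_cubic R m j j' j'' h1 h2 h3
  exact this hp

/-- the backward map -/
noncomputable def G : URing R (m + 1) →+* CA R m :=
  Ideal.Quotient.lift (Ideal.span (URel R (m + 1))) (G0 R m) (G0_rel R m)

theorem G_ugen (g : UGen (m + 1)) : G R m (ugen R (m + 1) g) = gimg R m g := by
  rw [G, ugen, Ideal.Quotient.lift_mk, G0_X]

/-- images of the curve variables -/
noncomputable def fimg : CVar m → URing R (m + 1)
  | .x2 => ugen R (m + 1) (.ci (Fin.last m))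
  | .x3 => ugen R (m + 1) .a + ugen R (m + 1) (.ci (Fin.last m)) +
      ugen R (m + 1) (.cbi (Fin.last m))
  | .xi i => ugen R (m + 1) (.cij i.castSucc (Fin.last m) (Fin.castSucc_lt_last i).ne)

/-- the forward map on polynomials -/
noncomputable def F0 : MvPolynomial (CVar m) (URing R m) →+* URing R (m + 1) :=
  eval₂Hom (uincl R m : URing R m →+* URing R (m + 1)) (fimg R m)

theorem F0_X (v : CVar m) : F0 R m (X v) = fimg R m v := by
  simp [F0]

theorem F0_C (r : URing R m) : F0 R m (C r) = uincl R m r := by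
  simp [F0]

theorem F0_rel : ∀ p ∈ Ideal.span (CRel (URing R m) m (ugen R m)), F0 R m p = 0 := by
  intro p hp
  have : Ideal.span (CRel (URing R m) m (ugen R m)) ≤ RingHom.ker (F0 R m) := by
    rw [Ideal.span_le]
    rintro p ((⟨i, rfl⟩ | ⟨i, rfl⟩) | ⟨⟨⟨i, i'⟩, h⟩, rfl⟩)
    · simp only [SetLike.mem_coe, RingHom.mem_ker, map_sub, map_add, map_mul, F0_X, F0_C,
        uincl_ugen, fimg, UGen.castSucc]
      have hL : i.castSucc ≠ Fin.last m := (Fin.castSucc_lt_last i).ne
      linear_combination rel_c R (m + 1) i.castSucc (Fin.last m) hL +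
        ugen R (m + 1) (.ci (Fin.last m)) * rel_lin R (m + 1) i.castSucc (Fin.last m) hL
    · simp only [SetLike.mem_coe, RingHom.mem_ker, map_sub, map_add, map_mul, F0_X, F0_C,
        uincl_ugen, fimg, UGen.castSucc]
      have hL : i.castSucc ≠ Fin.last m := (Fin.castSucc_lt_last i).ne
      linear_combination rel_c R (m + 1) i.castSucc (Fin.last m) hL -
        rel_cb R (m + 1) i.castSucc (Fin.last m) hL +
        (ugen R (m + 1) (.ci (Fin.last m)) - ugen R (m + 1) (.cbi i.castSucc)) *
          rel_lin R (m + 1) i.castSucc (Fin.last m) hL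
    · simp only [SetLike.mem_coe, RingHom.mem_ker, map_sub, map_add, map_mul, F0_X, F0_C,
        uincl_ugen, fimg, UGen.castSucc]
      have hL : i.castSucc ≠ Fin.last m := (Fin.castSucc_lt_last i).ne
      have hL' : i'.castSucc ≠ Fin.last m := (Fin.castSucc_lt_last i').ne
      have h' : i.castSucc ≠ i'.castSucc := fun e => h (Fin.castSucc_injective _ e)
      linear_combination - rel_cubic R (m + 1) i.castSucc i'.castSucc (Fin.last m) h' hL' hL
  exact this hp

/-- the forward map -/
noncomputable def F : CA R m →+* URing R (m + 1) :=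
  Ideal.Quotient.lift (Ideal.span (CRel (URing R m) m (ugen R m))) (F0 R m) (F0_rel R m)

theorem F_xx (v : CVar m) : F R m (xx R m v) = fimg R m v := by
  rw [F, xx, Ideal.Quotient.lift_mk, F0_X]

theorem F_al (r : URing R m) : F R m (al R m r) = uincl R m r := by
  rw [F, al_eq, Ideal.Quotient.lift_mk, F0_C]

theorem FG_ugen (g : UGen (m + 1)) : F R m (G R m (ugen R (m + 1) g)) = ugen R (m + 1) g := by
  rw [G_ugen]
  rcases g with _ | _ | _ | j | j | ⟨j, j', h⟩
  · show F R m (al R m (ugen R m .a)) = _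
    rw [F_al, uincl_ugen]; rfl
  · show F R m (al R m (ugen R m .c)) = _
    rw [F_al, uincl_ugen]; rfl
  · show F R m (al R m (ugen R m .cb)) = _
    rw [F_al, uincl_ugen]; rfl
  · rcases Fin.eq_castSucc_or_eq_last j with ⟨i, rfl⟩ | rfl
    · rw [gimg_ci_cast, F_al, uincl_ugen]; rfl
    · rw [gimg_ci_last, F_xx]; rfl
  · rcases Fin.eq_castSucc_or_eq_last j with ⟨i, rfl⟩ | rfl
    · rw [gimg_cbi_cast, F_al, uincl_ugen]; rfl
    · rw [gimg_cbi_last, map_sub, map_sub, F_xx, F_xx, F_al, uincl_ugen]
      simp only [fimg, UGen.castSucc]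
      ring
  · rcases Fin.eq_castSucc_or_eq_last j with ⟨i, rfl⟩ | rfl <;>
      rcases Fin.eq_castSucc_or_eq_last j' with ⟨i', rfl⟩ | rfl
    · have h' : i ≠ i' := fun e => h (by rw [e])
      rw [gimg_cij_cc R m i i' _ h', F_al, uincl_ugen]; rfl
    · rw [gimg_cij_cl, F_xx]; rfl
    · rw [gimg_cij_lc, map_sub, map_add, map_add, F_xx, F_xx, F_al, F_al, uincl_ugen, uincl_ugen]
      simp only [fimg, UGen.castSucc]
      have hL : i'.castSucc ≠ Fin.last m := (Fin.castSucc_lt_last i').ne
      linear_combination - rel_lin R (m + 1) i'.castSucc (Fin.last m) hL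
    · exact absurd rfl h

theorem FG : (F R m).comp (G R m) = RingHom.id (URing R (m + 1)) := by
  refine Ideal.Quotient.ringHom_ext (MvPolynomial.ringHom_ext ?_ ?_)
  · intro r
    simp only [RingHom.comp_apply, RingHom.id_apply]
    rw [G, Ideal.Quotient.lift_mk, G0_C, F_al]
    exact (uincl R m).commutes r
  · intro g
    simp only [RingHom.comp_apply, RingHom.id_apply]
    exact FG_ugen R m g

theorem G_uincl : (G R m).comp (uincl R m : URing R m →+* URing R (m + 1)) = al R m := by
  refine Ideal.Quotient.ringHom_ext (MvPolynomial.ringHom_ext ?_ ?_)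
  · intro r
    simp only [RingHom.comp_apply]
    have h1 : (uincl R m : URing R m →+* URing R (m + 1))
        (Ideal.Quotient.mk (Ideal.span (URel R m)) (C r)) =
        Ideal.Quotient.mk (Ideal.span (URel R (m + 1))) (C r) :=
      (uincl R m).commutes r
    rw [h1, G, Ideal.Quotient.lift_mk, G0_C]
    rfl
  · intro g
    simp only [RingHom.comp_apply]
    have h1 : (uincl R m : URing R m →+* URing R (m + 1))
        (Ideal.Quotient.mk (Ideal.span (URel R m)) (X g)) = ugen R (m + 1) g.castSucc :=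
      uincl_ugen R m g
    rw [h1, G_ugen]
    rcases g with _ | _ | _ | i | i | ⟨i, i', h⟩
    · rfl
    · rfl
    · rfl
    · exact gimg_ci_cast R m i
    · exact gimg_cbi_cast R m i
    · exact gimg_cij_cc R m i i' _ h

theorem GF : (G R m).comp (F R m) = RingHom.id (CA R m) := by
  refine Ideal.Quotient.ringHom_ext (MvPolynomial.ringHom_ext ?_ ?_)
  · intro r
    simp only [RingHom.comp_apply, RingHom.id_apply]
    rw [F, Ideal.Quotient.lift_mk, F0_C]
    exact RingHom.congr_fun (G_uincl R m) r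
  · intro v
    simp only [RingHom.comp_apply, RingHom.id_apply]
    rw [F, Ideal.Quotient.lift_mk, F0_X]
    rcases v with _ | _ | i
    · show G R m (ugen R (m + 1) (.ci (Fin.last m))) = _
      rw [G_ugen, gimg_ci_last]; rfl
    · show G R m (ugen R (m + 1) .a + ugen R (m + 1) (.ci (Fin.last m)) +
        ugen R (m + 1) (.cbi (Fin.last m))) = xx R m .x3
      rw [map_add, map_add, G_ugen, G_ugen, G_ugen, gimg_ci_last, gimg_cbi_last]
      show al R m (ugen R m .a) + _ + _ = _
      ring
    · show G R m (ugen R (m + 1) (.cij i.castSucc (Fin.last m) _)) = _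
      rw [G_ugen, gimg_cij_cl]; rfl

end back


/-- Let R be a commutative ring and m ≥ 1, so that n = m + 3 ≥ 4. Consider the projection U_{n+1} → U_n
forgetting the coordinates c_{n+1}, c̄_{n+1}, c_{i,n+1}, c_{n+1,i}, i.e. the ring map O(U_n) →
O(U_{n+1}) sending each generator to the generator with the same indices, and the affine curve C_n →
U_n, i.e. the curve algebra over O(U_n) whose constants a, c, c̄, c_i, c̄_i, c_{ij} are the
generators of O(U_n) themselves. Then x_2 ↦ c_{n+1}, x_3 ↦ a + c_{n+1} + c̄_{n+1}, x_i ↦ c_{i,n+1}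
defines an isomorphism O(C_n) ≅ O(U_{n+1}) over O(U_n): there is a ring isomorphism with these
values on the variables whose composite with the structure map O(U_n) → O(C_n) is the projection's
ring map. -/
theorem result (R : Type u) [CommRing R] (m : ℕ) (hm : 1 ≤ m) :
    ∃ e : CurveAlg (URing R m) m (ugen R m) ≃+* URing R (m + 1),
      (∀ r : URing R m, e (algebraMap (URing R m) (CurveAlg (URing R m) m (ugen R m)) r) = uincl R m r) ∧
      e (Ideal.Quotient.mk (Ideal.span (CRel (URing R m) m (ugen R m))) (MvPolynomial.X CVar.x2)) =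
        ugen R (m + 1) (UGen.ci (Fin.last m)) ∧
      e (Ideal.Quotient.mk (Ideal.span (CRel (URing R m) m (ugen R m))) (MvPolynomial.X CVar.x3)) =
        ugen R (m + 1) UGen.a + ugen R (m + 1) (UGen.ci (Fin.last m)) + ugen R (m + 1) (UGen.cbi (Fin.last m)) ∧
      ∀ i : Fin m, e (Ideal.Quotient.mk (Ideal.span (CRel (URing R m) m (ugen R m))) (MvPolynomial.X (CVar.xi i))) =
        ugen R (m + 1) (UGen.cij i.castSucc (Fin.last m) (Fin.castSucc_lt_last i).ne) := by
  refine ⟨RingEquiv.ofRingHom (F R m) (G R m) (FG R m) (GF R m), ?_, ?_, ?_, ?_⟩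
  · intro r
    exact F_al R m r
  · exact F_xx R m .x2
  · exact F_xx R m .x3
  · intro i
    exact F_xx R m (.xi i)

end Groth.Agent.S18252
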