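import Groth.Statements.S18249
import Mathlib
import Groth.Agent.Lib.Helper16GrBasis
import Groth.Agent.Lib.Helper16UCurve
import Groth.Agent.S18246
import Groth.Agent.S18247
import Groth.Agent.S18252
-- import your own Groth.Agent.* helpers here

set_option autoImplicit false
set_option linter.style.haveILetI false
set_option linter.unusedSectionVars false
universe u
open W4c5m1nsnscurves
open Curves

namespace Groth.Agent.S18249

open MvPolynomial Helper16GrBasis

/-- the weighted grading -/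
abbrev WH (m : ℕ) : ℕ → Submodule ℤ (MvPolynomial (UGen m) ℤ) :=
  weightedHomogeneousSubmodule ℤ (uwt (m := m))

attribute [local instance] MvPolynomial.weightedGradedAlgebra

theorem hX {m : ℕ} (g : UGen m) (k : ℕ) (h : uwt g = k) :
    IsWeightedHomogeneous (uwt (m := m)) (X g : MvPolynomial (UGen m) ℤ) k :=
  h ▸ isWeightedHomogeneous_X ℤ uwt g

theorem hXX {m : ℕ} (g g' : UGen m) (h : uwt g = 1) (h' : uwt g' = 1) :
    IsWeightedHomogeneous (uwt (m := m)) (X g * X g' : MvPolynomial (UGen m) ℤ) 2 :=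
  (hX g 1 h).mul (hX g' 1 h')

theorem urel_homog (m : ℕ) : ∀ x ∈ URel ℤ m, SetLike.IsHomogeneousElem (WH m) x := by
  rintro x (((⟨⟨⟨i, j⟩, h⟩, rfl⟩ | ⟨⟨⟨i, j⟩, h⟩, rfl⟩) | ⟨⟨⟨i, j⟩, h⟩, rfl⟩) |
    ⟨⟨⟨i, j, k⟩, h1, h2, h3⟩, rfl⟩)
  · refine ⟨1, ?_⟩
    rw [mem_weightedHomogeneousSubmodule]
    exact ((hX _ 1 rfl).add (hX _ 1 rfl)).sub
      (((((hX _ 1 rfl).add (hX _ 1 rfl)).add (hX _ 1 rfl)).add (hX _ 1 rfl)).add (hX _ 1 rfl))
  · refine ⟨2, ?_⟩
    rw [mem_weightedHomogeneousSubmodule]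
    exact ((((hXX _ _ rfl rfl).add (hXX _ _ rfl rfl)).sub (hXX _ _ rfl rfl)).sub (hX _ 2 rfl))
  · refine ⟨2, ?_⟩
    rw [mem_weightedHomogeneousSubmodule]
    exact ((((hXX _ _ rfl rfl).add (hXX _ _ rfl rfl)).sub (hXX _ _ rfl rfl)).sub (hX _ 2 rfl))
  · refine ⟨2, ?_⟩
    rw [mem_weightedHomogeneousSubmodule]
    have h4 : IsWeightedHomogeneous (uwt (m := m))
        ((X UGen.a + X (UGen.ci k) + X (UGen.cbi k)) * X (UGen.ci k) :
          MvPolynomial (UGen m) ℤ) 2 :=
      (((hX _ 1 rfl).add (hX _ 1 rfl)).add (hX _ 1 rfl)).mul (hX _ 1 rfl)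
    exact (((((hXX _ _ rfl rfl).add (hXX _ _ rfl rfl)).sub (hXX _ _ rfl rfl)).add h4).sub
      (hX _ 2 rfl))

instance isHomog (m : ℕ) : GrQuot.IsHomog (WH m) (Ideal.span (URel ℤ m)) :=
  (GrQuot.isHomog_iff _ _).2 (Ideal.homogeneous_span _ _ (urel_homog m))

theorem upiece_internal (m : ℕ) : DirectSum.IsInternal (upiece ℤ m) :=
  DirectSum.Decomposition.isInternal (GrQuot.quot (WH m) (Ideal.span (URel ℤ m)))

theorem upiece_indep (m : ℕ) : iSupIndep (upiece ℤ m) :=
  (upiece_internal m).submodule_iSupIndep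

theorem ugen_mem_upiece (m : ℕ) (g : UGen m) : ugen ℤ m g ∈ upiece ℤ m (uwt g) :=
  GrQuot.mk_mem_quot (WH m) _ (by
    rw [mem_weightedHomogeneousSubmodule]; exact isWeightedHomogeneous_X ℤ uwt g)

theorem one_mem_upiece (m : ℕ) : (1 : URing ℤ m) ∈ upiece ℤ m 0 :=
  SetLike.one_mem_graded (GrQuot.quot (WH m) (Ideal.span (URel ℤ m)))

theorem mul_mem_upiece (m : ℕ) {x y : URing ℤ m} {d e : ℕ} (hx : x ∈ upiece ℤ m d)
    (hy : y ∈ upiece ℤ m e) : x * y ∈ upiece ℤ m (d + e) :=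
  SetLike.mul_mem_graded (A := GrQuot.quot (WH m) (Ideal.span (URel ℤ m))) hx hy

theorem pow_mem_upiece (m : ℕ) {x : URing ℤ m} {d : ℕ} (hx : x ∈ upiece ℤ m d) (n : ℕ) :
    x ^ n ∈ upiece ℤ m (n * d) := by
  have := SetLike.pow_mem_graded (A := GrQuot.quot (WH m) (Ideal.span (URel ℤ m))) n hx
  rwa [smul_eq_mul] at this

theorem uwt_castSucc {m : ℕ} (g : UGen m) : uwt (UGen.castSucc g) = uwt g := by
  rcases g with _ | _ | _ | i | i | ⟨i, j, h⟩ <;> rfl

theorem rename_mem_WH {m : ℕ} {d : ℕ} {p : MvPolynomial (UGen m) ℤ} (hp : p ∈ WH m d) :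
    rename UGen.castSucc p ∈ WH (m + 1) d := by
  rw [mem_weightedHomogeneousSubmodule] at hp ⊢
  have h1 : p = ∑ ν ∈ p.support, monomial ν (coeff ν p) := p.as_sum
  rw [h1, map_sum]
  refine IsWeightedHomogeneous.sum _ _ _ fun ν hν => ?_
  rw [rename_monomial]
  refine isWeightedHomogeneous_monomial _ _ _ ?_
  have h2 : Finsupp.weight (uwt (m := m)) ν = d := hp (mem_support_iff.1 hν)
  rw [← h2, Finsupp.weight, Finsupp.weight]
  simp only [LinearMap.toAddMonoidHom_coe]
  rw [Finsupp.linearCombination_mapDomain]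
  have : (uwt (m := m + 1)) ∘ UGen.castSucc = uwt (m := m) := funext fun g => uwt_castSucc g
  rw [this]

theorem uincl_mem_upiece (m : ℕ) {d : ℕ} {x : URing ℤ m} (hx : x ∈ upiece ℤ m d) :
    uincl ℤ m x ∈ upiece ℤ (m + 1) d := by
  obtain ⟨p, hp, rfl⟩ := (GrQuot.mem_quot_iff (WH m) _ d x).1 hx
  have : uincl ℤ m (Ideal.Quotient.mk _ p) =
      Ideal.Quotient.mk (Ideal.span (URel ℤ (m + 1))) (rename UGen.castSucc p) := by
    unfold uincl
    refine (Ideal.Quotient.liftₐ_apply _ _ _ _).trans ?_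
    refine (Ideal.Quotient.lift_mk _ _ _).trans ?_
    rfl
  rw [this]
  exact GrQuot.mk_mem_quot (WH (m + 1)) _ (rename_mem_WH hp)

/-- degree of the standard monomial indices -/
def degI {m : ℕ} : Option (ℕ ⊕ (CVar m × ℕ)) → ℕ
  | none => 0
  | some (Sum.inl k) => k + 2
  | some (Sum.inr (_, k)) => k + 1

theorem card_CVar (m : ℕ) : Nat.card (CVar m) = m + 2 := by
  let g : Option (Option (Fin m)) → CVar m
    | none => .x2
    | some none => .x3
    | some (some i) => .xi i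
  have hg : Function.Bijective g := by
    constructor
    · intro a b h
      rcases a with _ | _ | i <;> rcases b with _ | _ | j <;> simp [g] at h ⊢
      exact h
    · intro y
      rcases y with _ | _ | i
      · exact ⟨none, rfl⟩
      · exact ⟨some none, rfl⟩
      · exact ⟨some (some i), rfl⟩
  rw [← Nat.card_congr (Equiv.ofBijective g hg), Nat.card_eq_fintype_card]
  simp

theorem card_degI (m d : ℕ) :
    Finite {n : Option (ℕ ⊕ (CVar m × ℕ)) // degI n = d} ∧
    Nat.card {n : Option (ℕ ⊕ (CVar m × ℕ)) // degI n = d} =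
      if d = 0 then 1 else if d = 1 then m + 2 else m + 3 := by
  haveI : Finite (CVar m) := Nat.finite_of_card_ne_zero (by rw [card_CVar]; omega)
  rcases d with _ | _ | e
  · let f : Unit → {n : Option (ℕ ⊕ (CVar m × ℕ)) // degI n = 0} := fun _ => ⟨none, rfl⟩
    have hf : Function.Bijective f := by
      constructor
      · intro a b _; rfl
      · rintro ⟨n, hn⟩
        rcases n with _ | k | ⟨y, k⟩
        · exact ⟨(), rfl⟩
        · simp [degI] at hn
        · simp [degI] at hn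
    refine ⟨Finite.of_equiv _ (Equiv.ofBijective f hf), ?_⟩
    rw [← Nat.card_congr (Equiv.ofBijective f hf)]
    simp
  · let f : CVar m → {n : Option (ℕ ⊕ (CVar m × ℕ)) // degI n = 1} :=
      fun y => ⟨some (Sum.inr (y, 0)), rfl⟩
    have hf : Function.Bijective f := by
      constructor
      · intro a b h
        have := congrArg Subtype.val h
        simpa [f] using this
      · rintro ⟨n, hn⟩
        rcases n with _ | k | ⟨y, k⟩
        · simp [degI] at hn
        · simp [degI] at hn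
        · simp [degI] at hn
          subst hn
          exact ⟨y, rfl⟩
    refine ⟨Finite.of_equiv _ (Equiv.ofBijective f hf), ?_⟩
    rw [← Nat.card_congr (Equiv.ofBijective f hf), card_CVar]
    simp
  · let f : Option (CVar m) → {n : Option (ℕ ⊕ (CVar m × ℕ)) // degI n = e + 1 + 1}
      | none => ⟨some (Sum.inl e), rfl⟩
      | some y => ⟨some (Sum.inr (y, e + 1)), rfl⟩
    have hf : Function.Bijective f := by
      constructor
      · intro a b h
        have h' := congrArg Subtype.val h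
        rcases a with _ | a <;> rcases b with _ | b <;> simp [f] at h' ⊢
        exact h'
      · rintro ⟨n, hn⟩
        rcases n with _ | k | ⟨y, k⟩
        · simp [degI] at hn
        · simp [degI] at hn
          subst hn
          exact ⟨none, rfl⟩
        · simp [degI] at hn
          subst hn
          exact ⟨some y, rfl⟩
    refine ⟨Finite.of_equiv _ (Equiv.ofBijective f hf), ?_⟩
    rw [← Nat.card_congr (Equiv.ofBijective f hf)]
    haveI : Fintype (CVar m) := Fintype.ofFinite _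
    rw [Nat.card_eq_fintype_card, Fintype.card_option, ← Nat.card_eq_fintype_card, card_CVar]
    simp

/-- the Hilbert series factor -/
noncomputable def Gfac (m : ℕ) : PowerSeries ℤ :=
  (PowerSeries.mk fun _ => (1 : ℤ)) *
    (1 + PowerSeries.C ((m + 1 : ℕ) : ℤ) * PowerSeries.X + PowerSeries.X ^ 2)

theorem coeff_Gfac (m d : ℕ) :
    PowerSeries.coeff d (Gfac m) = if d = 0 then 1 else if d = 1 then (m + 2 : ℤ) else m + 3 := by
  have e : Gfac m = (PowerSeries.mk fun _ => (1 : ℤ)) +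
      PowerSeries.C ((m + 1 : ℕ) : ℤ) * ((PowerSeries.mk fun _ => (1 : ℤ)) * PowerSeries.X) +
      (PowerSeries.mk fun _ => (1 : ℤ)) * PowerSeries.X * PowerSeries.X := by
    unfold Gfac; ring
  rw [e]
  rcases d with _ | _ | k
  · simp
  · simp only [map_add, PowerSeries.coeff_C_mul, PowerSeries.coeff_succ_mul_X,
      PowerSeries.coeff_zero_mul_X, PowerSeries.coeff_mk]
    simp
    ring
  · simp only [map_add, PowerSeries.coeff_C_mul, PowerSeries.coeff_succ_mul_X,
      PowerSeries.coeff_mk]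
    simp
    ring

theorem uhilb_succ (m : ℕ) (hm : 2 ≤ m) : uhilb (m + 1) = uhilb m * Gfac m := by
  unfold uhilb Gfac
  rw [Finset.prod_Icc_succ_top (by omega : 3 ≤ m + 1)]
  push_cast
  ring

theorem uhilb_two : uhilb 2 = (PowerSeries.mk fun _ => (1 : ℤ)) ^ 6 := by
  unfold uhilb
  simp

open Module

/-- existence of a homogeneous basis with the right count -/
def HasGB (m : ℕ) : Prop :=
  ∃ (J : Type) (deg : J → ℕ) (B : Basis J ℤ (URing ℤ m)),
    (∀ j, B j ∈ upiece ℤ m (deg j)) ∧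
    (∀ d, Finite {j // deg j = d}) ∧
    (∀ d, (Nat.card {j // deg j = d} : ℤ) = PowerSeries.coeff d (uhilb m))

theorem hasGB_two : HasGB 2 := by
  have hbij := Groth.Agent.S18247.result
  set g : Fin 6 → URing ℤ 2 := ![ugen ℤ 2 .a, ugen ℤ 2 (.ci 0), ugen ℤ 2 (.cbi 0), ugen ℤ 2 (.ci 1),
    ugen ℤ 2 (.cbi 1), ugen ℤ 2 (.cij 0 1 Fin.zero_ne_one)] with hg
  have hg1 : ∀ i, g i ∈ upiece ℤ 2 1 := by
    intro i
    fin_cases i
    · change ugen ℤ 2 UGen.a ∈ _
      exact ugen_mem_upiece 2 UGen.a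
    · change ugen ℤ 2 (UGen.ci 0) ∈ _
      exact ugen_mem_upiece 2 (UGen.ci 0)
    · change ugen ℤ 2 (UGen.cbi 0) ∈ _
      exact ugen_mem_upiece 2 (UGen.cbi 0)
    · change ugen ℤ 2 (UGen.ci 1) ∈ _
      exact ugen_mem_upiece 2 (UGen.ci 1)
    · change ugen ℤ 2 (UGen.cbi 1) ∈ _
      exact ugen_mem_upiece 2 (UGen.cbi 1)
    · change ugen ℤ 2 (UGen.cij 0 1 Fin.zero_ne_one) ∈ _
      exact ugen_mem_upiece 2 (UGen.cij 0 1 Fin.zero_ne_one)
  let φ : MvPolynomial (Fin 6) ℤ ≃ₗ[ℤ] URing ℤ 2 :=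
    (AlgEquiv.ofBijective (MvPolynomial.aeval (R := ℤ) (S₁ := URing ℤ 2) g) hbij).toLinearEquiv
  let B : Basis (Fin 6 → ℕ) ℤ (URing ℤ 2) :=
    ((basisMonomials (Fin 6) ℤ).reindex Finsupp.equivFunOnFinite).map φ
  refine ⟨Fin 6 → ℕ, fun f => ∑ i, f i, B, ?_, ?_, ?_⟩
  · intro f
    have e1 : B f = ∏ i, g i ^ f i := by
      simp only [B, Basis.map_apply, Basis.reindex_apply, coe_basisMonomials, φ,
        AlgEquiv.toLinearEquiv_apply, AlgEquiv.coe_ofBijective, aeval_monomial, map_one, one_mul]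
      rw [Finsupp.prod_fintype _ _ (fun i => pow_zero _)]
      rfl
    rw [e1]
    have := SetLike.prod_pow_mem_graded (A := GrQuot.quot (WH 2) (Ideal.span (URel ℤ 2)))
      (F := Finset.univ) (i := fun _ : Fin 6 => 1) (g := g) f (fun k _ => hg1 k)
    simp only [smul_eq_mul, mul_one] at this
    exact this
  · intro d; exact (card_fin_fun 6 d).1
  · intro d
    rw [uhilb_two]
    exact (card_fin_fun 6 d).2

theorem urel_ugen (m : ℕ) :
    ∀ p ∈ URel (URing ℤ m) m, MvPolynomial.eval (ugen ℤ m) p = 0 := by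
  rintro p (((⟨⟨⟨i, j⟩, h⟩, rfl⟩ | ⟨⟨⟨i, j⟩, h⟩, rfl⟩) | ⟨⟨⟨i, j⟩, h⟩, rfl⟩) |
    ⟨⟨⟨i, j, k⟩, h1, h2, h3⟩, rfl⟩)
  · simp only [map_sub, map_add, map_mul, eval_X]
    rw [sub_eq_zero]
    exact Helper16UCurve.rel_lin ℤ m i j h
  · simp only [map_sub, map_add, map_mul, eval_X]
    rw [sub_eq_zero]
    exact (Helper16UCurve.rel_c ℤ m i j h).symm
  · simp only [map_sub, map_add, map_mul, eval_X]
    rw [sub_eq_zero]
    exact (Helper16UCurve.rel_cb ℤ m i j h).symm
  · simp only [map_sub, map_add, map_mul, eval_X]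
    rw [sub_eq_zero]
    exact Helper16UCurve.rel_cubic ℤ m i j k h1 h2 h3

theorem hasGB_succ (m : ℕ) (hm : 2 ≤ m) (h : HasGB m) : HasGB (m + 1) := by
  obtain ⟨J, deg, B, hB, hfin, hcnt⟩ := h
  have hm1 : 1 ≤ m := by omega
  obtain ⟨hli, hsp⟩ := (Groth.Agent.S18246.result (URing ℤ m) m hm1 (ugen ℤ m)).2 (urel_ugen m)
  let bC : Basis (Option (ℕ ⊕ (CVar m × ℕ))) (URing ℤ m) (CurveAlg (URing ℤ m) m (ugen ℤ m)) :=
    Basis.mk hli (by rw [hsp])
  obtain ⟨e, he1, he2, he3, he4⟩ := Groth.Agent.S18252.result ℤ m hm1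
  let B' : Basis (J × Option (ℕ ⊕ (CVar m × ℕ))) ℤ (CurveAlg (URing ℤ m) m (ugen ℤ m)) :=
    B.smulTower bC
  let eL : CurveAlg (URing ℤ m) m (ugen ℤ m) ≃ₗ[ℤ] URing ℤ (m + 1) :=
    e.toAddEquiv.toIntLinearEquiv
  let B'' : Basis (J × Option (ℕ ⊕ (CVar m × ℕ))) ℤ (URing ℤ (m + 1)) := B'.map eL
  have hval : ∀ p, B'' p = uincl ℤ m (B p.1) * e (cmon (URing ℤ m) m (ugen ℤ m) p.2) := by
    intro p
    simp only [B'', B', Basis.map_apply, Basis.smulTower_apply, bC, Basis.coe_mk]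
    show e (B p.1 • cmon (URing ℤ m) m (ugen ℤ m) p.2) = _
    have hs : B p.1 • cmon (URing ℤ m) m (ugen ℤ m) p.2 =
        algebraMap (URing ℤ m) (CurveAlg (URing ℤ m) m (ugen ℤ m)) (B p.1) *
          cmon (URing ℤ m) m (ugen ℤ m) p.2 :=
      Algebra.smul_def (B p.1) (cmon (URing ℤ m) m (ugen ℤ m) p.2)
    rw [hs, map_mul, he1]
  -- images of the variables have weight one
  have hy : ∀ y : CVar m, e (Ideal.Quotient.mk (Ideal.span (CRel (URing ℤ m) m (ugen ℤ m)))
      (MvPolynomial.X y)) ∈ upiece ℤ (m + 1) 1 := by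
    intro y
    rcases y with _ | _ | i
    · rw [he2]; exact ugen_mem_upiece (m + 1) (UGen.ci (Fin.last m))
    · rw [he3]
      exact add_mem (add_mem (ugen_mem_upiece (m + 1) UGen.a)
        (ugen_mem_upiece (m + 1) (UGen.ci (Fin.last m))))
        (ugen_mem_upiece (m + 1) (UGen.cbi (Fin.last m)))
    · rw [he4]
      exact ugen_mem_upiece (m + 1) (UGen.cij i.castSucc (Fin.last m) (Fin.castSucc_lt_last i).ne)
  have hcm : ∀ n, e (cmon (URing ℤ m) m (ugen ℤ m) n) ∈ upiece ℤ (m + 1) (degI n) := by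
    intro n
    rcases n with _ | k | ⟨y, k⟩
    · simp only [cmon, degI, map_one]
      exact one_mem_upiece (m + 1)
    · simp only [cmon, degI, map_mul, map_pow]
      have h1 := pow_mem_upiece (m + 1) (hy CVar.x2) (k + 1)
      have h2 := mul_mem_upiece (m + 1) h1 (hy CVar.x3)
      have e1 : (k + 1) * 1 + 1 = k + 2 := by ring
      rw [e1] at h2
      exact h2
    · simp only [cmon, degI, map_pow]
      have h1 := pow_mem_upiece (m + 1) (hy y) (k + 1)
      rw [mul_one] at h1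
      exact h1
  refine ⟨J × Option (ℕ ⊕ (CVar m × ℕ)), fun p => deg p.1 + degI p.2, B'', ?_, ?_, ?_⟩
  · intro p
    rw [hval]
    exact mul_mem_upiece (m + 1) (uincl_mem_upiece m (hB p.1)) (hcm p.2)
  · intro d
    exact (finite_prod_fiber deg degI hfin (fun d => (card_degI m d).1) d).1
  · intro d
    rw [(finite_prod_fiber deg degI hfin (fun d => (card_degI m d).1) d).2, uhilb_succ m hm,
      PowerSeries.coeff_mul]
    push_cast
    refine Finset.sum_congr rfl fun pq _ => ?_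
    rw [hcnt, (card_degI m pq.2).2, coeff_Gfac]
    congr 1
    split_ifs <;> push_cast <;> ring

theorem hasGB (m : ℕ) (hm : 2 ≤ m) : HasGB m := by
  induction m, hm using Nat.le_induction with
  | base => exact hasGB_two
  | succ m hm ih => exact hasGB_succ m hm ih


/-- Let m ≥ 2, so that n = m + 3 ≥ 5 points are marked. Grade the coordinate ring of U_n over ℤ by
giving the generators a, c_i, c̄_i, c_{ij} weight 1 and c, c̄ weight 2 (the defining relations are
weighted-homogeneous). Then the coordinate ring of U_n is a free ℤ-module, it is the internal direct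
sum of its weight pieces (the weight-d piece being the image of the weighted-homogeneous polynomials
of weight d), and the weight-d piece has rank the coefficient of t^d in the power series (1 −
t)^{−(n+1)} ∏_{k=3}^{n−3} (1 + k t + t²). -/
theorem result (m : ℕ) (hm : 2 ≤ m) :
    Module.Free ℤ (URing ℤ m) ∧ DirectSum.IsInternal (upiece ℤ m) ∧
      ∀ d : ℕ, (Module.finrank ℤ (upiece ℤ m d) : ℤ) = PowerSeries.coeff d (uhilb m) := by
  obtain ⟨J, deg, B, hB, hfin, hcnt⟩ := hasGB m hm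
  refine ⟨Module.Free.of_basis B, upiece_internal m, ?_⟩
  intro d
  rw [finrank_piece_eq (upiece ℤ m) (upiece_indep m) B deg hB d]
  exact hcnt d

end Groth.Agent.S18249
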