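import Groth.Statements.S1825
import Groth.Agent.Lib.Helper5FlatDual
import Groth.Agent.Lib.Helper3HzP

set_option autoImplicit false
universe u
open CategoryTheory
attribute [local instance] HasDerivedCategory.standard
open Dual

namespace Groth.Agent.S1825

/-- Let A be a Noetherian local ring, B a henselization of A (a Noetherian local ring with a local
homomorphism A → B exhibiting it as such) and ω a dualizing complex for A. Assuming the derived base
change functor D(A) → D(B) along A → B exists (carried as an instance binder), the base change of ω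
to B is a dualizing complex for B. -/
theorem result (A B : Type u) [CommRing A] [IsLocalRing A] [IsNoetherianRing A] [CommRing B] [IsLocalRing B] [IsNoetherianRing B] [Algebra A B] [IsLocalHom (algebraMap A B)] [Hensel.IsHenselization A B] [DRing.HasLBaseChange (algebraMap A B)] (ω : Dual.D A) (hω : Dual.IsDualizing A ω) : Dual.IsDualizing B ((DRing.LBaseChange (algebraMap A B)).obj ω) := by
  haveI : Module.FaithfullyFlat A B := Groth.Agent.Lib.Helper3.HzP.hz_faithfullyFlat A B
  have hm := Groth.Agent.Lib.Helper3.HzP.hz_map_maximalIdeal A B
  obtain ⟨e⟩ := Groth.Agent.Lib.Helper5.LocD.lbc_iso_extD B ω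
  have hq : ∀ q : Ideal B, q.IsMaximal → ∃ p : Ideal A, p.map (algebraMap A B) = q :=
    fun q hqm => ⟨IsLocalRing.maximalIdeal A, hm.trans (IsLocalRing.eq_maximalIdeal hqm).symm⟩
  exact Groth.Agent.Lib.Helper5.LocD.isDualizing_of_iso e.symm
    (Groth.Agent.Lib.Helper5.FlatDual.isDualizing_extD_of_maximal B ω hω hq)

end Groth.Agent.S1825
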