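import Groth.Statements.S18251
import Mathlib
import Groth.Agent.Lib.Helper27Grob

set_option autoImplicit false
universe u
open W4c5m1nsnscurves
open Curves

namespace Groth.Agent.S18251

/-- Case n = 3: let R be a commutative ring and a, b, c, d elements of R (a point of U_3, which is
affine 4-space, so no condition is imposed). Then in the R-algebra R[x_2, x_3]/(x_2 x_3² − x_2² x_3
− a x_2 x_3 − b x_2 − c x_3 − d) the classes of the monomials 1, x_2^k x_3, x_2^k and x_3^k (k ≥ 1)
are linearly independent over R and span, i.e. form an R-basis. -/
theorem result (R : Type u) [CommRing R] (a b c d : R) :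
    LinearIndependent R (cmon3 R a b c d) ∧
      Submodule.span R (Set.range (cmon3 R a b c d)) = ⊤ := by
  rcases subsingleton_or_nontrivial R with hsub | hnt
  · have hM : Subsingleton (CurveAlg3 R a b c d) := Module.subsingleton R _
    constructor
    · show Function.Injective _
      exact Function.injective_of_subsingleton _
    · rw [eq_top_iff]
      intro x _
      rw [Subsingleton.elim x 0]
      exact Submodule.zero_mem _
  · exact ⟨Groth.Agent.Lib.Helper27Grob.linearIndependent_cmon3 R a b c d,
      Groth.Agent.Lib.Helper27Grob.span_cmon3 R a b c d⟩

end Groth.Agent.S18251
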