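import Groth.Statements.S18256
import Mathlib
-- import your own Groth.Agent.* helpers here

set_option autoImplicit false
universe u
open ArtFun

namespace Groth.Agent.S18256.Aux

namespace SmallFree
open TensorProduct ArtFun CategoryTheory

variable (R : Type u) [CommRing R] [IsLocalRing R]
  (k : Type u) [Field k] [Algebra R k]
  (M : Type u) [AddCommGroup M] [Module R M]

lemma ker_algebraMap (hk : Function.Surjective (algebraMap R k)) :
    RingHom.ker (algebraMap R k) = IsLocalRing.maximalIdeal R := by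
  have hmax : (RingHom.ker (algebraMap R k)).IsMaximal :=
    RingHom.ker_isMaximal_of_surjective (algebraMap R k) hk
  exact IsLocalRing.eq_maximalIdeal hmax

omit [IsLocalRing R] in
lemma tmul_one_eq_zero (B : Type u) [CommRing B] [Algebra R B] (J : Ideal R)
    (hJ : ∀ r ∈ J, algebraMap R B r = 0)
    (y : M) (hy : y ∈ (J • ⊤ : Submodule R M)) :
    y ⊗ₜ[R] (1 : B) = 0 := by
  refine Submodule.smul_induction_on hy ?_ ?_
  · intro j hj m' _
    rw [TensorProduct.smul_tmul]
    have : j • (1 : B) = 0 := by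
      rw [Algebra.smul_def, mul_one]
      exact hJ j hj
    rw [this, TensorProduct.tmul_zero]
  · intro a b ha hb
    rw [TensorProduct.add_tmul, ha, hb, add_zero]

omit [IsLocalRing R] in
/-- the kernel of `R/J → R/(J + (t))`. -/
lemma factor_ker (J : Ideal R) (t : R) (y : R ⧸ J) :
    (Ideal.Quotient.factorₐ R (le_sup_left : J ≤ J ⊔ Ideal.span {t})) y = 0 ↔
      ∃ c : R ⧸ J, y = c * algebraMap R (R ⧸ J) t := by
  obtain ⟨r, rfl⟩ := Ideal.Quotient.mk_surjective y
  have e : (Ideal.Quotient.factorₐ R (le_sup_left : J ≤ J ⊔ Ideal.span {t}))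
      (Ideal.Quotient.mk J r) = Ideal.Quotient.mk (J ⊔ Ideal.span {t}) r := rfl
  rw [e, Ideal.Quotient.eq_zero_iff_mem]
  constructor
  · intro hr
    obtain ⟨j, hj, s, hs, rfl⟩ := Submodule.mem_sup.mp hr
    obtain ⟨c, rfl⟩ := Ideal.mem_span_singleton'.mp hs
    refine ⟨Ideal.Quotient.mk J c, ?_⟩
    rw [map_add, Ideal.Quotient.eq_zero_iff_mem.mpr hj, zero_add, map_mul]
    rfl
  · rintro ⟨c, hc⟩
    obtain ⟨s, rfl⟩ := Ideal.Quotient.mk_surjective c
    have hc' : Ideal.Quotient.mk J r = Ideal.Quotient.mk J (s * t) := by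
      rw [hc, map_mul]; rfl
    rw [Ideal.Quotient.eq] at hc'
    have h1 : s * t ∈ J ⊔ Ideal.span {t} :=
      Ideal.mul_mem_left _ _ (Ideal.mem_sup_right (Ideal.mem_span_singleton_self t))
    have h2 : r - s * t ∈ J ⊔ Ideal.span {t} := Ideal.mem_sup_left hc'
    have := add_mem h2 h1
    simpa using this

/-- a criterion for a small extension. -/
lemma smallExt_of (A' A : Art R k) (p : A' ⟶ A)
    (hsurj : Function.Surjective (algebraMap R A')) (hp : Function.Surjective p.toAlgHom) (t : R)
    (hker : ∀ y : A', p.toAlgHom y = 0 ↔ ∃ c : A', y = c * algebraMap R A' t)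
    (ht0 : algebraMap R A' t ≠ 0)
    (hmt : ∀ a ∈ IsLocalRing.maximalIdeal R, algebraMap R A' (a * t) = 0) : Art.IsSmallExt p := by
  refine ⟨hp, ?_, ?_, ?_⟩
  · intro hbot
    have h1 : algebraMap R A' t ∈ RingHom.ker p.toAlgHom :=
      (RingHom.mem_ker).mpr ((hker _).mpr ⟨1, (one_mul _).symm⟩)
    rw [hbot, Ideal.mem_bot] at h1
    exact ht0 h1
  · refine ⟨⟨algebraMap R A' t, ?_⟩⟩
    ext y
    rw [RingHom.mem_ker, hker]
    change _ ↔ y ∈ Ideal.span {algebraMap R A' t}
    rw [Ideal.mem_span_singleton']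
    constructor
    · rintro ⟨c, rfl⟩; exact ⟨c, rfl⟩
    · rintro ⟨c, rfl⟩; exact ⟨c, rfl⟩
  · rw [eq_bot_iff, Ideal.mul_le]
    intro a ha b hb
    obtain ⟨c, rfl⟩ := (hker b).mp ((RingHom.mem_ker).mp hb)
    obtain ⟨a0, rfl⟩ := hsurj a
    have ha0 : a0 ∈ IsLocalRing.maximalIdeal R := by
      rw [IsLocalRing.mem_maximalIdeal, mem_nonunits_iff]
      intro hu
      exact (IsLocalRing.mem_maximalIdeal _).mp ha (hu.map (algebraMap R A'))
    have : algebraMap R A' a0 * (c * algebraMap R A' t) =
        c * algebraMap R A' (a0 * t) := by rw [map_mul]; ring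
    rw [this, hmt a0 ha0, mul_zero]
    exact Ideal.zero_mem _

/-- the consequence of injectivity, in plain ring terms. -/
theorem key_gen (B : Type u) [CommRing B] [Algebra R B] (I : Ideal B)
    (hinj : Function.Injective (LinearMap.lTensor M ((I.restrictScalars R).subtype)))
    (hsurj : Function.Surjective (algebraMap R B))
    (J : Ideal R) (hJ : ∀ r : R, algebraMap R B r = 0 ↔ r ∈ J) (t : R)
    (hI : ∀ y : B, y ∈ I ↔ ∃ c : B, y = c * algebraMap R B t)
    (htJ : t ∉ J) (hmt : ∀ a ∈ IsLocalRing.maximalIdeal R, a * t ∈ J)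
    (x : M) (hx : t • x ∈ (J • ⊤ : Submodule R M)) :
    x ∈ (IsLocalRing.maximalIdeal R • ⊤ : Submodule R M) := by
  set I' : Submodule R B := I.restrictScalars R with hI'
  have hg0 : algebraMap R B t ∈ I' := (hI _).mpr ⟨1, (one_mul _).symm⟩
  let g0 : I' := ⟨algebraMap R B t, hg0⟩
  have hz0 : x ⊗ₜ[R] g0 = (0 : M ⊗[R] I') := by
    apply hinj
    rw [map_zero, LinearMap.lTensor_tmul]
    change x ⊗ₜ[R] (algebraMap R B t) = 0
    have : (algebraMap R B t) = t • (1 : B) := by
      rw [Algebra.smul_def, mul_one]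
    rw [this, ← TensorProduct.smul_tmul]
    exact tmul_one_eq_zero R M B J (fun r hr => (hJ r).mpr hr) _ hx
  -- the functional
  let g : R →ₗ[R] I' := LinearMap.toSpanSingleton R I' g0
  have hg1 : g 1 = g0 := by simp [g]
  have hgval : ∀ s : R, ((g s : I') : B) = algebraMap R B (s * t) := by
    intro s
    simp only [g, LinearMap.toSpanSingleton_apply, g0, Submodule.coe_smul]
    rw [Algebra.smul_def, map_mul]
  have hgs : Function.Surjective g := by
    rintro ⟨y, hy⟩
    obtain ⟨c, rfl⟩ := (hI y).mp hy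
    obtain ⟨s, rfl⟩ := hsurj c
    refine ⟨s, ?_⟩
    apply Subtype.ext
    rw [hgval, map_mul]
  have hgk : LinearMap.ker g = IsLocalRing.maximalIdeal R := by
    ext s
    rw [LinearMap.mem_ker]
    have e1 : g s = 0 ↔ s * t ∈ J := by
      rw [← hJ, ← hgval]
      exact Subtype.ext_iff
    rw [e1]
    constructor
    · intro hst
      by_contra hs
      have hu : IsUnit s := by
        by_contra hnu
        exact hs ((IsLocalRing.mem_maximalIdeal s).mpr hnu)
      exact htJ ((Ideal.unit_mul_mem_iff_mem J hu).mp hst)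
    · exact fun hs => hmt s hs
  let ψ : I' →ₗ[R] R ⧸ IsLocalRing.maximalIdeal R :=
    (Submodule.quotEquivOfEq _ _ hgk).toLinearMap ∘ₗ (g.quotKerEquivOfSurjective hgs).symm.toLinearMap
  have hψ : ψ g0 = 1 := by
    have : (g.quotKerEquivOfSurjective hgs).symm g0 = Submodule.Quotient.mk 1 := by
      rw [LinearEquiv.symm_apply_eq, LinearMap.quotKerEquivOfSurjective_apply_mk, hg1]
    simp only [ψ, LinearMap.comp_apply, LinearEquiv.coe_coe, this]
    rfl
  have h3 : x ⊗ₜ[R] (1 : R ⧸ IsLocalRing.maximalIdeal R) = 0 := by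
    have := congrArg (LinearMap.lTensor M ψ) hz0
    rwa [LinearMap.lTensor_tmul, hψ, map_zero] at this
  have h4 := congrArg (TensorProduct.tensorQuotEquivQuotSMul M (IsLocalRing.maximalIdeal R)) h3
  rw [map_zero, ← map_one (Ideal.Quotient.mk _), TensorProduct.tensorQuotEquivQuotSMul_tmul_mk,
    one_smul, Submodule.Quotient.mk_eq_zero] at h4
  exact h4

theorem key [IsArtinianRing R] (hk : Function.Surjective (algebraMap R k))
    (h : ∀ (A' A : ArtFun.Art R k) (p : A' ⟶ A), ArtFun.Art.IsSmallExt p →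
      Function.Injective
        (LinearMap.lTensor M (((RingHom.ker p.toAlgHom).restrictScalars R).subtype)))
    (J : Ideal R) (t : R) (htJ : t ∉ J)
    (hmt : ∀ a ∈ IsLocalRing.maximalIdeal R, a * t ∈ J)
    (htm : t ∈ IsLocalRing.maximalIdeal R) (hJm : J ≤ IsLocalRing.maximalIdeal R)
    (x : M) (hx : t • x ∈ (J • ⊤ : Submodule R M)) :
    x ∈ (IsLocalRing.maximalIdeal R • ⊤ : Submodule R M) := by
  have hker := ker_algebraMap R k hk
  have hJJ2 : J ≤ J ⊔ Ideal.span {t} := le_sup_left
  have hJ2m : J ⊔ Ideal.span {t} ≤ IsLocalRing.maximalIdeal R :=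
    sup_le hJm ((Ideal.span_singleton_le_iff_mem _).mpr htm)
  have hJtop : J ≠ ⊤ := fun h => htJ (h ▸ Submodule.mem_top)
  have hJ2top : J ⊔ Ideal.span {t} ≠ ⊤ := fun h => (IsLocalRing.maximalIdeal.isMaximal R).ne_top
    (top_le_iff.mp (h ▸ hJ2m))
  have : Nontrivial (R ⧸ J) := Ideal.Quotient.nontrivial_iff.mpr hJtop
  have : Nontrivial (R ⧸ J ⊔ Ideal.span {t}) := Ideal.Quotient.nontrivial_iff.mpr hJ2top
  have : IsLocalRing (R ⧸ J) :=
    IsLocalRing.of_surjective' (Ideal.Quotient.mk J) Ideal.Quotient.mk_surjective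
  have : IsLocalRing (R ⧸ J ⊔ Ideal.span {t}) :=
    IsLocalRing.of_surjective' (Ideal.Quotient.mk _) Ideal.Quotient.mk_surjective
  have hz : ∀ (I : Ideal R), I ≤ IsLocalRing.maximalIdeal R → ∀ a ∈ I, (Algebra.ofId R k) a = 0 := by
    intro I hI a ha
    have : a ∈ RingHom.ker (algebraMap R k) := hker ▸ hI ha
    exact this
  let resJ : (R ⧸ J) →ₐ[R] k := Ideal.Quotient.liftₐ J (Algebra.ofId R k) (hz J hJm)
  let resJ2 : (R ⧸ J ⊔ Ideal.span {t}) →ₐ[R] k :=
    Ideal.Quotient.liftₐ _ (Algebra.ofId R k) (hz _ hJ2m)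
  have hresJ : Function.Surjective resJ := by
    intro c
    obtain ⟨r, rfl⟩ := hk c
    exact ⟨Ideal.Quotient.mk J r, rfl⟩
  have hresJ2 : Function.Surjective resJ2 := by
    intro c
    obtain ⟨r, rfl⟩ := hk c
    exact ⟨Ideal.Quotient.mk _ r, rfl⟩
  let A' : Art R k := Art.of (R ⧸ J) resJ hresJ
  let A : Art R k := Art.of (R ⧸ J ⊔ Ideal.span {t}) resJ2 hresJ2
  let p : A' ⟶ A := Art.homMk (Ideal.Quotient.factorₐ R hJJ2) (by
    apply AlgHom.ext
    intro y
    obtain ⟨r, rfl⟩ := Ideal.Quotient.mk_surjective y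
    rfl)
  have hsurj : Function.Surjective (algebraMap R A') := Ideal.Quotient.mk_surjective
  have hkerp : ∀ y : A', p.toAlgHom y = 0 ↔ ∃ c : A', y = c * algebraMap R A' t :=
    factor_ker R J t
  have hJ0 : ∀ r : R, algebraMap R A' r = 0 ↔ r ∈ J := fun r => Ideal.Quotient.eq_zero_iff_mem
  have hsmall : Art.IsSmallExt p := by
    refine smallExt_of R k A' A p hsurj (Ideal.Quotient.factor_surjective hJJ2) t hkerp ?_ ?_
    · rw [Ne, hJ0]; exact htJ
    · intro a ha
      rw [hJ0]; exact hmt a ha
  have hinj := h A' A p hsmall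
  exact key_gen R M A' (RingHom.ker p.toAlgHom) hinj hsurj J hJ0 t
    (fun y => (RingHom.mem_ker).trans (hkerp y)) htJ hmt x hx


/-- in a generating family of minimal cardinality, all coefficients of a relation are non-units. -/
lemma coeff_mem_of_min {n : ℕ} (b : Fin n → M)
    (hmin : ∀ n' < n, ∀ b' : Fin n' → M, Submodule.span R (Set.range b') ≠ ⊤)
    (hb : Submodule.span R (Set.range b) = ⊤)
    (f : Fin n → R) (hf : ∑ i, f i • b i = 0) (i : Fin n) :
    f i ∈ IsLocalRing.maximalIdeal R := by
  by_contra hi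
  have hu : IsUnit (f i) := by
    by_contra hnu
    exact hi ((IsLocalRing.mem_maximalIdeal _).mpr hnu)
  cases n with
  | zero => exact i.elim0
  | succ n' =>
    refine hmin n' (Nat.lt_succ_self n') (b ∘ i.succAbove) ?_
    rw [eq_top_iff, ← hb, Submodule.span_le]
    rintro _ ⟨j, rfl⟩
    have hbi : b i ∈ Submodule.span R (Set.range (b ∘ i.succAbove)) := by
      rw [Fin.sum_univ_succAbove _ i] at hf
      obtain ⟨u, hu'⟩ := hu
      have h1 : b i = -(↑u⁻¹ : R) • ∑ j, f (i.succAbove j) • b (i.succAbove j) := by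
        have h2 : f i • b i = -∑ j, f (i.succAbove j) • b (i.succAbove j) :=
          eq_neg_of_add_eq_zero_left hf
        rw [neg_smul, ← smul_neg, ← h2, ← hu', smul_smul, Units.inv_mul, one_smul]
      rw [h1]
      refine Submodule.smul_mem _ _ (Submodule.sum_mem _ fun j _ => Submodule.smul_mem _ _ ?_)
      exact Submodule.subset_span ⟨j, rfl⟩
    by_cases hji : j = i
    · rw [hji]; exact hbi
    · obtain ⟨j', rfl⟩ := Fin.exists_succAbove_eq hji
      exact Submodule.subset_span ⟨j', rfl⟩

/-- an element outside `J` whose multiples by the maximal ideal lie in `J`. -/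
lemma exists_socle [IsArtinianRing R] (J : Ideal R) (hJ : ¬ IsLocalRing.maximalIdeal R ≤ J) :
    ∃ t : R, t ∉ J ∧ t ∈ IsLocalRing.maximalIdeal R ∧
      ∀ a ∈ IsLocalRing.maximalIdeal R, a * t ∈ J := by
  classical
  have hnil : ∃ N : ℕ, IsLocalRing.maximalIdeal R ^ N ≤ J := by
    have h1 := IsArtinianRing.isNilpotent_jacobson_bot (R := R)
    rw [IsLocalRing.jacobson_eq_maximalIdeal ⊥ bot_ne_top] at h1
    obtain ⟨N, hN⟩ := h1
    exact ⟨N, by rw [hN]; exact bot_le⟩
  have hfind := Nat.find_spec hnil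
  have hmin := fun m => Nat.find_min hnil (m := m)
  rcases hN : Nat.find hnil with _ | N
  · exfalso
    rw [hN, pow_zero, Ideal.one_eq_top, top_le_iff] at hfind
    exact hJ (hfind ▸ le_top)
  · have h1 : ¬ IsLocalRing.maximalIdeal R ^ N ≤ J := hmin N (by omega)
    obtain ⟨t, htN, htJ⟩ := SetLike.not_le_iff_exists.mp h1
    have hmt : ∀ a ∈ IsLocalRing.maximalIdeal R, a * t ∈ J := by
      intro a ha
      apply hfind
      rw [hN, pow_succ']
      exact Ideal.mul_mem_mul ha htN
    refine ⟨t, htJ, ?_, hmt⟩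
    by_contra htm
    have hu : IsUnit t := by
      by_contra hnu
      exact htm ((IsLocalRing.mem_maximalIdeal _).mpr hnu)
    apply hJ
    intro a ha
    have := hmt a ha
    rwa [mul_comm, Ideal.unit_mul_mem_iff_mem J hu] at this

theorem main [IsArtinianRing R] [Module.Finite R M] (hk : Function.Surjective (algebraMap R k))
    (h : ∀ (A' A : ArtFun.Art R k) (p : A' ⟶ A), ArtFun.Art.IsSmallExt p →
      Function.Injective
        (LinearMap.lTensor M (((RingHom.ker p.toAlgHom).restrictScalars R).subtype))) :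
    Module.Free R M := by
  classical
  have hex : ∃ n : ℕ, ∃ b : Fin n → M, Submodule.span R (Set.range b) = ⊤ :=
    Module.Finite.exists_fin
  obtain ⟨b, hb⟩ := Nat.find_spec hex
  have hmin : ∀ n' < Nat.find hex, ∀ b' : Fin n' → M, Submodule.span R (Set.range b') ≠ ⊤ := by
    intro n' hn' b' hb'
    exact Nat.find_min hex hn' ⟨b', hb'⟩
  generalize Nat.find hex = n at b hb hmin
  have hA := coeff_mem_of_min R M b hmin hb
  -- the main induction
  have hQ : ∀ J : Ideal R, ∀ f : Fin n → R, ∑ i, f i • b i = 0 → ∀ i, f i ∈ J := by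
    intro J
    induction J using WellFoundedGT.induction with
    | _ J IH =>
      intro f hf i
      by_cases hmJ : IsLocalRing.maximalIdeal R ≤ J
      · exact hmJ (hA f hf i)
      · have hJtop : J ≠ ⊤ := fun h => hmJ (h ▸ le_top)
        have hJm : J ≤ IsLocalRing.maximalIdeal R := IsLocalRing.le_maximalIdeal hJtop
        obtain ⟨t, htJ, htm, hmt⟩ := exists_socle R J hmJ
        have hlt : J < J ⊔ Ideal.span {t} := by
          refine lt_of_le_of_ne le_sup_left fun heq => htJ ?_
          rw [heq]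
          exact Ideal.mem_sup_right (Ideal.mem_span_singleton_self t)
        have h1 := IH _ hlt f hf
        have h2 : ∀ i, ∃ y ∈ J, ∃ r : R, f i = y + r * t := by
          intro i
          obtain ⟨y, hy, s, hs, hys⟩ := Submodule.mem_sup.mp (h1 i)
          obtain ⟨r, rfl⟩ := Ideal.mem_span_singleton'.mp hs
          exact ⟨y, hy, r, hys.symm⟩
        choose y hy r hyr using h2
        have hx : t • (∑ i, r i • b i) ∈ (J • ⊤ : Submodule R M) := by
          have e : t • (∑ i, r i • b i) = -∑ i, y i • b i := by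
            rw [eq_neg_iff_add_eq_zero, Finset.smul_sum, ← Finset.sum_add_distrib, ← hf]
            refine Finset.sum_congr rfl fun i _ => ?_
            rw [hyr i, add_smul, smul_smul, mul_comm t, add_comm]
          rw [e]
          refine neg_mem (Submodule.sum_mem _ fun i _ => ?_)
          exact Submodule.smul_mem_smul (hy i) Submodule.mem_top
        have hx2 := key R k M hk h J t htJ hmt htm hJm _ hx
        rw [← hb, Submodule.mem_ideal_smul_span_iff_exists_sum] at hx2
        obtain ⟨a, ha, hsum⟩ := hx2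
        have hsum' : ∑ i, (r i - a i) • b i = 0 := by
          rw [Finsupp.sum_fintype _ _ (fun i => zero_smul R (b i))] at hsum
          simp only [sub_smul, Finset.sum_sub_distrib, hsum, sub_self]
        have hri : r i ∈ IsLocalRing.maximalIdeal R := by
          have := hA _ hsum' i
          have h3 := add_mem this (ha i)
          simpa using h3
        rw [hyr i]
        exact add_mem (hy i) (hmt _ hri)
  have hli : LinearIndependent R b := by
    rw [Fintype.linearIndependent_iff]
    intro f hf i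
    exact (Submodule.mem_bot R).mp (hQ ⊥ f hf i)
  exact Module.Free.of_basis (Module.Basis.mk hli hb.ge)

end SmallFree

end Groth.Agent.S18256.Aux

namespace Groth.Agent.S18256

open CategoryTheory TensorProduct in
/-- Let R be an Artinian local ring with residue field k and M a finitely generated R-module. Suppose
that for every small extension p : A' → A of local Artinian R-algebras with residue field k (p
surjective, its kernel I a nonzero principal ideal killed by the maximal ideal of A'), the map M ⊗_R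
I → M ⊗_R A' induced by the inclusion I ⊆ A' is injective (equivalently, the sequence 0 → M ⊗_R I →
M ⊗_R A' → M ⊗_R A → 0 is exact). Then M is a free R-module. (The printed conclusion reads free over
the residue field; the proof establishes freeness over R, which is what is stated here.) -/
theorem result
    (R : Type u) [CommRing R] [IsArtinianRing R] [IsLocalRing R]
    (k : Type u) [Field k] [Algebra R k] (hk : Function.Surjective (algebraMap R k))
    (M : Type u) [AddCommGroup M] [Module R M] [Module.Finite R M]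
    (h : ∀ (A' A : ArtFun.Art R k) (p : A' ⟶ A), ArtFun.Art.IsSmallExt p →
      Function.Injective
        (LinearMap.lTensor M (((RingHom.ker p.toAlgHom).restrictScalars R).subtype))) :
    Module.Free R M := by
  exact Aux.SmallFree.main R k M hk h

end Groth.Agent.S18256
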