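import Groth.Statements.S18257
import Groth.Agent.Lib.Helper17UnitsK5

set_option autoImplicit false
universe u
open UnitsSh

namespace Groth.Agent.S18257

open CategoryTheory CategoryTheory.Limits AlgebraicGeometry in
/-- In the case of the multiplicative group, for schemes and with Zariski cohomology of the sheaf of
units. Let A be a local ring with maximal ideal m, t a nonzero element of m with m·t = 0, and X' a
scheme flat over Spec A; let i : X ⟶ X' be the closed subscheme cut out by t (base change to A/(t))
and X₀ the closed fibre (base change to the residue field). If H^{q+1}(X₀, O_{X₀}) = 0, then the map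
H^q(X', O_{X'}^×) → H^q(X', i_* O_X^×) induced by the units map of i is surjective. (The published
statement covers any smooth commutative group scheme in place of the multiplicative group, with the
Lie algebra of its closed fibre in place of O_{X₀}, uses étale cohomology, and takes A Artinian;
this row allows any local ring A with t as stated.) -/
theorem result
    (A : Type u) [CommRing A] [IsLocalRing A]
    (t : A) (ht0 : t ≠ 0) (ht : t ∈ IsLocalRing.maximalIdeal A)
    (hmt : ∀ x ∈ IsLocalRing.maximalIdeal A, x * t = 0)
    (X' : Scheme.{u}) [X'.Over (Spec (CommRingCat.of A))] [Flat (X' ↘ Spec (CommRingCat.of A))]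
    (q : ℕ)
    (hvan : Subsingleton (Coh.HH
      (pullback (X' ↘ Spec (CommRingCat.of A)) (Spec.map (CommRingCat.ofHom (IsLocalRing.residue A))))
      (Coh.structureModule _) (q + 1))) :
    Function.Surjective (Sheaf.H.map (UnitsSh.comap
      (pullback.fst (X' ↘ Spec (CommRingCat.of A))
        (Spec.map (CommRingCat.ofHom (Ideal.Quotient.mk (Ideal.span ({t} : Set A))))))) q) := by
  have h0 := Groth.Agent.Lib.Helper17.UnitsK.subsingleton_HH_Q_max (X := X') (q + 1) hvan
  have hnil : IsNilpotent t := ⟨2, by rw [pow_two]; exact hmt t ht⟩
  have hker : RingHom.ker (Ideal.Quotient.mk (Ideal.span ({t} : Set A))) = Ideal.span {t} :=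
    Ideal.mk_ker
  have hc : Ideal.span ({t} : Set A) = Ideal.span (Set.range (fun _ : Fin 1 => t)) := by
    rw [Set.range_const]
  apply Groth.Agent.Lib.Helper17.UnitsK.surjective_H_comap (X := X')
    (Ideal.Quotient.mk (Ideal.span ({t} : Set A))) Ideal.Quotient.mk_surjective ?_
    (fun _ : Fin 1 => t) (hker.trans hc) q
  · have hf : Groth.Agent.Lib.Helper17.UnitsK.IsKer (Ideal.span ({t} : Set A))
        (UnitsSh.comap (Groth.Agent.Lib.Helper17.UnitsK.iB (X := X')
          (Ideal.Quotient.mk (Ideal.span ({t} : Set A))))) := by
      have h := Groth.Agent.Lib.Helper17.UnitsK.isKer_comap (X := X')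
        (Ideal.Quotient.mk (Ideal.span ({t} : Set A))) Ideal.Quotient.mk_surjective
      rwa [Ideal.mk_ker] at h
    exact Groth.Agent.Lib.Helper17.UnitsK.subsingleton_H_kernel_socle t ht0 hmt (q + 1) h0 _ hf
      hnil ht
  · intro b hb
    rw [hker] at hb
    obtain ⟨x, rfl⟩ := Ideal.mem_span_singleton'.1 hb
    exact Commute.isNilpotent_mul_left (Commute.all _ _) hnil

end Groth.Agent.S18257
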