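import Groth.Statements.S18258
import Groth.Agent.Lib.Helper17UnitsK6
import Groth.Agent.Lib.Helper12FieldGpd

set_option autoImplicit false
universe u
open UnitsSh

namespace Groth.Agent.S18258

open CategoryTheory CategoryTheory.Limits AlgebraicGeometry in
/-- In the case of the multiplicative group, for schemes and with Zariski cohomology of the sheaf of
units. Let k be a field, X₀ a k-scheme, X' = X₀ ×_k Spec k[ε] (k[ε] the dual numbers) and i : X ⟶ X'
the closed subscheme ε = 0 (base change of X' along k[ε] → k, a copy of X₀). Then for every q the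
kernel of the map H^q(X', O_{X'}^×) → H^q(X', i_* O_X^×) induced by the units map of i — the tangent
space at the origin of the functor A ↦ H^q(X₀ ⊗_k A, O^×) on local Artinian k-algebras — is
isomorphic, as an additive group, to H^q(X, O_X). (Existence of an isomorphism only. The published
statement covers any smooth commutative group scheme in place of the multiplicative group, with the
Lie algebra of its closed fibre in place of the structure sheaf, and uses étale cohomology.) -/
theorem result
    (k : Type u) [Field k] (X₀ : Scheme.{u}) [X₀.Over (Spec (CommRingCat.of k))] (q : ℕ) :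
    Nonempty ((Sheaf.H.map (UnitsSh.comap (pullback.fst (pullback.snd (X₀ ↘ Spec (CommRingCat.of k)) (Spec.map (CommRingCat.ofHom (algebraMap k (DualNumber k))))) (Spec.map (CommRingCat.ofHom (TrivSqZeroExt.fstHom k k k).toRingHom)))) q).ker ≃+
      Coh.HH (pullback (pullback.snd (X₀ ↘ Spec (CommRingCat.of k)) (Spec.map (CommRingCat.ofHom (algebraMap k (DualNumber k))))) (Spec.map (CommRingCat.ofHom (TrivSqZeroExt.fstHom k k k).toRingHom))) (Coh.structureModule (pullback (pullback.snd (X₀ ↘ Spec (CommRingCat.of k)) (Spec.map (CommRingCat.ofHom (algebraMap k (DualNumber k))))) (Spec.map (CommRingCat.ofHom (TrivSqZeroExt.fstHom k k k).toRingHom)))) q) := by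
  letI inst : (pullback (X₀ ↘ Spec (CommRingCat.of k))
      (Spec.map (CommRingCat.ofHom (algebraMap k (DualNumber k))))).Over
      (Spec (CommRingCat.of (DualNumber k))) := ⟨pullback.snd _ _⟩
  haveI : Flat (X₀ ↘ Spec (CommRingCat.of k)) :=
    Groth.Agent.Lib.Helper12.FieldGpd.flat_of_field k X₀ _
  haveI : Flat (pullback (X₀ ↘ Spec (CommRingCat.of k))
      (Spec.map (CommRingCat.ofHom (algebraMap k (DualNumber k)))) ↘
      Spec (CommRingCat.of (DualNumber k))) :=
    MorphismProperty.pullback_snd (P := @Flat) _ _ inferInstance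
  have hφ : Function.Surjective (TrivSqZeroExt.fstHom k k k).toRingHom :=
    TrivSqZeroExt.fst_surjective
  have ht0 : (DualNumber.eps : DualNumber k) ≠ 0 := by
    intro h
    have h1 := congrArg TrivSqZeroExt.snd h
    rw [DualNumber.snd_eps, TrivSqZeroExt.snd_zero] at h1
    exact one_ne_zero h1
  have hm : IsLocalRing.maximalIdeal (DualNumber k) = Ideal.span {DualNumber.eps} :=
    DualNumber.maximalIdeal_eq_span_singleton_eps
  have ht : (DualNumber.eps : DualNumber k) ∈ IsLocalRing.maximalIdeal (DualNumber k) := by
    rw [hm]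
    exact Ideal.mem_span_singleton_self _
  have hmt : ∀ x ∈ IsLocalRing.maximalIdeal (DualNumber k), x * DualNumber.eps = 0 := by
    intro x hx
    rw [hm] at hx
    obtain ⟨y, rfl⟩ := Ideal.mem_span_singleton'.1 hx
    rw [mul_assoc, DualNumber.eps_mul_eps, mul_zero]
  have hker : RingHom.ker (TrivSqZeroExt.fstHom k k k).toRingHom =
      Ideal.span {(DualNumber.eps : DualNumber k)} := by
    ext x
    rw [RingHom.mem_ker, Ideal.mem_span_singleton]
    exact DualNumber.fst_eq_zero_iff_eps_dvd
  have hfa : Spec.map (CommRingCat.ofHom (TrivSqZeroExt.fstHom k k k).toRingHom) ≫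
      Spec.map (CommRingCat.ofHom (algebraMap k (DualNumber k))) = 𝟙 _ := by
    rw [← Spec.map_comp]
    have h1 : CommRingCat.ofHom (algebraMap k (DualNumber k)) ≫
        CommRingCat.ofHom (TrivSqZeroExt.fstHom k k k).toRingHom = 𝟙 (CommRingCat.of k) := by
      ext c
      change TrivSqZeroExt.fst (algebraMap k (DualNumber k) c) = c
      rw [TrivSqZeroExt.algebraMap_eq_inl, TrivSqZeroExt.fst_inl]
    rw [h1, Spec.map_id]
  let Ψ : pullback (X₀ ↘ Spec (CommRingCat.of k))
      (Spec.map (CommRingCat.ofHom (algebraMap k (DualNumber k)))) ⟶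
      pullback (X₀ ↘ Spec (CommRingCat.of k))
      (Spec.map (CommRingCat.ofHom (algebraMap k (DualNumber k)))) :=
    pullback.lift (pullback.fst _ _)
      (pullback.snd _ _ ≫ Spec.map (CommRingCat.ofHom (algebraMap k (DualNumber k))) ≫
        Spec.map (CommRingCat.ofHom (TrivSqZeroExt.fstHom k k k).toRingHom)) (by
      rw [Category.assoc, Category.assoc, hfa, Category.comp_id]
      exact pullback.condition)
  have hΨ1 : Ψ ≫ pullback.fst _ _ = pullback.fst _ _ := pullback.lift_fst _ _ _
  have hΨ2 : Ψ ≫ pullback.snd _ _ = pullback.snd _ _ ≫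
      Spec.map (CommRingCat.ofHom (algebraMap k (DualNumber k))) ≫
        Spec.map (CommRingCat.ofHom (TrivSqZeroExt.fstHom k k k).toRingHom) :=
    pullback.lift_snd _ _ _
  let r : pullback (X₀ ↘ Spec (CommRingCat.of k))
      (Spec.map (CommRingCat.ofHom (algebraMap k (DualNumber k)))) ⟶
      pullback (pullback.snd (X₀ ↘ Spec (CommRingCat.of k))
        (Spec.map (CommRingCat.ofHom (algebraMap k (DualNumber k)))))
        (Spec.map (CommRingCat.ofHom (TrivSqZeroExt.fstHom k k k).toRingHom)) :=
    pullback.lift Ψ (pullback.snd _ _ ≫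
      Spec.map (CommRingCat.ofHom (algebraMap k (DualNumber k)))) (by
      rw [hΨ2, Category.assoc])
  have hr1 : r ≫ pullback.fst _ _ = Ψ := pullback.lift_fst _ _ _
  have hr2 : r ≫ pullback.snd _ _ = pullback.snd _ _ ≫
      Spec.map (CommRingCat.ofHom (algebraMap k (DualNumber k))) := pullback.lift_snd _ _ _
  have hr : pullback.fst (pullback.snd (X₀ ↘ Spec (CommRingCat.of k))
        (Spec.map (CommRingCat.ofHom (algebraMap k (DualNumber k)))))
        (Spec.map (CommRingCat.ofHom (TrivSqZeroExt.fstHom k k k).toRingHom)) ≫ r = 𝟙 _ := by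
    apply pullback.hom_ext
    · rw [Category.assoc, hr1, Category.id_comp]
      apply pullback.hom_ext
      · rw [Category.assoc, hΨ1]
      · rw [Category.assoc, hΨ2, pullback.condition_assoc, ← Category.assoc (Spec.map _) (Spec.map _),
          hfa, Category.id_comp, pullback.condition]
    · rw [Category.assoc, hr2, pullback.condition_assoc, hfa, Category.comp_id, Category.id_comp]
  exact Groth.Agent.Lib.Helper17.UnitsK.nonempty_ker_equiv_HH
    (X := pullback (X₀ ↘ Spec (CommRingCat.of k))
      (Spec.map (CommRingCat.ofHom (algebraMap k (DualNumber k)))))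
    (TrivSqZeroExt.fstHom k k k).toRingHom hφ DualNumber.eps ht0 hmt ht hker hm r hr q

end Groth.Agent.S18258
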