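import Groth.Statements.S18265
import Mathlib.Tactic
import Mathlib.RingTheory.IntegralClosure.IntegrallyClosed
import Mathlib.RingTheory.Polynomial.UniqueFactorization

set_option autoImplicit false
universe u
open InvQ

namespace Groth.Agent.S18265


/-- A subalgebra `R` of an integrally closed domain `S` that is closed under exact division
(`a, b ∈ R`, `b ≠ 0`, `a = b * s` imply `s ∈ R`) is integrally closed. -/
theorem isIntegrallyClosed_subalgebra_of_div_closed {k S : Type*} [CommRing k] [CommRing S] [IsDomain S]
    [Algebra k S] [IsIntegrallyClosed S] (R : Subalgebra k S)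
    (hdiv : ∀ a b s : S, a ∈ R → b ∈ R → b ≠ 0 → a = b * s → s ∈ R) : IsIntegrallyClosed R := by
  let K := FractionRing S
  let g : R →+* K := (algebraMap S K).comp R.val.toRingHom
  have hg : Function.Injective g := (IsFractionRing.injective S K).comp Subtype.val_injective
  rw [isIntegrallyClosed_iff (FractionRing R)]
  intro x hx
  obtain ⟨a, b, hb, rfl⟩ := IsFractionRing.div_surjective R x
  let φ : FractionRing R →+* K := IsFractionRing.lift hg
  have hφ : ∀ r : R, φ (algebraMap R (FractionRing R) r) = algebraMap S K (r : S) := by
    intro r
    simp [φ, g]
  have h1 : IsIntegral S (φ (algebraMap R (FractionRing R) a / algebraMap R (FractionRing R) b)) := by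
    obtain ⟨p, hp, hpx⟩ := hx
    refine ⟨(p.map R.val.toRingHom), hp.map _, ?_⟩
    rw [Polynomial.eval₂_map]
    have : (algebraMap S K).comp R.val.toRingHom = φ.comp (algebraMap R (FractionRing R)) := by
      ext r
      simp [hφ]
    rw [this, ← Polynomial.hom_eval₂, hpx, map_zero]
  obtain ⟨s, hs⟩ := (isIntegrallyClosed_iff K).mp inferInstance h1
  have hb0 : b ≠ 0 := nonZeroDivisors.ne_zero hb
  have hb0' : (b : S) ≠ 0 := fun h => hb0 (Subtype.ext h)
  have hbK : algebraMap S K (b : S) ≠ 0 := by
    intro h
    exact hb0' ((IsFractionRing.injective S K) (by rw [h, map_zero]))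
  have h2 : (a : S) = b * s := by
    apply IsFractionRing.injective S K
    rw [map_mul, hs, map_div₀, hφ, hφ, mul_comm, div_mul_cancel₀ _ hbK]
  have hsR : s ∈ R := hdiv a b s a.2 b.2 hb0' h2
  refine ⟨⟨s, hsR⟩, ?_⟩
  have hbF : algebraMap R (FractionRing R) b ≠ 0 := by
    intro h
    exact hb0 ((IsFractionRing.injective R (FractionRing R)) (by rw [h, map_zero]))
  rw [eq_div_iff hbF, ← map_mul]
  congr 1
  apply Subtype.ext
  simp only [MulMemClass.coe_mul]
  rw [h2, mul_comm]

/-- Let k be an algebraically closed field and n, m natural numbers, and let R be the ring of polynomial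
functions of m vectors of k^(n+1) invariant under the special linear group SL(n+1, k) acting on all
the vectors at once and under the rescalings of the individual vectors by units with product 1
(equivalently: invariant and homogeneous of one and the same degree in each vector) — the graded
ring of invariant sections whose Proj is the quotient variety of ordered m-point sets in projective
n-space. Then R is integrally closed in its field of fractions; hence that quotient variety is
normal. (Only the normality assertion of the source's statement is given here; its dimension,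
rationality and singular-locus assertions are not.) -/
theorem result (k : Type u) [Field k] [IsAlgClosed k] (n m : ℕ) :
    IsIntegrallyClosed (W4c5pointsetsdelpezzo.invRing k n m) := by
  apply isIntegrallyClosed_subalgebra_of_div_closed
  intro a b s ha hb hb0 hab
  have key : ∀ σ : W4c5pointsetsdelpezzo.TupleRing k n m →ₐ[k] W4c5pointsetsdelpezzo.TupleRing k n m,
      σ a = a → σ b = b → σ s = s := by
    intro σ h1 h2
    have h3 : b * σ s = b * s := by
      rw [← hab, ← h1, hab, map_mul, h2]
    exact mul_left_cancel₀ hb0 h3
  unfold W4c5pointsetsdelpezzo.invRing at ha hb ⊢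
  rw [Algebra.mem_inf, Algebra.mem_iInf, Algebra.mem_iInf] at ha hb ⊢
  constructor
  · intro g
    have := ha.1 g
    have := hb.1 g
    rw [AlgHom.mem_equalizer] at *
    exact key _ (by simpa using ha.1 g) (by simpa using hb.1 g)
  · intro t
    rw [AlgHom.mem_equalizer]
    exact key _ (by simpa using ha.2 t) (by simpa using hb.2 t)

end Groth.Agent.S18265
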