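import Groth.Statements.S18266
import Mathlib

set_option autoImplicit false
universe u
open CategoryTheory AlgebraicGeometry
open FDesc

namespace Groth.Agent.S18266

open CategoryTheory.Limits

lemma flat_of_injective_of_isUnit {A B B' : Type u} [CommRing A] [IsDedekindDomain A]
    [CommRing B] [CommRing B'] (φ : A →+* B) (ψ : B →+* B') (hψ : Function.Injective ψ)
    (hu : ∀ a : A, a ≠ 0 → IsUnit (ψ (φ a))) : φ.Flat := by
  algebraize [φ]
  have htf : Module.IsTorsionFree A B := by
    constructor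
    intro a ha b₁ b₂ hb
    have ha0 : a ≠ 0 := ha.ne_zero
    apply hψ
    have h1 : ψ (φ a * b₁) = ψ (φ a * b₂) := by
      have : a • b₁ = a • b₂ := hb
      rw [Algebra.smul_def, Algebra.smul_def] at this
      exact congrArg ψ this
    rw [map_mul, map_mul] at h1
    exact (hu a ha0).mul_left_cancel h1
  change Module.Flat A B
  infer_instance

/-- the kernel of a composite contains the kernel of the second map. -/
lemma ker_le_ker_comp {X Y Z : Scheme.{u}} (g : X ⟶ Y) (h : Y ⟶ Z) : h.ker ≤ (g ≫ h).ker := by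
  rw [Scheme.Hom.ker_comp, ← Scheme.IdealSheafData.map_bot]
  exact Scheme.IdealSheafData.map_mono _ bot_le

lemma dominant_fromSpecResidueField (A : Type u) [CommRing A] [IsDomain A]
    (η : ↥(Spec (CommRingCat.of A))) (hη : η.asIdeal = ⊥) :
    IsSchemeTheoreticallyDominant ((Spec (CommRingCat.of A)).fromSpecResidueField η) := by
  have hdom : IsDominant ((Spec (CommRingCat.of A)).fromSpecResidueField η) := by
    constructor
    have hd : Dense ({η} : Set (Spec (CommRingCat.of A))) := by
      rw [dense_iff_closure_eq]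
      have : η = (⟨⊥, Ideal.isPrime_bot⟩ : PrimeSpectrum A) := PrimeSpectrum.ext hη
      rw [this]
      change closure {(⟨⊥, Ideal.isPrime_bot⟩ : PrimeSpectrum A)} = Set.univ
      rw [PrimeSpectrum.closure_singleton]
      simp
    refine hd.mono ?_
    rw [Scheme.range_fromSpecResidueField]
  exact IsSchemeTheoreticallyDominant.of_isDominant _

theorem part2 (A : Type u) [CommRing A] [IsDomain A]
    {X : Scheme.{u}} (f : X ⟶ Spec (CommRingCat.of A))
    (η : ↥(Spec (CommRingCat.of A))) (hη : η.asIdeal = ⊥)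
    (Z : Scheme.{u}) (i : Z ⟶ X) (hf : Flat (i ≫ f)) : (f.fiberι η).ker ≤ i.ker := by
  have h1 := dominant_fromSpecResidueField A η hη
  have h2 : IsSchemeTheoreticallyDominant ((i ≫ f).fiberι η) := by
    change IsSchemeTheoreticallyDominant (pullback.fst _ _)
    infer_instance
  let m : (i ≫ f).fiber η ⟶ f.fiber η :=
    pullback.map _ _ _ _ i (𝟙 _) (𝟙 _) (by simp) (by simp)
  have hm : m ≫ f.fiberι η = (i ≫ f).fiberι η ≫ i := pullback.lift_fst _ _ _
  calc (f.fiberι η).ker ≤ (m ≫ f.fiberι η).ker := ker_le_ker_comp _ _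
    _ = ((i ≫ f).fiberι η ≫ i).ker := by rw [hm]
    _ = i.ker := by
      rw [Scheme.Hom.ker_comp, ((i ≫ f).fiberι η).ker_eq_bot, Scheme.IdealSheafData.map_bot]


/-- the canonical map to the scheme-theoretic image is scheme-theoretically dominant. -/
lemma toImage_dominant {X Y : Scheme.{u}} (f : X ⟶ Y) [QuasiCompact f] :
    IsSchemeTheoreticallyDominant f.toImage := by
  rw [isSchemeTheoreticallyDominant_iff]
  refine Scheme.IdealSheafData.ext_of_iSup_eq_top
    (fun U : Y.affineOpens ↦ (⟨f.imageι ⁻¹ᵁ U.1, U.2.preimage f.imageι⟩ : f.image.affineOpens))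
    ?_ ?_
  · have h1 : ⨆ U : Y.affineOpens, (U : Y.Opens) = ⊤ := iSup_affineOpens_eq_top Y
    change ⨆ U : Y.affineOpens, f.imageι ⁻¹ᵁ (U : Y.Opens) = ⊤
    rw [← Scheme.Hom.preimage_iSup, h1]
    rfl
  · intro U
    rw [Scheme.Hom.ker_apply]
    simp only [Scheme.IdealSheafData.ideal_bot, Pi.bot_apply]
    rw [← RingHom.injective_iff_ker_eq_bot]
    exact f.toImage_app_injective U

lemma app_appLE_eq {X Y Z : Scheme.{u}} (t : X ⟶ Y) (h : Y ⟶ Z) (q : X ⟶ Z) (hq : t ≫ h = q)
    (V : Y.Opens) (a : Γ(Z, ⊤)) :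
    (t.app V).hom ((h.appLE ⊤ V le_top).hom a) = (q.appLE ⊤ (t ⁻¹ᵁ V) le_top).hom a := by
  subst hq
  rw [Scheme.Hom.app_eq_appLE, ← CommRingCat.comp_apply, Scheme.Hom.appLE_comp_appLE]

lemma isUnit_appLE_comp {X Y Z : Scheme.{u}} (p : X ⟶ Y) (r : Y ⟶ Z) (W : X.Opens)
    (a : Γ(Z, ⊤)) (hu : IsUnit (r.appTop.hom a)) :
    IsUnit (((p ≫ r).appLE ⊤ W le_top).hom a) := by
  have h1 : (p ≫ r).appLE ⊤ W le_top = r.appLE ⊤ ⊤ le_top ≫ p.appLE ⊤ W le_top :=
    (Scheme.Hom.appLE_comp_appLE p r ⊤ ⊤ W le_top le_top).symm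
  have h2 : r.appLE ⊤ ⊤ le_top = r.appTop := by
    rw [Scheme.Hom.appTop, Scheme.Hom.app_eq_appLE]
    rfl
  rw [h1, h2, CommRingCat.hom_comp, RingHom.comp_apply]
  exact hu.map _

theorem part1 (A : Type u) [CommRing A] [IsDomain A] [IsDiscreteValuationRing A]
    {X : Scheme.{u}} (f : X ⟶ Spec (CommRingCat.of A))
    (η : ↥(Spec (CommRingCat.of A))) (hη : η.asIdeal = ⊥) :
    Flat ((f.fiberι η).imageι ≫ f) := by
  have hqc : QuasiCompact (f.fiberι η) := by
    change QuasiCompact (pullback.fst _ _); infer_instance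
  have htdom := toImage_dominant (f.fiberι η)
  obtain ⟨t, ht⟩ : ∃ t, t = (f.fiberι η).toImage := ⟨_, rfl⟩
  have htqc : QuasiCompact t := by rw [ht]; infer_instance
  rw [← ht] at htdom
  obtain ⟨h, hh⟩ : ∃ h, h = (f.fiberι η).imageι ≫ f := ⟨_, rfl⟩
  rw [← hh]
  have hth : t ≫ h = f.fiberToSpecResidueField η ≫
      (Spec (CommRingCat.of A)).fromSpecResidueField η := by
    rw [ht, hh, Scheme.Hom.toImage_imageι_assoc, Scheme.Hom.fiber_fac]
  refine HasRingHomProperty.of_iSup_eq_top (P := @Flat)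
    (fun V : (f.fiberι η).image.affineOpens => V) (iSup_affineOpens_eq_top _) ?_
  intro V
  rw [← RingHom.Flat.respectsIso.cancel_left_isIso (Scheme.ΓSpecIso (CommRingCat.of A)).inv]
  refine flat_of_injective_of_isUnit _ (t.app V.1).hom (t.app_injective V.1) ?_
  intro a ha
  rw [RingHom.comp_apply, app_appLE_eq t h _ hth]
  apply isUnit_appLE_comp
  -- the image of `a` in the residue field at the generic point is a unit
  rw [← Scheme.Spec.map_residueFieldIso_inv_eq_fromSpecResidueField, ← Spec.map_comp]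
  have hnat := Scheme.ΓSpecIso_inv_naturality
    (CommRingCat.ofHom (algebraMap A η.asIdeal.ResidueField) ≫
      (Scheme.Spec.residueFieldIso (CommRingCat.of A) η).inv)
  have h3 := congrArg (fun m => m.hom a) hnat
  simp only [CommRingCat.hom_comp, RingHom.comp_apply] at h3
  erw [← h3]
  apply IsUnit.map
  apply IsUnit.map
  rw [isUnit_iff_ne_zero]
  intro h0
  apply ha
  have := Ideal.algebraMap_residueField_eq_zero.mp h0
  rw [hη] at this
  exact this


/-- Let A be a discrete valuation ring, η the generic point of Spec A, and f : X → Spec A a morphism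
from an arbitrary scheme X. The scheme-theoretic closure of the generic fibre X_η in X (the flat
completion) is flat over Spec A, and it is the largest closed subscheme of X flat over Spec A: for
every closed immersion i : Z → X with Z flat over Spec A, the ideal sheaf of the flat completion is
contained in the ideal sheaf of i. -/
theorem result (A : Type u) [CommRing A] [IsDomain A]
    [IsDiscreteValuationRing A] {X : Scheme.{u}} (f : X ⟶ Spec (CommRingCat.of A))
    (η : ↥(Spec (CommRingCat.of A))) (hη : η.asIdeal = ⊥) :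
    Flat ((f.fiberι η).imageι ≫ f) ∧
      ∀ (Z : Scheme.{u}) (i : Z ⟶ X), IsClosedImmersion i → Flat (i ≫ f) → (f.fiberι η).ker ≤ i.ker := by
  exact ⟨part1 A f η hη, fun Z i _ hf => part2 A f η hη Z i hf⟩

end Groth.Agent.S18266
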