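import Groth.Statements.S18267
import Mathlib
import Groth.Agent.Lib.Helper10DedFlat
import Groth.Agent.Lib.Helper6GenusLe2
import Groth.Agent.Lib.Helper6EmbSec
import Groth.Agent.Lib.Helper27ProjSpaceFibres
import Groth.Agent.Lib.Helper28HBSch
import Groth.Agent.Lib.Helper16LocSymDVR
-- import your own Groth.Agent.* helpers here

set_option autoImplicit false
set_option linter.style.haveILetI false
set_option linter.unusedSectionVars false
open CategoryTheory CategoryTheory.Limits AlgebraicGeometry
open ZCorr

namespace Groth.Agent.S18267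

/-- a proper morphism of integral Noetherian curves sending generic point to generic point is
finite -/
theorem isFinite_of_dominant' {X Y : Scheme.{0}} [IsIntegral X] [IsIntegral Y] [IsNoetherian X]
    (hX : topologicalKrullDim X = 1) (hY : topologicalKrullDim Y = 1)
    (f : X ⟶ Y) [IsProper f]
    (hξ : f.base (genericPoint X) = genericPoint Y) : IsFinite f := by
  have hcl : ∀ x : X, x ≠ genericPoint X → IsClosed ({x} : Set X) := fun x hx =>
    Groth.Agent.Lib.Helper6.EmbSec.isClosed_singleton_of_generization hX.le
      (genericPoint_specializes x) hx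
  have hclY : ∀ y : Y, y ≠ genericPoint Y → IsClosed ({y} : Set Y) := fun y hy =>
    Groth.Agent.Lib.Helper6.EmbSec.isClosed_singleton_of_generization hY.le
      (genericPoint_specializes y) hy
  haveI : LocallyQuasiFinite f := by
    refine LocallyQuasiFinite.of_finite_preimage_singleton f (fun y => ?_)
    by_cases hy : y = genericPoint Y
    · refine Set.Subsingleton.finite ?_
      have key : ∀ a ∈ f ⁻¹' {y}, a = genericPoint X := by
        intro a ha
        by_contra hne
        have hca := hcl a hne
        have him : IsClosed (f '' ({a} : Set X)) := f.isClosedMap _ hca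
        rw [Set.image_singleton, show f a = y from ha, hy] at him
        have huniv : ({genericPoint Y} : Set Y) = Set.univ := by
          rw [← him.closure_eq]
          exact genericPoint_spec Y
        haveI : Subsingleton Y := ⟨fun p q => by
          have hp : p ∈ ({genericPoint Y} : Set Y) := huniv ▸ Set.mem_univ p
          have hq : q ∈ ({genericPoint Y} : Set Y) := huniv ▸ Set.mem_univ q
          rw [Set.mem_singleton_iff] at hp hq
          rw [hp, hq]⟩
        have h0 : topologicalKrullDim Y ≤ 0 := topologicalKrullDim_zero_of_discreteTopology _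
        rw [hY] at h0
        exact absurd h0 (by decide)
      intro a ha b hb
      rw [key a ha, key b hb]
    · have hZ : IsClosed (f ⁻¹' ({y} : Set Y)) := (hclY y hy).preimage f.continuous
      let U : X.Opens := ⟨(f ⁻¹' ({y} : Set Y))ᶜ, hZ.isOpen_compl⟩
      have hηU : genericPoint X ∈ U := by
        change genericPoint X ∉ f ⁻¹' ({y} : Set Y)
        intro h
        apply hy
        rw [← hξ]
        exact (show f (genericPoint X) = y from h).symm
      have hU : Dense (U : Set X) := U.2.dense ⟨_, hηU⟩
      have hfin := Groth.Agent.Lib.Helper6.GenusLe.finite_compl_dense hX.le U hU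
      refine hfin.subset ?_
      intro a ha hau
      exact hau ha
  exact IsFinite.of_isProper_of_locallyQuasiFinite f


/-- Over the complex numbers, suppose C is a quasi-projective curve that is smooth and irreducible and X
is a projective variety that is smooth and irreducible; take Z to be an integral closed subscheme of
C × X of dimension one whose projection to C is surjective (a non-vertical irreducible component of
a correspondence from C to X). Then the projection Z → C is finite and flat. -/
theorem result
    (C X : Scheme.{0}) [C.Over (Spec (CommRingCat.of ℂ))] [X.Over (Spec (CommRingCat.of ℂ))]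
    [AlgebraicGeometry.IsIntegral C] [Smooth (C ↘ Spec (CommRingCat.of ℂ))] (hC : RelProj.IsHQuasiProjective (C ↘ Spec (CommRingCat.of ℂ)))
    (hdimC : topologicalKrullDim C = 1)
    [AlgebraicGeometry.IsIntegral X] [Smooth (X ↘ Spec (CommRingCat.of ℂ))] (hX : RelProj.IsHProjective (X ↘ Spec (CommRingCat.of ℂ)))
    {Z : Scheme.{0}} (i : Z ⟶ pullback (C ↘ Spec (CommRingCat.of ℂ)) (X ↘ Spec (CommRingCat.of ℂ))) [IsClosedImmersion i]
    [AlgebraicGeometry.IsIntegral Z] (hdimZ : topologicalKrullDim Z = 1)
    (hsurj : Function.Surjective ⇑(i ≫ pullback.fst (C ↘ Spec (CommRingCat.of ℂ)) (X ↘ Spec (CommRingCat.of ℂ)))) :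
    IsFinite (i ≫ pullback.fst (C ↘ Spec (CommRingCat.of ℂ)) (X ↘ Spec (CommRingCat.of ℂ))) ∧
      Flat (i ≫ pullback.fst (C ↘ Spec (CommRingCat.of ℂ)) (X ↘ Spec (CommRingCat.of ℂ))) := by
  -- X proper over ℂ
  haveI hXprop : IsProper (X ↘ Spec (CommRingCat.of ℂ)) := by
    obtain ⟨n, j, hj, hjf⟩ := hX
    rw [← hjf]
    haveI := Groth.Agent.Lib.Helper27ProjSpaceFibres.isProper_toBase n (Spec (CommRingCat.of ℂ))
    infer_instance
  -- C quasi-compact over ℂ
  haveI hCqc : QuasiCompact (C ↘ Spec (CommRingCat.of ℂ)) := by
    obtain ⟨n, j, hj, hjq, hjf⟩ := hC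
    rw [← hjf]
    haveI := Groth.Agent.Lib.Helper27ProjSpaceFibres.isProper_toBase n (Spec (CommRingCat.of ℂ))
    infer_instance
  haveI : IsLocallyNoetherian C :=
    LocallyOfFiniteType.isLocallyNoetherian (C ↘ Spec (CommRingCat.of ℂ))
  haveI : CompactSpace C := by
    exact QuasiCompact.compactSpace_of_compactSpace (C ↘ Spec (CommRingCat.of ℂ))
  haveI : IsNoetherian C := ⟨⟩
  set π := i ≫ pullback.fst (C ↘ Spec (CommRingCat.of ℂ)) (X ↘ Spec (CommRingCat.of ℂ)) with hπ
  haveI : IsProper π := by
    rw [hπ]; infer_instance
  haveI : IsLocallyNoetherian Z := LocallyOfFiniteType.isLocallyNoetherian π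
  haveI : CompactSpace Z := by
    haveI : QuasiCompact π := inferInstance
    exact QuasiCompact.compactSpace_of_compactSpace π
  haveI : IsNoetherian Z := ⟨⟩
  -- generic point goes to generic point
  have hgen : π (genericPoint Z) = genericPoint C := by
    obtain ⟨z, hz⟩ := hsurj (genericPoint C)
    have h1 : genericPoint Z ⤳ z := genericPoint_specializes z
    have h2 : π (genericPoint Z) ⤳ π z := h1.map π.continuous
    rw [hz] at h2
    exact (h2.antisymm (genericPoint_specializes _)).eq
  refine ⟨isFinite_of_dominant' hdimZ hdimC π hgen, ?_⟩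
  refine Groth.Agent.Lib.Helper10.DedFlat.flat_of_maximal_points π (fun c => ?_) (fun ξ hξ => ?_)
  · haveI := Groth.Agent.Lib.Helper28HBSch.isRegularLocalRing_stalk_of_smooth ℂ C
      (C ↘ Spec (CommRingCat.of ℂ)) c
    exact Groth.Agent.Lib.Helper10.DedFlat.isPrincipalIdealRing_of_regular _
      ((Helper16LocSym.ringKrullDim_stalk_le C c).trans hdimC.le)
  · have h1 : ξ ⤳ genericPoint Z := hξ _ (genericPoint_specializes ξ)
    have : ξ = genericPoint Z := (h1.antisymm (genericPoint_specializes ξ)).eq
    rw [this]; exact hgen

end Groth.Agent.S18267
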