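import Groth.Statements.S1828
import Groth.Agent.Lib.Helper5LciOmB
import Groth.Agent.Lib.Helper5LciOmC

set_option autoImplicit false
universe u
open CategoryTheory
attribute [local instance] HasDerivedCategory.standard
open Dual2

namespace Groth.Agent.S1828

/-- Let R and A be Noetherian rings and R → A a homomorphism that is a local complete intersection,
presented by a surjection ψ : P = R[x_1, …, x_n] → A. For K in D(R) set φ^!(K) = RHom_P(A, K ⊗^L_R
P)[n], where the derived base change D(R) → D(P) is assumed to exist and RHom_P(A, −) : D(P) → D(A)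
means a right adjoint of restriction of scalars along ψ, and set ω_{A/R} = φ^!(R); also assume that
the derived base change functors D(A) → D(A_f) exist for every f ∈ A. Then ω_{A/R} is invertible:
for each prime q of A there exist f ∈ A not in q and an integer m with ω_{A/R} ⊗^L_A A_f ≅ A_f[m] in
D(A_f). (The published statement makes one more assertion, which is not included here.) -/
theorem result (R A : Type u) [CommRing R] [CommRing A] [IsNoetherianRing R] [IsNoetherianRing A] [Algebra R A] (hl : LCI.IsLCI R A) (n : ℕ) (ψ : MvPolynomial (Fin n) R →ₐ[R] A) (hψ : Function.Surjective ψ) [DRing.HasLBaseChange (algebraMap R (MvPolynomial (Fin n) R))] (Rψ : Dual.D (MvPolynomial (Fin n) R) ⥤ Dual.D A) (adj : DRing.restrictD ψ.toRingHom ⊣ Rψ) [hL : ∀ f : A, DRing.HasLBaseChange (algebraMap A (Localization.Away f))] (q : PrimeSpectrum A) : ∃ (f : A) (_ : f ∉ q.asIdeal) (m : ℤ), Nonempty ((DRing.LBaseChange (algebraMap A (Localization.Away f))).obj (Dual2.shriekVia n Rψ (Dual.inD R R)) ≅ (Dual.inD (Localization.Away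 f) (Localization.Away f))⟦m⟧) := by
  classical
  letI : Algebra (MvPolynomial (Fin n) R) A := ψ.toRingHom.toAlgebra
  have hsurj : Function.Surjective (algebraMap (MvPolynomial (Fin n) R) A) := hψ
  obtain ⟨-, n', ψ', hψ', hkr'⟩ := hl
  have hkr : LCI.IsKoszulRegularIdeal (RingHom.ker (algebraMap (MvPolynomial (Fin n) R) A)) :=
    Groth.Agent.Lib.Helper5.KzPres.main R A n' n ψ' hψ' ψ hψ hkr'
  haveI hQ : (q.asIdeal.comap (algebraMap (MvPolynomial (Fin n) R) A)).IsPrime :=
    Ideal.comap_isPrime _ _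
  have hIQ : RingHom.ker (algebraMap (MvPolynomial (Fin n) R) A) ≤
      q.asIdeal.comap (algebraMap (MvPolynomial (Fin n) R) A) := by
    intro x hx
    rw [Ideal.mem_comap, (RingHom.mem_ker).mp hx]
    exact zero_mem _
  obtain ⟨g, hg, Bt, _, _, _, l, hl, hI⟩ :=
    Groth.Agent.Lib.Helper5.LciOm.exists_regSeq_of_kr _ _ hIQ hkr
  obtain ⟨e0⟩ := Groth.Agent.Lib.Helper5.LocD.lbc_iso_extD (MvPolynomial (Fin n) R)
    (Dual.inD R R)
  let eY : (DRing.LBaseChange (algebraMap R (MvPolynomial (Fin n) R))).obj (Dual.inD R R) ≅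
      Dual.inD (MvPolynomial (Fin n) R) (MvPolynomial (Fin n) R) :=
    e0 ≪≫ Groth.Agent.Lib.Helper1.Extend.extDInDIso (A := R) (B := MvPolynomial (Fin n) R) R ≪≫
      Groth.Agent.Lib.Helper5.NormDual.inDIso
        (TensorProduct.AlgebraTensorModule.rid R (MvPolynomial (Fin n) R)
          (MvPolynomial (Fin n) R))
  haveI := hL (algebraMap (MvPolynomial (Fin n) R) A g)
  obtain ⟨e⟩ := Groth.Agent.Lib.Helper5.LciOm.shriek_iso hsurj Rψ adj g Bt l hl hI _ eY (n : ℤ)
  exact ⟨algebraMap (MvPolynomial (Fin n) R) A g, hg, (n : ℤ) - (l.length : ℤ), ⟨e⟩⟩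

end Groth.Agent.S1828
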