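import Groth.Statements.S18281
import Mathlib
import Groth.Agent.S0386
import Groth.Agent.Lib.Helper4VarDim9
import Groth.Agent.Lib.Helper27ProjSpaceFibres
-- import your own Groth.Agent.* helpers here

set_option autoImplicit false
set_option linter.style.haveILetI false
set_option linter.unusedSectionVars false
open CategoryTheory CategoryTheory.Limits AlgebraicGeometry
open ZCorr

namespace Groth.Agent.S18281

open Groth.Agent.Lib.Helper4.VarDim

/-- any ring map out of a field is flat -/
theorem flat_of_isField {R S : Type*} [CommRing R] [CommRing S] (f : R →+* S) (h : IsField R) :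
    f.Flat := by
  letI := f.toAlgebra
  letI : Field R := h.toField
  change Module.Flat R S
  infer_instance

/-- the stalk map at a point over the generic point of an integral scheme is flat -/
theorem flat_stalkMap_of_eq_genericPoint {Z W : Scheme.{0}} [IsIntegral W] (π : Z ⟶ W) (z : Z)
    (hz : π z = genericPoint W) : (π.stalkMap z).hom.Flat := by
  have hF : IsField (W.presheaf.stalk (π z)) := by
    rw [hz]
    exact Field.toIsField W.functionField
  exact flat_of_isField _ hF

/-- the fibre over the generic point of a morphism between integral finite type `k`-schemes of the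
same dimension contains at most the generic point -/
theorem fibre_genericPoint_subset (k : Type) [Field k] {Z W : Scheme.{0}}
    [W.Over (Spec (CommRingCat.of k))] [LocallyOfFiniteType (W ↘ Spec (CommRingCat.of k))]
    [IsIntegral Z] [IsIntegral W] [CompactSpace W] (π : Z ⟶ W) [LocallyOfFiniteType π]
    (n : ℕ) (hZ : topologicalKrullDim Z = n) (hW : topologicalKrullDim W = n) :
    π ⁻¹' {genericPoint W} ⊆ {genericPoint Z} := by
  letI : Z.Over (Spec (CommRingCat.of k)) := ⟨π ≫ (W ↘ Spec (CommRingCat.of k))⟩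
  haveI : LocallyOfFiniteType (Z ↘ Spec (CommRingCat.of k)) :=
    (inferInstance : LocallyOfFiniteType (π ≫ (W ↘ Spec (CommRingCat.of k))))
  have hcomm : π ≫ (W ↘ Spec (CommRingCat.of k)) = (Z ↘ Spec (CommRingCat.of k)) := rfl
  -- trdeg at generic point of W is n
  obtain ⟨η, hη, hdim⟩ := exists_trdegNat_eq_topologicalKrullDim k W
  have hηgen : η = genericPoint W := by
    rw [irreducibleComponents_eq_singleton, Set.mem_singleton_iff] at hη
    have h1 : IsGenericPoint η (Set.univ : Set W) := hη
    exact h1.eq (genericPoint_spec W)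
  rw [hW, hηgen] at hdim
  have hWn : trdegNat k W (genericPoint W) = n := by exact_mod_cast hdim.symm
  intro z hz
  rw [Set.mem_singleton_iff]
  by_contra hne
  have h1 : trdegNat k W (π z) ≤ trdegNat k Z z := trdegNat_le_of_hom k π hcomm z
  rw [show π z = genericPoint W from hz, hWn] at h1
  have h2 : trdegNat k Z z < trdegNat k Z (genericPoint Z) :=
    trdegNat_lt_of_specializes k Z _ _ (genericPoint_specializes z) (Ne.symm hne)
  have h3 : ((trdegNat k Z (genericPoint Z) : ℕ) : WithBot ℕ∞) ≤ topologicalKrullDim Z :=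
    trdegNat_le_topologicalKrullDim k Z _
  rw [hZ] at h3
  have h4 : trdegNat k Z (genericPoint Z) ≤ n := by exact_mod_cast h3
  omega

/-- the finite-fibre locus of a proper morphism -/
theorem finiteLocus {Z W : Scheme.{0}} (π : Z ⟶ W) [IsProper π] :
    ∃ U : W.Opens, (U : Set W) = {w : W | (π ⁻¹' {w}).Finite} ∧ IsFinite (π ∣_ U) := by
  have hopen : IsOpen {w : W | (π ⁻¹' {w}).Finite} := by
    rw [isOpen_iff_forall_mem_open]
    intro w hw
    obtain ⟨V, hwV, hfin⟩ := exists_isFinite_morphismRestrict_of_finite_preimage_singleton π w hw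
    refine ⟨V, ?_, V.isOpen, hwV⟩
    intro w' hw'
    have h1 := Scheme.Hom.finite_preimage_singleton (π ∣_ V) ⟨w', hw'⟩
    refine (h1.image Subtype.val).subset ?_
    intro z hz
    have hzV : z ∈ π ⁻¹ᵁ V := by
      change π z ∈ V
      rw [show π z = w' from hz]; exact hw'
    refine ⟨⟨z, hzV⟩, ?_, rfl⟩
    change (π ∣_ V) ⟨z, hzV⟩ = ⟨w', hw'⟩
    apply Subtype.ext
    exact (morphismRestrict_base_coe π V ⟨z, hzV⟩).trans hz
  refine ⟨⟨_, hopen⟩, rfl, ?_⟩
  set U : W.Opens := ⟨_, hopen⟩ with hU
  haveI : IsProper (π ∣_ U) := IsZariskiLocalAtTarget.restrict ‹_› U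
  haveI : LocallyQuasiFinite (π ∣_ U) := by
    refine LocallyQuasiFinite.of_finite_preimage_singleton (π ∣_ U) (fun u => ?_)
    have hu : (π ⁻¹' {u.1}).Finite := u.2
    refine (hu.preimage (Set.injOn_of_injective Subtype.val_injective)).subset ?_
    intro z hz
    change π z.1 = u.1
    exact (morphismRestrict_base_coe π U z).symm.trans (congrArg Subtype.val hz)
  exact IsFinite.of_isProper_of_locallyQuasiFinite (π ∣_ U)


/-- Over the complex numbers let W be a smooth irreducible quasi-projective variety of dimension n, X a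
smooth irreducible projective variety, and Z an integral closed subscheme of X × W of dimension n
(an irreducible component of a correspondence from W to X), with projection π : Z → W. (a) The set
of points of W over which π is flat (flat at every point of the fibre) is open and nonempty. (b) The
set U of points of W with finite fibre is open and nonempty, and π restricted over U is finite. -/
theorem result
    (W X : Scheme.{0}) [W.Over (Spec (CommRingCat.of ℂ))] [X.Over (Spec (CommRingCat.of ℂ))]
    [AlgebraicGeometry.IsIntegral W] [Smooth (W ↘ Spec (CommRingCat.of ℂ))] (hW : RelProj.IsHQuasiProjective (W ↘ Spec (CommRingCat.of ℂ)))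
    (n : ℕ) (hdimW : topologicalKrullDim W = n)
    [AlgebraicGeometry.IsIntegral X] [Smooth (X ↘ Spec (CommRingCat.of ℂ))] (hX : RelProj.IsHProjective (X ↘ Spec (CommRingCat.of ℂ)))
    {Z : Scheme.{0}} (i : Z ⟶ pullback (X ↘ Spec (CommRingCat.of ℂ)) (W ↘ Spec (CommRingCat.of ℂ))) [IsClosedImmersion i]
    [AlgebraicGeometry.IsIntegral Z] (hdimZ : topologicalKrullDim Z = n) :
    (IsOpen {w : W | ∀ z : Z, (i ≫ pullback.snd (X ↘ Spec (CommRingCat.of ℂ)) (W ↘ Spec (CommRingCat.of ℂ))) z = w →
        ((i ≫ pullback.snd (X ↘ Spec (CommRingCat.of ℂ)) (W ↘ Spec (CommRingCat.of ℂ))).stalkMap z).hom.Flat} ∧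
      {w : W | ∀ z : Z, (i ≫ pullback.snd (X ↘ Spec (CommRingCat.of ℂ)) (W ↘ Spec (CommRingCat.of ℂ))) z = w →
        ((i ≫ pullback.snd (X ↘ Spec (CommRingCat.of ℂ)) (W ↘ Spec (CommRingCat.of ℂ))).stalkMap z).hom.Flat}.Nonempty) ∧
    ∃ U : W.Opens, (U : Set W) = {w : W | ((i ≫ pullback.snd (X ↘ Spec (CommRingCat.of ℂ)) (W ↘ Spec (CommRingCat.of ℂ))) ⁻¹' {w}).Finite} ∧
      (U : Set W).Nonempty ∧ IsFinite ((i ≫ pullback.snd (X ↘ Spec (CommRingCat.of ℂ)) (W ↘ Spec (CommRingCat.of ℂ))) ∣_ U) := by
  -- X proper over ℂ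
  haveI hXprop : IsProper (X ↘ Spec (CommRingCat.of ℂ)) := by
    obtain ⟨m, j, hj, hjf⟩ := hX
    rw [← hjf]
    haveI := Groth.Agent.Lib.Helper27ProjSpaceFibres.isProper_toBase m (Spec (CommRingCat.of ℂ))
    infer_instance
  -- W quasi-compact over ℂ
  haveI hWqc : QuasiCompact (W ↘ Spec (CommRingCat.of ℂ)) := by
    obtain ⟨m, j, hj, hjq, hjf⟩ := hW
    rw [← hjf]
    haveI := Groth.Agent.Lib.Helper27ProjSpaceFibres.isProper_toBase m (Spec (CommRingCat.of ℂ))
    infer_instance
  haveI : IsLocallyNoetherian W :=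
    LocallyOfFiniteType.isLocallyNoetherian (W ↘ Spec (CommRingCat.of ℂ))
  haveI : CompactSpace W :=
    QuasiCompact.compactSpace_of_compactSpace (W ↘ Spec (CommRingCat.of ℂ))
  set π := i ≫ pullback.snd (X ↘ Spec (CommRingCat.of ℂ)) (W ↘ Spec (CommRingCat.of ℂ)) with hπ
  haveI : IsProper π := by
    rw [hπ]; infer_instance
  haveI : LocallyOfFinitePresentation π :=
    LocallyOfFinitePresentation.iff_locallyOfFiniteType.2 inferInstance
  refine ⟨⟨?_, ?_⟩, ?_⟩
  · have hF : IsOpen {z : Z | (π.stalkMap z).hom.Flat} := Groth.Agent.S0386.result π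
    have hA : {w : W | ∀ z : Z, π z = w → (π.stalkMap z).hom.Flat} =
        (π '' {z : Z | (π.stalkMap z).hom.Flat}ᶜ)ᶜ := by
      ext w
      simp only [Set.mem_ofPred_eq, Set.mem_compl_iff, Set.mem_image, not_exists, not_and]
      constructor
      · intro h z hz hzw
        exact hz (h z hzw)
      · intro h z hzw
        by_contra hz
        exact h z hz hzw
    rw [hA]
    exact (π.isClosedMap _ hF.isClosed_compl).isOpen_compl
  · exact ⟨genericPoint W, fun z hz => flat_stalkMap_of_eq_genericPoint π z hz⟩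
  · obtain ⟨U, hU, hfin⟩ := finiteLocus π
    refine ⟨U, hU, ?_, hfin⟩
    refine ⟨genericPoint W, ?_⟩
    rw [hU]
    exact (Set.finite_singleton _).subset
      (fibre_genericPoint_subset ℂ π n hdimZ hdimW)

end Groth.Agent.S18281
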