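import Groth.Statements.S18283
import Mathlib
import Mathlib.Tactic

set_option autoImplicit false
universe u v
open CAlgX

namespace Groth.Agent.S18283

/-- Let A be a commutative ring, ι a finite index type, H a finite set of indices (the head indices) and
c : ι → ι → A a table of coefficients; for j ∈ H put f_j = e_j − Σ_{i ∉ H} c_{ji} e_i in the free
module A^ι, so that each f_j has head e_j with coefficient 1 and tail supported outside H. If a
submodule M of A^ι contains every f_j with j ∈ H, then M is the A-span of these f_j if and only if
every wedge product of |H|+1 elements of M vanishes in the (|H|+1)-st exterior power of A^ι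
(equivalently, every (|H|+1)-minor of every matrix whose rows lie in M vanishes). The published
statement is the case where A is a Noetherian algebra over a field of characteristic zero, A^ι is
the degree-(m+1) part of the polynomial ring over A with its basis of terms, H is the set of
degree-(m+1) terms of a strongly stable monomial ideal generated in degree m, and M is the
degree-(m+1) part of an ideal generated by a marked set on that monomial ideal; this row allows any
commutative ring and any submodule containing the marked polynomials. -/
theorem result
    {A : Type u} [CommRing A] {ι : Type v} [Fintype ι] [DecidableEq ι]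
    (H : Finset ι) (c : ι → ι → A) (M : Submodule A (ι → A))
    (hf : ∀ j ∈ H, (Pi.single j (1 : A) - ∑ i ∈ Hᶜ, c j i • Pi.single i (1 : A)) ∈ M) :
    M = Submodule.span A ((fun j => Pi.single j (1 : A) - ∑ i ∈ Hᶜ, c j i • Pi.single i (1 : A)) '' ↑H)
      ↔ ∀ v : Fin (H.card + 1) → ι → A, (∀ k, v k ∈ M) →
          exteriorPower.ιMulti A (H.card + 1) v = 0 := by
  classical
  set f : ι → (ι → A) := fun j => Pi.single j (1 : A) - ∑ i ∈ Hᶜ, c j i • Pi.single i (1 : A)
    with hfdef
  have hfH : ∀ j ∈ H, ∀ l ∈ H, f j l = if l = j then 1 else 0 := by
    intro j hj l hl
    simp only [hfdef, Pi.sub_apply, Finset.sum_apply, Pi.smul_apply, Pi.single_apply, smul_eq_mul,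
      mul_ite, mul_one, mul_zero]
    rw [Finset.sum_eq_zero, sub_zero]
    intro i hi
    rw [if_neg]
    rintro rfl
    exact (Finset.mem_compl.mp hi) hl
  constructor
  · intro hM v hv
    let φ : (H → A) →ₗ[A] (ι → A) := Fintype.linearCombination A (fun j : H => f j)
    have hrange : LinearMap.range φ = M := by
      rw [hM, Fintype.range_linearCombination]
      congr 1
      ext x
      simp
    have hu : ∀ k, ∃ u : H → A, φ u = v k := fun k => by
      have h1 := hv k
      rw [← hrange] at h1
      exact h1
    choose u hu using hu
    have hg : (exteriorPower.ιMulti A (H.card + 1)).compLinearMap φ = 0 := by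
      refine (Pi.basisFun A H).ext_alternating (fun w hw => ?_)
      exfalso
      have h1 := Fintype.card_le_of_injective w hw
      simp only [Fintype.card_fin, Fintype.card_coe] at h1
      omega
    have h2 : exteriorPower.ιMulti A (H.card + 1) v =
        ((exteriorPower.ιMulti A (H.card + 1)).compLinearMap φ) u := by
      rw [AlternatingMap.compLinearMap_apply]
      congr 1
      funext k
      exact (hu k).symm
    rw [h2, hg]
    rfl
  · intro hw
    set S := Submodule.span A (f '' ↑H) with hS
    have hfS : ∀ j ∈ H, f j ∈ S := fun j hj => Submodule.subset_span ⟨j, hj, rfl⟩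
    apply le_antisymm
    · intro w hwM
      have hw'M : w - ∑ j ∈ H, w j • f j ∈ M :=
        M.sub_mem hwM (M.sum_mem fun j hj => M.smul_mem _ (hf j hj))
      have hw'H : ∀ l ∈ H, (w - ∑ j ∈ H, w j • f j) l = 0 := by
        intro l hl
        simp only [Pi.sub_apply, Finset.sum_apply, Pi.smul_apply, smul_eq_mul]
        rw [Finset.sum_eq_single l]
        · rw [hfH l hl l hl, if_pos rfl, mul_one, sub_self]
        · intro j hj hjl
          rw [hfH j hj l hl, if_neg (Ne.symm hjl), mul_zero]
        · intro h
          exact absurd hl h
      generalize hw'def : w - ∑ j ∈ H, w j • f j = w' at hw'M hw'H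
      have hw'C : ∀ i ∉ H, w' i = 0 := by
        intro i hi
        let e : Fin H.card ≃ H := H.equivFin.symm
        let col : Fin (H.card + 1) → ι := Fin.snoc (fun k => (e k : ι)) i
        let v : Fin (H.card + 1) → (ι → A) := Fin.snoc (fun k => f (e k)) w'
        have hcolc : ∀ k : Fin H.card, col k.castSucc = (e k : ι) := fun k => Fin.snoc_castSucc _ _ _
        have hcoll : col (Fin.last _) = i := Fin.snoc_last _ _
        have hvc : ∀ k : Fin H.card, v k.castSucc = f (e k) := fun k => Fin.snoc_castSucc _ _ _
        have hvl : v (Fin.last _) = w' := Fin.snoc_last _ _
        have hvM : ∀ k, v k ∈ M := by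
          intro k
          induction k using Fin.lastCases with
          | last => rw [hvl]; exact hw'M
          | cast k => rw [hvc]; exact hf _ (e k).2
        have h0 := hw v hvM
        let π : (ι → A) →ₗ[A] (Fin (H.card + 1) → A) := LinearMap.funLeft A A col
        let Dm : (ι → A) [⋀^Fin (H.card + 1)]→ₗ[A] A := Matrix.detRowAlternating.compLinearMap π
        have h1 : Dm v = 0 := by
          rw [← exteriorPower.alternatingMapLinearEquiv_apply_ιMulti Dm v, h0, map_zero]
        have h2 : Dm v = Matrix.det (Matrix.of fun k l => v k (col l)) := rfl
        have htri : (Matrix.of fun k l => v k (col l) :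
            Matrix (Fin (H.card + 1)) (Fin (H.card + 1)) A).IsUpperTriangular := by
          intro k l hlk
          show v k (col l) = 0
          simp only [id] at hlk
          induction k using Fin.lastCases with
          | last =>
            induction l using Fin.lastCases with
            | last => exact absurd hlk (lt_irrefl _)
            | cast l => rw [hvl, hcolc]; exact hw'H _ (e l).2
          | cast k =>
            induction l using Fin.lastCases with
            | last => exact absurd hlk (not_lt.mpr (Fin.le_last _))
            | cast l =>
              rw [hvc, hcolc, hfH _ (e k).2 _ (e l).2, if_neg]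
              intro h3
              have h4 : e l = e k := Subtype.ext h3
              have h5 : l = k := e.injective h4
              rw [h5] at hlk
              exact lt_irrefl _ hlk
        rw [h2, Matrix.det_of_isUpperTriangular htri, Fin.prod_univ_castSucc] at h1
        simp only [Matrix.of_apply] at h1
        rw [hvl, hcoll, Finset.prod_eq_one, one_mul] at h1
        · exact h1
        · intro k _
          rw [hvc, hcolc, hfH _ (e k).2 _ (e k).2, if_pos rfl]
      have hw'0 : w' = 0 := by
        ext l
        by_cases hl : l ∈ H
        · exact hw'H l hl
        · exact hw'C l hl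
      have h3 : w = ∑ j ∈ H, w j • f j := by
        rw [← sub_eq_zero, hw'def]
        exact hw'0
      rw [h3]
      exact S.sum_mem fun j hj => S.smul_mem _ (hfS j hj)
    · rw [Submodule.span_le]
      rintro _ ⟨j, hj, rfl⟩
      exact hf j hj

end Groth.Agent.S18283
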