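import Groth.Statements.S18286
import Groth.Agent.Lib.Helper20MagnetSTD2

set_option autoImplicit false
universe u
open CategoryTheory MonoidalCategory CartesianMonoidalCategory MonObj AlgebraicGeometry Opposite
open Magnet

namespace Groth.Agent.S18286

open CategoryTheory.Limits

theorem mono_of_left {S : Scheme.{u}} {Z Y : Over S} (f : Z ⟶ Y) [IsClosedImmersion f.left] :
    Mono f := by
  have : Mono ((Over.forget S).map f) := by
    show Mono f.left
    infer_instance
  exact (Over.forget S).mono_of_mono_map this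


/-- Let Y be an S-scheme affine over S with an action of the diagonalizable monoid scheme A(M)_S of a
commutative monoid M, let f : Z → Y be an equivariant closed immersion (for an action of A(M)_S on
Z), and let N ⊆ M be a submonoid (magnet). Then Z^N = Z ×_Y Y^N: the square of functors on S-schemes
formed by f^N : Z^N → Y^N, the canonical maps Z^N → Z and Y^N → Y (evaluation at the unit section)
and f is cartesian. -/
theorem result (S : Scheme.{u}) (M : Type) [AddCommMonoid M]
    (N : AddSubmonoid M) (Y Z : Over S) [IsAffineHom Y.hom] (aY : Magnet.MonAct (Magnet.AMonS S M) Y)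
    (aZ : Magnet.MonAct (Magnet.AMonS S M) Z) (f : Z ⟶ Y) [IsClosedImmersion f.left]
    (hf : Magnet.MonAct.IsEquivariant aZ aY f) :
    IsPullback (Magnet.MonAct.eqvHom.postcomp (Magnet.subAct S M N) f hf) (Magnet.attrToX aZ N)
      (Magnet.attrToX aY N) (yoneda.map f) := by
  have hmono : Mono f := mono_of_left f
  apply IsPullback.of_forall_isPullback_app
  intro T
  rw [Types.isPullback_iff]
  refine ⟨?_, ?_, ?_⟩
  · ext φ
    exact (Category.assoc _ _ _).symm
  · rintro φ₁ φ₂ ⟨h₁, -⟩
    apply Subtype.ext
    have : φ₁.1 ≫ f = φ₂.1 ≫ f := congrArg Subtype.val h₁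
    exact (cancel_mono f).mp this
  · intro φY z hz
    obtain ⟨T₀⟩ := T
    have hz' : (attrToX aY N).app (op T₀) φY = z ≫ f := hz
    have hSTD := Groth.Agent.Lib.Helper20MagnetSTD.isSchemeTheoreticallyDominant_AMonS_map_whiskerRight
      S N.subtype Subtype.val_injective T₀
    have e := Groth.Agent.Lib.Helper20MagnetSTD.map_subtype_whiskerRight_comp aY N T₀ φY
    rw [hz'] at e
    have e' : (AMonS.map S N.subtype ▷ T₀) ≫ φY.1 =
        (lift (fst _ _) (snd _ _ ≫ z) ≫ aZ.act) ≫ f := by
      rw [e, Category.assoc, hf, ← Category.assoc (snd _ _), ← lift_whiskerLeft_assoc]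
    have hker : f.left.ker ≤ φY.1.left.ker := by
      have h1 := Scheme.Hom.le_ker_comp (lift (fst _ _) (snd _ _ ≫ z) ≫ aZ.act).left f.left
      rw [← Over.comp_left, ← e', Over.comp_left, Scheme.Hom.ker_comp,
        Scheme.Hom.ker_eq_bot (AMonS.map S N.subtype ▷ T₀).left,
        Scheme.IdealSheafData.map_bot] at h1
      exact h1
    let l := IsClosedImmersion.lift f.left φY.1.left hker
    have hl : l ≫ f.left = φY.1.left := IsClosedImmersion.lift_fac _ _ _
    let φZ : AMonS S N ⊗ T₀ ⟶ Z := Over.homMk l (by
      rw [← Over.w f, ← Category.assoc, hl, Over.w φY.1])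
    have hφZ : φZ ≫ f = φY.1 := by
      ext1
      exact hl
    have hEq : MonAct.IsEquivariant ((subAct S M N).prod (MonAct.trivial (AMonS S M) T₀)) aZ φZ := by
      have hY := φY.2
      unfold MonAct.IsEquivariant at hY hf ⊢
      rw [← cancel_mono f, Category.assoc, hφZ, Category.assoc, hf, ← whiskerLeft_comp_assoc, hφZ]
      exact hY
    refine ⟨⟨φZ, hEq⟩, Subtype.ext hφZ, ?_⟩
    rw [← cancel_mono f]
    show (lift _ _ ≫ φZ) ≫ f = z ≫ f
    rw [Category.assoc, hφZ]
    exact hz'

end Groth.Agent.S18286
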