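import Groth.Statements.S18288
import Groth.Agent.Lib.Helper20MagnetSTD2

set_option autoImplicit false
universe u
open CategoryTheory MonoidalCategory CartesianMonoidalCategory MonObj AlgebraicGeometry Opposite
open Magnet

namespace Groth.Agent.S18288

open CategoryTheory.Limits

theorem AMon_map_id (R : Type u) [CommRing R] (M : Type) [AddCommMonoid M] :
    AMon.map R (AddMonoidHom.id M) = 𝟙 (AMon R M) := by
  ext : 1
  rw [AMon.map_left]
  change Spec.map _ = 𝟙 (Spec _)
  rw [← Spec.map_id]
  congr 2
  apply MonoidAlgebra.ringHom_ext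
  · intro r; simp
  · intro m; simp

theorem AMonS_map_id (S : Scheme.{u}) (M : Type) [AddCommMonoid M] :
    AMonS.map S (AddMonoidHom.id M) = 𝟙 (AMonS S M) := by
  rw [AMonS.map, AMon_map_id]
  exact CategoryTheory.Functor.map_id _ _

theorem isIso_AMonS_map (S : Scheme.{u}) {M N : Type} [AddCommMonoid M] [AddCommMonoid N]
    (c : N ≃+ M) : IsIso (AMonS.map S c.toAddMonoidHom) := by
  refine ⟨AMonS.map S c.symm.toAddMonoidHom, ?_, ?_⟩
  · rw [← AMonS.map_comp, ← AMonS_map_id]
    congr 1
    ext x
    simp
  · rw [← AMonS.map_comp, ← AMonS_map_id]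
    congr 1
    ext x
    simp


/-- Let M be a commutative monoid with an injective homomorphism f : M → Z into a commutative group Z
(so M is cancellative; the published statement takes Z to be the group completion of M, and the same
argument applies to any such Z), let Y be a submonoid of Z contained in the image of M, and let X be
an S-scheme separated over S with an action of the diagonalizable monoid scheme A(M)_S. Regard X as
a D(Z)_S-scheme through D(Z)_S → A(M)_S. Then the canonical map of attractors X^{f⁻¹Y ⊂ M} → X^{Y ⊂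
Z} is an isomorphism: a D(Z)_S-equivariant family out of A(Y)_S is automatically A(M)_S-equivariant.
(The published statement allows X to be an algebraic space; here X is a scheme.) -/
theorem result (S : Scheme.{u}) (M Z : Type) [AddCommMonoid M]
    [AddCommGroup Z] (f : M →+ Z) (hf : Function.Injective f) (Y : AddSubmonoid Z)
    (hY : Y ≤ AddMonoidHom.mrange f) (X : Over S) [IsSeparated X.hom]
    (a : Magnet.MonAct (Magnet.AMonS S M) X) :
    IsIso (Magnet.attrComap a f Y) := by
  let c : ↥(Y.comap f) →+ ↥Y := (f.comp (Y.comap f).subtype).codRestrict Y (fun x => x.2)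
  have hc : Function.Bijective c := by
    constructor
    · intro x y hxy
      apply Subtype.ext
      apply hf
      exact congrArg Subtype.val hxy
    · intro y
      obtain ⟨m, hm⟩ := hY y.2
      exact ⟨⟨m, by show f m ∈ Y; rw [hm]; exact y.2⟩, Subtype.ext hm⟩
  let ce : ↥(Y.comap f) ≃+ ↥Y := AddEquiv.ofBijective c hc
  have hmc : IsIso (AMonS.map S c) := isIso_AMonS_map S ce
  have hfun : AMonS.map S f ≫ AMonS.map S (Y.comap f).subtype =
      AMonS.map S Y.subtype ≫ AMonS.map S c := by
    rw [← AMonS.map_comp, ← AMonS.map_comp]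
    rfl
  rw [NatTrans.isIso_iff_isIso_app]
  intro T
  obtain ⟨T₀⟩ := T
  rw [isIso_iff_bijective]
  constructor
  · intro φ₁ φ₂ h
    have h' : (AMonS.map S c ▷ T₀) ≫ φ₁.1 = (AMonS.map S c ▷ T₀) ≫ φ₂.1 :=
      congrArg Subtype.val h
    exact Subtype.ext ((cancel_epi _).mp h')
  · intro φ'
    refine ⟨⟨(inv (AMonS.map S c) ▷ T₀) ≫ φ'.1, ?_⟩, Subtype.ext ?_⟩
    · unfold MonAct.IsEquivariant
      have hSTD := Groth.Agent.Lib.Helper20MagnetSTD.isSchemeTheoreticallyDominant_AMonS_map_whiskerRight
        S f hf (AMonS S ↥(Y.comap f) ⊗ T₀)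
      apply Groth.Agent.Lib.Helper20MagnetSTD.over_ext_of_isSchemeTheoreticallyDominant
        (AMonS.map S f ▷ (AMonS S ↥(Y.comap f) ⊗ T₀))
      apply hom_ext_lift₂
      intro T' z w
      obtain ⟨b, t, rfl⟩ : ∃ b t, w = lift b t :=
        ⟨w ≫ fst _ _, w ≫ snd _ _, (lift_comp_fst_snd w).symm⟩
      obtain ⟨y, rfl⟩ : ∃ y, b = y ≫ AMonS.map S c := ⟨b ≫ inv (AMonS.map S c), by simp⟩
      have h := (MonAct.mem_eqvHom_iff φ'.1).mp φ'.2 T' z y t
      rw [lift_whiskerRight_assoc, lift_whiskerRight_assoc, MonAct.lift_prod_act_assoc,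
        MonAct.lift_trivial_act, lift_whiskerLeft_assoc, lift_whiskerRight_assoc,
        lift_whiskerRight_assoc]
      have h1 : lift (z ≫ AMonS.map S f) (y ≫ AMonS.map S c) ≫ (subAct S M (Y.comap f)).act =
          (lift z y ≫ (subAct S Z Y).act) ≫ AMonS.map S c := by
        rw [subAct, subAct, MonAct.lift_restrict_act, MonAct.lift_regular_act,
          MonAct.lift_restrict_act, MonAct.lift_regular_act, MonObj.mul_comp, Category.assoc,
          Category.assoc, hfun]
      rw [h1, Category.assoc, Category.assoc, IsIso.hom_inv_id, Category.comp_id,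
        Category.assoc, IsIso.hom_inv_id, Category.comp_id, h, MonAct.lift_restrict_act]
    · show (AMonS.map S c ▷ T₀) ≫ (inv (AMonS.map S c) ▷ T₀) ≫ φ'.1 = φ'.1
      rw [← comp_whiskerRight_assoc, IsIso.hom_inv_id, id_whiskerRight, Category.id_comp]

end Groth.Agent.S18288
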