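import Groth.Statements.S1829
import Groth.Agent.Lib.Helper5GorFibC
import Groth.Agent.Lib.Helper5KoszulBC

set_option autoImplicit false
universe u
open CategoryTheory
attribute [local instance] HasDerivedCategory.standard
open Dual

namespace Groth.Agent.S1829

/-- Let A → B be a faithfully flat local complete intersection homomorphism of Noetherian rings and K an
object of D(A); assume the derived base change functor D(A) → D(B) exists. Then K is a dualizing
complex for A if and only if its base change is a dualizing complex for B. -/
theorem result (A B : Type u) [CommRing A] [CommRing B] [Algebra A B] [IsNoetherianRing A] [IsNoetherianRing B] [Module.FaithfullyFlat A B] (hl : LCI.IsLCI A B) [DRing.HasLBaseChange (algebraMap A B)] (K : Dual.D A) : Dual.IsDualizing A K ↔ Dual.IsDualizing B ((DRing.LBaseChange (algebraMap A B)).obj K) := by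
  obtain ⟨e⟩ := Groth.Agent.Lib.Helper5.LocD.lbc_iso_extD B K
  haveI : Algebra.FiniteType A B := hl.1
  constructor
  · intro hK
    refine Groth.Agent.Lib.Helper5.LocD.isDualizing_of_iso e.symm
      (Groth.Agent.Lib.Helper5.GorFib.isDualizing_extD_of_gor_fiber (fun p hp => ?_) K hK)
    haveI := Groth.Agent.Lib.Helper5.KoszulBC.gorRing_tensor_field_of_flat_isLCI A B hl
      p.ResidueField
    exact Groth.Agent.Lib.Helper5.GorRing.gorRing_of_ringEquiv
      (R := TensorProduct A B p.ResidueField)
      (Algebra.TensorProduct.comm A B p.ResidueField).toRingEquiv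
  · intro hB
    exact Groth.Agent.Lib.Helper5.HomBC.isDualizing_of_extD B K
      (Groth.Agent.Lib.Helper5.LocD.isDualizing_of_iso e hB)

end Groth.Agent.S1829
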