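import Groth.Statements.S18294
import Mathlib

set_option autoImplicit false
universe u
open CategoryTheory MonoidalCategory CartesianMonoidalCategory MonObj AlgebraicGeometry Opposite
open Magnet

namespace Groth.Agent.S18294


section General

universe v₁ u₁
variable {C : Type u₁} [Category.{v₁} C] [CartesianMonoidalCategory C] {A B X : C} [MonObj A]
  (ρ : Magnet.MonAct A B) (a : Magnet.MonAct A X) (J : GrothendieckTopology C)

theorem isSheaf_eqvHom (hX : Presieve.IsSheaf J (yoneda.obj X)) :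
    Presieve.IsSheaf J (Magnet.MonAct.eqvHom ρ a) := by
  intro T R hR x hx
  have hR' : R.pullback (snd B T) ∈ J (B ⊗ T) := J.pullback_stable _ hR
  have hxc : ∀ {W W' : C} (g : W ⟶ T) (k : W' ⟶ W) (hg : R g),
      (x (k ≫ g) (R.downward_closed hg k)).1 = (B ◁ k) ≫ (x g hg).1 := by
    intro W W' g k hg
    have := (Presieve.compatible_iff_sieveCompatible _).1 hx g k hg
    exact congrArg Subtype.val this
  have hxeq : ∀ {W : C} (g g' : W ⟶ T) (hg : R g) (hg' : R g') (_ : g = g'),
      x g hg = x g' hg' := by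
    intro W g g' hg hg' e
    subst e
    rfl
  let y : Presieve.FamilyOfElements (yoneda.obj X) (R.pullback (snd B T)).arrows :=
    fun W h hh => lift (h ≫ fst B T) (𝟙 W) ≫ (x (h ≫ snd B T) hh).1
  have hy : y.Compatible := by
    rw [Presieve.compatible_iff_sieveCompatible]
    intro W W' h k hh
    change lift ((k ≫ h) ≫ fst B T) (𝟙 W') ≫ (x ((k ≫ h) ≫ snd B T) _).1 =
      k ≫ lift (h ≫ fst B T) (𝟙 W) ≫ (x (h ≫ snd B T) hh).1
    have e : ∀ (h1 : R ((k ≫ h) ≫ snd B T)), (x ((k ≫ h) ≫ snd B T) h1).1 =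
        (B ◁ k) ≫ (x (h ≫ snd B T) hh).1 := by
      intro h1
      rw [← hxc (h ≫ snd B T) k hh]
      exact congrArg Subtype.val (hxeq _ _ _ _ (Category.assoc _ _ _))
    rw [e]
    simp [comp_lift_assoc]
  obtain ⟨φ, hφ, huniq⟩ := hX _ hR' y hy
  have hφ' : ∀ {W : C} (h : W ⟶ B ⊗ T) (hh : R (h ≫ snd B T)),
      h ≫ φ = lift (h ≫ fst B T) (𝟙 W) ≫ (x (h ≫ snd B T) hh).1 := fun h hh => hφ h hh
  -- a convenient form: for points
  have hpt : ∀ {W : C} (b : W ⟶ B) (t : W ⟶ T) (ht : R t),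
      lift b t ≫ φ = lift b (𝟙 W) ≫ (x t ht).1 := by
    intro W b t ht
    have h1 : R (lift b t ≫ snd B T) := by rw [lift_snd]; exact ht
    rw [hφ' (lift b t) h1, lift_fst]
    congr 1
    exact congrArg Subtype.val (hxeq _ _ _ _ (lift_snd _ _))
  have hφeq : Magnet.MonAct.IsEquivariant (ρ.prod (Magnet.MonAct.trivial A T)) a φ := by
    rw [Magnet.MonAct.mem_eqvHom_iff]
    intro T' g b t
    refine (hX _ (J.pullback_stable t hR)).isSeparatedFor.ext (fun W k hk => ?_)
    change k ≫ lift (lift g b ≫ ρ.act) t ≫ φ = k ≫ lift g (lift b t ≫ φ) ≫ a.act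
    have hk' : R (k ≫ t) := hk
    have hx2 := (Magnet.MonAct.mem_eqvHom_iff _).1 (x (k ≫ t) hk').2 W (k ≫ g) (k ≫ b) (𝟙 W)
    rw [comp_lift_assoc, comp_lift_assoc, comp_lift_assoc, comp_lift_assoc,
      hpt _ _ hk', hpt _ _ hk', hx2]
  refine ⟨⟨φ, hφeq⟩, ?_, ?_⟩
  · intro W g hg
    apply Subtype.ext
    change (B ◁ g) ≫ φ = (x g hg).1
    have h1 : R ((B ◁ g) ≫ snd B T) := by
      rw [whiskerLeft_snd]; exact R.downward_closed hg _
    rw [hφ' (B ◁ g) h1]
    have h2 : (x ((B ◁ g) ≫ snd B T) h1).1 = (B ◁ snd B W) ≫ (x g hg).1 := by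
      rw [← hxc g (snd B W) hg]
      exact congrArg Subtype.val (hxeq _ _ _ _ (whiskerLeft_snd _ _))
    rw [h2, whiskerLeft_fst, ← Category.assoc]
    have : lift (fst B W) (𝟙 (B ⊗ W)) ≫ B ◁ snd B W = 𝟙 _ := by
      apply CartesianMonoidalCategory.hom_ext <;> simp
    rw [this, Category.id_comp]
  · intro ψ hψ
    apply Subtype.ext
    change ψ.1 = φ
    apply huniq
    intro W h hh
    change h ≫ ψ.1 = lift (h ≫ fst B T) (𝟙 W) ≫ (x (h ≫ snd B T) hh).1
    have h3 := congrArg Subtype.val (hψ (h ≫ snd B T) hh)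
    change (B ◁ (h ≫ snd B T)) ≫ ψ.1 = _ at h3
    rw [← h3, ← Category.assoc]
    congr 1
    apply CartesianMonoidalCategory.hom_ext <;> simp

end General



/-- Let A be a monoid object in schemes over S acting on S-schemes B and X (in the source A is the
diagonalizable monoid scheme A(M)_S and B = A(N)_S for a magnet N, so that the functor below is the
attractor X^N). Then the functor on S-schemes T ↦ (morphisms B ×_S T → X over S equivariant for A
acting on the first factor) is a sheaf for the fppf topology. -/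
theorem result (S : Scheme.{u}) (A B X : Over S) [MonObj A] (ρ : Magnet.MonAct A B)
    (a : Magnet.MonAct A X) :
    Presheaf.IsSheaf (QuotSh.J Scheme.fppfPrecoverage S) (Magnet.MonAct.eqvHom ρ a) := by
  rw [isSheaf_iff_isSheaf_of_type]
  have : (QuotSh.J Scheme.fppfPrecoverage S).Subcanonical :=
    GrothendieckTopology.subcanonical_over _ S
  exact isSheaf_eqvHom ρ a _ (GrothendieckTopology.Subcanonical.isSheaf_of_isRepresentable _)

end Groth.Agent.S18294
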