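import Groth.Statements.S1831
import Mathlib
-- import your own Groth.Agent.* helpers here

set_option autoImplicit false
set_option linter.style.haveILetI false
set_option linter.unusedSectionVars false
universe u v
open CycAlg

namespace Groth.Agent.S1831

section toolkit
variable {R : Type u} [CommRing R] {M : Type v} [AddCommGroup M] [Module R M]

/-- relative length of `P / (N ∩ P)`. -/
noncomputable def rl (N P : Submodule R M) : ℕ∞ := Module.length R (↥P ⧸ N.submoduleOf P)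

lemma rl_self (N : Submodule R M) : rl N N = 0 := by
  unfold rl
  rw [Submodule.submoduleOf_self]
  exact Module.length_eq_zero

lemma rl_add {N P Q : Submodule R M} (h1 : N ≤ P) (h2 : P ≤ Q) : rl N Q = rl N P + rl P Q := by
  unfold rl
  have hle : N.submoduleOf P ≤ (N.submoduleOf Q).comap (Submodule.inclusion h2) := by
    intro x hx
    exact hx
  have hle2 : N.submoduleOf Q ≤ P.submoduleOf Q := fun x hx => h1 hx
  refine Module.length_eq_add_of_exact
    (Submodule.mapQ (N.submoduleOf P) (N.submoduleOf Q) (Submodule.inclusion h2) hle)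
    (Submodule.factor hle2) ?_ ?_ ?_
  · rw [injective_iff_map_eq_zero]
    intro x
    obtain ⟨x, rfl⟩ := Submodule.Quotient.mk_surjective _ x
    intro hx
    rw [Submodule.mapQ_apply, Submodule.Quotient.mk_eq_zero] at hx
    rw [Submodule.Quotient.mk_eq_zero]
    exact hx
  · intro y
    obtain ⟨y, rfl⟩ := Submodule.Quotient.mk_surjective _ y
    exact ⟨Submodule.Quotient.mk y, rfl⟩
  · intro y
    obtain ⟨y, rfl⟩ := Submodule.Quotient.mk_surjective _ y
    constructor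
    · intro hy
      have hy' : (y : M) ∈ P := by
        have : Submodule.Quotient.mk (p := P.submoduleOf Q) y = 0 := hy
        rwa [Submodule.Quotient.mk_eq_zero] at this
      exact ⟨Submodule.Quotient.mk ⟨(y : M), hy'⟩, rfl⟩
    · rintro ⟨x, hx⟩
      obtain ⟨x, rfl⟩ := Submodule.Quotient.mk_surjective _ x
      rw [← hx]
      show Submodule.Quotient.mk (p := P.submoduleOf Q) (Submodule.inclusion h2 x) = 0
      rw [Submodule.Quotient.mk_eq_zero]
      exact x.2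

lemma rl_mono {N N' P' P : Submodule R M} (h1 : N ≤ N') (h2 : N' ≤ P') (h3 : P' ≤ P) :
    rl N' P' ≤ rl N P := by
  rw [rl_add (h1.trans h2) h3, rl_add h1 h2]
  exact le_trans le_add_self le_self_add

lemma rl_map (f : M →ₗ[R] M) {N P : Submodule R M} (hNP : N ≤ P)
    (hk : LinearMap.ker f ⊓ P ≤ N) : rl (N.map f) (P.map f) = rl N P := by
  unfold rl
  let h : ↥P →ₗ[R] ↥(P.map f) ⧸ (N.map f).submoduleOf (P.map f) :=
    (Submodule.mkQ _).comp (f.submoduleMap P)
  have hsurj : Function.Surjective h :=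
    (Submodule.mkQ_surjective _).comp (f.submoduleMap_surjective P)
  have hker : LinearMap.ker h = N.submoduleOf P := by
    ext x
    rw [LinearMap.mem_ker]
    show Submodule.Quotient.mk (f.submoduleMap P x) = 0 ↔ _
    rw [Submodule.Quotient.mk_eq_zero]
    show f (x : M) ∈ N.map f ↔ (x : M) ∈ N
    constructor
    · rintro ⟨n, hn, hfn⟩
      have : (x : M) - n ∈ N := hk ⟨by
        show (x : M) - n ∈ LinearMap.ker f
        rw [LinearMap.mem_ker, map_sub, hfn, sub_self],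
        P.sub_mem x.2 (hNP hn)⟩
      have := N.add_mem this hn
      rwa [sub_add_cancel] at this
    · intro hx
      exact ⟨x, hx, rfl⟩
  have e := LinearMap.quotKerEquivOfSurjective h hsurj
  rw [← e.length_eq]
  exact (Submodule.quotEquivOfEq _ _ hker).length_eq

lemma rl_inf_sup (N P : Submodule R M) : rl (N ⊓ P) P = rl N (N ⊔ P) := by
  unfold rl
  have e := LinearMap.quotientInfEquivSupQuotient P N
  have h1 : (N ⊓ P).submoduleOf P = Submodule.comap P.subtype P ⊓ Submodule.comap P.subtype N := by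
    ext x
    simp [Submodule.submoduleOf]
  rw [h1, e.length_eq]
  have h2 : ∀ (Q : Submodule R M) (hQ : Q = N ⊔ P),
      Module.length R (↥(P ⊔ N) ⧸ Submodule.comap (P ⊔ N).subtype N) =
        Module.length R (↥Q ⧸ N.submoduleOf Q) := by
    intro Q hQ
    have hQ' : Q = P ⊔ N := by rw [hQ, sup_comm]
    subst hQ'
    rfl
  exact h2 _ rfl

lemma rl_chain (S : ℕ → Submodule R M) (hS : Monotone S) (m : ℕ) :
    rl (S 0) (S m) = ∑ j ∈ Finset.range m, rl (S j) (S (j+1)) := by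
  induction m with
  | zero => simp [rl_self]
  | succ m ih =>
    rw [Finset.sum_range_succ, ← ih, rl_add (hS (Nat.zero_le m)) (hS (Nat.le_succ m))]

lemma rl_chain_anti (T : ℕ → Submodule R M) (hT : Antitone T) (c : ℕ) :
    rl (T c) (T 0) = ∑ b ∈ Finset.range c, rl (T (b+1)) (T b) := by
  induction c with
  | zero => simp [rl_self]
  | succ c ih =>
    rw [Finset.sum_range_succ, ← ih, rl_add (hT (Nat.le_succ c)) (hT (Nat.zero_le c)), add_comm]

end toolkit

section main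
variable {R : Type u} [CommRing R] {M : Type v} [AddCommGroup M] [Module R M] (φ : M →ₗ[R] M)

def K (a : ℕ) : Submodule R M := LinearMap.ker (φ ^ a)
def I (b : ℕ) : Submodule R M := LinearMap.range (φ ^ b)

lemma mem_K {a : ℕ} {x : M} : x ∈ K φ a ↔ (φ ^ a) x = 0 := LinearMap.mem_ker

lemma mem_I {b : ℕ} {x : M} : x ∈ I φ b ↔ ∃ y, (φ ^ b) y = x := LinearMap.mem_range

lemma K_mono : Monotone (K φ) := by
  intro a a' h x hx
  rw [mem_K] at hx ⊢
  obtain ⟨d, rfl⟩ := Nat.exists_eq_add_of_le h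
  rw [add_comm, pow_add, Module.End.mul_apply, hx, map_zero]

lemma I_anti : Antitone (I φ) := by
  intro b b' h x hx
  rw [mem_I] at hx ⊢
  obtain ⟨y, rfl⟩ := hx
  obtain ⟨d, rfl⟩ := Nat.exists_eq_add_of_le h
  exact ⟨(φ ^ d) y, by rw [pow_add, Module.End.mul_apply]⟩

lemma K_zero : K φ 0 = ⊥ := by
  ext x; rw [mem_K]; simp

lemma I_zero : I φ 0 = ⊤ := by
  ext x; rw [mem_I]; simp

lemma map_K_inf_I (a b : ℕ) : (K φ (a+1) ⊓ I φ b).map φ = K φ a ⊓ I φ (b+1) := by
  ext y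
  rw [Submodule.mem_map, Submodule.mem_inf]
  constructor
  · rintro ⟨x, hx, rfl⟩
    rw [Submodule.mem_inf, mem_K, mem_I] at hx
    obtain ⟨hx1, m, rfl⟩ := hx
    refine ⟨?_, ?_⟩
    · rw [mem_K, ← Module.End.mul_apply, ← pow_succ]; exact hx1
    · rw [mem_I]; exact ⟨m, by rw [pow_succ', Module.End.mul_apply]⟩
  · rintro ⟨hy1, hy2⟩
    rw [mem_K] at hy1
    rw [mem_I] at hy2
    obtain ⟨m, rfl⟩ := hy2
    refine ⟨(φ ^ b) m, ?_, ?_⟩
    · rw [Submodule.mem_inf, mem_K, mem_I]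
      refine ⟨?_, m, rfl⟩
      rw [pow_succ, Module.End.mul_apply]
      rw [pow_succ', Module.End.mul_apply] at hy1
      exact hy1
    · rw [pow_succ', Module.End.mul_apply]

noncomputable def g (a b : ℕ) : ℕ∞ :=
  rl ((K φ (a+1) ⊓ I φ (b+1)) ⊔ (K φ a ⊓ I φ b)) (K φ (a+1) ⊓ I φ b)

lemma g_shift (a b : ℕ) : g φ (a+1) b = g φ a (b+1) := by
  unfold g
  have hNP : (K φ (a+1+1) ⊓ I φ (b+1)) ⊔ (K φ (a+1) ⊓ I φ b) ≤ K φ (a+1+1) ⊓ I φ b :=
    sup_le (inf_le_inf_left _ (I_anti φ (Nat.le_succ b)))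
      (inf_le_inf_right _ (K_mono φ (Nat.le_succ (a+1))))
  have hk : LinearMap.ker φ ⊓ (K φ (a+1+1) ⊓ I φ b) ≤
      (K φ (a+1+1) ⊓ I φ (b+1)) ⊔ (K φ (a+1) ⊓ I φ b) := by
    refine le_trans ?_ le_sup_right
    intro x hx
    refine ⟨?_, hx.2.2⟩
    have h1 : x ∈ K φ 1 := by rw [mem_K, pow_one]; exact hx.1
    exact K_mono φ (Nat.succ_le_succ (Nat.zero_le a)) h1
  rw [← rl_map φ hNP hk, Submodule.map_sup, map_K_inf_I, map_K_inf_I, map_K_inf_I]

lemma g_eq (a b : ℕ) : g φ a b = g φ 0 (a + b) := by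
  induction a generalizing b with
  | zero => rw [zero_add]
  | succ a ih => rw [g_shift, ih, Nat.add_right_comm, add_assoc]

lemma step (a c : ℕ) :
    rl (K φ a ⊔ I φ c) (K φ (a+1) ⊔ I φ c) = ∑ b ∈ Finset.range c, g φ a b := by
  have hK : K φ a ≤ K φ (a+1) := K_mono φ (Nat.le_succ a)
  -- step 2
  have h2 : rl (K φ a ⊔ I φ c) (K φ (a+1) ⊔ I φ c) =
      rl (K φ a ⊔ (K φ (a+1) ⊓ I φ c)) (K φ (a+1)) := by
    have := rl_inf_sup (K φ a ⊔ I φ c) (K φ (a+1))
    rw [sup_inf_assoc_of_le (I φ c) hK] at this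
    rw [inf_comm (K φ (a+1)) (I φ c), this]
    congr 1
    rw [sup_right_comm, sup_eq_right.mpr hK]
  rw [h2]
  -- step 3
  let T : ℕ → Submodule R M := fun b => K φ a ⊔ (K φ (a+1) ⊓ I φ b)
  have hT : Antitone T := fun b b' h => sup_le_sup_left (inf_le_inf_left _ (I_anti φ h)) _
  have hT0 : T 0 = K φ (a+1) := by
    show K φ a ⊔ (K φ (a+1) ⊓ I φ 0) = K φ (a+1)
    rw [I_zero, inf_top_eq, sup_eq_right.mpr hK]
  have h3 := rl_chain_anti T hT c
  rw [hT0] at h3
  rw [show K φ a ⊔ (K φ (a+1) ⊓ I φ c) = T c from rfl, h3]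
  refine Finset.sum_congr rfl (fun b _ => ?_)
  -- step 4
  unfold g
  have hX : K φ (a+1) ⊓ I φ (b+1) ≤ K φ (a+1) ⊓ I φ b :=
    inf_le_inf_left _ (I_anti φ (Nat.le_succ b))
  have := rl_inf_sup (T (b+1)) (K φ (a+1) ⊓ I φ b)
  have e1 : T (b+1) ⊓ (K φ (a+1) ⊓ I φ b) = (K φ (a+1) ⊓ I φ (b+1)) ⊔ (K φ a ⊓ I φ b) := by
    show (K φ a ⊔ (K φ (a+1) ⊓ I φ (b+1))) ⊓ (K φ (a+1) ⊓ I φ b) = _
    rw [sup_comm, sup_inf_assoc_of_le (K φ a) hX, ← inf_assoc, inf_eq_left.mpr hK]
  have e2 : T (b+1) ⊔ (K φ (a+1) ⊓ I φ b) = T b := by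
    show (K φ a ⊔ (K φ (a+1) ⊓ I φ (b+1))) ⊔ (K φ (a+1) ⊓ I φ b) = K φ a ⊔ (K φ (a+1) ⊓ I φ b)
    rw [sup_assoc, sup_eq_right.mpr hX]
  rw [e1, e2] at this
  exact this.symm

lemma total (i c : ℕ) (h : I φ c ≤ K φ i) :
    rl (I φ c) (K φ i) = ∑ a ∈ Finset.range i, ∑ b ∈ Finset.range c, g φ 0 (a + b) := by
  let S : ℕ → Submodule R M := fun a => K φ a ⊔ I φ c
  have hS : Monotone S := fun a a' h => sup_le_sup_right (K_mono φ h) _
  have h0 : S 0 = I φ c := by
    show K φ 0 ⊔ I φ c = I φ c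
    rw [K_zero, bot_sup_eq]
  have hi : S i = K φ i := sup_eq_left.mpr h
  have := rl_chain S hS i
  rw [h0, hi] at this
  rw [this]
  refine Finset.sum_congr rfl (fun a _ => ?_)
  rw [show rl (S a) (S (a+1)) = rl (K φ a ⊔ I φ c) (K φ (a+1) ⊔ I φ c) from rfl, step]
  exact Finset.sum_congr rfl (fun b _ => g_eq φ a b)

end main


/-- If φ is an endomorphism of M with φ^n = 0 (n > 0) and ker φ / im φ^(n-1) has finite length, then for
each 0 ≤ i ≤ n the (2,1)-periodic complex (M, φ^i, φ^(n-i)) has finite-length cohomology modules and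
its Herbrand quotient vanishes. -/
theorem result {R : Type u} [CommRing R] {M : Type v} [AddCommGroup M] [Module R M] (φ : M →ₗ[R] M) (n : ℕ) (hn : 0 < n) (hφ : φ ^ n = 0) (hfin : Module.length R (CycAlg.perH φ (φ ^ (n - 1))) < ⊤) (i : ℕ) (hi : i ≤ n) : CycAlg.FinCoh R (φ ^ i) (φ ^ (n - i)) ∧ CycAlg.herbrand R (φ ^ i) (φ ^ (n - i)) = 0 := by
  have hIK : ∀ c i : ℕ, n ≤ c + i → I φ c ≤ K φ i := by
    intro c i h x hx
    rw [mem_I] at hx
    obtain ⟨y, rfl⟩ := hx
    rw [mem_K, ← Module.End.mul_apply, ← pow_add]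
    obtain ⟨d, hd⟩ := Nat.exists_eq_add_of_le h
    rw [add_comm i c, hd, pow_add, hφ, zero_mul]
    rfl
  have hL1 : Module.length R (perH (φ ^ i) (φ ^ (n - i))) = rl (I φ (n - i)) (K φ i) := rfl
  have hL2 : Module.length R (perH (φ ^ (n - i)) (φ ^ i)) = rl (I φ i) (K φ (n - i)) := rfl
  have t1 := total φ i (n - i) (hIK _ _ (by omega))
  have t2 := total φ (n - i) i (hIK _ _ (by omega))
  have heq : rl (I φ (n - i)) (K φ i) = rl (I φ i) (K φ (n - i)) := by
    rw [t1, t2, Finset.sum_comm]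
    refine Finset.sum_congr rfl (fun a _ => Finset.sum_congr rfl (fun b _ => ?_))
    rw [add_comm]
  have hfin' : rl (I φ (n - 1)) (K φ 1) < ⊤ := by
    have hK1 : K φ 1 = LinearMap.ker φ := by unfold K; rw [pow_one]
    have : Module.length R (perH φ (φ ^ (n - 1))) = rl (I φ (n-1)) (LinearMap.ker φ) := rfl
    rw [hK1, ← this]
    exact hfin
  have hg : ∀ j, j + 2 ≤ n → g φ 0 j < ⊤ := by
    intro j hj
    unfold g
    rw [K_zero, bot_inf_eq, sup_bot_eq]
    refine lt_of_le_of_lt (rl_mono (N := I φ (n-1)) (P := K φ 1) ?_ ?_ ?_) hfin'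
    · exact le_inf (hIK _ _ (by omega)) (I_anti φ (by omega))
    · exact inf_le_inf_left _ (I_anti φ (Nat.le_succ j))
    · exact inf_le_left
  have hlt : rl (I φ (n - i)) (K φ i) < ⊤ := by
    rw [t1, ENat.sum_lt_top]
    intro a ha
    rw [ENat.sum_lt_top]
    intro b hb
    rw [Finset.mem_range] at ha hb
    exact hg _ (by omega)
  refine ⟨⟨by rw [hL1]; exact hlt, by rw [hL2, ← heq]; exact hlt⟩, ?_⟩
  unfold CycAlg.herbrand
  rw [hL1, hL2, heq, sub_self]

end Groth.Agent.S1831
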