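import Groth.Statements.S18317
import Mathlib
import Groth.Agent.Lib.Helper12FieldPoint
import Groth.Agent.S14276

set_option autoImplicit false
universe u
open CategoryTheory AlgebraicGeometry
open NonAbH1

namespace Groth.Agent.S18317




/-- Let K be a field and G a finite connected K-group scheme (G → Spec K finite, G connected as a
topological space). Then every G-torsor X over Spec K for the étale topology (a K-scheme with an
action of G whose shear map G ×_K X → X ×_K X is an isomorphism and which acquires a section over
the members of some étale covering of Spec K) is trivial: X has a K-point. -/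
theorem result (K : Type u) [Field K]
    (G X : Over (Spec (CommRingCat.of K))) [GrpObj G] [IsFinite G.hom] [ConnectedSpace G.left]
    (a : AlgGrp.Action G X) (h : NonAbH1.IsTorsorFor Scheme.etalePrecoverage a) :
    NonAbH1.HasSectionOver X (𝟙 (Spec (CommRingCat.of K))) := by
  obtain ⟨h1, R, hR, hsec⟩ := h
  have hR' : R ∈ Scheme.precoverage @Etale (Spec (CommRingCat.of K)) := hR
  obtain ⟨hR1, hR2⟩ := Groth.Agent.S14276.mem_precoverage_iff'.1 hR'
  haveI : Nonempty (Spec (CommRingCat.of K)) := inferInstanceAs (Nonempty (PrimeSpectrum K))
  obtain ⟨x⟩ := ‹Nonempty (Spec (CommRingCat.of K))›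
  obtain ⟨U, g, hg, y, hy⟩ := hR1 x
  haveI : Nonempty U := ⟨y⟩
  haveI : Etale g := hR2 g hg
  exact Groth.Agent.Lib.Helper12.FieldPoint.hasSectionOver_id_of_lft G X a h1 g
    (Or.inr inferInstance) (hsec g hg)

end Groth.Agent.S18317
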