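import Groth.Statements.S1832
import Mathlib
import Groth.Agent.Lib.Helper5SuppDim

set_option autoImplicit false
universe u v
open Pointwise
open CycAlg

namespace Groth.Agent.S1832

open Groth.Agent.Lib

variable {R : Type u} [CommRing R] {V : Type v} [AddCommGroup V] [Module R V]

/-- tower additivity of lengths (copy of helper5's `length_add` with free universes) -/
theorem length_add (N P M : Submodule R V) (hNP : N ≤ P) (hPM : P ≤ M) :
    Module.length R (M ⧸ N.submoduleOf M) =
      Module.length R (P ⧸ N.submoduleOf P) + Module.length R (M ⧸ P.submoduleOf M) := by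
  have h1 : N.submoduleOf P ≤ Submodule.comap (Submodule.inclusion hPM) (N.submoduleOf M) :=
    fun z hz => hz
  have h2 : N.submoduleOf M ≤ P.submoduleOf M := fun z hz => hNP hz
  refine Module.length_eq_add_of_exact (Submodule.mapQ _ _ (Submodule.inclusion hPM) h1)
    (Submodule.factor h2) ?_ (Submodule.factor_surjective h2) ?_
  · rw [injective_iff_map_eq_zero]
    intro y hy
    obtain ⟨z, rfl⟩ := Submodule.Quotient.mk_surjective _ y
    rw [Submodule.mapQ_apply, Submodule.Quotient.mk_eq_zero] at hy
    rw [Submodule.Quotient.mk_eq_zero]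
    exact hy
  · rw [LinearMap.exact_iff]
    ext y
    obtain ⟨z, rfl⟩ := Submodule.Quotient.mk_surjective _ y
    have hfm : Submodule.factor h2 (Submodule.Quotient.mk z) = Submodule.Quotient.mk z := rfl
    rw [LinearMap.mem_ker, hfm, Submodule.Quotient.mk_eq_zero, LinearMap.mem_range]
    constructor
    · intro hz
      refine ⟨Submodule.Quotient.mk ⟨(z : V), hz⟩, ?_⟩
      rw [Submodule.mapQ_apply]
      rfl
    · rintro ⟨w, hw⟩
      obtain ⟨p, rfl⟩ := Submodule.Quotient.mk_surjective _ w
      rw [Submodule.mapQ_apply, Submodule.Quotient.eq] at hw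
      have hw' : ((p : V) - (z : V)) ∈ N := hw
      have hzP : (z : V) = (p : V) - ((p : V) - (z : V)) := by abel
      change (z : V) ∈ P
      rw [hzP]
      exact P.sub_mem p.2 (hNP hw')

theorem mem_submoduleOf {p q : Submodule R V} (z : q) : z ∈ p.submoduleOf q ↔ (z : V) ∈ p :=
  Iff.rfl

theorem length_quot_eq_of_surjective {A B : Type*} [AddCommGroup A] [Module R A] [AddCommGroup B]
    [Module R B] (f : A →ₗ[R] B) (hf : Function.Surjective f) (P : Submodule R A)
    (hP : LinearMap.ker f = P) : Module.length R (A ⧸ P) = Module.length R B := by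
  subst hP
  exact (f.quotKerEquivOfSurjective hf).length_eq

/-- finite length criterion -/
theorem length_ne_top_of_killed [IsNoetherianRing R] [Module.Finite R V] (x : R)
    (hx : Module.supportDim R (V ⧸ x • (⊤ : Submodule R V)) ≤ 0)
    (N : Type*) [AddCommGroup N] [Module R N] [Module.Finite R N] (hN : ∀ n : N, x • n = 0)
    (hsupp : Module.support R N ⊆ Module.support R V) : Module.length R N ≠ ⊤ := by
  rw [Module.length_ne_top_iff]
  apply Helper5.isFiniteLength_of_supportDim_le_zero
  refine le_trans ?_ hx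
  have hsub : Module.support R N ⊆ Module.support R (QuotSMulTop x V) := by
    intro p hp
    rw [Module.support_quotSMulTop]
    refine ⟨hsupp hp, ?_⟩
    rw [PrimeSpectrum.mem_zeroLocus, Set.singleton_subset_iff]
    apply Module.annihilator_le_of_mem_support hp
    rw [Module.mem_annihilator]
    exact hN
  unfold Module.supportDim
  exact Order.krullDim_le_of_strictMono (fun p => (⟨p.1, hsub p.2⟩ : Module.support R (QuotSMulTop x V)))
    (fun p q hpq => hpq)


section part1

variable [IsNoetherianRing R] [Module.Finite R V] (φ ψ : V →ₗ[R] V)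

theorem alpha (x : R) :
    Module.length R (CycAlg.perH (0 : ↥(LinearMap.range φ) →ₗ[R] ↥(LinearMap.range φ))
        (x • LinearMap.id)) =
      Module.length R (↥(LinearMap.range φ) ⧸
        (LinearMap.range (x • φ)).submoduleOf (LinearMap.range φ)) := by
  let f : ↥(LinearMap.ker (0 : ↥(LinearMap.range φ) →ₗ[R] ↥(LinearMap.range φ))) →ₗ[R]
      (↥(LinearMap.range φ) ⧸ (LinearMap.range (x • φ)).submoduleOf (LinearMap.range φ)) :=
    (Submodule.mkQ _).comp (Submodule.subtype _)
  refine length_quot_eq_of_surjective f ?_ _ ?_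
  · intro y
    obtain ⟨l, rfl⟩ := Submodule.Quotient.mk_surjective _ y
    exact ⟨⟨l, by simp⟩, rfl⟩
  · ext z
    simp only [f, LinearMap.mem_ker, LinearMap.comp_apply, Submodule.mkQ_apply,
      Submodule.subtype_apply, Submodule.Quotient.mk_eq_zero, mem_submoduleOf,
      LinearMap.mem_range]
    constructor
    · rintro ⟨m, hm⟩
      refine ⟨⟨φ m, ⟨m, rfl⟩⟩, ?_⟩
      apply Subtype.ext
      simpa using hm
    · rintro ⟨l, hl⟩
      obtain ⟨m, hm⟩ := l.2
      refine ⟨m, ?_⟩
      have := congrArg Subtype.val hl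
      simp only [LinearMap.smul_apply, LinearMap.id_coe, id_eq, Submodule.coe_smul] at this
      rw [← this, ← hm]
      rfl

theorem beta (x : R) :
    Module.length R (CycAlg.perH (x • (LinearMap.id : ↥(LinearMap.range φ) →ₗ[R] ↥(LinearMap.range φ)))
        (0 : ↥(LinearMap.range φ) →ₗ[R] ↥(LinearMap.range φ))) =
      Module.length R (↥(LinearMap.ker (x • φ)) ⧸
        (LinearMap.ker φ).submoduleOf (LinearMap.ker (x • φ))) := by
  have h1 : Module.length R (CycAlg.perH (x • (LinearMap.id : ↥(LinearMap.range φ) →ₗ[R] ↥(LinearMap.range φ)))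
        (0 : ↥(LinearMap.range φ) →ₗ[R] ↥(LinearMap.range φ))) =
      Module.length R ↥(LinearMap.ker (x • (LinearMap.id : ↥(LinearMap.range φ) →ₗ[R] ↥(LinearMap.range φ)))) := by
    refine length_quot_eq_of_surjective LinearMap.id Function.surjective_id _ ?_
    ext z
    simp only [LinearMap.mem_ker, LinearMap.id_coe, id_eq, mem_submoduleOf,
      LinearMap.range_zero, Submodule.mem_bot]
    constructor
    · intro h; rw [h]; rfl
    · intro h; exact Subtype.ext h
  rw [h1]
  symm
  let g : ↥(LinearMap.ker (x • φ)) →ₗ[R]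
      ↥(LinearMap.ker (x • (LinearMap.id : ↥(LinearMap.range φ) →ₗ[R] ↥(LinearMap.range φ)))) :=
    { toFun := fun m => ⟨⟨φ m.1, ⟨m.1, rfl⟩⟩, by
        rw [LinearMap.mem_ker]
        apply Subtype.ext
        have := m.2
        rw [LinearMap.mem_ker, LinearMap.smul_apply] at this
        simpa using this⟩
      map_add' := fun a b => by
        apply Subtype.ext; apply Subtype.ext; simp
      map_smul' := fun c a => by
        apply Subtype.ext; apply Subtype.ext; simp }
  refine length_quot_eq_of_surjective g ?_ _ ?_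
  · rintro ⟨⟨l, m, rfl⟩, hl⟩
    refine ⟨⟨m, ?_⟩, rfl⟩
    rw [LinearMap.mem_ker] at hl ⊢
    have := congrArg Subtype.val hl
    simpa using this
  · ext z
    simp only [LinearMap.mem_ker, mem_submoduleOf]
    constructor
    · intro h
      have := congrArg (fun w => (w.1 : V)) h
      simpa [g] using this
    · intro h
      apply Subtype.ext; apply Subtype.ext
      simpa [g] using h

theorem part1 (hper : CycAlg.IsPeriodic φ ψ) (hfin : CycAlg.FinCoh R φ ψ) (x : R)
    (hx : Module.supportDim R (V ⧸ x • (⊤ : Submodule R V)) ≤ 0) :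
    CycAlg.FinCoh R (x • φ) ψ ∧ CycAlg.herbrand R (x • φ) ψ = CycAlg.herbrand R φ ψ -
      CycAlg.herbrand R (0 : ↥(LinearMap.range φ) →ₗ[R] ↥(LinearMap.range φ)) (x • LinearMap.id) := by
  have hψφ : LinearMap.range ψ ≤ LinearMap.ker φ := by
    rintro _ ⟨m, rfl⟩
    rw [LinearMap.mem_ker]
    exact LinearMap.congr_fun hper.1 m
  have hφψ : LinearMap.range φ ≤ LinearMap.ker ψ := by
    rintro _ ⟨m, rfl⟩
    rw [LinearMap.mem_ker]
    exact LinearMap.congr_fun hper.2 m
  have hk : LinearMap.ker φ ≤ LinearMap.ker (x • φ) := by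
    intro m hm
    rw [LinearMap.mem_ker] at hm ⊢
    rw [LinearMap.smul_apply, hm, smul_zero]
  have hr : LinearMap.range (x • φ) ≤ LinearMap.range φ := by
    rintro _ ⟨m, rfl⟩
    exact ⟨x • m, by simp⟩
  have e0 := length_add (LinearMap.range ψ) (LinearMap.ker φ) (LinearMap.ker (x • φ)) hψφ hk
  have e1 := length_add (LinearMap.range (x • φ)) (LinearMap.range φ) (LinearMap.ker ψ) hr hφψ
  -- finiteness of a, b
  have ha : Module.length R (↥(LinearMap.ker (x • φ)) ⧸
      (LinearMap.ker φ).submoduleOf (LinearMap.ker (x • φ))) ≠ ⊤ := by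
    refine length_ne_top_of_killed (V := V) x hx _ ?_ ?_
    · intro n
      obtain ⟨m, rfl⟩ := Submodule.Quotient.mk_surjective _ n
      rw [← Submodule.Quotient.mk_smul, Submodule.Quotient.mk_eq_zero,
        mem_submoduleOf, LinearMap.mem_ker]
      have := m.2
      rw [LinearMap.mem_ker, LinearMap.smul_apply] at this
      simpa using this
    · exact (Module.support_subset_of_surjective _ (Submodule.mkQ_surjective _)).trans
        (Module.support_subset_of_injective (Submodule.subtype _) Subtype.val_injective)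
  have hb : Module.length R (↥(LinearMap.range φ) ⧸
      (LinearMap.range (x • φ)).submoduleOf (LinearMap.range φ)) ≠ ⊤ := by
    refine length_ne_top_of_killed (V := V) x hx _ ?_ ?_
    · intro n
      obtain ⟨l, rfl⟩ := Submodule.Quotient.mk_surjective _ n
      rw [← Submodule.Quotient.mk_smul, Submodule.Quotient.mk_eq_zero,
        mem_submoduleOf]
      obtain ⟨m, hm⟩ := l.2
      exact ⟨m, by simp [hm]⟩
    · exact (Module.support_subset_of_surjective _ (Submodule.mkQ_surjective _)).trans
        (Module.support_subset_of_injective (Submodule.subtype _) Subtype.val_injective)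
  have h0 : Module.length R (CycAlg.perH φ ψ) ≠ ⊤ := hfin.1.ne
  have h1 : Module.length R (CycAlg.perH ψ φ) ≠ ⊤ := hfin.2.ne
  have E0 : Module.length R (CycAlg.perH (x • φ) ψ) = Module.length R (CycAlg.perH φ ψ) +
      Module.length R (↥(LinearMap.ker (x • φ)) ⧸
        (LinearMap.ker φ).submoduleOf (LinearMap.ker (x • φ))) := e0
  have E1 : Module.length R (CycAlg.perH ψ (x • φ)) = Module.length R (↥(LinearMap.range φ) ⧸
      (LinearMap.range (x • φ)).submoduleOf (LinearMap.range φ)) +
      Module.length R (CycAlg.perH ψ φ) := e1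
  refine ⟨⟨?_, ?_⟩, ?_⟩
  · rw [E0]; exact (WithTop.add_lt_top.mpr ⟨h0.lt_top, ha.lt_top⟩)
  · rw [E1]; exact (WithTop.add_lt_top.mpr ⟨hb.lt_top, h1.lt_top⟩)
  · unfold CycAlg.herbrand
    rw [E0, E1, alpha, beta, ENat.toNat_add h0 ha, ENat.toNat_add hb h1]
    push_cast
    ring

end part1

/-- Over a Noetherian local ring, let (M, φ, ψ) be a (2,1)-periodic complex with M finite and cohomology
of finite length, and let x be a ring element with M/xM supported in dimension ≤ 0. Then (M, xφ, ψ)
and (M, φ, xψ) again have finite-length cohomology, and their Herbrand quotients differ from that of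
(M, φ, ψ) by the Herbrand quotient of (im φ, 0, x), respectively (im ψ, 0, x). -/
theorem result {R : Type u} [CommRing R] [IsNoetherianRing R] [IsLocalRing R] {M : Type v} [AddCommGroup M] [Module R M] [Module.Finite R M] (φ ψ : M →ₗ[R] M) (hper : CycAlg.IsPeriodic φ ψ) (hfin : CycAlg.FinCoh R φ ψ) (x : R) (hx : Module.supportDim R (M ⧸ x • (⊤ : Submodule R M)) ≤ 0) : (CycAlg.FinCoh R (x • φ) ψ ∧ CycAlg.herbrand R (x • φ) ψ = CycAlg.herbrand R φ ψ - CycAlg.herbrand R (0 : ↥(LinearMap.range φ) →ₗ[R] ↥(LinearMap.range φ)) (x • LinearMap.id)) ∧ (CycAlg.FinCoh R φ (x • ψ) ∧ CycAlg.herbrand R φ (x • ψ) = CycAlg.herbrand R φ ψ + CycAlg.herbrand R (0 : ↥(LinearMap.range ψ) →ₗ[R] ↥(LinearMap.range ψ)) (x • LinearMap.id)) := by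
  refine ⟨part1 φ ψ hper hfin x hx, ?_⟩
  obtain ⟨hf, he⟩ := part1 ψ φ ⟨hper.2, hper.1⟩ ⟨hfin.2, hfin.1⟩ x hx
  refine ⟨⟨hf.2, hf.1⟩, ?_⟩
  have h1 : CycAlg.herbrand R φ (x • ψ) = - CycAlg.herbrand R (x • ψ) φ := by
    unfold CycAlg.herbrand; ring
  have h2 : CycAlg.herbrand R ψ φ = - CycAlg.herbrand R φ ψ := by
    unfold CycAlg.herbrand; ring
  rw [h1, he, h2]
  ring

end Groth.Agent.S1832
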