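import Groth.Statements.S1834
import Mathlib
import Groth.Agent.Lib.Helper16CommonFactor
-- import your own Groth.Agent.* helpers here

set_option autoImplicit false
set_option linter.style.haveILetI false
set_option linter.unusedSectionVars false
universe u
open CycAlg

namespace Groth.Agent.S1834

open Groth.Agent.Lib.Helper16.CommonFactor Polynomial

/-- The trivial case: one of the two elements is a unit. -/
lemma result_of_isUnit (R : Type u) [CommRing R] [IsLocalRing R] (a b : R)
    (ha : a ∈ nonZeroDivisors R) (hb : b ∈ nonZeroDivisors R) (h : IsUnit a ∨ IsUnit b) :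
    ∃ (R' : Type u) (_ : CommRing R') (_ : Algebra R R'),
      CycAlg.IsFinExt R R' (IsLocalRing.maximalIdeal R) ∧ ∃ t a' b' : R',
        t ∈ nonZeroDivisors R' ∧ a' ∈ nonZeroDivisors R' ∧ b' ∈ nonZeroDivisors R' ∧
        algebraMap R R' a = t * a' ∧ algebraMap R R' b = t * b' ∧ Ideal.span {a', b'} = ⊤ := by
  refine ⟨R, inferInstance, inferInstance, ⟨Function.injective_id, inferInstance, 0, ?_⟩,
    1, a, b, one_mem _, ha, hb, by simp, by simp, ?_⟩
  · intro r _ w
    exact ⟨r • w, rfl⟩
  · rw [Ideal.eq_top_iff_one]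
    rcases h with h | h
    · obtain ⟨e, he⟩ := h.exists_left_inv
      rw [← he]
      exact Ideal.mul_mem_left _ _ (Ideal.subset_span (by simp))
    · obtain ⟨e, he⟩ := h.exists_left_inv
      rw [← he]
      exact Ideal.mul_mem_left _ _ (Ideal.subset_span (by simp))


/-- Let R be a Noetherian local ring of dimension 1 and a, b nonzerodivisors. There is a finite
extension ring R ⊆ R' with R'/R killed by a power of the maximal ideal, and nonzerodivisors t, a',
b' of R' with a = t a', b = t b' and (a', b') the unit ideal of R'. -/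
theorem result (R : Type u) [CommRing R] [IsNoetherianRing R] [IsLocalRing R] (hR : ringKrullDim R = 1) (a b : R) (ha : a ∈ nonZeroDivisors R) (hb : b ∈ nonZeroDivisors R) : ∃ (R' : Type u) (_ : CommRing R') (_ : Algebra R R'), CycAlg.IsFinExt R R' (IsLocalRing.maximalIdeal R) ∧ ∃ t a' b' : R', t ∈ nonZeroDivisors R' ∧ a' ∈ nonZeroDivisors R' ∧ b' ∈ nonZeroDivisors R' ∧ algebraMap R R' a = t * a' ∧ algebraMap R R' b = t * b' ∧ Ideal.span {a', b'} = ⊤ := by
  classical
  by_cases hu : IsUnit a ∨ IsUnit b
  · exact result_of_isUnit R a b ha hb hu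
  push Not at hu
  have ham : a ∈ IsLocalRing.maximalIdeal R := (IsLocalRing.mem_maximalIdeal _).mpr hu.1
  obtain ⟨d, c, ⟨i0, hi0⟩, hrel⟩ := exists_unit_coeff_relation hR a b ha ham
  -- the total ring of fractions
  let Q := FractionRing R
  have hinjQ : Function.Injective (algebraMap R Q) := IsFractionRing.injective R Q
  set aQ : Q := algebraMap R Q a with haQ
  set bQ : Q := algebraMap R Q b with hbQ
  have hbu : IsUnit bQ := IsLocalization.map_units Q (⟨b, hb⟩ : nonZeroDivisors R)
  have hau : IsUnit aQ := IsLocalization.map_units Q (⟨a, ha⟩ : nonZeroDivisors R)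
  obtain ⟨binv, hbinv⟩ := hbu.exists_left_inv
  set x : Q := aQ * binv with hx
  have hxb : x * bQ = aQ := by rw [hx, mul_assoc, hbinv, mul_one]
  -- the polynomial relation
  let P : R[X] := ∑ i : Fin (d + 1), C (c i) * X ^ (i : ℕ)
  have hPx : aeval x P = 0 := by
    have h1 : aeval x P * bQ ^ d = 0 := by
      simp only [P, map_sum, map_mul, aeval_C, map_pow, aeval_X]
      rw [Finset.sum_mul]
      have h2 : ∀ i : Fin (d + 1), algebraMap R Q (c i) * x ^ (i : ℕ) * bQ ^ d =
          algebraMap R Q (c i * (a ^ (i : ℕ) * b ^ (d - (i : ℕ)))) := by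
        intro i
        have hi : (i : ℕ) + (d - (i : ℕ)) = d := by have := i.2; omega
        have hd' : bQ ^ d = bQ ^ (i : ℕ) * bQ ^ (d - (i : ℕ)) := by rw [← pow_add, hi]
        rw [map_mul, map_mul, map_pow, map_pow, ← haQ, ← hbQ, ← hxb, hd', mul_pow]
        ring
      rw [Finset.sum_congr rfl (fun i _ => h2 i), ← map_sum, hrel, map_zero]
    exact (hbu.pow d).mul_left_eq_zero.mp h1
  have hcoef : P.coeff (i0 : ℕ) = c i0 := by
    simp only [P, finsetSum_coeff, coeff_C_mul_X_pow]
    rw [Finset.sum_eq_single i0]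
    · simp
    · intro j _ hj
      rw [if_neg]
      intro h
      exact hj (Fin.ext h.symm)
    · simp
  obtain ⟨u, v, hu', hv', hux, hvx, huv⟩ := exists_integral_pair x P hPx (i0 : ℕ) (hcoef ▸ hi0)
  -- the finite extension
  let s : Set Q := {u, v, u * x, v * x}
  have hsfin : s.Finite := by simp [s]
  have hsint : ∀ y ∈ s, IsIntegral R y := by
    intro y hy
    simp only [s, Set.mem_insert_iff, Set.mem_singleton_iff] at hy
    rcases hy with rfl | rfl | rfl | rfl <;> assumption
  let R' : Subalgebra R Q := Algebra.adjoin R s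
  have hfg : (Subalgebra.toSubmodule R').FG := fg_adjoin_of_finite hsfin hsint
  haveI hfin : Module.Finite R R' := Module.Finite.iff_fg.mpr hfg
  have hinj : Function.Injective (algebraMap R R') := by
    intro r r' h
    apply hinjQ
    exact congrArg Subtype.val h
  -- cokernel condition
  have hcoker : ∃ n : ℕ, ∀ r ∈ IsLocalRing.maximalIdeal R ^ n, ∀ w : R',
      r • w ∈ (algebraMap R R').range := by
    obtain ⟨F, hF⟩ := hfg
    obtain ⟨⟨s0, hs0⟩, hden⟩ := IsLocalization.exist_integer_multiples_of_finset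
      (nonZeroDivisors R) F
    obtain ⟨n, hn⟩ := exists_pow_le_span hR hs0
    refine ⟨n, ?_⟩
    intro r hr w
    have hw : (w : Q) ∈ Submodule.span R (F : Set Q) := by
      rw [hF]
      exact w.2
    have hsw : ∃ r0 : R, algebraMap R Q r0 = s0 • (w : Q) := by
      refine Submodule.span_induction ?_ ?_ ?_ ?_ hw
      · intro y hy
        exact hden y hy
      · exact ⟨0, by simp⟩
      · rintro y z _ _ ⟨ry, hy⟩ ⟨rz, hz⟩
        exact ⟨ry + rz, by rw [map_add, hy, hz, smul_add]⟩
      · rintro t y _ ⟨ry, hy⟩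
        exact ⟨t * ry, by simp only [map_mul, hy, Algebra.smul_def]; ring⟩
    obtain ⟨r0, hr0⟩ := hsw
    obtain ⟨r1, hr1⟩ := Ideal.mem_span_singleton'.mp (hn hr)
    refine ⟨r1 * r0, ?_⟩
    apply Subtype.ext
    change algebraMap R Q (r1 * r0) = r • (w : Q)
    rw [map_mul, hr0, ← hr1]
    simp only [Algebra.smul_def, map_mul]
    ring
  -- elements of R'
  have hmem : ∀ y ∈ s, y ∈ R' := fun y hy => Algebra.subset_adjoin hy
  let U : R' := ⟨u, hmem u (by simp [s])⟩
  let V : R' := ⟨v, hmem v (by simp [s])⟩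
  let UX : R' := ⟨u * x, hmem _ (by simp [s])⟩
  let VX : R' := ⟨v * x, hmem _ (by simp [s])⟩
  let aR : R' := algebraMap R R' a
  let bR : R' := algebraMap R R' b
  have haRQ : (aR : Q) = aQ := rfl
  have hbRQ : (bR : Q) = bQ := rfl
  have e1 : UX * bR = U * aR := by
    apply Subtype.ext
    change u * x * bQ = u * aQ
    rw [mul_assoc, hxb]
  have e2 : VX * bR = V * aR := by
    apply Subtype.ext
    change v * x * bQ = v * aQ
    rw [mul_assoc, hxb]
  have e3 : U + VX = 1 := by
    apply Subtype.ext
    exact huv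
  -- nonzerodivisors
  have hnzd : ∀ z : R', IsUnit (z : Q) → z ∈ nonZeroDivisors R' := by
    intro z hz
    rw [mem_nonZeroDivisors_iff_right]
    intro w hw
    have h1 : (w : Q) * (z : Q) = 0 := by
      have := congrArg Subtype.val hw
      simpa using this
    apply Subtype.ext
    exact hz.mul_left_eq_zero.mp h1
  have hbRnzd : bR ∈ nonZeroDivisors R' := hnzd bR hbu
  have haRnzd : aR ∈ nonZeroDivisors R' := hnzd aR hau
  obtain ⟨t, a', b', h1, h2, h3, h4, h5, h6⟩ := exists_common_factor_of_relations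
    (finite_maximals (R := R) (R' := R')) aR bR U V UX VX e1 e2 e3 haRnzd hbRnzd
  exact ⟨R', inferInstance, inferInstance, ⟨hinj, hfin, hcoker⟩, t, a', b', h1, h2, h3, h4, h5, h6⟩

end Groth.Agent.S1834
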