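import Groth.Statements.S18340
import Mathlib
import Groth.Agent.S0598
import Groth.Agent.S0599
import Groth.Agent.S0600
import Groth.Agent.Lib.Helper7ArtinEtale

set_option autoImplicit false
set_option linter.style.haveILetI false
universe u
open ArtinApx

namespace Groth.Agent.S18340

open CategoryTheory in
/-- Let k be an algebraically closed field, A a finitely generated k-algebra with a maximal ideal m (a
k-point of Spec A), F a functor from commutative A-algebras to sets which preserves filtered
colimits, and ξ an element of F(Â), Â the m-adic completion of A. Then for every natural number N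
there are an étale A-algebra A′, a surjective A-algebra homomorphism ψ : A′ → A/m^(N+1) and an
element ξ′ of F(A′) whose image under F(ψ) is the image of ξ under F of the canonical map Â →
A/m^(N+1). (Affine form of the statement for limit-preserving functors on schemes over a finite-type
k-scheme S with a k-point s: Spec A′ is the étale neighbourhood of s, the kernel of ψ is the
(N+1)-st power of the maximal ideal of the point above s, and the equation says that ξ′ and ξ agree
to order N.) -/
theorem result (k : Type u) [Field k] [IsAlgClosed k]
    (A : Type u) [CommRing A] [Algebra k A] [Algebra.FiniteType k A] (m : Ideal A) [m.IsMaximal]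
    (F : CommAlgCat.{u} A ⥤ Type u) [Limits.PreservesFilteredColimits F]
    (ξ : F.obj (CommAlgCat.of A (AdicCompletion m A))) (N : ℕ) :
    ∃ (A' : Type u) (_ : CommRing A') (_ : Algebra A A') (_ : Algebra.Etale A A')
      (ψ : A' →ₐ[A] (A ⧸ m ^ (N + 1))) (_ : Function.Surjective ψ) (ξ' : F.obj (CommAlgCat.of A A')),
      F.map (CommAlgCat.ofHom ψ) ξ' =
        F.map (CommAlgCat.ofHom (AdicCompletion.evalₐ m (N + 1))) ξ := by
  classical
  -- `A` is a G-ring, so `A → Â` is regular
  have hGk : CAlg.IsGRing k := by
    haveI : IsAdicComplete (IsLocalRing.maximalIdeal k) k := by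
      rw [IsLocalRing.maximalIdeal_eq_bot]
      infer_instance
    exact Groth.Agent.S0598.result k
  have hGA : CAlg.IsGRing A := Groth.Agent.S0599.result k hGk A
  haveI : IsNoetherianRing A := hGA.1
  have hreg : CAlg.IsRegularHom A (AdicCompletion m A) := Groth.Agent.S0600.result A hGA m
  -- transport `F` to the under category
  let E := commAlgCatEquivUnder (CommRingCat.of A)
  let F' : Under (CommRingCat.of A) ⥤ Type u := E.inverse ⋙ F
  have hF' : ∀ (J : Type u) [SmallCategory J] [IsFiltered J],
      Limits.PreservesColimitsOfShape J F' := by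
    intro J _ _
    haveI : Limits.PreservesColimitsOfShape J F :=
      Limits.PreservesFilteredColimitsOfSize.preserves_filtered_colimits J
    infer_instance
  -- the comparison `F X → F' (E X)`
  let η : ∀ X : CommAlgCat.{u} A, F.obj X → F'.obj (E.functor.obj X) :=
    fun X => F.map (E.unit.app X)
  have hη_nat : ∀ {X Y : CommAlgCat.{u} A} (f : X ⟶ Y) (x : F.obj X),
      F'.map (E.functor.map f) (η X x) = η Y (F.map f x) := by
    intro X Y f x
    change F.map (E.inverse.map (E.functor.map f)) (F.map (E.unit.app X) x) =
      F.map (E.unit.app Y) (F.map f x)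
    rw [← FunctorToTypes.map_comp_apply, ← FunctorToTypes.map_comp_apply,
      show E.unit.app X ≫ E.inverse.map (E.functor.map f) = f ≫ E.unit.app Y from
        (E.unit.naturality f).symm]
  have hη_inj : ∀ X : CommAlgCat.{u} A, Function.Injective (η X) := by
    intro X x y hxy
    have h1 : F.map (E.unitInv.app X) (η X x) = F.map (E.unitInv.app X) (η X y) := by rw [hxy]
    simp only [η, ← FunctorToTypes.map_comp_apply] at h1
    simpa using h1
  have hη_surj : ∀ X : CommAlgCat.{u} A, Function.Surjective (η X) := by
    intro X y
    refine ⟨F.map (E.unitInv.app X) y, ?_⟩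
    simp only [η, ← FunctorToTypes.map_comp_apply]
    simp
  obtain ⟨A', _, _, _, ψ, ξ₁', h⟩ :=
    Groth.Agent.Lib.Helper7.ArtinEtale.exists_etale_nbhd_functor A m hreg F' hF' (N + 1)
      (η (CommAlgCat.of A (AdicCompletion m A)) ξ)
  obtain ⟨ξ', hξ'⟩ := hη_surj (CommAlgCat.of A A') ξ₁'
  have hψ : Function.Surjective ψ := by
    intro y
    obtain ⟨a, rfl⟩ := Ideal.Quotient.mk_surjective y
    exact ⟨algebraMap A A' a, ψ.commutes a⟩
  refine ⟨A', inferInstance, inferInstance, inferInstance, ψ, hψ, ξ', ?_⟩
  apply hη_inj
  rw [← hη_nat, ← hη_nat, hξ']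
  exact h


end Groth.Agent.S18340
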