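import Groth.Statements.S1835
import Mathlib

set_option autoImplicit false
universe u
open CycAlg

namespace Groth.Agent.S1835

/-- Let R be a Noetherian local ring of dimension 1, a a nonzerodivisor in the maximal ideal and b a
nonzerodivisor. There is an integer n such that whenever b = a^m c in some finite extension ring R ⊆
R', one has m ≤ n. -/
theorem result (R : Type u) [CommRing R] [IsNoetherianRing R] [IsLocalRing R] (hR : ringKrullDim R = 1) (a b : R) (ha : a ∈ nonZeroDivisors R) (ham : a ∈ IsLocalRing.maximalIdeal R) (hb : b ∈ nonZeroDivisors R) : ∃ n : ℕ, ∀ (R' : Type u) [CommRing R'] [Algebra R R'], Function.Injective (algebraMap R R') → Module.Finite R R' → ∀ (m : ℕ) (c : R'), algebraMap R R' b = algebraMap R R' a ^ m * c → m ≤ n := by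
  classical
  -- Step 1: a ∈ radical (span {b})
  have hrad : a ∈ (Ideal.span {b}).radical := by
    rw [Ideal.radical_eq_sInf, Ideal.mem_sInf]
    rintro J ⟨hbJ, hJ⟩
    have hbJ' : b ∈ J := (Ideal.span_singleton_le_iff_mem _).mp hbJ
    have h1 : (1 : ℕ∞) ≤ J.height :=
      (Ideal.one_le_height_span_singleton_of_mem_nonZeroDivisors hb).trans (Ideal.height_mono hbJ)
    by_contra haJ
    have hlt : J < IsLocalRing.maximalIdeal R := by
      refine lt_of_le_of_ne (IsLocalRing.le_maximalIdeal hJ.ne_top) ?_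
      rintro rfl
      exact haJ ham
    have h2 := Ideal.height_add_one_le_of_lt_of_isPrime hlt
    have h3 : ((IsLocalRing.maximalIdeal R).height : WithBot ℕ∞) = 1 := by
      rw [IsLocalRing.maximalIdeal_height_eq_ringKrullDim, hR]
    have h4 : (IsLocalRing.maximalIdeal R).height = 1 := by exact_mod_cast h3
    rw [h4] at h2
    have h5 : (1 : ℕ∞) + 1 ≤ 1 := (add_le_add_left h1 1).trans h2
    exact absurd h5 (by decide)
  obtain ⟨N, hN⟩ := hrad
  obtain ⟨d, hd⟩ := Ideal.mem_span_singleton'.mp hN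
  -- hd : d * b = a ^ N
  refine ⟨N, ?_⟩
  intro R' _ _ hinj hfin m c hbc
  by_contra hmN
  have hmN' : N < m := not_le.mp hmN
  set φ := algebraMap R R' with hφ
  have hint : Algebra.IsIntegral R R' := Algebra.IsIntegral.of_finite R R'
  -- x = a^(m-N) * c * d lies in Jacobson radical
  have hjac : φ a ∈ Ideal.jacobson (⊥ : Ideal R') := by
    rw [Ideal.jacobson, Ideal.mem_sInf]
    rintro M ⟨-, hM⟩
    have hcm : (M.comap φ).IsMaximal := Ideal.isMaximal_comap_of_isIntegral_of_isMaximal M
    have : M.comap φ = IsLocalRing.maximalIdeal R := IsLocalRing.eq_maximalIdeal hcm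
    have ha' : a ∈ M.comap φ := this ▸ ham
    exact ha'
  have hx : φ a * (φ a ^ (m - N - 1) * c * φ d) ∈ Ideal.jacobson (⊥ : Ideal R') :=
    Ideal.mul_mem_right _ _ hjac
  have hunit : IsUnit (1 - φ a * (φ a ^ (m - N - 1) * c * φ d)) := by
    have := Ideal.mem_jacobson_bot.mp hx (-1)
    have h2 : φ a * (φ a ^ (m - N - 1) * c * φ d) * -1 + 1
        = 1 - φ a * (φ a ^ (m - N - 1) * c * φ d) := by ring
    rwa [h2] at this
  have hm : m = N + (m - N - 1) + 1 := by omega
  have key : φ a ^ N * (1 - φ a * (φ a ^ (m - N - 1) * c * φ d)) = 0 := by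
    have e1 : φ a ^ N = φ d * φ b := by rw [← map_mul, hd, map_pow]
    have e2 : φ a ^ N * (φ a * (φ a ^ (m - N - 1) * c * φ d)) = φ a ^ m * c * φ d := by
      conv_rhs => rw [hm]
      ring
    rw [mul_sub, mul_one, e2, ← hbc, e1]
    ring
  have hz : φ a ^ N = 0 := by
    obtain ⟨u, hu⟩ := hunit
    rw [← hu] at key
    exact (Units.mul_left_eq_zero u).mp key
  have hz' : a ^ N = 0 := by
    apply hinj
    rw [map_pow, hz, map_zero]
  have : a ^ N ∈ nonZeroDivisors R := pow_mem ha N
  have h0 : (0 : R) ∈ nonZeroDivisors R := hz' ▸ this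
  exact zero_notMem_nonZeroDivisors h0

end Groth.Agent.S1835
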