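import Groth.Statements.S18363
import Mathlib

set_option autoImplicit false
universe u
open CategoryTheory
open CAlg

namespace Groth.Agent.S18363

open IsLocalRing
open scoped Pointwise

section Alg

variable (R : Type u) [CommRing R] [IsNoetherianRing R] [IsLocalRing R]

/-- In a Noetherian local ring, if `R ⧸ Q` is reduced of dimension one then there is `x ∈ 𝔪`
which is a nonzerodivisor modulo `Q` and such that the only prime containing `Q` and `x` is `𝔪`. -/
theorem exists_good_element (Q : Ideal R) [IsReduced (R ⧸ Q)] (hQdim : ringKrullDim (R ⧸ Q) = 1) :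
    ∃ x ∈ maximalIdeal R, Ideal.Quotient.mk Q x ∈ nonZeroDivisors (R ⧸ Q) ∧
      ∀ 𝔭 : Ideal R, 𝔭.IsPrime → Q ≤ 𝔭 → x ∈ 𝔭 → 𝔭 = maximalIdeal R := by
  classical
  have hfin : Q.minimalPrimes.Finite := Ideal.finite_minimalPrimes_of_isNoetherianRing R Q
  have hmnot : maximalIdeal R ∉ Q.minimalPrimes := by
    intro hm
    have h0 : Ring.KrullDimLE 0 (R ⧸ Q) := by
      rw [Ideal.krullDimLE_zero_quotient_iff_forall_minimalPrimes_isMaximal]
      intro J hJ
      have hJm : J ≤ maximalIdeal R := le_maximalIdeal hJ.1.1.ne_top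
      have : maximalIdeal R ≤ J := hm.2 hJ.1 hJm
      rw [le_antisymm hJm this]
      infer_instance
    rw [Ring.krullDimLE_iff, hQdim] at h0
    norm_num at h0
  -- prime avoidance
  have hav : ¬ ((maximalIdeal R : Set R) ⊆
      ⋃ J ∈ (↑hfin.toFinset : Set (Ideal R)), ((id J : Ideal R) : Set R)) := by
    intro hsub
    have hp : ∀ J ∈ hfin.toFinset, J ≠ maximalIdeal R → J ≠ maximalIdeal R →
        (id J : Ideal R).IsPrime := by
      intro J hJ _ _
      rw [Set.Finite.mem_toFinset] at hJ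
      exact hJ.1.1
    obtain ⟨J, hJ, hmJ⟩ := (Ideal.subset_union_prime (f := id) (s := hfin.toFinset)
      (maximalIdeal R) (maximalIdeal R) hp).mp hsub
    rw [Set.Finite.mem_toFinset] at hJ
    have hJm : J ≤ maximalIdeal R := le_maximalIdeal hJ.1.1.ne_top
    exact hmnot (le_antisymm hJm hmJ ▸ hJ)
  obtain ⟨x, hxm, hxJ⟩ := Set.not_subset.mp hav
  have hxJ' : ∀ J ∈ Q.minimalPrimes, x ∉ J := by
    intro J hJ hx
    apply hxJ
    simp only [Set.mem_iUnion, SetLike.mem_coe, Finset.mem_coe, Set.Finite.mem_toFinset, id]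
    exact ⟨J, hJ, hx⟩
  have hQrad : Q.IsRadical := (Ideal.isRadical_iff_quotient_reduced Q).mpr inferInstance
  refine ⟨x, hxm, ?_, ?_⟩
  · rw [mem_nonZeroDivisors_iff_right]
    intro y hy
    obtain ⟨y, rfl⟩ := Ideal.Quotient.mk_surjective y
    rw [← map_mul, Ideal.Quotient.eq_zero_iff_mem] at hy
    rw [Ideal.Quotient.eq_zero_iff_mem, ← hQrad.radical, ← Ideal.sInf_minimalPrimes,
      Ideal.mem_sInf]
    intro J hJ
    exact (hJ.1.1.mem_or_mem (hJ.1.2 hy)).resolve_right (hxJ' J hJ)
  · intro 𝔭 h𝔭 hQ𝔭 hx𝔭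
    have h1 : Ring.KrullDimLE 1 (R ⧸ Q) := Ring.krullDimLE_iff.mpr (le_of_eq hQdim)
    have hker : RingHom.ker (Ideal.Quotient.mk Q) ≤ 𝔭 := by rwa [Ideal.mk_ker]
    have hprime : (𝔭.map (Ideal.Quotient.mk Q)).IsPrime :=
      Ideal.map_isPrime_of_surjective Ideal.Quotient.mk_surjective hker
    have hcomap : (𝔭.map (Ideal.Quotient.mk Q)).comap (Ideal.Quotient.mk Q) = 𝔭 := by
      rw [Ideal.comap_map_of_surjective _ Ideal.Quotient.mk_surjective, ← RingHom.ker_eq_comap_bot]
      exact sup_eq_left.mpr hker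
    rcases Ring.krullDimLE_one_iff.mp h1 _ hprime with hmin | hmax
    · exfalso
      have : 𝔭 ∈ Q.minimalPrimes := by
        rw [Ideal.minimalPrimes_eq_comap]
        exact ⟨_, hmin, hcomap⟩
      exact hxJ' 𝔭 this hx𝔭
    · have : 𝔭.IsMaximal := by
        rw [← hcomap]
        exact Ideal.comap_isMaximal_of_surjective _ Ideal.Quotient.mk_surjective
      exact eq_maximalIdeal this

/-- A nonzero map from a nonzero finite module to a nonzero Noetherian module all of whose
associated primes are the maximal ideal. -/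
theorem exists_linearMap_ne_zero (I M' : Type u) [AddCommGroup I] [Module R I] [Module.Finite R I]
    [Nontrivial I] [AddCommGroup M'] [Module R M'] [Nontrivial M']
    (hass : ∀ 𝔭 : Ideal R, 𝔭.IsPrime → Module.annihilator R M' ≤ 𝔭 → 𝔭 = maximalIdeal R) :
    ∃ θ : I →ₗ[R] M', θ ≠ 0 := by
  obtain ⟨𝔭, h𝔭⟩ := associatedPrimes.nonempty R M'
  obtain ⟨hprime, z, hz⟩ := isAssociatedPrime_iff.mp h𝔭
  have hann : Module.annihilator R M' ≤ 𝔭 := by
    intro a ha
    rw [hz, Submodule.mem_colon_singleton, Module.mem_annihilator.mp ha z]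
    exact Submodule.zero_mem _
  have h𝔭m := hass 𝔭 hprime hann
  have hmz : ∀ a ∈ maximalIdeal R, a • z = 0 := by
    intro a ha
    rw [← h𝔭m, hz, Submodule.mem_colon_singleton, Submodule.mem_bot] at ha
    exact ha
  have hz0 : z ≠ 0 := by
    rintro rfl
    have : (1 : R) ∈ 𝔭 := by
      rw [hz, Submodule.mem_colon_singleton, smul_zero]
      exact Submodule.zero_mem _
    exact hprime.ne_top ((Ideal.eq_top_iff_one _).mpr this)
  -- Nakayama
  have hne : (⊤ : Submodule R I) ≠ maximalIdeal R • ⊤ :=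
    Submodule.top_ne_ideal_smul_of_le_jacobson_annihilator
      ((maximalIdeal_le_jacobson _))
  obtain ⟨v, hv⟩ : ∃ v : I, v ∉ (maximalIdeal R • ⊤ : Submodule R I) := by
    by_contra hh
    push Not at hh
    exact hne (le_antisymm (fun v _ => hh v) le_top)
  have hv0 : (Submodule.Quotient.mk v : I ⧸ (maximalIdeal R • ⊤ : Submodule R I)) ≠ 0 := by
    rwa [Ne, Submodule.Quotient.mk_eq_zero]
  letI : Field (R ⧸ maximalIdeal R) := Ideal.Quotient.field (maximalIdeal R)
  obtain ⟨φ, hφ⟩ := Module.Projective.exists_dual_eq_one (R ⧸ maximalIdeal R) hv0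
  let ev : R →ₗ[R] M' := LinearMap.toSpanSingleton R M' z
  have hle : maximalIdeal R ≤ LinearMap.ker ev := by
    intro a ha
    rw [LinearMap.mem_ker, LinearMap.toSpanSingleton_apply]
    exact hmz a ha
  let ψ : (R ⧸ maximalIdeal R) →ₗ[R] M' := Submodule.liftQ (maximalIdeal R) ev hle
  let θ : I →ₗ[R] M' := ψ ∘ₗ (φ.restrictScalars R) ∘ₗ Submodule.mkQ _
  refine ⟨θ, fun h0 => hz0 ?_⟩
  have h1 : θ v = 0 := by rw [h0, LinearMap.zero_apply]
  have h2 : θ v = ψ (φ (Submodule.Quotient.mk v)) := rfl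
  rw [h2, hφ] at h1
  have h3 : ψ (1 : R ⧸ maximalIdeal R) = z := by
    change ψ (Submodule.Quotient.mk (1 : R)) = z
    rw [Submodule.liftQ_apply, LinearMap.toSpanSingleton_apply, one_smul]
  rwa [h3] at h1

end Alg


/-- Let R be a Noetherian local ring with maximal ideal m, and P, Q ideals of R such that P + Q contains
a power of m while R/P and R/Q are both reduced of Krull dimension one. Let I and J be nonzero
finitely generated R-modules with P·I = 0 and Q·J = 0, such that every element of R whose class in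
R/P is a non-zero-divisor acts injectively on I, and every element whose class in R/Q is a
non-zero-divisor acts injectively on J. Then the group Ext¹_R(I, J) is nonzero. (This is the stalk
statement behind the existence of a non-split extension of a torsion-free rank-one sheaf on a
subcurve Y by one on a subcurve Z of a reduced projective curve, at a point where Y and Z meet
without sharing a component; in that situation the modules moreover have rank one at the generic
points of their supports and P ∩ Q = 0, two assumptions the argument does not use.) -/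
theorem result
    (R : Type u) [CommRing R] [IsNoetherianRing R] [IsLocalRing R]
    (P Q : Ideal R) (hPQ : ∃ n : ℕ, IsLocalRing.maximalIdeal R ^ n ≤ P ⊔ Q)
    [IsReduced (R ⧸ P)] [IsReduced (R ⧸ Q)]
    (hPdim : ringKrullDim (R ⧸ P) = 1) (hQdim : ringKrullDim (R ⧸ Q) = 1)
    (I J : Type u) [AddCommGroup I] [Module R I] [Module.Finite R I] [Nontrivial I]
    [AddCommGroup J] [Module R J] [Module.Finite R J] [Nontrivial J]
    (hPI : ∀ p ∈ P, ∀ x : I, p • x = 0) (hQJ : ∀ q ∈ Q, ∀ y : J, q • y = 0)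
    (hItf : ∀ r : R, Ideal.Quotient.mk P r ∈ nonZeroDivisors (R ⧸ P) → ∀ x : I, r • x = 0 → x = 0)
    (hJtf : ∀ r : R, Ideal.Quotient.mk Q r ∈ nonZeroDivisors (R ⧸ Q) → ∀ y : J, r • y = 0 → y = 0) :
    Nontrivial (Abelian.Ext (ModuleCat.of R I) (ModuleCat.of R J) 1) := by
  obtain ⟨n, hn⟩ := hPQ
  obtain ⟨x, hxm, hxnzd, hxprime⟩ := exists_good_element R Q hQdim
  have hxJ : ∀ y : J, x • y = 0 → y = 0 := hJtf x hxnzd
  -- Hom(I, J) = 0
  have hHom : ∀ φ : I →ₗ[R] J, φ = 0 := by
    intro φ
    apply LinearMap.ext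
    intro y
    have h1 : ∀ a ∈ P ⊔ Q, a • φ y = 0 := by
      intro a ha
      obtain ⟨p, hp, q, hq, rfl⟩ := Submodule.mem_sup.mp ha
      rw [add_smul, ← map_smul, hPI p hp y, map_zero, hQJ q hq, add_zero]
    have h2 : x ^ n • φ y = 0 := h1 _ (hn (Ideal.pow_mem_pow hxm n))
    have h3 : Ideal.Quotient.mk Q (x ^ n) ∈ nonZeroDivisors (R ⧸ Q) := by
      rw [map_pow]
      exact pow_mem hxnzd n
    exact hJtf _ h3 _ h2
  -- the quotient J / xJ
  have hne : (⊤ : Submodule R J) ≠ x • ⊤ :=
    Submodule.top_ne_pointwise_smul_of_mem_jacobson_annihilator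
      (IsLocalRing.maximalIdeal_le_jacobson _ hxm)
  haveI : Nontrivial (J ⧸ (x • (⊤ : Submodule R J))) :=
    Submodule.Quotient.nontrivial_iff.mpr hne.symm
  have hass : ∀ 𝔭 : Ideal R, 𝔭.IsPrime →
      Module.annihilator R (J ⧸ (x • (⊤ : Submodule R J))) ≤ 𝔭 → 𝔭 = IsLocalRing.maximalIdeal R := by
    intro 𝔭 h𝔭 hann
    refine hxprime 𝔭 h𝔭 ?_ ?_
    · intro q hq
      apply hann
      rw [Module.mem_annihilator]
      intro w
      obtain ⟨y, rfl⟩ := Submodule.mkQ_surjective _ w
      rw [← map_smul, hQJ q hq y, map_zero]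
    · apply hann
      rw [Module.mem_annihilator]
      intro w
      obtain ⟨y, rfl⟩ := Submodule.mkQ_surjective _ w
      rw [← map_smul, Submodule.mkQ_apply, Submodule.Quotient.mk_eq_zero]
      exact Submodule.smul_mem_pointwise_smul y x ⊤ Submodule.mem_top
  obtain ⟨θ, hθ⟩ := exists_linearMap_ne_zero R I (J ⧸ (x • (⊤ : Submodule R J))) hass
  -- the short exact sequence 0 → J → J → J/xJ → 0
  let S : ShortComplex (ModuleCat.{u} R) :=
    ShortComplex.mk (ModuleCat.ofHom (x • (LinearMap.id : J →ₗ[R] J)))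
      (ModuleCat.ofHom (Submodule.mkQ (x • (⊤ : Submodule R J)))) (by
        apply ModuleCat.hom_ext
        apply LinearMap.ext
        intro y
        change Submodule.mkQ (x • (⊤ : Submodule R J)) (x • y) = 0
        rw [Submodule.mkQ_apply, Submodule.Quotient.mk_eq_zero]
        exact Submodule.smul_mem_pointwise_smul y x ⊤ Submodule.mem_top)
  have hS : S.ShortExact :=
    { exact := by
        rw [ShortComplex.ShortExact.moduleCat_exact_iff_function_exact]
        intro y
        change Submodule.mkQ (x • (⊤ : Submodule R J)) y = 0 ↔ y ∈ Set.range fun z : J => x • z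
        rw [Submodule.mkQ_apply, Submodule.Quotient.mk_eq_zero,
          Submodule.mem_smul_pointwise_iff_exists]
        constructor
        · rintro ⟨z, -, rfl⟩
          exact ⟨z, rfl⟩
        · rintro ⟨z, rfl⟩
          exact ⟨z, Submodule.mem_top, rfl⟩
      mono_f := by
        rw [ModuleCat.mono_iff_injective]
        intro y y' hyy
        have : x • (y - y') = 0 := by
          rw [smul_sub]
          exact sub_eq_zero.mpr hyy
        exact sub_eq_zero.mp (hxJ _ this)
      epi_g := by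
        rw [ModuleCat.epi_iff_surjective]
        exact Submodule.mkQ_surjective _ }
  let x₃ : Abelian.Ext (ModuleCat.of R I) S.X₃ 0 := Abelian.Ext.mk₀ (ModuleCat.ofHom θ)
  refine ⟨⟨x₃.comp hS.extClass (zero_add 1), 0, ?_⟩⟩
  intro h0
  obtain ⟨x₂, hx₂⟩ := Abelian.Ext.covariant_sequence_exact₃ (ModuleCat.of R I) hS x₃ (zero_add 1) h0
  obtain ⟨φ, rfl⟩ := (Abelian.Ext.mk₀_bijective _ _).2 x₂
  have hφ : φ = 0 := by
    apply ModuleCat.hom_ext
    exact hHom φ.hom
  rw [hφ, Abelian.Ext.mk₀_zero, Abelian.Ext.zero_comp] at hx₂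
  have h4 : ModuleCat.ofHom θ = 0 := (Abelian.Ext.mk₀_bijective _ _).1 (by
    rw [Abelian.Ext.mk₀_zero]; exact hx₂.symm)
  apply hθ
  have := congrArg ModuleCat.Hom.hom h4
  exact this

end Groth.Agent.S18363
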