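import Groth.Statements.S18364
import Mathlib
import Mathlib

set_option autoImplicit false
universe u
open CAlg

namespace Groth.Agent.S18364

/-- Let A be a Noetherian ring, π an element of A, and (𝔓_i)_{i ∈ ι} an injective finite family listing
exactly the minimal prime ideals over (π). Let M be a finitely generated A-module and M̄ = M/πM. For
a subset T of ι let K(T) ⊆ M̄ be the submodule of elements whose image in the localisation of M̄ at
𝔓_i is zero for every i ∈ T, and N(T) ⊆ M its preimage in M. Assume K(ι) = 0, i.e. no nonzero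
element of M̄ vanishes at all the minimal primes (every associated prime of M̄ is one of the 𝔓_i).
Then for every subset Y of ι with complement Z one has N(Y) ∩ N(Z) = πM, and the same construction
applied to the module N(Y) instead of M — the preimage in N(Y) of the elements of N(Y)/πN(Y)
vanishing at every 𝔓_i with i ∈ Z — is, as a submodule of M, equal to N(Y) ∩ N(Z). (Geometric
meaning: A is the local ring of a flat family of curves over a discrete valuation ring with
uniformizer π at a point of the reduced special fibre, M the stalk of a torsion-free rank-one sheaf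
I, Y a set of components of the special fibre through the point, and N(Y) the stalk of the kernel
I^Y of I → I(s)_Y; the statement is (I^Y)^Z = I^Y ∩ I^Z = πI. Reducedness of A/πA, flatness and rank
one are not used.) -/
theorem result
    (A : Type u) [CommRing A] [IsNoetherianRing A] (π : A)
    (ι : Type) [Finite ι] (𝔓 : ι → Ideal A) [∀ i, (𝔓 i).IsPrime]
    (h𝔓 : ∀ i, 𝔓 i ∈ (Ideal.span {π}).minimalPrimes) (h𝔓inj : Function.Injective 𝔓)
    (h𝔓surj : ∀ 𝔔 ∈ (Ideal.span {π}).minimalPrimes, ∃ i, 𝔓 i = 𝔔)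
    (M : Type u) [AddCommGroup M] [Module A M] [Module.Finite A M]
    (K : Set ι → Submodule A (M ⧸ Ideal.span {π} • (⊤ : Submodule A M)))
    (hK : ∀ T : Set ι, K T = ⨅ i ∈ T, LinearMap.ker
      (LocalizedModule.mkLinearMap (𝔓 i).primeCompl (M ⧸ Ideal.span {π} • (⊤ : Submodule A M))))
    (htf : K Set.univ = ⊥)
    (N : Set ι → Submodule A M)
    (hN : ∀ T : Set ι, N T = (K T).comap (Submodule.mkQ (Ideal.span {π} • (⊤ : Submodule A M))))
    (Y : Set ι) :
    N Y ⊓ N Yᶜ = Ideal.span {π} • (⊤ : Submodule A M) ∧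
    Submodule.map (N Y).subtype
      ((⨅ i ∈ Yᶜ, LinearMap.ker (LocalizedModule.mkLinearMap (𝔓 i).primeCompl
          (↥(N Y) ⧸ Ideal.span {π} • (⊤ : Submodule A ↥(N Y))))).comap
        (Submodule.mkQ (Ideal.span {π} • (⊤ : Submodule A ↥(N Y)))))
      = N Y ⊓ N Yᶜ := by
  classical
  cases nonempty_fintype ι
  -- membership in N T
  have memN : ∀ (T : Set ι) (m : M), m ∈ N T ↔
      ∀ i ∈ T, ∃ s ∈ (𝔓 i).primeCompl, s • m ∈ (Ideal.span {π} : Ideal A) • (⊤ : Submodule A M) := by
    intro T m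
    rw [hN, Submodule.mem_comap, hK]
    simp only [Submodule.mem_iInf, LocalizedModule.mem_ker_mkLinearMap_iff, Submodule.mkQ_apply]
    constructor
    · intro h i hi
      obtain ⟨s, hs, hsm⟩ := h i hi
      refine ⟨s, hs, ?_⟩
      rw [← Submodule.Quotient.mk_smul, Submodule.Quotient.mk_eq_zero] at hsm
      exact hsm
    · intro h i hi
      obtain ⟨s, hs, hsm⟩ := h i hi
      refine ⟨s, hs, ?_⟩
      rw [← Submodule.Quotient.mk_smul, Submodule.Quotient.mk_eq_zero]
      exact hsm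
  -- Claim 1
  have claim1 : N Y ⊓ N Yᶜ = (Ideal.span {π} : Ideal A) • (⊤ : Submodule A M) := by
    rw [hN, hN, ← Submodule.comap_inf]
    have : K Y ⊓ K Yᶜ = K Set.univ := by
      rw [hK, hK, hK, ← iInf_union, Set.union_compl_self]
    rw [this, htf, Submodule.comap_bot, Submodule.ker_mkQ]
  have hIM_le : ∀ T : Set ι, (Ideal.span {π} : Ideal A) • (⊤ : Submodule A M) ≤ N T := by
    intro T m hm
    rw [memN]
    intro i _
    exact ⟨1, Submonoid.one_mem _, by rw [one_smul]; exact hm⟩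
  -- radical power
  obtain ⟨kk, hkk⟩ := Ideal.exists_radical_pow_le_of_fg (Ideal.span {π} : Ideal A) (IsNoetherian.noetherian _)
  have hrad : ∀ r : A, (∀ l, r ∈ 𝔓 l) → r ^ kk ∈ (Ideal.span {π} : Ideal A) := by
    intro r hr
    apply hkk
    apply Ideal.pow_mem_pow
    rw [← Ideal.sInf_minimalPrimes, Ideal.mem_sInf]
    intro 𝔔 h𝔔
    obtain ⟨l, rfl⟩ := h𝔓surj 𝔔 h𝔔
    exact hr l
  -- separation of distinct minimal primes
  have hsep : ∀ i l : ι, l ≠ i → ∃ c : A, c ∈ 𝔓 l ∧ c ∉ 𝔓 i := by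
    intro i l hli
    have hnle : ¬ 𝔓 l ≤ 𝔓 i := by
      intro hle
      have h1 := (h𝔓 i).2 ⟨inferInstance, (h𝔓 l).1.2⟩ hle
      exact hli (h𝔓inj (le_antisymm hle h1))
    obtain ⟨c, hc1, hc2⟩ := SetLike.not_le_iff_exists.mp hnle
    exact ⟨c, hc1, hc2⟩
  have hprod : ∀ i : ι, ∃ s₀ : A, s₀ ∉ 𝔓 i ∧ ∀ l, l ≠ i → s₀ ∈ 𝔓 l := by
    intro i
    choose c hc1 hc2 using hsep i
    refine ⟨∏ l : ι, (if h : l = i then 1 else c l h), ?_, ?_⟩
    · intro hmem
      rw [Ideal.IsPrime.prod_mem_iff] at hmem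
      obtain ⟨l, -, hl⟩ := hmem
      by_cases h : l = i
      · rw [dif_pos h] at hl
        exact (Ideal.ne_top_iff_one _).mp (Ideal.IsPrime.ne_top inferInstance) hl
      · rw [dif_neg h] at hl
        exact hc2 l h hl
    · intro l hl
      apply Ideal.mem_of_dvd _ (Finset.dvd_prod_of_mem _ (Finset.mem_univ l))
      rw [dif_neg hl]
      exact hc1 l hl
  -- key lemma
  have key : ∀ i, i ∉ Y → ∀ m' : M, ∃ s ∈ (𝔓 i).primeCompl, s • m' ∈ N Y := by
    intro i hi m'
    obtain ⟨s₀, hs₀, hs₀l⟩ := hprod i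
    refine ⟨s₀ ^ kk, Submonoid.pow_mem _ hs₀ kk, ?_⟩
    rw [memN]
    intro j hj
    have hji : j ≠ i := fun h => hi (h ▸ hj)
    obtain ⟨t₀, ht₀, ht₀l⟩ := hprod j
    refine ⟨t₀ ^ kk, Submonoid.pow_mem _ ht₀ kk, ?_⟩
    rw [smul_smul, ← mul_pow]
    apply Submodule.smul_mem_smul _ Submodule.mem_top
    apply hrad
    intro l
    by_cases hl : l = i
    · subst hl
      exact Ideal.mul_mem_right _ _ (ht₀l l (Ne.symm hji))
    · exact Ideal.mul_mem_left _ _ (hs₀l l hl)
  refine ⟨claim1, ?_⟩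
  -- membership in the second construction
  have memN' : ∀ n : ↥(N Y), n ∈ (⨅ i ∈ Yᶜ, LinearMap.ker (LocalizedModule.mkLinearMap
      (𝔓 i).primeCompl (↥(N Y) ⧸ Ideal.span {π} • (⊤ : Submodule A ↥(N Y))))).comap
        (Submodule.mkQ (Ideal.span {π} • (⊤ : Submodule A ↥(N Y)))) ↔
      ∀ i ∈ Yᶜ, ∃ s ∈ (𝔓 i).primeCompl, s • n ∈ (Ideal.span {π} : Ideal A) • (⊤ : Submodule A ↥(N Y)) := by
    intro n
    rw [Submodule.mem_comap]
    simp only [Submodule.mem_iInf, LocalizedModule.mem_ker_mkLinearMap_iff, Submodule.mkQ_apply]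
    constructor
    · intro h i hi
      obtain ⟨s, hs, hsm⟩ := h i hi
      refine ⟨s, hs, ?_⟩
      rw [← Submodule.Quotient.mk_smul, Submodule.Quotient.mk_eq_zero] at hsm
      exact hsm
    · intro h i hi
      obtain ⟨s, hs, hsm⟩ := h i hi
      refine ⟨s, hs, ?_⟩
      rw [← Submodule.Quotient.mk_smul, Submodule.Quotient.mk_eq_zero]
      exact hsm
  apply le_antisymm
  · rintro m ⟨n, hn, rfl⟩
    rw [SetLike.mem_coe, memN'] at hn
    refine ⟨n.2, ?_⟩
    change (n : M) ∈ N Yᶜ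
    rw [memN]
    intro i hi
    obtain ⟨s, hs, hsn⟩ := hn i hi
    refine ⟨s, hs, ?_⟩
    have h1 : (N Y).subtype (s • n) ∈ ((Ideal.span {π} : Ideal A) • (⊤ : Submodule A ↥(N Y))).map (N Y).subtype :=
      Submodule.mem_map_of_mem hsn
    rw [Submodule.map_smul''] at h1
    exact Submodule.smul_mono le_rfl le_top h1
  · rw [claim1]
    intro m hm
    rw [Submodule.ideal_span_singleton_smul, Submodule.mem_smul_pointwise_iff_exists] at hm
    obtain ⟨m', -, rfl⟩ := hm
    have hmem : π • m' ∈ N Y := hIM_le Y (Submodule.smul_mem_smul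
      (Ideal.mem_span_singleton_self π) Submodule.mem_top)
    refine ⟨⟨π • m', hmem⟩, ?_, rfl⟩
    rw [SetLike.mem_coe, memN']
    intro i hi
    obtain ⟨s, hs, hsm⟩ := key i hi m'
    refine ⟨s, hs, ?_⟩
    have : s • (⟨π • m', hmem⟩ : ↥(N Y)) = π • (⟨s • m', hsm⟩ : ↥(N Y)) := by
      apply Subtype.ext
      simp only [Submodule.coe_smul]
      rw [smul_comm]
    rw [this]
    exact Submodule.smul_mem_smul (Ideal.mem_span_singleton_self π) Submodule.mem_top

end Groth.Agent.S18364
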