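import Groth.Statements.S18367
import Mathlib
import Groth.Agent.S14128
import Groth.Agent.Lib.Helper28Reflexive2
-- import your own Groth.Agent.* helpers here

set_option autoImplicit false
universe u
open CategoryTheory CategoryTheory.Limits
open LocAlg

namespace Groth.Agent.S18367.Aux

set_option autoImplicit false
open CategoryTheory CategoryTheory.Limits
open LocAlg

open CategoryTheory Abelian IsLocalRing

theorem ext_free_subsingleton (R : Type u) [CommRing R] [LocCoh.IsCohenMacaulayLocalRing R] (g : ℕ)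
    (hg : ringKrullDim R = g) (F : ModuleCat.{u} R) [Module.Free R F] (n : ℕ) (hn : n < g) :
    Subsingleton (Ext (Groth.Agent.S14128.kk R) F n) := by
  have hdep : ((g : ℕ) : ℕ∞) ≤ LocCoh.idealDepth (maximalIdeal R) R := by
    have h1 := LocCoh.IsCohenMacaulayLocalRing.supportDim_eq_depth (R := R)
    rw [Module.supportDim_self_eq_ringKrullDim, hg] at h1
    have h2 : ((g : ℕ∞) : WithBot ℕ∞) = ((LocCoh.depth R R : ℕ∞) : WithBot ℕ∞) := by
      rw [← h1]; rfl
    have h3 : (g : ℕ∞) = LocCoh.depth R R := WithBot.coe_inj.1 h2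
    exact le_of_eq h3
  obtain ⟨rs, hlen', hmem, hreg⟩ :=
    Groth.Agent.Lib.Helper28.exists_isWeaklyRegular_of_natCast_le_idealDepth (M := R)
      (maximalIdeal R) g hdep
  have hw : RingTheory.Sequence.IsWeaklyRegular F rs := by
    have h1 : RingTheory.Sequence.IsWeaklyRegular (TensorProduct R R F) rs :=
      hreg.isWeaklyRegular_rTensor
    exact ((TensorProduct.lid R F).isWeaklyRegular_congr rs).1 h1
  have hN : ((maximalIdeal R) ^ 1) • (⊤ : Submodule R (R ⧸ maximalIdeal R)) = ⊥ := by
    rw [pow_one, eq_bot_iff]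
    intro y hy
    refine Submodule.smul_induction_on hy ?_ ?_
    · intro a ha z _
      obtain ⟨z, rfl⟩ := Submodule.Quotient.mk_surjective _ z
      rw [Submodule.mem_bot, ← Submodule.Quotient.mk_smul, Submodule.Quotient.mk_eq_zero]
      exact Ideal.mul_mem_right _ _ ha
    · intro a b ha hb
      exact Submodule.add_mem _ ha hb
  exact Groth.Agent.S5150.main (maximalIdeal R) (R ⧸ maximalIdeal R) 1 hN rs F hw hmem n
    (by omega)

theorem ext_opcycles_subsingleton (R : Type u) [CommRing R] [LocCoh.IsCohenMacaulayLocalRing R]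
    (g : ℕ)
    (hg : ringKrullDim R = g) (M : CochainComplex (ModuleCat.{u} R) ℕ)
    (hfree : ∀ i, Module.Free R (M.X i)) :
    ∀ (j : ℕ), (∀ j' < j, IsZero (M.homology j')) → ∀ n, n + j < g →
      Subsingleton (Ext (Groth.Agent.S14128.kk R) (M.opcycles j) n) := by
  intro j
  induction j with
  | zero =>
    intro _ n hn
    have := hfree 0
    have h1 := ext_free_subsingleton R g hg (M.X 0) n (by omega)
    refine ⟨fun a b => ?_⟩
    have key : ∀ x : Ext (Groth.Agent.S14128.kk R) (M.opcycles 0) n, x = 0 := by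
      intro x
      have e1 : x = (x.comp (Ext.mk₀ (inv (M.pOpcycles 0))) (add_zero n)).comp
          (Ext.mk₀ (M.pOpcycles 0)) (add_zero n) := by
        rw [Ext.comp_assoc_of_third_deg_zero, Ext.mk₀_comp_mk₀, IsIso.inv_hom_id, Ext.comp_mk₀_id]
      rw [e1, Subsingleton.elim (x.comp (Ext.mk₀ (inv (M.pOpcycles 0))) (add_zero n)) 0,
        Ext.zero_comp]
    rw [key a, key b]
  | succ j ih =>
    intro hH n hn
    have hHj : IsZero (M.homology j) := hH j (by omega)
    have ih' := ih (fun j' hj' => hH j' (by omega))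
    have hzero : M.fromOpcycles j (j + 1) ≫ M.pOpcycles (j + 1) = 0 := by
      rw [← cancel_epi (M.pOpcycles j), HomologicalComplex.p_fromOpcycles_assoc,
        HomologicalComplex.d_pOpcycles, comp_zero]
    have hmono : Mono (M.fromOpcycles j (j + 1)) := by
      apply Preadditive.mono_of_cancel_zero
      intro W u hu
      have hk := M.homologyIsKernel j (j + 1) (by simp)
      have e1 := KernelFork.IsLimit.lift' hk u hu
      rw [← e1.2]
      have : e1.1 = 0 := hHj.eq_of_tgt _ _
      rw [this, zero_comp]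
    let S₁ : ShortComplex (ModuleCat.{u} R) :=
      ShortComplex.mk (M.d j (j + 1)) (M.pOpcycles (j + 1)) (M.d_pOpcycles j (j + 1))
    let S₂ : ShortComplex (ModuleCat.{u} R) :=
      ShortComplex.mk (M.fromOpcycles j (j + 1)) (M.pOpcycles (j + 1)) hzero
    have hS₁ : S₁.Exact :=
      ShortComplex.exact_of_g_is_cokernel _ (M.opcyclesIsCokernel j (j + 1) (by simp))
    let φ : S₁ ⟶ S₂ :=
      { τ₁ := M.pOpcycles j, τ₂ := 𝟙 _, τ₃ := 𝟙 _
        comm₁₂ := by
          show M.pOpcycles j ≫ M.fromOpcycles j (j + 1) = M.d j (j + 1) ≫ 𝟙 _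
          rw [HomologicalComplex.p_fromOpcycles, Category.comp_id]
        comm₂₃ := by
          show 𝟙 _ ≫ M.pOpcycles (j + 1) = M.pOpcycles (j + 1) ≫ 𝟙 _
          rw [Category.comp_id, Category.id_comp] }
    have : Epi φ.τ₁ := inferInstanceAs (Epi (M.pOpcycles j))
    have : IsIso φ.τ₂ := inferInstanceAs (IsIso (𝟙 _))
    have : Mono φ.τ₃ := inferInstanceAs (Mono (𝟙 _))
    have hS₂ : S₂.Exact := (ShortComplex.exact_iff_of_epi_of_isIso_of_mono φ).1 hS₁
    have : Mono S₂.f := hmono
    have : Epi S₂.g := inferInstanceAs (Epi (M.pOpcycles (j + 1)))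
    have hSE : S₂.ShortExact := { exact := hS₂ }
    have := hfree (j + 1)
    have h1 : Subsingleton (Ext (Groth.Agent.S14128.kk R) (M.X (j + 1)) n) :=
      ext_free_subsingleton R g hg (M.X (j + 1)) n (by omega)
    have h2 : Subsingleton (Ext (Groth.Agent.S14128.kk R) (M.opcycles j) (n + 1)) :=
      ih' (n + 1) (by omega)
    refine ⟨fun a b => ?_⟩
    have key : ∀ x : Ext (Groth.Agent.S14128.kk R) (M.opcycles (j + 1)) n, x = 0 := by
      intro x
      obtain ⟨y, hy⟩ := Ext.covariant_sequence_exact₃ (Groth.Agent.S14128.kk R) hSE x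
        (rfl : n + 1 = n + 1) (Subsingleton.elim _ _)
      rw [← hy, Subsingleton.elim y 0, Ext.zero_comp]
    rw [key a, key b]

theorem main (R : Type u) [CommRing R]
    [LocCoh.IsCohenMacaulayLocalRing R] (g : ℕ) (hg : ringKrullDim R = g)
    (M : CochainComplex (ModuleCat.{u} R) ℕ)
    (hfree : ∀ i, Module.Free R (M.X i) ∧ Module.Finite R (M.X i))
    (hfl : ∀ i, IsFiniteLength R (M.homology i)) (i : ℕ) (hi : i < g) :
    IsZero (M.homology i) := by
  have hfree' : ∀ i, Module.Free R (M.X i) := fun i => (hfree i).1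
  induction i using Nat.strong_induction_on with
  | _ i ih =>
    have hH : ∀ j' < i, IsZero (M.homology j') := fun j' hj' => ih j' hj' (by omega)
    have h0 := ext_opcycles_subsingleton R g hg M hfree' i hH 0 (by omega)
    apply Groth.Agent.S14128.isZero_of_hom_residue_eq_zero R _ (hfl i)
    intro f
    have h1 : Ext.mk₀ (f ≫ M.homologyι i) = 0 := Subsingleton.elim _ _
    have h2 : f ≫ M.homologyι i = 0 := by
      have := congrArg Ext.addEquiv₀ h1
      simpa using this
    rw [← cancel_mono (M.homologyι i), h2, zero_comp]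

end Groth.Agent.S18367.Aux

namespace Groth.Agent.S18367

/-- Let R be a Cohen–Macaulay local ring of Krull dimension g and K = (K^0 → K^1 → ⋯) a bounded cochain
complex of finitely generated free R-modules (K^i = 0 for i > N) such that every cohomology module
H^i(K) has finite length. Then H^i(K) = 0 for all i < g. -/
theorem result (R : Type u) [CommRing R]
    [LocCoh.IsCohenMacaulayLocalRing R] (g : ℕ) (hg : ringKrullDim R = g) (K : CochainComplex (ModuleCat.{u} R) ℕ)
    (N : ℕ) (hbd : ∀ i, N < i → IsZero (K.X i)) (hfree : ∀ i, Module.Free R (K.X i) ∧ Module.Finite R (K.X i))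
    (hfl : ∀ i, IsFiniteLength R (K.homology i)) (i : ℕ) (hi : i < g) :
    IsZero (K.homology i) := by
  exact Aux.main R g hg K hfree hfl i hi

end Groth.Agent.S18367
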