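import Groth.Statements.S18368
import Groth.Agent.Lib.Helper3RigidClopen
import Mathlib

set_option autoImplicit false
set_option linter.style.haveILetI false
universe u
open CategoryTheory CategoryTheory.Limits MonoidalCategory CartesianMonoidalCategory AlgebraicGeometry
open AbVar

namespace Groth.Agent.S18368

/-- Let k be a field, X and Y geometrically integral k-schemes of finite type with X proper, Z a
separated k-scheme and f : X ×_k Y → Z a k-morphism (products in the cartesian monoidal category of
k-schemes). If for some algebraically closed field K over k there are points y₀ : Spec K → Y and z₀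
: Spec K → Z over k such that f restricted to X ×_k Spec K along y₀ is the constant map z₀, then f
factors uniquely through the second projection: there is exactly one g : Y → Z over k with f = pr₂ ≫
g. (The target Z is not assumed to be of finite type over k.) -/
theorem result (k : Type u) [Field k]
    (X Y Z : Over (Spec (CommRingCat.of k)))
    [IsProper X.hom] [GeometricallyIntegral X.hom]
    [LocallyOfFiniteType Y.hom] [QuasiCompact Y.hom] [GeometricallyIntegral Y.hom]
    [IsSeparated Z.hom] (f : X ⊗ Y ⟶ Z)
    (K : Type u) [Field K] [Algebra k K] [IsAlgClosed K]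
    (y₀ : (Over.mk (Spec.map (CommRingCat.ofHom (algebraMap k K))) : Over (Spec (CommRingCat.of k))) ⟶ Y)
    (z₀ : (Over.mk (Spec.map (CommRingCat.ofHom (algebraMap k K))) : Over (Spec (CommRingCat.of k))) ⟶ Z)
    (h : (X ◁ y₀) ≫ f = snd X _ ≫ z₀) :
    ∃! g : Y ⟶ Z, f = snd X Y ≫ g := by
  let K' : Over (Spec (CommRingCat.of k)) :=
    Over.mk (Spec.map (CommRingCat.ofHom (algebraMap k K)))
  let p : (X ⊗ Y).left ⟶ Y.left := (snd X Y).left
  haveI : IsProper p := inferInstanceAs (IsProper (pullback.snd X.hom Y.hom))
  haveI : Flat X.hom := inferInstance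
  haveI : Flat p := inferInstanceAs (Flat (pullback.snd X.hom Y.hom))
  haveI : GeometricallyIntegral p :=
    inferInstanceAs (GeometricallyIntegral (pullback.snd X.hom Y.hom))
  haveI : IsLocallyNoetherian Y.left := LocallyOfFiniteType.isLocallyNoetherian Y.hom
  haveI : IsLocallyNoetherian (X ⊗ Y).left := LocallyOfFiniteType.isLocallyNoetherian p
  haveI : IsIntegral Y.left := GeometricallyIntegral.isIntegral_of_subsingleton (f := Y.hom)
  haveI : ConnectedSpace Y.left := inferInstance
  have h0 : ∀ s : Y.left, Function.Bijective
      (pullback.snd p (Y.left.fromSpecResidueField s)).appTop.hom := fun s =>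
    Groth.Agent.Lib.Helper3.RigidClopen.bijective_appTop_of_geomIntegral_proper p s
  have hsurj : Function.Surjective p.base :=
    Groth.Agent.Lib.Helper11RigidBase.surjective_of_injective_appTop p (fun s => (h0 s).1)
  haveI : Surjective p := ⟨hsurj⟩
  haveI : Epi p := Flat.epi_of_flat_of_surjective p
  have hq : f.left ≫ Z.hom = p ≫ Y.hom := by
    rw [Over.w f]
    exact pullback.condition
  -- the collapsed fibre
  let ptK : ↥K'.left := IsLocalRing.closedPoint K
  have H : IsPullback (fst X K').left (snd X K').left X.hom K'.hom := IsPullback.of_hasPullback _ _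
  have Hsq : IsPullback (X ◁ y₀).left (snd X K').left (snd X Y).left y₀.left := by
    refine IsPullback.of_right ?_ ?_ (IsPullback.of_hasPullback X.hom Y.hom)
    · have h1 : (X ◁ y₀).left ≫ pullback.fst X.hom Y.hom = (fst X K').left := by
        rw [← Over.fst_left, ← Over.comp_left, whiskerLeft_fst]
      rw [h1, Over.w y₀]
      exact H
    · rw [← Over.comp_left, whiskerLeft_snd]
      rfl
  have hs : ∀ x₁ x₂ : (X ⊗ Y).left, p.base x₁ = y₀.left ptK → p.base x₂ = y₀.left ptK →
      f.left.base x₁ = f.left.base x₂ := by
    have hone : ∀ x₁ : (X ⊗ Y).left, p.base x₁ = y₀.left ptK → f.left x₁ = z₀.left ptK := by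
      intro x₁ h₁
      obtain ⟨w, hw, -⟩ := Groth.Agent.Lib.Helper11RigidBase.exists_preimage_of_isPullback Hsq
        x₁ ptK h₁
      rw [← hw]
      have h2 := congr($(h).left w)
      rw [Over.comp_left, Over.comp_left] at h2
      refine h2.trans ?_
      change z₀.left ((snd X K').left w) = _
      haveI : Subsingleton ↥K'.left :=
        inferInstanceAs (Subsingleton ↥(Spec (CommRingCat.of K)))
      rw [Subsingleton.elim ((snd X K').left w) ptK]
    intro x₁ x₂ h₁ h₂
    exact (hone x₁ h₁).trans (hone x₂ h₂).symm
  obtain ⟨t, ht⟩ := Groth.Agent.Lib.Helper11RigidBase.rigidity_proper p f.left Z.hom Y.hom hq h0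
    (y₀.left ptK) hs
  have htw : t ≫ Z.hom = Y.hom := by
    rw [← cancel_epi p, ← Category.assoc, ← ht, hq]
  refine ⟨Over.homMk t htw, ?_, ?_⟩
  · apply Over.OverMorphism.ext
    rw [Over.comp_left]
    exact ht
  · intro g hg
    apply Over.OverMorphism.ext
    have h1 := congr($(hg).left)
    rw [Over.comp_left] at h1
    change g.left = t
    rw [← cancel_epi p, ← h1, ht]

end Groth.Agent.S18368
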