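import Groth.Statements.S18370
import Mathlib.Tactic

set_option autoImplicit false
universe u
open CategoryTheory CategoryTheory.Limits MonoidalCategory CartesianMonoidalCategory MonObj GrpObj AlgebraicGeometry
open GrpSch

namespace Groth.Agent.S18370

/-- Let S be a scheme and G a commutative S-group scheme which is killed by a natural number n, i.e. the
n-th power map of G is the trivial homomorphism, and let n = a·b with a and b coprime. If i_a : G_a
→ G and i_b : G_b → G are scheme-theoretic kernels of the a-th and b-th power maps of G, then the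
morphism G_a ×_S G_b → G sending (x, y) to i_a(x)·i_b(y) is an isomorphism of S-schemes. (The
published statement assumes n ≠ 0; the case n = 0, where {a, b} = {0, 1} and one kernel is all of G
while the other is trivial, is included here.) -/
theorem result {S : Scheme.{u}} (G Ga Gb : Over S)
    [GrpObj G] [IsCommMonObj G] (n a b : ℕ) (hn : n = a * b) (hab : Nat.Coprime a b)
    (hG : (𝟙 G) ^ n = 1)
    (ia : Ga ⟶ G) (hia : AlgGrp.IsKernel ia ((𝟙 G) ^ a))
    (ib : Gb ⟶ G) (hib : AlgGrp.IsKernel ib ((𝟙 G) ^ b)) :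
    IsIso ((fst Ga Gb ≫ ia) * (snd Ga Gb ≫ ib)) := by
  unfold AlgGrp.IsKernel at hia hib
  -- Bezout coefficients
  obtain ⟨u, v, huv⟩ : ∃ u v : ℤ, u * a + v * b = 1 := by
    have h := Nat.gcd_eq_gcd_ab a b
    rw [Nat.Coprime] at hab
    rw [hab] at h
    exact ⟨Nat.gcdA a b, Nat.gcdB a b, by push_cast at h; linarith⟩
  -- kernel conditions on points
  have hia1 : ia ^ a = 1 := by
    have := hia.w
    rw [MonObj.comp_pow, Category.comp_id] at this
    rw [this, Hom.one_def]
  have hib1 : ib ^ b = 1 := by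
    have := hib.w
    rw [MonObj.comp_pow, Category.comp_id] at this
    rw [this, Hom.one_def]
  -- every point of G is killed by n
  have hkill : ∀ {T : Over S} (x : T ⟶ G), x ^ n = 1 := by
    intro T x
    have := congrArg (fun q => x ≫ q) hG
    simp only [MonObj.comp_pow, Category.comp_id, MonObj.comp_one] at this
    exact this
  -- the two projections
  let pa : G ⟶ G := (𝟙 G) ^ (v * b)
  let pb : G ⟶ G := (𝟙 G) ^ (u * a)
  have hpa : pa ≫ (𝟙 G) ^ a = toUnit G ≫ η[G] := by
    rw [MonObj.comp_pow, Category.comp_id, ← Hom.one_def]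
    change ((𝟙 G) ^ (v * b)) ^ a = 1
    rw [← zpow_natCast, ← zpow_mul, show v * (b : ℤ) * (a : ℤ) = (n : ℤ) * v by rw [hn]; push_cast; ring,
      zpow_mul, zpow_natCast, hkill, one_zpow]
  have hpb : pb ≫ (𝟙 G) ^ b = toUnit G ≫ η[G] := by
    rw [MonObj.comp_pow, Category.comp_id, ← Hom.one_def]
    change ((𝟙 G) ^ (u * a)) ^ b = 1
    rw [← zpow_natCast, ← zpow_mul, show u * (a : ℤ) * (b : ℤ) = (n : ℤ) * u by rw [hn]; push_cast; ring,
      zpow_mul, zpow_natCast, hkill, one_zpow]
  let ψa : G ⟶ Ga := hia.lift pa (toUnit G) hpa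
  let ψb : G ⟶ Gb := hib.lift pb (toUnit G) hpb
  have hψa : ψa ≫ ia = pa := hia.lift_fst _ _ _
  have hψb : ψb ≫ ib = pb := hib.lift_fst _ _ _
  have mono_ia : Mono ia := by
    constructor
    intro T x y hxy
    exact hia.hom_ext hxy (toUnit_unique _ _)
  have mono_ib : Mono ib := by
    constructor
    intro T x y hxy
    exact hib.hom_ext hxy (toUnit_unique _ _)
  set φ : Ga ⊗ Gb ⟶ G := (fst Ga Gb ≫ ia) * (snd Ga Gb ≫ ib) with hφ
  have hA : (fst Ga Gb ≫ ia) ^ a = 1 := by
    rw [← MonObj.comp_pow, hia1, MonObj.comp_one]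
  have hB : (snd Ga Gb ≫ ib) ^ b = 1 := by
    rw [← MonObj.comp_pow, hib1, MonObj.comp_one]
  refine ⟨⟨lift ψa ψb, ?_, ?_⟩⟩
  · apply CartesianMonoidalCategory.hom_ext
    · rw [Category.assoc, lift_fst, Category.id_comp]
      rw [← cancel_mono ia, Category.assoc, hψa]
      change φ ≫ (𝟙 G) ^ (v * b) = _
      rw [GrpObj.comp_zpow, Category.comp_id, hφ, mul_zpow]
      have h1 : (snd Ga Gb ≫ ib) ^ (v * (b : ℤ)) = 1 := by
        rw [mul_comm, zpow_mul, zpow_natCast, hB, one_zpow]
      have h2 : (fst Ga Gb ≫ ia) ^ (v * (b : ℤ)) = fst Ga Gb ≫ ia := by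
        have : v * (b : ℤ) = 1 - (a : ℤ) * u := by linarith
        rw [this, zpow_sub, zpow_one, zpow_mul, zpow_natCast, hA, one_zpow, inv_one, _root_.mul_one]
      rw [h1, h2, _root_.mul_one]
    · rw [Category.assoc, lift_snd, Category.id_comp]
      rw [← cancel_mono ib, Category.assoc, hψb]
      change φ ≫ (𝟙 G) ^ (u * a) = _
      rw [GrpObj.comp_zpow, Category.comp_id, hφ, mul_zpow]
      have h1 : (fst Ga Gb ≫ ia) ^ (u * (a : ℤ)) = 1 := by
        rw [mul_comm, zpow_mul, zpow_natCast, hA, one_zpow]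
      have h2 : (snd Ga Gb ≫ ib) ^ (u * (a : ℤ)) = snd Ga Gb ≫ ib := by
        have : u * (a : ℤ) = 1 - (b : ℤ) * v := by linarith
        rw [this, zpow_sub, zpow_one, zpow_mul, zpow_natCast, hB, one_zpow, inv_one, _root_.mul_one]
      rw [h1, h2, _root_.one_mul]
  · rw [hφ, MonObj.comp_mul, ← Category.assoc, lift_fst, ← Category.assoc, lift_snd, hψa, hψb]
    change (𝟙 G) ^ (v * b) * (𝟙 G) ^ (u * a) = 𝟙 G
    rw [← zpow_add, show v * (b : ℤ) + u * a = 1 by linarith, zpow_one]

end Groth.Agent.S18370
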