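import Groth.Statements.S18377
import Mathlib
import Groth.Agent.Lib.Helper11VerlindeSchur

set_option autoImplicit false
open Complex
open VerlindeComb

namespace Groth.Agent.S18377
open Groth.Agent.Verl


/-- Let r, k ≥ 1 be integers and v_1 > v_2 > ⋯ > v_r ≥ 0 integers below r + k; put z_j = exp(2πi v_j /
(r + k)) and, for μ = (μ_1, …, μ_r), let S_μ(z) = det(z_j^{μ_i + r - i}) / det(z_j^{r - i}) be the
value of the Schur polynomial (the z_j are distinct, so the Vandermonde denominator is nonzero).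
Then, summing over all μ with k > μ_1 ≥ ⋯ ≥ μ_r ≥ 0 and writing μ* = (k - μ_r, …, k - μ_1), one has
Σ_μ S_μ(z) S_{μ*}(z) = exp(2πi k (v_1 + ⋯ + v_r) / (r + k)) · k (r + k)^{r-1} / ∏_{i<j} (2 sin(π
(v_i - v_j) / (r + k)))². Indices are 0-based below: μ i stands for μ_{i+1}. -/
theorem result (r k : ℕ) (hr : 1 ≤ r) (hk : 1 ≤ k)
    (v : Fin r → ℕ) (hv : StrictAnti v) (hvlt : ∀ i, v i < r + k)
    (z : Fin r → ℂ) (hz : ∀ j, z j = Complex.exp (2 * Real.pi * Complex.I * (v j : ℂ) / ((r : ℂ) + k)))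
    (S : (Fin r → ℕ) → ℂ)
    (hS : ∀ μ : Fin r → ℕ, S μ =
      (Matrix.of fun i j : Fin r => z j ^ (μ i + (r - 1 - (i : ℕ)))).det /
        (Matrix.of fun i j : Fin r => z j ^ (r - 1 - (i : ℕ))).det) :
    (∑ μ ∈ (Finset.univ : Finset (Fin r → Fin k)).filter (fun μ : Fin r → Fin k => Antitone μ),
        S (fun i => (μ i : ℕ)) * S (fun i => k - (μ (Fin.rev i) : ℕ))) =
      Complex.exp (2 * Real.pi * Complex.I * (k : ℂ) * ((∑ j, v j : ℕ) : ℂ) / ((r : ℂ) + k)) *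
        ((k : ℂ) * ((r : ℂ) + k) ^ (r - 1)) /
        (∏ p ∈ (Finset.univ : Finset (Fin r × Fin r)).filter (fun p => p.1 < p.2),
          (((2 : ℝ) * Real.sin (Real.pi * ((v p.1 : ℝ) - (v p.2 : ℝ)) / ((r : ℝ) + k))) ^ 2 : ℝ) : ℂ) := by
  classical
  have hN : r + k ≠ 0 := by omega
  have hr0 : r ≠ 0 := by omega
  set x : Fin r → ℤ := fun j => ((v j : ℕ) : ℤ) with hx_def
  have hzx : ∀ j, z j = ez (r + k) (x j) := fun j => by rw [hz, exp_eq_ez]
  have hxinj : ∀ a b, ((r + k : ℕ) : ℤ) ∣ x a - x b → a = b :=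
    fun a b h => strictAnti_inj_mod (N := r + k) v hv hvlt a b h
  have hsv : (((∑ j, v j : ℕ)) : ℤ) = ∑ j, x j := by
    push_cast
    rfl
  have hP : (∏ p ∈ (Finset.univ : Finset (Fin r × Fin r)).filter (fun p => p.1 < p.2),
          (((2 : ℝ) * Real.sin (Real.pi * ((v p.1 : ℝ) - (v p.2 : ℝ)) / ((r : ℝ) + k))) ^ 2 : ℝ) : ℂ)
      = ((Psin (r + k) x : ℝ) : ℂ) := by
    rw [← Psin_eq r k v]
    push_cast
    rfl
  rw [hP, exp_mul_eq_ez, hsv]
  set s : ℂ := ((Equiv.Perm.sign (Fin.revPerm : Equiv.Perm (Fin r)) : ℤ) : ℂ) with hs_def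
  set ad := Adet (r + k) (delta r) x with had
  have hss : s * s = 1 := permSign_mul_self _
  have hsinv : s⁻¹ = s := inv_eq_of_mul_eq_one_right hss
  have h1 : (starRingEnd ℂ) ad = s * (ez (r + k) (-((r : ℤ) - 1) * ∑ j, x j) * ad) :=
    Adet_delta_conj (r + k) x
  have h2 : ad * (starRingEnd ℂ) ad = ((Psin (r + k) x : ℝ) : ℂ) := Adet_delta_normSq (r + k) x
  set c : ℂ := ez (r + k) ((k : ℤ) * ∑ j, x j) * ((Psin (r + k) x : ℝ) : ℂ)⁻¹ with hc_def
  have hsummand : ∀ μ ∈ (Finset.univ : Finset (Fin r → Fin k)).filter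
      (fun μ : Fin r → Fin k => Antitone μ),
      S (fun i => (μ i : ℕ)) * S (fun i => k - (μ (Fin.rev i) : ℕ))
      = c * ((fun y : Fin r → ℤ => Adet (r + k) x y * (starRingEnd ℂ) (Adet (r + k) x y))
          (fun i => ((μ i : ℕ) : ℤ) + delta r i + 1)) := by
    intro μ _
    set M : Fin r → ℤ := fun i => ((μ i : ℕ) : ℤ) + delta r i with hM_def
    have hμk : ∀ i, (μ i : ℕ) ≤ k := fun i => (μ i).2.le
    have hdual : (fun i : Fin r => (((k - (μ (Fin.rev i) : ℕ) : ℕ)) : ℤ) + delta r i)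
        = (fun i => (((r + k : ℕ) : ℤ) - 1) - M (Fin.rev i)) := by
      funext i
      have h1 := delta_add_rev i
      have h2 := hμk (Fin.rev i)
      simp only [hM_def]
      push_cast
      omega
    rw [hS, hS, schur_num_eq (r + k) z x hzx, schur_num_eq (r + k) z x hzx,
      schur_den_eq (r + k) z x hzx]
    change (Adet (r + k) M x / ad) * (Adet (r + k)
      (fun i : Fin r => (((k - (μ (Fin.rev i) : ℕ) : ℕ)) : ℤ) + delta r i) x / ad)
      = c * (Adet (r + k) x (fun i => M i + 1) * (starRingEnd ℂ) (Adet (r + k) x (fun i => M i + 1)))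
    rw [hdual, Adet_dual, Gf_shift, Adet_symm (r + k) x M, ← hs_def]
    have hEne : ez (r + k) (-((r : ℤ) - 1) * ∑ j, x j) ≠ 0 := ez_ne_zero _ _
    have hE : ez (r + k) ((k : ℤ) * ∑ j, x j)
        = ez (r + k) ((((r + k : ℕ) : ℤ) - 1) * ∑ j, x j) * ez (r + k) (-((r : ℤ) - 1) * ∑ j, x j) := by
      rw [← ez_add]
      congr 1
      push_cast
      ring
    calc _ = ez (r + k) ((((r + k : ℕ) : ℤ) - 1) * ∑ j, x j) * s * ad⁻¹ * ad⁻¹ *
          Adet (r + k) M x * (starRingEnd ℂ) (Adet (r + k) M x) := by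
            rw [div_eq_mul_inv, div_eq_mul_inv]
            ring
      _ = (ez (r + k) ((((r + k : ℕ) : ℤ) - 1) * ∑ j, x j) *
            (ez (r + k) (-((r : ℤ) - 1) * ∑ j, x j) * (ez (r + k) (-((r : ℤ) - 1) * ∑ j, x j))⁻¹)) *
            s * ad⁻¹ * ad⁻¹ * Adet (r + k) M x * (starRingEnd ℂ) (Adet (r + k) M x) := by
            rw [mul_inv_cancel₀ hEne, mul_one]
      _ = _ := by
            rw [hc_def, ← h2, h1, hE, mul_inv, mul_inv, mul_inv, hsinv]
            ring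
  rw [Finset.sum_congr rfl hsummand, ← Finset.mul_sum,
    sum_antitone_eq_sum_sa r k hr hk
      (fun y : Fin r → ℤ => Adet (r + k) x y * (starRingEnd ℂ) (Adet (r + k) x y))]
  rw [Finset.sum_congr rfl (fun m _ => (Fsum_zero_eq (r + k) x x m).symm),
    sum_sa_nonpinned_Fsum_self (r + k) hN (by omega) x hxinj]
  have hpow : (((r + k : ℕ)) : ℂ) ^ r = ((r + k : ℕ) : ℂ) * ((r + k : ℕ) : ℂ) ^ (r - 1) := by
    rw [← pow_succ']
    congr 1
    omega
  rw [hc_def, hpow]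
  push_cast
  ring

end Groth.Agent.S18377
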