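import Groth.Statements.S18378
import Mathlib
import Groth.Agent.Lib.Helper11VerlindeSchur

set_option autoImplicit false
open Complex
open VerlindeComb

namespace Groth.Agent.S18378
open Groth.Agent.Verl


/-- Let r, k ≥ 1 be integers and v, v' two integer vectors with r + k > v_1 > ⋯ > v_r ≥ 0 and r + k >
v'_1 > ⋯ > v'_r ≥ 0 whose difference v - v' is not a constant vector (a, …, a). Put z_j = exp(2πi
v_j / (r + k)), z'_j = exp(2πi v'_j / (r + k)), let S_μ(w) = det(w_j^{μ_i + r - i}) / det(w_j^{r -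
i}) be the Schur value at w = z or z', and write |x| for the sum of the coordinates of a vector and
μ* = (k - μ_r, …, k - μ_1). Then the sum over all μ with k ≥ μ_1 ≥ ⋯ ≥ μ_{r-1} ≥ μ_r = 0 of exp(-2πi
|μ| |v| / (r (r + k))) · exp(-2πi |μ*| |v'| / (r (r + k))) · S_μ(z) · S_{μ*}(z') is zero. The
vanishing is the orthogonality of distinct characters and holds exactly for non-equivalent v, v';
for v - v' constant the sum is nonzero. Indices are 0-based below: μ i stands for μ_{i+1}. -/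
theorem result (r k : ℕ) (hr : 1 ≤ r)
    (hk : 1 ≤ k) (v v' : Fin r → ℕ) (hv : StrictAnti v) (hvlt : ∀ i, v i < r + k) (hv' : StrictAnti v')
    (hv'lt : ∀ i, v' i < r + k) (hne : ¬ ∃ a : ℤ, ∀ i, (v i : ℤ) - (v' i : ℤ) = a)
    (z z' : Fin r → ℂ) (hz : ∀ j, z j = Complex.exp (2 * Real.pi * Complex.I * (v j : ℂ) / ((r : ℂ) + k)))
    (hz' : ∀ j, z' j = Complex.exp (2 * Real.pi * Complex.I * (v' j : ℂ) / ((r : ℂ) + k)))
    (S S' : (Fin r → ℕ) → ℂ)
    (hS : ∀ μ : Fin r → ℕ, S μ =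
      (Matrix.of fun i j : Fin r => z j ^ (μ i + (r - 1 - (i : ℕ)))).det /
        (Matrix.of fun i j : Fin r => z j ^ (r - 1 - (i : ℕ))).det)
    (hS' : ∀ μ : Fin r → ℕ, S' μ =
      (Matrix.of fun i j : Fin r => z' j ^ (μ i + (r - 1 - (i : ℕ)))).det /
        (Matrix.of fun i j : Fin r => z' j ^ (r - 1 - (i : ℕ))).det) :
    (∑ μ ∈ (Finset.univ : Finset (Fin r → Fin (k + 1))).filter
        (fun μ : Fin r → Fin (k + 1) => Antitone μ ∧ ∀ i : Fin r, (i : ℕ) = r - 1 → (μ i : ℕ) = 0),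
      Complex.exp (-(2 * Real.pi * Complex.I * ((∑ i, (μ i : ℕ) : ℕ) : ℂ) * ((∑ j, v j : ℕ) : ℂ) /
          ((r : ℂ) * ((r : ℂ) + k)))) *
      Complex.exp (-(2 * Real.pi * Complex.I * ((∑ i, (k - (μ (Fin.rev i) : ℕ)) : ℕ) : ℂ) *
          ((∑ j, v' j : ℕ) : ℂ) / ((r : ℂ) * ((r : ℂ) + k)))) *
      S (fun i => (μ i : ℕ)) * S' (fun i => k - (μ (Fin.rev i) : ℕ))) = 0 := by
  classical
  have hN : r + k ≠ 0 := by omega
  have hr0 : r ≠ 0 := by omega
  set x : Fin r → ℤ := fun j => ((v j : ℕ) : ℤ) with hx_def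
  set x' : Fin r → ℤ := fun j => ((v' j : ℕ) : ℤ) with hx'_def
  have hzx : ∀ j, z j = ez (r + k) (x j) := fun j => by rw [hz, exp_eq_ez]
  have hzx' : ∀ j, z' j = ez (r + k) (x' j) := fun j => by rw [hz', exp_eq_ez]
  have hxsa : StrictAnti x := by
    intro i j hij
    have := hv hij
    simp only [hx_def]
    omega
  have hx'sa : StrictAnti x' := by
    intro i j hij
    have := hv' hij
    simp only [hx'_def]
    omega
  have hxr : ∀ i, 0 ≤ x i ∧ x i < ((r + k : ℕ) : ℤ) := by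
    intro i
    have := hvlt i
    simp only [hx_def]
    omega
  have hx'r : ∀ i, 0 ≤ x' i ∧ x' i < ((r + k : ℕ) : ℤ) := by
    intro i
    have := hv'lt i
    simp only [hx'_def]
    omega
  have hsv : (((∑ j, v j : ℕ)) : ℤ) = ∑ j, x j := by
    push_cast
    rfl
  have hsv' : (((∑ j, v' j : ℕ)) : ℤ) = ∑ j, x' j := by
    push_cast
    rfl
  set D : ℤ := ∑ i, x i - ∑ i, x' i with hD_def
  set T : ℤ := ∑ i : Fin r, delta r i with hT_def
  set s : ℂ := ((Equiv.Perm.sign (Fin.revPerm : Equiv.Perm (Fin r)) : ℤ) : ℂ) with hs_def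
  set C : ℂ := ez (r * (r + k)) (T * D - (r : ℤ) * k * ∑ j, x' j) * s *
      ez (r + k) ((((r + k : ℕ) : ℤ) - 1) * ∑ j, x' j) *
      (Adet (r + k) (delta r) x)⁻¹ * (Adet (r + k) (delta r) x')⁻¹ with hC_def
  have hsummand : ∀ μ ∈ (Finset.univ : Finset (Fin r → Fin (k + 1))).filter
      (fun μ : Fin r → Fin (k + 1) => Antitone μ ∧ ∀ i : Fin r, (i : ℕ) = r - 1 → (μ i : ℕ) = 0),
      Complex.exp (-(2 * Real.pi * Complex.I * ((∑ i, (μ i : ℕ) : ℕ) : ℂ) * ((∑ j, v j : ℕ) : ℂ) /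
          ((r : ℂ) * ((r : ℂ) + k)))) *
      Complex.exp (-(2 * Real.pi * Complex.I * ((∑ i, (k - (μ (Fin.rev i) : ℕ)) : ℕ) : ℂ) *
          ((∑ j, v' j : ℕ) : ℂ) / ((r : ℂ) * ((r : ℂ) + k)))) *
      S (fun i => (μ i : ℕ)) * S' (fun i => k - (μ (Fin.rev i) : ℕ))
      = C * Fz (r + k) x x' D (fun i => ((μ i : ℕ) : ℤ) + delta r i) := by
    intro μ _
    set M : Fin r → ℤ := fun i => ((μ i : ℕ) : ℤ) + delta r i with hM_def
    have hμk : ∀ i, (μ i : ℕ) ≤ k := fun i => Nat.lt_succ_iff.mp (μ i).2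
    have hsumdual : (((∑ i, (k - (μ (Fin.rev i) : ℕ)) : ℕ)) : ℤ)
        = (r : ℤ) * k - ∑ i, ((μ i : ℕ) : ℤ) := by
      rw [Nat.cast_sum]
      rw [Finset.sum_congr rfl (fun i _ => Nat.cast_sub (hμk (Fin.rev i)))]
      rw [Finset.sum_sub_distrib]
      have h1 : ∑ i : Fin r, (((μ (Fin.rev i) : Fin (k + 1)) : ℕ) : ℤ) = ∑ i : Fin r, ((μ i : ℕ) : ℤ) :=
        Equiv.sum_comp (Fin.revPerm : Equiv.Perm (Fin r)) (fun i => ((μ i : ℕ) : ℤ))
      rw [h1]
      simp only [Finset.sum_const, Finset.card_univ, Fintype.card_fin, nsmul_eq_mul]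
    have hsumM : ∑ i, M i = ∑ i, ((μ i : ℕ) : ℤ) + T := by
      simp only [hM_def, Finset.sum_add_distrib, hT_def]
    have hdual : (fun i : Fin r => (((k - (μ (Fin.rev i) : ℕ) : ℕ)) : ℤ) + delta r i)
        = (fun i => (((r + k : ℕ) : ℤ) - 1) - M (Fin.rev i)) := by
      funext i
      have h1 := delta_add_rev i
      have h2 := hμk (Fin.rev i)
      simp only [hM_def]
      push_cast
      omega
    rw [hS, hS', schur_num_eq (r + k) z x hzx, schur_num_eq (r + k) z' x' hzx',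
      schur_den_eq (r + k) z x hzx, schur_den_eq (r + k) z' x' hzx', exp_neg_eq_ez, exp_neg_eq_ez]
    change _ * _ * (Adet (r + k) M x / _) * (Adet (r + k)
      (fun i : Fin r => (((k - (μ (Fin.rev i) : ℕ) : ℕ)) : ℤ) + delta r i) x' / _) = _
    rw [hdual, Adet_dual]
    unfold Fz
    rw [Adet_symm (r + k) x M, Adet_symm (r + k) x' M]
    have hE : ez (r * (r + k)) (-(((∑ i, (μ i : ℕ) : ℕ) : ℤ) * ((∑ j, v j : ℕ) : ℤ)))
          * ez (r * (r + k)) (-(((∑ i, (k - (μ (Fin.rev i) : ℕ)) : ℕ) : ℤ) * ((∑ j, v' j : ℕ) : ℤ)))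
        = ez (r * (r + k)) (-D * ∑ j, M j) * ez (r * (r + k)) (T * D - (r : ℤ) * k * ∑ j, x' j) := by
      rw [← ez_add, ← ez_add]
      congr 1
      rw [hsumdual, hsumM, hsv, hsv', Nat.cast_sum, hD_def]
      ring
    rw [hC_def, ← hs_def]
    calc _ = (ez (r * (r + k)) (-(((∑ i, (μ i : ℕ) : ℕ) : ℤ) * ((∑ j, v j : ℕ) : ℤ)))
          * ez (r * (r + k)) (-(((∑ i, (k - (μ (Fin.rev i) : ℕ)) : ℕ) : ℤ) * ((∑ j, v' j : ℕ) : ℤ))))
          * (Adet (r + k) M x * (Adet (r + k) (delta r) x)⁻¹ * s *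
            ez (r + k) ((((r + k : ℕ) : ℤ) - 1) * ∑ j, x' j) *
            (starRingEnd ℂ) (Adet (r + k) M x') * (Adet (r + k) (delta r) x')⁻¹) := by
            rw [div_eq_mul_inv, div_eq_mul_inv]
            ring
      _ = _ := by
            rw [hE]
            ring
  rw [Finset.sum_congr rfl hsummand, ← Finset.mul_sum,
    sum_antitone_eq_sum_alcove r k (fun y => Fz (r + k) x x' D y)]
  have hne' : ¬ ∃ a : ℤ, ∀ i, x i - x' i = a := hne
  rw [hD_def, core_vanish (r + k) hN x x' hxsa hx'sa hxr hx'r hne', mul_zero]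

end Groth.Agent.S18378
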