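import Groth.Statements.S18379
import Mathlib
import Groth.Agent.Lib.Helper11Verlinde

set_option autoImplicit false
open VerlindeComb

namespace Groth.Agent.S18379
open Groth.Agent.Verl

lemma delta_inj_mod {r : ℕ} (N : ℕ) (hrN : r ≤ N) (a b : Fin r)
    (h : (N : ℤ) ∣ delta r a - delta r b - 0) : a = b := by
  rw [sub_zero] at h
  unfold delta at h
  have ha := a.2
  have hb := b.2
  have h1 : ((r - 1 - (a : ℕ) : ℕ) : ℤ) - ((r - 1 - (b : ℕ) : ℕ) : ℤ) = 0 := by
    apply Int.eq_zero_of_abs_lt_dvd h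
    rw [abs_lt]
    constructor <;> omega
  apply Fin.ext
  omega


/-- Let r, k ≥ 1 be integers. Summing over all integer vectors v with r + k > v_1 > v_2 > ⋯ > v_{r-1} >
v_r = 0, one has Σ_v ∏_{i<j} (2 sin(π (v_i - v_j) / (r + k)))² = r (r + k)^{r-1}; that is, the
genus-zero Verlinde number of rank r and level k with no parabolic points, defined as (r (r +
k)^{r-1})⁻¹ times this sum, equals 1. Indices are 0-based below: v i stands for v_{i+1}. -/
theorem result (r k : ℕ) (hr : 1 ≤ r) (hk : 1 ≤ k) :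
    (∑ v ∈ (Finset.univ : Finset (Fin r → Fin (r + k))).filter
        (fun v : Fin r → Fin (r + k) => StrictAnti v ∧ ∀ i : Fin r, (i : ℕ) = r - 1 → (v i : ℕ) = 0),
      ∏ p ∈ (Finset.univ : Finset (Fin r × Fin r)).filter (fun p => p.1 < p.2),
        ((2 : ℝ) * Real.sin (Real.pi * ((v p.1 : ℕ) - (v p.2 : ℕ) : ℝ) / ((r : ℝ) + k))) ^ 2) =
      (r : ℝ) * ((r : ℝ) + k) ^ (r - 1) := by
  classical
  have hN : r + k ≠ 0 := by omega
  -- rewrite the summand
  have h1 : ∀ v : Fin r → Fin (r + k),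
      ∏ p ∈ (Finset.univ : Finset (Fin r × Fin r)).filter (fun p => p.1 < p.2),
        ((2 : ℝ) * Real.sin (Real.pi * ((v p.1 : ℕ) - (v p.2 : ℕ) : ℝ) / ((r : ℝ) + k))) ^ 2
      = Psin (r + k) (tupZ v) := by
    intro v
    unfold Psin tupZ
    apply Finset.prod_congr rfl
    intro p _
    push_cast
    rfl
  rw [Finset.sum_congr rfl (fun v _ => h1 v)]
  apply Complex.ofReal_injective
  rw [Complex.ofReal_sum]
  have h2 : ∀ v : Fin r → Fin (r + k), ((Psin (r + k) (tupZ v) : ℝ) : ℂ)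
      = Fsum (r + k) (delta r) (delta r) 0 v := by
    intro v
    unfold Fsum
    rw [Adet_delta_normSq]
    simp [ez_zero]
  rw [Finset.sum_congr rfl (fun v _ => h2 v)]
  have key := sum_strictAnti_pinned (N := r + k) hr (Fsum (r + k) (delta r) (delta r) 0)
    (fun x σ => Fsum_symm _ _ _ _ x σ) (fun x hx => Fsum_vanish _ hN _ _ _ x hx)
  have h3 : ∀ j₀ : Fin r, ∑ x ∈ (Finset.univ : Finset (Fin r → Fin (r + k))).filter
      (fun x : Fin r → Fin (r + k) => (x j₀ : ℕ) = 0), Fsum (r + k) (delta r) (delta r) 0 x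
      = (r.factorial : ℂ) * ((r + k : ℕ) : ℂ) ^ (r - 1) := by
    intro j₀
    rw [sum_pinned_Fsum _ hN]
    have h4 : ∀ σ : Equiv.Perm (Fin r), ∑ τ : Equiv.Perm (Fin r),
        ((Equiv.Perm.sign σ : ℤ) : ℂ) * ((Equiv.Perm.sign τ : ℤ) : ℂ) *
          (if ∀ j, j ≠ j₀ → ((r + k : ℕ) : ℤ) ∣ delta r (σ j) - delta r (τ j) - 0
            then ((r + k : ℕ) : ℂ) ^ (r - 1) else 0) = ((r + k : ℕ) : ℂ) ^ (r - 1) := by
      intro σ
      rw [Finset.sum_eq_single σ]
      · rw [if_pos, permSign_mul_self, one_mul]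
        intro j _
        simp
      · intro τ _ hτ
        rw [if_neg, mul_zero]
        intro hall
        apply hτ
        symm
        apply perm_eq_of_agree σ τ j₀
        intro j hj
        exact delta_inj_mod (r + k) (by omega) _ _ (hall j hj)
      · intro h; exact absurd (Finset.mem_univ _) h
    rw [Finset.sum_congr rfl (fun σ _ => h4 σ), Finset.sum_const, Finset.card_univ,
      Fintype.card_perm, Fintype.card_fin, nsmul_eq_mul]
  rw [Finset.sum_congr rfl (fun j₀ _ => h3 j₀), Finset.sum_const, Finset.card_univ,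
    Fintype.card_fin, nsmul_eq_mul] at key
  have hfact : (r.factorial : ℂ) ≠ 0 := Nat.cast_ne_zero.mpr (Nat.factorial_ne_zero r)
  have := mul_left_cancel₀ hfact (key.trans (by ring :
    (r : ℂ) * ((r.factorial : ℂ) * ((r + k : ℕ) : ℂ) ^ (r - 1))
      = (r.factorial : ℂ) * ((r : ℂ) * ((r + k : ℕ) : ℂ) ^ (r - 1))))
  rw [this]
  push_cast
  rfl

end Groth.Agent.S18379
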