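import Groth.Statements.S1838
import Mathlib
-- import your own Groth.Agent.* helpers here

set_option autoImplicit false
set_option linter.style.haveILetI false
set_option linter.unusedSectionVars false
universe u v
open CycDet

namespace Groth.Agent.S1838

open IsLocalRing

section
variable {R : Type u} [CommRing R] [IsLocalRing R] {M : Type v} [AddCommGroup M] [Module R M]

local notation "sb" => CycDet.spanBefore R M

lemma sb_mono {l : ℕ} (e : Fin l → M) {i k : ℕ} (h : i ≤ k) : sb e i ≤ sb e k := by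
  unfold CycDet.spanBefore
  refine Submodule.span_mono (Set.image_mono ?_)
  intro j hj
  exact lt_of_lt_of_le hj h

lemma mem_sb_self {l : ℕ} (e : Fin l → M) (i : Fin l) {k : ℕ} (h : (i : ℕ) < k) : e i ∈ sb e k :=
  Submodule.subset_span ⟨i, h, rfl⟩

lemma sb_succ {l : ℕ} (e : Fin l → M) (i : Fin l) :
    sb e ((i : ℕ) + 1) = sb e i ⊔ Submodule.span R {e i} := by
  unfold CycDet.spanBefore
  rw [← Submodule.span_union]
  congr 1
  ext x
  simp only [Set.mem_image, Set.mem_setOf_eq, Set.mem_union, Set.mem_singleton_iff]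
  constructor
  · rintro ⟨j, hj, rfl⟩
    rcases Nat.lt_succ_iff_lt_or_eq.mp hj with h | h
    · exact Or.inl ⟨j, h, rfl⟩
    · exact Or.inr (by rw [Fin.ext h])
  · rintro (⟨j, hj, rfl⟩ | rfl)
    · exact ⟨j, Nat.lt_succ_of_lt hj, rfl⟩
    · exact ⟨i, Nat.lt_succ_self _, rfl⟩

lemma sb_congr {l : ℕ} (e e' : Fin l → M) (k : ℕ) (h : ∀ j : Fin l, (j : ℕ) < k → e j = e' j) :
    sb e k = sb e' k := by
  unfold CycDet.spanBefore
  congr 1
  ext x
  constructor
  · rintro ⟨j, hj, rfl⟩; exact ⟨j, hj, (h j hj).symm⟩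
  · rintro ⟨j, hj, rfl⟩; exact ⟨j, hj, h j hj⟩

lemma sb_top {l : ℕ} (e : Fin l → M) : sb e l = Submodule.span R (Set.range e) := by
  unfold CycDet.spanBefore
  congr 1
  ext x
  constructor
  · rintro ⟨j, _, rfl⟩; exact ⟨j, rfl⟩
  · rintro ⟨j, rfl⟩; exact ⟨j, j.2, rfl⟩

lemma sb_zero {l : ℕ} (e : Fin l → M) : sb e 0 = ⊥ := by
  unfold CycDet.spanBefore
  rw [Submodule.span_eq_bot]
  rintro x ⟨j, hj, rfl⟩
  exact absurd hj (Nat.not_lt_zero _)

lemma sb_swap {l : ℕ} (e : Fin l → M) (a b : Fin l) (k : ℕ) (h : (a : ℕ) < k ↔ (b : ℕ) < k) :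
    sb (e ∘ Equiv.swap a b) k = sb e k := by
  unfold CycDet.spanBefore
  congr 1
  ext x
  constructor
  · rintro ⟨j, hj, rfl⟩
    refine ⟨Equiv.swap a b j, ?_, rfl⟩
    show ((Equiv.swap a b j : Fin l) : ℕ) < k
    by_cases hja : j = a
    · rw [hja, Equiv.swap_apply_left]; rw [hja] at hj; exact h.mp hj
    by_cases hjb : j = b
    · rw [hjb, Equiv.swap_apply_right]; rw [hjb] at hj; exact h.mpr hj
    rw [Equiv.swap_apply_of_ne_of_ne hja hjb]; exact hj
  · rintro ⟨j, hj, rfl⟩
    refine ⟨Equiv.swap a b j, ?_, ?_⟩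
    · show ((Equiv.swap a b j : Fin l) : ℕ) < k
      by_cases hja : j = a
      · rw [hja, Equiv.swap_apply_left]; rw [hja] at hj; exact h.mp hj
      by_cases hjb : j = b
      · rw [hjb, Equiv.swap_apply_right]; rw [hjb] at hj; exact h.mpr hj
      rw [Equiv.swap_apply_of_ne_of_ne hja hjb]; exact hj
    · show e (Equiv.swap a b (Equiv.swap a b j)) = e j
      rw [Equiv.swap_apply_self]

lemma sb_update_le {l : ℕ} (g : Fin l → M) (i : Fin l) (x : M) (k : ℕ) (hx : x ∈ sb g k) :
    sb (Function.update g i x) k ≤ sb g k := by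
  unfold CycDet.spanBefore
  rw [Submodule.span_le]
  rintro _ ⟨j, hj, rfl⟩
  by_cases hji : j = i
  · rw [hji, Function.update_self]; exact hx
  · rw [Function.update_of_ne hji]; exact Submodule.subset_span ⟨j, hj, rfl⟩

/-- the class of an admissible tuple -/
noncomputable def S {l : ℕ} (e : CycDet.Adm R M l) : CycDet.DetOfLen R M l :=
  Submodule.Quotient.mk (CycDet.sym R M e)

lemma S_rel_a {l : ℕ} (e : CycDet.Adm R M l) (a : Fin l) (h : e.1 a ∈ sb e.1 a) : S e = 0 :=
  (Submodule.Quotient.mk_eq_zero _).mpr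
    (Submodule.subset_span (Or.inl (Or.inl ⟨e, a, h, rfl⟩)))

lemma S_rel_b {l : ℕ} (e e' : CycDet.Adm R M l) (a : Fin l) (c : Rˣ)
    (h1 : ∀ j, j ≠ a → e.1 j = e'.1 j) (h2 : e.1 a - (c : R) • e'.1 a ∈ sb e.1 a) :
    S e = IsLocalRing.residue R (c : R) • S e' := by
  have : CycDet.sym R M e - IsLocalRing.residue R (c : R) • CycDet.sym R M e' ∈
      Submodule.span (ResidueField R) (CycDet.relSet R M l) :=
    Submodule.subset_span (Or.inl (Or.inr ⟨e, e', a, c, h1, h2, rfl⟩))
  have h3 := (Submodule.Quotient.mk_eq_zero _).mpr this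
  rw [Submodule.Quotient.mk_sub, Submodule.Quotient.mk_smul, sub_eq_zero] at h3
  exact h3

lemma S_rel_c {l : ℕ} (e e' : CycDet.Adm R M l) (a b : Fin l) (hab : (b : ℕ) + 1 = (a : ℕ))
    (h : ∀ r ∈ maximalIdeal R, r • e.1 a ∈ sb e.1 b) (he' : e'.1 = e.1 ∘ Equiv.swap a b) :
    S e = - S e' := by
  have : CycDet.sym R M e + CycDet.sym R M e' ∈
      Submodule.span (ResidueField R) (CycDet.relSet R M l) :=
    Submodule.subset_span (Or.inr ⟨e, e', a, b, hab, h, he', rfl⟩)
  have h3 := (Submodule.Quotient.mk_eq_zero _).mpr this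
  rw [Submodule.Quotient.mk_add] at h3
  exact eq_neg_of_add_eq_zero_left h3

/-- nondegenerate tuples of full length generate -/
lemma span_eq_top_of_nondeg {l : ℕ} (hlen : Module.length R M = (l : ℕ∞)) (e : Fin l → M)
    (hnd : ∀ j : Fin l, e j ∉ sb e (j : ℕ)) : Submodule.span R (Set.range e) = ⊤ := by
  by_contra hne
  rw [← sb_top] at hne
  have hstrict : ∀ k k' : ℕ, k < k' → k' ≤ l → sb e k < sb e k' := by
    intro k k' hkk' hk'
    refine lt_of_le_of_ne (sb_mono e hkk'.le) ?_
    intro heq
    have hk : k < l := lt_of_lt_of_le hkk' hk'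
    have : e ⟨k, hk⟩ ∈ sb e k' := mem_sb_self e ⟨k, hk⟩ hkk'
    rw [← heq] at this
    exact hnd ⟨k, hk⟩ this
  let c : Fin (l + 1 + 1) → Submodule R M := fun k => if (k : ℕ) ≤ l then sb e k else ⊤
  have hc : StrictMono c := by
    intro k k' hkk'
    have hkk'' : (k : ℕ) < (k' : ℕ) := hkk'
    show (if (k : ℕ) ≤ l then sb e k else ⊤) < (if (k' : ℕ) ≤ l then sb e k' else ⊤)
    by_cases hk' : (k' : ℕ) ≤ l
    · rw [if_pos hk', if_pos (hkk''.le.trans hk')]
      exact hstrict _ _ hkk'' hk'
    · have hk : (k : ℕ) ≤ l := by have := k'.2; omega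
      rw [if_neg hk', if_pos hk]
      exact lt_of_le_of_lt (sb_mono e hk) (lt_top_iff_ne_top.mpr hne)
  have h1 := Order.length_le_height_last (p := LTSeries.mk (l + 1) c hc)
  have h2 : (LTSeries.mk (l + 1) c hc).last = ⊤ := by
    show c (Fin.last (l+1)) = ⊤
    show (if ((Fin.last (l+1) : Fin (l+1+1)) : ℕ) ≤ l then _ else ⊤) = ⊤
    rw [if_neg]
    simp
  rw [h2, ← Module.length_eq_height, hlen] at h1
  have h3 : ((l + 1 : ℕ) : ℕ∞) ≤ (l : ℕ∞) := h1
  rw [Nat.cast_le] at h3
  omega

lemma adm_swap {l : ℕ} (h : Fin l → M) (hh : CycDet.IsAdmissible R M h) (i i' : Fin l)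
    (hii' : (i' : ℕ) + 1 = (i : ℕ))
    (hm : ∀ r ∈ maximalIdeal R, r • h i ∈ sb h (i' : ℕ)) :
    CycDet.IsAdmissible R M (h ∘ Equiv.swap i i') := by
  intro k r hr
  rcases lt_trichotomy (k : ℕ) (i' : ℕ) with hk | hk | hk
  · have hki : k ≠ i := by intro h0; rw [h0] at hk; omega
    have hki' : k ≠ i' := by intro h0; rw [h0] at hk; omega
    rw [Function.comp_apply, Equiv.swap_apply_of_ne_of_ne hki hki', sb_swap]
    · exact hh k r hr
    · constructor <;> intro h1 <;> omega
  · have hk' : k = i' := Fin.ext hk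
    rw [hk', Function.comp_apply, Equiv.swap_apply_right, sb_swap]
    · exact hm r hr
    · constructor <;> intro h1 <;> omega
  · by_cases hki : k = i
    · rw [hki, Function.comp_apply, Equiv.swap_apply_left]
      have h1 := hh i' r hr
      have h2 : sb h (i' : ℕ) = sb (h ∘ Equiv.swap i i') (i' : ℕ) := by
        rw [sb_swap]; constructor <;> intro h1 <;> omega
      rw [h2] at h1
      exact sb_mono _ (by omega) h1
    · have hki' : k ≠ i' := by intro h0; rw [h0] at hk; omega
      have hk2 : (i : ℕ) < (k : ℕ) := by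
        have : (k : ℕ) ≠ (i : ℕ) := fun h0 => hki (Fin.ext h0)
        omega
      rw [Function.comp_apply, Equiv.swap_apply_of_ne_of_ne hki hki', sb_swap]
      · exact hh k r hr
      · constructor <;> intro h1 <;> omega

lemma sb_update_same {l : ℕ} (g : Fin l → M) (ii : Fin l) (x : M) (k : ℕ) (hk : k ≤ (ii : ℕ)) :
    sb g k = sb (Function.update g ii x) k :=
  sb_congr _ _ _ (fun j hj => by
    rw [Function.update_of_ne]
    intro h0
    rw [h0] at hj
    omega)

lemma sb_le_update {l : ℕ} (g : Fin l → M) (ii : Fin l) (x e' : M) (u : Rˣ)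
    (he' : e' ∈ sb g (ii : ℕ)) (hx : x = e' + (u : R) • g ii) (k : ℕ) (hk : (ii : ℕ) < k) :
    sb g k ≤ sb (Function.update g ii x) k := by
  have hg : g = Function.update (Function.update g ii x) ii (g ii) := by
    rw [Function.update_idem, Function.update_eq_self]
  have hgi : g ii ∈ sb (Function.update g ii x) k := by
    have h1 : x ∈ sb (Function.update g ii x) k := by
      have := mem_sb_self (R := R) (Function.update g ii x) ii hk
      rwa [Function.update_self] at this
    have h2 : e' ∈ sb (Function.update g ii x) k := by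
      have h2' : e' ∈ sb (Function.update g ii x) (ii : ℕ) := by
        rw [← sb_update_same g ii x _ le_rfl]; exact he'
      exact sb_mono _ hk.le h2'
    have h3 : g ii = ((u⁻¹ : Rˣ) : R) • (x - e') := by
      rw [hx, add_sub_cancel_left, smul_smul, Units.inv_mul, one_smul]
    rw [h3]
    exact Submodule.smul_mem _ _ (Submodule.sub_mem _ h1 h2)
  conv_lhs => rw [hg]
  exact sb_update_le _ ii (g ii) k hgi

lemma adm_update {l : ℕ} (g : Fin l → M) (hg : CycDet.IsAdmissible R M g) (ii : Fin l)
    (x e' : M) (u : Rˣ)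
    (he' : e' ∈ sb g (ii : ℕ)) (hx : x = e' + (u : R) • g ii)
    (hxm : ∀ r ∈ maximalIdeal R, r • x ∈ sb g (ii : ℕ)) :
    CycDet.IsAdmissible R M (Function.update g ii x) := by
  intro k r hr
  rcases lt_trichotomy (k : ℕ) (ii : ℕ) with hk | hk | hk
  · have hne : k ≠ ii := by intro h0; rw [h0] at hk; omega
    rw [Function.update_of_ne hne, ← sb_update_same g ii x _ hk.le]
    exact hg k r hr
  · have hki : k = ii := Fin.ext hk
    rw [hki, Function.update_self, ← sb_update_same g ii x _ le_rfl]
    exact hxm r hr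
  · have hne : k ≠ ii := by intro h0; rw [h0] at hk; omega
    rw [Function.update_of_ne hne]
    exact sb_le_update g ii x e' u he' hx k hk (hg k r hr)

theorem main {l : ℕ} (f : CycDet.Adm R M l) (hfn : ∀ j : Fin l, f.1 j ∉ sb f.1 (j : ℕ)) :
    ∀ (d j : ℕ), j + d = l → ∀ (g : CycDet.Adm R M l), Submodule.span R (Set.range g.1) = ⊤ →
      (∀ k : Fin l, (k : ℕ) < j → g.1 k = f.1 k) →
      S g ∈ Submodule.span (ResidueField R) {S f} := by
  classical
  intro d
  induction d with
  | zero =>
    intro j hj g _ hag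
    have : g = f := Subtype.ext (funext fun k => hag k (by have := k.2; omega))
    rw [this]
    exact Submodule.mem_span_singleton_self _
  | succ d ih =>
    intro j hj g hgen hag
    have hjl : j < l := by omega
    set jj : Fin l := ⟨j, hjl⟩ with hjj
    have hfm : ∀ (h : Fin l → M), (∀ k : Fin l, (k : ℕ) < j → h k = f.1 k) →
        ∀ r ∈ maximalIdeal R, r • f.1 jj ∈ sb h j := by
      intro h hah r hr
      have := f.2 jj r hr
      rwa [sb_congr f.1 h j (fun k hk => (hah k hk).symm)] at this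
    have bubble : ∀ (t : ℕ) (i : Fin l), (i : ℕ) = j + t → ∀ h : CycDet.Adm R M l,
        Submodule.span R (Set.range h.1) = ⊤ → (∀ k : Fin l, (k : ℕ) < j → h.1 k = f.1 k) →
        h.1 i = f.1 jj → S h ∈ Submodule.span (ResidueField R) {S f} := by
      intro t
      induction t with
      | zero =>
        intro i hi h hgen' hah hhi
        refine ih (j+1) (by omega) h hgen' ?_
        intro k hk
        rcases Nat.lt_succ_iff_lt_or_eq.mp hk with hk' | hk'
        · exact hah k hk'
        · have h1 : k = i := Fin.ext (by omega)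
          have h2 : i = jj := Fin.ext (by rw [hi]; rfl)
          rw [h1, hhi, h2]
      | succ t iht =>
        intro i hi h hgen' hah hhi
        have hi'l : j + t < l := by have := i.2; omega
        set i' : Fin l := ⟨j + t, hi'l⟩ with hi'
        have hi'v : (i' : ℕ) = j + t := rfl
        have hii' : (i' : ℕ) + 1 = (i : ℕ) := by omega
        have hm : ∀ r ∈ maximalIdeal R, r • h.1 i ∈ sb h.1 (i' : ℕ) := by
          intro r hr
          rw [hhi]
          exact sb_mono _ (by omega) (hfm h.1 hah r hr)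
        let h'' : CycDet.Adm R M l := ⟨h.1 ∘ Equiv.swap i i', adm_swap h.1 h.2 i i' hii' hm⟩
        have hS : S h = - S h'' := S_rel_c h h'' i i' hii' hm rfl
        rw [hS]
        refine Submodule.neg_mem _ (iht i' hi'v h'' ?_ ?_ ?_)
        · show Submodule.span R (Set.range (h.1 ∘ Equiv.swap i i')) = ⊤
          rw [(Equiv.swap i i').surjective.range_comp]
          exact hgen'
        · intro k hk
          show h.1 (Equiv.swap i i' k) = f.1 k
          rw [Equiv.swap_apply_of_ne_of_ne]
          · exact hah k hk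
          · intro h0; rw [h0] at hk; omega
          · intro h0; rw [h0] at hk; omega
        · show h.1 (Equiv.swap i i' i') = f.1 jj
          rw [Equiv.swap_apply_right]
          exact hhi
    -- find the position
    have hl1 : l - 1 + 1 = l := by omega
    have hex : ∃ m : ℕ, f.1 jj ∈ sb g.1 (m + 1) := by
      refine ⟨l - 1, ?_⟩
      rw [hl1, sb_top, hgen]
      exact Submodule.mem_top
    set i₀ := Nat.find hex with hi₀
    have hspec : f.1 jj ∈ sb g.1 (i₀ + 1) := Nat.find_spec hex
    have hi₀l : i₀ ≤ l - 1 := Nat.find_min' hex (by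
      rw [hl1, sb_top, hgen]
      exact Submodule.mem_top)
    have hnot : f.1 jj ∉ sb g.1 i₀ := by
      intro hin
      rcases Nat.eq_zero_or_pos i₀ with h0 | hpos
      · rw [h0, sb_zero] at hin
        have h1 : f.1 jj = 0 := (Submodule.mem_bot R).mp hin
        exact hfn jj (h1 ▸ Submodule.zero_mem _)
      · have := Nat.find_min hex (m := i₀ - 1) (by omega)
        apply this
        show f.1 jj ∈ sb g.1 (i₀ - 1 + 1)
        rwa [Nat.sub_add_cancel hpos]
    have hji₀ : j ≤ i₀ := by
      by_contra hlt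
      have h1 : sb g.1 (i₀ + 1) ≤ sb g.1 j := sb_mono _ (by omega)
      have h2 : sb g.1 j = sb f.1 j := sb_congr _ _ _ (fun k hk => hag k hk)
      exact hfn jj (h2 ▸ h1 hspec)
    have hi₀l' : i₀ < l := by omega
    set ii : Fin l := ⟨i₀, hi₀l'⟩ with hii
    have hiiv : (ii : ℕ) = i₀ := rfl
    have hspec' : f.1 jj ∈ sb g.1 (ii : ℕ) ⊔ Submodule.span R {g.1 ii} := by
      rw [← sb_succ]; exact hspec
    obtain ⟨e', he', y, hy, hsum⟩ := Submodule.mem_sup.mp hspec'
    obtain ⟨c, rfl⟩ := Submodule.mem_span_singleton.mp hy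
    have hc : IsUnit c := by
      by_contra hc
      have hcm : c ∈ maximalIdeal R := by
        rw [IsLocalRing.mem_maximalIdeal, mem_nonunits_iff]; exact hc
      have h1 := g.2 ii c hcm
      have h2 : f.1 jj ∈ sb g.1 (ii : ℕ) := hsum ▸ Submodule.add_mem _ he' h1
      exact hnot h2
    set u : Rˣ := hc.unit with hu
    have hx : f.1 jj = e' + (u : R) • g.1 ii := by rw [hu, IsUnit.unit_spec]; exact hsum.symm
    have hxm : ∀ r ∈ maximalIdeal R, r • f.1 jj ∈ sb g.1 (ii : ℕ) := fun r hr =>
      sb_mono _ hji₀ (hfm g.1 hag r hr)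
    let g' : CycDet.Adm R M l :=
      ⟨Function.update g.1 ii (f.1 jj), adm_update g.1 g.2 ii (f.1 jj) e' u he' hx hxm⟩
    have hSg : S g = IsLocalRing.residue R ((u⁻¹ : Rˣ) : R) • S g' := by
      refine S_rel_b g g' ii u⁻¹ ?_ ?_
      · intro k hk
        show g.1 k = Function.update g.1 ii (f.1 jj) k
        rw [Function.update_of_ne hk]
      · show g.1 ii - ((u⁻¹ : Rˣ) : R) • Function.update g.1 ii (f.1 jj) ii ∈ sb g.1 (ii : ℕ)
        rw [Function.update_self, hx, smul_add, smul_smul, Units.inv_mul, one_smul,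
          sub_add_cancel_right]
        exact Submodule.neg_mem _ (Submodule.smul_mem _ _ he')
    rw [hSg]
    refine Submodule.smul_mem _ _ (bubble (i₀ - j) ii (by omega) g' ?_ ?_ ?_)
    · show Submodule.span R (Set.range (Function.update g.1 ii (f.1 jj))) = ⊤
      rw [eq_top_iff, ← hgen, ← sb_top, ← sb_top]
      exact sb_le_update g.1 ii (f.1 jj) e' u he' hx l hi₀l'
    · intro k hk
      show Function.update g.1 ii (f.1 jj) k = f.1 k
      rw [Function.update_of_ne]
      · exact hag k hk
      · intro h0; rw [h0] at hk; omega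
    · show Function.update g.1 ii (f.1 jj) ii = f.1 jj
      rw [Function.update_self]

theorem rank_le_one' {l : ℕ} (hlen : Module.length R M = (l : ℕ∞)) :
    Module.rank (ResidueField R) (CycDet.DetOfLen R M l) ≤ 1 := by
  classical
  rw [rank_le_one_iff]
  have key : ∃ v₀ : CycDet.DetOfLen R M l, ∀ e : CycDet.Adm R M l,
      S e ∈ Submodule.span (ResidueField R) {v₀} := by
    by_cases h : ∃ f : CycDet.Adm R M l, ∀ j : Fin l, f.1 j ∉ sb f.1 (j : ℕ)
    · obtain ⟨f, hfn⟩ := h
      refine ⟨S f, fun e => ?_⟩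
      by_cases he : ∃ a : Fin l, e.1 a ∈ sb e.1 (a : ℕ)
      · obtain ⟨a, ha⟩ := he
        rw [S_rel_a e a ha]
        exact zero_mem _
      · push Not at he
        exact main f hfn l 0 (by omega) e (span_eq_top_of_nondeg hlen e.1 he)
          (fun k hk => absurd hk (Nat.not_lt_zero _))
    · push Not at h
      refine ⟨0, fun e => ?_⟩
      obtain ⟨a, ha⟩ := h e
      rw [S_rel_a e a ha]
      exact zero_mem _
  obtain ⟨v₀, hv₀⟩ := key
  refine ⟨v₀, fun v => ?_⟩
  have : v ∈ Submodule.span (ResidueField R) {v₀} := by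
    obtain ⟨x, rfl⟩ := Submodule.Quotient.mk_surjective _ v
    induction x using Finsupp.induction_linear with
    | zero => exact zero_mem _
    | add x y hx hy => rw [Submodule.Quotient.mk_add]; exact add_mem hx hy
    | single e c =>
      have h1 : Finsupp.single e c = c • CycDet.sym R M e := by
        rw [CycDet.sym, Finsupp.smul_single, smul_eq_mul, mul_one]
      rw [h1, Submodule.Quotient.mk_smul]
      exact Submodule.smul_mem _ c (hv₀ e)
  exact Submodule.mem_span_singleton.mp this

end


/-- For a finite length module M over a local ring with residue field κ, the κ-vector space det_κ(M) of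
symbols modulo admissible relations has dimension at most 1. -/
theorem result (R : Type u) [CommRing R] [IsLocalRing R] (M : Type v) [AddCommGroup M] [Module R M] (hM : IsFiniteLength R M) : Module.rank (IsLocalRing.ResidueField R) (CycDet.Det R M) ≤ 1 := by
  refine rank_le_one' ?_
  rw [ENat.coe_toNat]
  exact (Module.length_ne_top_iff).mpr hM

end Groth.Agent.S1838
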