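import Groth.Statements.S18381
import Mathlib
import Groth.Agent.S18377

set_option autoImplicit false
open Complex
open VerlindeComb

namespace Groth.Agent.S18381

lemma weight_eq (r k : ℕ) (W : ℕ) (μ : Fin r → Fin k) :
    W + (∑ i, (μ i : ℕ)) + (∑ i, (k - (μ (Fin.rev i) : ℕ))) = W + r * k := by
  have h1 : ∑ i : Fin r, ((μ i : Fin k) : ℕ) = ∑ i : Fin r, ((μ (Fin.rev i) : Fin k) : ℕ) :=
    (Equiv.sum_comp (Fin.revPerm : Equiv.Perm (Fin r)) (fun i => ((μ i : Fin k) : ℕ))).symm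
  rw [add_assoc, h1, ← Finset.sum_add_distrib]
  have h2 : ∀ i : Fin r, ((μ (Fin.rev i) : Fin k) : ℕ) + (k - (μ (Fin.rev i) : ℕ)) = k := by
    intro i
    have := (μ (Fin.rev i)).2
    omega
  rw [Finset.sum_congr rfl (fun i _ => h2 i)]
  simp


/-- Fix integers r, k ≥ 1. For g ≥ 0, d ∈ ℤ and parabolic data ω given by a finite family of partitions
λ_x with k ≥ λ_{x,1} ≥ ⋯ ≥ λ_{x,r} ≥ 0, write |ω| = Σ_x |λ_x|, z(v)_j = exp(2πi v_j / (r + k)),
S_λ(v) = det(z(v)_j^{λ_i + r - i}) / det(z(v)_j^{r - i}) (Schur value), P(v) = ∏_{i<j} (2 sin(π (v_i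
- v_j)/(r + k)))², and let V_g(r, d, ω) = (-1)^{d(r-1)} (k/r)^g (r (r+k)^{r-1})^{g-1} Σ_v exp(2πi
(d/r - |ω| / (r (r+k))) Σ_j v_j) · ∏_x S_{λ_x}(v) / P(v)^{g-1}, the sum over integer vectors r + k >
v_1 > ⋯ > v_{r-1} > v_r = 0 (the right-hand side of the Verlinde formula; it depends on ω only
through |ω| and the function v ↦ ∏_x S_{λ_x}(v), and is written that way below, with (r
(r+k)^{r-1})^{g-1} as the g-th power divided once and 1/P^{g-1} as P/P^g). Then V_{g+1}(r, d, ω) =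
Σ_μ V_g(r, d, ω^μ), the sum over all μ with k > μ_1 ≥ ⋯ ≥ μ_r ≥ 0, where ω^μ adjoins to ω the two
partitions μ and μ* = (k - μ_r, …, k - μ_1). Indices are 0-based below. -/
theorem result (r k : ℕ) (hr : 1 ≤ r) (hk : 1 ≤ k)
    (g : ℕ) (d : ℤ) (ι : Type) [Fintype ι] (lam : ι → Fin r → ℕ)
    (hlam : ∀ x, Antitone (lam x) ∧ ∀ i, lam x i ≤ k)
    (z : (Fin r → ℕ) → Fin r → ℂ)
    (hz : ∀ v j, z v j = Complex.exp (2 * Real.pi * Complex.I * (v j : ℂ) / ((r : ℂ) + k)))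
    (S : (Fin r → ℕ) → (Fin r → ℕ) → ℂ)
    (hS : ∀ μ v, S μ v = (Matrix.of fun i j : Fin r => z v j ^ (μ i + (r - 1 - (i : ℕ)))).det /
        (Matrix.of fun i j : Fin r => z v j ^ (r - 1 - (i : ℕ))).det)
    (P : (Fin r → ℕ) → ℝ)
    (hP : ∀ v, P v = ∏ p ∈ (Finset.univ : Finset (Fin r × Fin r)).filter (fun p => p.1 < p.2),
        ((2 : ℝ) * Real.sin (Real.pi * ((v p.1 : ℝ) - (v p.2 : ℝ)) / ((r : ℝ) + k))) ^ 2)
    (V : ℕ → ℤ → ℕ → ((Fin r → ℕ) → ℂ) → ℂ)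
    (hV : ∀ (g' : ℕ) (d' : ℤ) (w : ℕ) (Sω : (Fin r → ℕ) → ℂ), V g' d' w Sω =
        (-1 : ℂ) ^ (d' * ((r : ℤ) - 1)) * ((k : ℂ) / r) ^ g' *
          ((((r : ℂ) * ((r : ℂ) + k) ^ (r - 1)) ^ g') / ((r : ℂ) * ((r : ℂ) + k) ^ (r - 1))) *
          ∑ v ∈ (Finset.univ : Finset (Fin r → Fin (r + k))).filter
            (fun v : Fin r → Fin (r + k) => StrictAnti v ∧ ∀ i : Fin r, (i : ℕ) = r - 1 → (v i : ℕ) = 0),
            Complex.exp (2 * Real.pi * Complex.I * ((d' : ℂ) / r - (w : ℂ) / ((r : ℂ) * ((r : ℂ) + k))) *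
                ((∑ j, (v j : ℕ) : ℕ) : ℂ)) *
              Sω (fun j => (v j : ℕ)) *
              (((P (fun j => (v j : ℕ)) : ℂ)) / ((P (fun j => (v j : ℕ)) : ℂ)) ^ g')) :
    V (g + 1) d (∑ x, ∑ i, lam x i) (fun v => ∏ x, S (lam x) v) =
      ∑ μ ∈ (Finset.univ : Finset (Fin r → Fin k)).filter (fun μ : Fin r → Fin k => Antitone μ),
        V g d ((∑ x, ∑ i, lam x i) + (∑ i, (μ i : ℕ)) + (∑ i, (k - (μ (Fin.rev i) : ℕ))))
          (fun v => (∏ x, S (lam x) v) * S (fun i => (μ i : ℕ)) v *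
            S (fun i => k - (μ (Fin.rev i) : ℕ)) v) := by
  classical
  have hr0 : (r : ℂ) ≠ 0 := by
    have : r ≠ 0 := by omega
    exact_mod_cast this
  have hrk0 : (r : ℂ) + k ≠ 0 := by
    have : r + k ≠ 0 := by omega
    exact_mod_cast this
  set W : ℕ := ∑ x, ∑ i, lam x i with hW
  set F : (Fin r → ℕ) → ℂ := fun v => ∏ x, S (lam x) v with hF
  -- rewrite the weights
  have hw : ∀ μ : Fin r → Fin k,
      W + (∑ i, (μ i : ℕ)) + (∑ i, (k - (μ (Fin.rev i) : ℕ))) = W + r * k := weight_eq r k W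
  rw [Finset.sum_congr rfl (fun μ _ => by rw [hw μ])]
  rw [hV]
  rw [Finset.sum_congr rfl (fun μ _ => hV g d (W + r * k) _)]
  rw [← Finset.mul_sum, Finset.sum_comm]
  -- the key inner identity
  have key : ∀ v ∈ (Finset.univ : Finset (Fin r → Fin (r + k))).filter
      (fun v : Fin r → Fin (r + k) => StrictAnti v ∧ ∀ i : Fin r, (i : ℕ) = r - 1 → (v i : ℕ) = 0),
      ∑ μ ∈ (Finset.univ : Finset (Fin r → Fin k)).filter (fun μ : Fin r → Fin k => Antitone μ),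
        Complex.exp (2 * Real.pi * Complex.I * ((d : ℂ) / r - ((W + r * k : ℕ) : ℂ) / ((r : ℂ) * ((r : ℂ) + k))) *
                ((∑ j, (v j : ℕ) : ℕ) : ℂ)) *
              (F (fun j => (v j : ℕ)) * S (fun i => (μ i : ℕ)) (fun j => (v j : ℕ)) *
                S (fun i => k - (μ (Fin.rev i) : ℕ)) (fun j => (v j : ℕ))) *
              (((P (fun j => (v j : ℕ)) : ℂ)) / ((P (fun j => (v j : ℕ)) : ℂ)) ^ g)
      = ((k : ℂ) * ((r : ℂ) + k) ^ (r - 1)) *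
        (Complex.exp (2 * Real.pi * Complex.I * ((d : ℂ) / r - (W : ℂ) / ((r : ℂ) * ((r : ℂ) + k))) *
                ((∑ j, (v j : ℕ) : ℕ) : ℂ)) *
              F (fun j => (v j : ℕ)) *
              (((P (fun j => (v j : ℕ)) : ℂ)) / ((P (fun j => (v j : ℕ)) : ℂ)) ^ (g + 1))) := by
    intro v hv
    rw [Finset.mem_filter] at hv
    obtain ⟨-, hvsa, -⟩ := hv
    have hsa : StrictAnti (fun j => ((v j : Fin (r + k)) : ℕ)) := fun a b hab => hvsa hab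
    have h77 := Groth.Agent.S18377.result r k hr hk (fun j => (v j : ℕ)) hsa (fun i => (v i).2)
      (z (fun j => (v j : ℕ))) (hz (fun j => (v j : ℕ))) (fun μ => S μ (fun j => (v j : ℕ)))
      (fun μ => hS μ (fun j => (v j : ℕ)))
    have hPv : (∏ p ∈ (Finset.univ : Finset (Fin r × Fin r)).filter (fun p => p.1 < p.2),
          (((2 : ℝ) * Real.sin (Real.pi * ((((v p.1 : Fin (r + k)) : ℕ) : ℝ) - (((v p.2 : Fin (r + k)) : ℕ) : ℝ)) / ((r : ℝ) + k))) ^ 2 : ℝ) : ℂ)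
        = ((P (fun j => (v j : ℕ)) : ℝ) : ℂ) := by
      rw [hP]
      push_cast
      rfl
    beta_reduce at h77
    rw [hPv] at h77
    have hsum : ∀ μ : Fin r → Fin k,
        Complex.exp (2 * Real.pi * Complex.I * ((d : ℂ) / r - ((W + r * k : ℕ) : ℂ) / ((r : ℂ) * ((r : ℂ) + k))) *
                ((∑ j, (v j : ℕ) : ℕ) : ℂ)) *
              (F (fun j => (v j : ℕ)) * S (fun i => (μ i : ℕ)) (fun j => (v j : ℕ)) *
                S (fun i => k - (μ (Fin.rev i) : ℕ)) (fun j => (v j : ℕ))) *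
              (((P (fun j => (v j : ℕ)) : ℂ)) / ((P (fun j => (v j : ℕ)) : ℂ)) ^ g)
        = (Complex.exp (2 * Real.pi * Complex.I * ((d : ℂ) / r - ((W + r * k : ℕ) : ℂ) / ((r : ℂ) * ((r : ℂ) + k))) *
                ((∑ j, (v j : ℕ) : ℕ) : ℂ)) * F (fun j => (v j : ℕ)) *
              (((P (fun j => (v j : ℕ)) : ℂ)) / ((P (fun j => (v j : ℕ)) : ℂ)) ^ g)) *
          (S (fun i => (μ i : ℕ)) (fun j => (v j : ℕ)) *
                S (fun i => k - (μ (Fin.rev i) : ℕ)) (fun j => (v j : ℕ))) := by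
      intro μ
      ring
    rw [Finset.sum_congr rfl (fun μ _ => hsum μ), ← Finset.mul_sum, h77]
    have hexp : Complex.exp (2 * Real.pi * Complex.I * ((d : ℂ) / r - ((W + r * k : ℕ) : ℂ) / ((r : ℂ) * ((r : ℂ) + k))) *
                ((∑ j, (v j : ℕ) : ℕ) : ℂ)) *
          Complex.exp (2 * Real.pi * Complex.I * (k : ℂ) * ((∑ j, (v j : ℕ) : ℕ) : ℂ) / ((r : ℂ) + k))
        = Complex.exp (2 * Real.pi * Complex.I * ((d : ℂ) / r - (W : ℂ) / ((r : ℂ) * ((r : ℂ) + k))) *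
                ((∑ j, (v j : ℕ) : ℕ) : ℂ)) := by
      rw [← Complex.exp_add]
      congr 1
      push_cast
      field_simp
      ring
    rw [← hexp]
    rw [div_eq_mul_inv, div_eq_mul_inv, div_eq_mul_inv, pow_succ, mul_inv]
    ring
  rw [Finset.sum_congr rfl key, ← Finset.mul_sum]
  rw [pow_succ, pow_succ]
  field_simp

end Groth.Agent.S18381
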