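import Groth.Statements.S18383
import Mathlib.Tactic
import Mathlib.AlgebraicGeometry.Morphisms.ClosedImmersion
import Mathlib.CategoryTheory.MorphismProperty.Limits

set_option autoImplicit false
universe u
open CategoryTheory CategoryTheory.Limits MonoidalCategory CartesianMonoidalCategory MonObj GrpObj AlgebraicGeometry
open GrpSch

namespace Groth.Agent.S18383

/-- Let S be a scheme, H an S-group scheme and i : G → H a homomorphism of S-group schemes which is a
closed immersion (G a closed subgroup scheme of H). Then the left-translation action of G on H is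
strictly free: the S-morphism G ×_S H → H ×_S H, (g, h) ↦ (i(g)·h, h), is a closed immersion. -/
theorem result {S : Scheme.{u}} (G H : Over S)
    [GrpObj G] [GrpObj H] (i : G ⟶ H) [IsMonHom i] [IsClosedImmersion i.left] :
    IsClosedImmersion (CartesianMonoidalCategory.lift ((i ▷ H) ≫ μ[H]) (snd G H)).left := by
  -- the shear map of `H` is an isomorphism
  have hμ : μ[H] = fst H H * snd H H := by
    rw [Hom.mul_def, lift_fst_snd, Category.id_comp]
  have hiso : IsIso (lift μ[H] (snd H H)) := by
    refine ⟨⟨lift (fst H H * (snd H H)⁻¹) (snd H H), ?_, ?_⟩⟩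
    · apply CartesianMonoidalCategory.hom_ext
      · rw [Category.assoc, lift_fst, MonObj.comp_mul, GrpObj.comp_inv, lift_fst, lift_snd, hμ,
          Category.id_comp, mul_inv_cancel_right]
      · rw [Category.assoc, lift_snd, lift_snd, Category.id_comp]
    · apply CartesianMonoidalCategory.hom_ext
      · rw [Category.assoc, lift_fst, hμ, MonObj.comp_mul, lift_fst, lift_snd, Category.id_comp,
          inv_mul_cancel_right]
      · rw [Category.assoc, lift_snd, lift_snd, Category.id_comp]
  have hfac : lift ((i ▷ H) ≫ μ[H]) (snd G H) = (i ▷ H) ≫ lift μ[H] (snd H H) := by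
    apply CartesianMonoidalCategory.hom_ext
    · rw [lift_fst, Category.assoc, lift_fst]
    · rw [lift_snd, Category.assoc, lift_snd, whiskerRight_snd]
  have hci : IsClosedImmersion (i ▷ H).left := by
    rw [Over.whiskerRight_left]
    exact MorphismProperty.pullbackMap (P := @IsClosedImmersion) (i₁ := i.left) (i₂ := 𝟙 H.left)
      inferInstance inferInstance (Over.w i).symm (Category.id_comp _).symm
  have hiso' : IsIso (lift μ[H] (snd H H)).left := (Over.forget S).map_isIso (lift μ[H] (snd H H))
  rw [hfac, Over.comp_left]
  infer_instance

end Groth.Agent.S18383
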