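import Groth.Statements.S18385
import Groth.Agent.Lib.Helper3AbHom
import Groth.Agent.Lib.Helper12Reduced
import Groth.Agent.S0348
import Groth.Agent.S17255
import Mathlib

set_option autoImplicit false
universe u
open CategoryTheory CategoryTheory.Limits MonoidalCategory CartesianMonoidalCategory MonObj GrpObj AlgebraicGeometry
open AbSch

namespace Groth.Agent.S18385

set_option linter.style.haveILetI false

open Groth.Agent.Lib.Helper3.GrpHomQF Groth.Agent.Lib.Helper3.AbHom
  Groth.Agent.Lib.Helper3.LocDimBC in
/-- fibrewise statement: for abelian schemes `A`, `B` over `S` with equal fibre dimensions at `s`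
and a homomorphism `f`. -/
theorem fibre_key {S : Scheme.{u}} (A B : Over S)
    [GrpObj A] [Smooth A.hom] [IsProper A.hom] [GeometricallyConnected A.hom]
    [GrpObj B] [Smooth B.hom] [IsProper B.hom] [GeometricallyConnected B.hom]
    (f : A ⟶ B) [IsMonHom f] [LocallyOfFiniteType f.left] (s : S)
    (hdim : topologicalKrullDim ↥(A.hom.fiber s) = topologicalKrullDim ↥(B.hom.fiber s)) :
    (LocallyQuasiFinite ((Over.pullback (S.fromSpecResidueField s)).map f).left →
      Surjective ((Over.pullback (S.fromSpecResidueField s)).map f).left) ∧
    (Surjective ((Over.pullback (S.fromSpecResidueField s)).map f).left →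
      ∃ x : A.left, A.hom x = s ∧ FlatMor.fibreDimAt f.left x ≤ 0) := by
  let t := S.fromSpecResidueField s
  let As : Over (Spec (CommRingCat.of ↑(S.residueField s))) := (Over.pullback t).obj A
  let Bs : Over (Spec (CommRingCat.of ↑(S.residueField s))) := (Over.pullback t).obj B
  let fs : As ⟶ Bs := (Over.pullback t).map f
  haveI : GrpObj As := inferInstanceAs (GrpObj ((Over.pullback t).obj A))
  haveI : GrpObj Bs := inferInstanceAs (GrpObj ((Over.pullback t).obj B))
  haveI : IsMonHom fs := inferInstanceAs (IsMonHom ((Over.pullback t).map f))
  haveI : Smooth As.hom := inferInstanceAs (Smooth (pullback.snd A.hom t))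
  haveI : Smooth Bs.hom := inferInstanceAs (Smooth (pullback.snd B.hom t))
  haveI : IsProper As.hom := inferInstanceAs (IsProper (pullback.snd A.hom t))
  haveI : IsProper Bs.hom := inferInstanceAs (IsProper (pullback.snd B.hom t))
  haveI : ConnectedSpace As.left := inferInstanceAs (ConnectedSpace ↥(A.hom.fiber s))
  haveI : ConnectedSpace Bs.left := inferInstanceAs (ConnectedSpace ↥(B.hom.fiber s))
  haveI : IrreducibleSpace As.left := Groth.Agent.S0348.result (S.residueField s) As
  haveI : IrreducibleSpace Bs.left := Groth.Agent.S0348.result (S.residueField s) Bs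
  have hdim' : topologicalKrullDim As.left = topologicalKrullDim Bs.left := hdim
  have hpb : IsPullback (pullback.fst A.hom t) fs.left f.left (pullback.fst B.hom t) :=
    isPullback_overPullback_map A B f t
  haveI : LocallyOfFiniteType fs.left := MorphismProperty.of_isPullback hpb ‹_›
  refine ⟨fun hlqf => ?_, fun hsurj => ?_⟩
  · haveI : LocallyQuasiFinite fs.left := hlqf
    have hy := Groth.Agent.S17255.dim_fiber_eq_zero_of_locallyQuasiFinite fs.left
      (genericPoint As.left)
    exact (Groth.Agent.S7798.result (S.residueField s) As.hom Bs.hom hdim'.ge fs.left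
      (Over.w fs) _ hy).1
  · haveI : Surjective fs.left := hsurj
    have h0 := fibreDimAt_genericPoint_eq_zero (S.residueField s) Bs.hom fs.left hdim'
    refine ⟨pullback.fst A.hom t (genericPoint As.left), ?_, ?_⟩
    · rw [← Scheme.Hom.comp_apply, pullback.condition, Scheme.Hom.comp_apply]
      exact Scheme.fromSpecResidueField_apply _ _
    · rw [← fibreDimAt_eq_of_isPullback f.left (pullback.fst B.hom t) (pullback.fst A.hom t)
        fs.left hpb (genericPoint As.left), h0]

/-- (2) ⇔ (3): let S be a scheme, A and B abelian schemes over S (S-group schemes, smooth and proper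
over S with geometrically connected fibres) whose fibres A_s and B_s have the same dimension for
every point s of S, and f : A → B a homomorphism of S-group schemes. Then f is locally quasi-finite
if and only if f is surjective (and then f is an isogeny). -/
theorem result {S : Scheme.{u}} (A B : Over S)
    [GrpObj A] [Smooth A.hom] [IsProper A.hom] [GeometricallyConnected A.hom]
    [GrpObj B] [Smooth B.hom] [IsProper B.hom] [GeometricallyConnected B.hom]
    (f : A ⟶ B) [IsMonHom f]
    (hdim : ∀ s : S, topologicalKrullDim ↥(A.hom.fiber s) = topologicalKrullDim ↥(B.hom.fiber s)) :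
    LocallyQuasiFinite f.left ↔ Surjective f.left := by
  haveI : LocallyOfFiniteType (f.left ≫ B.hom) := by rw [Over.w f]; infer_instance
  haveI : LocallyOfFiniteType f.left := locallyOfFiniteType_of_comp f.left B.hom
  open Groth.Agent.Lib.Helper3.GrpHomQF Groth.Agent.Lib.Helper3.AbHom in
  constructor
  · intro hlqf
    refine ⟨fun b => ?_⟩
    have hk := (fibre_key A B f (B.hom b) (hdim (B.hom b))).1
    have hlqf_s : LocallyQuasiFinite
        ((Over.pullback (S.fromSpecResidueField (B.hom b))).map f).left := by
      rw [locallyQuasiFinite_fibre_iff]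
      exact (locallyQuasiFinite_iff_forall_fibreDimAt_le_zero f.left).mp hlqf _
    have hs := hk hlqf_s
    have hb : b ∈ Set.range (pullback.fst B.hom (S.fromSpecResidueField (B.hom b))) := by
      have h1 := B.hom.range_fiberι (B.hom b)
      have h2 : b ∈ Set.range (B.hom.fiberι (B.hom b)) := by rw [h1]; rfl
      exact h2
    obtain ⟨b', hb'⟩ := hb
    obtain ⟨a', ha'⟩ := hs.surj b'
    refine ⟨pullback.fst A.hom _ a', ?_⟩
    rw [← Scheme.Hom.comp_apply, (isPullback_overPullback_map A B f _).w, Scheme.Hom.comp_apply,
      ha', hb']
  · intro hsurj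
    apply locallyQuasiFinite_of_forall_exists A B f
    intro s _
    have hsurj_s : Surjective ((Over.pullback (S.fromSpecResidueField s)).map f).left :=
      MorphismProperty.of_isPullback (P := @Surjective)
        (isPullback_overPullback_map A B f (S.fromSpecResidueField s)) hsurj
    exact (fibre_key A B f s (hdim s)).2 hsurj_s

end Groth.Agent.S18385
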