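import Groth.Statements.S18386
import Mathlib.Tactic
import Mathlib.RingTheory.Ideal.IdempotentFG

set_option autoImplicit false
universe u
open LVCorr

namespace Groth.Agent.S18386

open AlgebraicGeometry TopologicalSpace in
/-- for an idempotent `e` on an open `U`, zero locus of `e` inside `U` is the basic open of `1-e`. -/
lemma zeroLocus_inter_of_idem (X : Scheme.{u}) {U : X.Opens} (e : Γ(X, U))
    (he : IsIdempotentElem e) :
    X.zeroLocus (U := U) ({e} : Set Γ(X, U)) ∩ U = (X.basicOpen (1 - e) : Set X) := by
  ext x
  simp only [Scheme.zeroLocus_singleton, Set.mem_inter_iff, Set.mem_compl_iff, SetLike.mem_coe]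
  constructor
  · rintro ⟨hx, hxU⟩
    have h1 : x ∈ X.basicOpen (e + (1 - e)) := by
      rw [add_sub_cancel, X.basicOpen_of_isUnit isUnit_one]; exact hxU
    rcases X.basicOpen_add_le e (1 - e) h1 with h | h
    · exact (hx h).elim
    · exact h
  · intro hx
    refine ⟨fun hx' => ?_, X.basicOpen_le _ hx⟩
    have : x ∈ X.basicOpen (e * (1 - e)) := by
      rw [X.basicOpen_mul]; exact ⟨hx', hx⟩
    have h0 : e * (1 - e) = 0 := by
      rw [mul_sub, mul_one, he.eq, sub_self]
    rw [h0, X.basicOpen_zero] at this
    exact this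


open AlgebraicGeometry in
/-- Let X be a connected Noetherian scheme and I a quasi-coherent sheaf of ideals on X, different from
the structure sheaf, such that I^k = I^(k+1) for some natural number k. Then I^k = 0. -/
theorem result (X : Scheme.{u}) [AlgebraicGeometry.IsNoetherian X]
    [ConnectedSpace X] (I : X.IdealSheafData) (hI : I ≠ ⊤) (k : ℕ)
    (h : I ^ k = I ^ (k + 1)) : I ^ k = ⊥ := by
  have hk : k ≠ 0 := by
    rintro rfl
    apply hI
    have := h.symm
    simpa using this
  have hJJ : I ^ k * I ^ k = I ^ k := by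
    have : ∀ m : ℕ, I ^ (k + m) = I ^ k := by
      intro m
      induction m with
      | zero => rfl
      | succ m ih => rw [← add_assoc, pow_succ, ih, ← pow_succ, ← h]
    rw [← pow_add, this]
  set J := I ^ k with hJ
  -- local generators
  have hloc : ∀ U : X.affineOpens, ∃ e : Γ(X, U.1), IsIdempotentElem e ∧
      J.ideal U = Ideal.span {e} := by
    intro U
    have hN : IsNoetherianRing Γ(X, U.1) := IsLocallyNoetherian.component_noetherian U
    have hfg : (J.ideal U).FG := (isNoetherianRing_iff_ideal_fg _).mp hN _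
    have hid : IsIdempotentElem (J.ideal U) := by
      have := congrArg (fun K : X.IdealSheafData => K.ideal U) hJJ
      simpa [IsIdempotentElem] using this
    exact (Ideal.isIdempotentElem_iff_of_fg _ hfg).mp hid
  have hopen : IsOpen (J.support : Set X) := by
    rw [isOpen_iff_forall_mem_open]
    intro x hx
    obtain ⟨_, ⟨U, hU, rfl⟩, hxU, -⟩ :=
      X.isBasis_affineOpens.exists_subset_of_mem_open (Set.mem_univ x) isOpen_univ
    obtain ⟨e, he, hJe⟩ := hloc ⟨U, hU⟩
    have key : (J.support : Set X) ∩ U = (X.basicOpen (1 - e) : Set X) := by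
      rw [J.coe_support_inter ⟨U, hU⟩, hJe, X.zeroLocus_span]
      exact zeroLocus_inter_of_idem X e he
    refine ⟨(X.basicOpen (1 - e) : Set X), ?_, (X.basicOpen (1 - e)).2, ?_⟩
    · rw [← key]; exact Set.inter_subset_left
    · rw [← key]; exact ⟨hx, hxU⟩
  have hclopen : IsClopen (J.support : Set X) := ⟨J.support.2, hopen⟩
  rcases isClopen_iff.mp hclopen with h0 | h1
  · exfalso
    have : J.support = ⊥ := by
      ext x; simp [h0]
    rw [Scheme.IdealSheafData.support_eq_bot_iff] at this
    apply hI
    have hle : J ≤ I := by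
      rw [hJ]
      obtain ⟨m, rfl⟩ := Nat.exists_eq_succ_of_ne_zero hk
      rw [pow_succ]
      exact mul_le_of_le_one_left' le_top
    exact top_le_iff.mp (this ▸ hle)
  · apply Scheme.IdealSheafData.ext
    funext U
    obtain ⟨e, he, hJe⟩ := hloc U
    have key : (J.support : Set X) ∩ U.1 = (X.basicOpen (1 - e) : Set X) := by
      rw [J.coe_support_inter U, hJe, X.zeroLocus_span]
      exact zeroLocus_inter_of_idem X e he
    rw [h1, Set.univ_inter] at key
    -- basicOpen e = ⊥
    have hbe : X.basicOpen e = ⊥ := by
      have h0 : e * (1 - e) = 0 := by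
        rw [mul_sub, mul_one, he.eq, sub_self]
      have := X.basicOpen_mul e (1 - e)
      rw [h0, X.basicOpen_zero] at this
      have h2 : X.basicOpen (1 - e) = U.1 := by
        ext x; exact (Set.ext_iff.mp key x).symm
      rw [h2] at this
      have h3 : X.basicOpen e ≤ U.1 := X.basicOpen_le e
      rw [inf_eq_left.mpr h3] at this
      exact this.symm
    have hnil : IsNilpotent e :=
      (Scheme.isNilpotent_iff_basicOpen_eq_bot_of_isCompact U.2.isCompact e).mpr hbe
    have he0 : e = 0 := by
      obtain ⟨n, hn⟩ := hnil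
      rcases Nat.eq_zero_or_pos n with rfl | hn'
      · have h1' : (1 : Γ(X, U.1)) = 0 := by simpa using hn
        calc e = e * 1 := (mul_one e).symm
          _ = 0 := by rw [h1', mul_zero]
      · obtain ⟨m, rfl⟩ := Nat.exists_eq_succ_of_ne_zero hn'.ne'
        rwa [IsIdempotentElem.pow_succ_eq m he] at hn
    rw [hJe, he0]
    simp

end Groth.Agent.S18386
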