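import Groth.Statements.S18387
import Mathlib.Tactic
import Mathlib.RingTheory.Noetherian.Nilpotent

set_option autoImplicit false
universe u
open LVCorr

namespace Groth.Agent.S18387

/-- In the affine form which its proof establishes. Let A be a commutative algebra over a field F which
is finite-dimensional of dimension d over F. Then the d-th power of the nilradical of A vanishes.
(Applied to the fibre algebra A = B/mB of a quasi-finite morphism over a closed point with maximal
ideal m, this says that the d-th power of the radical of mB lies in mB, i.e. the ramification of the
morphism at that point is at most the degree d of the fibre.) -/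
theorem result (F A : Type u) [Field F] [CommRing A] [Algebra F A]
    [FiniteDimensional F A] : nilradical A ^ Module.finrank F A = ⊥ := by
  have : IsNoetherian F A := inferInstance
  have : IsNoetherianRing A := isNoetherian_of_tower F ‹IsNoetherian F A›
  obtain ⟨m, hm⟩ := IsNoetherianRing.isNilpotent_nilradical A
  set N := nilradical A with hN
  -- stabilisation implies vanishing
  have hstab : ∀ k : ℕ, N ^ k = N ^ (k + 1) → N ^ k = ⊥ := by
    intro k hk
    have h2 : ∀ j : ℕ, N ^ k = N ^ (k + j) := by
      intro j
      induction j with
      | zero => simp
      | succ j ih =>
        calc N ^ k = N ^ (k + 1) := hk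
          _ = N ^ k * N := pow_succ _ _
          _ = N ^ (k + j) * N := by rw [← ih]
          _ = N ^ (k + (j + 1)) := by rw [← pow_succ, add_assoc]
    rw [h2 m, add_comm, pow_add, hm]
    simp
  have key : ∀ k : ℕ, N ^ k = ⊥ ∨ Module.finrank F ((N ^ k).restrictScalars F) + k ≤ Module.finrank F A := by
    intro k
    induction k with
    | zero =>
      right
      rw [add_zero]
      exact Submodule.finrank_le _
    | succ k ih =>
      rcases ih with h0 | hle
      · left
        rw [pow_succ, h0]
        simp
      · by_cases hz : N ^ (k + 1) = ⊥
        · exact Or.inl hz
        right
        have hlt : (N ^ (k + 1)).restrictScalars F < (N ^ k).restrictScalars F := by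
          have hle' : N ^ (k + 1) ≤ N ^ k := Ideal.pow_le_pow_right (Nat.le_succ k)
          refine lt_of_le_of_ne (fun x hx => hle' hx) ?_
          intro heq
          apply hz
          have : N ^ k = N ^ (k + 1) := by
            apply le_antisymm _ hle'
            intro x hx
            have : x ∈ (N ^ k).restrictScalars F := hx
            rw [← heq] at this
            exact this
          rw [← this]
          exact hstab k this
        have := Submodule.finrank_lt_finrank_of_lt hlt
        omega
  rcases key (Module.finrank F A) with h | h
  · exact h
  · have h0 : Module.finrank F ((N ^ Module.finrank F A).restrictScalars F) = 0 := by omega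
    have h1 : (N ^ Module.finrank F A).restrictScalars F = ⊥ := Submodule.finrank_eq_zero.mp h0
    apply le_antisymm _ bot_le
    intro x hx
    have : x ∈ (N ^ Module.finrank F A).restrictScalars F := hx
    rw [h1] at this
    exact this

end Groth.Agent.S18387
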