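import Groth.Statements.S18389
import Mathlib
import Groth.Agent.Lib.Helper10RedInd
-- import your own Groth.Agent.* helpers here

set_option autoImplicit false
universe u
open LVCorr

namespace Groth.Agent.S18389

open AlgebraicGeometry CategoryTheory in
/-- Let j : C → C̄ be an open immersion with dense image and jX : X → X̄ an open immersion, and let c₁ :
C → X and c̄₁ : C̄ → X̄ satisfy j followed by c̄₁ equals c₁ followed by jX, with c̄₁ separated. Let
U be an open subset of X such that c₁⁻¹(U) is dense in C and the restriction c₁⁻¹(U) → U of c₁ is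
proper. Then c̄₁⁻¹(jX(U)) = j(c₁⁻¹(U)) as open subsets of C̄. (In the source all schemes are
separated of finite type over a field, C̄ and X̄ are compactifications of a correspondence and of X,
so that c̄₁ is automatically separated.) -/
theorem result {C Cb X Xb : Scheme.{u}}
    (j : C ⟶ Cb) [IsOpenImmersion j] (hj : DenseRange j.base)
    (jX : X ⟶ Xb) [IsOpenImmersion jX] (c₁ : C ⟶ X) (cb₁ : Cb ⟶ Xb) [IsSeparated cb₁]
    (h : j ≫ cb₁ = c₁ ≫ jX) (U : X.Opens) (hU : Dense ((c₁ ⁻¹ᵁ U : C.Opens) : Set C))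
    [IsProper (c₁ ∣_ U)] :
    cb₁ ⁻¹ᵁ (jX ''ᵁ U) = j ''ᵁ (c₁ ⁻¹ᵁ U) := by
  classical
  set V : Cb.Opens := cb₁ ⁻¹ᵁ (jX ''ᵁ U) with hV
  set Wc : C.Opens := c₁ ⁻¹ᵁ U with hWc
  have hle : j ''ᵁ Wc ≤ V := by
    rintro _ ⟨c, hc, rfl⟩
    change cb₁ (j c) ∈ jX ''ᵁ U
    have : cb₁ (j c) = jX (c₁ c) := congr($h c)
    rw [this]
    exact ⟨c₁ c, hc, rfl⟩
  refine le_antisymm ?_ hle
  have h1 : Set.range (Wc.ι ≫ j) ⊆ Set.range V.ι := by
    rw [Scheme.Opens.range_ι]
    rintro _ ⟨c, rfl⟩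
    exact hle ⟨c.1, c.2, rfl⟩
  let a : Wc.toScheme ⟶ V.toScheme := IsOpenImmersion.lift V.ι (Wc.ι ≫ j) h1
  have ha : a ≫ V.ι = Wc.ι ≫ j := IsOpenImmersion.lift_fac _ _ _
  have h2 : Set.range (V.ι ≫ cb₁) ⊆ Set.range (U.ι ≫ jX) := by
    rintro _ ⟨v, rfl⟩
    obtain ⟨u, hu, hu2⟩ := v.2
    exact ⟨⟨u, hu⟩, hu2⟩
  let b : V.toScheme ⟶ U.toScheme := IsOpenImmersion.lift (U.ι ≫ jX) (V.ι ≫ cb₁) h2
  have hb : b ≫ U.ι ≫ jX = V.ι ≫ cb₁ := IsOpenImmersion.lift_fac _ _ _
  have hab : a ≫ b = c₁ ∣_ U := by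
    rw [← cancel_mono (U.ι ≫ jX), Category.assoc, hb, reassoc_of% ha, h,
      ← Category.assoc (c₁ ∣_ U), morphismRestrict_ι, Category.assoc]
  have : IsSeparated (b ≫ U.ι ≫ jX) := by rw [hb]; infer_instance
  have : IsSeparated b := IsSeparated.of_comp b (U.ι ≫ jX)
  have : IsProper (a ≫ b) := by rw [hab]; infer_instance
  have : IsProper a := IsProper.of_comp a b
  have hcl : IsClosed (Set.range a) := by
    rw [← Set.image_univ]; exact a.isClosedMap _ isClosed_univ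
  have hr : Set.range a = V.ι ⁻¹' (j '' (Wc : Set C)) := by
    rw [Groth.Agent.Lib.Helper10.RedInd.range_eq_preimage_range_comp_ι, ha,
      Scheme.Hom.comp_base, TopCat.coe_comp, Set.range_comp, Scheme.Opens.range_ι]
  have hdense : Dense (Set.range a) := by
    rw [hr]
    exact (hj.dense_image j.continuous hU).preimage V.ι.isOpenEmbedding.isOpenMap
  have hsurj : Set.range a = Set.univ := by
    rw [← hcl.closure_eq]; exact hdense.closure_eq
  intro v hv
  have : (⟨v, hv⟩ : V) ∈ Set.range a := hsurj ▸ Set.mem_univ _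
  rw [hr] at this
  exact this

end Groth.Agent.S18389
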