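import Groth.Statements.S1839
import Mathlib
-- import your own Groth.Agent.* helpers here

set_option autoImplicit false
set_option linter.style.haveILetI false
set_option linter.unusedSectionVars false
universe u v
open CycDet

namespace Groth.Agent.S1839

open IsLocalRing

variable {R : Type u} [CommRing R] [IsLocalRing R] {M : Type v} [AddCommGroup M] [Module R M]

section SB

variable {l : ℕ} (e : Fin l → M)

theorem sb_mono {i j : ℕ} (h : i ≤ j) : spanBefore R M e i ≤ spanBefore R M e j :=
  Submodule.span_mono (Set.image_mono (fun _ hk => lt_of_lt_of_le hk h))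

theorem sb_mem {i : ℕ} (k : Fin l) (h : (k : ℕ) < i) : e k ∈ spanBefore R M e i :=
  Submodule.subset_span ⟨k, h, rfl⟩

theorem sb_succ (i : Fin l) : spanBefore R M e ((i : ℕ) + 1) =
    spanBefore R M e i ⊔ Submodule.span R {e i} := by
  apply le_antisymm
  · apply Submodule.span_le.mpr
    rintro _ ⟨k, hk, rfl⟩
    rcases Nat.lt_succ_iff_lt_or_eq.mp hk with h | h
    · exact Submodule.mem_sup_left (sb_mem e k h)
    · have : k = i := Fin.ext h
      subst this
      exact Submodule.mem_sup_right (Submodule.mem_span_singleton_self _)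
  · apply sup_le (sb_mono e (Nat.le_succ _))
    rw [Submodule.span_singleton_le_iff_mem]
    exact sb_mem e i (Nat.lt_succ_self _)

theorem sb_le_range (i : ℕ) : spanBefore R M e i ≤ Submodule.span R (Set.range e) :=
  Submodule.span_mono (Set.image_subset_range _ _)

theorem sb_top {i : ℕ} (h : l ≤ i) : spanBefore R M e i = Submodule.span R (Set.range e) := by
  apply le_antisymm (sb_le_range e i)
  apply Submodule.span_le.mpr
  rintro _ ⟨k, rfl⟩
  exact sb_mem e k (lt_of_lt_of_le k.2 h)

theorem sb_zero : spanBefore R M e 0 = ⊥ := by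
  unfold spanBefore
  simp

theorem sb_congr {e e' : Fin l → M} {i : ℕ} (h : ∀ k : Fin l, (k : ℕ) < i → e k = e' k) :
    spanBefore R M e i = spanBefore R M e' i := by
  unfold spanBefore
  congr 1
  exact Set.image_congr h

theorem sb_swap_lt (a b : Fin l) {i : ℕ} (ha : (a : ℕ) < i) (hb : (b : ℕ) < i) :
    spanBefore R M (e ∘ Equiv.swap a b) i = spanBefore R M e i := by
  unfold spanBefore
  congr 1
  rw [Set.image_comp]
  congr 1
  have key : ∀ k : Fin l, (k : ℕ) < i → ((Equiv.swap a b k : Fin l) : ℕ) < i := by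
    intro k hk
    by_cases h1 : k = a
    · subst h1; rw [Equiv.swap_apply_left]; exact hb
    by_cases h2 : k = b
    · subst h2; rw [Equiv.swap_apply_right]; exact ha
    rw [Equiv.swap_apply_of_ne_of_ne h1 h2]; exact hk
  ext k
  constructor
  · rintro ⟨k', hk', rfl⟩
    exact key k' hk'
  · intro hk
    exact ⟨Equiv.swap a b k, key k hk, Equiv.swap_apply_self a b k⟩

end SB

section RepSec

variable (f : M) {l : ℕ}

/-- `i` is the first index with `f ∈ ⟨e_0..e_i⟩`, and `x` the coefficient of `e_i`. -/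
def Rep (e : Fin l → M) (i : Fin l) (x : R) : Prop :=
  f ∉ spanBefore R M e i ∧ f - x • e i ∈ spanBefore R M e i

variable {f}

theorem rep_unit {e : Fin l → M} (he : IsAdmissible R M e) {i : Fin l} {x : R}
    (h : Rep f e i x) : IsUnit x := by
  by_contra hx
  have hxm : x ∈ maximalIdeal R := (IsLocalRing.mem_maximalIdeal x).mpr hx
  apply h.1
  have := Submodule.add_mem _ h.2 (he i x hxm)
  simpa using this

theorem rep_mem_succ {e : Fin l → M} {i : Fin l} {x : R} (h : Rep f e i x) :
    f ∈ spanBefore R M e ((i : ℕ) + 1) := by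
  rw [sb_succ]
  have : f = (f - x • e i) + x • e i := by abel
  rw [this]
  exact Submodule.add_mem _ (Submodule.mem_sup_left h.2)
    (Submodule.mem_sup_right (Submodule.smul_mem _ _ (Submodule.mem_span_singleton_self _)))

theorem rep_mem_range {e : Fin l → M} {i : Fin l} {x : R} (h : Rep f e i x) :
    f ∈ Submodule.span R (Set.range e) :=
  sb_le_range e _ (rep_mem_succ h)

theorem rep_lt_absurd {e : Fin l → M} {i i' : Fin l} {x x' : R} (h : Rep f e i x)
    (h' : Rep f e i' x') (hlt : i < i') : False :=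
  h'.1 (sb_mono e (Nat.succ_le_of_lt hlt) (rep_mem_succ h))

theorem rep_index_unique {e : Fin l → M} {i i' : Fin l} {x x' : R} (h : Rep f e i x)
    (h' : Rep f e i' x') : i = i' := by
  rcases lt_trichotomy i i' with h1 | h1 | h1
  · exact (rep_lt_absurd h h' h1).elim
  · exact h1
  · exact (rep_lt_absurd h' h h1).elim

theorem rep_coeff_unique {e : Fin l → M} {i : Fin l} {x x' : R}
    (h : Rep f e i x) (h' : Rep f e i x') : residue R x = residue R x' := by
  have hd : (x - x') • e i ∈ spanBefore R M e i := by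
    have := Submodule.sub_mem _ h'.2 h.2
    convert this using 1
    rw [sub_smul]; abel
  by_contra hne
  have hu : IsUnit (x - x') := by
    by_contra hnu
    apply hne
    have hm : x - x' ∈ maximalIdeal R := (IsLocalRing.mem_maximalIdeal _).mpr hnu
    rw [← sub_eq_zero, ← map_sub]
    exact (residue_eq_zero_iff _).mpr hm
  have hei : e i ∈ spanBefore R M e i := by
    obtain ⟨u, hu'⟩ := hu
    have := Submodule.smul_mem _ (↑u⁻¹ : R) hd
    rwa [← hu', smul_smul, Units.inv_mul, one_smul] at this
  apply h.1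
  have := Submodule.add_mem _ h.2 (Submodule.smul_mem _ x hei)
  simpa using this

theorem rep_exists (hf0 : f ≠ 0) {e : Fin l → M} (hf : f ∈ Submodule.span R (Set.range e)) :
    ∃ (i : Fin l) (x : R), Rep f e i x := by
  classical
  have hP : ∃ n, f ∈ spanBefore R M e n := ⟨l, by rw [sb_top e le_rfl]; exact hf⟩
  have hn1 : f ∈ spanBefore R M e (Nat.find hP) := Nat.find_spec hP
  have hn0 : Nat.find hP ≠ 0 := by
    intro h0
    rw [h0, sb_zero] at hn1
    exact hf0 (by simpa using hn1)
  obtain ⟨m, hm⟩ := Nat.exists_eq_succ_of_ne_zero hn0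
  have hml : m < l := by
    have : Nat.find hP ≤ l := Nat.find_min' hP (by rw [sb_top e le_rfl]; exact hf)
    omega
  have hmin : f ∉ spanBefore R M e m := Nat.find_min hP (by omega)
  rw [hm] at hn1
  have h2 : f ∈ spanBefore R M e ((⟨m, hml⟩ : Fin l) : ℕ) ⊔ Submodule.span R {e ⟨m, hml⟩} := by
    rw [← sb_succ]; exact hn1
  obtain ⟨s, hs, t, ht, hst⟩ := Submodule.mem_sup.mp h2
  obtain ⟨x, rfl⟩ := Submodule.mem_span_singleton.mp ht
  refine ⟨⟨m, hml⟩, x, hmin, ?_⟩
  rw [← hst]
  simpa using hs

end RepSec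


/-- The properties of a determinant functional on `l`-tuples. -/
structure Good (R : Type u) [CommRing R] [IsLocalRing R] (M : Type v) [AddCommGroup M]
    [Module R M] (l : ℕ) (ψ : (Fin l → M) → ResidueField R) : Prop where
  g0 : ∀ e, IsAdmissible R M e → Submodule.span R (Set.range e) = ⊤ → ψ e ≠ 0
  ga : ∀ e, IsAdmissible R M e → ∀ a : Fin l, e a ∈ spanBefore R M e a → ψ e = 0
  gb : ∀ e e', IsAdmissible R M e → IsAdmissible R M e' → ∀ (a : Fin l) (c : R), IsUnit c →
    (∀ j, j ≠ a → e j = e' j) → e a - c • e' a ∈ spanBefore R M e a →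
    ψ e = residue R c * ψ e'
  gc : ∀ e e', IsAdmissible R M e → IsAdmissible R M e' → ∀ a b : Fin l, (b : ℕ) + 1 = a →
    (∀ r ∈ maximalIdeal R, r • e a ∈ spanBefore R M e b) → e' = e ∘ Equiv.swap a b →
    ψ e + ψ e' = 0

theorem sa_val {l : ℕ} (p : Fin (l + 1)) (j : Fin l) :
    ((p.succAbove j : Fin (l + 1)) : ℕ) = if (j : ℕ) < (p : ℕ) then (j : ℕ) else (j : ℕ) + 1 := by
  unfold Fin.succAbove
  split_ifs with h1 h2 h2
  · rfl
  · exact absurd (Fin.lt_def.mp h1) h2
  · exact absurd (Fin.lt_def.mpr h2) h1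
  · rfl

section Step

variable (f : M) {l : ℕ}

/-- The quotient by the line spanned by `f`. -/
abbrev Qf (R : Type u) [CommRing R] {M : Type v} [AddCommGroup M] [Module R M] (f : M) : Type v :=
  M ⧸ Submodule.span R ({f} : Set M)

/-- The projection. -/
def pr (R : Type u) [CommRing R] {M : Type v} [AddCommGroup M] [Module R M] (f : M) :
    M →ₗ[R] Qf R f := Submodule.mkQ _

theorem pr_f : pr R f f = 0 :=
  (Submodule.Quotient.mk_eq_zero _).mpr (Submodule.mem_span_singleton_self f)

theorem pr_surj : Function.Surjective (pr R f) := Submodule.mkQ_surjective _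

/-- The reduced tuple: remove entry `i` and project. -/
def red (R : Type u) [CommRing R] {M : Type v} [AddCommGroup M] [Module R M] (f : M) {l : ℕ}
    (e : Fin (l + 1) → M) (i : Fin (l + 1)) : Fin l → Qf R f :=
  fun j => pr R f (e (i.succAbove j))

variable {f}

theorem map_sb_le {e : Fin (l + 1) → M} (he : IsAdmissible R M e) {i : Fin (l + 1)} {x : R}
    (h : Rep f e i x) (T : Submodule R (Qf R f)) (n : ℕ)
    (hT : ∀ j' : Fin l, ((i.succAbove j' : Fin (l + 1)) : ℕ) < n → red R f e i j' ∈ T) :
    Submodule.map (pr R f) (spanBefore R M e n) ≤ T := by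
  have A0 : ∀ k : Fin (l + 1), k ≠ i → (k : ℕ) < n → pr R f (e k) ∈ T := by
    intro k hki hkn
    obtain ⟨j', rfl⟩ := Fin.exists_succAbove_eq hki
    exact hT j' hkn
  rw [Submodule.map_le_iff_le_comap]
  apply Submodule.span_le.mpr
  rintro _ ⟨k, hk, rfl⟩
  show pr R f (e k) ∈ T
  by_cases hki : k = i
  · subst hki
    obtain ⟨u, rfl⟩ := rep_unit he h
    have h1 : pr R f (f - (u : R) • e k) ∈ T := by
      have : Submodule.map (pr R f) (spanBefore R M e k) ≤ T := by
        rw [Submodule.map_le_iff_le_comap]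
        apply Submodule.span_le.mpr
        rintro _ ⟨k', hk', rfl⟩
        have hk'' : (k' : ℕ) < (k : ℕ) := hk'
        exact A0 k' (fun hh => by subst hh; exact lt_irrefl _ hk'') (lt_trans hk'' hk)
      exact this (Submodule.mem_map_of_mem h.2)
    have h2 : pr R f (e k) = -((↑u⁻¹ : R) • pr R f (f - (u : R) • e k)) := by
      rw [map_sub, pr_f, zero_sub, map_smul, smul_neg, smul_smul, Units.inv_mul, one_smul, neg_neg]
    rw [h2]
    exact T.neg_mem (T.smul_mem _ h1)
  · exact A0 k hki hk

theorem map_sb_le_sb {e : Fin (l + 1) → M} (he : IsAdmissible R M e) {i : Fin (l + 1)} {x : R}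
    (h : Rep f e i x) (j : Fin l) :
    Submodule.map (pr R f) (spanBefore R M e ((i.succAbove j : Fin (l + 1)) : ℕ)) ≤
      spanBefore R (Qf R f) (red R f e i) j := by
  apply map_sb_le he h
  intro j' hj'
  apply sb_mem
  have : i.succAbove j' < i.succAbove j := Fin.lt_def.mpr hj'
  exact Fin.lt_def.mp ((Fin.succAbove_lt_succAbove_iff).mp this)

theorem red_adm {e : Fin (l + 1) → M} (he : IsAdmissible R M e) {i : Fin (l + 1)} {x : R}
    (h : Rep f e i x) : IsAdmissible R (Qf R f) (red R f e i) := by
  intro j r hr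
  apply map_sb_le_sb he h j
  have : r • red R f e i j = pr R f (r • e (i.succAbove j)) := by
    rw [map_smul]; rfl
  rw [this]
  exact Submodule.mem_map_of_mem (he _ r hr)

theorem red_gen {e : Fin (l + 1) → M} (he : IsAdmissible R M e) {i : Fin (l + 1)} {x : R}
    (h : Rep f e i x) (hgen : Submodule.span R (Set.range e) = ⊤) :
    Submodule.span R (Set.range (red R f e i)) = ⊤ := by
  rw [eq_top_iff]
  have h1 : Submodule.map (pr R f) (spanBefore R M e (l + 1)) ≤
      Submodule.span R (Set.range (red R f e i)) :=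
    map_sb_le he h _ (l + 1) (fun j' _ => Submodule.subset_span ⟨j', rfl⟩)
  rw [sb_top e le_rfl, hgen, Submodule.map_top, LinearMap.range_eq_top.mpr (pr_surj f)] at h1
  exact h1

variable (f)

/-- The value attached to a representation. -/
noncomputable def val (ψ' : (Fin l → Qf R f) → ResidueField R) (e : Fin (l + 1) → M)
    (p : Fin (l + 1) × R) : ResidueField R :=
  (-1) ^ (p.1 : ℕ) * (residue R p.2)⁻¹ * ψ' (red R f e p.1)

open Classical in
/-- The functional on `(l+1)`-tuples built from one on `l`-tuples of the quotient. -/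
noncomputable def psi (ψ' : (Fin l → Qf R f) → ResidueField R) (e : Fin (l + 1) → M) :
    ResidueField R :=
  if h : ∃ p : Fin (l + 1) × R, Rep f e p.1 p.2 then val f ψ' e h.choose else 0

variable {f}

theorem psi_eq (ψ' : (Fin l → Qf R f) → ResidueField R) {e : Fin (l + 1) → M}
    {i : Fin (l + 1)} {x : R} (h : Rep f e i x) :
    psi f ψ' e = (-1) ^ (i : ℕ) * (residue R x)⁻¹ * ψ' (red R f e i) := by
  have hex : ∃ p : Fin (l + 1) × R, Rep f e p.1 p.2 := ⟨(i, x), h⟩
  unfold psi
  rw [dif_pos hex]
  have h1 := hex.choose_spec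
  have hi : hex.choose.1 = i := rep_index_unique h1 h
  have hx : residue R hex.choose.2 = residue R x := by
    apply rep_coeff_unique (i := i) _ h
    rw [← hi]; exact h1
  unfold val
  rw [hx, hi]

theorem psi_zero (ψ' : (Fin l → Qf R f) → ResidueField R) {e : Fin (l + 1) → M}
    (h : f ∉ Submodule.span R (Set.range e)) : psi f ψ' e = 0 := by
  unfold psi
  rw [dif_neg]
  rintro ⟨p, hp⟩
  exact h (rep_mem_range hp)


variable (hf0 : f ≠ 0) (ψ' : (Fin l → Qf R f) → ResidueField R) (hψ' : Good R (Qf R f) l ψ')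

include hf0 hψ' in
theorem psi_g0 (e : Fin (l + 1) → M) (he : IsAdmissible R M e)
    (hgen : Submodule.span R (Set.range e) = ⊤) : psi f ψ' e ≠ 0 := by
  obtain ⟨i, x, h⟩ := rep_exists hf0 (e := e) (by rw [hgen]; exact Submodule.mem_top)
  rw [psi_eq ψ' h]
  have hx : residue R x ≠ 0 := (residue_ne_zero_iff_isUnit x).mpr (rep_unit he h)
  exact mul_ne_zero (mul_ne_zero (pow_ne_zero _ (neg_ne_zero.mpr one_ne_zero)) (inv_ne_zero hx))
    (hψ'.g0 _ (red_adm he h) (red_gen he h hgen))

include hψ' in
theorem psi_ga (e : Fin (l + 1) → M) (he : IsAdmissible R M e) (a : Fin (l + 1))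
    (ha : e a ∈ spanBefore R M e a) : psi f ψ' e = 0 := by
  by_cases hf : f ∈ Submodule.span R (Set.range e)
  swap
  · exact psi_zero ψ' hf
  by_cases hf0 : f = 0
  · -- f = 0: then no Rep exists
    unfold psi
    rw [dif_neg]
    rintro ⟨p, hp⟩
    exact hp.1 (by rw [hf0]; exact Submodule.zero_mem _)
  obtain ⟨i, x, h⟩ := rep_exists hf0 hf
  rw [psi_eq ψ' h]
  have hai : a ≠ i := by
    rintro rfl
    apply h.1
    have := Submodule.add_mem _ h.2 (Submodule.smul_mem _ x ha)
    simpa using this
  obtain ⟨a', rfl⟩ := Fin.exists_succAbove_eq hai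
  have : ψ' (red R f e i) = 0 := by
    apply hψ'.ga _ (red_adm he h) a'
    apply map_sb_le_sb he h a'
    exact Submodule.mem_map_of_mem ha
  rw [this, mul_zero]

/-- spans agree in the situation of relation (b) -/
theorem sb_eq_of_gb {n : ℕ} {e e' : Fin n → M} (a : Fin n) (c : R) (hc : IsUnit c)
    (hj : ∀ j, j ≠ a → e j = e' j) (hca : e a - c • e' a ∈ spanBefore R M e a) (m : ℕ) :
    spanBefore R M e m = spanBefore R M e' m := by
  have hlow : ∀ m : ℕ, m ≤ a → spanBefore R M e m = spanBefore R M e' m := by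
    intro m hm
    apply sb_congr
    intro k hk
    apply hj
    intro hka
    subst hka
    omega
  by_cases hm : m ≤ a
  · exact hlow m hm
  rw [not_le] at hm
  obtain ⟨u, rfl⟩ := hc
  apply le_antisymm
  · apply Submodule.span_le.mpr
    rintro _ ⟨k, hk, rfl⟩
    have hk' : (k : ℕ) < m := hk
    by_cases hka : k = a
    · subst hka
      have h1 : e k = (e k - (u : R) • e' k) + (u : R) • e' k := by abel
      rw [h1]
      apply Submodule.add_mem
      · have := hlow k le_rfl ▸ hca
        exact sb_mono e' hm.le this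
      · exact Submodule.smul_mem _ _ (sb_mem e' k hk')
    · rw [hj k hka]
      exact sb_mem e' k hk'
  · apply Submodule.span_le.mpr
    rintro _ ⟨k, hk, rfl⟩
    have hk' : (k : ℕ) < m := hk
    by_cases hka : k = a
    · subst hka
      have h1 : e' k = (↑u⁻¹ : R) • (e k - (e k - (u : R) • e' k)) := by
        rw [sub_sub_cancel, smul_smul, Units.inv_mul, one_smul]
      rw [h1]
      apply Submodule.smul_mem
      apply Submodule.sub_mem
      · exact sb_mem e k hk'
      · exact sb_mono e hm.le hca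
    · rw [← hj k hka]
      exact sb_mem e k hk'

include hψ' in
theorem psi_gb (e e' : Fin (l + 1) → M) (he : IsAdmissible R M e) (he' : IsAdmissible R M e')
    (a : Fin (l + 1)) (c : R) (hc : IsUnit c) (hj : ∀ j, j ≠ a → e j = e' j)
    (hca : e a - c • e' a ∈ spanBefore R M e a) :
    psi f ψ' e = residue R c * psi f ψ' e' := by
  have hsb := sb_eq_of_gb a c hc hj hca
  have hrange : Submodule.span R (Set.range e) = Submodule.span R (Set.range e') := by
    rw [← sb_top e le_rfl, ← sb_top e' le_rfl]; exact hsb _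
  by_cases hf : f ∈ Submodule.span R (Set.range e)
  swap
  · rw [psi_zero ψ' hf, psi_zero ψ' (hrange ▸ hf), mul_zero]
  by_cases hf0 : f = 0
  · have h1 : ∀ e : Fin (l + 1) → M, psi f ψ' e = 0 := by
      intro e
      unfold psi
      rw [dif_neg]
      rintro ⟨p, hp⟩
      exact hp.1 (by rw [hf0]; exact Submodule.zero_mem _)
    rw [h1, h1, mul_zero]
  obtain ⟨i, x, h⟩ := rep_exists hf0 hf
  have hcne : residue R c ≠ 0 := (residue_ne_zero_iff_isUnit c).mpr hc
  by_cases hia : i = a
  · subst hia
    have h' : Rep f e' i (x * c) := by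
      refine ⟨by rw [← hsb]; exact h.1, ?_⟩
      rw [← hsb]
      have : f - (x * c) • e' i = (f - x • e i) + x • (e i - c • e' i) := by
        rw [smul_sub, smul_smul]; abel
      rw [this]
      exact Submodule.add_mem _ h.2 (Submodule.smul_mem _ _ hca)
    have hred : red R f e i = red R f e' i := by
      funext j
      unfold red
      rw [hj _ (Fin.succAbove_ne i j)]
    rw [psi_eq ψ' h, psi_eq ψ' h', hred, map_mul, mul_inv]
    field_simp
  · have h' : Rep f e' i x := by
      refine ⟨by rw [← hsb]; exact h.1, ?_⟩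
      rw [← hsb, ← hj i hia]
      exact h.2
    obtain ⟨a', rfl⟩ := Fin.exists_succAbove_eq (Ne.symm hia)
    have hψ : ψ' (red R f e i) = residue R c * ψ' (red R f e' i) := by
      apply hψ'.gb _ _ (red_adm he h) (red_adm he' h') a' c hc
      · intro j hja
        unfold red
        rw [hj]
        intro hh
        exact hja (Fin.succAbove_right_injective hh)
      · apply map_sb_le_sb he h a'
        have : red R f e i a' - c • red R f e' i a' =
            pr R f (e (i.succAbove a') - c • e' (i.succAbove a')) := by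
          rw [map_sub, map_smul]; rfl
        rw [this]
        exact Submodule.mem_map_of_mem hca
    rw [psi_eq ψ' h, psi_eq ψ' h', hψ]
    ring

/-- hypotheses of relation (c) -/
structure SwapHyp (e e' : Fin (l + 1) → M) (a b : Fin (l + 1)) : Prop where
  he : IsAdmissible R M e
  he' : IsAdmissible R M e'
  hab : (b : ℕ) + 1 = a
  hsw : ∀ r ∈ maximalIdeal R, r • e a ∈ spanBefore R M e b
  heq : e' = e ∘ Equiv.swap a b

namespace SwapHyp

variable {e e' : Fin (l + 1) → M} {a b : Fin (l + 1)} (H : SwapHyp (R := R) e e' a b)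
include H

theorem e'_a : e' a = e b := by rw [H.heq]; simp

theorem e'_b : e' b = e a := by rw [H.heq]; simp

theorem e'_of_ne {k : Fin (l + 1)} (h1 : k ≠ a) (h2 : k ≠ b) : e' k = e k := by
  rw [H.heq, Function.comp_apply, Equiv.swap_apply_of_ne_of_ne h1 h2]

theorem sb_low {m : ℕ} (hm : m ≤ b) : spanBefore R M e' m = spanBefore R M e m := by
  apply sb_congr
  intro k hk
  have := H.hab
  apply H.e'_of_ne <;> (intro h; subst h; omega)

theorem sb_high {m : ℕ} (hm : (a : ℕ) < m) : spanBefore R M e' m = spanBefore R M e m := by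
  rw [H.heq]
  exact sb_swap_lt e a b hm (by have := H.hab; omega)

theorem sb_a' : spanBefore R M e' a = spanBefore R M e b ⊔ Submodule.span R {e a} := by
  have := sb_succ (R := R) e' b
  rw [H.hab] at this
  rw [this, H.sb_low le_rfl, H.e'_b]

theorem sb_a : spanBefore R M e a = spanBefore R M e b ⊔ Submodule.span R {e b} := by
  have := sb_succ (R := R) e b
  rw [H.hab] at this
  exact this

theorem range_eq : Submodule.span R (Set.range e') = Submodule.span R (Set.range e) := by
  rw [H.heq, (Equiv.swap a b).surjective.range_comp]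

theorem symm : SwapHyp (R := R) e' e a b where
  he := H.he'
  he' := H.he
  hab := H.hab
  hsw := by
    intro r hr
    rw [H.e'_a, H.sb_low le_rfl]
    exact H.he b r hr
  heq := by
    funext k
    rw [H.heq]
    simp

theorem rep_of_ne {i : Fin (l + 1)} {x : R} (h : Rep f e i x) (hia : i ≠ a) (hib : i ≠ b) :
    Rep f e' i x := by
  have hcases : (i : ℕ) ≤ b ∨ (a : ℕ) < i := by
    have := H.hab
    have h1 : (i : ℕ) ≠ a := fun hh => hia (Fin.ext hh)
    have h2 : (i : ℕ) ≠ b := fun hh => hib (Fin.ext hh)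
    omega
  have hsb : spanBefore R M e' i = spanBefore R M e i := by
    rcases hcases with h1 | h1
    · exact H.sb_low h1
    · exact H.sb_high h1
  refine ⟨by rw [hsb]; exact h.1, ?_⟩
  rw [hsb, H.e'_of_ne hia hib]
  exact h.2

theorem swap_sa (j : Fin l) : Equiv.swap a b (a.succAbove j) = b.succAbove j := by
  have hab := H.hab
  have h1 := sa_val a j
  have h2 := sa_val b j
  rcases lt_trichotomy (j : ℕ) (b : ℕ) with hj | hj | hj
  · have e1 : a.succAbove j = b.succAbove j :=
      Fin.ext (by rw [h1, h2, if_pos (by omega), if_pos hj])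
    rw [e1, Equiv.swap_apply_of_ne_of_ne]
    · intro hh
      have := congrArg Fin.val hh
      rw [h2, if_pos hj] at this
      omega
    · intro hh
      have := congrArg Fin.val hh
      rw [h2, if_pos hj] at this
      omega
  · have e1 : a.succAbove j = b := Fin.ext (by rw [h1, if_pos (by omega)]; exact hj)
    have e2 : b.succAbove j = a := Fin.ext (by rw [h2, if_neg (by omega)]; omega)
    rw [e1, e2, Equiv.swap_apply_right]
  · have e1 : a.succAbove j = b.succAbove j :=
      Fin.ext (by rw [h1, h2, if_neg (by omega), if_neg (by omega)])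
    rw [e1, Equiv.swap_apply_of_ne_of_ne]
    · intro hh
      have := congrArg Fin.val hh
      rw [h2, if_neg (by omega)] at this
      omega
    · intro hh
      have := congrArg Fin.val hh
      rw [h2, if_neg (by omega)] at this
      omega

end SwapHyp

section Cases

variable {e e' : Fin (l + 1) → M} {a b : Fin (l + 1)} (H : SwapHyp (R := R) e e' a b)

include hψ' H in
theorem case_ne {i : Fin (l + 1)} {x : R} (h : Rep f e i x) (hia : i ≠ a) (hib : i ≠ b) :
    psi f ψ' e + psi f ψ' e' = 0 := by
  have h' := H.rep_of_ne h hia hib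
  obtain ⟨a', ha'⟩ := Fin.exists_succAbove_eq (Ne.symm hia)
  obtain ⟨b', hb'⟩ := Fin.exists_succAbove_eq (Ne.symm hib)
  have hab' : (b' : ℕ) + 1 = a' := by
    have h1 := sa_val i a'
    have h2 := sa_val i b'
    rw [ha'] at h1
    rw [hb'] at h2
    have := H.hab
    have h3 : (i : ℕ) ≠ a := fun hh => hia (Fin.ext hh)
    have h4 : (i : ℕ) ≠ b := fun hh => hib (Fin.ext hh)
    split_ifs at h1 h2 <;> omega
  have hred : red R f e' i = red R f e i ∘ Equiv.swap a' b' := by
    funext j
    show pr R f (e' (i.succAbove j)) = pr R f (e (i.succAbove (Equiv.swap a' b' j)))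
    have : Equiv.swap a b (i.succAbove j) = i.succAbove (Equiv.swap a' b' j) := by
      rw [← ha', ← hb', Fin.succAbove_right_injective.swap_apply]
    rw [H.heq, Function.comp_apply, this]
  have hgc := hψ'.gc _ _ (red_adm H.he h) (red_adm H.he' h') a' b' hab' (by
    intro r hr
    apply map_sb_le_sb H.he h b'
    have : r • red R f e i a' = pr R f (r • e (i.succAbove a')) := by rw [map_smul]; rfl
    rw [this, ha', hb']
    exact Submodule.mem_map_of_mem (H.hsw r hr)) hred
  rw [psi_eq ψ' h, psi_eq ψ' h', ← mul_add, hgc, mul_zero]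

include hf0 hψ' H in
theorem case_bb {x x' : R} (h : Rep f e b x) (h' : Rep f e' b x') :
    psi f ψ' e + psi f ψ' e' = 0 := by
  obtain ⟨u, rfl⟩ := rep_unit H.he h
  obtain ⟨u', rfl⟩ := rep_unit H.he' h'
  have h2 : f - (u' : R) • e a ∈ spanBefore R M e b := by
    have := h'.2
    rwa [H.e'_b, H.sb_low le_rfl] at this
  have hd : (u : R) • e b - (u' : R) • e a ∈ spanBefore R M e b := by
    have := Submodule.sub_mem _ h2 h.2
    convert this using 1
    abel
  have ha : e a ∈ spanBefore R M e a := by
    rw [H.sb_a]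
    have : e a = (↑u'⁻¹ : R) • ((u : R) • e b - ((u : R) • e b - (u' : R) • e a)) := by
      rw [sub_sub_cancel, smul_smul, Units.inv_mul, one_smul]
    rw [this]
    apply Submodule.smul_mem
    exact Submodule.sub_mem _ (Submodule.mem_sup_right (Submodule.smul_mem _ _
      (Submodule.mem_span_singleton_self _))) (Submodule.mem_sup_left hd)
  have hb : e' a ∈ spanBefore R M e' a := by
    rw [H.sb_a', H.e'_a]
    have : e b = (↑u⁻¹ : R) • (((u : R) • e b - (u' : R) • e a) + (u' : R) • e a) := by
      rw [sub_add_cancel, smul_smul, Units.inv_mul, one_smul]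
    rw [this]
    apply Submodule.smul_mem
    exact Submodule.add_mem _ (Submodule.mem_sup_left hd) (Submodule.mem_sup_right
      (Submodule.smul_mem _ _ (Submodule.mem_span_singleton_self _)))
  rw [psi_ga ψ' hψ' e H.he a ha, psi_ga ψ' hψ' e' H.he' a hb, add_zero]

include H in
theorem case_ba {x x' : R} (h : Rep f e b x) (h' : Rep f e' a x') :
    psi f ψ' e + psi f ψ' e' = 0 := by
  have h'' : Rep f e' a x := by
    refine ⟨h'.1, ?_⟩
    rw [H.e'_a, H.sb_a']
    exact Submodule.mem_sup_left h.2
  have hred : red R f e' a = red R f e b := by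
    funext j
    show pr R f (e' (a.succAbove j)) = pr R f (e (b.succAbove j))
    rw [H.heq, Function.comp_apply, H.swap_sa]
  rw [psi_eq ψ' h, psi_eq ψ' h'', hred, ← H.hab, pow_succ]
  ring

include hψ' H in
theorem case_aa {x x' : R} (h : Rep f e a x) (h' : Rep f e' a x') :
    psi f ψ' e + psi f ψ' e' = 0 := by
  have h2 := h.2
  rw [H.sb_a] at h2
  obtain ⟨s₀, hs₀, t, ht, hst⟩ := Submodule.mem_sup.mp h2
  obtain ⟨y, rfl⟩ := Submodule.mem_span_singleton.mp ht
  have hf' : f = s₀ + y • e b + x • e a := by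
    rw [eq_sub_iff_add_eq] at hst
    exact hst.symm
  have hy : Rep f e' a y := by
    refine ⟨h'.1, ?_⟩
    rw [H.e'_a, H.sb_a']
    have : f - y • e b = s₀ + x • e a := by
      rw [hf']; abel
    rw [this]
    exact Submodule.add_mem _ (Submodule.mem_sup_left hs₀) (Submodule.mem_sup_right
      (Submodule.smul_mem _ _ (Submodule.mem_span_singleton_self _)))
  obtain ⟨ux, rfl⟩ := rep_unit H.he h
  obtain ⟨uy, rfl⟩ := rep_unit H.he' hy
  have hbl : (b : ℕ) < l := by
    have := H.hab
    have := a.2
    omega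
  have hsab : a.succAbove (⟨b, hbl⟩ : Fin l) = b :=
    Fin.ext (by rw [sa_val, if_pos (by show (b : ℕ) < a; have := H.hab; omega)])
  have hcu : IsUnit (-((ux : R) * (↑uy⁻¹ : R))) := (ux * uy⁻¹).isUnit.neg
  have hψ : ψ' (red R f e a) = residue R (-((ux : R) * (↑uy⁻¹ : R))) * ψ' (red R f e' a) := by
    apply hψ'.gb _ _ (red_adm H.he h) (red_adm H.he' h') ⟨b, hbl⟩ _ hcu
    · intro j hj
      show pr R f (e (a.succAbove j)) = pr R f (e' (a.succAbove j))
      rw [H.e'_of_ne (Fin.succAbove_ne a j)]
      intro hh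
      rw [← hsab] at hh
      exact hj (Fin.succAbove_right_injective hh)
    · apply map_sb_le_sb H.he h ⟨b, hbl⟩
      rw [hsab]
      have : red R f e a ⟨b, hbl⟩ - (-((ux : R) * (↑uy⁻¹ : R))) • red R f e' a ⟨b, hbl⟩ =
          pr R f ((↑uy⁻¹ : R) • (-s₀)) := by
        show pr R f (e (a.succAbove ⟨b, hbl⟩)) -
          (-((ux : R) * (↑uy⁻¹ : R))) • pr R f (e' (a.succAbove ⟨b, hbl⟩)) = _
        rw [hsab, H.e'_b, ← map_smul, ← map_sub]
        have hker : (e b - (-((ux : R) * (↑uy⁻¹ : R))) • e a) - (↑uy⁻¹ : R) • (-s₀) =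
            (↑uy⁻¹ : R) • f := by
          rw [hf']
          simp only [smul_add, smul_neg, neg_smul, smul_smul, Units.inv_mul, one_smul,
            mul_comm (ux : R)]
          abel
        have h0 : pr R f ((e b - (-((ux : R) * (↑uy⁻¹ : R))) • e a) - (↑uy⁻¹ : R) • (-s₀)) = 0 := by
          rw [hker, map_smul, pr_f, smul_zero]
        rw [map_sub, sub_eq_zero] at h0
        exact h0
      rw [this]
      exact Submodule.mem_map_of_mem (Submodule.smul_mem _ _ (Submodule.neg_mem _ hs₀))
  have hx0 : residue R (ux : R) ≠ 0 := (residue_ne_zero_iff_isUnit _).mpr ux.isUnit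
  have hy0 : residue R (uy : R) ≠ 0 := (residue_ne_zero_iff_isUnit _).mpr uy.isUnit
  have hinv : residue R (↑uy⁻¹ : R) = (residue R (uy : R))⁻¹ :=
    eq_inv_of_mul_eq_one_left (by rw [← map_mul, Units.inv_mul, map_one])
  rw [psi_eq ψ' h, psi_eq ψ' hy, hψ, map_neg, map_mul, hinv]
  field_simp
  ring

end Cases

include hf0 hψ' in
theorem psi_gc (e e' : Fin (l + 1) → M) (he : IsAdmissible R M e) (he' : IsAdmissible R M e')
    (a b : Fin (l + 1)) (hab : (b : ℕ) + 1 = a)
    (hsw : ∀ r ∈ maximalIdeal R, r • e a ∈ spanBefore R M e b) (heq : e' = e ∘ Equiv.swap a b) :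
    psi f ψ' e + psi f ψ' e' = 0 := by
  have H : SwapHyp (R := R) e e' a b := ⟨he, he', hab, hsw, heq⟩
  by_cases hf : f ∈ Submodule.span R (Set.range e)
  swap
  · rw [psi_zero ψ' hf, psi_zero ψ' (by rw [H.range_eq]; exact hf), add_zero]
  obtain ⟨i, x, h⟩ := rep_exists hf0 hf
  obtain ⟨i', x', h'⟩ := rep_exists hf0 (e := e') (by rw [H.range_eq]; exact hf)
  by_cases hia : i = a
  · subst hia
    by_cases hia' : i' = i
    · subst hia'
      exact case_aa ψ' hψ' H h h'
    by_cases hib' : i' = b
    · subst hib'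
      have := case_ba ψ' H.symm h' h
      rw [add_comm]
      exact this
    · have := H.symm.rep_of_ne h' hia' hib'
      exact absurd (rep_index_unique this h) hia'
  by_cases hib : i = b
  · subst hib
    by_cases hia' : i' = a
    · subst hia'
      exact case_ba ψ' H h h'
    by_cases hib' : i' = i
    · subst hib'
      exact case_bb hf0 ψ' hψ' H h h'
    · have := H.symm.rep_of_ne h' hia' hib'
      exact absurd (rep_index_unique this h) hib'
  · exact case_ne ψ' hψ' H h hia hib

include hf0 hψ' in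
theorem good_psi : Good R M (l + 1) (psi f ψ') :=
  ⟨psi_g0 hf0 ψ' hψ', psi_ga ψ' hψ', psi_gb ψ' hψ', psi_gc hf0 ψ' hψ'⟩

end Step

theorem exists_socle (M : Type v) [AddCommGroup M] [Module R M] (l : ℕ)
    (h : Module.length R M = ((l + 1 : ℕ) : ℕ∞)) :
    ∃ f : M, f ≠ 0 ∧ Module.length R (Qf R f) = (l : ℕ∞) := by
  have hfin : IsFiniteLength R M := by
    rw [← Module.length_ne_top_iff, h]; exact ENat.natCast_ne_top _
  have hnt : Nontrivial M := by
    rw [← Module.length_pos_iff (R := R), h]; exact_mod_cast Nat.succ_pos l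
  obtain ⟨hN, hA⟩ := isFiniteLength_iff_isNoetherian_isArtinian.mp hfin
  haveI : IsAtomic (Submodule R M) := isAtomic_of_orderBot_wellFounded_lt wellFounded_lt
  obtain ⟨K, hK⟩ := IsAtomic.exists_atom (Submodule R M)
  obtain ⟨f, hfK, hf0⟩ := Submodule.exists_mem_ne_zero_of_ne_bot hK.1
  have hspan : Submodule.span R {f} = K := by
    have hle : Submodule.span R {f} ≤ K := (Submodule.span_singleton_le_iff_mem f K).mpr hfK
    rcases hK.le_iff.mp hle with h0 | h1
    · exact absurd ((Submodule.span_singleton_eq_bot).mp h0) hf0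
    · exact h1
  refine ⟨f, hf0, ?_⟩
  haveI hsimple : IsSimpleModule R K := isSimpleModule_iff_isAtom.mpr hK
  have hadd := Module.length_eq_add_of_exact K.subtype K.mkQ K.injective_subtype
    (Submodule.mkQ_surjective K) (LinearMap.exact_subtype_mkQ K)
  rw [h, Module.length_eq_one] at hadd
  show Module.length R (M ⧸ Submodule.span R {f}) = (l : ℕ∞)
  rw [hspan]
  have hne : Module.length R (M ⧸ K) ≠ ⊤ := by
    intro htop
    rw [htop, add_top] at hadd
    exact ENat.natCast_ne_top _ hadd
  lift Module.length R (M ⧸ K) to ℕ using hne with x hx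
  have : l + 1 = 1 + x := by exact_mod_cast hadd
  have : x = l := by omega
  rw [this]

theorem main (l : ℕ) : ∀ (M : Type v) [AddCommGroup M] [Module R M],
    Module.length R M = (l : ℕ∞) → ∃ ψ : (Fin l → M) → ResidueField R, Good R M l ψ := by
  induction l with
  | zero =>
    intro M _ _ _
    exact ⟨fun _ => 1, ⟨fun _ _ _ => one_ne_zero, fun _ _ a => a.elim0,
      fun _ _ _ _ a => a.elim0, fun _ _ _ _ a => a.elim0⟩⟩
  | succ l ih =>
    intro M _ _ h
    obtain ⟨f, hf0, hlen⟩ := exists_socle M l h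
    obtain ⟨ψ', hψ'⟩ := ih (Qf R f) hlen
    exact ⟨psi f ψ', good_psi hf0 ψ' hψ'⟩


/-- For a finite length module M over a local ring with residue field κ, the symbol in det_κ(M) of any
admissible tuple of length length(M) whose entries generate M is nonzero. (Together with the rank
bound dim_κ det_κ(M) ≤ 1 this gives dim_κ det_κ(M) = 1.) -/
theorem result (R : Type u) [CommRing R] [IsLocalRing R] (M : Type v) [AddCommGroup M] [Module R M] (hM : IsFiniteLength R M) (e : CycDet.Adm R M (Module.length R M).toNat) (he : Submodule.span R (Set.range e.1) = ⊤) : CycDet.symbol R M e ≠ 0 := by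
  have hlen : Module.length R M = ((Module.length R M).toNat : ℕ∞) :=
    (ENat.natCast_toNat (Module.length_ne_top_iff.mpr hM)).symm
  obtain ⟨ψ, hψ⟩ := main (R := R) (Module.length R M).toNat M hlen
  let Ψ : Free R M (Module.length R M).toNat →ₗ[ResidueField R] ResidueField R :=
    Finsupp.linearCombination (ResidueField R)
      (fun e : Adm R M (Module.length R M).toNat => ψ e.1)
  have hΨ : ∀ e, Ψ (sym R M e) = ψ e.1 := by
    intro e
    simp [Ψ, sym, Finsupp.linearCombination_single]
  have hker : Submodule.span (ResidueField R) (relSet R M (Module.length R M).toNat) ≤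
      LinearMap.ker Ψ := by
    apply Submodule.span_le.mpr
    rintro x ((⟨e, a, ha, rfl⟩ | ⟨e, e', a, c, hj, hc, rfl⟩) | ⟨e, e', a, b, hab, hsw, heq, rfl⟩)
    · show Ψ _ = 0
      rw [hΨ]
      exact hψ.ga e.1 e.2 a ha
    · show Ψ _ = 0
      rw [map_sub, map_smul, hΨ, hΨ, smul_eq_mul, sub_eq_zero]
      exact hψ.gb e.1 e'.1 e.2 e'.2 a c c.isUnit hj hc
    · show Ψ _ = 0
      rw [map_add, hΨ, hΨ]
      exact hψ.gc e.1 e'.1 e.2 e'.2 a b hab hsw heq
  intro h0
  have h1 : Submodule.liftQ _ Ψ hker (symbol R M e) = ψ e.1 := by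
    unfold symbol
    rw [Submodule.liftQ_apply]
    exact hΨ e
  rw [h0, map_zero] at h1
  exact hψ.g0 e.1 e.2 he h1.symm

end Groth.Agent.S1839
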