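import Groth.Statements.S18390
import Mathlib.Tactic

set_option autoImplicit false
universe u
open LVCorr

namespace Groth.Agent.S18390


theorem sup_pow_add_le {R : Type*} [CommRing R] (J₁ J₂ K : Ideal R) (h₁ : J₁ ≤ K) (h₂ : J₂ ≤ K) (n m : ℕ) :
    (J₁ ⊔ J₂) ^ (n + m) ≤ J₁ ^ n * K ^ m ⊔ J₂ ^ m * K ^ n := by
  rw [← Ideal.add_eq_sup, add_pow, Ideal.sum_eq_sup]
  apply Finset.sup_le
  intro i hi
  rw [Finset.mem_range] at hi
  refine Ideal.mul_le_left.trans ?_
  by_cases hn : n ≤ i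
  · refine le_trans ?_ le_sup_left
    have e1 : J₁ ^ i = J₁ ^ n * J₁ ^ (i - n) := by rw [← pow_add]; congr 1; omega
    have e2 : K ^ m = K ^ (i - n) * K ^ (n + m - i) := by rw [← pow_add]; congr 1; omega
    rw [e1, e2, mul_assoc]
    exact Ideal.mul_mono_right (Ideal.mul_mono (Ideal.pow_right_mono h₁ _) (Ideal.pow_right_mono h₂ _))
  · refine le_trans ?_ le_sup_right
    have e1 : J₂ ^ (n + m - i) = J₂ ^ m * J₂ ^ (n - i) := by rw [← pow_add]; congr 1; omega
    have e2 : K ^ n = K ^ (n - i) * K ^ i := by rw [← pow_add]; congr 1; omega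
    rw [e1, e2, mul_comm (J₁ ^ i), mul_assoc]
    exact Ideal.mul_mono_right (Ideal.mul_mono (Ideal.pow_right_mono h₂ _) (Ideal.pow_right_mono h₁ _))

/-- In the affine, ring-theoretic form which its proof establishes. Let φ : A' → A be a ring
homomorphism, I' a finitely generated ideal of A' and I an ideal of A containing the image of I'.
Then some power I'^k is mapped into I^(k+1) if and only if for every n ≥ 1 and every a ∈ I'^n there
is a k with φ(a)^k ∈ I^(nk+1). (Geometrically, for a morphism f : (X, Z) → (X', Z') of pairs with Z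
a closed subscheme of the preimage of Z', the normal cone of Z in X is the spectrum of the
associated graded algebra of I, and the second condition says that the induced map of normal cones
sends the normal cone of Z set-theoretically into the zero section Z'; the source states the
equivalence in that language.) -/
theorem result (A' A : Type u) [CommRing A'] [CommRing A]
    (φ : A' →+* A) (I' : Ideal A') (hI' : I'.FG) (I : Ideal A) (hle : I'.map φ ≤ I) :
    (∃ k : ℕ, (I' ^ k).map φ ≤ I ^ (k + 1)) ↔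
      ∀ n : ℕ, 1 ≤ n → ∀ a ∈ I' ^ n, ∃ k : ℕ, 1 ≤ k ∧ φ a ^ k ∈ I ^ (n * k + 1) := by
  have hpow : ∀ j : ℕ, (I' ^ j).map φ ≤ I ^ j := fun j => by
    rw [Ideal.map_pow]; exact Ideal.pow_right_mono hle j
  constructor
  · rintro ⟨k₀, hk₀⟩ n hn a ha
    refine ⟨k₀ + 1, by omega, ?_⟩
    have h1 : a ^ (k₀ + 1) ∈ I' ^ (n * (k₀ + 1)) := by
      rw [pow_mul]; exact Ideal.pow_mem_pow ha _
    have h2 : (I' ^ (n * (k₀ + 1))).map φ ≤ I ^ (n * (k₀ + 1) + 1) := by
      have e : n * (k₀ + 1) = k₀ + (n * (k₀ + 1) - k₀) := by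
        have : k₀ ≤ n * (k₀ + 1) := by nlinarith
        omega
      rw [e, pow_add, Ideal.map_mul]
      calc (I' ^ k₀).map φ * (I' ^ (n * (k₀ + 1) - k₀)).map φ
          ≤ I ^ (k₀ + 1) * I ^ (n * (k₀ + 1) - k₀) := Ideal.mul_mono hk₀ (hpow _)
        _ = I ^ (k₀ + (n * (k₀ + 1) - k₀) + 1) := by rw [← pow_add]; congr 1; omega
    rw [← map_pow]
    exact h2 (Ideal.mem_map_of_mem φ h1)
  · intro H
    have Q : ∀ J : Ideal A', J.FG → J ≤ I' → ∃ k : ℕ, ∀ m : ℕ, (J ^ k * I' ^ m).map φ ≤ I ^ (k + m + 1) := by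
      intro J hJ
      refine Submodule.fg_induction (R := A') (M := A')
        (motive := fun J _ => J ≤ I' → ∃ k : ℕ, ∀ m : ℕ, Ideal.map φ ((J : Ideal A') ^ k * I' ^ m) ≤ I ^ (k + m + 1))
        ?_ ?_ J hJ
      · intro a ha
        have haI : a ∈ I' := ha (Submodule.mem_span_singleton_self a)
        obtain ⟨k, hk1, hk⟩ := H 1 le_rfl a (by simpa using haI)
        refine ⟨k, fun m => ?_⟩
        have e : (Submodule.span A' {a} : Ideal A') = Ideal.span {a} := rfl
        rw [e, Ideal.span_singleton_pow, Ideal.map_mul, Ideal.map_span, Set.image_singleton, map_pow]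
        calc Ideal.span {φ a ^ k} * (I' ^ m).map φ ≤ I ^ (1 * k + 1) * I ^ m :=
              Ideal.mul_mono ((Ideal.span_singleton_le_iff_mem _).mpr hk) (hpow m)
          _ = I ^ (k + m + 1) := by rw [← pow_add]; congr 1; omega
      · intro (J₁ : Ideal A') (J₂ : Ideal A') _ _ h₁ h₂ hle'
        have hJ₁ : J₁ ≤ I' := le_sup_left.trans hle'
        have hJ₂ : J₂ ≤ I' := le_sup_right.trans hle'
        obtain ⟨k₁, hk₁⟩ := h₁ hJ₁
        obtain ⟨k₂, hk₂⟩ := h₂ hJ₂
        refine ⟨k₁ + k₂, fun m => ?_⟩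
        have h3 := sup_pow_add_le J₁ J₂ I' hJ₁ hJ₂ k₁ k₂
        calc Ideal.map φ ((J₁ ⊔ J₂) ^ (k₁ + k₂) * I' ^ m)
            ≤ Ideal.map φ ((J₁ ^ k₁ * I' ^ k₂ ⊔ J₂ ^ k₂ * I' ^ k₁) * I' ^ m) :=
              Ideal.map_mono (Ideal.mul_mono_left h3)
          _ = Ideal.map φ (J₁ ^ k₁ * I' ^ (k₂ + m)) ⊔ Ideal.map φ (J₂ ^ k₂ * I' ^ (k₁ + m)) := by
              rw [Ideal.sup_mul, Ideal.map_sup, mul_assoc, mul_assoc, ← pow_add, ← pow_add]
          _ ≤ I ^ (k₁ + k₂ + m + 1) := by
              refine sup_le ?_ ?_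
              · refine (hk₁ (k₂ + m)).trans (le_of_eq ?_)
                congr 1; omega
              · refine (hk₂ (k₁ + m)).trans (le_of_eq ?_)
                congr 1; omega
    obtain ⟨k, hk⟩ := Q I' hI' le_rfl
    refine ⟨k, ?_⟩
    have := hk 0
    simpa using this

end Groth.Agent.S18390
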