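import Groth.Statements.S18391
import Mathlib
import Groth.Agent.Lib.Helper27NormalHt1

set_option autoImplicit false
universe u
open LVCorr

namespace Groth.Agent.S18391

/-- Let A be a normal (integrally closed) Noetherian domain and z an element of A such that the radical
of the principal ideal (z) is prime. Then there exist elements w, t of A and a natural number r,
with w not in the radical of (z), such that in the localization A[1/w] the ideal generated by z
equals the ideal generated by t^r and the ideal generated by t is prime. (The condition on w is the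
one the printed proof produces and the later use of the lemma needs.) -/
theorem result (A : Type u) [CommRing A] [IsDomain A]
    [IsNoetherianRing A] [IsIntegrallyClosed A] (z : A) (hz : (Ideal.span {z}).radical.IsPrime) :
    ∃ (w t : A) (r : ℕ), w ∉ (Ideal.span {z}).radical ∧
      Ideal.span {algebraMap A (Localization.Away w) z} =
        Ideal.span {algebraMap A (Localization.Away w) t ^ r} ∧
      (Ideal.span {algebraMap A (Localization.Away w) t}).IsPrime := by
  by_cases hz0 : z = 0
  · subst hz0
    refine ⟨1, 0, 1, ?_, ?_, ?_⟩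
    · intro h
      exact hz.ne_top ((Ideal.eq_top_iff_one _).mpr h)
    · simp
    · have hle : Submonoid.powers (1 : A) ≤ nonZeroDivisors A := by
        rintro x ⟨n, rfl⟩
        simp
      have : IsDomain (Localization.Away (1 : A)) :=
        IsLocalization.isDomain_localization hle
      rw [map_zero]
      simpa using Ideal.isPrime_bot
  set p := (Ideal.span {z}).radical with hp
  obtain ⟨t, htp, ht⟩ := Groth.Agent.Lib.Helper27.NormalHt1.exists_uniformizer A z hz0 hz
  have hzp : z ∈ p := Ideal.le_radical (Ideal.mem_span_singleton_self z)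
  obtain ⟨a', s', r, ha'p, hs'p, hsz, -⟩ := ht z hz0
  -- generators of p
  obtain ⟨S, hS⟩ : p.FG := IsNoetherian.noetherian p
  -- for each g ∈ S find s_g ∉ p with s_g * g ∈ span {t}
  have key : ∀ g ∈ p, ∃ s : A, s ∉ p ∧ s * g ∈ Ideal.span {t} := by
    intro g hg
    by_cases hg0 : g = 0
    · exact ⟨1, fun h => hz.ne_top ((Ideal.eq_top_iff_one _).mpr h), by simp [hg0]⟩
    obtain ⟨a, s, n, hap, hsp, hsg, hn⟩ := ht g hg0
    refine ⟨s, hsp, ?_⟩
    obtain ⟨n0, rfl⟩ := Nat.exists_eq_succ_of_ne_zero (hn hg)
    rw [hsg, Ideal.mem_span_singleton]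
    exact ⟨a * t ^ n0, by rw [Nat.succ_eq_add_one]; ring⟩
  choose! σ hσp hσ using key
  have hSp : ∀ g ∈ S, g ∈ p := fun g hg => hS ▸ Ideal.subset_span hg
  set w0 := ∏ g ∈ S, σ g with hw0
  have hw0p : w0 ∉ p := by
    rw [hw0]
    intro h
    obtain ⟨g, hgS, hg⟩ := (hz.prod_mem_iff).mp h
    exact hσp g (hSp g hgS) hg
  have hw0g : ∀ g ∈ S, w0 * g ∈ Ideal.span {t} := by
    intro g hgS
    obtain ⟨c, hc⟩ := Finset.dvd_prod_of_mem σ hgS
    rw [hw0, hc]
    have := Ideal.mul_mem_left _ c (hσ g (hSp g hgS))
    convert this using 1; ring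
  obtain ⟨w, hw⟩ : ∃ w, w = w0 * s' * a' := ⟨_, rfl⟩
  have hwp : w ∉ p := by
    intro h
    rw [hw] at h
    rcases hz.mem_or_mem h with h | h
    · rcases hz.mem_or_mem h with h | h
      · exact hw0p h
      · exact hs'p h
    · exact ha'p h
  refine ⟨w, t, r, hwp, ?_, ?_⟩
  · -- span equality
    set f := algebraMap A (Localization.Away w) with hf
    have hwu : IsUnit (f w) := IsLocalization.Away.algebraMap_isUnit w
    have hw' : f w = f w0 * f s' * f a' := by rw [← map_mul, ← map_mul, ← hw]
    have hu1 : IsUnit (f w0 * f s') := isUnit_of_mul_isUnit_left (hw' ▸ hwu)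
    have hua : IsUnit (f a') := isUnit_of_mul_isUnit_right (hw' ▸ hwu)
    have hus : IsUnit (f s') := isUnit_of_mul_isUnit_right hu1
    have e : f s' * f z = f a' * f t ^ r := by
      rw [← map_mul, hsz, map_mul, map_pow]
    rw [← Ideal.span_singleton_mul_left_unit hus (f z), e,
      Ideal.span_singleton_mul_left_unit hua]
  · set f := algebraMap A (Localization.Away w) with hf
    have hwu : IsUnit (f w) := IsLocalization.Away.algebraMap_isUnit w
    have hw' : f w = f w0 * f s' * f a' := by rw [← map_mul, ← map_mul, ← hw]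
    have hu1 : IsUnit (f w0 * f s') := isUnit_of_mul_isUnit_left (hw' ▸ hwu)
    have hu0 : IsUnit (f w0) := isUnit_of_mul_isUnit_left hu1
    have hmap : Ideal.span {f t} = p.map f := by
      apply le_antisymm
      · rw [Ideal.span_le, Set.singleton_subset_iff]
        exact Ideal.mem_map_of_mem f htp
      · rw [← hS, Ideal.map_span, Ideal.span_le]
        rintro _ ⟨g, hgS, rfl⟩
        have h1 : f (w0 * g) ∈ Ideal.span {f t} := by
          have := Ideal.mem_map_of_mem f (hw0g g hgS)
          rwa [Ideal.map_span, Set.image_singleton] at this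
        rw [map_mul] at h1
        obtain ⟨v, hv⟩ := hu0
        have : f g = ↑v⁻¹ * (f w0 * f g) := by
          rw [← hv, ← mul_assoc, Units.inv_mul, one_mul]
        rw [SetLike.mem_coe, this]
        exact Ideal.mul_mem_left _ _ h1
    rw [hmap]
    refine IsLocalization.isPrime_of_isPrime_disjoint (Submonoid.powers w) _ p hz ?_
    rw [Set.disjoint_left]
    rintro _ ⟨n, rfl⟩ hn
    exact hwp (hz.mem_of_pow_mem n hn)

end Groth.Agent.S18391
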