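import Groth.Statements.S18392
import Mathlib
import Groth.Agent.Lib.Helper27NormalHt1

set_option autoImplicit false
universe u
open LVCorr

namespace Groth.Agent.S18392

/-- Let A be a normal (integrally closed) Noetherian domain and z an element of A such that the radical
of (z) is prime. Then for every non-empty open subset V of Spec A contained in the basic open set
D(z) (that is, every non-empty open subset of Spec A[1/z]) there is an element x of A, not in the
radical of (z), such that the basic open set D(xz) = Spec A[1/xz] is contained in V. -/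
theorem result (A : Type u) [CommRing A]
    [IsDomain A] [IsNoetherianRing A] [IsIntegrallyClosed A] (z : A)
    (hz : (Ideal.span {z}).radical.IsPrime) (V : Set (PrimeSpectrum A)) (hV : IsOpen V)
    (hVz : V ⊆ (PrimeSpectrum.basicOpen z : Set (PrimeSpectrum A))) (hne : V.Nonempty) :
    ∃ x : A, x ∉ (Ideal.span {z}).radical ∧
      ((PrimeSpectrum.basicOpen (x * z) : TopologicalSpace.Opens (PrimeSpectrum A)) :
        Set (PrimeSpectrum A)) ⊆ V := by
  by_cases hz0 : z = 0
  · exfalso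
    obtain ⟨q, hq⟩ := hne
    have := hVz hq
    rw [hz0] at this
    simp at this
  obtain ⟨q, hq⟩ := hne
  obtain ⟨U, ⟨g, rfl⟩, hqU, hUV⟩ :=
    PrimeSpectrum.isTopologicalBasis_basic_opens.exists_subset_of_mem_open hq hV
  have hg0 : g ≠ 0 := by
    rintro rfl
    simp at hqU
  have hgz : PrimeSpectrum.basicOpen g ≤ PrimeSpectrum.basicOpen z := fun x hx => hVz (hUV hx)
  have hgp : g ∈ (Ideal.span {z}).radical := (PrimeSpectrum.basicOpen_le_basicOpen_iff g z).mp hgz
  obtain ⟨t, htp, ht⟩ :=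
    Groth.Agent.Lib.Helper27.NormalHt1.exists_uniformizer A z hz0 hz
  obtain ⟨a, s, n, hap, hsp, hsg, -⟩ := ht g hg0
  have hzp : z ∈ (Ideal.span {z}).radical := Ideal.le_radical (Ideal.mem_span_singleton_self z)
  obtain ⟨a', s', r, ha'p, hs'p, hsz, hr⟩ := ht z hz0
  have hr' := hr hzp
  refine ⟨a * s', fun h => (hz.mem_or_mem h).elim hap hs'p, ?_⟩
  refine subset_trans ?_ hUV
  change PrimeSpectrum.basicOpen (a * s' * z) ≤ PrimeSpectrum.basicOpen g
  rw [PrimeSpectrum.basicOpen_le_basicOpen_iff]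
  refine ⟨r + n, Ideal.mem_span_singleton.mpr ?_⟩
  obtain ⟨r0, rfl⟩ : ∃ r0, r = r0 + 1 := Nat.exists_eq_succ_of_ne_zero hr'
  refine ⟨a' ^ n * s ^ (r0 + 1) * g ^ r0 * (a ^ n * s' ^ (r0 + 1) * z ^ (r0 + 1)), ?_⟩
  have h1 : a ^ (r0 + 1) * s' ^ n * z ^ n = a' ^ n * s ^ (r0 + 1) * g ^ (r0 + 1) := by
    have e1 : (s' * z) ^ n = (a' * t ^ (r0 + 1)) ^ n := by rw [hsz]
    have e2 : (s * g) ^ (r0 + 1) = (a * t ^ n) ^ (r0 + 1) := by rw [hsg]
    have e3 : a ^ (r0 + 1) * (s' * z) ^ n = a' ^ n * (s * g) ^ (r0 + 1) := by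
      rw [e1, e2]; ring
    calc a ^ (r0 + 1) * s' ^ n * z ^ n = a ^ (r0 + 1) * (s' * z) ^ n := by ring
      _ = a' ^ n * (s * g) ^ (r0 + 1) := e3
      _ = _ := by ring
  calc (a * s' * z) ^ (r0 + 1 + n)
      = (a ^ (r0 + 1) * s' ^ n * z ^ n) * (a ^ n * s' ^ (r0 + 1) * z ^ (r0 + 1)) := by ring
    _ = _ := by rw [h1]; ring

end Groth.Agent.S18392
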