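import Groth.Statements.S1840
import Mathlib

set_option autoImplicit false
universe u v
open CycDet

namespace Groth.Agent.S1840

section Dev
open IsLocalRing

variable {R : Type u} [CommRing R] [IsLocalRing R] {M : Type v} [AddCommGroup M] [Module R M]
  [Module (ResidueField R) M] [IsScalarTower R (ResidueField R) M]

theorem smul_eq_residue_smul (r : R) (m : M) : r • m = (residue R r) • m := by
  rw [← algebraMap_smul (ResidueField R) r m]
  rfl

theorem smul_eq_zero_of_mem {r : R} (hr : r ∈ maximalIdeal R) (m : M) : r • m = 0 := by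
  rw [smul_eq_residue_smul, (residue_eq_zero_iff r).2 hr, zero_smul]

/-- κ-span version of spanBefore -/
noncomputable def sb {l : ℕ} (e : Fin l → M) (i : ℕ) : Submodule (ResidueField R) M :=
  Submodule.span (ResidueField R) (e '' {j : Fin l | (j : ℕ) < i})

theorem mem_spanBefore_iff {l : ℕ} (e : Fin l → M) (i : ℕ) (x : M) :
    x ∈ CycDet.spanBefore R M e i ↔ x ∈ sb (R := R) e i := by
  unfold CycDet.spanBefore sb
  rw [← Submodule.restrictScalars_span R (ResidueField R) residue_surjective]
  rfl

theorem adm {l : ℕ} (e : Fin l → M) : CycDet.IsAdmissible R M e := fun i r hr => by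
  rw [smul_eq_zero_of_mem hr]
  exact Submodule.zero_mem _

/-- the symbol of an arbitrary tuple -/
noncomputable def S {l : ℕ} (e : Fin l → M) : CycDet.DetOfLen R M l :=
  Submodule.Quotient.mk (CycDet.sym R M ⟨e, adm e⟩)

theorem S_eq_zero_of_mem {l : ℕ} (e : Fin l → M) (a : Fin l) (h : e a ∈ sb (R := R) e a) :
    S (R := R) e = 0 := by
  unfold S
  rw [Submodule.Quotient.mk_eq_zero]
  apply Submodule.subset_span
  left; left
  exact ⟨⟨e, adm e⟩, a, (mem_spanBefore_iff e a _).2 h, rfl⟩

theorem S_rel_b {l : ℕ} (e e' : Fin l → M) (a : Fin l) (c : Rˣ) (h1 : ∀ j, j ≠ a → e j = e' j)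
    (h2 : e a - (c : R) • e' a ∈ sb (R := R) e a) :
    S (R := R) e = residue R (c : R) • S (R := R) e' := by
  unfold S
  rw [← Submodule.Quotient.mk_smul, ← sub_eq_zero, ← Submodule.Quotient.mk_sub,
    Submodule.Quotient.mk_eq_zero]
  apply Submodule.subset_span
  left; right
  exact ⟨⟨e, adm e⟩, ⟨e', adm e'⟩, a, c, h1, (mem_spanBefore_iff e a _).2 h2, rfl⟩

theorem S_swap {l : ℕ} (e : Fin l → M) (a b : Fin l) (hab : (b : ℕ) + 1 = a) :
    S (R := R) (e ∘ Equiv.swap a b) = - S (R := R) e := by
  rw [eq_neg_iff_add_eq_zero, add_comm]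
  unfold S
  rw [← Submodule.Quotient.mk_add, Submodule.Quotient.mk_eq_zero]
  apply Submodule.subset_span
  right
  refine ⟨⟨e, adm e⟩, ⟨e ∘ Equiv.swap a b, adm _⟩, a, b, hab, fun r hr => ?_, rfl, rfl⟩
  rw [smul_eq_zero_of_mem hr]
  exact Submodule.zero_mem _

theorem sb_update {l : ℕ} (e : Fin l → M) (a : Fin l) (x : M) (i : ℕ) (hi : i ≤ a) :
    sb (R := R) (Function.update e a x) i = sb (R := R) e i := by
  unfold sb
  congr 1
  apply Set.image_congr
  intro j hj
  have hja : j ≠ a := by
    rintro rfl
    exact absurd hj (not_lt.2 hi)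
  exact Function.update_of_ne hja _ _

theorem exists_unit_of_ne_zero (k : ResidueField R) (hk : k ≠ 0) :
    ∃ c : Rˣ, residue R (c : R) = k := by
  obtain ⟨c, rfl⟩ := residue_surjective k
  obtain ⟨c, rfl⟩ := (residue_ne_zero_iff_isUnit c).1 hk
  exact ⟨c, rfl⟩

theorem S_update_smul {l : ℕ} (e : Fin l → M) (a : Fin l) (k : ResidueField R) (u : M) :
    S (R := R) (Function.update e a (k • u)) = k • S (R := R) (Function.update e a u) := by
  by_cases hk : k = 0
  · subst hk
    rw [zero_smul, zero_smul]
    apply S_eq_zero_of_mem _ a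
    rw [Function.update_self]
    exact Submodule.zero_mem _
  · obtain ⟨c, rfl⟩ := exists_unit_of_ne_zero k hk
    apply S_rel_b _ _ a c
    · intro j hj
      rw [Function.update_of_ne hj, Function.update_of_ne hj]
    · rw [Function.update_self, Function.update_self, ← smul_eq_residue_smul, sub_self]
      exact Submodule.zero_mem _

theorem li_of_notMem {l : ℕ} (f : Fin l → M) (hf : ∀ i : Fin l, f i ∉ sb (R := R) f i) :
    LinearIndependent (ResidueField R) f := by
  have key : ∀ n : ℕ, n ≤ l → LinearIndepOn (ResidueField R) f {j : Fin l | (j : ℕ) < n} := by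
    intro n
    induction n with
    | zero =>
      intro _
      have : {j : Fin l | (j : ℕ) < 0} = ∅ := by ext j; simp
      rw [this]
      exact linearIndepOn_empty _ _
    | succ n ih =>
      intro hn
      have hset : {j : Fin l | (j : ℕ) < n + 1} = insert (⟨n, hn⟩ : Fin l) {j : Fin l | (j : ℕ) < n} := by
        ext j
        simp only [Set.mem_ofPred_eq, Set.mem_insert_iff, Fin.ext_iff]
        omega
      rw [hset, linearIndepOn_insert (by simp)]
      exact ⟨ih (Nat.le_of_succ_le hn), hf ⟨n, hn⟩⟩
  have h := key l le_rfl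
  have huniv : {j : Fin l | (j : ℕ) < l} = Set.univ := by ext j; simp
  rw [huniv] at h
  exact linearIndepOn_univ_iff.1 h

theorem S_update_add_last [Module.Finite (ResidueField R) M] {l : ℕ}
    (hl : Module.finrank (ResidueField R) M = l) (e : Fin l → M) (a : Fin l)
    (ha : (a : ℕ) + 1 = l) (u v : M) :
    S (R := R) (Function.update e a (u + v)) =
      S (R := R) (Function.update e a u) + S (R := R) (Function.update e a v) := by
  by_cases h1 : ∃ i : Fin l, i < a ∧ e i ∈ sb (R := R) e i
  · obtain ⟨i, hia, hi⟩ := h1
    have key : ∀ x, S (R := R) (Function.update e a x) = 0 := fun x =>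
      S_eq_zero_of_mem _ i (by
        rw [Function.update_of_ne (ne_of_lt hia), sb_update e a x i (le_of_lt hia)]
        exact hi)
    rw [key, key, key, add_zero]
  · by_cases h2 : ∀ x : M, x ∈ sb (R := R) e a
    · have key : ∀ x, S (R := R) (Function.update e a x) = 0 := fun x =>
        S_eq_zero_of_mem _ a (by
          rw [Function.update_self, sb_update e a x a le_rfl]
          exact h2 x)
      rw [key, key, key, add_zero]
    · obtain ⟨w₀, hw₀⟩ := not_forall.1 h2
      have hlt : ∀ i : Fin l, i ≠ a → i < a := by
        intro i hia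
        have h3 : (i : ℕ) < l := i.2
        have h4 : (i : ℕ) ≠ a := fun h => hia (Fin.ext h)
        exact Fin.lt_def.2 (by omega)
      have hf : ∀ i : Fin l, Function.update e a w₀ i ∉ sb (R := R) (Function.update e a w₀) i := by
        intro i
        by_cases hia : i = a
        · subst hia
          rw [Function.update_self, sb_update _ _ _ _ le_rfl]
          exact hw₀
        · have hi := hlt i hia
          rw [Function.update_of_ne hia, sb_update e a w₀ i (le_of_lt hi)]
          exact fun h => h1 ⟨i, hi, h⟩
      have hLI := li_of_notMem _ hf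
      have hspan : Submodule.span (ResidueField R) (Set.range (Function.update e a w₀)) = ⊤ :=
        hLI.span_eq_top_of_card_eq_finrank' (by simp [hl])
      have hdecomp : ∀ x : M, ∃ s ∈ sb (R := R) e a, ∃ α : ResidueField R, x = s + α • w₀ := by
        intro x
        have hx : x ∈ Submodule.span (ResidueField R) (Set.range (Function.update e a w₀)) := by
          rw [hspan]; trivial
        have hle : Submodule.span (ResidueField R) (Set.range (Function.update e a w₀)) ≤
            sb (R := R) e a ⊔ Submodule.span (ResidueField R) {w₀} := by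
          rw [Submodule.span_le]
          rintro _ ⟨j, rfl⟩
          by_cases hja : j = a
          · subst hja
            rw [Function.update_self]
            exact Submodule.mem_sup_right (Submodule.mem_span_singleton_self _)
          · rw [Function.update_of_ne hja]
            exact Submodule.mem_sup_left (Submodule.subset_span ⟨j, Fin.lt_def.1 (hlt j hja), rfl⟩)
        obtain ⟨s, hs, t, ht, rfl⟩ := Submodule.mem_sup.1 (hle hx)
        obtain ⟨α, rfl⟩ := Submodule.mem_span_singleton.1 ht
        exact ⟨s, hs, α, rfl⟩
      have key : ∀ s ∈ sb (R := R) e a, ∀ α : ResidueField R,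
          S (R := R) (Function.update e a (s + α • w₀)) =
            α • S (R := R) (Function.update e a w₀) := by
        intro s hs α
        by_cases hα : α = 0
        · subst hα
          rw [zero_smul, zero_smul, add_zero]
          exact S_eq_zero_of_mem _ a (by
            rw [Function.update_self, sb_update _ _ _ _ le_rfl]
            exact hs)
        · obtain ⟨c, rfl⟩ := exists_unit_of_ne_zero α hα
          apply S_rel_b _ _ a c (fun j hj => by
            rw [Function.update_of_ne hj, Function.update_of_ne hj])
          rw [Function.update_self, Function.update_self, sb_update _ _ _ _ le_rfl,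
            ← smul_eq_residue_smul, add_sub_cancel_right]
          exact hs
      obtain ⟨s, hs, α, rfl⟩ := hdecomp u
      obtain ⟨s', hs', β, rfl⟩ := hdecomp v
      have hsum : s + α • w₀ + (s' + β • w₀) = (s + s') + (α + β) • w₀ := by
        rw [add_smul]; abel
      rw [hsum, key _ (Submodule.add_mem _ hs hs'), key _ hs, key _ hs', add_smul]

theorem S_update_add [Module.Finite (ResidueField R) M] {l : ℕ}
    (hl : Module.finrank (ResidueField R) M = l) :
    ∀ (k a : ℕ) (hak : a + k + 1 = l) (e : Fin l → M) (u v : M),
      S (R := R) (Function.update e ⟨a, by omega⟩ (u + v)) =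
        S (R := R) (Function.update e ⟨a, by omega⟩ u) +
          S (R := R) (Function.update e ⟨a, by omega⟩ v) := by
  intro k
  induction k with
  | zero =>
    intro a hak e u v
    exact S_update_add_last hl e ⟨a, by omega⟩ (by simpa using hak) u v
  | succ k ih =>
    intro a hak e u v
    let b : Fin l := ⟨a, by omega⟩
    let a' : Fin l := ⟨a + 1, by omega⟩
    have hab : (b : ℕ) + 1 = a' := rfl
    have hne : a' ≠ b := by
      intro h
      have := congrArg Fin.val h
      simp [a', b] at this
    have hupd : ∀ x : M, Function.update e b x =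
        Function.update (e ∘ Equiv.swap a' b) a' x ∘ Equiv.swap a' b := by
      intro x
      rw [Function.update_comp_equiv]
      have h1 : (e ∘ ⇑(Equiv.swap a' b)) ∘ ⇑(Equiv.swap a' b) = e := by
        funext j
        simp
      rw [h1, Equiv.symm_swap, Equiv.swap_apply_left]
    have hS : ∀ x : M, S (R := R) (Function.update e b x) =
        - S (R := R) (Function.update (e ∘ Equiv.swap a' b) a' x) := by
      intro x
      rw [hupd x]
      exact S_swap _ a' b hab
    show S (R := R) (Function.update e b (u + v)) =
      S (R := R) (Function.update e b u) + S (R := R) (Function.update e b v)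
    rw [hS, hS, hS]
    have := ih (a + 1) (by omega) (e ∘ Equiv.swap a' b) u v
    rw [this, neg_add]

theorem S_alt {l : ℕ} (e : Fin l → M) (i j : Fin l) (h : e i = e j) (hij : i ≠ j) :
    S (R := R) e = 0 := by
  rcases lt_or_gt_of_ne hij with hlt | hlt
  · apply S_eq_zero_of_mem e j
    rw [← h]
    exact Submodule.subset_span ⟨i, Fin.lt_def.1 hlt, rfl⟩
  · apply S_eq_zero_of_mem e i
    rw [h]
    exact Submodule.subset_span ⟨j, Fin.lt_def.1 hlt, rfl⟩

/-- The symbol as an alternating map. -/
noncomputable def Salt [Module.Finite (ResidueField R) M] {l : ℕ}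
    (hl : Module.finrank (ResidueField R) M = l) :
    M [⋀^Fin l]→ₗ[ResidueField R] (CycDet.DetOfLen R M l) where
  toFun := S (R := R)
  map_update_add' := by
    intro inst e a u v
    have : inst = instDecidableEqFin l := Subsingleton.elim _ _
    subst this
    have h := S_update_add hl (l - 1 - a) a (by have := a.2; omega) e u v
    exact h
  map_update_smul' := by
    intro inst e a k u
    have : inst = instDecidableEqFin l := Subsingleton.elim _ _
    subst this
    exact S_update_smul e a k u
  map_eq_zero_of_eq' := fun e i j h hij => S_alt e i j h hij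

theorem Salt_apply [Module.Finite (ResidueField R) M] {l : ℕ}
    (hl : Module.finrank (ResidueField R) M = l) (e : Fin l → M) :
    Salt (R := R) hl e = S (R := R) e := rfl

/-- An alternating map vanishes on a tuple having an entry in the span of the earlier ones. -/
theorem alt_eq_zero_of_mem {l : ℕ} {N : Type*} [AddCommGroup N] [Module (ResidueField R) N]
    (A : M [⋀^Fin l]→ₗ[ResidueField R] N) (f : Fin l → M) (a : Fin l)
    (h : f a ∈ sb (R := R) f a) : A f = 0 := by
  apply AlternatingMap.map_linearDependent
  intro hLI
  exact hLI.notMem_span_image (s := {j : Fin l | (j : ℕ) < a}) (by simp) h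

/-- The forward map on the free module. -/
noncomputable def Φ₀ (l : ℕ) :
    CycDet.Free R M l →ₗ[ResidueField R] ⋀[ResidueField R]^l M :=
  Finsupp.linearCombination (ResidueField R)
    (fun e : CycDet.Adm R M l => exteriorPower.ιMulti (ResidueField R) l e.1)

theorem Φ₀_sym (l : ℕ) (e : CycDet.Adm R M l) :
    Φ₀ (R := R) (M := M) l (CycDet.sym R M e) = exteriorPower.ιMulti (ResidueField R) l e.1 := by
  unfold Φ₀ CycDet.sym
  rw [Finsupp.linearCombination_single, one_smul]

theorem relSet_le_ker (l : ℕ) :
    Submodule.span (ResidueField R) (CycDet.relSet R M l) ≤ LinearMap.ker (Φ₀ (R := R) (M := M) l) := by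
  rw [Submodule.span_le]
  rintro x ((⟨e, a, ha, rfl⟩ | ⟨e, e', a, c, h1, h2, rfl⟩) | ⟨e, e', a, b, hab, -, he', rfl⟩)
  · rw [SetLike.mem_coe, LinearMap.mem_ker, Φ₀_sym]
    exact alt_eq_zero_of_mem _ e.1 a ((mem_spanBefore_iff e.1 a _).1 ha)
  · rw [SetLike.mem_coe, LinearMap.mem_ker, map_sub, map_smul, Φ₀_sym, Φ₀_sym, sub_eq_zero]
    rw [mem_spanBefore_iff] at h2
    set s := e.1 a - (c : R) • e'.1 a with hs
    have he : e.1 = Function.update e'.1 a ((residue R (c : R)) • e'.1 a + s) := by
      funext j
      by_cases hj : j = a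
      · subst hj
        rw [Function.update_self, hs, ← smul_eq_residue_smul]
        abel
      · rw [Function.update_of_ne hj]
        exact h1 j hj
    have hsb : sb (R := R) e.1 a = sb (R := R) e'.1 a := by
      unfold sb
      congr 1
      apply Set.image_congr
      intro j hj
      apply h1
      rintro rfl
      exact absurd (show (j : ℕ) < j from hj) (lt_irrefl _)
    rw [he, AlternatingMap.map_update_add, AlternatingMap.map_update_smul, Function.update_eq_self,
      add_eq_left]
    apply alt_eq_zero_of_mem _ _ a
    rw [Function.update_self, sb_update _ _ _ _ le_rfl, ← hsb]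
    exact h2
  · rw [SetLike.mem_coe, LinearMap.mem_ker, map_add, Φ₀_sym, Φ₀_sym, he', add_comm]
    apply AlternatingMap.map_swap_add
    intro h
    rw [h] at hab
    omega

/-- The forward map `Det → ⋀^l M`. -/
noncomputable def Φ (l : ℕ) : CycDet.DetOfLen R M l →ₗ[ResidueField R] ⋀[ResidueField R]^l M :=
  Submodule.liftQ _ (Φ₀ (R := R) (M := M) l) (relSet_le_ker l)

theorem Φ_S (l : ℕ) (e : Fin l → M) :
    Φ (R := R) l (S (R := R) e) = exteriorPower.ιMulti (ResidueField R) l e := by
  unfold Φ S
  rw [Submodule.liftQ_apply, Φ₀_sym]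

theorem exists_equiv [Module.Finite (ResidueField R) M] {l : ℕ}
    (hl : Module.finrank (ResidueField R) M = l) :
    ∃ E : CycDet.DetOfLen R M l ≃ₗ[ResidueField R] ⋀[ResidueField R]^l M,
      ∀ e : Fin l → M, E (S (R := R) e) = exteriorPower.ιMulti (ResidueField R) l e := by
  let Ψ : ⋀[ResidueField R]^l M →ₗ[ResidueField R] CycDet.DetOfLen R M l :=
    exteriorPower.alternatingMapLinearEquiv (Salt (R := R) hl)
  have hΨ : ∀ e : Fin l → M, Ψ (exteriorPower.ιMulti (ResidueField R) l e) = S (R := R) e :=
    fun e => exteriorPower.alternatingMapLinearEquiv_apply_ιMulti _ e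
  have h1 : (Φ (R := R) (M := M) l).comp Ψ = LinearMap.id := by
    apply exteriorPower.linearMap_ext
    ext e
    simp only [LinearMap.compAlternatingMap_apply, LinearMap.comp_apply, LinearMap.id_apply]
    rw [hΨ, Φ_S]
  have h2 : Ψ.comp (Φ (R := R) (M := M) l) = LinearMap.id := by
    apply Submodule.linearMap_qext
    apply Finsupp.lhom_ext
    intro e k
    have hk : (Finsupp.single e k : CycDet.Free R M l) = k • CycDet.sym R M e := by
      unfold CycDet.sym
      rw [Finsupp.smul_single, smul_eq_mul, mul_one]
    simp only [LinearMap.comp_apply, Submodule.mkQ_apply, LinearMap.id_apply]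
    rw [hk, Submodule.Quotient.mk_smul, map_smul, map_smul]
    congr 1
    have : (Submodule.Quotient.mk (CycDet.sym R M e) : CycDet.DetOfLen R M l) = S (R := R) e.1 := rfl
    rw [this, Φ_S, hΨ]
  exact ⟨LinearEquiv.ofLinearMap (Φ (R := R) l) Ψ h1 h2, fun e => Φ_S l e⟩


end Dev

/-- Let M be a finite-dimensional vector space over the residue field κ of a local ring R, viewed as an
R-module. There is a κ-linear isomorphism from det_κ(M) to the top exterior power of M sending the
symbol of an admissible tuple (e₁, …, e_l) to e₁ ∧ … ∧ e_l. -/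
theorem result (R : Type u) [CommRing R] [IsLocalRing R] (M : Type v) [AddCommGroup M] [Module R M] [Module (IsLocalRing.ResidueField R) M] [IsScalarTower R (IsLocalRing.ResidueField R) M] [Module.Finite (IsLocalRing.ResidueField R) M] : ∃ Φ : CycDet.Det R M ≃ₗ[IsLocalRing.ResidueField R] (⋀[IsLocalRing.ResidueField R]^((Module.length R M).toNat) M), ∀ e : CycDet.Adm R M (Module.length R M).toNat, Φ (CycDet.symbol R M e) = exteriorPower.ιMulti (IsLocalRing.ResidueField R) ((Module.length R M).toNat) e.1 := by
  have hl : Module.finrank (IsLocalRing.ResidueField R) M = (Module.length R M).toNat := by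
    rw [Module.length_eq_of_surjective (R := IsLocalRing.ResidueField R) (S := R) (M := M)
      IsLocalRing.residue_surjective, Module.length_eq_finrank, ENat.toNat_natCast]
  obtain ⟨E, hE⟩ := exists_equiv (R := R) (M := M) hl
  exact ⟨E, fun e => hE e.1⟩

end Groth.Agent.S1840
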