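import Groth.Statements.S18402
import Mathlib

set_option autoImplicit false
universe u
open Pi1

namespace Groth.Agent.S18402

open Set Topology

section Top
variable {P Z : Type*} [TopologicalSpace P] [TopologicalSpace Z]

/-- A surjective generalizing map with preconnected fibres onto a preconnected quasi-sober space
with finitely many irreducible components has preconnected source. -/
theorem preconnectedSpace_of_generalizing [QuasiSober Z] [PreconnectedSpace Z]
    (hfin : (irreducibleComponents Z).Finite)
    (q : P → Z) (_hq : Continuous q) (hsurj : Function.Surjective q) (hgen : GeneralizingMap q)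
    (hfib : ∀ z, IsPreconnected (q ⁻¹' {z})) : PreconnectedSpace P := by
  rw [preconnectedSpace_iff_clopen]
  -- key: image of a clopen set is closed
  have key : ∀ A : Set P, IsClopen A → q ⁻¹' (q '' A) = A ∧ IsClosed (q '' A) := by
    intro A hA
    have hpre : q ⁻¹' (q '' A) = A := by
      refine Subset.antisymm ?_ (subset_preimage_image q A)
      rintro p ⟨a, ha, hap⟩
      have : q ⁻¹' {q a} ⊆ A := (hfib (q a)).subset_isClopen hA ⟨a, rfl, ha⟩
      exact this (by simpa using hap.symm)
    have hpreB : q ⁻¹' (q '' Aᶜ) = Aᶜ := by
      refine Subset.antisymm ?_ (subset_preimage_image q Aᶜ)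
      rintro p ⟨a, ha, hap⟩
      have : q ⁻¹' {q a} ⊆ Aᶜ := (hfib (q a)).subset_isClopen hA.compl ⟨a, rfl, ha⟩
      exact this (by simpa using hap.symm)
    have hdisj : Disjoint (q '' A) (q '' Aᶜ) := by
      rw [Set.disjoint_left]
      rintro z ⟨a, ha, rfl⟩ hz
      have : a ∈ q ⁻¹' (q '' Aᶜ) := hz
      rw [hpreB] at this
      exact this ha
    have hgenA : StableUnderGeneralization (q '' A) :=
      hgen.stableUnderGeneralization_image hA.isOpen.stableUnderGeneralization
    have hgenB : StableUnderGeneralization (q '' Aᶜ) :=
      hgen.stableUnderGeneralization_image hA.compl.isOpen.stableUnderGeneralization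
    refine ⟨hpre, ?_⟩
    have heq : q '' A = ⋃ C ∈ {C ∈ irreducibleComponents Z | (C ∩ q '' A).Nonempty}, C := by
      apply Subset.antisymm
      · intro z hz
        refine mem_biUnion (x := irreducibleComponent z) ⟨irreducibleComponent_mem_irreducibleComponents z,
          z, mem_irreducibleComponent, hz⟩ mem_irreducibleComponent
      · intro w hw
        simp only [mem_ofPred_eq, mem_iUnion, exists_prop] at hw
        obtain ⟨C, ⟨hC, z, hzC, hzA⟩, hwC⟩ := hw
        have hCcl : IsClosed C := isClosed_of_mem_irreducibleComponents C hC
        have hgp := hC.1.isGenericPoint_genericPoint hCcl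
        have hηz : hC.1.genericPoint ⤳ z := hgp.specializes hzC
        have hηw : hC.1.genericPoint ⤳ w := hgp.specializes hwC
        have hηA : hC.1.genericPoint ∈ q '' A := hgenA hηz hzA
        by_contra hwA
        obtain ⟨p, rfl⟩ := hsurj w
        have hpA : p ∉ A := fun h => hwA ⟨p, h, rfl⟩
        have hηB : hC.1.genericPoint ∈ q '' Aᶜ := hgenB hηw ⟨p, hpA, rfl⟩
        exact Set.disjoint_left.mp hdisj hηA hηB
    rw [heq]
    exact (hfin.subset (fun C hC => hC.1)).isClosed_biUnion
      (fun C hC => isClosed_of_mem_irreducibleComponents C hC.1)
  intro A hA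
  obtain ⟨hpre, hcl⟩ := key A hA
  obtain ⟨hpreB, hclB⟩ := key Aᶜ hA.compl
  have hcompl : (q '' A)ᶜ = q '' Aᶜ := by
    ext z
    obtain ⟨p, rfl⟩ := hsurj z
    constructor
    · intro hz
      exact ⟨p, fun hp => hz ⟨p, hp, rfl⟩, rfl⟩
    · rintro ⟨a, ha, hap⟩ hz
      have h1 : p ∈ q ⁻¹' (q '' A) := hz
      rw [hpre] at h1
      have h2 : p ∈ q ⁻¹' (q '' Aᶜ) := ⟨a, ha, hap⟩
      rw [hpreB] at h2
      exact h2 h1
  have hclopen : IsClopen (q '' A) := ⟨hcl, by rw [← isClosed_compl_iff, hcompl]; exact hclB⟩
  rcases isClopen_iff.mp hclopen with h | h
  · left; rw [← hpre, h, preimage_empty]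
  · right; rw [← hpre, h, preimage_univ]

end Top

section Top2
variable {Z X : Type*} [TopologicalSpace Z] [TopologicalSpace X]

/-- generic points of irreducible components map to the generic point under a generalizing map. -/
theorem finite_irreducibleComponents_of_generalizing [QuasiSober Z] [T0Space Z]
    [QuasiSober X] [IrreducibleSpace X]
    (f : Z → X) (hgen : GeneralizingMap f)
    (hfib : (f ⁻¹' {genericPoint X}).Finite) : (irreducibleComponents Z).Finite := by
  have hmap : ∀ C (hC : C ∈ irreducibleComponents Z), hC.1.genericPoint ∈ f ⁻¹' {genericPoint X} := by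
    intro C hC
    have hCcl : IsClosed C := isClosed_of_mem_irreducibleComponents C hC
    have hgp := hC.1.isGenericPoint_genericPoint hCcl
    set η := hC.1.genericPoint with hη
    obtain ⟨ζ, hζη, hζ⟩ := hgen (genericPoint_specializes (f η))
    have hle : C ≤ closure {ζ} := by
      rw [← hgp.def]
      exact closure_minimal (singleton_subset_iff.mpr (specializes_iff_mem_closure.mp hζη))
        isClosed_closure
    have hge : closure {ζ} ≤ C := hC.2 isIrreducible_singleton.closure hle
    have hζC : ζ ∈ C := hge (subset_closure rfl)
    have hηζ : η ⤳ ζ := hgp.specializes hζC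
    have : ζ = η := (hζη.antisymm hηζ).eq
    rw [mem_preimage, mem_singleton_iff, ← this, hζ]
  have hinj : ∀ C (hC : C ∈ irreducibleComponents Z) C' (hC' : C' ∈ irreducibleComponents Z),
      hC.1.genericPoint = hC'.1.genericPoint → C = C' := by
    intro C hC C' hC' h
    have h1 := (hC.1.isGenericPoint_genericPoint (isClosed_of_mem_irreducibleComponents C hC)).def
    have h2 := (hC'.1.isGenericPoint_genericPoint (isClosed_of_mem_irreducibleComponents C' hC')).def
    rw [← h1, ← h2, h]
  have : Finite (irreducibleComponents Z) := by
    have := hfib.to_subtype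
    refine Finite.of_injective (β := f ⁻¹' {genericPoint X})
      (fun C => ⟨C.2.1.genericPoint, hmap C.1 C.2⟩) ?_
    intro C C' h
    exact Subtype.ext (hinj C.1 C.2 C'.1 C'.2 (congrArg Subtype.val h))
  exact Set.toFinite _

end Top2

open AlgebraicGeometry CategoryTheory CategoryTheory.Limits in

open AlgebraicGeometry CategoryTheory CategoryTheory.Limits in
/-- Let X be an irreducible scheme and π : W ⟶ X a flat morphism whose fibre over every field-valued
point of X is irreducible (so every fibre is geometrically irreducible and π is surjective). Then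
for every finite étale cover Z of X with Z connected, the base change of Z along π is connected.
Ranging over all finite étale covers of X, this says that the monodromy group of each cover (the
image of the fundamental group in the permutations of a geometric fibre) is unchanged by pullback
along π. The published statement asserts that equality of monodromy groups, for generically finite,
generically étale covers between irreducible algebraic stacks. -/
theorem result {X W : Scheme.{u}}
    [IrreducibleSpace X] (π : W ⟶ X) [Flat π] [GeometricallyIrreducible π]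
    (Z : FEt.Cat X) [ConnectedSpace Z.left] :
    ConnectedSpace ↥(pullback Z.hom π) := by
  let f : Z.left ⟶ X := Z.hom
  change ConnectedSpace ↥(pullback f π)
  have hZfin : IsFinite f := Z.prop.1
  have hZet : Etale f := Z.prop.2
  have hfin : (irreducibleComponents Z.left).Finite :=
    finite_irreducibleComponents_of_generalizing f (Flat.generalizingMap f)
      (f.finite_preimage_singleton _)
  have hpre : PreconnectedSpace ↥(pullback f π) := by
    refine preconnectedSpace_of_generalizing hfin (pullback.fst f π)
      (pullback.fst f π).continuous (pullback.fst f π).surjective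
      (Flat.generalizingMap _) ?_
    intro z
    rw [← Scheme.Hom.range_fiberι, ← Set.image_univ]
    exact (IsIrreducible.isConnected (IrreducibleSpace.isIrreducible_univ _)).isPreconnected.image _
      ((pullback.fst f π).fiberι z).continuous.continuousOn
  obtain ⟨z⟩ := (inferInstance : Nonempty Z.left)
  obtain ⟨p, _⟩ := (pullback.fst f π).surjective z
  exact { toPreconnectedSpace := hpre, toNonempty := ⟨p⟩ }

end Groth.Agent.S18402
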