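import Groth.Statements.S18404
import Mathlib
import Groth.Agent.Lib.Helper27Hesse

set_option autoImplicit false
universe u
open Cubic

namespace Groth.Agent.S18404

open MvPolynomial in
/-- Let k ∈ ℂ with k³ ≠ 1 and let h = X₀³ + X₁³ + X₂³ − 3k·X₀X₁X₂ be the Hesse cubic. For a nonzero
vector v with h(v) = 0, the corresponding point is a flex of the plane curve of h — some line
through it meets the curve there with multiplicity three, i.e. there is a vector w linearly
independent from v with h(v + t·w) = t³·h(w) for every t — exactly when v is a scalar multiple of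
one of the nine vectors (0, 1, −γ), (−γ, 0, 1), (1, −γ, 0) with γ³ = 1. -/
theorem result (k : ℂ) (hk : k ^ 3 ≠ 1) (v : Fin 3 → ℂ) (hv : v ≠ 0)
    (hCv : eval v (HesseCubic.form k) = 0) :
    (∃ w : Fin 3 → ℂ, LinearIndependent ℂ ![v, w] ∧
        ∀ t : ℂ, eval (v + t • w) (HesseCubic.form k) = t ^ 3 * eval w (HesseCubic.form k)) ↔
      ∃ γ c : ℂ, γ ^ 3 = 1 ∧ (v = c • ![0, 1, -γ] ∨ v = c • ![-γ, 0, 1] ∨ v = c • ![1, -γ, 0]) := by
  open Groth.Agent.Lib.Helper27Hesse in
  constructor
  · rintro ⟨w, hli, hw⟩
    have h0 := forward k hk v hCv w hli hw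
    rw [eval_form] at hCv
    have hcube : ∀ z : ℂ, z ^ 3 = 0 → z = 0 := fun z hz => pow_eq_zero_iff (by norm_num) |>.mp hz
    rcases mul_eq_zero.mp h0 with h01 | h2
    · rcases mul_eq_zero.mp h01 with h0' | h1
      · -- v 0 = 0
        have h1 : v 1 ≠ 0 := by
          intro h1
          apply hv
          have h2 : v 2 = 0 := hcube _ (by rw [h0', h1] at hCv; linear_combination hCv)
          funext i; fin_cases i <;> simp [h0', h1, h2]
        refine ⟨-(v 2) / v 1, v 1, ?_, Or.inl ?_⟩
        · rw [div_pow, div_eq_one_iff_eq (pow_ne_zero 3 h1)]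
          rw [h0'] at hCv
          linear_combination -hCv
        · funext i; fin_cases i
          · simp [h0']
          · simp
          · simp; field_simp
      · -- v 1 = 0
        have h2 : v 2 ≠ 0 := by
          intro h2
          apply hv
          have h0' : v 0 = 0 := hcube _ (by rw [h1, h2] at hCv; linear_combination hCv)
          funext i; fin_cases i <;> simp [h0', h1, h2]
        refine ⟨-(v 0) / v 2, v 2, ?_, Or.inr (Or.inl ?_)⟩
        · rw [div_pow, div_eq_one_iff_eq (pow_ne_zero 3 h2)]
          rw [h1] at hCv
          linear_combination -hCv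
        · funext i; fin_cases i
          · simp; field_simp
          · simp [h1]
          · simp
    · -- v 2 = 0
      have h0' : v 0 ≠ 0 := by
        intro h0'
        apply hv
        have h1 : v 1 = 0 := hcube _ (by rw [h0', h2] at hCv; linear_combination hCv)
        funext i; fin_cases i <;> simp [h0', h1, h2]
      refine ⟨-(v 1) / v 0, v 0, ?_, Or.inr (Or.inr ?_)⟩
      · rw [div_pow, div_eq_one_iff_eq (pow_ne_zero 3 h0')]
        rw [h2] at hCv
        linear_combination -hCv
      · funext i; fin_cases i
        · simp
        · simp; field_simp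
        · simp [h2]
  · rintro ⟨γ, c, hγ, h⟩
    have hc : c ≠ 0 := by
      rintro rfl
      apply hv
      rcases h with h | h | h <;> rw [h, zero_smul]
    rcases h with h | h | h
    · rw [h]; exact backward0 k γ c hγ hc
    · rw [h]; exact backward1 k γ c hγ hc
    · rw [h]; exact backward2 k γ c hγ hc

end Groth.Agent.S18404
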