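import Groth.Statements.S18409
import Mathlib
import Groth.Agent.Lib.Helper27Cubic6

set_option autoImplicit false
universe u
open Cubic

namespace Groth.Agent.S18409

open MvPolynomial in
/-- Let f be a nonzero homogeneous cubic in four variables over ℂ whose surface S = V_+(f) ⊂ P³ is
smooth (at every nonzero zero of f some partial derivative is nonzero); a line on S is a
2-dimensional subspace of ℂ⁴ on which f vanishes, and an Eckardt point of S is a nonzero vector
lying on three distinct lines on S. Let e and e′ be Eckardt points of S that are not proportional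
and let L be their span, a plane in ℂ⁴, i.e. the line of P³ through the two points. Then exactly one
of the two cases occurs: either f vanishes identically on L (the line lies on S), or L contains a
third Eckardt point e″, proportional to neither e nor e′, and every zero of f in L is proportional
to e, e′ or e″ (the line meets S in exactly three points, all Eckardt points). -/
theorem result (f : MvPolynomial (Fin 4) ℂ) (hf : f.IsHomogeneous 3)
    (hf0 : f ≠ 0) (hsm : ∀ v : Fin 4 → ℂ, v ≠ 0 → eval v f = 0 → ∃ i : Fin 4, eval v (pderiv i f) ≠ 0)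
    (e e' : Fin 4 → ℂ) (he : e ≠ 0) (he' : e' ∉ Submodule.span ℂ {e})
    (hE : (∃ U : Fin 3 → Submodule ℂ (Fin 4 → ℂ), Function.Injective U ∧
        ∀ i : Fin 3, Module.finrank ℂ ↥(U i) = 2 ∧ e ∈ U i ∧ ∀ u ∈ U i, eval u f = 0))
    (hE' : (∃ U : Fin 3 → Submodule ℂ (Fin 4 → ℂ), Function.Injective U ∧
        ∀ i : Fin 3, Module.finrank ℂ ↥(U i) = 2 ∧ e' ∈ U i ∧ ∀ u ∈ U i, eval u f = 0)) :
    Xor (∀ u ∈ Submodule.span ℂ {e, e'}, eval u f = 0)
      (∃ e'' : Fin 4 → ℂ, e'' ∈ Submodule.span ℂ {e, e'} ∧ e'' ∉ Submodule.span ℂ {e} ∧ e'' ∉ Submodule.span ℂ {e'} ∧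
        (∃ U : Fin 3 → Submodule ℂ (Fin 4 → ℂ), Function.Injective U ∧
        ∀ i : Fin 3, Module.finrank ℂ ↥(U i) = 2 ∧ e'' ∈ U i ∧ ∀ u ∈ U i, eval u f = 0) ∧
        ∀ u ∈ Submodule.span ℂ {e, e'}, eval u f = 0 →
          u ∈ Submodule.span ℂ {e} ∨ u ∈ Submodule.span ℂ {e'} ∨ u ∈ Submodule.span ℂ {e''}) := by
  open Groth.Agent.Lib.Helper27Cubic in
  obtain ⟨P, hP⟩ := exists_polar f hf
  have hsmP := smooth_of_isPolarOf f P hP hsm
  have hEP := isEckardt_of_eval hP hE
  have hEP' := isEckardt_of_eval hP hE'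
  have he'0 : e' ≠ 0 := fun h => he' (h ▸ Submodule.zero_mem _)
  obtain ⟨D⟩ := exists_eckData hEP he hsmP
  obtain ⟨D'⟩ := exists_eckData hEP' he'0 hsmP
  have key := xor_line he he' hEP D D'
  have h1 : (∀ u ∈ Submodule.span ℂ {e, e'}, eval u f = 0) ↔
      (∀ u ∈ Submodule.span ℂ ({e, e'} : Set (Fin 4 → ℂ)), P.F u = 0) := by
    constructor
    · intro h u hu; rw [← hP.1]; exact h u hu
    · intro h u hu; rw [hP.1]; exact h u hu
  rcases key with ⟨hL, hn⟩ | ⟨hT, hn⟩
  · left
    refine ⟨h1.mpr hL, ?_⟩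
    rintro ⟨e'', m1, m2, m3, hE'', hz⟩
    exact hn ⟨e'', m1, m2, m3, isEckardt_of_eval hP hE'', fun u hu hFu =>
      hz u hu (by rw [hP.1]; exact hFu)⟩
  · right
    obtain ⟨e'', m1, m2, m3, hE'', hz⟩ := hT
    exact ⟨⟨e'', m1, m2, m3, eval_of_isEckardt hP hE'', fun u hu hFu =>
      hz u hu (by rw [← hP.1]; exact hFu)⟩, fun hL => hn (h1.mp hL)⟩

end Groth.Agent.S18409
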