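import Groth.Statements.S18415
import Mathlib
import Groth.Agent.Lib.Helper9Kummer
-- import your own Groth.Agent.* helpers here

set_option autoImplicit false
set_option linter.style.haveILetI false
set_option backward.isDefEq.respectTransparency false
universe u
open CategoryTheory CategoryTheory.Limits AlgebraicGeometry Opposite
open EtCoh

namespace Groth.Agent.S18415

open Polynomial Groth.Agent.Lib.Helper9.Hens W4c5etcohweilstudent

/-- sections of `G_a` over an étale `U → X` are the global functions on `U` -/
noncomputable def gaEquiv (X : Scheme.{u}) (U : X.Etale) :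
    ↑((EtCoh.Ga X).obj.obj (op U)) ≃ Γ(U.left, ⊤) :=
  Equiv.ulift

lemma gaEquiv_map (X : Scheme.{u}) {U U' : X.Etale} (f : U' ⟶ U)
    (s : ↑((EtCoh.Ga X).obj.obj (op U))) :
    gaEquiv X U' ((EtCoh.Ga X).obj.map f.op s) = f.left.appTop.hom (gaEquiv X U s) := rfl

lemma as_app (X : Scheme.{u}) (p : ℕ) (hp : p.Prime) (h0 : (p : Γ(X, ⊤)) = 0) (U : X.Etale)
    (s : ↑((EtCoh.Ga X).obj.obj (op U))) :
    gaEquiv X U ((artinSchreierEndo X p hp h0).hom.app (op U) s) =
      (gaEquiv X U s) ^ p - gaEquiv X U s := rfl

theorem isLocallySurjective_as (X : Scheme.{u}) (p : ℕ) (hp : p.Prime)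
    (h0 : (p : Γ(X, ⊤)) = 0) :
    Sheaf.IsLocallySurjective (artinSchreierEndo X p hp h0) := by
  refine ⟨fun {U} s => ?_⟩
  apply Groth.Agent.Lib.Helper9.EtPoint.geomPoints_detect X
  rintro Φ ⟨Ω, _, _, ξ, rfl⟩ x
  let a : Γ(U.left, ⊤) := gaEquiv X U s
  let l : Spec (CommRingCat.of Ω) ⟶ U.left := x.left
  have hpU : (p : Γ(U.left, ⊤)) = 0 := natCast_eq_zero_etale p h0 U
  have hpΩ : (p : Ω) = 0 := by
    have := congrArg (evAt l) hpU
    rwa [map_natCast, map_zero] at this
  haveI : Nontrivial Γ(U.left, ⊤) := (evAt l).domain_nontrivial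
  let q : Polynomial Γ(U.left, ⊤) := Polynomial.X ^ p - (Polynomial.X + C a)
  have hlt : (Polynomial.X + C a).degree < (Polynomial.X ^ p : Polynomial Γ(U.left, ⊤)).degree := by
    rw [degree_X_pow, degree_X_add_C]
    exact_mod_cast hp.one_lt
  have hq : q.Monic := (monic_X_pow p).sub_of_left hlt
  have hqmap : q.map (evAt l) = Polynomial.X ^ p - (Polynomial.X + C (evAt l a)) := by
    simp [q]
  have hder : (q.map (evAt l)).derivative = -1 := by
    rw [hqmap]
    have h1 : derivative (Polynomial.X ^ p : Polynomial Ω) = 0 := by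
      rw [derivative_X_pow, hpΩ, C_0, zero_mul]
    rw [derivative_sub, h1, derivative_add, derivative_X, derivative_C]
    simp
  have hsep : (q.map (evAt l)).Separable := by
    rw [Polynomial.separable_def, hder]
    exact isCoprime_one_right.neg_right
  have hdeg : (q.map (evAt l)).degree ≠ 0 := by
    have hm : (q.map (evAt l)).Monic := hq.map _
    rw [hq.degree_map]
    have : q.degree = p := by
      rw [degree_sub_eq_left_of_degree_lt hlt, degree_X_pow]
    rw [this]
    exact_mod_cast hp.ne_zero
  obtain ⟨α₀, hα⟩ := IsSepClosed.exists_root (q.map (evAt l)) hdeg hsep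
  have hα' : (q.map (evAt l)).derivative.eval α₀ ≠ 0 := by
    rw [hder]
    simp
  obtain ⟨U', g, hg, l', t, hl', ht, -⟩ := exists_root_refinement l q hq α₀ hα.eq_zero hα'
  have ht' : t ^ p - t = g.appTop.hom a := by
    have : (q.map g.appTop.hom).eval t = t ^ p - (t + g.appTop.hom a) := by
      simp [q]
    rw [this] at ht
    linear_combination ht
  refine ⟨refObj U g hg, refHom U g hg, ?_, refLift ξ U x g hg l' hl', refLift_map ξ U x g hg l' hl'⟩
  refine ⟨(gaEquiv X (refObj U g hg)).symm t, ?_⟩
  apply (gaEquiv X (refObj U g hg)).injective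
  rw [as_app, Equiv.apply_symm_apply, gaEquiv_map]
  exact ht'

/-- Let p be a prime and X a scheme with p = 0 in Γ(X, O_X). Then the Artin–Schreier endomorphism x ↦
x^p − x of the additive group sheaf G_a on the small étale site of X is an epimorphism of abelian
étale sheaves (the right-hand exactness of 0 → Z/p → G_a → G_a → 0 on X_et). (The published example
takes X a variety over a field of characteristic p; this row assumes only that p = 0 in Γ(X, O_X).) -/
theorem result
    (p : ℕ) (hp : p.Prime) {X : Scheme.{u}} (h0 : (p : Γ(X, ⊤)) = 0) :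
    Epi (W4c5etcohweilstudent.artinSchreierEndo X p hp h0) := by
  haveI := isLocallySurjective_as X p hp h0
  infer_instance

end Groth.Agent.S18415
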