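import Groth.Statements.S18417
import Groth.Agent.S5802
import Mathlib

set_option autoImplicit false
universe u v
open CAlg

namespace Groth.Agent.S18417

-- nilpotent Nakayama for ring homs
lemma surj_of_nilpotent {P Q : Type*} [CommRing P] [CommRing Q] (Φ : P →+* Q) (T : Ideal P)
    (I : Ideal Q) (hI : I = Ideal.span (Φ '' T)) (N : ℕ)
    (hN : I ^ N = ⊥) (h0 : ∀ q : Q, ∃ p : P, q - Φ p ∈ I) :
    Function.Surjective Φ := by
  have hTI : ∀ t ∈ T, Φ t ∈ I := fun t ht => hI ▸ Ideal.subset_span ⟨t, ht, rfl⟩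
  have C : ∀ k : ℕ, ∀ q ∈ I ^ k, ∃ p : P, q - Φ p ∈ I ^ (k + 1) := by
    intro k
    induction k with
    | zero =>
      intro q _
      obtain ⟨p, hp⟩ := h0 q
      exact ⟨p, by simpa using hp⟩
    | succ k ih =>
      intro q hq
      rw [pow_succ'] at hq
      have key : ∀ u ∈ I, ∀ v ∈ I ^ k, ∃ p : P, u * v - Φ p ∈ I ^ (k + 1 + 1) := by
        intro u hu
        rw [hI] at hu
        refine Submodule.span_induction
          (p := fun u _ => ∀ v ∈ I ^ k, ∃ p : P, u * v - Φ p ∈ I ^ (k + 1 + 1)) ?_ ?_ ?_ ?_ hu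
        · rintro _ ⟨t, ht, rfl⟩ v hv
          obtain ⟨p, hp⟩ := ih v hv
          refine ⟨t * p, ?_⟩
          have : Φ t * v - Φ (t * p) = Φ t * (v - Φ p) := by rw [map_mul]; ring
          rw [this, pow_succ' I (k+1)]
          exact Ideal.mul_mem_mul (hTI t ht) hp
        · intro v hv; exact ⟨0, by simp⟩
        · intro u1 u2 _ _ h1 h2 v hv
          obtain ⟨p1, hp1⟩ := h1 v hv
          obtain ⟨p2, hp2⟩ := h2 v hv
          refine ⟨p1 + p2, ?_⟩
          have : (u1 + u2) * v - Φ (p1 + p2) = (u1 * v - Φ p1) + (u2 * v - Φ p2) := by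
            rw [map_add]; ring
          rw [this]; exact add_mem hp1 hp2
        · intro a u _ h v hv
          obtain ⟨p, hp⟩ := h (a * v) (Ideal.mul_mem_left _ _ hv)
          refine ⟨p, ?_⟩
          have : a • u * v - Φ p = u * (a * v) - Φ p := by rw [smul_eq_mul]; ring
          rw [this]; exact hp
      refine Submodule.mul_induction_on hq ?_ ?_
      · intro u hu v hv
        exact key u hu v hv
      · rintro a b ⟨p1, hp1⟩ ⟨p2, hp2⟩
        refine ⟨p1 + p2, ?_⟩
        have : (a + b) - Φ (p1 + p2) = (a - Φ p1) + (b - Φ p2) := by rw [map_add]; ring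
        rw [this]; exact add_mem hp1 hp2
  have D : ∀ k : ℕ, ∀ q : Q, ∃ p : P, q - Φ p ∈ I ^ k := by
    intro k
    induction k with
    | zero => intro q; exact ⟨0, by simp⟩
    | succ k ih =>
      intro q
      obtain ⟨p, hp⟩ := ih q
      obtain ⟨p', hp'⟩ := C k _ hp
      refine ⟨p + p', ?_⟩
      have : q - Φ (p + p') = q - Φ p - Φ p' := by rw [map_add]; ring
      rw [this]; exact hp'
  intro q
  obtain ⟨p, hp⟩ := D N q
  rw [hN, Ideal.mem_bot, sub_eq_zero] at hp
  exact ⟨p, hp.symm⟩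

lemma eval₂_sub_mem {A Q : Type*} [CommRing A] [CommRing Q] {d : ℕ} (f1 f2 : A →+* Q) (I : Ideal Q)
    (hf : ∀ a, f1 a - f2 a ∈ I) (y : Fin d → Q) (hy : ∀ i, y i ∈ I) (n : ℕ)
    (p : MvPolynomial (Fin d) A) (hp : p.IsHomogeneous n) :
    MvPolynomial.eval₂ f1 y p - MvPolynomial.eval₂ f2 y p ∈ I ^ (n + 1) := by
  rw [MvPolynomial.eval₂_eq, MvPolynomial.eval₂_eq, ← Finset.sum_sub_distrib]
  refine Ideal.sum_mem _ fun α hα => ?_
  rw [← sub_mul, pow_succ']
  refine Ideal.mul_mem_mul (hf _) ?_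
  have h1 : n = ∑ i ∈ α.support, α i := hp.degree_eq_sum_deg_support hα
  rw [h1, ← Finset.prod_pow_eq_pow_sum]
  exact Ideal.prod_mem_prod fun i _ => Ideal.pow_mem_pow (hy i) _


theorem main (R : Type u) (A : Type v) [CommRing R] [CommRing A] [Algebra R A] (d : ℕ) (x : Fin d → A)
    (J : Ideal A) (hJ : J = Ideal.span (Set.range x)) (hqr : CAlgX.IsQuasiRegular x)
    [Algebra.FormallySmooth R (A ⧸ J)] (N : ℕ) (hN : 1 ≤ N) :
    ∃ e : (A ⧸ J ^ N) ≃ₐ[R]
        (MvPolynomial (Fin d) (A ⧸ J) ⧸ (MvPolynomial.idealOfVars (Fin d) (A ⧸ J)) ^ N),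
      (∀ i : Fin d, e (Ideal.Quotient.mk _ (x i)) = Ideal.Quotient.mk _ (MvPolynomial.X i)) ∧
      ∀ a : A, e (Ideal.Quotient.mk _ a) - Ideal.Quotient.mk _ (MvPolynomial.C (Ideal.Quotient.mk _ a)) ∈
        (MvPolynomial.idealOfVars (Fin d) (A ⧸ J)).map (Ideal.Quotient.mk _) := by
  classical
  have hJN : J ^ N ≤ J := Ideal.pow_le_self (by omega)
  let g : (A ⧸ J ^ N) →ₐ[R] (A ⧸ J) := Ideal.Quotient.factorₐ R hJN
  have hg : Function.Surjective g := Ideal.Quotient.factor_surjective hJN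
  have hgmk : ∀ a, g (Ideal.Quotient.mk _ a) = Ideal.Quotient.mk _ a := fun a => rfl
  let I : Ideal (A ⧸ J ^ N) := J.map (Ideal.Quotient.mk (J ^ N))
  have hIN : I ^ N = ⊥ := by
    rw [← Ideal.map_pow, Ideal.map_quotient_self]
  have hker : RingHom.ker (g : (A ⧸ J ^ N) →+* (A ⧸ J)) ≤ I := by
    intro q hq
    obtain ⟨a, rfl⟩ := Ideal.Quotient.mk_surjective q
    rw [RingHom.mem_ker] at hq
    have : (Ideal.Quotient.mk J) a = 0 := hq
    exact Ideal.mem_map_of_mem _ (Ideal.Quotient.eq_zero_iff_mem.mp this)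
  have hg' : IsNilpotent (RingHom.ker (g : (A ⧸ J ^ N) →+* (A ⧸ J))) := ⟨N, by
    rw [Ideal.zero_eq_bot, ← le_bot_iff, ← hIN]; exact Ideal.pow_right_mono hker N⟩
  let σ := Algebra.FormallySmooth.liftOfSurjective (AlgHom.id R (A ⧸ J)) g hg hg'
  have hσ : ∀ b, g (σ b) = b := fun b =>
    Algebra.FormallySmooth.liftOfSurjective_apply _ g hg hg' b
  have hσI : ∀ a : A, Ideal.Quotient.mk (J ^ N) a - σ (Ideal.Quotient.mk J a) ∈ I := by
    intro a
    apply hker
    rw [RingHom.mem_ker]
    show g (Ideal.Quotient.mk (J ^ N) a - σ (Ideal.Quotient.mk J a)) = 0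
    rw [map_sub, hσ, hgmk, sub_self]
  let y : Fin d → (A ⧸ J ^ N) := fun i => Ideal.Quotient.mk _ (x i)
  have hy : ∀ i, y i ∈ I := fun i => Ideal.mem_map_of_mem _ (hJ ▸ Ideal.subset_span ⟨i, rfl⟩)
  let Φ0 : MvPolynomial (Fin d) (A ⧸ J) →+* (A ⧸ J ^ N) :=
    MvPolynomial.eval₂Hom (σ : (A ⧸ J) →+* (A ⧸ J ^ N)) y
  have hΦ0C : ∀ b, Φ0 (MvPolynomial.C b) = σ b := fun b => MvPolynomial.eval₂Hom_C _ _ b
  have hΦ0X : ∀ i, Φ0 (MvPolynomial.X i) = y i := fun i => MvPolynomial.eval₂Hom_X' _ _ i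
  let Φ : MvPolynomial (Fin d) (A ⧸ J) →ₐ[R] (A ⧸ J ^ N) :=
    { Φ0 with
      commutes' := fun r => by
        show Φ0 (algebraMap R _ r) = _
        rw [MvPolynomial.algebraMap_apply, hΦ0C]
        exact σ.commutes r }
  have hΦ : ∀ p, Φ p = Φ0 p := fun p => rfl
  have hmapT : Ideal.map Φ0 (MvPolynomial.idealOfVars (Fin d) (A ⧸ J)) ≤ I := by
    rw [Ideal.map_span, Ideal.span_le]
    rintro _ ⟨_, ⟨i, rfl⟩, rfl⟩
    rw [hΦ0X]; exact hy i
  have hIspan : I = Ideal.span (Φ0 '' (MvPolynomial.idealOfVars (Fin d) (A ⧸ J) : Set _)) := by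
    apply le_antisymm
    · show Ideal.map _ J ≤ _
      rw [Ideal.map_le_iff_le_comap]
      have hJ' : J ≤ Ideal.span (Set.range x) := hJ.le
      refine hJ'.trans ?_
      rw [Ideal.span_le]
      rintro _ ⟨i, rfl⟩
      rw [SetLike.mem_coe, Ideal.mem_comap]
      apply Ideal.subset_span
      exact ⟨MvPolynomial.X i, Ideal.subset_span ⟨i, rfl⟩, hΦ0X i⟩
    · rw [Ideal.span_le]
      rintro _ ⟨t, ht, rfl⟩
      exact hmapT (Ideal.mem_map_of_mem _ ht)
  have hsurj : Function.Surjective Φ0 := by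
    refine surj_of_nilpotent Φ0 _ I hIspan N hIN ?_
    intro q
    obtain ⟨a, rfl⟩ := Ideal.Quotient.mk_surjective q
    exact ⟨MvPolynomial.C (Ideal.Quotient.mk J a), by rw [hΦ0C]; exact hσI a⟩
  have hΦT : ∀ n, ∀ p ∈ MvPolynomial.idealOfVars (Fin d) (A ⧸ J) ^ n, Φ0 p ∈ I ^ n := by
    intro n p hp
    have := Ideal.mem_map_of_mem Φ0 hp
    rw [Ideal.map_pow] at this
    exact Ideal.pow_right_mono hmapT n this
  -- injectivity
  have hinj : ∀ n ≤ N, ∀ p, Φ0 p = 0 → p ∈ MvPolynomial.idealOfVars (Fin d) (A ⧸ J) ^ n := by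
    intro n
    induction n with
    | zero => intro _ p _; simp
    | succ n ih =>
      intro hn p hp
      have hpn := ih (by omega) p hp
      obtain ⟨pn, hpn_def⟩ : ∃ pn, pn = MvPolynomial.homogeneousComponent n p := ⟨_, rfl⟩
      have hpn_hom : pn.IsHomogeneous n := hpn_def ▸ MvPolynomial.homogeneousComponent_isHomogeneous n p
      have hdiff : p - pn ∈ MvPolynomial.idealOfVars (Fin d) (A ⧸ J) ^ (n + 1) := by
        rw [MvPolynomial.mem_pow_idealOfVars_iff'] at hpn ⊢
        intro α hα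
        rw [MvPolynomial.coeff_sub, hpn_def, MvPolynomial.coeff_homogeneousComponent]
        split_ifs with h
        · exact sub_self _
        · rw [sub_zero]; exact hpn α (by omega)
      have hΦpn : Φ0 pn ∈ I ^ (n + 1) := by
        have := hΦT (n+1) _ hdiff
        rw [map_sub, hp, zero_sub] at this
        exact (neg_mem_iff).mp this
      -- lift
      let out : (A ⧸ J) → A := Function.surjInv Ideal.Quotient.mk_surjective
      have hout : ∀ b, Ideal.Quotient.mk J (out b) = b := Function.surjInv_eq _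
      let pt : MvPolynomial (Fin d) A :=
        ∑ α ∈ pn.support, MvPolynomial.monomial α (out (pn.coeff α))
      have hpt_hom : pt.IsHomogeneous n := by
        apply MvPolynomial.IsHomogeneous.sum
        intro α hα
        apply MvPolynomial.isHomogeneous_monomial
        have := hpn_hom (MvPolynomial.mem_support_iff.mp hα)
        rw [Finsupp.degree_eq_weight_one]; exact this
      have hpt_map : MvPolynomial.map (Ideal.Quotient.mk J) pt = pn := by
        simp only [pt, map_sum, MvPolynomial.map_monomial, hout]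
        exact MvPolynomial.support_sum_monomial_coeff pn
      have h1 : MvPolynomial.eval₂ (Ideal.Quotient.mk (J ^ N)) y pt -
          MvPolynomial.eval₂ ((σ : (A ⧸ J) →+* (A ⧸ J ^ N)).comp (Ideal.Quotient.mk J)) y pt
            ∈ I ^ (n + 1) :=
        eval₂_sub_mem _ _ I (fun a => hσI a) y hy n pt hpt_hom
      have h2 : MvPolynomial.eval₂ ((σ : (A ⧸ J) →+* (A ⧸ J ^ N)).comp (Ideal.Quotient.mk J)) y pt
          = Φ0 pn := by
        rw [← hpt_map]
        show _ = MvPolynomial.eval₂ _ _ (MvPolynomial.map _ pt)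
        rw [MvPolynomial.eval₂_map]
      have h3 : MvPolynomial.eval₂ (Ideal.Quotient.mk (J ^ N)) y pt =
          Ideal.Quotient.mk (J ^ N) (MvPolynomial.eval x pt) := by
        exact (MvPolynomial.eval₂_comp_left (Ideal.Quotient.mk (J ^ N)) (RingHom.id A) x pt).symm
      have h4 : Ideal.Quotient.mk (J ^ N) (MvPolynomial.eval x pt) ∈ I ^ (n + 1) := by
        rw [← h3]
        have := add_mem h1 hΦpn
        rw [h2, sub_add_cancel] at this
        exact this
      have h5 : MvPolynomial.eval x pt ∈ J ^ (n + 1) := by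
        rw [← Ideal.map_pow] at h4
        obtain ⟨a', ha', hEq⟩ := (Ideal.mem_map_iff_of_surjective _ Ideal.Quotient.mk_surjective).mp h4
        have : a' - MvPolynomial.eval x pt ∈ J ^ N := Ideal.Quotient.eq.mp hEq
        have h6 : a' - MvPolynomial.eval x pt ∈ J ^ (n + 1) := Ideal.pow_le_pow_right hn this
        have := sub_mem ha' h6
        simpa using this
      have h7 : ∀ α, pt.coeff α ∈ J := by
        intro α
        have := hqr n pt hpt_hom (by rw [← hJ]; exact h5) α
        rw [← hJ] at this; exact this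
      have h8 : pn = 0 := by
        rw [← hpt_map]
        ext α
        rw [MvPolynomial.coeff_map, MvPolynomial.coeff_zero]
        exact Ideal.Quotient.eq_zero_iff_mem.mpr (h7 α)
      rw [h8, sub_zero] at hdiff
      exact hdiff
  have hle : ∀ p ∈ MvPolynomial.idealOfVars (Fin d) (A ⧸ J) ^ N, Φ p = 0 := by
    intro p hp
    have := hΦT N p hp
    rw [hIN] at this
    exact this
  let Φbar : (MvPolynomial (Fin d) (A ⧸ J) ⧸ MvPolynomial.idealOfVars (Fin d) (A ⧸ J) ^ N)
      →ₐ[R] (A ⧸ J ^ N) :=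
    Ideal.Quotient.liftₐ _ Φ hle
  have hΦbar : ∀ p, Φbar (Ideal.Quotient.mk _ p) = Φ0 p := fun p => rfl
  have hbij : Function.Bijective Φbar := by
    constructor
    · rw [injective_iff_map_eq_zero]
      intro w hw
      obtain ⟨p, rfl⟩ := Ideal.Quotient.mk_surjective w
      rw [hΦbar] at hw
      exact Ideal.Quotient.eq_zero_iff_mem.mpr (hinj N le_rfl p hw)
    · intro q
      obtain ⟨p, rfl⟩ := hsurj q
      exact ⟨Ideal.Quotient.mk _ p, hΦbar p⟩
  let e0 := AlgEquiv.ofBijective Φbar hbij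
  have he0 : ∀ w, e0 w = Φbar w := fun w => rfl
  refine ⟨e0.symm, ?_, ?_⟩
  · intro i
    rw [AlgEquiv.symm_apply_eq, he0, hΦbar, hΦ0X]
  · intro a
    obtain ⟨p, hp⟩ := Ideal.Quotient.mk_surjective (e0.symm (Ideal.Quotient.mk _ a))
    rw [← hp, ← map_sub]
    apply Ideal.mem_map_of_mem
    have h1 : Φ0 p = Ideal.Quotient.mk _ a := by
      have : e0 (Ideal.Quotient.mk _ p) = Ideal.Quotient.mk _ a := by
        rw [hp, AlgEquiv.apply_symm_apply]
      rw [he0, hΦbar] at this
      exact this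
    have hgΦ : (g : (A ⧸ J ^ N) →+* (A ⧸ J)).comp Φ0 = MvPolynomial.constantCoeff := by
      apply MvPolynomial.ringHom_ext
      · intro b
        show g (Φ0 (MvPolynomial.C b)) = _
        rw [hΦ0C, hσ, MvPolynomial.constantCoeff_C]
      · intro i
        show g (Φ0 (MvPolynomial.X i)) = _
        rw [hΦ0X, hgmk, MvPolynomial.constantCoeff_X]
        exact Ideal.Quotient.eq_zero_iff_mem.mpr (hJ ▸ Ideal.subset_span ⟨i, rfl⟩)
    have h2 : MvPolynomial.constantCoeff p = Ideal.Quotient.mk J a := by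
      rw [← hgΦ]; show g (Φ0 p) = _; rw [h1, hgmk]
    have : p - MvPolynomial.C (Ideal.Quotient.mk J a) ∈
        MvPolynomial.idealOfVars (Fin d) (A ⧸ J) ^ 1 := by
      rw [MvPolynomial.mem_pow_idealOfVars_iff']
      intro α hα
      have : α = 0 := (Finsupp.degree_eq_zero_iff α).mp (Nat.lt_one_iff.mp hα)
      subst this
      rw [MvPolynomial.coeff_sub, ← MvPolynomial.constantCoeff_eq, h2]; simp
    simpa using this

/-- Let R → A be a ring homomorphism and x_1, …, x_d a weakly regular sequence in A generating an ideal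
J such that B = A/J is formally smooth over R. Then for every N ≥ 1 there is an isomorphism of
R-algebras e : A/J^N ≅ B[T_1, …, T_d]/(T_1, …, T_d)^N which sends the class of x_i to the class of
T_i and which is compatible with the projections to B: for every a ∈ A, e(a mod J^N) is congruent to
the constant a mod J modulo the ideal generated by the variables. (The source also assumes R → A
smooth, which its argument does not use, and a regular sequence; weak regularity is what the
argument uses.) -/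
theorem result
    (R : Type u) (A : Type v) [CommRing R] [CommRing A] [Algebra R A] (d : ℕ) (x : Fin d → A)
    (hreg : RingTheory.Sequence.IsWeaklyRegular A (List.ofFn x))
    [Algebra.FormallySmooth R (A ⧸ Ideal.span (Set.range x))] (N : ℕ) (hN : 1 ≤ N) :
    ∃ e : (A ⧸ Ideal.span (Set.range x) ^ N) ≃ₐ[R]
        (MvPolynomial (Fin d) (A ⧸ Ideal.span (Set.range x)) ⧸
          Ideal.span (Set.range (MvPolynomial.X : Fin d → MvPolynomial (Fin d) (A ⧸ Ideal.span (Set.range x)))) ^ N),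
      (∀ i : Fin d, e (Ideal.Quotient.mk _ (x i)) = Ideal.Quotient.mk _ (MvPolynomial.X i)) ∧
      ∀ a : A, e (Ideal.Quotient.mk _ a) - Ideal.Quotient.mk _ (MvPolynomial.C (Ideal.Quotient.mk _ a)) ∈
        (Ideal.span (Set.range (MvPolynomial.X : Fin d → MvPolynomial (Fin d) (A ⧸ Ideal.span (Set.range x))))).map
          (Ideal.Quotient.mk _) := by
  exact main R A d x _ rfl (Groth.Agent.S5802.result A d x hreg) N hN

end Groth.Agent.S18417
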