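import Groth.Statements.S18423
import Mathlib
import Groth.Agent.Lib.Helper22DiscPurity

set_option autoImplicit false
universe u v
open Pi1

namespace Groth.Agent.S18423



/-- Let A be a Noetherian local ring of Krull dimension at least 2 and B a finite flat commutative
A-algebra. If B is etale over A at every prime of B lying over a non-maximal prime of A (that is,
Spec B is etale over the punctured spectrum of A), then B is etale over A. -/
theorem result (A : Type u) (B : Type v) [CommRing A] [CommRing B]
    [Algebra A B] [IsNoetherianRing A] [IsLocalRing A] (hdim : (2 : WithBot ℕ∞) ≤ ringKrullDim A)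
    [Module.Finite A B] [Module.Flat A B]
    (h : ∀ q : PrimeSpectrum B, q.asIdeal.comap (algebraMap A B) ≠ IsLocalRing.maximalIdeal A →
      Algebra.IsEtaleAt A q.asIdeal) :
    Algebra.Etale A B := by
  classical
  haveI : Module.Free A B := Module.free_of_flat_of_isLocalRing
  let bas := Module.Free.chooseBasis A B
  rw [Groth.Agent.Lib.Helper20.TraceEt.etale_iff_isUnit_discr bas]
  set d := Algebra.discr A bas with hd
  by_contra hnu
  have hdm : d ∈ IsLocalRing.maximalIdeal A := (IsLocalRing.mem_maximalIdeal d).mpr hnu
  -- key: for every g ∈ m, d ∣ g^n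
  have key : ∀ g ∈ IsLocalRing.maximalIdeal A, ∃ (u : A) (n : ℕ), d * u = g ^ n := by
    intro g hg
    have hsub : ↑(PrimeSpectrum.basicOpen (algebraMap A B g)) ⊆ Algebra.etaleLocus A B := by
      intro q hq
      apply h q
      intro hqm
      apply hq
      have : g ∈ q.asIdeal.comap (algebraMap A B) := hqm ▸ hg
      exact this
    have hfe : Algebra.FormallyEtale A (Localization.Away (algebraMap A B g)) :=
      Algebra.basicOpen_subset_etaleLocus_iff.mp hsub
    letI : Algebra (Localization.Away g) (Localization.Away (algebraMap A B g)) :=
      (IsLocalization.Away.map (Localization.Away g) (Localization.Away (algebraMap A B g))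
        (algebraMap A B) g).toAlgebra
    haveI : IsScalarTower A (Localization.Away g) (Localization.Away (algebraMap A B g)) :=
      IsScalarTower.of_algebraMap_eq (fun r => by
        rw [RingHom.algebraMap_toAlgebra, IsLocalization.Away.map, IsLocalization.map_eq]
        exact IsScalarTower.algebraMap_apply A B _ r)
    haveI : IsLocalization (Algebra.algebraMapSubmonoid B (Submonoid.powers g))
        (Localization.Away (algebraMap A B g)) := by
      rw [Algebra.algebraMapSubmonoid_powers]; infer_instance
    haveI : Algebra.FormallyUnramified (Localization.Away g)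
        (Localization.Away (algebraMap A B g)) :=
      Algebra.FormallyUnramified.of_restrictScalars A _ _
    exact Groth.Agent.Lib.Helper22.DiscPurity.exists_mul_eq_pow_of_unramified bas g
      (Localization.Away g) (Localization.Away (algebraMap A B g))
  -- Krull
  obtain ⟨p, hpmin, hpm⟩ := Ideal.exists_minimalPrimes_le (I := Ideal.span {d})
    (J := IsLocalRing.maximalIdeal A) ((Ideal.span_singleton_le_iff_mem _).mpr hdm)
  have hpprime : p.IsPrime := hpmin.1.1
  have hht : p.height ≤ 1 := Ideal.height_le_one_of_isPrincipal_of_mem_minimalPrimes _ p hpmin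
  have hpne : p ≠ IsLocalRing.maximalIdeal A := by
    rintro rfl
    have h1 := IsLocalRing.maximalIdeal_height_eq_ringKrullDim (R := A)
    rw [← h1] at hdim
    have h2 : ((2 : ℕ∞) : WithBot ℕ∞) ≤ ((IsLocalRing.maximalIdeal A).height : WithBot ℕ∞) := hdim
    rw [WithBot.coe_le_coe] at h2
    have := h2.trans hht
    norm_num at this
  obtain ⟨g, hgm, hgp⟩ : ∃ g ∈ IsLocalRing.maximalIdeal A, g ∉ p := by
    by_contra hcon
    push Not at hcon
    exact hpne (le_antisymm hpm hcon)
  obtain ⟨u, n, hun⟩ := key g hgm
  have : g ^ n ∈ p := hun ▸ p.mul_mem_right u (hpmin.1.2 (Ideal.mem_span_singleton_self d))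
  exact hgp (hpprime.mem_of_pow_mem n this)

end Groth.Agent.S18423
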