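import Groth.Statements.S18426
import Groth.Agent.Lib.Helper4NormIso
open Groth.Agent.Lib.Helper4.NormCurve

set_option autoImplicit false
set_option linter.style.haveILetI false
universe u
open Pi1

namespace Groth.Agent.S18426

open AlgebraicGeometry CategoryTheory CategoryTheory.Limits in
/-- Suppose X is an integral scheme that is Noetherian and normal, write K for its function field, and
take L to be a finite separable extension of K. Then the normalization of X in L, namely the
relative normalization of the morphism Spec L → Spec K → X, is finite over X. (That this
normalization is a normal integral scheme with function field L is not restated.) -/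
theorem result {X : Scheme.{u}} [IsIntegral X] [IsNoetherian X]
    (hX : Pi1.IsNormalScheme X) (L : Type u) [Field L] [Algebra X.functionField L] [FiniteDimensional X.functionField L]
    [Algebra.IsSeparable X.functionField L]
    [QuasiCompact (Spec.map (CommRingCat.ofHom (algebraMap X.functionField L)) ≫ X.fromSpecStalk (genericPoint X))]
    [QuasiSeparated (Spec.map (CommRingCat.ofHom (algebraMap X.functionField L)) ≫ X.fromSpecStalk (genericPoint X))] :
    IsFinite (Spec.map (CommRingCat.ofHom (algebraMap X.functionField L)) ≫ X.fromSpecStalk (genericPoint X)).fromNormalization := by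
  classical
  set φ : X.functionField →+* L := algebraMap X.functionField L with hφdef
  show IsFinite (gen X L φ).fromNormalization
  refine Groth.Agent.Lib.Helper4.NormFinite.isFinite_fromNormalization_of_finite _ (fun U hU => ?_)
  letI := ((gen X L φ).app U).hom.toAlgebra
  by_cases hne : Nonempty U
  · letI algAK : Algebra Γ(X, U) L := (φ.comp (X.germToFunctionField U).hom).toAlgebra
    haveI : IsScalarTower Γ(X, U) X.functionField L := IsScalarTower.of_algebraMap_eq (fun _ => rfl)
    haveI : IsDomain Γ(X, U) := IsIntegral.component_integral (X := X) U
    haveI := functionField_isFractionRing_of_isAffineOpen X U hU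
    haveI : IsIntegrallyClosed Γ(X, U) :=
      Groth.Agent.Lib.Helper4.NormIso.isIntegrallyClosed_sections hX U hU
    haveI : IsNoetherianRing Γ(X, U) := IsLocallyNoetherian.component_noetherian ⟨U, hU⟩
    haveI hfin : Module.Finite Γ(X, U) (integralClosure Γ(X, U) L) :=
      IsIntegralClosure.finite Γ(X, U) X.functionField L _
    obtain ⟨ψ⟩ := exists_sectionsAlgEquiv L φ U
    exact Module.Finite.equiv ψ.mapIntegralClosure.toLinearEquiv
  · have hU0 : U = ⊥ := by
      ext x
      simp only [TopologicalSpace.Opens.coe_bot, Set.mem_empty_iff_false, iff_false]
      exact fun hx => hne ⟨⟨x, hx⟩⟩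
    subst hU0
    haveI : Subsingleton (integralClosure Γ(X, (⊥ : X.Opens))
        Γ(Spec (CommRingCat.of L), (gen X L φ) ⁻¹ᵁ ⊥)) :=
      Module.subsingleton Γ(X, (⊥ : X.Opens)) _
    exact Module.Finite.of_finite

end Groth.Agent.S18426
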