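import Groth.Statements.S18427
import Mathlib
import Groth.Agent.Lib.Helper22SteinG
import Groth.Agent.Lib.Helper3GUConsC
import Groth.Agent.Lib.Helper5RLR
-- import your own Groth.Agent.* helpers here

set_option autoImplicit false
set_option linter.style.haveILetI false
set_option linter.unusedSectionVars false
universe u
open Models

namespace Groth.Agent.S18427

open CategoryTheory AlgebraicGeometry Limits

/-- stalks of the spectrum of a normal domain are geometrically unibranch -/
theorem isGeomUnibranch_stalk_spec (R : Type u) [CommRing R] [IsDomain R] [IsIntegrallyClosed R]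
    (s : Spec (CommRingCat.of R)) :
    CAlg2.IsGeomUnibranch ((Spec (CommRingCat.of R)).presheaf.stalk s) := by
  haveI : s.asIdeal.IsPrime := s.isPrime
  letI : Algebra R ↑((Spec (.of R)).presheaf.stalk s) := StructureSheaf.stalkAlgebra R s
  haveI : IsLocalization.AtPrime ((Spec (.of R)).presheaf.stalk s) s.asIdeal :=
    StructureSheaf.IsLocalization.to_stalk R s
  haveI : IsDomain ((Spec (.of R)).presheaf.stalk s) :=
    IsLocalization.isDomain_of_le_nonZeroDivisors _ s.asIdeal.primeCompl_le_nonZeroDivisors
  haveI : IsIntegrallyClosed ((Spec (.of R)).presheaf.stalk s) :=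
    isIntegrallyClosed_of_isLocalization _ s.asIdeal.primeCompl
      s.asIdeal.primeCompl_le_nonZeroDivisors
  exact Groth.Agent.Lib.Helper3.GUConsC.isGeomUnibranch_of_normal _

/-- the point of `Spec K` maps to the generic point of `Spec R` -/
theorem specMap_algebraMap_apply (R : Type u) [CommRing R] [IsDomain R]
    (z : Spec (CommRingCat.of (FractionRing R))) :
    (Spec.map (CommRingCat.ofHom (algebraMap R (FractionRing R)))) z =
      genericPoint (Spec (CommRingCat.of R)) := by
  rw [genericPoint_eq_bot_of_affine]
  apply PrimeSpectrum.ext
  change Ideal.comap (algebraMap R (FractionRing R)) z.asIdeal = ⊥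
  have hz : z.asIdeal = ⊥ := by
    have := z.isPrime
    rcases Ideal.eq_bot_or_top z.asIdeal with h | h
    · exact h
    · exact absurd h z.isPrime.ne_top
  rw [hz, ← RingHom.ker_eq_comap_bot, RingHom.ker_eq_bot_iff_eq_zero]
  intro x hx
  exact (IsFractionRing.injective R (FractionRing R)) (by rw [hx, map_zero])

/-- the residue field at the generic point of `Spec R` receives the fraction field -/
theorem exists_spec_residueField_hom (R : Type u) [CommRing R] [IsDomain R] :
    ∃ j : Spec ((Spec (CommRingCat.of R)).residueField (genericPoint (Spec (CommRingCat.of R)))) ⟶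
        Spec (CommRingCat.of (FractionRing R)),
      j ≫ Spec.map (CommRingCat.ofHom (algebraMap R (FractionRing R))) =
        (Spec (CommRingCat.of R)).fromSpecResidueField (genericPoint (Spec (CommRingCat.of R))) := by
  obtain ⟨φ, hφ⟩ : ∃ φ : CommRingCat.of R ⟶ (Spec (CommRingCat.of R)).residueField
      (genericPoint (Spec (CommRingCat.of R))), Spec.map φ =
        (Spec (CommRingCat.of R)).fromSpecResidueField (genericPoint (Spec (CommRingCat.of R))) :=
    ⟨Spec.preimage _, Spec.map_preimage _⟩
  have hinj : Function.Injective φ.hom := by
    have h1 : (Spec.map φ) (⟨⊥, Ideal.isPrime_bot⟩ : PrimeSpectrum ((Spec (CommRingCat.of R)).residueField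
        (genericPoint (Spec (CommRingCat.of R))))) = genericPoint (Spec (CommRingCat.of R)) := by
      rw [hφ]; exact (Spec (CommRingCat.of R)).fromSpecResidueField_apply _ _
    have h1' := h1.trans (genericPoint_eq_bot_of_affine (CommRingCat.of R))
    have h2 := congrArg PrimeSpectrum.asIdeal h1'
    exact (RingHom.injective_iff_ker_eq_bot _).mpr h2
  have hu : ∀ y : nonZeroDivisors R, IsUnit (φ.hom y) := by
    intro y
    have h0 : φ.hom y ≠ 0 := fun h => nonZeroDivisors.ne_zero y.2 (hinj (h.trans (map_zero _).symm))
    exact isUnit_iff_ne_zero.mpr h0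
  let ψ : CommRingCat.of (FractionRing R) ⟶ (Spec (CommRingCat.of R)).residueField
      (genericPoint (Spec (CommRingCat.of R))) :=
    CommRingCat.ofHom (IsLocalization.lift (M := nonZeroDivisors R) (S := FractionRing R) hu)
  have key : CommRingCat.ofHom (algebraMap R (FractionRing R)) ≫ ψ = φ := by
    apply CommRingCat.hom_ext
    rw [CommRingCat.hom_comp]
    exact IsLocalization.lift_comp hu
  refine ⟨Spec.map ψ, ?_⟩
  rw [← hφ]
  exact (Spec.map_comp _ _).symm.trans (congrArg Spec.map key)


open CategoryTheory AlgebraicGeometry in
/-- Let R be a discrete valuation ring with fraction field K, C a smooth proper geometrically connected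
curve over K, and X a regular proper model of C over R (flat and proper over R, regular, with
generic fibre C). Then the structure morphism X → Spec R has geometrically connected fibres; in
particular the special fibre of X is geometrically connected over the residue field of R. -/
theorem result (R : Type u) [CommRing R] [IsDomain R]
    [IsDiscreteValuationRing R] (C X : Scheme.{u})
    (f : C ⟶ Spec (CommRingCat.of (FractionRing R))) (p : X ⟶ Spec (CommRingCat.of R))
    (hC : Curve.IsSmoothProperCurve (FractionRing R) C f) [GeometricallyConnected f]
    (hX : Models.IsRegularProperModel R X p C f) :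
    GeometricallyConnected p := by
  obtain ⟨⟨hflat, -, -, g, H⟩, hproper, hreg⟩ := hX
  obtain ⟨-, -, hCint, -⟩ := hC
  haveI := hflat
  haveI := hproper
  haveI := hCint
  -- points over the generic point are in the range of `g`
  have hξ := specMap_algebraMap_apply R
  have hrange : ∀ x : X, p x = genericPoint (Spec (CommRingCat.of R)) → x ∈ Set.range g := by
    intro x hx
    let z : Spec (CommRingCat.of (FractionRing R)) :=
      (⟨⊥, Ideal.isPrime_bot⟩ : PrimeSpectrum (FractionRing R))
    obtain ⟨w, hw1, -⟩ := Scheme.Pullback.exists_preimage_pullback (f := p)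
      (g := Spec.map (CommRingCat.ofHom (algebraMap R (FractionRing R)))) x z
      (hx.trans (hξ z).symm)
    refine ⟨H.isoPullback.inv w, ?_⟩
    rw [← Scheme.Hom.comp_apply, H.isoPullback_inv_fst, hw1]
  have hcl : closure (Set.range g) = Set.univ := by
    rw [Set.eq_univ_iff_forall]
    intro x
    obtain ⟨x', hx', hpx'⟩ := (Flat.generalizingMap p) (genericPoint_specializes (p x))
    exact closure_mono (Set.singleton_subset_iff.mpr (hrange x' hpx')) hx'.mem_closure
  -- `X` is integral
  haveI : IrreducibleSpace X := by
    have h1 : IsIrreducible (Set.range g) := by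
      rw [← Set.image_univ]
      exact (IrreducibleSpace.isIrreducible_univ C).image g g.continuous.continuousOn
    have h2 : IsIrreducible (Set.univ : Set X) := hcl ▸ h1.closure
    exact (irreducibleSpace_def X).mpr h2
  haveI : IsReduced X := by
    haveI : ∀ x : X, _root_.IsReduced (X.presheaf.stalk x) := fun x => by
      haveI := hreg x
      haveI := Groth.Agent.Lib.Helper5.isDomain_of_isRegularLocalRing (X.presheaf.stalk x)
      infer_instance
    exact isReduced_of_isReduced_stalk X
  haveI : IsIntegral X := isIntegral_of_irreducibleSpace_of_isReduced X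
  -- `p` is dominant
  haveI : IsDominant p := by
    refine ⟨?_⟩
    obtain ⟨c⟩ := (inferInstance : Nonempty C)
    have h1 : p (g c) = genericPoint (Spec (CommRingCat.of R)) := by
      rw [← Scheme.Hom.comp_apply, H.w, Scheme.Hom.comp_apply]
      exact hξ _
    rw [DenseRange, dense_iff_closure_eq]
    refine Set.eq_univ_of_univ_subset ?_
    rw [← (genericPoint_spec (Spec (CommRingCat.of R))).def]
    exact closure_mono (Set.singleton_subset_iff.mpr ⟨g c, h1⟩)
  -- the generic fibre
  have hη : GeometricallyConnected
      (p.fiberToSpecResidueField (genericPoint (Spec (CommRingCat.of R)))) := by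
    obtain ⟨j, hj⟩ := exists_spec_residueField_hom R
    have hc : pullback.fst p ((Spec (CommRingCat.of R)).fromSpecResidueField
        (genericPoint (Spec (CommRingCat.of R)))) ≫ p =
        (pullback.snd p ((Spec (CommRingCat.of R)).fromSpecResidueField
        (genericPoint (Spec (CommRingCat.of R)))) ≫ j) ≫
          Spec.map (CommRingCat.ofHom (algebraMap R (FractionRing R))) := by
      rw [Category.assoc, hj, pullback.condition]
    obtain ⟨l, hl, hl2⟩ : ∃ l : p.fiber (genericPoint (Spec (CommRingCat.of R))) ⟶ C,
        l ≫ g = pullback.fst p ((Spec (CommRingCat.of R)).fromSpecResidueField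
          (genericPoint (Spec (CommRingCat.of R)))) ∧
        l ≫ f = pullback.snd p ((Spec (CommRingCat.of R)).fromSpecResidueField
          (genericPoint (Spec (CommRingCat.of R)))) ≫ j :=
      ⟨H.lift _ _ hc, H.lift_fst _ _ _, H.lift_snd _ _ _⟩
    have big : IsPullback (l ≫ g) (pullback.snd p ((Spec (CommRingCat.of R)).fromSpecResidueField
          (genericPoint (Spec (CommRingCat.of R))))) p
        (j ≫ Spec.map (CommRingCat.ofHom (algebraMap R (FractionRing R)))) := by
      rw [hl, hj]
      exact IsPullback.of_hasPullback p _
    have left : IsPullback l (pullback.snd p ((Spec (CommRingCat.of R)).fromSpecResidueField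
          (genericPoint (Spec (CommRingCat.of R))))) f j := IsPullback.of_right big hl2 H
    exact MorphismProperty.of_isPullback (P := @GeometricallyConnected) left inferInstance
  exact Groth.Agent.Lib.Helper22.SteinG.geometricallyConnected_of_geomUnibranch p
    (isGeomUnibranch_stalk_spec R) hη

end Groth.Agent.S18427
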