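import Groth.Statements.S18429
import Mathlib.Tactic

set_option autoImplicit false
universe u
open SpinCurv

namespace Groth.Agent.S18429

/-- Let n ≥ 1 and r ≥ 2 be integers and let e_0, …, e_{nr} be integers with e_0 = e_{nr} = 0 (the
coefficients of a chain of nr - 1 exceptional curves joining two non-exceptional components with
coefficient zero) such that at every interior index 1 ≤ j ≤ nr - 1 the second difference e_{j-1} - 2
e_j + e_{j+1} (the degree of the divisor Σ e_i E_i on the j-th curve of the chain) is divisible by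
r. Then there are integers e'_0, …, e'_{nr}, with e'_j ≡ e_j modulo r for every interior j, with
e'_0 = e'_{nr} = 0 and every e'_j ≤ 0, whose second differences at the interior indices are each 0
or r, and are nonzero at no two distinct interior indices. -/
theorem result (n r : ℕ) (hn : 1 ≤ n) (hr : 2 ≤ r)
    (e : ℕ → ℤ) (he0 : e 0 = 0) (henr : e (n * r) = 0)
    (hdiv : ∀ j : ℕ, 1 ≤ j → j < n * r → (r : ℤ) ∣ e (j - 1) - 2 * e j + e (j + 1)) :
    ∃ e' : ℕ → ℤ, e' 0 = 0 ∧ e' (n * r) = 0 ∧
      (∀ j : ℕ, 1 ≤ j → j < n * r → (r : ℤ) ∣ e' j - e j) ∧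
      (∀ j : ℕ, j ≤ n * r → e' j ≤ 0) ∧
      (∀ j : ℕ, 1 ≤ j → j < n * r →
        (e' (j - 1) - 2 * e' j + e' (j + 1) = 0 ∨ e' (j - 1) - 2 * e' j + e' (j + 1) = r)) ∧
      (∀ j j' : ℕ, 1 ≤ j → j < n * r → 1 ≤ j' → j' < n * r →
        e' (j - 1) - 2 * e' j + e' (j + 1) ≠ 0 → e' (j' - 1) - 2 * e' j' + e' (j' + 1) ≠ 0 → j = j') := by
  have hrpos : (0 : ℤ) < r := by exact_mod_cast (by omega : 0 < r)
  -- first differences are all congruent to the first one
  have hd : ∀ j : ℕ, j < n * r → (r : ℤ) ∣ (e (j + 1) - e j) - (e 1 - e 0) := by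
    intro j
    induction j with
    | zero => intro _; simp
    | succ j ih =>
      intro hj
      have h1 := ih (by omega)
      have h2 := hdiv (j + 1) (by omega) hj
      have e3 : (e (j + 1 + 1) - e (j + 1)) - (e 1 - e 0) =
          (e (j + 1 - 1) - 2 * e (j + 1) + e (j + 1 + 1)) + ((e (j + 1) - e j) - (e 1 - e 0)) := by
        simp only [Nat.add_sub_cancel]; ring
      rw [e3]
      exact dvd_add h2 h1
  have hs : ∀ j : ℕ, j ≤ n * r → (r : ℤ) ∣ e j - (j : ℤ) * e 1 := by
    intro j
    induction j with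
    | zero => intro _; simp [he0]
    | succ j ih =>
      intro hj
      have h1 := ih (by omega)
      have h2 := hd j (by omega)
      rw [he0, sub_zero] at h2
      have e3 : e (j + 1) - ((j + 1 : ℕ) : ℤ) * e 1 =
          (e j - (j : ℤ) * e 1) + ((e (j + 1) - e j) - e 1) := by
        push_cast; ring
      rw [e3]
      exact dvd_add h1 h2
  set A : ℤ := (-e 1) % (r : ℤ) with hA
  have hA0 : 0 ≤ A := Int.emod_nonneg _ (ne_of_gt hrpos)
  have hAr : A < r := Int.emod_lt_of_pos _ hrpos
  have hAdvd : (r : ℤ) ∣ -e 1 - A := by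
    refine ⟨(-e 1) / (r : ℤ), ?_⟩
    have := Int.emod_add_mul_ediv (-e 1) (r : ℤ)
    rw [hA]; linarith
  set t : ℤ := ((r : ℤ) - A) * n with ht
  have hnpos : (0 : ℤ) < n := by exact_mod_cast (by omega : 0 < n)
  have htn : t ≤ (n : ℤ) * r := by
    rw [ht]; nlinarith
  have hAt : A * t = ((r : ℤ) - A) * ((n : ℤ) * r - t) := by
    rw [ht]; ring
  refine ⟨fun j => if (j : ℤ) ≤ t then -A * j else -A * t + ((r : ℤ) - A) * ((j : ℤ) - t), ?_, ?_, ?_, ?_, ?_, ?_⟩
  · have : (0 : ℤ) ≤ t := by rw [ht]; nlinarith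
    simp [this]
  · simp only
    split_ifs with h
    · have h' : t = (n : ℤ) * r := le_antisymm htn (by push_cast at h; linarith)
      have : A * t = 0 := by rw [hAt, h']; ring
      push_cast
      rw [← h']; linarith
    · push_cast
      linarith
  · intro j hj1 hj2
    have h1 := hs j (by omega)
    simp only
    split_ifs with h
    · have : -A * (j : ℤ) - e j = (-e 1 - A) * j - (e j - (j : ℤ) * e 1) - 0 := by ring
      rw [this, sub_zero]
      exact dvd_sub (Dvd.dvd.mul_right hAdvd _) h1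
    · have : -A * t + ((r : ℤ) - A) * ((j : ℤ) - t) - e j =
          (-e 1 - A) * j - (e j - (j : ℤ) * e 1) + (r : ℤ) * ((j : ℤ) - t) := by ring
      rw [this]
      exact dvd_add (dvd_sub (Dvd.dvd.mul_right hAdvd _) h1) (Dvd.intro _ rfl)
  · intro j hj
    have hjz : (j : ℤ) ≤ (n : ℤ) * r := by exact_mod_cast hj
    simp only
    split_ifs with h
    · have : (0 : ℤ) ≤ j := Int.natCast_nonneg j
      nlinarith
    · push Not at h
      have h1 : ((r : ℤ) - A) * ((j : ℤ) - t) ≤ ((r : ℤ) - A) * ((n : ℤ) * r - t) :=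
        mul_le_mul_of_nonneg_left (by linarith) (by linarith)
      linarith
  · intro j hj1 hj2
    have hc : ((j - 1 : ℕ) : ℤ) = (j : ℤ) - 1 := by
      rw [Nat.cast_sub hj1]; simp
    simp only
    push_cast
    rw [hc]
    by_cases h1 : (j : ℤ) + 1 ≤ t
    · left
      rw [if_pos (by linarith), if_pos (by linarith), if_pos h1]
      ring
    · by_cases h2 : (j : ℤ) ≤ t
      · have hjt : (j : ℤ) = t := by omega
        right
        rw [if_pos (by linarith), if_pos h2, if_neg h1, hjt]
        ring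
      · by_cases h3 : (j : ℤ) - 1 ≤ t
        · have hjt : (j : ℤ) - 1 = t := by omega
          left
          rw [if_pos h3, if_neg h2, if_neg h1]
          rw [← hjt]; ring
        · left
          rw [if_neg h3, if_neg h2, if_neg h1]
          ring
  · intro j j' hj1 hj2 hj1' hj2' hne hne'
    have key : ∀ i : ℕ, 1 ≤ i → i < n * r →
        ((if ((i - 1 : ℕ) : ℤ) ≤ t then -A * ((i - 1 : ℕ) : ℤ) else -A * t + ((r : ℤ) - A) * (((i - 1 : ℕ) : ℤ) - t)) -
          2 * (if (i : ℤ) ≤ t then -A * i else -A * t + ((r : ℤ) - A) * ((i : ℤ) - t)) +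
          (if ((i + 1 : ℕ) : ℤ) ≤ t then -A * ((i + 1 : ℕ) : ℤ) else -A * t + ((r : ℤ) - A) * (((i + 1 : ℕ) : ℤ) - t)) ≠ 0) →
        (i : ℤ) = t := by
      intro i hi1 hi2 hnz
      have hc : ((i - 1 : ℕ) : ℤ) = (i : ℤ) - 1 := by
        rw [Nat.cast_sub hi1]; simp
      push_cast at hnz
      rw [hc] at hnz
      by_contra hit
      apply hnz
      by_cases h1 : (i : ℤ) + 1 ≤ t
      · rw [if_pos (by linarith), if_pos (by linarith), if_pos h1]
        ring
      · by_cases h2 : (i : ℤ) ≤ t
        · exact absurd (by omega : (i : ℤ) = t) hit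
        · by_cases h3 : (i : ℤ) - 1 ≤ t
          · have hjt : (i : ℤ) - 1 = t := by omega
            rw [if_pos h3, if_neg h2, if_neg h1]
            rw [← hjt]; ring
          · rw [if_neg h3, if_neg h2, if_neg h1]
            ring
    have e1 := key j hj1 hj2 hne
    have e2 := key j' hj1' hj2' hne'
    exact_mod_cast e1.trans e2.symm

end Groth.Agent.S18429
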