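import Groth.Statements.S18431
import Mathlib.Tactic

set_option autoImplicit false
universe u
open SpinCurv

namespace Groth.Agent.S18431

/-- Let R be a Noetherian local ring in which the natural number r is invertible and let ξ, ζ ∈ R
satisfy ξ^r = 1 and ζ^r = 1. Then either ξ = ζ, or ξ - ζ is a unit of R. (Consequently an element of
R annihilated by ξ - ζ is zero unless ξ = ζ. In the published setting R is moreover complete; the
step does not use completeness.) -/
theorem result (R : Type u) [CommRing R] [IsNoetherianRing R] [IsLocalRing R]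
    (r : ℕ) (hr : IsUnit (r : R)) (ξ ζ : R) (hξ : ξ ^ r = 1) (hζ : ζ ^ r = 1) :
    ξ = ζ ∨ IsUnit (ξ - ζ) := by
  by_cases hu : IsUnit (ξ - ζ)
  · exact Or.inr hu
  left
  have hm : ξ - ζ ∈ IsLocalRing.maximalIdeal R := (IsLocalRing.mem_maximalIdeal _).mpr hu
  have hr0 : r ≠ 0 := by
    rintro rfl
    simp at hr
  have hζu : IsUnit ζ := by
    apply IsUnit.of_mul_eq_one (ζ ^ (r - 1))
    rw [← pow_succ', Nat.sub_add_cancel (Nat.one_le_iff_ne_zero.mpr hr0), hζ]
  set S := ∑ i ∈ Finset.range r, ξ ^ i * ζ ^ (r - 1 - i) with hS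
  have hprod : S * (ξ - ζ) = 0 := by
    rw [hS, (Commute.all ξ ζ).geom_sum₂_mul, hξ, hζ, sub_self]
  have hdiff : S - (r : R) * ζ ^ (r - 1) ∈ IsLocalRing.maximalIdeal R := by
    have : S - (r : R) * ζ ^ (r - 1) = ∑ i ∈ Finset.range r, (ξ ^ i - ζ ^ i) * ζ ^ (r - 1 - i) := by
      rw [hS]
      have h2 : (r : R) * ζ ^ (r - 1) = ∑ i ∈ Finset.range r, ζ ^ i * ζ ^ (r - 1 - i) := by
        rw [Finset.sum_congr rfl (fun i hi => by
          rw [← pow_add, show i + (r - 1 - i) = r - 1 by have := Finset.mem_range.mp hi; omega])]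
        simp
      rw [h2, ← Finset.sum_sub_distrib]
      apply Finset.sum_congr rfl
      intro i _
      ring
    rw [this]
    apply Ideal.sum_mem
    intro i _
    apply Ideal.mul_mem_right
    obtain ⟨c, hc⟩ := sub_dvd_pow_sub_pow ξ ζ i
    rw [hc]
    exact Ideal.mul_mem_right _ _ hm
  have hSu : IsUnit S := by
    by_contra hS'
    have hSm : S ∈ IsLocalRing.maximalIdeal R := (IsLocalRing.mem_maximalIdeal _).mpr hS'
    have : (r : R) * ζ ^ (r - 1) ∈ IsLocalRing.maximalIdeal R := by
      have := Ideal.sub_mem _ hSm hdiff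
      simpa using this
    exact (IsLocalRing.mem_maximalIdeal _).mp this (hr.mul (hζu.pow _))
  have := hSu.mul_right_eq_zero.mp hprod
  exact sub_eq_zero.mp this

end Groth.Agent.S18431
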