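import Groth.Statements.S18432
import Mathlib
import Groth.Agent.Lib.Helper16NodeR
-- import your own Groth.Agent.* helpers here

set_option autoImplicit false
set_option linter.style.haveILetI false
set_option linter.unusedSectionVars false
universe u
open SpinCurv

namespace Groth.Agent.S18432

open Groth.Agent.Lib.Helper16NodeR


/-- Let R be a complete Noetherian local ring, p, q elements of its maximal ideal, A = R[[x, y]]/(xy -
pq), and α(p, q) the A-linear endomorphism of A² with matrix (x p; q y), sending a column (a, b) to
(x a + p b, q a + y b). Then the kernel of α(p, q) is the submodule of A² generated by the columns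
(p, -x) and (y, -q); equivalently the image of α(p, q) (the standard rank-one torsion-free module
E(p, q)) is presented by two generators ξ, v with the relations p ξ = x v and y ξ = q v. -/
theorem result (R : Type u) [CommRing R] [IsNoetherianRing R] [IsLocalRing R]
    [IsAdicComplete (IsLocalRing.maximalIdeal R) R]
    (p q : R) (hp : p ∈ IsLocalRing.maximalIdeal R) (hq : q ∈ IsLocalRing.maximalIdeal R) :
    LinearMap.ker (Matrix.mulVecLin (SpinCurv.nodeAlpha R p q)) =
      Submodule.span (SpinCurv.NodeRing R (p * q))
        {![algebraMap R (SpinCurv.NodeRing R (p * q)) p, -SpinCurv.NodeRing.x R (p * q)],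
         ![SpinCurv.NodeRing.y R (p * q), -algebraMap R (SpinCurv.NodeRing R (p * q)) q]} := by
  apply le_antisymm
  · intro w hw
    rw [LinearMap.mem_ker, Matrix.mulVecLin_apply] at hw
    obtain ⟨f, g, c, d, hwd⟩ := reduce R (IsLocalRing.maximalIdeal R) p q hp w
    have h0 : Matrix.mulVec (nodeAlpha R p q)
        ![NodeRing.ofX R (p * q) f, NodeRing.ofY R (p * q) g] = 0 := by
      have := hw
      rw [hwd, Matrix.mulVec_add, Matrix.mulVec_add, Matrix.mulVec_smul, Matrix.mulVec_smul,
        alpha_gen1, alpha_gen2, smul_zero, smul_zero, add_zero, add_zero] at this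
      exact this
    obtain ⟨hf, hg⟩ := restricted_injective R (IsLocalRing.maximalIdeal R) p q hp f g h0
    rw [hwd, hf, hg, ofX_zero, ofY_zero]
    have hz : (![0, 0] : Fin 2 → NodeRing R (p * q)) = 0 := by
      funext i
      fin_cases i <;> rfl
    rw [hz, zero_add]
    exact Submodule.add_mem _
      (Submodule.smul_mem _ _ (Submodule.subset_span (by simp)))
      (Submodule.smul_mem _ _ (Submodule.subset_span (by simp)))
  · rw [Submodule.span_le]
    rintro w (rfl | rfl)
    · rw [SetLike.mem_coe, LinearMap.mem_ker, Matrix.mulVecLin_apply]
      exact alpha_gen1 R p q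
    · rw [SetLike.mem_coe, LinearMap.mem_ker, Matrix.mulVecLin_apply]
      exact alpha_gen2 R p q

end Groth.Agent.S18432
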