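import Groth.Statements.S18433
import Mathlib
import Groth.Agent.Lib.Helper16NodeR
-- import your own Groth.Agent.* helpers here

set_option autoImplicit false
set_option linter.style.haveILetI false
set_option linter.unusedSectionVars false
universe u
open SpinCurv

namespace Groth.Agent.S18433

open Groth.Agent.Lib.Helper16NodeR


/-- Let R be a complete Noetherian local ring, p, q elements of its maximal ideal, A = R[[x, y]]/(xy -
pq), and α(p, q) the endomorphism (a, b) ↦ (x a + p b, q a + y b) of A². Restrict α(p, q) to pairs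
(f, g) with f a power series in x alone and g a power series in y alone: the resulting map R[[x]] ×
R[[y]] → A², (f, g) ↦ (x f + p g, q f + y g), is injective and has the same image as α(p, q). Thus
the image E(p, q) of α(p, q) is identified, R-linearly, with R[[x]] ⊕ R[[y]]. -/
theorem result (R : Type u) [CommRing R] [IsNoetherianRing R] [IsLocalRing R]
    [IsAdicComplete (IsLocalRing.maximalIdeal R) R]
    (p q : R) (hp : p ∈ IsLocalRing.maximalIdeal R) (hq : q ∈ IsLocalRing.maximalIdeal R) :
    Function.Injective (fun fg : PowerSeries R × PowerSeries R =>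
        Matrix.mulVec (SpinCurv.nodeAlpha R p q)
          ![SpinCurv.NodeRing.ofX R (p * q) fg.1, SpinCurv.NodeRing.ofY R (p * q) fg.2]) ∧
    Set.range (fun fg : PowerSeries R × PowerSeries R =>
        Matrix.mulVec (SpinCurv.nodeAlpha R p q)
          ![SpinCurv.NodeRing.ofX R (p * q) fg.1, SpinCurv.NodeRing.ofY R (p * q) fg.2]) =
      Set.range (Matrix.mulVec (SpinCurv.nodeAlpha R p q)) := by
  constructor
  · rintro ⟨f, g⟩ ⟨f', g'⟩ h
    simp only at h
    have h0 : Matrix.mulVec (nodeAlpha R p q)
        ![NodeRing.ofX R (p * q) (f - f'), NodeRing.ofY R (p * q) (g - g')] = 0 := by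
      have e : ![NodeRing.ofX R (p * q) (f - f'), NodeRing.ofY R (p * q) (g - g')]
          = ![NodeRing.ofX R (p * q) f, NodeRing.ofY R (p * q) g]
            - ![NodeRing.ofX R (p * q) f', NodeRing.ofY R (p * q) g'] := by
        funext i
        fin_cases i
        · simp only [Fin.zero_eta, Matrix.cons_val_zero, Pi.sub_apply]
          rw [ofX_sub]
        · simp only [Fin.mk_one, Matrix.cons_val_one, Matrix.cons_val_fin_one, Pi.sub_apply]
          rw [ofY_sub]
      rw [e, Matrix.mulVec_sub, h, sub_self]
    obtain ⟨hf, hg⟩ := restricted_injective R (IsLocalRing.maximalIdeal R) p q hp _ _ h0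
    rw [Prod.mk.injEq]
    exact ⟨sub_eq_zero.1 hf, sub_eq_zero.1 hg⟩
  · ext v
    constructor
    · rintro ⟨fg, rfl⟩
      exact ⟨_, rfl⟩
    · rintro ⟨w, rfl⟩
      obtain ⟨f, g, c, d, hwd⟩ := reduce R (IsLocalRing.maximalIdeal R) p q hp w
      refine ⟨(f, g), ?_⟩
      simp only
      conv_rhs => rw [hwd, Matrix.mulVec_add, Matrix.mulVec_add, Matrix.mulVec_smul,
        Matrix.mulVec_smul, alpha_gen1, alpha_gen2, smul_zero, smul_zero, add_zero, add_zero]

end Groth.Agent.S18433
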