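import Groth.Statements.S18434
import Mathlib
-- import your own Groth.Agent.* helpers here

set_option autoImplicit false
set_option linter.style.haveILetI false
set_option linter.unusedSectionVars false
universe u
open SpinCurv

namespace Groth.Agent.S18434

open MvPowerSeries Finsupp

variable (k : Type u) [Field k]

/-- the exponent (1,1). -/
noncomputable def m11 : Fin 2 →₀ ℕ := single 0 1 + single 1 1

lemma m11_le (n : Fin 2 →₀ ℕ) : m11 ≤ n ↔ 1 ≤ n 0 ∧ 1 ≤ n 1 := by
  rw [Finsupp.le_def, Fin.forall_fin_two]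
  simp [m11]

lemma X0X1 : (X 0 * X 1 : MvPowerSeries (Fin 2) k) = monomial m11 1 := by
  rw [X_def, X_def, monomial_mul_monomial, one_mul, m11]

lemma eq_single0 (n : Fin 2 →₀ ℕ) (h : n 1 = 0) : n = single 0 (n 0) := by
  ext i
  fin_cases i <;> simp [h]

lemma eq_single1 (n : Fin 2 →₀ ℕ) (h : n 0 = 0) : n = single 1 (n 1) := by
  ext i
  fin_cases i <;> simp [h]

/-- the coefficient extraction map. -/
noncomputable def Phi (u v : ℕ) : MvPowerSeries (Fin 2) k →ₗ[k] (Fin u → k) × (Fin (v - 1) → k) :=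
  LinearMap.prod
    (LinearMap.pi fun i : Fin u => MvPowerSeries.coeff (R := k) (single (0 : Fin 2) (i : ℕ)))
    (LinearMap.pi fun j : Fin (v - 1) => MvPowerSeries.coeff (R := k) (single (1 : Fin 2) ((j : ℕ) + 1)))

lemma Phi_fst (u v : ℕ) (f : MvPowerSeries (Fin 2) k) (i : Fin u) :
    (Phi k u v f).1 i = f (single (0 : Fin 2) (i : ℕ)) := rfl

lemma Phi_snd (u v : ℕ) (f : MvPowerSeries (Fin 2) k) (j : Fin (v - 1)) :
    (Phi k u v f).2 j = f (single (1 : Fin 2) ((j : ℕ) + 1)) := rfl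

lemma Phi_surj (u v : ℕ) : Function.Surjective (Phi k u v) := by
  classical
  rintro ⟨a, b⟩
  let g : MvPowerSeries (Fin 2) k := fun n => if h1 : n 1 = 0 then (if h : n 0 < u then a ⟨n 0, h⟩ else 0) else
      (if h0 : n 0 = 0 then (if h : n 1 - 1 < v - 1 then b ⟨n 1 - 1, h⟩ else 0) else 0)
  refine ⟨g, ?_⟩
  ext i
  · rw [Phi_fst]
    simp [g]
  · rw [Phi_snd]
    simp [g]

lemma mem_ker_Phi (u v : ℕ) (f : MvPowerSeries (Fin 2) k) :
    f ∈ LinearMap.ker (Phi k u v) ↔
      (∀ i, i < u → f (single (0 : Fin 2) i) = 0) ∧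
      (∀ j, j < v - 1 → f (single (1 : Fin 2) (j + 1)) = 0) := by
  rw [LinearMap.mem_ker]
  constructor
  · intro h
    constructor
    · intro i hi
      have := congrFun (congrArg Prod.fst h) ⟨i, hi⟩
      rwa [Phi_fst] at this
    · intro j hj
      have := congrFun (congrArg Prod.snd h) ⟨j, hj⟩
      rwa [Phi_snd] at this
  · rintro ⟨h1, h2⟩
    ext i
    · rw [Phi_fst]; exact h1 _ i.2
    · rw [Phi_snd]; exact h2 _ i.2

/-- the monomial ideal. -/
noncomputable def I' (u v : ℕ) : Ideal (MvPowerSeries (Fin 2) k) :=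
  Ideal.span {X 0 * X 1, X 0 ^ u, X 1 ^ v}

lemma mem_I'_of_ker (u v : ℕ) (hu : 1 ≤ u) (hv : 1 ≤ v) (f : MvPowerSeries (Fin 2) k)
    (hf : f ∈ LinearMap.ker (Phi k u v)) : f ∈ I' k u v := by
  classical
  rw [mem_ker_Phi] at hf
  obtain ⟨h1, h2⟩ := hf
  let G : MvPowerSeries (Fin 2) k := fun n => f (n + m11)
  let H : MvPowerSeries (Fin 2) k := fun n => if n 1 = 0 then f (n + single 0 u) else 0
  let K : MvPowerSeries (Fin 2) k := fun n => if n 0 = 0 then f (n + single 1 v) else 0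
  have key : f = G * (X 0 * X 1) + H * X 0 ^ u + K * X 1 ^ v := by
    ext n
    rw [X0X1, X_pow_eq, X_pow_eq, map_add, map_add, coeff_mul_monomial, coeff_mul_monomial,
      coeff_mul_monomial, mul_one, mul_one, mul_one]
    simp only [m11_le, single_le_iff]
    change f n = (if 1 ≤ n 0 ∧ 1 ≤ n 1 then G (n - m11) else 0) +
      (if u ≤ n 0 then H (n - single 0 u) else 0) + (if v ≤ n 1 then K (n - single 1 v) else 0)
    have e1 : 1 ≤ n 0 ∧ 1 ≤ n 1 → G (n - m11) = f n := by
      intro h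
      change f (n - m11 + m11) = f n
      rw [tsub_add_cancel_of_le ((m11_le n).mpr h)]
    have e2 : u ≤ n 0 → H (n - single 0 u) = if n 1 = 0 then f n else 0 := by
      intro h
      change (if (n - single 0 u : Fin 2 →₀ ℕ) 1 = 0 then f (n - single 0 u + single 0 u) else 0) = _
      rw [tsub_add_cancel_of_le (single_le_iff.mpr h)]
      simp
    have e3 : v ≤ n 1 → K (n - single 1 v) = if n 0 = 0 then f n else 0 := by
      intro h
      change (if (n - single 1 v : Fin 2 →₀ ℕ) 0 = 0 then f (n - single 1 v + single 1 v) else 0) = _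
      rw [tsub_add_cancel_of_le (single_le_iff.mpr h)]
      simp
    by_cases hn1 : n 1 = 0
    · have hne : ¬ (1 ≤ n 0 ∧ 1 ≤ n 1) := by omega
      have hv' : ¬ v ≤ n 1 := by omega
      rw [if_neg hne, if_neg hv', zero_add, add_zero]
      by_cases hun : u ≤ n 0
      · rw [if_pos hun, e2 hun, if_pos hn1]
      · rw [if_neg hun, eq_single0 n hn1]
        exact h1 _ (by omega)
    · by_cases hn0 : n 0 = 0
      · have hne : ¬ (1 ≤ n 0 ∧ 1 ≤ n 1) := by omega
        have hu' : ¬ u ≤ n 0 := by omega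
        rw [if_neg hne, if_neg hu', zero_add, zero_add]
        by_cases hvn : v ≤ n 1
        · rw [if_pos hvn, e3 hvn, if_pos hn0]
        · rw [if_neg hvn, eq_single1 n hn0]
          obtain ⟨j, hj⟩ : ∃ j, n 1 = j + 1 := ⟨n 1 - 1, by omega⟩
          rw [hj]
          exact h2 _ (by omega)
      · have hpos : 1 ≤ n 0 ∧ 1 ≤ n 1 := by omega
        rw [if_pos hpos, e1 hpos]
        by_cases hun : u ≤ n 0
        · by_cases hvn : v ≤ n 1
          · rw [if_pos hun, if_pos hvn, e2 hun, e3 hvn, if_neg hn1, if_neg hn0, add_zero, add_zero]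
          · rw [if_pos hun, if_neg hvn, e2 hun, if_neg hn1, add_zero, add_zero]
        · by_cases hvn : v ≤ n 1
          · rw [if_neg hun, if_pos hvn, e3 hvn, if_neg hn0, add_zero, add_zero]
          · rw [if_neg hun, if_neg hvn, add_zero, add_zero]
  rw [key, I']
  refine Ideal.add_mem _ (Ideal.add_mem _ ?_ ?_) ?_
  · exact Ideal.mul_mem_left _ _ (Ideal.subset_span (by simp))
  · exact Ideal.mul_mem_left _ _ (Ideal.subset_span (by simp))
  · exact Ideal.mul_mem_left _ _ (Ideal.subset_span (by simp))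

lemma mem_ker_of_I' (u v : ℕ) (hu : 1 ≤ u) (hv : 1 ≤ v) (f : MvPowerSeries (Fin 2) k)
    (hf : f ∈ I' k u v) : f ∈ LinearMap.ker (Phi k u v) := by
  classical
  rw [I', Ideal.mem_span_insert] at hf
  obtain ⟨a, z, hz, rfl⟩ := hf
  rw [Ideal.mem_span_insert] at hz
  obtain ⟨b, z', hz', rfl⟩ := hz
  rw [Ideal.mem_span_singleton'] at hz'
  obtain ⟨c, rfl⟩ := hz'
  rw [mem_ker_Phi]
  constructor
  · intro i hi
    change coeff (single 0 i) (a * (X 0 * X 1) + (b * X 0 ^ u + c * X 1 ^ v)) = 0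
    rw [X0X1, X_pow_eq, X_pow_eq, map_add, map_add, coeff_mul_monomial, coeff_mul_monomial,
      coeff_mul_monomial]
    simp only [m11_le, single_le_iff]
    have h1 : ¬ (1 ≤ (single (0 : Fin 2) i) 0 ∧ 1 ≤ (single (0 : Fin 2) i) 1) := by simp
    have h2 : ¬ (u ≤ (single (0 : Fin 2) i) 0) := by simp; omega
    have h3 : ¬ (v ≤ (single (0 : Fin 2) i) 1) := by simp; omega
    rw [if_neg h1, if_neg h2, if_neg h3, add_zero, add_zero]
  · intro j hj
    change coeff (single 1 (j + 1)) (a * (X 0 * X 1) + (b * X 0 ^ u + c * X 1 ^ v)) = 0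
    rw [X0X1, X_pow_eq, X_pow_eq, map_add, map_add, coeff_mul_monomial, coeff_mul_monomial,
      coeff_mul_monomial]
    simp only [m11_le, single_le_iff]
    have h1 : ¬ (1 ≤ (single (1 : Fin 2) (j + 1)) 0 ∧ 1 ≤ (single (1 : Fin 2) (j + 1)) 1) := by simp
    have h2 : ¬ (u ≤ (single (1 : Fin 2) (j + 1)) 0) := by simp; omega
    have h3 : ¬ (v ≤ (single (1 : Fin 2) (j + 1)) 1) := by simp; omega
    rw [if_neg h1, if_neg h2, if_neg h3, add_zero, add_zero]



lemma ker_Phi_eq (u v : ℕ) (hu : 1 ≤ u) (hv : 1 ≤ v) :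
    (I' k u v).restrictScalars k = LinearMap.ker (Phi k u v) := by
  ext f
  rw [Submodule.restrictScalars_mem]
  exact ⟨mem_ker_of_I' k u v hu hv f, mem_I'_of_ker k u v hu hv f⟩

lemma finrank_quot_I' (u v : ℕ) (hu : 1 ≤ u) (hv : 1 ≤ v) :
    Module.finrank k (MvPowerSeries (Fin 2) k ⧸ I' k u v) = u + v - 1 := by
  have e1 : (MvPowerSeries (Fin 2) k ⧸ (I' k u v).restrictScalars k) ≃ₗ[k]
      (MvPowerSeries (Fin 2) k ⧸ I' k u v) :=
    Submodule.Quotient.restrictScalarsEquiv k (I' k u v)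
  have e2 : (MvPowerSeries (Fin 2) k ⧸ (I' k u v).restrictScalars k) ≃ₗ[k]
      (MvPowerSeries (Fin 2) k ⧸ LinearMap.ker (Phi k u v)) :=
    Submodule.quotEquivOfEq _ _ (ker_Phi_eq k u v hu hv)
  have e3 := (Phi k u v).quotKerEquivOfSurjective (Phi_surj k u v)
  rw [← e1.finrank_eq, e2.finrank_eq, e3.finrank_eq, Module.finrank_prod, Module.finrank_pi,
    Module.finrank_pi]
  simp
  omega

lemma sup_eq (u v : ℕ) (w : k) (hw : w ≠ 0) :
    Ideal.span {(X 0 * X 1 - C (0 : k) : MvPowerSeries (Fin 2) k)} ⊔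
      Ideal.span {(X 0 ^ u : MvPowerSeries (Fin 2) k), C w * X 1 ^ v} = I' k u v := by
  rw [map_zero, sub_zero, I']
  apply le_antisymm
  · rw [sup_le_iff, Ideal.span_le, Ideal.span_le]
    constructor
    · rintro x hx
      rw [Set.mem_singleton_iff] at hx
      subst hx
      exact Ideal.subset_span (by simp)
    · rintro x hx
      rcases hx with rfl | hx
      · exact Ideal.subset_span (by simp)
      · rw [Set.mem_singleton_iff] at hx
        subst hx
        exact Ideal.mul_mem_left _ _ (Ideal.subset_span (by simp))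
  · rw [Ideal.span_le]
    rintro x hx
    rcases hx with rfl | rfl | hx
    · exact Ideal.mem_sup_left (Ideal.subset_span (by simp))
    · exact Ideal.mem_sup_right (Ideal.subset_span (by simp))
    · rw [Set.mem_singleton_iff] at hx
      subst hx
      have : (X 1 ^ v : MvPowerSeries (Fin 2) k) = C w⁻¹ * (C w * X 1 ^ v) := by
        rw [← mul_assoc, ← map_mul, inv_mul_cancel₀ hw, map_one, one_mul]
      have h2 : C w⁻¹ * (C w * X 1 ^ v) ∈ Ideal.span {(X 0 * X 1 : MvPowerSeries (Fin 2) k)} ⊔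
          Ideal.span {(X 0 ^ u : MvPowerSeries (Fin 2) k), C w * X 1 ^ v} :=
        Ideal.mem_sup_right (Ideal.mul_mem_left _ _ (Ideal.subset_span (by simp)))
      rwa [← this] at h2


/-- Let k be a field, u, v ≥ 1 integers and w ∈ k nonzero. In the ring A = k[[x, y]]/(xy), the quotient
A/(x^u, w y^v) has dimension u + v - 1 over k (a basis is 1, x, …, x^{u-1}, y, …, y^{v-1}); this is
the length of the cokernel at the node of a map whose image is generated by x^u and w y^v. -/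
theorem result (k : Type u) [Field k] (u v : ℕ) (hu : 1 ≤ u) (hv : 1 ≤ v)
    (w : k) (hw : w ≠ 0) :
    Module.finrank k (SpinCurv.NodeRing k 0 ⧸
      Ideal.span {SpinCurv.NodeRing.x k 0 ^ u, algebraMap k (SpinCurv.NodeRing k 0) w * SpinCurv.NodeRing.y k 0 ^ v}) =
      u + v - 1 := by
  set I0 : Ideal (MvPowerSeries (Fin 2) k) :=
    Ideal.span {(X 0 * X 1 - C (0 : k) : MvPowerSeries (Fin 2) k)} with hI0
  set J' : Ideal (MvPowerSeries (Fin 2) k) :=
    Ideal.span {(X 0 ^ u : MvPowerSeries (Fin 2) k), C w * X 1 ^ v} with hJ'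
  have hJ : Ideal.span {SpinCurv.NodeRing.x k 0 ^ u,
      algebraMap k (SpinCurv.NodeRing k 0) w * SpinCurv.NodeRing.y k 0 ^ v} =
      J'.map (Ideal.Quotient.mkₐ k I0) := by
    rw [hJ', Ideal.map_span]
    congr 1
    rw [Set.image_pair]
    rfl
  have e1 := Ideal.quotientEquivAlgOfEq k hJ
  have e2 := DoubleQuot.quotQuotEquivQuotSupₐ k I0 J'
  have e3 := Ideal.quotientEquivAlgOfEq k (sup_eq k u v w hw)
  rw [e1.toLinearEquiv.finrank_eq, e2.toLinearEquiv.finrank_eq, e3.toLinearEquiv.finrank_eq]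
  exact finrank_quot_I' k u v hu hv

end Groth.Agent.S18434
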