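import Groth.Statements.S18435
import Mathlib
-- import your own Groth.Agent.* helpers here

set_option autoImplicit false
set_option linter.style.haveILetI false
set_option linter.unusedSectionVars false
universe u
open SpinCurv

namespace Groth.Agent.S18435

open Polynomial

variable (k : Type u) [Field k]

/-- the exponent (1,1). -/
noncomputable def m11 : Fin 2 →₀ ℕ := Finsupp.single 0 1 + Finsupp.single 1 1

lemma m11_le (n : Fin 2 →₀ ℕ) : m11 ≤ n ↔ 1 ≤ n 0 ∧ 1 ≤ n 1 := by
  rw [Finsupp.le_def, Fin.forall_fin_two]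
  simp [m11]

lemma eq_single0 (n : Fin 2 →₀ ℕ) (h : n 1 = 0) : n = Finsupp.single 0 (n 0) := by
  ext i
  fin_cases i <;> simp [h]

lemma eq_single1 (n : Fin 2 →₀ ℕ) (h : n 0 = 0) : n = Finsupp.single 1 (n 1) := by
  ext i
  fin_cases i <;> simp [h]

lemma X0X1 : (MvPolynomial.X 0 * MvPolynomial.X 1 : MvPolynomial (Fin 2) k) =
    MvPolynomial.monomial m11 1 := by
  rw [MvPolynomial.X, MvPolynomial.X, MvPolynomial.monomial_mul, one_mul, m11]

/-- polynomials with no pure powers are multiples of `X0 X1`. -/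
lemma mem_span_of_coeff (P : MvPolynomial (Fin 2) k)
    (h0 : ∀ i, MvPolynomial.coeff (Finsupp.single 0 i) P = 0)
    (h1 : ∀ j, MvPolynomial.coeff (Finsupp.single 1 j) P = 0) :
    P ∈ Ideal.span {(MvPolynomial.X 0 * MvPolynomial.X 1 - MvPolynomial.C 0 :
      MvPolynomial (Fin 2) k)} := by
  have hmod : MvPolynomial.modMonomial P m11 = 0 := by
    ext n
    by_cases hn : m11 ≤ n
    · rw [MvPolynomial.coeff_modMonomial_of_le _ hn, MvPolynomial.coeff_zero]
    · rw [MvPolynomial.coeff_modMonomial_of_not_le _ hn, MvPolynomial.coeff_zero]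
      rw [m11_le] at hn
      by_cases hn1 : n 1 = 0
      · rw [eq_single0 n hn1]; exact h0 _
      · have hn0 : n 0 = 0 := by omega
        rw [eq_single1 n hn0]; exact h1 _
  have := MvPolynomial.divMonomial_add_modMonomial P m11
  rw [hmod, add_zero] at this
  rw [← this, map_zero, sub_zero, X0X1]
  exact Ideal.mul_mem_right _ _ (Ideal.subset_span rfl)

lemma coeff_aeval0 (P : MvPolynomial (Fin 2) k) (i : ℕ) :
    (MvPolynomial.aeval ![(X : k[X]), 0] P).coeff i =
      MvPolynomial.coeff (Finsupp.single 0 i) P := by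
  classical
  induction P using MvPolynomial.induction_on' with
  | monomial s a =>
    rw [MvPolynomial.aeval_monomial, Finsupp.prod_fintype _ _ (fun _ => pow_zero _),
      Fin.prod_univ_two, MvPolynomial.coeff_monomial]
    simp only [Matrix.cons_val_zero, Matrix.cons_val_one, Polynomial.algebraMap_eq]
    by_cases hs1 : s 1 = 0
    · rw [hs1, pow_zero, mul_one, Polynomial.coeff_C_mul, Polynomial.coeff_X_pow]
      by_cases hi : i = s 0
      · rw [if_pos hi, mul_one, if_pos]
        rw [eq_single0 s hs1, hi]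
      · rw [if_neg hi, mul_zero, if_neg]
        intro h
        apply hi
        rw [h]; simp
    · rw [zero_pow hs1, mul_zero, mul_zero, Polynomial.coeff_zero, if_neg]
      intro h
      apply hs1
      rw [h]; simp
  | add p q hp hq =>
    rw [map_add, Polynomial.coeff_add, MvPolynomial.coeff_add, hp, hq]

lemma coeff_aeval1 (P : MvPolynomial (Fin 2) k) (i : ℕ) :
    (MvPolynomial.aeval ![(0 : k[X]), X] P).coeff i =
      MvPolynomial.coeff (Finsupp.single 1 i) P := by
  classical
  induction P using MvPolynomial.induction_on' with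
  | monomial s a =>
    rw [MvPolynomial.aeval_monomial, Finsupp.prod_fintype _ _ (fun _ => pow_zero _),
      Fin.prod_univ_two, MvPolynomial.coeff_monomial]
    simp only [Matrix.cons_val_zero, Matrix.cons_val_one, Polynomial.algebraMap_eq]
    by_cases hs0 : s 0 = 0
    · rw [hs0, pow_zero, one_mul, Polynomial.coeff_C_mul, Polynomial.coeff_X_pow]
      by_cases hi : i = s 1
      · rw [if_pos hi, mul_one, if_pos]
        rw [eq_single1 s hs0, hi]
      · rw [if_neg hi, mul_zero, if_neg]
        intro h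
        apply hi
        rw [h]; simp
    · rw [zero_pow hs0, zero_mul, mul_zero, Polynomial.coeff_zero, if_neg]
      intro h
      apply hs0
      rw [h]; simp
  | add p q hp hq =>
    rw [map_add, Polynomial.coeff_add, MvPolynomial.coeff_add, hp, hq]


/-- the projection `k[x,y]/(xy) → k[X]`, `x ↦ X`, `y ↦ 0`. -/
noncomputable def pi0 : SpinCurv.PolyNodeRing k 0 →ₐ[k] k[X] :=
  Ideal.Quotient.liftₐ _ (MvPolynomial.aeval ![(X : k[X]), 0]) (by
    intro a ha
    have hle : Ideal.span {(MvPolynomial.X 0 * MvPolynomial.X 1 - MvPolynomial.C 0 :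
        MvPolynomial (Fin 2) k)} ≤ RingHom.ker (MvPolynomial.aeval ![(X : k[X]), 0]) := by
      rw [Ideal.span_le, Set.singleton_subset_iff, SetLike.mem_coe, RingHom.mem_ker]
      simp
    exact hle ha)

/-- the projection `k[x,y]/(xy) → k[X]`, `x ↦ 0`, `y ↦ X`. -/
noncomputable def pi1 : SpinCurv.PolyNodeRing k 0 →ₐ[k] k[X] :=
  Ideal.Quotient.liftₐ _ (MvPolynomial.aeval ![(0 : k[X]), X]) (by
    intro a ha
    have hle : Ideal.span {(MvPolynomial.X 0 * MvPolynomial.X 1 - MvPolynomial.C 0 :
        MvPolynomial (Fin 2) k)} ≤ RingHom.ker (MvPolynomial.aeval ![(0 : k[X]), X]) := by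
      rw [Ideal.span_le, Set.singleton_subset_iff, SetLike.mem_coe, RingHom.mem_ker]
      simp
    exact hle ha)

lemma pi0_mk (P : MvPolynomial (Fin 2) k) :
    pi0 k (Ideal.Quotient.mk _ P) = MvPolynomial.aeval ![(X : k[X]), 0] P := rfl

lemma pi1_mk (P : MvPolynomial (Fin 2) k) :
    pi1 k (Ideal.Quotient.mk _ P) = MvPolynomial.aeval ![(0 : k[X]), X] P := rfl

lemma eq_zero_of_pi (b : SpinCurv.PolyNodeRing k 0) (h0 : pi0 k b = 0) (h1 : pi1 k b = 0) :
    b = 0 := by
  obtain ⟨P, rfl⟩ := Ideal.Quotient.mk_surjective b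
  rw [pi0_mk] at h0
  rw [pi1_mk] at h1
  rw [Ideal.Quotient.eq_zero_iff_mem]
  apply mem_span_of_coeff
  · intro i
    rw [← coeff_aeval0, h0, Polynomial.coeff_zero]
  · intro j
    rw [← coeff_aeval1, h1, Polynomial.coeff_zero]

lemma algHom_ext' {C : Type*} [Semiring C] [Algebra k C]
    (φ ψ : SpinCurv.PolyNodeRing k 0 →ₐ[k] C)
    (hx : φ (SpinCurv.PolyNodeRing.x k 0) = ψ (SpinCurv.PolyNodeRing.x k 0))
    (hy : φ (SpinCurv.PolyNodeRing.y k 0) = ψ (SpinCurv.PolyNodeRing.y k 0)) : φ = ψ := by
  apply Ideal.Quotient.algHom_ext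
  apply MvPolynomial.algHom_ext
  intro i
  fin_cases i
  · exact hx
  · exact hy

lemma pi_coeff_zero (b : SpinCurv.PolyNodeRing k 0) : (pi0 k b).coeff 0 = (pi1 k b).coeff 0 := by
  have : (Polynomial.aeval (0 : k)).comp (pi0 k) = (Polynomial.aeval (0 : k)).comp (pi1 k) := by
    apply algHom_ext'
    · simp [pi0_mk, pi1_mk]
    · simp [pi0_mk, pi1_mk]
  have h := DFunLike.congr_fun this b
  simp only [AlgHom.comp_apply] at h
  rw [Polynomial.coeff_zero_eq_aeval_zero, Polynomial.coeff_zero_eq_aeval_zero]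
  exact h


lemma toLaurent_coeff_nat (P : k[X]) (m : ℕ) : (toLaurent P).coeff (m : ℤ) = P.coeff m := by
  rw [LaurentPolynomial.coeff_toLaurent]
  exact Finsupp.mapDomain_apply Nat.castEmbedding.injective _ _

lemma toLaurent_coeff_neg (P : k[X]) (n : ℤ) (hn : n < 0) : (toLaurent P).coeff n = 0 := by
  rw [LaurentPolynomial.coeff_toLaurent]
  apply Finsupp.mapDomain_of_notMem_range
  rintro ⟨m, hm⟩
  simp only [Nat.castEmbedding_apply] at hm
  omega

lemma laurent_key (P Q : k[X]) (hP : P.coeff 0 = 0) (hQ : Q.coeff 0 = 0)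
    (h : toLaurent P = LaurentPolynomial.T 1 * LaurentPolynomial.invert (toLaurent Q)) :
    P = 0 ∧ Q = 0 := by
  obtain ⟨Q', rfl⟩ := Polynomial.X_dvd_iff.mpr hQ
  rw [map_mul, Polynomial.toLaurent_X, map_mul, LaurentPolynomial.invert_T, ← mul_assoc,
    ← LaurentPolynomial.T_add] at h
  norm_num at h
  have hP0 : P = 0 := by
    ext m
    rw [Polynomial.coeff_zero]
    rcases Nat.eq_zero_or_pos m with rfl | hm
    · exact hP
    · rw [← toLaurent_coeff_nat, h, LaurentPolynomial.invert_apply]
      exact toLaurent_coeff_neg k _ _ (by omega)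
  refine ⟨hP0, ?_⟩
  rw [hP0, map_zero] at h
  have h2 : toLaurent Q' = 0 := by
    have := congrArg LaurentPolynomial.invert h
    rw [map_zero] at this
    have h3 := LaurentPolynomial.involutive_invert (R := k) (toLaurent Q')
    rw [← h3, ← this]
  have h4 : Q' = 0 := Polynomial.toLaurent_injective (by rw [h2, map_zero])
  rw [h4, mul_zero]


/-- Let k be a field and A = k[x, y]/(xy) the node, with the two affine charts U = Spec k[s, y]/(sy) and
V = Spec k[t, x]/(tx) of the curve obtained by the (p, q)-construction with p = q = 0, glued along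
k[s, s⁻¹] by t = s⁻¹ (y ↦ 0 from U, x ↦ 0 from V), and with A → O(U) given by x ↦ 0, y ↦ y and A →
O(V) by x ↦ x, y ↦ 0. A global section of O(1) is a pair (g, f) with g = s f on U ∩ V. If such a
pair is annihilated by both x and y (acting through the two restriction maps), then g = 0 and f = 0;
so the module of global sections of O(1) has no nonzero element killed by the maximal ideal (x, y),
i.e. its direct image on the node is torsion-free there. All three coordinate rings are written as
the quotient of the polynomial ring in two variables by the product of the variables, and the four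
restriction homomorphisms are k-algebra maps pinned by their values on generators. (The published
proof reduces the torsion-freeness of the direct image of O(1), for general R, p, q, to exactly this
case of a field with p = q = 0.) -/
theorem result (k : Type u) [Field k]
    (rU : SpinCurv.PolyNodeRing k 0 →ₐ[k] SpinCurv.PolyNodeRing k 0)
    (hrUx : rU (SpinCurv.PolyNodeRing.x k 0) = 0)
    (hrUy : rU (SpinCurv.PolyNodeRing.y k 0) = SpinCurv.PolyNodeRing.y k 0)
    (rV : SpinCurv.PolyNodeRing k 0 →ₐ[k] SpinCurv.PolyNodeRing k 0)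
    (hrVx : rV (SpinCurv.PolyNodeRing.x k 0) = SpinCurv.PolyNodeRing.y k 0)
    (hrVy : rV (SpinCurv.PolyNodeRing.y k 0) = 0)
    (gU : SpinCurv.PolyNodeRing k 0 →ₐ[k] LaurentPolynomial k)
    (hgUs : gU (SpinCurv.PolyNodeRing.x k 0) = LaurentPolynomial.T 1)
    (hgUy : gU (SpinCurv.PolyNodeRing.y k 0) = 0)
    (gV : SpinCurv.PolyNodeRing k 0 →ₐ[k] LaurentPolynomial k)
    (hgVt : gV (SpinCurv.PolyNodeRing.x k 0) = LaurentPolynomial.T (-1))
    (hgVx : gV (SpinCurv.PolyNodeRing.y k 0) = 0)
    (g f : SpinCurv.PolyNodeRing k 0) (hsec : gU g = LaurentPolynomial.T 1 * gV f)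
    (hx : rU (SpinCurv.PolyNodeRing.x k 0) * g = 0 ∧ rV (SpinCurv.PolyNodeRing.x k 0) * f = 0)
    (hy : rU (SpinCurv.PolyNodeRing.y k 0) * g = 0 ∧ rV (SpinCurv.PolyNodeRing.y k 0) * f = 0) :
    g = 0 ∧ f = 0 := by
  have hgU : gU = (Polynomial.toLaurentAlg).comp (pi0 k) := by
    apply algHom_ext'
    · rw [hgUs]; simp [pi0_mk]
    · rw [hgUy]; simp [pi0_mk]
  have hgV : gV = (LaurentPolynomial.invert.toAlgHom.comp Polynomial.toLaurentAlg).comp (pi0 k) := by
    apply algHom_ext'
    · rw [hgVt]; simp [pi0_mk]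
    · rw [hgVx]; simp [pi0_mk]
  have piy : pi1 k (SpinCurv.PolyNodeRing.y k 0) = X := by simp [pi1_mk]
  have h1g : pi1 k g = 0 := by
    have := hy.1
    rw [hrUy] at this
    have h2 : pi1 k (SpinCurv.PolyNodeRing.y k 0 * g) = 0 := by rw [this]; exact map_zero _
    rw [map_mul, piy] at h2
    exact (mul_eq_zero.mp h2).resolve_left Polynomial.X_ne_zero
  have h1f : pi1 k f = 0 := by
    have := hx.2
    rw [hrVx] at this
    have h2 : pi1 k (SpinCurv.PolyNodeRing.y k 0 * f) = 0 := by rw [this]; exact map_zero _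
    rw [map_mul, piy] at h2
    exact (mul_eq_zero.mp h2).resolve_left Polynomial.X_ne_zero
  have c0g : (pi0 k g).coeff 0 = 0 := by rw [pi_coeff_zero, h1g, Polynomial.coeff_zero]
  have c0f : (pi0 k f).coeff 0 = 0 := by rw [pi_coeff_zero, h1f, Polynomial.coeff_zero]
  have hs : toLaurent (pi0 k g) =
      LaurentPolynomial.T 1 * LaurentPolynomial.invert (toLaurent (pi0 k f)) := by
    have := hsec
    rw [hgU, hgV] at this
    simpa using this
  obtain ⟨h0g, h0f⟩ := laurent_key k _ _ c0g c0f hs
  exact ⟨eq_zero_of_pi k g h0g h1g, eq_zero_of_pi k f h0f h1f⟩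

end Groth.Agent.S18435
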