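import Groth.Statements.S18436
import Mathlib
import Groth.Agent.Lib.Helper16PolyNode
-- import your own Groth.Agent.* helpers here

set_option autoImplicit false
set_option linter.style.haveILetI false
set_option linter.unusedSectionVars false
universe u
open SpinCurv

namespace Groth.Agent.S18436

open Groth.Agent.Lib.Helper16PolyNode LaurentPolynomial

variable (R : Type u) [CommRing R]

/-- index-dependent scaling of a finitely supported function. -/
noncomputable def scale (c : ℤ → R) : (ℤ →₀ R) →ₗ[R] (ℤ →₀ R) where
  toFun α := Finsupp.onFinset α.support (fun M => α M * c M) (by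
    intro M hM
    rw [Finsupp.mem_support_iff]
    intro h
    apply hM
    rw [h, zero_mul])
  map_add' α β := by
    ext M
    simp [add_mul]
  map_smul' r α := by
    ext M
    simp [mul_assoc]

@[simp] lemma scale_apply (c : ℤ → R) (α : ℤ →₀ R) (M : ℤ) : scale R c α M = α M * c M := rfl

/-- reflection `i ↦ n - i` on finitely supported functions. -/
noncomputable def refl (n : ℤ) : (ℤ →₀ R) ≃ₗ[R] (ℤ →₀ R) := Finsupp.domLCongr (Equiv.subLeft n)

@[simp] lemma refl_apply (n : ℤ) (α : ℤ →₀ R) (M : ℤ) : refl R n α M = α (n - M) := by
  rw [refl, Finsupp.domLCongr_apply, Finsupp.domCongr_apply, Finsupp.equivMapDomain_apply]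
  congr 1
  simp [Equiv.subLeft]
  ring

lemma refl_single (n : ℤ) (i : ℤ) (c : R) :
    refl R n (Finsupp.single i c) = Finsupp.single (n - i) c := by
  rw [refl, Finsupp.domLCongr_single]
  rfl

/-- finitely supported functions as Laurent polynomials. -/
noncomputable def lau : (ℤ →₀ R) ≃ₗ[R] LaurentPolynomial R :=
  (AddMonoidAlgebra.coeffLinearEquiv R (S := R) (M := ℤ)).symm

lemma lau_single (M : ℤ) (c : R) : lau R (Finsupp.single M c) = C c * T M := by
  rw [← LaurentPolynomial.single_eq_C_mul_T]
  rfl


variable (p q : R)

lemma gU_e (gU : SpinCurv.PolyNodeRing R q →ₐ[R] LaurentPolynomial R)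
    (hgUs : gU (SpinCurv.PolyNodeRing.x R q) = LaurentPolynomial.T 1)
    (hgUy : gU (SpinCurv.PolyNodeRing.y R q) = LaurentPolynomial.C q * LaurentPolynomial.T (-1))
    (M : ℤ) : gU (e R q M) = C (q ^ (-M).toNat) * T M := by
  rw [e, map_mul, map_pow, map_pow, hgUs, hgUy, mul_pow, T_pow, T_pow, ← map_pow, mul_comm (T _),
    mul_assoc, ← T_add]
  congr 2
  omega

lemma gV_e (gV : SpinCurv.PolyNodeRing R p →ₐ[R] LaurentPolynomial R)
    (hgVt : gV (SpinCurv.PolyNodeRing.x R p) = LaurentPolynomial.T (-1))
    (hgVx : gV (SpinCurv.PolyNodeRing.y R p) = LaurentPolynomial.C p * LaurentPolynomial.T 1)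
    (i : ℤ) : gV (e R p i) = C (p ^ (-i).toNat) * T (-i) := by
  rw [e, map_mul, map_pow, map_pow, hgVt, hgVx, mul_pow, T_pow, T_pow, ← map_pow, mul_comm (T _),
    mul_assoc, ← T_add]
  congr 2
  omega

lemma gU_comp (gU : SpinCurv.PolyNodeRing R q →ₐ[R] LaurentPolynomial R)
    (hgUs : gU (SpinCurv.PolyNodeRing.x R q) = LaurentPolynomial.T 1)
    (hgUy : gU (SpinCurv.PolyNodeRing.y R q) = LaurentPolynomial.C q * LaurentPolynomial.T (-1)) :
    gU.toLinearMap.comp (nodeEquiv R q).symm.toLinearMap =
      (lau R).toLinearMap.comp (scale R (fun M => q ^ (-M).toNat)) := by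
  apply Finsupp.lhom_ext
  intro M c
  have hs : scale R (fun M => q ^ (-M).toNat) (Finsupp.single M c) =
      Finsupp.single M (c * q ^ (-M).toNat) := by
    ext M'
    rw [scale_apply]
    by_cases h : M = M'
    · subst h; simp
    · simp [Finsupp.single_eq_of_ne (Ne.symm h)]
  rw [LinearMap.comp_apply, LinearMap.comp_apply, LinearEquiv.coe_coe, LinearEquiv.coe_coe,
    nodeEquiv_symm_single, AlgHom.toLinearMap_apply, map_smul, gU_e R q gU hgUs hgUy, hs,
    lau_single, smul_eq_C_mul, map_mul, mul_assoc]

lemma gV_comp (n : ℤ) (gV : SpinCurv.PolyNodeRing R p →ₐ[R] LaurentPolynomial R)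
    (hgVt : gV (SpinCurv.PolyNodeRing.x R p) = LaurentPolynomial.T (-1))
    (hgVx : gV (SpinCurv.PolyNodeRing.y R p) = LaurentPolynomial.C p * LaurentPolynomial.T 1) :
    ((LinearMap.mulLeft R (T n : LaurentPolynomial R)).comp gV.toLinearMap).comp
        (nodeEquiv R p).symm.toLinearMap =
      (lau R).toLinearMap.comp ((refl R n).toLinearMap.comp
        (scale R (fun i => p ^ (-i).toNat))) := by
  apply Finsupp.lhom_ext
  intro i c
  have hs : scale R (fun i => p ^ (-i).toNat) (Finsupp.single i c) =
      Finsupp.single i (c * p ^ (-i).toNat) := by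
    ext M'
    rw [scale_apply]
    by_cases h : i = M'
    · subst h; simp
    · simp [Finsupp.single_eq_of_ne (Ne.symm h)]
  rw [LinearMap.comp_apply, LinearMap.comp_apply, LinearMap.comp_apply, LinearMap.comp_apply,
    LinearEquiv.coe_coe, LinearEquiv.coe_coe, LinearEquiv.coe_coe,
    nodeEquiv_symm_single, AlgHom.toLinearMap_apply, map_smul, gV_e R p gV hgVt hgVx, hs,
    refl_single, lau_single, smul_eq_C_mul, LinearMap.mulLeft_apply, map_mul, sub_eq_add_neg, T_add]
  ring



/-- Let R be a commutative ring and p, q ∈ R, and consider the two affine charts U = Spec R[s, y]/(sy -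
q) and V = Spec R[t, x]/(xt - p) of the curve obtained from the node xy = pq by the (p,
q)-construction, glued along R[s, s⁻¹] by t = s⁻¹ (so y = q s⁻¹ on U and x = p s on V). For an
integer n ≥ -1 the global sections of the twisting sheaf O(n) (equal to vⁿ O on U and to ξⁿ O on V,
ξ = s v) are the pairs (g, f) of functions on U and V with g = sⁿ f on U ∩ V. This R-module, written
as the kernel of the R-linear map (g, f) ↦ g|_{U ∩ V} - sⁿ · f|_{U ∩ V} into R[s, s⁻¹], is free over
R (hence the direct image of O(n) on the node is flat over R). Both chart rings are written as the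
quotient of the polynomial ring in two variables by (first variable)·(second variable) - constant,
and the two restriction homomorphisms to R[s, s⁻¹] are R-algebra maps pinned by their values on
generators. (The published setting has R complete local and p, q in the maximal ideal; the printed
computation uses neither.) -/
theorem result (R : Type u) [CommRing R] (p q : R)
    (gU : SpinCurv.PolyNodeRing R q →ₐ[R] LaurentPolynomial R)
    (hgUs : gU (SpinCurv.PolyNodeRing.x R q) = LaurentPolynomial.T 1)
    (hgUy : gU (SpinCurv.PolyNodeRing.y R q) = LaurentPolynomial.C q * LaurentPolynomial.T (-1))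
    (gV : SpinCurv.PolyNodeRing R p →ₐ[R] LaurentPolynomial R)
    (hgVt : gV (SpinCurv.PolyNodeRing.x R p) = LaurentPolynomial.T (-1))
    (hgVx : gV (SpinCurv.PolyNodeRing.y R p) = LaurentPolynomial.C p * LaurentPolynomial.T 1)
    (n : ℤ) (hn : -1 ≤ n) :
    Module.Free R (LinearMap.ker
      (gU.toLinearMap.comp (LinearMap.fst R (SpinCurv.PolyNodeRing R q) (SpinCurv.PolyNodeRing R p)) -
        (LinearMap.mulLeft R (LaurentPolynomial.T n)).comp
          (gV.toLinearMap.comp (LinearMap.snd R (SpinCurv.PolyNodeRing R q) (SpinCurv.PolyNodeRing R p))))) := by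
  classical
  set L := (gU.toLinearMap.comp (LinearMap.fst R (SpinCurv.PolyNodeRing R q) (SpinCurv.PolyNodeRing R p)) -
        (LinearMap.mulLeft R (LaurentPolynomial.T n)).comp
          (gV.toLinearMap.comp (LinearMap.snd R (SpinCurv.PolyNodeRing R q) (SpinCurv.PolyNodeRing R p))))
    with hL
  let cp : ℤ → R := fun M => p ^ (M - n).toNat
  let cq : ℤ → R := fun M => q ^ (-M).toNat
  let cpV : ℤ → R := fun i => p ^ (-i).toNat
  let J : (ℤ →₀ R) →ₗ[R] SpinCurv.PolyNodeRing R q × SpinCurv.PolyNodeRing R p :=
    LinearMap.prod ((nodeEquiv R q).symm.toLinearMap.comp (scale R cp))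
      ((nodeEquiv R p).symm.toLinearMap.comp ((refl R n).toLinearMap.comp (scale R cq)))
  have hLform : ∀ (α γ : ℤ →₀ R), L ((nodeEquiv R q).symm α, (nodeEquiv R p).symm γ) =
      lau R (scale R cq α) - lau R (refl R n (scale R cpV γ)) := by
    intro α γ
    have h1 := LinearMap.congr_fun (gU_comp R q gU hgUs hgUy) α
    have h2 := LinearMap.congr_fun (gV_comp R p n gV hgVt hgVx) γ
    simp only [LinearMap.comp_apply, LinearEquiv.coe_coe] at h1 h2
    rw [hL, LinearMap.sub_apply, LinearMap.comp_apply, LinearMap.comp_apply, LinearMap.comp_apply,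
      LinearMap.fst_apply, LinearMap.snd_apply, h1, h2]
  have hLJ : ∀ δ, L (J δ) = 0 := by
    intro δ
    have : J δ = ((nodeEquiv R q).symm (scale R cp δ),
        (nodeEquiv R p).symm (refl R n (scale R cq δ))) := rfl
    rw [this, hLform, sub_eq_zero]
    congr 1
    ext M
    rw [scale_apply, scale_apply, refl_apply, scale_apply, refl_apply, scale_apply, sub_sub_cancel]
    have : (-(n - M)).toNat = (M - n).toNat := by congr 1; ring
    simp only [cp, cq, cpV, this]
    ring
  have hJinj : Function.Injective J := by
    rw [injective_iff_map_eq_zero]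
    intro δ hδ
    have h1 : scale R cp δ = 0 := by
      have := congrArg Prod.fst hδ
      exact (nodeEquiv R q).symm.injective (by simpa [J] using this)
    have h2 : scale R cq δ = 0 := by
      have := congrArg Prod.snd hδ
      have h3 : refl R n (scale R cq δ) = 0 :=
        (nodeEquiv R p).symm.injective (by simpa [J] using this)
      exact (refl R n).injective (by rw [h3, map_zero])
    ext M
    rw [Finsupp.zero_apply]
    by_cases hM : M ≤ n
    · have := DFunLike.congr_fun h1 M
      rw [scale_apply, Finsupp.zero_apply] at this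
      have h0 : (M - n).toNat = 0 := by omega
      simpa [cp, h0] using this
    · have := DFunLike.congr_fun h2 M
      rw [scale_apply, Finsupp.zero_apply] at this
      have h0 : (-M).toNat = 0 := by omega
      simpa [cq, h0] using this
  have hrange : LinearMap.range J = LinearMap.ker L := by
    apply le_antisymm
    · rintro _ ⟨δ, rfl⟩
      exact hLJ δ
    · rintro ⟨g, f⟩ hgf
      set α := nodeEquiv R q g with hα
      set γ := nodeEquiv R p f with hγ
      have hg : g = (nodeEquiv R q).symm α := by rw [hα, LinearEquiv.symm_apply_apply]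
      have hf : f = (nodeEquiv R p).symm γ := by rw [hγ, LinearEquiv.symm_apply_apply]
      rw [LinearMap.mem_ker, hg, hf, hLform, sub_eq_zero] at hgf
      have hstar : ∀ M, α M * q ^ (-M).toNat = γ (n - M) * p ^ (-(n - M)).toNat := by
        intro M
        have := DFunLike.congr_fun ((lau R).injective hgf) M
        rwa [scale_apply, refl_apply, scale_apply] at this
      let δ : ℤ →₀ R := Finsupp.onFinset (α.support ∪ γ.support.image (fun i => n - i))
        (fun M => if M ≤ n then α M else γ (n - M)) (by
          intro M hM
          rw [Finset.mem_union, Finsupp.mem_support_iff, Finset.mem_image]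
          by_cases h : M ≤ n
          · rw [if_pos h] at hM
            exact Or.inl hM
          · rw [if_neg h] at hM
            exact Or.inr ⟨n - M, Finsupp.mem_support_iff.mpr hM, by ring⟩)
      refine ⟨δ, ?_⟩
      have e1 : scale R cp δ = α := by
        ext M
        rw [scale_apply, Finsupp.onFinset_apply]
        by_cases h : M ≤ n
        · have h0 : (M - n).toNat = 0 := by omega
          rw [if_pos h]
          simp [cp, h0]
        · have h0 : (-M).toNat = 0 := by omega
          have h1 : (-(n - M)).toNat = (M - n).toNat := by congr 1; ring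
          have := hstar M
          rw [h0, pow_zero, mul_one, h1] at this
          rw [if_neg h, this]
      have e2 : refl R n (scale R cq δ) = γ := by
        ext i
        rw [refl_apply, scale_apply, Finsupp.onFinset_apply, sub_sub_cancel]
        by_cases h : n - i ≤ n
        · rw [if_pos h]
          have := hstar (n - i)
          rw [sub_sub_cancel] at this
          have h0 : (-i).toNat = 0 := by omega
          rw [h0, pow_zero, mul_one] at this
          exact this
        · rw [if_neg h]
          have h0 : (-(n - i)).toNat = 0 := by omega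
          have h0' : (i - n).toNat = 0 := by omega
          simp [cq, h0']
      change ((nodeEquiv R q).symm (scale R cp δ),
        (nodeEquiv R p).symm (refl R n (scale R cq δ))) = (g, f)
      rw [e1, e2, ← hg, ← hf]
  have e := LinearEquiv.ofInjective J hJinj
  rw [← hrange]
  exact Module.Free.of_equiv e

end Groth.Agent.S18436
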