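import Groth.Statements.S18437
import Mathlib
import Groth.Agent.Lib.Helper16PolyNode
import Groth.Agent.Lib.Helper16PolyNodeSect
-- import your own Groth.Agent.* helpers here

set_option autoImplicit false
set_option linter.style.haveILetI false
set_option linter.unusedSectionVars false
universe u
open SpinCurv

namespace Groth.Agent.S18437

open Groth.Agent.Lib.Helper16PolyNode LaurentPolynomial

variable (R : Type u) [CommRing R] (p q : R) (n : ℕ)

/-- the vector with `a` in slot `i` (zero if `i > n`). -/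
noncomputable def sl (i : ℕ) (a : SpinCurv.PolyNodeRing R (p * q)) :
    Fin (n + 1) → SpinCurv.PolyNodeRing R (p * q) :=
  fun j => if (j : ℕ) = i then a else 0

lemma single_eq_sl (i : Fin (n + 1)) (a : SpinCurv.PolyNodeRing R (p * q)) :
    (Pi.single i a : Fin (n + 1) → SpinCurv.PolyNodeRing R (p * q)) = sl R p q n (i : ℕ) a := by
  ext j
  rw [sl, Pi.single_apply]
  simp only [Fin.ext_iff]

lemma sl_smul (i : ℕ) (a b : SpinCurv.PolyNodeRing R (p * q)) :
    a • sl R p q n i b = sl R p q n i (a * b) := by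
  ext j
  simp only [sl, Pi.smul_apply, smul_eq_mul]
  split_ifs <;> simp

lemma sl_smul' (i : ℕ) (r : R) (b : SpinCurv.PolyNodeRing R (p * q)) :
    r • sl R p q n i b = sl R p q n i (r • b) := by
  ext j
  simp only [sl, Pi.smul_apply]
  split_ifs <;> simp

lemma sl_sub (i : ℕ) (a b : SpinCurv.PolyNodeRing R (p * q)) :
    sl R p q n i (a - b) = sl R p q n i a - sl R p q n i b := by
  ext j
  simp only [sl, Pi.sub_apply]
  split_ifs <;> simp

/-- the submodule of relations. -/
noncomputable def N : Submodule (SpinCurv.PolyNodeRing R (p * q))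
    (Fin (n + 1) → SpinCurv.PolyNodeRing R (p * q)) :=
  Submodule.span (SpinCurv.PolyNodeRing R (p * q))
        (Set.range (fun i : Fin n =>
            (Pi.single (Fin.castSucc i) (algebraMap R (SpinCurv.PolyNodeRing R (p * q)) p) -
              Pi.single (Fin.succ i) (SpinCurv.PolyNodeRing.x R (p * q)) : Fin (n + 1) → SpinCurv.PolyNodeRing R (p * q))) ∪
         Set.range (fun i : Fin n =>
            (Pi.single (Fin.castSucc i) (SpinCurv.PolyNodeRing.y R (p * q)) -
              Pi.single (Fin.succ i) (algebraMap R (SpinCurv.PolyNodeRing R (p * q)) q) : Fin (n + 1) → SpinCurv.PolyNodeRing R (p * q))))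

lemma gen1_mem (i : ℕ) (hi : i < n) :
    sl R p q n i (algebraMap R (SpinCurv.PolyNodeRing R (p * q)) p) -
      sl R p q n (i + 1) (SpinCurv.PolyNodeRing.x R (p * q)) ∈ N R p q n := by
  apply Submodule.subset_span
  left
  refine ⟨⟨i, hi⟩, ?_⟩
  simp only [single_eq_sl]
  rfl

lemma gen2_mem (i : ℕ) (hi : i < n) :
    sl R p q n i (SpinCurv.PolyNodeRing.y R (p * q)) -
      sl R p q n (i + 1) (algebraMap R (SpinCurv.PolyNodeRing R (p * q)) q) ∈ N R p q n := by
  apply Submodule.subset_span
  right
  refine ⟨⟨i, hi⟩, ?_⟩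
  simp only [single_eq_sl]
  rfl

lemma smulR_mem (r : R) {v : Fin (n + 1) → SpinCurv.PolyNodeRing R (p * q)}
    (hv : v ∈ N R p q n) : r • v ∈ N R p q n :=
  Submodule.smul_of_tower_mem _ r hv

/-- reduction along `x`. -/
lemma redX (k : ℕ) : ∀ (m i : ℕ), k ≤ m → k ≤ i → i ≤ n →
    sl R p q n i (SpinCurv.PolyNodeRing.x R (p * q) ^ m) -
      p ^ k • sl R p q n (i - k) (SpinCurv.PolyNodeRing.x R (p * q) ^ (m - k)) ∈ N R p q n := by
  induction k with
  | zero =>
    intro m i _ _ _
    rw [pow_zero, one_smul, Nat.sub_zero, Nat.sub_zero, sub_self]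
    exact Submodule.zero_mem _
  | succ k ih =>
    intro m i hm hi hin
    have h1 := ih m i (by omega) (by omega) hin
    have h2 := gen1_mem R p q n (i - k - 1) (by omega)
    have h3 : (SpinCurv.PolyNodeRing.x R (p * q) ^ (m - k - 1)) •
        (sl R p q n (i - k - 1) (algebraMap R (SpinCurv.PolyNodeRing R (p * q)) p) -
          sl R p q n (i - k - 1 + 1) (SpinCurv.PolyNodeRing.x R (p * q))) ∈ N R p q n :=
      Submodule.smul_mem _ _ h2
    have h4 := smulR_mem R p q n (p ^ k) h3
    have h5 := Submodule.sub_mem _ h1 h4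
    convert h5 using 1
    have e1 : i - k - 1 + 1 = i - k := by omega
    have e2 : m - k - 1 + 1 = m - k := by omega
    have e3 : i - (k + 1) = i - k - 1 := by omega
    have e4 : m - (k + 1) = m - k - 1 := by omega
    have hA : sl R p q n (i - k - 1) (SpinCurv.PolyNodeRing.x R (p * q) ^ (m - k - 1) *
        algebraMap R (SpinCurv.PolyNodeRing R (p * q)) p) =
        p • sl R p q n (i - k - 1) (SpinCurv.PolyNodeRing.x R (p * q) ^ (m - k - 1)) := by
      rw [sl_smul', smul_eq, mul_comm (algebraMap R (SpinCurv.PolyNodeRing R (p * q)) p)]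
    rw [smul_sub, sl_smul, sl_smul, e1, ← pow_succ, e2, e3, e4, hA, smul_sub, smul_smul,
      ← pow_succ]
    abel

/-- reduction along `y`. -/
lemma redY (k : ℕ) : ∀ (a i : ℕ), k ≤ a → i + k ≤ n →
    sl R p q n i (SpinCurv.PolyNodeRing.y R (p * q) ^ a) -
      q ^ k • sl R p q n (i + k) (SpinCurv.PolyNodeRing.y R (p * q) ^ (a - k)) ∈ N R p q n := by
  induction k with
  | zero =>
    intro a i _ _
    rw [pow_zero, one_smul, Nat.sub_zero, Nat.add_zero i, sub_self]
    exact Submodule.zero_mem _
  | succ k ih =>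
    intro a i ha hin
    have h1 := ih a i (by omega) (by omega)
    have h2 := gen2_mem R p q n (i + k) (by omega)
    have h3 : (SpinCurv.PolyNodeRing.y R (p * q) ^ (a - k - 1)) •
        (sl R p q n (i + k) (SpinCurv.PolyNodeRing.y R (p * q)) -
          sl R p q n (i + k + 1) (algebraMap R (SpinCurv.PolyNodeRing R (p * q)) q)) ∈ N R p q n :=
      Submodule.smul_mem _ _ h2
    have h4 := smulR_mem R p q n (q ^ k) h3
    have h5 := Submodule.add_mem _ h1 h4
    convert h5 using 1
    have e2 : a - k - 1 + 1 = a - k := by omega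
    have e4 : a - (k + 1) = a - k - 1 := by omega
    have hA : sl R p q n (i + k + 1) (SpinCurv.PolyNodeRing.y R (p * q) ^ (a - k - 1) *
        algebraMap R (SpinCurv.PolyNodeRing R (p * q)) q) =
        q • sl R p q n (i + k + 1) (SpinCurv.PolyNodeRing.y R (p * q) ^ (a - k - 1)) := by
      rw [sl_smul', smul_eq, mul_comm (algebraMap R (SpinCurv.PolyNodeRing R (p * q)) q)]
    rw [smul_sub, sl_smul, sl_smul, ← pow_succ, e2, e4, hA, smul_sub, smul_smul, ← pow_succ,
      ← add_assoc]
    abel


variable (rU : SpinCurv.PolyNodeRing R (p * q) →ₐ[R] SpinCurv.PolyNodeRing R q)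
  (rV : SpinCurv.PolyNodeRing R (p * q) →ₐ[R] SpinCurv.PolyNodeRing R p)

/-- the map of the statement, as an `R`-linear map. -/
noncomputable def PhiL : (Fin (n + 1) → SpinCurv.PolyNodeRing R (p * q)) →ₗ[R]
    SpinCurv.PolyNodeRing R q × SpinCurv.PolyNodeRing R p where
  toFun F := (∑ i : Fin (n + 1), rU (F i) * SpinCurv.PolyNodeRing.x R q ^ (n - (i : ℕ)),
         ∑ i : Fin (n + 1), rV (F i) * SpinCurv.PolyNodeRing.x R p ^ (i : ℕ))
  map_add' F G := by
    simp only [Pi.add_apply, map_add, add_mul, Finset.sum_add_distrib, Prod.mk_add_mk]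
  map_smul' r F := by
    simp only [Pi.smul_apply, map_smul, smul_mul_assoc, ← Finset.smul_sum, RingHom.id_apply,
      Prod.smul_mk]

lemma PhiL_apply (F : Fin (n + 1) → SpinCurv.PolyNodeRing R (p * q)) :
    PhiL R p q n rU rV F =
      (∑ i : Fin (n + 1), rU (F i) * SpinCurv.PolyNodeRing.x R q ^ (n - (i : ℕ)),
         ∑ i : Fin (n + 1), rV (F i) * SpinCurv.PolyNodeRing.x R p ^ (i : ℕ)) := rfl

lemma PhiL_smul (a : SpinCurv.PolyNodeRing R (p * q))
    (F : Fin (n + 1) → SpinCurv.PolyNodeRing R (p * q)) :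
    PhiL R p q n rU rV (a • F) =
      (rU a * (PhiL R p q n rU rV F).1, rV a * (PhiL R p q n rU rV F).2) := by
  simp only [PhiL_apply, Pi.smul_apply, smul_eq_mul, map_mul, mul_assoc, ← Finset.mul_sum]

lemma PhiL_sl (i : ℕ) (hi : i ≤ n) (a : SpinCurv.PolyNodeRing R (p * q)) :
    PhiL R p q n rU rV (sl R p q n i a) =
      (rU a * SpinCurv.PolyNodeRing.x R q ^ (n - i), rV a * SpinCurv.PolyNodeRing.x R p ^ i) := by
  rw [PhiL_apply]
  congr 1
  · rw [Finset.sum_eq_single (⟨i, by omega⟩ : Fin (n + 1))]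
    · simp [sl]
    · intro j _ hj
      have : (j : ℕ) ≠ i := fun h => hj (Fin.ext h)
      simp [sl, this]
    · intro h; exact absurd (Finset.mem_univ _) h
  · rw [Finset.sum_eq_single (⟨i, by omega⟩ : Fin (n + 1))]
    · simp [sl]
    · intro j _ hj
      have : (j : ℕ) ≠ i := fun h => hj (Fin.ext h)
      simp [sl, this]
    · intro h; exact absurd (Finset.mem_univ _) h


/-- the good elements, indexed by their weight. -/
noncomputable def goodElt (M : ℤ) : Fin (n + 1) → SpinCurv.PolyNodeRing R (p * q) :=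
  if (n : ℤ) < M then sl R p q n 0 (SpinCurv.PolyNodeRing.x R (p * q) ^ (M - n).toNat)
  else if 0 ≤ M then sl R p q n (n - M).toNat 1
  else sl R p q n n (SpinCurv.PolyNodeRing.y R (p * q) ^ (-M).toNat)

/-- the `R`-span of good elements, parametrised. -/
noncomputable def good : (ℤ →₀ R) →ₗ[R] (Fin (n + 1) → SpinCurv.PolyNodeRing R (p * q)) :=
  Finsupp.linearCombination R (goodElt R p q n)

lemma PhiL_goodElt
    (hrUx : rU (SpinCurv.PolyNodeRing.x R (p * q)) = algebraMap R _ p * SpinCurv.PolyNodeRing.x R q)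
    (hrUy : rU (SpinCurv.PolyNodeRing.y R (p * q)) = SpinCurv.PolyNodeRing.y R q)
    (hrVx : rV (SpinCurv.PolyNodeRing.x R (p * q)) = SpinCurv.PolyNodeRing.y R p)
    (hrVy : rV (SpinCurv.PolyNodeRing.y R (p * q)) = algebraMap R _ q * SpinCurv.PolyNodeRing.x R p)
    (M : ℤ) :
    PhiL R p q n rU rV (goodElt R p q n M) = Jmap R p q (n : ℤ) (Finsupp.single M 1) := by
  rw [Jmap_single, goodElt]
  split_ifs with h1 h2
  · rw [PhiL_sl R p q n rU rV 0 (Nat.zero_le n), map_pow, map_pow, hrUx, hrVx, e, e]
    have a1 : M.toNat = (M - n).toNat + n := by omega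
    have a2 : (-M).toNat = 0 := by omega
    have a3 : ((n : ℤ) - M).toNat = 0 := by omega
    have a4 : (-((n : ℤ) - M)).toNat = (M - n).toNat := by omega
    rw [a1, a2, a3, a4, smul_eq, smul_eq, map_pow, map_pow, Nat.sub_zero n]
    congr 1
    · rw [mul_pow, pow_add]; ring
    · ring
  · have hle : ((n : ℤ) - M).toNat ≤ n := by omega
    rw [PhiL_sl R p q n rU rV _ hle, map_one, map_one, e, e]
    have a1 : n - ((n : ℤ) - M).toNat = M.toNat := by omega
    have a2 : (-M).toNat = 0 := by omega
    have a3 : (M - (n : ℤ)).toNat = 0 := by omega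
    have a4 : (-((n : ℤ) - M)).toNat = 0 := by omega
    rw [a1, a2, a3, a4, smul_eq, smul_eq, map_pow, map_pow]
    congr 1
    · ring
    · ring
  · rw [PhiL_sl R p q n rU rV n le_rfl, map_pow, map_pow, hrUy, hrVy, e, e]
    have a1 : M.toNat = 0 := by omega
    have a3 : (M - (n : ℤ)).toNat = 0 := by omega
    have a4 : (-((n : ℤ) - M)).toNat = 0 := by omega
    have a5 : ((n : ℤ) - M).toNat = (-M).toNat + n := by omega
    rw [a1, a3, a4, a5, smul_eq, smul_eq, map_pow, map_pow, Nat.sub_self]
    congr 1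
    · ring
    · rw [mul_pow, pow_add]; ring

lemma PhiL_good
    (hrUx : rU (SpinCurv.PolyNodeRing.x R (p * q)) = algebraMap R _ p * SpinCurv.PolyNodeRing.x R q)
    (hrUy : rU (SpinCurv.PolyNodeRing.y R (p * q)) = SpinCurv.PolyNodeRing.y R q)
    (hrVx : rV (SpinCurv.PolyNodeRing.x R (p * q)) = SpinCurv.PolyNodeRing.y R p)
    (hrVy : rV (SpinCurv.PolyNodeRing.y R (p * q)) = algebraMap R _ q * SpinCurv.PolyNodeRing.x R p)
    (ρ : ℤ →₀ R) :
    PhiL R p q n rU rV (good R p q n ρ) = Jmap R p q (n : ℤ) ρ := by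
  have h : (PhiL R p q n rU rV).comp (good R p q n) = Jmap R p q (n : ℤ) := by
    apply Finsupp.lhom_ext
    intro M c
    have hs : (Finsupp.single M c : ℤ →₀ R) = c • Finsupp.single M 1 := by
      rw [Finsupp.smul_single, smul_eq_mul, mul_one]
    rw [hs, map_smul, map_smul, LinearMap.comp_apply, good, Finsupp.linearCombination_single,
      one_smul, PhiL_goodElt R p q n rU rV hrUx hrUy hrVx hrVy]
  exact LinearMap.congr_fun h ρ


lemma G1 (a : ℕ) : sl R p q n 0 (SpinCurv.PolyNodeRing.x R (p * q) ^ a) ∈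
    LinearMap.range (good R p q n) := by
  refine ⟨Finsupp.single ((a : ℤ) + n) 1, ?_⟩
  rw [good, Finsupp.linearCombination_single, one_smul, goodElt]
  by_cases ha : a = 0
  · subst ha
    have h1 : ¬ ((n : ℤ) < ((0 : ℕ) : ℤ) + n) := by omega
    have h2 : (0 : ℤ) ≤ ((0 : ℕ) : ℤ) + n := by omega
    have h3 : ((n : ℤ) - (((0 : ℕ) : ℤ) + n)).toNat = 0 := by omega
    rw [if_neg h1, if_pos h2, h3, pow_zero]
  · have h1 : (n : ℤ) < (a : ℤ) + n := by omega
    have h3 : ((a : ℤ) + n - n).toNat = a := by omega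
    rw [if_pos h1, h3]

lemma G2 (i : ℕ) (hi : i ≤ n) : sl R p q n i 1 ∈ LinearMap.range (good R p q n) := by
  refine ⟨Finsupp.single ((n : ℤ) - i) 1, ?_⟩
  rw [good, Finsupp.linearCombination_single, one_smul, goodElt]
  have h1 : ¬ ((n : ℤ) < (n : ℤ) - i) := by omega
  have h2 : (0 : ℤ) ≤ (n : ℤ) - i := by omega
  have h3 : ((n : ℤ) - ((n : ℤ) - i)).toNat = i := by omega
  rw [if_neg h1, if_pos h2, h3]

lemma G3 (a : ℕ) : sl R p q n n (SpinCurv.PolyNodeRing.y R (p * q) ^ a) ∈
    LinearMap.range (good R p q n) := by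
  by_cases ha : a = 0
  · subst ha
    rw [pow_zero]
    exact G2 R p q n n le_rfl
  · refine ⟨Finsupp.single (-(a : ℤ)) 1, ?_⟩
    rw [good, Finsupp.linearCombination_single, one_smul, goodElt]
    have h1 : ¬ ((n : ℤ) < -(a : ℤ)) := by omega
    have h2 : ¬ ((0 : ℤ) ≤ -(a : ℤ)) := by omega
    have h3 : (-(-(a : ℤ))).toNat = a := by omega
    rw [if_neg h1, if_neg h2, h3]

/-- relations plus good elements. -/
noncomputable def W : Submodule R (Fin (n + 1) → SpinCurv.PolyNodeRing R (p * q)) :=
  (N R p q n).restrictScalars R ⊔ LinearMap.range (good R p q n)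

lemma mem_W_of {v w : Fin (n + 1) → SpinCurv.PolyNodeRing R (p * q)} (c : R)
    (h1 : v - c • w ∈ N R p q n) (h2 : w ∈ LinearMap.range (good R p q n)) : v ∈ W R p q n := by
  have : v = (v - c • w) + c • w := by abel
  rw [this]
  exact Submodule.add_mem _ (Submodule.mem_sup_left h1)
    (Submodule.mem_sup_right (Submodule.smul_mem _ c h2))

lemma sl_e_mem (i : ℕ) (hi : i ≤ n) (m : ℤ) : sl R p q n i (e R (p * q) m) ∈ W R p q n := by
  rcases le_or_gt 0 m with hm | hm
  · have h0 : (-m).toNat = 0 := by omega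
    rw [e, h0, pow_zero, mul_one]
    by_cases hia : i ≤ m.toNat
    · have := redX R p q n i m.toNat i hia le_rfl hi
      rw [Nat.sub_self] at this
      exact mem_W_of R p q n _ this (G1 R p q n _)
    · have := redX R p q n m.toNat m.toNat i le_rfl (by omega) hi
      rw [Nat.sub_self, pow_zero] at this
      exact mem_W_of R p q n _ this (G2 R p q n _ (by omega))
  · have h0 : m.toNat = 0 := by omega
    rw [e, h0, pow_zero, one_mul]
    by_cases hia : n - i ≤ (-m).toNat
    · have := redY R p q n (n - i) (-m).toNat i hia (by omega)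
      have h1 : i + (n - i) = n := by omega
      rw [h1] at this
      exact mem_W_of R p q n _ this (G3 R p q n _)
    · have := redY R p q n (-m).toNat (-m).toNat i le_rfl (by omega)
      rw [Nat.sub_self, pow_zero] at this
      exact mem_W_of R p q n _ this (G2 R p q n _ (by omega))

lemma W_top : W R p q n = ⊤ := by
  rw [eq_top_iff]
  intro F _
  rw [← Finset.univ_sum_single F]
  apply Submodule.sum_mem
  intro i _
  have hS : (W R p q n).comap (LinearMap.single R (fun _ : Fin (n + 1) =>
      SpinCurv.PolyNodeRing R (p * q)) i) = ⊤ := by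
    rw [eq_top_iff, ← span_e R (p * q), Submodule.span_le]
    rintro _ ⟨m, rfl⟩
    rw [SetLike.mem_coe, Submodule.mem_comap, LinearMap.coe_single, single_eq_sl]
    exact sl_e_mem R p q n i (by omega) m
  have : F i ∈ (W R p q n).comap (LinearMap.single R (fun _ : Fin (n + 1) =>
      SpinCurv.PolyNodeRing R (p * q)) i) := by rw [hS]; trivial
  exact this



/-- Let R be a commutative ring and p, q ∈ R; put A = R[x, y]/(xy - pq) and consider the two affine
charts U = Spec R[s, y]/(sy - q) and V = Spec R[t, x]/(xt - p) of the curve obtained from Spec A by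
blowing up as in the (p, q)-construction, glued along R[s, s⁻¹] by t = s⁻¹ (so y = q s⁻¹ on U and x
= p s on V), with the projection to Spec A given by x ↦ p s, y ↦ y on U and x ↦ x, y ↦ q t on V. For
n ≥ 0 the twisting sheaf O(n) is vⁿ O on U and ξⁿ O on V with ξ = s v, so its global sections are
the pairs (g, f) of functions on U and V with g = sⁿ f on U ∩ V. Then the map A^{n+1} → O(U) × O(V)
sending (F_0, …, F_n), i.e. the section Σ F_i ξ^{n-i} v^i, to (Σ F_i|_U s^{n-i}, Σ F_i|_V t^i) has
image exactly the set of such pairs, and F is sent to zero exactly when it lies in the A-submodule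
of A^{n+1} generated by the vectors p e_i - x e_{i+1} and y e_i - q e_{i+1} for 0 ≤ i < n (e_0, …,
e_n the standard basis). So the global sections of O(n) form the degree-n piece of A[ξ, v]/(p ξ - x
v, q v - y ξ). For n = 0 this says that a ↦ (a|_U, a|_V) is injective on A with image the pairs of
functions that agree on U ∩ V, so that the functions on the blown-up curve are exactly the functions
on Spec A (the direct image of its structure sheaf is the structure sheaf of Spec A); for n = 1 it
presents the global sections of O(1) as A ξ ⊕ A v modulo the relations p ξ = x v and y ξ = q v. Here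
R[s, y]/(sy - q) and R[t, x]/(xt - p) are both written as the quotient of the polynomial ring in two
variables by (first variable)·(second variable) - constant, the homomorphisms rU, rV are the
restriction maps from A to the two charts and gU, gV the restriction maps from the charts to their
intersection R[s, s⁻¹] (Laurent polynomials), each pinned by its values on the two generators. (The
published setting has R complete local and p, q in the maximal ideal, and reduces to this polynomial
computation, which uses neither.) -/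
theorem result (R : Type u) [CommRing R] (p q : R)
    (rU : SpinCurv.PolyNodeRing R (p * q) →ₐ[R] SpinCurv.PolyNodeRing R q)
    (hrUx : rU (SpinCurv.PolyNodeRing.x R (p * q)) = algebraMap R _ p * SpinCurv.PolyNodeRing.x R q)
    (hrUy : rU (SpinCurv.PolyNodeRing.y R (p * q)) = SpinCurv.PolyNodeRing.y R q)
    (rV : SpinCurv.PolyNodeRing R (p * q) →ₐ[R] SpinCurv.PolyNodeRing R p)
    (hrVx : rV (SpinCurv.PolyNodeRing.x R (p * q)) = SpinCurv.PolyNodeRing.y R p)
    (hrVy : rV (SpinCurv.PolyNodeRing.y R (p * q)) = algebraMap R _ q * SpinCurv.PolyNodeRing.x R p)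
    (gU : SpinCurv.PolyNodeRing R q →ₐ[R] LaurentPolynomial R)
    (hgUs : gU (SpinCurv.PolyNodeRing.x R q) = LaurentPolynomial.T 1)
    (hgUy : gU (SpinCurv.PolyNodeRing.y R q) = LaurentPolynomial.C q * LaurentPolynomial.T (-1))
    (gV : SpinCurv.PolyNodeRing R p →ₐ[R] LaurentPolynomial R)
    (hgVt : gV (SpinCurv.PolyNodeRing.x R p) = LaurentPolynomial.T (-1))
    (hgVx : gV (SpinCurv.PolyNodeRing.y R p) = LaurentPolynomial.C p * LaurentPolynomial.T 1) (n : ℕ) :
    Set.range (fun F : Fin (n + 1) → SpinCurv.PolyNodeRing R (p * q) =>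
        (∑ i : Fin (n + 1), rU (F i) * SpinCurv.PolyNodeRing.x R q ^ (n - (i : ℕ)),
         ∑ i : Fin (n + 1), rV (F i) * SpinCurv.PolyNodeRing.x R p ^ (i : ℕ))) =
      {gf : SpinCurv.PolyNodeRing R q × SpinCurv.PolyNodeRing R p |
        gU gf.1 = LaurentPolynomial.T (n : ℤ) * gV gf.2} ∧
    {F : Fin (n + 1) → SpinCurv.PolyNodeRing R (p * q) |
        (∑ i : Fin (n + 1), rU (F i) * SpinCurv.PolyNodeRing.x R q ^ (n - (i : ℕ)),
         ∑ i : Fin (n + 1), rV (F i) * SpinCurv.PolyNodeRing.x R p ^ (i : ℕ)) = 0} =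
      (Submodule.span (SpinCurv.PolyNodeRing R (p * q))
        (Set.range (fun i : Fin n =>
            (Pi.single (Fin.castSucc i) (algebraMap R (SpinCurv.PolyNodeRing R (p * q)) p) -
              Pi.single (Fin.succ i) (SpinCurv.PolyNodeRing.x R (p * q)) : Fin (n + 1) → SpinCurv.PolyNodeRing R (p * q))) ∪
         Set.range (fun i : Fin n =>
            (Pi.single (Fin.castSucc i) (SpinCurv.PolyNodeRing.y R (p * q)) -
              Pi.single (Fin.succ i) (algebraMap R (SpinCurv.PolyNodeRing R (p * q)) q) : Fin (n + 1) → SpinCurv.PolyNodeRing R (p * q)))) :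
        Set (Fin (n + 1) → SpinCurv.PolyNodeRing R (p * q))) := by
  have hn : (-1 : ℤ) ≤ (n : ℤ) := by omega
  -- the two composites to Laurent polynomials agree
  have hcomp : gU.comp rU = gV.comp rV := by
    apply algHom_ext
    · rw [AlgHom.comp_apply, AlgHom.comp_apply, hrUx, hrVx, map_mul, hgUs, hgVx, AlgHom.commutes,
        LaurentPolynomial.algebraMap_apply]
      rfl
    · rw [AlgHom.comp_apply, AlgHom.comp_apply, hrUy, hrVy, map_mul, hgUy, hgVt, AlgHom.commutes,
        LaurentPolynomial.algebraMap_apply]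
      rfl
  have hcomp' : ∀ a, gU (rU a) = gV (rV a) := fun a => DFunLike.congr_fun hcomp a
  -- range ⊆ compatible pairs
  have hsub : ∀ F : Fin (n + 1) → SpinCurv.PolyNodeRing R (p * q),
      gU (PhiL R p q n rU rV F).1 = LaurentPolynomial.T (n : ℤ) * gV (PhiL R p q n rU rV F).2 := by
    intro F
    rw [PhiL_apply]
    simp only [map_sum, map_mul, map_pow, hgUs, hgVt, Finset.mul_sum, hcomp']
    apply Finset.sum_congr rfl
    intro i _
    rw [LaurentPolynomial.T_pow, LaurentPolynomial.T_pow, mul_left_comm, ← LaurentPolynomial.T_add]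
    congr 2
    have : (i : ℕ) ≤ n := by omega
    push_cast [this]
    ring
  have hNker : ∀ F ∈ N R p q n, PhiL R p q n rU rV F = 0 := by
    intro F hF
    induction hF using Submodule.span_induction with
    | mem v hv =>
      rcases hv with ⟨i, rfl⟩ | ⟨i, rfl⟩
      · simp only [single_eq_sl, map_sub]
        rw [PhiL_sl R p q n rU rV _ (by simp), PhiL_sl R p q n rU rV _ (by simp),
          hrUx, hrVx, AlgHom.commutes, AlgHom.commutes, Prod.mk_sub_mk, Prod.mk_eq_zero]
        have hi : (i : ℕ) < n := i.2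
        have e1 : n - ((Fin.castSucc i : Fin (n + 1)) : ℕ) = (n - ((Fin.succ i : Fin (n + 1)) : ℕ)) + 1 := by
          simp; omega
        have e2 : ((Fin.succ i : Fin (n + 1)) : ℕ) = ((Fin.castSucc i : Fin (n + 1)) : ℕ) + 1 := by
          simp
        constructor
        · rw [e1, pow_succ]; ring
        · rw [e2, pow_succ, ← xy R p]; ring
      · simp only [single_eq_sl, map_sub]
        rw [PhiL_sl R p q n rU rV _ (by simp), PhiL_sl R p q n rU rV _ (by simp),
          hrUy, hrVy, AlgHom.commutes, AlgHom.commutes, Prod.mk_sub_mk, Prod.mk_eq_zero]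
        have hi : (i : ℕ) < n := i.2
        have e1 : n - ((Fin.castSucc i : Fin (n + 1)) : ℕ) = (n - ((Fin.succ i : Fin (n + 1)) : ℕ)) + 1 := by
          simp; omega
        have e2 : ((Fin.succ i : Fin (n + 1)) : ℕ) = ((Fin.castSucc i : Fin (n + 1)) : ℕ) + 1 := by
          simp
        constructor
        · rw [e1, pow_succ, ← xy R q]; ring
        · rw [e2, pow_succ]; ring
    | zero => exact map_zero _
    | add v w _ _ hv hw => rw [map_add, hv, hw, add_zero]
    | smul a v _ hv => rw [PhiL_smul, hv]; simp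
  constructor
  · ext gf
    constructor
    · rintro ⟨F, rfl⟩
      exact hsub F
    · intro hgf
      change gU gf.1 = LaurentPolynomial.T (n : ℤ) * gV gf.2 at hgf
      rw [← mem_range_Jmap_iff R p q (n : ℤ) hn gU hgUs hgUy gV hgVt hgVx] at hgf
      obtain ⟨ρ, rfl⟩ := hgf
      exact ⟨good R p q n ρ, PhiL_good R p q n rU rV hrUx hrUy hrVx hrVy ρ⟩
  · ext F
    change PhiL R p q n rU rV F = 0 ↔ F ∈ N R p q n
    constructor
    · intro hF
      have hW : F ∈ W R p q n := by rw [W_top]; trivial
      obtain ⟨ν, hν, γ, ⟨ρ, rfl⟩, rfl⟩ := Submodule.mem_sup.mp hW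
      rw [map_add, hNker ν hν, zero_add, PhiL_good R p q n rU rV hrUx hrUy hrVx hrVy] at hF
      have hρ : ρ = 0 := Jmap_injective R p q (n : ℤ) hn (by rw [hF, map_zero])
      rw [hρ, map_zero, add_zero]
      exact hν
    · exact hNker F

end Groth.Agent.S18437
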