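import Groth.Statements.S18457
import Mathlib.Tactic
import Mathlib.Algebra.Order.Chebyshev

set_option autoImplicit false
open Finset
open Surf

namespace Groth.Agent.S18457

open Finset

lemma term_nonneg (x : ℤ) (hx : 0 ≤ x) : 0 ≤ x * (x - 1) := by
  rcases eq_or_lt_of_le hx with h | h
  · rw [← h]; norm_num
  · exact mul_nonneg hx (by omega)

lemma zero_or_one_of_term_zero (x : ℤ) (hx : 0 ≤ x) (h : x * (x - 1) = 0) : x = 0 ∨ x = 1 := by
  rcases mul_eq_zero.mp h with h | h
  · exact Or.inl h
  · exact Or.inr (by omega)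

lemma card_ones {n : ℕ} (a : Fin n → ℤ) (h01 : ∀ i, a i = 0 ∨ a i = 1) :
    ((Finset.univ.filter (fun i => a i = 1)).card : ℤ) = ∑ i, a i := by
  rw [Finset.card_filter]
  push_cast
  apply Finset.sum_congr rfl
  intro i _
  rcases h01 i with h | h <;> simp [h]

lemma all01 {n : ℕ} (a : Fin n → ℤ) (ha : ∀ i, 0 ≤ a i) (h : ∑ i, a i * (a i - 1) = 0) :
    ∀ i, a i = 0 ∨ a i = 1 := by
  intro i
  have := (Finset.sum_eq_zero_iff_of_nonneg (fun i _ => term_nonneg (a i) (ha i))).mp h i
    (Finset.mem_univ i)
  exact zero_or_one_of_term_zero _ (ha i) this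

/-- In the Picard lattice of the plane blown up at n ≤ 8 points, with basis h, e_1, …, e_n, form h² = 1,
e_i² = −1, all other products 0, and anticanonical class D = 3h − Σ e_i, let d·h − Σ a_i e_i be a
class with all a_i ≥ 0 (the class of the strict transform of a degree-d plane curve having
multiplicity a_i at the i-th point) which is a (−2)-class orthogonal to D, that is d² − Σ a_i² = −2
and 3d = Σ a_i. Then one of the following holds: d = 1 and every a_i is 0 or 1 with exactly three
equal to 1; d = 2 and every a_i is 0 or 1 with exactly six equal to 1; d = 3, n = 8, and one a_i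
equals 2 while the remaining seven equal 1. The published statement is geometric: under the
general-position hypotheses on the points, no smooth rational curve on the blown-up plane is
orthogonal to D; this row is the lattice enumeration its proof carries out (a line through three of
the points, a conic through six, a cubic through all eight and singular at one). -/
theorem result (n : ℕ) (hn : n ≤ 8)
    (d : ℤ) (a : Fin n → ℤ) (ha : ∀ i, 0 ≤ a i)
    (hsq : d ^ 2 - ∑ i, (a i) ^ 2 = -2) (hK : 3 * d = ∑ i, a i) :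
    (d = 1 ∧ (∀ i, a i = 0 ∨ a i = 1) ∧ (Finset.univ.filter (fun i => a i = 1)).card = 3) ∨
      (d = 2 ∧ (∀ i, a i = 0 ∨ a i = 1) ∧ (Finset.univ.filter (fun i => a i = 1)).card = 6) ∨
      (d = 3 ∧ n = 8 ∧ ∃ j, a j = 2 ∧ ∀ i, i ≠ j → a i = 1) := by
  have hs2 : ∑ i, (a i) ^ 2 = d ^ 2 + 2 := by linarith
  have hdiff : ∑ i, a i * (a i - 1) = d ^ 2 + 2 - 3 * d := by
    have : ∑ i, a i * (a i - 1) = ∑ i, (a i) ^ 2 - ∑ i, a i := by
      rw [← Finset.sum_sub_distrib]
      apply Finset.sum_congr rfl
      intro i _; ring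
    rw [this, hs2, hK]
  have hd0 : 0 ≤ d := by
    have : 0 ≤ ∑ i, a i := Finset.sum_nonneg (fun i _ => ha i)
    linarith
  have hcs : (∑ i, a i) ^ 2 ≤ (n : ℤ) * ∑ i, (a i) ^ 2 := by
    have := sq_sum_le_card_mul_sum_sq (s := (Finset.univ : Finset (Fin n))) (f := a)
    simpa using this
  have hn' : (n : ℤ) ≤ 8 := by exact_mod_cast hn
  have hd4 : d ≤ 4 := by
    rw [← hK, hs2] at hcs
    have h2 : (n : ℤ) * (d ^ 2 + 2) ≤ 8 * (d ^ 2 + 2) :=
      mul_le_mul_of_nonneg_right hn' (by positivity)
    nlinarith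
  interval_cases d
  · -- d = 0
    exfalso
    have h0 : ∀ i, a i = 0 := by
      intro i
      have := (Finset.sum_eq_zero_iff_of_nonneg (fun i _ => ha i)).mp (by simpa using hK.symm) i
        (Finset.mem_univ i)
      exact this
    simp [h0] at hs2
  · -- d = 1
    left
    have h01 := all01 a ha (by rw [hdiff]; norm_num)
    refine ⟨rfl, h01, ?_⟩
    have := card_ones a h01
    rw [← hK] at this
    exact_mod_cast this
  · -- d = 2
    right; left
    have h01 := all01 a ha (by rw [hdiff]; norm_num)
    refine ⟨rfl, h01, ?_⟩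
    have := card_ones a h01
    rw [← hK] at this
    exact_mod_cast this
  · -- d = 3
    right; right
    have hsum2 : ∑ i, a i * (a i - 1) = 2 := by rw [hdiff]; norm_num
    -- some a j ≥ 2
    have hex : ∃ j, 2 ≤ a j := by
      by_contra hne
      push Not at hne
      have h01 : ∀ i, a i = 0 ∨ a i = 1 := fun i => by
        have := hne i; have := ha i; omega
      have : ∑ i, a i * (a i - 1) = 0 := by
        apply Finset.sum_eq_zero
        intro i _
        rcases h01 i with h | h <;> simp [h]
      omega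
    obtain ⟨j, hj⟩ := hex
    have hsplit : ∑ i, a i * (a i - 1) =
        a j * (a j - 1) + ∑ i ∈ Finset.univ.erase j, a i * (a i - 1) := by
      exact (Finset.add_sum_erase Finset.univ (fun i => a i * (a i - 1)) (Finset.mem_univ j)).symm
    have hrest_nonneg : 0 ≤ ∑ i ∈ Finset.univ.erase j, a i * (a i - 1) :=
      Finset.sum_nonneg (fun i _ => term_nonneg (a i) (ha i))
    have haj : a j = 2 := by
      by_contra hne
      have h3 : 3 ≤ a j := by omega
      have : 6 ≤ a j * (a j - 1) := by nlinarith
      omega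
    have hrest : ∑ i ∈ Finset.univ.erase j, a i * (a i - 1) = 0 := by
      rw [haj] at hsplit; omega
    have h01 : ∀ i, i ≠ j → (a i = 0 ∨ a i = 1) := by
      intro i hi
      have := (Finset.sum_eq_zero_iff_of_nonneg
        (fun i _ => term_nonneg (a i) (ha i))).mp hrest i (Finset.mem_erase.mpr ⟨hi, Finset.mem_univ i⟩)
      exact zero_or_one_of_term_zero _ (ha i) this
    have hsum1 : ∑ i ∈ Finset.univ.erase j, a i = 7 := by
      have := Finset.add_sum_erase Finset.univ a (Finset.mem_univ j)
      rw [haj] at this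
      omega
    have hcard : ((Finset.univ.erase j : Finset (Fin n)).card : ℤ) = (n : ℤ) - 1 := by
      rw [Finset.card_erase_of_mem (Finset.mem_univ j), Finset.card_univ, Fintype.card_fin]
      have : 1 ≤ n := Nat.succ_le_of_lt (Fin.pos j)
      push_cast [Nat.cast_sub this]; ring
    have hdef : ∑ i ∈ Finset.univ.erase j, (1 - a i) = (n : ℤ) - 1 - 7 := by
      rw [Finset.sum_sub_distrib, hsum1, Finset.sum_const, nsmul_eq_mul, hcard]
      ring
    have hdef_nonneg : ∀ i ∈ Finset.univ.erase j, 0 ≤ 1 - a i := by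
      intro i hi
      rcases h01 i (Finset.ne_of_mem_erase hi) with h | h <;> omega
    have hge : 0 ≤ ∑ i ∈ Finset.univ.erase j, (1 - a i) := Finset.sum_nonneg hdef_nonneg
    have hn8 : n = 8 := by omega
    refine ⟨rfl, hn8, j, haj, fun i hi => ?_⟩
    have hz : ∑ i ∈ Finset.univ.erase j, (1 - a i) = 0 := by rw [hdef, hn8]; norm_num
    have := (Finset.sum_eq_zero_iff_of_nonneg hdef_nonneg).mp hz i
      (Finset.mem_erase.mpr ⟨hi, Finset.mem_univ i⟩)
    omega
  · -- d = 4
    exfalso
    have hs1 : ∑ i, a i = 12 := by rw [← hK]; norm_num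
    have hq : ∑ i, (2 * a i - 3) ^ 2 = 9 * (n : ℤ) - 72 := by
      have : ∑ i, (2 * a i - 3) ^ 2 = 4 * ∑ i, (a i) ^ 2 - 12 * ∑ i, a i + ∑ _i : Fin n, (9 : ℤ) := by
        rw [Finset.mul_sum, Finset.mul_sum, ← Finset.sum_sub_distrib, ← Finset.sum_add_distrib]
        apply Finset.sum_congr rfl
        intro i _; ring
      rw [this, hs2, hs1]
      simp; ring
    have hlow : (n : ℤ) ≤ ∑ i, (2 * a i - 3) ^ 2 := by
      have : ∑ _i : Fin n, (1 : ℤ) ≤ ∑ i, (2 * a i - 3) ^ 2 := by
        apply Finset.sum_le_sum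
        intro i _
        have h1 : 2 * a i - 3 ≠ 0 := by omega
        have : 0 < (2 * a i - 3) ^ 2 := by positivity
        omega
      simpa using this
    omega

end Groth.Agent.S18457
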