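import Groth.Statements.S1846
import Mathlib

set_option autoImplicit false
universe u v
open GrpSch

namespace Groth.Agent.S1846

section HopfKaehler
open TensorProduct Coalgebra HopfAlgebra

section
variable (K : Type u) [Field K] (B : Type v) [CommRing B] [HopfAlgebra K B]

/-- the counit as a linear functional -/
local notation "ε" => (counit (R := K) (A := B))

/-- The augmentation-square subspace `K·1 + I²`. -/
noncomputable def W : Submodule K B :=
  Submodule.span K {1} ⊔
    ((RingHom.ker (Bialgebra.counitAlgHom K B) * RingHom.ker (Bialgebra.counitAlgHom K B) :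
      Ideal B).restrictScalars K)

/-- cotangent space at the identity -/
abbrev V : Type v := B ⧸ W K B

noncomputable def pi : B →ₗ[K] V K B := (W K B).mkQ

lemma pi_one : pi K B 1 = 0 := by
  rw [pi, Submodule.mkQ_apply, Submodule.Quotient.mk_eq_zero]
  exact Submodule.mem_sup_left (Submodule.mem_span_singleton_self 1)

lemma counit_mul' (x y : B) : ε (x * y) = ε x * ε y := Bialgebra.counit_mul x y

lemma pi_mul (x y : B) : pi K B (x * y) = ε x • pi K B y + ε y • pi K B x := by
  have h : x * y - (ε x • y + ε y • x) ∈ W K B := by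
    have h1 : x * y - (ε x • y + ε y • x) =
        (x - algebraMap K B (ε x)) * (y - algebraMap K B (ε y)) + (-(ε x * ε y)) • (1 : B) := by
      simp only [Algebra.smul_def, neg_mul, map_neg, map_mul]
      ring
    rw [h1]
    refine Submodule.add_mem _ (Submodule.mem_sup_right ?_)
      (Submodule.mem_sup_left (Submodule.smul_mem _ _ (Submodule.mem_span_singleton_self 1)))
    rw [Submodule.restrictScalars_mem]
    apply Ideal.mul_mem_mul
    · rw [RingHom.mem_ker]
      simp
    · rw [RingHom.mem_ker]
      simp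
  have h2 := (Submodule.Quotient.mk_eq_zero (W K B)).mpr h
  rw [Submodule.Quotient.mk_sub, sub_eq_zero] at h2
  simpa [pi] using h2

end


section
variable (K : Type u) [Field K] (B : Type v) [CommRing B] [HopfAlgebra K B]

local notation "ε" => (counit (R := K) (A := B))

/-- `a ⊗ b ↦ ε(b) a`. -/
noncomputable def eR : B ⊗[K] B →ₗ[K] B :=
  (TensorProduct.rid K B).toLinearMap ∘ₗ LinearMap.lTensor B ε

@[simp] lemma eR_tmul (a b : B) : eR K B (a ⊗ₜ b) = ε b • a := by
  simp [eR]

lemma eR_comul (x : B) : eR K B (comul x) = x := by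
  simp [eR]

/-- `a ⊗ b ↦ a ⊗ π b`. -/
noncomputable def P : B ⊗[K] B →ₗ[K] B ⊗[K] V K B := LinearMap.lTensor B (pi K B)

@[simp] lemma P_tmul (a b : B) : P K B (a ⊗ₜ b) = a ⊗ₜ pi K B b := by
  simp [P]

lemma P_mul (s t : B ⊗[K] B) :
    P K B (s * t) = eR K B s • P K B t + eR K B t • P K B s := by
  induction s using TensorProduct.induction_on with
  | zero => simp
  | add s₁ s₂ h₁ h₂ =>
    rw [add_mul, map_add, h₁, h₂, map_add, map_add, add_smul, smul_add]
    abel
  | tmul a b =>
    induction t using TensorProduct.induction_on with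
    | zero => simp
    | add t₁ t₂ h₁ h₂ =>
      rw [mul_add, map_add, h₁, h₂, map_add, map_add, add_smul, smul_add]
      abel
    | tmul c d =>
      rw [Algebra.TensorProduct.tmul_mul_tmul, P_tmul, P_tmul, P_tmul, eR_tmul, eR_tmul, pi_mul,
        TensorProduct.tmul_add, TensorProduct.tmul_smul, TensorProduct.tmul_smul,
        TensorProduct.smul_tmul', TensorProduct.smul_tmul', TensorProduct.smul_tmul',
        TensorProduct.smul_tmul']
      simp only [smul_eq_mul, Algebra.smul_mul_assoc]
      rw [mul_comm c a]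

/-- The derivation `b ↦ Σ b₁ ⊗ π(b₂)`. -/
noncomputable def dV : Derivation K B (B ⊗[K] V K B) where
  toLinearMap := P K B ∘ₗ comul
  map_one_eq_zero' := by
    simp [Bialgebra.comul_one, Algebra.TensorProduct.one_def, pi_one]
  leibniz' a b := by
    simp only [LinearMap.comp_apply, Bialgebra.comul_mul, P_mul, eR_comul]

end


section
variable (K : Type u) [Field K] (B : Type v) [CommRing B] [HopfAlgebra K B]

local notation "ε" => (counit (R := K) (A := B))

/-- `a ⊗ b ↦ S(a) • d b`. -/
noncomputable def Q : B ⊗[K] B →ₗ[K] Ω[B⁄K] :=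
  TensorProduct.lift (LinearMap.mk₂ K (fun a b => antipode K a • KaehlerDifferential.D K B b)
    (fun a a' b => by simp [add_smul])
    (fun c a b => by simp)
    (fun a b b' => by simp)
    (fun c a b => by rw [Derivation.map_smul, smul_comm]))

@[simp] lemma Q_tmul (a b : B) :
    Q K B (a ⊗ₜ b) = antipode K a • KaehlerDifferential.D K B b := by
  simp [Q]

/-- `a ⊗ b ↦ S(a) b`. -/
noncomputable def mS : B ⊗[K] B →ₗ[K] B := LinearMap.mul' K B ∘ₗ (antipode K).rTensor B

@[simp] lemma mS_tmul (a b : B) : mS K B (a ⊗ₜ b) = antipode K a * b := by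
  simp [mS]

lemma mS_comul (x : B) : mS K B (comul x) = algebraMap K B (ε x) := by
  simp [mS]

lemma Q_mul (s t : B ⊗[K] B) :
    Q K B (s * t) = mS K B s • Q K B t + mS K B t • Q K B s := by
  induction s using TensorProduct.induction_on with
  | zero => simp
  | add s₁ s₂ h₁ h₂ =>
    rw [add_mul, map_add, h₁, h₂, map_add, map_add, add_smul, smul_add]
    abel
  | tmul a b =>
    induction t using TensorProduct.induction_on with
    | zero => simp
    | add t₁ t₂ h₁ h₂ =>
      rw [mul_add, map_add, h₁, h₂, map_add, map_add, add_smul, smul_add]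
      abel
    | tmul c d =>
      rw [Algebra.TensorProduct.tmul_mul_tmul, Q_tmul, Q_tmul, Q_tmul, mS_tmul, mS_tmul,
        antipode_mul_distrib, Derivation.leibniz, smul_add, smul_smul, smul_smul, smul_smul,
        smul_smul]
      congr 2 <;> ring

/-- `x ↦ Σ S(x₁) d x₂`: the left-invariant differential attached to `x`. -/
noncomputable def lam : B →ₗ[K] Ω[B⁄K] := Q K B ∘ₗ comul

lemma lam_one : lam K B 1 = 0 := by
  simp [lam, Bialgebra.comul_one, Algebra.TensorProduct.one_def]

lemma lam_mul (x y : B) : lam K B (x * y) = ε x • lam K B y + ε y • lam K B x := by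
  simp only [lam, LinearMap.comp_apply, Bialgebra.comul_mul, Q_mul, mS_comul, algebraMap_smul]

lemma W_le_ker_lam : W K B ≤ LinearMap.ker (lam K B) := by
  rw [W, sup_le_iff]
  constructor
  · rw [Submodule.span_le, Set.singleton_subset_iff]
    exact lam_one K B
  · intro z hz
    rw [Submodule.restrictScalars_mem] at hz
    rw [LinearMap.mem_ker]
    refine Submodule.mul_induction_on hz ?_ ?_
    · intro x hx y hy
      rw [RingHom.mem_ker] at hx hy
      have hx' : ε x = 0 := hx
      have hy' : ε y = 0 := hy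
      rw [lam_mul, hx', hy', zero_smul, zero_smul, add_zero]
    · intro x y hx hy
      rw [map_add, hx, hy, add_zero]

/-- The induced map on the cotangent space. -/
noncomputable def lamV : V K B →ₗ[K] Ω[B⁄K] := (W K B).liftQ (lam K B) (W_le_ker_lam K B)

@[simp] lemma lamV_pi (x : B) : lamV K B (pi K B x) = lam K B x := by
  simp [lamV, pi]

/-- forward map -/
noncomputable def F : Ω[B⁄K] →ₗ[B] B ⊗[K] V K B := (dV K B).liftKaehlerDifferential

/-- backward map -/
noncomputable def G : B ⊗[K] V K B →ₗ[B] Ω[B⁄K] := (lamV K B).liftBaseChange B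

end


section
variable (K : Type u) [Field K] (B : Type v) [CommRing B] [HopfAlgebra K B]

local notation "ε" => (counit (R := K) (A := B))

/-- `a ⊗ b ↦ ε(a) b`. -/
noncomputable def cL : B ⊗[K] B →ₗ[K] B :=
  (TensorProduct.lid K B).toLinearMap ∘ₗ LinearMap.rTensor B ε

@[simp] lemma cL_tmul (a b : B) : cL K B (a ⊗ₜ b) = ε a • b := by
  simp [cL]

lemma cL_comul (x : B) : cL K B (comul x) = x := by
  simp [cL]

/-- `a ⊗ b ↦ a S(b)`. -/
noncomputable def mA : B ⊗[K] B →ₗ[K] B := LinearMap.mul' K B ∘ₗ (antipode K).lTensor B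

@[simp] lemma mA_tmul (a b : B) : mA K B (a ⊗ₜ b) = a * antipode K b := by
  simp [mA]

lemma mA_comul (x : B) : mA K B (comul x) = algebraMap K B (ε x) := by
  simp [mA]

/-- `a ⊗ t ↦ a • Q t`. -/
noncomputable def T : B ⊗[K] (B ⊗[K] B) →ₗ[K] Ω[B⁄K] :=
  TensorProduct.lift (LinearMap.mk₂ K (fun a t => a • Q K B t)
    (fun a a' b => by simp [add_smul])
    (fun c a b => by simp)
    (fun a b b' => by simp)
    (fun c a b => by rw [map_smul, smul_comm]))

@[simp] lemma T_tmul (a : B) (t : B ⊗[K] B) : T K B (a ⊗ₜ t) = a • Q K B t := by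
  simp [T]

lemma T_assoc (u : B ⊗[K] B) (c : B) :
    T K B (TensorProduct.assoc K B B B (u ⊗ₜ c)) = mA K B u • KaehlerDifferential.D K B c := by
  induction u using TensorProduct.induction_on with
  | zero => simp
  | add u₁ u₂ h₁ h₂ => rw [TensorProduct.add_tmul, map_add, map_add, h₁, h₂, map_add, add_smul]
  | tmul a b => simp [smul_smul]

lemma T_assoc_rTensor (s : B ⊗[K] B) :
    T K B (TensorProduct.assoc K B B B (comul.rTensor B s)) =
      KaehlerDifferential.D K B (cL K B s) := by
  induction s using TensorProduct.induction_on with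
  | zero => simp
  | add s₁ s₂ h₁ h₂ => simp only [map_add, h₁, h₂]
  | tmul x c =>
    rw [LinearMap.rTensor_tmul, T_assoc, mA_comul, cL_tmul, algebraMap_smul, Derivation.map_smul]

lemma G_P (s : B ⊗[K] B) : G K B (P K B s) = T K B (comul.lTensor B s) := by
  induction s using TensorProduct.induction_on with
  | zero => simp
  | add s₁ s₂ h₁ h₂ => simp only [map_add, h₁, h₂]
  | tmul a b =>
    rw [P_tmul, LinearMap.lTensor_tmul, T_tmul, G, LinearMap.liftBaseChange_tmul, lamV_pi]
    rfl

lemma G_comp_F : G K B ∘ₗ F K B = LinearMap.id := by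
  apply Derivation.liftKaehlerDifferential_unique
  ext b
  show G K B (F K B (KaehlerDifferential.D K B b)) = KaehlerDifferential.D K B b
  rw [F, Derivation.liftKaehlerDifferential_comp_D]
  show G K B (P K B (comul b)) = _
  rw [G_P, ← Coalgebra.coassoc_apply, T_assoc_rTensor, cL_comul]

/-- `a ⊗ t ↦ S(a) • P t`. -/
noncomputable def T' : B ⊗[K] (B ⊗[K] B) →ₗ[K] B ⊗[K] V K B :=
  TensorProduct.lift (LinearMap.mk₂ K (fun a t => antipode K a • P K B t)
    (fun a a' b => by simp [add_smul])
    (fun c a b => by simp)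
    (fun a b b' => by simp)
    (fun c a b => by rw [map_smul, smul_comm]))

@[simp] lemma T'_tmul (a : B) (t : B ⊗[K] B) : T' K B (a ⊗ₜ t) = antipode K a • P K B t := by
  simp [T']

lemma T'_assoc (u : B ⊗[K] B) (c : B) :
    T' K B (TensorProduct.assoc K B B B (u ⊗ₜ c)) = mS K B u ⊗ₜ pi K B c := by
  induction u using TensorProduct.induction_on with
  | zero => simp
  | add u₁ u₂ h₁ h₂ =>
    rw [TensorProduct.add_tmul, map_add, map_add, h₁, h₂, map_add, TensorProduct.add_tmul]
  | tmul a b => simp [TensorProduct.smul_tmul']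

lemma T'_assoc_rTensor (s : B ⊗[K] B) :
    T' K B (TensorProduct.assoc K B B B (comul.rTensor B s)) = 1 ⊗ₜ pi K B (cL K B s) := by
  induction s using TensorProduct.induction_on with
  | zero => simp
  | add s₁ s₂ h₁ h₂ => simp only [map_add, h₁, h₂, TensorProduct.tmul_add]
  | tmul x c =>
    rw [LinearMap.rTensor_tmul, T'_assoc, mS_comul, cL_tmul, map_smul, TensorProduct.tmul_smul,
      Algebra.algebraMap_eq_smul_one, TensorProduct.smul_tmul']

lemma F_Q (s : B ⊗[K] B) : F K B (Q K B s) = T' K B (comul.lTensor B s) := by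
  induction s using TensorProduct.induction_on with
  | zero => simp
  | add s₁ s₂ h₁ h₂ => simp only [map_add, h₁, h₂]
  | tmul a b =>
    rw [Q_tmul, LinearMap.lTensor_tmul, T'_tmul, map_smul, F,
      Derivation.liftKaehlerDifferential_comp_D]
    rfl

lemma F_comp_G : F K B ∘ₗ G K B = LinearMap.id := by
  apply TensorProduct.AlgebraTensorModule.ext
  intro a v
  obtain ⟨z, rfl⟩ := (W K B).mkQ_surjective v
  show F K B (G K B (a ⊗ₜ pi K B z)) = a ⊗ₜ pi K B z
  rw [G, LinearMap.liftBaseChange_tmul, lamV_pi, map_smul]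
  show a • F K B (Q K B (comul z)) = _
  rw [F_Q, ← Coalgebra.coassoc_apply, T'_assoc_rTensor, cL_comul, TensorProduct.smul_tmul',
    smul_eq_mul, mul_one]

/-- `Ω_{B/K} ≃ B ⊗_K V`. -/
noncomputable def equiv : Ω[B⁄K] ≃ₗ[B] B ⊗[K] V K B :=
  LinearEquiv.ofLinearMap (F K B) (G K B) (F_comp_G K B) (G_comp_F K B)

theorem free : Module.Free B (Ω[B⁄K]) :=
  Module.Free.of_equiv (equiv K B).symm

end

end HopfKaehler

/-- Affine case of the last sentence: for a group scheme over a field the module of differentials is a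
free module; stated for an affine group scheme Spec B, i.e. for a commutative Hopf algebra B over a
field K: Ω_{B/K} is a free B-module. -/
theorem result (K : Type u) [Field K] (B : Type v) [CommRing B] [HopfAlgebra K B] : Module.Free B (Ω[B⁄K]) := by
  exact free K B

end Groth.Agent.S1846
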