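import Groth.Statements.S18464
import Groth.Agent.Lib.Helper6Hopf12

set_option autoImplicit false
universe u
open LefPen
open MvPolynomial

namespace Groth.Agent.S18464

section PolyFun

variable (k : Type u) [Field k] {V : Type u} [AddCommGroup V] [Module k V]

theorem isPolyFun_const (c : k) : IsPolyFun k (fun _ : V => c) := by
  have : (fun _ : V => c) = algebraMap k (V → k) c := by
    ext v; simp [Pi.algebraMap_apply]
  rw [IsPolyFun, this]; exact Subalgebra.algebraMap_mem _ _

theorem isPolyFun_add {f g : V → k} (hf : IsPolyFun k f) (hg : IsPolyFun k g) :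
    IsPolyFun k (fun v => f v + g v) :=
  Subalgebra.add_mem _ hf hg

theorem isPolyFun_mul {f g : V → k} (hf : IsPolyFun k f) (hg : IsPolyFun k g) :
    IsPolyFun k (fun v => f v * g v) :=
  Subalgebra.mul_mem _ hf hg

theorem isPolyFun_linear (l : Module.Dual k V) : IsPolyFun k (fun v => l v) :=
  Algebra.subset_adjoin ⟨l, rfl⟩

theorem isPolyFun_sum {ι : Type*} (s : Finset ι) (f : ι → V → k)
    (h : ∀ i ∈ s, IsPolyFun k (f i)) : IsPolyFun k (fun v => ∑ i ∈ s, f i v) := by
  have : (fun v => ∑ i ∈ s, f i v) = ∑ i ∈ s, f i := by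
    ext v; simp [Finset.sum_apply]
  rw [IsPolyFun, this]; exact Subalgebra.sum_mem _ h

theorem isPolyFun_prod {ι : Type*} (s : Finset ι) (f : ι → V → k)
    (h : ∀ i ∈ s, IsPolyFun k (f i)) : IsPolyFun k (fun v => ∏ i ∈ s, f i v) := by
  have : (fun v => ∏ i ∈ s, f i v) = ∏ i ∈ s, f i := by
    ext v; simp [Finset.prod_apply]
  rw [IsPolyFun, this]; exact Subalgebra.prod_mem _ h

theorem isPolyFun_det {n : ℕ} (M : V → Matrix (Fin n) (Fin n) k)
    (h : ∀ i j, IsPolyFun k (fun v => M v i j)) : IsPolyFun k (fun v => (M v).det) := by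
  simp only [Matrix.det_apply']
  apply isPolyFun_sum
  intro σ _
  apply isPolyFun_mul
  · exact isPolyFun_const k _
  · apply isPolyFun_prod
    intro i _
    exact h _ _

end PolyFun

variable (k : Type u) [Field k]

theorem isPolyFun_aeval (r m : ℕ) (i : Fin m) (P : MvPolynomial (Fin (r + 1)) k) :
    IsPolyFun k (fun x : Fin m → (Fin (r + 1) → k) => MvPolynomial.aeval (x i) P) := by
  induction P using MvPolynomial.induction_on with
  | C a =>
    simp only [MvPolynomial.aeval_C, Algebra.algebraMap_self, RingHom.id_apply]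
    exact isPolyFun_const k a
  | add p q hp hq =>
    simp only [map_add]
    exact isPolyFun_add k hp hq
  | mul_X p j hp =>
    simp only [map_mul, MvPolynomial.aeval_X]
    apply isPolyFun_mul k hp
    exact isPolyFun_linear k
      ((LinearMap.proj j : (Fin (r + 1) → k) →ₗ[k] k) ∘ₗ
        (LinearMap.proj i : (Fin m → (Fin (r + 1) → k)) →ₗ[k] (Fin (r + 1) → k)))

noncomputable def ev (r d m : ℕ) (y : Fin m → (Fin (r + 1) → k)) :
    LefPen.Form r k d →ₗ[k] (Fin m → k) :=
  LinearMap.pi fun i => (MvPolynomial.aeval (y i)).toLinearMap ∘ₗ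
    (CohB1.polyGrading r k d).subtype

theorem ev_apply (r d m : ℕ) (y : Fin m → (Fin (r + 1) → k)) (G : LefPen.Form r k d) (i : Fin m) :
    ev k r d m y G i = MvPolynomial.aeval (y i) G.1 := rfl

instance finite_form (r d : ℕ) : Module.Finite k (LefPen.Form r k d) :=
  Groth.Agent.Lib.Helper6.Hopf.finite_homogeneousSubmodule k (r + 1) d

theorem finrank_form (r d : ℕ) : Module.finrank k (LefPen.Form r k d) = Nat.choose (r + d) d := by
  have := Groth.Agent.Lib.Helper6.Hopf.finrank_homogeneousSubmodule k (r + 1) d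
  rw [show r + 1 + d - 1 = r + d by omega] at this
  exact this

theorem zopen (r d m : ℕ) :
    LefPen.IsZOpen k {x : Fin m → (Fin (r + 1) → k) |
      ∀ G : LefPen.Form r k d, (∀ i : Fin m, MvPolynomial.aeval (x i) G.1 = 0) → G = 0} := by
  classical
  intro x hx
  have hker : LinearMap.ker (ev k r d m x) = ⊥ := by
    rw [LinearMap.ker_eq_bot']
    intro G hG
    apply hx G
    intro i
    have := congrFun hG i
    rwa [ev_apply] at this
  obtain ⟨ρ, hρ⟩ := LinearMap.exists_leftInverse_of_injective (ev k r d m x) hker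
  refine ⟨fun y => LinearMap.det (ρ ∘ₗ ev k r d m y), ?_, ?_, ?_⟩
  · -- polynomial function
    let b := Module.finBasis k (LefPen.Form r k d)
    have hdet : ∀ y, LinearMap.det (ρ ∘ₗ ev k r d m y) =
        (LinearMap.toMatrix b b (ρ ∘ₗ ev k r d m y)).det := fun y =>
      (LinearMap.det_toMatrix b _).symm
    simp only [hdet]
    apply isPolyFun_det
    intro i j
    have hentry : ∀ y : Fin m → (Fin (r + 1) → k),
        LinearMap.toMatrix b b (ρ ∘ₗ ev k r d m y) i j =
          ∑ l : Fin m, MvPolynomial.aeval (y l) (b j).1 *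
            b.repr (ρ (fun l' => if l = l' then 1 else 0)) i := by
      intro y
      rw [LinearMap.toMatrix_apply, LinearMap.comp_apply,
        LinearMap.pi_apply_eq_sum_univ ρ (ev k r d m y (b j)), map_sum, Finsupp.finset_sum_apply]
      refine Finset.sum_congr rfl fun l _ => ?_
      rw [map_smul, Finsupp.smul_apply, smul_eq_mul, ev_apply]
    simp only [hentry]
    apply isPolyFun_sum
    intro l _
    apply isPolyFun_mul
    · exact isPolyFun_aeval k r m l _
    · exact isPolyFun_const k _
  · show LinearMap.det (ρ ∘ₗ ev k r d m x) ≠ 0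
    rw [hρ, LinearMap.det_id]
    exact one_ne_zero
  · intro w hw G hG
    have hw' : LinearMap.det (ρ ∘ₗ ev k r d m w) ≠ 0 := hw
    have hk : LinearMap.ker (ρ ∘ₗ ev k r d m w) = ⊥ := by
      by_contra hne
      exact hw' (LinearMap.det_eq_zero_iff_ker_ne_bot.2 hne)
    have h0 : ev k r d m w G = 0 := by
      ext i
      rw [ev_apply, hG i]; rfl
    have : G ∈ LinearMap.ker (ρ ∘ₗ ev k r d m w) := by
      rw [LinearMap.mem_ker, LinearMap.comp_apply, h0, map_zero]
    rw [hk] at this
    exact (Submodule.mem_bot k).1 this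

theorem exists_pts [Infinite k] (r d : ℕ) :
    ∀ (j : ℕ) (K : Submodule k (LefPen.Form r k d)), Module.finrank k K ≤ j →
      ∃ pts : Fin j → (Fin (r + 1) → k),
        ∀ G ∈ K, (∀ l, MvPolynomial.aeval (pts l) G.1 = 0) → G = 0 := by
  intro j
  induction j with
  | zero =>
    intro K hK
    have hK0 : K = ⊥ := by
      have : Module.finrank k K = 0 := Nat.le_zero.1 hK
      exact Submodule.finrank_eq_zero.1 this
    refine ⟨fun l => l.elim0, fun G hG _ => ?_⟩
    rw [hK0] at hG
    exact (Submodule.mem_bot k).1 hG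
  | succ j ih =>
    intro K hK
    by_cases hK0 : K = ⊥
    · refine ⟨fun _ => 0, fun G hG _ => ?_⟩
      rw [hK0] at hG
      exact (Submodule.mem_bot k).1 hG
    · obtain ⟨G0, hG0K, hG0⟩ := Submodule.exists_mem_ne_zero_of_ne_bot hK0
      have hG0' : (G0 : MvPolynomial (Fin (r + 1)) k) ≠ 0 := fun h => hG0 (Subtype.ext h)
      obtain ⟨v, hv⟩ : ∃ v : Fin (r + 1) → k, MvPolynomial.eval v G0.1 ≠ 0 := by
        by_contra hcon
        push Not at hcon
        apply hG0'
        apply MvPolynomial.funext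
        intro x
        rw [hcon x, map_zero]
      let φ : LefPen.Form r k d →ₗ[k] k :=
        (MvPolynomial.aeval v).toLinearMap ∘ₗ (CohB1.polyGrading r k d).subtype
      have hφ : ∀ G : LefPen.Form r k d, φ G = MvPolynomial.aeval v G.1 := fun G => rfl
      let K' : Submodule k (LefPen.Form r k d) := K ⊓ LinearMap.ker φ
      have hlt : K' < K := by
        refine lt_of_le_of_ne inf_le_left ?_
        intro heq
        have : G0 ∈ K' := by rw [heq]; exact hG0K
        have h2 : φ G0 = 0 := (Submodule.mem_inf.1 this).2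
        rw [hφ, MvPolynomial.aeval_eq_eval] at h2
        exact hv h2
      have hfr : Module.finrank k K' ≤ j := by
        have := Submodule.finrank_lt_finrank_of_lt hlt
        omega
      obtain ⟨pts', hpts'⟩ := ih K' hfr
      refine ⟨Fin.cons v pts', fun G hG hvan => ?_⟩
      apply hpts' G
      · refine Submodule.mem_inf.2 ⟨hG, ?_⟩
        rw [LinearMap.mem_ker, hφ]
        have := hvan 0
        rwa [Fin.cons_zero] at this
      · intro l
        have := hvan l.succ
        rwa [Fin.cons_succ] at this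

theorem result (k : Type u) [Field k] [Infinite k]
    (r d m : ℕ) (hd : 1 ≤ d) (hm : Nat.choose (r + d) d ≤ m) :
    LefPen.IsZOpen k {x : Fin m → (Fin (r + 1) → k) |
      ∀ G : LefPen.Form r k d, (∀ i : Fin m, MvPolynomial.aeval (x i) G.1 = 0) → G = 0} ∧
    LefPen.IsGeneric k {x : Fin m → (Fin (r + 1) → k) |
      ∀ G : LefPen.Form r k d, (∀ i : Fin m, MvPolynomial.aeval (x i) G.1 = 0) → G = 0} := by
  refine ⟨zopen k r d m, ?_⟩
  obtain ⟨pts, hpts⟩ := exists_pts k r d m ⊤ (by
    rw [finrank_top, finrank_form]; exact hm)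
  have hmem : pts ∈ {x : Fin m → (Fin (r + 1) → k) |
      ∀ G : LefPen.Form r k d, (∀ i : Fin m, MvPolynomial.aeval (x i) G.1 = 0) → G = 0} :=
    fun G hG => hpts G Submodule.mem_top hG
  obtain ⟨f, hf1, hf2, hf3⟩ := zopen k r d m pts hmem
  exact ⟨f, hf1, ⟨pts, hf2⟩, hf3⟩

end Groth.Agent.S18464
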