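import Groth.Statements.S18465
import Mathlib.Tactic

set_option autoImplicit false
universe u v w x
open WildLef

namespace Groth.Agent.S18465

/-- Let f : G₁ → G₂ be a homomorphism of groups, ρ : G₂ → Γ a homomorphism with finite image G, and A a
nontrivial commutative ring. Let G₂ act on the group algebra A[G] through ρ followed by the left
regular representation, and G₁ through f. If the elements of A[G] fixed by G₁ coincide with those
fixed by G₂, then ρ ∘ f and ρ have the same image. (The published statement has Γ a general linear
group GL_r(A); over the zero ring that group is trivial, so requiring A nontrivial and allowing any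
target group loses nothing.) -/
theorem result
    {G₁ : Type u} {G₂ : Type v} {Γ : Type w} [Group G₁] [Group G₂] [Group Γ]
    (f : G₁ →* G₂) (ρ : G₂ →* Γ) [Finite ρ.range] (A : Type x) [CommRing A] [Nontrivial A]
    (h : {x : MonoidAlgebra A ρ.range | ∀ g : G₁, MonoidAlgebra.of A ρ.range (ρ.rangeRestrict (f g)) * x = x} =
      {x : MonoidAlgebra A ρ.range | ∀ g : G₂, MonoidAlgebra.of A ρ.range (ρ.rangeRestrict g) * x = x}) :
    (ρ.comp f).range = ρ.range := by
  classical
  have : Fintype ρ.range := Fintype.ofFinite _
  apply le_antisymm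
  · rintro _ ⟨g, rfl⟩
    exact ⟨f g, rfl⟩
  · -- the subgroup of `ρ.range` coming from `G₁`
    let H : Subgroup ρ.range := (ρ.rangeRestrict.comp f).range
    -- the sum of the elements of `H`
    let x : MonoidAlgebra A ρ.range := ∑ h ∈ (Finset.univ.filter (fun h : ρ.range => h ∈ H)), MonoidAlgebra.single h (1 : A)
    have hxapp : ∀ y : ρ.range, x.coeff y = if y ∈ H then 1 else 0 := by
      intro y
      simp only [x]
      rw [MonoidAlgebra.coeff_sum, Finsupp.finset_sum_apply]
      simp only [MonoidAlgebra.coeff_single, Finsupp.single_apply]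
      rw [Finset.sum_ite_eq']
      simp
    have hfix : ∀ g : G₁, MonoidAlgebra.of A ρ.range (ρ.rangeRestrict (f g)) * x = x := by
      intro g
      apply MonoidAlgebra.ext
      ext y
      rw [MonoidAlgebra.of_apply, MonoidAlgebra.coeff_single_mul_apply, one_mul, hxapp, hxapp]
      have hg : ρ.rangeRestrict (f g) ∈ H := ⟨g, rfl⟩
      have : (ρ.rangeRestrict (f g))⁻¹ * y ∈ H ↔ y ∈ H := by
        constructor
        · intro h
          have := H.mul_mem hg h
          simpa using this
        · intro h
          exact H.mul_mem (H.inv_mem hg) h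
      simp only [this]
    have hx1 : x ∈ {x : MonoidAlgebra A ρ.range | ∀ g : G₁, MonoidAlgebra.of A ρ.range (ρ.rangeRestrict (f g)) * x = x} := hfix
    rw [h] at hx1
    rintro γ ⟨g, rfl⟩
    have h2 := hx1 g
    have h3 : (MonoidAlgebra.of A ρ.range (ρ.rangeRestrict g) * x).coeff (ρ.rangeRestrict g) =
        x.coeff (ρ.rangeRestrict g) := by rw [h2]
    rw [MonoidAlgebra.of_apply, MonoidAlgebra.coeff_single_mul_apply, one_mul, hxapp, hxapp, inv_mul_cancel,
      if_pos H.one_mem] at h3
    have hgH : ρ.rangeRestrict g ∈ H := by
      by_contra hn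
      rw [if_neg hn] at h3
      exact one_ne_zero h3
    obtain ⟨g₁, hg₁⟩ := hgH
    refine ⟨g₁, ?_⟩
    have := congrArg Subtype.val hg₁
    simpa using this

end Groth.Agent.S18465
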