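import Groth.Statements.S18467
import Mathlib

set_option autoImplicit false
universe u
open Hopf

namespace Groth.Agent.S18467

/-- Let p be a prime and R a commutative ring containing an element u with u(p − 1) = 1, and let χ be a
homomorphism from the group of units of ℤ/p to the group of units of R such that χ(m) − 1 is a unit
of R for every m ≠ 1. For 0 ≤ i < p − 1 put e_i = u · Σ_m χ(m)^{−i} [m] in the group algebra
R[(ℤ/p)ˣ]. Then the e_i are idempotents, e_i e_j = 0 for i ≠ j, and Σ_i e_i = 1. (The published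
statement is for algebras over the subring of the p-adic integers generated over ℤ by the values of
the Teichmüller character χ and by 1/(p(p − 1)); the hypotheses on R and χ here are the properties
of that situation which the computation uses, so the row is stated for every such pair.) -/
theorem result
    (p : ℕ) [Fact p.Prime] (R : Type u) [CommRing R] (u : R) (hu : u * ((p - 1 : ℕ) : R) = 1)
    (χ : (ZMod p)ˣ →* Rˣ) (hχ : ∀ m : (ZMod p)ˣ, m ≠ 1 → IsUnit ((χ m : R) - 1)) :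
    CompleteOrthogonalIdempotents (fun i : Fin (p - 1) =>
      u • ∑ m : (ZMod p)ˣ, ((χ m⁻¹ : Rˣ) : R) ^ (i : ℕ) • MonoidAlgebra.of R (ZMod p)ˣ m) := by
  classical
  have hcard : Fintype.card (ZMod p)ˣ = p - 1 := ZMod.card_units p
  rw [CompleteOrthogonalIdempotents.iff_ortho_complete]
  constructor
  · -- orthogonality
    intro i j hij
    show (u • ∑ m : (ZMod p)ˣ, ((χ m⁻¹ : Rˣ) : R) ^ (i : ℕ) • MonoidAlgebra.of R (ZMod p)ˣ m) *
      (u • ∑ m : (ZMod p)ˣ, ((χ m⁻¹ : Rˣ) : R) ^ (j : ℕ) • MonoidAlgebra.of R (ZMod p)ˣ m) = 0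
    -- the character sum vanishes
    let τ : (ZMod p)ˣ → Rˣ := fun m => (χ m⁻¹) ^ (i : ℕ) * (χ m) ^ (j : ℕ)
    have hτmul : ∀ a b, τ (a * b) = τ a * τ b := by
      intro a b
      show (χ (a * b)⁻¹) ^ (i : ℕ) * (χ (a * b)) ^ (j : ℕ) =
        ((χ a⁻¹) ^ (i : ℕ) * (χ a) ^ (j : ℕ)) * ((χ b⁻¹) ^ (i : ℕ) * (χ b) ^ (j : ℕ))
      rw [mul_inv, map_mul, map_mul, mul_pow, mul_pow]
      exact mul_mul_mul_comm _ _ _ _
    have hT : ∑ m : (ZMod p)ˣ, ((τ m : Rˣ) : R) = 0 := by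
      obtain ⟨g0, hg0⟩ := IsCyclic.exists_generator (α := (ZMod p)ˣ)
      have hord : orderOf g0 = p - 1 := by
        rw [orderOf_eq_card_of_forall_mem_zpowers hg0, Nat.card_eq_fintype_card, hcard]
      have hne : g0⁻¹ ^ (i : ℕ) * g0 ^ (j : ℕ) ≠ 1 := by
        intro h
        have h2 : g0 ^ (j : ℕ) = g0 ^ (i : ℕ) := by
          rw [inv_pow, inv_mul_eq_one] at h
          exact h.symm
        have := pow_injOn_Iio_orderOf (x := g0) (by rw [Set.mem_Iio, hord]; exact j.2)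
          (by rw [Set.mem_Iio, hord]; exact i.2) h2
        exact hij (Fin.ext this.symm)
      have hunit := hχ _ hne
      have hτg : τ g0 = χ (g0⁻¹ ^ (i : ℕ) * g0 ^ (j : ℕ)) := by
        show (χ g0⁻¹) ^ (i : ℕ) * (χ g0) ^ (j : ℕ) = _
        rw [map_mul, map_pow, map_pow]
      have hshift : ((τ g0 : Rˣ) : R) * ∑ m : (ZMod p)ˣ, ((τ m : Rˣ) : R) =
          ∑ m : (ZMod p)ˣ, ((τ m : Rˣ) : R) := by
        rw [Finset.mul_sum]
        rw [← Equiv.sum_comp (Equiv.mulLeft g0) (fun m => ((τ m : Rˣ) : R))]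
        apply Finset.sum_congr rfl
        intro m _
        have hτmul' : ((τ (g0 * m) : Rˣ) : R) = ((τ g0 : Rˣ) : R) * ((τ m : Rˣ) : R) := by
          rw [hτmul g0 m]
          exact Units.val_mul _ _
        exact hτmul'.symm
      have h0 : (((τ g0 : Rˣ) : R) - 1) * ∑ m : (ZMod p)ˣ, ((τ m : Rˣ) : R) = 0 := by
        rw [sub_mul, hshift, one_mul, sub_self]
      rw [hτg] at h0
      exact hunit.mul_right_eq_zero.mp h0
    rw [smul_mul_smul_comm, Finset.sum_mul_sum]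
    have hinner : ∀ m : (ZMod p)ˣ,
        ∑ m' : (ZMod p)ˣ, (((χ m⁻¹ : Rˣ) : R) ^ (i : ℕ) • MonoidAlgebra.of R (ZMod p)ˣ m) *
          (((χ m'⁻¹ : Rˣ) : R) ^ (j : ℕ) • MonoidAlgebra.of R (ZMod p)ˣ m') =
        ∑ g : (ZMod p)ˣ, (((τ m : Rˣ) : R) * ((χ g⁻¹ : Rˣ) : R) ^ (j : ℕ)) •
          MonoidAlgebra.of R (ZMod p)ˣ g := by
      intro m
      rw [← Equiv.sum_comp (Equiv.mulLeft m⁻¹)]
      apply Finset.sum_congr rfl
      intro g _
      show (((χ m⁻¹ : Rˣ) : R) ^ (i : ℕ) • MonoidAlgebra.of R (ZMod p)ˣ m) *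
          (((χ (m⁻¹ * g)⁻¹ : Rˣ) : R) ^ (j : ℕ) • MonoidAlgebra.of R (ZMod p)ˣ (m⁻¹ * g)) = _
      rw [smul_mul_smul_comm, ← map_mul, mul_inv_cancel_left]
      congr 1
      show _ = ((((χ m⁻¹) ^ (i : ℕ) * (χ m) ^ (j : ℕ) : Rˣ) : Rˣ) : R) * _
      rw [mul_inv, inv_inv, map_mul, Units.val_mul, mul_pow, Units.val_mul, Units.val_pow_eq_pow_val,
        Units.val_pow_eq_pow_val]
      ring
    rw [Finset.sum_congr rfl (fun m _ => hinner m), Finset.sum_comm]
    have hg : ∀ g : (ZMod p)ˣ,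
        ∑ m : (ZMod p)ˣ, (((τ m : Rˣ) : R) * ((χ g⁻¹ : Rˣ) : R) ^ (j : ℕ)) •
          MonoidAlgebra.of R (ZMod p)ˣ g = 0 := by
      intro g
      rw [← Finset.sum_smul, ← Finset.sum_mul, hT, zero_mul, zero_smul]
    rw [Finset.sum_congr rfl (fun g _ => hg g), Finset.sum_const_zero, smul_zero]
  · -- completeness
    rw [← Finset.smul_sum, Finset.sum_comm]
    have key : ∀ m : (ZMod p)ˣ, (∑ i : Fin (p - 1), ((χ m⁻¹ : Rˣ) : R) ^ (i : ℕ)) =
        if m = 1 then ((p - 1 : ℕ) : R) else 0 := by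
      intro m
      rw [Fin.sum_univ_eq_sum_range (fun i => ((χ m⁻¹ : Rˣ) : R) ^ i) (p - 1)]
      split_ifs with hm
      · subst hm; simp
      · have hm' : m⁻¹ ≠ 1 := by simpa using hm
        have hunit := hχ m⁻¹ hm'
        have h1 : (∑ i ∈ Finset.range (p - 1), ((χ m⁻¹ : Rˣ) : R) ^ i) *
            (((χ m⁻¹ : Rˣ) : R) - 1) = 0 := by
          rw [geom_sum_mul, ← Units.val_pow_eq_pow_val, ← map_pow, ← hcard, pow_card_eq_one, map_one,
            Units.val_one, sub_self]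
        exact hunit.mul_left_eq_zero.mp h1
    have hsum : ∀ m : (ZMod p)ˣ, ∑ i : Fin (p - 1), ((χ m⁻¹ : Rˣ) : R) ^ (i : ℕ) •
        MonoidAlgebra.of R (ZMod p)ˣ m =
        (if m = 1 then ((p - 1 : ℕ) : R) else 0) • MonoidAlgebra.of R (ZMod p)ˣ m := by
      intro m
      rw [← Finset.sum_smul, key]
    rw [Finset.sum_congr rfl (fun m _ => hsum m)]
    rw [Finset.sum_eq_single (1 : (ZMod p)ˣ)]
    · rw [if_pos rfl, smul_smul, hu, one_smul, map_one]
    · intro m _ hm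
      rw [if_neg hm, zero_smul]
    · intro h; exact absurd (Finset.mem_univ _) h

end Groth.Agent.S18467
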