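import Groth.Statements.S18479
import Mathlib.Tactic

set_option autoImplicit false
universe u v
open scoped TensorProduct
open OortTate

namespace Groth.Agent.S18479

section Helper

variable {R : Type u} [CommRing R] {A : Type v} [CommRing A] [HopfAlgebra R A]
    (x : A) (hx : Coalgebra.counit (R := R) x = 0)
    (hgen : ∀ f : A, Coalgebra.counit (R := R) f = 0 → ∃ r : R, f = r • x)
    (hfree : ∀ r : R, r • x = 0 → r = 0)

include hgen in
lemma decomp (f : A) : ∃ r : R, f = (Coalgebra.counit (R := R) f) • (1 : A) + r • x := by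
  obtain ⟨r, hr⟩ := hgen (f - (Coalgebra.counit (R := R) f) • (1 : A)) (by
    rw [map_sub, map_smul, Bialgebra.counit_one, smul_eq_mul, mul_one, sub_self])
  exact ⟨r, by rw [← hr]; abel⟩

include hx hfree in
lemma indep (c0 c1 : R) (h : c0 • (1 : A) + c1 • x = 0) : c0 = 0 ∧ c1 = 0 := by
  have h0 : c0 = 0 := by
    have := congrArg (Coalgebra.counit (R := R)) h
    rw [map_add, map_smul, map_smul, Bialgebra.counit_one, hx, map_zero] at this
    simpa using this
  refine ⟨h0, hfree c1 ?_⟩
  rw [h0, zero_smul, zero_add] at h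
  exact h

include hx hgen hfree in
/-- the functional `λ` with `λ 1 = 0`, `λ x = 1`. -/
lemma exists_functional : ∃ l : A →ₗ[R] R, l 1 = 0 ∧ l x = 1 := by
  classical
  choose r hr using decomp x hgen
  have huniq : ∀ (f : A) (c : R), f = (Coalgebra.counit (R := R) f) • (1 : A) + c • x → c = r f := by
    intro f c hc
    have h1 := hr f
    have : (0 : R) • (1 : A) + (c - r f) • x = 0 := by
      rw [zero_smul, zero_add, sub_smul]
      have : c • x = r f • x := by
        have h2 : (Coalgebra.counit (R := R) f) • (1 : A) + c • x =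
            (Coalgebra.counit (R := R) f) • (1 : A) + r f • x := by rw [← hc, ← h1]
        exact add_left_cancel h2
      rw [this, sub_self]
    exact sub_eq_zero.mp (indep x hx hfree _ _ this).2
  refine ⟨{ toFun := r, map_add' := ?_, map_smul' := ?_ }, ?_, ?_⟩
  · intro f g
    symm
    apply huniq
    rw [map_add, add_smul, add_smul]
    conv_lhs => rw [hr f, hr g]
    abel
  · intro c f
    symm
    apply huniq
    rw [map_smul, RingHom.id_apply, smul_eq_mul, smul_eq_mul, mul_smul, mul_smul]
    conv_lhs => rw [hr f]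
    rw [smul_add]
  · symm
    apply huniq
    rw [Bialgebra.counit_one, one_smul, zero_smul, add_zero]
  · symm
    apply huniq
    rw [hx, zero_smul, zero_add, one_smul]

include hgen in
lemma tensor_span (t : A ⊗[R] A) : ∃ c0 c1 c2 c3 : R,
    t = c0 • ((1 : A) ⊗ₜ[R] (1 : A)) + c1 • (x ⊗ₜ[R] (1 : A)) + c2 • ((1 : A) ⊗ₜ[R] x) +
      c3 • (x ⊗ₜ[R] x) := by
  induction t using TensorProduct.induction_on with
  | zero => exact ⟨0, 0, 0, 0, by simp⟩
  | tmul f g =>
    obtain ⟨r, hr⟩ := decomp x hgen f
    obtain ⟨r', hr'⟩ := decomp x hgen g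
    set e := Coalgebra.counit (R := R) f
    set e' := Coalgebra.counit (R := R) g
    refine ⟨e * e', r * e', e * r', r * r', ?_⟩
    rw [hr, hr']
    simp only [TensorProduct.add_tmul, TensorProduct.tmul_add, TensorProduct.smul_tmul_smul]
    abel
  | add t t' ht ht' =>
    obtain ⟨c0, c1, c2, c3, h⟩ := ht
    obtain ⟨d0, d1, d2, d3, h'⟩ := ht'
    refine ⟨c0 + d0, c1 + d1, c2 + d2, c3 + d3, ?_⟩
    rw [h, h']
    simp only [add_smul]
    abel

end Helper

/-- Let R be a commutative ring and A a commutative Hopf algebra over R whose augmentation ideal ker ε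
is a free R-module of rank one with generator x (this is the situation of a group scheme of order 2
over a local ring: A free of rank 2, so ker ε is free of rank 1). Then there are a, b ∈ R with x² =
a·x, Δ(x) = x ⊗ 1 + 1 ⊗ x + b·(x ⊗ x), and ab = −2; thus A is the Hopf algebra R[T]/(T² − aT) with
comultiplication T ↦ T ⊗ 1 + 1 ⊗ T + b T ⊗ T. (The copy works over a Noetherian local ring to get
freeness; the computation uses only that ker ε is free on x.) -/
theorem result
    (R : Type u) [CommRing R] (A : Type v) [CommRing A] [HopfAlgebra R A]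
    (x : A) (hx : Bialgebra.counitAlgHom R A x = 0)
    (hgen : ∀ f : A, Bialgebra.counitAlgHom R A f = 0 → ∃ r : R, f = r • x)
    (hfree : ∀ r : R, r • x = 0 → r = 0) :
    ∃ a b : R, x * x = a • x ∧
      Bialgebra.comulAlgHom R A x = x ⊗ₜ[R] 1 + 1 ⊗ₜ[R] x + b • (x ⊗ₜ[R] x) ∧ a * b = -2 := by
  have hx' : Coalgebra.counit (R := R) x = 0 := hx
  have hgen' : ∀ f : A, Coalgebra.counit (R := R) f = 0 → ∃ r : R, f = r • x := hgen
  -- x * x = a • x
  obtain ⟨a, ha⟩ := hgen' (x * x) (by rw [Bialgebra.counit_mul, hx', zero_mul])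
  -- Δ x
  obtain ⟨c0, c1, c2, b, hΔ⟩ := tensor_span x hgen' (Coalgebra.comul (R := R) x)
  have h1 := Coalgebra.rTensor_counit_comul (R := R) x
  rw [hΔ] at h1
  simp only [map_add, map_smul, LinearMap.rTensor_tmul, Bialgebra.counit_one, hx'] at h1
  have h1' := congrArg (TensorProduct.lid R A) h1
  simp only [map_add, map_smul, TensorProduct.lid_tmul, one_smul, zero_smul, smul_zero,
    add_zero] at h1'
  have e1 := indep x hx' hfree c0 (c2 - 1) (by
    have : c0 • (1 : A) + (c2 - 1) • x = (c0 • (1 : A) + c2 • x) - x := by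
      rw [sub_smul, one_smul]; abel
    rw [this, h1', sub_self])
  have h2 := Coalgebra.lTensor_counit_comul (R := R) x
  rw [hΔ] at h2
  simp only [map_add, map_smul, LinearMap.lTensor_tmul, Bialgebra.counit_one, hx'] at h2
  have h2' := congrArg (TensorProduct.rid R A) h2
  simp only [map_add, map_smul, TensorProduct.rid_tmul, one_smul, zero_smul, smul_zero,
    add_zero] at h2'
  have e2 := indep x hx' hfree c0 (c1 - 1) (by
    have : c0 • (1 : A) + (c1 - 1) • x = (c0 • (1 : A) + c1 • x) - x := by
      rw [sub_smul, one_smul]; abel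
    rw [this, h2', sub_self])
  have hc0 : c0 = 0 := e1.1
  have hc2 : c2 = 1 := sub_eq_zero.mp e1.2
  have hc1 : c1 = 1 := sub_eq_zero.mp e2.2
  rw [hc0, hc1, hc2, zero_smul, zero_add, one_smul, one_smul] at hΔ
  refine ⟨a, b, ha, hΔ, ?_⟩
  -- the functional
  obtain ⟨l, hl1, hlx⟩ := exists_functional x hx' hgen' hfree
  let L : A ⊗[R] A →ₗ[R] R := (TensorProduct.lid R R).toLinearMap ∘ₗ TensorProduct.map l l
  have hL : ∀ u v : A, L (u ⊗ₜ[R] v) = l u * l v := fun u v => by simp [L]
  -- Δ(x*x) two ways
  have hmul : Coalgebra.comul (R := R) (x * x) =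
      Coalgebra.comul (R := R) x * Coalgebra.comul (R := R) x := Bialgebra.comul_mul x x
  have hsm : Coalgebra.comul (R := R) (x * x) = a • Coalgebra.comul (R := R) x := by
    rw [ha, map_smul]
  have hprod : Coalgebra.comul (R := R) x * Coalgebra.comul (R := R) x =
      a • (x ⊗ₜ[R] (1 : A)) + a • ((1 : A) ⊗ₜ[R] x) + (2 + 4 * (a * b) + (a * b) ^ 2) • (x ⊗ₜ[R] x) := by
    rw [hΔ]
    simp only [mul_add, add_mul, Algebra.TensorProduct.tmul_mul_tmul, smul_mul_smul_comm,
      Algebra.smul_mul_assoc, Algebra.mul_smul_comm, mul_one, one_mul, ha,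
      TensorProduct.smul_tmul', TensorProduct.tmul_smul, smul_smul, smul_add]
    simp only [← TensorProduct.smul_tmul', TensorProduct.smul_tmul, TensorProduct.tmul_smul, smul_smul]
    module
  have key : a * b = 2 + 4 * (a * b) + (a * b) ^ 2 := by
    have := congrArg L (hsm.symm.trans (hmul.trans hprod))
    rw [hΔ] at this
    simp only [map_add, map_smul, hL, hl1, hlx, smul_eq_mul, mul_zero, zero_mul, mul_one,
      add_zero, zero_add] at this
    exact this
  -- antipode
  obtain ⟨c, hc⟩ := hgen' (HopfAlgebra.antipode R x) (by rw [HopfAlgebra.counit_antipode, hx'])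
  have hS := HopfAlgebra.mul_antipode_rTensor_comul_apply (R := R) x
  rw [hΔ, hx', map_zero] at hS
  simp only [map_add, map_smul, LinearMap.rTensor_tmul, LinearMap.mul'_apply,
    HopfAlgebra.antipode_one, hc, mul_one, one_mul, Algebra.smul_mul_assoc, ha, smul_smul] at hS
  have hcoef : c + 1 + b * (c * a) = 0 := by
    apply hfree
    rw [add_smul, add_smul, one_smul]
    exact hS
  have hfin : (a * b + 1) * (a * b + 2) = 0 := by linear_combination -key
  have hunit : -c * (a * b + 1) = 1 := by linear_combination -hcoef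
  calc a * b = a * b + 2 - 2 := by ring
    _ = (-c * (a * b + 1)) * (a * b + 2) - 2 := by rw [hunit, one_mul]
    _ = -c * ((a * b + 1) * (a * b + 2)) - 2 := by ring
    _ = -2 := by rw [hfin]; ring

end Groth.Agent.S18479
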