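import Groth.Statements.S18483
import Mathlib
import Groth.Agent.Lib.Helper10NeronMap
import Groth.Agent.S17688
-- import your own Groth.Agent.* helpers here

set_option autoImplicit false
universe u
open CategoryTheory CategoryTheory.Limits AlgebraicGeometry MonObj
open Neron

namespace Groth.Agent.S18483

/-- Let R be a Dedekind domain with fraction field K and N a proper smooth group scheme over Spec R,
with no connectedness condition on its fibres. Then N is a Néron model of its generic fibre N_K: N
is smooth, separated and of finite type over Spec R, and for every smooth Spec R-scheme Y
restriction to generic fibres is a bijection from R-morphisms Y → N onto K-morphisms Y_K → N_K. (The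
source allows any connected Dedekind scheme as base; the affine case is stated.) -/
theorem result (R : Type u) [CommRing R] [IsDedekindDomain R]
    (N : Over (Spec (CommRingCat.of R))) [GrpObj N] [IsProper N.hom] [Smooth N.hom] :
    Neron.IsNeronModelOf R N ((Neron.genericFibre R).obj N) (Iso.refl _) := by
  haveI : GrpObj (Over.mk N.hom) := inferInstanceAs (GrpObj N)
  refine ⟨inferInstance, inferInstance, inferInstance, inferInstance, ?_⟩
  intro Y hY
  haveI : Smooth Y.hom := hY
  constructor
  · intro a b hab
    apply Groth.Agent.S17688.eq_of_genericFibre_map_eq R Y N a b
    simpa using hab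
  · intro φ
    obtain ⟨u, hu1, hu2⟩ := Groth.Agent.Lib.Helper10.NeronMap.exists_extension_genericFibre
      N.hom Y.hom φ.left (Over.w φ)
    refine ⟨Over.homMk u hu1, ?_⟩
    ext
    simp only [Neron.genericFibre, Iso.refl_hom, Category.comp_id, Over.pullback_map_left]
    apply pullback.hom_ext
    · rw [pullback.lift_fst]
      exact hu2
    · rw [pullback.lift_snd]
      exact (Over.w φ).symm

end Groth.Agent.S18483
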