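import Groth.Statements.S18486
import Mathlib
import Groth.Agent.S13431
import Groth.Agent.S18860
import Groth.Agent.Lib.Helper12Descent

set_option autoImplicit false
universe u
open CategoryTheory CategoryTheory.Limits AlgebraicGeometry MonObj
open Neron

namespace Groth.Agent.S18486


open Groth.Agent.S13431 in
lemma extP_of_bijective_comp_refl {S S₀ : Scheme.{u}} (f : S₀ ⟶ S) (Z A : Over S)
    (h : Function.Bijective
      (fun g : Z ⟶ A => (Over.pullback f).map g ≫ (Iso.refl ((Over.pullback f).obj A)).hom)) :
    ExtP (Over.mk f) Z A := by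
  rw [← extP_iff]
  simpa using h



/-- Let R be a Dedekind domain with fraction field K, X a group scheme over Spec R which is a Néron
model of its generic fibre, and P a Spec R-scheme with an action of X making it an X-torsor for the
fppf topology (a pseudo-torsor which acquires sections on the members of some fppf covering family
of Spec R). Then P is smooth, separated and of finite type over Spec R and has the Néron mapping
property: for every smooth Spec R-scheme Y restriction to generic fibres is a bijection from
R-morphisms Y → P onto K-morphisms Y_K → P_K; that is, P is a Néron model of P_K. (The source treats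
Néron lft models, torsors that are algebraic spaces and the mapping property towards smooth
algebraic spaces; the case of a Néron model of finite type and a torsor which is a scheme is
stated.) -/
theorem result (R : Type u) [CommRing R] [IsDedekindDomain R]
    (X : Over (Spec (CommRingCat.of R))) [GrpObj X] (hX : Neron.IsNeronModelOf R X ((Neron.genericFibre R).obj X) (Iso.refl _))
    (P : NonAbH1.TorsorSch X Scheme.fppfPrecoverage) :
    Neron.IsNeronModelOf R P.X ((Neron.genericFibre R).obj P.X) (Iso.refl _) := by
  obtain ⟨hsm, hsep, hlft, hqc, hnmp⟩ := hX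
  have ha : NonAbH1.IsTorsorFor Scheme.fpqcPrecoverage P.act := by
    obtain ⟨h1, R', hR', hsec⟩ := P.isTorsor
    exact ⟨h1, R', Scheme.fppfPrecoverage_le_fpqcPrecoverage _ hR', hsec⟩
  have hprops := Groth.Agent.S18860.result P.act ha
  haveI hPsm : Smooth P.X.hom := hprops.2.2.2.1 hsm
  have hPlft : LocallyOfFiniteType P.X.hom := hprops.1 hlft
  have hPqc : QuasiCompact P.X.hom := hprops.2.1 hqc
  have hPsep : IsSeparated P.X.hom := by
    obtain ⟨hpt, R', hR', hsec⟩ := ha
    exact Groth.Agent.Lib.Helper12.of_mem_fpqcPrecoverage (P := @IsSeparated)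
      Groth.Agent.Lib.Helper12.descendsAlong_isSeparated P.X.hom R' hR'
      (fun Y' f hf => Groth.Agent.Lib.Helper12.pullback_snd_of_hasSectionOver
        (P := @IsSeparated) P.act hpt hsep f (hsec f hf))
  refine ⟨hPsm, hPsep, hPlft, hPqc, ?_⟩
  have hG : ∀ Y : Over (Spec (CommRingCat.of R)), Smooth Y.hom →
      Groth.Agent.S13431.ExtP (Over.mk (Neron.genPt R)) Y X := fun Y hY =>
    extP_of_bijective_comp_refl _ Y X (hnmp Y hY)
  have hsmt : ∀ Z : Over (Spec (CommRingCat.of R)), Smooth Z.hom → Smooth (MonoidalCategory.tensorObj P.X Z).hom :=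
    fun Z hZ => Groth.Agent.S13430.smooth_tensor_hom P.X Z
  intro Y hY
  have key := Groth.Agent.S13431.extP_torsor_of_group P.act ha.1 ha.2 (Over.mk (Neron.genPt R)) Y
    (hG Y hY) (hG _ (hsmt Y hY)) (hG _ (hsmt _ (hsmt Y hY)))
  rw [← Groth.Agent.S13431.extP_iff] at key
  simpa using key

end Groth.Agent.S18486
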