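import Groth.Statements.S18484
import Mathlib
import Groth.Agent.S13431
import Groth.Agent.S18486

set_option autoImplicit false
universe u
open CategoryTheory CategoryTheory.Limits AlgebraicGeometry MonObj
open Neron

namespace Groth.Agent.S18484


open MonoidalCategory CartesianMonoidalCategory

lemma isSchemeTheoreticallyDominant_of_appTop_injective {X Y : Scheme.{u}} [IsAffine Y]
    (f : X ⟶ Y) [QuasiCompact f] (hf : Function.Injective f.appTop) : IsSchemeTheoreticallyDominant f :=
  ⟨Scheme.IdealSheafData.ext_of_isAffine
    (by simpa [f.ker_apply ⟨⊤, isAffineOpen_top Y⟩, ← RingHom.injective_iff_ker_eq_bot])⟩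

lemma isSchemeTheoreticallyDominant_specMap {A B : CommRingCat.{u}} (φ : A ⟶ B)
    (hφ : Function.Injective φ.hom) : IsSchemeTheoreticallyDominant (Spec.map φ) := by
  apply isSchemeTheoreticallyDominant_of_appTop_injective
  have h := Scheme.ΓSpecIso_inv_naturality φ
  have h2 : (Spec.map φ).appTop = (Scheme.ΓSpecIso A).hom ≫ φ ≫ (Scheme.ΓSpecIso B).inv := by
    rw [h, Iso.hom_inv_id_assoc]
  rw [h2]
  have e1 := (ConcreteCategory.bijective_of_isIso (Scheme.ΓSpecIso A).hom).1
  have e2 := (ConcreteCategory.bijective_of_isIso (Scheme.ΓSpecIso B).inv).1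
  intro x y hxy
  apply e1
  apply hφ
  apply e2
  exact hxy

/-- a closed subscheme of a flat scheme over a domain containing the generic fibre is everything. -/
lemma isIso_of_isClosedImmersion_of_genericFibre_factors (R : Type u) [CommRing R] [IsDomain R]
    {Y Z : Scheme.{u}} (p : Y ⟶ Spec (CommRingCat.of R)) [Flat p] (c : Z ⟶ Y)
    [IsClosedImmersion c] (t : Limits.pullback p (Neron.genPt R) ⟶ Z)
    (ht : t ≫ c = Limits.pullback.fst p (Neron.genPt R)) : IsIso c := by
  haveI : IsSchemeTheoreticallyDominant (Neron.genPt R) :=
    isSchemeTheoreticallyDominant_specMap _ (IsFractionRing.injective R (FractionRing R))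
  haveI : IsSchemeTheoreticallyDominant (Limits.pullback.fst p (Neron.genPt R)) := inferInstance
  rw [IsClosedImmersion.isIso_iff_ker_eq_bot, ← le_bot_iff]
  have h1 := Scheme.Hom.le_ker_comp t c
  rw [ht, (Limits.pullback.fst p (Neron.genPt R)).ker_eq_bot] at h1
  exact h1



/-- Let R be a Dedekind domain with fraction field K, X a Spec R-scheme which is a Néron model of its
generic fibre X_K, and i : G → X a closed immersion with G smooth over Spec R. Then G is a Néron
model of its generic fibre G_K: smooth, separated, of finite type, and for every smooth Spec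
R-scheme Y restriction to generic fibres is a bijection from R-morphisms Y → G onto K-morphisms Y_K
→ G_K. (The source states this for a closed subgroup scheme of a Néron model; the group laws play no
part and are not assumed. The converse direction of the source, that a Néron model is a closed
subgroup of a Néron model, is immediate and not stated.) -/
theorem result (R : Type u) [CommRing R] [IsDedekindDomain R]
    (X G : Over (Spec (CommRingCat.of R))) (hX : Neron.IsNeronModelOf R X ((Neron.genericFibre R).obj X) (Iso.refl _))
    (i : G ⟶ X) [IsClosedImmersion i.left] [Smooth G.hom] :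
    Neron.IsNeronModelOf R G ((Neron.genericFibre R).obj G) (Iso.refl _) := by
  obtain ⟨hsm, hsep, hlft, hqc, hnmp⟩ := hX
  have hGhom : G.hom = i.left ≫ X.hom := (Over.w i).symm
  have hGsep : IsSeparated G.hom := by rw [hGhom]; infer_instance
  have hGlft : LocallyOfFiniteType G.hom := by rw [hGhom]; infer_instance
  have hGqc : QuasiCompact G.hom := by rw [hGhom]; infer_instance
  refine ⟨inferInstance, hGsep, hGlft, hGqc, ?_⟩
  intro Y hY
  have hXY := Groth.Agent.S18486.extP_of_bijective_comp_refl _ Y X (hnmp Y hY)
  haveI : Mono i := by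
    haveI : Mono ((Over.forget _).map i) := (inferInstance : Mono i.left)
    exact (Over.forget _).mono_of_mono_map ‹_›
  have key : Groth.Agent.S13431.ExtP (Over.mk (Neron.genPt R)) Y G := by
    intro u
    obtain ⟨m, hm, hmu⟩ := hXY (u ≫ i)
    have hm : fst Y (Over.mk (Neron.genPt R)) ≫ m = u ≫ i := hm
    haveI : Flat Y.hom := inferInstance
    have hj : (fst Y (Over.mk (Neron.genPt R))).left =
        Limits.pullback.fst Y.hom (Neron.genPt R) := rfl
    have hcond : u.left ≫ i.left = Limits.pullback.fst Y.hom (Neron.genPt R) ≫ m.left := by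
      rw [← hj, ← Over.comp_left, ← Over.comp_left, hm]
    haveI : IsIso (Limits.pullback.snd i.left m.left) :=
      isIso_of_isClosedImmersion_of_genericFibre_factors R Y.hom
        (Limits.pullback.snd i.left m.left)
        (Limits.pullback.lift u.left _ hcond) (Limits.pullback.lift_snd _ _ _)
    let g₀ : Y.left ⟶ G.left :=
      inv (Limits.pullback.snd i.left m.left) ≫ Limits.pullback.fst i.left m.left
    have hg₀ : g₀ ≫ i.left = m.left := by
      rw [Category.assoc, Limits.pullback.condition, IsIso.inv_hom_id_assoc]
    have hw : g₀ ≫ G.hom = Y.hom := by rw [hGhom, reassoc_of% hg₀, Over.w m]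
    let g : Y ⟶ G := Over.homMk g₀ hw
    have hgi : g ≫ i = m := by
      ext
      exact hg₀
    refine ⟨g, ?_, ?_⟩
    · change fst Y _ ≫ g = u
      rw [← cancel_mono i, Category.assoc, hgi, hm]
    · intro g' hg'
      have hg' : fst Y _ ≫ g' = u := hg'
      rw [← cancel_mono i, hgi]
      apply hmu
      change fst Y _ ≫ g' ≫ i = u ≫ i
      rw [reassoc_of% hg']
  rw [← Groth.Agent.S13431.extP_iff] at key
  simpa using key

end Groth.Agent.S18484
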