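import Groth.Statements.S18485
import Groth.Agent.Lib.Helper20FibreDisc

set_option autoImplicit false
universe u
open CategoryTheory CategoryTheory.Limits AlgebraicGeometry MonObj
open Neron

namespace Groth.Agent.S18485
open TopologicalSpace Groth.Agent.Lib.Helper20FibreDisc

/-- no specializations within the generic fibre -/
theorem eq_of_specializes_genericFibre (R : Type u) [CommRing R] [IsDomain R]
    {H : Scheme.{u}} (f : H ⟶ Spec (CommRingCat.of R))
    [LocallyQuasiFinite (pullback.snd f (Neron.genPt R))]
    (a b : H) (ha : (f.base a).asIdeal = ⊥) (hb : (f.base b).asIdeal = ⊥) (hab : a ⤳ b) : a = b := by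
  have : IsPreimmersion (Neron.genPt R) :=
    IsPreimmersion.of_isLocalization (nonZeroDivisors R)
  have hrange : ∀ c : H, (f.base c).asIdeal = ⊥ →
      ∃ c' : ↥(pullback f (Neron.genPt R)), (pullback.fst f (Neron.genPt R)).base c' = c := by
    intro c hc
    have : c ∈ Set.range (pullback.fst f (Neron.genPt R)).base := by
      rw [Scheme.Pullback.range_fst]
      refine ⟨⟨⊥, Ideal.isPrime_bot⟩, ?_⟩
      apply PrimeSpectrum.ext
      rw [hc]
      change Ideal.comap (algebraMap R (FractionRing R)) ⊥ = ⊥
      rw [← RingHom.ker_eq_comap_bot, (RingHom.injective_iff_ker_eq_bot _).mp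
        (IsFractionRing.injective R (FractionRing R))]
    exact this
  obtain ⟨a', rfl⟩ := hrange a ha
  obtain ⟨b', rfl⟩ := hrange b hb
  congr 1
  rw [(pullback.fst f (Neron.genPt R)).isEmbedding.toIsInducing.specializes_iff] at hab
  have hdisc := (pullback.snd f (Neron.genPt R)).isDiscrete_preimage_singleton
    ((pullback.snd f (Neron.genPt R)).base b')
  have hmem : a' ∈ (pullback.snd f (Neron.genPt R)).base ⁻¹'
      {(pullback.snd f (Neron.genPt R)).base b'} := by
    change _ = _
    exact Subsingleton.elim (α := PrimeSpectrum (FractionRing R)) _ _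
  have : DiscreteTopology ↥((pullback.snd f (Neron.genPt R)).base ⁻¹'
      {(pullback.snd f (Neron.genPt R)).base b'}) := isDiscrete_iff_discreteTopology.mp hdisc
  have h1 : (⟨a', hmem⟩ : ↥((pullback.snd f (Neron.genPt R)).base ⁻¹'
      {(pullback.snd f (Neron.genPt R)).base b'})) ⤳ ⟨b', rfl⟩ :=
    (subtype_specializes_iff _ _).mpr hab
  exact congrArg Subtype.val h1.eq


/-- Let R be a Dedekind domain with fraction field K and H a Spec R-scheme which is flat and locally of
finite type over Spec R. If the generic fibre H_K is locally quasi-finite over K, then H is locally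
quasi-finite over Spec R. (The published statement is about the schematic closure, in an S-group
algebraic space of finite type over a connected Dedekind scheme S, of a finite subgroup of the
generic fibre, which it asserts to be a quasi-finite S-group; this row is the statement about flat
schemes locally of finite type over an affine Dedekind base on which that rests. Locally
quasi-finite is meant here without a finite type clause, which is assumed separately.) -/
theorem result (R : Type u) [CommRing R]
    [IsDedekindDomain R] (H : Over (Spec (CommRingCat.of R))) [Flat H.hom] [LocallyOfFiniteType H.hom]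
    [LocallyQuasiFinite ((Neron.genericFibre R).obj H).hom] : LocallyQuasiFinite H.hom := by
  have hlqf : LocallyQuasiFinite (pullback.snd H.hom (Neron.genPt R)) := ‹_›
  have : IsLocallyNoetherian H.left := LocallyOfFiniteType.isLocallyNoetherian H.hom
  have hgen := eq_of_specializes_genericFibre R H.hom
  -- no nontrivial specializations within any fibre
  have hnospec : ∀ y z : H.left, H.hom.base z = H.hom.base y → z ⤳ y → z = y := by
    intro y z hzy hspec
    by_cases h0 : (H.hom.base y).asIdeal = ⊥
    · exact hgen z y (hzy ▸ h0) h0 hspec
    -- closed point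
    have hmaxy : (H.hom.base y).asIdeal.IsMaximal := Ideal.IsPrime.isMaximal inferInstance h0
    obtain ⟨ζ, hζz, hζ⟩ := (Flat.generalizingMap H.hom) (a := z) (b := ⟨⊥, Ideal.isPrime_bot⟩)
      ((PrimeSpectrum.le_iff_specializes _ _).mp bot_le)
    have hζ0 : (H.hom.base ζ).asIdeal = ⊥ := by rw [hζ]
    have hne : H.hom.base ζ ≠ H.hom.base y := by
      intro h
      rw [h] at hζ0
      exact h0 hζ0
    have key := generalization_eq_or_eq H.hom y ζ (hζz.trans hspec) hne (by
      intro w hζw hwy hwne
      have hw0 : (H.hom.base w).asIdeal ≠ ⊥ := by
        intro hw0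
        exact hwne (hgen ζ w hζ0 hw0 hζw).symm
      have hle : (H.hom.base w).asIdeal ≤ (H.hom.base y).asIdeal :=
        (PrimeSpectrum.le_iff_specializes _ _).mpr (hwy.map H.hom.base.hom.continuous)
      have hmaxw : (H.hom.base w).asIdeal.IsMaximal := Ideal.IsPrime.isMaximal inferInstance hw0
      exact PrimeSpectrum.ext (hmaxw.eq_of_le (Ideal.IsPrime.ne_top inferInstance) hle))
    rcases key z hζz hspec with h | h
    · exfalso
      rw [h] at hzy
      exact hne hzy
    · exact h
  rw [locallyQuasiFinite_iff_isDiscrete_preimage_singleton]
  intro s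
  rw [isDiscrete_iff_discreteTopology]
  have : LocallyOfFiniteType (H.hom.fiberToSpecResidueField s) :=
    MorphismProperty.pullback_snd _ _ inferInstance
  have : IsLocallyNoetherian (H.hom.fiber s) :=
    LocallyOfFiniteType.isLocallyNoetherian (H.hom.fiberToSpecResidueField s)
  have hmem : ∀ u : H.hom.fiber s, H.hom.base ((H.hom.fiberι s).base u) = s := by
    intro u
    have : (H.hom.fiberι s).base u ∈ Set.range (H.hom.fiberι s).base := ⟨u, rfl⟩
    rw [H.hom.range_fiberι s] at this
    exact this
  have : DiscreteTopology (H.hom.fiber s) := by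
    apply discreteTopology_of_forall_specializes_eq
    intro u w huw
    apply (H.hom.fiberι s).isEmbedding.injective
    exact hnospec _ _ ((hmem u).trans (hmem w).symm)
      (huw.map (H.hom.fiberι s).base.hom.continuous)
  exact (H.hom.fiberHomeo s).symm.isEmbedding.discreteTopology

end Groth.Agent.S18485
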