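import Groth.Statements.S18487
import Mathlib
import Groth.Agent.Lib.Helper12Torsor
import Groth.Agent.Lib.Helper12Descent
import Groth.Agent.Lib.Helper4RatMapExt
-- import your own Groth.Agent.* helpers here

set_option autoImplicit false
universe u
open CategoryTheory CategoryTheory.Limits AlgebraicGeometry MonObj
open NonAbH1

namespace Groth.Agent.S18487

/-- Let R be a Dedekind domain with fraction field K, G a proper flat group scheme over Spec R, and P a
Spec R-scheme with an action of G making it a G-torsor for the fppf topology (a pseudo-torsor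
acquiring sections on the members of an fppf covering family). If P acquires a section over the
generic point Spec K → Spec R, then P has a section over Spec R: a generically trivial torsor is
trivial. (The source allows any connected Dedekind scheme as base and torsors that are fppf sheaves,
shown there to be schemes; the affine base and scheme torsors are stated.) -/
theorem result (R : Type u) [CommRing R] [IsDedekindDomain R]
    (G : Over (Spec (CommRingCat.of R))) [GrpObj G] [IsProper G.hom] [Flat G.hom]
    (P : NonAbH1.TorsorSch G Scheme.fppfPrecoverage) (h : NonAbH1.HasSectionOver P.X (Neron.genPt R)) :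
    NonAbH1.HasSectionOver P.X (𝟙 (Spec (CommRingCat.of R))) := by
  obtain ⟨hpt, Rc, hRc, hsec⟩ := P.isTorsor
  have hRc' : Rc ∈ Scheme.fpqcPrecoverage (Spec (CommRingCat.of R)) :=
    Scheme.fppfPrecoverage_le_fpqcPrecoverage _ hRc
  haveI : IsProper P.X.hom :=
    Groth.Agent.Lib.Helper12.of_mem_fpqcPrecoverage (P := @IsProper)
      Groth.Agent.Lib.Helper12.descendsAlong_isProper P.X.hom Rc hRc'
      (fun Y' f hf => Groth.Agent.Lib.Helper12.pullback_snd_of_hasSectionOver (P := @IsProper)
        P.act hpt inferInstance f (hsec f hf))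
  have hval : ValuativeCriterion.Existence P.X.hom := by
    have h1 : UniversallyClosed P.X.hom := inferInstance
    rw [UniversallyClosed.eq_valuativeCriterion] at h1
    exact h1.1
  -- stalks of `Spec R` are valuation rings
  have hXval : ∀ x : Spec (CommRingCat.of R),
      ValuationRing ((Spec (CommRingCat.of R)).presheaf.stalk x) := by
    intro x
    letI k : Algebra R ((Spec (CommRingCat.of R)).presheaf.stalk x) :=
      StructureSheaf.stalkAlgebra R x
    haveI : x.asIdeal.IsPrime := x.isPrime
    haveI : IsLocalization.AtPrime ((Spec (CommRingCat.of R)).presheaf.stalk x) x.asIdeal :=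
      StructureSheaf.IsLocalization.to_stalk R x
    haveI : IsDomain ((Spec (CommRingCat.of R)).presheaf.stalk x) :=
      IsLocalization.isDomain_of_atPrime (S := (Spec (CommRingCat.of R)).presheaf.stalk x) x.asIdeal
    by_cases hx : x.asIdeal = ⊥
    · haveI : IsLocalRing ((Spec (CommRingCat.of R)).presheaf.stalk x) :=
        IsLocalization.AtPrime.isLocalRing _ x.asIdeal
      have hmax : IsLocalRing.maximalIdeal ((Spec (CommRingCat.of R)).presheaf.stalk x) = ⊥ := by
        rw [← IsLocalization.AtPrime.map_eq_maximalIdeal x.asIdeal, hx, Ideal.map_bot]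
      have hf : IsField ((Spec (CommRingCat.of R)).presheaf.stalk x) :=
        IsLocalRing.isField_iff_maximalIdeal_eq.2 hmax
      refine { cond' := fun a b => ?_ }
      by_cases ha : a = 0
      · exact ⟨0, Or.inr (by rw [ha]; exact MulZeroClass.mul_zero b)⟩
      · obtain ⟨a', ha'⟩ := hf.mul_inv_cancel ha
        exact ⟨a' * b, Or.inl (by rw [← _root_.mul_assoc, ha', _root_.one_mul])⟩
    · haveI := IsLocalization.AtPrime.isDiscreteValuationRing_of_dedekind_domain R hx
        ((Spec (CommRingCat.of R)).presheaf.stalk x)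
      infer_instance
  -- the generic section as a point of the stalk at the generic point
  obtain ⟨s, hs⟩ := h
  haveI : IsDomain (CommRingCat.of R) := inferInstanceAs (IsDomain R)
  obtain ⟨ξ, hξdef⟩ : ∃ ξ : Spec (CommRingCat.of R), ξ = genericPoint (Spec (CommRingCat.of R)) :=
    ⟨_, rfl⟩
  have hξ : ξ.asIdeal = ⊥ := by
    rw [hξdef, genericPoint_eq_bot_of_affine]; rfl
  letI k : Algebra R ((Spec (CommRingCat.of R)).presheaf.stalk ξ) := StructureSheaf.stalkAlgebra R ξ
  haveI : ξ.asIdeal.IsPrime := ξ.isPrime
  haveI : IsLocalization.AtPrime ((Spec (CommRingCat.of R)).presheaf.stalk ξ) ξ.asIdeal :=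
    StructureSheaf.IsLocalization.to_stalk R ξ
  have hunits : ∀ y : nonZeroDivisors R,
      IsUnit (algebraMap R ((Spec (CommRingCat.of R)).presheaf.stalk ξ) y) := by
    intro y
    have hy : (y : R) ∈ ξ.asIdeal.primeCompl := by
      show (y : R) ∉ ξ.asIdeal
      rw [hξ]
      exact nonZeroDivisors.ne_zero y.2
    exact IsLocalization.map_units ((Spec (CommRingCat.of R)).presheaf.stalk ξ)
      (⟨y, hy⟩ : ξ.asIdeal.primeCompl)
  obtain ⟨ℓ, hℓ⟩ : ∃ ℓ : FractionRing R →+* (Spec (CommRingCat.of R)).presheaf.stalk ξ,
      ℓ.comp (algebraMap R (FractionRing R)) =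
        algebraMap R ((Spec (CommRingCat.of R)).presheaf.stalk ξ) :=
    ⟨IsLocalization.lift hunits, IsLocalization.lift_comp hunits⟩
  obtain ⟨φ, hφ⟩ : ∃ φ : Spec ((Spec (CommRingCat.of R)).presheaf.stalk ξ) ⟶ P.X.left,
      φ ≫ P.X.hom = (Spec (CommRingCat.of R)).fromSpecStalk ξ ≫ 𝟙 _ := by
    refine ⟨Spec.map (CommRingCat.ofHom ℓ) ≫ s, ?_⟩
    have hcomp : CommRingCat.ofHom (algebraMap R (FractionRing R)) ≫ CommRingCat.ofHom ℓ =
        StructureSheaf.toStalk R ξ := by
      ext r
      exact RingHom.congr_fun hℓ r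
    rw [Category.assoc, hs, Category.comp_id, Spec.fromSpecStalk_eq', Neron.genPt]
    exact ((Spec.map_comp _ _).symm.trans (congrArg Spec.map hcomp))
  obtain ⟨U, hξU, f, -, hf⟩ := spread_out_of_isGermInjective' (𝟙 _) P.X.hom φ hφ
  obtain ⟨f', hf', -⟩ := Groth.Agent.Lib.Helper4.RatMapExt.exists_extension_of_valuationRing
    (𝟙 _) P.X.hom hval hXval U ⟨_, hξU⟩ f hf
  exact ⟨f', hf'⟩

end Groth.Agent.S18487
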