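import Groth.Statements.S18490
import Mathlib.Tactic
import Mathlib.AlgebraicGeometry.Morphisms.QuasiCompact
import Mathlib.RingTheory.RingHom.Flat

set_option autoImplicit false
universe u
open CategoryTheory CategoryTheory.Limits AlgebraicGeometry
open FlatMor

namespace Groth.Agent.S18490


open CategoryTheory CategoryTheory.Limits AlgebraicGeometry

/-- If `P ∘ φ` is flat and `P` has a retraction `T`, then `φ` is flat. -/
theorem flat_of_retract_ringHom {R A B : Type*} [CommRing R] [CommRing A] [CommRing B]
    (φ : R →+* A) (P : A →+* B) (T : B →+* A) (hT : T.comp P = RingHom.id A)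
    (hflat : (P.comp φ).Flat) : φ.Flat := by
  unfold RingHom.Flat at hflat ⊢
  letI := φ.toAlgebra
  letI : Algebra R B := (P.comp φ).toAlgebra
  have hfl : Module.Flat R B := hflat
  let i : A →ₗ[R] B :=
    { toFun := P
      map_add' := map_add P
      map_smul' := by
        intro r a
        simp only [Algebra.smul_def, RingHom.algebraMap_toAlgebra, map_mul, RingHom.id_apply]
        rfl }
  let r : B →ₗ[R] A :=
    { toFun := T
      map_add' := map_add T
      map_smul' := by
        intro c b
        simp only [Algebra.smul_def, RingHom.algebraMap_toAlgebra, map_mul, RingHom.id_apply]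
        congr 1
        exact RingHom.congr_fun hT (φ c) }
  exact Module.Flat.of_retract i r (by
    ext a
    exact RingHom.congr_fun hT a)

/-- Let f : X → S and g : Y → S be morphisms of schemes and suppose that g has a section y : S → Y. If
the structure morphism X ×_S Y → S (first projection followed by f) is quasi-compact, then so is f;
likewise for locally of finite type, for separated, and for flat. (Finite type, also listed in the
source, is the conjunction of the first two.) -/
theorem result {X Y S : Scheme.{u}} (f : X ⟶ S) (g : Y ⟶ S)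
    (y : S ⟶ Y) (hy : y ≫ g = 𝟙 S) :
    (QuasiCompact (pullback.fst f g ≫ f) → QuasiCompact f) ∧
    (LocallyOfFiniteType (pullback.fst f g ≫ f) → LocallyOfFiniteType f) ∧
    (IsSeparated (pullback.fst f g ≫ f) → IsSeparated f) ∧
    (Flat (pullback.fst f g ≫ f) → Flat f) := by
  have hw : 𝟙 X ≫ f = (f ≫ y) ≫ g := by rw [Category.assoc, hy, Category.comp_id, Category.id_comp]
  let σ : X ⟶ pullback f g := pullback.lift (𝟙 X) (f ≫ y) hw
  have hσ : σ ≫ pullback.fst f g = 𝟙 X := pullback.lift_fst _ _ _
  have hfac : f = σ ≫ (pullback.fst f g ≫ f) := by rw [← Category.assoc, hσ, Category.id_comp]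
  have hsurj : Function.Surjective (pullback.fst f g) := by
    intro x
    refine ⟨σ x, ?_⟩
    rw [← Scheme.Hom.comp_apply, hσ]
    rfl
  refine ⟨?_, ?_, ?_, ?_⟩
  · intro h
    constructor
    intro U hU hc
    have h1 := h.isCompact_preimage U hU hc
    have h2 : f ⁻¹' U = (pullback.fst f g) '' ((pullback.fst f g ≫ f) ⁻¹' U) := by
      ext x
      constructor
      · intro hx
        obtain ⟨z, rfl⟩ := hsurj x
        exact ⟨z, by simpa using hx, rfl⟩
      · rintro ⟨z, hz, rfl⟩
        simpa using hz
    rw [h2]
    exact h1.image (pullback.fst f g).continuous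
  · intro h
    have h1 : LocallyOfFiniteType (σ ≫ pullback.fst f g) := by rw [hσ]; infer_instance
    have h2 : LocallyOfFiniteType σ := locallyOfFiniteType_of_comp σ (pullback.fst f g)
    rw [hfac]
    infer_instance
  · intro h
    have h1 : IsSeparated (σ ≫ pullback.fst f g) := by rw [hσ]; infer_instance
    have h2 : IsSeparated σ := IsSeparated.of_comp σ (pullback.fst f g)
    rw [hfac]
    infer_instance
  · intro h
    rw [Flat.iff_flat_stalkMap]
    have key : ∀ x : X, (f.stalkMap ((pullback.fst f g) (σ x))).hom.Flat := by
      intro x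
      have h1 := Flat.stalkMap (pullback.fst f g ≫ f) (σ x)
      rw [Scheme.Hom.stalkMap_comp] at h1
      -- the retraction
      have hx : (pullback.fst f g) (σ x) = x := by
        rw [← Scheme.Hom.comp_apply, hσ]
        rfl
      let c : X.presheaf.stalk ((pullback.fst f g) (σ x)) ≅ X.presheaf.stalk x :=
        X.presheaf.stalkCongr (Inseparable.of_eq hx)
      have h2' : (pullback.fst f g).stalkMap (σ x) ≫ σ.stalkMap x = c.hom := by
        have h2 := Scheme.Hom.stalkMap_congr_hom (σ ≫ pullback.fst f g) (𝟙 X) hσ x
        rw [Scheme.Hom.stalkMap_comp] at h2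
        refine h2.trans ?_
        rw [Scheme.Hom.stalkMap_id]
        exact Category.comp_id _
      have h3 : (pullback.fst f g).stalkMap (σ x) ≫ (σ.stalkMap x ≫ c.inv) = 𝟙 _ := by
        rw [← Category.assoc, h2', Iso.hom_inv_id]
      refine flat_of_retract_ringHom (f.stalkMap ((pullback.fst f g) (σ x))).hom
        ((pullback.fst f g).stalkMap (σ x)).hom (σ.stalkMap x ≫ c.inv).hom ?_ ?_
      · rw [← CommRingCat.hom_comp, h3]
        rfl
      · rw [← CommRingCat.hom_comp]
        exact h1
    intro x
    have hx : (pullback.fst f g) (σ x) = x := by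
      rw [← Scheme.Hom.comp_apply, hσ]
      rfl
    have := key x
    rw [hx] at this
    exact this

end Groth.Agent.S18490
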