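import Groth.Statements.S18498
import Mathlib
import Groth.Agent.S18484

set_option autoImplicit false
universe u
open CategoryTheory CategoryTheory.Limits AlgebraicGeometry MonObj
open Neron

namespace Groth.Agent.S18498




/-- Let R be a Dedekind domain with fraction field K, X a Spec R-scheme which is flat over Spec R, Y a
Spec R-scheme which is separated over Spec R, and f, g : X → Y two R-morphisms whose restrictions to
generic fibres X_K → Y_K are equal. Then f = g: an R-morphism from a flat R-scheme to a separated
R-scheme is determined by its generic fibre. (The source states this for algebraic spaces over a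
connected Dedekind scheme; the case of schemes over an affine base is stated.) -/
theorem result (R : Type u) [CommRing R] [IsDedekindDomain R]
    (X Y : Over (Spec (CommRingCat.of R))) [Flat X.hom] [IsSeparated Y.hom] (f g : X ⟶ Y)
    (h : (Neron.genericFibre R).map f = (Neron.genericFibre R).map g) : f = g := by
  have hj : Limits.pullback.fst X.hom (Neron.genPt R) ≫ f.left =
      Limits.pullback.fst X.hom (Neron.genPt R) ≫ g.left := by
    rw [← Groth.Agent.Lib.Helper20.NeronCat.pullback_map_left_fst,
      ← Groth.Agent.Lib.Helper20.NeronCat.pullback_map_left_fst]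
    have h' : (Over.pullback (Neron.genPt R)).map f = (Over.pullback (Neron.genPt R)).map g := h
    rw [h']
  have hfg : f.left ≫ Y.hom = g.left ≫ Y.hom := by rw [Over.w f, Over.w g]
  set fg : X.left ⟶ Limits.pullback Y.hom Y.hom := Limits.pullback.lift f.left g.left hfg with hfgdef
  have hfg1 : fg ≫ Limits.pullback.fst Y.hom Y.hom = f.left := Limits.pullback.lift_fst _ _ _
  have hfg2 : fg ≫ Limits.pullback.snd Y.hom Y.hom = g.left := Limits.pullback.lift_snd _ _ _
  have hcond : (Limits.pullback.fst X.hom (Neron.genPt R) ≫ f.left) ≫ Limits.pullback.diagonal Y.hom =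
      Limits.pullback.fst X.hom (Neron.genPt R) ≫ fg := by
    apply Limits.pullback.hom_ext
    · simp [hfg1]
    · simp [hfg2, hj]
  haveI : IsIso (Limits.pullback.snd (Limits.pullback.diagonal Y.hom) fg) :=
    Groth.Agent.S18484.isIso_of_isClosedImmersion_of_genericFibre_factors R X.hom _
      (Limits.pullback.lift _ _ hcond) (Limits.pullback.lift_snd _ _ _)
  ext
  rw [← cancel_epi (Limits.pullback.snd (Limits.pullback.diagonal Y.hom) fg), ← hfg1, ← hfg2,
    ← Limits.pullback.condition_assoc, ← Limits.pullback.condition_assoc]
  simp

end Groth.Agent.S18498
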