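import Groth.Statements.S18502
import Mathlib
import Groth.Agent.S18975
import Groth.Agent.Lib.Helper12QuotGrp
import Groth.Agent.Lib.Helper12Submersive2

set_option autoImplicit false
universe u
open CategoryTheory MonoidalCategory CartesianMonoidalCategory MonObj GrpObj AlgebraicGeometry Topology
open EqInt

namespace Groth.Agent.S18502


open Limits Groth.Agent.Lib.Helper12

lemma isClosedImmersion_lift {X Y S : Scheme.{u}} (φ : X ⟶ Y) (q : Y ⟶ S) [IsSeparated q]
    (p : X ⟶ S) (hp : φ ≫ q = p) :
    IsClosedImmersion (pullback.lift (pullback.fst φ φ) (pullback.snd φ φ)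
      (by rw [← hp, pullback.condition_assoc]) : pullback φ φ ⟶ pullback p p) := by
  subst hp
  have : pullback.lift (pullback.fst φ φ) (pullback.snd φ φ)
      (by rw [pullback.condition_assoc]) = pullback.mapDesc φ φ q := by
    apply pullback.hom_ext
    · rw [pullback.lift_fst]
      unfold pullback.mapDesc pullback.map
      rw [pullback.lift_fst, Category.comp_id]
    · rw [pullback.lift_snd]
      unfold pullback.mapDesc pullback.map
      rw [pullback.lift_snd, Category.comp_id]
  rw [this]
  infer_instance



/-- Over a field k, let an affine group scheme G of finite type act on X, let X and Y be separated and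
of finite type over k, and let φ : X → Y be G-invariant, flat and surjective with (σ, p₂) : G × X →
X ×_Y X an isomorphism (X is a principal G-bundle over Y). Conclusion: the pair (Y, φ) realizes Y as
a geometric quotient of X under G, and G acts freely, meaning (σ, p₂) : G × X → X × X is a closed
immersion. (The source takes X and Y integral; integrality plays no role. A geometric quotient is
taken here with φ universally submersive.) -/
theorem result (k : Type u) [Field k]
    (G X Y : Over (Spec (CommRingCat.of k))) [GrpObj G] [IsAffine G.left] [LocallyOfFiniteType G.hom]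
    [LocallyOfFiniteType X.hom] [QuasiCompact X.hom] [IsSeparated X.hom]
    [LocallyOfFiniteType Y.hom] [QuasiCompact Y.hom] [IsSeparated Y.hom]
    (a : AlgGrp.Action G X) (φ : X ⟶ Y) (hinv : GIT.IsInvariant a φ) [Flat φ.left] [Surjective φ.left]
    (hcart : IsIso (GIT.PsiY a φ hinv)) :
    GIT.IsGeomQuot a φ ∧ IsClosedImmersion (GIT.psi a (𝟙 X)).left := by
  -- the cartesian square
  have hcart' : IsPullback a.act.left (snd G X).left φ.left φ.left := by
    have h1 : GIT.PsiY a φ hinv ≫ pullback.fst φ.left φ.left = a.act.left := pullback.lift_fst _ _ _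
    have h2 : GIT.PsiY a φ hinv ≫ pullback.snd φ.left φ.left = (snd G X).left := pullback.lift_snd _ _ _
    exact IsPullback.of_iso_pullback ⟨hinv.left⟩ (asIso (GIT.PsiY a φ hinv)) h1 h2
  -- quasi-compactness
  haveI : QuasiCompact φ.left := by
    have : QuasiCompact (φ.left ≫ Y.hom) := by rw [Over.w φ]; infer_instance
    exact QuasiCompact.of_comp φ.left Y.hom
  have hR : Presieve.singleton φ.left ∈ Scheme.fpqcPrecoverage Y.left := by
    apply QuotGrp.singleton_mem_fpqcPrecoverage
    intro V hV
    refine ⟨φ.left ⁻¹ᵁ V, QuasiCompact.isCompact_preimage (f := φ.left) _ V.2 hV.isCompact, ?_⟩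
    exact Set.image_preimage_eq _ φ.left.surjective
  have hsec : ∀ ⦃S' : Scheme.{u}⦄ (g : S' ⟶ Y.left), Presieve.singleton φ.left g →
      ∃ t : S' ⟶ X.left, t ≫ φ.left = g := by
    rintro S' g ⟨⟩
    exact ⟨𝟙 _, Category.id_comp _⟩
  refine ⟨⟨hinv, φ.left.surjective, ?_, ?_, ?_⟩, ?_⟩
  · have : GIT.PsiY a φ hinv = hcart'.isoPullback.hom := by
      apply pullback.hom_ext
      · rw [IsPullback.isoPullback_hom_fst]; exact pullback.lift_fst _ _ _
      · rw [IsPullback.isoPullback_hom_snd]; exact pullback.lift_snd _ _ _
    rw [this]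
    exact hcart'.isoPullback.hom.surjective
  · exact Groth.Agent.Lib.Helper12.Submersive.us_of_flat φ.left
  · intro U
    obtain ⟨h1, h2⟩ := Groth.Agent.S18975.sections_of_cover φ.left a.act.left (snd G X).left hcart'
      _ hR hsec U
    refine ⟨h1, ?_⟩
    ext f
    exact h2 f
  · let m : pullback φ.left φ.left ⟶ pullback X.hom X.hom :=
      pullback.lift (pullback.fst φ.left φ.left) (pullback.snd φ.left φ.left)
        (by rw [← Over.w φ, pullback.condition_assoc])
    have hm1 : m ≫ pullback.fst X.hom X.hom = pullback.fst φ.left φ.left := pullback.lift_fst _ _ _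
    have hm2 : m ≫ pullback.snd X.hom X.hom = pullback.snd φ.left φ.left := pullback.lift_snd _ _ _
    haveI : IsClosedImmersion m := isClosedImmersion_lift φ.left Y.hom X.hom (Over.w φ)
    have hpsi : (GIT.psi a (𝟙 X)).left = GIT.PsiY a φ hinv ≫ m := by
      apply pullback.hom_ext
      · rw [Category.assoc, hm1]
        have h1 : GIT.PsiY a φ hinv ≫ pullback.fst φ.left φ.left = a.act.left := pullback.lift_fst _ _ _
        rw [h1]
        have h2 : GIT.psi a (𝟙 X) ≫ fst X X = a.act := by simp [GIT.psi]
        exact congrArg CommaMorphism.left h2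
      · rw [Category.assoc, hm2]
        have h1 : GIT.PsiY a φ hinv ≫ pullback.snd φ.left φ.left = (snd G X).left := pullback.lift_snd _ _ _
        rw [h1]
        have h2 : GIT.psi a (𝟙 X) ≫ snd X X = snd G X := by simp [GIT.psi]
        exact congrArg CommaMorphism.left h2
    rw [hpsi]
    infer_instance

end Groth.Agent.S18502
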