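import Groth.Statements.S18503
import Mathlib
import Groth.Agent.Lib.Helper10SecFib
import Groth.Agent.Lib.Helper12Act
-- import your own Groth.Agent.* helpers here

set_option autoImplicit false
universe u
open CategoryTheory MonoidalCategory CartesianMonoidalCategory MonObj GrpObj AlgebraicGeometry Topology
open EqInt

namespace Groth.Agent.S18503

/-- Over a field k, let an affine group scheme G of finite type act on a quasi-separated scheme X of
finite type over k. If the action is proper (the morphism (σ, p₂) : G × X → X × X is proper) and the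
stabilizer of every point is trivial (for each point x of X the fibre over x of the stabilizer group
scheme (G × X) ×_{X × X} X → X, the pullback of (σ, p₂) along the diagonal, is Spec κ(x) through its
structure map), then the action is free: (σ, p₂) is a closed immersion. (Stated for X a scheme; the
source allows an algebraic space.) -/
theorem result (k : Type u) [Field k]
    (G X : Over (Spec (CommRingCat.of k))) [GrpObj G] [IsAffine G.left] [LocallyOfFiniteType G.hom]
    [LocallyOfFiniteType X.hom] [QuasiCompact X.hom] [QuasiSeparated X.hom]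
    (a : AlgGrp.Action G X) (hp : IsProper (GIT.psi a (𝟙 X)).left)
    (htriv : ∀ x : ↥X.left, IsIso ((Limits.pullback.snd (GIT.psi a (𝟙 X)).left
      (CartesianMonoidalCategory.lift (𝟙 X) (𝟙 X)).left).fiberToSpecResidueField x)) :
    IsClosedImmersion (GIT.psi a (𝟙 X)).left := by
  set ψ := GIT.psi a (𝟙 X) with hψ
  set Δ : X ⟶ X ⊗ X := CartesianMonoidalCategory.lift (𝟙 X) (𝟙 X) with hΔ
  haveI : IsProper ψ.left := hp
  have hψ_pt : ∀ {T : Over (Spec (CommRingCat.of k))} (g : T ⟶ G) (x : T ⟶ X),
      lift g x ≫ ψ = lift (lift g x ≫ a.act) x := by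
    intro T g x
    rw [hψ, GIT.psi]
    apply CartesianMonoidalCategory.hom_ext <;> simp
  have h1x : lift (1 : X ⟶ G) (𝟙 X) ≫ ψ = Δ := by
    rw [hψ_pt, Groth.Agent.Lib.Helper12.act_one]
  let e : X.left ⟶ Limits.pullback ψ.left Δ.left :=
    Limits.pullback.lift (lift (1 : X ⟶ G) (𝟙 X)).left (𝟙 X.left)
      (by rw [← Over.comp_left, h1x, Category.id_comp])
  have he : e ≫ Limits.pullback.snd ψ.left Δ.left = 𝟙 _ := Limits.pullback.lift_snd _ _ _
  haveI : IsIso (Limits.pullback.snd ψ.left Δ.left) :=
    (Groth.Agent.Lib.Helper10.SecFib.isIso_of_section_of_forall_fiber _ e he htriv).2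
  haveI : Mono ψ := by
    constructor
    intro T p q hpq
    have hp' : p = lift (p ≫ fst G X) (p ≫ snd G X) := by
      apply CartesianMonoidalCategory.hom_ext <;> simp
    have hq' : q = lift (q ≫ fst G X) (q ≫ snd G X) := by
      apply CartesianMonoidalCategory.hom_ext <;> simp
    set g := p ≫ fst G X
    set x := p ≫ snd G X
    set g' := q ≫ fst G X
    set x' := q ≫ snd G X
    rw [hp', hq', hψ_pt, hψ_pt] at hpq
    have hx : x = x' := by
      have := congrArg (· ≫ snd X X) hpq
      simpa using this
    have hgx : lift g x ≫ a.act = lift g' x ≫ a.act := by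
      have := congrArg (· ≫ fst X X) hpq
      simpa [hx] using this
    have hh : lift (g⁻¹ * g') x ≫ a.act = x := by
      rw [Groth.Agent.Lib.Helper12.act_mul, ← hgx, ← Groth.Agent.Lib.Helper12.act_mul,
        inv_mul_cancel, Groth.Agent.Lib.Helper12.act_one]
    have e1 : lift (g⁻¹ * g') x ≫ ψ = x ≫ Δ := by
      rw [hψ_pt, hh, hΔ]
      apply CartesianMonoidalCategory.hom_ext <;> simp
    have e2 : lift (1 : T ⟶ G) x ≫ ψ = x ≫ Δ := by
      rw [hψ_pt, Groth.Agent.Lib.Helper12.act_one, hΔ]
      apply CartesianMonoidalCategory.hom_ext <;> simp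
    let u₁ : T.left ⟶ Limits.pullback ψ.left Δ.left :=
      Limits.pullback.lift (lift (g⁻¹ * g') x).left x.left
        (by rw [← Over.comp_left, e1, Over.comp_left])
    let u₂ : T.left ⟶ Limits.pullback ψ.left Δ.left :=
      Limits.pullback.lift (lift (1 : T ⟶ G) x).left x.left
        (by rw [← Over.comp_left, e2, Over.comp_left])
    have hu : u₁ = u₂ := by
      rw [← cancel_mono (Limits.pullback.snd ψ.left Δ.left)]
      exact (Limits.pullback.lift_snd _ _ _).trans (Limits.pullback.lift_snd _ _ _).symm
    have h3 : (lift (g⁻¹ * g') x).left = (lift (1 : T ⟶ G) x).left := by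
      have h7 : u₁ ≫ Limits.pullback.fst ψ.left Δ.left = u₂ ≫ Limits.pullback.fst ψ.left Δ.left := by
        rw [hu]
      exact (Limits.pullback.lift_fst _ _ _).symm.trans (h7.trans (Limits.pullback.lift_fst _ _ _))
    have h4 : lift (g⁻¹ * g') x = lift (1 : T ⟶ G) x := Over.OverMorphism.ext h3
    have h5 : g⁻¹ * g' = 1 := by
      have := congrArg (· ≫ fst G X) h4
      simpa using this
    have h6 : g = g' := by
      rw [inv_mul_eq_one] at h5
      exact h5
    rw [hp', hq', h6, hx]
  haveI : Mono ψ.left := inferInstance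
  exact (IsClosedImmersion.iff_isProper_and_mono (f := ψ.left)).mpr ⟨hp, inferInstance⟩

end Groth.Agent.S18503
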