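import Groth.Statements.S18504
import Mathlib
import Groth.Agent.Lib.Helper10OrbitBC
-- import your own Groth.Agent.* helpers here

set_option autoImplicit false
universe u
open CategoryTheory MonoidalCategory CartesianMonoidalCategory MonObj GrpObj AlgebraicGeometry Topology
open EqInt

namespace Groth.Agent.S18504

/-- Over a field k, let an affine group scheme G of finite type act on X, with X and Y separated of
finite type over k, and let (Y, φ) be a geometric quotient of X by G. Then φ is universally open.
(The source takes X and Y integral; integrality plays no role. A geometric quotient is taken here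
with φ universally submersive, and with this reading the universal openness is what the argument
gives.) -/
theorem result (k : Type u) [Field k]
    (G X Y : Over (Spec (CommRingCat.of k))) [GrpObj G] [IsAffine G.left] [LocallyOfFiniteType G.hom]
    [LocallyOfFiniteType X.hom] [QuasiCompact X.hom] [IsSeparated X.hom]
    [LocallyOfFiniteType Y.hom] [QuasiCompact Y.hom] [IsSeparated Y.hom]
    (a : AlgGrp.Action G X) (φ : X ⟶ Y) (h : GIT.IsGeomQuot a φ) :
    UniversallyOpen φ.left := by
  refine ⟨?_⟩
  intro X' Y' i₁ i₂ f' H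
  have hq : IsQuotientMap f'.base := h.subm i₁ i₂ f' H
  obtain ⟨s, hs⟩ : ∃ s : (G ⊗ X).left ⟶ X.left, s = (snd G X).left := ⟨_, rfl⟩
  obtain ⟨σ, hσ⟩ : ∃ σ : (G ⊗ X).left ⟶ X.left, σ = a.act.left := ⟨_, rfl⟩
  have hσs : σ ≫ φ.left = s ≫ φ.left := by rw [hs, hσ]; exact h.inv.left
  have HW : IsPullback (Limits.pullback.fst s i₁) (Limits.pullback.snd s i₁) s i₁ :=
    IsPullback.of_hasPullback _ _
  have hw : (Limits.pullback.snd s i₁ ≫ f') ≫ i₂ = (Limits.pullback.fst s i₁ ≫ σ) ≫ φ.left := by
    rw [Category.assoc, H.w, ← Category.assoc, ← HW.w, Category.assoc, Category.assoc, hσs]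
  have h2 : H.lift (Limits.pullback.snd s i₁ ≫ f') (Limits.pullback.fst s i₁ ≫ σ) hw ≫ f' =
      Limits.pullback.snd s i₁ ≫ f' := H.lift_fst _ _ _
  have h1 : H.lift (Limits.pullback.snd s i₁ ≫ f') (Limits.pullback.fst s i₁ ≫ σ) hw ≫ i₁ =
      Limits.pullback.fst s i₁ ≫ σ := H.lift_snd _ _ _
  have hpb := Groth.Agent.Lib.Helper10.OrbitBC.isPullback_lift_lift hσs H HW h1 h2
  haveI : Surjective (Limits.pullback.lift σ s hσs) := by
    subst hs hσ
    exact ⟨h.orbit⟩
  haveI : Surjective (Limits.pullback.lift
      (H.lift (Limits.pullback.snd s i₁ ≫ f') (Limits.pullback.fst s i₁ ≫ σ) hw)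
      (Limits.pullback.snd s i₁) h2) :=
    MorphismProperty.of_isPullback (P := @Surjective) hpb.flip ‹_›
  haveI : UniversallyOpen s := by
    rw [hs, Over.snd_left]
    infer_instance
  exact Groth.Agent.Lib.Helper10.OrbitBC.isOpenMap_of_surjective_lift f' _ _ h2 hq
    (Scheme.Hom.surjective _) (Scheme.Hom.isOpenMap _)

end Groth.Agent.S18504
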