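import Groth.Statements.S18505
import Mathlib
import Groth.Agent.Lib.Helper20NormalSec
-- import your own Groth.Agent.* helpers here

set_option autoImplicit false
set_option linter.style.haveILetI false
set_option linter.unusedSectionVars false
universe u
open CategoryTheory MonoidalCategory CartesianMonoidalCategory MonObj GrpObj AlgebraicGeometry Topology
open EqInt

namespace Groth.Agent.S18505

open Polynomial Groth.Agent.Lib.Helper20NormalSec

theorem isNormalRing_of_isIntegrallyClosed (R : Type u) [CommRing R] [IsDomain R]
    [IsIntegrallyClosed R] : EGA4.IsNormalRing R := by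
  intro p hp
  haveI : IsDomain (Localization.AtPrime p) :=
    IsLocalization.isDomain_of_le_nonZeroDivisors _ p.primeCompl_le_nonZeroDivisors
  exact ⟨inferInstance, isIntegrallyClosed_of_isLocalization _ p.primeCompl
    p.primeCompl_le_nonZeroDivisors⟩

/-- divisibility of sections on a normal integral scheme from a homogenised integral equation -/
theorem exists_eq_mul_of_scaleRoots {X : Scheme.{u}} [IsIntegral X] (hX : Pi1.IsNormalScheme X)
    {R : Type u} [CommRing R] (W : X.Opens) (ψ : R →+* Γ(X, W))
    (q : R[X]) (hq : q.Monic) (a b : R) (hb : ψ b ≠ 0)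
    (h : eval a (scaleRoots q b) = 0) : ∃ d : Γ(X, W), ψ a = d * ψ b := by
  apply exists_eq_mul_of_forall_germ_dvd (ψ a) (ψ b)
  · intro x hx
    apply mem_nonZeroDivisors_of_ne_zero
    intro h0
    exact hb (germ_injective_of_isIntegral X x hx (h0.trans (map_zero _).symm))
  · intro x hx
    haveI := (hX x).1
    haveI := (hX x).2
    have h1 := dvd_of_eval₂_scaleRoots_eq_zero ((X.presheaf.germ W x hx).hom.comp ψ) q hq a b
      (by
        intro h0
        exact hb (germ_injective_of_isIntegral X x hx (h0.trans (map_zero _).symm)))
      (by rw [Polynomial.eval₂_at_apply, h, map_zero])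
    exact h1

theorem map_mem_nonZeroDivisors_of_flat {A B : Type*} [CommRing A] [CommRing B] (f : A →+* B)
    (hf : f.Flat) {r : A} (hr : r ∈ nonZeroDivisors A) : f r ∈ nonZeroDivisors B := by
  letI := f.toAlgebra
  haveI : Module.Flat A B := hf
  have h1 : IsSMulRegular B r := Module.Flat.isSMulRegular_of_nonZeroDivisors hr
  have key : ∀ z : B, f r * z = 0 → z = 0 := by
    intro z hz
    apply h1
    change r • z = r • (0 : B)
    rw [smul_zero, Algebra.smul_def]
    exact hz
  rw [mem_nonZeroDivisors_iff]
  exact ⟨key, fun z hz => key z (by rw [mul_comm]; exact hz)⟩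

/-- germs of a pulled-back nonzero section along a flat morphism from an integral scheme are
nonzerodivisors -/
theorem germ_appLE_mem_nonZeroDivisors {P X : Scheme.{u}} [IsIntegral X] (p : P ⟶ X) [Flat p]
    (W : X.Opens) (W' : P.Opens) (e : W' ≤ p ⁻¹ᵁ W) (s : Γ(X, W)) (hs : s ≠ 0)
    (w : P) (hw : w ∈ W') :
    P.presheaf.germ W' w hw ((p.appLE W W' e).hom s) ∈ nonZeroDivisors (P.presheaf.stalk w) := by
  have hpw : p w ∈ W := e hw
  have h1 : P.presheaf.germ W' w hw ((p.appLE W W' e).hom s) =
      (p.stalkMap w).hom (X.presheaf.germ W (p w) hpw s) := by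
    rw [Scheme.Hom.germ_stalkMap_apply]
    change P.presheaf.germ W' w hw ((P.presheaf.map (homOfLE e).op).hom ((p.app W).hom s)) = _
    exact TopCat.Presheaf.germ_res_apply P.presheaf (homOfLE e) w hw _
  rw [h1]
  apply map_mem_nonZeroDivisors_of_flat _ (Flat.stalkMap p w)
  apply mem_nonZeroDivisors_of_ne_zero
  intro h0
  exact hs (germ_injective_of_isIntegral X (p w) hpw (h0.trans (map_zero _).symm))


/-- Over an algebraically closed field k of characteristic zero, let an affine group scheme G of finite
type act on a normal variety X (integral, separated, of finite type over k, with integrally closed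
local rings) and let (Y, φ) be a geometric quotient of X by G with Y separated of finite type over
k. Then Y is normal. (The other two conditions of the published criterion are immediate from the
definition of a geometric quotient, and its converse rests on a result quoted there without proof;
only this implication is stated. A geometric quotient is taken here with φ universally submersive.) -/
theorem result (k : Type u) [Field k] [IsAlgClosed k] [CharZero k]
    (G X Y : Over (Spec (CommRingCat.of k))) [GrpObj G] [IsAffine G.left] [LocallyOfFiniteType G.hom]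
    [LocallyOfFiniteType X.hom] [QuasiCompact X.hom] [IsSeparated X.hom] [IsIntegral X.left]
    (hX : Pi1.IsNormalScheme X.left)
    [LocallyOfFiniteType Y.hom] [QuasiCompact Y.hom] [IsSeparated Y.hom]
    (a : AlgGrp.Action G X) (φ : X ⟶ Y) (h : GIT.IsGeomQuot a φ) :
    Pi1.IsNormalScheme Y.left := by
  -- `Y` is integral
  haveI : IsReduced Y.left := by
    refine ⟨fun U => ?_⟩
    exact isReduced_of_injective (φ.left.app U).hom (h.sections U).1
  haveI : IrreducibleSpace Y.left := by
    have h1 : IsIrreducible (Set.range φ.left) := by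
      rw [← Set.image_univ]
      exact (IrreducibleSpace.isIrreducible_univ X.left).image _ φ.left.continuous.continuousOn
    rw [h.surj.range_eq] at h1
    exact (irreducibleSpace_def _).mpr h1
  haveI : IsIntegral Y.left := isIntegral_of_irreducibleSpace_of_isReduced _
  -- the projection is flat
  haveI : Subsingleton (Spec (CommRingCat.of k)) :=
    (inferInstance : Subsingleton (PrimeSpectrum k))
  haveI : Flat G.hom := inferInstance
  haveI : Flat (snd G X).left := by
    rw [Over.snd_left]; infer_instance
  apply isNormalScheme_of_forall_exists_affine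
  intro y
  obtain ⟨_, ⟨V, hV, rfl⟩, hyV, -⟩ := Y.left.isBasis_affineOpens.exists_subset_of_mem_open
    (Set.mem_univ y) isOpen_univ
  refine ⟨V, hV, hyV, ?_⟩
  haveI : Nonempty V := ⟨⟨y, hyV⟩⟩
  haveI : IsDomain Γ(Y.left, V) := inferInstance
  haveI : IsIntegrallyClosed Γ(Y.left, V) := by
    have hψ : Function.Injective (φ.left.app V).hom := (h.sections V).1
    rw [isIntegrallyClosed_iff (FractionRing Γ(Y.left, V))]
    intro t ht
    obtain ⟨a₀, b₀, hb, rfl⟩ := IsFractionRing.div_surjective (A := Γ(Y.left, V)) t
    obtain ⟨q, hq, hqt⟩ := ht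
    have hE : eval a₀ (scaleRoots q b₀) = 0 := by
      have h1 := scaleRoots_eval₂_eq_zero_of_eval₂_div_eq_zero
        (IsFractionRing.injective Γ(Y.left, V) (FractionRing Γ(Y.left, V))) hqt hb
      rw [Polynomial.eval₂_at_apply] at h1
      exact (IsFractionRing.injective Γ(Y.left, V) (FractionRing Γ(Y.left, V)))
        (h1.trans (map_zero _).symm)
    have hb0 : b₀ ≠ 0 := nonZeroDivisors.ne_zero hb
    have hψb : (φ.left.app V).hom b₀ ≠ 0 := fun h0 => hb0 (hψ (h0.trans (map_zero _).symm))
    obtain ⟨c, hc⟩ := exists_eq_mul_of_scaleRoots hX (φ.left ⁻¹ᵁ V) (φ.left.app V).hom q hq a₀ b₀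
      hψb hE
    -- invariance of `c`
    have hinv : GIT.IsInvSection a φ V c := by
      have hAB : ∀ r : Γ(Y.left, V), GIT.IsInvSection a φ V ((φ.left.app V).hom r) := by
        intro r
        have h1 : (φ.left.app V).hom r ∈ Set.range (φ.left.app V) := ⟨r, rfl⟩
        rw [(h.sections V).2] at h1
        exact h1
      unfold GIT.IsInvSection at hAB ⊢
      have ha := hAB a₀
      have hb' := hAB b₀
      rw [hc, map_mul, map_mul] at ha
      apply section_ext'
      intro w hw
      have h5 := germ_appLE_mem_nonZeroDivisors (snd G X).left (φ.left ⁻¹ᵁ V) _ inf_le_right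
        ((φ.left.app V).hom b₀) hψb w hw
      have h6 := congrArg ((G ⊗ X).left.presheaf.germ _ w hw) ha
      rw [map_mul, map_mul, hb'] at h6
      exact mul_cancel_right_mem_nonZeroDivisors h5 |>.mp h6
    obtain ⟨d, hd⟩ : c ∈ Set.range (φ.left.app V) := by rw [(h.sections V).2]; exact hinv
    refine ⟨d, ?_⟩
    have h2 : a₀ = d * b₀ := by
      apply hψ
      rw [map_mul, hc]
      congr 1
      exact hd.symm
    have hb1 : algebraMap Γ(Y.left, V) (FractionRing Γ(Y.left, V)) b₀ ≠ 0 := by
      intro h0
      exact hb0 ((IsFractionRing.injective Γ(Y.left, V) (FractionRing Γ(Y.left, V)))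
        (h0.trans (map_zero _).symm))
    rw [h2, map_mul, mul_div_assoc, div_self hb1, _root_.mul_one]
  exact isNormalRing_of_isIntegrallyClosed _

end Groth.Agent.S18505
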