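import Groth.Statements.S1852
import Mathlib
import Groth.Agent.S1838
-- import your own Groth.Agent.* helpers here

set_option autoImplicit false
set_option linter.style.haveILetI false
set_option linter.unusedSectionVars false
universe u
open CycAlg

namespace Groth.Agent.S1852

section
variable {R : Type u} [CommRing R] (q : Ideal R) [q.IsPrime]

/-- `(R/q)_q` is a simple `R_q`-module. -/
lemma length_loc_quot :
    Module.length (Localization q.primeCompl) (LocalizedModule q.primeCompl (R ⧸ q)) = 1 := by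
  rw [Module.length_eq_one_iff]
  have hgen : ∀ x : LocalizedModule q.primeCompl (R ⧸ q), ∃ a : Localization q.primeCompl,
      x = a • LocalizedModule.mk (1 : R ⧸ q) 1 := by
    intro x
    induction x using LocalizedModule.induction_on with
    | h m s =>
      obtain ⟨r, rfl⟩ := Ideal.Quotient.mk_surjective m
      refine ⟨Localization.mk r s, ?_⟩
      rw [LocalizedModule.mk_smul_mk, mul_one]
      congr 1
      rw [Algebra.smul_def, mul_one]
      rfl
  have hne : LocalizedModule.mk (1 : R ⧸ q) (1 : q.primeCompl) ≠ 0 := by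
    intro h0
    rw [← LocalizedModule.zero_mk 1, LocalizedModule.mk_eq] at h0
    obtain ⟨c, hc⟩ := h0
    simp only [one_smul, smul_zero] at hc
    have hc' : (c : R) • (1 : R ⧸ q) = 0 := hc
    rw [Algebra.smul_def, mul_one, Ideal.Quotient.algebraMap_eq, Ideal.Quotient.eq_zero_iff_mem] at hc'
    exact c.2 hc'
  haveI : Nontrivial (LocalizedModule q.primeCompl (R ⧸ q)) := ⟨⟨_, 0, hne⟩⟩
  refine (isSimpleModule_iff _ _).mpr ⟨fun W => ?_⟩
  by_cases hW : W = ⊥
  · exact Or.inl hW
  · right
    obtain ⟨x, hxW, hx0⟩ := (Submodule.ne_bot_iff W).mp hW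
    rw [eq_top_iff]
    intro y _
    obtain ⟨a, rfl⟩ := hgen x
    obtain ⟨b, rfl⟩ := hgen y
    have ha : IsUnit a := by
      by_contra hna
      have ham : a ∈ IsLocalRing.maximalIdeal (Localization q.primeCompl) := by
        rw [IsLocalRing.mem_maximalIdeal, mem_nonunits_iff]; exact hna
      rw [← Localization.AtPrime.map_eq_maximalIdeal] at ham
      obtain ⟨rs, hrs⟩ := (IsLocalization.mem_map_algebraMap_iff q.primeCompl _).mp ham
      apply hx0
      have h1 : (algebraMap R (Localization q.primeCompl) rs.2) • (a • LocalizedModule.mk (1 : R ⧸ q) (1 : q.primeCompl)) = 0 := by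
        rw [smul_smul, mul_comm, hrs]
        rw [algebraMap_smul, LocalizedModule.smul'_mk]
        have : (rs.1 : R) • (1 : R ⧸ q) = 0 := by
          rw [Algebra.smul_def, mul_one, Ideal.Quotient.algebraMap_eq, Ideal.Quotient.eq_zero_iff_mem]
          exact rs.1.2
        rw [this, LocalizedModule.zero_mk]
      have hsu : IsUnit (algebraMap R (Localization q.primeCompl) rs.2) := IsLocalization.map_units _ rs.2
      exact (hsu.smul_eq_zero).mp h1
    have : b • LocalizedModule.mk (1 : R ⧸ q) (1 : q.primeCompl) =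
        (b * ↑ha.unit⁻¹) • (a • LocalizedModule.mk (1 : R ⧸ q) (1 : q.primeCompl)) := by
      rw [smul_smul, mul_assoc, IsUnit.val_inv_mul, mul_one]
    rw [this]
    exact W.smul_mem _ hxW

lemma length_step {M : Type u} [AddCommGroup M] [Module R M] {A B : Submodule R M} (hAB : A ≤ B)
    (e : (↥B ⧸ A.submoduleOf B) ≃ₗ[R] (R ⧸ q)) :
    Module.length (Localization q.primeCompl) (LocalizedModule q.primeCompl ↥B) =
      Module.length (Localization q.primeCompl) (LocalizedModule q.primeCompl ↥A) + 1 := by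
  rw [← length_loc_quot q]
  have hsurj : Function.Surjective (e.toLinearMap ∘ₗ (A.submoduleOf B).mkQ) :=
    e.surjective.comp (Submodule.mkQ_surjective _)
  have hex : Function.Exact (Submodule.inclusion hAB) (e.toLinearMap ∘ₗ (A.submoduleOf B).mkQ) := by
    rw [LinearMap.exact_iff, LinearMap.ker_comp, LinearEquiv.ker, Submodule.comap_bot,
      Submodule.ker_mkQ, Submodule.range_inclusion]
    rfl
  exact Module.length_eq_add_of_exact
    (LocalizedModule.map q.primeCompl (Submodule.inclusion hAB))
    (LocalizedModule.map q.primeCompl (e.toLinearMap ∘ₗ (A.submoduleOf B).mkQ))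
    (LocalizedModule.map_injective _ _ (Submodule.inclusion_injective hAB))
    (LocalizedModule.map_surjective _ _ hsurj)
    (LocalizedModule.map_exact q.primeCompl _ _ hex)

end

section
variable {R : Type u} [CommRing R] [IsLocalRing R] {M : Type u} [AddCommGroup M] [Module R M]

local notation "sb" => CycDet.spanBefore R M

open Groth.Agent.S1838

/-- the chain condition -/
def Chain (q : Ideal R) {l : ℕ} (x : Fin l → M) : Prop :=
  ∀ i : Fin l, Nonempty ((↥(sb x ((i : ℕ) + 1)) ⧸ (sb x (i : ℕ)).submoduleOf (sb x ((i : ℕ) + 1))) ≃ₗ[R] (R ⧸ q))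

lemma count (q : Ideal R) [q.IsPrime] {l : ℕ} (x : Fin l → M) (hx : Chain q x) :
    ∀ k : ℕ, k ≤ l → Module.length (Localization q.primeCompl)
      (LocalizedModule q.primeCompl ↥(sb x k)) = (k : ℕ∞) := by
  intro k
  induction k with
  | zero =>
    intro _
    rw [Nat.cast_zero, Module.length_eq_zero_iff]
    have : Subsingleton ↥(sb x 0) := by rw [sb_zero]; infer_instance
    infer_instance
  | succ k ih =>
    intro hk
    obtain ⟨e⟩ := hx ⟨k, hk⟩
    rw [length_step q (sb_mono x (Nat.le_succ k)) e, ih (Nat.le_of_succ_le hk)]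
    push_cast
    rfl

lemma count_total (q : PrimeSpectrum R) {l : ℕ} (x : Fin l → M) (hx : Chain q.asIdeal x)
    (hsupp : q ∉ Module.support R (M ⧸ Submodule.span R (Set.range x))) :
    (l : ℕ∞) = Module.length (Localization.AtPrime q.asIdeal)
      (LocalizedModule q.asIdeal.primeCompl M) := by
  set N := Submodule.span R (Set.range x) with hN
  have h1 := count q.asIdeal x hx l le_rfl
  rw [sb_top] at h1
  have hex : Function.Exact N.subtype N.mkQ := by
    rw [LinearMap.exact_iff, Submodule.ker_mkQ, Submodule.range_subtype]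
  have h2 := Module.length_eq_add_of_exact
    (LocalizedModule.map q.asIdeal.primeCompl N.subtype)
    (LocalizedModule.map q.asIdeal.primeCompl N.mkQ)
    (LocalizedModule.map_injective _ _ N.injective_subtype)
    (LocalizedModule.map_surjective _ _ (Submodule.mkQ_surjective _))
    (LocalizedModule.map_exact q.asIdeal.primeCompl _ _ hex)
  have h3 : Module.length (Localization q.asIdeal.primeCompl)
      (LocalizedModule q.asIdeal.primeCompl (M ⧸ N)) = 0 := by
    rw [Module.length_eq_zero_iff]
    exact Module.notMem_support_iff.mp hsupp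
  rw [h3, add_zero, h1] at h2
  exact h2.symm

lemma exists_extend [IsNoetherianRing R] [Module.Finite R M] (q : PrimeSpectrum R)
    (hq : Minimal (fun p : PrimeSpectrum R => p ∈ Module.support R M) q)
    (N : Submodule R M) (hN : q ∈ Module.support R (M ⧸ N)) :
    ∃ x : M, x ∉ N ∧ Nonempty ((↥(N ⊔ Submodule.span R {x}) ⧸
      N.submoduleOf (N ⊔ Submodule.span R {x})) ≃ₗ[R] (R ⧸ q.asIdeal)) := by
  have hsub : Module.support R (M ⧸ N) ⊆ Module.support R M :=
    Module.support_subset_of_surjective N.mkQ (Submodule.mkQ_surjective N)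
  have hmin : q.asIdeal ∈ (Module.annihilator R (M ⧸ N)).minimalPrimes := by
    refine ⟨⟨q.isPrime, ?_⟩, ?_⟩
    · have := hN
      rw [Module.support_eq_zeroLocus, PrimeSpectrum.mem_zeroLocus] at this
      exact this
    · rintro p ⟨hp, hle⟩ hpq
      have hp' : (⟨p, hp⟩ : PrimeSpectrum R) ∈ Module.support R (M ⧸ N) := by
        rw [Module.support_eq_zeroLocus, PrimeSpectrum.mem_zeroLocus]
        exact hle
      exact hq.2 (hsub hp') hpq
  have hass : IsAssociatedPrime q.asIdeal (M ⧸ N) :=
    Module.associatedPrimes.minimalPrimes_annihilator_subset_associatedPrimes R (M ⧸ N) hmin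
  obtain ⟨-, f, hf⟩ := (isAssociatedPrime_iff_exists_injective_linearMap _ _).mp hass
  obtain ⟨x, hx⟩ := Submodule.mkQ_surjective N (f 1)
  have hx' : Submodule.Quotient.mk (p := N) x = f 1 := hx
  have h1ne : (1 : R ⧸ q.asIdeal) ≠ 0 := by
    intro h
    have : (1 : R) ∈ q.asIdeal := Ideal.Quotient.eq_zero_iff_mem.mp h
    exact q.isPrime.ne_top ((Ideal.eq_top_iff_one _).mpr this)
  refine ⟨x, ?_, ?_⟩
  · intro hxN
    have : f 1 = 0 := by rw [← hx', Submodule.Quotient.mk_eq_zero]; exact hxN
    exact h1ne (hf (by rw [this, map_zero]))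
  · set N' := N ⊔ Submodule.span R {x} with hN'
    let ψ : ↥N' →ₗ[R] M ⧸ N := N.mkQ ∘ₗ N'.subtype
    have hker : LinearMap.ker ψ = N.submoduleOf N' := by
      ext y
      rw [LinearMap.mem_ker]
      show Submodule.Quotient.mk (p := N) (y : M) = 0 ↔ _
      rw [Submodule.Quotient.mk_eq_zero]
      rfl
    have hrange : LinearMap.range ψ = LinearMap.range f := by
      apply le_antisymm
      · rintro _ ⟨y, rfl⟩
        obtain ⟨n, hn, z, hz, hyz⟩ := Submodule.mem_sup.mp y.2
        obtain ⟨r, rfl⟩ := Submodule.mem_span_singleton.mp hz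
        refine ⟨r • 1, ?_⟩
        show f (r • 1) = Submodule.Quotient.mk (p := N) (y : M)
        rw [map_smul, ← hx', ← hyz, Submodule.Quotient.mk_add, (Submodule.Quotient.mk_eq_zero N).mpr hn,
          zero_add, Submodule.Quotient.mk_smul]
      · rintro _ ⟨z, rfl⟩
        obtain ⟨r, rfl⟩ := Ideal.Quotient.mk_surjective z
        have hxN' : x ∈ N' := Submodule.mem_sup_right (Submodule.mem_span_singleton_self x)
        refine ⟨r • ⟨x, hxN'⟩, ?_⟩
        show Submodule.Quotient.mk (p := N) (r • x) = f (Ideal.Quotient.mk q.asIdeal r)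
        have : Ideal.Quotient.mk q.asIdeal r = r • (1 : R ⧸ q.asIdeal) := by
          rw [Algebra.smul_def, mul_one]; rfl
        rw [this, map_smul, ← hx', Submodule.Quotient.mk_smul]
    exact ⟨(Submodule.quotEquivOfEq _ _ hker.symm).trans
      ((LinearMap.quotKerEquivRange ψ).trans
        ((LinearEquiv.ofEq _ _ hrange).trans (LinearEquiv.ofInjective f hf).symm))⟩

lemma chain_transport {q : Ideal R} {A B A' B' : Submodule R M} (hA : A = A') (hB : B = B')
    (h : Nonempty ((↥B ⧸ A.submoduleOf B) ≃ₗ[R] (R ⧸ q))) :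
    Nonempty ((↥B' ⧸ A'.submoduleOf B') ≃ₗ[R] (R ⧸ q)) := by
  subst hA; subst hB; exact h

lemma sb_snoc {l : ℕ} (x : Fin l → M) (y : M) (k : ℕ) (hk : k ≤ l) :
    sb (Fin.snoc (α := fun _ => M) x y) k = sb x k := by
  unfold CycDet.spanBefore
  congr 1
  ext z
  constructor
  · rintro ⟨j, hj, rfl⟩
    have hj' : (j : ℕ) < l := lt_of_lt_of_le hj hk
    refine ⟨⟨j, hj'⟩, hj, ?_⟩
    have h1 : Fin.snoc (α := fun _ => M) x y (Fin.castSucc ⟨j, hj'⟩) = x ⟨j, hj'⟩ :=
      Fin.snoc_castSucc (α := fun _ => M) _ _ _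
    exact h1.symm
  · rintro ⟨j, hj, rfl⟩
    exact ⟨Fin.castSucc j, hj, by rw [Fin.snoc_castSucc]⟩

lemma exists_good [IsNoetherianRing R] [Module.Finite R M] (q : PrimeSpectrum R)
    (hq : Minimal (fun p : PrimeSpectrum R => p ∈ Module.support R M) q) :
    ∀ N : Submodule R M, ∀ (l : ℕ) (x : Fin l → M), Submodule.span R (Set.range x) = N →
      Chain q.asIdeal x →
      ∃ (l' : ℕ) (x' : Fin l' → M), q ∉ Module.support R (M ⧸ Submodule.span R (Set.range x')) ∧
        Chain q.asIdeal x' := by
  intro N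
  induction N using (IsWellFounded.induction (α := Submodule R M) (· > ·)) with
  | ind N ih =>
    intro l x hxN hC
    by_cases hsupp : q ∈ Module.support R (M ⧸ Submodule.span R (Set.range x))
    · rw [hxN] at hsupp
      obtain ⟨y, hyN, hy⟩ := exists_extend q hq N hsupp
      have hlt : N ⊔ Submodule.span R {y} > N := by
        refine lt_of_le_of_ne le_sup_left ?_
        intro heq
        apply hyN
        rw [heq]
        exact Submodule.mem_sup_right (Submodule.mem_span_singleton_self y)
      have hsbl : sb (Fin.snoc (α := fun _ => M) x y) l = N := by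
        rw [sb_snoc x y l le_rfl, sb_top, hxN]
      have hsbl1 : sb (Fin.snoc (α := fun _ => M) x y) (l + 1) = N ⊔ Submodule.span R {y} := by
        have := sb_succ (R := R) (Fin.snoc (α := fun _ => M) x y) (Fin.last l)
        rw [Fin.val_last, Fin.snoc_last, hsbl] at this
        exact this
      refine ih (N ⊔ Submodule.span R {y}) hlt (l + 1) (Fin.snoc (α := fun _ => M) x y) ?_ ?_
      · rw [← sb_top, hsbl1]
      · intro i
        by_cases hi : (i : ℕ) < l
        · refine chain_transport (sb_snoc x y i hi.le).symm (sb_snoc x y (i+1) hi).symm ?_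
          exact hC ⟨i, hi⟩
        · have hil : (i : ℕ) = l := by have := i.2; omega
          rw [hil]
          exact chain_transport hsbl.symm hsbl1.symm hy
    · exact ⟨l, x, hsupp, hC⟩

end


/-- Let R be a Noetherian local ring, M a finite R-module and 𝔮 a minimal prime of the support of M.
There are x₁, …, x_l in M such that 𝔮 is not in the support of M/⟨x₁, …, x_l⟩ and each ⟨x₁, …,
x_i⟩/⟨x₁, …, x_{i−1}⟩ is isomorphic to R/𝔮; and for any such sequence l equals the length of M_𝔮
over R_𝔮. -/
theorem result (R : Type u) [CommRing R] [IsNoetherianRing R] [IsLocalRing R] (M : Type u) [AddCommGroup M] [Module R M] [Module.Finite R M] (q : PrimeSpectrum R) (hq : Minimal (fun p : PrimeSpectrum R => p ∈ Module.support R M) q) : (∃ (l : ℕ) (x : Fin l → M), q ∉ Module.support R (M ⧸ Submodule.span R (Set.range x)) ∧ ∀ i : Fin l, Nonempty ((↥(CycDet.spanBefore R M x (i + 1)) ⧸ (CycDet.spanBefore R M x i).submoduleOf (CycDet.spanBefore R M x (i + 1))) ≃ₗ[R] (R ⧸ q.asIdeal))) ∧ ∀ (l : ℕ) (x : Fin l → M), q ∉ Module.support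 R (M ⧸ Submodule.span R (Set.range x)) → (∀ i : Fin l, Nonempty ((↥(CycDet.spanBefore R M x (i + 1)) ⧸ (CycDet.spanBefore R M x i).submoduleOf (CycDet.spanBefore R M x (i + 1))) ≃ₗ[R] (R ⧸ q.asIdeal))) → (l : ℕ∞) = Module.length (Localization.AtPrime q.asIdeal) (LocalizedModule q.asIdeal.primeCompl M) := by
  refine ⟨?_, fun l x hsupp hC => count_total q x hC hsupp⟩
  have hempty : Submodule.span R (Set.range (Fin.elim0 : Fin 0 → M)) = ⊥ := by
    rw [Submodule.span_eq_bot]
    rintro _ ⟨j, _⟩
    exact j.elim0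
  obtain ⟨l', x', h1, h2⟩ := exists_good q hq ⊥ 0 Fin.elim0 hempty (fun i => i.elim0)
  exact ⟨l', x', h1, h2⟩

end Groth.Agent.S1852
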