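import Groth.Statements.S18538
import Mathlib.Tactic
import Mathlib.RingTheory.Flat.FaithfullyFlat.Basic

set_option autoImplicit false
universe u
open EtAlg

namespace Groth.Agent.S18538

/-- Let A ⊆ B be an injective finite extension of integrally closed domains, with fraction fields K ⊆ L
and L separable over K. Then A → B → B ⊗_A B is exact, the second map being b ↦ b ⊗ 1 - 1 ⊗ b: every
element of B whose two images in B ⊗_A B agree comes from A. -/
theorem result
    (A B K L : Type u) [CommRing A] [CommRing B] [IsDomain A] [IsDomain B]
    [IsIntegrallyClosed A] [IsIntegrallyClosed B] [Algebra A B] [FaithfulSMul A B] [Module.Finite A B]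
    [Field K] [Field L] [Algebra A K] [IsFractionRing A K] [Algebra B L] [IsFractionRing B L]
    [Algebra K L] [Algebra A L] [IsScalarTower A K L] [IsScalarTower A B L]
    [Algebra.IsSeparable K L] :
    Algebra.IsEffective A B := by
  intro b
  constructor
  · intro hb
    rw [Algebra.TensorProduct.includeLeftSubRight_apply, sub_eq_zero] at hb
    -- map to `L ⊗[K] L`
    let ψ₁ : TensorProduct A B B →ₗ[A] TensorProduct A L L :=
      TensorProduct.map (IsScalarTower.toAlgHom A B L).toLinearMap (IsScalarTower.toAlgHom A B L).toLinearMap
    let ψ₂ : TensorProduct A L L →ₗ[A] TensorProduct K L L := TensorProduct.mapOfCompatibleSMul K A A L L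
    have h1 := congrArg (fun t => ψ₂ (ψ₁ t)) hb
    simp only [ψ₁, ψ₂, TensorProduct.map_tmul, AlgHom.toLinearMap_apply, IsScalarTower.coe_toAlgHom',
      TensorProduct.mapOfCompatibleSMul_tmul, map_one] at h1
    have heff : Algebra.IsEffective K L := Algebra.IsEffective.of_faithfullyFlat K L
    have h2 : Algebra.TensorProduct.includeLeftSubRight K L (algebraMap B L b) = 0 := by
      rw [Algebra.TensorProduct.includeLeftSubRight_apply, sub_eq_zero]
      exact h1
    obtain ⟨k, hk⟩ := (heff (algebraMap B L b)).mp h2
    have hk' : algebraMap K L k = algebraMap B L b := hk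
    -- `k` is integral over `A`
    have hbint : IsIntegral A b := Algebra.IsIntegral.isIntegral b
    have hLint : IsIntegral A (algebraMap B L b) := hbint.algebraMap
    have hkint : IsIntegral A k := by
      rw [← hk'] at hLint
      exact (isIntegral_algebraMap_iff (FaithfulSMul.algebraMap_injective K L)).mp hLint
    obtain ⟨a, ha⟩ := (isIntegrallyClosed_iff K).mp inferInstance hkint
    refine ⟨a, ?_⟩
    apply FaithfulSMul.algebraMap_injective B L
    change algebraMap B L (algebraMap A B a) = algebraMap B L b
    rw [← hk', ← ha, ← IsScalarTower.algebraMap_apply, ← IsScalarTower.algebraMap_apply]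
  · intro hb
    exact Algebra.TensorProduct.includeLeftSubRight_zero_of_mem_range hb

end Groth.Agent.S18538
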