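import Groth.Statements.S1854
import Mathlib
import Groth.Agent.S1838
import Groth.Agent.S1839
-- import your own Groth.Agent.* helpers here

set_option autoImplicit false
set_option linter.style.haveILetI false
set_option linter.unusedSectionVars false
universe u
open TensorProduct
open CycDet

namespace Groth.Agent.S1854

open IsLocalRing Groth.Agent.S1839

variable {R : Type u} [CommRing R] [IsLocalRing R]

/-- The three relations, without nonvanishing. -/
structure Rel3 (R : Type u) [CommRing R] [IsLocalRing R] (M : Type u) [AddCommGroup M]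
    [Module R M] (l : ℕ) (ψ : (Fin l → M) → ResidueField R) : Prop where
  ga : ∀ e, IsAdmissible R M e → ∀ a : Fin l, e a ∈ spanBefore R M e a → ψ e = 0
  gb : ∀ e e', IsAdmissible R M e → IsAdmissible R M e' → ∀ (a : Fin l) (c : R), IsUnit c →
    (∀ j, j ≠ a → e j = e' j) → e a - c • e' a ∈ spanBefore R M e a →
    ψ e = residue R c * ψ e'
  gc : ∀ e e', IsAdmissible R M e → IsAdmissible R M e' → ∀ a b : Fin l, (b : ℕ) + 1 = a →
    (∀ r ∈ maximalIdeal R, r • e a ∈ spanBefore R M e b) → e' = e ∘ Equiv.swap a b →
    ψ e + ψ e' = 0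

section Det

variable {M : Type u} [AddCommGroup M] [Module R M] {l : ℕ}

theorem good_rel3 {ψ : (Fin l → M) → ResidueField R} (h : Good R M l ψ) : Rel3 R M l ψ :=
  ⟨h.ga, h.gb, h.gc⟩

/-- The linear functional on `DetOfLen` induced by a functional satisfying the relations. -/
noncomputable def toDet (φ : (Fin l → M) → ResidueField R) (hφ : Rel3 R M l φ) :
    DetOfLen R M l →ₗ[ResidueField R] ResidueField R :=
  Submodule.liftQ _ (Finsupp.linearCombination (ResidueField R) (fun e : Adm R M l => φ e.1)) (by
    have hΨ : ∀ e : Adm R M l, (Finsupp.linearCombination (ResidueField R)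
        (fun e : Adm R M l => φ e.1)) (sym R M e) = φ e.1 := by
      intro e
      simp [sym, Finsupp.linearCombination_single]
    apply Submodule.span_le.mpr
    rintro x ((⟨e, a, ha, rfl⟩ | ⟨e, e', a, c, hj, hc, rfl⟩) | ⟨e, e', a, b, hab, hsw, heq, rfl⟩)
    · show _ = 0
      rw [hΨ]
      exact hφ.ga e.1 e.2 a ha
    · show _ = 0
      rw [map_sub, map_smul, hΨ, hΨ, smul_eq_mul, sub_eq_zero]
      exact hφ.gb e.1 e'.1 e.2 e'.2 a c c.isUnit hj hc
    · show _ = 0
      rw [map_add, hΨ, hΨ]
      exact hφ.gc e.1 e'.1 e.2 e'.2 a b hab hsw heq)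

theorem toDet_S (φ : (Fin l → M) → ResidueField R) (hφ : Rel3 R M l φ) (e : Adm R M l) :
    toDet φ hφ (Groth.Agent.S1838.S e) = φ e.1 := by
  unfold toDet Groth.Agent.S1838.S
  rw [Submodule.liftQ_apply]
  simp [sym, Finsupp.linearCombination_single]

theorem unique (hlen : Module.length R M = (l : ℕ∞)) (ψ : (Fin l → M) → ResidueField R)
    (hψ : Good R M l ψ) (φ : (Fin l → M) → ResidueField R) (hφ : Rel3 R M l φ)
    (e₀ : Fin l → M) (he₀ : IsAdmissible R M e₀)
    (e : Fin l → M) (he : IsAdmissible R M e) : φ e * ψ e₀ = φ e₀ * ψ e := by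
  obtain ⟨v₀, hv₀⟩ := rank_le_one_iff.mp (Groth.Agent.S1838.rank_le_one' (R := R) (M := M) hlen)
  obtain ⟨r, hr⟩ := hv₀ (Groth.Agent.S1838.S ⟨e, he⟩)
  obtain ⟨r₀, hr₀⟩ := hv₀ (Groth.Agent.S1838.S ⟨e₀, he₀⟩)
  have h1 := toDet_S φ hφ ⟨e, he⟩
  have h2 := toDet_S φ hφ ⟨e₀, he₀⟩
  have h3 := toDet_S ψ (good_rel3 hψ) ⟨e, he⟩
  have h4 := toDet_S ψ (good_rel3 hψ) ⟨e₀, he₀⟩
  rw [← hr, map_smul, smul_eq_mul] at h1 h3
  rw [← hr₀, map_smul, smul_eq_mul] at h2 h4
  simp only at h1 h2 h3 h4
  rw [← h1, ← h2, ← h3, ← h4]
  ring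

/-- a functional nonzero somewhere on a space of rank ≤ 1 is bijective -/
theorem bijective_of_rank_le_one {V : Type*} [AddCommGroup V] [Module (ResidueField R) V]
    (hV : Module.rank (ResidueField R) V ≤ 1) (T : V →ₗ[ResidueField R] ResidueField R)
    (v : V) (hv : T v ≠ 0) : Function.Bijective T := by
  obtain ⟨v₀, hv₀⟩ := rank_le_one_iff.mp hV
  constructor
  · rw [injective_iff_map_eq_zero]
    intro x hx
    obtain ⟨r, rfl⟩ := hv₀ x
    obtain ⟨r₀, rfl⟩ := hv₀ v
    rw [map_smul, smul_eq_mul] at hx hv
    have hT : T v₀ ≠ 0 := right_ne_zero_of_mul hv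
    rcases mul_eq_zero.mp hx with h | h
    · rw [h, zero_smul]
    · exact absurd h hT
  · intro t
    refine ⟨(t / T v) • v, ?_⟩
    rw [map_smul, smul_eq_mul, div_mul_cancel₀ _ hv]

end Det

section Append

variable {L : Type u} [AddCommGroup L] [Module R L] {k m : ℕ} (u : Fin k → L) (w : Fin m → L)

theorem sb_append_low {t : ℕ} (ht : t ≤ k) :
    spanBefore R L (Fin.append u w) t = spanBefore R L u t := by
  apply le_antisymm
  · apply Submodule.span_le.mpr
    rintro _ ⟨i, hi, rfl⟩
    have hi' : (i : ℕ) < t := hi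
    have : i = Fin.castAdd m ⟨i, by omega⟩ := Fin.ext rfl
    rw [this, Fin.append_left]
    exact sb_mem u _ hi'
  · apply Submodule.span_le.mpr
    rintro _ ⟨i', hi', rfl⟩
    have hi'' : (i' : ℕ) < t := hi'
    rw [← Fin.append_left u w i']
    exact sb_mem _ _ (by simpa using hi'')

theorem sb_append_high (s : ℕ) : spanBefore R L (Fin.append u w) (k + s) =
    Submodule.span R (Set.range u) ⊔ spanBefore R L w s := by
  apply le_antisymm
  · apply Submodule.span_le.mpr
    rintro _ ⟨i, hi, rfl⟩
    have hi' : (i : ℕ) < k + s := hi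
    by_cases hik : (i : ℕ) < k
    · have : i = Fin.castAdd m ⟨i, hik⟩ := Fin.ext rfl
      rw [this, Fin.append_left]
      exact Submodule.mem_sup_left (Submodule.subset_span ⟨_, rfl⟩)
    · have hlt : (i : ℕ) - k < m := by have := i.2; omega
      have : i = Fin.natAdd k ⟨i - k, hlt⟩ := Fin.ext (by simp; omega)
      rw [this, Fin.append_right]
      exact Submodule.mem_sup_right (sb_mem w _ (by simp; omega))
  · apply sup_le
    · apply Submodule.span_le.mpr
      rintro _ ⟨i', rfl⟩
      rw [← Fin.append_left u w i']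
      exact sb_mem _ _ (by simp; omega)
    · apply Submodule.span_le.mpr
      rintro _ ⟨j, hj, rfl⟩
      have hj' : (j : ℕ) < s := hj
      rw [← Fin.append_right u w j]
      exact sb_mem _ _ (by simp; exact hj')

theorem range_append : Submodule.span R (Set.range (Fin.append u w)) =
    Submodule.span R (Set.range u) ⊔ Submodule.span R (Set.range w) := by
  have := sb_append_high (R := R) u w m
  rw [sb_top _ le_rfl, sb_top w le_rfl] at this
  exact this

end Append

theorem sb_map {N N' : Type u} [AddCommGroup N] [Module R N] [AddCommGroup N'] [Module R N']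
    (φ : N →ₗ[R] N') {l : ℕ} (e : Fin l → N) (i : ℕ) :
    spanBefore R N' (φ ∘ e) i = Submodule.map φ (spanBefore R N e i) := by
  unfold spanBefore
  rw [Submodule.map_span, Set.image_comp]

theorem range_map {N N' : Type u} [AddCommGroup N] [Module R N] [AddCommGroup N'] [Module R N']
    (φ : N →ₗ[R] N') {l : ℕ} (e : Fin l → N) :
    Submodule.span R (Set.range (φ ∘ e)) = Submodule.map φ (Submodule.span R (Set.range e)) := by
  rw [Submodule.map_span, Set.range_comp]


section Exact

variable {K L M : Type u} [AddCommGroup K] [Module R K] [AddCommGroup L] [Module R L]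
  [AddCommGroup M] [Module R M] (f : K →ₗ[R] L) (g : L →ₗ[R] M)
  (hfg : LinearMap.range f = LinearMap.ker g) {k m : ℕ}

theorem mem_of_g_mem {w : Fin m → L} {s : ℕ} {y : L} (h : g y ∈ spanBefore R M (g ∘ w) s) :
    y ∈ LinearMap.ker g ⊔ spanBefore R L w s := by
  rw [sb_map] at h
  obtain ⟨z, hz, hzy⟩ := h
  have : y = (y - z) + z := by abel
  rw [this]
  refine Submodule.add_mem _ (Submodule.mem_sup_left ?_) (Submodule.mem_sup_right hz)
  rw [LinearMap.mem_ker, map_sub, hzy, sub_self]

include hfg in
theorem span_f_gen {eK : Fin k → K} (hgen : Submodule.span R (Set.range eK) = ⊤) :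
    Submodule.span R (Set.range (f ∘ eK)) = LinearMap.ker g := by
  rw [range_map, hgen, Submodule.map_top, hfg]

include hfg in
theorem adm_append {eK : Fin k → K} (hK : IsAdmissible R K eK)
    (hgen : Submodule.span R (Set.range eK) = ⊤) {w : Fin m → L}
    (hw : IsAdmissible R M (g ∘ w)) : IsAdmissible R L (Fin.append (f ∘ eK) w) := by
  intro i r hr
  induction i using Fin.addCases with
  | left i' =>
    rw [Fin.append_left]
    have hv : ((Fin.castAdd m i' : Fin (k + m)) : ℕ) = i' := rfl
    rw [hv, sb_append_low _ _ (le_of_lt i'.2), sb_map]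
    have : r • (f ∘ eK) i' = f (r • eK i') := by simp
    rw [this]
    exact Submodule.mem_map_of_mem (hK i' r hr)
  | right j =>
    rw [Fin.append_right]
    have hv : ((Fin.natAdd k j : Fin (k + m)) : ℕ) = k + j := rfl
    rw [hv, sb_append_high, span_f_gen f g hfg hgen]
    apply mem_of_g_mem g
    rw [map_smul]
    exact hw j r hr

include hfg in
theorem gen_append {eK : Fin k → K} (hgen : Submodule.span R (Set.range eK) = ⊤) {w : Fin m → L}
    (hw : Submodule.span R (Set.range (g ∘ w)) = ⊤) :
    Submodule.span R (Set.range (Fin.append (f ∘ eK) w)) = ⊤ := by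
  rw [eq_top_iff]
  intro y _
  rw [range_append, span_f_gen f g hfg hgen, ← sb_top w le_rfl]
  apply mem_of_g_mem g
  rw [sb_top _ le_rfl, hw]
  exact Submodule.mem_top

variable (ψL : (Fin (k + m) → L) → ResidueField R) (hψL : Rel3 R L (k + m) ψL)

include hfg hψL in
theorem rel3_phiM {eK : Fin k → K} (hK : IsAdmissible R K eK)
    (hgen : Submodule.span R (Set.range eK) = ⊤) (s : M → L) (hs : ∀ x, g (s x) = x) :
    Rel3 R M m (fun eM => ψL (Fin.append (f ∘ eK) (s ∘ eM))) := by
  have hgs : ∀ eM : Fin m → M, g ∘ (s ∘ eM) = eM := fun eM => funext (fun j => hs _)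
  have hadm : ∀ eM : Fin m → M, IsAdmissible R M eM →
      IsAdmissible R L (Fin.append (f ∘ eK) (s ∘ eM)) := by
    intro eM h
    apply adm_append f g hfg hK hgen
    rw [hgs]; exact h
  have hmem : ∀ (eM : Fin m → M) (t : ℕ) (y : L), g y ∈ spanBefore R M eM t →
      y ∈ spanBefore R L (Fin.append (f ∘ eK) (s ∘ eM)) (k + t) := by
    intro eM t y hy
    rw [sb_append_high, span_f_gen f g hfg hgen]
    apply mem_of_g_mem g
    rw [hgs]; exact hy
  have hv : ∀ j : Fin m, ((Fin.natAdd k j : Fin (k + m)) : ℕ) = k + j := fun _ => rfl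
  refine ⟨?_, ?_, ?_⟩
  · intro eM he a ha
    apply hψL.ga _ (hadm eM he) (Fin.natAdd k a)
    rw [Fin.append_right, hv]
    apply hmem
    rw [Function.comp_apply, hs]; exact ha
  · intro eM eM' he he' a c hc hj hca
    apply hψL.gb _ _ (hadm eM he) (hadm eM' he') (Fin.natAdd k a) c hc
    · intro j hja
      induction j using Fin.addCases with
      | left i' => rw [Fin.append_left, Fin.append_left]
      | right j' =>
        rw [Fin.append_right, Fin.append_right, Function.comp_apply, Function.comp_apply, hj]
        intro hh; exact hja (by rw [hh])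
    · rw [Fin.append_right, Fin.append_right, hv]
      apply hmem
      rw [map_sub, map_smul, Function.comp_apply, Function.comp_apply, hs, hs]
      exact hca
  · intro eM eM' he he' a b hab hsw heq
    apply hψL.gc _ _ (hadm eM he) (hadm eM' he') (Fin.natAdd k a) (Fin.natAdd k b)
    · rw [hv, hv]; omega
    · intro r hr
      rw [Fin.append_right, hv]
      apply hmem
      rw [map_smul, Function.comp_apply, hs]
      exact hsw r hr
    · funext i
      induction i using Fin.addCases with
      | left i' =>
        rw [Function.comp_apply, Equiv.swap_apply_of_ne_of_ne, Fin.append_left, Fin.append_left]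
        · intro hh
          have := congrArg Fin.val hh
          rw [hv] at this
          have h2 : ((Fin.castAdd m i' : Fin (k + m)) : ℕ) = i' := rfl
          rw [h2] at this
          have := i'.2
          omega
        · intro hh
          have := congrArg Fin.val hh
          rw [hv] at this
          have h2 : ((Fin.castAdd m i' : Fin (k + m)) : ℕ) = i' := rfl
          rw [h2] at this
          have := i'.2
          omega
      | right j =>
        rw [Function.comp_apply, (Fin.natAdd_injective m k).swap_apply, Fin.append_right,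
          Fin.append_right, heq]
        rfl

open Classical in
include hfg hψL in
theorem rel3_chiK {w : Fin m → L} (hw : IsAdmissible R M (g ∘ w)) :
    Rel3 R K k (fun eK => if Submodule.span R (Set.range eK) = ⊤ then
      ψL (Fin.append (f ∘ eK) w) else 0) := by
  have hv : ∀ j : Fin k, ((Fin.castAdd m j : Fin (k + m)) : ℕ) = j := fun _ => rfl
  have hmem : ∀ (eK : Fin k → K) (a : Fin k) (x : K), x ∈ spanBefore R K eK a →
      f x ∈ spanBefore R L (Fin.append (f ∘ eK) w) a := by
    intro eK a x hx
    rw [sb_append_low _ _ (le_of_lt a.2), sb_map]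
    exact Submodule.mem_map_of_mem hx
  refine ⟨?_, ?_, ?_⟩
  · intro eK he a ha
    show (if Submodule.span R (Set.range eK) = ⊤ then ψL (Fin.append (f ∘ eK) w) else 0) = 0
    split_ifs with hgen
    · apply hψL.ga _ (adm_append f g hfg he hgen hw) (Fin.castAdd m a)
      rw [Fin.append_left, hv]
      exact hmem eK a _ ha
    · rfl
  · intro eK eK' he he' a c hc hj hca
    show (if Submodule.span R (Set.range eK) = ⊤ then ψL (Fin.append (f ∘ eK) w) else 0) =
      residue R c * (if Submodule.span R (Set.range eK') = ⊤ then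
        ψL (Fin.append (f ∘ eK') w) else 0)
    have hrange : Submodule.span R (Set.range eK) = Submodule.span R (Set.range eK') := by
      rw [← sb_top eK le_rfl, ← sb_top eK' le_rfl]
      exact sb_eq_of_gb a c hc hj hca k
    by_cases hgen : Submodule.span R (Set.range eK) = ⊤
    · have hgen' : Submodule.span R (Set.range eK') = ⊤ := hrange ▸ hgen
      rw [if_pos hgen, if_pos hgen']
      apply hψL.gb _ _ (adm_append f g hfg he hgen hw) (adm_append f g hfg he' hgen' hw)
        (Fin.castAdd m a) c hc
      · intro j hja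
        induction j using Fin.addCases with
        | left i' =>
          rw [Fin.append_left, Fin.append_left, Function.comp_apply, Function.comp_apply, hj]
          intro hh; exact hja (by rw [hh])
        | right j' => rw [Fin.append_right, Fin.append_right]
      · rw [Fin.append_left, Fin.append_left, hv]
        have : (f ∘ eK) a - c • (f ∘ eK') a = f (eK a - c • eK' a) := by simp
        rw [this]
        exact hmem eK a _ hca
    · have hgen' : ¬ Submodule.span R (Set.range eK') = ⊤ := fun h => hgen (hrange ▸ h)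
      rw [if_neg hgen, if_neg hgen', mul_zero]
  · intro eK eK' he he' a b hab hsw heq
    show (if Submodule.span R (Set.range eK) = ⊤ then ψL (Fin.append (f ∘ eK) w) else 0) +
      (if Submodule.span R (Set.range eK') = ⊤ then ψL (Fin.append (f ∘ eK') w) else 0) = 0
    have hrange : Submodule.span R (Set.range eK') = Submodule.span R (Set.range eK) := by
      rw [heq, (Equiv.swap a b).surjective.range_comp]
    by_cases hgen : Submodule.span R (Set.range eK) = ⊤
    · have hgen' : Submodule.span R (Set.range eK') = ⊤ := hrange ▸ hgen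
      rw [if_pos hgen, if_pos hgen']
      apply hψL.gc _ _ (adm_append f g hfg he hgen hw) (adm_append f g hfg he' hgen' hw)
        (Fin.castAdd m a) (Fin.castAdd m b)
      · rw [hv, hv]; exact hab
      · intro r hr
        rw [Fin.append_left, hv]
        have : r • (f ∘ eK) a = f (r • eK a) := by simp
        rw [this]
        exact hmem eK b _ (hsw r hr)
      · funext i
        induction i using Fin.addCases with
        | left i' =>
          rw [Function.comp_apply, (Fin.castAdd_injective k m).swap_apply, Fin.append_left,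
            Fin.append_left, heq]
          rfl
        | right j =>
          have hvn : ((Fin.natAdd k j : Fin (k + m)) : ℕ) = k + j := rfl
          rw [Function.comp_apply, Equiv.swap_apply_of_ne_of_ne, Fin.append_right,
            Fin.append_right]
          · intro hh
            have := congrArg Fin.val hh
            rw [hv, hvn] at this
            have := a.2
            omega
          · intro hh
            have := congrArg Fin.val hh
            rw [hv, hvn] at this
            have := b.2
            omega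
    · have hgen' : ¬ Submodule.span R (Set.range eK') = ⊤ := fun h => hgen (hrange ▸ h)
      rw [if_neg hgen, if_neg hgen', add_zero]

include hfg hψL in
theorem lift_indep {eK : Fin k → K} (hK : IsAdmissible R K eK)
    (hgen : Submodule.span R (Set.range eK) = ⊤) (w w' : Fin m → L) (hww : g ∘ w = g ∘ w')
    (hadm : IsAdmissible R M (g ∘ w)) :
    ψL (Fin.append (f ∘ eK) w) = ψL (Fin.append (f ∘ eK) w') := by
  classical
  have key : ∀ t : ℕ, t ≤ m → ψL (Fin.append (f ∘ eK) w) =
      ψL (Fin.append (f ∘ eK) (fun j => if (j : ℕ) < t then w' j else w j)) := by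
    intro t
    induction t with
    | zero =>
      intro _
      congr 2
    | succ t ih =>
      intro ht
      rw [ih (by omega)]
      have hg : ∀ t' : ℕ, g ∘ (fun j : Fin m => if (j : ℕ) < t' then w' j else w j) = g ∘ w := by
        intro t'
        funext j
        show g (if (j : ℕ) < t' then w' j else w j) = g (w j)
        split_ifs
        · exact (congrFun hww j).symm
        · rfl
      have h1 := hψL.gb (Fin.append (f ∘ eK) (fun j => if (j : ℕ) < t then w' j else w j))
        (Fin.append (f ∘ eK) (fun j => if (j : ℕ) < t + 1 then w' j else w j))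
        (adm_append f g hfg hK hgen (by rw [hg]; exact hadm))
        (adm_append f g hfg hK hgen (by rw [hg]; exact hadm))
        (Fin.natAdd k ⟨t, by omega⟩) 1 isUnit_one ?_ ?_
      · rw [h1, map_one, one_mul]
      · intro j hja
        induction j using Fin.addCases with
        | left i' => rw [Fin.append_left, Fin.append_left]
        | right j' =>
          rw [Fin.append_right, Fin.append_right]
          have hne : (j' : ℕ) ≠ t := by
            intro hh
            apply hja
            congr 1
            exact Fin.ext hh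
          by_cases h2 : (j' : ℕ) < t
          · rw [if_pos h2, if_pos (by omega)]
          · rw [if_neg h2, if_neg (by omega)]
      · rw [Fin.append_right, Fin.append_right]
        have hvn : ((Fin.natAdd k (⟨t, by omega⟩ : Fin m) : Fin (k + m)) : ℕ) = k + t := rfl
        rw [hvn, sb_append_high, span_f_gen f g hfg hgen]
        apply Submodule.mem_sup_left
        simp only [lt_irrefl, if_false, Nat.lt_succ_self, if_true, one_smul]
        rw [LinearMap.mem_ker, map_sub, sub_eq_zero]
        exact congrFun hww _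
  rw [key m le_rfl]
  congr 2
  funext j
  rw [if_pos j.2]

end Exact


theorem exists_socle' (M : Type u) [AddCommGroup M] [Module R M] (l : ℕ)
    (h : Module.length R M = ((l + 1 : ℕ) : ℕ∞)) :
    ∃ f : M, f ≠ 0 ∧ (∀ r ∈ maximalIdeal R, r • f = 0) ∧
      Module.length R (M ⧸ Submodule.span R ({f} : Set M)) = (l : ℕ∞) := by
  have hfin : IsFiniteLength R M := by
    rw [← Module.length_ne_top_iff, h]; exact ENat.natCast_ne_top _
  have hnt : Nontrivial M := by
    rw [← Module.length_pos_iff (R := R), h]; exact_mod_cast Nat.succ_pos l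
  obtain ⟨hN, hA⟩ := isFiniteLength_iff_isNoetherian_isArtinian.mp hfin
  haveI : IsAtomic (Submodule R M) := isAtomic_of_orderBot_wellFounded_lt wellFounded_lt
  obtain ⟨K, hK⟩ := IsAtomic.exists_atom (Submodule R M)
  obtain ⟨f, hfK, hf0⟩ := Submodule.exists_mem_ne_zero_of_ne_bot hK.1
  have hspan : Submodule.span R {f} = K := by
    have hle : Submodule.span R {f} ≤ K := (Submodule.span_singleton_le_iff_mem f K).mpr hfK
    rcases hK.le_iff.mp hle with h0 | h1
    · exact absurd ((Submodule.span_singleton_eq_bot).mp h0) hf0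
    · exact h1
  refine ⟨f, hf0, ?_, ?_⟩
  · intro r hr
    by_contra hrf
    have hle : Submodule.span R {r • f} ≤ K :=
      (Submodule.span_singleton_le_iff_mem _ K).mpr (K.smul_mem r hfK)
    have heq : Submodule.span R {r • f} = K := by
      rcases hK.le_iff.mp hle with h0 | h1
      · exact absurd ((Submodule.span_singleton_eq_bot).mp h0) hrf
      · exact h1
    have hfm : f ∈ Submodule.span R {r • f} := by rw [heq]; exact hfK
    obtain ⟨s, hs⟩ := Submodule.mem_span_singleton.mp hfm
    have hu : IsUnit (1 - s * r) := by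
      have hsr : s * r ∈ maximalIdeal R := Ideal.mul_mem_left _ s hr
      by_contra hnu
      have h1 : 1 - s * r ∈ maximalIdeal R := (IsLocalRing.mem_maximalIdeal _).mpr hnu
      have h2 : (1 : R) ∈ maximalIdeal R := by
        have := Ideal.add_mem _ h1 hsr
        rwa [sub_add_cancel] at this
      exact (Ideal.ne_top_iff_one _).mp (IsLocalRing.maximalIdeal.isMaximal R).ne_top h2
    have h0 : (1 - s * r) • f = 0 := by
      rw [sub_smul, one_smul, mul_smul, hs, sub_self]
    obtain ⟨v, hv⟩ := hu
    have : f = 0 := by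
      have := congrArg (fun z => (↑v⁻¹ : R) • z) h0
      simp only [smul_zero] at this
      rwa [← hv, smul_smul, Units.inv_mul, one_smul] at this
    exact hf0 this
  · haveI hsimple : IsSimpleModule R K := isSimpleModule_iff_isAtom.mpr hK
    have hadd := Module.length_eq_add_of_exact K.subtype K.mkQ K.injective_subtype
      (Submodule.mkQ_surjective K) (LinearMap.exact_subtype_mkQ K)
    rw [h, Module.length_eq_one] at hadd
    rw [hspan]
    have hne : Module.length R (M ⧸ K) ≠ ⊤ := by
      intro htop
      rw [htop, add_top] at hadd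
      exact ENat.natCast_ne_top _ hadd
    lift Module.length R (M ⧸ K) to ℕ using hne with x hx
    have : l + 1 = 1 + x := by exact_mod_cast hadd
    have : x = l := by omega
    rw [this]

theorem adm_cast {M : Type u} [AddCommGroup M] [Module R M] {n n' : ℕ} (h : n = n')
    (e : Fin n' → M) (he : IsAdmissible R M e) : IsAdmissible R M (e ∘ Fin.cast h) := by
  subst h
  exact he

theorem gen_cast {M : Type u} [AddCommGroup M] [Module R M] {n n' : ℕ} (h : n = n')
    (e : Fin n' → M) (he : Submodule.span R (Set.range e) = ⊤) :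
    Submodule.span R (Set.range (e ∘ Fin.cast h)) = ⊤ := by
  subst h
  exact he

theorem exists_adm_gen (l : ℕ) : ∀ (M : Type u) [AddCommGroup M] [Module R M],
    Module.length R M = (l : ℕ∞) →
    ∃ e : Fin l → M, IsAdmissible R M e ∧ Submodule.span R (Set.range e) = ⊤ := by
  induction l with
  | zero =>
    intro M _ _ h
    have hsub : Subsingleton M := Module.length_eq_zero_iff.mp (by exact_mod_cast h)
    refine ⟨Fin.elim0, fun i => i.elim0, ?_⟩
    rw [eq_top_iff]
    intro y _
    rw [Subsingleton.elim y 0]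
    exact Submodule.zero_mem _
  | succ l ih =>
    intro M _ _ h
    obtain ⟨f, hf0, hfm, hlen⟩ := exists_socle' M l h
    obtain ⟨ebar, hebar, hgen⟩ := ih (M ⧸ Submodule.span R ({f} : Set M)) hlen
    let eK : Fin 1 → ↥(Submodule.span R ({f} : Set M)) :=
      fun _ => ⟨f, Submodule.mem_span_singleton_self f⟩
    have hK : IsAdmissible R ↥(Submodule.span R ({f} : Set M)) eK := by
      intro i r hr
      have : r • eK i = 0 := Subtype.ext (hfm r hr)
      rw [this]
      exact Submodule.zero_mem _
    have hgenK : Submodule.span R (Set.range eK) = ⊤ := by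
      rw [eq_top_iff]
      rintro ⟨x, hx⟩ _
      obtain ⟨c, rfl⟩ := Submodule.mem_span_singleton.mp hx
      have : (⟨c • f, hx⟩ : ↥(Submodule.span R ({f} : Set M))) = c • eK 0 := Subtype.ext rfl
      rw [this]
      exact Submodule.smul_mem _ _ (Submodule.subset_span ⟨0, rfl⟩)
    let w : Fin l → M := fun j =>
      Function.surjInv (Submodule.mkQ_surjective (Submodule.span R ({f} : Set M))) (ebar j)
    have hw : (Submodule.span R ({f} : Set M)).mkQ ∘ w = ebar :=
      funext fun j => Function.surjInv_eq _ _
    have hfg : LinearMap.range (Submodule.span R ({f} : Set M)).subtype =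
        LinearMap.ker (Submodule.span R ({f} : Set M)).mkQ := by
      rw [Submodule.range_subtype, Submodule.ker_mkQ]
    have hE := adm_append _ _ hfg hK hgenK (w := w) (by rw [hw]; exact hebar)
    have hG := gen_append _ _ hfg (eK := eK) hgenK (w := w) (by rw [hw]; exact hgen)
    exact ⟨_, adm_cast (by omega : l + 1 = 1 + l) _ hE, gen_cast (by omega : l + 1 = 1 + l) _ hG⟩

theorem general {K L M : Type u} [AddCommGroup K] [Module R K] [AddCommGroup L] [Module R L]
    [AddCommGroup M] [Module R M] (f : K →ₗ[R] L) (g : L →ₗ[R] M)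
    (hg : Function.Surjective g) (hfg : LinearMap.range f = LinearMap.ker g)
    (k m n : ℕ) (h : k + m = n) (hK : Module.length R K = (k : ℕ∞))
    (hM : Module.length R M = (m : ℕ∞)) (hL : Module.length R L = (n : ℕ∞)) :
    ∃ γ : (DetOfLen R K k ⊗[ResidueField R] DetOfLen R M m) ≃ₗ[ResidueField R] DetOfLen R L n,
      ∀ (eK : Adm R K k) (eM : Adm R M m) (eL : Adm R L n), Groth.Agent.S1838.S eK ≠ 0 →
        (∀ i : Fin k, eL.1 (Fin.cast h (Fin.castAdd m i)) = f (eK.1 i)) →
        (∀ j : Fin m, g (eL.1 (Fin.cast h (Fin.natAdd k j))) = eM.1 j) →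
        γ (Groth.Agent.S1838.S eK ⊗ₜ Groth.Agent.S1838.S eM) = Groth.Agent.S1838.S eL := by
  subst h
  obtain ⟨ψK, hψK⟩ := main (R := R) k K hK
  obtain ⟨ψM, hψM⟩ := main (R := R) m M hM
  obtain ⟨ψL, hψL⟩ := main (R := R) (k + m) L hL
  obtain ⟨eK₀, hK₀, hgenK₀⟩ := exists_adm_gen (R := R) k K hK
  obtain ⟨eM₀, hM₀, hgenM₀⟩ := exists_adm_gen (R := R) m M hM
  have hs : ∀ x, g (Function.surjInv hg x) = x := Function.surjInv_eq hg
  have hgs : ∀ eM : Fin m → M, g ∘ (Function.surjInv hg ∘ eM) = eM :=
    fun eM => funext (fun j => hs _)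
  have hL₀adm : IsAdmissible R L (Fin.append (f ∘ eK₀) (Function.surjInv hg ∘ eM₀)) :=
    adm_append f g hfg hK₀ hgenK₀ (by rw [hgs]; exact hM₀)
  have hL₀gen : Submodule.span R (Set.range (Fin.append (f ∘ eK₀) (Function.surjInv hg ∘ eM₀))) = ⊤ :=
    gen_append f g hfg hgenK₀ (by rw [hgs]; exact hgenM₀)
  have hχ₀ : ψL (Fin.append (f ∘ eK₀) (Function.surjInv hg ∘ eM₀)) ≠ 0 := hψL.g0 _ hL₀adm hL₀gen
  have hK0 : ψK eK₀ ≠ 0 := hψK.g0 _ hK₀ hgenK₀
  have hM0 : ψM eM₀ ≠ 0 := hψM.g0 _ hM₀ hgenM₀
  have hc : ψL (Fin.append (f ∘ eK₀) (Function.surjInv hg ∘ eM₀)) / (ψK eK₀ * ψM eM₀) ≠ 0 :=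
    div_ne_zero hχ₀ (mul_ne_zero hK0 hM0)
  have key : ∀ (eK : Fin k → K), IsAdmissible R K eK → Submodule.span R (Set.range eK) = ⊤ →
      ∀ (eM : Fin m → M), IsAdmissible R M eM → ∀ w : Fin m → L, g ∘ w = eM →
      ψL (Fin.append (f ∘ eK) w) =
        ψL (Fin.append (f ∘ eK₀) (Function.surjInv hg ∘ eM₀)) / (ψK eK₀ * ψM eM₀) *
          (ψK eK * ψM eM) := by
    intro eK hKadm hgen eM hMadm w hw
    have h1 := lift_indep f g hfg ψL (good_rel3 hψL) hKadm hgen w (Function.surjInv hg ∘ eM)
      (by rw [hw, hgs]) (by rw [hw]; exact hMadm)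
    have h2 := unique hM ψM hψM _
      (rel3_phiM f g hfg ψL (good_rel3 hψL) hKadm hgen (Function.surjInv hg) hs) eM₀ hM₀ eM hMadm
    have h3 := unique hK ψK hψK _
      (rel3_chiK f g hfg ψL (good_rel3 hψL) (w := Function.surjInv hg ∘ eM₀)
        (by rw [hgs]; exact hM₀)) eK₀ hK₀ eK hKadm
    simp only [if_pos hgen, if_pos hgenK₀] at h2 h3
    rw [h1]
    field_simp
    linear_combination (ψK eK₀) * h2 + (ψM eM) * h3
  let TK : DetOfLen R K k ≃ₗ[ResidueField R] ResidueField R :=
    LinearEquiv.ofBijective (toDet ψK (good_rel3 hψK))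
      (bijective_of_rank_le_one (Groth.Agent.S1838.rank_le_one' hK) _
        (Groth.Agent.S1838.S (⟨eK₀, hK₀⟩ : Adm R K k))
        (ne_of_eq_of_ne (toDet_S ψK (good_rel3 hψK) ⟨eK₀, hK₀⟩) hK0))
  let TM : DetOfLen R M m ≃ₗ[ResidueField R] ResidueField R :=
    LinearEquiv.ofBijective (toDet ψM (good_rel3 hψM))
      (bijective_of_rank_le_one (Groth.Agent.S1838.rank_le_one' hM) _
        (Groth.Agent.S1838.S (⟨eM₀, hM₀⟩ : Adm R M m))
        (ne_of_eq_of_ne (toDet_S ψM (good_rel3 hψM) ⟨eM₀, hM₀⟩) hM0))
  let TL : DetOfLen R L (k + m) ≃ₗ[ResidueField R] ResidueField R :=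
    LinearEquiv.ofBijective (toDet ψL (good_rel3 hψL))
      (bijective_of_rank_le_one (Groth.Agent.S1838.rank_le_one' hL) _
        (Groth.Agent.S1838.S (⟨_, hL₀adm⟩ : Adm R L (k + m)))
        (ne_of_eq_of_ne (toDet_S ψL (good_rel3 hψL) ⟨_, hL₀adm⟩) hχ₀))
  refine ⟨(TensorProduct.congr TK TM) ≪≫ₗ (TensorProduct.lid (ResidueField R) (ResidueField R))
    ≪≫ₗ (LinearEquiv.smulOfNeZero (ResidueField R) (ResidueField R) _ hc) ≪≫ₗ TL.symm, ?_⟩
  intro eK eM eL hne h1 h2
  have hgenK : Submodule.span R (Set.range eK.1) = ⊤ := by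
    by_contra hng
    apply hne
    have : ∃ a : Fin k, eK.1 a ∈ spanBefore R K eK.1 a := by
      by_contra hno
      exact hng (Groth.Agent.S1838.span_eq_top_of_nondeg hK eK.1 (not_exists.mp hno))
    obtain ⟨a, ha⟩ := this
    exact Groth.Agent.S1838.S_rel_a eK a ha
  have heL : eL.1 = Fin.append (f ∘ eK.1) (fun j => eL.1 (Fin.natAdd k j)) := by
    funext i
    induction i using Fin.addCases with
    | left i' => rw [Fin.append_left]; exact h1 i'
    | right j => rw [Fin.append_right]
  have hval := key eK.1 eK.2 hgenK eM.1 eM.2 (fun j => eL.1 (Fin.natAdd k j)) (funext h2)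
  simp only [LinearEquiv.trans_apply, TensorProduct.congr_tmul, TensorProduct.lid_tmul,
    LinearEquiv.smulOfNeZero_apply]
  rw [LinearEquiv.symm_apply_eq]
  show _ = toDet ψL (good_rel3 hψL) (Groth.Agent.S1838.S eL)
  rw [toDet_S, heL, hval]
  show _ • (toDet ψK (good_rel3 hψK) (Groth.Agent.S1838.S eK) •
    toDet ψM (good_rel3 hψM) (Groth.Agent.S1838.S eM)) = _
  rw [toDet_S, toDet_S, smul_eq_mul, smul_eq_mul]


/-- Existence and the defining rule; the compatibilities (1)–(3) of the source are not restated: let 0 →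
K → L → M → 0 be a short exact sequence of finite length modules over a local ring with residue
field κ. There is a κ-linear isomorphism γ : det_κ(K) ⊗ det_κ(M) → det_κ(L) such that whenever (e_i)
is an admissible tuple of K with nonzero symbol, (f̄_j) an admissible tuple of M, and (g) the
admissible tuple of L consisting of the images of the e_i followed by lifts of the f̄_j, one has
γ([e] ⊗ [f̄]) = [g]. -/
theorem result (R : Type u) [CommRing R] [IsLocalRing R] (K L M : Type u) [AddCommGroup K] [Module R K] [AddCommGroup L] [Module R L] [AddCommGroup M] [Module R M] (hK : IsFiniteLength R K) (hM : IsFiniteLength R M) (f : K →ₗ[R] L) (g : L →ₗ[R] M) (hf : Function.Injective f) (hg : Function.Surjective g) (hfg : LinearMap.range f = LinearMap.ker g) (hlen : (Module.length R K).toNat + (Module.length R M).toNat = (Module.length R L).toNat) : ∃ γ : (CycDet.Det R K ⊗[IsLocalRing.ResidueField R] CycDet.Det R M) ≃ₗ[IsLocalRing.ResidueField R] CycDet.Det R L, ∀ (eK : CycDet.Adm R K (Module.length R K).toNat) (eM : CycDet.Adm R M (Module.length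 R M).toNat) (eL : CycDet.Adm R L (Module.length R L).toNat), CycDet.symbol R K eK ≠ 0 → (∀ i : Fin (Module.length R K).toNat, eL.1 (Fin.cast hlen (Fin.castAdd (Module.length R M).toNat i)) = f (eK.1 i)) → (∀ j : Fin (Module.length R M).toNat, g (eL.1 (Fin.cast hlen (Fin.natAdd (Module.length R K).toNat j))) = eM.1 j) → γ (CycDet.symbol R K eK ⊗ₜ CycDet.symbol R M eM) = CycDet.symbol R L eL := by
  have hKl : Module.length R K = ((Module.length R K).toNat : ℕ∞) :=
    (ENat.natCast_toNat (Module.length_ne_top_iff.mpr hK)).symm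
  have hMl : Module.length R M = ((Module.length R M).toNat : ℕ∞) :=
    (ENat.natCast_toNat (Module.length_ne_top_iff.mpr hM)).symm
  have hLl : Module.length R L = ((Module.length R L).toNat : ℕ∞) := by
    have hadd := Module.length_eq_add_of_exact f g hf hg (LinearMap.exact_iff.mpr hfg.symm)
    have hne : Module.length R L ≠ ⊤ := by
      rw [hadd]
      exact WithTop.add_ne_top.mpr ⟨Module.length_ne_top_iff.mpr hK, Module.length_ne_top_iff.mpr hM⟩
    exact (ENat.natCast_toNat hne).symm
  exact general f g hg hfg _ _ _ hlen hKl hMl hLl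

end Groth.Agent.S1854
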