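import Groth.Statements.S18544
import Mathlib.Tactic
import Mathlib.Algebra.MvPolynomial.Funext
import Mathlib.LinearAlgebra.Matrix.Transvection
import Mathlib.Data.Matrix.PEquiv
import Mathlib.FieldTheory.IsAlgClosed.Basic

set_option autoImplicit false
universe u
open CAlg

namespace Groth.Agent.S18544

open Matrix Polynomial in
/-- A polynomial over an algebraically closed field without roots is constant. -/
theorem const_of_no_roots {F : Type u} [Field F] [IsAlgClosed F] (q : F[X])
    (h : ∀ c : F, q.eval c ≠ 0) : ∀ c : F, q.eval c = q.eval 0 := by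
  have hdeg : q.degree = 0 := by
    by_contra hne
    obtain ⟨c, hc⟩ := IsAlgClosed.exists_root q hne
    exact h c hc
  intro c
  rw [Polynomial.eq_C_of_degree_eq_zero hdeg]
  simp

open Matrix Polynomial in
/-- A multiplicative polynomial function on an algebraically closed field is a power map. -/
theorem pow_of_multiplicative {F : Type u} [Field F] [IsAlgClosed F] (q : F[X])
    (h1 : q.eval 1 = 1) (hm : ∀ s t : F, q.eval (s * t) = q.eval s * q.eval t) :
    ∃ m : ℕ, ∀ t : F, q.eval t = t ^ m := by
  have hq0 : q ≠ 0 := by
    rintro rfl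
    simp at h1
  obtain ⟨q', hq', hndvd⟩ := Polynomial.exists_eq_pow_rootMultiplicity_mul_and_not_dvd q hq0 0
  simp only [map_zero, sub_zero] at hq' hndvd
  have hq'0 : q'.eval 0 ≠ 0 := by
    intro h0
    apply hndvd
    rw [Polynomial.X_dvd_iff, Polynomial.coeff_zero_eq_eval_zero]
    exact h0
  have hnoroot : ∀ c : F, q'.eval c ≠ 0 := by
    intro c hc
    by_cases hc0 : c = 0
    · subst hc0; exact hq'0 hc
    · have : q.eval c = 0 := by
        rw [hq', Polynomial.eval_mul, hc, mul_zero]
      have h2 := hm c c⁻¹
      rw [mul_inv_cancel₀ hc0, h1, this, zero_mul] at h2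
      exact one_ne_zero h2
  have hconst := const_of_no_roots q' hnoroot
  refine ⟨q.rootMultiplicity 0, fun t => ?_⟩
  have hb : q'.eval 0 = 1 := by
    have := h1
    rw [hq', Polynomial.eval_mul, Polynomial.eval_pow, Polynomial.eval_X, one_pow, one_mul,
      hconst 1] at this
    exact this
  conv_lhs => rw [hq']
  rw [Polynomial.eval_mul, Polynomial.eval_pow, Polynomial.eval_X, hconst t, hb, mul_one]


/-- Let F be an algebraically closed field of characteristic zero, n a natural number, and N a nonzero
polynomial over F in the n² matrix entries whose evaluation on n × n matrices is multiplicative,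
N(xy) = N(x)·N(y) for all x, y (a norm form on the matrix algebra M_n(F) over F). Then N is a
natural power of the determinant: for some m, N(x) = det(x)^m for every matrix x. The published
statement concerns norm forms of any central simple algebra over a subfield; this row is the case of
the full matrix algebra over an algebraically closed field, which is the case its proof treats. -/
theorem result (F : Type u) [Field F] [IsAlgClosed F]
    [CharZero F] (n : ℕ) (N : MvPolynomial (Fin n × Fin n) F) (hN : N ≠ 0)
    (hmul : ∀ x y : Matrix (Fin n) (Fin n) F,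
      MvPolynomial.eval (fun ij : Fin n × Fin n => (x * y) ij.1 ij.2) N =
        MvPolynomial.eval (fun ij : Fin n × Fin n => x ij.1 ij.2) N * MvPolynomial.eval (fun ij : Fin n × Fin n => y ij.1 ij.2) N) :
    ∃ m : ℕ, ∀ x : Matrix (Fin n) (Fin n) F,
      MvPolynomial.eval (fun ij : Fin n × Fin n => x ij.1 ij.2) N = x.det ^ m := by
  classical
  -- notation
  set ev : Matrix (Fin n) (Fin n) F → F :=
    fun x => MvPolynomial.eval (fun ij : Fin n × Fin n => x ij.1 ij.2) N with hev
  have hmul' : ∀ x y, ev (x * y) = ev x * ev y := hmul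
  -- every evaluation point is a matrix
  have hpt : ∀ f : Fin n × Fin n → F,
      MvPolynomial.eval f N = ev (Matrix.of fun i j => f (i, j)) := by
    intro f
    rfl
  -- ev 1 = 1
  have h1 : ev 1 = 1 := by
    have h := hmul' 1 1
    rw [mul_one] at h
    have h' : ev 1 * (ev 1 - 1) = 0 := by rw [mul_sub, ← h]; ring
    rcases mul_eq_zero.mp h' with h0 | h0
    · exfalso
      apply hN
      apply MvPolynomial.funext
      intro f
      rw [hpt f, map_zero]
      have := hmul' (Matrix.of fun i j => f (i, j)) 1
      rw [mul_one] at this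
      rw [this, h0, mul_zero]
    · exact sub_eq_zero.mp h0
  -- polynomial curve of matrices
  have hcurve : ∀ P : Matrix (Fin n) (Fin n) (Polynomial F), ∀ c : F,
      (MvPolynomial.aeval (fun ij : Fin n × Fin n => P ij.1 ij.2) N).eval c =
        ev (P.map (Polynomial.eval c)) := by
    intro P c
    rw [← Polynomial.coe_evalRingHom, MvPolynomial.aeval_def, MvPolynomial.eval₂_comp_left]
    have : (Polynomial.evalRingHom c).comp (algebraMap F (Polynomial F)) = RingHom.id F := by
      ext a
      simp
    rw [this]
    rfl
  -- transvections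
  have htrans : ∀ t : Matrix.TransvectionStruct (Fin n) F, ev t.toMatrix = 1 := by
    rintro ⟨i, j, hij, c⟩
    set q := MvPolynomial.aeval
      (fun ab : Fin n × Fin n => (Matrix.transvection i j (Polynomial.X : Polynomial F)) ab.1 ab.2) N
    have hq : ∀ c : F, q.eval c = ev (Matrix.transvection i j c) := by
      intro c
      rw [hcurve]
      congr 1
      ext a b
      simp [Matrix.transvection, Matrix.single, Matrix.one_apply]
      split_ifs <;> simp
    have hne : ∀ c : F, q.eval c ≠ 0 := by
      intro c hc
      have h2 := hmul' (Matrix.transvection i j c) (Matrix.transvection i j (-c))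
      rw [Matrix.transvection_mul_transvection_same i j hij, add_neg_cancel, Matrix.transvection_zero,
        h1, ← hq c, hc, zero_mul] at h2
      exact one_ne_zero h2
    have := const_of_no_roots q hne c
    rw [hq c, hq 0, Matrix.transvection_zero, h1] at this
    exact this
  -- the diagonal monoid hom
  let φ : (Fin n → F) →* F :=
    { toFun := fun d => ev (Matrix.diagonal d)
      map_one' := by
        have : (Matrix.diagonal (1 : Fin n → F)) = 1 := Matrix.diagonal_one
        rw [this]; exact h1
      map_mul' := fun d d' => by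
        rw [← hmul', Matrix.diagonal_mul_diagonal]
        rfl }
  have hφ : ∀ d, φ d = ev (Matrix.diagonal d) := fun _ => rfl
  -- permutation invariance
  have hperm : ∀ (σ : Equiv.Perm (Fin n)) (M : Matrix (Fin n) (Fin n) F),
      ev (M.submatrix σ σ) = ev M := by
    intro σ M
    have hP : (σ.toPEquiv.toMatrix : Matrix (Fin n) (Fin n) F) * M * σ.symm.toPEquiv.toMatrix =
        M.submatrix σ σ := by
      rw [PEquiv.toMatrix_toPEquiv_mul, PEquiv.mul_toMatrix_toPEquiv, Matrix.submatrix_submatrix]
      rfl
    have hPP : (σ.toPEquiv.toMatrix : Matrix (Fin n) (Fin n) F) * σ.symm.toPEquiv.toMatrix = 1 := by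
      rw [PEquiv.toMatrix_toPEquiv_mul, PEquiv.toMatrix_toPEquiv_eq, Matrix.submatrix_submatrix]
      ext a b
      simp [Matrix.one_apply]
    rw [← hP, hmul', hmul', mul_right_comm, ← hmul', hPP, h1, one_mul]
  -- each coordinate
  have hcoord : ∀ i : Fin n, ∃ m : ℕ, ∀ t : F, φ (Pi.mulSingle i t) = t ^ m := by
    intro i
    set q := MvPolynomial.aeval
      (fun ab : Fin n × Fin n =>
        (Matrix.diagonal (Pi.mulSingle i (Polynomial.X : Polynomial F))) ab.1 ab.2) N
    have hq : ∀ t : F, q.eval t = φ (Pi.mulSingle i t) := by
      intro t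
      rw [hcurve, hφ]
      congr 1
      ext a b
      by_cases hab : a = b
      · subst hab
        by_cases hai : a = i
        · subst hai; simp
        · simp [Pi.mulSingle_apply, hai]
      · simp [Matrix.diagonal_apply, hab]
    have hq1 : q.eval 1 = 1 := by rw [hq, Pi.mulSingle_one, map_one]
    have hqm : ∀ s t : F, q.eval (s * t) = q.eval s * q.eval t := by
      intro s t
      rw [hq, hq, hq, ← map_mul, ← Pi.mulSingle_mul]
    obtain ⟨m, hm⟩ := pow_of_multiplicative q hq1 hqm
    exact ⟨m, fun t => by rw [← hq]; exact hm t⟩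
  -- common exponent
  have hcommon : ∃ m : ℕ, ∀ (i : Fin n) (t : F), φ (Pi.mulSingle i t) = t ^ m := by
    rcases Nat.eq_zero_or_pos n with hn | hn
    · subst hn
      exact ⟨0, fun i => i.elim0⟩
    · obtain ⟨m, hm⟩ := hcoord ⟨0, hn⟩
      refine ⟨m, fun i t => ?_⟩
      rw [← hm t, hφ, hφ, ← hperm (Equiv.swap i ⟨0, hn⟩) (Matrix.diagonal (Pi.mulSingle i t)),
        Matrix.submatrix_diagonal_equiv]
      congr 2
      ext a
      simp only [Function.comp_apply, Pi.mulSingle_apply]
      by_cases ha : a = ⟨0, hn⟩
      · subst ha; simp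
      · by_cases hai : a = i
        · subst hai
          rw [Equiv.swap_apply_left]
          simp [ha, Ne.symm ha]
        · rw [Equiv.swap_apply_of_ne_of_ne hai ha]
          simp [ha, hai]
  obtain ⟨m, hm⟩ := hcommon
  refine ⟨m, ?_⟩
  have hdiag : ∀ D : Fin n → F, ev (Matrix.diagonal D) = (Matrix.diagonal D).det ^ m := by
    intro D
    rw [← hφ, ← Finset.univ_prod_mulSingle D, map_prod, Matrix.det_diagonal, ← Finset.prod_pow]
    refine Finset.prod_congr rfl fun i _ => ?_
    rw [hm]
    congr 1
    rw [Finset.univ_prod_mulSingle D]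
  -- invertible matrices
  have hinv : ∀ x : Matrix (Fin n) (Fin n) F, x.det ≠ 0 → ev x = x.det ^ m := by
    intro x hx
    refine Matrix.diagonal_transvection_induction_of_det_ne_zero (fun x => ev x = x.det ^ m) x hx
      (fun D _ => hdiag D) (fun t => ?_) (fun A B _ _ hA hB => ?_)
    · rw [htrans t, Matrix.TransvectionStruct.det, one_pow]
    · show ev (A * B) = (A * B).det ^ m
      have hA' : ev A = A.det ^ m := hA
      have hB' : ev B = B.det ^ m := hB
      rw [hmul', hA', hB', Matrix.det_mul, mul_pow]
  -- polynomial identity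
  set detP : MvPolynomial (Fin n × Fin n) F :=
    Matrix.det (Matrix.of fun i j : Fin n => (MvPolynomial.X (i, j) : MvPolynomial (Fin n × Fin n) F))
    with hdetP
  have hdet_eval : ∀ f : Fin n × Fin n → F,
      MvPolynomial.eval f detP = (Matrix.of fun i j => f (i, j)).det := by
    intro f
    rw [hdetP, RingHom.map_det]
    congr 1
    ext a b
    simp
  have hdetP0 : detP ≠ 0 := by
    intro h0
    have := hdet_eval (fun ij => if ij.1 = ij.2 then 1 else 0)
    rw [h0, map_zero] at this
    have h2 : (Matrix.of fun i j : Fin n => (if i = j then (1 : F) else 0)) = 1 := by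
      ext a b; simp [Matrix.one_apply]
    rw [h2, Matrix.det_one] at this
    exact zero_ne_one this
  have hQ : (N - detP ^ m) * detP = 0 := by
    apply MvPolynomial.funext
    intro f
    rw [map_mul, map_sub, map_pow, map_zero, hdet_eval, hpt]
    by_cases hd : (Matrix.of fun i j => f (i, j)).det = 0
    · rw [hd, mul_zero]
    · rw [hinv _ hd, sub_self, zero_mul]
  have hN' : N = detP ^ m := by
    rcases mul_eq_zero.mp hQ with h | h
    · exact sub_eq_zero.mp h
    · exact absurd h hdetP0
  intro x
  have := hdet_eval (fun ij => x ij.1 ij.2)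
  rw [hN', map_pow, this]
  rfl

end Groth.Agent.S18544
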