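import Groth.Statements.S18545
import Mathlib.Tactic
import Mathlib.LinearAlgebra.BilinearForm.Orthogonal

set_option autoImplicit false
universe u
open AbVar

namespace Groth.Agent.S18545

/-- A step in the proof of Tate's isogeny result over finite fields, in linear-algebra form. Let K be a
field and V a K-vector space of finite dimension 2g carrying a nondegenerate alternating bilinear
form e. Let F be a K-subalgebra of End(V) which is isomorphic as a K-algebra to a finite product K ×
⋯ × K and which is spanned over K by a set S of similitudes of e (for each s in S there is a nonzero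
scalar c with e(s x, s y) = c·e(x, y) for all x, y). Let D be a set of endomorphisms of V such that
every F-stable isotropic subspace W of dimension g (a maximal isotropic subspace) is D-stable. Then
every F-stable isotropic subspace of V is D-stable. (In the application V is the rational ℓ-adic
Tate module of an abelian variety over a finite field with the Riemann form of a polarisation, F the
algebra generated by the Galois group, split for the chosen ℓ, and D the commutant of the image of
the endomorphism algebra; the hypothesis on maximal isotropic subspaces is the step obtained from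
the finiteness of isomorphism classes.) -/
theorem result (K : Type u) [Field K]
    (V : Type u) [AddCommGroup V] [Module K V] [FiniteDimensional K V] (g : ℕ) (hV : Module.finrank K V = 2 * g)
    (e : LinearMap.BilinForm K V) (he : e.IsAlt) (hnd : e.Nondegenerate)
    (F : Subalgebra K (Module.End K V)) (r : ℕ) (hF : Nonempty (F ≃ₐ[K] (Fin r → K)))
    (S : Set (Module.End K V)) (hS : Submodule.span K S = Subalgebra.toSubmodule F)
    (hsim : ∀ s ∈ S, ∃ c : K, c ≠ 0 ∧ ∀ x y : V, e (s x) (s y) = c * e x y)
    (D : Set (Module.End K V))
    (hmax : ∀ W : Submodule K V, (∀ f ∈ F, ∀ w ∈ W, f w ∈ W) → (∀ x ∈ W, ∀ y ∈ W, e x y = 0) →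
      Module.finrank K W = g → ∀ d ∈ D, ∀ w ∈ W, d w ∈ W)
    (W : Submodule K V) (hWF : ∀ f ∈ F, ∀ w ∈ W, f w ∈ W) (hWiso : ∀ x ∈ W, ∀ y ∈ W, e x y = 0) :
    ∀ d ∈ D, ∀ w ∈ W, d w ∈ W := by
  classical
  obtain ⟨φ⟩ := hF
  -- isotropic ⇒ finrank ≤ g
  have hiso_le : ∀ W : Submodule K V, (∀ x ∈ W, ∀ y ∈ W, e x y = 0) →
      Module.finrank K W ≤ g := by
    intro W hW
    have hle : W ≤ e.orthogonal W := fun x hx n hn => hW n hn x hx
    have h1 := Submodule.finrank_mono hle
    rw [LinearMap.BilinForm.finrank_orthogonal hnd, hV] at h1
    have h2 : Module.finrank K W ≤ Module.finrank K V := Submodule.finrank_le W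
    omega
  -- similitudes are injective
  have hsinj : ∀ s ∈ S, Function.Injective s := by
    intro s hs
    obtain ⟨c, hc, hsc⟩ := hsim s hs
    rw [injective_iff_map_eq_zero]
    intro x hx
    apply hnd.1 x
    intro y
    have := hsc x y
    rw [hx, map_zero, LinearMap.zero_apply] at this
    exact (mul_eq_zero.mp this.symm).resolve_left hc
  -- orthogonal of an F-stable subspace is F-stable
  have horth : ∀ W : Submodule K V, (∀ f ∈ F, ∀ w ∈ W, f w ∈ W) →
      ∀ f ∈ F, ∀ x ∈ e.orthogonal W, f x ∈ e.orthogonal W := by
    intro W hW
    have key : ∀ f ∈ Submodule.span K S, ∀ x ∈ e.orthogonal W, f x ∈ e.orthogonal W := by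
      intro f hf
      induction hf using Submodule.span_induction with
      | mem s hs =>
        intro x hx
        obtain ⟨c, hc, hsc⟩ := hsim s hs
        have hsF : s ∈ F := by
          have : s ∈ Submodule.span K S := Submodule.subset_span hs
          rw [hS] at this
          exact this
        let sW : W →ₗ[K] W := s.restrict (fun w hw => hW s hsF w hw)
        have hinj : Function.Injective sW := by
          intro a b hab
          apply Subtype.ext
          apply hsinj s hs
          exact congrArg Subtype.val hab
        have hsurj : Function.Surjective sW := LinearMap.surjective_of_injective hinj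
        intro n hn
        obtain ⟨⟨n', hn'⟩, hnn'⟩ := hsurj ⟨n, hn⟩
        have hsn : s n' = n := congrArg Subtype.val hnn'
        rw [← hsn, hsc, hx n' hn', mul_zero]
      | zero =>
        intro x _
        simp
      | add f g _ _ hf hg =>
        intro x hx
        rw [LinearMap.add_apply]
        exact Submodule.add_mem _ (hf x hx) (hg x hx)
      | smul a f _ hf =>
        intro x hx
        rw [LinearMap.smul_apply]
        exact Submodule.smul_mem _ a (hf x hx)
    intro f hf
    apply key
    rw [hS]
    exact hf
  -- idempotents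
  let ε : Fin r → Module.End K V := fun i => ((φ.symm (Pi.single i 1) : F) : Module.End K V)
  have hεF : ∀ i, ε i ∈ F := fun i => (φ.symm (Pi.single i 1)).2
  have hεsum : ∑ i, ε i = 1 := by
    have h1 : (∑ i, φ.symm (Pi.single i (1 : K)) : F) = 1 := by
      rw [← map_sum]
      have : (∑ i, Pi.single i (1 : K) : Fin r → K) = 1 := by
        have := Finset.univ_sum_single (1 : Fin r → K)
        simpa using this
      rw [this, map_one]
    have h2 := congrArg (Subalgebra.val F) h1
    rw [map_sum, map_one] at h2
    exact h2
  have hεeig : ∀ (f : Module.End K V) (hf : f ∈ F) (i : Fin r),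
      f * ε i = (φ ⟨f, hf⟩ i) • ε i := by
    intro f hf i
    have h1 : (⟨f, hf⟩ : F) * φ.symm (Pi.single i 1) =
        (φ ⟨f, hf⟩ i) • φ.symm (Pi.single i 1) := by
      apply φ.injective
      rw [map_mul, map_smul, AlgEquiv.apply_symm_apply]
      ext j
      by_cases hji : j = i
      · subst hji; simp
      · simp [Pi.single_apply, hji]
    have h2 := congrArg (Subalgebra.val F) h1
    rw [map_mul, map_smul] at h2
    exact h2
  have heig : ∀ (i : Fin r) (x : V), ∀ f ∈ F, ∃ a : K, f (ε i x) = a • ε i x := by
    intro i x f hf
    refine ⟨φ ⟨f, hf⟩ i, ?_⟩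
    have := congrArg (fun T : Module.End K V => T x) (hεeig f hf i)
    simpa using this
  -- an F-stable subspace is spanned by its eigenvectors
  have hspan : ∀ M M' : Submodule K V, (∀ f ∈ F, ∀ w ∈ M, f w ∈ M) →
      (∀ u ∈ M, (∀ f ∈ F, ∃ a : K, f u = a • u) → u ∈ M') → M ≤ M' := by
    intro M M' hM h x hx
    have hx' : x = ∑ i, ε i x := by
      rw [← LinearMap.sum_apply, hεsum]
      rfl
    rw [hx']
    exact Submodule.sum_mem _ fun i _ => h _ (hM _ (hεF i) x hx) (heig i x)
  -- adding an eigenvector of the orthogonal
  have hext : ∀ (W : Submodule K V) (u : V), (∀ f ∈ F, ∀ w ∈ W, f w ∈ W) →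
      (∀ x ∈ W, ∀ y ∈ W, e x y = 0) → u ∈ e.orthogonal W → (∀ f ∈ F, ∃ a : K, f u = a • u) →
      (∀ f ∈ F, ∀ w ∈ W ⊔ K ∙ u, f w ∈ W ⊔ K ∙ u) ∧
        (∀ x ∈ W ⊔ K ∙ u, ∀ y ∈ W ⊔ K ∙ u, e x y = 0) := by
    intro W u hWF hWiso hu hueig
    constructor
    · intro f hf y hy
      obtain ⟨w, hw, z, hz, rfl⟩ := Submodule.mem_sup.mp hy
      obtain ⟨a, rfl⟩ := Submodule.mem_span_singleton.mp hz
      obtain ⟨b, hb⟩ := hueig f hf
      rw [map_add, map_smul, hb]
      exact Submodule.add_mem _ (Submodule.mem_sup_left (hWF f hf w hw))
        (Submodule.mem_sup_right (Submodule.smul_mem _ _ (Submodule.smul_mem _ _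
          (Submodule.mem_span_singleton_self u))))
    · intro x hx y hy
      obtain ⟨w, hw, z, hz, rfl⟩ := Submodule.mem_sup.mp hx
      obtain ⟨a, rfl⟩ := Submodule.mem_span_singleton.mp hz
      obtain ⟨w', hw', z', hz', rfl⟩ := Submodule.mem_sup.mp hy
      obtain ⟨b, rfl⟩ := Submodule.mem_span_singleton.mp hz'
      have h1 : e w u = 0 := hu w hw
      have h2 : e u w' = 0 := by
        rw [← he.neg_eq, hu w' hw', neg_zero]
      have h3 : e u u = 0 := he.self_eq_zero u
      simp only [map_add, map_smul, LinearMap.add_apply, LinearMap.smul_apply, smul_eq_mul,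
        hWiso w hw w' hw', h1, h2, h3]
      ring
  -- main induction
  have main : ∀ k : ℕ, ∀ W : Submodule K V, (∀ f ∈ F, ∀ w ∈ W, f w ∈ W) →
      (∀ x ∈ W, ∀ y ∈ W, e x y = 0) → g - Module.finrank K W = k →
      ∀ d ∈ D, ∀ w ∈ W, d w ∈ W := by
    intro k
    induction k using Nat.strong_induction_on with
    | _ k ih =>
      intro W hWF hWiso hk
      have hWle := hiso_le W hWiso
      rcases Nat.eq_zero_or_pos k with hk0 | hkpos
      · exact hmax W hWF hWiso (by omega)
      · have hlt : Module.finrank K W < g := by omega
        have hPF := horth W hWF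
        have hPdim : Module.finrank K (e.orthogonal W) = 2 * g - Module.finrank K W := by
          rw [LinearMap.BilinForm.finrank_orthogonal hnd, hV]
        -- D-stability of bigger subspaces
        have hbig : ∀ u ∈ e.orthogonal W, (∀ f ∈ F, ∃ a : K, f u = a • u) → u ∉ W →
            ∀ d ∈ D, ∀ w ∈ W ⊔ K ∙ u, d w ∈ W ⊔ K ∙ u := by
          intro u huP hueig huW
          obtain ⟨h1, h2⟩ := hext W u hWF hWiso huP hueig
          have hlt' : W < W ⊔ K ∙ u := by
            refine lt_of_le_of_ne le_sup_left ?_
            intro heq
            apply huW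
            rw [heq]
            exact Submodule.mem_sup_right (Submodule.mem_span_singleton_self u)
          have h3 := Submodule.finrank_lt_finrank_of_lt hlt'
          have hle' := hiso_le _ h2
          exact ih (g - Module.finrank K ↥(W ⊔ K ∙ u)) (by omega) _ h1 h2 rfl
        -- first eigenvector
        have hex1 : ∃ u ∈ e.orthogonal W, (∀ f ∈ F, ∃ a : K, f u = a • u) ∧ u ∉ W := by
          by_contra hcon
          push Not at hcon
          have hle : e.orthogonal W ≤ W := hspan _ W hPF (fun u hu he' => hcon u hu he')
          have := Submodule.finrank_mono hle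
          omega
        obtain ⟨u, huP, hueig, huW⟩ := hex1
        have hex2 : ∃ u' ∈ e.orthogonal W, (∀ f ∈ F, ∃ a : K, f u' = a • u') ∧
            u' ∉ W ⊔ K ∙ u := by
          by_contra hcon
          push Not at hcon
          have hle : e.orthogonal W ≤ W ⊔ K ∙ u :=
            hspan _ _ hPF (fun u hu he' => hcon u hu he')
          have h1 := Submodule.finrank_mono hle
          have h2 : Module.finrank K ↥(W ⊔ K ∙ u) ≤ Module.finrank K W + 1 := by
            have h3 := Submodule.finrank_add_le_finrank_add_finrank W (K ∙ u)
            have h4 : Module.finrank K (K ∙ u) ≤ 1 := by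
              have := finrank_span_le_card (R := K) ({u} : Set V)
              simpa using this
            omega
          omega
        obtain ⟨u', hu'P, hu'eig, hu'W1⟩ := hex2
        have hu'W : u' ∉ W := fun h => hu'W1 (Submodule.mem_sup_left h)
        intro d hd w hw
        have hv1 := hbig u huP hueig huW d hd w (Submodule.mem_sup_left hw)
        have hv2 := hbig u' hu'P hu'eig hu'W d hd w (Submodule.mem_sup_left hw)
        obtain ⟨w1, hw1, z1, hz1, h1⟩ := Submodule.mem_sup.mp hv1
        obtain ⟨a, rfl⟩ := Submodule.mem_span_singleton.mp hz1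
        obtain ⟨w2, hw2, z2, hz2, h2⟩ := Submodule.mem_sup.mp hv2
        obtain ⟨b, rfl⟩ := Submodule.mem_span_singleton.mp hz2
        by_cases hb : b = 0
        · rw [← h2, hb, zero_smul, add_zero]
          exact hw2
        · exfalso
          apply hu'W1
          have h12 : w1 + a • u = w2 + b • u' := h1.trans h2.symm
          have h3 : b • u' = w1 - w2 + a • u := by
            calc b • u' = (w2 + b • u') - w2 := by abel
              _ = (w1 + a • u) - w2 := by rw [h12]
              _ = w1 - w2 + a • u := by abel
          have h4 : u' = b⁻¹ • (w1 - w2 + a • u) := by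
            rw [← h3, smul_smul, inv_mul_cancel₀ hb, one_smul]
          rw [h4]
          apply Submodule.smul_mem
          apply Submodule.add_mem
          · exact Submodule.mem_sup_left (Submodule.sub_mem _ hw1 hw2)
          · exact Submodule.mem_sup_right
              (Submodule.smul_mem _ _ (Submodule.mem_span_singleton_self u))
  exact main _ W hWF hWiso rfl

end Groth.Agent.S18545
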