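import Groth.Statements.S18546
import Mathlib
import Mathlib.LinearAlgebra.TensorProduct.Basis

set_option autoImplicit false
open scoped TensorProduct
universe u v
open GalCoh

namespace Groth.Agent.S18546

/-- Let G be a group acting linearly on a vector space V of dimension 2 over the field 𝔽₂ with two
elements. Then the short exact sequence of G-modules 0 → V → S²V → Λ²V → 0 (v ↦ v·v, x·y ↦ x ∧ y)
splits G-equivariantly. Here, for a vector space V over the field with two elements carrying a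
linear action ρ of a group G, write N_a ⊆ V ⊗ V for the span of the tensors v ⊗ v and N_s ⊆ N_a for
the span of the tensors x ⊗ y + y ⊗ x, so that S²V = (V ⊗ V)/N_s, Λ²V = (V ⊗ V)/N_a and the
surjection S²V → Λ²V, x·y ↦ x ∧ y, is G-equivariant for the diagonal action; a G-equivariant linear
section of this surjection is the same thing as a G-stable subspace W of V ⊗ V with W ∩ N_a = N_s
and W + N_a = V ⊗ V, which is how the splitting is stated. (The source has the absolute Galois group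
of a field acting continuously; any group is allowed here.) -/
theorem result (G : Type u) [Group G] (V : Type v)
    [AddCommGroup V] [Module (ZMod 2) V] (hV : Module.finrank (ZMod 2) V = 2)
    (ρ : Representation (ZMod 2) G V) :
    ∃ W : Submodule (ZMod 2) (V ⊗[ZMod 2] V),
      (∀ g : G, ∀ w ∈ W, ρ.tprod ρ g w ∈ W) ∧
      W ⊓ Submodule.span (ZMod 2) (Set.range fun v : V => v ⊗ₜ[ZMod 2] v) =
        Submodule.span (ZMod 2) (Set.range fun p : V × V => p.1 ⊗ₜ[ZMod 2] p.2 + p.2 ⊗ₜ[ZMod 2] p.1) ∧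
      W ⊔ Submodule.span (ZMod 2) (Set.range fun v : V => v ⊗ₜ[ZMod 2] v) = ⊤ := by
  classical
  have hselfV : ∀ x : V, x + x = 0 := by
    intro x
    have h2 : (2 : ZMod 2) = 0 := by decide
    rw [← two_smul (ZMod 2) x, h2, zero_smul]
  have hfin : Module.Finite (ZMod 2) V := Module.finite_of_finrank_pos (by rw [hV]; norm_num)
  let b : Module.Basis (Fin 2) (ZMod 2) V := Module.finBasisOfFinrankEq (ZMod 2) V hV
  let B := b.tensorProduct b
  have hBapp : ∀ k l, B (k, l) = b k ⊗ₜ[ZMod 2] b l :=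
    fun k l => Module.Basis.tensorProduct_apply b b k l
  let r : V ⊗[ZMod 2] V →ₗ[ZMod 2] V :=
    B.constr (ZMod 2) (fun p : Fin 2 × Fin 2 => if p.1 = p.2 then b p.1 else b 0 + b 1)
  have hr : ∀ k l, r (b k ⊗ₜ[ZMod 2] b l) = if k = l then b k else b 0 + b 1 := by
    intro k l
    rw [← hBapp]
    exact B.constr_basis (ZMod 2) _ (k, l)
  have hexp : ∀ x : V, x = b.repr x 0 • b 0 + b.repr x 1 • b 1 := by
    intro x
    conv_lhs => rw [← b.sum_repr x, Fin.sum_univ_two]
  have hrxy : ∀ x y : V, r (x ⊗ₜ[ZMod 2] y) =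
      (b.repr x 0 * b.repr y 0 + b.repr x 0 * b.repr y 1 + b.repr x 1 * b.repr y 0) • b 0 +
      (b.repr x 1 * b.repr y 1 + b.repr x 0 * b.repr y 1 + b.repr x 1 * b.repr y 0) • b 1 := by
    intro x y
    conv_lhs => rw [hexp x, hexp y]
    simp only [TensorProduct.add_tmul, TensorProduct.tmul_add, TensorProduct.smul_tmul_smul,
      map_add, map_smul, hr]
    have h01 : (0 : Fin 2) ≠ 1 := by decide
    have h10 : (1 : Fin 2) ≠ 0 := by decide
    simp only [if_true, if_neg h01, if_neg h10]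
    module
  have h1 : ∀ x y : V, r (x ⊗ₜ[ZMod 2] y + y ⊗ₜ[ZMod 2] x) = 0 := by
    intro x y
    rw [map_add, hrxy x y, hrxy y x]
    have e1 : b.repr y 0 * b.repr x 0 + b.repr y 0 * b.repr x 1 + b.repr y 1 * b.repr x 0 =
        b.repr x 0 * b.repr y 0 + b.repr x 0 * b.repr y 1 + b.repr x 1 * b.repr y 0 := by ring
    have e2 : b.repr y 1 * b.repr x 1 + b.repr y 0 * b.repr x 1 + b.repr y 1 * b.repr x 0 =
        b.repr x 1 * b.repr y 1 + b.repr x 0 * b.repr y 1 + b.repr x 1 * b.repr y 0 := by ring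
    rw [e1, e2]
    exact hselfV _
  have hsq : ∀ a c : ZMod 2, a * a + a * c + c * a = a := by decide
  have h2 : ∀ v : V, r (v ⊗ₜ[ZMod 2] v) = v := by
    intro v
    rw [hrxy v v, hsq]
    have e : b.repr v 1 * b.repr v 1 + b.repr v 0 * b.repr v 1 + b.repr v 1 * b.repr v 0 =
        b.repr v 1 * b.repr v 1 + b.repr v 1 * b.repr v 0 + b.repr v 0 * b.repr v 1 := by ring
    rw [e, hsq]
    exact (hexp v).symm
  have hkey : ∀ a c b' d : ZMod 2, ¬(a = 0 ∧ c = 0) → ¬(b' = 0 ∧ d = 0) → ¬(a = b' ∧ c = d) →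
      a * b' + a * d + c * b' = a + b' ∧ c * d + a * d + c * b' = c + d := by decide
  have hequiv01 : ∀ g : G, r (ρ g (b 0) ⊗ₜ[ZMod 2] ρ g (b 1)) = ρ g (b 0) + ρ g (b 1) := by
    intro g
    have hinj : Function.Injective (ρ g) := by
      intro x y hxy
      have := congrArg (ρ g⁻¹) hxy
      rwa [Representation.inv_self_apply, Representation.inv_self_apply] at this
    have hx0 : ρ g (b 0) ≠ 0 := by
      intro h
      have : b 0 = 0 := hinj (by rw [h, map_zero])
      exact b.ne_zero 0 this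
    have hy0 : ρ g (b 1) ≠ 0 := by
      intro h
      have : b 1 = 0 := hinj (by rw [h, map_zero])
      exact b.ne_zero 1 this
    have hxy : ρ g (b 0) ≠ ρ g (b 1) := by
      intro h
      have : b 0 = b 1 := hinj h
      exact absurd (b.injective this) (by decide)
    generalize ρ g (b 0) = x at hx0 hxy ⊢
    generalize ρ g (b 1) = y at hy0 hxy ⊢
    have c1 : ¬(b.repr x 0 = 0 ∧ b.repr x 1 = 0) := by
      rintro ⟨h0, h1'⟩
      apply hx0
      rw [hexp x, h0, h1', zero_smul, zero_smul, add_zero]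
    have c2 : ¬(b.repr y 0 = 0 ∧ b.repr y 1 = 0) := by
      rintro ⟨h0, h1'⟩
      apply hy0
      rw [hexp y, h0, h1', zero_smul, zero_smul, add_zero]
    have c3 : ¬(b.repr x 0 = b.repr y 0 ∧ b.repr x 1 = b.repr y 1) := by
      rintro ⟨h0, h1'⟩
      apply hxy
      rw [hexp x, hexp y, h0, h1']
    obtain ⟨e1, e2⟩ := hkey (b.repr x 0) (b.repr x 1) (b.repr y 0) (b.repr y 1) c1 c2 c3
    rw [hrxy, e1, e2]
    conv_rhs => rw [hexp x, hexp y]
    module
  have hequiv : ∀ g : G, ∀ t, r (ρ.tprod ρ g t) = ρ g (r t) := by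
    intro g
    have hcomp : r.comp (ρ.tprod ρ g) = (ρ g).comp r := by
      refine B.ext fun p => ?_
      obtain ⟨k, l⟩ := p
      rw [hBapp]
      simp only [LinearMap.comp_apply, Representation.tprod_apply, TensorProduct.map_tmul]
      by_cases hkl : k = l
      · subst hkl
        rw [h2, hr, if_pos rfl]
      · rw [hr, if_neg hkl, map_add]
        have hne : ∀ k l : Fin 2, k ≠ l → (k = 0 ∧ l = 1) ∨ (k = 1 ∧ l = 0) := by decide
        rcases hne k l hkl with ⟨rfl, rfl⟩ | ⟨rfl, rfl⟩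
        · exact hequiv01 g
        · have h3 := h1 (ρ g (b 1)) (ρ g (b 0))
          rw [map_add] at h3
          rw [← hequiv01 g]
          exact add_right_cancel (h3.trans (hselfV _).symm)
    intro t
    exact LinearMap.congr_fun hcomp t
  set Na := Submodule.span (ZMod 2) (Set.range fun v : V => v ⊗ₜ[ZMod 2] v) with hNa
  set Ns := Submodule.span (ZMod 2)
    (Set.range fun p : V × V => p.1 ⊗ₜ[ZMod 2] p.2 + p.2 ⊗ₜ[ZMod 2] p.1) with hNs
  have hNsNa : Ns ≤ Na := by
    rw [hNs, Submodule.span_le]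
    rintro _ ⟨⟨x, y⟩, rfl⟩
    have e1 : (x + y) ⊗ₜ[ZMod 2] (x + y) ∈ Na := Submodule.subset_span ⟨x + y, rfl⟩
    have e2 : x ⊗ₜ[ZMod 2] x ∈ Na := Submodule.subset_span ⟨x, rfl⟩
    have e3 : y ⊗ₜ[ZMod 2] y ∈ Na := Submodule.subset_span ⟨y, rfl⟩
    have : x ⊗ₜ[ZMod 2] y + y ⊗ₜ[ZMod 2] x =
        (x + y) ⊗ₜ[ZMod 2] (x + y) - x ⊗ₜ[ZMod 2] x - y ⊗ₜ[ZMod 2] y := by
      rw [TensorProduct.add_tmul, TensorProduct.tmul_add, TensorProduct.tmul_add]
      abel
    show x ⊗ₜ[ZMod 2] y + y ⊗ₜ[ZMod 2] x ∈ Na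
    rw [this]
    exact Na.sub_mem (Na.sub_mem e1 e2) e3
  have hNsW : Ns ≤ LinearMap.ker r := by
    rw [hNs, Submodule.span_le]
    rintro _ ⟨⟨x, y⟩, rfl⟩
    exact h1 x y
  have hNa_r : ∀ t ∈ Na, t - r t ⊗ₜ[ZMod 2] r t ∈ Ns := by
    intro t ht
    induction ht using Submodule.span_induction with
    | mem x hx =>
      obtain ⟨v, rfl⟩ := hx
      show v ⊗ₜ[ZMod 2] v - r (v ⊗ₜ[ZMod 2] v) ⊗ₜ[ZMod 2] r (v ⊗ₜ[ZMod 2] v) ∈ Ns
      rw [h2, sub_self]
      exact Ns.zero_mem
    | zero => simp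
    | add x y _ _ hx hy =>
      have hxy : r x ⊗ₜ[ZMod 2] r y + r y ⊗ₜ[ZMod 2] r x ∈ Ns :=
        Submodule.subset_span ⟨(r x, r y), rfl⟩
      have : x + y - r (x + y) ⊗ₜ[ZMod 2] r (x + y) =
          (x - r x ⊗ₜ[ZMod 2] r x) + (y - r y ⊗ₜ[ZMod 2] r y) -
            (r x ⊗ₜ[ZMod 2] r y + r y ⊗ₜ[ZMod 2] r x) := by
        rw [map_add, TensorProduct.add_tmul, TensorProduct.tmul_add, TensorProduct.tmul_add]
        abel
      rw [this]
      exact Ns.sub_mem (Ns.add_mem hx hy) hxy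
    | smul c x _ hx =>
      have hc : c * c = c := by revert c; decide
      have : c • x - r (c • x) ⊗ₜ[ZMod 2] r (c • x) = c • (x - r x ⊗ₜ[ZMod 2] r x) := by
        rw [map_smul, TensorProduct.smul_tmul_smul, hc, smul_sub]
      rw [this]
      exact Ns.smul_mem c hx
  refine ⟨LinearMap.ker r, ?_, ?_, ?_⟩
  · intro g w hw
    rw [LinearMap.mem_ker] at hw ⊢
    rw [hequiv, hw, map_zero]
  · apply le_antisymm
    · rintro t ⟨htW, htNa⟩
      have h3 := hNa_r t htNa
      have h4 : r t = 0 := LinearMap.mem_ker.mp htW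
      rw [h4] at h3
      simpa using h3
    · exact le_inf hNsW hNsNa
  · rw [eq_top_iff]
    intro t _
    have hdec : t = (t - r t ⊗ₜ[ZMod 2] r t) + r t ⊗ₜ[ZMod 2] r t := by abel
    rw [hdec]
    refine Submodule.add_mem_sup ?_ (Submodule.subset_span ⟨r t, rfl⟩)
    rw [LinearMap.mem_ker, map_sub, h2, sub_self]

end Groth.Agent.S18546
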