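import Groth.Statements.S18547
import Mathlib
import Mathlib.LinearAlgebra.TensorProduct.Basis

set_option autoImplicit false
open scoped TensorProduct
universe u v
open GalCoh

namespace Groth.Agent.S18547

/-- Let G be a group acting linearly on a vector space V of dimension 3 over the field 𝔽₂ with two
elements. Then the connecting map (Λ²V)^G → H¹(G, V) of the short exact sequence of G-modules 0 → V
→ S²V → Λ²V → 0 (v ↦ v·v, x·y ↦ x ∧ y) is zero; equivalently, every G-invariant element of Λ²V is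
the image of a G-invariant element of S²V. Here N_a ⊆ V ⊗ V is the span of the tensors v ⊗ v and N_s
⊆ N_a the span of the tensors x ⊗ y + y ⊗ x, so that S²V = (V ⊗ V)/N_s and Λ²V = (V ⊗ V)/N_a with
the diagonal action of G, and the statement reads: a tensor t whose class modulo N_a is G-invariant
is congruent modulo N_a to a tensor whose class modulo N_s is G-invariant. (The source writes the
rank hypothesis on the lattice M with V = M/2M, which has the same rank, and has the absolute Galois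
group of a field acting; any group is allowed here.) -/
theorem result (G : Type u) [Group G] (V : Type v)
    [AddCommGroup V] [Module (ZMod 2) V] (hV : Module.finrank (ZMod 2) V = 3)
    (ρ : Representation (ZMod 2) G V) (t : V ⊗[ZMod 2] V)
    (ht : ∀ g : G, ρ.tprod ρ g t - t ∈ Submodule.span (ZMod 2) (Set.range fun v : V => v ⊗ₜ[ZMod 2] v)) :
    ∃ t' : V ⊗[ZMod 2] V, t' - t ∈ Submodule.span (ZMod 2) (Set.range fun v : V => v ⊗ₜ[ZMod 2] v) ∧
      ∀ g : G, ρ.tprod ρ g t' - t' ∈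
        Submodule.span (ZMod 2) (Set.range fun p : V × V => p.1 ⊗ₜ[ZMod 2] p.2 + p.2 ⊗ₜ[ZMod 2] p.1) := by
  classical
  have hselfK : ∀ c : ZMod 2, c + c = 0 := by decide
  have hflip : ∀ a c : ZMod 2, a + c = 0 → c = a := by decide
  have hfin3 : ∀ i : Fin 3, i = 0 ∨ i = 1 ∨ i = 2 := by decide
  have hminor : ∀ p q r : ZMod 2,
      (1 + r + r * q) * ((1 + r) * p) + r * (r * p) = p ∧
      (1 + r + r * q) * (r + (1 + r) * q) + 0 * (r * p) = q ∧
      r * (r + (1 + r) * q) + 0 * ((1 + r) * p) = r := by decide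
  have hdec : ∀ u0 u1 u2 v0 v1 v2 p q r : ZMod 2,
      u0*v1+u1*v0 = p → u0*v2+u2*v0 = q → u1*v2+u2*v1 = r → ¬(p = 0 ∧ q = 0 ∧ r = 0) →
      ∃ α β γ δ : ZMod 2, (α*δ+β*γ = 1 ∧ α*α+α*β+β*β = 1 ∧ γ*γ+γ*δ+δ*δ = 1 ∧
        α*γ+α*δ+β*δ - 1 = γ*α+γ*β+δ*β) ∧
        (u0 = α*(1+r+r*q) + γ*(r*p) ∧
        u1 = α*r + γ*((1+r)*p) ∧
        u2 = α*0 + γ*(r+(1+r)*q)) ∧
        (v0 = β*(1+r+r*q) + δ*(r*p) ∧
        v1 = β*r + δ*((1+r)*p) ∧
        v2 = β*0 + δ*(r+(1+r)*q)) := by
    set_option maxRecDepth 100000 in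
    set_option synthInstance.maxSize 4000 in
    set_option synthInstance.maxHeartbeats 1000000 in
    decide +kernel
  have hfin : Module.Finite (ZMod 2) V := Module.finite_of_finrank_pos (by rw [hV]; norm_num)
  let b : Module.Basis (Fin 3) (ZMod 2) V := Module.finBasisOfFinrankEq (ZMod 2) V hV
  let B := b.tensorProduct b
  have hBapp : ∀ k l, B (k, l) = b k ⊗ₜ[ZMod 2] b l :=
    fun k l => Module.Basis.tensorProduct_apply b b k l
  have hrepr : ∀ (x y : V) (i j : Fin 3),
      B.repr (x ⊗ₜ[ZMod 2] y) (i, j) = b.repr x i * b.repr y j := by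
    intro x y i j
    rw [Module.Basis.tensorProduct_repr_tmul_apply, smul_eq_mul, mul_comm]
  set Na := Submodule.span (ZMod 2) (Set.range fun v : V => v ⊗ₜ[ZMod 2] v) with hNa
  set Ns := Submodule.span (ZMod 2)
    (Set.range fun p : V × V => p.1 ⊗ₜ[ZMod 2] p.2 + p.2 ⊗ₜ[ZMod 2] p.1) with hNs
  have hNsNa : Ns ≤ Na := by
    rw [hNs, Submodule.span_le]
    rintro _ ⟨⟨x, y⟩, rfl⟩
    have e1 : (x + y) ⊗ₜ[ZMod 2] (x + y) ∈ Na := Submodule.subset_span ⟨x + y, rfl⟩
    have e2 : x ⊗ₜ[ZMod 2] x ∈ Na := Submodule.subset_span ⟨x, rfl⟩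
    have e3 : y ⊗ₜ[ZMod 2] y ∈ Na := Submodule.subset_span ⟨y, rfl⟩
    have : x ⊗ₜ[ZMod 2] y + y ⊗ₜ[ZMod 2] x =
        (x + y) ⊗ₜ[ZMod 2] (x + y) - x ⊗ₜ[ZMod 2] x - y ⊗ₜ[ZMod 2] y := by
      rw [TensorProduct.add_tmul, TensorProduct.tmul_add, TensorProduct.tmul_add]
      abel
    show x ⊗ₜ[ZMod 2] y + y ⊗ₜ[ZMod 2] x ∈ Na
    rw [this]
    exact Na.sub_mem (Na.sub_mem e1 e2) e3
  have hNa_w : ∀ s ∈ Na, ∀ i j, B.repr s (i, j) + B.repr s (j, i) = 0 := by
    intro s hs
    induction hs using Submodule.span_induction with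
    | mem x hx =>
      obtain ⟨v, rfl⟩ := hx
      intro i j
      show B.repr (v ⊗ₜ[ZMod 2] v) (i, j) + B.repr (v ⊗ₜ[ZMod 2] v) (j, i) = 0
      rw [hrepr, hrepr, mul_comm]
      exact hselfK _
    | zero =>
      intro i j
      simp
    | add x y _ _ hx hy =>
      intro i j
      rw [map_add, Finsupp.add_apply, Finsupp.add_apply]
      have e : B.repr x (i, j) + B.repr y (i, j) + (B.repr x (j, i) + B.repr y (j, i)) =
          (B.repr x (i, j) + B.repr x (j, i)) + (B.repr y (i, j) + B.repr y (j, i)) := by ring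
      rw [e, hx i j, hy i j, add_zero]
    | smul c x _ hx =>
      intro i j
      rw [map_smul, Finsupp.smul_apply, Finsupp.smul_apply, ← smul_add, hx i j, smul_zero]
  have hw_Na : ∀ s : V ⊗[ZMod 2] V, B.repr s (0, 1) + B.repr s (1, 0) = 0 →
      B.repr s (0, 2) + B.repr s (2, 0) = 0 → B.repr s (1, 2) + B.repr s (2, 1) = 0 → s ∈ Na := by
    intro s h01 h02 h12
    have e10 := hflip _ _ h01
    have e20 := hflip _ _ h02
    have e21 := hflip _ _ h12
    have hs : s = B.repr s (0, 0) • B (0, 0) + B.repr s (1, 1) • B (1, 1) + B.repr s (2, 2) • B (2, 2) +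
        B.repr s (0, 1) • (B (0, 1) + B (1, 0)) + B.repr s (0, 2) • (B (0, 2) + B (2, 0)) +
        B.repr s (1, 2) • (B (1, 2) + B (2, 1)) := by
      conv_lhs => rw [← B.sum_repr s, Fintype.sum_prod_type]
      simp only [Fin.sum_univ_three]
      rw [e10, e20, e21]
      module
    rw [hs]
    have hd : ∀ i, B (i, i) ∈ Na := fun i => by
      rw [hBapp]
      exact Submodule.subset_span ⟨b i, rfl⟩
    have ho : ∀ i j, B (i, j) + B (j, i) ∈ Na := fun i j => by
      rw [hBapp, hBapp]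
      exact hNsNa (Submodule.subset_span ⟨(b i, b j), rfl⟩)
    exact Na.add_mem (Na.add_mem (Na.add_mem (Na.add_mem (Na.add_mem (Na.smul_mem _ (hd 0))
      (Na.smul_mem _ (hd 1))) (Na.smul_mem _ (hd 2))) (Na.smul_mem _ (ho 0 1)))
      (Na.smul_mem _ (ho 0 2))) (Na.smul_mem _ (ho 1 2))
  have hNa_stable : ∀ g : G, ∀ s ∈ Na, ρ.tprod ρ g s ∈ Na := by
    intro g s hs
    induction hs using Submodule.span_induction with
    | mem x hx =>
      obtain ⟨v, rfl⟩ := hx
      show ρ.tprod ρ g (v ⊗ₜ[ZMod 2] v) ∈ Na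
      rw [Representation.tprod_apply, TensorProduct.map_tmul]
      exact Submodule.subset_span ⟨ρ g v, rfl⟩
    | zero =>
      rw [map_zero]
      exact Na.zero_mem
    | add x y _ _ hx hy =>
      rw [map_add]
      exact Na.add_mem hx hy
    | smul c x _ hx =>
      rw [map_smul]
      exact Na.smul_mem c hx
  set p := B.repr t (0, 1) + B.repr t (1, 0) with hp
  set q := B.repr t (0, 2) + B.repr t (2, 0) with hq
  set r := B.repr t (1, 2) + B.repr t (2, 1) with hr
  by_cases h0 : p = 0 ∧ q = 0 ∧ r = 0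
  · refine ⟨0, ?_, ?_⟩
    · rw [zero_sub]
      exact Na.neg_mem (hw_Na t h0.1 h0.2.1 h0.2.2)
    · intro g
      rw [map_zero, sub_zero]
      exact Ns.zero_mem
  · let vec : (Fin 3 → ZMod 2) → V := fun c => c 0 • b 0 + c 1 • b 1 + c 2 • b 2
    have hvec : ∀ c i, b.repr (vec c) i = c i := by
      intro c i
      simp only [vec, map_add, map_smul, Module.Basis.repr_self, Finsupp.add_apply,
        Finsupp.smul_apply, Finsupp.single_apply, smul_eq_mul]
      rcases hfin3 i with rfl | rfl | rfl <;> simp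
    set x := vec ![1 + r + r * q, r, 0] with hx
    set y := vec ![r * p, (1 + r) * p, r + (1 + r) * q] with hy
    have hx0 : b.repr x 0 = 1 + r + r * q := hvec _ 0
    have hx1 : b.repr x 1 = r := hvec _ 1
    have hx2 : b.repr x 2 = 0 := hvec _ 2
    have hy0 : b.repr y 0 = r * p := hvec _ 0
    have hy1 : b.repr y 1 = (1 + r) * p := hvec _ 1
    have hy2 : b.repr y 2 = r + (1 + r) * q := hvec _ 2
    obtain ⟨hm1, hm2, hm3⟩ := hminor p q r
    have htxy : t - x ⊗ₜ[ZMod 2] y ∈ Na := by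
      apply hw_Na
      · rw [map_sub, Finsupp.sub_apply, Finsupp.sub_apply, hrepr, hrepr, hx0, hx1, hy0, hy1]
        have e : B.repr t (0, 1) - (1 + r + r * q) * ((1 + r) * p) +
            (B.repr t (1, 0) - r * (r * p)) =
            p - ((1 + r + r * q) * ((1 + r) * p) + r * (r * p)) := by rw [hp]; ring
        rw [e, hm1, sub_self]
      · rw [map_sub, Finsupp.sub_apply, Finsupp.sub_apply, hrepr, hrepr, hx0, hx2, hy0, hy2]
        have e : B.repr t (0, 2) - (1 + r + r * q) * (r + (1 + r) * q) +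
            (B.repr t (2, 0) - 0 * (r * p)) =
            q - ((1 + r + r * q) * (r + (1 + r) * q) + 0 * (r * p)) := by rw [hq]; ring
        rw [e, hm2, sub_self]
      · rw [map_sub, Finsupp.sub_apply, Finsupp.sub_apply, hrepr, hrepr, hx1, hx2, hy1, hy2]
        have e : B.repr t (1, 2) - r * (r + (1 + r) * q) +
            (B.repr t (2, 1) - 0 * ((1 + r) * p)) =
            r - (r * (r + (1 + r) * q) + 0 * ((1 + r) * p)) := by rw [hr]; ring
        rw [e, hm3, sub_self]
    refine ⟨x ⊗ₜ[ZMod 2] x + x ⊗ₜ[ZMod 2] y + y ⊗ₜ[ZMod 2] y, ?_, ?_⟩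
    · have e : x ⊗ₜ[ZMod 2] x + x ⊗ₜ[ZMod 2] y + y ⊗ₜ[ZMod 2] y - t =
          x ⊗ₜ[ZMod 2] x + y ⊗ₜ[ZMod 2] y - (t - x ⊗ₜ[ZMod 2] y) := by abel
      rw [e]
      exact Na.sub_mem (Na.add_mem (Submodule.subset_span ⟨x, rfl⟩) (Submodule.subset_span ⟨y, rfl⟩))
        htxy
    · intro g
      set u := ρ g x with hu
      set v := ρ g y with hv
      have huv : u ⊗ₜ[ZMod 2] v - x ⊗ₜ[ZMod 2] y ∈ Na := by
        have h1 := ht g
        have h2 := hNa_stable g _ htxy
        rw [map_sub, Representation.tprod_apply, TensorProduct.map_tmul] at h2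
        have e : u ⊗ₜ[ZMod 2] v - x ⊗ₜ[ZMod 2] y =
            (TensorProduct.map (ρ g) (ρ g) t - t) -
              (TensorProduct.map (ρ g) (ρ g) t - ρ g x ⊗ₜ[ZMod 2] ρ g y) + (t - x ⊗ₜ[ZMod 2] y) := by
          rw [hu, hv]
          abel
        rw [e]
        rw [Representation.tprod_apply] at h1
        exact Na.add_mem (Na.sub_mem h1 h2) htxy
      have hmin : ∀ i j, b.repr u i * b.repr v j + b.repr u j * b.repr v i =
          b.repr x i * b.repr y j + b.repr x j * b.repr y i := by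
        intro i j
        have h1 := hNa_w _ huv i j
        rw [map_sub, Finsupp.sub_apply, Finsupp.sub_apply, hrepr, hrepr, hrepr, hrepr] at h1
        have e : b.repr u i * b.repr v j - b.repr x i * b.repr y j +
            (b.repr u j * b.repr v i - b.repr x j * b.repr y i) =
            (b.repr u i * b.repr v j + b.repr u j * b.repr v i) -
            (b.repr x i * b.repr y j + b.repr x j * b.repr y i) := by ring
        rw [e, sub_eq_zero] at h1
        exact h1
      have hp' : b.repr u 0 * b.repr v 1 + b.repr u 1 * b.repr v 0 = p := by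
        rw [hmin 0 1, hx0, hx1, hy0, hy1]
        exact hm1
      have hq' : b.repr u 0 * b.repr v 2 + b.repr u 2 * b.repr v 0 = q := by
        rw [hmin 0 2, hx0, hx2, hy0, hy2]
        exact hm2
      have hr' : b.repr u 1 * b.repr v 2 + b.repr u 2 * b.repr v 1 = r := by
        rw [hmin 1 2, hx1, hx2, hy1, hy2]
        exact hm3
      obtain ⟨α, β, γ, δ, ⟨-, k1, k4, k2⟩, ⟨hu0, hu1, hu2⟩, ⟨hv0, hv1, hv2⟩⟩ :=
        hdec _ _ _ _ _ _ p q r hp' hq' hr' h0
      have hux : u = α • x + γ • y := by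
        apply b.ext_elem
        intro i
        rw [map_add, map_smul, map_smul, Finsupp.add_apply, Finsupp.smul_apply, Finsupp.smul_apply,
          smul_eq_mul, smul_eq_mul]
        rcases hfin3 i with rfl | rfl | rfl
        · rw [hx0, hy0]; exact hu0
        · rw [hx1, hy1]; exact hu1
        · rw [hx2, hy2]; exact hu2
      have hvx : v = β • x + δ • y := by
        apply b.ext_elem
        intro i
        rw [map_add, map_smul, map_smul, Finsupp.add_apply, Finsupp.smul_apply, Finsupp.smul_apply,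
          smul_eq_mul, smul_eq_mul]
        rcases hfin3 i with rfl | rfl | rfl
        · rw [hx0, hy0]; exact hv0
        · rw [hx1, hy1]; exact hv1
        · rw [hx2, hy2]; exact hv2
      have hfinal : ρ.tprod ρ g (x ⊗ₜ[ZMod 2] x + x ⊗ₜ[ZMod 2] y + y ⊗ₜ[ZMod 2] y) -
          (x ⊗ₜ[ZMod 2] x + x ⊗ₜ[ZMod 2] y + y ⊗ₜ[ZMod 2] y) =
          (γ*α+γ*β+δ*β) • (x ⊗ₜ[ZMod 2] y + y ⊗ₜ[ZMod 2] x) := by
        rw [Representation.tprod_apply, map_add, map_add, TensorProduct.map_tmul,
          TensorProduct.map_tmul, TensorProduct.map_tmul, ← hu, ← hv, hux, hvx]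
        simp only [TensorProduct.add_tmul, TensorProduct.tmul_add, TensorProduct.smul_tmul_smul]
        have e2 : (γ*α+γ*β+δ*β) • (x ⊗ₜ[ZMod 2] y + y ⊗ₜ[ZMod 2] x) =
            (α*α+α*β+β*β - 1) • x ⊗ₜ[ZMod 2] x + (α*γ+α*δ+β*δ - 1) • x ⊗ₜ[ZMod 2] y +
            (γ*α+γ*β+δ*β) • y ⊗ₜ[ZMod 2] x + (γ*γ+γ*δ+δ*δ - 1) • y ⊗ₜ[ZMod 2] y := by
          rw [k1, k4, k2, sub_self, zero_smul, zero_smul, zero_add, add_zero, smul_add]
        rw [e2]
        module
      rw [hfinal]
      exact Ns.smul_mem _ (Submodule.subset_span ⟨(x, y), rfl⟩)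

end Groth.Agent.S18547
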