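import Groth.Statements.S18548
import Mathlib.Tactic
import Mathlib.LinearAlgebra.TensorProduct.Basis

set_option autoImplicit false
open scoped TensorProduct
universe u v w
open GalCoh

namespace Groth.Agent.S18548

/-- Let G be a group acting linearly on a vector space V over the field 𝔽₂ with two elements, and
suppose V is a permutation module: G permutes the vectors of some basis of V. Then the short exact
sequence of G-modules 0 → V → S²V → Λ²V → 0 (v ↦ v·v, x·y ↦ x ∧ y) splits G-equivariantly. Here, for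
a vector space V over the field with two elements carrying a linear action ρ of a group G, write N_a
⊆ V ⊗ V for the span of the tensors v ⊗ v and N_s ⊆ N_a for the span of the tensors x ⊗ y + y ⊗ x,
so that S²V = (V ⊗ V)/N_s, Λ²V = (V ⊗ V)/N_a and the surjection S²V → Λ²V, x·y ↦ x ∧ y, is
G-equivariant for the diagonal action; a G-equivariant linear section of this surjection is the same
thing as a G-stable subspace W of V ⊗ V with W ∩ N_a = N_s and W + N_a = V ⊗ V, which is how the
splitting is stated. (The source has the absolute Galois group of a field acting continuously; any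
group and any basis index set are allowed here.) -/
theorem result (G : Type u) [Group G] (V : Type v)
    [AddCommGroup V] [Module (ZMod 2) V] (ρ : Representation (ZMod 2) G V)
    (ι : Type w) (b : Module.Basis ι (ZMod 2) V) (hb : ∀ g : G, ∀ i : ι, ∃ j : ι, ρ g (b i) = b j) :
    ∃ W : Submodule (ZMod 2) (V ⊗[ZMod 2] V),
      (∀ g : G, ∀ w ∈ W, ρ.tprod ρ g w ∈ W) ∧
      W ⊓ Submodule.span (ZMod 2) (Set.range fun v : V => v ⊗ₜ[ZMod 2] v) =
        Submodule.span (ZMod 2) (Set.range fun p : V × V => p.1 ⊗ₜ[ZMod 2] p.2 + p.2 ⊗ₜ[ZMod 2] p.1) ∧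
      W ⊔ Submodule.span (ZMod 2) (Set.range fun v : V => v ⊗ₜ[ZMod 2] v) = ⊤ := by
  classical
  have hself : ∀ x : V ⊗[ZMod 2] V, x + x = 0 := by
    intro x
    have h2 : (2 : ZMod 2) = 0 := by decide
    rw [← two_smul (ZMod 2) x, h2, zero_smul]
  set B := b.tensorProduct b with hB
  have hBapp : ∀ k l, B (k, l) = b k ⊗ₜ[ZMod 2] b l := fun k l => Module.Basis.tensorProduct_apply b b k l
  set Na := Submodule.span (ZMod 2) (Set.range fun v : V => v ⊗ₜ[ZMod 2] v) with hNa
  set Ns := Submodule.span (ZMod 2)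
    (Set.range fun p : V × V => p.1 ⊗ₜ[ZMod 2] p.2 + p.2 ⊗ₜ[ZMod 2] p.1) with hNs
  set W : Submodule (ZMod 2) (V ⊗[ZMod 2] V) :=
    Submodule.span (ZMod 2) (B '' {p : ι × ι | p.1 ≠ p.2}) with hW
  have hgen : ∀ k l, k ≠ l → b k ⊗ₜ[ZMod 2] b l ∈ W := by
    intro k l hkl
    rw [← hBapp]
    exact Submodule.subset_span ⟨(k, l), hkl, rfl⟩
  -- Ns ≤ W
  have hNsW : Ns ≤ W := by
    let mk := TensorProduct.mk (ZMod 2) V V
    let φ : V →ₗ[ZMod 2] V →ₗ[ZMod 2] (V ⊗[ZMod 2] V) ⧸ W := (mk + mk.flip).compr₂ W.mkQ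
    have hφ : φ = 0 := by
      refine b.ext fun k => b.ext fun l => ?_
      show W.mkQ (b k ⊗ₜ[ZMod 2] b l + b l ⊗ₜ[ZMod 2] b k) = 0
      rw [Submodule.mkQ_apply, Submodule.Quotient.mk_eq_zero]
      by_cases hkl : k = l
      · subst hkl
        rw [hself]
        exact W.zero_mem
      · exact W.add_mem (hgen k l hkl) (hgen l k (Ne.symm hkl))
    rw [hNs, Submodule.span_le]
    rintro _ ⟨⟨x, y⟩, rfl⟩
    have : φ x y = 0 := by rw [hφ]; rfl
    have h2 : W.mkQ (x ⊗ₜ[ZMod 2] y + y ⊗ₜ[ZMod 2] x) = 0 := this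
    rw [Submodule.mkQ_apply, Submodule.Quotient.mk_eq_zero] at h2
    exact h2
  -- Ns ≤ Na
  have hNsNa : Ns ≤ Na := by
    rw [hNs, Submodule.span_le]
    rintro _ ⟨⟨x, y⟩, rfl⟩
    have h1 : (x + y) ⊗ₜ[ZMod 2] (x + y) ∈ Na := Submodule.subset_span ⟨x + y, rfl⟩
    have h2 : x ⊗ₜ[ZMod 2] x ∈ Na := Submodule.subset_span ⟨x, rfl⟩
    have h3 : y ⊗ₜ[ZMod 2] y ∈ Na := Submodule.subset_span ⟨y, rfl⟩
    have : x ⊗ₜ[ZMod 2] y + y ⊗ₜ[ZMod 2] x =
        (x + y) ⊗ₜ[ZMod 2] (x + y) - x ⊗ₜ[ZMod 2] x - y ⊗ₜ[ZMod 2] y := by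
      rw [TensorProduct.add_tmul, TensorProduct.tmul_add, TensorProduct.tmul_add]
      abel
    show x ⊗ₜ[ZMod 2] y + y ⊗ₜ[ZMod 2] x ∈ Na
    rw [this]
    exact Na.sub_mem (Na.sub_mem h1 h2) h3
  -- the diagonal map
  let δ : V →ₗ[ZMod 2] V ⊗[ZMod 2] V := b.constr (ZMod 2) (fun i => b i ⊗ₜ[ZMod 2] b i)
  have hδb : ∀ i, δ (b i) = b i ⊗ₜ[ZMod 2] b i := fun i => b.constr_basis (ZMod 2) _ i
  have hA : ∀ v : V, v ⊗ₜ[ZMod 2] v - δ v ∈ Ns := by
    intro v
    have hv : v ∈ Submodule.span (ZMod 2) (Set.range b) := by rw [b.span_eq]; trivial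
    induction hv using Submodule.span_induction with
    | mem x hx =>
      obtain ⟨i, rfl⟩ := hx
      rw [hδb, sub_self]
      exact Ns.zero_mem
    | zero =>
      simp
    | add x y _ _ hx hy =>
      have hxy : x ⊗ₜ[ZMod 2] y + y ⊗ₜ[ZMod 2] x ∈ Ns := Submodule.subset_span ⟨(x, y), rfl⟩
      have : (x + y) ⊗ₜ[ZMod 2] (x + y) - δ (x + y) =
          (x ⊗ₜ[ZMod 2] x - δ x) + (y ⊗ₜ[ZMod 2] y - δ y) +
            (x ⊗ₜ[ZMod 2] y + y ⊗ₜ[ZMod 2] x) := by
        rw [TensorProduct.add_tmul, TensorProduct.tmul_add, TensorProduct.tmul_add, map_add]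
        abel
      rw [this]
      exact Ns.add_mem (Ns.add_mem hx hy) hxy
    | smul c x _ hx =>
      have hc : c * c = c := by revert c; decide
      have : (c • x) ⊗ₜ[ZMod 2] (c • x) - δ (c • x) = c • (x ⊗ₜ[ZMod 2] x - δ x) := by
        rw [TensorProduct.smul_tmul_smul, hc, map_smul, smul_sub]
      rw [this]
      exact Ns.smul_mem c hx
  have hBexists : ∀ t ∈ Na, ∃ u : V, t - δ u ∈ Ns := by
    intro t ht
    induction ht using Submodule.span_induction with
    | mem x hx =>
      obtain ⟨v, rfl⟩ := hx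
      exact ⟨v, hA v⟩
    | zero => exact ⟨0, by simp⟩
    | add x y _ _ hx hy =>
      obtain ⟨u1, h1⟩ := hx
      obtain ⟨u2, h2⟩ := hy
      refine ⟨u1 + u2, ?_⟩
      have : x + y - δ (u1 + u2) = (x - δ u1) + (y - δ u2) := by rw [map_add]; abel
      rw [this]
      exact Ns.add_mem h1 h2
    | smul c x _ hx =>
      obtain ⟨u, h⟩ := hx
      refine ⟨c • u, ?_⟩
      have : c • x - δ (c • u) = c • (x - δ u) := by rw [map_smul, smul_sub]
      rw [this]
      exact Ns.smul_mem c h
  have hC : ∀ i, ∀ t ∈ W, B.repr t (i, i) = 0 := by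
    intro i t ht
    induction ht using Submodule.span_induction with
    | mem x hx =>
      obtain ⟨⟨k, l⟩, hkl, rfl⟩ := hx
      rw [Module.Basis.repr_self, Finsupp.single_apply, if_neg]
      intro h
      apply hkl
      have h1 := congrArg Prod.fst h
      have h2 := congrArg Prod.snd h
      simp only at h1 h2
      rw [h1, h2]
    | zero => simp
    | add x y _ _ hx hy => rw [map_add, Finsupp.add_apply, hx, hy, add_zero]
    | smul c x _ hx => rw [map_smul, Finsupp.smul_apply, hx, smul_zero]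
  have hD : ∀ (u : V) (i : ι), B.repr (δ u) (i, i) = b.repr u i := by
    intro u i
    have : (Finsupp.lapply (i, i)).comp (B.repr.toLinearMap.comp δ) =
        (Finsupp.lapply i).comp b.repr.toLinearMap := by
      refine b.ext fun j => ?_
      simp only [LinearMap.comp_apply, LinearEquiv.coe_coe, Finsupp.lapply_apply, hδb,
        Module.Basis.repr_self]
      rw [← hBapp, Module.Basis.repr_self, Finsupp.single_apply, Finsupp.single_apply]
      by_cases hji : j = i
      · subst hji; simp
      · rw [if_neg hji, if_neg]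
        intro h
        exact hji (congrArg Prod.fst h)
    exact LinearMap.congr_fun this u
  refine ⟨W, ?_, ?_, ?_⟩
  · -- stability
    intro g w hw
    induction hw using Submodule.span_induction with
    | mem x hx =>
      obtain ⟨⟨k, l⟩, hkl, rfl⟩ := hx
      obtain ⟨k', hk'⟩ := hb g k
      obtain ⟨l', hl'⟩ := hb g l
      rw [hBapp, Representation.tprod_apply, TensorProduct.map_tmul, hk', hl']
      apply hgen
      intro h
      apply hkl
      have hinj : Function.Injective (ρ g) := by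
        intro x y hxy
        have := congrArg (ρ g⁻¹) hxy
        rwa [Representation.inv_self_apply, Representation.inv_self_apply] at this
      apply b.injective
      apply hinj
      show ρ g (b k) = ρ g (b l)
      rw [hk', hl', h]
    | zero => rw [map_zero]; exact W.zero_mem
    | add x y _ _ hx hy => rw [map_add]; exact W.add_mem hx hy
    | smul c x _ hx => rw [map_smul]; exact W.smul_mem c hx
  · apply le_antisymm
    · rintro t ⟨htW, htNa⟩
      obtain ⟨u, hu⟩ := hBexists t htNa
      have hδW : δ u ∈ W := by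
        have : δ u = t - (t - δ u) := by abel
        rw [this]
        exact W.sub_mem htW (hNsW hu)
      have hu0 : u = 0 := by
        apply b.repr.injective
        ext i
        rw [← hD, hC i _ hδW, map_zero, Finsupp.zero_apply]
      rw [hu0, map_zero, sub_zero] at hu
      exact hu
    · exact le_inf hNsW hNsNa
  · rw [eq_top_iff, ← B.span_eq, Submodule.span_le]
    rintro _ ⟨⟨k, l⟩, rfl⟩
    by_cases hkl : k = l
    · subst hkl
      apply Submodule.mem_sup_right
      rw [hBapp]
      exact Submodule.subset_span ⟨b k, rfl⟩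
    · apply Submodule.mem_sup_left
      rw [hBapp]
      exact hgen k l hkl

end Groth.Agent.S18548
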