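import Groth.Statements.S18549
import Mathlib
import Groth.Agent.S18548

set_option autoImplicit false
open scoped TensorProduct
universe u v
open GalCoh

namespace Groth.Agent.S18549

/-- Over the real numbers, that is for the group G = Gal(ℂ/ℝ) of order 2 acting linearly on a
finite-dimensional vector space V over the field 𝔽₂ with two elements, the short exact sequence of
G-modules 0 → V → S²V → Λ²V → 0 (v ↦ v·v, x·y ↦ x ∧ y) splits G-equivariantly. Here, for a vector
space V over the field with two elements carrying a linear action ρ of a group G, write N_a ⊆ V ⊗ V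
for the span of the tensors v ⊗ v and N_s ⊆ N_a for the span of the tensors x ⊗ y + y ⊗ x, so that
S²V = (V ⊗ V)/N_s, Λ²V = (V ⊗ V)/N_a and the surjection S²V → Λ²V, x·y ↦ x ∧ y, is G-equivariant for
the diagonal action; a G-equivariant linear section of this surjection is the same thing as a
G-stable subspace W of V ⊗ V with W ∩ N_a = N_s and W + N_a = V ⊗ V, which is how the splitting is
stated. (G is any group of order 2 here; V is taken finite-dimensional, the case covered by the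
structure theory of finitely generated modules over 𝔽₂[G] that the argument uses.) -/
theorem result (G : Type u) [Group G] (hG : Nat.card G = 2)
    (V : Type v) [AddCommGroup V] [Module (ZMod 2) V] [Module.Finite (ZMod 2) V]
    (ρ : Representation (ZMod 2) G V) :
    ∃ W : Submodule (ZMod 2) (V ⊗[ZMod 2] V),
      (∀ g : G, ∀ w ∈ W, ρ.tprod ρ g w ∈ W) ∧
      W ⊓ Submodule.span (ZMod 2) (Set.range fun v : V => v ⊗ₜ[ZMod 2] v) =
        Submodule.span (ZMod 2) (Set.range fun p : V × V => p.1 ⊗ₜ[ZMod 2] p.2 + p.2 ⊗ₜ[ZMod 2] p.1) ∧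
      W ⊔ Submodule.span (ZMod 2) (Set.range fun v : V => v ⊗ₜ[ZMod 2] v) = ⊤ := by
  classical
  obtain ⟨g₀, hg₀, hg₀u⟩ := (Nat.card_eq_two_iff' (1 : G)).mp hG
  have hall : ∀ g : G, g = 1 ∨ g = g₀ := by
    intro g
    by_cases h : g = 1
    · exact Or.inl h
    · exact Or.inr (hg₀u g h)
  have hsq : g₀ * g₀ = 1 := by
    rcases hall (g₀ * g₀) with h | h
    · exact h
    · exfalso
      apply hg₀
      exact mul_left_cancel (h.trans (mul_one g₀).symm)
  have hselfV : ∀ x : V, x + x = 0 := by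
    intro x
    have h2 : (2 : ZMod 2) = 0 := by decide
    rw [← two_smul (ZMod 2) x, h2, zero_smul]
  have hneg : ∀ x : V, -x = x := fun x => neg_eq_of_add_eq_zero_left (hselfV x)
  have hTT : ∀ v, ρ g₀ (ρ g₀ v) = v := by
    intro v
    rw [← Module.End.mul_apply, ← map_mul, hsq, map_one, Module.End.one_apply]
  let N : V →ₗ[ZMod 2] V := ρ g₀ + LinearMap.id
  have hN : ∀ v, N v = ρ g₀ v + v := fun v => rfl
  have hTN : ∀ v, ρ g₀ v = v + N v := by
    intro v
    rw [hN]
    have e : v + (ρ g₀ v + v) = ρ g₀ v + (v + v) := by abel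
    rw [e, hselfV, add_zero]
  have hNN : ∀ v, N (N v) = 0 := by
    intro v
    rw [hN (N v), hN v, map_add, hTT]
    have e : v + ρ g₀ v + (ρ g₀ v + v) = (v + v) + (ρ g₀ v + ρ g₀ v) := by abel
    rw [e, hselfV, hselfV, add_zero]
  have hIK : LinearMap.range N ≤ LinearMap.ker N := by
    rintro _ ⟨v, rfl⟩
    exact hNN v
  obtain ⟨C, hC⟩ := Submodule.exists_isCompl (LinearMap.ker N)
  obtain ⟨I', hI'⟩ := Submodule.exists_isCompl (LinearMap.range N)
  let D : Submodule (ZMod 2) V := I' ⊓ LinearMap.ker N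
  have hDK : D ≤ LinearMap.ker N := inf_le_right
  have hID : ∀ v, v ∈ LinearMap.range N → v ∈ D → v = 0 := by
    intro v h1 h2
    have h3 : v ∈ LinearMap.range N ⊓ I' := ⟨h1, h2.1⟩
    rw [hI'.inf_eq_bot] at h3
    exact (Submodule.mem_bot _).mp h3
  have hKC : ∀ v, v ∈ LinearMap.ker N → v ∈ C → v = 0 := by
    intro v h1 h2
    have h3 : v ∈ LinearMap.ker N ⊓ C := ⟨h1, h2⟩
    rw [hC.inf_eq_bot] at h3
    exact (Submodule.mem_bot _).mp h3
  have hdecV : ∀ v : V, ∃ k ∈ LinearMap.ker N, ∃ c ∈ C, v = k + c := by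
    intro v
    have h3 : v ∈ LinearMap.ker N ⊔ C := by rw [hC.sup_eq_top]; trivial
    obtain ⟨k, hk, c, hc, rfl⟩ := Submodule.mem_sup.mp h3
    exact ⟨k, hk, c, hc, rfl⟩
  have hdecK : ∀ k ∈ LinearMap.ker N, ∃ n ∈ LinearMap.range N, ∃ d ∈ D, k = n + d := by
    intro k hk
    have h3 : k ∈ LinearMap.range N ⊔ I' := by rw [hI'.sup_eq_top]; trivial
    obtain ⟨n, hn, i', hi', rfl⟩ := Submodule.mem_sup.mp h3
    refine ⟨n, hn, i', ⟨hi', ?_⟩, rfl⟩
    have h4 := (LinearMap.ker N).sub_mem hk (hIK hn)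
    simpa using h4
  let Φ : (C × (C × D)) →ₗ[ZMod 2] V :=
    LinearMap.coprod C.subtype (LinearMap.coprod ((ρ g₀).comp C.subtype) D.subtype)
  have hΦ : ∀ (u u' : C) (d : D), Φ (u, (u', d)) = (u : V) + (ρ g₀ (u' : V) + (d : V)) := by
    intro u u' d
    rfl
  have hinj : Function.Injective Φ := by
    rw [← LinearMap.ker_eq_bot, LinearMap.ker_eq_bot']
    rintro ⟨u, u', d⟩ h
    rw [hΦ] at h
    have h1 : ((u : V) + (u' : V)) + (N (u' : V) + (d : V)) = 0 := by
      rw [← h, hTN (u' : V)]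
      abel
    have hk : N (u' : V) + (d : V) ∈ LinearMap.ker N :=
      (LinearMap.ker N).add_mem (hIK ⟨_, rfl⟩) (hDK d.2)
    have hc : (u : V) + (u' : V) ∈ C := C.add_mem u.2 u'.2
    have h2 : (u : V) + (u' : V) = N (u' : V) + (d : V) := by
      rw [eq_neg_of_add_eq_zero_left h1, hneg]
    have h3 : (u : V) + (u' : V) = 0 := hKC _ (by rw [h2]; exact hk) hc
    have h4 : N (u' : V) + (d : V) = 0 := by rw [← h2]; exact h3
    have h5 : N (u' : V) = (d : V) := by
      rw [eq_neg_of_add_eq_zero_left h4, hneg]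
    have h6 : (d : V) = 0 := hID _ (by rw [← h5]; exact ⟨_, rfl⟩) d.2
    have h7 : N (u' : V) = 0 := h5.trans h6
    have h8 : (u' : V) = 0 := hKC _ h7 u'.2
    have h9 : (u : V) = 0 := by
      rw [h8, add_zero] at h3
      exact h3
    exact Prod.ext (Subtype.ext h9) (Prod.ext (Subtype.ext h8) (Subtype.ext h6))
  have hsurj : Function.Surjective Φ := by
    intro v
    obtain ⟨k, hk, c, hc, rfl⟩ := hdecV v
    obtain ⟨n, hn, d, hd, rfl⟩ := hdecK k hk
    obtain ⟨w, rfl⟩ := hn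
    obtain ⟨k2, hk2, c2, hc2, rfl⟩ := hdecV w
    refine ⟨(⟨c + c2, C.add_mem hc hc2⟩, (⟨c2, hc2⟩, ⟨d, hd⟩)), ?_⟩
    rw [hΦ]
    show (c + c2) + (ρ g₀ c2 + d) = N (k2 + c2) + d + c
    rw [map_add, (LinearMap.mem_ker.mp hk2), zero_add, hTN c2]
    have e : (c + c2) + ((c2 + N c2) + d) = (c2 + c2) + (N c2 + d + c) := by abel
    rw [e, hselfV, zero_add]
  let e : (C × (C × D)) ≃ₗ[ZMod 2] V := LinearEquiv.ofBijective Φ ⟨hinj, hsurj⟩
  let bC := Module.Free.chooseBasis (ZMod 2) C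
  let bD := Module.Free.chooseBasis (ZMod 2) D
  let b := (bC.prod (bC.prod bD)).map e
  have hb1 : ∀ i, b (Sum.inl i) = (bC i : V) := by
    intro i
    show Φ ((bC.prod (bC.prod bD)) (Sum.inl i)) = _
    have : (bC.prod (bC.prod bD)) (Sum.inl i) = (bC i, (0, 0)) := by
      ext <;> simp
    rw [this, hΦ]
    simp
  have hb2 : ∀ i, b (Sum.inr (Sum.inl i)) = ρ g₀ (bC i : V) := by
    intro i
    show Φ ((bC.prod (bC.prod bD)) (Sum.inr (Sum.inl i))) = _
    have : (bC.prod (bC.prod bD)) (Sum.inr (Sum.inl i)) = (0, (bC i, 0)) := by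
      ext <;> simp
    rw [this, hΦ]
    simp
  have hb3 : ∀ j, b (Sum.inr (Sum.inr j)) = (bD j : V) := by
    intro j
    show Φ ((bC.prod (bC.prod bD)) (Sum.inr (Sum.inr j))) = _
    have : (bC.prod (bC.prod bD)) (Sum.inr (Sum.inr j)) = (0, (0, bD j)) := by
      ext <;> simp
    rw [this, hΦ]
    simp
  refine Groth.Agent.S18548.result G V ρ _ b ?_
  intro g i
  rcases hall g with rfl | rfl
  · exact ⟨i, by rw [map_one, Module.End.one_apply]⟩
  · rcases i with i | i | j
    · exact ⟨Sum.inr (Sum.inl i), by rw [hb1, hb2]⟩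
    · exact ⟨Sum.inl i, by rw [hb1, hb2, hTT]⟩
    · refine ⟨Sum.inr (Sum.inr j), ?_⟩
      rw [hb3, hTN, LinearMap.mem_ker.mp (hDK (bD j).2), add_zero]

end Groth.Agent.S18549
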