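import Groth.Statements.S18550
import Mathlib.Tactic
import Mathlib.Algebra.Homology.DerivedCategory.TStructure
import Mathlib.Algebra.Homology.DerivedCategory.FullyFaithful
import Mathlib.Algebra.Homology.DerivedCategory.HomologySequence
import Mathlib.CategoryTheory.Triangulated.TStructure.TruncLEGT

set_option autoImplicit false
open CategoryTheory Limits
universe w v u
open CohDer

namespace Groth.Agent.S18550

open DerivedCategory Pretriangulated

variable {A : Type u} [Category.{v} A] [Abelian A] [HasDerivedCategory.{w} A]

/-- An endomorphism of an object concentrated in one degree which is zero on cohomology is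
zero. -/
theorem base (X : DerivedCategory A) (a : ℤ) [X.IsGE a] [X.IsLE a] (f : X ⟶ X)
    (hf : (homologyFunctor A a).map f = 0) : f = 0 := by
  obtain ⟨Y, ⟨e⟩⟩ := exists_iso_singleFunctor_obj_of_isGE_of_isLE X a
  set f' : (singleFunctor A a).obj Y ⟶ (singleFunctor A a).obj Y := e.inv ≫ f ≫ e.hom with hf'
  obtain ⟨φ, hφ⟩ := (singleFunctor A a).map_surjective f'
  have h1 : (homologyFunctor A a).map f' = 0 := by
    rw [hf', Functor.map_comp, Functor.map_comp, hf, zero_comp, comp_zero]
  have h2 : φ = 0 := by
    have := NatIso.naturality_1 (singleFunctorCompHomologyFunctorIso A a) φ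
    rw [Functor.comp_map, hφ, h1, zero_comp, comp_zero] at this
    exact this.symm
  have h3 : f' = 0 := by rw [← hφ, h2, Functor.map_zero]
  have h4 : f = e.hom ≫ f' ≫ e.inv := by simp [hf']
  rw [h4, h3, zero_comp, comp_zero]

theorem main : ∀ (n : ℕ) (X : DerivedCategory A) (a : ℤ) [X.IsGE a] [X.IsLE (a + n)]
    (f : CategoryTheory.End X),
    (∀ i : ℤ, (homologyFunctor A i).map f = 0) → f ^ (n + 1) = 0 := by
  intro n
  induction n with
  | zero =>
    intro X a _ hle f hf
    have : X.IsLE a := by simpa using hle
    rw [zero_add, pow_one]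
    exact base X a f (hf a)
  | succ n ih =>
    intro X a _ hle f hf
    let t : Triangulated.TStructure (DerivedCategory A) := DerivedCategory.TStructure.t
    let Y := (t.truncGT a).obj X
    let Z := (t.truncLE a).obj X
    let π : X ⟶ Y := (t.truncGTπ a).app X
    let ι : Z ⟶ X := (t.truncLEι a).app X
    let T := (t.triangleLEGT a).obj X
    have hT : T ∈ distTriang _ := t.triangleLEGT_distinguished a X
    let fY : CategoryTheory.End Y := (t.truncGT a).map f
    let fZ : CategoryTheory.End Z := (t.truncLE a).map f
    have natπ : f ≫ π = π ≫ fY := (t.truncGTπ a).naturality f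
    have natι : fZ ≫ ι = ι ≫ f := (t.truncLEι a).naturality f
    have hYge : Y.IsGE (a + 1) := by dsimp [Y]; infer_instance
    have hYle : Y.IsLE (a + 1 + n) := by
      have h : a + 1 + (n : ℤ) = a + ((n + 1 : ℕ) : ℤ) := by push_cast; ring
      rw [h]
      show ((t.truncGT a).obj X).IsLE (a + ((n + 1 : ℕ) : ℤ))
      infer_instance
    have hZle : Z.IsLE a := by dsimp [Z]; infer_instance
    have hZge : Z.IsGE a := by dsimp [Z]; infer_instance
    have hfY : ∀ i, (homologyFunctor A i).map fY = 0 := by
      intro i
      by_cases hi : i ≤ a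
      · apply IsZero.eq_of_src
        exact isZero_of_isGE Y (a + 1) i (by omega)
      · have hepi : Epi ((homologyFunctor A i).map π) := by
          have := (HomologySequence.epi_homologyMap_mor₂_iff T hT i (i + 1) rfl).2
            (IsZero.eq_of_tgt (isZero_of_isLE Z a (i + 1) (by omega)) _ _)
          exact this
        rw [← cancel_epi ((homologyFunctor A i).map π), ← Functor.map_comp, ← natπ,
          Functor.map_comp, hf i, zero_comp, comp_zero]
    have hfZ : ∀ i, (homologyFunctor A i).map fZ = 0 := by
      intro i
      by_cases hi : a < i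
      · apply IsZero.eq_of_src
        exact isZero_of_isLE Z a i hi
      · have hmono : Mono ((homologyFunctor A i).map ι) := by
          have := (HomologySequence.mono_homologyMap_mor₁_iff T hT (i - 1) i (by omega)).2
            (IsZero.eq_of_src (isZero_of_isGE Y (a + 1) (i - 1) (by omega)) _ _)
          exact this
        rw [← cancel_mono ((homologyFunctor A i).map ι), ← Functor.map_comp, natι,
          Functor.map_comp, hf i, comp_zero, zero_comp]
    have hY : fY ^ (n + 1) = 0 := ih Y (a + 1) fY hfY
    have hZ : fZ = 0 := base Z a fZ (hfZ a)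
    have hpow : ∀ k : ℕ, (f ^ k : CategoryTheory.End X) ≫ π = π ≫ (fY ^ k : CategoryTheory.End Y) := by
      intro k
      induction k with
      | zero =>
        rw [pow_zero, pow_zero, End.one_def, End.one_def, Category.id_comp, Category.comp_id]
      | succ k ihk =>
        rw [pow_succ', pow_succ', End.mul_def, End.mul_def, Category.assoc, natπ,
          ← Category.assoc, ihk, Category.assoc]
    have h1 : (f ^ (n + 1) : CategoryTheory.End X) ≫ π = 0 := by
      rw [hpow, hY, comp_zero]
    obtain ⟨g', hg'⟩ := Triangle.coyoneda_exact₂ T hT (f ^ (n + 1) : CategoryTheory.End X) h1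
    have hg'' : (f ^ (n + 1) : CategoryTheory.End X) = g' ≫ ι := hg'
    rw [pow_succ', End.mul_def, hg'']
    have hZ' : (fZ : Z ⟶ Z) = (0 : Z ⟶ Z) := hZ
    calc (g' ≫ ι) ≫ f = g' ≫ (ι ≫ f) := Category.assoc _ _ _
      _ = g' ≫ ((fZ : Z ⟶ Z) ≫ ι) := congrArg (fun m => g' ≫ m) natι.symm
      _ = g' ≫ ((0 : Z ⟶ Z) ≫ ι) := congrArg (fun m : Z ⟶ Z => g' ≫ (m ≫ ι)) hZ'
      _ = 0 := by
        have h0 : ((0 : Z ⟶ Z) ≫ ι) = 0 := Limits.zero_comp
        have h1 : g' ≫ (0 : Z ⟶ X) = 0 := Limits.comp_zero
        exact (congrArg (fun m => g' ≫ m) h0).trans h1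


/-- Let A be an abelian category, X an object of its derived category whose cohomology objects H^i(X)
are zero for all integers i outside the interval [a, a + n], and f : X → X an endomorphism in the
derived category such that H^i(f) = 0 for every i. Then f^(n+1) = 0. (The source works in the
bounded derived category; the statement in D(A) for an object with cohomology bounded in this way is
the same assertion, the bounded derived category being a full subcategory.) -/
theorem result (A : Type u) [Category.{v} A] [Abelian A]
    [HasDerivedCategory.{w} A] (X : DerivedCategory A) (a : ℤ) (n : ℕ)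
    (hX : ∀ i : ℤ, i < a ∨ a + n < i → IsZero ((DerivedCategory.homologyFunctor A i).obj X))
    (f : CategoryTheory.End X) (hf : ∀ i : ℤ, (DerivedCategory.homologyFunctor A i).map f = 0) :
    f ^ (n + 1) = 0 := by
  have hge : X.IsGE a := (DerivedCategory.isGE_iff X a).2 (fun i hi => hX i (Or.inl hi))
  have hle : X.IsLE (a + n) := (DerivedCategory.isLE_iff X (a + n)).2 (fun i hi => hX i (Or.inr hi))
  exact main n X a f hf

end Groth.Agent.S18550
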