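import Groth.Statements.S18560
import Mathlib.Tactic

set_option autoImplicit false
universe u v
open PtQuiv

namespace Groth.Agent.S18560

/-- Let K be a field and s i ∈ K² (i in a finite index type) nonzero vectors, regarded as a
representation of the quiver with a central vertex carrying the plane and one vertex per i carrying
a line that maps to the plane by 1 ↦ s i. For a weight θ in the hypersimplex (0 ≤ θ i ≤ 1, Σ θ i =
2, central weight -1) the representation is θ-semistable if and only if, for every vector v, the
indices i with s i on the line K ∙ v have total weight at most 1. (The published statement is over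
an algebraically closed field, assumes semistability for some interior weight instead of s i ≠ 0,
and phrases the bound through the classes of pairwise proportional s i; any field is allowed here.
Its further assertion that the bounding walls, where the total weight of one proportionality class
equals 1, do not meet in the interior of the hypersimplex is not part of this row.) -/
theorem result (K : Type u) [Field K] (ι : Type v) [Fintype ι]
    (s : ι → (Fin 2 → K)) (hs : ∀ i, s i ≠ 0) (θ : ι → ℚ) (h0 : ∀ i, 0 ≤ θ i)
    (h1 : ∀ i, θ i ≤ 1) (h2 : ∑ i, θ i = 2) :
    PtQuiv.QSemistable (-1) θ s ↔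
      ∀ (J : Finset ι) (v : Fin 2 → K), (∀ i ∈ J, s i ∈ K ∙ v) → ∑ i ∈ J, θ i ≤ 1 := by
  constructor
  · rintro ⟨-, h⟩ J v hJ
    have hsub : PtQuiv.QSubrep s (K ∙ v) J := hJ
    have := h (K ∙ v) J hsub
    unfold PtQuiv.QWt at this
    have hle : Module.finrank K (K ∙ v) ≤ 1 := by
      have := finrank_span_le_card (R := K) ({v} : Set (Fin 2 → K))
      simpa using this
    have hle' : (Module.finrank K (K ∙ v) : ℚ) ≤ 1 := by exact_mod_cast hle
    linarith
  · intro h
    refine ⟨by rw [h2]; norm_num, ?_⟩
    intro L I hLI
    unfold PtQuiv.QWt
    have hI : ∑ i ∈ I, θ i ≤ 2 := by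
      rw [← h2]
      exact Finset.sum_le_sum_of_subset_of_nonneg (Finset.subset_univ I) (fun i _ _ => h0 i)
    have hfr : Module.finrank K L ≤ 2 := by
      have := Submodule.finrank_le L
      simpa using this
    rcases Nat.lt_or_ge (Module.finrank K L) 1 with h0' | h1'
    · -- finrank 0
      have hL : L = ⊥ := by
        have : Module.finrank K L = 0 := by omega
        exact Submodule.finrank_eq_zero.mp this
      have hIe : I = ∅ := by
        by_contra hne
        obtain ⟨i, hi⟩ := Finset.nonempty_iff_ne_empty.mpr hne
        have := hLI i hi
        rw [hL, Submodule.mem_bot] at this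
        exact hs i this
      subst hIe
      rw [hL]
      simp
    · rcases Nat.lt_or_ge (Module.finrank K L) 2 with h2' | h2'
      · -- finrank 1
        have h1 : Module.finrank K L = 1 := by omega
        obtain ⟨v, hv⟩ := finrank_eq_one_iff'.mp h1
        have hLv : ∀ x ∈ L, x ∈ K ∙ (v : Fin 2 → K) := by
          intro x hx
          obtain ⟨c, hc⟩ := hv.2 ⟨x, hx⟩
          rw [Submodule.mem_span_singleton]
          refine ⟨c, ?_⟩
          have := congrArg Subtype.val hc
          simpa using this
        have := h I (v : Fin 2 → K) (fun i hi => hLv _ (hLI i hi))
        rw [h1]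
        push_cast
        linarith
      · have h2'' : Module.finrank K L = 2 := le_antisymm hfr h2'
        rw [h2'']
        push_cast
        linarith

end Groth.Agent.S18560
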