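import Groth.Statements.S18561
import Mathlib.Tactic

set_option autoImplicit false
universe u v
open PtQuiv

namespace Groth.Agent.S18561

/-- Let K be a field and s i ∈ K² (i in a finite index type) nonzero vectors, regarded as a
representation of the quiver with a central vertex carrying the plane and one vertex per i carrying
a line mapping to the plane by 1 ↦ s i. Then the representation is stable for some weight of the
hypersimplex (0 ≤ θ i ≤ 1, Σ θ i = 2, central weight -1) if and only if the s i fall into at least
three proportionality classes, i.e. three of them are pairwise non-proportional. (The published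
statement is over an algebraically closed field and assumes semistability for some interior weight
instead of s i ≠ 0; any field is allowed here. Its further assertions, that the set of semistability
weights is full-dimensional exactly in this case and is a wall otherwise, are not part of this row.) -/
theorem result (K : Type u) [Field K] (ι : Type v)
    [Fintype ι] (s : ι → (Fin 2 → K)) (hs : ∀ i, s i ≠ 0) :
    (∃ θ : ι → ℚ, (∀ i, 0 ≤ θ i) ∧ (∀ i, θ i ≤ 1) ∧ ∑ i, θ i = 2 ∧ PtQuiv.QStable (-1) θ s) ↔
      ∃ i j k : ι, s i ∉ K ∙ s j ∧ s j ∉ K ∙ s k ∧ s i ∉ K ∙ s k := by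
  classical
  -- two nonzero vectors in a line are proportional
  have hline : ∀ (L : Submodule K (Fin 2 → K)), Module.finrank K L = 1 →
      ∀ x y : Fin 2 → K, x ∈ L → y ∈ L → y ≠ 0 → x ∈ K ∙ y := by
    intro L hL x y hx hy hy0
    obtain ⟨v, hv⟩ := finrank_eq_one_iff'.mp hL
    obtain ⟨a, ha⟩ := hv.2 ⟨x, hx⟩
    obtain ⟨b, hb⟩ := hv.2 ⟨y, hy⟩
    have ha' : a • (v : Fin 2 → K) = x := by simpa using congrArg Subtype.val ha
    have hb' : b • (v : Fin 2 → K) = y := by simpa using congrArg Subtype.val hb
    have hb0 : b ≠ 0 := by
      rintro rfl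
      rw [zero_smul] at hb'
      exact hy0 hb'.symm
    rw [Submodule.mem_span_singleton]
    refine ⟨a * b⁻¹, ?_⟩
    rw [← hb', smul_smul, mul_assoc, inv_mul_cancel₀ hb0, mul_one, ha']
  have hfr1 : ∀ v : Fin 2 → K, v ≠ 0 → Module.finrank K (K ∙ v) = 1 :=
    fun v hv => finrank_span_singleton hv
  have hfrtop : Module.finrank K (Fin 2 → K) = 2 := by simp
  constructor
  · rintro ⟨θ, h0, h1, h2, ⟨-, hss⟩, hst⟩
    by_contra hcon
    push Not at hcon
    have hne : Nonempty ι := by
      by_contra hemp
      rw [not_nonempty_iff] at hemp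
      simp at h2
    obtain ⟨i0⟩ := hne
    set I1 : Finset ι := Finset.univ.filter (fun i => s i ∈ K ∙ s i0) with hI1
    have hsub1 : PtQuiv.QSubrep s (K ∙ s i0) I1 := by
      intro i hi
      exact (Finset.mem_filter.mp hi).2
    have hw1 := hss _ _ hsub1
    unfold PtQuiv.QWt at hw1
    rw [hfr1 _ (hs i0)] at hw1
    push_cast at hw1
    by_cases hall : ∀ j, s j ∈ K ∙ s i0
    · have : I1 = Finset.univ := by
        ext i; simp [hI1, hall i]
      rw [this, h2] at hw1
      norm_num at hw1
    · push Not at hall
      obtain ⟨j, hj⟩ := hall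
      set I2 : Finset ι := Finset.univ.filter (fun i => s i ∈ K ∙ s j) with hI2
      have hsub2 : PtQuiv.QSubrep s (K ∙ s j) I2 := by
        intro i hi
        exact (Finset.mem_filter.mp hi).2
      have hw2 := hss _ _ hsub2
      unfold PtQuiv.QWt at hw2
      rw [hfr1 _ (hs j)] at hw2
      push_cast at hw2
      have hunion : I1 ∪ I2 = Finset.univ := by
        ext k
        simp only [Finset.mem_union, Finset.mem_univ, iff_true, hI1, hI2, Finset.mem_filter,
          true_and]
        by_contra hk
        push Not at hk
        exact hk.1 (hcon k j i0 hk.2 hj)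
      have hdisj : Disjoint I1 I2 := by
        rw [Finset.disjoint_left]
        intro k hk1 hk2
        have h1' := (Finset.mem_filter.mp hk1).2
        have h2' := (Finset.mem_filter.mp hk2).2
        apply hj
        -- s j ∈ K ∙ s k ⊆ K ∙ s i0
        have hjk : s j ∈ K ∙ s k :=
          hline (K ∙ s j) (hfr1 _ (hs j)) (s j) (s k) (Submodule.mem_span_singleton_self _) h2'
            (hs k)
        obtain ⟨a, ha⟩ := Submodule.mem_span_singleton.mp hjk
        rw [← ha]
        exact Submodule.smul_mem _ _ h1'
      have hsum : ∑ i ∈ I1, θ i + ∑ i ∈ I2, θ i = 2 := by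
        rw [← Finset.sum_union hdisj, hunion, h2]
      have hw1' : ∑ i ∈ I1, θ i = 1 := by linarith
      have hzero : PtQuiv.QWt K (-1) θ (K ∙ s i0) I1 = 0 := by
        unfold PtQuiv.QWt
        rw [hfr1 _ (hs i0), hw1']
        norm_num
      rcases hst _ _ hsub1 hzero with ⟨hbot, -⟩ | ⟨htop, -⟩
      · have := Submodule.mem_span_singleton_self (R := K) (s i0)
        rw [hbot, Submodule.mem_bot] at this
        exact hs i0 this
      · have := hfr1 _ (hs i0)
        rw [htop, finrank_top, hfrtop] at this
        norm_num at this
  · rintro ⟨i, j, k, hij, hjk, hik⟩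
    have hij' : i ≠ j := by
      rintro rfl; exact hij (Submodule.mem_span_singleton_self _)
    have hjk' : j ≠ k := by
      rintro rfl; exact hjk (Submodule.mem_span_singleton_self _)
    have hik' : i ≠ k := by
      rintro rfl; exact hik (Submodule.mem_span_singleton_self _)
    set n : ℕ := Fintype.card ι with hn
    have hn3 : 3 ≤ n := by
      have : ({i, j, k} : Finset ι).card = 3 := Finset.card_eq_three.mpr ⟨i, j, k, hij', hik', hjk', rfl⟩
      rw [← this, hn]
      exact Finset.card_le_univ _
    have hnpos : (0 : ℚ) < n := by exact_mod_cast (by omega : 0 < n)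
    set ε : ℚ := 1 / (4 * n) with hε
    set δ : ℚ := 7 / 12 with hδ
    have hεpos : 0 < ε := by rw [hε]; positivity
    have hnε : (n : ℚ) * ε = 1 / 4 := by rw [hε]; field_simp
    have hεle : ε ≤ 1 / 12 := by
      have : (3 : ℚ) ≤ n := by exact_mod_cast hn3
      nlinarith
    set θ : ι → ℚ := fun l => ε + (if l = i ∨ l = j ∨ l = k then δ else 0) with hθ
    have hθpos : ∀ l, 0 < θ l := by
      intro l
      simp only [hθ]
      split_ifs <;> [(rw [hδ]; linarith); linarith]
    have hsumI : ∀ I : Finset ι, ∑ l ∈ I, θ l =
        (I.card : ℚ) * ε + δ * ((I.filter (fun l => l = i ∨ l = j ∨ l = k)).card : ℚ) := by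
      intro I
      simp only [hθ]
      rw [Finset.sum_add_distrib, Finset.sum_const, nsmul_eq_mul, Finset.sum_ite, Finset.sum_const,
        Finset.sum_const_zero, add_zero, nsmul_eq_mul]
      ring
    have hT : (Finset.univ.filter (fun l => l = i ∨ l = j ∨ l = k)).card = 3 := by
      have : Finset.univ.filter (fun l => l = i ∨ l = j ∨ l = k) = {i, j, k} := by
        ext l; simp
      rw [this]
      exact Finset.card_eq_three.mpr ⟨i, j, k, hij', hik', hjk', rfl⟩
    have hsum2 : ∑ l, θ l = 2 := by
      rw [hsumI, hT, Finset.card_univ, ← hn, hnε, hδ]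
      norm_num
    refine ⟨θ, fun l => (hθpos l).le, ?_, hsum2, ?_⟩
    · intro l
      simp only [hθ]
      split_ifs <;> [(rw [hδ]; linarith); linarith]
    -- key estimate for lines
    have hlineWt : ∀ (L : Submodule K (Fin 2 → K)) (I : Finset ι), PtQuiv.QSubrep s L I →
        Module.finrank K L = 1 → ∑ l ∈ I, θ l < 1 := by
      intro L I hLI hL
      have hprop : ∀ x y, x ∈ I → y ∈ I → s x ∈ K ∙ s y := fun x y hx hy =>
        hline L hL (s x) (s y) (hLI x hx) (hLI y hy) (hs y)
      have hcard : (I.filter (fun l => l = i ∨ l = j ∨ l = k)).card ≤ 1 := by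
        rw [Finset.card_le_one]
        intro a ha b hb
        rw [Finset.mem_filter] at ha hb
        obtain ⟨haI, ha⟩ := ha
        obtain ⟨hbI, hb⟩ := hb
        rcases ha with rfl | rfl | rfl <;> rcases hb with rfl | rfl | rfl
        · rfl
        · exact absurd (hprop _ _ haI hbI) hij
        · exact absurd (hprop _ _ haI hbI) hik
        · exact absurd (hprop _ _ hbI haI) hij
        · rfl
        · exact absurd (hprop _ _ haI hbI) hjk
        · exact absurd (hprop _ _ hbI haI) hik
        · exact absurd (hprop _ _ hbI haI) hjk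
        · rfl
      rw [hsumI]
      have h1 : (I.card : ℚ) ≤ n := by
        rw [hn]; exact_mod_cast Finset.card_le_univ I
      have h2 : ((I.filter (fun l => l = i ∨ l = j ∨ l = k)).card : ℚ) ≤ 1 := by
        exact_mod_cast hcard
      have h3 : (I.card : ℚ) * ε ≤ 1 / 4 := by
        rw [← hnε]; exact mul_le_mul_of_nonneg_right h1 hεpos.le
      rw [hδ]
      nlinarith
    have hwt : ∀ (L : Submodule K (Fin 2 → K)) (I : Finset ι), PtQuiv.QSubrep s L I →
        PtQuiv.QWt K (-1) θ L I ≤ 0 ∧ (PtQuiv.QWt K (-1) θ L I = 0 →
          (L = ⊥ ∧ I = ∅) ∨ (L = ⊤ ∧ I = Finset.univ)) := by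
      intro L I hLI
      unfold PtQuiv.QWt
      have hfr : Module.finrank K L ≤ 2 := by
        have := Submodule.finrank_le L
        rwa [hfrtop] at this
      have hIle : ∑ l ∈ I, θ l ≤ 2 := by
        rw [← hsum2]
        exact Finset.sum_le_sum_of_subset_of_nonneg (Finset.subset_univ I)
          (fun l _ _ => (hθpos l).le)
      interval_cases hfrL : Module.finrank K L
      · have hL : L = ⊥ := Submodule.finrank_eq_zero.mp hfrL
        have hIe : I = ∅ := by
          by_contra hne
          obtain ⟨l, hl⟩ := Finset.nonempty_iff_ne_empty.mpr hne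
          have := hLI l hl
          rw [hL, Submodule.mem_bot] at this
          exact hs l this
        subst hIe
        simp [hL]
      · have := hlineWt L I hLI hfrL
        constructor
        · push_cast; linarith
        · intro h; push_cast at h; linarith
      · have hL : L = ⊤ := Submodule.eq_top_of_finrank_eq (by rw [hfrL, hfrtop])
        constructor
        · push_cast; linarith
        · intro h
          right
          refine ⟨hL, ?_⟩
          by_contra hne
          obtain ⟨l, hl⟩ : ∃ l, l ∉ I := by
            by_contra hcon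
            push Not at hcon
            exact hne (Finset.eq_univ_iff_forall.mpr hcon)
          have hlt : ∑ l ∈ I, θ l < ∑ l, θ l := by
            apply Finset.sum_lt_sum_of_subset (Finset.subset_univ I) (Finset.mem_univ l) hl
              (hθpos l) (fun m _ _ => (hθpos m).le)
          rw [hsum2] at hlt
          push_cast at h
          linarith
    refine ⟨⟨by rw [hsum2]; norm_num, fun L I hLI => (hwt L I hLI).1⟩,
      fun L I hLI h => (hwt L I hLI).2 h⟩

end Groth.Agent.S18561
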