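import Groth.Statements.S18564
import Groth.Agent.Lib.Helper12GPKeyA

set_option autoImplicit false
universe u
open CategoryTheory CategoryTheory.Limits AlgebraicGeometry
open ParSh

namespace Groth.Agent.S18564

open Groth.Agent.Lib.Helper12.GPKey in
theorem main (k : Type u) [Field k] (X : Scheme.{u}) [X.Over (Spec (CommRingCat.of k))]
    [AlgebraicGeometry.IsIntegral X] [IsProper (X ↘ Spec (CommRingCat.of k))]
    (hdim : topologicalKrullDim X = 1)
    (I : X.IdealSheafData) (hD : FGA.IsEffCartier I) (α : ℝ) (hα0 : 0 ≤ α) (hα1 : α < 1)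
    {E F : X.Modules} (n : ℕ) (hE : FlatMod.IsFinLocFreeOfRank n E) (hF : FlatMod.IsFinLocFreeOfRank n F)
    (F₁ : Submodule k (ParSh.fibD X I E)) (F₁' : Submodule k (ParSh.fibD X I F))
    (f : E ⟶ F) [Mono f] (hf : ParSh.IsGPHom k X I F₁ F₁' f) :
    ParSh.gpDeg k X α E F₁ n ≤ ParSh.gpDeg k X α F F₁' n ∧
      (ParSh.gpDeg k X α E F₁ n = ParSh.gpDeg k X α F F₁' n ↔
        (IsIso f ∧ (0 < α → Submodule.map (ParSh.fibDMap k X I f) F₁ = F₁'))) := by
  have zE : ZD X (ParSh.resD I E) := zd_resD k X hdim I hD E n hE
  have zF : ZD X (ParSh.resD I F) := zd_resD k X hdim I hD F n hF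
  haveI : Module.Finite k (ParSh.fibD X I E) := Groth.Agent.S0002.result k X _ zE.1 0
  haveI : Module.Finite k (ParSh.fibD X I F) := Groth.Agent.S0002.result k X _ zF.1 0
  unfold ParSh.gpDeg ParSh.gpWt
  set φ := ParSh.fibDMap k X I f with hφ
  set dE : ℤ := Curv2.deg k X E n with hdE
  set dF : ℤ := Curv2.deg k X F n with hdF
  set e : ℕ := Module.finrank k F₁ with he
  set e' : ℕ := Module.finrank k F₁' with he'
  set c : ℕ := Module.finrank k (F₁'.comap φ) with hc
  have hle : F₁ ≤ F₁'.comap φ := Submodule.map_le_iff_le_comap.1 hf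
  have hec : e ≤ c := Submodule.finrank_mono hle
  have hkey : dE + (c : ℤ) ≤ dF + (e' : ℤ) := deg_add_finrank_induced_le k X hdim I hD n hE hF f F₁'
  have hker : (Module.finrank k (LinearMap.ker φ) : ℤ) ≤ dF - dE :=
    finrank_ker_fibDMap_le k X hdim I hD n hE hF f
  have hdeg : dE ≤ dF := by
    have : (0 : ℤ) ≤ (Module.finrank k (LinearMap.ker φ) : ℤ) := Int.natCast_nonneg _
    linarith
  have hec' : (e : ℝ) ≤ c := by exact_mod_cast hec
  have hkey' : (dE : ℝ) + c ≤ dF + e' := by exact_mod_cast hkey
  have hdeg' : (dE : ℝ) ≤ dF := by exact_mod_cast hdeg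
  have hβ : 0 < 1 - α := by linarith
  have hmain : (dE : ℝ) + α * e ≤ dF + α * e' := by nlinarith
  have hinj_of : dE = dF → Function.Injective φ := by
    intro h1
    have hk0 : Module.finrank k (LinearMap.ker φ) = 0 := by
      have h2 : (Module.finrank k (LinearMap.ker φ) : ℤ) ≤ 0 := by linarith
      have h3 : Module.finrank k (LinearMap.ker φ) ≤ 0 := by exact_mod_cast h2
      omega
    rw [← LinearMap.ker_eq_bot]
    exact Submodule.finrank_eq_zero.1 hk0
  refine ⟨hmain, ⟨fun heq => ?_, fun ⟨hiso, hmap⟩ => ?_⟩⟩
  · have heq' : (dE : ℝ) + α * e = dF + α * e' := heq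
    have h1 : (dE : ℝ) = dF := by nlinarith
    have h1' : dE = dF := by exact_mod_cast h1
    have hiso : IsIso f :=
      Groth.Agent.Lib.Helper4.CurveBun.isIso_of_mono_of_rank_deg k X hdim f n hE hF h1'
    refine ⟨hiso, fun hα => ?_⟩
    have h2 : (e : ℝ) = e' := by
      have h3 : α * (e : ℝ) = α * e' := by linarith
      exact mul_left_cancel₀ hα.ne' h3
    have h2' : e = e' := by exact_mod_cast h2
    have hinj := hinj_of h1'
    have h4 : Module.finrank k (F₁.map φ) = e :=
      (Submodule.equivMapOfInjective φ hinj F₁).symm.finrank_eq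
    exact Submodule.eq_of_le_of_finrank_eq hf (by rw [h4, h2'])
  · haveI := hiso
    have h1 : dE = dF := by
      rw [hdE, hdF]
      unfold Curv2.deg
      rw [Groth.Agent.Lib.Helper4.CurveChi.euler_congr_iso k (asIso f)]
    have h1' : (dE : ℝ) = dF := by exact_mod_cast h1
    rcases hα0.eq_or_lt with h0 | hpos
    · rw [← h0, zero_mul, zero_mul, h1']
    · have hinj := hinj_of h1
      have h4 : Module.finrank k (F₁.map φ) = e :=
        (Submodule.equivMapOfInjective φ hinj F₁).symm.finrank_eq
      have h5 : e = e' := by rw [← h4, hmap hpos]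
      rw [h1', h5]



/-- Let Y be a smooth proper integral curve (integral, smooth and proper over k, of dimension one) over
an algebraically closed field k, D an effective Cartier divisor on Y with ideal I, and α a real
weight with 0 ≤ α < 1. A generalised parabolic structure on a finite locally free O_Y-module E is a
k-linear subspace F₁ of H⁰(Y, E ⊗ O_D); its parabolic degree in rank n is deg E + α·dim_k F₁ (deg E
= χ(E) − n·χ(O_Y)); a homomorphism f : E → E' is parabolic when the induced k-linear map H⁰(E ⊗ O_D)
→ H⁰(E' ⊗ O_D) carries F₁ into F₁'; a submodule G → E gets the preimage structure and (E, F₁) is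
semistable (stable) when deg(G, preimage) · n ≤ (<) deg(E, F₁) · r for every finite locally free
submodule G of rank r ≥ 1 (with r < n for stability). Let E and F be finite locally free of the same
rank n ≥ 1 with structures F₁ and F₁', and f : E → F a parabolic monomorphism (a monomorphism
between modules of equal rank, that is, a generic isomorphism). Then the parabolic degree of (E, F₁)
is at most that of (F, F₁'), and equality holds if and only if f is an isomorphism of O_Y-modules
which, when α > 0, also maps F₁ onto F₁'. The published statement asks in the equality case for an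
isomorphism of generalised parabolic bundles (an isomorphism of modules mapping F₁ onto F₁') at
every weight 0 ≤ α < 1; at α = 0 this fails, since the identity of O_Y, from the zero structure to
all of H⁰(O_D) with D a single point, has equal parabolic degrees on both sides without being one,
while the published proof shows only that the cokernel vanishes; so the condition on F₁ is asked
here only for α > 0. The published statement is also set on the normalisation of a singular curve
with D lying over its singular points; neither is used. -/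
theorem result (k : Type u) [Field k] [IsAlgClosed k] (X : Scheme.{u}) [X.Over (Spec (CommRingCat.of k))]
    [AlgebraicGeometry.IsIntegral X] [IsProper (X ↘ Spec (CommRingCat.of k))] [Smooth (X ↘ Spec (CommRingCat.of k))]
    (hdim : topologicalKrullDim X = 1)
    (I : X.IdealSheafData) (hD : FGA.IsEffCartier I) (α : ℝ) (hα0 : 0 ≤ α) (hα1 : α < 1)
    {E F : X.Modules} (n : ℕ) (hn : 0 < n) (hE : FlatMod.IsFinLocFreeOfRank n E) (hF : FlatMod.IsFinLocFreeOfRank n F)
    (F₁ : Submodule k (ParSh.fibD X I E)) (F₁' : Submodule k (ParSh.fibD X I F))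
    (f : E ⟶ F) [Mono f] (hf : ParSh.IsGPHom k X I F₁ F₁' f) :
    ParSh.gpDeg k X α E F₁ n ≤ ParSh.gpDeg k X α F F₁' n ∧
      (ParSh.gpDeg k X α E F₁ n = ParSh.gpDeg k X α F F₁' n ↔
        (IsIso f ∧ (0 < α → Submodule.map (ParSh.fibDMap k X I f) F₁ = F₁'))) := by
  exact main k X hdim I hD α hα0 hα1 n hE hF F₁ F₁' f hf

end Groth.Agent.S18564
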