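import Groth.Statements.S18565
import Groth.Agent.Lib.Helper12GPKeyB
import Groth.Agent.Lib.Helper4CurveSat2
import Groth.Agent.S18564

set_option autoImplicit false
universe u
open CategoryTheory CategoryTheory.Limits AlgebraicGeometry
open ParSh

namespace Groth.Agent.S18565


open Groth.Agent.Lib.Helper12.GPKey Groth.Agent.Lib.Helper12.GPKeyB
  Groth.Agent.Lib.Helper4.CurveBun Groth.Agent.Lib.Helper4.CurveStab Groth.Agent.Lib.Helper4.Dev in
theorem main (k : Type u) [Field k] (X : Scheme.{u}) [X.Over (Spec (CommRingCat.of k))]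
    [AlgebraicGeometry.IsIntegral X] [IsProper (X ↘ Spec (CommRingCat.of k))]
    (hpid : PIDStalks X) (hdim : topologicalKrullDim X = 1)
    (I : X.IdealSheafData) (hD : FGA.IsEffCartier I) (α : ℝ) (hα0 : 0 ≤ α) (hα1 : α < 1)
    {E F : X.Modules} (n m : ℕ) (hn : 0 < n) (hm : 0 < m)
    (hE : FlatMod.IsFinLocFreeOfRank n E) (hF : FlatMod.IsFinLocFreeOfRank m F)
    (F₁ : Submodule k (ParSh.fibD X I E)) (F₁' : Submodule k (ParSh.fibD X I F))
    (hEss : ParSh.IsGPSemistable k X I α F₁ n) (hFss : ParSh.IsGPSemistable k X I α F₁' m)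
    (hμ : ParSh.gpDeg k X α E F₁ n * (m : ℝ) = ParSh.gpDeg k X α F F₁' m * (n : ℝ))
    (f : E ⟶ F) (hf : ParSh.IsGPHom k X I F₁ F₁' f) :
    ∃ r₀ : ℕ, FlatMod.IsFinLocFreeOfRank r₀ (cokernel f) := by
  obtain ⟨a, b, hab, hbm, hK, hI, hdeg⟩ := ker_im k X hpid f n m hE hF
  have hn' : (0 : ℝ) < n := by exact_mod_cast hn
  have hm' : (0 : ℝ) < m := by exact_mod_cast hm
  rcases Nat.eq_zero_or_pos b with hb | hb
  · subst hb
    have h0 : f = 0 := eq_zero_of_image_rank_zero f hI
    subst h0
    exact ⟨m, Groth.Agent.Lib.Helper26.ModRank.isFinLocFreeOfRank_of_iso (cokernelZeroIsoTarget (X := E) (Y := F)).symm hF⟩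
  -- the saturation of the image
  obtain ⟨Q, g, u, hg, hu, -, hS, hQ, -, -, -⟩ :=
    Groth.Agent.Lib.Helper4.CurveSat.exists_saturation k X hpid hdim (Abelian.image.ι f) b m hI hF
  haveI : Mono u := by
    haveI : Mono (u ≫ kernel.ι g) := by rw [hu]; infer_instance
    exact mono_of_mono u (kernel.ι g)
  -- `u` is parabolic for the induced structures
  have hupar : ParSh.IsGPHom k X I (ParSh.gpInduced k X I (Abelian.image.ι f) F₁')
      (ParSh.gpInduced k X I (kernel.ι g) F₁') u := by
    rintro _ ⟨x, hx, rfl⟩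
    change ParSh.fibDMap k X I (kernel.ι g) (ParSh.fibDMap k X I u x) ∈ F₁'
    rw [← fibDMap_comp, hu]
    exact hx
  have h564 := Groth.Agent.S18564.main k X hdim I hD α hα0 hα1 b hI hS
    (ParSh.gpInduced k X I (Abelian.image.ι f) F₁') (ParSh.gpInduced k X I (kernel.ι g) F₁') u hupar
  have h1 := gpDeg_le_ker_add_im k X hdim I hD α hα0 f n a b hE hK hI hdeg F₁ F₁' hf
  have h3 := hFss _ b (Abelian.image.ι f) inferInstance hb hI
  have h3' := hFss _ b (kernel.ι g) inferInstance hb hS
  have hnab : (n : ℝ) = a + b := by exact_mod_cast hab.symm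
  set x := ParSh.gpDeg k X α E F₁ n with hx
  set y := ParSh.gpDeg k X α F F₁' m with hy
  set u' := ParSh.gpDeg k X α _ (ParSh.gpInduced k X I (kernel.ι (Abelian.factorThruImage f)) F₁) a with hu'
  set v := ParSh.gpDeg k X α _ (ParSh.gpInduced k X I (Abelian.image.ι f) F₁') b with hv
  set w := ParSh.gpDeg k X α _ (ParSh.gpInduced k X I (kernel.ι g) F₁') b with hw
  have h2 : u' * n ≤ x * a := by
    rcases Nat.eq_zero_or_pos a with ha | ha
    · subst ha
      have zK : ZD X (ParSh.resD I (kernel (Abelian.factorThruImage f))) := zd_resD k X hdim I hD _ 0 hK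
      haveI : Module.Finite k (ParSh.fibD X I (kernel (Abelian.factorThruImage f))) :=
        Groth.Agent.S0002.result k X _ zK.1 0
      have he := euler_resD k X hdim I hD _ 0 hK
      rw [zK.euler_eq k] at he
      have h0 : Module.finrank k (ParSh.fibD X I (kernel (Abelian.factorThruImage f))) = 0 := by
        have : (Module.finrank k (Coh.HH X (ParSh.resD I (kernel (Abelian.factorThruImage f))) 0) : ℤ) = 0 := by
          rw [he]; simp
        exact_mod_cast this
      have h0' : Module.finrank k
          (ParSh.gpInduced k X I (kernel.ι (Abelian.factorThruImage f)) F₁) = 0 := by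
        have := Submodule.finrank_le (ParSh.gpInduced k X I (kernel.ι (Abelian.factorThruImage f)) F₁)
        omega
      have hu0 : u' = 0 := by
        rw [hu']
        unfold ParSh.gpDeg ParSh.gpWt
        rw [deg_rank_zero k _ hK, h0']
        simp
      rw [hu0]
      simp
    · exact hEss _ a (kernel.ι (Abelian.factorThruImage f)) inferInstance ha hK
  have hxb : x * b ≤ v * n := by
    have : x * n ≤ u' * n + v * n := by
      have := mul_le_mul_of_nonneg_right h1 hn'.le
      linarith
    have h4 : x * n = x * a + x * b := by rw [hnab]; ring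
    linarith
  have hwn : w * n ≤ x * b := by
    have h4 : (m : ℝ) * (w * n) ≤ m * (x * b) := by
      calc (m : ℝ) * (w * n) = (w * m) * n := by ring
        _ ≤ (y * b) * n := mul_le_mul_of_nonneg_right h3' hn'.le
        _ = (y * n) * b := by ring
        _ = (x * m) * b := by rw [hμ]
        _ = m * (x * b) := by ring
    exact le_of_mul_le_mul_left h4 hm'
  have hwv : w ≤ v := le_of_mul_le_mul_right (hwn.trans hxb) hn'
  have hvw : v = w := le_antisymm h564.1 hwv
  haveI : IsIso u := (h564.2.1 hvw).1
  -- the cokernel of `f` is `Q`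
  have e1 : cokernel f ≅ cokernel (Abelian.image.ι f) :=
    cokernelIsoOfEq (Abelian.image.fac f).symm ≪≫
      cokernelEpiComp (Abelian.factorThruImage f) (Abelian.image.ι f)
  have e2 : cokernel (Abelian.image.ι f) ≅ cokernel (kernel.ι g) :=
    cokernelIsoOfEq hu.symm ≪≫ cokernelEpiComp u (kernel.ι g)
  have hSg := sesOfEpi_shortExact g
  haveI : Epi (sesOfEpi g).g := hSg.epi_g
  have e3 : cokernel (kernel.ι g) ≅ Q :=
    (colimit.isColimit (parallelPair (kernel.ι g) 0)).coconePointUniqueUpToIso hSg.exact.gIsCokernel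
  exact ⟨m - b, Groth.Agent.Lib.Helper26.ModRank.isFinLocFreeOfRank_of_iso (e1 ≪≫ e2 ≪≫ e3).symm hQ⟩



/-- Let Y be a smooth proper integral curve (integral, smooth and proper over k, of dimension one) over
an algebraically closed field k, D an effective Cartier divisor on Y with ideal I, and α a real
weight with 0 ≤ α < 1. A generalised parabolic structure on a finite locally free O_Y-module E is a
k-linear subspace F₁ of H⁰(Y, E ⊗ O_D); its parabolic degree in rank n is deg E + α·dim_k F₁ (deg E
= χ(E) − n·χ(O_Y)); a homomorphism f : E → E' is parabolic when the induced k-linear map H⁰(E ⊗ O_D)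
→ H⁰(E' ⊗ O_D) carries F₁ into F₁'; a submodule G → E gets the preimage structure and (E, F₁) is
semistable (stable) when deg(G, preimage) · n ≤ (<) deg(E, F₁) · r for every finite locally free
submodule G of rank r ≥ 1 (with r < n for stability). Let (E, F₁) and (F, F₁') be semistable of
ranks n ≥ 1 and m ≥ 1 with the same parabolic slope, pardeg(E, F₁)·m = pardeg(F, F₁')·n, and let f :
E → F be a parabolic homomorphism. Then f has constant rank: the cokernel of f in the category of
O_Y-modules is finite locally free. The published statement is set on the normalisation of a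
singular curve with D lying over its singular points; neither is used. -/
theorem result (k : Type u) [Field k] [IsAlgClosed k] (X : Scheme.{u}) [X.Over (Spec (CommRingCat.of k))]
    [AlgebraicGeometry.IsIntegral X] [IsProper (X ↘ Spec (CommRingCat.of k))] [Smooth (X ↘ Spec (CommRingCat.of k))]
    (hdim : topologicalKrullDim X = 1)
    (I : X.IdealSheafData) (hD : FGA.IsEffCartier I) (α : ℝ) (hα0 : 0 ≤ α) (hα1 : α < 1)
    {E F : X.Modules} (n m : ℕ) (hn : 0 < n) (hm : 0 < m)
    (hE : FlatMod.IsFinLocFreeOfRank n E) (hF : FlatMod.IsFinLocFreeOfRank m F)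
    (F₁ : Submodule k (ParSh.fibD X I E)) (F₁' : Submodule k (ParSh.fibD X I F))
    (hEss : ParSh.IsGPSemistable k X I α F₁ n) (hFss : ParSh.IsGPSemistable k X I α F₁' m)
    (hμ : ParSh.gpDeg k X α E F₁ n * (m : ℝ) = ParSh.gpDeg k X α F F₁' m * (n : ℝ))
    (f : E ⟶ F) (hf : ParSh.IsGPHom k X I F₁ F₁' f) :
    ∃ r₀ : ℕ, FlatMod.IsFinLocFreeOfRank r₀ (cokernel f) := by
  exact main k X (Groth.Agent.Lib.Helper4.CurveBun.pidStalks_of_smooth k X (X ↘ Spec (CommRingCat.of k)) hdim.le)
    hdim I hD α hα0 hα1 n m hn hm hE hF F₁ F₁' hEss hFss hμ f hf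

end Groth.Agent.S18565
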