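import Groth.Statements.S18566
import Groth.Agent.Lib.Helper12GPKeyB
import Groth.Agent.S18564

set_option autoImplicit false
universe u
open CategoryTheory CategoryTheory.Limits AlgebraicGeometry
open ParSh

namespace Groth.Agent.S18566


open Groth.Agent.Lib.Helper12.GPKey Groth.Agent.Lib.Helper12.GPKeyB
  Groth.Agent.Lib.Helper4.CurveBun Groth.Agent.Lib.Helper4.CurveStab in
theorem main (k : Type u) [Field k] (X : Scheme.{u}) [X.Over (Spec (CommRingCat.of k))]
    [AlgebraicGeometry.IsIntegral X] [IsProper (X ↘ Spec (CommRingCat.of k))]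
    (hpid : PIDStalks X) (hdim : topologicalKrullDim X = 1)
    (I : X.IdealSheafData) (hD : FGA.IsEffCartier I) (α : ℝ) (hα0 : 0 ≤ α) (hα1 : α < 1)
    {E F : X.Modules} (n m : ℕ) (hn : 0 < n) (hm : 0 < m)
    (hE : FlatMod.IsFinLocFreeOfRank n E) (hF : FlatMod.IsFinLocFreeOfRank m F)
    (F₁ : Submodule k (ParSh.fibD X I E)) (F₁' : Submodule k (ParSh.fibD X I F))
    (hEst : ParSh.IsGPStable k X I α F₁ n)
    (hFss : ParSh.IsGPSemistable k X I α F₁' m) (hFst : ParSh.IsGPStable k X I α F₁' m)
    (hμ : ParSh.gpDeg k X α E F₁ n * (m : ℝ) = ParSh.gpDeg k X α F F₁' m * (n : ℝ))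
    (f : E ⟶ F) (hf : ParSh.IsGPHom k X I F₁ F₁' f) :
    f = 0 ∨ (IsIso f ∧ (0 < α → Submodule.map (ParSh.fibDMap k X I f) F₁ = F₁')) := by
  obtain ⟨a, b, hab, hbm, hK, hI, hdeg⟩ := ker_im k X hpid f n m hE hF
  have hn' : (0 : ℝ) < n := by exact_mod_cast hn
  have hm' : (0 : ℝ) < m := by exact_mod_cast hm
  rcases Nat.eq_zero_or_pos b with hb | hb
  · subst hb
    exact Or.inl (eq_zero_of_image_rank_zero f hI)
  right
  rcases Nat.eq_zero_or_pos a with ha | ha
  · subst ha
    have hbn : b = n := by omega
    subst hbn
    haveI : Mono f := mono_of_kernel_rank_zero f hK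
    rcases hbm.eq_or_lt with hnm | hnm
    · subst hnm
      have h := Groth.Agent.S18564.main k X hdim I hD α hα0 hα1 b hE hF F₁ F₁' f hf
      have heq : ParSh.gpDeg k X α E F₁ b = ParSh.gpDeg k X α F F₁' b :=
        mul_right_cancel₀ hn'.ne' hμ
      exact h.2.1 heq
    · exfalso
      have h := hFst E b f inferInstance hb hnm hE
      have zE : ZD X (ParSh.resD I E) := zd_resD k X hdim I hD E b hE
      haveI : Module.Finite k (ParSh.fibD X I E) := Groth.Agent.S0002.result k X _ zE.1 0
      have hle : ParSh.gpDeg k X α E F₁ b ≤ ParSh.gpDeg k X α E (ParSh.gpInduced k X I f F₁') b := by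
        unfold ParSh.gpDeg ParSh.gpWt
        have h1 : Module.finrank k F₁ ≤ Module.finrank k (ParSh.gpInduced k X I f F₁') :=
          Submodule.finrank_mono (Submodule.map_le_iff_le_comap.1 hf)
        have h2 : (Module.finrank k F₁ : ℝ) ≤ (Module.finrank k (ParSh.gpInduced k X I f F₁') : ℝ) := by
          exact_mod_cast h1
        nlinarith
      nlinarith
  · exfalso
    have hbn : b < n := by omega
    have han : a < n := by omega
    have h1 := hEst _ a (kernel.ι (Abelian.factorThruImage f)) inferInstance ha han hK
    have h2 := hFss _ b (Abelian.image.ι f) inferInstance hb hI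
    have h3 := gpDeg_le_ker_add_im k X hdim I hD α hα0 f n a b hE hK hI hdeg F₁ F₁' hf
    have hnab : (n : ℝ) = a + b := by exact_mod_cast hab.symm
    set x := ParSh.gpDeg k X α E F₁ n with hx
    set y := ParSh.gpDeg k X α F F₁' m with hy
    set u := ParSh.gpDeg k X α _ (ParSh.gpInduced k X I (kernel.ι (Abelian.factorThruImage f)) F₁) a with hu
    set v := ParSh.gpDeg k X α _ (ParSh.gpInduced k X I (Abelian.image.ι f) F₁') b with hv
    have hvn : v * n ≤ x * b := by
      have h4 : (m : ℝ) * (v * n) ≤ m * (x * b) := by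
        calc (m : ℝ) * (v * n) = (v * m) * n := by ring
          _ ≤ (y * b) * n := mul_le_mul_of_nonneg_right h2 hn'.le
          _ = (y * n) * b := by ring
          _ = (x * m) * b := by rw [hμ]
          _ = m * (x * b) := by ring
      exact le_of_mul_le_mul_left h4 hm'
    have h5 : (u + v) * n < x * n := by
      calc (u + v) * n = u * n + v * n := by ring
        _ < x * a + x * b := by linarith
        _ = x * n := by rw [hnab]; ring
    have h6 : u + v < x := lt_of_mul_lt_mul_right h5 hn'.le
    linarith



/-- Let Y be a smooth proper integral curve (integral, smooth and proper over k, of dimension one) over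
an algebraically closed field k, D an effective Cartier divisor on Y with ideal I, and α a real
weight with 0 ≤ α < 1. A generalised parabolic structure on a finite locally free O_Y-module E is a
k-linear subspace F₁ of H⁰(Y, E ⊗ O_D); its parabolic degree in rank n is deg E + α·dim_k F₁ (deg E
= χ(E) − n·χ(O_Y)); a homomorphism f : E → E' is parabolic when the induced k-linear map H⁰(E ⊗ O_D)
→ H⁰(E' ⊗ O_D) carries F₁ into F₁'; a submodule G → E gets the preimage structure and (E, F₁) is
semistable (stable) when deg(G, preimage) · n ≤ (<) deg(E, F₁) · r for every finite locally free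
submodule G of rank r ≥ 1 (with r < n for stability). Let (E, F₁) and (F, F₁') be semistable and
stable of ranks n ≥ 1 and m ≥ 1 with the same parabolic slope, pardeg(E, F₁)·m = pardeg(F, F₁')·n,
and let f : E → F be a parabolic homomorphism. Then either f = 0 or f is an isomorphism of
O_Y-modules which, when α > 0, maps F₁ onto F₁'. The published statement concludes an isomorphism of
generalised parabolic bundles (an isomorphism of modules mapping F₁ onto F₁') at every weight 0 ≤ α
< 1; at α = 0 this fails, since the identity of O_Y, from the zero structure to all of H⁰(O_D) with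
D a single point, is a nonzero parabolic map between stable rank-one objects of equal slope that is
not one; so the condition on F₁ is asked here only for α > 0. The published statement is also set on
the normalisation of a singular curve with D lying over its singular points; neither is used. -/
theorem result (k : Type u) [Field k] [IsAlgClosed k] (X : Scheme.{u}) [X.Over (Spec (CommRingCat.of k))]
    [AlgebraicGeometry.IsIntegral X] [IsProper (X ↘ Spec (CommRingCat.of k))] [Smooth (X ↘ Spec (CommRingCat.of k))]
    (hdim : topologicalKrullDim X = 1)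
    (I : X.IdealSheafData) (hD : FGA.IsEffCartier I) (α : ℝ) (hα0 : 0 ≤ α) (hα1 : α < 1)
    {E F : X.Modules} (n m : ℕ) (hn : 0 < n) (hm : 0 < m)
    (hE : FlatMod.IsFinLocFreeOfRank n E) (hF : FlatMod.IsFinLocFreeOfRank m F)
    (F₁ : Submodule k (ParSh.fibD X I E)) (F₁' : Submodule k (ParSh.fibD X I F))
    (hEss : ParSh.IsGPSemistable k X I α F₁ n) (hEst : ParSh.IsGPStable k X I α F₁ n)
    (hFss : ParSh.IsGPSemistable k X I α F₁' m) (hFst : ParSh.IsGPStable k X I α F₁' m)
    (hμ : ParSh.gpDeg k X α E F₁ n * (m : ℝ) = ParSh.gpDeg k X α F F₁' m * (n : ℝ))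
    (f : E ⟶ F) (hf : ParSh.IsGPHom k X I F₁ F₁' f) :
    f = 0 ∨ (IsIso f ∧ (0 < α → Submodule.map (ParSh.fibDMap k X I f) F₁ = F₁')) := by
  exact main k X (Groth.Agent.Lib.Helper4.CurveBun.pidStalks_of_smooth k X (X ↘ Spec (CommRingCat.of k)) hdim.le)
    hdim I hD α hα0 hα1 n m hn hm hE hF F₁ F₁' hEst hFss hFst hμ f hf

end Groth.Agent.S18566
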