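import Groth.Statements.S18567
import Groth.Agent.Lib.Helper12GPKeyB
import Groth.Agent.Lib.Helper4CurveSimple
import Groth.Agent.Lib.Helper27ExtDual1
import Groth.Agent.Lib.Helper27TensorLin
import Groth.Agent.S18566

set_option autoImplicit false
universe u
open CategoryTheory CategoryTheory.Limits AlgebraicGeometry
open ParSh

namespace Groth.Agent.S18567


theorem fibDMap_sub_smulMod (k : Type u) [Field k] (X : Scheme.{u}) [X.Over (Spec (CommRingCat.of k))]
    (I : X.IdealSheafData) {E : X.Modules} (φ : E ⟶ E) (c : k) (x : ParSh.fibD X I E) :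
    ParSh.fibDMap k X I (φ - Formal.smulMod k E c) x = ParSh.fibDMap k X I φ x - c • x := by
  have h1 : ParSh.resDMap I (φ - Formal.smulMod k E c) =
      ParSh.resDMap I φ - Formal.smulMod k (ParSh.resD I E) c := by
    change KoszTw.tensorMap (φ - Formal.smulMod k E c) (𝟙 _) = KoszTw.tensorMap φ (𝟙 _) - _
    rw [← KoszTw.tensorRightMod_map, ← KoszTw.tensorRightMod_map, Functor.map_sub]
    congr 1
    exact Groth.Agent.Lib.Helper27TensorLin.tR_map_smulModΓ (ClSub.quotMod I) E
      (Coh.toGlobal (X ↘ Spec (CommRingCat.of k)) c)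
  change Canon.HHlin k (ParSh.resDMap I (φ - Formal.smulMod k E c)) 0 x = _
  rw [h1]
  have h2 := Groth.Agent.Lib.Helper27ExtDual1.HHlin_add (A := k)
    (ParSh.resDMap I φ - Formal.smulMod k (ParSh.resD I E) c) (Formal.smulMod k (ParSh.resD I E) c) 0 x
  rw [sub_add_cancel, Groth.Agent.Lib.Helper27ExtDual1.HHlin_smulMod (A := k)] at h2
  exact eq_sub_of_add_eq h2.symm

open Groth.Agent.Lib.Helper4.CurveBun Groth.Agent.Lib.Helper4.CurveStab Groth.Agent.Lib.Helper4.Dev
  Groth.Agent.Lib.Helper4.CurveSimple in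
open TensorProduct in
theorem main (k : Type u) [Field k] [IsAlgClosed k] (X : Scheme.{u}) [X.Over (Spec (CommRingCat.of k))]
    [AlgebraicGeometry.IsIntegral X] [IsProper (X ↘ Spec (CommRingCat.of k))]
    (hpid : PIDStalks X) (hdim : topologicalKrullDim X = 1)
    (I : X.IdealSheafData) (hD : FGA.IsEffCartier I) (α : ℝ) (hα0 : 0 ≤ α) (hα1 : α < 1)
    {E : X.Modules} (r : ℕ) (hr : 0 < r) (hE : FlatMod.IsFinLocFreeOfRank r E)
    (F₁ : Submodule k (ParSh.fibD X I E))
    (hEss : ParSh.IsGPSemistable k X I α F₁ r) (hEst : ParSh.IsGPStable k X I α F₁ r)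
    (φ : E ⟶ E) (hφ : ParSh.IsGPHom k X I F₁ F₁ φ) : ∃ c : k, φ = Formal.smulMod k E c := by
  haveI : CompactSpace X := QuasiCompact.compactSpace_of_compactSpace (X ↘ (Spec (CommRingCat.of k)))
  obtain ⟨x, -, hx⟩ := IsClosed.exists_closed_singleton (isClosed_univ (X := X)) Set.univ_nonempty
  obtain ⟨hfree, hfin, hrk⟩ := Groth.Agent.Lib.Helper4.KTensor.stalk_of_isFinLocFreeOfRank E r hE x
  haveI := hfree
  haveI := hfin
  let R := X.presheaf.stalk x
  let κ := IsLocalRing.ResidueField R
  let V := κ ⊗[R] (E.presheaf.stalk x)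
  haveI : IsAlgClosed κ :=
    IsAlgClosed.of_ringEquiv (k := k) κ
      (residueFieldIsoBase (X ↘ (Spec (CommRingCat.of k))) x hx).symm.commRingCatIsoToRingEquiv
  have hVrk : Module.finrank κ V = r := by
    rw [Module.finrank_baseChange, hrk]
  haveI : Nontrivial V := Module.nontrivial_of_finrank_pos (R := κ) (by rw [hVrk]; exact hr)
  obtain ⟨μ, hμ⟩ := Module.End.exists_eigenvalue ((stalkL φ x).baseChange κ)
  obtain ⟨v, hv⟩ := hμ.exists_hasEigenvector
  obtain ⟨c, hc⟩ := residue_surjective k X (X ↘ (Spec (CommRingCat.of k))) x hx μ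
  refine ⟨c, ?_⟩
  rw [← sub_eq_zero]
  by_contra hne
  set ψ := φ - Formal.smulMod k E c with hψ
  have hψpar : ParSh.IsGPHom k X I F₁ F₁ ψ := by
    rintro _ ⟨y, hy, rfl⟩
    rw [hψ, fibDMap_sub_smulMod]
    exact F₁.sub_mem (hφ ⟨y, hy, rfl⟩) (F₁.smul_mem c hy)
  haveI : IsIso ψ := by
    rcases Groth.Agent.S18566.main k X hpid hdim I hD α hα0 hα1 r r hr hr hE hE F₁ F₁ hEst hEss hEst rfl
      ψ hψpar with h | h
    · exact absurd h hne
    · exact h.1
  -- the base change of `ψ_x` is injective
  have hinj : Function.Injective ((stalkL ψ x).baseChange κ) := by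
    have hcomp : ((stalkL (inv ψ) x).baseChange κ).comp ((stalkL ψ x).baseChange κ) = LinearMap.id := by
      rw [← LinearMap.baseChange_comp, ← stalkL_comp, IsIso.hom_inv_id, stalkL_id, LinearMap.baseChange_id]
    exact Function.LeftInverse.injective (g := (stalkL (inv ψ) x).baseChange κ)
      (fun w => by rw [← LinearMap.comp_apply, hcomp]; rfl)
  -- but it kills the eigenvector
  have hkill : (stalkL ψ x).baseChange κ v = 0 := by
    rw [hψ, stalkL_sub, LinearMap.baseChange_sub, LinearMap.sub_apply, hv.apply_eq_smul]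
    have h2 : stalkL (Formal.smulMod k E c) x =
        (X.presheaf.germ ⊤ x trivial (Coh.toGlobal (X ↘ (Spec (CommRingCat.of k))) c)) • LinearMap.id :=
      stalkL_smulModΓ E _ x
    have hc' : algebraMap R κ
        (X.presheaf.germ ⊤ x trivial (Coh.toGlobal (X ↘ (Spec (CommRingCat.of k))) c)) = μ := hc
    rw [h2, LinearMap.baseChange_smul, LinearMap.baseChange_id, LinearMap.smul_apply, LinearMap.id_apply,
      ← hc', algebraMap_smul, sub_self]
  exact hv.2 (hinj (by rw [hkill, map_zero]))



/-- Let Y be a smooth proper integral curve (integral, smooth and proper over k, of dimension one) over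
an algebraically closed field k, D an effective Cartier divisor on Y with ideal I, and α a real
weight with 0 ≤ α < 1. A generalised parabolic structure on a finite locally free O_Y-module E is a
k-linear subspace F₁ of H⁰(Y, E ⊗ O_D); its parabolic degree in rank n is deg E + α·dim_k F₁ (deg E
= χ(E) − n·χ(O_Y)); a homomorphism f : E → E' is parabolic when the induced k-linear map H⁰(E ⊗ O_D)
→ H⁰(E' ⊗ O_D) carries F₁ into F₁'; a submodule G → E gets the preimage structure and (E, F₁) is
semistable (stable) when deg(G, preimage) · n ≤ (<) deg(E, F₁) · r for every finite locally free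
submodule G of rank r ≥ 1 (with r < n for stability). Let (E, F₁) be semistable and stable of rank n
≥ 1. Then (E, F₁) is simple: every parabolic endomorphism f : E → E acts on the underlying abelian
sheaf as multiplication by some scalar c ∈ k. The published statement is set on the normalisation of
a singular curve with D lying over its singular points; neither is used. -/
theorem result (k : Type u) [Field k] [IsAlgClosed k] (X : Scheme.{u}) [X.Over (Spec (CommRingCat.of k))]
    [AlgebraicGeometry.IsIntegral X] [IsProper (X ↘ Spec (CommRingCat.of k))] [Smooth (X ↘ Spec (CommRingCat.of k))]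
    (hdim : topologicalKrullDim X = 1)
    (I : X.IdealSheafData) (hD : FGA.IsEffCartier I) (α : ℝ) (hα0 : 0 ≤ α) (hα1 : α < 1)
    {E : X.Modules} (n : ℕ) (hn : 0 < n) (hE : FlatMod.IsFinLocFreeOfRank n E)
    (F₁ : Submodule k (ParSh.fibD X I E))
    (hEss : ParSh.IsGPSemistable k X I α F₁ n) (hEst : ParSh.IsGPStable k X I α F₁ n)
    (f : E ⟶ E) (hf : ParSh.IsGPHom k X I F₁ F₁ f) :
    ∃ c : k, (SheafOfModules.toSheaf X.ringCatSheaf).map f =
      Coh.smulAb E (Coh.toGlobal (X ↘ Spec (CommRingCat.of k)) c) := by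
  obtain ⟨c, hc⟩ := main k X
    (Groth.Agent.Lib.Helper4.CurveBun.pidStalks_of_smooth k X (X ↘ Spec (CommRingCat.of k)) hdim.le)
    hdim I hD α hα0 hα1 n hn hE F₁ hEss hEst f hf
  exact ⟨c, by rw [hc]; rfl⟩

end Groth.Agent.S18567
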