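import Groth.Statements.S18569
import Mathlib.Tactic

set_option autoImplicit false
universe u
open CategoryTheory CategoryTheory.Limits AlgebraicGeometry
open ParSh

namespace Groth.Agent.S18569

/-- Let Y be a smooth proper integral curve (integral, smooth and proper over k, of dimension one) over
an algebraically closed field k and D an effective Cartier divisor on Y with ideal I, of degree d ≥
1 in the sense that H⁰(Y, G ⊗ O_D) has k-dimension r·d for every finite locally free G of rank r. A
generalised parabolic structure on a finite locally free E is a k-subspace F₁ of H⁰(E ⊗ O_D); with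
weight α its parabolic degree in rank n is deg E + α·dim_k F₁ (deg E = χ(E) − n·χ(O_Y)); a submodule
G → E carries the preimage structure under H⁰(G ⊗ O_D) → H⁰(E ⊗ O_D), and (E, F₁) is α-semistable
(α-stable) when deg_α(G)·n ≤ (<) deg_α(E)·r for every finite locally free submodule G of rank r ≥ 1
(with r < n for stability); weight α = 1 gives 1-semistability and 1-stability. Let E have rank n ≥
2 with structure F₁ and let 0 ≤ α < 1 satisfy 1 − 1/(d·n·(n−1)) < α. If (E, F₁) is 1-stable then it
is α-stable. The published statement is set on the normalisation of a singular curve, with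
structures over several disjoint divisors D_i lying over its singular points and d their total
degree; here Y is any smooth proper integral curve with one structure over one divisor, which
contains the several-divisor case (D the sum of the D_i, F₁ the direct sum of the F₁^i). -/
theorem result (k : Type u) [Field k] [IsAlgClosed k] (X : Scheme.{u}) [X.Over (Spec (CommRingCat.of k))]
    [AlgebraicGeometry.IsIntegral X] [IsProper (X ↘ Spec (CommRingCat.of k))] [Smooth (X ↘ Spec (CommRingCat.of k))]
    (hdim : topologicalKrullDim X = 1)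
    (I : X.IdealSheafData) (hD : FGA.IsEffCartier I) (d : ℕ) (hd : 0 < d)
    (hdegD : ∀ (G : X.Modules) (r : ℕ), FlatMod.IsFinLocFreeOfRank r G → Module.finrank k (ParSh.fibD X I G) = r * d)
    {E : X.Modules} (n : ℕ) (hn : 2 ≤ n) (hE : FlatMod.IsFinLocFreeOfRank n E)
    (F₁ : Submodule k (ParSh.fibD X I E))
    (α : ℝ) (hα0 : 0 ≤ α) (hα1 : α < 1) (hα : 1 - 1 / ((d : ℝ) * (n : ℝ) * ((n : ℝ) - 1)) < α)
    (hst : ParSh.IsGPStable k X I 1 F₁ n) :
    ParSh.IsGPStable k X I α F₁ n := by
  intro F r' i hi hr' hr'n hF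
  have h1 := hst F r' i hi hr' hr'n hF
  unfold ParSh.gpDeg ParSh.gpWt at h1 ⊢
  set fF : ℕ := Module.finrank k (ParSh.gpInduced k X I i F₁) with hfF
  set fE : ℕ := Module.finrank k F₁ with hfE
  set dF : ℤ := Curv2.deg k X F r' with hdF
  set dE : ℤ := Curv2.deg k X E n with hdE
  -- bound fE ≤ n * d
  have hfin : Module.finrank k (ParSh.fibD X I E) = n * d := hdegD E n hE
  have hpos : 0 < Module.finrank k (ParSh.fibD X I E) := by
    rw [hfin]; positivity
  have : Module.Finite k (ParSh.fibD X I E) := Module.finite_of_finrank_pos hpos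
  have hfE_le : fE ≤ n * d := by
    rw [← hfin]; exact Submodule.finrank_le F₁
  -- integer version of h1
  have h1' : ((dF + fF) * n : ℤ) < (dE + fE) * r' := by
    have : (((dF + fF) * n : ℤ) : ℝ) < (((dE + fE) * r' : ℤ) : ℝ) := by
      push_cast
      simpa using h1
    exact_mod_cast this
  have h1'' : ((dF + fF) * n : ℤ) + 1 ≤ (dE + fE) * r' := h1'
  have h1r : ((dF : ℝ) + fF) * n + 1 ≤ ((dE : ℝ) + fE) * r' := by exact_mod_cast h1''
  -- real estimates
  have hn' : (2 : ℝ) ≤ n := by exact_mod_cast hn
  have hd' : (1 : ℝ) ≤ d := by exact_mod_cast hd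
  have hr'1 : (r' : ℝ) ≤ n - 1 := by
    have : r' + 1 ≤ n := hr'n
    have : ((r' + 1 : ℕ) : ℝ) ≤ n := by exact_mod_cast this
    push_cast at this; linarith
  have hfE_le' : (fE : ℝ) ≤ n * d := by exact_mod_cast hfE_le
  have hfF0 : (0 : ℝ) ≤ fF := by positivity
  have hfE0 : (0 : ℝ) ≤ fE := by positivity
  have hr'0 : (0 : ℝ) < r' := by exact_mod_cast hr'
  have hD : (0 : ℝ) < (d : ℝ) * n * (n - 1) := by
    have : (0 : ℝ) < (n : ℝ) - 1 := by linarith
    positivity
  have hβ : (1 - α) * ((d : ℝ) * n * (n - 1)) < 1 := by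
    have : 1 - α < 1 / ((d : ℝ) * n * (n - 1)) := by linarith
    calc (1 - α) * ((d : ℝ) * n * (n - 1)) < 1 / ((d : ℝ) * n * (n - 1)) * ((d : ℝ) * n * (n - 1)) :=
          mul_lt_mul_of_pos_right this hD
      _ = 1 := one_div_mul_cancel hD.ne'
  have hβ0 : 0 < 1 - α := by linarith
  have hprod : (fE : ℝ) * r' ≤ (d : ℝ) * n * (n - 1) := by
    calc (fE : ℝ) * r' ≤ (n * d) * (n - 1) := by
          apply mul_le_mul hfE_le' hr'1 hr'0.le (by positivity)
      _ = (d : ℝ) * n * (n - 1) := by ring
  have hkey : (1 - α) * ((fE : ℝ) * r') < 1 := by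
    calc (1 - α) * ((fE : ℝ) * r') ≤ (1 - α) * ((d : ℝ) * n * (n - 1)) :=
          mul_le_mul_of_nonneg_left hprod hβ0.le
      _ < 1 := hβ
  have hnn : (0 : ℝ) ≤ (1 - α) * ((fF : ℝ) * n) := by positivity
  nlinarith [h1r, hkey, hnn]

end Groth.Agent.S18569
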