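import Groth.Statements.S18570
import Groth.Agent.Lib.Helper12GPKeyA
import Groth.Agent.Lib.Helper4CurveRR

set_option autoImplicit false
universe u
open CategoryTheory CategoryTheory.Limits AlgebraicGeometry
open ParSh

namespace Groth.Agent.S18570

/-- arithmetic core -/
theorem core (n r' d a fF : ℕ) (dF dE : ℤ) (α : ℝ) (hn : 2 ≤ n) (hd : 0 < d) (hr' : 0 < r')
    (hr'n : r' ≤ n) (hfF : fF ≤ r' * d) (ha : a ≤ d) (hα0 : 0 ≤ α) (hα1 : α < 1)
    (hα : 1 - 1 / ((d : ℝ) * (n : ℝ) * ((n : ℝ) - 1)) < α)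
    (hcop : r' < n → ¬ (n : ℤ) ∣ dE * r')
    (hkey : r' = n → dF + fF ≤ dE + a * n ∧ dF ≤ dE) :
    (r' = n → (((dF : ℝ) + 1 * (fF : ℝ)) * n ≤ ((dE : ℝ) + 1 * ((a * n : ℕ) : ℝ)) * r' ∧
        ((dF : ℝ) + α * (fF : ℝ)) * n ≤ ((dE : ℝ) + α * ((a * n : ℕ) : ℝ)) * r')) ∧
    (r' < n →
      ((((dF : ℝ) + 1 * (fF : ℝ)) * n ≤ ((dE : ℝ) + 1 * ((a * n : ℕ) : ℝ)) * r' →
          ((dF : ℝ) + 1 * (fF : ℝ)) * n < ((dE : ℝ) + 1 * ((a * n : ℕ) : ℝ)) * r') ∧
        (((dF : ℝ) + 1 * (fF : ℝ)) * n ≤ ((dE : ℝ) + 1 * ((a * n : ℕ) : ℝ)) * r' →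
          ((dF : ℝ) + α * (fF : ℝ)) * n < ((dE : ℝ) + α * ((a * n : ℕ) : ℝ)) * r') ∧
        (((dF : ℝ) + α * (fF : ℝ)) * n ≤ ((dE : ℝ) + α * ((a * n : ℕ) : ℝ)) * r' →
          ((dF : ℝ) + 1 * (fF : ℝ)) * n ≤ ((dE : ℝ) + 1 * ((a * n : ℕ) : ℝ)) * r'))) := by
  have hn' : (2 : ℝ) ≤ n := by exact_mod_cast hn
  have hd' : (1 : ℝ) ≤ d := by exact_mod_cast hd
  have hr'0 : (0 : ℝ) < r' := by exact_mod_cast hr'
  have hn1 : (0 : ℝ) < (n : ℝ) - 1 := by linarith
  have hn0 : (0 : ℝ) < n := by linarith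
  have hDpos : (0 : ℝ) < (d : ℝ) * n * (n - 1) := by positivity
  have hβ : (1 - α) * ((d : ℝ) * n * (n - 1)) < 1 := by
    have : 1 - α < 1 / ((d : ℝ) * n * (n - 1)) := by linarith
    calc (1 - α) * ((d : ℝ) * n * (n - 1)) < 1 / ((d : ℝ) * n * (n - 1)) * ((d : ℝ) * n * (n - 1)) :=
          mul_lt_mul_of_pos_right this hDpos
      _ = 1 := one_div_mul_cancel hDpos.ne'
  have hβ0 : 0 < 1 - α := by linarith
  have hfF' : (fF : ℝ) ≤ r' * d := by exact_mod_cast hfF
  have ha' : (a : ℝ) ≤ d := by exact_mod_cast ha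
  have hfF0 : (0 : ℝ) ≤ fF := by positivity
  have ha0 : (0 : ℝ) ≤ a := by positivity
  constructor
  · intro hrn
    subst hrn
    obtain ⟨h1, h2⟩ := hkey rfl
    have h1' : (dF : ℝ) + fF ≤ dE + a * r' := by exact_mod_cast h1
    have h2' : (dF : ℝ) ≤ dE := by exact_mod_cast h2
    push_cast
    constructor
    · nlinarith [mul_le_mul_of_nonneg_right h1' hr'0.le]
    · have h3 : (dF : ℝ) + α * fF ≤ dE + α * (a * r') := by nlinarith
      nlinarith [mul_le_mul_of_nonneg_right h3 hr'0.le]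
  · intro hlt
    have hr'1 : (r' : ℝ) ≤ n - 1 := by
      have : r' + 1 ≤ n := hlt
      have : ((r' + 1 : ℕ) : ℝ) ≤ n := by exact_mod_cast this
      push_cast at this; linarith
    -- integer Δ
    set Δ : ℤ := (dE + a * n) * r' - (dF + fF) * n with hΔ
    have hΔne : Δ ≠ 0 := by
      intro h0
      apply hcop hlt
      have : dE * r' = (dF + fF - a * r') * n := by
        have : (dE + a * n) * r' - (dF + fF) * n = 0 := h0
        linarith
      exact ⟨dF + fF - a * r', by rw [this]; ring⟩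
    have hΔreal : (Δ : ℝ) = ((dE : ℝ) + 1 * ((a * n : ℕ) : ℝ)) * r' - ((dF : ℝ) + 1 * (fF : ℝ)) * n := by
      rw [hΔ]; push_cast; ring
    -- Q
    have hQub : ((a : ℝ) * r' - fF) * n ≤ (d : ℝ) * n * (n - 1) := by
      have h1 : (a : ℝ) * r' ≤ d * (n - 1) := by
        calc (a : ℝ) * r' ≤ d * r' := mul_le_mul_of_nonneg_right ha' hr'0.le
          _ ≤ d * (n - 1) := mul_le_mul_of_nonneg_left hr'1 (by positivity)
      nlinarith
    have hQlb : -((d : ℝ) * n * (n - 1)) ≤ ((a : ℝ) * r' - fF) * n := by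
      have h1 : (fF : ℝ) ≤ d * (n - 1) := by
        calc (fF : ℝ) ≤ r' * d := hfF'
          _ ≤ (n - 1) * d := mul_le_mul_of_nonneg_right hr'1 (by positivity)
          _ = d * (n - 1) := by ring
      have h2 : (0 : ℝ) ≤ (a : ℝ) * r' := by positivity
      nlinarith
    have hub : (1 - α) * (((a : ℝ) * r' - fF) * n) < 1 := by
      calc (1 - α) * (((a : ℝ) * r' - fF) * n) ≤ (1 - α) * ((d : ℝ) * n * (n - 1)) :=
            mul_le_mul_of_nonneg_left hQub hβ0.le
        _ < 1 := hβ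
    have hlb : -1 < (1 - α) * (((a : ℝ) * r' - fF) * n) := by
      have : (1 - α) * (-((d : ℝ) * n * (n - 1))) ≤ (1 - α) * (((a : ℝ) * r' - fF) * n) :=
        mul_le_mul_of_nonneg_left hQlb hβ0.le
      linarith
    -- the α-difference: RHSα - LHSα = Δ - (1-α) * Q
    have hα_eq : ((dE : ℝ) + α * ((a * n : ℕ) : ℝ)) * r' - ((dF : ℝ) + α * (fF : ℝ)) * n =
        (Δ : ℝ) - (1 - α) * (((a : ℝ) * r' - fF) * n) := by
      rw [hΔreal]; push_cast; ring
    refine ⟨fun h => ?_, fun h => ?_, fun h => ?_⟩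
    · have h0 : (0 : ℝ) ≤ (Δ : ℝ) := by rw [hΔreal]; linarith
      have h0' : (0 : ℤ) ≤ Δ := by exact_mod_cast h0
      have h1 : (1 : ℤ) ≤ Δ := by omega
      have h1' : (1 : ℝ) ≤ (Δ : ℝ) := by exact_mod_cast h1
      rw [hΔreal] at h1'
      linarith
    · have h0 : (0 : ℝ) ≤ (Δ : ℝ) := by rw [hΔreal]; linarith
      have h0' : (0 : ℤ) ≤ Δ := by exact_mod_cast h0
      have h1 : (1 : ℤ) ≤ Δ := by omega
      have h1' : (1 : ℝ) ≤ (Δ : ℝ) := by exact_mod_cast h1
      linarith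
    · have h0 : -1 < (Δ : ℝ) := by linarith
      have h0' : (-1 : ℤ) < Δ := by exact_mod_cast h0
      have h1 : (0 : ℤ) ≤ Δ := by omega
      have h1' : (0 : ℝ) ≤ (Δ : ℝ) := by exact_mod_cast h1
      rw [hΔreal] at h1'
      linarith

open Groth.Agent.Lib.Helper12.GPKey in
theorem main (k : Type u) [Field k] [IsAlgClosed k] (X : Scheme.{u}) [X.Over (Spec (CommRingCat.of k))]
    [AlgebraicGeometry.IsIntegral X] [IsProper (X ↘ Spec (CommRingCat.of k))] [Smooth (X ↘ Spec (CommRingCat.of k))]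
    (hdim : topologicalKrullDim X = 1)
    (I : X.IdealSheafData) (hD : FGA.IsEffCartier I) (d : ℕ) (hd : 0 < d)
    (hdegD : ∀ (G : X.Modules) (r : ℕ), FlatMod.IsFinLocFreeOfRank r G → Module.finrank k (ParSh.fibD X I G) = r * d)
    {E : X.Modules} (n : ℕ) (hn : 2 ≤ n) (hE : FlatMod.IsFinLocFreeOfRank n E)
    (F₁ : Submodule k (ParSh.fibD X I E))
    (α : ℝ) (hα0 : 0 ≤ α) (hα1 : α < 1) (hα : 1 - 1 / ((d : ℝ) * (n : ℝ) * ((n : ℝ) - 1)) < α)
    (hcop : IsCoprime (n : ℤ) (Curv2.deg k X E n)) (a : ℕ) (ha : Module.finrank k F₁ = a * n) :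
    (ParSh.IsGPSemistable k X I α F₁ n ↔ ParSh.IsGPSemistable k X I 1 F₁ n) ∧
      (ParSh.IsGPStable k X I α F₁ n ↔ ParSh.IsGPSemistable k X I 1 F₁ n) ∧
      (ParSh.IsGPStable k X I 1 F₁ n ↔ ParSh.IsGPSemistable k X I 1 F₁ n) := by
  haveI : Nonempty X := inferInstance
  have hn0 : 0 < n := by omega
  -- a ≤ d
  have hfinE : Module.finrank k (ParSh.fibD X I E) = n * d := hdegD E n hE
  have hposE : 0 < Module.finrank k (ParSh.fibD X I E) := by rw [hfinE]; positivity
  haveI : Module.Finite k (ParSh.fibD X I E) := Module.finite_of_finrank_pos hposE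
  have had : a ≤ d := by
    have h1 : Module.finrank k F₁ ≤ n * d := by rw [← hfinE]; exact Submodule.finrank_le _
    rw [ha] at h1
    have : a * n ≤ d * n := by rw [mul_comm d n]; exact h1
    exact Nat.le_of_mul_le_mul_right this hn0
  -- the data attached to a submodule
  have data : ∀ (F : X.Modules) (r' : ℕ) (i : F ⟶ E), Mono i → 0 < r' → FlatMod.IsFinLocFreeOfRank r' F →
      r' ≤ n ∧ Module.finrank k (ParSh.gpInduced k X I i F₁) ≤ r' * d ∧
      (r' < n → ¬ (n : ℤ) ∣ Curv2.deg k X E n * r') ∧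
      (r' = n → Curv2.deg k X F r' + (Module.finrank k (ParSh.gpInduced k X I i F₁) : ℕ) ≤
          Curv2.deg k X E n + a * n ∧ Curv2.deg k X F r' ≤ Curv2.deg k X E n) := by
    intro F r' i hi hr' hF
    haveI := hi
    have hr'n : r' ≤ n := Groth.Agent.Lib.Helper4.CurveRR.rank_le_of_mono X i r' n hF hE
    have hfin : Module.finrank k (ParSh.fibD X I F) = r' * d := hdegD F r' hF
    have hpos : 0 < Module.finrank k (ParSh.fibD X I F) := by rw [hfin]; positivity
    haveI : Module.Finite k (ParSh.fibD X I F) := Module.finite_of_finrank_pos hpos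
    refine ⟨hr'n, ?_, ?_, ?_⟩
    · rw [← hfin]; exact Submodule.finrank_le _
    · intro hlt hdvd
      have h1 : (n : ℤ) ∣ (r' : ℤ) := hcop.dvd_of_dvd_mul_left hdvd
      have h2 : (n : ℤ) ≤ r' := Int.le_of_dvd (by exact_mod_cast hr') h1
      have : n ≤ r' := by exact_mod_cast h2
      omega
    · intro hrn
      subst hrn
      have h1 := deg_add_finrank_induced_le k X hdim I hD r' hF hE i F₁
      rw [ha] at h1
      refine ⟨by exact_mod_cast h1, ?_⟩
      have h2 := deg_add_finrank_induced_le k X hdim I hD r' hF hE i ⊤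
      have h3 : ParSh.gpInduced k X I i ⊤ = ⊤ := Submodule.comap_top _
      rw [h3, finrank_top, finrank_top, hfin, hfinE] at h2
      linarith
  have coreF : ∀ (F : X.Modules) (r' : ℕ) (i : F ⟶ E) (hi : Mono i) (hr' : 0 < r')
      (hF : FlatMod.IsFinLocFreeOfRank r' F), _ :=
    fun F r' i hi hr' hF =>
      core n r' d a (Module.finrank k (ParSh.gpInduced k X I i F₁)) (Curv2.deg k X F r')
        (Curv2.deg k X E n) α hn hd hr' (data F r' i hi hr' hF).1 (data F r' i hi hr' hF).2.1 had hα0 hα1 hα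
        (data F r' i hi hr' hF).2.2.1 (data F r' i hi hr' hF).2.2.2
  unfold ParSh.IsGPSemistable ParSh.IsGPStable ParSh.gpDeg ParSh.gpWt
  rw [ha]
  refine ⟨⟨fun h F r' i hi hr' hF => ?_, fun h F r' i hi hr' hF => ?_⟩,
    ⟨fun h F r' i hi hr' hF => ?_, fun h F r' i hi hr' hlt hF => ?_⟩,
    ⟨fun h F r' i hi hr' hF => ?_, fun h F r' i hi hr' hlt hF => ?_⟩⟩
  · obtain ⟨c1, c2⟩ := coreF F r' i hi hr' hF
    rcases Nat.lt_or_ge r' n with hlt | hge
    · exact (c2 hlt).2.2 (h F r' i hi hr' hF)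
    · exact (c1 (le_antisymm (data F r' i hi hr' hF).1 hge)).1
  · obtain ⟨c1, c2⟩ := coreF F r' i hi hr' hF
    rcases Nat.lt_or_ge r' n with hlt | hge
    · exact ((c2 hlt).2.1 (h F r' i hi hr' hF)).le
    · exact (c1 (le_antisymm (data F r' i hi hr' hF).1 hge)).2
  · obtain ⟨c1, c2⟩ := coreF F r' i hi hr' hF
    rcases Nat.lt_or_ge r' n with hlt | hge
    · exact (c2 hlt).2.2 (h F r' i hi hr' hlt hF).le
    · exact (c1 (le_antisymm (data F r' i hi hr' hF).1 hge)).1
  · obtain ⟨c1, c2⟩ := coreF F r' i hi hr' hF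
    exact (c2 hlt).2.1 (h F r' i hi hr' hF)
  · obtain ⟨c1, c2⟩ := coreF F r' i hi hr' hF
    rcases Nat.lt_or_ge r' n with hlt | hge
    · exact (h F r' i hi hr' hlt hF).le
    · exact (c1 (le_antisymm (data F r' i hi hr' hF).1 hge)).1
  · obtain ⟨c1, c2⟩ := coreF F r' i hi hr' hF
    exact (c2 hlt).1 (h F r' i hi hr' hF)



/-- Let Y be a smooth proper integral curve (integral, smooth and proper over k, of dimension one) over
an algebraically closed field k and D an effective Cartier divisor on Y with ideal I, of degree d ≥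
1 in the sense that H⁰(Y, G ⊗ O_D) has k-dimension r·d for every finite locally free G of rank r. A
generalised parabolic structure on a finite locally free E is a k-subspace F₁ of H⁰(E ⊗ O_D); with
weight α its parabolic degree in rank n is deg E + α·dim_k F₁ (deg E = χ(E) − n·χ(O_Y)); a submodule
G → E carries the preimage structure under H⁰(G ⊗ O_D) → H⁰(E ⊗ O_D), and (E, F₁) is α-semistable
(α-stable) when deg_α(G)·n ≤ (<) deg_α(E)·r for every finite locally free submodule G of rank r ≥ 1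
(with r < n for stability); weight α = 1 gives 1-semistability and 1-stability. Let E have rank n ≥
2 with structure F₁ and let 0 ≤ α < 1 satisfy 1 − 1/(d·n·(n−1)) < α. Suppose moreover that n and deg
E are coprime and that dim_k F₁ = a·n is a multiple of n. Then α-semistability, α-stability,
1-semistability and 1-stability of (E, F₁) are all equivalent. The published statement is set on the
normalisation of a singular curve, with structures over several disjoint divisors D_i lying over its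
singular points, d their total degree and each dim F₁^i a multiple of n; here Y is any smooth proper
integral curve with one structure over one divisor and only dim F₁ = a·n is assumed, which contains
the several-divisor case (D the sum of the D_i, F₁ the direct sum of the F₁^i). -/
theorem result (k : Type u) [Field k] [IsAlgClosed k] (X : Scheme.{u}) [X.Over (Spec (CommRingCat.of k))]
    [AlgebraicGeometry.IsIntegral X] [IsProper (X ↘ Spec (CommRingCat.of k))] [Smooth (X ↘ Spec (CommRingCat.of k))]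
    (hdim : topologicalKrullDim X = 1)
    (I : X.IdealSheafData) (hD : FGA.IsEffCartier I) (d : ℕ) (hd : 0 < d)
    (hdegD : ∀ (G : X.Modules) (r : ℕ), FlatMod.IsFinLocFreeOfRank r G → Module.finrank k (ParSh.fibD X I G) = r * d)
    {E : X.Modules} (n : ℕ) (hn : 2 ≤ n) (hE : FlatMod.IsFinLocFreeOfRank n E)
    (F₁ : Submodule k (ParSh.fibD X I E))
    (α : ℝ) (hα0 : 0 ≤ α) (hα1 : α < 1) (hα : 1 - 1 / ((d : ℝ) * (n : ℝ) * ((n : ℝ) - 1)) < α)
    (hcop : IsCoprime (n : ℤ) (Curv2.deg k X E n)) (a : ℕ) (ha : Module.finrank k F₁ = a * n) :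
    (ParSh.IsGPSemistable k X I α F₁ n ↔ ParSh.IsGPSemistable k X I 1 F₁ n) ∧
      (ParSh.IsGPStable k X I α F₁ n ↔ ParSh.IsGPSemistable k X I 1 F₁ n) ∧
      (ParSh.IsGPStable k X I 1 F₁ n ↔ ParSh.IsGPSemistable k X I 1 F₁ n) := by
  exact main k X hdim I hD d hd hdegD n hn hE F₁ α hα0 hα1 hα hcop a ha

end Groth.Agent.S18570
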