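import Groth.Statements.S18572
import Mathlib
import Groth.Agent.Lib.Helper27AffineLine2
import Groth.Agent.Lib.Helper27AffineRatPt

set_option autoImplicit false
universe u
open CategoryTheory AlgebraicGeometry
open REq

namespace Groth.Agent.S18572

/-- Let k be an infinite field and X an integral separated scheme of finite type over k which is retract
rational over k. Then X is almost R-trivial over k: there is a dense open subscheme U of X such
that, for every field K containing k (in the universe of k), U has a K-point and any two K-points of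
X lying in U are R-equivalent on X. -/
theorem result (k : Type u) [Field k] [Infinite k] (X : Scheme.{u})
    (f : X ⟶ Spec (CommRingCat.of k)) [IsIntegral X] [LocallyOfFiniteType f] [QuasiCompact f]
    [IsSeparated f] (hX : REq.IsRetractRational f) :
    REq.IsAlmostRTrivial f := by
  obtain ⟨U, n, V, a, b, hne, hab, ha, hb⟩ := hX
  refine ⟨U, ?_, ?_⟩
  · exact U.2.dense hne
  intro K _ _
  constructor
  · -- a `K`-point in `U`
    have hVne : (V : Set (Spec (CommRingCat.of (MvPolynomial (Fin n) k)))).Nonempty := by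
      obtain ⟨x, hx⟩ := hne
      exact ⟨(a.base ⟨x, hx⟩).1, (a.base ⟨x, hx⟩).2⟩
    obtain ⟨P, hP1, hP2⟩ := Groth.Agent.Lib.Helper27AffineRatPt.exists_ratPt V hVne
    have hPV : Set.range P.base ⊆ Set.range V.ι.base := by
      rw [Scheme.Opens.range_ι]
      exact hP2
    set P0 : Spec (CommRingCat.of k) ⟶ (V : Scheme.{u}) := IsOpenImmersion.lift V.ι P hPV with hP0def
    have hP0 : P0 ≫ V.ι = P := IsOpenImmersion.lift_fac _ _ _
    have hstr : (REq.specMap k K ≫ P0 ≫ b ≫ U.ι) ≫ f = REq.specMap k K := by
      rw [Category.assoc, Category.assoc, Category.assoc, hb, ← Category.assoc P0, hP0, hP1,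
        Category.comp_id]
    refine ⟨⟨REq.specMap k K ≫ P0 ≫ b ≫ U.ι, hstr⟩, ?_⟩
    rintro _ ⟨x, rfl⟩
    exact ((REq.specMap k K ≫ P0 ≫ b).base x).2
  · intro A B hA hB
    have hAU : Set.range A.1.base ⊆ Set.range U.ι.base := by
      rw [Scheme.Opens.range_ι]
      exact hA
    have hBU : Set.range B.1.base ⊆ Set.range U.ι.base := by
      rw [Scheme.Opens.range_ι]
      exact hB
    set A' : Spec (CommRingCat.of K) ⟶ (U : Scheme.{u}) := IsOpenImmersion.lift U.ι A.1 hAU
      with hA'def
    set B' : Spec (CommRingCat.of K) ⟶ (U : Scheme.{u}) := IsOpenImmersion.lift U.ι B.1 hBU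
      with hB'def
    have hA' : A' ≫ U.ι = A.1 := IsOpenImmersion.lift_fac _ _ _
    have hB' : B' ≫ U.ι = B.1 := IsOpenImmersion.lift_fac _ _ _
    have hA'' : A' ≫ U.ι ≫ f = REq.specMap k K := by
      rw [← Category.assoc, hA']
      exact A.2
    have hB'' : B' ≫ U.ι ≫ f = REq.specMap k K := by
      rw [← Category.assoc, hB']
      exact B.2
    obtain ⟨W, h, α, β, h1, h2, h3, h4, h5⟩ :=
      Groth.Agent.Lib.Helper27AffineLine.elemLink f U n V a b hab ha hb K ⟨A', hA''⟩ ⟨B', hB''⟩
    refine Relation.EqvGen.rel _ _ ⟨W, h ≫ U.ι, α, β, ?_, h2, h3, ?_, ?_⟩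
    · rw [Category.assoc]
      exact h1
    · rw [← Category.assoc, h4]
      exact hA'
    · rw [← Category.assoc, h5]
      exact hB'

end Groth.Agent.S18572
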