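import Groth.Statements.S18573
import Mathlib
import Groth.Agent.Lib.Helper27ProjSpaceIrr

set_option autoImplicit false
universe u
open CategoryTheory AlgebraicGeometry
open REq

namespace Groth.Agent.S18573

/-- Let Y be a scheme over a field k and K a field containing k. Let V and W be closed subsets of Y with
V ∪ W = Y such that no K-point of Y has its image in V ∩ W. If p is a K-point of Y lying in V and q
a K-point of Y lying in W, then p and q are not R-equivalent on Y. (The published step concerns
k-points of the special fibre of a proper flat scheme over a discrete valuation ring, that is K = k;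
this row is stated for any scheme Y over k and K-points for any field K containing k.) -/
theorem result (k : Type u) [Field k] (Y : Scheme.{u})
    (g : Y ⟶ Spec (CommRingCat.of k)) (K : Type u) [Field K] [Algebra k K]
    (V W : Set Y) (hV : IsClosed V) (hW : IsClosed W) (hVW : V ∪ W = Set.univ)
    (hT : ∀ z : REq.Pts g K, ¬ (Set.range z.1.base ⊆ V ∩ W))
    (p q : REq.Pts g K) (hp : Set.range p.1.base ⊆ V) (hq : Set.range q.1.base ⊆ W) :
    ¬ REq.REquiv g K p q := by
  intro hpq
  -- elementary links preserve "lying in V"
  have key : ∀ A B : REq.Pts g K, REq.ElemLink g K A B →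
      Set.range A.1.base ⊆ V → Set.range B.1.base ⊆ V := by
    rintro A B ⟨U, h, a, b, -, -, -, ha, hb⟩ hA
    have : IrreducibleSpace (REq.P1K K) :=
      Groth.Agent.Lib.Helper27ProjSpaceIrr.irreducibleSpace_projSpaceOver 1 K
    have hUpre : IsPreirreducible (U : Set (REq.P1K K)) :=
      (PreirreducibleSpace.isPreirreducible_univ (X := REq.P1K K)).open_subset U.2
        (Set.subset_univ _)
    have : PreirreducibleSpace ↥U := Subtype.preirreducibleSpace hUpre
    have hcl1 : IsClosed (h.base ⁻¹' V) := hV.preimage h.continuous
    have hcl2 : IsClosed (h.base ⁻¹' W) := hW.preimage h.continuous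
    have hcov : (Set.univ : Set ↥U) ⊆ h.base ⁻¹' V ∪ h.base ⁻¹' W := by
      intro x _
      have : h.base x ∈ V ∪ W := by rw [hVW]; trivial
      exact this
    have hAB : Set.range A.1.base = h.base '' Set.range a.base := by
      rw [← ha]
      ext y
      simp [Set.mem_image]
    have hBB : Set.range B.1.base = h.base '' Set.range b.base := by
      rw [← hb]
      ext y
      simp [Set.mem_image]
    rcases (isPreirreducible_iff_isClosed_union_isClosed.mp
      (PreirreducibleSpace.isPreirreducible_univ (X := ↥U))) _ _ hcl1 hcl2 hcov with h1 | h1
    · rw [hBB]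
      rintro _ ⟨x, -, rfl⟩
      exact h1 (Set.mem_univ x)
    · exfalso
      apply hT A
      intro y hy
      refine ⟨hA hy, ?_⟩
      rw [hAB] at hy
      obtain ⟨x, -, rfl⟩ := hy
      exact h1 (Set.mem_univ x)
  have key' : ∀ A B : REq.Pts g K, REq.ElemLink g K A B →
      (Set.range A.1.base ⊆ V ↔ Set.range B.1.base ⊆ V) := by
    intro A B hAB
    constructor
    · exact key A B hAB
    · intro hB
      by_contra hA
      -- A lies in W
      have hAW : Set.range A.1.base ⊆ W ∨ Set.range A.1.base ⊆ V := by
        obtain ⟨U, h, a, b, -, -, -, ha, hb⟩ := hAB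
        have : IrreducibleSpace (REq.P1K K) :=
          Groth.Agent.Lib.Helper27ProjSpaceIrr.irreducibleSpace_projSpaceOver 1 K
        have hUpre : IsPreirreducible (U : Set (REq.P1K K)) :=
          (PreirreducibleSpace.isPreirreducible_univ (X := REq.P1K K)).open_subset U.2
            (Set.subset_univ _)
        have : PreirreducibleSpace ↥U := Subtype.preirreducibleSpace hUpre
        have hcl1 : IsClosed (h.base ⁻¹' V) := hV.preimage h.continuous
        have hcl2 : IsClosed (h.base ⁻¹' W) := hW.preimage h.continuous
        have hcov : (Set.univ : Set ↥U) ⊆ h.base ⁻¹' V ∪ h.base ⁻¹' W := by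
          intro x _
          have : h.base x ∈ V ∪ W := by rw [hVW]; trivial
          exact this
        have hAB : Set.range A.1.base = h.base '' Set.range a.base := by
          rw [← ha]
          ext y
          simp [Set.mem_image]
        rcases (isPreirreducible_iff_isClosed_union_isClosed.mp
          (PreirreducibleSpace.isPreirreducible_univ (X := ↥U))) _ _ hcl1 hcl2 hcov with h1 | h1
        · right
          rw [hAB]
          rintro _ ⟨x, -, rfl⟩
          exact h1 (Set.mem_univ x)
        · left
          rw [hAB]
          rintro _ ⟨x, -, rfl⟩
          exact h1 (Set.mem_univ x)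
      rcases hAW with hAW | hAV
      · -- then B lies in W too, by symmetry of the argument with V and W swapped
        obtain ⟨U, h, a, b, -, -, -, ha, hb⟩ := hAB
        have : IrreducibleSpace (REq.P1K K) :=
          Groth.Agent.Lib.Helper27ProjSpaceIrr.irreducibleSpace_projSpaceOver 1 K
        have hUpre : IsPreirreducible (U : Set (REq.P1K K)) :=
          (PreirreducibleSpace.isPreirreducible_univ (X := REq.P1K K)).open_subset U.2
            (Set.subset_univ _)
        have : PreirreducibleSpace ↥U := Subtype.preirreducibleSpace hUpre
        have hcl1 : IsClosed (h.base ⁻¹' V) := hV.preimage h.continuous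
        have hcl2 : IsClosed (h.base ⁻¹' W) := hW.preimage h.continuous
        have hcov : (Set.univ : Set ↥U) ⊆ h.base ⁻¹' V ∪ h.base ⁻¹' W := by
          intro x _
          have : h.base x ∈ V ∪ W := by rw [hVW]; trivial
          exact this
        have hAB : Set.range A.1.base = h.base '' Set.range a.base := by
          rw [← ha]
          ext y
          simp [Set.mem_image]
        have hBB : Set.range B.1.base = h.base '' Set.range b.base := by
          rw [← hb]
          ext y
          simp [Set.mem_image]
        rcases (isPreirreducible_iff_isClosed_union_isClosed.mp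
          (PreirreducibleSpace.isPreirreducible_univ (X := ↥U))) _ _ hcl1 hcl2 hcov with h1 | h1
        · apply hA
          rw [hAB]
          rintro _ ⟨x, -, rfl⟩
          exact h1 (Set.mem_univ x)
        · apply hT B
          intro y hy
          refine ⟨hB hy, ?_⟩
          rw [hBB] at hy
          obtain ⟨x, -, rfl⟩ := hy
          exact h1 (Set.mem_univ x)
      · exact hA hAV
  have hiff : ∀ A B : REq.Pts g K, REq.REquiv g K A B →
      (Set.range A.1.base ⊆ V ↔ Set.range B.1.base ⊆ V) := by
    intro A B hAB
    induction hAB with
    | rel A B hAB => exact key' A B hAB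
    | refl A => exact Iff.rfl
    | symm A B _ ih => exact ih.symm
    | trans A B C _ _ ih1 ih2 => exact ih1.trans ih2
  apply hT q
  intro y hy
  exact ⟨(hiff p q hpq).mp hp hy, hq hy⟩

end Groth.Agent.S18573
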