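import Groth.Statements.S18578
import Groth.Agent.Lib.Helper19LogDiffD
import Groth.Agent.Lib.Helper28HBLift
import Groth.Agent.Lib.Helper5RLR
import Groth.Agent.Lib.Helper13AusBuchUFD

set_option autoImplicit false
universe u
open LogDiff

namespace Groth.Agent.S18578

/-- The degree-one case, stated at the local ring of a point. Let k be a field of characteristic zero, B
a smooth k-algebra, R the localization of B at a prime ideal, K the fraction field of R and f_1, …,
f_r prime elements of R. If g is a unit of K whose logarithmic differential g⁻¹dg in Ω_{K/k} is the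
image of a form η ∈ Ω_{R/k} plus an R-linear combination Σ c_i f_i⁻¹df_i, then g⁻¹dg = v⁻¹dv + Σ b_i
f_i⁻¹df_i for a unit v of R and integers b_i. (When the f_i are part of a regular system of
parameters the hypothesis says that g⁻¹dg has at worst logarithmic poles along the divisor f_1⋯f_r =
0 at this point, and the statement is the stalkwise injectivity of 1-forms with logarithmic poles
modulo logarithmic differentials of functions invertible off the divisor into Ω¹_K modulo
logarithmic differentials; it is stated here for arbitrary prime elements f_i.) -/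
theorem result
    {k B R K : Type u} [Field k] [CharZero k] [CommRing B] [Algebra k B] [Algebra.Smooth k B]
    (p : Ideal B) [p.IsPrime] [CommRing R] [Algebra B R] [IsLocalization.AtPrime R p]
    [Algebra k R] [IsScalarTower k B R]
    [Field K] [Algebra R K] [IsFractionRing R K] [Algebra k K] [IsScalarTower k R K]
    {r : ℕ} (f : Fin r → R) (hf : ∀ i, Prime (f i))
    (g : Kˣ) (η : Ω[R⁄k]) (c : Fin r → R)
    (h : (g : K)⁻¹ • KaehlerDifferential.D k K (g : K) =
      KaehlerDifferential.map k k R K η +
        ∑ i, (algebraMap R K (c i) * (algebraMap R K (f i))⁻¹) •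
          KaehlerDifferential.D k K (algebraMap R K (f i))) :
    ∃ (v : Rˣ) (b : Fin r → ℤ),
      (g : K)⁻¹ • KaehlerDifferential.D k K (g : K) =
        (algebraMap R K (v : R))⁻¹ • KaehlerDifferential.D k K (algebraMap R K (v : R)) +
          ∑ i, ((b i : K) * (algebraMap R K (f i))⁻¹) •
            KaehlerDifferential.D k K (algebraMap R K (f i)) := by
  classical
  open Groth.Agent.Lib.Helper19LogDiff in
  -- instances on `R`
  have : Algebra.FormallySmooth B R :=
    (Algebra.FormallySmooth.of_isLocalization (R := B) (Rₘ := R) p.primeCompl :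
      Algebra.FormallySmooth B R)
  have : Algebra.FormallySmooth k R := Algebra.FormallySmooth.comp k B R
  have : Algebra.FinitePresentation k B := Algebra.Smooth.finitePresentation
  have : Algebra.EssFiniteType B R := Algebra.EssFiniteType.of_isLocalization R p.primeCompl
  have : Algebra.EssFiniteType k R := Algebra.EssFiniteType.comp k B R
  have hregB : IsRegularRing B := Groth.Agent.Lib.Helper28HBLift.isRegularRing_of_smooth_field k B
  have hregR : IsRegularLocalRing R :=
    IsRegularLocalRing.of_ringEquiv
      (IsLocalization.algEquiv p.primeCompl (Localization.AtPrime p) R).toRingEquiv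
  have : IsDomain R := Groth.Agent.Lib.Helper5.isDomain_of_isRegularLocalRing R
  have : UniqueFactorizationMonoid R := Groth.Agent.Helper13AusBuch.ufd_of_isRegularLocalRing R
  obtain ⟨x, y, hy, hxy⟩ := IsFractionRing.div_surjective (A := R) (g : K)
  have hy0 : y ≠ 0 := nonZeroDivisors.ne_zero hy
  have hyK : algebraMap R K y ≠ 0 := algebraMap_ne_zero' hy0
  have hx0 : x ≠ 0 := by
    rintro rfl
    rw [map_zero, zero_div] at hxy
    exact g.ne_zero hxy.symm
  have hxK : algebraMap R K x ≠ 0 := algebraMap_ne_zero' hx0
  have hg : dlog k (g : K) = dl k (K := K) x - dl k (K := K) y := by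
    rw [← hxy, dlog_div k hxK hyK]; rfl
  have hH : Hyp k (K := K) f x y := by
    refine ⟨η, c, ?_⟩
    rw [← hg]
    change (g : K)⁻¹ • KaehlerDifferential.D k K (g : K) = _
    rw [h]
    congr 1
    refine Finset.sum_congr rfl fun i _ => ?_
    rw [mul_smul]; rfl
  obtain ⟨v, b, hvb⟩ := concl_of_hyp k (K := K) f hf (x * y) x y rfl hx0 hy0 hH
  refine ⟨v, b, ?_⟩
  change dlog k (g : K) = _
  rw [hg, hvb]
  congr 1
  refine Finset.sum_congr rfl fun i _ => ?_
  rw [mul_smul, Int.cast_smul_eq_zsmul]; rfl

end Groth.Agent.S18578
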