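import Groth.Statements.S18579
import Mathlib.Tactic

set_option autoImplicit false
universe u
open LogDiff

namespace Groth.Agent.S18579

/-- A divisor of a product of primes `f i` is a unit times a product of some of the `f i`. -/
theorem exists_unit_mul_prod_of_mul_eq {R : Type*} [CommRing R] [IsDomain R] {ι : Type*}
    (f : ι → R) (hf : ∀ i, Prime (f i)) (s : Multiset ι) :
    ∀ a a' : R, a * a' = (s.map f).prod → ∃ (v : Rˣ) (s' : Multiset ι), a = v * (s'.map f).prod := by
  induction s using Multiset.induction_on with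
  | empty =>
    intro a a' h
    rw [Multiset.map_zero, Multiset.prod_zero] at h
    have hu : IsUnit a := IsUnit.of_mul_eq_one _ h
    exact ⟨hu.unit, 0, by simp⟩
  | cons j s ih =>
    intro a a' h
    rw [Multiset.map_cons, Multiset.prod_cons] at h
    have hdvd : f j ∣ a * a' := ⟨_, h⟩
    rcases (hf j).dvd_or_dvd hdvd with ⟨a1, rfl⟩ | ⟨a1, rfl⟩
    · have h' : a1 * a' = (s.map f).prod := by
        apply mul_left_cancel₀ (hf j).ne_zero
        rw [← h]; ring
      obtain ⟨v, s', hs'⟩ := ih a1 a' h'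
      refine ⟨v, j ::ₘ s', ?_⟩
      rw [Multiset.map_cons, Multiset.prod_cons, hs']
      ring
    · have h' : a * a1 = (s.map f).prod := by
        apply mul_left_cancel₀ (hf j).ne_zero
        rw [← h]; ring
      exact ih a a1 h'

/-- Pairwise non-associated primes: if `v * ∏ f^c = v' * ∏ f^c'` with `c j > 0` then `c' j > 0`. -/
theorem pos_of_prod_eq {R : Type*} [CommRing R] [IsDomain R] {r : ℕ}
    (f : Fin r → R) (hf : ∀ i, Prime (f i)) (hfa : ∀ i j, Associated (f i) (f j) → i = j)
    (v v' : Rˣ) (c c' : Fin r → ℕ)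
    (h : (v : R) * ∏ i, f i ^ c i = (v' : R) * ∏ i, f i ^ c' i) (j : Fin r) (hj : 0 < c j) :
    0 < c' j := by
  have hdvd : f j ∣ (v : R) * ∏ i, f i ^ c i := by
    apply Dvd.dvd.mul_left
    apply dvd_trans (dvd_pow_self (f j) hj.ne')
    exact Finset.dvd_prod_of_mem (fun i => f i ^ c i) (Finset.mem_univ j)
  rw [h] at hdvd
  rcases (hf j).dvd_or_dvd hdvd with h1 | h1
  · exact absurd (isUnit_of_dvd_unit h1 v'.isUnit) (hf j).not_unit
  · obtain ⟨i, _, hi⟩ := (hf j).dvd_finset_prod_iff _ |>.mp h1
    have hci : 0 < c' i := by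
      by_contra hcon
      have : c' i = 0 := by omega
      rw [this, pow_zero] at hi
      exact (hf j).not_unit (isUnit_of_dvd_one hi)
    have hji : f j ∣ f i := (hf j).dvd_of_dvd_pow hi
    have := hfa j i ((hf j).associated_of_dvd (hf i) hji)
    rw [this]
    exact hci


/-- The exact sequence for units (first Milnor K-groups) when every component of the divisor is removed.
Let k be a field, B a smooth k-algebra, R the localization of B at a prime ideal, K the fraction
field of R and f_1, …, f_r pairwise non-associate prime elements of R. If w is a unit of K such that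
w and w⁻¹ both lie in R[1/(f_1⋯f_r)], i.e. each becomes an element of R after multiplication by a
power of f_1⋯f_r, then there is exactly one pair (v, b) consisting of a unit v of R and integers
b_1, …, b_r with w = v · ∏ f_i^{b_i} in K. (This is the exactness of 0 → Γ(Spec R, O^×) → Γ(Spec R ∖
V(f_1⋯f_r), O^×) → ℤ^r → 0, the last map being the orders along the f_i. The published statement
takes the f_i to be local equations of the components of a normal crossings divisor, over a field of
characteristic zero; this row allows arbitrary pairwise non-associate prime elements and any field.) -/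
theorem result
    {k B R K : Type u} [Field k] [CommRing B] [Algebra k B] [Algebra.Smooth k B]
    (p : Ideal B) [p.IsPrime] [CommRing R] [Algebra B R] [IsLocalization.AtPrime R p]
    [Field K] [Algebra R K] [IsFractionRing R K]
    {r : ℕ} (f : Fin r → R) (hf : ∀ i, Prime (f i)) (hfa : ∀ i j, Associated (f i) (f j) → i = j)
    (w : Kˣ)
    (hw : ∃ (a : R) (n : ℕ), (w : K) * algebraMap R K ((∏ i, f i) ^ n) = algebraMap R K a)
    (hw' : ∃ (a : R) (n : ℕ), (w⁻¹ : Kˣ) * algebraMap R K ((∏ i, f i) ^ n) = algebraMap R K a) :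
    ∃! vb : Rˣ × (Fin r → ℤ),
      (w : K) = algebraMap R K (vb.1 : R) * ∏ i, (algebraMap R K (f i)) ^ (vb.2 i) := by
  classical
  have hinj : Function.Injective (algebraMap R K) := IsFractionRing.injective R K
  have hdom : IsDomain R := Function.Injective.isDomain (algebraMap R K) hinj
  have hfK : ∀ i, algebraMap R K (f i) ≠ 0 := fun i =>
    (map_ne_zero_iff _ hinj).mpr (hf i).ne_zero
  obtain ⟨a, n, ha⟩ := hw
  obtain ⟨a', m, ha'⟩ := hw'
  -- a * a' = (∏ f)^(n+m)
  have haa' : a * a' = (((n + m) • (Finset.univ : Finset (Fin r)).val).map f).prod := by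
    apply hinj
    rw [map_mul, ← ha, ← ha', Multiset.map_nsmul, Multiset.prod_nsmul]
    have : ((Finset.univ : Finset (Fin r)).val.map f).prod = ∏ i, f i := rfl
    rw [this, pow_add, map_mul]
    have hw1 : (w : K) * (w⁻¹ : Kˣ) = 1 := by rw [← Units.val_mul, mul_inv_cancel, Units.val_one]
    calc (w : K) * (algebraMap R K) ((∏ i, f i) ^ n) * (↑w⁻¹ * (algebraMap R K) ((∏ i, f i) ^ m))
        = ((w : K) * (w⁻¹ : Kˣ)) * ((algebraMap R K) ((∏ i, f i) ^ n) *
            (algebraMap R K) ((∏ i, f i) ^ m)) := by ring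
      _ = _ := by rw [hw1, one_mul]
  obtain ⟨v, s', hs'⟩ := exists_unit_mul_prod_of_mul_eq f hf _ a a' haa'
  have hs'' : a = v * ∏ i, f i ^ s'.count i := by
    rw [hs', Finset.prod_multiset_map_count]
    congr 1
    apply Finset.prod_subset (Finset.subset_univ _)
    intro i _ hi
    rw [Multiset.mem_toFinset] at hi
    rw [Multiset.count_eq_zero_of_notMem hi, pow_zero]
  -- existence
  have hprodK : algebraMap R K (∏ i, f i) ≠ 0 := by
    rw [map_prod]
    exact Finset.prod_ne_zero_iff.mpr fun i _ => hfK i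
  have hex : (w : K) = algebraMap R K (v : R) *
      ∏ i, (algebraMap R K (f i)) ^ ((s'.count i : ℤ) - n) := by
    have h1 : (w : K) = algebraMap R K a * ((algebraMap R K (∏ i, f i)) ^ n)⁻¹ := by
      rw [← ha, map_pow, mul_assoc, mul_inv_cancel₀ (pow_ne_zero _ hprodK), mul_one]
    rw [h1, hs'', map_mul, map_prod, mul_assoc]
    congr 1
    have h2 : ∀ i, (algebraMap R K (f i)) ^ ((s'.count i : ℤ) - n) =
        (algebraMap R K (f i)) ^ (s'.count i) * ((algebraMap R K (f i)) ^ n)⁻¹ := by
      intro i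
      rw [zpow_sub₀ (hfK i), zpow_natCast, zpow_natCast, div_eq_mul_inv]
    simp_rw [h2]
    rw [Finset.prod_mul_distrib, Finset.prod_inv_distrib, map_prod, Finset.prod_pow]
    simp only [map_pow]
  refine ⟨(v, fun i => (s'.count i : ℤ) - n), hex, ?_⟩
  -- uniqueness
  rintro ⟨v', b'⟩ hvb'
  simp only at hvb'
  set b : Fin r → ℤ := fun i => (s'.count i : ℤ) - n with hb
  -- general uniqueness claim
  have huniq : ∀ (v₁ v₂ : Rˣ) (b₁ b₂ : Fin r → ℤ),
      algebraMap R K (v₁ : R) * ∏ i, (algebraMap R K (f i)) ^ (b₁ i) =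
        algebraMap R K (v₂ : R) * ∏ i, (algebraMap R K (f i)) ^ (b₂ i) → b₁ = b₂ ∧ v₁ = v₂ := by
    intro v₁ v₂ b₁ b₂ heq
    set mn : Fin r → ℤ := fun i => min (b₁ i) (b₂ i) with hmn
    set c₁ : Fin r → ℕ := fun i => (b₁ i - mn i).toNat with hc₁
    set c₂ : Fin r → ℕ := fun i => (b₂ i - mn i).toNat with hc₂
    have hc₁' : ∀ i, b₁ i = mn i + c₁ i := by
      intro i
      have : 0 ≤ b₁ i - mn i := sub_nonneg.mpr (min_le_left _ _)
      simp only [hc₁, Int.toNat_of_nonneg this]; ring
    have hc₂' : ∀ i, b₂ i = mn i + c₂ i := by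
      intro i
      have : 0 ≤ b₂ i - mn i := sub_nonneg.mpr (min_le_right _ _)
      simp only [hc₂, Int.toNat_of_nonneg this]; ring
    have hor : ∀ i, c₁ i = 0 ∨ c₂ i = 0 := by
      intro i
      rcases le_total (b₁ i) (b₂ i) with h | h
      · left; simp only [hc₁, hmn, min_eq_left h, sub_self, Int.toNat_zero]
      · right; simp only [hc₂, hmn, min_eq_right h, sub_self, Int.toNat_zero]
    have hsplit : ∀ (bb : Fin r → ℤ) (cc : Fin r → ℕ), (∀ i, bb i = mn i + cc i) →
        ∏ i, (algebraMap R K (f i)) ^ (bb i) =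
          (∏ i, (algebraMap R K (f i)) ^ (mn i)) * algebraMap R K (∏ i, f i ^ cc i) := by
      intro bb cc hbc
      rw [map_prod, ← Finset.prod_mul_distrib]
      refine Finset.prod_congr rfl fun i _ => ?_
      rw [hbc i, zpow_add₀ (hfK i), zpow_natCast, map_pow]
    have hM : (∏ i, (algebraMap R K (f i)) ^ (mn i)) ≠ 0 :=
      Finset.prod_ne_zero_iff.mpr fun i _ => zpow_ne_zero _ (hfK i)
    rw [hsplit b₁ c₁ hc₁', hsplit b₂ c₂ hc₂'] at heq
    have heqR : (v₁ : R) * ∏ i, f i ^ c₁ i = (v₂ : R) * ∏ i, f i ^ c₂ i := by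
      apply hinj
      rw [map_mul, map_mul]
      apply mul_left_cancel₀ hM
      calc _ = algebraMap R K (v₁ : R) * ((∏ i, (algebraMap R K (f i)) ^ (mn i)) *
              algebraMap R K (∏ i, f i ^ c₁ i)) := by ring
        _ = algebraMap R K (v₂ : R) * ((∏ i, (algebraMap R K (f i)) ^ (mn i)) *
              algebraMap R K (∏ i, f i ^ c₂ i)) := heq
        _ = _ := by ring
    have hz₁ : ∀ j, c₁ j = 0 := by
      intro j
      by_contra hne
      have hpos : 0 < c₁ j := Nat.pos_of_ne_zero hne
      have := pos_of_prod_eq f hf hfa v₁ v₂ c₁ c₂ heqR j hpos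
      rcases hor j with h | h <;> omega
    have hz₂ : ∀ j, c₂ j = 0 := by
      intro j
      by_contra hne
      have hpos : 0 < c₂ j := Nat.pos_of_ne_zero hne
      have := pos_of_prod_eq f hf hfa v₂ v₁ c₂ c₁ heqR.symm j hpos
      rcases hor j with h | h <;> omega
    constructor
    · funext i
      rw [hc₁' i, hc₂' i, hz₁ i, hz₂ i]
    · simp only [hz₁, hz₂, pow_zero, Finset.prod_const_one, mul_one] at heqR
      exact Units.ext heqR
  obtain ⟨h1, h2⟩ := huniq v' v b' b (hvb'.symm.trans hex)
  rw [h1, h2]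

end Groth.Agent.S18579
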