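import Groth.Statements.S18580
import Mathlib.Tactic

set_option autoImplicit false
universe u
open EtBase

namespace Groth.Agent.S18580

open AlgebraicGeometry CategoryTheory Limits

/-- A section of a morphism whose diagonal is an open immersion is an open immersion. -/
theorem isOpenImmersion_of_section {X Y : Scheme.{u}} (f : X ⟶ Y)
    [IsOpenImmersion (pullback.diagonal f)] (s : Y ⟶ X) (hs : s ≫ f = 𝟙 Y) :
    IsOpenImmersion s := by
  have : (@IsOpenImmersion).HasOfPostcompProperty (@IsOpenImmersion).diagonal :=
    MorphismProperty.hasOfPostcompProperty_iff_le_diagonal.2 le_rfl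
  refine MorphismProperty.of_postcomp (W := @IsOpenImmersion)
    (W' := (@IsOpenImmersion).diagonal) s f ?_ ?_
  · show IsOpenImmersion (pullback.diagonal f)
    infer_instance
  · rw [hs]
    show IsOpenImmersion (𝟙 Y)
    infer_instance

/-- A section of a separated morphism is a closed immersion. -/
theorem isClosedImmersion_of_section {X Y : Scheme.{u}} (f : X ⟶ Y) [IsSeparated f]
    (s : Y ⟶ X) (hs : s ≫ f = 𝟙 Y) : IsClosedImmersion s := by
  have : IsClosedImmersion (s ≫ f) := by rw [hs]; infer_instance
  exact IsClosedImmersion.of_comp s f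

/-- A section with range inside an open `U` mapping isomorphically to the base is determined. -/
theorem section_eq_of_range_subset {X Y : Scheme.{u}} (f : X ⟶ Y) (U : X.Opens)
    [IsIso (U.ι ≫ f)] (s : Y ⟶ X) (hs : s ≫ f = 𝟙 Y) (hr : Set.range s ⊆ (U : Set X)) :
    s = inv (U.ι ≫ f) ≫ U.ι := by
  have hr' : Set.range s ⊆ Set.range U.ι := by
    rw [Scheme.Opens.range_ι]; exact hr
  have hfac := IsOpenImmersion.lift_fac U.ι s hr'
  have h1 : IsOpenImmersion.lift U.ι s hr' ≫ (U.ι ≫ f) = 𝟙 Y := by
    rw [← Category.assoc, hfac, hs]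
  have h2 : IsOpenImmersion.lift U.ι s hr' = inv (U.ι ≫ f) := by
    rw [← cancel_mono (U.ι ≫ f), h1, IsIso.inv_hom_id]
  rw [← h2, hfac]


open AlgebraicGeometry CategoryTheory in
/-- Let Y be a connected scheme and f : X ⟶ Y a separated morphism that is unramified (locally of finite
type and formally unramified). Then the sections of f correspond bijectively to the connected
components of X mapping isomorphically onto Y: there is a bijection from the set of sections s of f
to the set of open subschemes U of X whose underlying set is a connected component of X and for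
which U ⟶ X ⟶ Y is an isomorphism, sending s to its image. In particular every section is an
isomorphism onto a connected component of X and is determined by its image. (A connected component
mapping isomorphically onto Y is the image of a section, hence open, so restricting to open
components loses nothing. The published statement also assumes Y Noetherian; that hypothesis plays
no role and is omitted.) -/
theorem result {X Y : Scheme.{u}} (f : X ⟶ Y)
    [FormallyUnramified f] [LocallyOfFiniteType f] [IsSeparated f] [ConnectedSpace Y] :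
    ∃ e : {s : Y ⟶ X // s ≫ f = 𝟙 Y} ≃
        {U : X.Opens // (∃ x : X, (U : Set X) = connectedComponent x) ∧ IsIso (U.ι ≫ f)},
      ∀ s : {s : Y ⟶ X // s ≫ f = 𝟙 Y}, ((e s).1 : Set X) = Set.range s.1 := by
  classical
  -- the forward map
  have hopen : ∀ s : {s : Y ⟶ X // s ≫ f = 𝟙 Y}, IsOpenImmersion s.1 :=
    fun s => isOpenImmersion_of_section f s.1 s.2
  have hclosed : ∀ s : {s : Y ⟶ X // s ≫ f = 𝟙 Y}, IsClosedImmersion s.1 :=
    fun s => isClosedImmersion_of_section f s.1 s.2
  have hcomp : ∀ s : {s : Y ⟶ X // s ≫ f = 𝟙 Y},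
      ∃ x : X, Set.range s.1 = connectedComponent x := by
    intro s
    have := hopen s
    have := hclosed s
    obtain ⟨y⟩ : Nonempty Y := inferInstance
    refine ⟨s.1 y, ?_⟩
    apply Set.Subset.antisymm
    · apply IsPreconnected.subset_connectedComponent
      · exact (isPreconnected_range s.1.continuous)
      · exact ⟨y, rfl⟩
    · apply IsClopen.connectedComponent_subset
      · exact ⟨s.1.isClosedEmbedding.isClosed_range, s.1.isOpenEmbedding.isOpen_range⟩
      · exact ⟨y, rfl⟩
  have hiso : ∀ s : {s : Y ⟶ X // s ≫ f = 𝟙 Y},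
      haveI := hopen s; IsIso ((Scheme.Hom.opensRange s.1).ι ≫ f) := by
    intro s
    haveI := hopen s
    have h1 : (Scheme.Hom.isoOpensRange s.1).hom ≫ ((Scheme.Hom.opensRange s.1).ι ≫ f) = 𝟙 Y := by
      rw [← Category.assoc, Scheme.Hom.isoOpensRange_hom_ι, s.2]
    have h2 : (Scheme.Hom.opensRange s.1).ι ≫ f = (Scheme.Hom.isoOpensRange s.1).inv := by
      rw [← cancel_epi (Scheme.Hom.isoOpensRange s.1).hom, h1, Iso.hom_inv_id]
    rw [h2]
    infer_instance
  let F : {s : Y ⟶ X // s ≫ f = 𝟙 Y} →
      {U : X.Opens // (∃ x : X, (U : Set X) = connectedComponent x) ∧ IsIso (U.ι ≫ f)} :=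
    fun s => haveI := hopen s
      ⟨Scheme.Hom.opensRange s.1, by
        obtain ⟨x, hx⟩ := hcomp s
        exact ⟨x, by rw [Scheme.Hom.coe_opensRange]; exact hx⟩, hiso s⟩
  have hF : ∀ s, ((F s).1 : Set X) = Set.range s.1 := by
    intro s
    haveI := hopen s
    exact Scheme.Hom.coe_opensRange s.1
  have hbij : Function.Bijective F := by
    constructor
    · intro s₁ s₂ h
      have hU : (F s₁).1 = (F s₂).1 := congrArg Subtype.val h
      haveI : IsIso ((F s₁).1.ι ≫ f) := (F s₁).2.2
      have e1 := section_eq_of_range_subset f (F s₁).1 s₁.1 s₁.2 (by rw [hF s₁])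
      have e2 := section_eq_of_range_subset f (F s₁).1 s₂.1 s₂.2 (by rw [hU, hF s₂])
      exact Subtype.ext (e1.trans e2.symm)
    · rintro ⟨U, hU1, hU2⟩
      haveI : IsIso (U.ι ≫ f) := hU2
      refine ⟨⟨inv (U.ι ≫ f) ≫ U.ι, by rw [Category.assoc, IsIso.inv_hom_id]⟩, ?_⟩
      apply Subtype.ext
      apply TopologicalSpace.Opens.ext
      rw [hF]
      show Set.range (inv (U.ι ≫ f) ≫ U.ι) = (U : Set X)
      rw [Scheme.Hom.comp_base, TopCat.coe_comp, Set.range_comp,
        Set.range_eq_univ.mpr (inv (U.ι ≫ f)).surjective, Set.image_univ,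
        Scheme.Opens.range_ι]
  exact ⟨Equiv.ofBijective F hbij, hF⟩

end Groth.Agent.S18580
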