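import Groth.Statements.S18581
import Groth.Agent.Lib.Helper28DepthFlat2
import Mathlib.RingTheory.Smooth.Flat
import Mathlib.RingTheory.Unramified.LocalRing
import Mathlib.RingTheory.Etale.Basic
-- import your own Groth.Agent.* helpers here

set_option autoImplicit false
universe u
open Desc

namespace Groth.Agent.S18581

open Groth.Agent.Lib.Helper28

/-- Let A → B be a local homomorphism of Noetherian local rings which is étale, in the sense that B is
(compatibly with the map from A) the localization of an étale A-algebra E at a prime ideal. Then A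
is a Cohen–Macaulay ring exactly when B is one. -/
theorem result (A B : Type u) [CommRing A] [CommRing B]
    [IsLocalRing A] [IsLocalRing B] [IsNoetherianRing A] [IsNoetherianRing B]
    [Algebra A B] [IsLocalHom (algebraMap A B)]
    (E : Type u) [CommRing E] [Algebra A E] [Algebra.Etale A E] (P : Ideal E) [P.IsPrime]
    [Algebra E B] [IsScalarTower A E B] [IsLocalization.AtPrime B P] :
    LocCoh.IsCohenMacaulayLocalRing A ↔ LocCoh.IsCohenMacaulayLocalRing B := by
  have hflatE : Module.Flat E B := IsLocalization.flat B P.primeCompl
  have hflat : Module.Flat A B := Module.Flat.trans A E B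
  have hunrE : Algebra.FormallyUnramified E B :=
    Algebra.FormallyUnramified.of_isLocalization P.primeCompl
  have hunr : Algebra.FormallyUnramified A B := Algebra.FormallyUnramified.comp A E B
  have hessE : Algebra.EssFiniteType E B := Algebra.EssFiniteType.of_isLocalization B P.primeCompl
  have hess : Algebra.EssFiniteType A B := Algebra.EssFiniteType.comp A E B
  have hmax : (IsLocalRing.maximalIdeal A).map (algebraMap A B) = IsLocalRing.maximalIdeal B :=
    Algebra.FormallyUnramified.map_maximalIdeal
  have key := depth_tensor_of_flat (R := A) (S := B) A B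
  have h1 : LocCoh.depth B (TensorProduct A B A) = LocCoh.depth B B :=
    idealDepth_congr (TensorProduct.AlgebraTensorModule.rid A B B) _
  have h2 : LocCoh.depth B (B ⧸ ((IsLocalRing.maximalIdeal A).map (algebraMap A B) • ⊤ :
      Submodule B B)) = 0 := by
    rw [depth_eq_zero_iff, AssociatedPrimes.mem_iff, isAssociatedPrime_iff]
    refine ⟨inferInstance, Submodule.Quotient.mk 1, ?_⟩
    ext b
    rw [Submodule.mem_colon_singleton, Submodule.mem_bot, ← Submodule.Quotient.mk_smul,
      Submodule.Quotient.mk_eq_zero, hmax, smul_eq_mul, Ideal.mul_top, smul_eq_mul, mul_one]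
  rw [h1, h2, add_zero] at key
  -- dimensions agree
  have hlies : (IsLocalRing.maximalIdeal B).LiesOver (IsLocalRing.maximalIdeal A) :=
    ⟨(IsLocalRing.maximalIdeal_comap (algebraMap A B)).symm⟩
  have hht := Ideal.height_eq_height_add_of_liesOver_of_hasGoingDown
    (IsLocalRing.maximalIdeal A) (IsLocalRing.maximalIdeal B)
  have hzero : ((IsLocalRing.maximalIdeal B).map (Ideal.Quotient.mk
      ((IsLocalRing.maximalIdeal A).map (algebraMap A B)))).height = 0 := by
    rw [hmax, Ideal.map_quotient_self]
    haveI : Nontrivial (B ⧸ IsLocalRing.maximalIdeal B) :=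
      Ideal.Quotient.nontrivial_iff.mpr Ideal.IsPrime.ne_top'
    exact Ideal.height_bot
  rw [hzero, add_zero] at hht
  have hdim : ringKrullDim A = ringKrullDim B := by
    rw [← IsLocalRing.maximalIdeal_height_eq_ringKrullDim,
      ← IsLocalRing.maximalIdeal_height_eq_ringKrullDim, hht]
  constructor
  · intro hA
    refine ⟨?_⟩
    rw [Module.supportDim_self_eq_ringKrullDim, ← hdim, ← Module.supportDim_self_eq_ringKrullDim,
      key]
    exact hA.supportDim_eq_depth
  · intro hB
    refine ⟨?_⟩
    rw [Module.supportDim_self_eq_ringKrullDim, hdim, ← Module.supportDim_self_eq_ringKrullDim,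
      ← key]
    exact hB.supportDim_eq_depth

end Groth.Agent.S18581
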