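import Groth.Statements.S18592
import Mathlib.Tactic
import Groth.Agent.S18591

set_option autoImplicit false
universe v u
open W4c5suslinpi1ab

namespace Groth.Agent.S18592

open CategoryTheory MonoidalCategory Functor.LaxMonoidal Functor.OplaxMonoidal

section helpers
variable {C : Type u} [Category.{v} C] {D : Type u} [Category.{v} D] {F : C ⥤ D} {G : D ⥤ C}
  (adj : F ⊣ G)

@[reassoc]
theorem map_homEquiv_counit {X : C} {Y : D} (f : F.obj X ⟶ Y) :
    F.map (adj.homEquiv X Y f) ≫ adj.counit.app Y = f := by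
  have h := (adj.homEquiv X Y).symm_apply_apply f
  rwa [Adjunction.homEquiv_symm_apply] at h

end helpers

section square
variable {S₀ : Type u} [Category.{v} S₀] [MonoidalCategory S₀]
    {Y₁ : Type u} [Category.{v} Y₁] [MonoidalCategory Y₁]
    {Y₂ : Type u} [Category.{v} Y₂] [MonoidalCategory Y₂]
    {X : Type u} [Category.{v} X] [MonoidalCategory X]
    {fL : S₀ ⥤ Y₁} {fR : Y₁ ⥤ S₀} (adjf : fL ⊣ fR) [fL.OplaxMonoidal] [fR.LaxMonoidal]
    [adjf.IsMonoidal] {gR : Y₂ ⥤ S₀}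
    {pL : Y₁ ⥤ X} {pR : X ⥤ Y₁} (adjp : pL ⊣ pR) [pL.OplaxMonoidal] [pR.LaxMonoidal]
    [adjp.IsMonoidal] {qL : Y₂ ⥤ X} {qR : X ⥤ Y₂} (adjq : qL ⊣ qR)
    (ν : qR ⋙ gR ⟶ pR ⋙ fR)
    {fS : S₀ ⥤ Y₁} (adjf' : fR ⊣ fS) {gS : S₀ ⥤ Y₂} (adjg' : gR ⊣ gS)
    {pS : Y₁ ⥤ X} (adjp' : pR ⊣ pS)
    [∀ (A : Y₁) (B : S₀), IsIso (W4c5suslinpi1ab.projR adjf A B)]
    [∀ (A : Y₁) (B : X), IsIso (W4c5suslinpi1ab.projL adjp A B)]
    [∀ B : Y₂, IsIso ((W4c5suslinpi1ab.bcMor adjf adjq ν).app B)]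

/-- The adjoint of `cupShriek`. -/
@[reassoc]
theorem map_cupShriek_counit (A Y : S₀) :
    fR.map (W4c5suslinpi1ab.cupShriek adjf adjf' A Y) ≫ adjf'.counit.app (A ⊗ Y) =
      inv (W4c5suslinpi1ab.projR adjf (fS.obj A) Y) ≫ (adjf'.counit.app A ▷ Y) := by
  unfold W4c5suslinpi1ab.cupShriek
  exact map_homEquiv_counit adjf' _

/-- The morphism of which `prodShriek` is the adjoint. -/
noncomputable def psi (A B : S₀) :
    pR.obj (pL.obj (fS.obj A) ⊗ qL.obj (gS.obj B)) ⟶ fS.obj (A ⊗ B) :=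
  inv (W4c5suslinpi1ab.projL adjp (fS.obj A) (qL.obj (gS.obj B))) ≫
    (fS.obj A ◁ inv ((W4c5suslinpi1ab.bcMor adjf adjq ν).app (gS.obj B))) ≫
    W4c5suslinpi1ab.cupShriek adjf adjf' A (gR.obj (gS.obj B)) ≫
    fS.map (A ◁ adjg'.counit.app B)

theorem prodShriek_eq (A B : S₀) :
    W4c5suslinpi1ab.prodShriek adjf adjf' adjg' adjp adjp' adjq ν A B =
      adjp'.homEquiv _ _ (psi adjf adjp adjq ν adjf' adjg' A B) := rfl

/-- The exterior product followed by `fR` of `psi`. -/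
theorem extProd_map_psi (A B : S₀) :
    W4c5suslinpi1ab.extProd adjf adjp adjq ν (fS.obj A) (gS.obj B) ≫
        fR.map (psi adjf adjp adjq ν adjf' adjg' A B) =
      W4c5suslinpi1ab.projR adjf (fS.obj A) (gR.obj (gS.obj B)) ≫
        fR.map (W4c5suslinpi1ab.cupShriek adjf adjf' A (gR.obj (gS.obj B))) ≫
          fR.map (fS.map (A ◁ adjg'.counit.app B)) := by
  unfold W4c5suslinpi1ab.extProd psi
  simp only [Category.assoc, ← Functor.map_comp]
  congr 2
  simp only [Functor.comp_obj, IsIso.hom_inv_id_assoc, ← MonoidalCategory.whiskerLeft_comp_assoc,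
    IsIso.hom_inv_id, MonoidalCategory.whiskerLeft_id, Category.id_comp]

end square


open CategoryTheory MonoidalCategory Functor.LaxMonoidal Functor.OplaxMonoidal in
/-- In a square of adjunctions between monoidal categories — fL ⊣ fR from the base S₀ to Y₁, pL ⊣ pR
from Y₁ to X (both left adjoints oplax monoidal, right adjoints with the induced lax structure), qL
⊣ qR from Y₂ to X, a functor gR : Y₂ ⥤ S₀ and a natural transformation ν : qR ⋙ gR ⟶ pR ⋙ fR from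
which the base change fL gR ⟶ pR qL is built, with right adjoints fS of fR, gS of gR and pS of pR
(so fS ⋙ pS is right adjoint to pR ⋙ fR), and with the right projection morphisms of adjf, the left
projection morphisms of adjp and the base change all isomorphisms, the exterior product fR fS A ⊗ gR
gS B ⟶ fR pR (pL fS A ⊗ qL gS B) followed by the adjoint of the shriek product pL fS A ⊗ qL gS B ⟶
pS fS (A ⊗ B) is the tensor product of the counits fR fS A ⟶ A and gR gS B ⟶ B. -/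
theorem result {S₀ : Type u} [Category.{v} S₀] [MonoidalCategory S₀]
    {Y₁ : Type u} [Category.{v} Y₁] [MonoidalCategory Y₁]
    {Y₂ : Type u} [Category.{v} Y₂] [MonoidalCategory Y₂]
    {X : Type u} [Category.{v} X] [MonoidalCategory X]
    {fL : S₀ ⥤ Y₁} {fR : Y₁ ⥤ S₀} (adjf : fL ⊣ fR) [fL.OplaxMonoidal] [fR.LaxMonoidal]
    [adjf.IsMonoidal] {gR : Y₂ ⥤ S₀}
    {pL : Y₁ ⥤ X} {pR : X ⥤ Y₁} (adjp : pL ⊣ pR) [pL.OplaxMonoidal] [pR.LaxMonoidal]
    [adjp.IsMonoidal] {qL : Y₂ ⥤ X} {qR : X ⥤ Y₂} (adjq : qL ⊣ qR)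
    (ν : qR ⋙ gR ⟶ pR ⋙ fR)
    {fS : S₀ ⥤ Y₁} (adjf' : fR ⊣ fS) {gS : S₀ ⥤ Y₂} (adjg' : gR ⊣ gS)
    {pS : Y₁ ⥤ X} (adjp' : pR ⊣ pS)
    [∀ (A : Y₁) (B : S₀), IsIso (W4c5suslinpi1ab.projR adjf A B)]
    [∀ (A : Y₁) (B : X), IsIso (W4c5suslinpi1ab.projL adjp A B)]
    [∀ B : Y₂, IsIso ((W4c5suslinpi1ab.bcMor adjf adjq ν).app B)] (A B : S₀) :
    W4c5suslinpi1ab.extProd adjf adjp adjq ν (fS.obj A) (gS.obj B) ≫
      ((adjp'.comp adjf').homEquiv _ _).symm
        (W4c5suslinpi1ab.prodShriek adjf adjf' adjg' adjp adjp' adjq ν A B) =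
      (adjf'.counit.app A ⊗ₘ adjg'.counit.app B) := by
  rw [prodShriek_eq, Adjunction.homEquiv_symm_apply, Adjunction.comp_counit_app]
  simp only [Functor.comp_obj, Functor.comp_map]
  rw [← Functor.map_comp_assoc, map_homEquiv_counit, ← Category.assoc, extProd_map_psi]
  simp only [Category.assoc]
  dsimp only [Functor.comp_obj, Functor.id_obj]
  rw [Groth.Agent.S18591.cn adjf', map_cupShriek_counit_assoc, IsIso.hom_inv_id_assoc,
    ← tensorHom_def]
end Groth.Agent.S18592
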