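import Groth.Statements.S18593
import Mathlib.Tactic
import Groth.Agent.S18592

set_option autoImplicit false
universe v u
open W4c5suslinpi1ab

namespace Groth.Agent.S18593

open CategoryTheory MonoidalCategory Functor.LaxMonoidal Functor.OplaxMonoidal

section helpers
variable {C : Type u} [Category.{v} C] {D : Type u} [Category.{v} D] {F : C ⥤ D} {G : D ⥤ C}
  (adj : F ⊣ G)

@[reassoc]
theorem un {X Y : C} (f : X ⟶ Y) :
    adj.unit.app X ≫ G.map (F.map f) = f ≫ adj.unit.app Y :=
  adj.unit_naturality f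

end helpers

section projR
variable {C : Type u} [Category.{v} C] [MonoidalCategory C] {D : Type u} [Category.{v} D]
  [MonoidalCategory D] {L : C ⥤ D} {R : D ⥤ C} (adj : L ⊣ R) [R.LaxMonoidal]

/-- Naturality of the right projection morphism in the second variable. -/
@[reassoc]
theorem projR_natural_right (Z : D) {Y Y' : C} (h : Y ⟶ Y') :
    (R.obj Z ◁ h) ≫ W4c5suslinpi1ab.projR adj Z Y' =
      W4c5suslinpi1ab.projR adj Z Y ≫ R.map (Z ◁ L.map h) := by
  unfold W4c5suslinpi1ab.projR
  rw [Category.assoc, ← μ_natural_right, ← MonoidalCategory.whiskerLeft_comp_assoc,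
    ← MonoidalCategory.whiskerLeft_comp_assoc]
  congr 2
  exact (un adj h).symm

variable {S : C ⥤ D} (adj' : R ⊣ S) [∀ (A : D) (B : C), IsIso (W4c5suslinpi1ab.projR adj A B)]
  [L.OplaxMonoidal] [adj.IsMonoidal]

/-- Naturality of `cupShriek` in the second variable. -/
@[reassoc]
theorem cupShriek_natural_right (A : C) {Y Y' : C} (h : Y ⟶ Y') :
    W4c5suslinpi1ab.cupShriek adj adj' A Y ≫ S.map (A ◁ h) =
      (S.obj A ◁ L.map h) ≫ W4c5suslinpi1ab.cupShriek adj adj' A Y' := by
  apply (adj'.homEquiv _ _).symm.injective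
  rw [Adjunction.homEquiv_symm_apply, Adjunction.homEquiv_symm_apply]
  simp only [Functor.map_comp, Category.assoc]
  rw [Groth.Agent.S18591.cn adj', Groth.Agent.S18592.map_cupShriek_counit_assoc,
    Groth.Agent.S18592.map_cupShriek_counit]
  have h1 := projR_natural_right adj (S.obj A) h
  have h2 : inv (W4c5suslinpi1ab.projR adj (S.obj A) Y) ≫ (R.obj (S.obj A) ◁ h) =
      R.map (S.obj A ◁ L.map h) ≫ inv (W4c5suslinpi1ab.projR adj (S.obj A) Y') := by
    rw [IsIso.inv_comp_eq, ← Category.assoc, IsIso.eq_comp_inv, h1]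
  rw [← Category.assoc (R.map _), ← h2, Category.assoc, whisker_exchange]
  rfl

end projR


open CategoryTheory MonoidalCategory Functor.LaxMonoidal Functor.OplaxMonoidal in
/-- In a square of adjunctions between monoidal categories — fL ⊣ fR from the base S₀ to Y₁, pL ⊣ pR
from Y₁ to X (both left adjoints oplax monoidal, right adjoints with the induced lax structure), qL
⊣ qR from Y₂ to X, a functor gR : Y₂ ⥤ S₀ and a natural transformation ν : qR ⋙ gR ⟶ pR ⋙ fR from
which the base change fL gR ⟶ pR qL is built, with right adjoints fS of fR, gS of gR, pS of pR and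
the right projection morphisms of adjf, the left projection morphisms of adjp and the base change
all isomorphisms, the square relating the two shriek products commutes: exterior product, then fR pR
of the shriek product of the square, then fR of the counit of pR ⊣ pS, equals the counit of gR ⊣ gS
on the second factor, then the right projection morphism of adjf, then fR of the shriek cup product
fS A ⊗ fL B ⟶ fS (A ⊗ B). -/
theorem result {S₀ : Type u} [Category.{v} S₀] [MonoidalCategory S₀]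
    {Y₁ : Type u} [Category.{v} Y₁] [MonoidalCategory Y₁]
    {Y₂ : Type u} [Category.{v} Y₂] [MonoidalCategory Y₂]
    {X : Type u} [Category.{v} X] [MonoidalCategory X]
    {fL : S₀ ⥤ Y₁} {fR : Y₁ ⥤ S₀} (adjf : fL ⊣ fR) [fL.OplaxMonoidal] [fR.LaxMonoidal]
    [adjf.IsMonoidal] {gR : Y₂ ⥤ S₀}
    {pL : Y₁ ⥤ X} {pR : X ⥤ Y₁} (adjp : pL ⊣ pR) [pL.OplaxMonoidal] [pR.LaxMonoidal]
    [adjp.IsMonoidal] {qL : Y₂ ⥤ X} {qR : X ⥤ Y₂} (adjq : qL ⊣ qR)
    (ν : qR ⋙ gR ⟶ pR ⋙ fR)
    {fS : S₀ ⥤ Y₁} (adjf' : fR ⊣ fS) {gS : S₀ ⥤ Y₂} (adjg' : gR ⊣ gS)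
    {pS : Y₁ ⥤ X} (adjp' : pR ⊣ pS)
    [∀ (A : Y₁) (B : S₀), IsIso (W4c5suslinpi1ab.projR adjf A B)]
    [∀ (A : Y₁) (B : X), IsIso (W4c5suslinpi1ab.projL adjp A B)]
    [∀ B : Y₂, IsIso ((W4c5suslinpi1ab.bcMor adjf adjq ν).app B)] (A B : S₀) :
    W4c5suslinpi1ab.extProd adjf adjp adjq ν (fS.obj A) (gS.obj B) ≫
      fR.map (pR.map (W4c5suslinpi1ab.prodShriek adjf adjf' adjg' adjp adjp' adjq ν A B)) ≫
        fR.map (adjp'.counit.app (fS.obj (A ⊗ B))) =
      (fR.obj (fS.obj A) ◁ adjg'.counit.app B) ≫ W4c5suslinpi1ab.projR adjf (fS.obj A) B ≫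
        fR.map (W4c5suslinpi1ab.cupShriek adjf adjf' A B) := by
  rw [Groth.Agent.S18592.prodShriek_eq, ← Functor.map_comp, Groth.Agent.S18592.map_homEquiv_counit,
    Groth.Agent.S18592.extProd_map_psi, ← Functor.map_comp, cupShriek_natural_right,
    Functor.map_comp, ← projR_natural_right_assoc]
  rfl

end Groth.Agent.S18593
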