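import Groth.Statements.S18594
import Mathlib.Tactic
import Groth.Agent.S18593

set_option autoImplicit false
universe v u
open W4c5suslinpi1ab

namespace Groth.Agent.S18594

open CategoryTheory MonoidalCategory Functor.LaxMonoidal Functor.OplaxMonoidal

section proj
variable {C : Type u} [Category.{v} C] [MonoidalCategory C] {D : Type u} [Category.{v} D]
  [MonoidalCategory D] {L : C ⥤ D} {R : D ⥤ C} (adj : L ⊣ R) [R.LaxMonoidal]

@[reassoc]
theorem projR_natural_left {Z Z' : D} (a : Z ⟶ Z') (Y : C) :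
    (R.map a ▷ Y) ≫ W4c5suslinpi1ab.projR adj Z' Y =
      W4c5suslinpi1ab.projR adj Z Y ≫ R.map (a ▷ L.obj Y) := by
  unfold W4c5suslinpi1ab.projR
  rw [Category.assoc, ← μ_natural_left, ← whisker_exchange_assoc]
  rfl

@[reassoc]
theorem projL_natural_left {A A' : C} (a : A ⟶ A') (B : D) :
    (a ▷ R.obj B) ≫ W4c5suslinpi1ab.projL adj A' B =
      W4c5suslinpi1ab.projL adj A B ≫ R.map (L.map a ▷ B) := by
  unfold W4c5suslinpi1ab.projL
  rw [Category.assoc, ← μ_natural_left, ← comp_whiskerRight_assoc, ← comp_whiskerRight_assoc]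
  congr 2
  exact (Groth.Agent.S18593.un adj a).symm

@[reassoc]
theorem projL_natural_right (A : C) {B B' : D} (b : B ⟶ B') :
    (A ◁ R.map b) ≫ W4c5suslinpi1ab.projL adj A B' =
      W4c5suslinpi1ab.projL adj A B ≫ R.map (L.obj A ◁ b) := by
  unfold W4c5suslinpi1ab.projL
  rw [Category.assoc, ← μ_natural_right, whisker_exchange_assoc]
  rfl

end proj

section square
variable {S₀ : Type u} [Category.{v} S₀] [MonoidalCategory S₀]
    {Y₁ : Type u} [Category.{v} Y₁] [MonoidalCategory Y₁]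
    {Y₂ : Type u} [Category.{v} Y₂] [MonoidalCategory Y₂]
    {X : Type u} [Category.{v} X] [MonoidalCategory X]
    {fL : S₀ ⥤ Y₁} {fR : Y₁ ⥤ S₀} (adjf : fL ⊣ fR) [fR.LaxMonoidal]
    {gR : Y₂ ⥤ S₀}
    {pL : Y₁ ⥤ X} {pR : X ⥤ Y₁} (adjp : pL ⊣ pR) [pR.LaxMonoidal]
    {qL : Y₂ ⥤ X} {qR : X ⥤ Y₂} (adjq : qL ⊣ qR)
    (ν : qR ⋙ gR ⟶ pR ⋙ fR)

/-- Naturality of the exterior product. -/
theorem extProd_natural {A₁ A₂ : Y₁} (a : A₁ ⟶ A₂) {B₁ B₂ : Y₂} (b : B₁ ⟶ B₂) :
    (fR.map a ⊗ₘ gR.map b) ≫ W4c5suslinpi1ab.extProd adjf adjp adjq ν A₂ B₂ =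
      W4c5suslinpi1ab.extProd adjf adjp adjq ν A₁ B₁ ≫
        fR.map (pR.map (pL.map a ⊗ₘ qL.map b)) := by
  unfold W4c5suslinpi1ab.extProd
  have hbc := (W4c5suslinpi1ab.bcMor adjf adjq ν).naturality b
  dsimp only [Functor.comp_obj, Functor.comp_map] at hbc
  rw [tensorHom_def, Category.assoc, Groth.Agent.S18593.projR_natural_right_assoc,
    projR_natural_left_assoc]
  simp only [Category.assoc, ← Functor.map_comp]
  congr 2
  rw [← MonoidalCategory.whiskerLeft_comp_assoc, hbc, MonoidalCategory.whiskerLeft_comp_assoc,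
    projL_natural_right, ← whisker_exchange_assoc, projL_natural_left_assoc, ← Functor.map_comp,
    ← tensorHom_def]

instance extProd_isIso
    [∀ (A : Y₁) (B : S₀), IsIso (W4c5suslinpi1ab.projR adjf A B)]
    [∀ (A : Y₁) (B : X), IsIso (W4c5suslinpi1ab.projL adjp A B)]
    [∀ B : Y₂, IsIso ((W4c5suslinpi1ab.bcMor adjf adjq ν).app B)] (A : Y₁) (B : Y₂) :
    IsIso (W4c5suslinpi1ab.extProd adjf adjp adjq ν A B) := by
  unfold W4c5suslinpi1ab.extProd
  infer_instance

end square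


open CategoryTheory MonoidalCategory Functor.LaxMonoidal Functor.OplaxMonoidal in
/-- In a square of adjunctions between monoidal categories — fL ⊣ fR from the base S₀ to Y₁, pL ⊣ pR
from Y₁ to X (both left adjoints oplax monoidal, right adjoints with the induced lax structure), qL
⊣ qR from Y₂ to X, a functor gR : Y₂ ⥤ S₀ and a natural transformation ν : qR ⋙ gR ⟶ pR ⋙ fR from
which the base change fL gR ⟶ pR qL is built, with right adjoints fS of fR, gS of gR, pS of pR and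
the projection morphisms and base change isomorphisms, fix morphisms trA : A' ⟶ fS A, trB : B' ⟶ gS
B, trC : C' ⟶ pS fS (A ⊗ B) and a product m : pL A' ⊗ qL B' ⟶ C'. Then (pL trA ⊗ qL trB) followed by
the shriek product of the square equals m ≫ trC if and only if the Fubini identity holds: the tensor
product of the adjoint maps fR A' ⟶ A and gR B' ⟶ B equals the exterior product fR A' ⊗ gR B' ⟶ fR
pR (pL A' ⊗ qL B') followed by fR pR m and the adjoint map fR pR C' ⟶ A ⊗ B. -/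
theorem result {S₀ : Type u} [Category.{v} S₀] [MonoidalCategory S₀]
    {Y₁ : Type u} [Category.{v} Y₁] [MonoidalCategory Y₁]
    {Y₂ : Type u} [Category.{v} Y₂] [MonoidalCategory Y₂]
    {X : Type u} [Category.{v} X] [MonoidalCategory X]
    {fL : S₀ ⥤ Y₁} {fR : Y₁ ⥤ S₀} (adjf : fL ⊣ fR) [fL.OplaxMonoidal] [fR.LaxMonoidal]
    [adjf.IsMonoidal] {gR : Y₂ ⥤ S₀}
    {pL : Y₁ ⥤ X} {pR : X ⥤ Y₁} (adjp : pL ⊣ pR) [pL.OplaxMonoidal] [pR.LaxMonoidal]
    [adjp.IsMonoidal] {qL : Y₂ ⥤ X} {qR : X ⥤ Y₂} (adjq : qL ⊣ qR)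
    (ν : qR ⋙ gR ⟶ pR ⋙ fR)
    {fS : S₀ ⥤ Y₁} (adjf' : fR ⊣ fS) {gS : S₀ ⥤ Y₂} (adjg' : gR ⊣ gS)
    {pS : Y₁ ⥤ X} (adjp' : pR ⊣ pS)
    [∀ (A : Y₁) (B : S₀), IsIso (W4c5suslinpi1ab.projR adjf A B)]
    [∀ (A : Y₁) (B : X), IsIso (W4c5suslinpi1ab.projL adjp A B)]
    [∀ B : Y₂, IsIso ((W4c5suslinpi1ab.bcMor adjf adjq ν).app B)] (A B : S₀) (A' : Y₁) (B' : Y₂) (C' : X)
    (trA : A' ⟶ fS.obj A) (trB : B' ⟶ gS.obj B) (trC : C' ⟶ pS.obj (fS.obj (A ⊗ B)))
    (m : pL.obj A' ⊗ qL.obj B' ⟶ C') :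
    ((pL.map trA ⊗ₘ qL.map trB) ≫ W4c5suslinpi1ab.prodShriek adjf adjf' adjg' adjp adjp' adjq ν A B =
        m ≫ trC) ↔
      (((adjf'.homEquiv _ _).symm trA ⊗ₘ (adjg'.homEquiv _ _).symm trB) =
        W4c5suslinpi1ab.extProd adjf adjp adjq ν A' B' ≫ fR.map (pR.map m) ≫
          ((adjp'.comp adjf').homEquiv _ _).symm trC) := by
  have hpsi := Groth.Agent.S18592.prodShriek_eq adjf adjp adjq ν adjf' adjg' adjp' A B
  set ψ := Groth.Agent.S18592.psi adjf adjp adjq ν adjf' adjg' A B with hψ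
  -- the key identity
  have key : W4c5suslinpi1ab.extProd adjf adjp adjq ν A' B' ≫
      fR.map (pR.map (pL.map trA ⊗ₘ qL.map trB) ≫ ψ) ≫ adjf'.counit.app (A ⊗ B) =
      ((adjf'.homEquiv _ _).symm trA ⊗ₘ (adjg'.homEquiv _ _).symm trB) := by
    rw [Functor.map_comp, Category.assoc, ← Category.assoc, ← extProd_natural, Category.assoc]
    have h92 := Groth.Agent.S18592.result adjf adjp adjq ν adjf' adjg' adjp' A B
    rw [Groth.Agent.S18592.prodShriek_eq, Adjunction.homEquiv_symm_apply,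
      Adjunction.comp_counit_app] at h92
    simp only [Functor.comp_obj, Functor.comp_map] at h92
    rw [← Functor.map_comp_assoc, Groth.Agent.S18592.map_homEquiv_counit] at h92
    rw [h92, tensorHom_comp_tensorHom, Adjunction.homEquiv_symm_apply,
      Adjunction.homEquiv_symm_apply]
  have hc : ((adjp'.comp adjf').homEquiv _ _).symm trC =
      fR.map (pR.map trC ≫ adjp'.counit.app _) ≫ adjf'.counit.app (A ⊗ B) := by
    rw [Adjunction.homEquiv_symm_apply, Adjunction.comp_counit_app]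
    simp only [Functor.comp_obj, Functor.comp_map, Functor.map_comp, Category.assoc]
  rw [← key, hc, hpsi]
  constructor
  · intro h
    have h' := congrArg (fun t => pR.map t ≫ adjp'.counit.app _) h
    simp only [Functor.map_comp, Category.assoc] at h'
    rw [Groth.Agent.S18592.map_homEquiv_counit] at h'
    congr 1
    rw [h']
    simp only [Functor.map_comp, Category.assoc]
  · intro h
    rw [cancel_epi] at h
    have h1 : pR.map (pL.map trA ⊗ₘ qL.map trB) ≫ ψ =
        pR.map m ≫ pR.map trC ≫ adjp'.counit.app _ := by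
      apply (adjf'.homEquiv _ _).symm.injective
      rw [Adjunction.homEquiv_symm_apply, Adjunction.homEquiv_symm_apply, h]
      simp only [Functor.map_comp, Category.assoc]
    apply (adjp'.homEquiv _ _).symm.injective
    rw [Adjunction.homEquiv_symm_apply, Adjunction.homEquiv_symm_apply]
    simp only [Functor.map_comp, Category.assoc]
    rw [Groth.Agent.S18592.map_homEquiv_counit]
    exact h1

end Groth.Agent.S18594
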