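import Groth.Statements.S18598
import Mathlib.Tactic
import Mathlib.RingTheory.Polynomial.Cyclotomic.Eval
import Mathlib.RingTheory.RootsOfUnity.PrimitiveRoots

set_option autoImplicit false
universe u
open SSRed

namespace Groth.Agent.S18598

open Polynomial in
/-- `(1 - α)^φ(m)` divides the value at `1` of the `m`-th cyclotomic polynomial. -/
theorem one_sub_pow_totient_dvd {O : Type u} [CommRing O] [IsDomain O] (α : O) (m : ℕ)
    (hm : 0 < m) (hα : IsPrimitiveRoot α m) :
    (1 - α) ^ (Nat.totient m) ∣ (cyclotomic m O).eval 1 := by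
  haveI : NeZero m := ⟨hm.ne'⟩
  rw [cyclotomic_eq_prod_X_sub_primitiveRoots hα, eval_prod, ← hα.card_primitiveRoots,
    ← Finset.prod_const]
  apply Finset.prod_dvd_prod_of_dvd
  intro μ hμ
  rw [eval_sub, eval_X, eval_C]
  have hμ' := (mem_primitiveRoots hm).mp hμ
  obtain ⟨i, -, hi⟩ := hα.eq_pow_of_pow_eq_one hμ'.pow_eq_one
  rw [← hi]
  have := sub_dvd_pow_sub_pow (1 : O) α i
  rwa [one_pow] at this

/-- The arithmetic core: the possible orders. -/
theorem key {O : Type u} [CommRing O] [IsDomain O] [CharZero O]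
    (n : ℕ) (hn : 2 ≤ n) (hO : ∀ p : ℕ, p.Prime → p ∣ n → ¬ IsUnit (p : O))
    (α : O) (hα : IsOfFinOrder α) (h : (n : O) ∣ (α - 1) ^ 2) :
    orderOf α = 1 ∨ ∃ p k e : ℕ, p.Prime ∧ orderOf α = p ^ (k + 1) ∧ n = p ^ e ∧ 1 ≤ e ∧
      e * (p ^ k * (p - 1)) ≤ 2 := by
  set m := orderOf α with hm
  have hmpos : 0 < m := hα.orderOf_pos
  have hprim : IsPrimitiveRoot α m := IsPrimitiveRoot.orderOf α
  have hφpos : 0 < Nat.totient m := Nat.totient_pos.mpr hmpos
  obtain ⟨q, hq, hqn⟩ := Nat.exists_prime_and_dvd (by omega : n ≠ 1)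
  -- n^φ ∣ c^2 where c = Φ_m(1)
  have hdiv : (n : O) ^ (Nat.totient m) ∣ ((Polynomial.cyclotomic m O).eval 1) ^ 2 := by
    have h1 : (n : O) ^ (Nat.totient m) ∣ ((α - 1) ^ 2) ^ (Nat.totient m) := pow_dvd_pow_of_dvd h _
    have h2 : ((α - 1) ^ 2) ^ (Nat.totient m) = ((1 - α) ^ (Nat.totient m)) ^ 2 := by
      have h0 : (α - 1) ^ 2 = (1 - α) ^ 2 := by ring
      rw [h0, ← pow_mul, mul_comm, pow_mul]
    rw [h2] at h1
    exact h1.trans (pow_dvd_pow_of_dvd (one_sub_pow_totient_dvd α m hmpos hprim) 2)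
  have hqO : (q : O) ∣ (n : O) := by exact_mod_cast (Nat.cast_dvd_cast (α := O) hqn)
  by_cases hpp : ∃ p k : ℕ, p.Prime ∧ p ^ k = m
  · obtain ⟨p, k, hp, hpk⟩ := hpp
    rcases Nat.eq_zero_or_pos k with hk0 | hkpos
    · left
      rw [← hpk, hk0, pow_zero]
    · right
      obtain ⟨k', rfl⟩ : ∃ k', k = k' + 1 := ⟨k - 1, by omega⟩
      haveI : Fact p.Prime := ⟨hp⟩
      rw [← hpk, Polynomial.eval_one_cyclotomic_prime_pow] at hdiv
      -- every prime dividing n is p
      have hall : ∀ {d : ℕ}, d.Prime → d ∣ n → d = p := by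
        intro d hd hdn
        by_contra hne
        have hcop : Nat.Coprime (d ^ Nat.totient (p ^ (k' + 1))) (p ^ 2) :=
          Nat.Coprime.pow _ _ ((Nat.coprime_primes hd hp).2 hne)
        have hcopZ : IsCoprime ((d ^ Nat.totient (p ^ (k' + 1)) : ℕ) : ℤ) ((p ^ 2 : ℕ) : ℤ) :=
          Nat.isCoprime_iff_coprime.mpr hcop
        have hcopO : IsCoprime ((d : O) ^ Nat.totient (p ^ (k' + 1))) ((p : O) ^ 2) := by
          have := hcopZ.map (Int.castRingHom O)
          simpa using this
        have hdO : (d : O) ∣ (n : O) := by exact_mod_cast (Nat.cast_dvd_cast (α := O) hdn)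
        have h3 : (d : O) ^ Nat.totient (p ^ (k' + 1)) ∣ (p : O) ^ 2 :=
          (pow_dvd_pow_of_dvd hdO _).trans hdiv
        have hunit := hcopO.isUnit_of_dvd' dvd_rfl h3
        have hφ' : Nat.totient (p ^ (k' + 1)) ≠ 0 := by rw [hpk]; exact hφpos.ne'
        exact hO d hd hdn ((isUnit_pow_iff hφ').mp hunit)
      have hne0 : n ≠ 0 := by omega
      have hnpe := Nat.eq_prime_pow_of_unique_prime_dvd hne0 hall
      set e := n.primeFactorsList.length with he
      have he1 : 1 ≤ e := by
        by_contra hcon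
        have : e = 0 := by omega
        rw [this, pow_zero] at hnpe
        omega
      have hpn : p ∣ n := by rw [hnpe]; exact dvd_pow_self p (by omega)
      refine ⟨p, k', e, hp, hpk.symm, hnpe, he1, ?_⟩
      rw [← Nat.totient_prime_pow_succ hp]
      by_contra hcon
      push Not at hcon
      have hp0 : (p : O) ^ 2 ≠ 0 := pow_ne_zero _ (by exact_mod_cast hp.ne_zero)
      have h4 : (p : O) ^ 2 * (p : O) ^ (e * Nat.totient (p ^ (k' + 1)) - 2) ∣ (p : O) ^ 2 * 1 := by
        rw [← pow_add, mul_one]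
        have : 2 + (e * Nat.totient (p ^ (k' + 1)) - 2) = e * Nat.totient (p ^ (k' + 1)) := by omega
        rw [this, pow_mul]
        have h5 : ((n : O)) = (p : O) ^ e := by rw [hnpe]; push_cast; rfl
        rw [← h5]
        exact hdiv
      have h6 := (mul_dvd_mul_iff_left hp0).mp h4
      have hunit := isUnit_of_dvd_one h6
      have hexp : e * Nat.totient (p ^ (k' + 1)) - 2 ≠ 0 := by omega
      exact hO p hp hpn ((isUnit_pow_iff hexp).mp hunit)
  · exfalso
    push Not at hpp
    have hc : (Polynomial.cyclotomic m O).eval 1 = 1 :=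
      Polynomial.eval_one_cyclotomic_not_prime_pow (fun {p} hp k => hpp p k hp)
    rw [hc, one_pow] at hdiv
    have hunit := isUnit_of_dvd_one hdiv
    have hnunit : IsUnit (n : O) := (isUnit_pow_iff hφpos.ne').mp hunit
    exact hO q hq hqn (isUnit_of_dvd_unit hqO hnunit)


/-- Let O be a commutative integral domain of characteristic zero, n a positive integer such that no
prime number dividing n is a unit in O, and α an element of O of finite multiplicative order such
that (α − 1)² is divisible by n in O. Then α = 1 if n ≥ 5, α² = 1 if n = 4, α³ = 1 if n = 3, and α⁴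
= 1 if n = 2. -/
theorem result (O : Type u) [CommRing O] [IsDomain O] [CharZero O]
    (n : ℕ) (hn : 0 < n) (hO : ∀ p : ℕ, p.Prime → p ∣ n → ¬ IsUnit (p : O))
    (α : O) (hα : IsOfFinOrder α) (h : (n : O) ∣ (α - 1) ^ 2) :
    (5 ≤ n → α = 1) ∧ (n = 4 → α ^ 2 = 1) ∧ (n = 3 → α ^ 3 = 1) ∧ (n = 2 → α ^ 4 = 1) := by
  -- numeric consequences
  have hnum : ∀ p k e : ℕ, p.Prime → 1 ≤ e → e * (p ^ k * (p - 1)) ≤ 2 →
      (p = 2 ∨ p = 3) ∧ e ≤ 2 ∧ k ≤ 1 := by
    intro p k e hp he hle
    have hp2 := hp.two_le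
    have hpk : 1 ≤ p ^ k := Nat.one_le_pow _ _ (by omega)
    have h1 : p ^ k * (p - 1) ≤ 2 := by nlinarith
    have h2 : p - 1 ≤ 2 := by nlinarith
    have h3 : p ^ k ≤ 2 := by
      have : 1 ≤ p - 1 := by omega
      nlinarith
    have h4 : e ≤ 2 := by
      have : 1 ≤ p ^ k * (p - 1) := by
        have : 1 ≤ p - 1 := by omega
        nlinarith
      nlinarith
    have h5 : k ≤ 1 := by
      have h6 : k < 2 ^ k := Nat.lt_two_pow_self
      have h7 : 2 ^ k ≤ p ^ k := Nat.pow_le_pow_left hp2 k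
      omega
    refine ⟨?_, h4, h5⟩
    have : p ≤ 3 := by omega
    interval_cases p
    · left; rfl
    · right; rfl
  refine ⟨?_, ?_, ?_, ?_⟩
  · intro h5
    rcases key n (by omega) hO α hα h with h1 | ⟨p, k, e, hp, hord, hnpe, he, hle⟩
    · exact orderOf_eq_one_iff.mp h1
    · exfalso
      obtain ⟨hp23, he2, hk1⟩ := hnum p k e hp he hle
      rcases hp23 with rfl | rfl <;> interval_cases e <;> interval_cases k <;> simp at hle <;> omega
  · intro h4
    rcases key n (by omega) hO α hα h with h1 | ⟨p, k, e, hp, hord, hnpe, he, hle⟩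
    · rw [orderOf_eq_one_iff.mp h1, one_pow]
    · obtain ⟨hp23, he2, hk1⟩ := hnum p k e hp he hle
      have : orderOf α = 2 := by
        rcases hp23 with rfl | rfl <;> interval_cases e <;> interval_cases k <;>
          simp at hle hnpe hord ⊢ <;> omega
      rw [← this]
      exact pow_orderOf_eq_one α
  · intro h3
    rcases key n (by omega) hO α hα h with h1 | ⟨p, k, e, hp, hord, hnpe, he, hle⟩
    · rw [orderOf_eq_one_iff.mp h1, one_pow]
    · obtain ⟨hp23, he2, hk1⟩ := hnum p k e hp he hle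
      have : orderOf α = 3 := by
        rcases hp23 with rfl | rfl <;> interval_cases e <;> interval_cases k <;>
          simp at hle hnpe hord ⊢ <;> omega
      rw [← this]
      exact pow_orderOf_eq_one α
  · intro h2
    rcases key n (by omega) hO α hα h with h1 | ⟨p, k, e, hp, hord, hnpe, he, hle⟩
    · rw [orderOf_eq_one_iff.mp h1, one_pow]
    · obtain ⟨hp23, he2, hk1⟩ := hnum p k e hp he hle
      have : orderOf α ∣ 4 := by
        rcases hp23 with rfl | rfl <;> interval_cases e <;> interval_cases k <;>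
          simp at hle hnpe hord ⊢ <;> try (first | omega | (rw [hord]; decide) | (rw [hord]))
      exact orderOf_dvd_iff_pow_eq_one.mp this

end Groth.Agent.S18598
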