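import Groth.Statements.S18599
import Mathlib
-- import your own Groth.Agent.* helpers here

set_option autoImplicit false
set_option linter.style.haveILetI false
set_option linter.unusedSectionVars false
universe u
open SSRed

namespace Groth.Agent.S18599

section general
variable {R : Type*} [Ring R] {N : Type*} [AddCommGroup N] [Module R N]

lemma index_range_pow (φ : N →ₗ[R] N) (hφ : Function.Injective φ) (k : ℕ) :
    (LinearMap.range (φ ^ k)).toAddSubgroup.index = (LinearMap.range φ).toAddSubgroup.index ^ k := by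
  induction k with
  | zero =>
    have : LinearMap.range (φ ^ 0) = ⊤ := by
      rw [pow_zero]; exact LinearMap.range_eq_top.mpr (fun x => ⟨x, rfl⟩)
    rw [this]; simp
  | succ k ih =>
    have h1 : (LinearMap.range (φ ^ (k+1))).toAddSubgroup ≤ (LinearMap.range (φ ^ k)).toAddSubgroup := by
      rintro x ⟨y, rfl⟩
      exact ⟨φ y, by rw [pow_succ]; rfl⟩
    rw [← AddSubgroup.relIndex_mul_index h1, ih, pow_succ (AddSubgroup.index _) k, mul_comm]
    congr 1
    have hinj : Function.Injective ((φ ^ k : N →ₗ[R] N).toAddMonoidHom) := by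
      have : Function.Injective (φ ^ k : N →ₗ[R] N) := by
        rw [Module.End.coe_pow]; exact hφ.iterate k
      exact this
    have := AddSubgroup.relIndex_map_map_of_injective (f := (φ ^ k : N →ₗ[R] N).toAddMonoidHom)
      (LinearMap.range φ).toAddSubgroup ⊤ hinj
    rw [AddSubgroup.relIndex_top_right] at this
    rw [← this]
    congr 1
    · ext x
      constructor
      · rintro ⟨y, rfl⟩
        exact ⟨φ y, ⟨y, rfl⟩, by rw [pow_succ]; rfl⟩
      · rintro ⟨_, ⟨y, rfl⟩, rfl⟩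
        exact ⟨y, by rw [pow_succ]; rfl⟩
    · ext x
      constructor
      · rintro ⟨y, rfl⟩
        exact ⟨y, trivial, rfl⟩
      · rintro ⟨y, _, rfl⟩
        exact ⟨y, rfl⟩

end general

variable {ℓ : ℕ} [Fact ℓ.Prime]

lemma index_smul (N : Type*) [AddCommGroup N] [Module ℤ_[ℓ] N] [Module.Free ℤ_[ℓ] N]
    [Module.Finite ℤ_[ℓ] N] :
    (LinearMap.range ((ℓ : ℤ_[ℓ]) • (LinearMap.id : N →ₗ[ℤ_[ℓ]] N))).toAddSubgroup.index
      = ℓ ^ Module.finrank ℤ_[ℓ] N := by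
  classical
  let b := Module.finBasis ℤ_[ℓ] N
  let ψ : N →+ (Fin (Module.finrank ℤ_[ℓ] N) → ZMod ℓ) :=
    { toFun := fun x i => PadicInt.toZMod (b.repr x i)
      map_zero' := by ext i; simp
      map_add' := fun x y => by ext i; simp }
  have hψ : ∀ x i, ψ x i = PadicInt.toZMod (b.repr x i) := fun _ _ => rfl
  have hsurj : Function.Surjective ψ := by
    intro v
    choose g hg using fun i => ZMod.ringHom_surjective (PadicInt.toZMod (p := ℓ)) (v i)
    refine ⟨∑ i, g i • b i, ?_⟩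
    ext i
    rw [hψ, Module.Basis.repr_sum_self, hg]
  have hker : ψ.ker = (LinearMap.range ((ℓ : ℤ_[ℓ]) • (LinearMap.id : N →ₗ[ℤ_[ℓ]] N))).toAddSubgroup := by
    ext x
    rw [AddMonoidHom.mem_ker]
    constructor
    · intro hx
      have h1 : ∀ i, ∃ y : ℤ_[ℓ], b.repr x i = (ℓ : ℤ_[ℓ]) * y := by
        intro i
        have : b.repr x i ∈ RingHom.ker (PadicInt.toZMod (p := ℓ)) := by
          rw [RingHom.mem_ker, ← hψ, hx]; rfl
        rw [PadicInt.ker_toZMod, PadicInt.maximalIdeal_eq_span_p, Ideal.mem_span_singleton] at this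
        obtain ⟨y, hy⟩ := this
        exact ⟨y, hy⟩
      choose y hy using h1
      refine ⟨∑ i, y i • b i, ?_⟩
      show (ℓ : ℤ_[ℓ]) • (∑ i, y i • b i) = x
      rw [Finset.smul_sum]
      conv_rhs => rw [← b.sum_repr x]
      refine Finset.sum_congr rfl (fun i _ => ?_)
      rw [hy, mul_smul]
    · rintro ⟨y, rfl⟩
      ext i
      rw [hψ]
      show PadicInt.toZMod (b.repr ((ℓ : ℤ_[ℓ]) • y) i) = 0
      rw [map_smul, Finsupp.smul_apply, smul_eq_mul, map_mul, map_natCast, ZMod.natCast_self, zero_mul]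
  rw [← hker, AddSubgroup.index_ker, AddMonoidHom.range_eq_top.mpr hsurj, AddSubgroup.card_top,
    Nat.card_fun, Nat.card_zmod, Nat.card_fin]


lemma exists_r (N : Type*) [AddCommGroup N] [Module ℤ_[ℓ] N] [Module.Free ℤ_[ℓ] N]
    [Module.Finite ℤ_[ℓ] N] (φ : N →ₗ[ℤ_[ℓ]] N) (hφ : Function.Injective φ) (k : ℕ) (hk : 1 ≤ k)
    (hr : LinearMap.range (φ ^ k) = LinearMap.range ((ℓ : ℤ_[ℓ]) • (LinearMap.id : N →ₗ[ℤ_[ℓ]] N))) :
    ∃ r : ℕ, r * k = Module.finrank ℤ_[ℓ] N ∧ (LinearMap.range φ).toAddSubgroup.index = ℓ ^ r := by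
  have hp : ℓ.Prime := Fact.out
  have h1 := index_range_pow φ hφ k
  rw [hr, index_smul] at h1
  have h2 : (LinearMap.range φ).toAddSubgroup.index ∣ ℓ ^ Module.finrank ℤ_[ℓ] N := by
    rw [h1]; exact dvd_pow_self _ (by omega)
  obtain ⟨m, _, hm⟩ := (Nat.dvd_prime_pow hp).1 h2
  refine ⟨m, ?_, hm⟩
  rw [hm, ← pow_mul] at h1
  exact (Nat.pow_right_injective hp.two_le h1).symm

theorem core (M : Type u) [AddCommGroup M] [Module ℤ_[ℓ] M] [Module.Free ℤ_[ℓ] M]
    [Module.Finite ℤ_[ℓ] M]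
    (f e : Module.End ℤ_[ℓ] M) (u : M ≃ₗ[ℤ_[ℓ]] M) (k : ℕ) (hk : 1 ≤ k)
    (he : e * e = e) (hfe : f * e = 0) (hef : e * f = 0)
    (hue : ∀ x, u (e x) = e (u x))
    (hfk : f ^ k = (ℓ : ℤ_[ℓ]) • ((u : Module.End ℤ_[ℓ] M) * (1 - e)))
    (c : ℕ) (hc : c = Module.finrank ℤ_[ℓ] M - Module.finrank ℤ_[ℓ] (LinearMap.ker f)) :
    (∀ x ∈ Submodule.torsion ℤ_[ℓ] (M ⧸ LinearMap.range f), (ℓ : ℤ_[ℓ]) • x = 0) ∧
      ∃ r : ℕ, r * k = c ∧
        Nat.card (Submodule.torsion ℤ_[ℓ] (M ⧸ LinearMap.range f)) = ℓ ^ r := by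
  have hp : ℓ.Prime := Fact.out
  have hl0 : (ℓ : ℤ_[ℓ]) ≠ 0 := by exact_mod_cast hp.ne_zero
  -- elementwise facts
  have he' : ∀ x, e (e x) = e x := fun x => by
    have := congrArg (fun g : Module.End ℤ_[ℓ] M => g x) he; simpa using this
  have hfe' : ∀ x, f (e x) = 0 := fun x => by
    have := congrArg (fun g : Module.End ℤ_[ℓ] M => g x) hfe; simpa using this
  have hef' : ∀ x, e (f x) = 0 := fun x => by
    have := congrArg (fun g : Module.End ℤ_[ℓ] M => g x) hef; simpa using this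
  have hfk' : ∀ x, (f ^ k) x = (ℓ : ℤ_[ℓ]) • u (x - e x) := fun x => by
    rw [hfk]; simp
  have hfk1 : ∀ x, (f ^ k) x = f ((f ^ (k - 1)) x) := fun x => by
    obtain ⟨j, rfl⟩ : ∃ j, k = j + 1 := ⟨k - 1, by omega⟩
    rw [pow_succ']; rfl
  have hfk2 : ∀ x, (f ^ k) x = (f ^ (k - 1)) (f x) := fun x => by
    obtain ⟨j, rfl⟩ : ∃ j, k = j + 1 := ⟨k - 1, by omega⟩
    rw [pow_succ]; rfl
  have hue2 : ∀ x, u.symm (e x) = e (u.symm x) := fun x => by
    apply u.injective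
    rw [hue, u.apply_symm_apply, u.apply_symm_apply]
  -- N = ker e
  set N : Submodule ℤ_[ℓ] M := LinearMap.ker e with hN
  have hNmem : ∀ x, x ∈ N ↔ e x = 0 := fun x => LinearMap.mem_ker
  have hfN : ∀ x ∈ N, f x ∈ N := fun x _ => (hNmem _).2 (hef' x)
  let φ : N →ₗ[ℤ_[ℓ]] N := f.restrict hfN
  have hφ_coe : ∀ x : N, (φ x : M) = f x := fun x => rfl
  have hφk_coe : ∀ x : N, ((φ ^ k) x : M) = (f ^ k) x := fun x => by
    rw [Module.End.pow_restrict]; rfl
  -- ℓ • x for x ∈ N is in range f^k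
  have hlx : ∀ x ∈ N, (ℓ : ℤ_[ℓ]) • x = (f ^ k) (u.symm x) := by
    intro x hx
    rw [hfk', ← hue2, (hNmem x).1 hx, map_zero, sub_zero, u.apply_symm_apply]
  have hφinj : Function.Injective φ := by
    rw [← LinearMap.ker_eq_bot, LinearMap.ker_eq_bot']
    intro x hx
    have h1 : f (x : M) = 0 := by rw [← hφ_coe, hx]; rfl
    have h2 : (f ^ k) (x : M) = 0 := by rw [hfk2, h1, map_zero]
    rw [hfk', (hNmem _).1 x.2, sub_zero] at h2
    have h3 : u (x : M) = 0 := (smul_eq_zero.1 h2).resolve_left hl0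
    have h4 : (x : M) = 0 := by simpa using h3
    exact Subtype.ext h4
  have hrange : LinearMap.range (φ ^ k)
      = LinearMap.range ((ℓ : ℤ_[ℓ]) • (LinearMap.id : N →ₗ[ℤ_[ℓ]] N)) := by
    ext x
    constructor
    · rintro ⟨y, rfl⟩
      have hy : e (u (y : M)) = 0 := by rw [← hue, (hNmem _).1 y.2, map_zero]
      refine ⟨⟨u (y : M), (hNmem _).2 hy⟩, ?_⟩
      apply Subtype.ext
      rw [hφk_coe, hfk', (hNmem _).1 y.2, sub_zero]
      rfl
    · rintro ⟨y, rfl⟩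
      have hy : e (u.symm (y : M)) = 0 := by rw [← hue2, (hNmem _).1 y.2, map_zero]
      refine ⟨⟨u.symm (y : M), (hNmem _).2 hy⟩, ?_⟩
      apply Subtype.ext
      rw [hφk_coe]
      exact (hlx _ y.2).symm
  obtain ⟨r, hr1, hr2⟩ := exists_r N φ hφinj k hk hrange
  -- ker f = range e
  have hker : LinearMap.ker f = LinearMap.range e := by
    ext x
    constructor
    · intro hx
      have hx' : f x = 0 := hx
      have h1 : x - e x ∈ N := (hNmem _).2 (by rw [map_sub, he', sub_self])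
      have h2 : φ ⟨x - e x, h1⟩ = 0 := by
        apply Subtype.ext
        rw [hφ_coe]
        show f (x - e x) = 0
        rw [map_sub, hx', hfe', sub_zero]
      have h3 := hφinj (h2.trans (map_zero φ).symm)
      have h4 : x - e x = 0 := congrArg Subtype.val h3
      exact ⟨x, (sub_eq_zero.1 h4).symm⟩
    · rintro ⟨y, rfl⟩
      exact hfe' y
  have hrank : Module.finrank ℤ_[ℓ] N = c := by
    have h1 := N.finrank_quotient_add_finrank
    have h2 : Module.finrank ℤ_[ℓ] (M ⧸ N) = Module.finrank ℤ_[ℓ] (LinearMap.range e) :=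
      LinearEquiv.finrank_eq (LinearMap.quotKerEquivRange e)
    rw [hc, hker]
    omega
  -- the map ψ : N →+ M ⧸ range f
  let π := (LinearMap.range f).mkQ
  let ψ : N →+ (M ⧸ LinearMap.range f) := (π.comp N.subtype).toAddMonoidHom
  have hψ : ∀ x : N, ψ x = π (x : M) := fun x => rfl
  have hTmem : ∀ t : M ⧸ LinearMap.range f, t ∈ Submodule.torsion ℤ_[ℓ] (M ⧸ LinearMap.range f) ↔
      t ∈ ψ.range := by
    intro t
    constructor
    · intro ht
      obtain ⟨x, rfl⟩ := (LinearMap.range f).mkQ_surjective t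
      rw [Submodule.mem_torsion_iff] at ht
      obtain ⟨a, ha⟩ := ht
      have ha0 : (a : ℤ_[ℓ]) ≠ 0 := nonZeroDivisors.coe_ne_zero a
      have h1 : (a : ℤ_[ℓ]) • x ∈ LinearMap.range f := by
        rw [← Submodule.Quotient.mk_eq_zero, Submodule.Quotient.mk_smul]
        exact ha
      obtain ⟨y, hy⟩ := h1
      have h2 : (a : ℤ_[ℓ]) • e x = 0 := by rw [← map_smul, ← hy, hef']
      have h3 : e x = 0 := (smul_eq_zero.1 h2).resolve_left ha0
      exact ⟨⟨x, (hNmem _).2 h3⟩, rfl⟩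
    · rintro ⟨x, rfl⟩
      rw [Submodule.mem_torsion_iff]
      refine ⟨⟨(ℓ : ℤ_[ℓ]), mem_nonZeroDivisors_of_ne_zero hl0⟩, ?_⟩
      show (ℓ : ℤ_[ℓ]) • π (x : M) = 0
      rw [← map_smul, hlx _ x.2, hfk1]
      exact (Submodule.Quotient.mk_eq_zero _).2 ⟨_, rfl⟩
  have hψker : ψ.ker = (LinearMap.range φ).toAddSubgroup := by
    ext x
    rw [AddMonoidHom.mem_ker, hψ]
    constructor
    · intro hx
      have h1 : (x : M) ∈ LinearMap.range f := (Submodule.Quotient.mk_eq_zero _).1 hx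
      obtain ⟨y, hy⟩ := h1
      have h2 : y - e y ∈ N := (hNmem _).2 (by rw [map_sub, he', sub_self])
      refine ⟨⟨y - e y, h2⟩, ?_⟩
      apply Subtype.ext
      rw [hφ_coe]
      show f (y - e y) = x
      rw [map_sub, hfe', sub_zero, hy]
    · rintro ⟨y, rfl⟩
      rw [hφ_coe]
      exact (Submodule.Quotient.mk_eq_zero _).2 ⟨_, rfl⟩
  refine ⟨?_, r, by rw [hr1, hrank], ?_⟩
  · intro t ht
    obtain ⟨x, rfl⟩ := (hTmem t).1 ht
    show (ℓ : ℤ_[ℓ]) • π (x : M) = 0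
    rw [← map_smul, hlx _ x.2, hfk1]
    exact (Submodule.Quotient.mk_eq_zero _).2 ⟨_, rfl⟩
  · rw [← hr2, ← hψker, AddSubgroup.index_ker]
    exact Nat.card_congr (Equiv.subtypeEquivRight hTmem)


lemma end_tf {M : Type*} [AddCommGroup M] [Module ℤ_[ℓ] M] [Module.Free ℤ_[ℓ] M] (n : ℕ) (hn : n ≠ 0)
    (X : Module.End ℤ_[ℓ] M) (h : (n : Module.End ℤ_[ℓ] M) * X = 0) : X = 0 := by
  refine LinearMap.ext (fun x => ?_)
  have h1 := congrArg (fun g : Module.End ℤ_[ℓ] M => g x) h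
  simp only [Module.End.mul_apply, Module.End.natCast_apply, LinearMap.zero_apply] at h1
  rw [← Nat.cast_smul_eq_nsmul ℤ_[ℓ]] at h1
  have hn' : (n : ℤ_[ℓ]) ≠ 0 := by exact_mod_cast hn
  exact (smul_eq_zero.1 h1).resolve_left hn'

lemma case2 [Fact (Nat.Prime 2)] (M : Type u) [AddCommGroup M] [Module ℤ_[2] M]
    [Module.Free ℤ_[2] M] [Module.Finite ℤ_[2] M]
    (A : M ≃ₗ[ℤ_[2]] M) (hA : A ^ 2 = 1) (f : Module.End ℤ_[2] M)
    (hf : f = (A : M →ₗ[ℤ_[2]] M) - 1) (B : Module.End ℤ_[2] M) (hB : f = (2 : ℤ_[2]) • B)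
    (c : ℕ) (hc : c = Module.finrank ℤ_[2] M - Module.finrank ℤ_[2] (LinearMap.ker f)) :
    (∀ x ∈ Submodule.torsion ℤ_[2] (M ⧸ LinearMap.range f), ((2 : ℕ) : ℤ_[2]) • x = 0) ∧
      ∃ r : ℕ, r * (2 - 1) = c ∧
        Nat.card (Submodule.torsion ℤ_[2] (M ⧸ LinearMap.range f)) = 2 ^ r := by
  set a : Module.End ℤ_[2] M := (A : M →ₗ[ℤ_[2]] M) with ha_def
  have ha : a * a = 1 := by
    refine LinearMap.ext (fun x => ?_)
    have := congrArg (fun g : M ≃ₗ[ℤ_[2]] M => g x) hA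
    have h2 : A (A x) = x := by simpa [pow_two] using this
    exact h2
  have hfB : f = 2 * B := by rw [hB, two_smul, two_mul]
  have haB : a = 1 + 2 * B := by rw [← hfB, hf]; abel
  have h1 : ((4 : ℕ) : Module.End ℤ_[2] M) * (B + B * B) = 0 := by
    have h := ha
    rw [haB] at h
    calc ((4 : ℕ) : Module.End ℤ_[2] M) * (B + B * B) = (1 + 2 * B) * (1 + 2 * B) - 1 := by
          push_cast; noncomm_ring
      _ = 0 := by rw [h, sub_self]
  have hBB : B + B * B = 0 := end_tf 4 (by norm_num) _ h1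
  have he : (1 + B) * (1 + B) = 1 + B := by
    calc (1 + B) * (1 + B) = (1 + B) + (B + B * B) := by noncomm_ring
      _ = 1 + B := by rw [hBB, add_zero]
  have hfe : f * (1 + B) = 0 := by
    rw [hfB]
    calc 2 * B * (1 + B) = 2 * (B + B * B) := by noncomm_ring
      _ = 0 := by rw [hBB, mul_zero]
  have hef : (1 + B) * f = 0 := by
    rw [hfB]
    calc (1 + B) * (2 * B) = 2 * (B + B * B) := by noncomm_ring
      _ = 0 := by rw [hBB, mul_zero]
  have hfk : f ^ 1 = ((2 : ℕ) : ℤ_[2]) • (((LinearEquiv.neg ℤ_[2] : M ≃ₗ[ℤ_[2]] M) : Module.End ℤ_[2] M)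
      * (1 - (1 + B))) := by
    rw [pow_one, hB]
    refine LinearMap.ext (fun x => ?_)
    simp
  exact core M f (1 + B) (LinearEquiv.neg ℤ_[2]) 1 le_rfl he hfe hef (fun x => by simp [add_comm]) hfk c hc


lemma case2b [Fact (Nat.Prime 2)] (M : Type u) [AddCommGroup M] [Module ℤ_[2] M]
    [Module.Free ℤ_[2] M] [Module.Finite ℤ_[2] M]
    (A : M ≃ₗ[ℤ_[2]] M) (hA : A ^ 2 = 1) (f : Module.End ℤ_[2] M)
    (hf : f = (A : M →ₗ[ℤ_[2]] M) - 1) (B : Module.End ℤ_[2] M) (hB : f ^ 2 = (4 : ℤ_[2]) • B) :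
    f = (2 : ℤ_[2]) • (-B) := by
  set a : Module.End ℤ_[2] M := (A : M →ₗ[ℤ_[2]] M) with ha_def
  have ha : a * a = 1 := by
    refine LinearMap.ext (fun x => ?_)
    have := congrArg (fun g : M ≃ₗ[ℤ_[2]] M => g x) hA
    have h2 : A (A x) = x := by simpa [pow_two] using this
    exact h2
  have hB' : f * f = 4 * B := by
    rw [← pow_two, hB, Algebra.smul_def, map_ofNat]
  have hff : f * f = -(2 * f) := by
    rw [hf]
    calc (a - 1) * (a - 1) = a * a - 2 * a + 1 := by noncomm_ring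
      _ = -(2 * (a - 1)) := by rw [ha]; noncomm_ring
  have h1 : ((2 : ℕ) : Module.End ℤ_[2] M) * (f + 2 * B) = 0 := by
    calc ((2 : ℕ) : Module.End ℤ_[2] M) * (f + 2 * B) = 2 * f + 4 * B := by
          push_cast; noncomm_ring
      _ = 0 := by rw [← hB', hff]; abel
  have h2 : f + 2 * B = 0 := end_tf 2 (by norm_num) _ h1
  rw [two_smul]
  have : f = -(2 * B) := eq_neg_of_add_eq_zero_left h2
  rw [this, two_mul, neg_add]

lemma case3 [Fact (Nat.Prime 3)] (M : Type u) [AddCommGroup M] [Module ℤ_[3] M]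
    [Module.Free ℤ_[3] M] [Module.Finite ℤ_[3] M]
    (A : M ≃ₗ[ℤ_[3]] M) (hA : A ^ 3 = 1) (f : Module.End ℤ_[3] M)
    (hf : f = (A : M →ₗ[ℤ_[3]] M) - 1) (B : Module.End ℤ_[3] M) (hB : f ^ 2 = (3 : ℤ_[3]) • B)
    (c : ℕ) (hc : c = Module.finrank ℤ_[3] M - Module.finrank ℤ_[3] (LinearMap.ker f)) :
    (∀ x ∈ Submodule.torsion ℤ_[3] (M ⧸ LinearMap.range f), ((3 : ℕ) : ℤ_[3]) • x = 0) ∧
      ∃ r : ℕ, r * (3 - 1) = c ∧
        Nat.card (Submodule.torsion ℤ_[3] (M ⧸ LinearMap.range f)) = 3 ^ r := by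
  set a : Module.End ℤ_[3] M := (A : M →ₗ[ℤ_[3]] M) with ha_def
  have ha : a * a * a = 1 := by
    refine LinearMap.ext (fun x => ?_)
    have := congrArg (fun g : M ≃ₗ[ℤ_[3]] M => g x) hA
    have h2 : A (A (A x)) = x := by simpa [pow_succ] using this
    exact h2
  have hfa : a = 1 + f := by rw [hf]; abel
  have hff : f * f = 3 * B := by
    rw [← pow_two, hB, Algebra.smul_def, map_ofNat]
  have h0 : f * f * f + 3 * (f * f) + 3 * f = 0 := by
    calc f * f * f + 3 * (f * f) + 3 * f = (1 + f) * (1 + f) * (1 + f) - 1 := by noncomm_ring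
      _ = 0 := by rw [← hfa, ha, sub_self]
  have hfe : f * (B + f + 1) = 0 := by
    refine end_tf 3 (by norm_num) _ ?_
    calc ((3 : ℕ) : Module.End ℤ_[3] M) * (f * (B + f + 1))
        = f * (3 * B) + 3 * (f * f) + 3 * f := by push_cast; noncomm_ring
      _ = f * f * f + 3 * (f * f) + 3 * f := by rw [← hff]; noncomm_ring
      _ = 0 := h0
  have hef : (B + f + 1) * f = 0 := by
    refine end_tf 3 (by norm_num) _ ?_
    calc ((3 : ℕ) : Module.End ℤ_[3] M) * ((B + f + 1) * f)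
        = (3 * B) * f + 3 * (f * f) + 3 * f := by push_cast; noncomm_ring
      _ = f * f * f + 3 * (f * f) + 3 * f := by rw [← hff]
      _ = 0 := h0
  have hBe : B * (B + f + 1) = 0 := by
    refine end_tf 3 (by norm_num) _ ?_
    calc ((3 : ℕ) : Module.End ℤ_[3] M) * (B * (B + f + 1))
        = (3 * B) * (B + f + 1) := by push_cast; noncomm_ring
      _ = f * (f * (B + f + 1)) := by rw [← hff]; noncomm_ring
      _ = 0 := by rw [hfe, mul_zero]
  have he : (B + f + 1) * (B + f + 1) = B + f + 1 := by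
    calc (B + f + 1) * (B + f + 1)
        = B * (B + f + 1) + f * (B + f + 1) + (B + f + 1) := by noncomm_ring
      _ = B + f + 1 := by rw [hBe, hfe, zero_add, zero_add]
  have hae : a * (B + f + 1) = B + f + 1 := by
    rw [hfa, add_mul, one_mul, hfe, add_zero]
  have hea : (B + f + 1) * a = B + f + 1 := by
    rw [hfa, mul_add, mul_one, hef, add_zero]
  have hae' : ∀ x, A ((B + f + 1) x) = (B + f + 1) x := fun x =>
    congrArg (fun g : Module.End ℤ_[3] M => g x) hae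
  have hea' : ∀ x, (B + f + 1) (A x) = (B + f + 1) x := fun x =>
    congrArg (fun g : Module.End ℤ_[3] M => g x) hea
  let u : M ≃ₗ[ℤ_[3]] M := (LinearEquiv.neg ℤ_[3]).trans A
  have hu : ∀ x, u x = - A x := fun x => by
    show A (-x) = - A x
    rw [map_neg]
  have hu' : (u : Module.End ℤ_[3] M) = -a := LinearMap.ext (fun x => hu x)
  have hue : ∀ x, u ((B + f + 1) x) = (B + f + 1) (u x) := fun x => by
    rw [hu, hu, hae', map_neg, hea']
  have hfk : f ^ 2 = ((3 : ℕ) : ℤ_[3]) • ((u : Module.End ℤ_[3] M) * (1 - (B + f + 1))) := by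
    rw [hu', Nat.cast_ofNat, Algebra.smul_def, map_ofNat, pow_two, hff, hfa]
    congr 1
    calc B = B + f * (B + f + 1) := by rw [hfe, add_zero]
      _ = -(1 + f) * (1 - (B + f + 1)) := by noncomm_ring
  exact core M f (B + f + 1) u 2 (by norm_num) he hfe hef hue hfk c hc


/-- Let ℓ be a prime number, M a free ℤ_ℓ-module of finite rank, A an automorphism of M with A^ℓ = 1,
and c the rank of M minus the rank of the submodule of A-invariants. Assume that ℓ = 2 and A − 1 ∈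
2·End(M), or that ℓ = 2 and (A − 1)² ∈ 4·End(M), or that ℓ = 3 and (A − 1)² ∈ 3·End(M). Then the
torsion submodule of M/(A − 1)M is a vector space over ℤ/ℓℤ of dimension c/(ℓ − 1): it is killed by
ℓ and has ℓ^r elements for some r with r(ℓ − 1) = c. -/
theorem result (ℓ : ℕ) [Fact ℓ.Prime]
    (M : Type u) [AddCommGroup M] [Module ℤ_[ℓ] M] [Module.Free ℤ_[ℓ] M] [Module.Finite ℤ_[ℓ] M]
    (A : M ≃ₗ[ℤ_[ℓ]] M) (hA : A ^ ℓ = 1) (f : Module.End ℤ_[ℓ] M) (hf : f = (A : M →ₗ[ℤ_[ℓ]] M) - 1)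
    (hcase : (ℓ = 2 ∧ ∃ B : Module.End ℤ_[ℓ] M, f = (2 : ℤ_[ℓ]) • B) ∨
      (ℓ = 2 ∧ ∃ B : Module.End ℤ_[ℓ] M, f ^ 2 = (4 : ℤ_[ℓ]) • B) ∨
      (ℓ = 3 ∧ ∃ B : Module.End ℤ_[ℓ] M, f ^ 2 = (3 : ℤ_[ℓ]) • B))
    (c : ℕ) (hc : c = Module.finrank ℤ_[ℓ] M - Module.finrank ℤ_[ℓ] (LinearMap.ker f)) :
    (∀ x ∈ Submodule.torsion ℤ_[ℓ] (M ⧸ LinearMap.range f), (ℓ : ℤ_[ℓ]) • x = 0) ∧
      ∃ r : ℕ, r * (ℓ - 1) = c ∧
        Nat.card (Submodule.torsion ℤ_[ℓ] (M ⧸ LinearMap.range f)) = ℓ ^ r := by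
  rcases hcase with ⟨rfl, B, hB⟩ | ⟨rfl, B, hB⟩ | ⟨rfl, B, hB⟩
  · exact case2 M A hA f hf B hB c hc
  · exact case2 M A hA f hf (-B) (case2b M A hA f hf B hB) c hc
  · exact case3 M A hA f hf B hB c hc

end Groth.Agent.S18599
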