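import Groth.Statements.S1860
import Groth.Agent.Lib.Helper7DegJ

set_option autoImplicit false
universe u
open CategoryTheory AlgebraicGeometry
open Cyc

namespace Groth.Agent.S1860

/-- Let X be an integral scheme of dimension 1 with a proper morphism c to Spec K, K a field, and f a
nonzero rational function on X. Then Σ_x [κ(x) : K] · ord_{O_{X,x}}(f) = 0, the sum over the closed
points x of X (a finite sum). -/
theorem result (K : Type u) [Field K] (X : Scheme.{u}) [IsIntegral X] (c : X ⟶ Spec (CommRingCat.of K)) [IsProper c] (hdim : topologicalKrullDim X = 1) (f : X.functionField) (hf : f ≠ 0) : ∑ᶠ (x : X) (_ : IsClosed ({x} : Set X)), (c.residueDegree x : ℤ) * CycAlg.ordFrac (X.presheaf.stalk x) X.functionField f = 0 := by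
  classical
  have : IsLocallyNoetherian X := LocallyOfFiniteType.isLocallyNoetherian c
  have hcC := Groth.Agent.Lib.Helper7.CycDeg.deltaCompat_delta K c
  have hC := Groth.Agent.Lib.Helper7.CycDeg.isSetup_of_deltaCompat c _
    (Groth.Agent.Lib.Helper7.CycDeg.isSetup_specField K) _ hcC
  have hξ : Groth.Agent.Lib.Helper7.CycDeg.delta K c (genericPoint X) = 1 := by
    have := Groth.Agent.Lib.Helper7.CycDeg.delta_genericPoint_eq K c 1 (by rw [hdim]; rfl)
    exact_mod_cast this
  have hg : (X.residue (genericPoint X)).hom f ≠ 0 := by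
    intro h0
    apply hf
    have hinj : Function.Injective (X.residue (genericPoint X)).hom :=
      RingHom.injective _
    exact hinj (by rw [h0, map_zero])
  have core := Groth.Agent.Lib.Helper7.CycDeg.deg_divFun_eq_zero K c (genericPoint X) hξ _ hg
  rw [← core]
  apply finsum_congr
  intro x
  have hsp : genericPoint X ⤳ x := (genericPoint_spec X).specializes (Set.mem_univ x)
  by_cases hx : IsClosed ({x} : Set X)
  · rw [finsum_eq_if, if_pos hx]
    have hδx := Groth.Agent.Lib.Helper7.CycDeg.delta_eq_zero_of_isClosed K c x hx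
    have hcod : Groth.Agent.Lib.Helper7.CycDeg.delta K c x + 1 =
        Groth.Agent.Lib.Helper7.CycDeg.delta K c (genericPoint X) := by rw [hδx, hξ]; rfl
    have hdimL := Groth.Agent.Lib.Helper2.CycOrd.ringKrullDim_locQuot_le_one _ hC.2.2 x
      (genericPoint X) hsp hcod
    simp only [Cyc.divFun]
    rw [dif_pos ⟨hsp, hcod⟩,
      Groth.Agent.Lib.Helper7.CycDeg.ordAt_eq_ordFrac_stalk x hsp hdimL f hf]
    unfold AlgebraicCycle.mapCoeff
    rw [if_pos hδx, mul_comm]
  · rw [finsum_eq_if, if_neg hx]
    simp only [Cyc.divFun]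
    rw [dif_neg, zero_mul]
    rintro ⟨-, h⟩
    apply hx
    apply Groth.Agent.Lib.Helper7.CycDeg.isClosed_of_delta_eq_zero K c x
    rw [hξ] at h
    omega

end Groth.Agent.S1860
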