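import Groth.Statements.S1861
import Groth.Agent.Lib.Helper4DimFormulaT

set_option autoImplicit false
universe u
open CategoryTheory AlgebraicGeometry
open Cyc

namespace Groth.Agent.S1861

/-- Let f : X → Y be flat, locally of finite type, of relative dimension r, y a point of Y and x a point
of X that is generic in an irreducible component of f⁻¹ of the closure of y (that is, x lies in that
closed set and has no proper generalization in it). Then f(x) = y and δX(x) = δY(y) + r. Here a pair
(X, δ) with Cyc.IsSetup plays the role of a scheme locally of finite type over a fixed base with a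
dimension function (X locally Noetherian with universally catenary local rings, δ a dimension
function), and Cyc.DeltaCompat records that the dimension function upstairs is the induced one. -/
theorem result (X Y : Scheme.{u}) (δX : X → ℤ) (δY : Y → ℤ) (hX : Cyc.IsSetup X δX) (hY : Cyc.IsSetup Y δY) (f : X ⟶ Y) [Flat f] [LocallyOfFiniteType f] (r : ℕ) (hr : Cyc.HasRelDim f r) (hδ : Cyc.DeltaCompat f δX δY) (y : Y) (x : X) (hx : f x ∈ closure ({y} : Set Y)) (hmax : ∀ x' : X, f x' ∈ closure ({y} : Set Y) → x' ⤳ x → x' = x) : f x = y ∧ δX x = δY y + r := by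
  have hsp : y ⤳ f x := specializes_iff_mem_closure.mpr hx
  obtain ⟨x', hx', hfx'⟩ := Flat.generalizingMap f hsp
  have hx'x : x' = x := hmax x' (by rw [hfx']; exact subset_closure rfl) hx'
  have hfx : f x = y := by rw [← hx'x]; exact hfx'
  refine ⟨hfx, ?_⟩
  have hmax' : ∀ x'' : X, f.base x'' = f.base x → x'' ⤳ x → x'' = x := fun x'' h1 h2 =>
    hmax x'' (by rw [show f x'' = f x from h1]; exact hx) h2
  obtain ⟨Z, hZ, hdimZ⟩ :=
    Groth.Agent.Lib.Helper4.DimFormula.exists_mem_irreducibleComponents_of_maximal f (f.base x) x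
      rfl hmax'
  have h1 := hr (f.base x) Z hZ
  rw [hdimZ] at h1
  have h2 : Groth.Agent.Lib.Helper4.DimFormula.ptTrdeg f x = r := by exact_mod_cast h1
  obtain ⟨n, hn, hδn⟩ := hδ x
  have h3 := Groth.Agent.Lib.Helper4.DimFormula.trdeg_eq_ptTrdeg f x
  have h4 : n = Groth.Agent.Lib.Helper4.DimFormula.ptTrdeg f x := by
    have h5 : ((n : ℕ) : Cardinal.{u}) =
        (Groth.Agent.Lib.Helper4.DimFormula.ptTrdeg f x : Cardinal.{u}) := hn.symm.trans h3
    exact_mod_cast h5
  rw [hδn, h4, h2, hfx]

end Groth.Agent.S1861
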