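import Groth.Statements.S18614
import Mathlib.Tactic
import Mathlib.LinearAlgebra.Dual.Lemmas
import Mathlib.Topology.Algebra.LinearTopology

set_option autoImplicit false
universe u v
open LinTop

namespace Groth.Agent.S18614

open Topology in
/-- A linear functional to a discrete field vanishing on an open submodule is continuous. -/
theorem continuous_of_vanish_on_open {k : Type u} {M : Type v} [Field k]
    [TopologicalSpace k] [DiscreteTopology k] [AddCommGroup M] [Module k M] [TopologicalSpace M]
    [IsTopologicalAddGroup M] (φ : M →ₗ[k] k) (U : Submodule k M) (hU : IsOpen (U : Set M))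
    (hφ : ∀ u ∈ U, φ u = 0) : Continuous φ := by
  apply continuous_of_continuousAt_zero φ.toAddMonoidHom
  show Filter.Tendsto φ (𝓝 0) (𝓝 (φ 0))
  rw [nhds_discrete k, Filter.tendsto_pure, map_zero]
  filter_upwards [hU.mem_nhds U.zero_mem] with y hy
  exact hφ y hy


/-- Let k be a field carrying the discrete topology and M a separated topological k-module with a
k-linear topology (the open k-submodules form a basis of neighbourhoods of zero and M is a
topological additive group). For a closed submodule M₁, the perpendicular of the perpendicular of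
M₁, both taken with respect to the pairing of M with its continuous dual (the continuous k-linear
maps M → k), is M₁ itself: an element killed by every continuous functional vanishing on M₁ belongs
to M₁. -/
theorem result (k : Type u) (M : Type v) [Field k]
    [TopologicalSpace k] [DiscreteTopology k] [AddCommGroup M] [Module k M] [TopologicalSpace M]
    [IsTopologicalAddGroup M] [IsLinearTopology k M] [T2Space M]
    (M₁ : Submodule k M) (hM₁ : IsClosed (M₁ : Set M)) (x : M)
    (hx : ∀ φ : M →L[k] k, (∀ m ∈ M₁, φ m = 0) → φ x = 0) : x ∈ M₁ := by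
  by_contra hxM
  -- an open submodule U with x + U disjoint from M₁
  have hnhds : {y : M | x + y ∉ M₁} ∈ nhds (0 : M) := by
    have hcont : Continuous fun y : M => x + y := continuous_const.add continuous_id
    have hopen : IsOpen ((fun y : M => x + y) ⁻¹' (M₁ : Set M)ᶜ) := hM₁.isOpen_compl.preimage hcont
    apply hopen.mem_nhds
    show x + 0 ∉ M₁
    rwa [add_zero]
  obtain ⟨U, hUopen, hUsub⟩ := (IsLinearTopology.hasBasis_open_submodule k (M := M)).mem_iff.mp hnhds
  have hxW : x ∉ M₁ ⊔ U := by
    intro hmem
    obtain ⟨m, hm, u, hu, rfl⟩ := Submodule.mem_sup.mp hmem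
    have h1 : -u ∈ (U : Set M) := U.neg_mem hu
    have h2 := hUsub h1
    apply h2
    show m + u + -u ∈ M₁
    rw [add_neg_cancel_right]
    exact hm
  have hex : ∃ φ ∈ (M₁ ⊔ U).dualAnnihilator, φ x ≠ 0 := by
    by_contra hcon
    push Not at hcon
    exact hxW ((Subspace.forall_mem_dualAnnihilator_apply_eq_zero_iff (M₁ ⊔ U) x).mp hcon)
  obtain ⟨φ, hφ, hφx⟩ := hex
  rw [Submodule.mem_dualAnnihilator] at hφ
  have hcont : Continuous φ :=
    continuous_of_vanish_on_open φ U hUopen (fun u hu => hφ u (Submodule.mem_sup_right hu))
  exact hφx (hx ⟨φ, hcont⟩ (fun m hm => hφ m (Submodule.mem_sup_left hm)))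

end Groth.Agent.S18614
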