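import Groth.Statements.S18615
import Mathlib.Tactic
import Mathlib.LinearAlgebra.Dual.Lemmas
import Mathlib.Topology.Algebra.LinearTopology
import Groth.Agent.S18614

set_option autoImplicit false
universe u v
open LinTop

namespace Groth.Agent.S18615

/-- Let k be a field carrying the discrete topology and M a separated topological k-module with a
k-linear topology (open k-submodules form a basis of neighbourhoods of zero, M a topological
additive group). For closed submodules M₁ ⊆ M₂ there is a short exact sequence 0 → M₂^⊥ → M₁^⊥ →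
(M₂/M₁)^* → 0 of plain k-modules, where ⊥ denotes the annihilator in the continuous dual of M and *
the continuous dual. Stated here as its one non-formal part, surjectivity on the right: every
continuous functional on M₂ (subspace topology) that vanishes on M₁ is the restriction of a
continuous functional on M vanishing on M₁ (continuous functionals on M₂/M₁ being the continuous
functionals on M₂ that kill M₁). -/
theorem result (k : Type u) (M : Type v) [Field k]
    [TopologicalSpace k] [DiscreteTopology k] [AddCommGroup M] [Module k M] [TopologicalSpace M]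
    [IsTopologicalAddGroup M] [IsLinearTopology k M] [T2Space M]
    (M₁ M₂ : Submodule k M) (h₁₂ : M₁ ≤ M₂) (hM₁ : IsClosed (M₁ : Set M))
    (hM₂ : IsClosed (M₂ : Set M)) (ψ : M₂ →L[k] k)
    (hψ : ∀ m : M₂, (m : M) ∈ M₁ → ψ m = 0) :
    ∃ φ : M →L[k] k, (∀ m ∈ M₁, φ m = 0) ∧ ∀ m : M₂, φ (m : M) = ψ m := by
  -- an open submodule U of M with U ∩ M₂ ⊆ ker ψ
  have hker : {m : M₂ | ψ m = 0} ∈ nhds (0 : M₂) := by
    have hopen : IsOpen (ψ ⁻¹' ({0} : Set k)) := (isOpen_discrete _).preimage ψ.continuous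
    apply hopen.mem_nhds
    show ψ 0 = 0
    exact map_zero ψ
  rw [nhds_subtype_eq_comap, Filter.mem_comap] at hker
  obtain ⟨V, hV, hVsub⟩ := hker
  obtain ⟨U, hUopen, hUV⟩ := (IsLinearTopology.hasBasis_open_submodule k (M := M)).mem_iff.mp hV
  have hUψ : ∀ m : M₂, (m : M) ∈ U → ψ m = 0 := fun m hm => hVsub (hUV hm)
  -- linear algebra
  let N : Submodule k M₂ := U.comap M₂.subtype
  have hN : N ≤ LinearMap.ker (ψ : M₂ →ₗ[k] k) := fun m hm => hUψ m hm
  let ψbar : (M₂ ⧸ N) →ₗ[k] k := N.liftQ (ψ : M₂ →ₗ[k] k) hN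
  have hN' : N ≤ LinearMap.ker (U.mkQ ∘ₗ M₂.subtype) := by
    intro m hm
    rw [LinearMap.mem_ker, LinearMap.comp_apply, Submodule.mkQ_apply, Submodule.Quotient.mk_eq_zero]
    exact hm
  let χbar : (M₂ ⧸ N) →ₗ[k] (M ⧸ U) := N.liftQ (U.mkQ ∘ₗ M₂.subtype) hN'
  have hχinj : LinearMap.ker χbar = ⊥ := by
    apply Submodule.ker_liftQ_eq_bot
    intro m hm
    rw [LinearMap.mem_ker, LinearMap.comp_apply, Submodule.mkQ_apply,
      Submodule.Quotient.mk_eq_zero] at hm
    exact hm
  obtain ⟨g, hg⟩ := χbar.exists_leftInverse_of_injective hχinj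
  let φ : M →ₗ[k] k := ψbar ∘ₗ g ∘ₗ U.mkQ
  have hφU : ∀ u ∈ U, φ u = 0 := by
    intro u hu
    show ψbar (g (U.mkQ u)) = 0
    rw [Submodule.mkQ_apply, (Submodule.Quotient.mk_eq_zero U).mpr hu, map_zero, map_zero]
  have hφM₂ : ∀ m : M₂, φ (m : M) = ψ m := by
    intro m
    show ψbar (g (U.mkQ (m : M))) = ψ m
    have h1 : U.mkQ (m : M) = χbar (N.mkQ m) := by
      show _ = N.liftQ (U.mkQ ∘ₗ M₂.subtype) hN' (Submodule.Quotient.mk m)
      rw [Submodule.liftQ_apply]
      rfl
    have h2 : g (χbar (N.mkQ m)) = N.mkQ m := by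
      have := LinearMap.congr_fun hg (N.mkQ m)
      simpa using this
    rw [h1, h2]
    show N.liftQ (ψ : M₂ →ₗ[k] k) hN (Submodule.Quotient.mk m) = ψ m
    rw [Submodule.liftQ_apply]
    rfl
  have hcont : Continuous φ := Groth.Agent.S18614.continuous_of_vanish_on_open φ U hUopen hφU
  refine ⟨⟨φ, hcont⟩, ?_, hφM₂⟩
  intro m hm
  have := hφM₂ ⟨m, h₁₂ hm⟩
  show φ m = 0
  rw [show φ m = φ ((⟨m, h₁₂ hm⟩ : M₂) : M) from rfl, this]
  exact hψ ⟨m, h₁₂ hm⟩ hm

end Groth.Agent.S18615
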