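import Groth.Statements.S18617
import Mathlib.Tactic

set_option autoImplicit false
universe u
open LocRes

namespace Groth.Agent.S18617

/-- The published statement is that, for a complete separated linearly topologized commutative algebra K
over a field of characteristic zero, the separated de Rham complex of K tensored with the exterior
algebra on symbols α_1, ..., α_n maps quasi-isomorphically to the separated de Rham complex of the
iterated Laurent series ring K((t_1, ..., t_n)), α_i going to dlog t_i; this row is the case K = k
and n = 1, unpacked: over a field k of characteristic 0, a formal Laurent series f in k((t)) has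
term-by-term derivative zero if and only if it is the constant series on its coefficient of degree
0, and a Laurent series g is the derivative of some Laurent series if and only if its residue (the
coefficient of t⁻¹) vanishes; so H⁰ of the complex k((t)) → k((t)) dt is k and H¹ is the line
spanned by the class of dt/t, on which the residue is 1. -/
theorem result (k : Type u) [Field k] [CharZero k] :
    (∀ f : LaurentSeries k, LocRes.D k f = 0 ↔ f = HahnSeries.C (f.coeff 0)) ∧
      ∀ g : LaurentSeries k, (∃ f : LaurentSeries k, LocRes.D k f = g) ↔ LocRes.res k g = 0 := by
  constructor
  · intro f
    constructor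
    · intro h
      ext n
      rw [HahnSeries.C_apply, HahnSeries.coeff_single]
      split_ifs with hn
      · rw [hn]
      · have h1 := congrArg (fun g : LaurentSeries k => g.coeff (n - 1)) h
        simp only [LocRes.D_coeff, HahnSeries.coeff_zero, sub_add_cancel] at h1
        rw [zsmul_eq_mul] at h1
        rcases mul_eq_zero.mp h1 with h2 | h2
        · exfalso
          exact hn (by exact_mod_cast h2)
        · exact h2
    · intro h
      rw [h]
      exact LocRes.derivative_C k _
  · intro g
    constructor
    · rintro ⟨f, rfl⟩
      rw [LocRes.res_apply, LocRes.D_coeff]
      simp
    · intro hg
      rw [LocRes.res_apply] at hg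
      let F : ℤ → k := fun m => g.coeff (m - 1) / (m : k)
      have hF : BddBelow (Function.support F) := by
        refine ⟨g.order + 1, fun m hm => ?_⟩
        by_contra hlt
        push Not at hlt
        apply hm
        show g.coeff (m - 1) / (m : k) = 0
        rw [HahnSeries.coeff_eq_zero_of_lt_order (by omega), zero_div]
      refine ⟨HahnSeries.ofSuppBddBelow F hF, ?_⟩
      ext n
      rw [LocRes.D_coeff, HahnSeries.coeff_ofSuppBddBelow]
      show (n + 1) • (g.coeff (n + 1 - 1) / ((n + 1 : ℤ) : k)) = g.coeff n
      rw [add_sub_cancel_right, zsmul_eq_mul]
      by_cases hn : n + 1 = 0
      · have : n = -1 := by omega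
        subst this
        simp [hg]
      · have : ((n + 1 : ℤ) : k) ≠ 0 := by exact_mod_cast hn
        field_simp

end Groth.Agent.S18617
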