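import Groth.Statements.S1862
import Mathlib
import Groth.Agent.Lib.Helper20ResFrac

set_option autoImplicit false
universe u
open CategoryTheory AlgebraicGeometry
open Cyc

namespace Groth.Agent.S1862

open AlgebraicGeometry CategoryTheory in
/-- evaluation is compatible with restriction. -/
lemma evaluation_map {X : Scheme.{u}} {U V : X.Opens} (i : U ≤ V) (x : X) (hx : x ∈ U)
    (s : Γ(X, V)) :
    (X.evaluation U x hx).hom ((X.presheaf.map (homOfLE i).op).hom s) =
      (X.evaluation V x (i hx)).hom s := by
  have h1 : X.presheaf.map (homOfLE i).op ≫ X.evaluation U x hx = X.evaluation V x (i hx) := by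
    unfold Scheme.evaluation
    rw [← Category.assoc, X.presheaf.germ_res]
  rw [← h1]
  rfl

open AlgebraicGeometry CategoryTheory in
/-- The residue field extension of a morphism locally of finite type is finitely generated. -/
lemma exists_finite_adjoin_eq_top {X Y : Scheme.{u}} (f : X ⟶ Y) [LocallyOfFiniteType f] (x : X) :
    letI := (f.residueFieldMap x).hom.toAlgebra
    ∃ S : Finset (X.residueField x),
      IntermediateField.adjoin (Y.residueField (f x)) (S : Set (X.residueField x)) = ⊤ := by
  classical
  let _ := (f.residueFieldMap x).hom.toAlgebra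
  obtain ⟨V, hV, hfxV⟩ : ∃ V : Y.Opens, IsAffineOpen V ∧ f x ∈ V := by
    obtain ⟨_, ⟨V, hV, rfl⟩, hxV, -⟩ := Y.isBasis_affineOpens.exists_subset_of_mem_open
      (Set.mem_univ (f x)) isOpen_univ
    exact ⟨V, hV, hxV⟩
  obtain ⟨U, hU, hxU, hUV⟩ : ∃ U : X.Opens, IsAffineOpen U ∧ x ∈ U ∧ U ≤ f ⁻¹ᵁ V := by
    obtain ⟨_, ⟨U, hU, rfl⟩, hxU, hUV⟩ := X.isBasis_affineOpens.exists_subset_of_mem_open
      (show x ∈ ((f ⁻¹ᵁ V : X.Opens) : Set X) from hfxV) (f ⁻¹ᵁ V).isOpen
    exact ⟨U, hU, hxU, hUV⟩
  have hft : (f.appLE V U hUV).hom.FiniteType :=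
    HasRingHomProperty.appLE @LocallyOfFiniteType f inferInstance ⟨V, hV⟩ ⟨U, hU⟩ hUV
  let alg : Algebra Γ(Y, V) Γ(X, U) := (f.appLE V U hUV).hom.toAlgebra
  have hft' : Algebra.FiniteType Γ(Y, V) Γ(X, U) := hft
  obtain ⟨s, hs⟩ := hft'.out
  refine ⟨s.image (X.evaluation U x hxU).hom, ?_⟩
  rw [eq_top_iff]
  rintro z -
  obtain ⟨b, t, ht, rfl⟩ := Groth.Agent.Lib.Helper20.exists_evaluation_div hU x hxU z
  have key : ∀ b : Γ(X, U), (X.evaluation U x hxU).hom b ∈
      IntermediateField.adjoin (Y.residueField (f x))
        ((s.image (X.evaluation U x hxU).hom : Finset _) : Set (X.residueField x)) := by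
    intro b
    have hb : b ∈ Algebra.adjoin Γ(Y, V) (s : Set Γ(X, U)) := by rw [hs]; trivial
    induction hb using Algebra.adjoin_induction with
    | mem b hb =>
      apply IntermediateField.subset_adjoin
      rw [Finset.coe_image]
      exact ⟨b, hb, rfl⟩
    | algebraMap r =>
      have h1 : (X.evaluation U x hxU).hom (algebraMap Γ(Y, V) Γ(X, U) r) =
          algebraMap (Y.residueField (f x)) (X.residueField x)
            ((Y.evaluation V (f x) hfxV).hom r) := by
        show (X.evaluation U x hxU).hom ((f.appLE V U hUV).hom r) =
          (f.residueFieldMap x).hom ((Y.evaluation V (f x) hfxV).hom r)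
        have h2 := Scheme.evaluation_naturality_apply f x hfxV r
        have h3 : (f.appLE V U hUV).hom r =
            (X.presheaf.map (homOfLE hUV).op).hom ((f.app V).hom r) := rfl
        rw [h3, evaluation_map hUV x hxU]
        exact h2.symm
      rw [h1]
      exact IntermediateField.algebraMap_mem _ _
    | add a b _ _ ha hb => rw [map_add]; exact add_mem ha hb
    | mul a b _ _ ha hb => rw [map_mul]; exact mul_mem ha hb
  exact div_mem (key b) (key t)

/-- Let f : X → Y be a morphism locally of finite type of integral schemes with δX(η_X) = δY(η_Y). Then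
either the image of f is not dense, or f maps the generic point to the generic point and the induced
extension of residue fields there (the function fields) is finite. Here a pair (X, δ) with
Cyc.IsSetup plays the role of a scheme locally of finite type over a fixed base with a dimension
function (X locally Noetherian with universally catenary local rings, δ a dimension function), and
Cyc.DeltaCompat records that the dimension function upstairs is the induced one. -/
theorem result (X Y : Scheme.{u}) [IsIntegral X] [IsIntegral Y] (δX : X → ℤ) (δY : Y → ℤ) (hX : Cyc.IsSetup X δX) (hY : Cyc.IsSetup Y δY) (f : X ⟶ Y) [LocallyOfFiniteType f] (hδ : Cyc.DeltaCompat f δX δY) (heq : δX (genericPoint X) = δY (genericPoint Y)) : ¬ Dense (Set.range f) ∨ (f (genericPoint X) = genericPoint Y ∧ (f.residueFieldMap (genericPoint X)).hom.Finite) := by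
  classical
  by_cases hd : Dense (Set.range f)
  swap
  · exact Or.inl hd
  right
  have hgen : f (genericPoint X) = genericPoint Y := by
    have h1 := (genericPoint_spec X).image f.continuous
    rw [Set.image_univ, hd.closure_eq] at h1
    exact h1.eq (genericPoint_spec Y)
  refine ⟨hgen, ?_⟩
  obtain ⟨n, hn, hn'⟩ := hδ (genericPoint X)
  rw [hgen] at hn'
  have hn0 : n = 0 := by omega
  subst hn0
  let _ := (f.residueFieldMap (genericPoint X)).hom.toAlgebra
  have halg : Algebra.IsAlgebraic (Y.residueField (f (genericPoint X)))
      (X.residueField (genericPoint X)) := by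
    rw [← _root_.trdeg_eq_zero_iff]
    exact_mod_cast hn
  obtain ⟨S, hS⟩ := exists_finite_adjoin_eq_top f (genericPoint X)
  have hfd : FiniteDimensional (Y.residueField (f (genericPoint X)))
      (IntermediateField.adjoin (Y.residueField (f (genericPoint X)))
        (S : Set (X.residueField (genericPoint X)))) :=
    IntermediateField.finiteDimensional_adjoin
      (fun x _ => (Algebra.IsAlgebraic.isAlgebraic x).isIntegral)
  rw [hS] at hfd
  have : Module.Finite (Y.residueField (f (genericPoint X))) (X.residueField (genericPoint X)) :=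
    (IntermediateField.topEquiv (F := Y.residueField (f (genericPoint X)))
      (E := X.residueField (genericPoint X))).toLinearEquiv.finiteDimensional
  exact this

end Groth.Agent.S1862
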