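import Groth.Statements.S18635
import Groth.Agent.Lib.Helper29GrInjCrit2

set_option autoImplicit false
universe u
open GrLC

namespace Groth.Agent.S18635

/-- Let R be a commutative Noetherian ℤ-graded ring and M a *injective graded R-module (an injective
object of the category of graded R-modules). Then M fails to be injective as an ordinary R-module —
equivalently, since a *injective graded module has ordinary injective dimension at most 1, its
ordinary injective dimension is exactly 1 — if and only if there is a prime ideal p of R which is
not graded and whose graded core p* (the largest graded ideal contained in p, itself a prime) is an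
associated prime of M. -/
theorem result (R : Type u) [CommRing R] [IsNoetherianRing R] (𝒜 : ℤ → AddSubgroup R) [GradedRing 𝒜] (M : Type u) [AddCommGroup M] [Module R M] (ℳ : ℤ → AddSubgroup M) [DirectSum.Decomposition ℳ] [SetLike.GradedSMul 𝒜 ℳ] (hM : GrLC.IsStarInj 𝒜 ℳ) : ¬ Module.Injective R M ↔ ∃ p : Ideal R, p.IsPrime ∧ ¬ Ideal.IsHomogeneous 𝒜 p ∧ (Ideal.homogeneousCore 𝒜 p).toIdeal ∈ associatedPrimes R M := by
  open Groth.Agent.Lib.Helper29GrInjCrit in
  constructor
  · intro hninj
    by_contra hcon
    push_neg at hcon
    apply hninj
    exact (baer_of_no_core 𝒜 ℳ hM (fun p hp hph => hcon p hp hph)).injective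
  · rintro ⟨p, hp, hph, hass⟩ hinj
    haveI := hp
    exact core_notMem_of_injective 𝒜 ℳ hinj p hph hass

end Groth.Agent.S18635
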