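import Groth.Statements.S18637
import Groth.Agent.Lib.Helper29GrMaxHull
import Groth.Agent.S13220

set_option autoImplicit false
universe u
open GrLC

namespace Groth.Agent.S18637

/-- Let R be a commutative Noetherian ℤ-graded ring and m a maximal ideal of R which is graded. If e :
R/m → E is a *injective envelope of R/m in the category of graded R-modules (E graded and
*injective, e degree-preserving and injective, every nonzero graded submodule of E meeting the
image), then e is an injective hull of R/m as an ordinary R-module: E is an injective R-module and e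
is an essential injection. -/
theorem result (R : Type u) [CommRing R] [IsNoetherianRing R] (𝒜 : ℤ → AddSubgroup R) [GradedRing 𝒜] (m : HomogeneousIdeal 𝒜) [m.toIdeal.IsMaximal] (E' : Type u) [AddCommGroup E'] [Module R E'] (𝓔 : ℤ → AddSubgroup E') [DirectSum.Decomposition 𝓔] [SetLike.GradedSMul 𝒜 𝓔] (e : (R ⧸ m.toIdeal) →ₗ[R] E') (he : GrLC.IsStarInjHull 𝒜 (GrLC.quotGr 𝒜 m) 𝓔 e) : InjHull.IsInjectiveHull e := by
  classical
  open Groth.Agent.Lib.Helper29GrEss in
  haveI : m.toIdeal.IsPrime := Ideal.IsMaximal.isPrime inferInstance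
  have hrange : (LinearMap.range e).IsHomogeneous 𝓔 := by
    have h1 : (LinearMap.range (e ∘ₗ m.toIdeal.mkQ)).IsHomogeneous 𝓔 :=
      range_isHomogeneous 𝓔 𝒜 (e ∘ₗ m.toIdeal.mkQ)
        (fun g r hr => he.grHom g _ ⟨r, hr, rfl⟩)
    rwa [LinearMap.range_comp_of_range_eq_top _ (Submodule.range_mkQ _)] at h1
  refine ⟨⟨he.injective, ?_⟩, ?_⟩
  · intro N hN
    obtain ⟨x, hxN, hx0⟩ := Submodule.exists_mem_ne_zero_of_ne_bot hN
    obtain ⟨h, r, -, hrx0, hrxN⟩ := exists_smul_mem 𝒜 𝓔 (LinearMap.range e) hrange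
      he.essential x hx0
    intro hbot
    apply hrx0
    have : r • x ∈ N ⊓ LinearMap.range e := ⟨N.smul_mem r hxN, hrxN⟩
    rw [hbot] at this
    exact (Submodule.mem_bot R).mp this
  · have htors : GrLC.gam m.toIdeal E' = ⊤ := Groth.Agent.S13220.result R 𝒜 m E' 𝓔 e he
    exact (Groth.Agent.Lib.Helper29GrMaxHull.baer_of_torsion 𝒜 m 𝓔 he.starInj htors).injective

end Groth.Agent.S18637
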