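import Groth.Statements.S18641
import Groth.Agent.Lib.Helper8VerGor
import Groth.Agent.Lib.Helper8VerCM
import Groth.Agent.Lib.Helper8VerCanon
import Groth.Agent.S18638
import Groth.Agent.S13215

set_option autoImplicit false
universe u
open GrLC

namespace Groth.Agent.S18641

/-- Let R be a graded ring defined over a field which is Gorenstein, and let q ≥ 1 be an integer
dividing the a-invariant a(R). Then the Veronese subring R^(q) is a Gorenstein ring. Here 'graded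
ring defined over a field' means R = ⊕_{n ≥ 0} R_n is Noetherian with R_0 a field, and m = R_+ is
its unique graded maximal ideal. The a-invariant a(R) is the largest degree in which the graded
local cohomology H^n_m(R) (n = dim R, m = R_+), computed from a *injective resolution of R in the
graded category, is nonzero. The Veronese subring R^(q) = ⊕_j R_{jq}, regraded by (R^(q))_j =
R_{jq}, is presented abstractly as a ℤ-graded ring R' with an injective ring homomorphism φ : R' → R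
carrying R'_j onto R_{jq} for every j. -/
theorem result (R : Type u) [CommRing R] [LocCoh.IsGorensteinRing R] (𝒜 : ℤ → AddSubgroup R) [GradedRing 𝒜] (hpos : ∀ n : ℤ, n < 0 → 𝒜 n = ⊥) (h0 : IsField (GrLC.deg0 𝒜)) (m : HomogeneousIdeal 𝒜) (hm : GrLC.IsStarLocal 𝒜 m) (hmsp : m.toIdeal = Ideal.span (⋃ n ∈ Set.Ioi (0 : ℤ), (𝒜 n : Set R))) (n : ℕ) (hn : ringKrullDim R = n) (I : GrLC.StarInjRes 𝒜 𝒜) (a : ℤ) (ha : GrLC.endDeg (I.Hgr m n) = ((a : WithTop ℤ) : WithBot (WithTop ℤ))) (q : ℕ) (hq : 0 < q) (R' : Type u) [CommRing R'] (𝒜' : ℤ → AddSubgroup R') [GradedRing 𝒜'] (φ : R' →+* R) (hφ : Function.Injective φ) (hdeg : ∀ j : ℤ, (𝒜' j).map (φ : R' →+ R) = 𝒜 (j * q)) (hdvd : (q : ℤ) ∣ a) : LocCoh.IsGorensteinRing R' := by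
  classical
  open Groth.Agent.Lib.Helper8.Veronese Groth.Agent.Lib.Helper8.VerGor
    Groth.Agent.Lib.Helper29GrShift in
  let D : VerData 𝒜 𝒜' := ⟨φ, q, hq, fun j a ha => by
    rw [← hdeg j]
    exact ⟨a, ha, rfl⟩⟩
  have hsurj : ∀ j : ℤ, ∀ x ∈ 𝒜 (j * D.q), ∃ a ∈ 𝒜' j, D.φ a = x := by
    intro j x hx
    have hx' : x ∈ (𝒜' j).map (φ : R' →+ R) := by rw [hdeg j]; exact hx
    obtain ⟨a, ha, hax⟩ := hx'
    exact ⟨a, ha, hax⟩
  have hφD : Function.Injective D.φ := hφ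
  have hNoeth : IsNoetherianRing R := inferInstance
  have hCM : LocCoh.IsCohenMacaulayRing R :=
    Groth.Agent.Lib.Helper5.GorUnmixed.isCohenMacaulayRing_of_isGorensteinRing R
  have hNoeth' : IsNoetherianRing R' :=
    Groth.Agent.Lib.Helper8.Veronese.isNoetherianRing_of_veronese D hφD hsurj
  have hCM' : LocCoh.IsCohenMacaulayRing R' :=
    Groth.Agent.Lib.Helper8.VerCM.isCohenMacaulayRing_of_veronese 𝒜 hpos h0 m hm hmsp D hφD hsurj
      n hn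
  have hpos' := hpos_veronese D hφD hpos
  have h0' := isField_deg0_veronese D hφD hsurj h0
  let m' : HomogeneousIdeal 𝒜' := irr 𝒜'
  have hm'sp : m'.toIdeal = Ideal.span (⋃ j ∈ Set.Ioi (0 : ℤ), (𝒜' j : Set R')) := rfl
  have hm' : GrLC.IsStarLocal 𝒜' m' := isStarLocal_of_span 𝒜' hpos' h0' m' hm'sp
  have hmne : m.toIdeal ≠ ⊤ := Groth.Agent.Lib.Helper29GrStarLocal.toIdeal_ne_top 𝒜 m hm
  have hmne' : m'.toIdeal ≠ ⊤ := Groth.Agent.Lib.Helper29GrStarLocal.toIdeal_ne_top 𝒜' m' hm'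
  have hn' : ringKrullDim R' = n := by
    rw [← hn]
    exact Groth.Agent.Lib.Helper8.VerCM.ringKrullDim_veronese 𝒜 D hφD hsurj
  obtain ⟨I'⟩ := Groth.Agent.S13215.result R' 𝒜' R' 𝒜'
  obtain ⟨EE, e, he⟩ := exists_starInjHull 𝒜 m
  obtain ⟨EE', e', he'⟩ := exists_starInjHull 𝒜' m'
  obtain ⟨a₀, hC, ha₀⟩ := isStarCanonical_shiftMod 𝒜 hpos h0 m hm hmsp n hn I EE.carrier EE.gr e he
  have haa : a₀ = a := by
    rw [ha] at ha₀
    exact (WithTop.coe_injective (WithBot.coe_injective ha₀)).symm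
  subst haa
  have hC' := Groth.Agent.Lib.Helper8.VerCanon.isStarCanonical_veronese R 𝒜 hpos h0 m hmne hmsp n I
    EE.carrier EE.gr e he (shiftMod 𝒜 a₀).carrier (shiftMod 𝒜 a₀).gr hC R' 𝒜' D hφD hsurj m' hmne'
    hm'sp I' EE'.carrier EE'.gr e' he'
  obtain ⟨a₁, ha₁⟩ := hdvd
  -- the comparison `R'(a₁) ≅ V(R(a))`
  let decS : DirectSum.Decomposition (shiftGr 𝒜' a₁) := shiftDecomposition 𝒜' a₁
  have gsS : SetLike.GradedSMul 𝒜' (shiftGr 𝒜' a₁) := shift_gradedSMul 𝒜' 𝒜' a₁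
  let φs : R' →ₛₗ[D.φ] (shiftMod 𝒜 a₀).carrier :=
    { toFun := φ
      map_add' := map_add φ
      map_smul' := fun x y => map_mul φ x y }
  have hφs : ∀ j : ℤ, (shiftGr 𝒜' a₁ j).map (φs : R' →+ (shiftMod 𝒜 a₀).carrier) =
      (shiftMod 𝒜 a₀).gr (j * D.q) := by
    intro j
    have e1 : j * (D.q : ℤ) + a₀ = (j + a₁) * (q : ℤ) := by
      rw [ha₁]
      show j * (q : ℤ) + (q : ℤ) * a₁ = (j + a₁) * (q : ℤ)
      ring
    show (𝒜' (j + a₁)).map (φ : R' →+ R) = 𝒜 (j * (D.q : ℤ) + a₀)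
    rw [e1]
    exact hdeg (j + a₁)
  let f' : R' →ₗ[R'] ↥(Vc D (GrLC.GMod.of 𝒜 (shiftMod 𝒜 a₀).carrier (shiftMod 𝒜 a₀).gr)) :=
    gV D (shiftMod 𝒜 a₀).gr (shiftGr 𝒜' a₁) φs hφs
  have hf'bij : Function.Bijective f' :=
    ⟨gV_injective D (shiftMod 𝒜 a₀).gr (shiftGr 𝒜' a₁) φs hφ hφs,
      gV_surjective D (shiftMod 𝒜 a₀).gr (shiftGr 𝒜' a₁) φs hφs⟩
  have hf'deg : GrLC.IsGrHomDeg 𝒜'
      (Vgr D (GrLC.GMod.of 𝒜 (shiftMod 𝒜 a₀).carrier (shiftMod 𝒜 a₀).gr)) f' (-a₁) := by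
    intro j x hx
    have hx' : x ∈ shiftGr 𝒜' a₁ (j + -a₁) := by
      show x ∈ 𝒜' (j + -a₁ + a₁)
      rw [neg_add_cancel_right]
      exact hx
    exact gV_isGrHom D (shiftMod 𝒜 a₀).gr (shiftGr 𝒜' a₁) φs hφs (j + -a₁) x hx'
  exact (Groth.Agent.S18638.result R' 𝒜' hpos' h0' m' hm' hm'sp n hn' I' EE'.carrier EE'.gr e' he'
    _ _ hC').mpr ⟨-a₁, f', hf'bij, hf'deg⟩

end Groth.Agent.S18641
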