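import Groth.Statements.S18642
import Groth.Agent.Lib.Helper8CanonExist
import Groth.Agent.Lib.Helper8VerGorConv
import Groth.Agent.Lib.Helper8VerGor
import Groth.Agent.Lib.Helper8VerCM
import Groth.Agent.Lib.Helper8VerCanon
import Groth.Agent.Lib.Helper8GrCanonDeg
import Groth.Agent.S18638
import Groth.Agent.S13215

set_option autoImplicit false
universe u
open GrLC

namespace Groth.Agent.S18642

/-- Let R be a graded ring defined over a field which is Cohen–Macaulay and generated over R_0 by R_1,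
with dim R ≥ 2, and let q ≥ 1. If the Veronese subring R^(q) is a Gorenstein ring, then R is a
Gorenstein ring and q divides the a-invariant a(R). Here 'graded ring defined over a field' means R
= ⊕_{n ≥ 0} R_n is Noetherian with R_0 a field, and m = R_+ is its unique graded maximal ideal. The
a-invariant a(R) is the largest degree in which the graded local cohomology H^n_m(R) (n = dim R, m =
R_+), computed from a *injective resolution of R in the graded category, is nonzero. The Veronese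
subring R^(q) = ⊕_j R_{jq}, regraded by (R^(q))_j = R_{jq}, is presented abstractly as a ℤ-graded
ring R' with an injective ring homomorphism φ : R' → R carrying R'_j onto R_{jq} for every j. -/
theorem result (R : Type u) [CommRing R] [LocCoh.IsCohenMacaulayRing R] (𝒜 : ℤ → AddSubgroup R) [GradedRing 𝒜] (hpos : ∀ n : ℤ, n < 0 → 𝒜 n = ⊥) (h0 : IsField (GrLC.deg0 𝒜)) (m : HomogeneousIdeal 𝒜) (hm : GrLC.IsStarLocal 𝒜 m) (hmsp : m.toIdeal = Ideal.span (⋃ n ∈ Set.Ioi (0 : ℤ), (𝒜 n : Set R))) (hstd : Ideal.span (⋃ n ∈ Set.Ioi (0 : ℤ), (𝒜 n : Set R)) = Ideal.span ((𝒜 1 : AddSubgroup R) : Set R)) (n : ℕ) (hn : ringKrullDim R = n) (h2 : 2 ≤ n) (I : GrLC.StarInjRes 𝒜 𝒜) (q : ℕ) (hq : 0 < q) (R' : Type u) [CommRing R'] (𝒜' : ℤ → AddSubgroup R') [GradedRing 𝒜'] (φ : R' →+* R) (hφ : Function.Injective φ) (hdeg : ∀ j : ℤ, (𝒜' j).map (φ : R' →+ R) = 𝒜 (j * q)) [LocCoh.IsGorensteinRing R'] : LocCoh.IsGorensteinRing R ∧ ∃ a :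 ℤ, GrLC.endDeg (I.Hgr m n) = ((a : WithTop ℤ) : WithBot (WithTop ℤ)) ∧ (q : ℤ) ∣ a := by
  classical
  open Groth.Agent.Lib.Helper8.Veronese Groth.Agent.Lib.Helper8.VerGor
    Groth.Agent.Lib.Helper29GrShift in
  let D : VerData 𝒜 𝒜' := ⟨φ, q, hq, fun j a ha => by
    rw [← hdeg j]
    exact ⟨a, ha, rfl⟩⟩
  have hsurj : ∀ j : ℤ, ∀ x ∈ 𝒜 (j * D.q), ∃ a ∈ 𝒜' j, D.φ a = x := by
    intro j x hx
    have hx' : x ∈ (𝒜' j).map (φ : R' →+ R) := by rw [hdeg j]; exact hx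
    obtain ⟨a, ha, hax⟩ := hx'
    exact ⟨a, ha, hax⟩
  have hφD : Function.Injective D.φ := hφ
  have hNoeth : IsNoetherianRing R := inferInstance
  have hNoeth' : IsNoetherianRing R' := inferInstance
  have hCM' : LocCoh.IsCohenMacaulayRing R' :=
    Groth.Agent.Lib.Helper5.GorUnmixed.isCohenMacaulayRing_of_isGorensteinRing R'
  have hpos' := hpos_veronese D hφD hpos
  have h0' := isField_deg0_veronese D hφD hsurj h0
  let m' : HomogeneousIdeal 𝒜' := irr 𝒜'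
  have hm'sp : m'.toIdeal = Ideal.span (⋃ j ∈ Set.Ioi (0 : ℤ), (𝒜' j : Set R')) := rfl
  have hm' : GrLC.IsStarLocal 𝒜' m' := isStarLocal_of_span 𝒜' hpos' h0' m' hm'sp
  have hmne : m.toIdeal ≠ ⊤ := Groth.Agent.Lib.Helper29GrStarLocal.toIdeal_ne_top 𝒜 m hm
  have hmne' : m'.toIdeal ≠ ⊤ := Groth.Agent.Lib.Helper29GrStarLocal.toIdeal_ne_top 𝒜' m' hm'
  have hn' : ringKrullDim R' = n := by
    rw [← hn]
    exact Groth.Agent.Lib.Helper8.VerCM.ringKrullDim_veronese 𝒜 D hφD hsurj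
  obtain ⟨I'⟩ := Groth.Agent.S13215.result R' 𝒜' R' 𝒜'
  obtain ⟨EE, e, he⟩ := exists_starInjHull 𝒜 m
  obtain ⟨EE', e', he'⟩ := exists_starInjHull 𝒜' m'
  obtain ⟨X, hC⟩ := Groth.Agent.Lib.Helper8.CanonExist.exists_starCanonical 𝒜 hpos h0 m hm hmsp
    EE.gr e he n I
  have hC' := Groth.Agent.Lib.Helper8.VerCanon.isStarCanonical_veronese R 𝒜 hpos h0 m hmne hmsp n I
    EE.carrier EE.gr e he X.carrier X.gr hC R' 𝒜' D hφD hsurj m' hmne'
    hm'sp I' EE'.carrier EE'.gr e' he'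
  obtain ⟨a', f', hbij', hdeg'⟩ := (Groth.Agent.S18638.result R' 𝒜' hpos' h0' m' hm' hm'sp n hn' I'
    EE'.carrier EE'.gr e' he' _ _ hC').mp inferInstance
  obtain ⟨g, hgbij, hgdeg⟩ := Groth.Agent.Lib.Helper8.VerGorConv.exists_bijective_of_veronese 𝒜 hpos
    h0 m hm hmsp hstd n hn h2 I EE.gr e he X.gr hC D hφD hsurj f' hbij' a' hdeg'
  have hGor : LocCoh.IsGorensteinRing R :=
    (Groth.Agent.S18638.result R 𝒜 hpos h0 m hm hmsp n hn I EE.carrier EE.gr e he X.carrier X.gr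
      hC).mpr ⟨a' * (D.q : ℤ), g, hgbij, hgdeg⟩
  refine ⟨hGor, -(a' * (q : ℤ)), ?_, ?_⟩
  · exact Groth.Agent.Lib.Helper8.GrCanonDeg.endDeg_eq 𝒜 hpos m hmne hmsp EE.gr e he X.gr n I hC g
      hgbij (a' * (D.q : ℤ)) hgdeg
  · rw [dvd_neg]
    exact dvd_mul_left _ _

end Groth.Agent.S18642
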