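import Groth.Statements.S18654
import Groth.Agent.Lib.Helper29GenericForm
import Groth.Agent.Lib.Helper29GrPieceFin
import Groth.Agent.Lib.Helper29GrIrrelField

set_option autoImplicit false
universe u
open GrLC

namespace Groth.Agent.S18654

/-- Let R be a graded ring defined over a field k = R_0 which is Cohen–Macaulay and generated over k by
R_1, with dim R ≥ 1, and write H(n, R) = dim_k R_n. Then H(n + 1, R) ≥ H(n, R) for every integer n.
Here 'graded ring defined over a field' means R = ⊕_{n ≥ 0} R_n is Noetherian with R_0 a field, and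
m = R_+ is its unique graded maximal ideal. -/
theorem result (R : Type u) [CommRing R] [LocCoh.IsCohenMacaulayRing R] (𝒜 : ℤ → AddSubgroup R) [GradedRing 𝒜] (hpos : ∀ n : ℤ, n < 0 → 𝒜 n = ⊥) (h0 : IsField (GrLC.deg0 𝒜)) (hstd : Ideal.span (⋃ n ∈ Set.Ioi (0 : ℤ), (𝒜 n : Set R)) = Ideal.span ((𝒜 1 : AddSubgroup R) : Set R)) (h1 : 1 ≤ ringKrullDim R) (n : ℤ) : Module.finrank (GrLC.deg0 𝒜) (GrLC.comp 𝒜 𝒜 n) ≤ Module.finrank (GrLC.deg0 𝒜) (GrLC.comp 𝒜 𝒜 (n + 1)) := by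
  classical
  have hfg : (Ideal.span ((𝒜 1 : AddSubgroup R) : Set R)).FG :=
    IsNoetherian.noetherian _
  obtain ⟨T, hTsub, hT⟩ := (Submodule.fg_span_iff_fg_span_finset_subset _).mp hfg
  let y : Fin T.card → R := fun i => ((T.equivFin.symm i : ↥T) : R)
  have hy1 : ∀ i, y i ∈ 𝒜 1 := fun i => hTsub (T.equivFin.symm i).2
  have hyT : ∀ t ∈ T, ∃ i, y i = t := by
    intro t ht
    refine ⟨T.equivFin ⟨t, ht⟩, ?_⟩
    show ((T.equivFin.symm (T.equivFin ⟨t, ht⟩) : ↥T) : R) = t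
    rw [Equiv.symm_apply_apply]
  have hnzd : ∀ r : R, (∀ i, y i * r = 0) → r = 0 := by
    intro r hr
    apply Groth.Agent.Lib.Helper29GrIrrelField.eq_zero_of_forall_mul_eq_zero 𝒜 hpos h0
      inferInstance h1 r
    intro z hz
    have hz' : z ∈ Ideal.span ((T : Finset R) : Set R) := by
      have hz2 : z ∈ Ideal.span (⋃ n ∈ Set.Ioi (0 : ℤ), (𝒜 n : Set R)) := hz
      rw [hstd] at hz2
      exact (show Ideal.span ((𝒜 1 : AddSubgroup R) : Set R) = Ideal.span ((T : Finset R) : Set R)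
        from hT) ▸ hz2
    refine Submodule.span_induction (p := fun z _ => z * r = 0) ?_ ?_ ?_ ?_ hz'
    · intro t ht
      obtain ⟨i, hi⟩ := hyT t ht
      rw [← hi]
      exact hr i
    · exact zero_mul r
    · intro a b _ _ ha hb
      rw [add_mul, ha, hb, add_zero]
    · intro c a _ ha
      rw [smul_eq_mul, mul_assoc, ha, mul_zero]
  haveI : Module.Finite (GrLC.deg0 𝒜) (GrLC.comp 𝒜 𝒜 n) :=
    Groth.Agent.Lib.Helper29GrPieceFin.finite_comp 𝒜 𝒜 n
  haveI : Module.Finite (GrLC.deg0 𝒜) (GrLC.comp 𝒜 𝒜 (n + 1)) :=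
    Groth.Agent.Lib.Helper29GrPieceFin.finite_comp 𝒜 𝒜 (n + 1)
  refine Groth.Agent.Lib.Helper29GenericForm.finrank_le (GrLC.comp 𝒜 𝒜 n)
    (GrLC.comp 𝒜 𝒜 (n + 1)) h0 y ?_ hnzd
  intro i a ha
  have h := SetLike.GradedMul.mul_mem (A := 𝒜) (hy1 i) (show a ∈ 𝒜 n from ha)
  rw [add_comm] at h
  exact h

end Groth.Agent.S18654
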