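import Groth.Statements.S18672
import Mathlib.Tactic
import Mathlib.RingTheory.GradedAlgebra.Basic

set_option autoImplicit false
universe u
open GrLC

namespace Groth.Agent.S18672

section helpers
open DirectSum

variable {R : Type u} [CommRing R] (𝒜 : ℤ → AddSubgroup R) [GradedRing 𝒜]

/-- the additive subgroup generated by the products `𝒜 d * 𝒜 b`. -/
def prodCl (d b : ℤ) : AddSubgroup R :=
  AddSubgroup.closure {x : R | ∃ u ∈ 𝒜 d, ∃ v ∈ 𝒜 b, x = u * v}

theorem mul_mem_prodCl {d b : ℤ} {u v : R} (hu : u ∈ 𝒜 d) (hv : v ∈ 𝒜 b) :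
    u * v ∈ prodCl 𝒜 d b :=
  AddSubgroup.subset_closure ⟨u, hu, v, hv, rfl⟩

theorem prodCl_mul_right {d b : ℤ} {c y : R} (hc : c ∈ prodCl 𝒜 d b) (hy : y ∈ 𝒜 1) :
    c * y ∈ prodCl 𝒜 (d + 1) b := by
  unfold prodCl at hc
  induction hc using AddSubgroup.closure_induction with
  | mem x hx =>
    obtain ⟨u, hu, v, hv, rfl⟩ := hx
    have : u * v * y = (u * y) * v := by ring
    rw [this]
    exact mul_mem_prodCl 𝒜 (SetLike.GradedMul.mul_mem hu hy) hv
  | zero => rw [zero_mul]; exact zero_mem _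
  | add x x' _ _ hx hx' => rw [add_mul]; exact add_mem hx hx'
  | neg x _ hx => rw [neg_mul]; exact neg_mem hx

/-- standard graded: `R_{n+1} = R_n * R_1`. -/
theorem lemA (hstd : Ideal.span (⋃ n ∈ Set.Ioi (0 : ℤ), (𝒜 n : Set R)) =
      Ideal.span ((𝒜 1 : AddSubgroup R) : Set R)) (n : ℤ) (hn : 0 ≤ n) (x : R)
    (hx : x ∈ 𝒜 (n + 1)) :
    ∃ (N : ℕ) (c : Fin N → R) (y : Fin N → R), (∀ i, c i ∈ 𝒜 n) ∧ (∀ i, y i ∈ 𝒜 1) ∧
      x = ∑ i, c i * y i := by
  have hx' : x ∈ Ideal.span ((𝒜 1 : AddSubgroup R) : Set R) := by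
    rw [← hstd]
    apply Ideal.subset_span
    simp only [Set.mem_iUnion, Set.mem_Ioi, SetLike.mem_coe, exists_prop]
    exact ⟨n + 1, by omega, hx⟩
  obtain ⟨N, f, g, hfg⟩ := Submodule.mem_span_set'.mp hx'
  refine ⟨N, fun i => (DirectSum.decompose 𝒜 (f i) n : R), fun i => (g i : R),
    fun i => SetLike.coe_mem _, fun i => (g i).2, ?_⟩
  have h1 : (DirectSum.decompose 𝒜 x (n + 1) : R) = x := DirectSum.decompose_of_mem_same 𝒜 hx
  rw [← h1, ← hfg, DirectSum.decompose_sum, DFinsupp.finset_sum_apply, AddSubmonoidClass.coe_finset_sum]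
  apply Finset.sum_congr rfl
  intro i _
  rw [smul_eq_mul, DirectSum.coe_decompose_mul_add_of_right_mem 𝒜 (g i).2]

theorem lemB (hstd : Ideal.span (⋃ n ∈ Set.Ioi (0 : ℤ), (𝒜 n : Set R)) =
      Ideal.span ((𝒜 1 : AddSubgroup R) : Set R)) (b : ℤ) (hb : 0 ≤ b) (d : ℕ) :
    ∀ x ∈ 𝒜 (b + d), x ∈ prodCl 𝒜 d b := by
  induction d with
  | zero =>
    intro x hx
    have : x = 1 * x := (one_mul x).symm
    rw [this]
    refine mul_mem_prodCl 𝒜 ?_ ?_
    · rw [Nat.cast_zero]; exact SetLike.GradedOne.one_mem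
    · simpa using hx
  | succ d ih =>
    intro x hx
    have hx1 : x ∈ 𝒜 ((b + d) + 1) := by
      have : b + ((d + 1 : ℕ) : ℤ) = (b + d) + 1 := by push_cast; ring
      rwa [this] at hx
    obtain ⟨N, c, y, hc, hy, rfl⟩ := lemA 𝒜 hstd (b + d) (by positivity) x hx1
    apply sum_mem
    intro i _
    have := prodCl_mul_right 𝒜 (ih (c i) (hc i)) (hy i)
    exact_mod_cast this

end helpers

/-- Let R be a graded ring defined over a field k = R_0 which is Cohen–Macaulay and generated over k by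
R_1 (the standing hypotheses of this section; only generation in degree one is used), q ≥ 1, R' =
R^(q), and a an integer. Then the Veronese submodule [R(a)]^(q) = ⊕_j R_{a+jq} is generated over R'
by its piece R(a)_n = R_{a+n}, where n is the smallest multiple of q with n + a ≥ 0. Here 'graded
ring defined over a field' means R = ⊕_{n ≥ 0} R_n is Noetherian with R_0 a field, and m = R_+ is
its unique graded maximal ideal. The Veronese subring R^(q) = ⊕_j R_{jq}, regraded by (R^(q))_j =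
R_{jq}, is presented abstractly as a ℤ-graded ring R' with an injective ring homomorphism φ : R' → R
carrying R'_j onto R_{jq} for every j. The module [R(a)]^(q) is presented as a graded R'-module M'
with an injective additive map g : M' → R, semilinear over φ, carrying M'_j onto R_{a+jq} for every
j; with n = j₀q, the conclusion is that the R'-span of M'_{j₀} is all of M'. -/
theorem result (R : Type u) [CommRing R] [LocCoh.IsCohenMacaulayRing R] (𝒜 : ℤ → AddSubgroup R) [GradedRing 𝒜] (hpos : ∀ n : ℤ, n < 0 → 𝒜 n = ⊥) (h0 : IsField (GrLC.deg0 𝒜)) (hstd : Ideal.span (⋃ n ∈ Set.Ioi (0 : ℤ), (𝒜 n : Set R)) = Ideal.span ((𝒜 1 : AddSubgroup R) : Set R)) (q : ℕ) (hq : 0 < q) (R' : Type u) [CommRing R'] (𝒜' : ℤ → AddSubgroup R') [GradedRing 𝒜'] (φ : R' →+* R) (hφ : Function.Injective φ) (hdeg : ∀ j : ℤ, (𝒜' j).map (φ : R' →+ R) = 𝒜 (j * q)) (a : ℤ) (M' : Type u) [AddCommGroup M'] [Module R' M'] (ℳ' : ℤ → AddSubgroup M') [DirectSum.Decomposition ℳ'] [SetLike.GradedSMul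 𝒜' ℳ'] (g : M' →ₛₗ[φ] R) (hg : Function.Injective g) (hgdeg : ∀ j : ℤ, (ℳ' j).map (g : M' →+ R) = 𝒜 (a + j * q)) (j₀ : ℤ) (hj₀ : 0 ≤ a + j₀ * q) (hj₀' : a + (j₀ - 1) * q < 0) : Submodule.span R' ((ℳ' j₀ : AddSubgroup M') : Set M') = ⊤ := by
  classical
  rw [eq_top_iff]
  suffices h : ∀ m : M', m ∈ Submodule.span R' ((ℳ' j₀ : AddSubgroup M') : Set M') from
    fun m _ => h m
  intro m
  induction m using DirectSum.Decomposition.inductionOn ℳ' with
  | zero => exact zero_mem _
  | add m m' hm hm' => exact add_mem hm hm'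
  | homogeneous m =>
    rename_i j
    have hgm : g (m : M') ∈ 𝒜 (a + j * q) := by
      rw [← hgdeg j]
      exact ⟨m, m.2, rfl⟩
    by_cases hj : j < j₀
    · -- the piece vanishes
      have hneg : a + j * q < 0 := by
        have h1 : j ≤ j₀ - 1 := by omega
        have h2 : j * (q : ℤ) ≤ (j₀ - 1) * q := by
          apply mul_le_mul_of_nonneg_right h1
          positivity
        omega
      rw [hpos _ hneg] at hgm
      have h0' : g (m : M') = 0 := by simpa using hgm
      have : (m : M') = 0 := hg (by rw [h0', map_zero])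
      rw [this]
      exact zero_mem _
    · have hj' : j₀ ≤ j := not_lt.mp hj
      obtain ⟨e, he⟩ : ∃ e : ℕ, j - j₀ = e := ⟨(j - j₀).toNat, by omega⟩
      have hdeg' : a + j * q = (a + j₀ * q) + ((e * q : ℕ) : ℤ) := by
        have : j = j₀ + e := by omega
        rw [this]; push_cast; ring
      rw [hdeg'] at hgm
      have hB := lemB 𝒜 hstd (a + j₀ * q) hj₀ (e * q) _ hgm
      have key : ∀ z ∈ prodCl 𝒜 ((e * q : ℕ) : ℤ) (a + j₀ * q),
          ∃ m' ∈ Submodule.span R' ((ℳ' j₀ : AddSubgroup M') : Set M'), g m' = z := by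
        intro z hz
        unfold prodCl at hz
        induction hz using AddSubgroup.closure_induction with
        | mem x hx =>
          obtain ⟨u, hu, v, hv, rfl⟩ := hx
          have hu' : u ∈ 𝒜 ((e : ℤ) * q) := by
            have : ((e * q : ℕ) : ℤ) = (e : ℤ) * q := by push_cast; ring
            rwa [this] at hu
          rw [← hdeg (e : ℤ)] at hu'
          obtain ⟨r', _, rfl⟩ := hu'
          rw [← hgdeg j₀] at hv
          obtain ⟨m₀, hm₀, rfl⟩ := hv
          refine ⟨r' • m₀, Submodule.smul_mem _ _ (Submodule.subset_span hm₀), ?_⟩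
          rw [LinearMap.map_smulₛₗ]
          rfl
        | zero => exact ⟨0, zero_mem _, map_zero _⟩
        | add x x' _ _ hx hx' =>
          obtain ⟨m₁, h₁, e₁⟩ := hx
          obtain ⟨m₂, h₂, e₂⟩ := hx'
          exact ⟨m₁ + m₂, add_mem h₁ h₂, by rw [map_add, e₁, e₂]⟩
        | neg x _ hx =>
          obtain ⟨m₁, h₁, e₁⟩ := hx
          exact ⟨-m₁, neg_mem h₁, by rw [map_neg, e₁]⟩
      obtain ⟨m', hm', em'⟩ := key _ hB
      rw [← hg em']
      exact hm'


end Groth.Agent.S18672
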