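import Groth.Statements.S18655
import Groth.Agent.Lib.Helper8VerGor
import Groth.Agent.Lib.Helper8VerCM
import Groth.Agent.Lib.Helper8VerCanon
import Groth.Agent.S18640
import Groth.Agent.S18672
import Groth.Agent.S13215

set_option autoImplicit false
universe u
open GrLC

namespace Groth.Agent.S18655

/-- Let R be a graded ring defined over a field k = R_0 which is Gorenstein and generated over k by R_1,
of dimension n, and let q ≥ 1. Then the type r(R^(q)) of the Veronese subring equals H(j + a(R), R)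
= dim_k R_{j + a(R)}, where j is the smallest multiple of q with j + a(R) ≥ 0 (so j + a(R) is the
remainder ρ of a(R) modulo q, 0 ≤ ρ < q; the statement is written in terms of ρ). Here the type of
R^(q) is the Bass number μ_n(m', R^(q)), the dimension over the residue field of Ext^n over the
local ring of R^(q) at its graded maximal ideal m' = (R^(q))_+ (R^(q) has dimension n). Here 'graded
ring defined over a field' means R = ⊕_{n ≥ 0} R_n is Noetherian with R_0 a field, and m = R_+ is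
its unique graded maximal ideal. The a-invariant a(R) is the largest degree in which the graded
local cohomology H^n_m(R) (n = dim R, m = R_+), computed from a *injective resolution of R in the
graded category, is nonzero. The Veronese subring R^(q) = ⊕_j R_{jq}, regraded by (R^(q))_j =
R_{jq}, is presented abstractly as a ℤ-graded ring R' with an injective ring homomorphism φ : R' → R
carrying R'_j onto R_{jq} for every j. -/
theorem result (R : Type u) [CommRing R] [LocCoh.IsGorensteinRing R] (𝒜 : ℤ → AddSubgroup R) [GradedRing 𝒜] (hpos : ∀ n : ℤ, n < 0 → 𝒜 n = ⊥) (h0 : IsField (GrLC.deg0 𝒜)) (m : HomogeneousIdeal 𝒜) (hm : GrLC.IsStarLocal 𝒜 m) (hmsp : m.toIdeal = Ideal.span (⋃ n ∈ Set.Ioi (0 : ℤ), (𝒜 n : Set R))) (hstd : Ideal.span (⋃ n ∈ Set.Ioi (0 : ℤ), (𝒜 n : Set R)) = Ideal.span ((𝒜 1 : AddSubgroup R) : Set R)) (n : ℕ) (hn : ringKrullDim R = n) (I : GrLC.StarInjRes 𝒜 𝒜) (a : ℤ) (ha : GrLC.endDeg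 (I.Hgr m n) = ((a : WithTop ℤ) : WithBot (WithTop ℤ))) (q : ℕ) (hq : 0 < q) (R' : Type u) [CommRing R'] (𝒜' : ℤ → AddSubgroup R') [GradedRing 𝒜'] (φ : R' →+* R) (hφ : Function.Injective φ) (hdeg : ∀ j : ℤ, (𝒜' j).map (φ : R' →+ R) = 𝒜 (j * q)) (m' : HomogeneousIdeal 𝒜') [m'.toIdeal.IsMaximal] (hm'sp : m'.toIdeal = Ideal.span (⋃ j ∈ Set.Ioi (0 : ℤ), (𝒜' j : Set R'))) (ρ : ℤ) (hρ0 : 0 ≤ ρ) (hρq : ρ < q) (hρa : (q : ℤ) ∣ a - ρ) : GrLC.bassNum m'.toIdeal R' n = (Module.finrank (GrLC.deg0 𝒜) (GrLC.comp 𝒜 𝒜 ρ) : ℕ∞) := by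
  classical
  open Groth.Agent.Lib.Helper8.Veronese Groth.Agent.Lib.Helper8.VerGor
    Groth.Agent.Lib.Helper29GrShift in
  let D : VerData 𝒜 𝒜' := ⟨φ, q, hq, fun j a ha => by
    rw [← hdeg j]
    exact ⟨a, ha, rfl⟩⟩
  have hsurj : ∀ j : ℤ, ∀ x ∈ 𝒜 (j * D.q), ∃ a ∈ 𝒜' j, D.φ a = x := by
    intro j x hx
    have hx' : x ∈ (𝒜' j).map (φ : R' →+ R) := by rw [hdeg j]; exact hx
    obtain ⟨a, ha, hax⟩ := hx'
    exact ⟨a, ha, hax⟩
  have hφD : Function.Injective D.φ := hφ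
  have hNoeth : IsNoetherianRing R := inferInstance
  have hCM : LocCoh.IsCohenMacaulayRing R :=
    Groth.Agent.Lib.Helper5.GorUnmixed.isCohenMacaulayRing_of_isGorensteinRing R
  have hNoeth' : IsNoetherianRing R' :=
    Groth.Agent.Lib.Helper8.Veronese.isNoetherianRing_of_veronese D hφD hsurj
  have hCM' : LocCoh.IsCohenMacaulayRing R' :=
    Groth.Agent.Lib.Helper8.VerCM.isCohenMacaulayRing_of_veronese 𝒜 hpos h0 m hm hmsp D hφD hsurj
      n hn
  have hpos' := hpos_veronese D hφD hpos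
  have h0' := isField_deg0_veronese D hφD hsurj h0
  have hm' : GrLC.IsStarLocal 𝒜' m' := isStarLocal_of_span 𝒜' hpos' h0' m' hm'sp
  have hmne : m.toIdeal ≠ ⊤ := Groth.Agent.Lib.Helper29GrStarLocal.toIdeal_ne_top 𝒜 m hm
  have hmne' : m'.toIdeal ≠ ⊤ := Groth.Agent.Lib.Helper29GrStarLocal.toIdeal_ne_top 𝒜' m' hm'
  have hn' : ringKrullDim R' = n := by
    rw [← hn]
    exact Groth.Agent.Lib.Helper8.VerCM.ringKrullDim_veronese 𝒜 D hφD hsurj
  obtain ⟨I'⟩ := Groth.Agent.S13215.result R' 𝒜' R' 𝒜'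
  obtain ⟨EE, e, he⟩ := exists_starInjHull 𝒜 m
  obtain ⟨EE', e', he'⟩ := exists_starInjHull 𝒜' m'
  obtain ⟨a₀, hC, ha₀⟩ := isStarCanonical_shiftMod 𝒜 hpos h0 m hm hmsp n hn I EE.carrier EE.gr e he
  have haa : a₀ = a := by
    rw [ha] at ha₀
    exact (WithTop.coe_injective (WithBot.coe_injective ha₀)).symm
  subst haa
  have hC' := Groth.Agent.Lib.Helper8.VerCanon.isStarCanonical_veronese R 𝒜 hpos h0 m hmne hmsp n I
    EE.carrier EE.gr e he (shiftMod 𝒜 a₀).carrier (shiftMod 𝒜 a₀).gr hC R' 𝒜' D hφD hsurj m' hmne'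
    hm'sp I' EE'.carrier EE'.gr e' he'
  have h40 := (Groth.Agent.S18640.result R' 𝒜' hpos' h0' m' hm' hm'sp n hn' I' EE'.carrier EE'.gr
    e' he' _ _ hC').2
  rw [h40]
  congr 1
  -- the degree bookkeeping
  obtain ⟨t, ht⟩ := hρa
  have hqz : (0 : ℤ) < q := by exact_mod_cast hq
  have ej₀ : (-t) * (q : ℤ) + a₀ = ρ := by
    have : a₀ = ρ + (q : ℤ) * t := by linarith
    rw [this]
    ring
  let X : GrLC.GMod.{u} 𝒜 := GrLC.GMod.of 𝒜 (shiftMod 𝒜 a₀).carrier (shiftMod 𝒜 a₀).gr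
  have hlow : ∀ j : ℤ, j < -t → Vgr D X j = ⊥ := by
    intro j hj
    rw [AddSubgroup.eq_bot_iff_forall]
    intro x hx
    have hx1 : (x.1 : R) ∈ 𝒜 (j * (q : ℤ) + a₀) := hx
    have hneg : j * (q : ℤ) + a₀ < 0 := by
      have h1 : j + 1 ≤ -t := hj
      have h2 : (j + 1) * (q : ℤ) ≤ (-t) * (q : ℤ) := mul_le_mul_of_nonneg_right h1 hqz.le
      nlinarith
    have hx2 : (x.1 : R) ∈ (⊥ : AddSubgroup R) := (hpos _ hneg) ▸ hx1
    exact Subtype.ext (AddSubgroup.mem_bot.mp hx2)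
  let g : ↥(Vc D X) →ₛₗ[φ] R :=
    { toFun := fun x => x.1
      map_add' := fun _ _ => rfl
      map_smul' := fun _ _ => rfl }
  have hg : Function.Injective g := fun x y h => Subtype.ext h
  have hgdeg : ∀ j : ℤ, (Vgr D X j).map (g : ↥(Vc D X) →+ R) = 𝒜 (a₀ + j * q) := by
    intro j
    rw [add_comm]
    apply le_antisymm
    · rintro _ ⟨x, hx, rfl⟩
      exact hx
    · intro v hv
      have hvX : v ∈ X.gr (j * D.q) := hv
      exact ⟨⟨v, mem_Vc_of_mem D X hvX⟩, hvX, rfl⟩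
  have hgen : Submodule.span R' ((Vgr D X (-t) : AddSubgroup ↥(Vc D X)) : Set ↥(Vc D X)) = ⊤ := by
    refine Groth.Agent.S18672.result R 𝒜 hpos h0 hstd q hq R' 𝒜' φ hφ hdeg a₀ ↥(Vc D X)
      (Vgr D X) g hg hgdeg (-t) ?_ ?_
    · rw [add_comm, ej₀]
      exact hρ0
    · have : a₀ + (-t - 1) * (q : ℤ) = ρ - q := by
        rw [← ej₀]
        ring
      rw [this]
      omega
  rw [finrank_tensor_of_generated 𝒜' hpos' m' hm'sp (Vgr D X) (-t) hlow hgen]
  -- compare the lowest piece with `R_ρ`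
  let φ₀ := deg0Equiv D hφD hsurj
  have hmemρ : ∀ w : ↥(GrLC.comp 𝒜' (Vgr D X) (-t)), ((w : ↥(Vc D X)).1 : R) ∈ 𝒜 ρ := by
    intro w
    have h1 : ((w : ↥(Vc D X)).1 : R) ∈ 𝒜 ((-t) * (q : ℤ) + a₀) := w.2
    rw [ej₀] at h1
    exact h1
  have hmemX : ∀ v : ↥(GrLC.comp 𝒜 𝒜 ρ), (v : R) ∈ X.gr ((-t) * D.q) := by
    intro v
    show (v : R) ∈ 𝒜 ((-t) * (q : ℤ) + a₀)
    rw [ej₀]
    exact v.2
  let j : ↥(GrLC.comp 𝒜' (Vgr D X) (-t)) ≃+ ↥(GrLC.comp 𝒜 𝒜 ρ) :=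
    { toFun := fun w => ⟨(w : ↥(Vc D X)).1, hmemρ w⟩
      invFun := fun v => ⟨⟨(v : R), mem_Vc_of_mem D X (hmemX v)⟩, hmemX v⟩
      left_inv := fun w => rfl
      right_inv := fun v => rfl
      map_add' := fun v w => rfl }
  have hc : ∀ (s : ↥(GrLC.deg0 𝒜')) (w : ↥(GrLC.comp 𝒜' (Vgr D X) (-t))),
      j (s • w) = φ₀ s • j w := fun s w => rfl
  have hrank := rank_eq_of_equiv_equiv φ₀ j φ₀.bijective hc
  unfold Module.finrank
  rw [hrank]

end Groth.Agent.S18655
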