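import Groth.Statements.S18643
import Groth.Agent.Lib.Helper8VerGor
import Groth.Agent.Lib.Helper8VerCM
import Groth.Agent.S18641
import Groth.Agent.S18655
import Groth.Agent.S18640
import Groth.Agent.S18654
import Groth.Agent.S13215

set_option autoImplicit false
universe u
open GrLC

namespace Groth.Agent.S18643

/-- Let R be a graded ring defined over a field k = R_0 which is Gorenstein and generated over k by R_1,
with dim R ≥ 1 and dim_k R_1 ≥ 2, and let q ≥ 1. Then the Veronese subring R^(q) is a Gorenstein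
ring if and only if q divides the a-invariant a(R). Here 'graded ring defined over a field' means R
= ⊕_{n ≥ 0} R_n is Noetherian with R_0 a field, and m = R_+ is its unique graded maximal ideal. The
a-invariant a(R) is the largest degree in which the graded local cohomology H^n_m(R) (n = dim R, m =
R_+), computed from a *injective resolution of R in the graded category, is nonzero. The Veronese
subring R^(q) = ⊕_j R_{jq}, regraded by (R^(q))_j = R_{jq}, is presented abstractly as a ℤ-graded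
ring R' with an injective ring homomorphism φ : R' → R carrying R'_j onto R_{jq} for every j. -/
theorem result (R : Type u) [CommRing R] [LocCoh.IsGorensteinRing R] (𝒜 : ℤ → AddSubgroup R) [GradedRing 𝒜] (hpos : ∀ n : ℤ, n < 0 → 𝒜 n = ⊥) (h0 : IsField (GrLC.deg0 𝒜)) (m : HomogeneousIdeal 𝒜) (hm : GrLC.IsStarLocal 𝒜 m) (hmsp : m.toIdeal = Ideal.span (⋃ n ∈ Set.Ioi (0 : ℤ), (𝒜 n : Set R))) (hstd : Ideal.span (⋃ n ∈ Set.Ioi (0 : ℤ), (𝒜 n : Set R)) = Ideal.span ((𝒜 1 : AddSubgroup R) : Set R)) (hR1 : 2 ≤ Module.finrank (GrLC.deg0 𝒜) (GrLC.comp 𝒜 𝒜 1)) (n : ℕ) (hn : ringKrullDim R = n) (h1 : 1 ≤ n) (I : GrLC.StarInjRes 𝒜 𝒜) (a : ℤ) (ha : GrLC.endDeg (I.Hgr m n) = ((a : WithTop ℤ) : WithBot (WithTop ℤ))) (q : ℕ) (hq : 0 < q) (R' : Type u) [CommRing R'] (𝒜' : ℤ → AddSubgroup R') [GradedRing 𝒜'] (φ : R' →+* R) (hφ : Function.Injective φ) (hdeg : ∀ j : ℤ, (𝒜' j).map (φ : R' →+ R) = 𝒜 (j * q)) : LocCoh.IsGorensteinRing R' ↔ (q : ℤ) ∣ a := by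
  classical
  open Groth.Agent.Lib.Helper8.Veronese Groth.Agent.Lib.Helper8.VerGor in
  constructor
  · intro hG'
    let D : VerData 𝒜 𝒜' := ⟨φ, q, hq, fun j a ha => by
      rw [← hdeg j]
      exact ⟨a, ha, rfl⟩⟩
    have hsurj : ∀ j : ℤ, ∀ x ∈ 𝒜 (j * D.q), ∃ a ∈ 𝒜' j, D.φ a = x := by
      intro j x hx
      have hx' : x ∈ (𝒜' j).map (φ : R' →+ R) := by rw [hdeg j]; exact hx
      obtain ⟨a, ha, hax⟩ := hx'
      exact ⟨a, ha, hax⟩
    have hφD : Function.Injective D.φ := hφ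
    have hNoeth : IsNoetherianRing R := inferInstance
    have hCM : LocCoh.IsCohenMacaulayRing R :=
      Groth.Agent.Lib.Helper5.GorUnmixed.isCohenMacaulayRing_of_isGorensteinRing R
    have hNoeth' : IsNoetherianRing R' := inferInstance
    have hCM' : LocCoh.IsCohenMacaulayRing R' :=
      Groth.Agent.Lib.Helper5.GorUnmixed.isCohenMacaulayRing_of_isGorensteinRing R'
    have hpos' := hpos_veronese D hφD hpos
    have h0' := isField_deg0_veronese D hφD hsurj h0
    let m' : HomogeneousIdeal 𝒜' := irr 𝒜'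
    have hm'sp : m'.toIdeal = Ideal.span (⋃ j ∈ Set.Ioi (0 : ℤ), (𝒜' j : Set R')) := rfl
    have hm' : GrLC.IsStarLocal 𝒜' m' := isStarLocal_of_span 𝒜' hpos' h0' m' hm'sp
    have hmax' : m'.toIdeal.IsMaximal :=
      Groth.Agent.Lib.Helper8.GrField.isMaximal 𝒜' hpos' h0' m' hm' hm'sp
    have hn' : ringKrullDim R' = n := by
      rw [← hn]
      exact Groth.Agent.Lib.Helper8.VerCM.ringKrullDim_veronese 𝒜 D hφD hsurj
    have hqz : (0 : ℤ) < q := by exact_mod_cast hq
    -- the type of `R'` is `H(ρ, R)`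
    have h55 := Groth.Agent.S18655.result R 𝒜 hpos h0 m hm hmsp hstd n hn I a ha q hq R' 𝒜' φ hφ
      hdeg m' hm'sp (a % (q : ℤ)) (Int.emod_nonneg a hqz.ne') (Int.emod_lt_of_pos a hqz)
      (Int.dvd_self_sub_emod)
    -- the type of a Gorenstein ring is one
    obtain ⟨I'⟩ := Groth.Agent.S13215.result R' 𝒜' R' 𝒜'
    obtain ⟨EE', e', he'⟩ := exists_starInjHull 𝒜' m'
    obtain ⟨a', hC', -⟩ := isStarCanonical_shiftMod 𝒜' hpos' h0' m' hm' hm'sp n hn' I' EE'.carrier
      EE'.gr e' he'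
    have h40 : GrLC.bassNum m'.toIdeal R' n = 1 :=
      (Groth.Agent.S18640.result R' 𝒜' hpos' h0' m' hm' hm'sp n hn' I' EE'.carrier EE'.gr e' he'
        (shiftMod 𝒜' a').carrier (shiftMod 𝒜' a').gr hC').1
    rw [h40] at h55
    have hfr : Module.finrank (GrLC.deg0 𝒜) (GrLC.comp 𝒜 𝒜 (a % (q : ℤ))) = 1 := by
      have : ((1 : ℕ) : ℕ∞) = (Module.finrank (GrLC.deg0 𝒜) (GrLC.comp 𝒜 𝒜 (a % (q : ℤ))) : ℕ∞) := by
        rw [Nat.cast_one]
        exact h55
      exact (Nat.cast_injective this).symm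
    -- monotonicity of the Hilbert function
    have hdim1 : 1 ≤ ringKrullDim R := by
      rw [hn]
      exact_mod_cast h1
    have hmono : ∀ k : ℕ, Module.finrank (GrLC.deg0 𝒜) (GrLC.comp 𝒜 𝒜 1) ≤
        Module.finrank (GrLC.deg0 𝒜) (GrLC.comp 𝒜 𝒜 (1 + (k : ℤ))) := by
      intro k
      induction k with
      | zero =>
        rw [Nat.cast_zero, add_zero]
      | succ k ih =>
        have h54 := Groth.Agent.S18654.result R 𝒜 hpos h0 hstd hdim1 (1 + (k : ℤ))
        have e1 : (1 : ℤ) + ((k + 1 : ℕ) : ℤ) = 1 + (k : ℤ) + 1 := by push_cast; ring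
        rw [e1]
        exact ih.trans h54
    have hρ0 : 0 ≤ a % (q : ℤ) := Int.emod_nonneg a hqz.ne'
    have hρ : a % (q : ℤ) = 0 := by
      by_contra hne
      have hge : 1 ≤ a % (q : ℤ) := by omega
      have hk := hmono (a % (q : ℤ) - 1).toNat
      have e2 : (1 : ℤ) + (((a % (q : ℤ) - 1).toNat : ℕ) : ℤ) = a % (q : ℤ) := by
        rw [Int.toNat_of_nonneg (by omega)]
        ring
      rw [e2, hfr] at hk
      omega
    exact Int.dvd_of_emod_eq_zero hρ
  · intro hdvd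
    exact Groth.Agent.S18641.result R 𝒜 hpos h0 m hm hmsp n hn I a ha q hq R' 𝒜' φ hφ hdeg hdvd

end Groth.Agent.S18643
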