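import Groth.Statements.S18650
import Groth.Agent.Lib.Helper29GrGorTop
import Groth.Agent.Lib.Helper29GrStarLocal3
import Groth.Agent.Lib.Helper29GrHmod
import Groth.Agent.Lib.Helper29GrExtLoc
import Groth.Agent.Lib.Helper29InjOfExtResidue
import Groth.Agent.Lib.Helper8GrInjDim
import Groth.Agent.Lib.Helper8BassGlue
import Groth.Agent.S13224
import Groth.Agent.S13225
import Groth.Agent.S0345

set_option autoImplicit false
universe u
open GrLC

namespace Groth.Agent.S18650

/-- The case M = R of the published statement. Let R be a commutative Noetherian ℤ-graded ring which is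
H-local, i.e. has a unique maximal graded ideal m, and which is Cohen–Macaulay, with ht m = n. Then
R is a Gorenstein ring if and only if the graded local cohomology module H^n_m(R) is an injective
object of the category of graded R-modules. Here H^n_m(R) is computed from a *injective resolution I
of R in the graded category, and its *injectivity is expressed as the existence of a *injective
graded R-module X and an R-linear isomorphism H^n_m(R) ≅ X preserving degrees. (The published item
is stated for a Cohen–Macaulay graded module M and the notion of Gorenstein module; this row is its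
case M = R.) -/
theorem result (R : Type u) [CommRing R] [LocCoh.IsCohenMacaulayRing R] (𝒜 : ℤ → AddSubgroup R) [GradedRing 𝒜] (m : HomogeneousIdeal 𝒜) (hm : GrLC.IsStarLocal 𝒜 m) (n : ℕ) (hn : m.toIdeal.height = n) (I : GrLC.StarInjRes 𝒜 𝒜) : LocCoh.IsGorensteinRing R ↔ ∃ (X : GrLC.GMod.{u} 𝒜) (φ : I.H m n ≃ₗ[R] X.carrier), GrLC.IsStarInj 𝒜 X.gr ∧ GrLC.IsGrHom (I.Hgr m n) X.gr φ.toLinearMap := by
  classical
  haveI hprime : m.toIdeal.IsPrime := Groth.Agent.Lib.Helper29GrStarLocal.isPrime 𝒜 m hm
  obtain ⟨e₀⟩ := Groth.Agent.S13224.result R 𝒜 m R 𝒜 I n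
  constructor
  · intro hG
    obtain ⟨f, hf⟩ := Groth.Agent.Lib.Helper29GrStarLocal3.exists_hull_tensor R m.toIdeal n hn
      (I.H m n) e₀
    letI dec : DirectSum.Decomposition (I.Hgr m n) :=
      (Groth.Agent.S13225.result R 𝒜 m R 𝒜 I n).chooseDecomposition
    haveI gs : SetLike.GradedSMul 𝒜 (I.Hgr m n) :=
      Groth.Agent.Lib.Helper29.GrHmod.H_gradedSMul I m n
    have hP : Groth.Agent.Lib.Helper29GrStarLocal2.LocHullProps m.toIdeal (I.H m n) :=
      Groth.Agent.Lib.Helper29GrStarLocal3.locHullProps_of_hull m.toIdeal f hf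
        (fun s x hs hsx => Groth.Agent.Lib.Helper29GrStarLocal.eq_zero_of_smul_eq_zero 𝒜 m hm
          (I.Hgr m n) s hs x hsx)
    have hinj := Groth.Agent.Lib.Helper29GrStarLocal2.isStarInj 𝒜 m hm (I.Hgr m n) hP
    exact ⟨GrLC.GMod.of 𝒜 (I.H m n) (I.Hgr m n), LinearEquiv.refl R _, hinj,
      fun g x hx => hx⟩
  · rintro ⟨X, φ, hX, -⟩
    have htorsH : ∀ h : I.H m n, ∃ k : ℕ, ∀ r ∈ m.toIdeal ^ k, r • h = 0 := by
      intro h
      obtain ⟨z, rfl⟩ := Submodule.mkQ_surjective _ h
      obtain ⟨k, hk⟩ := z.2.1
      refine ⟨k, fun r hr => ?_⟩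
      rw [← map_smul]
      have : r • z = 0 := by
        apply Subtype.ext
        rw [Submodule.coe_smul, hk r hr]
        rfl
      rw [this, map_zero]
    have htorsX : ∀ x : X.carrier, x ∈ GrLC.gam m.toIdeal X.carrier := by
      intro x
      obtain ⟨k, hk⟩ := htorsH (φ.symm x)
      refine ⟨k, fun r hr => ?_⟩
      have := congrArg φ (hk r hr)
      rwa [map_smul, φ.apply_symm_apply, map_zero] at this
    have hpt := Groth.Agent.Lib.Helper29GrGorTop.isPowerTorsion_localized m.toIdeal htorsX
    have hinj : Module.Injective (Localization.AtPrime m.toIdeal)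
        (LocalizedModule m.toIdeal.primeCompl X.carrier) :=
      Groth.Agent.Lib.Helper29InjOfExtResidue.injective_of_ext_one_residue _ _ hpt
        (fun x => Groth.Agent.Lib.Helper29GrExtLoc.ext_residue_eq_zero 𝒜 X.gr hX m 0 x)
    have hCM : LocCoh.IsCohenMacaulayLocalRing (Localization.AtPrime m.toIdeal) :=
      LocCoh.IsCohenMacaulayRing.isCohenMacaulayLocalRing_localization m.toIdeal
    have hGl : LocCoh.IsGorensteinLocalRing (Localization.AtPrime m.toIdeal) :=
      Groth.Agent.Lib.Helper29GrGorTop.isGorensteinLocalRing_of_injective R m.toIdeal hCM n hn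
        X.carrier (φ.symm.trans e₀) hinj
    obtain ⟨N, hN⟩ := hGl.exists_hasInjectiveDimensionLT
    have := hN
    have h1 : CategoryTheory.HasInjectiveDimensionLT
        (ModuleCat.of (Localization.AtPrime m.toIdeal)
          (LocalizedModule m.toIdeal.primeCompl R)) N :=
      CategoryTheory.hasInjectiveDimensionLT_of_iso
        (Groth.Agent.Lib.Helper8.BassGlue.selfEquiv R m.toIdeal).symm.toModuleIso N
    have h2 : CategoryTheory.HasInjectiveDimensionLT
        (ModuleCat.of (Localization.AtPrime m.toIdeal)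
          (LocalizedModule m.toIdeal.primeCompl R)) (N + 1) :=
      CategoryTheory.hasInjectiveDimensionLT_of_ge _ N (N + 1) (Nat.le_succ N)
    have h3 := Groth.Agent.Lib.Helper8.GrInjDim.hasInjectiveDimensionLT_of_localization 𝒜 m hm
      R 𝒜 N h2
    exact ((Groth.Agent.S0345.result R).mp ⟨N + 2, h3⟩).1

end Groth.Agent.S18650
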