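import Groth.Statements.S18658
import Groth.Agent.Lib.Helper8CanonPerf
import Groth.Agent.Lib.Helper8VerLC

set_option autoImplicit false
universe u
open GrLC

namespace Groth.Agent.S18658

/-- Let R be a graded ring defined over a field, q ≥ 1, and R' = R^(q) its Veronese subring. Then K_{R'}
= (K_R)^(q): the canonical module of R' is the Veronese submodule ⊕_j (K_R)_{jq} of the canonical
module of R. Stated here as: for canonical modules C of R and C' of R' there is an injective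
additive map g : C' → C, semilinear over the inclusion φ : R' → R, carrying C'_j onto C_{jq} for
every j. Here 'graded ring defined over a field' means R = ⊕_{n ≥ 0} R_n is Noetherian with R_0 a
field, and m = R_+ is its unique graded maximal ideal. Both R and R' have dimension n = dim R; the
canonical module of each is represented by a finitely generated graded module together with a
homogeneous isomorphism from its Hom into a *injective envelope of the residue field onto the top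
graded local cohomology H^n of the ring with support in its irrelevant ideal, computed from a
*injective resolution in the graded category (by graded Matlis duality this pins the module up to
graded isomorphism). The Veronese subring R^(q) = ⊕_j R_{jq}, regraded by (R^(q))_j = R_{jq}, is
presented abstractly as a ℤ-graded ring R' with an injective ring homomorphism φ : R' → R carrying
R'_j onto R_{jq} for every j. -/
theorem result (R : Type u) [CommRing R] [IsNoetherianRing R] (𝒜 : ℤ → AddSubgroup R) [GradedRing 𝒜] (hpos : ∀ n : ℤ, n < 0 → 𝒜 n = ⊥) (h0 : IsField (GrLC.deg0 𝒜)) (m : HomogeneousIdeal 𝒜) (hm : GrLC.IsStarLocal 𝒜 m) (hmsp : m.toIdeal = Ideal.span (⋃ n ∈ Set.Ioi (0 : ℤ), (𝒜 n : Set R))) (n : ℕ) (hn : ringKrullDim R = n) (I : GrLC.StarInjRes 𝒜 𝒜) (E' : Type u) [AddCommGroup E'] [Module R E'] (𝓔 : ℤ → AddSubgroup E') [DirectSum.Decomposition 𝓔] [SetLike.GradedSMul 𝒜 𝓔] (e : (R ⧸ m.toIdeal) →ₗ[R] E') (he : GrLC.IsStarInjHull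 𝒜 (GrLC.quotGr 𝒜 m) 𝓔 e) (C : Type u) [AddCommGroup C] [Module R C] (𝒞 : ℤ → AddSubgroup C) [DirectSum.Decomposition 𝒞] [SetLike.GradedSMul 𝒜 𝒞] (hC : GrLC.IsStarCanonical 𝒜 𝒞 𝓔 m n I) (q : ℕ) (hq : 0 < q) (R' : Type u) [CommRing R'] (𝒜' : ℤ → AddSubgroup R') [GradedRing 𝒜'] (φ : R' →+* R) (hφ : Function.Injective φ) (hdeg : ∀ j : ℤ, (𝒜' j).map (φ : R' →+ R) = 𝒜 (j * q)) (m' : HomogeneousIdeal 𝒜') (hm' : GrLC.IsStarLocal 𝒜' m') (hm'sp : m'.toIdeal = Ideal.span (⋃ j ∈ Set.Ioi (0 : ℤ), (𝒜' j : Set R'))) (I' : GrLC.StarInjRes 𝒜' 𝒜') (E'' : Type u) [AddCommGroup E''] [Module R' E''] (𝓔'' : ℤ → AddSubgroup E'') [DirectSum.Decomposition 𝓔''] [SetLike.GradedSMul 𝒜' 𝓔''] (e' : (R' ⧸ m'.toIdeal) →ₗ[R'] E'') (he' : GrLC.IsStarInjHull 𝒜' (GrLC.quotGr 𝒜' m') 𝓔'' e') (C' : Type u) [AddCommGroup C'] [Module R' C'] (𝒞' : ℤ → AddSubgroup C') [DirectSum.Decomposition 𝒞'] [SetLike.GradedSMul 𝒜' 𝒞'] (hC' : GrLC.IsStarCanonical 𝒜' 𝒞' 𝓔'' m' n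 I') : ∃ g : C' →ₛₗ[φ] C, Function.Injective g ∧ ∀ j : ℤ, (𝒞' j).map (g : C' →+ C) = 𝒞 (j * q) := by
  classical
  open Groth.Agent.Lib.Helper8.Veronese Groth.Agent.Lib.Helper8.VerDual
    Groth.Agent.Lib.Helper8.CanonPairing in
  let D : VerData 𝒜 𝒜' := ⟨φ, q, hq, fun j a ha => by
    rw [← hdeg j]
    exact ⟨a, ha, rfl⟩⟩
  have hsurj : ∀ j : ℤ, ∀ x ∈ 𝒜 (j * D.q), ∃ a ∈ 𝒜' j, D.φ a = x := by
    intro j x hx
    have hx' : x ∈ (𝒜' j).map (φ : R' →+ R) := by rw [hdeg j]; exact hx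
    obtain ⟨a, ha, hax⟩ := hx'
    exact ⟨a, ha, hax⟩
  have : IsNoetherianRing R' :=
    Groth.Agent.Lib.Helper8.Veronese.isNoetherianRing_of_veronese D hφ hsurj
  have hqz : (0 : ℤ) < q := by exact_mod_cast hq
  have hpos' : ∀ n : ℤ, n < 0 → 𝒜' n = ⊥ := by
    intro k hk
    rw [eq_bot_iff]
    intro x hx
    have h1 : φ x ∈ 𝒜 (k * q) := D.hdeg k x hx
    have h2 : φ x ∈ (⊥ : AddSubgroup R) := (hpos (k * q) (mul_neg_of_neg_of_pos hk hqz)) ▸ h1
    have h3 : φ x = 0 := AddSubgroup.mem_bot.mp h2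
    exact AddSubgroup.mem_bot.mpr (hφ (h3.trans (map_zero φ).symm))
  -- the degree-zero ring isomorphism
  let φ₀hom : ↥(GrLC.deg0 𝒜') →+* ↥(GrLC.deg0 𝒜) :=
    φ.restrict (GrLC.deg0 𝒜') (GrLC.deg0 𝒜) (fun x hx => by
      have h : φ x ∈ 𝒜 ((0 : ℤ) * q) := D.hdeg 0 x hx
      rw [zero_mul] at h
      exact h)
  have hφ₀bij : Function.Bijective φ₀hom := by
    constructor
    · intro a b h
      exact Subtype.ext (hφ (congrArg Subtype.val h))
    · intro s
      have hs : (s : R) ∈ (𝒜' 0).map (φ : R' →+ R) := by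
        rw [hdeg 0, zero_mul]
        exact s.2
      obtain ⟨a, ha, has⟩ := hs
      exact ⟨⟨a, ha⟩, Subtype.ext has⟩
  let φ₀ : ↥(GrLC.deg0 𝒜') ≃+* ↥(GrLC.deg0 𝒜) := RingEquiv.ofBijective φ₀hom hφ₀bij
  have hφ₀ : ∀ t : ↥(GrLC.deg0 𝒜'), ((φ₀ t : ↥(GrLC.deg0 𝒜)) : R) = D.φ (t : R') := fun t => rfl
  have h0' : IsField ↥(GrLC.deg0 𝒜') := MulEquiv.isField h0 φ₀.toMulEquiv
  have hmne : m.toIdeal ≠ ⊤ := by
    intro h
    apply hm.1.1
    apply HomogeneousIdeal.toIdeal_injective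
    rw [h, HomogeneousIdeal.toIdeal_top]
  have hmne' : m'.toIdeal ≠ ⊤ := by
    intro h
    apply hm'.1.1
    apply HomogeneousIdeal.toIdeal_injective
    rw [h, HomogeneousIdeal.toIdeal_top]
  -- the Veronese comparison on top local cohomology
  let φs : R' →ₛₗ[D.φ] R :=
    { toFun := φ
      map_add' := map_add φ
      map_smul' := fun a x => map_mul φ a x }
  have hφs : ∀ j : ℤ, (𝒜' j).map (φs : R' →+ R) = 𝒜 (j * D.q) := fun j => hdeg j
  obtain ⟨Λ, hΛinj, hΛsmul, hΛgr, hΛsur⟩ :=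
    Groth.Agent.Lib.Helper8.Veronese.exists_veronese_map D hφ hsurj m m' hmsp hm'sp 𝒜 𝒜' φs hφ
      hφs I I' n
  -- the two perfect pairings
  obtain ⟨hfin, ψ, hψ⟩ := hC
  obtain ⟨hfin', ψ', hψ'⟩ := hC'
  have := hfin
  have := hfin'
  let PP := perfPairing 𝒜 hpos h0 m hmne hmsp 𝓔 e he 𝒞 n I ψ hψ
  let PP' := perfPairing 𝒜' hpos' h0' m' hmne' hm'sp 𝓔'' e' he' 𝒞' n I' ψ' hψ'
  have hind' : ∀ (motive : I'.H m' n → Prop), motive 0 →
      (∀ d, ∀ x ∈ I'.Hgr m' n d, motive x) →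
      (∀ x y, motive x → motive y → motive (x + y)) → ∀ x, motive x := by
    intro motive hz hhom hadd x
    have hint := Groth.Agent.S13225.result R' 𝒜' m' R' 𝒜' I' n
    let _ := hint.chooseDecomposition
    induction x using DirectSum.Decomposition.inductionOn (I'.Hgr m' n) with
    | zero => exact hz
    | @homogeneous d y => exact hhom d y y.2
    | add a b ha hb => exact hadd a b ha hb
  exact exists_veronese_dual D φ₀ hφ₀ 𝒞 PP 𝒞' PP' hind' Λ hΛinj hΛsmul hΛgr hΛsur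

end Groth.Agent.S18658
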