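import Groth.Statements.S18664
import Groth.Agent.Lib.Helper8Seg25

set_option autoImplicit false
universe u
open scoped TensorProduct
open GrSegre

namespace Groth.Agent.S18664

/-- Let R and S be standard graded rings defined over a field k which are Cohen–Macaulay, with dim R = 1
and dim S ≥ 2. Then the Segre product T = R # S is a Cohen–Macaulay ring if and only if R is a
polynomial ring over k (in one variable). Here a graded ring defined over k is a commutative
k-algebra of finite type, graded in nonnegative degrees by k-subspaces with degree-zero part k·1,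
standard graded when its irrelevant ideal is generated by the degree-one piece; the Segre product T
= ⊕_n R_n ⊗_k S_n is presented abstractly as a graded k-algebra T with an injective k-algebra
homomorphism ψ : T → R ⊗_k S carrying T_n onto the k-span of the elementary tensors a ⊗ b with a ∈
R_n, b ∈ S_n. -/
theorem result (k : Type u) [Field k] (R : Type u) [CommRing R] [Algebra k R] (𝒜 : ℤ → Submodule k R) [GradedAlgebra 𝒜] (hposR : ∀ n : ℤ, n < 0 → 𝒜 n = ⊥) (h0R : 𝒜 0 = Submodule.span k {(1 : R)}) [Algebra.FiniteType k R] (S : Type u) [CommRing S] [Algebra k S] (ℬ : ℤ → Submodule k S) [GradedAlgebra ℬ] (hposS : ∀ n : ℤ, n < 0 → ℬ n = ⊥) (h0S : ℬ 0 = Submodule.span k {(1 : S)}) [Algebra.FiniteType k S] (T : Type u) [CommRing T] [Algebra k T] (𝒯 : ℤ → Submodule k T) [GradedAlgebra 𝒯] (ψ : T →ₐ[k] TensorProduct k R S) (hψ : Function.Injective ψ) (hdegT : ∀ n : ℤ, (𝒯 n).map ψ.toLinearMap = Submodule.span k {x : TensorProduct k R S | ∃ a ∈ 𝒜 n, ∃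 b ∈ ℬ n, x = a ⊗ₜ[k] b}) [LocCoh.IsCohenMacaulayRing R] [LocCoh.IsCohenMacaulayRing S] (hstdR : Ideal.span (⋃ n ∈ Set.Ioi (0 : ℤ), (𝒜 n : Set R)) = Ideal.span ((𝒜 1 : Submodule k R) : Set R)) (hstdS : Ideal.span (⋃ n ∈ Set.Ioi (0 : ℤ), (ℬ n : Set S)) = Ideal.span ((ℬ 1 : Submodule k S) : Set S)) (hr : ringKrullDim R = 1) (hs : 2 ≤ ringKrullDim S) : LocCoh.IsCohenMacaulayRing T ↔ Nonempty (R ≃ₐ[k] Polynomial k) := by
  have hNR : IsNoetherianRing R := Algebra.FiniteType.isNoetherianRing k R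
  have hNS : IsNoetherianRing S := Algebra.FiniteType.isNoetherianRing k S
  -- the dimension of `S` is a natural number
  have hntS : Nontrivial S := by
    by_contra hnt
    rw [not_nontrivial_iff_subsingleton] at hnt
    rw [ringKrullDim_eq_bot_of_subsingleton] at hs
    exact absurd hs (by simp)
  obtain ⟨s, hs'⟩ := Groth.Agent.Lib.Helper8.Seg.exists_ringKrullDim_eq_nat k S
  have h2s : 2 ≤ s := by
    rw [hs'] at hs
    exact_mod_cast hs
  obtain ⟨I⟩ : Nonempty (GrLC.StarInjRes 𝒜 𝒜) := Groth.Agent.Lib.Helper29GrConv2.exists_res 𝒜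
  obtain ⟨J⟩ : Nonempty (GrLC.StarInjRes ℬ ℬ) := Groth.Agent.Lib.Helper29GrConv2.exists_res ℬ
  have hr' : ringKrullDim R = ((1 : ℕ) : WithBot ℕ∞) := by rw [hr]; rfl
  have h := Groth.Agent.Lib.Helper8.Seg.isCohenMacaulayRing_segre_iff 𝒯 ψ ⟨hψ, hdegT⟩ hposR h0R
    hposS h0S (Groth.Agent.Lib.Helper8.GrCMk.irr 𝒜) (Groth.Agent.Lib.Helper8.GrCMk.irr_toIdeal 𝒜) I
    (Groth.Agent.Lib.Helper8.GrCMk.irr ℬ) (Groth.Agent.Lib.Helper8.GrCMk.irr_toIdeal ℬ) J 1 s hr' hs'
    le_rfl (by omega)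
  have hSne : ∀ n : ℤ, 0 ≤ n → ℬ n ≠ ⊥ := fun n hn =>
    Groth.Agent.Lib.Helper8.Seg.piece_ne_bot_of_std ℬ hposS h0S hstdS
      (by rw [hs']; exact_mod_cast (by omega : 1 ≤ s)) n hn
  have hpoly := Groth.Agent.Lib.Helper8.Seg.endDeg_lt_zero_iff_polynomial 𝒜 hposR h0R hstdR hr
    (Groth.Agent.Lib.Helper8.GrCMk.irr 𝒜) (Groth.Agent.Lib.Helper8.GrCMk.irr_toIdeal 𝒜) I
  rw [h, ← hpoly, Groth.Agent.Lib.Helper8.Seg.endDeg_lt_zero_iff]
  constructor
  · rintro ⟨_, h2⟩ n hn
    rcases h2 h2s n with h3 | h3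
    · exact congrArg Submodule.toAddSubgroup h3
    · exact absurd h3 (hSne n hn)
  · intro h1
    refine ⟨fun h2 => absurd h2 (by omega), fun _ n => ?_⟩
    by_cases hn : 0 ≤ n
    · left
      have h3 := h1 n hn
      exact Submodule.toAddSubgroup_injective (h3.trans rfl)
    · right
      exact hposS n (by omega)

end Groth.Agent.S18664
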