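import Groth.Statements.S18667
import Groth.Agent.Lib.Helper29GrLocalDuality
import Groth.Agent.Lib.Helper29GrBaseIndep
import Groth.Agent.Lib.Helper29GrDualTransport
import Groth.Agent.Lib.Helper29GrTopDual
import Groth.Agent.Lib.Helper8CanonPerf
import Groth.Agent.Lib.Helper4FibDimA

set_option autoImplicit false
universe u
open GrLC

namespace Groth.Agent.S18667

/-- Let R and S be graded rings defined over the same field k and f : R → S a degree-preserving k-linear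
ring map (not necessarily injective), with R Cohen–Macaulay and S a finite R-module through f, and
put t = dim R − dim S. Then K_S = Ext^t_R(S, K_R). Stated here as the existence of an R-linear
isomorphism between the canonical module of S (an S-module, viewed over R) and the R-module
Ext^t_R(S, K_R); the published isomorphism is natural and respects gradings. Here a graded ring
defined over a field is Noetherian, positively ℤ-graded with degree-zero part a field; that R and S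
are defined over the same field and f is k-linear is expressed by asking f to carry R_0 onto S_0;
and the canonical module is represented by a finitely generated graded module together with a
homogeneous isomorphism from its Hom into a *injective envelope of the residue field onto the top
graded local cohomology of the ring with support in its irrelevant ideal, computed from a *injective
resolution in the graded category (by graded Matlis duality this pins the module up to graded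
isomorphism). -/
theorem result (R : Type u) [CommRing R] [LocCoh.IsCohenMacaulayRing R] (𝒜 : ℤ → AddSubgroup R) [GradedRing 𝒜] (hpos : ∀ n : ℤ, n < 0 → 𝒜 n = ⊥) (h0 : IsField (GrLC.deg0 𝒜)) (m : HomogeneousIdeal 𝒜) (hm : GrLC.IsStarLocal 𝒜 m) (hmsp : m.toIdeal = Ideal.span (⋃ n ∈ Set.Ioi (0 : ℤ), (𝒜 n : Set R))) (n : ℕ) (hn : ringKrullDim R = n) (I : GrLC.StarInjRes 𝒜 𝒜) (E' : Type u) [AddCommGroup E'] [Module R E'] (𝓔 : ℤ → AddSubgroup E') [DirectSum.Decomposition 𝓔] [SetLike.GradedSMul 𝒜 𝓔] (e : (R ⧸ m.toIdeal) →ₗ[R] E') (he : GrLC.IsStarInjHull 𝒜 (GrLC.quotGr 𝒜 m) 𝓔 e) (C : Type u) [AddCommGroup C] [Module R C] (𝒞 : ℤ → AddSubgroup C) [DirectSum.Decomposition 𝒞] [SetLike.GradedSMul 𝒜 𝒞] (hC : GrLC.IsStarCanonical 𝒜 𝒞 𝓔 m n I) (S : Type u) [CommRing S] [IsNoetherianRing S] [Algebra R S] [Module.Finite R S] (𝒜' : ℤ → AddSubgroup S) [GradedRing 𝒜'] (hf : ∀ j : ℤ, (𝒜 j).map (algebraMap R S : R →+ S) ≤ 𝒜' j) (hf0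 : (𝒜 0).map (algebraMap R S : R →+ S) = 𝒜' 0) (hpos' : ∀ j : ℤ, j < 0 → 𝒜' j = ⊥) (h0' : IsField (GrLC.deg0 𝒜')) (m' : HomogeneousIdeal 𝒜') (hm' : GrLC.IsStarLocal 𝒜' m') (hm'sp : m'.toIdeal = Ideal.span (⋃ j ∈ Set.Ioi (0 : ℤ), (𝒜' j : Set S))) (n' : ℕ) (hn' : ringKrullDim S = n') (I' : GrLC.StarInjRes 𝒜' 𝒜') (E'' : Type u) [AddCommGroup E''] [Module S E''] (𝓔'' : ℤ → AddSubgroup E'') [DirectSum.Decomposition 𝓔''] [SetLike.GradedSMul 𝒜' 𝓔''] (e' : (S ⧸ m'.toIdeal) →ₗ[S] E'') (he' : GrLC.IsStarInjHull 𝒜' (GrLC.quotGr 𝒜' m') 𝓔'' e') (C' : Type u) [AddCommGroup C'] [Module S C'] [Module R C'] [IsScalarTower R S C'] (𝒞' : ℤ → AddSubgroup C') [DirectSum.Decomposition 𝒞'] [SetLike.GradedSMul 𝒜' 𝒞'] (hC' : GrLC.IsStarCanonical 𝒜' 𝒞' 𝓔'' m' n' I') : Nonempty (C' ≃ₗ[R] CategoryTheory.Abelian.Ext.{u} (ModuleCat.of R S) (ModuleCat.of R C) (n - n')) := by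
  classical
  have hR : LocCoh.IsCohenMacaulayRing R := inferInstance
  have hle : n' ≤ n := by
    have h := Groth.Agent.Lib.Helper4.FibDim.ringKrullDim_le_of_quasiFinite R S
    rw [hn, hn'] at h
    exact_mod_cast h
  have hmne : m.toIdeal ≠ ⊤ := Groth.Agent.Lib.Helper29GrStarLocal.toIdeal_ne_top 𝒜 m hm
  have hm'ne : m'.toIdeal ≠ ⊤ := Groth.Agent.Lib.Helper29GrStarLocal.toIdeal_ne_top 𝒜' m' hm'
  obtain ⟨hfinC, ψ, hψ⟩ := hC
  obtain ⟨hfinC', ψ', hψ'⟩ := hC'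
  haveI := hfinC
  haveI := hfinC'
  obtain ⟨PPC⟩ : Nonempty (Groth.Agent.Lib.Helper8.VerDual.PerfPairing 𝒜 𝒞 (I.Hgr m n)) :=
    ⟨Groth.Agent.Lib.Helper8.CanonPairing.perfPairing 𝒜 hpos h0 m hmne hmsp 𝓔 e he 𝒞 n I ψ hψ⟩
  obtain ⟨PPC'⟩ : Nonempty (Groth.Agent.Lib.Helper8.VerDual.PerfPairing 𝒜' 𝒞' (I'.Hgr m' n')) :=
    ⟨Groth.Agent.Lib.Helper8.CanonPairing.perfPairing 𝒜' hpos' h0' m' hm'ne hm'sp 𝓔'' e' he' 𝒞'
      n' I' ψ' hψ'⟩
  haveI := Groth.Agent.Lib.Helper29.GrHmod.H_gradedSMul I m n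
  have hPC := Groth.Agent.Lib.Helper29.GrDualExist.dualPairing_of_perfPairing PPC
  haveI gsS : SetLike.GradedSMul 𝒜 𝒜' := Groth.Agent.Lib.Helper29.GrBaseIndep.gradedSMul_self 𝒜 hf
  obtain ⟨ES⟩ := Groth.Agent.S13215.result R 𝒜 S 𝒜'
  obtain ⟨Θ, hΘs, hΘg⟩ := Groth.Agent.Lib.Helper29.GrBaseIndep.exists_baseChange_equiv 𝒜 hf m hmsp
    m' hm'sp I' ES n'
  letI := Groth.Agent.Lib.Helper29.GrLocalDuality.HDec 𝒜' I' m' n'
  letI := Groth.Agent.Lib.Helper29.GrLocalDuality.HDec 𝒜 ES m n'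
  obtain ⟨P, hP⟩ := Groth.Agent.Lib.Helper29.GrDualTransport.exists_transport 𝒜 𝒜' hf0 h0 h0'
    (I'.Hgr m' n') (ES.Hgr m n') Θ hΘs hΘg 𝒞' PPC'
  haveI gsC' : SetLike.GradedSMul 𝒜 𝒞' :=
    ⟨fun {i j r c} hr hc => by
      rw [← algebraMap_smul S r c]
      exact SetLike.GradedSMul.smul_mem (A := 𝒜') (B := 𝒞')
        (Groth.Agent.Lib.Helper29.GrBaseIndep.algebraMap_mem 𝒜 hf hr) hc⟩
  haveI : Module.Finite R (GrLC.GMod.of 𝒜 S 𝒜').carrier := inferInstanceAs (Module.Finite R S)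
  have hcd := Groth.Agent.Lib.Helper29.GrTopDual.cdLE_of_ringKrullDim R n hn m.toIdeal
  exact Groth.Agent.Lib.Helper29.GrLocalDuality.duality 𝒜 hR hpos h0 m hm hmsp 𝓔 e he n hn hcd I
    𝒞 PPC.P hPC (n - n') n' (by omega) (GrLC.GMod.of 𝒜 S 𝒜') ES (GrLC.GMod.of 𝒜 C' 𝒞') P hP

end Groth.Agent.S18667
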