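import Groth.Statements.S18669
import Groth.Agent.Lib.Helper8SectGorB
import Groth.Agent.Lib.Helper29GorLocQuot

set_option autoImplicit false
universe u
open GrSect

namespace Groth.Agent.S18669

/-- Let X be a complete smooth curve of genus g ≥ 1 over an algebraically closed field k and P a closed
point. Then R_{X,P} = ⊕_{n ≥ 0} H^0(X, O_X(nP)) is a Gorenstein ring if and only if the Weierstrass
semigroup H_{X,P} is symmetric, i.e. there is an integer d such that an integer n lies in H_{X,P}
exactly when d − n does not. Here the complete smooth curve X over the algebraically closed field k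
is given by its function field K/k (a function field of one variable in which k is algebraically
closed), the closed point P by a place of K/k, g ≥ 1 is the genus, H^0(X, O_X(nP)) = L(nP), and
R_{X,P} = ⊕_{n ≥ 0} L(nP)·T^n is realised as the k-subalgebra of K[T] of polynomials whose
coefficient of T^n lies in L(nP); the Weierstrass semigroup H_{X,P} is the set of n ≥ 0 with ℓ(nP) =
ℓ((n−1)P) + 1. -/
theorem result (k : Type u) [Field k] [IsAlgClosed k] (K : Type u) [Field K] [Algebra k K] (hK : FunFld.IsFunctionField k K) (hg : 1 ≤ FunFld.genus k K) (P : FunFld.Place k K) : LocCoh.IsGorensteinRing ↥(W4c6gradedringsgw.sectRing (Finsupp.single P 1 : FunFld.Divisor k K)) ↔ W4c6gradedringsgw.IsSymmetric (W4c6gradedringsgw.poleOrders P) := by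
  open Groth.Agent.Lib.Helper8.SectGor Groth.Agent.Lib.Helper27Sect Groth.Agent.Lib.LeadFF in
  obtain ⟨π, hπ⟩ := exists_unif P
  have hNR : IsNoetherianRing (RP P) := isNoetherianRing_RP hK P hπ
  have hNS : IsNoetherianRing (Groth.Agent.Lib.Helper8.Kunz.SH k (HP P)) :=
    isNoetherianRing_SH hK P hπ
  have hP := deg_eq_one_of_algClosed hK P
  have hN : ∀ n, 2 * FunFld.genus k K ≤ n → n ∈ HP P :=
    fun n hn => not_isGap_of_large hK P hP hn
  have hset : W4c6gradedringsgw.poleOrders P = (HP P : Set ℕ) := by
    ext n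
    exact mem_poleOrders_iff hK P n
  rw [hset, ← Groth.Agent.Lib.Helper8.Kunz.gor_iff_symmetric (k := k) (2 * FunFld.genus k K) hN]
  have hne : tX P ≠ 0 := by
    intro h
    have := congrArg Subtype.val h
    rw [tX_val] at this
    exact Polynomial.X_ne_zero this
  have hreg : IsSMulRegular (RP P) (tX P) := (IsRegular.of_ne_zero hne).left.isSMulRegular
  constructor
  · intro hG
    have h1 : LocCoh.IsGorensteinRing (RP P ⧸ Ideal.span {tX P}) :=
      Groth.Agent.Lib.Helper5.GorRing.gorRing_quotient_of_regular (tX P) hreg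
    exact Groth.Agent.Lib.Helper5.GorRing.gorRing_of_ringEquiv
      (R := RP P ⧸ Ideal.span {tX P}) (quotEquiv hK P hπ).toRingEquiv
  · intro hG
    have h1 : LocCoh.IsGorensteinRing (RP P ⧸ Ideal.span {tX P}) :=
      Groth.Agent.Lib.Helper5.GorRing.gorRing_of_ringEquiv
        (R := Groth.Agent.Lib.Helper8.Kunz.SH k (HP P)) (quotEquiv hK P hπ).symm.toRingEquiv
    have hmem : tX P ∈ Groth.Agent.Lib.Helper8.MonoGr.irr (RP P) := by
      rw [Groth.Agent.Lib.Helper8.MonoGr.mem_irr, tX_val, Polynomial.coeff_X_zero]
    have h2 := Groth.Agent.Lib.Helper29GorLocQuot.gorLocal_localization_of_quotient_span_singleton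
      (tX P) (mem_nonZeroDivisors_of_ne_zero hne) h1 (Groth.Agent.Lib.Helper8.MonoGr.irr (RP P)) hmem
    exact Groth.Agent.Lib.Helper8.MonoGr.gorRing_of_gorLocal_irr (monoClosed_RP P) (h0_RP hK P) h2

end Groth.Agent.S18669
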