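import Groth.Statements.S1867
import Groth.Agent.Lib.Helper4GenFiniteKA
import Groth.Agent.Lib.Helper4GenFinite4
import Groth.Agent.S1608

set_option autoImplicit false
set_option linter.style.haveILetI false
universe u
open CategoryTheory AlgebraicGeometry
open Cyc

namespace Groth.Agent.S1867

/-- Let f : X → Y be a proper morphism of integral schemes with Y locally Noetherian, mapping the
generic point to the generic point with finite extension of function fields, and let ξ be a point of
Y whose local ring has dimension 1. Then f is finite over some open neighbourhood of ξ. -/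
theorem result (X Y : Scheme.{u}) [IsIntegral X] [IsIntegral Y] [IsLocallyNoetherian Y] (f : X ⟶ Y) [IsProper f] (hgen : f (genericPoint X) = genericPoint Y) (hfin : (f.residueFieldMap (genericPoint X)).hom.Finite) (ξ : Y) (hξ : ringKrullDim (Y.presheaf.stalk ξ) = 1) : ∃ V : Y.Opens, ξ ∈ V ∧ IsFinite (f ∣_ V) := by
  open Groth.Agent.Lib.Helper4.GenFinite Groth.Agent.Lib.Helper4.GenFiniteKA in
  have hXf : IsField (X.presheaf.stalk (genericPoint X)) := Field.toIsField X.functionField
  have hYf : IsField (Y.presheaf.stalk (f.base (genericPoint X))) := by
    have : f.base (genericPoint X) = genericPoint Y := hgen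
    rw [this]; exact Field.toIsField Y.functionField
  have hqgen : f.QuasiFiniteAt (genericPoint X) :=
    (quasiFiniteAt_iff_finite_residueFieldMap f (genericPoint X) hXf hYf).mpr hfin
  -- quasi-finite at all points over `ξ`
  have hqf : ∀ x : X, f.base x = ξ → f.QuasiFiniteAt x := by
    intro x hx
    apply Groth.Agent.S1608.result f ξ hξ.le ?_ x hx
    intro Z hZ η hη
    have hZu : Z = Set.univ := by
      rw [irreducibleComponents_eq_singleton] at hZ
      exact hZ
    have : η = genericPoint X := by
      apply hη.eq
      rw [hZu]
      exact genericPoint_spec X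
    rw [this]
    exact hqgen
  -- the fibre is discrete
  have hdisc : ∀ y : Y, (∀ x : X, f.base x = y → f.QuasiFiniteAt x) →
      DiscreteTopology (f.fiber y) := by
    intro y h
    rw [discreteTopology_iff_isOpen_singleton]
    intro w
    have hx : f.base (f.fiberι y w) = y := (f.fiberHomeo y w).2
    have hq := h _ hx
    generalize hx' : f.fiberι y w = x at hx hq
    subst hx
    rw [Scheme.Hom.quasiFiniteAt_iff_isOpen_singleton_asFiber] at hq
    have hw : w = f.asFiber x := by
      apply (f.fiberι (f.base x)).isEmbedding.injective
      rw [hx', Scheme.Hom.fiberι_asFiber]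
    rw [hw]
    exact hq
  haveI := hdisc ξ hqf
  haveI : Finite (f.fiber ξ) := finite_of_compact_of_discrete
  have hfinite : (f.base ⁻¹' {ξ}).Finite := by
    haveI : Finite ↥(f.base ⁻¹' {ξ}) := (f.fiberHomeo ξ).toEquiv.finite_iff.mp inferInstance
    exact Set.toFinite _
  exact exists_isFinite_morphismRestrict_of_finite_preimage_singleton f ξ hfinite

end Groth.Agent.S1867
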