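import Groth.Statements.S18686
import Mathlib
import Groth.Agent.S18675
import Groth.Agent.Lib.Helper16GLat
-- import your own Groth.Agent.* helpers here

set_option autoImplicit false
set_option linter.style.haveILetI false
set_option linter.unusedSectionVars false
open GLat

namespace Groth.Agent.S18686

open Groth.Agent.S18675 Groth.Agent.Lib.Helper16GLat

theorem main_aux (G : Type) [Group G] [Finite G]
    (A : Type) [AddCommGroup A] [Module.Finite ℤ A] [Module.Free ℤ A] (ρ : Representation ℤ G A)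
    (X : Type) [MulAction G X] [Finite X] (w : X → (A →ₗ[ℤ] ℤ))
    (hw : ∀ (g : G) (x : X) (a : A), w (g • x) a = w x (ρ g⁻¹ a))
    (hgen : ∀ (K : Subgroup G) (φ : A →ₗ[ℤ] ℤ), (∀ h ∈ K, ∀ a, φ (ρ h a) = φ a) →
      ∃ (n : ℕ) (x : Fin n → X) (c : Fin n → ℤ), (∀ j, ∀ h ∈ K, h • x j = x j) ∧
        ∀ a, φ a = ∑ j, c j * w (x j) a) :
    ∃ (P : Type) (_ : AddCommGroup P) (F : Type) (_ : AddCommGroup F)
      (_ : Module.Finite ℤ P) (_ : Module.Free ℤ P) (_ : Module.Finite ℤ F) (_ : Module.Free ℤ F)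
      (σ : Representation ℤ G P) (τ : Representation ℤ G F) (i : A →ₗ[ℤ] P) (π : P →ₗ[ℤ] F),
      GLat.IsEquivariant ρ σ i ∧ GLat.IsEquivariant σ τ π ∧ Function.Injective i ∧ Function.Surjective π ∧
      LinearMap.range i = LinearMap.ker π ∧ GLat.IsPermutation σ ∧ GLat.IsFlasque τ := by
  classical
  obtain ⟨i, hi_apply⟩ : ∃ i : A →ₗ[ℤ] (X →₀ ℤ), ∀ a x, i a x = w x a := by
    refine ⟨(Finsupp.linearEquivFunOnFinite ℤ ℤ X).symm.toLinearMap ∘ₗ LinearMap.pi w, fun a x => ?_⟩
    simp [Finsupp.linearEquivFunOnFinite]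
  have hi_eq : ∀ (g : G) (a : A), i (ρ g a) = permRep G X g (i a) := by
    intro g a
    ext x
    rw [hi_apply, permRep_apply, hi_apply, hw, inv_inv]
  have hiE : IsEquivariant ρ (permRep G X) i := hi_eq
  -- functionals through i
  have hfun : ∀ (φ : A →ₗ[ℤ] ℤ), ∃ (n : ℕ) (x : Fin n → X) (c : Fin n → ℤ),
      ∀ a, φ a = ∑ j, c j * i a (x j) := by
    intro φ
    obtain ⟨n, x, c, -, h⟩ := hgen ⊥ φ (by
      intro h hh a
      rw [Subgroup.mem_bot] at hh
      rw [hh, map_one]; rfl)
    exact ⟨n, x, c, fun a => by rw [h a]; simp only [hi_apply]⟩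
  let b := Module.Free.chooseBasis ℤ A
  have hinj : Function.Injective i := by
    rw [injective_iff_map_eq_zero]
    intro a ha
    apply b.ext_elem
    intro k
    obtain ⟨n, x, c, h⟩ := hfun (b.coord k)
    have := h a
    rw [ha] at this
    simpa using this
  have hsat : ∀ (c : ℤ) (p : X →₀ ℤ), c ≠ 0 → c • p ∈ LinearMap.range i → p ∈ LinearMap.range i := by
    intro c p hc ⟨a, ha⟩
    have hdiv : ∀ φ : A →ₗ[ℤ] ℤ, ∃ t : ℤ, φ a = c * t := by
      intro φ
      obtain ⟨n, x, d, h⟩ := hfun φ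
      refine ⟨∑ j, d j * p (x j), ?_⟩
      rw [h a, ha, Finset.mul_sum]
      refine Finset.sum_congr rfl (fun j _ => ?_)
      rw [Finsupp.smul_apply, smul_eq_mul]; ring
    choose t ht using fun k => hdiv (b.coord k)
    have hca : c • (∑ k, t k • b k) = a := by
      apply b.ext_elem
      intro k
      have h1 : b.repr (∑ k, t k • b k) k = t k := by
        have := b.repr_sum_self t
        exact congrFun this k
      rw [map_smul, Finsupp.smul_apply, h1, smul_eq_mul]
      exact (ht k).symm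
    refine ⟨∑ k, t k • b k, ?_⟩
    ext x
    have h2 : i (c • (∑ k, t k • b k)) x = (c • p) x := by rw [hca, ha]
    rw [map_smul, Finsupp.smul_apply, Finsupp.smul_apply, smul_eq_mul, smul_eq_mul] at h2
    exact mul_left_cancel₀ hc h2
  -- the quotient
  haveI : Module.IsTorsionFree ℤ ((X →₀ ℤ) ⧸ LinearMap.range i) := quot_torsionFree _ hsat
  have hstab : ∀ g : G, LinearMap.range i ≤ (LinearMap.range i).comap (permRep G X g) := by
    rintro g _ ⟨a, rfl⟩
    exact ⟨ρ g a, hi_eq g a⟩
  let τ : Representation ℤ G ((X →₀ ℤ) ⧸ LinearMap.range i) :=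
    { toFun := fun g => Submodule.mapQ _ _ (permRep G X g) (hstab g)
      map_one' := by
        apply Submodule.linearMap_qext
        ext x
        simp
      map_mul' := fun g h => by
        apply Submodule.linearMap_qext
        ext x
        simp }
  have hτ : ∀ (g : G) (p : X →₀ ℤ), τ g (Submodule.Quotient.mk p) =
      Submodule.Quotient.mk (permRep G X g p) := fun g p => rfl
  have hπE : IsEquivariant (permRep G X) τ (LinearMap.range i).mkQ := fun g p => (hτ g p).symm
  -- key claim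
  have hkey : ∀ (H : Subgroup G) [Fintype H] (p : X →₀ ℤ) (a : A),
      nrm (permRep G X) H p = i a → ∃ a', a = nrm ρ H a' := by
    intro H _ p a hpa
    have hainv : ∀ h : H, ρ (h : G) a = a := by
      intro h
      apply hinj
      rw [hi_eq, ← hpa, comp_nrm]
    have hNa : nrm ρ H a = Fintype.card H • a := by
      rw [nrm_apply]
      simp only [hainv, Finset.sum_const, Finset.card_univ]
    set NA := nrm ρ H with hNA
    haveI : Module.Finite ℤ (LinearMap.range NA) := Module.IsNoetherian.finite ℤ _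
    let bL := Module.Free.chooseBasis ℤ (LinearMap.range NA)
    have hdiv : ∀ k, ∃ t : ℤ, bL.repr (NA.rangeRestrict a) k = (Fintype.card H : ℤ) * t := by
      intro k
      have hinvφ : ∀ h ∈ H, ∀ a₁, (bL.coord k ∘ₗ NA.rangeRestrict) (ρ h a₁) =
          (bL.coord k ∘ₗ NA.rangeRestrict) a₁ := by
        intro h hh a₁
        simp only [LinearMap.comp_apply]
        congr 1
        apply Subtype.ext
        exact nrm_comp ρ H ⟨h, hh⟩ a₁
      obtain ⟨n, x, c, hfix, hφ⟩ := hgen H _ hinvφ
      refine ⟨∑ j, c j * p (x j), ?_⟩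
      have h1 := hφ a
      simp only [LinearMap.comp_apply, Module.Basis.coord_apply] at h1
      rw [h1, Finset.mul_sum]
      refine Finset.sum_congr rfl (fun j _ => ?_)
      rw [← hi_apply, ← hpa, nrm_apply, Finsupp.finsetSum_apply]
      have : ∀ h : H, permRep G X (h : G) p (x j) = p (x j) := by
        intro h
        rw [permRep_apply]
        congr 1
        exact hfix j _ (H.inv_mem h.2)
      simp only [this, Finset.sum_const, Finset.card_univ, nsmul_eq_mul]
      ring
    choose t ht using hdiv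
    have hl : Fintype.card H • (∑ k, t k • bL k) = NA.rangeRestrict a := by
      apply bL.ext_elem
      intro k
      have h1 : bL.repr (∑ k, t k • bL k) k = t k := by
        have := bL.repr_sum_self t
        exact congrFun this k
      rw [map_nsmul, Finsupp.smul_apply, h1, nsmul_eq_mul]
      exact (ht k).symm
    have hl' := congrArg Subtype.val hl
    rw [Submodule.coe_smul_of_tower] at hl'
    have hl'' : Fintype.card H • ((∑ k, t k • bL k : LinearMap.range NA) : A) = Fintype.card H • a := by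
      rw [hl', ← hNa]; rfl
    have hne : (Fintype.card H : ℤ) ≠ 0 := by exact_mod_cast Fintype.card_ne_zero
    have hla : ((∑ k, t k • bL k : LinearMap.range NA) : A) = a := by
      rw [← natCast_zsmul, ← natCast_zsmul] at hl''
      exact smul_right_injective A hne hl''
    obtain ⟨a', ha'⟩ := (∑ k, t k • bL k : LinearMap.range NA).2
    exact ⟨a', by rw [ha', hla]⟩
  refine ⟨X →₀ ℤ, inferInstance, (X →₀ ℤ) ⧸ LinearMap.range i, inferInstance, inferInstance,
    inferInstance, inferInstance, inferInstance, permRep G X, τ, i, (LinearMap.range i).mkQ,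
    hiE, hπE, hinj, Submodule.mkQ_surjective _, (Submodule.ker_mkQ _).symm, ?_, ?_⟩
  · refine ⟨X, Finsupp.basisSingleOne, fun g i => ⟨g • i, ?_⟩⟩
    simp [permRep_single]
  · intro H f hf
    haveI : Fintype H := Fintype.ofFinite H
    change f ∈ aug τ H
    rw [finsum_eq_nrm] at hf
    obtain ⟨p, rfl⟩ := Submodule.mkQ_surjective _ f
    rw [← map_nrm (permRep G X) τ _ hπE, Submodule.mkQ_apply, Submodule.Quotient.mk_eq_zero] at hf
    obtain ⟨a, ha⟩ := hf
    obtain ⟨a', rfl⟩ := hkey H p a ha.symm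
    have h0 : (∑ᶠ h : H, permRep G X (h : G) (p - i a')) = 0 := by
      rw [finsum_eq_nrm, map_sub, ← map_nrm ρ (permRep G X) i hiE, ha, sub_self]
    have h1 := perm_flasque H (p - i a') h0
    have h2 := map_mem_aug (permRep G X) τ _ hπE H _ h1
    have h3 : (LinearMap.range i).mkQ (p - i a') = (LinearMap.range i).mkQ p := by
      rw [map_sub, sub_eq_self, Submodule.mkQ_apply, Submodule.Quotient.mk_eq_zero]
      exact ⟨a', rfl⟩
    rwa [h3] at h2


/-- For a finite group G and a G-lattice A (finitely generated and free over ℤ) there is an exact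
sequence 0 → A → P → F → 0 of G-lattices with P a permutation lattice and F flasque (a flasque
resolution of A); rendered by equivariant ℤ-linear maps i : A → P injective, π : P → F surjective,
with range i = ker π. -/
theorem result (G : Type) [Group G] [Finite G]
    (A : Type) [AddCommGroup A] [Module.Finite ℤ A] [Module.Free ℤ A] (ρ : Representation ℤ G A) :
    ∃ (P : Type) (_ : AddCommGroup P) (F : Type) (_ : AddCommGroup F)
      (_ : Module.Finite ℤ P) (_ : Module.Free ℤ P) (_ : Module.Finite ℤ F) (_ : Module.Free ℤ F)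
      (σ : Representation ℤ G P) (τ : Representation ℤ G F) (i : A →ₗ[ℤ] P) (π : P →ₗ[ℤ] F),
      GLat.IsEquivariant ρ σ i ∧ GLat.IsEquivariant σ τ π ∧ Function.Injective i ∧ Function.Surjective π ∧
      LinearMap.range i = LinearMap.ker π ∧ GLat.IsPermutation σ ∧ GLat.IsFlasque τ := by
  classical
  let inv : Subgroup G → Submodule ℤ (A →ₗ[ℤ] ℤ) := fun K =>
    { carrier := {φ | ∀ h ∈ K, ∀ a, φ (ρ h a) = φ a}
      add_mem' := fun {φ ψ} hφ hψ h hh a => by
        rw [LinearMap.add_apply, LinearMap.add_apply, hφ h hh, hψ h hh]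
      zero_mem' := fun h _ a => rfl
      smul_mem' := fun c φ hφ h hh a => by
        rw [LinearMap.smul_apply, LinearMap.smul_apply, hφ h hh] }
  have hgens : ∀ K : Subgroup G, ∃ (n : ℕ) (s : Fin n → (A →ₗ[ℤ] ℤ)),
      (∀ j, ∀ h ∈ K, ∀ a, s j (ρ h a) = s j a) ∧
      ∀ φ : A →ₗ[ℤ] ℤ, (∀ h ∈ K, ∀ a, φ (ρ h a) = φ a) → ∃ c : Fin n → ℤ, ∑ j, c j • s j = φ := by
    intro K
    haveI : Module.Finite ℤ (inv K) := Module.IsNoetherian.finite ℤ _
    obtain ⟨n, s, hs⟩ := Module.Finite.exists_fin (R := ℤ) (M := inv K)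
    refine ⟨n, fun j => (s j).1, fun j => (s j).2, fun φ hφ => ?_⟩
    have hmem : (⟨φ, hφ⟩ : inv K) ∈ Submodule.span ℤ (Set.range s) := by rw [hs]; trivial
    obtain ⟨c, hc⟩ := (Submodule.mem_span_range_iff_exists_fun ℤ).mp hmem
    refine ⟨c, ?_⟩
    have := congrArg Subtype.val hc
    simpa using this
  choose n s hs_inv hs_span using hgens
  let X := Σ p : (Σ K : Subgroup G, Fin (n K)), G ⧸ p.1
  let w : X → (A →ₗ[ℤ] ℤ) := fun x => Quotient.liftOn' x.2
    (fun g => (s x.1.1 x.1.2) ∘ₗ ρ g⁻¹) (by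
    intro a b hab
    rw [QuotientGroup.leftRel_apply] at hab
    show (s x.1.1 x.1.2) ∘ₗ ρ a⁻¹ = (s x.1.1 x.1.2) ∘ₗ ρ b⁻¹
    ext v
    simp only [LinearMap.comp_apply]
    have h1 := hs_inv x.1.1 x.1.2 _ hab (ρ b⁻¹ v)
    rw [← h1, ← Module.End.mul_apply, ← map_mul, mul_inv_cancel_right])
  have hw : ∀ (g : G) (x : X) (a : A), w (g • x) a = w x (ρ g⁻¹ a) := by
    rintro g ⟨p, c⟩ a
    induction c using Quotient.inductionOn' with
    | h a' =>
      show s p.1 p.2 (ρ (g * a')⁻¹ a) = s p.1 p.2 (ρ a'⁻¹ (ρ g⁻¹ a))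
      rw [mul_inv_rev, map_mul]
      rfl
  refine main_aux G A ρ X w hw ?_
  intro K φ hφ
  obtain ⟨c, hc⟩ := hs_span K φ hφ
  refine ⟨n K, fun j => ⟨⟨K, j⟩, ((1 : G) : G ⧸ K)⟩, c, ?_, ?_⟩
  · intro j h hh
    show (⟨⟨K, j⟩, ((h * 1 : G) : G ⧸ K)⟩ : X) = ⟨⟨K, j⟩, ((1 : G) : G ⧸ K)⟩
    congr 1
    rw [QuotientGroup.eq]
    simpa using hh
  · intro a
    rw [← hc, LinearMap.sum_apply]
    refine Finset.sum_congr rfl (fun j _ => ?_)
    rw [LinearMap.smul_apply, smul_eq_mul]
    congr 1
    show s K j a = s K j (ρ 1⁻¹ a)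
    rw [inv_one, map_one]
    rfl

end Groth.Agent.S18686
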