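import Groth.Statements.S18685
import Mathlib
import Groth.Agent.S18675
import Groth.Agent.S18686
import Groth.Agent.Lib.Helper16GLat
-- import your own Groth.Agent.* helpers here

set_option autoImplicit false
set_option linter.style.haveILetI false
set_option linter.unusedSectionVars false
open GLat

namespace Groth.Agent.S18685

open Groth.Agent.Lib.Helper16GLat

theorem pushout_aux (G : Type) [Group G] [Finite G]
    (A Q P' P F' : Type) [AddCommGroup A] [AddCommGroup Q] [AddCommGroup P'] [AddCommGroup P]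
    [AddCommGroup F'] [Module.Finite ℤ P'] [Module.Free ℤ P'] [Module.Finite ℤ P] [Module.Free ℤ P]
    [Module.Finite ℤ F'] [Module.Free ℤ F']
    (ρ : Representation ℤ G A) (σQ : Representation ℤ G Q) (σP' : Representation ℤ G P')
    (σP : Representation ℤ G P) (τ' : Representation ℤ G F')
    (iQ : Q →ₗ[ℤ] P') (πA : P' →ₗ[ℤ] A) (j : Q →ₗ[ℤ] P) (π' : P →ₗ[ℤ] F')
    (hiQ : IsEquivariant σQ σP' iQ) (hπA : IsEquivariant σP' ρ πA)
    (hj : IsEquivariant σQ σP j) (hπ' : IsEquivariant σP τ' π')
    (hinjQ : Function.Injective iQ) (hsurjA : Function.Surjective πA)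
    (hexA : LinearMap.range iQ = LinearMap.ker πA)
    (hinjj : Function.Injective j) (hsurj' : Function.Surjective π')
    (hex' : LinearMap.range j = LinearMap.ker π')
    (hpermP' : IsPermutation σP') (hpermP : IsPermutation σP) (hF' : IsFlasque τ') :
    ∃ (P : Type) (_ : AddCommGroup P) (F : Type) (_ : AddCommGroup F)
      (_ : Module.Finite ℤ P) (_ : Module.Free ℤ P) (_ : Module.Finite ℤ F) (_ : Module.Free ℤ F)
      (σ : Representation ℤ G P) (τ : Representation ℤ G F) (i : P →ₗ[ℤ] F) (π : F →ₗ[ℤ] A),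
      GLat.IsEquivariant σ τ i ∧ GLat.IsEquivariant τ ρ π ∧ Function.Injective i ∧ Function.Surjective π ∧
      LinearMap.range i = LinearMap.ker π ∧ GLat.IsPermutation σ ∧ GLat.IsFlasque τ := by
  classical
  obtain ⟨N, hN⟩ : ∃ N : Submodule ℤ (P' × P), ∀ x, x ∈ N ↔ ∃ q, x = (iQ q, -j q) := by
    refine ⟨LinearMap.range (LinearMap.prod iQ (-j)), fun x => ?_⟩
    constructor
    · rintro ⟨q, rfl⟩
      exact ⟨q, rfl⟩
    · rintro ⟨q, rfl⟩
      exact ⟨q, rfl⟩
  have hπAiQ : ∀ q, πA (iQ q) = 0 := fun q =>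
    LinearMap.mem_ker.mp (hexA ▸ LinearMap.mem_range_self iQ q)
  have hπ'j : ∀ q, π' (j q) = 0 := fun q =>
    LinearMap.mem_ker.mp (hex' ▸ LinearMap.mem_range_self j q)
  -- saturation
  have hsat : ∀ (c : ℤ) (x : P' × P), c ≠ 0 → c • x ∈ N → x ∈ N := by
    rintro c ⟨p', p⟩ hc hx
    rw [hN] at hx ⊢
    obtain ⟨q, hq⟩ := hx
    have hq1 : c • p' = iQ q := congrArg Prod.fst hq
    have hq2 : c • p = -j q := congrArg Prod.snd hq
    have h1 : c • π' p = 0 := by
      rw [← map_smul, hq2, map_neg, hπ'j, neg_zero]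
    have h2 : π' p = 0 := (smul_eq_zero_iff_right hc).mp h1
    have h3 : p ∈ LinearMap.range j := by rw [hex']; exact h2
    obtain ⟨q₀, rfl⟩ := h3
    have h4 : c • q₀ = -q := by
      apply hinjj
      rw [map_smul, hq2, map_neg]
    have h5 : p' = iQ (-q₀) := by
      have : c • p' = c • iQ (-q₀) := by
        rw [hq1, ← map_smul, smul_neg, h4, neg_neg]
      exact smul_right_injective P' hc this
    refine ⟨-q₀, ?_⟩
    rw [h5, map_neg, map_neg, neg_neg]
  haveI : Module.IsTorsionFree ℤ ((P' × P) ⧸ N) := quot_torsionFree N hsat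
  have hstab : ∀ g : G, N ≤ N.comap ((σP' g).prodMap (σP g)) := by
    intro g x hx
    rw [Submodule.mem_comap, hN]
    rw [hN] at hx
    obtain ⟨q, rfl⟩ := hx
    refine ⟨σQ g q, ?_⟩
    show (σP' g (iQ q), σP g (-j q)) = _
    rw [map_neg, hiQ, hj]
  let σF : Representation ℤ G ((P' × P) ⧸ N) :=
    { toFun := fun g => Submodule.mapQ _ _ ((σP' g).prodMap (σP g)) (hstab g)
      map_one' := by
        apply Submodule.linearMap_qext
        ext x <;> simp
      map_mul' := fun g h => by
        apply Submodule.linearMap_qext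
        ext x <;> simp }
  have hσF : ∀ (g : G) (x : P' × P), σF g (Submodule.Quotient.mk x) =
      Submodule.Quotient.mk (σP' g x.1, σP g x.2) := fun g x => rfl
  let ι : P →ₗ[ℤ] (P' × P) ⧸ N := N.mkQ ∘ₗ LinearMap.inr ℤ P' P
  let ι' : P' →ₗ[ℤ] (P' × P) ⧸ N := N.mkQ ∘ₗ LinearMap.inl ℤ P' P
  have hle1 : N ≤ LinearMap.ker (πA ∘ₗ LinearMap.fst ℤ P' P) := by
    intro x hx
    rw [hN] at hx
    obtain ⟨q, rfl⟩ := hx
    rw [LinearMap.mem_ker]
    exact hπAiQ q
  have hle2 : N ≤ LinearMap.ker (π' ∘ₗ LinearMap.snd ℤ P' P) := by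
    intro x hx
    rw [hN] at hx
    obtain ⟨q, rfl⟩ := hx
    rw [LinearMap.mem_ker]
    show π' (-j q) = 0
    rw [map_neg, hπ'j, neg_zero]
  let πF : (P' × P) ⧸ N →ₗ[ℤ] A := N.liftQ (πA ∘ₗ LinearMap.fst ℤ P' P) hle1
  let π'' : (P' × P) ⧸ N →ₗ[ℤ] F' := N.liftQ (π' ∘ₗ LinearMap.snd ℤ P' P) hle2
  have hπF : ∀ x : P' × P, πF (Submodule.Quotient.mk x) = πA x.1 := fun x => rfl
  have hπ'' : ∀ x : P' × P, π'' (Submodule.Quotient.mk x) = π' x.2 := fun x => rfl
  have hι : ∀ p, ι p = Submodule.Quotient.mk ((0 : P'), p) := fun p => rfl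
  have hι' : ∀ p', ι' p' = Submodule.Quotient.mk (p', (0 : P)) := fun p' => rfl
  have hflasque : IsFlasque σF := by
    refine flasque_ext σP' σF τ' ι' π'' ?_ ?_ ?_ ?_ ?_ (isFlasque_of_isPermutation σP' hpermP') hF'
    · intro g p'
      rw [hι', hι', hσF]
      show Submodule.Quotient.mk (σP' g p', (0 : P)) = Submodule.Quotient.mk (σP' g p', σP g 0)
      rw [map_zero]
    · intro g m
      induction m using Submodule.Quotient.induction_on with
      | _ x =>
      rw [hσF, hπ'', hπ'']
      exact hπ' g x.2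
    · rw [injective_iff_map_eq_zero]
      intro p' hp'
      rw [hι', Submodule.Quotient.mk_eq_zero, hN] at hp'
      obtain ⟨q, hq⟩ := hp'
      have h1 : p' = iQ q := congrArg Prod.fst hq
      have h2 : (0 : P) = -j q := congrArg Prod.snd hq
      have h3 : q = 0 := by
        apply hinjj
        rw [map_zero]
        exact neg_eq_zero.mp h2.symm
      rw [h1, h3, map_zero]
    · intro f
      obtain ⟨p, rfl⟩ := hsurj' f
      exact ⟨Submodule.Quotient.mk (0, p), rfl⟩
    · ext m
      rw [LinearMap.mem_ker]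
      constructor
      · rintro ⟨p', rfl⟩
        rw [hι', hπ'']
        exact map_zero _
      · intro hm
        induction m using Submodule.Quotient.induction_on with
        | _ x =>
        obtain ⟨p', p⟩ := x
        rw [hπ''] at hm
        have : p ∈ LinearMap.range j := by rw [hex']; exact hm
        obtain ⟨q, rfl⟩ := this
        refine ⟨p' + iQ q, ?_⟩
        rw [hι']
        symm
        rw [Submodule.Quotient.eq, hN]
        refine ⟨-q, ?_⟩
        rw [map_neg, map_neg, neg_neg]
        ext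
        · show p' - (p' + iQ q) = -iQ q
          abel
        · show j q - 0 = j q
          rw [sub_zero]
  refine ⟨P, inferInstance, (P' × P) ⧸ N, inferInstance, inferInstance, inferInstance,
    inferInstance, inferInstance, σP, σF, ι, πF, ?_, ?_, ?_, ?_, ?_, hpermP, hflasque⟩
  · intro g p
    rw [hι, hι, hσF]
    show Submodule.Quotient.mk ((0 : P'), σP g p) = Submodule.Quotient.mk (σP' g 0, σP g p)
    rw [map_zero]
  · intro g m
    induction m using Submodule.Quotient.induction_on with
    | _ x =>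
    rw [hσF, hπF, hπF]
    exact hπA g x.1
  · rw [injective_iff_map_eq_zero]
    intro p hp
    rw [hι, Submodule.Quotient.mk_eq_zero, hN] at hp
    obtain ⟨q, hq⟩ := hp
    have h1 : (0 : P') = iQ q := congrArg Prod.fst hq
    have h2 : p = -j q := congrArg Prod.snd hq
    have h3 : q = 0 := by
      apply hinjQ
      rw [map_zero]
      exact h1.symm
    rw [h2, h3, map_zero, neg_zero]
  · intro a
    obtain ⟨p', rfl⟩ := hsurjA a
    exact ⟨Submodule.Quotient.mk (p', 0), rfl⟩
  · ext m
    rw [LinearMap.mem_ker]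
    constructor
    · rintro ⟨p, rfl⟩
      rw [hι, hπF]
      exact map_zero _
    · intro hm
      induction m using Submodule.Quotient.induction_on with
      | _ x =>
      obtain ⟨p', p⟩ := x
      rw [hπF] at hm
      have : p' ∈ LinearMap.range iQ := by rw [hexA]; exact hm
      obtain ⟨q, rfl⟩ := this
      refine ⟨p + j q, ?_⟩
      rw [hι]
      symm
      rw [Submodule.Quotient.eq, hN]
      refine ⟨q, ?_⟩
      ext
      · show iQ q - 0 = iQ q
        rw [sub_zero]
      · show p - (p + j q) = -j q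
        abel


/-- For a finite group G and a finitely generated G-module A there is an exact sequence 0 → P → F → A →
0 of finitely generated G-modules with P a permutation lattice and F a flasque lattice; rendered by
equivariant ℤ-linear maps i : P → F injective, π : F → A surjective, with range i = ker π. -/
theorem result (G : Type) [Group G] [Finite G]
    (A : Type) [AddCommGroup A] [Module.Finite ℤ A] (ρ : Representation ℤ G A) :
    ∃ (P : Type) (_ : AddCommGroup P) (F : Type) (_ : AddCommGroup F)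
      (_ : Module.Finite ℤ P) (_ : Module.Free ℤ P) (_ : Module.Finite ℤ F) (_ : Module.Free ℤ F)
      (σ : Representation ℤ G P) (τ : Representation ℤ G F) (i : P →ₗ[ℤ] F) (π : F →ₗ[ℤ] A),
      GLat.IsEquivariant σ τ i ∧ GLat.IsEquivariant τ ρ π ∧ Function.Injective i ∧ Function.Surjective π ∧
      LinearMap.range i = LinearMap.ker π ∧ GLat.IsPermutation σ ∧ GLat.IsFlasque τ := by
  obtain ⟨Q, _, P', _, _, _, _, _, σQ, σP', iQ, πA, hiQ, hπA, hinjQ, hsurjA, hexA, hpermP', -⟩ :=
    Groth.Agent.S18675.result G A ρ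
  obtain ⟨P, _, F', _, _, _, _, _, σP, τ', j, π', hj, hπ', hinjj, hsurj', hex', hpermP, hF'⟩ :=
    Groth.Agent.S18686.result G Q σQ
  exact pushout_aux G A Q P' P F' ρ σQ σP' σP τ' iQ πA j π' hiQ hπA hj hπ' hinjQ hsurjA hexA
    hinjj hsurj' hex' hpermP' hpermP hF'

end Groth.Agent.S18685
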