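import Groth.Statements.S18687
import Mathlib
import Groth.Agent.S18675
import Groth.Agent.S18686
import Groth.Agent.Lib.Helper16GLat
-- import your own Groth.Agent.* helpers here

set_option autoImplicit false
set_option linter.style.haveILetI false
set_option linter.unusedSectionVars false
open GLat

namespace Groth.Agent.S18687

open Groth.Agent.Lib.Helper16GLat

theorem pullback_aux (G : Type) [Group G] [Finite G]
    (A P₁ F Q₂ P₂ : Type) [AddCommGroup A] [AddCommGroup P₁] [AddCommGroup F] [AddCommGroup Q₂]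
    [AddCommGroup P₂] [Module.Finite ℤ P₁] [Module.Free ℤ P₁] [Module.Finite ℤ P₂] [Module.Free ℤ P₂]
    (ρ : Representation ℤ G A) (σ₁ : Representation ℤ G P₁) (τ : Representation ℤ G F)
    (σQ : Representation ℤ G Q₂) (σ₂ : Representation ℤ G P₂)
    (i₁ : A →ₗ[ℤ] P₁) (π₁ : P₁ →ₗ[ℤ] F) (i₂ : Q₂ →ₗ[ℤ] P₂) (π₂ : P₂ →ₗ[ℤ] F)
    (hi₁ : IsEquivariant ρ σ₁ i₁) (hπ₁ : IsEquivariant σ₁ τ π₁)
    (hi₂ : IsEquivariant σQ σ₂ i₂) (hπ₂ : IsEquivariant σ₂ τ π₂)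
    (hinj₁ : Function.Injective i₁) (hsurj₁ : Function.Surjective π₁)
    (hex₁ : LinearMap.range i₁ = LinearMap.ker π₁)
    (hinj₂ : Function.Injective i₂) (hsurj₂ : Function.Surjective π₂)
    (hex₂ : LinearMap.range i₂ = LinearMap.ker π₂)
    (hperm₁ : IsPermutation σ₁) (hperm₂ : IsPermutation σ₂) (hQ : IsCoflasque σQ) :
    ∃ (Q : Type) (_ : AddCommGroup Q) (P : Type) (_ : AddCommGroup P)
      (_ : Module.Finite ℤ Q) (_ : Module.Free ℤ Q) (_ : Module.Finite ℤ P) (_ : Module.Free ℤ P)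
      (σ : Representation ℤ G Q) (τ : Representation ℤ G P) (i : A →ₗ[ℤ] Q) (π : Q →ₗ[ℤ] P),
      GLat.IsEquivariant ρ σ i ∧ GLat.IsEquivariant σ τ π ∧ Function.Injective i ∧ Function.Surjective π ∧
      LinearMap.range i = LinearMap.ker π ∧ GLat.IsCoflasque σ ∧ GLat.IsPermutation τ := by
  classical
  obtain ⟨E, hE⟩ : ∃ E : Submodule ℤ (P₁ × P₂), ∀ x, x ∈ E ↔ π₁ x.1 = π₂ x.2 := by
    refine ⟨LinearMap.ker (π₁ ∘ₗ LinearMap.fst ℤ P₁ P₂ - π₂ ∘ₗ LinearMap.snd ℤ P₁ P₂), fun x => ?_⟩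
    rw [LinearMap.mem_ker, LinearMap.sub_apply, sub_eq_zero]
    rfl
  have hstable : ∀ (g : G), ∀ x ∈ E, ((σ₁ g).prodMap (σ₂ g)) x ∈ E := by
    intro g x hx
    rw [hE] at hx ⊢
    show π₁ (σ₁ g x.1) = π₂ (σ₂ g x.2)
    rw [hπ₁, hπ₂, hx]
  let σE : Representation ℤ G E :=
    { toFun := fun g => ((σ₁ g).prodMap (σ₂ g)).restrict (hstable g)
      map_one' := by
        ext m <;> simp
      map_mul' := fun g h => by
        ext m <;> simp }
  have hσE : ∀ (g : G) (m : E), ((σE g m : E) : P₁ × P₂) = (σ₁ g m.1.1, σ₂ g m.1.2) :=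
    fun g m => rfl
  haveI : Module.Finite ℤ E := Module.IsNoetherian.finite ℤ _
  haveI : Module.Free ℤ E := inferInstance
  let iE : A →ₗ[ℤ] E := LinearMap.codRestrict E (LinearMap.inl ℤ P₁ P₂ ∘ₗ i₁) (fun a => by
    rw [hE]
    show π₁ (i₁ a) = π₂ 0
    rw [map_zero]
    exact LinearMap.mem_ker.mp (hex₁ ▸ LinearMap.mem_range_self i₁ a))
  let jE : Q₂ →ₗ[ℤ] E := LinearMap.codRestrict E (LinearMap.inr ℤ P₁ P₂ ∘ₗ i₂) (fun q => by
    rw [hE]
    show π₁ 0 = π₂ (i₂ q)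
    rw [map_zero]
    exact (LinearMap.mem_ker.mp (hex₂ ▸ LinearMap.mem_range_self i₂ q)).symm)
  let πE : E →ₗ[ℤ] P₂ := LinearMap.snd ℤ P₁ P₂ ∘ₗ E.subtype
  let πE' : E →ₗ[ℤ] P₁ := LinearMap.fst ℤ P₁ P₂ ∘ₗ E.subtype
  have hiE : ∀ a, ((iE a : E) : P₁ × P₂) = (i₁ a, 0) := fun a => rfl
  have hjE : ∀ q, ((jE q : E) : P₁ × P₂) = (0, i₂ q) := fun q => rfl
  have hcof : IsCoflasque σE := by
    refine coflasque_ext σQ σE σ₁ jE πE' ?_ ?_ ?_ ?_ ?_ hQ (isCoflasque_of_isPermutation σ₁ hperm₁)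
    · intro g q
      apply Subtype.ext
      rw [hjE, hσE, hjE]
      show ((0 : P₁), i₂ (σQ g q)) = (σ₁ g 0, σ₂ g (i₂ q))
      rw [map_zero, hi₂]
    · intro g m
      rfl
    · intro q q' h
      have := congrArg (fun e : E => (e : P₁ × P₂).2) h
      exact hinj₂ this
    · intro p₁
      obtain ⟨p₂, hp₂⟩ := hsurj₂ (π₁ p₁)
      exact ⟨⟨(p₁, p₂), (hE _).mpr hp₂.symm⟩, rfl⟩
    · ext m
      rw [LinearMap.mem_ker]
      constructor
      · rintro ⟨q, rfl⟩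
        rfl
      · intro hm
        have hm1 : m.1.1 = 0 := hm
        have hm2 : π₂ m.1.2 = 0 := by
          rw [← (hE _).mp m.2, hm1, map_zero]
        have : m.1.2 ∈ LinearMap.range i₂ := by rw [hex₂]; exact hm2
        obtain ⟨q, hq⟩ := this
        refine ⟨q, ?_⟩
        apply Subtype.ext
        rw [hjE]
        exact Prod.ext hm1.symm hq
  refine ⟨E, inferInstance, P₂, inferInstance, inferInstance, inferInstance, inferInstance,
    inferInstance, σE, σ₂, iE, πE, ?_, ?_, ?_, ?_, ?_, hcof, hperm₂⟩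
  · intro g a
    apply Subtype.ext
    rw [hiE, hσE, hiE]
    show (i₁ (ρ g a), (0 : P₂)) = (σ₁ g (i₁ a), σ₂ g 0)
    rw [map_zero, hi₁]
  · intro g m
    rfl
  · intro a a' h
    have := congrArg (fun e : E => (e : P₁ × P₂).1) h
    exact hinj₁ this
  · intro p₂
    obtain ⟨p₁, hp₁⟩ := hsurj₁ (π₂ p₂)
    exact ⟨⟨(p₁, p₂), (hE _).mpr hp₁⟩, rfl⟩
  · ext m
    rw [LinearMap.mem_ker]
    constructor
    · rintro ⟨a, rfl⟩
      rfl
    · intro hm
      have hm2 : m.1.2 = 0 := hm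
      have hm1 : π₁ m.1.1 = 0 := by
        rw [(hE _).mp m.2, hm2, map_zero]
      have : m.1.1 ∈ LinearMap.range i₁ := by rw [hex₁]; exact hm1
      obtain ⟨a, ha⟩ := this
      refine ⟨a, ?_⟩
      apply Subtype.ext
      rw [hiE]
      exact Prod.ext ha hm2.symm


/-- For a finite group G and a G-lattice A (finitely generated and free over ℤ) there is an exact
sequence 0 → A → Q → P → 0 of G-lattices with Q coflasque and P a permutation lattice (a coflasque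
resolution of A); rendered by equivariant ℤ-linear maps i : A → Q injective, π : Q → P surjective,
with range i = ker π. -/
theorem result (G : Type) [Group G] [Finite G]
    (A : Type) [AddCommGroup A] [Module.Finite ℤ A] [Module.Free ℤ A] (ρ : Representation ℤ G A) :
    ∃ (Q : Type) (_ : AddCommGroup Q) (P : Type) (_ : AddCommGroup P)
      (_ : Module.Finite ℤ Q) (_ : Module.Free ℤ Q) (_ : Module.Finite ℤ P) (_ : Module.Free ℤ P)
      (σ : Representation ℤ G Q) (τ : Representation ℤ G P) (i : A →ₗ[ℤ] Q) (π : Q →ₗ[ℤ] P),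
      GLat.IsEquivariant ρ σ i ∧ GLat.IsEquivariant σ τ π ∧ Function.Injective i ∧ Function.Surjective π ∧
      LinearMap.range i = LinearMap.ker π ∧ GLat.IsCoflasque σ ∧ GLat.IsPermutation τ := by
  obtain ⟨P₁, _, F, _, _, _, _, _, σ₁, τ, i₁, π₁, hi₁, hπ₁, hinj₁, hsurj₁, hex₁, hperm₁, -⟩ :=
    Groth.Agent.S18686.result G A ρ
  obtain ⟨Q₂, _, P₂, _, _, _, _, _, σQ, σ₂, i₂, π₂, hi₂, hπ₂, hinj₂, hsurj₂, hex₂, hperm₂, hQ⟩ :=
    Groth.Agent.S18675.result G F τ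
  exact pullback_aux G A P₁ F Q₂ P₂ ρ σ₁ τ σQ σ₂ i₁ π₁ i₂ π₂ hi₁ hπ₁ hi₂ hπ₂ hinj₁ hsurj₁ hex₁
    hinj₂ hsurj₂ hex₂ hperm₁ hperm₂ hQ

end Groth.Agent.S18687
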