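import Groth.Statements.S1869
import Mathlib
import Groth.Agent.Lib.Helper22Hexagon

set_option autoImplicit false
universe u v
open CycAlg

namespace Groth.Agent.S1869

open Groth.Agent.Lib.Helper22.Hexagon

/-- Let 0 → (M₁, N₁, φ₁, ψ₁) → (M₂, N₂, φ₂, ψ₂) → (M₃, N₃, φ₃, ψ₃) → 0 be a short exact sequence of
2-periodic complexes over a ring R (so the maps f_i : M₁ → M₂ → M₃ and g_i : N₁ → N₂ → N₃ commute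
with the φ's and ψ's and both rows are short exact). If two of the three complexes have cohomology
modules of finite length then so does the third, and e_R of the middle one is the sum of e_R of the
outer ones. -/
theorem result {R : Type u} [CommRing R] {M₁ N₁ M₂ N₂ M₃ N₃ : Type v} [AddCommGroup M₁] [Module R M₁] [AddCommGroup N₁] [Module R N₁] [AddCommGroup M₂] [Module R M₂] [AddCommGroup N₂] [Module R N₂] [AddCommGroup M₃] [Module R M₃] [AddCommGroup N₃] [Module R N₃] (φ₁ : M₁ →ₗ[R] N₁) (ψ₁ : N₁ →ₗ[R] M₁) (φ₂ : M₂ →ₗ[R] N₂) (ψ₂ : N₂ →ₗ[R] M₂) (φ₃ : M₃ →ₗ[R] N₃) (ψ₃ : N₃ →ₗ[R] M₃) (h₁ : CycAlg.IsPeriodic φ₁ ψ₁) (h₂ : CycAlg.IsPeriodic φ₂ ψ₂) (h₃ : CycAlg.IsPeriodic φ₃ ψ₃) (f₁ : M₁ →ₗ[R] M₂) (g₁ : N₁ →ₗ[R]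 N₂) (f₂ : M₂ →ₗ[R] M₃) (g₂ : N₂ →ₗ[R] N₃) (cφ₁ : φ₂ ∘ₗ f₁ = g₁ ∘ₗ φ₁) (cψ₁ : ψ₂ ∘ₗ g₁ = f₁ ∘ₗ ψ₁) (cφ₂ : φ₃ ∘ₗ f₂ = g₂ ∘ₗ φ₂) (cψ₂ : ψ₃ ∘ₗ g₂ = f₂ ∘ₗ ψ₂) (hf₁ : Function.Injective f₁) (hg₁ : Function.Injective g₁) (hf₂ : Function.Surjective f₂) (hg₂ : Function.Surjective g₂) (hM : LinearMap.range f₁ = LinearMap.ker f₂) (hN : LinearMap.range g₁ = LinearMap.ker g₂) (htwo : (CycAlg.FinCoh R φ₁ ψ₁ ∧ CycAlg.FinCoh R φ₂ ψ₂) ∨ (CycAlg.FinCoh R φ₁ ψ₁ ∧ CycAlg.FinCoh R φ₃ ψ₃) ∨ (CycAlg.FinCoh R φ₂ ψ₂ ∧ CycAlg.FinCoh R φ₃ ψ₃)) : CycAlg.FinCoh R φ₁ ψ₁ ∧ CycAlg.FinCoh R φ₂ ψ₂ ∧ CycAlg.FinCoh R φ₃ ψ₃ ∧ CycAlg.herbrand R φ₂ ψ₂ = CycAlg.herbrand R φ₁ ψ₁ + CycAlg.herbrand R φ₃ ψ₃ := by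
  obtain ⟨δ, e2, e3⟩ := snake φ₁ ψ₁ φ₂ ψ₂ φ₃ ψ₃ f₁ g₁ f₂ g₂ cφ₁ cψ₁ cφ₂ cψ₂ h₁ h₂ h₃
    hf₁ hg₁ hf₂ hg₂ hM hN
  obtain ⟨δ', e5, e6⟩ := snake ψ₁ φ₁ ψ₂ φ₂ ψ₃ φ₃ g₁ f₁ g₂ f₂ cψ₁ cφ₁ cψ₂ cφ₂ ⟨h₁.2, h₁.1⟩
    ⟨h₂.2, h₂.1⟩ ⟨h₃.2, h₃.1⟩ hg₁ hf₁ hg₂ hf₂ hN hM
  have e1 := exact_mid φ₁ ψ₁ φ₂ ψ₂ φ₃ ψ₃ f₁ g₁ f₂ g₂ cφ₁ cψ₁ cφ₂ cψ₂ h₂ hg₁ hg₂ hM
  have e4 := exact_mid ψ₁ φ₁ ψ₂ φ₂ ψ₃ φ₃ g₁ f₁ g₂ f₂ cψ₁ cφ₁ cψ₂ cφ₂ ⟨h₂.2, h₂.1⟩ hf₁ hf₂ hN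
  have hex := hexagon _ _ δ _ _ δ' e1 e2 e3 e4 e5 e6
  have l1 := length_le_of_exact _ _ e1
  have l2 := length_le_of_exact _ _ e2
  have l3 := length_le_of_exact _ _ e3
  have l4 := length_le_of_exact _ _ e4
  have l5 := length_le_of_exact _ _ e5
  have l6 := length_le_of_exact _ _ e6
  have hall : CycAlg.FinCoh R φ₁ ψ₁ ∧ CycAlg.FinCoh R φ₂ ψ₂ ∧ CycAlg.FinCoh R φ₃ ψ₃ := by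
    unfold CycAlg.FinCoh at htwo ⊢
    rcases htwo with ⟨⟨a1, a2⟩, ⟨b1, b2⟩⟩ | ⟨⟨a1, a2⟩, ⟨b1, b2⟩⟩ | ⟨⟨a1, a2⟩, ⟨b1, b2⟩⟩
    · exact ⟨⟨a1, a2⟩, ⟨b1, b2⟩, lt_of_le_of_lt l2 (WithTop.add_lt_top.mpr ⟨b1, a2⟩),
        lt_of_le_of_lt l5 (WithTop.add_lt_top.mpr ⟨b2, a1⟩)⟩
    · exact ⟨⟨a1, a2⟩, ⟨lt_of_le_of_lt l1 (WithTop.add_lt_top.mpr ⟨a1, b1⟩),
        lt_of_le_of_lt l4 (WithTop.add_lt_top.mpr ⟨a2, b2⟩)⟩, ⟨b1, b2⟩⟩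
    · exact ⟨⟨lt_of_le_of_lt l6 (WithTop.add_lt_top.mpr ⟨b2, a1⟩),
        lt_of_le_of_lt l3 (WithTop.add_lt_top.mpr ⟨b1, a2⟩)⟩, ⟨a1, a2⟩, ⟨b1, b2⟩⟩
  refine ⟨hall.1, hall.2.1, hall.2.2, ?_⟩
  obtain ⟨⟨a1, a2⟩, ⟨b1, b2⟩, ⟨c1, c2⟩⟩ := hall
  unfold CycAlg.herbrand
  obtain ⟨x1, hx1⟩ := ENat.ne_top_iff_exists.mp a1.ne
  obtain ⟨y1, hy1⟩ := ENat.ne_top_iff_exists.mp a2.ne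
  obtain ⟨x2, hx2⟩ := ENat.ne_top_iff_exists.mp b1.ne
  obtain ⟨y2, hy2⟩ := ENat.ne_top_iff_exists.mp b2.ne
  obtain ⟨x3, hx3⟩ := ENat.ne_top_iff_exists.mp c1.ne
  obtain ⟨y3, hy3⟩ := ENat.ne_top_iff_exists.mp c2.ne
  rw [← hx1, ← hy1, ← hx2, ← hy2, ← hx3, ← hy3] at hex ⊢
  simp only [ENat.toNat_coe]
  have h : x1 + x3 + y2 = x2 + y1 + y3 := by exact_mod_cast hex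
  omega

end Groth.Agent.S1869
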