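import Groth.Statements.S1870
import Mathlib
import Groth.Agent.Lib.Helper22Hexagon
import Groth.Agent.S1869

set_option autoImplicit false
universe u v
open CycAlg

namespace Groth.Agent.S1870

open Groth.Agent.Lib.Helper22.Hexagon Groth.Agent.Lib.Helper22.Herbrand

theorem finLen {R : Type u} [CommRing R] {X : Type v} [AddCommGroup X] [Module R X]
    (φ ψ : X →ₗ[R] X) (h : IsPeriodic φ ψ) (hX : Module.length R X < ⊤) :
    FinCoh R φ ψ ∧ herbrand R φ ψ = 0 := by
  have key : ∀ (φ ψ : X →ₗ[R] X), IsPeriodic φ ψ →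
      Module.length R (LinearMap.ker φ) =
        Module.length R (LinearMap.range ψ) + Module.length R (perH φ ψ) := by
    intro φ ψ h
    have hle : LinearMap.range ψ ≤ LinearMap.ker φ := by
      rintro _ ⟨n, rfl⟩
      exact LinearMap.congr_fun h.1 n
    rw [← (Submodule.submoduleOfEquivOfLe hle).length_eq]
    exact Module.length_eq_add_of_exact
      ((LinearMap.range ψ).submoduleOf (LinearMap.ker φ)).subtype
      ((LinearMap.range ψ).submoduleOf (LinearMap.ker φ)).mkQ
      (Submodule.injective_subtype _) (Submodule.mkQ_surjective _)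
      (LinearMap.exact_subtype_mkQ _)
  have rk : ∀ (φ : X →ₗ[R] X), Module.length R X =
      Module.length R (LinearMap.ker φ) + Module.length R (LinearMap.range φ) := by
    intro φ
    exact Module.length_eq_add_of_exact (LinearMap.ker φ).subtype φ.rangeRestrict
      (Submodule.injective_subtype _) φ.surjective_rangeRestrict
      (by
        rw [LinearMap.exact_iff, LinearMap.ker_rangeRestrict, Submodule.range_subtype])
  have k1 := key φ ψ h
  have k2 := key ψ φ ⟨h.2, h.1⟩
  have r1 := rk φ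
  have r2 := rk ψ
  have hkφ : Module.length R (LinearMap.ker φ) < ⊤ :=
    lt_of_le_of_lt (Module.length_le_of_injective (LinearMap.ker φ).subtype
      (Submodule.injective_subtype _)) hX
  have hkψ : Module.length R (LinearMap.ker ψ) < ⊤ :=
    lt_of_le_of_lt (Module.length_le_of_injective (LinearMap.ker ψ).subtype
      (Submodule.injective_subtype _)) hX
  have hrφ : Module.length R (LinearMap.range φ) < ⊤ :=
    lt_of_le_of_lt (Module.length_le_of_injective (LinearMap.range φ).subtype
      (Submodule.injective_subtype _)) hX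
  have hrψ : Module.length R (LinearMap.range ψ) < ⊤ :=
    lt_of_le_of_lt (Module.length_le_of_injective (LinearMap.range ψ).subtype
      (Submodule.injective_subtype _)) hX
  have h0 : Module.length R (perH φ ψ) < ⊤ :=
    lt_of_le_of_lt (Module.length_le_of_surjective
      ((LinearMap.range ψ).submoduleOf (LinearMap.ker φ)).mkQ (Submodule.mkQ_surjective _)) hkφ
  have h1 : Module.length R (perH ψ φ) < ⊤ :=
    lt_of_le_of_lt (Module.length_le_of_surjective
      ((LinearMap.range φ).submoduleOf (LinearMap.ker ψ)).mkQ (Submodule.mkQ_surjective _)) hkψ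
  refine ⟨⟨h0, h1⟩, ?_⟩
  unfold herbrand
  obtain ⟨a, ha⟩ := ENat.ne_top_iff_exists.mp h0.ne
  obtain ⟨b, hb⟩ := ENat.ne_top_iff_exists.mp h1.ne
  obtain ⟨c, hc⟩ := ENat.ne_top_iff_exists.mp hrφ.ne
  obtain ⟨d, hd⟩ := ENat.ne_top_iff_exists.mp hrψ.ne
  obtain ⟨e, he⟩ := ENat.ne_top_iff_exists.mp hkφ.ne
  obtain ⟨g, hg⟩ := ENat.ne_top_iff_exists.mp hkψ.ne
  obtain ⟨l, hl⟩ := ENat.ne_top_iff_exists.mp hX.ne
  rw [← ha, ← hd, ← he] at k1
  rw [← hb, ← hc, ← hg] at k2
  rw [← hl, ← he, ← hc] at r1
  rw [← hl, ← hg, ← hd] at r2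
  rw [← ha, ← hb]
  simp only [ENat.toNat_coe]
  have e1 : e = d + a := by exact_mod_cast k1
  have e2 : g = c + b := by exact_mod_cast k2
  have e3 : l = e + c := by exact_mod_cast r1
  have e4 : l = g + d := by exact_mod_cast r2
  omega

/-- A morphism of (2,1)-periodic complexes, both with finite-length cohomology, whose kernel and
cokernel have finite length does not change the additive Herbrand quotient: e_R(M, φ, ψ) = e_R(M',
φ', ψ'). -/
theorem result {R : Type u} [CommRing R] {M M' : Type v} [AddCommGroup M] [Module R M] [AddCommGroup M'] [Module R M'] (φ ψ : M →ₗ[R] M) (φ' ψ' : M' →ₗ[R] M') (h : CycAlg.IsPeriodic φ ψ) (h' : CycAlg.IsPeriodic φ' ψ') (f : M →ₗ[R] M') (cφ : φ' ∘ₗ f = f ∘ₗ φ) (cψ : ψ' ∘ₗ f = f ∘ₗ ψ) (hfin : CycAlg.FinCoh R φ ψ) (hfin' : CycAlg.FinCoh R φ' ψ') (hker : Module.length R (LinearMap.ker f) < ⊤) (hcoker : Module.length R (M' ⧸ LinearMap.range f) < ⊤) : CycAlg.herbrand R φ ψ = CycAlg.herbrand R φ' ψ' := by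
  have hKφ : ∀ x ∈ LinearMap.ker f, φ x ∈ LinearMap.ker f := by
    intro x hx
    rw [LinearMap.mem_ker] at hx ⊢
    have := LinearMap.congr_fun cφ x
    rw [LinearMap.comp_apply, LinearMap.comp_apply, hx, map_zero] at this
    exact this.symm
  have hKψ : ∀ x ∈ LinearMap.ker f, ψ x ∈ LinearMap.ker f := by
    intro x hx
    rw [LinearMap.mem_ker] at hx ⊢
    have := LinearMap.congr_fun cψ x
    rw [LinearMap.comp_apply, LinearMap.comp_apply, hx, map_zero] at this
    exact this.symm
  have hIφ : ∀ y ∈ LinearMap.range f, φ' y ∈ LinearMap.range f := by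
    rintro _ ⟨x, rfl⟩
    exact ⟨φ x, (LinearMap.congr_fun cφ x).symm⟩
  have hIψ : ∀ y ∈ LinearMap.range f, ψ' y ∈ LinearMap.range f := by
    rintro _ ⟨x, rfl⟩
    exact ⟨ψ x, (LinearMap.congr_fun cψ x).symm⟩
  let φK : LinearMap.ker f →ₗ[R] LinearMap.ker f := φ.restrict hKφ
  let ψK : LinearMap.ker f →ₗ[R] LinearMap.ker f := ψ.restrict hKψ
  let φI : LinearMap.range f →ₗ[R] LinearMap.range f := φ'.restrict hIφ
  let ψI : LinearMap.range f →ₗ[R] LinearMap.range f := ψ'.restrict hIψ
  let φQ : (M' ⧸ LinearMap.range f) →ₗ[R] (M' ⧸ LinearMap.range f) :=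
    (LinearMap.range f).mapQ (LinearMap.range f) φ' hIφ
  let ψQ : (M' ⧸ LinearMap.range f) →ₗ[R] (M' ⧸ LinearMap.range f) :=
    (LinearMap.range f).mapQ (LinearMap.range f) ψ' hIψ
  have pK : IsPeriodic φK ψK := by
    constructor
    · apply LinearMap.ext; intro x; apply Subtype.ext
      exact LinearMap.congr_fun h.1 x
    · apply LinearMap.ext; intro x; apply Subtype.ext
      exact LinearMap.congr_fun h.2 x
  have pI : IsPeriodic φI ψI := by
    constructor
    · apply LinearMap.ext; intro x; apply Subtype.ext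
      exact LinearMap.congr_fun h'.1 x
    · apply LinearMap.ext; intro x; apply Subtype.ext
      exact LinearMap.congr_fun h'.2 x
  have pQ : IsPeriodic φQ ψQ := by
    constructor
    · apply LinearMap.ext; intro y
      obtain ⟨x, rfl⟩ := Submodule.Quotient.mk_surjective _ y
      exact congrArg Submodule.Quotient.mk (LinearMap.congr_fun h'.1 x)
    · apply LinearMap.ext; intro y
      obtain ⟨x, rfl⟩ := Submodule.Quotient.mk_surjective _ y
      exact congrArg Submodule.Quotient.mk (LinearMap.congr_fun h'.2 x)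
  obtain ⟨fK, hK0⟩ := finLen φK ψK pK hker
  obtain ⟨fQ, hQ0⟩ := finLen φQ ψQ pQ hcoker
  have hexK : LinearMap.range (LinearMap.ker f).subtype = LinearMap.ker f.rangeRestrict := by
    rw [Submodule.range_subtype, LinearMap.ker_rangeRestrict]
  have hexI : LinearMap.range (LinearMap.range f).subtype = LinearMap.ker (LinearMap.range f).mkQ := by
    rw [Submodule.range_subtype, Submodule.ker_mkQ]
  have cI1 : φI ∘ₗ f.rangeRestrict = f.rangeRestrict ∘ₗ φ := by
    apply LinearMap.ext; intro x; apply Subtype.ext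
    exact LinearMap.congr_fun cφ x
  have cI2 : ψI ∘ₗ f.rangeRestrict = f.rangeRestrict ∘ₗ ψ := by
    apply LinearMap.ext; intro x; apply Subtype.ext
    exact LinearMap.congr_fun cψ x
  obtain ⟨-, -, fI, e1⟩ := Groth.Agent.S1869.result φK ψK φ ψ φI ψI pK h pI
    (LinearMap.ker f).subtype (LinearMap.ker f).subtype f.rangeRestrict f.rangeRestrict
    rfl rfl cI1 cI2 (Submodule.injective_subtype _) (Submodule.injective_subtype _)
    f.surjective_rangeRestrict f.surjective_rangeRestrict hexK hexK (Or.inl ⟨fK, hfin⟩)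
  obtain ⟨-, -, -, e2⟩ := Groth.Agent.S1869.result φI ψI φ' ψ' φQ ψQ pI h' pQ
    (LinearMap.range f).subtype (LinearMap.range f).subtype (LinearMap.range f).mkQ
    (LinearMap.range f).mkQ rfl rfl rfl rfl (Submodule.injective_subtype _)
    (Submodule.injective_subtype _) (Submodule.mkQ_surjective _) (Submodule.mkQ_surjective _)
    hexI hexI (Or.inl ⟨fI, hfin'⟩)
  rw [e1, e2, hK0, hQ0, zero_add, add_zero]

end Groth.Agent.S1870
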