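import Groth.Statements.S18704
import Groth.Agent.Lib.Helper28Reflexive
-- import your own Groth.Agent.* helpers here

set_option autoImplicit false
universe u
open QGor

namespace Groth.Agent.S18704

open Groth.Agent.Lib.Helper28

/-- Affine form. Let A be a Noetherian ring with Serre's condition (S_2), I an ideal with ht I ≥ 2
(every prime containing I has height ≥ 2), and G a finite A-module with G_p reflexive for every
prime p not containing I. Then the following are equivalent: (i) G has (S_2) and dim Supp(G_p) ≥ 2
for every prime p ⊇ I in Supp G; (ii) depth_I G ≥ 2; (iii) G is reflexive. -/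
theorem result (A : Type u) [CommRing A] [IsNoetherianRing A]
    (hA : LocCoh.HasSk 2 A A) (I : Ideal A) (hI : 2 ≤ I.height)
    (G : Type u) [AddCommGroup G] [Module A G] [Module.Finite A G]
    (hU : ∀ p : PrimeSpectrum A, ¬ I ≤ p.asIdeal →
      Module.IsReflexive (Localization.AtPrime p.asIdeal) (LocalizedModule p.asIdeal.primeCompl G)) :
    ((LocCoh.HasSk 2 A G ∧ ∀ p : PrimeSpectrum A, I ≤ p.asIdeal → p ∈ Module.support A G →
        (2 : WithBot ℕ∞) ≤ Module.supportDim (Localization.AtPrime p.asIdeal) (LocalizedModule p.asIdeal.primeCompl G)) ↔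
      2 ≤ LocCoh.idealDepth I G) ∧
    (2 ≤ LocCoh.idealDepth I G ↔ Module.IsReflexive A G) := by
  -- depth_I A ≥ 2
  have hAI : 2 ≤ LocCoh.idealDepth I A := by
    have := le_idealDepth_of_hasSk (I := I) (M := A) 2 hA ?_
    · simpa using this
    intro p hIp _
    rw [Module.supportDim_eq_of_equiv (localizedModuleSelfEquiv p.asIdeal),
      supportDim_localization_self]
    have h1 : I.height ≤ p.asIdeal.height := Ideal.height_mono hIp
    have h2 : (2 : ℕ∞) ≤ p.asIdeal.height := hI.trans h1
    exact WithBot.coe_le_coe.mpr h2
  have hb : 2 ≤ LocCoh.idealDepth I G ↔ Module.IsReflexive A G := by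
    constructor
    · intro hG
      exact isReflexive_of_idealDepth_two I (le_trans (by norm_num) hAI) G
        (fun p hp h => hU ⟨p, hp⟩ h) hG
    · intro hR
      rw [idealDepth_congr (Module.evalEquiv A G) I]
      exact two_le_idealDepth_dual I _ hAI
  refine ⟨⟨?_, ?_⟩, hb⟩
  · rintro ⟨hS, hdim⟩
    have := le_idealDepth_of_hasSk (I := I) (M := G) 2 hS (fun p hp hsupp => by
      simpa using hdim p hp hsupp)
    simpa using this
  · intro hG
    have := hb.mp hG
    refine ⟨hasSk_two_of_isReflexive G hA, ?_⟩
    intro p hIp hsupp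
    refine le_trans ?_ (idealDepth_le_supportDim_localization G I p hIp hsupp)
    exact WithBot.coe_le_coe.mpr hG

end Groth.Agent.S18704
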