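import Groth.Statements.S18709
import Mathlib
-- import your own Groth.Agent.* helpers here

set_option autoImplicit false
set_option linter.style.haveILetI false
set_option linter.unusedSectionVars false
universe u
open QGor

namespace Groth.Agent.S18709

open Matrix

section linalg

variable {B : Type u} [CommRing B]

/-- the transpose of a linear map between finite free modules. -/
noncomputable def tr {a b : ℕ} (f : (Fin a → B) →ₗ[B] (Fin b → B)) : (Fin b → B) →ₗ[B] (Fin a → B) :=
  Matrix.toLin' (LinearMap.toMatrix' f)ᵀ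

theorem tr_comp {a b c : ℕ} (f : (Fin b → B) →ₗ[B] (Fin c → B)) (g : (Fin a → B) →ₗ[B] (Fin b → B)) :
    tr (f ∘ₗ g) = tr g ∘ₗ tr f := by
  unfold tr
  rw [LinearMap.toMatrix'_comp, Matrix.transpose_mul, Matrix.toLin'_mul]

theorem tr_smul {a b : ℕ} (s : B) (f : (Fin a → B) →ₗ[B] (Fin b → B)) :
    tr (s • f) = s • tr f := by
  unfold tr
  rw [map_smul, Matrix.transpose_smul, map_smul]

theorem tr_dot {a b : ℕ} (f : (Fin a → B) →ₗ[B] (Fin b → B)) (v : Fin b → B) (u : Fin a → B) :
    tr f v ⬝ᵥ u = v ⬝ᵥ f u := by
  unfold tr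
  rw [Matrix.toLin'_apply, Matrix.mulVec_transpose, ← Matrix.dotProduct_mulVec,
    ← Matrix.toLin'_apply, Matrix.toLin'_toMatrix']

theorem eq_zero_of_dot {a : ℕ} (v : Fin a → B) (h : ∀ u : Fin a → B, v ⬝ᵥ u = 0) : v = 0 := by
  funext j
  have := h (Pi.single j 1)
  rwa [dotProduct_single, mul_one] at this

end linalg

theorem four_term {B : Type u} [CommRing B] {F : Type u} [AddCommGroup F] [Module B F]
    [Module.IsReflexive B F] {n m : ℕ} (φ : (Fin n → B) →ₗ[B] Module.Dual B F)
    (ψ : (Fin m → B) →ₗ[B] (Fin n → B))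
    (hφ : Function.Surjective φ) (hex : Function.Exact ψ φ) :
    ∃ g : F →ₗ[B] (Fin n → B), Function.Injective g ∧ Function.Exact g (tr ψ) := by
  classical
  let g : F →ₗ[B] (Fin n → B) := LinearMap.pi (fun i => φ (Pi.single i 1))
  have K1 : ∀ (w : Fin n → B) (x : F), φ w x = w ⬝ᵥ g x := by
    intro w x
    have hw : w = ∑ i, w i • (Pi.single i (1:B) : Fin n → B) := by
      funext j
      simp [Finset.sum_apply, Pi.single_apply]
    conv_lhs => rw [hw]
    rw [map_sum, LinearMap.sum_apply]
    simp only [map_smul, LinearMap.smul_apply, dotProduct, g, LinearMap.pi_apply, smul_eq_mul]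
  refine ⟨g, ?_, ?_⟩
  · rw [injective_iff_map_eq_zero]
    intro x hx
    apply (Module.bijective_dual_eval B F).injective
    rw [map_zero]
    ext l
    obtain ⟨w, rfl⟩ := hφ l
    rw [Module.Dual.eval_apply, K1, hx, dotProduct_zero]
    rfl
  · intro v
    constructor
    · intro hv
      let ℓ : (Fin n → B) →ₗ[B] B := ∑ i, v i • LinearMap.proj i
      have hℓ : ∀ w, ℓ w = v ⬝ᵥ w := by
        intro w
        simp [ℓ, dotProduct]
      have hle : LinearMap.ker φ ≤ LinearMap.ker ℓ := by
        intro w hw
        obtain ⟨u, rfl⟩ := (hex w).mp hw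
        rw [LinearMap.mem_ker, hℓ, ← tr_dot, hv, zero_dotProduct]
      let Λ : Module.Dual B F →ₗ[B] B :=
        ((LinearMap.ker φ).liftQ ℓ hle) ∘ₗ (φ.quotKerEquivOfSurjective hφ).symm.toLinearMap
      have hΛ : ∀ w, Λ (φ w) = ℓ w := by
        intro w
        have : (φ.quotKerEquivOfSurjective hφ).symm (φ w) = Submodule.Quotient.mk w := by
          rw [LinearEquiv.symm_apply_eq]
          rfl
        simp only [Λ, LinearMap.comp_apply, LinearEquiv.coe_coe, this, Submodule.liftQ_apply]
      obtain ⟨x, hx⟩ := (Module.bijective_dual_eval B F).surjective Λ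
      refine ⟨x, ?_⟩
      funext i
      have h1 := K1 (Pi.single i 1) x
      rw [single_dotProduct, one_mul] at h1
      rw [← h1, ← Module.Dual.eval_apply, hx, hΛ, hℓ, dotProduct_single, mul_one]
    · rintro ⟨x, rfl⟩
      apply eq_zero_of_dot
      intro u
      rw [tr_dot, dotProduct_comm, ← K1, hex.apply_apply_eq_zero]
      rfl

theorem free_localized_coker {B : Type u} [CommRing B] (P : Ideal B) [P.IsPrime] {n m : ℕ}
    (h : (Fin n → B) →ₗ[B] (Fin m → B)) (t : (Fin m → B) →ₗ[B] (Fin n → B)) (s : B)
    (hs : s ∈ P.primeCompl) (hth : h ∘ₗ t ∘ₗ h = s • h) :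
    Module.Free (Localization.AtPrime P)
      (LocalizedModule P.primeCompl ((Fin m → B) ⧸ LinearMap.range h)) := by
  let e' : (Fin m → B) →ₗ[B] (Fin m → B) := s • LinearMap.id - h ∘ₗ t
  have hle : LinearMap.range h ≤ LinearMap.ker e' := by
    rintro _ ⟨w, rfl⟩
    rw [LinearMap.mem_ker]
    have := LinearMap.congr_fun hth w
    simp only [e', LinearMap.sub_apply, LinearMap.smul_apply, LinearMap.id_apply,
      LinearMap.comp_apply] at this ⊢
    rw [this, sub_self]
  let ebar := (LinearMap.range h).liftQ e' hle
  have hmk : ∀ x, (LinearMap.range h).mkQ (ebar x) = s • x := by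
    intro x
    obtain ⟨v, rfl⟩ := (LinearMap.range h).mkQ_surjective x
    simp only [ebar, Submodule.mkQ_apply, Submodule.liftQ_apply, e', LinearMap.sub_apply,
      LinearMap.smul_apply, LinearMap.id_apply, LinearMap.comp_apply]
    rw [Submodule.Quotient.mk_sub, Submodule.Quotient.mk_smul,
      (Submodule.Quotient.mk_eq_zero (LinearMap.range h)).mpr (LinearMap.mem_range_self h (t v)),
      sub_zero]
  have hu : IsUnit (algebraMap B (Localization.AtPrime P) s) :=
    IsLocalization.map_units _ (⟨s, hs⟩ : P.primeCompl)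
  let i : LocalizedModule P.primeCompl ((Fin m → B) ⧸ LinearMap.range h) →ₗ[Localization.AtPrime P]
      LocalizedModule P.primeCompl (Fin m → B) :=
    ((hu.unit⁻¹ : (Localization.AtPrime P)ˣ) : Localization.AtPrime P) •
      LocalizedModule.map P.primeCompl ebar
  let π := LocalizedModule.map P.primeCompl (LinearMap.range h).mkQ
  have hπi : π ∘ₗ i = LinearMap.id := by
    ext z
    induction z using LocalizedModule.induction_on with | _ x r
    simp only [i, π, LinearMap.comp_apply, LinearMap.smul_apply, LocalizedModule.map_mk,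
      map_smul, hmk, LinearMap.id_apply]
    rw [← LocalizedModule.smul'_mk, ← algebraMap_smul (Localization.AtPrime P) s, smul_smul,
      IsUnit.val_inv_mul, one_smul]
  haveI : Module.Projective (Localization.AtPrime P)
      (LocalizedModule P.primeCompl ((Fin m → B) ⧸ LinearMap.range h)) :=
    Module.Projective.of_split i π hπi
  exact Module.free_of_flat_of_isLocalRing

theorem projective_localized_dual {B : Type u} [CommRing B] [IsNoetherianRing B] (P : Ideal B)
    [P.IsPrime] (F : Type u) [AddCommGroup F] [Module B F] [Module.Finite B F]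
    (hfree : Module.Free (Localization.AtPrime P) (LocalizedModule P.primeCompl F)) :
    Module.Projective (Localization.AtPrime P)
      (LocalizedModule P.primeCompl (Module.Dual B F)) := by
  haveI : Module.FinitePresentation B F := Module.finitePresentation_of_finite B F
  let e₁ := IsLocalizedModule.iso P.primeCompl
    (LocalizedModule.map P.primeCompl (M := F) (N := B))
  let e₂ := e₁.extendScalarsOfIsLocalization P.primeCompl (Localization.AtPrime P)
  haveI : Module.Free (Localization.AtPrime P) (LocalizedModule P.primeCompl B) :=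
    Module.free_of_isLocalizedModule P.primeCompl (LocalizedModule.mkLinearMap P.primeCompl B)
  haveI : Module.Free (Localization.AtPrime P)
      (LocalizedModule P.primeCompl F →ₗ[Localization.AtPrime P] LocalizedModule P.primeCompl B) :=
    inferInstance
  haveI := Module.Free.of_equiv e₂.symm
  infer_instance

theorem exists_gen_inverse {B : Type u} [CommRing B] [IsNoetherianRing B] (P : Ideal B)
    [P.IsPrime] {D : Type u} [AddCommGroup D] [Module B D] [Module.Finite B D]
    (hproj : Module.Projective (Localization.AtPrime P) (LocalizedModule P.primeCompl D))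
    {n m : ℕ} (φ : (Fin n → B) →ₗ[B] D) (ψ : (Fin m → B) →ₗ[B] (Fin n → B))
    (hφ : Function.Surjective φ) (hex : Function.Exact ψ φ) :
    ∃ (θ : (Fin n → B) →ₗ[B] (Fin m → B)) (s : B), s ∈ P.primeCompl ∧ ψ ∘ₗ θ ∘ₗ ψ = s • ψ := by
  haveI : Module.FinitePresentation B D := Module.finitePresentation_of_finite B D
  obtain ⟨σ, hσ⟩ := Module.projective_lifting_property (LocalizedModule.map P.primeCompl φ)
    LinearMap.id (LocalizedModule.map_surjective _ φ hφ)
  obtain ⟨σ₀, s₁, h1⟩ := Module.FinitePresentation.exists_lift_of_isLocalizedModule P.primeCompl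
    (LocalizedModule.mkLinearMap P.primeCompl (Fin n → B))
    ((σ.restrictScalars B) ∘ₗ LocalizedModule.mkLinearMap P.primeCompl D)
  have h2 : (LocalizedModule.mkLinearMap P.primeCompl D) ∘ₗ (φ ∘ₗ σ₀) =
      (LocalizedModule.mkLinearMap P.primeCompl D) ∘ₗ ((s₁ : B) • LinearMap.id) := by
    ext x
    have h := LinearMap.congr_fun h1 x
    simp only [LinearMap.comp_apply, LocalizedModule.mkLinearMap_apply, LinearMap.smul_apply,
      LinearMap.coe_restrictScalars, LinearMap.id_apply, Submonoid.smul_def] at h ⊢
    rw [← LocalizedModule.map_mk P.primeCompl φ, h, LinearMap.map_smul_of_tower]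
    have h' := LinearMap.congr_fun hσ (LocalizedModule.mk x 1)
    simp only [LinearMap.comp_apply, LinearMap.id_apply] at h'
    rw [h', LocalizedModule.smul'_mk]
  obtain ⟨s₂, h3⟩ := Module.Finite.exists_smul_of_comp_eq_of_isLocalizedModule P.primeCompl
    (LocalizedModule.mkLinearMap P.primeCompl D) _ _ h2
  have hφσ : ∀ x, φ (((s₂ : B) • σ₀) x) = ((s₂ : B) * (s₁ : B)) • x := by
    intro x
    have h := LinearMap.congr_fun h3 x
    simp only [LinearMap.smul_apply, LinearMap.comp_apply, LinearMap.id_apply,
      Submonoid.smul_def] at h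
    rw [LinearMap.smul_apply, map_smul, h, smul_smul]
  let ρ : (Fin n → B) →ₗ[B] (Fin n → B) :=
    ((s₂ : B) * (s₁ : B)) • LinearMap.id - ((s₂ : B) • σ₀) ∘ₗ φ
  have hρ : ∀ w, ρ w ∈ LinearMap.range ψ := by
    intro w
    apply (hex _).mp
    simp only [ρ, LinearMap.sub_apply, LinearMap.smul_apply, LinearMap.id_apply,
      LinearMap.comp_apply, map_sub, map_smul]
    have := hφσ (φ w)
    simp only [LinearMap.smul_apply, map_smul] at this
    rw [this, sub_self]
  obtain ⟨θ, hθ⟩ := Module.projective_lifting_property ψ.rangeRestrict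
    (ρ.codRestrict (LinearMap.range ψ) hρ) ψ.surjective_rangeRestrict
  have hθ' : ∀ w, ψ (θ w) = ρ w := fun w =>
    congrArg Subtype.val (LinearMap.congr_fun hθ w)
  refine ⟨θ, (s₂ : B) * (s₁ : B), (s₂ * s₁).2, ?_⟩
  refine LinearMap.ext fun u => ?_
  rw [LinearMap.comp_apply, LinearMap.comp_apply, LinearMap.smul_apply, hθ']
  simp only [ρ, LinearMap.sub_apply, LinearMap.smul_apply, LinearMap.id_apply,
    LinearMap.comp_apply]
  rw [hex.apply_apply_eq_zero, map_zero, smul_zero, sub_zero]


/-- Affine form; the flatness and depth hypotheses of the printed lemma only serve to place the sequence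
in the situation of the key proposition and are not needed for the existence. Let B be a Noetherian
ring, J an ideal and F a finite reflexive B-module with F_q free for every prime q not containing J.
Then there is an exact sequence 0 → F → Bⁿ → Bᵐ → G → 0 with G_q free for every prime q not
containing J. -/
theorem result (B : Type u) [CommRing B] [IsNoetherianRing B]
    (J : Ideal B) (F : Type u) [AddCommGroup F] [Module B F] [Module.Finite B F] [Module.IsReflexive B F]
    (hU : ∀ q : PrimeSpectrum B, ¬ J ≤ q.asIdeal →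
      Module.Free (Localization.AtPrime q.asIdeal) (LocalizedModule q.asIdeal.primeCompl F)) :
    ∃ (n m : ℕ) (g : F →ₗ[B] (Fin n → B)) (h : (Fin n → B) →ₗ[B] (Fin m → B)),
      Function.Injective g ∧ Function.Exact g h ∧
      ∀ q : PrimeSpectrum B, ¬ J ≤ q.asIdeal →
        Module.Free (Localization.AtPrime q.asIdeal)
          (LocalizedModule q.asIdeal.primeCompl ((Fin m → B) ⧸ LinearMap.range h)) := by
  haveI : Module.Finite B (Module.Dual B F) := inferInstance
  haveI : Module.FinitePresentation B (Module.Dual B F) :=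
    Module.finitePresentation_of_finite B _
  obtain ⟨n, m, φ, ψ, hφ, hex⟩ := Module.FinitePresentation.exists_fin' B (Module.Dual B F)
  obtain ⟨g, hg, hgex⟩ := four_term φ ψ hφ hex
  refine ⟨n, m, g, tr ψ, hg, hgex, fun q hq => ?_⟩
  have hproj := projective_localized_dual q.asIdeal F (hU q hq)
  obtain ⟨θ, s, hs, hθ⟩ := exists_gen_inverse q.asIdeal hproj φ ψ hφ hex
  apply free_localized_coker q.asIdeal (tr ψ) (tr θ) s hs
  rw [← tr_comp, ← tr_comp, ← tr_smul, LinearMap.comp_assoc, hθ]

end Groth.Agent.S18709
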