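import Groth.Statements.S1871
import Groth.Agent.Lib.Helper2IntMultLoc
import Groth.Agent.Lib.Helper2DiagAlg
import Groth.Agent.Lib.Helper4VarDim2

set_option autoImplicit false
universe u
open CategoryTheory AlgebraicGeometry
attribute [local instance] HasDerivedCategory.standard
open IntMult

namespace Groth.Agent.S1871

/-- Positivity of intersection multiplicities. Let X be a nonsingular variety of dimension n over an
algebraically closed field K (X integral, smooth, separated and quasi-compact over K), and V, W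
integral closed subschemes of X, given by quasi-coherent ideal sheaves, of dimensions r and s, which
intersect properly (if V ∩ W is nonempty then n ≤ r + s and dim(V ∩ W) ≤ r + s − n). Let ξ be the
generic point of an irreducible component Z of V ∩ W, i.e. a point of V ∩ W such that every point of
V ∩ W specializing to ξ equals ξ. Then the intersection multiplicity e(X, V·W, Z) = ∑_i (−1)^i
length_{O_{X,ξ}} Tor_i^{O_{X,ξ}}(O_{X,ξ}/I_{W,ξ}, O_{X,ξ}/I_{V,ξ}) is positive. -/
theorem result (K : Type u) [Field K] [IsAlgClosed K] (X : Scheme.{u}) (f : X ⟶ Spec (CommRingCat.of K)) [Smooth f] [IsSeparated f] [QuasiCompact f] [IsIntegral X] (IV IW : X.IdealSheafData) [IsIntegral IV.subscheme] [IsIntegral IW.subscheme] (n r s : ℕ) (hn : topologicalKrullDim X = n) (hr : topologicalKrullDim IV.support = r) (hs : topologicalKrullDim IW.support = s) (hprop : IntMult.ProperInt (IV.support : Set X) (IW.support : Set X) n r s) (ξ : X) (hξV : ξ ∈ IV.support) (hξW : ξ ∈ IW.support) (hmax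 : ∀ ξ' : X, ξ' ∈ IV.support → ξ' ∈ IW.support → ξ' ⤳ ξ → ξ' = ξ) : 0 < IntMult.mult IV IW ξ := by
  classical
  haveI : LocallyOfFiniteType f := inferInstance
  obtain ⟨hN, hFLI, d, bV, bW, hd, hbV, hbW, hle⟩ :=
    Groth.Agent.Lib.Helper2.IntMultLoc.core K X f IV IW n r s hn hr hs hprop ξ hξV hξW hmax
  obtain ⟨U, hU, hξU, -⟩ := exists_isAffineOpen_mem_and_subset (U := ⊤) (x := ξ) trivial
  letI : X.Over (Spec (CommRingCat.of K)) := ⟨f⟩
  letI algKA : Algebra K Γ(X, U) := Groth.Agent.Lib.Helper4.VarDim.sectionsAlgebra K X U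
  have hsm : ((Scheme.ΓSpecIso (CommRingCat.of K)).inv ≫ f.appLE ⊤ U le_top).hom.Smooth := by
    rw [CommRingCat.hom_comp]
    exact RingHom.Smooth.comp
      (RingHom.Smooth.of_bijective
        (ConcreteCategory.bijective_of_isIso (Scheme.ΓSpecIso (CommRingCat.of K)).inv))
      (Smooth.smooth_appLE f (isAffineOpen_top (Spec (CommRingCat.of K))) hU
        (show U ≤ f ⁻¹ᵁ ⊤ from le_top))
  haveI : Algebra.Smooth K Γ(X, U) := RingHom.smooth_algebraMap.mp hsm
  haveI : Nonempty U := ⟨⟨ξ, hξU⟩⟩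
  haveI : IsDomain Γ(X, U) := inferInstance
  letI := TopCat.Presheaf.algebra_section_stalk X.presheaf ⟨ξ, hξU⟩
  haveI := hU.isLocalization_stalk ⟨ξ, hξU⟩
  set P : Ideal Γ(X, U) := (hU.primeIdealOf ⟨ξ, hξU⟩).asIdeal with hP
  haveI hpV : (IntMult.stalkIdeal IV ξ).IsPrime :=
    Groth.Agent.Lib.Helper2.IntMultLoc.isPrime_stalkIdeal IV ξ hξV
  haveI hpW : (IntMult.stalkIdeal IW ξ).IsPrime :=
    Groth.Agent.Lib.Helper2.IntMultLoc.isPrime_stalkIdeal IW ξ hξW
  set a₀ : Ideal Γ(X, U) :=
    (IntMult.stalkIdeal IV ξ).comap (algebraMap Γ(X, U) (X.presheaf.stalk ξ)) with ha₀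
  set b₀ : Ideal Γ(X, U) :=
    (IntMult.stalkIdeal IW ξ).comap (algebraMap Γ(X, U) (X.presheaf.stalk ξ)) with hb₀
  have hmapa : a₀.map (algebraMap Γ(X, U) (X.presheaf.stalk ξ)) = IntMult.stalkIdeal IV ξ :=
    IsLocalization.map_comap P.primeCompl _ _
  have hmapb : b₀.map (algebraMap Γ(X, U) (X.presheaf.stalk ξ)) = IntMult.stalkIdeal IW ξ :=
    IsLocalization.map_comap P.primeCompl _ _
  have hPmax : (IsLocalRing.maximalIdeal (X.presheaf.stalk ξ)).comap
      (algebraMap Γ(X, U) (X.presheaf.stalk ξ)) = P :=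
    IsLocalization.AtPrime.comap_maximalIdeal (X.presheaf.stalk ξ) P
  have haP : a₀ ≤ P := by
    rw [← hPmax]
    exact Ideal.comap_mono
      (Groth.Agent.Lib.Helper2.IntMultLoc.stalkIdeal_le_maximalIdeal IV ξ hξV)
  have hbP : b₀ ≤ P := by
    rw [← hPmax]
    exact Ideal.comap_mono
      (Groth.Agent.Lib.Helper2.IntMultLoc.stalkIdeal_le_maximalIdeal IW ξ hξW)
  have hpos := Groth.Agent.Lib.Helper2.DiagAlg.chi_pos K Γ(X, U) P (X.presheaf.stalk ξ) a₀ b₀
    haP hbP
    (fun Q hQ h1 h2 => by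
      haveI := hQ
      rw [hmapa] at h1
      rw [hmapb] at h2
      exact Groth.Agent.Lib.Helper2.IntMultLoc.isMaximal_of_hmax IV IW ξ hmax Q h1 h2)
    (by
      rw [hmapa, hmapb, hd, hbV, hbW]
      exact_mod_cast hle)
  rw [hmapa, hmapb] at hpos
  exact hpos

end Groth.Agent.S1871
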