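import Groth.Statements.S18710
import Groth.Agent.Lib.Helper28DepthBC
import Mathlib.RingTheory.Ideal.KrullsHeightTheorem
import Mathlib.RingTheory.Ideal.GoingDown
-- import your own Groth.Agent.* helpers here

set_option autoImplicit false
universe u
open QGor

namespace Groth.Agent.S18710

open Groth.Agent.Lib.Helper28 TensorProduct
theorem height_map_eq (A B : Type u) [CommRing A] [CommRing B]
    [IsNoetherianRing A] [IsNoetherianRing B] [Algebra A B] [Module.Flat A B] (I : Ideal A)
    (hI : ∀ p : PrimeSpectrum A, I ≤ p.asIdeal → ∃ q : PrimeSpectrum B, q.asIdeal.comap (algebraMap A B) = p.asIdeal) :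
    (I.map (algebraMap A B)).height = I.height := by
  apply le_antisymm
  · -- `ht(IB) ≤ ht(I)`
    rw [Ideal.height_eq_inf_minimalPrimes I]
    refine le_iInf₂ fun p hp => ?_
    have hpp : p.IsPrime := hp.1.1
    obtain ⟨q, hq⟩ := hI ⟨p, hpp⟩ hp.1.2
    have hpq : p.map (algebraMap A B) ≤ q.asIdeal := by
      rw [Ideal.map_le_iff_le_comap, hq]
    obtain ⟨Q, hQ, hQq⟩ := Ideal.exists_minimalPrimes_le hpq
    have hQp : Q.IsPrime := hQ.1.1
    have hQover : Q.LiesOver p := by
      refine ⟨le_antisymm ?_ ?_⟩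
      · rw [Ideal.under_def, ← Ideal.map_le_iff_le_comap]; exact hQ.1.2
      · rw [Ideal.under_def]
        calc Q.comap (algebraMap A B) ≤ q.asIdeal.comap (algebraMap A B) := Ideal.comap_mono hQq
          _ = p := hq
    have h1 := Ideal.height_le_height_add_of_liesOver p Q
    have h2 : (Q.map (Ideal.Quotient.mk (p.map (algebraMap A B)))).height = 0 := by
      have hQ' := hQ
      rw [Ideal.minimalPrimes_eq_comap] at hQ'
      obtain ⟨Q', hQ'min, rfl⟩ := hQ'
      rw [Ideal.map_comap_of_surjective _ Ideal.Quotient.mk_surjective]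
      have : Q'.IsPrime := hQ'min.1.1
      rw [Ideal.height_eq_zero_iff]
      exact hQ'min
    rw [h2, add_zero] at h1
    exact (Ideal.height_mono ((Ideal.map_mono hp.1.2).trans hQ.1.2)).trans h1
  · rw [Ideal.height_eq_inf_minimalPrimes (I.map (algebraMap A B))]
    refine le_iInf₂ fun Q hQ => ?_
    have hQp : Q.IsPrime := hQ.1.1
    have : (Q.under A).IsPrime := Ideal.IsPrime.under A Q
    have h1 := Ideal.height_eq_height_add_of_liesOver_of_hasGoingDown (Q.under A) Q
    have h2 : I ≤ Q.under A := by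
      rw [Ideal.under_def, ← Ideal.map_le_iff_le_comap]; exact hQ.1.2
    calc I.height ≤ (Q.under A).height := Ideal.height_mono h2
      _ ≤ Q.height := by rw [h1]; exact le_self_add

section Aux
variable {A B : Type u} [CommRing A] [CommRing B] [Algebra A B]

/-- (a): if `IM ≠ M` for a finite module `M` and `V(I)` lies in the image of `Spec B`, then
`IB(B ⊗ M) ≠ B ⊗ M`. -/
theorem map_smul_top_ne_top_of_image (I : Ideal A)
    (hI : ∀ p : PrimeSpectrum A, I ≤ p.asIdeal → ∃ q : PrimeSpectrum B, q.asIdeal.comap (algebraMap A B) = p.asIdeal)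
    (M : Type u) [AddCommGroup M] [Module A M] [Module.Finite A M]
    (hIM : I • (⊤ : Submodule A M) ≠ ⊤) :
    I.map (algebraMap A B) • (⊤ : Submodule B (B ⊗[A] M)) ≠ ⊤ := by
  intro htop
  obtain ⟨N', hN'co, hN'le⟩ := (eq_top_or_exists_le_coatom (I • (⊤ : Submodule A M))).resolve_left hIM
  have hsimple : IsSimpleModule A (M ⧸ N') := isSimpleModule_iff_isCoatom.mpr hN'co
  obtain ⟨m, hm, ⟨e⟩⟩ := isSimpleModule_iff_quot_maximal.mp hsimple
  let π : M →ₗ[A] A ⧸ m := e.toLinearMap ∘ₗ N'.mkQ
  have hπsurj : Function.Surjective π := e.surjective.comp N'.mkQ_surjective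
  have hπI : ∀ y ∈ I • (⊤ : Submodule A M), π y = 0 := by
    intro y hy
    have : N'.mkQ y = 0 := (Submodule.Quotient.mk_eq_zero N').mpr (hN'le hy)
    simp [π, this]
  obtain ⟨x, hx⟩ := hπsurj 1
  have hIm : I ≤ m := by
    intro a ha
    have h1 : π (a • x) = 0 := hπI _ (Submodule.smul_mem_smul ha Submodule.mem_top)
    rw [map_smul, hx] at h1
    rw [← Ideal.Quotient.eq_zero_iff_mem]
    rw [← h1, Algebra.smul_def, mul_one]; rfl
  have hmp : m.IsPrime := hm.isPrime
  obtain ⟨q, hq⟩ := hI ⟨m, hmp⟩ hIm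
  -- the map `A/m → B/q`
  have hker : m ≤ LinearMap.ker (Algebra.linearMap A (B ⧸ q.asIdeal)) := by
    intro a ha
    rw [LinearMap.mem_ker, Algebra.linearMap_apply, IsScalarTower.algebraMap_apply A B (B ⧸ q.asIdeal),
      Ideal.Quotient.algebraMap_eq, Ideal.Quotient.eq_zero_iff_mem]
    have : a ∈ q.asIdeal.comap (algebraMap A B) := by rw [hq]; exact ha
    exact this
  let g : (A ⧸ m) →ₗ[A] B ⧸ q.asIdeal := Submodule.liftQ m (Algebra.linearMap A (B ⧸ q.asIdeal)) hker
  let φ : B ⊗[A] M →ₗ[B] B ⧸ q.asIdeal := (g ∘ₗ π).liftBaseChange B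
  have hφx : φ (1 ⊗ₜ x) = 1 := by
    simp only [φ, LinearMap.liftBaseChange_tmul, one_smul, LinearMap.comp_apply, hx]
    have : (1 : A ⧸ m) = Submodule.Quotient.mk (1 : A) := rfl
    rw [this]
    simp only [g, Submodule.liftQ_apply, Algebra.linearMap_apply, map_one]
  have hIBq : I.map (algebraMap A B) ≤ q.asIdeal := by
    rw [Ideal.map_le_iff_le_comap, hq]; exact hIm
  have hφ0 : ∀ t ∈ I.map (algebraMap A B) • (⊤ : Submodule B (B ⊗[A] M)), φ t = 0 := by
    intro t ht
    refine Submodule.smul_induction_on ht ?_ ?_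
    · intro b hb t _
      rw [map_smul, Algebra.smul_def, Ideal.Quotient.algebraMap_eq,
        Ideal.Quotient.eq_zero_iff_mem.mpr (hIBq hb), zero_mul]
    · intro t₁ t₂ h₁ h₂
      rw [map_add, h₁, h₂, add_zero]
  have h0 : φ (1 ⊗ₜ x) = 0 := hφ0 _ (by rw [htop]; exact Submodule.mem_top)
  rw [hφx] at h0
  have : Nontrivial (B ⧸ q.asIdeal) := Ideal.Quotient.nontrivial_iff.mpr q.isPrime.ne_top
  exact one_ne_zero h0

/-- (b): if `ann z = p` is a prime in the image of `Spec B` and `B` is flat, then `1 ⊗ z ≠ 0`. -/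
theorem one_tmul_ne_zero_of_image [Module.Flat A B] (M : Type u) [AddCommGroup M] [Module A M]
    (z : M) (p : Ideal A) (hz : p = (⊥ : Submodule A M).colon {z})
    (q : Ideal B) (hqp : q.IsPrime) (hq : q.comap (algebraMap A B) = p) :
    (1 : B) ⊗ₜ[A] z ≠ 0 := by
  have hkerz : LinearMap.ker (LinearMap.toSpanSingleton A M z) = p := by
    ext a
    rw [hz, LinearMap.mem_ker, LinearMap.toSpanSingleton_apply]
    simp [Submodule.mem_colon_singleton]
  let ι : (A ⧸ p) →ₗ[A] M := Submodule.liftQ p (LinearMap.toSpanSingleton A M z) hkerz.ge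
  have hι : Function.Injective ι := by
    rw [← LinearMap.ker_eq_bot]
    exact Submodule.ker_liftQ_eq_bot _ _ _ hkerz.le
  have hinj : Function.Injective (ι.lTensor B) :=
    Module.Flat.lTensor_preserves_injective_linearMap ι hι
  have hker : p ≤ LinearMap.ker (Algebra.linearMap A (B ⧸ q)) := by
    intro a ha
    rw [LinearMap.mem_ker, Algebra.linearMap_apply, IsScalarTower.algebraMap_apply A B (B ⧸ q),
      Ideal.Quotient.algebraMap_eq, Ideal.Quotient.eq_zero_iff_mem]
    have : a ∈ q.comap (algebraMap A B) := by rw [hq]; exact ha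
    exact this
  let g : (A ⧸ p) →ₗ[A] B ⧸ q := Submodule.liftQ p (Algebra.linearMap A (B ⧸ q)) hker
  let ψ : B ⊗[A] (A ⧸ p) →ₗ[B] B ⧸ q := g.liftBaseChange B
  have hψ : ψ (1 ⊗ₜ (Submodule.Quotient.mk (1 : A))) = 1 := by
    simp only [ψ, LinearMap.liftBaseChange_tmul, one_smul]
    simp only [g, Submodule.liftQ_apply, Algebra.linearMap_apply, map_one]
  have : Nontrivial (B ⧸ q) := Ideal.Quotient.nontrivial_iff.mpr hqp.ne_top
  have hne : (1 : B) ⊗ₜ[A] (Submodule.Quotient.mk (1 : A) : A ⧸ p) ≠ 0 := by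
    intro h0
    rw [h0, map_zero] at hψ
    exact zero_ne_one hψ
  intro h0
  apply hne
  apply hinj
  rw [map_zero, LinearMap.lTensor_tmul]
  have : ι (Submodule.Quotient.mk (1 : A)) = z := by
    simp only [ι, Submodule.liftQ_apply, LinearMap.toSpanSingleton_apply, one_smul]
  rw [this, h0]

variable [IsNoetherianRing A] [IsNoetherianRing B] [Module.Flat A B]

theorem natCast_le_idealDepth_of_flat_of_image (I : Ideal A)
    (hI : ∀ p : PrimeSpectrum A, I ≤ p.asIdeal → ∃ q : PrimeSpectrum B, q.asIdeal.comap (algebraMap A B) = p.asIdeal)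
    (n : ℕ) :
    ∀ (M : Type u) [AddCommGroup M] [Module A M] [Module.Finite A M],
      (n : ℕ∞) ≤ LocCoh.idealDepth (I.map (algebraMap A B)) (B ⊗[A] M) →
      (n : ℕ∞) ≤ LocCoh.idealDepth I M := by
  induction n with
  | zero => intro M _ _ _ _; simp
  | succ n ih =>
    intro M _ _ _ hn
    by_cases hIM : I • (⊤ : Submodule A M) = ⊤
    · rw [idealDepth_eq_top_of_smul_top_eq_top I M hIM]; exact le_top
    have hbc : IsBaseChange B (TensorProduct.mk A B M 1) := TensorProduct.isBaseChange A M B
    have hIN : I.map (algebraMap A B) • (⊤ : Submodule B (B ⊗[A] M)) ≠ ⊤ :=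
      map_smul_top_ne_top_of_image I hI M hIM
    have hMnt : Nontrivial M := nontrivial_of_smul_top_ne_top hIM
    -- there is an `M`-regular element in `I`
    have hex : ∃ x ∈ I, IsSMulRegular M x := by
      by_contra hcon
      push Not at hcon
      obtain ⟨p, hp, hIp⟩ := exists_le_mem_associatedPrimes_of_forall_not_isSMulRegular
        (M := M) hcon
      obtain ⟨hpp, z, hz⟩ := (isAssociatedPrime_iff (M := M)).mp hp
      have hIz : ∀ a ∈ I, a • z = 0 := by
        intro a ha
        have : a ∈ (⊥ : Submodule A M).colon {z} := hz ▸ hIp ha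
        simpa [Submodule.mem_colon_singleton] using this
      obtain ⟨q, hq⟩ := hI ⟨p, hpp⟩ hIp
      have hz1 : (1 : B) ⊗ₜ[A] z ≠ 0 :=
        one_tmul_ne_zero_of_image M z p hz q.asIdeal q.isPrime hq
      have hkill : ∀ b ∈ I.map (algebraMap A B), b • ((1 : B) ⊗ₜ[A] z) = 0 := by
        intro b hb
        refine Submodule.span_induction ?_ ?_ ?_ ?_ hb
        · rintro _ ⟨a, ha, rfl⟩
          rw [algebraMap_smul, ← TensorProduct.tmul_smul, hIz a ha, TensorProduct.tmul_zero]
        · simp
        · intro x y _ _ hx hy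
          rw [add_smul, hx, hy, add_zero]
        · intro c x _ hx
          rw [smul_eq_mul, mul_smul, hx, smul_zero]
      have hd0 : LocCoh.idealDepth (I.map (algebraMap A B)) (B ⊗[A] M) = 0 := by
        apply idealDepth_eq_zero_of_forall_not_isSMulRegular hIN
        intro b hb hreg
        exact hz1 (hreg (by simp only [hkill b hb, smul_zero]))
      rw [hd0] at hn
      exact absurd hn (by simp)
    obtain ⟨x, hxI, hreg⟩ := hex
    have hreg' : IsSMulRegular (B ⊗[A] M) (algebraMap A B x) := hreg.of_flat_of_isBaseChange hbc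
    have hadd := idealDepth_quotSMulTop_add_one I M hIM x hxI hreg
    have hadd' := idealDepth_quotSMulTop_add_one (I.map (algebraMap A B)) (B ⊗[A] M) hIN
      (algebraMap A B x) (Ideal.mem_map_of_mem _ hxI) hreg'
    rw [idealDepth_congr (QuotSMulTop.algebraMapTensorEquivTensorQuotSMulTop x M B)] at hadd'
    have hn' : (n : ℕ∞) ≤
        LocCoh.idealDepth (I.map (algebraMap A B)) (B ⊗[A] QuotSMulTop x M) := by
      rw [← hadd'] at hn
      push_cast at hn
      exact (ENat.add_le_add_iff_right ENat.one_ne_top).mp hn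
    have := ih (QuotSMulTop x M) hn'
    rw [← hadd]
    push_cast
    exact add_le_add_left this 1

end Aux

open TensorProduct in
/-- Affine form. Let A → B be a flat homomorphism of Noetherian rings and I an ideal of A with V(I)
contained in the image of Spec B → Spec A (every prime containing I is a contraction of a prime of
B). Then ht(IB) = ht(I) (codimension of the preimage equals codimension), and for every finite
A-module G one has depth_{IB} (B ⊗_A G) = depth_I G. -/
theorem result (A B : Type u) [CommRing A] [CommRing B]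
    [IsNoetherianRing A] [IsNoetherianRing B] [Algebra A B] [Module.Flat A B] (I : Ideal A)
    (hI : ∀ p : PrimeSpectrum A, I ≤ p.asIdeal → ∃ q : PrimeSpectrum B, q.asIdeal.comap (algebraMap A B) = p.asIdeal)
    (G : Type u) [AddCommGroup G] [Module A G] [Module.Finite A G] :
    (I.map (algebraMap A B)).height = I.height ∧
    LocCoh.idealDepth (I.map (algebraMap A B)) (B ⊗[A] G) = LocCoh.idealDepth I G := by
  refine ⟨height_map_eq A B I hI, le_antisymm ?_ ?_⟩
  · rw [← ENat.forall_natCast_le_iff_le]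
    intro n hn
    exact natCast_le_idealDepth_of_flat_of_image I hI n G hn
  · exact idealDepth_le_of_flat_of_isBaseChange (TensorProduct.isBaseChange A G B) I

end Groth.Agent.S18710
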