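import Groth.Statements.S18711
import Groth.Agent.Lib.Helper28RelS2
import Groth.Agent.Lib.Helper28Reflexive
import Groth.Agent.Lib.Helper28HuskLoc2

set_option autoImplicit false
universe u
open QGor

namespace Groth.Agent.S18711

open TensorProduct in
/-- Affine form. Let A → B be a flat homomorphism of Noetherian rings, J an ideal of B such that for
every prime q ⊇ J with contraction p the fibre local ring B_q/pB_q has depth ≥ 2, A → A′ a
homomorphism of Noetherian rings and B′ = A′ ⊗_A B the (Noetherian) pushout. Let 0 → F → E⁰ → E¹ → G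
→ 0 be an exact sequence of finite B-modules with E⁰, E¹ projective and F_q, G_q free for every
prime q not containing J. Then F is reflexive; the kernel K′ of B′ ⊗_B E⁰ → B′ ⊗_B E¹ is a reflexive
B′-module with depth_{JB′} K′ ≥ 2 (so it is the module of sections of the pull-back of F off
V(JB′)); and K′ is flat over A′ with depth ≥ 2 along JB′ on every fibre stalk K′_{q′}/p′K′_{q′} if
and only if B′ ⊗_B G is flat over A′. (The published statement phrases the last left-hand condition
as the relative S₂ condition of K′ over A′; the two agree when the fibres of Spec B′ → Spec A′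
satisfy S₂ off V(JB′), and without that the relative S₂ form fails already for A = A′ a field, J =
B, F = E⁰ = B not S₂ and E¹ = G = 0, so the fibrewise-depth form, which is what the proof
establishes, is stated.) -/
theorem result (A B : Type u) [CommRing A] [CommRing B] [IsNoetherianRing A] [IsNoetherianRing B] [Algebra A B]
    (A' B' : Type u) [CommRing A'] [CommRing B'] [IsNoetherianRing A'] [IsNoetherianRing B']
    [Algebra A A'] [Algebra B B'] [Algebra A' B'] [Algebra A B'] [IsScalarTower A B B'] [IsScalarTower A A' B']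
    [Algebra.IsPushout A B A' B'] [Module.Flat A B] (J : Ideal B)
    (hZ : ∀ q : PrimeSpectrum B, J ≤ q.asIdeal →
      2 ≤ LocCoh.idealDepth (q.asIdeal.map (algebraMap B (EGA4.FibLocRing A B q.asIdeal))) (EGA4.FibLocRing A B q.asIdeal))
    (F E0 E1 G : Type u) [AddCommGroup F] [Module B F] [Module.Finite B F]
    [AddCommGroup E0] [Module B E0] [Module.Finite B E0] [Module.Projective B E0]
    [AddCommGroup E1] [Module B E1] [Module.Finite B E1] [Module.Projective B E1]
    [AddCommGroup G] [Module B G] [Module.Finite B G]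
    (f : F →ₗ[B] E0) (u : E0 →ₗ[B] E1) (v : E1 →ₗ[B] G)
    (hf : Function.Injective f) (hfu : Function.Exact f u) (huv : Function.Exact u v) (hv : Function.Surjective v)
    (hFU : ∀ q : PrimeSpectrum B, ¬ J ≤ q.asIdeal → Module.Free (Localization.AtPrime q.asIdeal) (LocalizedModule q.asIdeal.primeCompl F))
    (hGU : ∀ q : PrimeSpectrum B, ¬ J ≤ q.asIdeal → Module.Free (Localization.AtPrime q.asIdeal) (LocalizedModule q.asIdeal.primeCompl G)) :
    Module.IsReflexive B F ∧
    Module.IsReflexive B' (LinearMap.ker (u.baseChange B')) ∧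
    2 ≤ LocCoh.idealDepth (J.map (algebraMap B B')) (LinearMap.ker (u.baseChange B')) ∧
    ((∀ q' : PrimeSpectrum B', FlatCA.FlatAt A' q'.asIdeal (LinearMap.ker (u.baseChange B')) ∧
        2 ≤ LocCoh.idealDepth ((J.map (algebraMap B B')).map (algebraMap B' (EGA4.FibLocRing A' B' q'.asIdeal)))
          (EGA4.FibLocMod A' B' q'.asIdeal (LinearMap.ker (u.baseChange B')))) ↔
      Module.Flat A' (B' ⊗[B] G)) := by
  open Groth.Agent.Lib.Helper28 Groth.Agent.Lib.Helper28.FibBC Groth.Agent.Lib.Helper28.DDualBC
    Groth.Agent.Lib.Helper28.FourTerm Groth.Agent.Lib.Helper28.RelS2 in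
  have hB2 : 2 ≤ LocCoh.idealDepth J B := by
    have := natCast_le_idealDepth_self_of_forall_fibLocRing (A := A) J 2 (by exact_mod_cast hZ)
    exact_mod_cast this
  have hB'2 : 2 ≤ LocCoh.idealDepth (J.map (algebraMap B B')) B' := by
    have h1 := natCast_le_idealDepth_baseChange (A := A) A' (B' := B') B J 2 (fun q hq => by
      rw [← idealDepth_fibLocRing_eq_fibLocMod_self]
      exact_mod_cast hZ q hq)
    rw [idealDepth_congr (TensorProduct.AlgebraTensorModule.rid B B' B')] at h1
    exact_mod_cast h1
  -- (a) `F` is reflexive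
  have hFker : 2 ≤ LocCoh.idealDepth J (LinearMap.ker u) :=
    (idealDepth_ker J u).2 (two_le_idealDepth_of_isReflexive J E0 hB2)
      (one_le_idealDepth_of_isReflexive J E1 (le_trans (by norm_num) hB2))
  have hrange : LinearMap.range f = LinearMap.ker u := (LinearMap.exact_iff.mp hfu).symm
  let eF : F ≃ₗ[B] LinearMap.ker u :=
    LinearEquiv.ofInjective f hf ≪≫ₗ LinearEquiv.ofEq _ _ hrange
  have hF2 : 2 ≤ LocCoh.idealDepth J F := by
    rw [idealDepth_congr eF]
    exact hFker
  have hFrefl : Module.IsReflexive B F := by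
    refine isReflexive_of_idealDepth_two J (le_trans (by norm_num) hB2) F ?_ hF2
    intro p _ hp
    haveI := hFU ⟨p, inferInstance⟩ hp
    infer_instance
  -- (c) depth of the kernel of the base change
  have hK2 : 2 ≤ LocCoh.idealDepth (J.map (algebraMap B B')) (LinearMap.ker (u.baseChange B')) :=
    (idealDepth_ker _ (u.baseChange B')).2
      (two_le_idealDepth_of_isReflexive _ (B' ⊗[B] E0) hB'2)
      (one_le_idealDepth_of_isReflexive _ (B' ⊗[B] E1) (le_trans (by norm_num) hB'2))
  -- (b) the kernel of the base change is reflexive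
  have hKrefl : Module.IsReflexive B' (LinearMap.ker (u.baseChange B')) := by
    refine isReflexive_of_idealDepth_two (J.map (algebraMap B B'))
      (le_trans (by norm_num) hB'2) _ ?_ hK2
    intro p' _ hp'
    have hq : ¬ J ≤ p'.comap (algebraMap B B') :=
      fun hle => hp' (Ideal.map_le_iff_le_comap.mpr hle)
    haveI : (p'.comap (algebraMap B B')).IsPrime := Ideal.comap_isPrime _ _
    haveI : p'.LiesOver (p'.comap (algebraMap B B')) := ⟨rfl⟩
    haveI := hFU ⟨p'.comap (algebraMap B B'), inferInstance⟩ hq
    haveI := hGU ⟨p'.comap (algebraMap B B'), inferInstance⟩ hq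
    haveI := free_localization_ker_baseChange (B' := B') f u v hf hfu huv hv p'
      (p'.comap (algebraMap B B'))
    infer_instance
  refine ⟨hFrefl, hKrefl, hK2, ?_⟩
  -- (d) flatness of `B' ⊗ G` versus fibrewise depth of the kernel
  haveI hB'flat : Module.Flat A' B' :=
    Module.Flat.isBaseChange A A' B B'
      (Algebra.IsPushout.out (self := Algebra.IsPushout.symm (inferInstance :
        Algebra.IsPushout A B A' B')))
  haveI : Module.Flat A' (B' ⊗[B] E0) := Module.Flat.trans A' B' _
  haveI : Module.Flat A' (B' ⊗[B] E1) := Module.Flat.trans A' B' _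
  -- `A`-module structures on `E0`, `E1`
  letI : Module A E0 := Module.compHom E0 (algebraMap A B)
  haveI : IsScalarTower A B E0 := IsScalarTower.of_algebraMap_smul fun r x => rfl
  haveI : Module.Flat A E0 := Module.Flat.trans A B E0
  letI : Module A E1 := Module.compHom E1 (algebraMap A B)
  haveI : IsScalarTower A B E1 := IsScalarTower.of_algebraMap_smul fun r x => rfl
  haveI : Module.Flat A E1 := Module.Flat.trans A B E1
  have hexu : Function.Exact (u.baseChange B') (v.baseChange B') := by
    have := lTensor_exact B' huv hv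
    rw [LinearMap.baseChange_eq_ltensor, LinearMap.baseChange_eq_ltensor]
    exact this
  have hv' : Function.Surjective (v.baseChange B') := by
    rw [LinearMap.baseChange_eq_ltensor]
    exact LinearMap.lTensor_surjective B' hv
  have hfib0 : ∀ q : PrimeSpectrum B, J ≤ q.asIdeal →
      ((2 : ℕ) : ℕ∞) ≤ LocCoh.idealDepth
        (q.asIdeal.map (algebraMap B (EGA4.FibLocRing A B q.asIdeal)))
        (EGA4.FibLocMod A B q.asIdeal E0) := fun q hq => by
    have := two_le_idealDepth_fibLocMod_of_projective (A := A) q.asIdeal E0 _ (hZ q hq)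
    exact_mod_cast this
  have hfib1 : ∀ q : PrimeSpectrum B, J ≤ q.asIdeal →
      ((2 : ℕ) : ℕ∞) ≤ LocCoh.idealDepth
        (q.asIdeal.map (algebraMap B (EGA4.FibLocRing A B q.asIdeal)))
        (EGA4.FibLocMod A B q.asIdeal E1) := fun q hq => by
    have := two_le_idealDepth_fibLocMod_of_projective (A := A) q.asIdeal E1 _ (hZ q hq)
    exact_mod_cast this
  refine forall_flatAt_and_fibre_depth_iff_flat (A := A')
    (LinearMap.ker (u.baseChange B')).subtype (u.baseChange B') (v.baseChange B')
    (Submodule.injective_subtype _) (LinearMap.exact_subtype_ker_map _) hexu hv'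
    (J.map (algebraMap B B')) ?_ ?_ ?_
  · intro q' hq'
    have hq : ¬ J ≤ q'.asIdeal.comap (algebraMap B B') :=
      fun hle => hq' (Ideal.map_le_iff_le_comap.mpr hle)
    haveI : (q'.asIdeal.comap (algebraMap B B')).IsPrime := Ideal.comap_isPrime _ _
    haveI : q'.asIdeal.LiesOver (q'.asIdeal.comap (algebraMap B B')) := ⟨rfl⟩
    haveI := hGU ⟨q'.asIdeal.comap (algebraMap B B'), inferInstance⟩ hq
    haveI := free_localization_baseChange q'.asIdeal (q'.asIdeal.comap (algebraMap B B')) G
    haveI : Module.Flat A' (Localization.AtPrime q'.asIdeal) := Module.Flat.trans A' B' _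
    exact Module.Flat.trans A' (Localization.AtPrime q'.asIdeal) _
  · intro q'
    have h1 := natCast_le_idealDepth_baseChange_quot (A := A) A' (B' := B') E0
      (q'.asIdeal.comap (algebraMap A' B')) J 2 hfib0
    have h2 := idealDepth_quot_le_idealDepth_fibLocMod (A := A') q'.asIdeal (B' ⊗[B] E0)
      (J.map (algebraMap B B'))
    exact le_trans (by exact_mod_cast h1) h2
  · intro q'
    have h1 := natCast_le_idealDepth_baseChange_quot (A := A) A' (B' := B') E1
      (q'.asIdeal.comap (algebraMap A' B')) J 2 hfib1
    have h2 := idealDepth_quot_le_idealDepth_fibLocMod (A := A') q'.asIdeal (B' ⊗[B] E1)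
      (J.map (algebraMap B B'))
    exact le_trans (le_trans (by norm_num) (by exact_mod_cast h1 : (2 : ℕ∞) ≤ _)) h2

end Groth.Agent.S18711
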