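import Groth.Statements.S18712
import Groth.Agent.Lib.Helper28InfAssemble
import Groth.Agent.Lib.Helper28InfFinal

set_option autoImplicit false
universe u
open QGor

namespace Groth.Agent.S18712

open TensorProduct in
/-- Infinitesimal criterion, affine-local form. Let R be a Noetherian local ring with maximal ideal m, C
a finitely generated flat R-algebra, y = n a prime of C over m at which the fibre C_n/mC_n satisfies
S₂ (the structure morphism satisfies relative S₂ at y), and F a finite reflexive C-module which is
free at every prime not containing an ideal J such that every fibre local ring C_q/pC_q at primes q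
⊇ J has dimension ≥ 2 (F is locally free in codimension one on each fibre). Suppose that for every
surjective homomorphism R → A′ onto an Artinian local ring and the Noetherian pushout C′ = A′ ⊗_R C,
at every prime q′ of C′ lying over n the double dual (C′ ⊗_C F)^∨∨ is flat over A′ at q′ and its
fibre stalk satisfies S₂. Then F is flat over R at n and the fibre stalk F_n/mF_n satisfies S₂ (F
satisfies relative S₂ at y). Test rings A′ range over the universe of R. -/
theorem result (R C : Type u) [CommRing R] [CommRing C] [IsNoetherianRing R] [IsLocalRing R] [IsNoetherianRing C]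
    [Algebra R C] [Module.Flat R C] (hft : Algebra.FiniteType R C)
    (n : PrimeSpectrum C) (hn : (IsLocalRing.maximalIdeal R).map (algebraMap R C) ≤ n.asIdeal)
    (hS2 : LocCoh.HasSk 2 (EGA4.FibLocRing R C n.asIdeal) (EGA4.FibLocRing R C n.asIdeal))
    (F : Type u) [AddCommGroup F] [Module C F] [Module R F] [IsScalarTower R C F] [Module.Finite C F]
    [Module.IsReflexive C F] (J : Ideal C)
    (hFU : ∀ q : PrimeSpectrum C, ¬ J ≤ q.asIdeal → Module.Free (Localization.AtPrime q.asIdeal) (LocalizedModule q.asIdeal.primeCompl F))
    (hcodim : ∀ q : PrimeSpectrum C, J ≤ q.asIdeal → (2 : WithBot ℕ∞) ≤ ringKrullDim (EGA4.FibLocRing R C q.asIdeal))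
    (hI : ∀ (A' : Type u) [CommRing A'] [IsArtinianRing A'] [IsLocalRing A'] [Algebra R A'],
      Function.Surjective (algebraMap R A') →
      ∀ (C' : Type u) [CommRing C'] [IsNoetherianRing C'] [Algebra C C'] [Algebra A' C'] [Algebra R C']
        [IsScalarTower R C C'] [IsScalarTower R A' C'], Algebra.IsPushout R C A' C' →
        ∀ q' : PrimeSpectrum C', q'.asIdeal.comap (algebraMap C C') = n.asIdeal →
          FlatCA.FlatAt A' q'.asIdeal (Module.Dual C' (Module.Dual C' (C' ⊗[C] F))) ∧
          LocCoh.HasSk 2 (EGA4.FibLocRing A' C' q'.asIdeal)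
            (EGA4.FibLocMod A' C' q'.asIdeal (Module.Dual C' (Module.Dual C' (C' ⊗[C] F))))) :
    FlatCA.FlatAt R n.asIdeal F ∧ LocCoh.HasSk 2 (EGA4.FibLocRing R C n.asIdeal) (EGA4.FibLocMod R C n.asIdeal F) := by
  open Groth.Agent.Lib.Helper28 Groth.Agent.Lib.Helper28.Inf IsLocalRing in
  -- the four-term dual presentation of `F`
  obtain ⟨a, b, f, u, hf, hfu, hGfree⟩ := exists_fourTerm (C := C) F
  have huv : Function.Exact u (LinearMap.range u).mkQ := LinearMap.exact_map_mkQ_range u
  have hv : Function.Surjective (LinearMap.range u).mkQ := Submodule.mkQ_surjective _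
  have hGU : ∀ q : PrimeSpectrum C, ¬ J ≤ q.asIdeal →
      Module.Free (Localization.AtPrime q.asIdeal) (LocalizedModule q.asIdeal.primeCompl
        (Module.Dual C (Fin a → C) ⧸ LinearMap.range u)) :=
    fun q hq => hGfree q.asIdeal (hFU q hq)
  -- depth of the closed fibre ring along `J`
  have hdepth : 2 ≤ LocCoh.idealDepth (J.map (algebraMap C (EGA4.FibLocRing R C n.asIdeal)))
      (EGA4.FibLocRing R C n.asIdeal) :=
    two_le_idealDepth_fibLocRing n.asIdeal J hS2 (fun q hJq _ => hcodim q hJq)
  -- flatness of `G_n` by the adic local criterion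
  have hGflat : Module.Flat R (LocalizedModule n.asIdeal.primeCompl
      (Module.Dual C (Fin a → C) ⧸ LinearMap.range u)) := by
    refine Flattening.flat_of_flat_quotient_pow (A := R) (B := Localization.AtPrime n.asIdeal)
      _ (maximalIdeal R) ?_ ?_
    · rw [IsLocalRing.jacobson_eq_maximalIdeal ⊥ bot_ne_top,
        ← Localization.AtPrime.map_eq_maximalIdeal]
      have : (maximalIdeal R).map (algebraMap R (Localization.AtPrime n.asIdeal)) =
          ((maximalIdeal R).map (algebraMap R C)).map
            (algebraMap C (Localization.AtPrime n.asIdeal)) := by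
        rw [Ideal.map_map, ← IsScalarTower.algebraMap_eq]
      rw [this]
      exact Ideal.map_mono hn
    · intro k hk
      have hk' : k ≠ 0 := Nat.pos_iff_ne_zero.mp hk
      letI := isLocalRing_quotient_pow R hk'
      haveI := isArtinianRing_quotient_pow R hk'
      haveI hpo : Algebra.IsPushout R C (R ⧸ maximalIdeal R ^ k)
          (C ⧸ (maximalIdeal R ^ k).map (algebraMap R C)) :=
        (Groth.Agent.Lib.Helper6.PdSemi.isPushout_quotient R C (maximalIdeal R ^ k)).symm
      have hle : (maximalIdeal R ^ k).map (algebraMap R C) ≤ n.asIdeal :=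
        (Ideal.map_mono (Ideal.pow_le_self hk')).trans hn
      haveI hprime : (n.asIdeal.map
          (Ideal.Quotient.mk ((maximalIdeal R ^ k).map (algebraMap R C)))).IsPrime :=
        Ideal.map_isPrime_of_surjective Ideal.Quotient.mk_surjective (by rwa [Ideal.mk_ker])
      have hqk : (n.asIdeal.map
          (Ideal.Quotient.mk ((maximalIdeal R ^ k).map (algebraMap R C)))).comap
          (algebraMap C (C ⧸ (maximalIdeal R ^ k).map (algebraMap R C))) = n.asIdeal := by
        rw [Ideal.Quotient.algebraMap_eq,
          Ideal.comap_map_of_surjective _ Ideal.Quotient.mk_surjective, ← RingHom.ker_eq_comap_bot,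
          Ideal.mk_ker, sup_eq_left]
        exact hle
      have hIk := hI (R ⧸ maximalIdeal R ^ k) Ideal.Quotient.mk_surjective
        (C ⧸ (maximalIdeal R ^ k).map (algebraMap R C)) hpo
        ⟨n.asIdeal.map (Ideal.Quotient.mk ((maximalIdeal R ^ k).map (algebraMap R C))), hprime⟩
        hqk
      exact flat_quotient_pow_tensor_localization n.asIdeal f u (LinearMap.range u).mkQ hn hf hfu
        huv hv J hFU hGU hdepth k hk' _ hqk hIk.1
  exact flatAt_and_hasSk_of_flat_coker n.asIdeal f u (LinearMap.range u).mkQ hf hfu huv hv J hFU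
    hS2 hdepth hGflat

end Groth.Agent.S18712
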