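import Groth.Statements.S18713
import Groth.Agent.Lib.Helper28InfAssemble
import Groth.Agent.Lib.Helper28InfFinal
import Groth.Agent.Lib.Helper28InfDVR
import Groth.Agent.Lib.Helper22VC12

set_option autoImplicit false
universe u
open QGor

namespace Groth.Agent.S18713

open TensorProduct in
/-- Valuative criterion, affine-local form. Let R be a Noetherian local ring with maximal ideal m, C a
finitely generated flat R-algebra, y = n a prime of C over m at which the fibre C_n/mC_n satisfies
S₂ (the structure morphism satisfies relative S₂ at y), and F a finite reflexive C-module which is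
free at every prime not containing an ideal J such that every fibre local ring C_q/pC_q at primes q
⊇ J has dimension ≥ 2 (F is locally free in codimension one on each fibre). Assume R is reduced, and
that for every local homomorphism R → D to a discrete valuation ring and the Noetherian pushout C′ =
D ⊗_R C, at every prime q′ of C′ lying over n and over the closed point of D the double dual (C′ ⊗_C
F)^∨∨ is flat over D at q′ and its fibre stalk satisfies S₂. Then F is flat over R at n and F_n/mF_n
satisfies S₂ (F satisfies relative S₂ at y). Test rings D range over the universe of R. -/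
theorem result (R C : Type u) [CommRing R] [CommRing C] [IsNoetherianRing R] [IsLocalRing R] [IsNoetherianRing C]
    [Algebra R C] [Module.Flat R C] (hft : Algebra.FiniteType R C)
    (n : PrimeSpectrum C) (hn : (IsLocalRing.maximalIdeal R).map (algebraMap R C) ≤ n.asIdeal)
    (hS2 : LocCoh.HasSk 2 (EGA4.FibLocRing R C n.asIdeal) (EGA4.FibLocRing R C n.asIdeal))
    (F : Type u) [AddCommGroup F] [Module C F] [Module R F] [IsScalarTower R C F] [Module.Finite C F]
    [Module.IsReflexive C F] (J : Ideal C)
    (hFU : ∀ q : PrimeSpectrum C, ¬ J ≤ q.asIdeal → Module.Free (Localization.AtPrime q.asIdeal) (LocalizedModule q.asIdeal.primeCompl F))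
    (hcodim : ∀ q : PrimeSpectrum C, J ≤ q.asIdeal → (2 : WithBot ℕ∞) ≤ ringKrullDim (EGA4.FibLocRing R C q.asIdeal)) [IsReduced R]
    (hII : ∀ (D : Type u) [CommRing D] [IsDomain D] [IsDiscreteValuationRing D] [Algebra R D],
      IsLocalHom (algebraMap R D) →
      ∀ (C' : Type u) [CommRing C'] [IsNoetherianRing C'] [Algebra C C'] [Algebra D C'] [Algebra R C']
        [IsScalarTower R C C'] [IsScalarTower R D C'], Algebra.IsPushout R C D C' →
        ∀ q' : PrimeSpectrum C', q'.asIdeal.comap (algebraMap C C') = n.asIdeal →
          (IsLocalRing.maximalIdeal D).map (algebraMap D C') ≤ q'.asIdeal →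
          FlatCA.FlatAt D q'.asIdeal (Module.Dual C' (Module.Dual C' (C' ⊗[C] F))) ∧
          LocCoh.HasSk 2 (EGA4.FibLocRing D C' q'.asIdeal)
            (EGA4.FibLocMod D C' q'.asIdeal (Module.Dual C' (Module.Dual C' (C' ⊗[C] F))))) :
    FlatCA.FlatAt R n.asIdeal F ∧ LocCoh.HasSk 2 (EGA4.FibLocRing R C n.asIdeal) (EGA4.FibLocMod R C n.asIdeal F) := by
  open Groth.Agent.Lib.Helper28 Groth.Agent.Lib.Helper28.Inf IsLocalRing in
  -- the four-term dual presentation of `F`
  obtain ⟨a, b, f, u, hf, hfu, hGfree⟩ := exists_fourTerm (C := C) F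
  have huv : Function.Exact u (LinearMap.range u).mkQ := LinearMap.exact_map_mkQ_range u
  have hv : Function.Surjective (LinearMap.range u).mkQ := Submodule.mkQ_surjective _
  have hGU : ∀ q : PrimeSpectrum C, ¬ J ≤ q.asIdeal →
      Module.Free (Localization.AtPrime q.asIdeal) (LocalizedModule q.asIdeal.primeCompl
        (Module.Dual C (Fin a → C) ⧸ LinearMap.range u)) :=
    fun q hq => hGfree q.asIdeal (hFU q hq)
  -- depth of the closed fibre ring along `J`
  have hdepth : 2 ≤ LocCoh.idealDepth (J.map (algebraMap C (EGA4.FibLocRing R C n.asIdeal)))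
      (EGA4.FibLocRing R C n.asIdeal) :=
    two_le_idealDepth_fibLocRing n.asIdeal J hS2 (fun q hJq _ => hcodim q hJq)
  -- flatness of `G_n` by the valuative criterion of flatness
  haveI : Algebra.FiniteType R C := hft
  have hGflat : Module.Flat R (LocalizedModule n.asIdeal.primeCompl
      (Module.Dual C (Fin a → C) ⧸ LinearMap.range u)) := by
    refine Groth.Agent.Lib.Helper22.VC.FlatAt.flat ?_
    refine Groth.Agent.Lib.Helper22.VC.flatAt_of_test (A := R) C n.asIdeal hn _ ?_
    intro D _ _ _ _ hloc C' _ _ _ _ _ _ hpo q' _ hq' hmq'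
    haveI : IsNoetherianRing C' := by
      haveI : Algebra.FiniteType D C' :=
        Algebra.FiniteType.equiv (inferInstance : Algebra.FiniteType D (D ⊗[R] C))
          (Algebra.IsPushout.equiv R D C C')
      exact Algebra.FiniteType.isNoetherianRing D C'
    haveI hpo' : Algebra.IsPushout R C D C' := hpo.symm
    have hII' := hII D hloc C' hpo' ⟨q', inferInstance⟩ hq' hmq'
    exact tfAt_of_flat_tensor_localization D q' _
      (flat_tensor_coker_of_dvr n.asIdeal D q' f u (LinearMap.range u).mkQ hq' hmq' hf hfu huv hv
        J hFU hGU hdepth hII'.2)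
  exact flatAt_and_hasSk_of_flat_coker n.asIdeal f u (LinearMap.range u).mkQ hf hfu huv hv J hFU
    hS2 hdepth hGflat

end Groth.Agent.S18713
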