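import Groth.Statements.S18718
import Groth.Agent.Lib.Helper28DDualBC
import Groth.Agent.Lib.Helper28Reflexive

set_option autoImplicit false
universe u
open QGor

namespace Groth.Agent.S18718

open TensorProduct in
/-- Affine form. Let A → B be a flat homomorphism of Noetherian rings, J an ideal of B such that the
fibre local ring B_q/pB_q has depth ≥ 2 at every prime q ⊇ J (p its contraction), A → A′ a
homomorphism of Noetherian rings with Noetherian pushout B′ = A′ ⊗_A B, and F a finite B-module with
F_q free for every prime q not containing J. Then depth_J (F^∨∨) ≥ 2 (the double dual is the module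
of sections of F off V(J)); the natural map (B′ ⊗_B F)^∨∨ → (B′ ⊗_B F^∨∨)^∨∨ obtained by dualising
twice the base change of F → F^∨∨ is bijective; and if moreover F is flat over A and the fibre
stalks F_q/pF_q have depth ≥ 2 at all primes q ⊇ J, then F and B′ ⊗_B F are reflexive. -/
theorem result (A B : Type u) [CommRing A] [CommRing B] [IsNoetherianRing A] [IsNoetherianRing B] [Algebra A B]
    (A' B' : Type u) [CommRing A'] [CommRing B'] [IsNoetherianRing A'] [IsNoetherianRing B']
    [Algebra A A'] [Algebra B B'] [Algebra A' B'] [Algebra A B'] [IsScalarTower A B B'] [IsScalarTower A A' B']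
    [Algebra.IsPushout A B A' B'] [Module.Flat A B] (J : Ideal B)
    (hZ : ∀ q : PrimeSpectrum B, J ≤ q.asIdeal →
      2 ≤ LocCoh.idealDepth (q.asIdeal.map (algebraMap B (EGA4.FibLocRing A B q.asIdeal))) (EGA4.FibLocRing A B q.asIdeal))
    (F : Type u) [AddCommGroup F] [Module B F] [Module A F] [IsScalarTower A B F] [Module.Finite B F]
    (hFU : ∀ q : PrimeSpectrum B, ¬ J ≤ q.asIdeal → Module.Free (Localization.AtPrime q.asIdeal) (LocalizedModule q.asIdeal.primeCompl F)) :
    2 ≤ LocCoh.idealDepth J (Module.Dual B (Module.Dual B F)) ∧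
    Function.Bijective (((Module.Dual.eval B F).baseChange B').dualMap.dualMap) ∧
    (Module.Flat A F →
      (∀ q : PrimeSpectrum B, J ≤ q.asIdeal →
        2 ≤ LocCoh.idealDepth (q.asIdeal.map (algebraMap B (EGA4.FibLocRing A B q.asIdeal))) (EGA4.FibLocMod A B q.asIdeal F)) →
      Module.IsReflexive B F ∧ Module.IsReflexive B' (B' ⊗[B] F)) := by
  open Groth.Agent.Lib.Helper28 Groth.Agent.Lib.Helper28.FibBC Groth.Agent.Lib.Helper28.DDualBC in
  have hB2 : 2 ≤ LocCoh.idealDepth J B := by
    have := natCast_le_idealDepth_self_of_forall_fibLocRing (A := A) J 2 (by exact_mod_cast hZ)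
    exact_mod_cast this
  have hB'2 : 2 ≤ LocCoh.idealDepth (J.map (algebraMap B B')) B' := by
    have h1 := natCast_le_idealDepth_baseChange (A := A) A' (B' := B') B J 2 (fun q hq => by
      rw [← idealDepth_fibLocRing_eq_fibLocMod_self]
      exact_mod_cast hZ q hq)
    rw [idealDepth_congr (TensorProduct.AlgebraTensorModule.rid B B' B')] at h1
    exact_mod_cast h1
  refine ⟨two_le_idealDepth_dual J _ hB2, ?_, ?_⟩
  · exact bijective_dualMap_dualMap_baseChange_eval J hB'2 F hFU
  · intro hflat hFZ
    haveI := hflat
    constructor
    · refine isReflexive_of_idealDepth_two J (le_trans (by norm_num) hB2) F ?_ ?_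
      · intro p _ hp
        haveI := hFU ⟨p, inferInstance⟩ hp
        infer_instance
      · have := natCast_le_idealDepth_of_forall_fibLocMod (A := A) F J 2
          (by exact_mod_cast hFZ)
        exact_mod_cast this
    · refine isReflexive_of_idealDepth_two (J.map (algebraMap B B'))
        (le_trans (by norm_num) hB'2) (B' ⊗[B] F) ?_ ?_
      · intro p' _ hp'
        have hq : ¬ J ≤ p'.comap (algebraMap B B') :=
          fun hle => hp' (Ideal.map_le_iff_le_comap.mpr hle)
        haveI : (p'.comap (algebraMap B B')).IsPrime := Ideal.comap_isPrime _ _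
        haveI : p'.LiesOver (p'.comap (algebraMap B B')) := ⟨rfl⟩
        haveI := hFU ⟨p'.comap (algebraMap B B'), inferInstance⟩ hq
        haveI := free_localization_baseChange p' (p'.comap (algebraMap B B')) F
        infer_instance
      · have := natCast_le_idealDepth_baseChange (A := A) A' (B' := B') F J 2
          (by exact_mod_cast hFZ)
        exact_mod_cast this

end Groth.Agent.S18718
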