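import Groth.Statements.S18721
import Groth.Agent.Lib.Helper5TruncE

set_option autoImplicit false
universe u
open CategoryTheory
attribute [local instance] HasDerivedCategory.standard
open QGor

namespace Groth.Agent.S18721

/-- Affine form. Let k be a field and A a finitely generated k-algebra, equidimensional of Krull
dimension n, and let ω be a dualizing complex of A normalized at every maximal ideal m (no nonzero
morphisms A/m → ω[i] in D(A) for i ≠ 0 — the canonical dualizing complex of Spec A over k). Put Z_i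
= Supp H^{-i}(ω). Then H^{-i}(ω) = 0 for every i > n, and for every k′ ≥ 1: A satisfies (S_{k′}) if
and only if dim Z_i ≤ i − k′ for all i ≠ n, where for i < k′ this means H^{-i}(ω) = 0. -/
theorem result (k A : Type u) [Field k] [CommRing A]
    [Algebra k A] (hft : Algebra.FiniteType k A) [IsNoetherianRing A]
    (hEq : EGA4.IsEquidim A) (n : ℕ) (hd : ringKrullDim A = n)
    (ω : Dual.D A) (hω : Dual.IsDualizing A ω)
    (hnorm : ∀ (m : Ideal A) (_ : m.IsMaximal) (i : ℤ), i ≠ 0 → Subsingleton (Dual.inD A (A ⧸ m) ⟶ ω⟦i⟧)) :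
    (∀ i : ℕ, n < i → Subsingleton (Dual.HD A ω (-(i : ℤ)))) ∧
    ∀ k' : ℕ, 1 ≤ k' →
      (LocCoh.HasSk k' A A ↔
        ∀ i : ℕ, i ≠ n →
          (i < k' → Subsingleton (Dual.HD A ω (-(i : ℤ)))) ∧
          (k' ≤ i → Module.supportDim A (Dual.HD A ω (-(i : ℤ))) ≤ ((i - k' : ℕ) : WithBot ℕ∞))) := by
  obtain ⟨δ, h1, h2⟩ := Groth.Agent.Lib.Helper5.DualDim.main A ω hω
  have h0 : ∀ m : PrimeSpectrum A, m.asIdeal.IsMaximal → δ m = 0 := by
    intro m hm
    by_contra hne
    have hnt := (h1 m (-δ m)).mpr rfl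
    have hne' : -δ m ≠ 0 := by lia
    have hs : Subsingleton (Dual.inD A (A ⧸ m.asIdeal) ⟶ ω⟦-δ m⟧) :=
      hnorm m.asIdeal hm _ hne'
    exact not_subsingleton _ (inferInstance : Subsingleton (LocalizedModule
      m.asIdeal.primeCompl (Dual.inD A (A ⧸ m.asIdeal) ⟶ ω⟦-δ m⟧)))
  exact ⟨fun i hi =>
      Groth.Agent.Lib.Helper5.LocD.subsingleton_HD_of_gt ω hω δ h1 h2 h0 hEq n hd i hi,
    fun k' _ => Groth.Agent.Lib.Helper5.LocD.sk_iff_global ω hω δ h1 h2 h0 hEq n hd k'⟩

end Groth.Agent.S18721
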