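import Groth.Statements.S18723
import Groth.Agent.S18720
import Groth.Agent.S18703
import Groth.Agent.Lib.Helper28DepthSk
import Groth.Agent.Lib.Helper28DepthLoc

set_option autoImplicit false
universe u
open CategoryTheory
attribute [local instance] HasDerivedCategory.standard
open QGor

namespace Groth.Agent.S18723

/-- Affine-local form, with (2) for tensor powers m ≥ 0. Let A be a Noetherian local ring of Krull
dimension n with a dualizing complex ω, L = H⁰(ω), and J an ideal with ht J ≥ 2 (the closed set V(J)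
has codimension ≥ 2) such that off V(J) the complex ω is the invertible module L in degree 0: for
every prime p not containing J, H^i(ω)_p = 0 for i ≠ 0 and L_p is free of rank 1. (1) If A satisfies
(S₁), then ω is ordinary (A is equidimensional and ω[n] is normalized) and L is reflexive and
satisfies (S₂). (2) If A satisfies (S₂), then for every m ≥ 0 the double dual L^[m] of the m-th
tensor power of L satisfies (S₂) and depth_J L^[m] ≥ 2 (it is the module of sections of L^⊗m off
V(J)). -/
theorem result (A : Type u) [CommRing A] [IsNoetherianRing A]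
    [IsLocalRing A] (ω : Dual.D A) (hω : Dual.IsDualizing A ω) (n : ℕ) (hd : ringKrullDim A = n)
    (J : Ideal A) (hJ : 2 ≤ J.height)
    (hoff : ∀ p : PrimeSpectrum A, ¬ J ≤ p.asIdeal →
      (∀ i : ℤ, i ≠ 0 → p ∉ Module.support A (Dual.HD A ω i)) ∧
      Module.Free (Localization.AtPrime p.asIdeal) (LocalizedModule p.asIdeal.primeCompl (Dual.HD A ω 0)) ∧
      Module.finrank (Localization.AtPrime p.asIdeal) (LocalizedModule p.asIdeal.primeCompl (Dual.HD A ω 0)) = 1) :
    (LocCoh.HasSk 1 A A →
      (EGA4.IsEquidim A ∧ Dual.IsNormalized A (ω⟦(n : ℤ)⟧)) ∧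
      Module.IsReflexive A (Dual.HD A ω 0) ∧ LocCoh.HasSk 2 A (Dual.HD A ω 0)) ∧
    (LocCoh.HasSk 2 A A → ∀ m : ℕ,
      LocCoh.HasSk 2 A (Module.Dual A (Module.Dual A (TensorPower A m (Dual.HD A ω 0)))) ∧
      2 ≤ LocCoh.idealDepth J (Module.Dual A (Module.Dual A (TensorPower A m (Dual.HD A ω 0))))) := by
  have hJ1 : 1 ≤ J.height := le_trans (by norm_num) hJ
  have hoff' : ∀ p : PrimeSpectrum A, ¬ J ≤ p.asIdeal → ∀ i : ℤ, i ≠ 0 →
      p ∉ Module.support A (Dual.HD A ω i) := fun p hp => (hoff p hp).1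
  obtain ⟨⟨hEq, hN, hSL⟩, hdL⟩ := Groth.Agent.S18720.result A ω hω n hd J hJ1 hoff'
  haveI : Module.Finite A (Dual.HD A ω 0) := hω.finite_cohomology 0
  -- depth of `A` along `J` from `(S_k)`, `k ≤ 2`
  have hdepthA : ∀ k : ℕ, k ≤ 2 → LocCoh.HasSk k A A → (k : ℕ∞) ≤ LocCoh.idealDepth J A := by
    intro k hk hS
    refine Groth.Agent.Lib.Helper28.le_idealDepth_of_hasSk A J k hS ?_
    intro p hJp hp
    haveI := p.isPrime
    rw [Groth.Agent.Lib.Helper28.supportDim_localization_eq_height p.asIdeal A hp,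
      ← WithBot.coe_natCast, WithBot.coe_le_coe]
    have hall : ∀ x : PrimeSpectrum A, x ∈ Module.support A A := fun x => by
      haveI := x.isPrime
      exact Groth.Agent.Lib.Helper5.CodepthOpen.mem_support_self x.asIdeal
    have h4 : Order.height p ≤ Order.height (⟨p, hp⟩ : Module.support A A) :=
      Order.height_le_height_apply_of_strictMono
        (fun x : PrimeSpectrum A => (⟨x, hall x⟩ : Module.support A A))
        (fun a b h => h) p
    rw [← PrimeSpectrum.height_eq_orderHeight] at h4
    have h5 : (2 : ℕ∞) ≤ Order.height (⟨p, hp⟩ : Module.support A A) :=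
      le_trans hJ (le_trans (Ideal.height_mono hJp) h4)
    have h6 : ((k : ℕ) : ℕ∞) ≤ (2 : ℕ∞) := by exact_mod_cast hk
    exact le_trans h6 h5
  refine ⟨fun hS1 => ⟨⟨hEq, hN⟩, ?_, hSL⟩, fun hS2 m => ⟨?_, ?_⟩⟩
  · have hA1 : 1 ≤ LocCoh.idealDepth J A := by
      have := hdepthA 1 (by norm_num) hS1
      exact_mod_cast this
    refine Groth.Agent.S18703.result A J hA1 (Dual.HD A ω 0) (fun p hp => ?_) (hdL hJ)
    obtain ⟨_, hfree, _⟩ := hoff p hp
    haveI := hfree
    haveI : Module.Finite (Localization.AtPrime p.asIdeal)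
        (LocalizedModule p.asIdeal.primeCompl (Dual.HD A ω 0)) :=
      Module.Finite.of_isLocalizedModule p.asIdeal.primeCompl
        (LocalizedModule.mkLinearMap p.asIdeal.primeCompl (Dual.HD A ω 0))
    exact Module.IsReflexive.of_finite_of_free _ _
  · exact Groth.Agent.Lib.Helper28.hasSk_two_hom
      (Module.Dual A (TensorPower A m (Dual.HD A ω 0))) A
      (Groth.Agent.Lib.Helper28.hasSk_mono (by norm_num) hS2) hS2
  · have hA2 : 2 ≤ LocCoh.idealDepth J A := by
      have := hdepthA 2 le_rfl hS2
      exact_mod_cast this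
    exact Groth.Agent.Lib.Helper28.two_le_idealDepth_hom J
      (Module.Dual A (TensorPower A m (Dual.HD A ω 0))) A hA2

end Groth.Agent.S18723
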