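import Groth.Statements.S18725
import Groth.Agent.Lib.Helper28HuskLoc2
import Groth.Agent.Lib.Helper3FlatOpenNoeth

set_option autoImplicit false
universe u
open QGor

namespace Groth.Agent.S18725

/-- Affine form of the equivalence (c) ⇔ (d). Let A → B be a homomorphism of finite type between
Noetherian rings, J an ideal of B and 0 → F → E⁰ → E¹ → G → 0 an exact sequence of finite B-modules
such that E⁰, E¹ are flat over A, G_q is flat over A for every prime q not containing J, and for
every prime q ⊇ J with contraction p the fibre stalk E⁰_q/pE⁰_q has depth ≥ 2 and E¹_q/pE¹_q has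
depth ≥ 1. Then for a prime n of B the following are equivalent: G is flat over A at n; there is a
basic open neighbourhood D(s) of n such that at every prime q ∈ D(s) the module F is flat over A at
q and, if q ⊇ J, the fibre stalk F_q/pF_q has depth ≥ 2 (the restriction maps of the fibres of F off
V(J) are bijective on D(s)). -/
theorem result (A B : Type u) [CommRing A] [CommRing B]
    [IsNoetherianRing A] [IsNoetherianRing B] [Algebra A B] (hft : Algebra.FiniteType A B) (J : Ideal B)
    (F E0 E1 G : Type u) [AddCommGroup F] [Module B F] [Module A F] [IsScalarTower A B F] [Module.Finite B F]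
    [AddCommGroup E0] [Module B E0] [Module A E0] [IsScalarTower A B E0] [Module.Finite B E0] [Module.Flat A E0]
    [AddCommGroup E1] [Module B E1] [Module A E1] [IsScalarTower A B E1] [Module.Finite B E1] [Module.Flat A E1]
    [AddCommGroup G] [Module B G] [Module A G] [IsScalarTower A B G] [Module.Finite B G]
    (f : F →ₗ[B] E0) (u : E0 →ₗ[B] E1) (v : E1 →ₗ[B] G)
    (hf : Function.Injective f) (hfu : Function.Exact f u) (huv : Function.Exact u v) (hv : Function.Surjective v)
    (hGU : ∀ q : PrimeSpectrum B, ¬ J ≤ q.asIdeal → FlatCA.FlatAt A q.asIdeal G)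
    (h0 : ∀ q : PrimeSpectrum B, J ≤ q.asIdeal →
      2 ≤ LocCoh.idealDepth (q.asIdeal.map (algebraMap B (EGA4.FibLocRing A B q.asIdeal))) (EGA4.FibLocMod A B q.asIdeal E0))
    (h1 : ∀ q : PrimeSpectrum B, J ≤ q.asIdeal →
      1 ≤ LocCoh.idealDepth (q.asIdeal.map (algebraMap B (EGA4.FibLocRing A B q.asIdeal))) (EGA4.FibLocMod A B q.asIdeal E1))
    (n : PrimeSpectrum B) :
    FlatCA.FlatAt A n.asIdeal G ↔
      ∃ s : B, s ∉ n.asIdeal ∧ ∀ q : PrimeSpectrum B, s ∉ q.asIdeal →
        FlatCA.FlatAt A q.asIdeal F ∧
        (J ≤ q.asIdeal →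
          2 ≤ LocCoh.idealDepth (q.asIdeal.map (algebraMap B (EGA4.FibLocRing A B q.asIdeal))) (EGA4.FibLocMod A B q.asIdeal F)) := by
  classical
  haveI := hft
  -- the image of `u`
  have hexI : Function.Exact f u.rangeRestrict := by
    intro x
    rw [← hfu x]
    constructor
    · intro h
      exact congrArg Subtype.val h
    · intro h
      exact Subtype.ext h
  have hexIv : Function.Exact (LinearMap.range u).subtype v := by
    intro x
    rw [huv x]
    constructor
    · rintro ⟨y, rfl⟩
      exact ⟨⟨u y, ⟨y, rfl⟩⟩, rfl⟩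
    · rintro ⟨⟨_, ⟨y, rfl⟩⟩, rfl⟩
      exact ⟨y, rfl⟩
  constructor
  · intro hGn
    have hopen := Groth.Agent.Lib.Helper3.FlatOpen.isOpen_flatLocus_of_isNoetherianRing
      (R := A) (S := B) (M := G)
    obtain ⟨_, ⟨s, rfl⟩, hns, hsU⟩ :=
      PrimeSpectrum.isTopologicalBasis_basic_opens.exists_subset_of_mem_open
        (show n ∈ {q : PrimeSpectrum B |
          Module.Flat A (LocalizedModule q.asIdeal.primeCompl G)} from hGn) hopen
    refine ⟨s, hns, fun q hq => ?_⟩
    have hGq : Module.Flat A (LocalizedModule q.asIdeal.primeCompl G) :=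
      hsU (show q ∈ PrimeSpectrum.basicOpen s from hq)
    constructor
    · have hK : Module.Flat A (LocalizedModule q.asIdeal.primeCompl (LinearMap.range u)) :=
        Groth.Agent.Lib.Helper28.flat_localizedModule_of_exact q.asIdeal.primeCompl
          (LinearMap.range u).subtype v (Submodule.injective_subtype _) hv hexIv
          (Groth.Agent.Lib.Helper28.flat_localizedModule_of_flat _) hGq
      exact Groth.Agent.Lib.Helper28.flat_localizedModule_of_exact q.asIdeal.primeCompl
          f u.rangeRestrict hf (LinearMap.surjective_rangeRestrict u) hexI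
          (Groth.Agent.Lib.Helper28.flat_localizedModule_of_flat _) hK
    · intro hJq
      refine (Groth.Agent.Lib.Helper28.HuskLoc.two_le_depth_fibLocMod_iff_flat q.asIdeal f u v
        hf hfu huv hv ?_ (h0 q hJq) (h1 q hJq)).mpr hGq
      intro q' _ hlt
      exact hsU (show (⟨q', inferInstance⟩ : PrimeSpectrum B) ∈ PrimeSpectrum.basicOpen s from
        fun hs' => hq (hlt.le hs'))
  · rintro ⟨s, hsn, hs⟩
    have key : ∀ q : PrimeSpectrum B, s ∉ q.asIdeal →
        Module.Flat A (LocalizedModule q.asIdeal.primeCompl G) := by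
      intro q
      refine WellFounded.induction (C := fun q : PrimeSpectrum B => s ∉ q.asIdeal →
          Module.Flat A (LocalizedModule q.asIdeal.primeCompl G))
        (InvImage.wf (fun q : PrimeSpectrum B => q.asIdeal.height) wellFounded_lt) q ?_
      intro q ih hsq
      by_cases hJq : J ≤ q.asIdeal
      · refine (Groth.Agent.Lib.Helper28.HuskLoc.two_le_depth_fibLocMod_iff_flat q.asIdeal f u v
          hf hfu huv hv ?_ (h0 q hJq) (h1 q hJq)).mp ((hs q hsq).2 hJq)
        intro q' hq' hlt
        exact ih ⟨q', hq'⟩ (Ideal.height_strict_mono_of_isPrime hlt) (fun hs' => hsq (hlt.le hs'))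
      · exact hGU q hJq
    exact key n hsn

end Groth.Agent.S18725
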