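import Groth.Statements.S6452
import Groth.Agent.Lib.Helper2IntMultLoc
import Groth.Agent.Lib.Helper5CM2
import Groth.Agent.Lib.Helper28FlatNormal

set_option autoImplicit false
universe u
open CategoryTheory AlgebraicGeometry
attribute [local instance] HasDerivedCategory.standard
open IntMult

namespace Groth.Agent.S6452

/-- Suppose the ideal of V in O_{X,ξ} is generated by a regular sequence g₁, …, g_c and the local ring
O_{W,ξ} is Cohen–Macaulay. Then e(X, V·W, Z) = length_{O_{X,ξ}}(O_{W,ξ}/(g₁, …, g_c)O_{W,ξ}), i.e.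
the length of O_{X,ξ}/(I_{W,ξ} + I_{V,ξ}). Here X is a nonsingular variety over an algebraically
closed field K (smooth, separated, quasi-compact, integral), V and W are closed subvarieties given
by quasi-coherent ideal sheaves with integral subschemes, of dimensions r and s with dim X = n,
intersecting properly, and ξ is the generic point of an irreducible component Z of V ∩ W (a point of
V ∩ W maximal under specialization); e(X, V·W, Z) = IntMult.mult is the alternating sum of lengths
of Tor over O_{X,ξ}, and O_{W,ξ} = O_{X,ξ}/I_{W,ξ}. -/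
theorem result (K : Type u) [Field K] [IsAlgClosed K] (X : Scheme.{u}) (f : X ⟶ Spec (CommRingCat.of K)) [Smooth f] [IsSeparated f] [QuasiCompact f] [IsIntegral X] (IV IW : X.IdealSheafData) [IsIntegral IV.subscheme] [IsIntegral IW.subscheme] (n r s : ℕ) (hn : topologicalKrullDim X = n) (hr : topologicalKrullDim IV.support = r) (hs : topologicalKrullDim IW.support = s) (hprop : IntMult.ProperInt (IV.support : Set X) (IW.support : Set X) n r s) (ξ : X) (hξV : ξ ∈ IV.support) (hξW : ξ ∈ IW.support) (hmax : ∀ ξ' : X, ξ' ∈ IV.support → ξ' ∈ IW.support → ξ' ⤳ ξ → ξ' = ξ) (c : ℕ) (g : Fin c → ↑(X.presheaf.stalk ξ)) (hg : IntMult.stalkIdeal IV ξ = Ideal.span (Set.range g)) (hreg : RingTheory.Sequence.IsRegular (↑(X.presheaf.stalk ξ)) (List.ofFn g)) (hW : LocCoh.IsCohenMacaulayLocalRing (↑(X.presheaf.stalk ξ) ⧸ IntMult.stalkIdeal IW ξ)) : (IntMult.mult IV IW ξ : ℤ) = (Module.length (X.presheaf.stalk ξ) (↑(X.presheaf.stalk ξ) ⧸ (IntMult.stalkIdeal IW ξ ⊔ IntMult.stalkIdeal IV ξ))).toNat := by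
  haveI : LocallyOfFiniteType f := inferInstance
  obtain ⟨hN, hFLI, d, bV, bW, hd, hbV, hbW, hle⟩ :=
    Groth.Agent.Lib.Helper2.IntMultLoc.core K X f IV IW n r s hn hr hs hprop ξ hξV hξW hmax
  haveI := hN
  have hset : (Set.range g : Set (X.presheaf.stalk ξ)) = {a | a ∈ List.ofFn g} := by
    ext a
    simp [List.mem_ofFn]
  have hI : IntMult.stalkIdeal IV ξ = Ideal.ofList (List.ofFn g) := by
    rw [hg, Ideal.ofList, hset]
  have hne : Ideal.ofList (List.ofFn g) ≠ ⊤ := by
    intro htop
    apply hreg.top_ne_smul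
    rw [htop, Submodule.top_smul]
  have hl : ∀ a ∈ List.ofFn g, a ∈ IsLocalRing.maximalIdeal (X.presheaf.stalk ξ) := fun a ha =>
    IsLocalRing.le_maximalIdeal hne (Ideal.subset_span ha)
  have hFLI' : Groth.Agent.Helper13Kz.FLI (Ideal.span {a | a ∈ List.ofFn g})
      (X.presheaf.stalk ξ ⧸ IntMult.stalkIdeal IW ξ) := by
    have := hFLI
    rw [hI] at this
    exact this
  have hdim : Module.supportDim (X.presheaf.stalk ξ)
      (X.presheaf.stalk ξ ⧸ IntMult.stalkIdeal IW ξ) = ((List.ofFn g).length : WithBot ℕ∞) := by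
    have h1 : Module.supportDim (X.presheaf.stalk ξ)
        (X.presheaf.stalk ξ ⧸ IntMult.stalkIdeal IW ξ) ≤ ((List.ofFn g).length : WithBot ℕ∞) :=
      Groth.Agent.Helper13Kz.supportDim_le_length_of_FLI _ (List.ofFn g) hl hFLI'
    rw [Module.supportDim_quotient_eq_ringKrullDim, hbW, List.length_ofFn] at h1
    have h2 := ringKrullDim_add_length_eq_ringKrullDim_of_isRegular (List.ofFn g) hreg
    rw [← hI, hbV, hd, List.length_ofFn] at h2
    have h1' : bW ≤ c := by exact_mod_cast h1
    have h2' : bV + c = d := by exact_mod_cast h2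
    have h3 : bW = c := by omega
    rw [Module.supportDim_quotient_eq_ringKrullDim, hbW, List.length_ofFn, h3]
  haveI := hW.toIsLocalRing
  have hCM : LocCoh.IsCohenMacaulayModule (X.presheaf.stalk ξ)
      (X.presheaf.stalk ξ ⧸ IntMult.stalkIdeal IW ξ) := by
    unfold LocCoh.IsCohenMacaulayModule
    rw [Module.supportDim_quotient_eq_ringKrullDim,
      ← Groth.Agent.Lib.Helper28.depth_quotient_self_eq (IntMult.stalkIdeal IW ξ),
      ← hW.supportDim_eq_depth, Module.supportDim_self_eq_ringKrullDim]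
  have hiff := (Groth.Agent.Lib.Helper5.isWeaklyRegular_iff_of_isCohenMacaulayModule
    (List.ofFn g) _ hCM hl).1
  have hMreg : RingTheory.Sequence.IsWeaklyRegular
      (X.presheaf.stalk ξ ⧸ IntMult.stalkIdeal IW ξ) (List.ofFn g) := by
    rw [hiff]
    apply le_antisymm
    · have h2 : Module.supportDim (X.presheaf.stalk ξ)
          ((X.presheaf.stalk ξ ⧸ IntMult.stalkIdeal IW ξ) ⧸ Ideal.ofList (List.ofFn g) •
            (⊤ : Submodule (X.presheaf.stalk ξ)
              (X.presheaf.stalk ξ ⧸ IntMult.stalkIdeal IW ξ))) ≤ 0 := by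
        apply Groth.Agent.Lib.Helper5.supportDim_le_zero_of_forall_isMaximal
        intro p hp
        rw [Module.support_quotient] at hp
        exact hFLI' p hp.1 hp.2
      calc _ ≤ 0 + ((List.ofFn g).length : WithBot ℕ∞) := add_le_add_left h2 _
        _ = _ := by rw [zero_add, hdim]
    · exact Groth.Agent.Lib.Helper5.supportDim_le_supportDim_quot_ofList_add_length (List.ofFn g)
        (fun r hr => by rw [IsLocalRing.ringJacobson_eq_maximalIdeal]; exact hl r hr)
  exact Groth.Agent.Lib.Helper2.IntMultLoc.mult_eq_length_of_isWeaklyRegular IV IW ξ (List.ofFn g)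
    hI hreg.toIsWeaklyRegular hMreg

end Groth.Agent.S6452
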