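import Groth.Statements.S1873
import Groth.Agent.Lib.Helper2IntMultLoc
import Groth.Agent.Lib.Helper5RLR
import Groth.Agent.Lib.Helper5RLR3
import Groth.Agent.Lib.Helper5RegImmAlg
import Groth.Agent.Lib.Helper6SmRegSch
import Groth.Agent.S6452

set_option autoImplicit false
universe u
open CategoryTheory AlgebraicGeometry
attribute [local instance] HasDerivedCategory.standard
open IntMult

namespace Groth.Agent.S1873

/-- If the multiplicity of Z in the closed subscheme V ∩ W is 1, i.e. length_{O_{X,ξ}}(O_{V∩W,ξ}) = 1,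
then e(X, V·W, Z) = 1 and the local rings O_{V,ξ}, O_{W,ξ} are regular (V and W are smooth at a
general point of Z). Here X is a nonsingular variety over an algebraically closed field K (smooth,
separated, of finite type, integral), V and W are closed subvarieties given by quasi-coherent ideal
sheaves with integral subschemes, of dimensions r and s with dim X = n, intersecting properly, and ξ
is the generic point of an irreducible component Z of V ∩ W; e(X, V·W, Z) is the alternating sum of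
lengths of Tor over O_{X,ξ}. -/
theorem result (K : Type u) [Field K] [IsAlgClosed K] (X : Scheme.{u}) (f : X ⟶ Spec (CommRingCat.of K)) [Smooth f] [IsSeparated f] [QuasiCompact f] [IsIntegral X] (IV IW : X.IdealSheafData) [IsIntegral IV.subscheme] [IsIntegral IW.subscheme] (n r s : ℕ) (hn : topologicalKrullDim X = n) (hr : topologicalKrullDim IV.support = r) (hs : topologicalKrullDim IW.support = s) (hprop : IntMult.ProperInt (IV.support : Set X) (IW.support : Set X) n r s) (ξ : X) (hξV : ξ ∈ IV.support) (hξW : ξ ∈ IW.support) (hmax : ∀ ξ' : X, ξ' ∈ IV.support → ξ' ∈ IW.support → ξ' ⤳ ξ → ξ' = ξ) (h1 : Module.length (X.presheaf.stalk ξ) (↑(X.presheaf.stalk ξ) ⧸ (IntMult.stalkIdeal IV ξ ⊔ IntMult.stalkIdeal IW ξ)) = 1) : IntMult.mult IV IW ξ = 1 ∧ IsRegularLocalRing (↑(X.presheaf.stalk ξ) ⧸ IntMult.stalkIdeal IV ξ) ∧ IsRegularLocalRing (↑(X.presheaf.stalk ξ) ⧸ IntMult.stalkIdeal IW ξ) := by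
  haveI : LocallyOfFiniteType f := inferInstance
  obtain ⟨hN, hFLI, d, bV, bW, hd, hbV, hbW, hle⟩ :=
    Groth.Agent.Lib.Helper2.IntMultLoc.core K X f IV IW n r s hn hr hs hprop ξ hξV hξW hmax
  haveI := hN
  haveI hRLR : IsRegularLocalRing (X.presheaf.stalk ξ) :=
    Groth.Agent.Lib.Helper6.SmRegSch.isRegularLocalRing_stalk_of_smooth_over_field K X f ξ
  have hsum : IntMult.stalkIdeal IV ξ ⊔ IntMult.stalkIdeal IW ξ =
      IsLocalRing.maximalIdeal (X.presheaf.stalk ξ) := by
    have hs := Module.length_eq_one_iff.mp h1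
    have hs' : IsCoatom (IntMult.stalkIdeal IV ξ ⊔ IntMult.stalkIdeal IW ξ) :=
      isSimpleModule_iff_isCoatom.mp hs
    rw [← Ideal.isMaximal_def] at hs'
    exact IsLocalRing.eq_maximalIdeal hs'
  have hVne := Groth.Agent.Lib.Helper2.IntMultLoc.stalkIdeal_ne_top IV ξ hξV
  have hWne := Groth.Agent.Lib.Helper2.IntMultLoc.stalkIdeal_ne_top IW ξ hξW
  haveI hlV : IsLocalRing (X.presheaf.stalk ξ ⧸ IntMult.stalkIdeal IV ξ) :=
    Groth.Agent.Lib.Helper5.isLocalRing_quotient hVne
  haveI hlW : IsLocalRing (X.presheaf.stalk ξ ⧸ IntMult.stalkIdeal IW ξ) :=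
    Groth.Agent.Lib.Helper5.isLocalRing_quotient hWne
  have eV := Groth.Agent.Lib.Helper5.spanFinrank_maximalIdeal_quotient_add_finrank_cotV
    (IntMult.stalkIdeal IV ξ)
  have eW := Groth.Agent.Lib.Helper5.spanFinrank_maximalIdeal_quotient_add_finrank_cotV
    (IntMult.stalkIdeal IW ξ)
  have htop : Groth.Agent.Lib.Helper5.cotV (IntMult.stalkIdeal IV ξ) ⊔
      Groth.Agent.Lib.Helper5.cotV (IntMult.stalkIdeal IW ξ) = ⊤ := by
    rw [eq_top_iff]
    intro t _
    obtain ⟨z, rfl⟩ := Ideal.toCotangent_surjective _ t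
    have hz : (z : X.presheaf.stalk ξ) ∈ IntMult.stalkIdeal IV ξ ⊔ IntMult.stalkIdeal IW ξ := by
      rw [hsum]
      exact z.2
    obtain ⟨v, hv, w, hw, hvw⟩ := Submodule.mem_sup.mp hz
    have hvm : v ∈ IsLocalRing.maximalIdeal (X.presheaf.stalk ξ) :=
      Groth.Agent.Lib.Helper2.IntMultLoc.stalkIdeal_le_maximalIdeal IV ξ hξV hv
    have hwm : w ∈ IsLocalRing.maximalIdeal (X.presheaf.stalk ξ) :=
      Groth.Agent.Lib.Helper2.IntMultLoc.stalkIdeal_le_maximalIdeal IW ξ hξW hw
    have hzz : z = (⟨v, hvm⟩ : IsLocalRing.maximalIdeal (X.presheaf.stalk ξ)) + ⟨w, hwm⟩ :=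
      Subtype.ext hvw.symm
    rw [hzz, map_add]
    exact Submodule.add_mem_sup (Groth.Agent.Lib.Helper5.toCotangent_mem_cotV ⟨v, hvm⟩ hv)
      (Groth.Agent.Lib.Helper5.toCotangent_mem_cotV ⟨w, hwm⟩ hw)
  have hfin : Module.finrank (IsLocalRing.ResidueField (X.presheaf.stalk ξ))
      (IsLocalRing.CotangentSpace (X.presheaf.stalk ξ)) ≤
      Module.finrank (IsLocalRing.ResidueField (X.presheaf.stalk ξ))
        (Groth.Agent.Lib.Helper5.cotV (IntMult.stalkIdeal IV ξ)) +
      Module.finrank (IsLocalRing.ResidueField (X.presheaf.stalk ξ))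
        (Groth.Agent.Lib.Helper5.cotV (IntMult.stalkIdeal IW ξ)) := by
    have h2 := Submodule.finrank_add_le_finrank_add_finrank
      (Groth.Agent.Lib.Helper5.cotV (IntMult.stalkIdeal IV ξ))
      (Groth.Agent.Lib.Helper5.cotV (IntMult.stalkIdeal IW ξ))
    rw [htop, finrank_top] at h2
    exact h2
  have hμ : (IsLocalRing.maximalIdeal (X.presheaf.stalk ξ)).spanFinrank = d := by
    have h2 := hRLR.spanFinrank_maximalIdeal
    rw [hd] at h2
    exact_mod_cast h2
  have hcot : Module.finrank (IsLocalRing.ResidueField (X.presheaf.stalk ξ))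
      (IsLocalRing.CotangentSpace (X.presheaf.stalk ξ)) = d := by
    rw [← IsLocalRing.spanFinrank_maximalIdeal_eq_finrank_cotangentSpace, hμ]
  have h3 : bV ≤ (IsLocalRing.maximalIdeal
      (X.presheaf.stalk ξ ⧸ IntMult.stalkIdeal IV ξ)).spanFinrank := by
    have h2 := ringKrullDim_le_spanFinrank_maximalIdeal
      (R := X.presheaf.stalk ξ ⧸ IntMult.stalkIdeal IV ξ)
    rw [hbV] at h2
    exact_mod_cast h2
  have h4 : bW ≤ (IsLocalRing.maximalIdeal
      (X.presheaf.stalk ξ ⧸ IntMult.stalkIdeal IW ξ)).spanFinrank := by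
    have h2 := ringKrullDim_le_spanFinrank_maximalIdeal
      (R := X.presheaf.stalk ξ ⧸ IntMult.stalkIdeal IW ξ)
    rw [hbW] at h2
    exact_mod_cast h2
  have h5 : (IsLocalRing.maximalIdeal
      (X.presheaf.stalk ξ ⧸ IntMult.stalkIdeal IV ξ)).spanFinrank = bV := by omega
  have h6 : (IsLocalRing.maximalIdeal
      (X.presheaf.stalk ξ ⧸ IntMult.stalkIdeal IW ξ)).spanFinrank = bW := by omega
  haveI hRV : IsRegularLocalRing (X.presheaf.stalk ξ ⧸ IntMult.stalkIdeal IV ξ) := by
    apply IsRegularLocalRing.of_spanFinrank_maximalIdeal_le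
    exact le_of_eq (by rw [hbV, h5])
  haveI hRW : IsRegularLocalRing (X.presheaf.stalk ξ ⧸ IntMult.stalkIdeal IW ξ) := by
    apply IsRegularLocalRing.of_spanFinrank_maximalIdeal_le
    exact le_of_eq (by rw [hbW, h6])
  refine ⟨?_, hRV, hRW⟩
  obtain ⟨rs, hrs, hker⟩ := Groth.Agent.Lib.Helper5.RegImmAlg.exists_regular_ker_of_surjective
    (Ideal.Quotient.mk (IntMult.stalkIdeal IV ξ)) Ideal.Quotient.mk_surjective
  rw [Ideal.mk_ker] at hker
  have hgspan : IntMult.stalkIdeal IV ξ =
      Ideal.span (Set.range (fun i : Fin rs.length => rs.get i)) := by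
    rw [hker, ← Groth.Agent.Lib.Helper5.RegImmAlg.ofList_ofFn, List.ofFn_get]
  have hgreg : RingTheory.Sequence.IsRegular (X.presheaf.stalk ξ)
      (List.ofFn (fun i : Fin rs.length => rs.get i)) := by
    rw [List.ofFn_get]
    exact hrs
  have hCMW : LocCoh.IsCohenMacaulayLocalRing (X.presheaf.stalk ξ ⧸ IntMult.stalkIdeal IW ξ) :=
    Groth.Agent.Lib.Helper5.isCohenMacaulayLocalRing_of_isRegularLocalRing _
  have key := Groth.Agent.S6452.result K X f IV IW n r s hn hr hs hprop ξ hξV hξW hmax rs.length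
    (fun i => rs.get i) hgspan hgreg hCMW
  rw [sup_comm, h1] at key
  simpa using key

end Groth.Agent.S1873
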