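import Groth.Statements.S18731
import Groth.Agent.Lib.Helper20EffCartier

set_option autoImplicit false
universe u
open CategoryTheory CategoryTheory.Limits AlgebraicGeometry TopologicalSpace
open ModPair

namespace Groth.Agent.S18731

/-- Let I on X and J on Y be quasi-coherent ideal sheaves of effective Cartier divisors and f : X ⟶ Y a
morphism satisfying the modulus condition I ≤ J.comap f (the closed subscheme J ×_Y X of X lies
inside the closed subscheme cut out by I). Then the pull-back of the divisor of J along f is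
defined: J.comap f is the ideal sheaf of an effective Cartier divisor on X. -/
theorem result {X Y : Scheme.{u}} (I : X.IdealSheafData)
    (J : Y.IdealSheafData) (hI : BlowUp.IsEffCartierIdeal I) (hJ : BlowUp.IsEffCartierIdeal J)
    (f : X ⟶ Y) (hf : ModPair.IsAmbient I J f) : BlowUp.IsEffCartierIdeal (J.comap f) := by
  intro x
  obtain ⟨V, hfxV, b, hb, hJV⟩ := hJ (f x)
  obtain ⟨U, hU, hxU, hUV, a, ha, hIa⟩ :=
    Groth.Agent.Lib.Helper20.EffCartier.exists_le_of_isEffCartierIdeal hI x (f ⁻¹ᵁ V.1) hfxV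
  have key := Groth.Agent.Lib.Helper20.EffCartier.ideal_comap_eq_map f J hU V.2 hUV
  have hJV' : J.ideal ⟨V.1, V.2⟩ = Ideal.span {b} := hJV
  rw [hJV', Ideal.map_span, Set.image_singleton] at key
  refine ⟨⟨U, hU⟩, hxU, (f.appLE V.1 U hUV).hom b, ?_, key⟩
  have h1 : a ∈ (J.comap f).ideal ⟨U, hU⟩ := hf ⟨U, hU⟩ (hIa ▸ Ideal.mem_span_singleton_self a)
  rw [key, Ideal.mem_span_singleton'] at h1
  obtain ⟨c, hc⟩ := h1
  rw [mem_nonZeroDivisors_iff_right]
  intro y hy
  apply (mem_nonZeroDivisors_iff_right.1 ha) y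
  rw [← hc, mul_comm c, ← mul_assoc, hy, zero_mul]

end Groth.Agent.S18731
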