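import Groth.Statements.S18733
import Groth.Agent.Lib.Helper2Quot
import Groth.Agent.Lib.Helper2EffQuot

set_option autoImplicit false
universe u
open CategoryTheory CategoryTheory.Limits AlgebraicGeometry TopologicalSpace
open ModPair

namespace Groth.Agent.S18733

open Groth.Agent.Lib.Helper2.Quot Groth.Agent.Lib.Helper2.EffQuot in
theorem aux {X : Scheme.{u}} (I₁ I₂ E : X.IdealSheafData) (hEdef : E = I₁ ⊔ I₂)
    (h₁ : BlowUp.IsEffCartierIdeal I₁) (h₂ : BlowUp.IsEffCartierIdeal I₂)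
    (hE : BlowUp.IsEffCartierIdeal E) :
    ∃ I₁' I₂' : X.IdealSheafData, BlowUp.IsEffCartierIdeal I₁' ∧ BlowUp.IsEffCartierIdeal I₂' ∧
      I₁ = I₁' * E ∧ I₂ = I₂' * E ∧ I₁' ⊔ I₂' = ⊤ ∧
      ∀ D : X.IdealSheafData, D ≤ I₁ → D ≤ I₂ → D ≤ I₁' * I₂' * E := by
  have hle1 : I₁ ≤ E := hEdef ▸ le_sup_left
  have hle2 : I₂ ≤ E := hEdef ▸ le_sup_right
  have hfg := fg_of_isEffCartierIdeal hE
  have hq1 : E * quot I₁ E hfg = I₁ := mul_quot_eq hE hle1
  have hq2 : E * quot I₂ E hfg = I₂ := mul_quot_eq hE hle2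
  have e1 : I₁ = quot I₁ E hfg * E := by rw [mul_comm]; exact hq1.symm
  have e2 : I₂ = quot I₂ E hfg * E := by rw [mul_comm]; exact hq2.symm
  have hsup : quot I₁ E hfg ⊔ quot I₂ E hfg = ⊤ := by
    apply eq_of_mul_eq_mul hE
    rw [Scheme.IdealSheafData.inf_mul, ← e1, ← e2, ← hEdef]
    exact (one_mul E).symm
  refine ⟨quot I₁ E hfg, quot I₂ E hfg, isEffCartierIdeal_quot h₁ hE hle1,
    isEffCartierIdeal_quot h₂ hE hle2, e1, e2, hsup, ?_⟩
  intro D hD1 hD2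
  have hE' := hE
  choose U hxU e he hEe using hE'
  apply Scheme.IdealSheafData.le_of_iSup_eq_top U
  · rw [eq_top_iff]
    intro x _
    exact TopologicalSpace.Opens.mem_iSup.mpr ⟨x, hxU x⟩
  · intro x d hd
    have hd1 : d ∈ (quot I₁ E hfg * E).ideal (U x) := by
      rw [← e1]
      exact hD1 _ hd
    have hd2 : d ∈ (quot I₂ E hfg * E).ideal (U x) := by
      rw [← e2]
      exact hD2 _ hd
    rw [Scheme.IdealSheafData.ideal_mul, Pi.mul_apply, hEe x] at hd1 hd2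
    rw [Scheme.IdealSheafData.ideal_mul, Pi.mul_apply, Scheme.IdealSheafData.ideal_mul,
      Pi.mul_apply, hEe x]
    obtain ⟨a, ha, rfl⟩ := Ideal.mem_mul_span_singleton.mp hd1
    obtain ⟨b, hb, hab⟩ := Ideal.mem_mul_span_singleton.mp hd2
    have hba : b = a := by
      have h0 : (b - a) * e x = 0 := by rw [sub_mul, hab, sub_self]
      exact sub_eq_zero.mp ((mem_nonZeroDivisors_iff_right.mp (he x)) _ h0)
    subst hba
    have hcop : (quot I₁ E hfg).ideal (U x) ⊔ (quot I₂ E hfg).ideal (U x) = ⊤ :=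
      congrArg (fun K : X.IdealSheafData => K.ideal (U x)) hsup
    have hmul : b ∈ (quot I₁ E hfg).ideal (U x) * (quot I₂ E hfg).ideal (U x) := by
      rw [Ideal.mul_eq_inf_of_isCoprime (Ideal.isCoprime_iff_sup_eq.mpr hcop)]
      exact ⟨ha, hb⟩
    exact Ideal.mul_mem_mul hmul (Ideal.mem_span_singleton_self _)

/-- Let D₁, D₂ be effective Cartier divisors on a scheme X, with quasi-coherent ideal sheaves I₁, I₂,
such that the scheme-theoretic intersection E = D₁ ×_X D₂ (ideal sheaf I₁ ⊔ I₂) is again an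
effective Cartier divisor. Then (1) the divisors D₁ − E and D₂ − E are effective and disjoint: there
are ideal sheaves I₁', I₂' of effective Cartier divisors with I₁ = I₁'·(I₁ ⊔ I₂), I₂ = I₂'·(I₁ ⊔ I₂)
and I₁' ⊔ I₂' = ⊤; and (2) the effective Cartier divisor D₁ + D₂ − E, with ideal sheaf I₁'·I₂'·(I₁ ⊔
I₂), is contained in every effective Cartier divisor D of X containing D₁ and D₂: if the ideal sheaf
of D is ≤ I₁ and ≤ I₂ then it is ≤ I₁'·I₂'·(I₁ ⊔ I₂). -/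
theorem result {X : Scheme.{u}} (I₁ I₂ : X.IdealSheafData)
    (h₁ : BlowUp.IsEffCartierIdeal I₁) (h₂ : BlowUp.IsEffCartierIdeal I₂)
    (hE : BlowUp.IsEffCartierIdeal (I₁ ⊔ I₂)) :
    ∃ I₁' I₂' : X.IdealSheafData, BlowUp.IsEffCartierIdeal I₁' ∧ BlowUp.IsEffCartierIdeal I₂' ∧
      I₁ = I₁' * (I₁ ⊔ I₂) ∧ I₂ = I₂' * (I₁ ⊔ I₂) ∧ I₁' ⊔ I₂' = ⊤ ∧
      ∀ D : X.IdealSheafData, BlowUp.IsEffCartierIdeal D → D ≤ I₁ → D ≤ I₂ →
        D ≤ I₁' * I₂' * (I₁ ⊔ I₂) := by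
  obtain ⟨I₁', I₂', a1, a2, a3, a4, a5, a6⟩ := aux I₁ I₂ (I₁ ⊔ I₂) rfl h₁ h₂ hE
  exact ⟨I₁', I₂', a1, a2, a3, a4, a5, fun D _ hD1 hD2 => a6 D hD1 hD2⟩

end Groth.Agent.S18733
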