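import Groth.Statements.S18737
import Groth.Agent.Lib.Helper2CoprodClosure

set_option autoImplicit false
universe u
open CategoryTheory CategoryTheory.Limits AlgebraicGeometry TopologicalSpace
open ModPair

namespace Groth.Agent.S18737

open Groth.Agent.Lib.Helper2.CoprodClosure Groth.Agent.Lib.Helper2.ModPairLib
  Groth.Agent.Lib.Helper2.StrictTr

/-- Let X be a scheme and I the quasi-coherent ideal sheaf of an effective Cartier divisor on X, with
open complement U, and suppose U is the disjoint union of two opens U₀, U₁ of X. Let X₀, X₁ ⊆ X be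
the scheme-theoretic images of U₀ and U₁ in X and p : X₀ ⨿ X₁ ⟶ X the morphism induced by the two
closed immersions. Then the pulled-back ideal I.comap p is the ideal sheaf of an effective Cartier
divisor, and p is an abstract admissible blow-up from (X₀ ⨿ X₁, I.comap p) to (X, I): proper, with
the pulled-back modulus, and an isomorphism over U. -/
theorem result {X : Scheme.{u}}
    (I : X.IdealSheafData) (hI : BlowUp.IsEffCartierIdeal I) (U₀ U₁ : X.Opens)
    (hU : U₀ ⊔ U₁ = ModPair.interior I) (hd : Disjoint U₀ U₁) :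
    BlowUp.IsEffCartierIdeal (I.comap (coprod.desc U₀.ι.imageι U₁.ι.imageι)) ∧
      ModPair.IsAdmBlowup (I.comap (coprod.desc U₀.ι.imageι U₁.ι.imageι)) I
        (coprod.desc U₀.ι.imageι U₁.ι.imageι) := by
  haveI haff : IsAffineHom (ModPair.interior I).ι := isAffineHom_ι_compl hI _ rfl
  haveI hq₀ : QuasiCompact U₀.ι :=
    quasiCompact_ι_of_sup_disjoint (ModPair.interior I) U₀ U₁ hU hd
  haveI hq₁ : QuasiCompact U₁.ι :=
    quasiCompact_ι_of_sup_disjoint (ModPair.interior I) U₁ U₀ (by rw [sup_comm]; exact hU) hd.symm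
  have h₀ : U₀ ≤ ModPair.interior I := hU ▸ le_sup_left
  have h₁ : U₁ ≤ ModPair.interior I := hU ▸ le_sup_right
  have hE₀ : BlowUp.IsEffCartierIdeal (I.comap U₀.ι.imageι) := by
    have h := effCartier_comap_image U₀ (𝟙 X) hI (fun z hz => h₀ hz)
    rwa [Category.comp_id] at h
  have hE₁ : BlowUp.IsEffCartierIdeal (I.comap U₁.ι.imageι) := by
    have h := effCartier_comap_image U₁ (𝟙 X) hI (fun z hz => h₁ hz)
    rwa [Category.comp_id] at h
  have hEC : BlowUp.IsEffCartierIdeal (I.comap (coprod.desc U₀.ι.imageι U₁.ι.imageι)) := by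
    apply isEffCartierIdeal_coprod
    · rw [← Scheme.IdealSheafData.comap_comp, coprod.inl_desc]
      exact hE₀
    · rw [← Scheme.IdealSheafData.comap_comp, coprod.inr_desc]
      exact hE₁
  refine ⟨hEC, rfl, inferInstance, ?_⟩
  exact isIso_coprodDesc_restrict (ModPair.interior I) U₀ U₁ hU hd

end Groth.Agent.S18737
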