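import Groth.Statements.S18739
import Mathlib
import Groth.Agent.Lib.Helper11LocPullback
import Groth.Agent.S18752
import Groth.Agent.S18750
import Groth.Agent.S18749
import Groth.Agent.S18738

set_option autoImplicit false
universe u
open CategoryTheory CategoryTheory.Limits AlgebraicGeometry TopologicalSpace
open ModPair

namespace Groth.Agent.S18739


/-- The localization of the category of modulus pairs and ambient morphisms at the class of abstract
admissible blow-ups has all finite limits. -/
theorem result :
    HasFiniteLimits (ModPair.Pair.admBlowup.{u}).Localization := by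
  haveI := Groth.Agent.S18738.result.{u}
  -- terminal object
  have hpt : IsTerminal (ModPair.Pair.mk (⊤_ Scheme.{u}) ⊤
      Groth.Agent.Lib.Helper20.BlowUpBasic.isEffCartierIdeal_top) :=
    IsTerminal.ofUniqueHom
      (fun A => ModPair.Pair.Hom.mk (terminal.from A.total) (by
        change A.mod ≤ (⊤ : Scheme.IdealSheafData _).comap _
        rw [Scheme.IdealSheafData.comap_top]
        exact le_top))
      (fun A m => by
        apply ModPair.Pair.Hom.ext
        exact terminal.hom_ext _ _)
  haveI : HasTerminal (ModPair.Pair.admBlowup.{u}).Localization :=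
    (Groth.Agent.Lib.Helper11.LocPullback.isTerminal_map
      (ModPair.Pair.admBlowup.{u}).Q (ModPair.Pair.admBlowup.{u}) hpt).some.hasTerminal
  haveI : HasPullbacks (ModPair.Pair.admBlowup.{u}).Localization := by
    refine Groth.Agent.Lib.Helper11.LocPullback.hasPullbacks
      (ModPair.Pair.admBlowup.{u}).Q (ModPair.Pair.admBlowup.{u}) ?_
    intro X T P f g
    obtain ⟨Y, π, K, hY⟩ := Groth.Agent.S18750.result P.mod T.mod X.mod P.isEffCartier
      T.isEffCartier X.isEffCartier f.hom f.cond g.hom g.cond
    obtain ⟨hK, hX, hT, -⟩ := Groth.Agent.S18749.result P.mod T.mod X.mod P.isEffCartier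
      T.isEffCartier X.isEffCartier f.hom f.cond g.hom g.cond π K hY
    exact ⟨ModPair.Pair.mk Y K hK, ModPair.Pair.Hom.mk _ hX, ModPair.Pair.Hom.mk _ hT,
      (Groth.Agent.S18752.result P T X f g π K hY hK hX hT).flip⟩
  exact hasFiniteLimits_of_hasTerminal_and_pullbacks

end Groth.Agent.S18739
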