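import Groth.Statements.S1874
import Groth.Agent.Lib.Helper2IntMultLoc

set_option autoImplicit false
universe u
open CategoryTheory AlgebraicGeometry
attribute [local instance] HasDerivedCategory.standard
open IntMult

namespace Groth.Agent.S1874

/-- Suppose the ideal of V in O_{X,ξ} is generated by a regular sequence g₁, …, g_c. Then c! ·
length(O_{W,ξ}/(g₁, …, g_c)^t O_{W,ξ}) / t^c tends to e(X, V·W, Z) as t → ∞ (so e is c! times the
leading coefficient of that Hilbert polynomial), and e(X, V·W, Z) > 0. Here X is a nonsingular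
variety over an algebraically closed field K (smooth, separated, of finite type, integral), V and W
are closed subvarieties given by quasi-coherent ideal sheaves with integral subschemes, of
dimensions r and s with dim X = n, intersecting properly, and ξ is the generic point of an
irreducible component Z of V ∩ W; e(X, V·W, Z) is the alternating sum of lengths of Tor over
O_{X,ξ}. -/
theorem result (K : Type u) [Field K] [IsAlgClosed K] (X : Scheme.{u}) (f : X ⟶ Spec (CommRingCat.of K)) [Smooth f] [IsSeparated f] [QuasiCompact f] [IsIntegral X] (IV IW : X.IdealSheafData) [IsIntegral IV.subscheme] [IsIntegral IW.subscheme] (n r s : ℕ) (hn : topologicalKrullDim X = n) (hr : topologicalKrullDim IV.support = r) (hs : topologicalKrullDim IW.support = s) (hprop : IntMult.ProperInt (IV.support : Set X) (IW.support : Set X) n r s) (ξ : X) (hξV : ξ ∈ IV.support) (hξW : ξ ∈ IW.support) (hmax : ∀ ξ' : X, ξ' ∈ IV.support → ξ' ∈ IW.support → ξ' ⤳ ξ → ξ' = ξ) (c : ℕ) (g : Fin c → ↑(X.presheaf.stalk ξ)) (hg : IntMult.stalkIdeal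 IV ξ = Ideal.span (Set.range g)) (hreg : RingTheory.Sequence.IsRegular (↑(X.presheaf.stalk ξ)) (List.ofFn g)) : Filter.Tendsto (fun t : ℕ => (c.factorial : ℝ) * ((Module.length (X.presheaf.stalk ξ) (↑(X.presheaf.stalk ξ) ⧸ (IntMult.stalkIdeal IW ξ ⊔ IntMult.stalkIdeal IV ξ ^ t))).toNat : ℝ) / (t : ℝ) ^ c) Filter.atTop (nhds (IntMult.mult IV IW ξ : ℝ)) ∧ 0 < IntMult.mult IV IW ξ := by
  haveI : LocallyOfFiniteType f := inferInstance
  obtain ⟨hN, hFLI, d, bV, bW, hd, hbV, hbW, hle⟩ :=
    Groth.Agent.Lib.Helper2.IntMultLoc.core K X f IV IW n r s hn hr hs hprop ξ hξV hξW hmax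
  haveI := hN
  have hset : (Set.range g : Set (X.presheaf.stalk ξ)) = {a | a ∈ List.ofFn g} := by
    ext a
    simp [List.mem_ofFn]
  have hI : IntMult.stalkIdeal IV ξ = Ideal.ofList (List.ofFn g) := by
    rw [hg, Ideal.ofList, hset]
  have hne : Ideal.ofList (List.ofFn g) ≠ ⊤ := by
    intro htop
    apply hreg.top_ne_smul
    rw [htop, Submodule.top_smul]
  have hl : ∀ a ∈ List.ofFn g, a ∈ IsLocalRing.maximalIdeal (X.presheaf.stalk ξ) := fun a ha =>
    IsLocalRing.le_maximalIdeal hne (Ideal.subset_span ha)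
  have hFLI' : Groth.Agent.Helper13Kz.FLI (Ideal.span {a | a ∈ List.ofFn g})
      (X.presheaf.stalk ξ ⧸ IntMult.stalkIdeal IW ξ) := by
    have := hFLI
    rw [hI] at this
    exact this
  have hmult := Groth.Agent.Lib.Helper2.IntMultLoc.mult_eq_chi IV IW ξ (List.ofFn g) hI
    hreg.toIsWeaklyRegular
  constructor
  · rw [hmult]
    have key := Groth.Agent.Helper13Kz.tendsto_seq_chi (List.ofFn g) hl _ hFLI'
    refine key.congr (fun t => ?_)
    unfold Groth.Agent.Helper13Kz.seq
    rw [List.length_ofFn, Groth.Agent.Lib.Helper2.IntMultLoc.length_quot_smul_top, hI]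
  · rw [hmult]
    refine (Groth.Agent.Helper13Kz.chi_nonneg_and_pos (List.ofFn g) hl _ hFLI').2 ?_
    have h1 : Module.supportDim (X.presheaf.stalk ξ)
        (X.presheaf.stalk ξ ⧸ IntMult.stalkIdeal IW ξ) ≤ ((List.ofFn g).length : WithBot ℕ∞) :=
      Groth.Agent.Helper13Kz.supportDim_le_length_of_FLI _ (List.ofFn g) hl hFLI'
    rw [Module.supportDim_quotient_eq_ringKrullDim, hbW, List.length_ofFn] at h1
    have h2 := ringKrullDim_add_length_eq_ringKrullDim_of_isRegular (List.ofFn g) hreg
    rw [← hI, hbV, hd, List.length_ofFn] at h2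
    have h1' : bW ≤ c := by exact_mod_cast h1
    have h2' : bV + c = d := by exact_mod_cast h2
    have h3 : bW = c := by omega
    rw [Module.supportDim_quotient_eq_ringKrullDim, hbW, List.length_ofFn, h3]

end Groth.Agent.S1874
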