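import Groth.Statements.S18745
import Mathlib
import Groth.Agent.Lib.Helper11ModLim
import Groth.Agent.Lib.Helper11ModLimB
import Groth.Agent.Lib.Helper2Quot

set_option autoImplicit false
universe u
open CategoryTheory CategoryTheory.Limits AlgebraicGeometry TopologicalSpace
open ModPair

namespace Groth.Agent.S18745


/-- Let S be a quasi-compact quasi-separated scheme, (X_i, I_i) a cofiltered system of S-schemes, all
quasi-compact and quasi-separated, carrying quasi-coherent ideal sheaves of effective Cartier
divisors, with affine and minimal transition morphisms, and let X be its limit (as an S-scheme) with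
projections π_i and modulus I = I_i.comap π_i for every i. Let Y ⟶ S be locally of finite type with
Y quasi-compact and quasi-separated, carrying the ideal sheaf I_Y of an effective Cartier divisor.
Assume that either every transition morphism is scheme-theoretically dominant, or Y ⟶ S is locally
of finite presentation. Then every S-morphism φ : X ⟶ Y satisfying the modulus condition I ≤
I_Y.comap φ descends: for some i there is an S-morphism φ_i : X_i ⟶ Y satisfying the modulus
condition I_i ≤ I_Y.comap φ_i with π_i ≫ φ_i = φ. (The base is taken to be a scheme, that is the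
base modulus pair with empty modulus; morphisms over an arbitrary base modulus pair are among
these.) -/
theorem result {S : Scheme.{u}}
    [CompactSpace S] [QuasiSeparatedSpace S] {I : Type u} [SmallCategory I] [IsCofiltered I]
    (D : I ⥤ Over S) (c : Cone D) (hc : IsLimit c)
    [∀ (i j : I) (t : i ⟶ j), IsAffineHom (D.map t).left]
    [∀ i, CompactSpace (D.obj i).left] [∀ i, QuasiSeparatedSpace (D.obj i).left]
    (J : ∀ i, (D.obj i).left.IdealSheafData) (hJ : ∀ i, BlowUp.IsEffCartierIdeal (J i))
    (hmin : ∀ (i j : I) (t : i ⟶ j), ModPair.IsMinimal (J i) (J j) (D.map t).left)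
    (IX : c.pt.left.IdealSheafData) (hIX : ∀ i, IX = (J i).comap (c.π.app i).left)
    (Y : Over S) [CompactSpace Y.left] [QuasiSeparatedSpace Y.left] [LocallyOfFiniteType Y.hom]
    (IY : Y.left.IdealSheafData) (hY : BlowUp.IsEffCartierIdeal IY)
    (h : (∀ (i j : I) (t : i ⟶ j), IsSchemeTheoreticallyDominant (D.map t).left) ∨
      LocallyOfFinitePresentation Y.hom)
    (φ : c.pt ⟶ Y) (hφ : ModPair.IsAmbient IX IY φ.left) :
    ∃ (i : I) (φi : D.obj i ⟶ Y), ModPair.IsAmbient (J i) IY φi.left ∧ c.π.app i ≫ φi = φ := by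
  haveI h1 : ∀ {i j : I} (f : i ⟶ j), IsAffineHom ((D ⋙ Over.forget S).map f) :=
    fun {i j} f => inferInstanceAs (IsAffineHom (D.map f).left)
  haveI h3 : ∀ i, CompactSpace ((D ⋙ Over.forget S).obj i) :=
    fun i => inferInstanceAs (CompactSpace (D.obj i).left)
  haveI h4 : ∀ i, QuasiSeparatedSpace ((D ⋙ Over.forget S).obj i) :=
    fun i => inferInstanceAs (QuasiSeparatedSpace (D.obj i).left)
  have hc' := Groth.Agent.Lib.Helper11.ModLim.overIsLimit D c hc
  have ha : ((Over.forget S).mapCone c).π ≫ Groth.Agent.Lib.Helper11.ModLim.overT D =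
      (Functor.const _).map (φ.left ≫ Y.hom) := by
    rw [Over.w]
    exact Groth.Agent.Lib.Helper11.ModLim.overT_comm D c
  -- Step 1: descend the morphism
  obtain ⟨i₀, g, hg1, hg2⟩ : ∃ (i₀ : I) (g : (D.obj i₀).left ⟶ Y.left),
      (c.π.app i₀).left ≫ g = φ.left ∧ g ≫ Y.hom = (D.obj i₀).hom := by
    rcases h with hdom | hfp
    · haveI h2 : ∀ {i j : I} (f : i ⟶ j),
          IsSchemeTheoreticallyDominant ((D ⋙ Over.forget S).map f) := fun {i j} f => hdom i j f
      exact Groth.Agent.Lib.Helper11.ModLim.exists_π_app_comp_eq_of_dominant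
        (D ⋙ Over.forget S) (Groth.Agent.Lib.Helper11.ModLim.overT D) _ hc' Y.hom φ.left ha
    · haveI := hfp
      exact Scheme.exists_π_app_comp_eq_of_locallyOfFinitePresentation
        (D ⋙ Over.forget S) (Groth.Agent.Lib.Helper11.ModLim.overT D) Y.hom _ hc' φ.left ha
  -- Step 2: descend the modulus condition
  have hA : BlowUp.IsFiniteTypeIdeal (J i₀) :=
    Groth.Agent.Lib.Helper2.Quot.fg_of_isEffCartierIdeal (hJ i₀)
  have H : (J i₀).comap (((Over.forget S).mapCone c).π.app i₀) ≤
      (IY.comap g).comap (((Over.forget S).mapCone c).π.app i₀) := by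
    change (J i₀).comap (c.π.app i₀).left ≤ (IY.comap g).comap (c.π.app i₀).left
    rw [← hIX i₀, ← Scheme.IdealSheafData.comap_comp, hg1]
    exact hφ
  obtain ⟨i, t, ht⟩ := Groth.Agent.Lib.Helper11.ModLimB.exists_comap_le (D ⋙ Over.forget S) _ hc'
    i₀ (J i₀) (IY.comap g) hA H
  refine ⟨i, D.map t ≫ Over.homMk g hg2, ?_, ?_⟩
  · change J i ≤ IY.comap ((D.map t).left ≫ g)
    rw [Scheme.IdealSheafData.comap_comp, hmin i i₀ t]
    exact ht
  · rw [← Category.assoc, c.w t]
    ext
    exact hg1

end Groth.Agent.S18745
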