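import Groth.Statements.S18748
import Mathlib
import Groth.Agent.S18747
import Groth.Agent.S18738
import Groth.Agent.Lib.Helper11LocCoprod

set_option autoImplicit false
universe u
open CategoryTheory CategoryTheory.Limits AlgebraicGeometry TopologicalSpace
open ModPair

namespace Groth.Agent.S18748

section Aux

open Groth.Agent.S18747 Groth.Agent.Lib.Helper2.AdmFrac

theorem isIso_restrict_iSup {X Y : Scheme.{u}} (f : X ⟶ Y) {ι : Type u} (V : ι → Y.Opens)
    (hV : ∀ i, IsIso (f ∣_ V i)) : IsIso (f ∣_ ⨆ i, V i) := by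
  let 𝒰 := Scheme.Opens.iSupOpenCover V
  refine (IsZariskiLocalAtTarget.iff_of_openCover (P := .isomorphisms _) 𝒰).mpr fun x ↦ ?_
  refine (MorphismProperty.arrow_mk_iso_iff (.isomorphisms _)
    ((morphismRestrictRestrict ..).symm ≪≫ morphismRestrictOpensRange ..)).mp ?_
  have : Scheme.Opens.ι _ ''ᵁ (𝒰.f x).opensRange = V x := by
    simp only [Scheme.Opens.iSupOpenCover, 𝒰, ← Scheme.Hom.opensRange_comp, Scheme.homOfLE_ι,
      Scheme.Opens.opensRange_ι]
  convert! hV x

theorem isIso_restrict_image {X Y X' Y' : Scheme.{u}} {f : X ⟶ Y} {g' : X' ⟶ Y'} {j' : X' ⟶ X}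
    {j : Y' ⟶ Y} [IsOpenImmersion j] (H : IsPullback g' j' j f) (T : Y'.Opens)
    (hT : IsIso (g' ∣_ T)) : IsIso (f ∣_ (j ''ᵁ T)) := by
  have H2 := (isPullback_morphismRestrict g' T).paste_vert H
  -- H2 : IsPullback (g' ∣_ T) ((g' ⁻¹ᵁ T).ι ≫ j') (T.ι ≫ j) f
  have e1 : H2.flip.isoPullback.hom ≫ pullback.snd f (T.ι ≫ j) = g' ∣_ T :=
    H2.flip.isoPullback_hom_snd
  have h3 : IsIso (pullback.snd f (T.ι ≫ j)) := by
    have : IsIso (H2.flip.isoPullback.hom ≫ pullback.snd f (T.ι ≫ j)) := by rw [e1]; exact hT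
    exact IsIso.of_isIso_comp_left H2.flip.isoPullback.hom _
  have h4 : IsIso (f ∣_ (T.ι ≫ j).opensRange) :=
    (MorphismProperty.arrow_mk_iso_iff (.isomorphisms _)
      (morphismRestrictOpensRange f (T.ι ≫ j))).mpr h3
  have e2 : (T.ι ≫ j).opensRange = j ''ᵁ T := by
    rw [Scheme.Hom.opensRange_comp, Scheme.Opens.opensRange_ι]
  exact isIso_morphismRestrict_of_eq f e2

variable {σ : Type u} (X' X : σ → Scheme.{u}) (g : ∀ i, X' i ⟶ X i)

/-- the coproduct of the maps `g i` -/
noncomputable def G : (∐ X') ⟶ ∐ X := Sigma.desc (fun i => g i ≫ Sigma.ι X i)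

theorem G_isPullback (j : σ) : IsPullback (g j) (Sigma.ι X' j) (Sigma.ι X j) (G X' X g) := by
  refine IsOpenImmersion.isPullback _ _ _ _ (by simp [G]) ?_
  ext x
  obtain ⟨i, y, rfl⟩ := (sigmaOpenCover X').exists_eq x
  change (G X' X g) (Sigma.ι X' i y) ∈ Set.range (Sigma.ι X j) ↔
    Sigma.ι X' i y ∈ Set.range (Sigma.ι X' j)
  have e : (G X' X g) (Sigma.ι X' i y) = Sigma.ι X i (g i y) := by
    rw [← Scheme.Hom.comp_apply, ← Scheme.Hom.comp_apply]
    simp [G]
  rw [e]
  constructor
  · rintro ⟨w, hw⟩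
    obtain ⟨rfl, -⟩ := (sigmaι_eq_iff X j i w _).1 hw
    exact ⟨y, rfl⟩
  · rintro ⟨w, hw⟩
    obtain ⟨rfl, -⟩ := (sigmaι_eq_iff X' j i w _).1 hw
    exact ⟨_, rfl⟩

theorem G_isProper (hg : ∀ i, IsProper (g i)) : IsProper (G X' X g) := by
  rw [IsZariskiLocalAtTarget.iff_of_openCover (P := @IsProper) (sigmaOpenCover X)]
  intro (j : σ)
  have H := (G_isPullback X' X g j).flip
  have e : H.isoPullback.hom ≫ (sigmaOpenCover X).pullbackHom (G X' X g) j = g j :=
    H.isoPullback_hom_snd
  have h2 : IsProper (H.isoPullback.hom ≫ (sigmaOpenCover X).pullbackHom (G X' X g) j) := by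
    have h3 : IsProper (g j) := hg j
    rw [e]; exact h3
  exact (MorphismProperty.cancel_left_of_respectsIso (P := @IsProper) H.isoPullback.hom _).1 h2

variable (I' : ∀ i, (X' i).IdealSheafData) (I : ∀ i, (X i).IdealSheafData)

theorem interior_K : interior (K X I) = ⨆ i, (Sigma.ι X i) ''ᵁ (interior (I i)) := by
  ext x
  obtain ⟨i, y, rfl⟩ := (sigmaOpenCover X).exists_eq x
  change Sigma.ι X i y ∉ (K X I).support ↔ _
  rw [← mem_support_comap, K_comap]
  simp only [SetLike.mem_coe, TopologicalSpace.Opens.mem_iSup]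
  constructor
  · intro h
    exact ⟨i, y, h, rfl⟩
  · rintro ⟨j, w, hw, e⟩
    obtain ⟨⟩ := (sigmaι_eq_iff X j i w _).1 e
    exact hw

theorem G_admBlowup (hg : ∀ i, IsAdmBlowup (I' i) (I i) (g i)) :
    IsAdmBlowup (K X' I') (K X I) (G X' X g) := by
  refine ⟨?_, G_isProper X' X g (fun i => (hg i).2.1), ?_⟩
  · have heq : ∀ i, (K X' I').comap (Sigma.ι X' i) =
        ((K X I).comap (G X' X g)).comap (Sigma.ι X' i) := by
      intro i
      have e := Scheme.IdealSheafData.comap_comp (K X I) (Sigma.ι X' i) (G X' X g)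
      have e2 : Sigma.ι X' i ≫ G X' X g = g i ≫ Sigma.ι X i := by simp [G]
      rw [e2, Scheme.IdealSheafData.comap_comp, K_comap] at e
      rw [K_comap, ← e]
      exact (hg i).1
    exact le_antisymm
      (le_of_comap_le X' (Sigma.ι X') (fun s => (sigmaOpenCover X').exists_eq s) _ _
        (fun i => le_of_eq (heq i)))
      (le_of_comap_le X' (Sigma.ι X') (fun s => (sigmaOpenCover X').exists_eq s) _ _
        (fun i => ge_of_eq (heq i)))
  · have h1 : IsIso (G X' X g ∣_ ⨆ i, (Sigma.ι X i) ''ᵁ (interior (I i))) :=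
      isIso_restrict_iSup _ _ (fun i => isIso_restrict_image (G_isPullback X' X g i) _ (hg i).2.2)
    exact isIso_morphismRestrict_of_eq _ (interior_K X I).symm


open Groth.Agent.Lib.Helper11.LocCoprod in
theorem smap_admBlowup {σ : Type u} (A B : σ → ModPair.Pair.{u}) (s : ∀ i, A i ⟶ B i)
    (hs : ∀ i, ModPair.Pair.admBlowup (s i)) :
    ModPair.Pair.admBlowup (smap Groth.Agent.S18747.cofan Groth.Agent.S18747.isColimitCofan A B s) := by
  change IsAdmBlowup (K _ _) (K _ _)
    (G (fun i => (A i).total) (fun i => (B i).total) (fun i => (s i).hom))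
  exact G_admBlowup _ _ _ _ _ hs

end Aux


/-- The localization of the category of modulus pairs and ambient morphisms at the class of abstract
admissible blow-ups has binary coproducts, and the localization functor carries the coproduct of two
modulus pairs (the disjoint union of the total spaces with the disjoint union of the moduli) to a
coproduct. (The source also states that the interior functor detects these coproducts; that part is
not included.) -/
theorem result :
    HasBinaryCoproducts (ModPair.Pair.admBlowup.{u}).Localization ∧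
      PreservesColimitsOfShape (Discrete WalkingPair) (ModPair.Pair.admBlowup.{u}).Q := by
  have := Groth.Agent.S18738.result.{u}
  obtain ⟨h1, h2⟩ := Groth.Agent.Lib.Helper11.LocCoprod.main (ModPair.Pair.admBlowup.{u}).Q
    (ModPair.Pair.admBlowup.{u}) (σ := ULift.{u} WalkingPair) Groth.Agent.S18747.cofan
    Groth.Agent.S18747.isColimitCofan smap_admBlowup
  let e : Discrete (ULift.{u} WalkingPair) ≌ Discrete WalkingPair :=
    Discrete.equivalence Equiv.ulift
  exact ⟨hasColimitsOfShape_of_equivalence e, preservesColimitsOfShape_of_equiv e _⟩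

end Groth.Agent.S18748
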