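import Groth.Statements.S18754
import Mathlib
import Groth.Agent.S18742
import Groth.Agent.Lib.Helper2AdmFrac

set_option autoImplicit false
universe u
open CategoryTheory CategoryTheory.Limits AlgebraicGeometry TopologicalSpace
open ModPair

namespace Groth.Agent.S18754


/-- Let (Y, I_Y) be a modulus pair with Y quasi-compact and quasi-separated, and let (X_i ⟶ Y) be a
cofiltered system of Y-schemes with affine transition morphisms such that every X_i is quasi-compact
and quasi-separated, the pulled-back ideal I_Y.comap (X_i ⟶ Y) is the ideal of an effective Cartier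
divisor, and X_i ⟶ Y is an abstract admissible blow-up of modulus pairs which is locally of finite
presentation. Let X be the limit of the system over Y and suppose that X ⟶ Y, with the pulled-back
modulus (assumed effective Cartier), is also an abstract admissible blow-up. Then X ⟶ Y is locally
of finite presentation: an abstract admissible blow-up of quasi-compact quasi-separated modulus
pairs which is not of finite presentation is never a limit of finitely presented ones. -/
theorem result {Y : Scheme.{u}}
    [CompactSpace Y] [QuasiSeparatedSpace Y] (IY : Y.IdealSheafData) (hY : BlowUp.IsEffCartierIdeal IY)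
    {I : Type u} [SmallCategory I] [IsCofiltered I] (D : I ⥤ Over Y) (c : Cone D) (hc : IsLimit c)
    [∀ (i j : I) (t : i ⟶ j), IsAffineHom (D.map t).left]
    [∀ i, CompactSpace (D.obj i).left] [∀ i, QuasiSeparatedSpace (D.obj i).left]
    (hI : ∀ i, BlowUp.IsEffCartierIdeal (IY.comap (D.obj i).hom))
    (hadm : ∀ i, ModPair.IsAdmBlowup (IY.comap (D.obj i).hom) IY (D.obj i).hom)
    [∀ i, LocallyOfFinitePresentation (D.obj i).hom]
    (hX : BlowUp.IsEffCartierIdeal (IY.comap c.pt.hom))
    (hXadm : ModPair.IsAdmBlowup (IY.comap c.pt.hom) IY c.pt.hom) :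
    LocallyOfFinitePresentation c.pt.hom := by
  obtain ⟨hXmin, hXprop, hXiso⟩ := hXadm
  haveI : IsProper c.pt.hom := hXprop
  haveI : CompactSpace c.pt.left := QuasiCompact.compactSpace_of_compactSpace c.pt.hom
  haveI : QuasiSeparatedSpace c.pt.left := quasiSeparatedSpace_of_quasiSeparated c.pt.hom
  have hdom : ∀ (i j : I) (t : i ⟶ j), IsSchemeTheoreticallyDominant (D.map t).left := by
    intro i j t
    obtain ⟨-, -, hi⟩ := hadm i
    obtain ⟨-, -, hj⟩ := hadm j
    have hw : (D.map t).left ≫ (D.obj j).hom = (D.obj i).hom := Over.w _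
    rw [← hw, morphismRestrict_comp] at hi
    haveI := hj
    haveI := hi
    haveI : IsIso ((D.map t).left ∣_ (D.obj j).hom ⁻¹ᵁ interior IY) :=
      @IsIso.of_isIso_comp_right _ _ _ _ _ _ ((D.obj j).hom ∣_ interior IY) hj hi
    have hker : ((D.obj j).hom ⁻¹ᵁ interior IY).ι.ker = ⊥ := by
      rw [Groth.Agent.Lib.Helper2.AdmFrac.preimage_interior_eq (D.obj j).hom rfl]
      exact Groth.Agent.Lib.Helper2.StrictTr.ker_ι_compl (hI j) _ rfl
    rw [isSchemeTheoreticallyDominant_iff, eq_bot_iff, ← hker]
    have e : ((D.obj j).hom ⁻¹ᵁ interior IY).ι =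
        (inv ((D.map t).left ∣_ (D.obj j).hom ⁻¹ᵁ interior IY) ≫
          ((D.map t).left ⁻¹ᵁ ((D.obj j).hom ⁻¹ᵁ interior IY)).ι) ≫ (D.map t).left := by
      rw [Category.assoc, IsIso.eq_inv_comp, morphismRestrict_ι]
    rw [e]
    exact Scheme.Hom.le_ker_comp _ _
  haveI := hdom
  obtain ⟨i, s, hs⟩ := (Groth.Agent.S18742.result D c hc c.pt).1 (𝟙 c.pt)
  have hcomp : (s.left ≫ (c.π.app i).left) ≫ (D.obj i).hom = (D.obj i).hom := by
    have h1 : (c.π.app i).left ≫ (D.obj i).hom = c.pt.hom := Over.w _
    have h2 : s.left ≫ c.pt.hom = (D.obj i).hom := Over.w _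
    rw [Category.assoc, h1, h2]
  have h4 : s.left ≫ (c.π.app i).left = 𝟙 (D.obj i).left := by
    refine Groth.Agent.Lib.Helper2.AdmFrac.hom_ext_of_comp_admBlowup (hI i) _ _ ?_ ?_
      (D.obj i).hom (hadm i) ?_
    · rw [← Scheme.IdealSheafData.comap_comp, hcomp]
    · rw [Scheme.IdealSheafData.comap_id]
    · rw [hcomp, Category.id_comp]
  haveI : IsIso (c.π.app i).left :=
    ⟨s.left, by rw [← Over.comp_left, hs]; rfl, h4⟩
  have hw : (c.π.app i).left ≫ (D.obj i).hom = c.pt.hom := Over.w _
  rw [← hw]
  infer_instance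

end Groth.Agent.S18754
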