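import Groth.Statements.S18755
import Groth.Agent.Lib.Helper2ModPair
import Groth.Agent.Lib.Helper2EffQuot

set_option autoImplicit false
universe u
open CategoryTheory CategoryTheory.Limits AlgebraicGeometry TopologicalSpace
open ModPair

namespace Groth.Agent.S18755

open Groth.Agent.Lib.Helper2.ModPairLib Groth.Agent.Lib.Helper2.EffQuot in
theorem mem_support_comap {X Y : Scheme.{u}} (h : X ⟶ Y) (I : Y.IdealSheafData) (x : X) :
    x ∈ (I.comap h).support ↔ h x ∈ I.support := by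
  rw [Scheme.IdealSheafData.support_comap]
  rfl

/-- Let (S₀, I₀), (S₁, I₁), (T, J), (X, I) be schemes with quasi-coherent ideal sheaves of effective
Cartier divisors, f : X ⟶ S₁, g : T ⟶ S₁ and σ : S₁ ⟶ S₀ morphisms satisfying the modulus condition,
and let (Y₁, K₁) with π₁ and (Y₀, K₀) with π₀ be ambient products of (X, I) and (T, J) over S₁ and
over S₀ (the latter for f ≫ σ and g ≫ σ): blow-ups of the scheme-theoretic image of the product of
the interiors inside X ×_{S₁} T, resp. X ×_{S₀} T, in the intersection of the pulled-back moduli,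
with K·E = D_X·D_T. Then the ambient product is functorial in the base: there is a unique morphism φ
: Y₁ ⟶ Y₀ compatible with the maps to X ×_{S₀} T (through the canonical X ×_{S₁} T ⟶ X ×_{S₀} T),
and every such φ is minimal, K₁ = K₀.comap φ. -/
theorem result {S₀ S₁ T X Y₁ Y₀ : Scheme.{u}} (I₀ : S₀.IdealSheafData)
    (I₁ : S₁.IdealSheafData) (J : T.IdealSheafData) (I : X.IdealSheafData)
    (h₀ : BlowUp.IsEffCartierIdeal I₀) (h₁ : BlowUp.IsEffCartierIdeal I₁)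
    (hT : BlowUp.IsEffCartierIdeal J) (hX : BlowUp.IsEffCartierIdeal I)
    (f : X ⟶ S₁) (hf : ModPair.IsAmbient I I₁ f) (g : T ⟶ S₁) (hg : ModPair.IsAmbient J I₁ g)
    (σ : S₁ ⟶ S₀) (hσ : ModPair.IsAmbient I₁ I₀ σ)
    (π₁ : Y₁ ⟶ ModPair.mprod f g I J) (K₁ : Y₁.IdealSheafData) (hY₁ : ModPair.IsAmbProd f g I J π₁ K₁)
    (π₀ : Y₀ ⟶ ModPair.mprod (f ≫ σ) (g ≫ σ) I J) (K₀ : Y₀.IdealSheafData)
    (hY₀ : ModPair.IsAmbProd (f ≫ σ) (g ≫ σ) I J π₀ K₀) :
    (∃! φ : Y₁ ⟶ Y₀, φ ≫ π₀ ≫ ModPair.mprodι (f ≫ σ) (g ≫ σ) I J =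
        π₁ ≫ ModPair.mprodι f g I J ≫ pullback.mapDesc f g σ) ∧
      ∀ φ : Y₁ ⟶ Y₀, φ ≫ π₀ ≫ ModPair.mprodι (f ≫ σ) (g ≫ σ) I J =
          π₁ ≫ ModPair.mprodι f g I J ≫ pullback.mapDesc f g σ →
        ModPair.IsMinimal K₁ K₀ φ := by
  obtain ⟨hb₁, hK₁⟩ := hY₁
  obtain ⟨hb₀, hK₀⟩ := hY₀
  have hc1 : pullback.mapDesc f g σ ≫ pullback.fst (f ≫ σ) (g ≫ σ) = pullback.fst f g :=
    (pullback.lift_fst _ _ _).trans (Category.comp_id _)
  have hc2 : pullback.mapDesc f g σ ≫ pullback.snd (f ≫ σ) (g ≫ σ) = pullback.snd f g :=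
    (pullback.lift_snd _ _ _).trans (Category.comp_id _)
  haveI haff₁ : IsAffineHom (ModPair.prodInterior f g I J).ι :=
    Groth.Agent.Lib.Helper2.ModPairLib.isAffineHom_ι_prodInterior f g hX hT
  haveI haff₀ : IsAffineHom (ModPair.prodInterior (f ≫ σ) (g ≫ σ) I J).ι :=
    Groth.Agent.Lib.Helper2.ModPairLib.isAffineHom_ι_prodInterior (f ≫ σ) (g ≫ σ) hX hT
  have hI'₁ : BlowUp.IsEffCartierIdeal (I.comap (ModPair.mprodι f g I J ≫ pullback.fst f g)) :=
    Groth.Agent.Lib.Helper2.ModPairLib.effCartier_comap_image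
      (ModPair.prodInterior f g I J) (pullback.fst f g) hX (fun z hz => hz.1)
  have hJ'₁ : BlowUp.IsEffCartierIdeal (J.comap (ModPair.mprodι f g I J ≫ pullback.snd f g)) :=
    Groth.Agent.Lib.Helper2.ModPairLib.effCartier_comap_image
      (ModPair.prodInterior f g I J) (pullback.snd f g) hT (fun z hz => hz.2)
  have hIJ₁ := Groth.Agent.Lib.Helper20.BlowUpBasic.isEffCartierIdeal_mul hI'₁ hJ'₁
  -- Step A: the map of closures
  obtain ⟨ψ, hψ⟩ : ∃ ψ : ModPair.mprod f g I J ⟶ ModPair.mprod (f ≫ σ) (g ≫ σ) I J,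
      ψ ≫ ModPair.mprodι (f ≫ σ) (g ≫ σ) I J =
        ModPair.mprodι f g I J ≫ pullback.mapDesc f g σ := by
    refine Groth.Agent.Lib.Helper2.ModPairLib.exists_lift_image
      (ModPair.prodInterior (f ≫ σ) (g ≫ σ) I J) hIJ₁
      (ModPair.mprodι f g I J ≫ pullback.mapDesc f g σ) ?_
    intro w hw
    rw [Scheme.IdealSheafData.support_mul] at hw
    have hw1 : w ∉ (I.comap (ModPair.mprodι f g I J ≫ pullback.fst f g)).support :=
      fun h => hw (Or.inl h)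
    have hw2 : w ∉ (J.comap (ModPair.mprodι f g I J ≫ pullback.snd f g)).support :=
      fun h => hw (Or.inr h)
    rw [mem_support_comap] at hw1 hw2
    have e1 : (pullback.fst (f ≫ σ) (g ≫ σ))
        ((ModPair.mprodι f g I J ≫ pullback.mapDesc f g σ) w) =
        (ModPair.mprodι f g I J ≫ pullback.fst f g) w := by
      rw [← Scheme.Hom.comp_apply, Category.assoc, hc1]
    have e2 : (pullback.snd (f ≫ σ) (g ≫ σ))
        ((ModPair.mprodι f g I J ≫ pullback.mapDesc f g σ) w) =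
        (ModPair.mprodι f g I J ≫ pullback.snd f g) w := by
      rw [← Scheme.Hom.comp_apply, Category.assoc, hc2]
    refine ⟨?_, ?_⟩
    · change (pullback.fst (f ≫ σ) (g ≫ σ))
        ((ModPair.mprodι f g I J ≫ pullback.mapDesc f g σ) w) ∉ I.support
      rw [e1]
      exact hw1
    · change (pullback.snd (f ≫ σ) (g ≫ σ))
        ((ModPair.mprodι f g I J ≫ pullback.mapDesc f g σ) w) ∉ J.support
      rw [e2]
      exact hw2
  have e1 : ψ ≫ ModPair.mprodι (f ≫ σ) (g ≫ σ) I J ≫ pullback.fst (f ≫ σ) (g ≫ σ) =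
      ModPair.mprodι f g I J ≫ pullback.fst f g := by
    rw [← Category.assoc, hψ, Category.assoc, hc1]
  have e2 : ψ ≫ ModPair.mprodι (f ≫ σ) (g ≫ σ) I J ≫ pullback.snd (f ≫ σ) (g ≫ σ) =
      ModPair.mprodι f g I J ≫ pullback.snd f g := by
    rw [← Category.assoc, hψ, Category.assoc, hc2]
  have eI : (I.comap (ModPair.mprodι (f ≫ σ) (g ≫ σ) I J ≫
      pullback.fst (f ≫ σ) (g ≫ σ))).comap ψ =
      I.comap (ModPair.mprodι f g I J ≫ pullback.fst f g) := by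
    rw [← Scheme.IdealSheafData.comap_comp, e1]
  have eJ : (J.comap (ModPair.mprodι (f ≫ σ) (g ≫ σ) I J ≫
      pullback.snd (f ≫ σ) (g ≫ σ))).comap ψ =
      J.comap (ModPair.mprodι f g I J ≫ pullback.snd f g) := by
    rw [← Scheme.IdealSheafData.comap_comp, e2]
  have hB : (ModPair.prodCentre (f ≫ σ) (g ≫ σ) I J).comap ψ = ModPair.prodCentre f g I J := by
    unfold ModPair.prodCentre
    rw [Scheme.IdealSheafData.comap_sup, eI, eJ]
  -- Step C
  have hE₁ : BlowUp.IsEffCartierIdeal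
      ((ModPair.prodCentre (f ≫ σ) (g ≫ σ) I J).comap (π₁ ≫ ψ)) := by
    rw [Scheme.IdealSheafData.comap_comp, hB]
    exact hb₁.1
  obtain ⟨φ, hφ, hφu⟩ := hb₀.2 Y₁ (π₁ ≫ ψ) hE₁
  have key : ∀ φ' : Y₁ ⟶ Y₀, φ' ≫ π₀ ≫ ModPair.mprodι (f ≫ σ) (g ≫ σ) I J =
      π₁ ≫ ModPair.mprodι f g I J ≫ pullback.mapDesc f g σ ↔ φ' ≫ π₀ = π₁ ≫ ψ := by
    intro φ'
    constructor
    · intro h
      rw [← cancel_mono (ModPair.mprodι (f ≫ σ) (g ≫ σ) I J), Category.assoc, h,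
        Category.assoc, hψ]
    · intro h
      rw [← Category.assoc, h, Category.assoc, hψ]
  refine ⟨⟨φ, (key φ).2 hφ, fun φ' h' => hφu φ' ((key φ').1 h')⟩, ?_⟩
  intro φ' h'
  have h'' := (key φ').1 h'
  change K₁ = K₀.comap φ'
  apply Groth.Agent.Lib.Helper2.EffQuot.eq_of_mul_eq_mul hb₁.1
  rw [hK₁]
  have hEE : (ModPair.prodCentre f g I J).comap π₁ =
      ((ModPair.prodCentre (f ≫ σ) (g ≫ σ) I J).comap π₀).comap φ' := by
    rw [← hB, ← Scheme.IdealSheafData.comap_comp _ π₁ ψ,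
      ← Scheme.IdealSheafData.comap_comp _ φ' π₀, h'']
  have eI' : ((I.comap (ModPair.mprodι (f ≫ σ) (g ≫ σ) I J ≫
      pullback.fst (f ≫ σ) (g ≫ σ))).comap π₀).comap φ' =
      (I.comap (ModPair.mprodι f g I J ≫ pullback.fst f g)).comap π₁ := by
    rw [← Scheme.IdealSheafData.comap_comp _ φ' π₀, h'',
      Scheme.IdealSheafData.comap_comp _ π₁ ψ, eI]
  have eJ' : ((J.comap (ModPair.mprodι (f ≫ σ) (g ≫ σ) I J ≫
      pullback.snd (f ≫ σ) (g ≫ σ))).comap π₀).comap φ' =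
      (J.comap (ModPair.mprodι f g I J ≫ pullback.snd f g)).comap π₁ := by
    rw [← Scheme.IdealSheafData.comap_comp _ φ' π₀, h'',
      Scheme.IdealSheafData.comap_comp _ π₁ ψ, eJ]
  rw [hEE, ← Groth.Agent.Lib.Helper20.BlowUpBasic.comap_mul φ' K₀, hK₀,
    Groth.Agent.Lib.Helper20.BlowUpBasic.comap_mul, eI', eJ']

end Groth.Agent.S18755
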