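import Groth.Statements.S18758
import Mathlib
import Groth.Agent.Lib.Helper11LocFullSub
import Groth.Agent.S18741
import Groth.Agent.S18738

set_option autoImplicit false
universe w v u
open CategoryTheory CategoryTheory.Limits AlgebraicGeometry TopologicalSpace
open ModPair

namespace Groth.Agent.S18758


/-- Let S be a modulus pair and PSch_S the full subcategory of the slice category of modulus pairs over
S on the objects whose structure morphism is of finite type (locally of finite type and
quasi-compact); let Σ_ft be the class of morphisms of PSch_S whose underlying morphism of modulus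
pairs is an abstract admissible blow-up, and Q the localization functor of modulus pairs at all
abstract admissible blow-ups. Then the canonical functor from the localization of PSch_S at Σ_ft to
the slice category over Q S is fully faithful, so that it identifies the localization with the full
subcategory MSch_S of objects isomorphic to finite type ones: for every localization functor L' of
PSch_S at Σ_ft and every functor Φ to the slice over Q S through which the inclusion followed by Q
on slices factors up to isomorphism, Φ is full and faithful. -/
theorem result (S : ModPair.Pair.{u})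
    {E : Type v} [Category.{w} E]
    (L' : (ObjectProperty.FullSubcategory
        ((fun X : Over S => LocallyOfFiniteType X.hom.hom ∧ QuasiCompact X.hom.hom) :
          ObjectProperty (Over S))) ⥤ E)
    [L'.IsLocalization ((((ModPair.Pair.admBlowup.{u}).inverseImage (Over.forget S)).inverseImage
      (ObjectProperty.ι ((fun X : Over S => LocallyOfFiniteType X.hom.hom ∧ QuasiCompact X.hom.hom) :
          ObjectProperty (Over S)))))]
    (Φ : E ⥤ Over ((ModPair.Pair.admBlowup.{u}).Q.obj S))
    (e : L' ⋙ Φ ≅ ObjectProperty.ι ((fun X : Over S => LocallyOfFiniteType X.hom.hom ∧ QuasiCompact X.hom.hom) :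
          ObjectProperty (Over S)) ⋙ Over.post (ModPair.Pair.admBlowup.{u}).Q) :
    Φ.Full ∧ Φ.Faithful := by
  haveI := Groth.Agent.S18738.result.{u}
  have hinv : ((ModPair.Pair.admBlowup.{u}).inverseImage (Over.forget S)).IsInvertedBy
      (Over.post (X := S) (ModPair.Pair.admBlowup.{u}).Q) :=
    Groth.Agent.Lib.Helper18OverLoc.invF _
  haveI hloc : (Over.post (X := S) (ModPair.Pair.admBlowup.{u}).Q).IsLocalization
      ((ModPair.Pair.admBlowup.{u}).inverseImage (Over.forget S)) := by
    haveI : (Localization.lift (Over.post (X := S) (ModPair.Pair.admBlowup.{u}).Q) hinv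
        ((ModPair.Pair.admBlowup.{u}).inverseImage (Over.forget S)).Q).IsEquivalence :=
      Groth.Agent.S18741.result (ModPair.Pair.admBlowup.{u}) S (ModPair.Pair.admBlowup.{u}).Q
        ((ModPair.Pair.admBlowup.{u}).inverseImage (Over.forget S)).Q _
        (Localization.fac _ hinv _)
    exact Functor.IsLocalization.of_equivalence_target
      ((ModPair.Pair.admBlowup.{u}).inverseImage (Over.forget S)).Q
      ((ModPair.Pair.admBlowup.{u}).inverseImage (Over.forget S))
      (Over.post (X := S) (ModPair.Pair.admBlowup.{u}).Q)
      (Localization.lift (Over.post (X := S) (ModPair.Pair.admBlowup.{u}).Q) hinv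
        ((ModPair.Pair.admBlowup.{u}).inverseImage (Over.forget S)).Q).asEquivalence
      (Localization.fac _ hinv _)
  refine Groth.Agent.Lib.Helper11.LocFullSub.full_faithful
    (W := (ModPair.Pair.admBlowup.{u}).inverseImage (Over.forget S))
    (Over.post (X := S) (ModPair.Pair.admBlowup.{u}).Q) ?_ L' Φ e
  intro X Y s hs hY
  obtain ⟨h1, h2⟩ := hY
  have hw : X.hom.hom = s.left.hom ≫ Y.hom.hom := by
    rw [← Over.w s]
    rfl
  obtain ⟨-, hprop, -⟩ := hs
  haveI : IsProper s.left.hom := hprop
  haveI := h1
  haveI := h2
  constructor
  · rw [hw]
    infer_instance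
  · rw [hw]
    infer_instance

end Groth.Agent.S18758
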