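import Groth.Statements.S1876
import Mathlib
import Groth.Agent.Lib.Helper21SPerf

set_option autoImplicit false
universe u
open CategoryTheory
attribute [local instance] HasDerivedCategory.standard
open Trace

namespace Groth.Agent.S1876

open CategoryTheory.Limits

variable {Λ : Type u} [CommRing Λ]

noncomputable def altTr (a b : ℤ) (P : DRing.Cx Λ) (u : P ⟶ P) : Λ :=
  ∑ i ∈ Finset.Icc a b, ((i.negOnePow : ℤˣ) : ℤ) • LinearMap.trace Λ (P.X i) (u.f i).hom

theorem trace_eq_zero_of_isZero (M : ModuleCat.{u} Λ) (hM : IsZero M) (x : M ⟶ M) :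
    LinearMap.trace Λ M x.hom = 0 := by
  have : x = 0 := hM.eq_of_src _ _
  rw [this]
  simp

theorem sum_shift (g : ℤ → Λ) (a b : ℤ) :
    ∑ i ∈ Finset.Icc a b, g (i - 1) = ∑ j ∈ Finset.Icc (a - 1) (b - 1), g j := by
  apply Finset.sum_bij (fun i _ => i - 1)
  · intro i hi
    simp only [Finset.mem_Icc] at hi ⊢
    omega
  · intro i _ j _ h
    omega
  · intro j hj
    simp only [Finset.mem_Icc] at hj
    exact ⟨j + 1, by simp only [Finset.mem_Icc]; omega, by omega⟩
  · intro i _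
    rfl

theorem telescope (s : ℤ → Λ) (a b : ℤ) (ha : s (a - 1) = 0) (hb : s b = 0) :
    ∑ i ∈ Finset.Icc a b, (s i - s (i - 1)) = 0 := by
  rw [Finset.sum_sub_distrib, sum_shift s a b, sub_eq_zero]
  have h1 : ∑ i ∈ Finset.Icc a (b - 1), s i = ∑ i ∈ Finset.Icc a b, s i := by
    apply Finset.sum_subset
    · intro i hi
      simp only [Finset.mem_Icc] at hi ⊢
      omega
    · intro i hi hi'
      simp only [Finset.mem_Icc] at hi hi'
      have : i = b := by omega
      rw [this, hb]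
  have h2 : ∑ i ∈ Finset.Icc a (b - 1), s i = ∑ i ∈ Finset.Icc (a - 1) (b - 1), s i := by
    apply Finset.sum_subset
    · intro i hi
      simp only [Finset.mem_Icc] at hi ⊢
      omega
    · intro i hi hi'
      simp only [Finset.mem_Icc] at hi hi'
      have : i = a - 1 := by omega
      rw [this, ha]
  rw [← h1, h2]

theorem altTr_homotopy (a b : ℤ) (P : DRing.Cx Λ) (hP : DRing.VanishesOutside P a b)
    (hPf : DRing.TermwiseFiniteFree P) (u v : P ⟶ P) (h : Homotopy u v) :
    altTr a b P u = altTr a b P v := by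
  -- the traces of `h ≫ d`
  let t : ℤ → Λ := fun i => LinearMap.trace Λ (P.X (i + 1)) (h.hom (i + 1) i ≫ P.d i (i + 1)).hom
  have ht : ∀ i j : ℤ, i + 1 = j →
      LinearMap.trace Λ (P.X j) (h.hom j i ≫ P.d i j).hom = t i := by
    intro i j hij
    subst hij
    rfl
  have key : ∀ i : ℤ, LinearMap.trace Λ (P.X i) (u.f i).hom =
      t i + t (i - 1) + LinearMap.trace Λ (P.X i) (v.f i).hom := by
    intro i
    have := (hPf i).1
    have := (hPf i).2
    have := (hPf (i + 1)).1
    have := (hPf (i + 1)).2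
    have hc := h.comm i
    rw [dNext_eq h.hom (show (ComplexShape.up ℤ).Rel i (i + 1) from rfl),
      prevD_eq h.hom (show (ComplexShape.up ℤ).Rel (i - 1) i by simp)] at hc
    rw [hc, ModuleCat.hom_add, ModuleCat.hom_add, map_add, map_add]
    congr 2
    · rw [ModuleCat.hom_comp, LinearMap.trace_comp_comm', ← ModuleCat.hom_comp]
    · exact ht (i - 1) i (by omega)
  let s : ℤ → Λ := fun i => ((i.negOnePow : ℤˣ) : ℤ) • t i
  have hs : ∀ i : ℤ, ((i.negOnePow : ℤˣ) : ℤ) • (t i + t (i - 1)) = s i - s (i - 1) := by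
    intro i
    have : ((i - 1).negOnePow : ℤˣ) = - (i.negOnePow : ℤˣ) := by
      rw [Int.negOnePow_sub, Int.negOnePow_one]
      simp
    show _ = ((i.negOnePow : ℤˣ) : ℤ) • t i - (((i - 1).negOnePow : ℤˣ) : ℤ) • t (i - 1)
    rw [this]
    simp only [Units.val_neg, neg_smul, sub_neg_eq_add, smul_add]
  have hsa : s (a - 1) = 0 := by
    show _ • t (a - 1) = 0
    have : t (a - 1) = 0 := by
      show LinearMap.trace Λ _ (h.hom (a - 1 + 1) (a - 1) ≫ P.d (a - 1) (a - 1 + 1)).hom = 0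
      have hz : IsZero (P.X (a - 1)) := hP _ (Or.inl (by omega))
      have : h.hom (a - 1 + 1) (a - 1) ≫ P.d (a - 1) (a - 1 + 1) = 0 := by
        rw [hz.eq_of_tgt (h.hom (a - 1 + 1) (a - 1)) 0, zero_comp]
      rw [this]
      simp
    rw [this, smul_zero]
  have hsb : s b = 0 := by
    show _ • t b = 0
    have : t b = 0 := trace_eq_zero_of_isZero _ (hP _ (Or.inr (by omega))) _
    rw [this, smul_zero]
  unfold altTr
  rw [← sub_eq_zero, ← Finset.sum_sub_distrib]
  rw [← telescope s a b hsa hsb]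
  apply Finset.sum_congr rfl
  intro i _
  rw [key i, ← hs i, ← smul_sub]
  congr 1
  abel

theorem altTr_comm (a b : ℤ) (P Q : DRing.Cx Λ) (hPf : DRing.TermwiseFiniteFree P)
    (hQf : DRing.TermwiseFiniteFree Q) (φ : P ⟶ Q) (ψ : Q ⟶ P) :
    altTr a b P (φ ≫ ψ) = altTr a b Q (ψ ≫ φ) := by
  unfold altTr
  apply Finset.sum_congr rfl
  intro i _
  have := (hPf i).1
  have := (hPf i).2
  have := (hQf i).1
  have := (hQf i).2
  congr 1
  rw [HomologicalComplex.comp_f, HomologicalComplex.comp_f, ModuleCat.hom_comp, ModuleCat.hom_comp,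
    LinearMap.trace_comp_comm']

theorem isKProjective_of_finiteFree (P : DRing.Cx Λ) (a b : ℤ) (hP : DRing.VanishesOutside P a b)
    (hPf : DRing.TermwiseFiniteFree P) : CochainComplex.IsKProjective P := by
  have : P.IsStrictlyLE b := by
    rw [CochainComplex.isStrictlyLE_iff]
    intro i hi
    exact hP i (Or.inr hi)
  have : ∀ n, Projective (P.X n) := fun n => by
    have := (hPf n).2
    exact ModuleCat.projective_of_free (Module.Free.chooseBasis Λ (P.X n))
  exact CochainComplex.isKProjective_of_projective P b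

/-- Commutative coefficient ring, finite free terms: let P and Q be bounded complexes of finite free
Λ-modules with chain endomorphisms f and g, and α : P ≅ Q an isomorphism in the derived category
D(Λ) with α ∘ f = g ∘ α there. Then Σ_i (−1)^i Tr(f^i | P^i) = Σ_i (−1)^i Tr(g^i | Q^i); that is,
the trace of an endomorphism of a perfect object of D(Λ) is well defined. -/
theorem result (Λ : Type u) [CommRing Λ] (P Q : DRing.Cx Λ) (a b : ℤ) (hP : DRing.VanishesOutside P a b) (hQ : DRing.VanishesOutside Q a b) (hPf : DRing.TermwiseFiniteFree P) (hQf : DRing.TermwiseFiniteFree Q) (f : P ⟶ P) (g : Q ⟶ Q) (α : DRing.toD P ≅ DRing.toD Q) (h : α.hom ≫ DerivedCategory.Q.map g = DerivedCategory.Q.map f ≫ α.hom) : ∑ i ∈ Finset.Icc a b, ((i.negOnePow : ℤˣ) : ℤ) • LinearMap.trace Λ (P.X i) (f.f i).hom = ∑ i ∈ Finset.Icc a b, ((i.negOnePow : ℤˣ) : ℤ) • LinearMap.trace Λ (Q.X i) (g.f i).hom := by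
  have hPK := isKProjective_of_finiteFree P a b hP hPf
  have hQK := isKProjective_of_finiteFree Q a b hQ hQf
  obtain ⟨φ, hφ⟩ := Groth.Agent.Lib.Helper21.SPerf.exists_map_eq_of_isKProjective P Q α.hom
  obtain ⟨ψ, hψ⟩ := Groth.Agent.Lib.Helper21.SPerf.exists_map_eq_of_isKProjective Q P α.inv
  obtain ⟨h1⟩ := Groth.Agent.Lib.Helper21.SPerf.homotopy_of_Q_map_eq P P (φ ≫ ψ) (𝟙 P) (by
    rw [Functor.map_comp, hφ, hψ, Iso.hom_inv_id, CategoryTheory.Functor.map_id])
  obtain ⟨h2⟩ := Groth.Agent.Lib.Helper21.SPerf.homotopy_of_Q_map_eq Q Q (ψ ≫ φ) (𝟙 Q) (by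
    rw [Functor.map_comp, hφ, hψ, Iso.inv_hom_id, CategoryTheory.Functor.map_id])
  obtain ⟨h3⟩ := Groth.Agent.Lib.Helper21.SPerf.homotopy_of_Q_map_eq P Q (f ≫ φ) (φ ≫ g) (by
    rw [Functor.map_comp, Functor.map_comp, hφ, h])
  show altTr a b P f = altTr a b Q g
  calc altTr a b P f = altTr a b P (f ≫ (φ ≫ ψ)) :=
        (altTr_homotopy a b P hP hPf _ _ (h1.compLeftId f)).symm
    _ = altTr a b P ((f ≫ φ) ≫ ψ) := by rw [Category.assoc]
    _ = altTr a b P ((φ ≫ g) ≫ ψ) := altTr_homotopy a b P hP hPf _ _ (h3.compRight ψ)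
    _ = altTr a b P (φ ≫ (g ≫ ψ)) := by rw [Category.assoc]
    _ = altTr a b Q ((g ≫ ψ) ≫ φ) := altTr_comm a b P Q hPf hQf _ _
    _ = altTr a b Q (g ≫ (ψ ≫ φ)) := by rw [Category.assoc]
    _ = altTr a b Q g := altTr_homotopy a b Q hQ hQf _ _ (h2.compLeftId g)

end Groth.Agent.S1876
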