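import Groth.Statements.S1878
import Mathlib
import Groth.Agent.Lib.Helper11FfgSch

set_option autoImplicit false
universe u
open CategoryTheory CategoryTheory.Limits AlgebraicGeometry
open Grpd

namespace Groth.Agent.S1878


/-- Let (U, R, s, t, c) be a groupoid scheme over S with U, R affine and s, t finite locally free, and M
= Spec C. (1) U → M is surjective and two points of U have the same image iff some point of R has
them as target and source. (2) For every algebraically closed field k, M(k) = U(k)/R(k): every
k-point of M lifts to U, and two k-points of U agree in M iff they are the target and source of a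
k-point of R. (A groupoid scheme carries U, R, s, t, c, e, i over S with the groupoid axioms on
T-points; 'finite locally free' is finite, flat and locally of finite presentation; C ⊂ Γ(U) is the
ring of functions a with s♯(a) = t♯(a) and M = Spec C.) -/
theorem result (S : Scheme.{u}) (G : Grpd.GroupoidScheme S) [IsAffine G.U] [IsAffine G.R] [IsFinite G.s] [Flat G.s] [LocallyOfFinitePresentation G.s] [IsFinite G.t] [Flat G.t] [LocallyOfFinitePresentation G.t] : (Function.Surjective G.toQuot ∧ ∀ u₀ u₁ : G.U, G.toQuot u₀ = G.toQuot u₁ ↔ ∃ r : G.R, G.t r = u₀ ∧ G.s r = u₁) ∧ ∀ (k : Type u) [Field k] [IsAlgClosed k], (∀ m : Spec (CommRingCat.of k) ⟶ Spec (CommRingCat.of G.invariants), ∃ x : Spec (CommRingCat.of k) ⟶ G.U, x ≫ G.toQuot = m) ∧ ∀ x₀ x₁ : Spec (CommRingCat.of k) ⟶ G.U, x₀ ≫ G.toQuot = x₁ ≫ G.toQuot ↔ ∃ r : Spec (CommRingCat.of k) ⟶ G.R, r ≫ G.t = x₀ ∧ r ≫ G.s = x₁ := by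
  open Groth.Agent.Lib.Helper11.Ffg in
  refine ⟨⟨toQuot_surjective G, toQuot_eq_iff G⟩, ?_⟩
  intro k _ _
  constructor
  · intro m
    haveI : Algebra.IsIntegral G.invariants Γ(G.U, ⊤) := Groth.Agent.S1879.main S G
    obtain ⟨x, hx⟩ := exists_extension (C := G.invariants) (A := Γ(G.U, ⊤)) (k := k)
      Subtype.val_injective (Spec.preimage m).hom
    refine ⟨ofRh (CommRingCat.ofHom x), ?_⟩
    rw [comp_toQuot, rh_ofRh]
    have : CommRingCat.ofHom G.invariants.subtype ≫ CommRingCat.ofHom x = Spec.preimage m := by
      ext c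
      exact RingHom.congr_fun hx c
    rw [this, Spec.map_preimage]
  · intro x₀ x₁
    constructor
    · intro h
      rw [comp_toQuot, comp_toQuot] at h
      have h2 := Spec.map_injective h
      obtain ⟨ρ, hρ0, hρ1⟩ := exists_point_of_isAlgClosed_grpd G k (rh x₀).hom (rh x₁).hom (by
        have := congrArg CommRingCat.Hom.hom h2
        exact this)
      refine ⟨ofRh (CommRingCat.ofHom ρ), ?_, ?_⟩
      · apply rh_injective
        rw [rh_comp, rh_ofRh]
        ext a
        exact RingHom.congr_fun hρ0 a
      · apply rh_injective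
        rw [rh_comp, rh_ofRh]
        ext a
        exact RingHom.congr_fun hρ1 a
    · rintro ⟨r, rfl, rfl⟩
      rw [Category.assoc, Category.assoc, t_toQuot]

end Groth.Agent.S1878
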