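import Groth.Statements.S18789
import Mathlib.RingTheory.Nakayama
import Mathlib.LinearAlgebra.Matrix.Adjugate
-- import your own Groth.Agent.* helpers here

set_option autoImplicit false
universe u v w x
open TorusGr

namespace Groth.Agent.S18789

section
open DirectSum
variable {k : Type u} [Field k] {M : Type v} [AddCommGroup M] [DecidableEq M]
    {A : Type w} [CommRing A] [Algebra k A] (𝒜 : M → Submodule k A) [GradedAlgebra 𝒜]
    {P : Type x} [AddCommGroup P] [Module A P] [Module k P]
    (ℳ : M → Submodule k P) [Decomposition ℳ] [SetLike.GradedSMul 𝒜 ℳ]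

theorem decompose_smul_comp (a : A) {p : P} {j : M} (hp : p ∈ ℳ j) (i : M) :
    ((DirectSum.decompose ℳ (a • p)) (i + j) : P) = ((DirectSum.decompose 𝒜 a) i : A) • p := by
  classical
  have key : ∀ d : M, ((DirectSum.decompose ℳ (((DirectSum.decompose 𝒜 a) d : A) • p)) (i + j) : P)
      = if d = i then ((DirectSum.decompose 𝒜 a) d : A) • p else 0 := by
    intro d
    have hmem : ((DirectSum.decompose 𝒜 a) d : A) • p ∈ ℳ (d + j) :=
      SetLike.GradedSMul.smul_mem (i := d) (j := j) (SetLike.coe_mem ((DirectSum.decompose 𝒜 a) d)) hp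
    split_ifs with h
    · subst h
      exact DirectSum.decompose_of_mem_same ℳ hmem
    · exact DirectSum.decompose_of_mem_ne ℳ hmem (by simpa using h)
  conv_lhs => rw [← DirectSum.sum_support_decompose 𝒜 a, Finset.sum_smul, DirectSum.decompose_sum]
  rw [DFinsupp.finsetSum_apply, AddSubmonoidClass.coe_finsetSum]
  simp_rw [key]
  rw [Finset.sum_ite_eq']
  split_ifs with h
  · rfl
  · simp only [DFinsupp.mem_support_toFun, ne_eq, not_not] at h
    simp [h]

/-- the homogeneous component of a linear combination of homogeneous elements -/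
theorem decompose_sum_smul {n : ℕ} (wt : Fin n → M) (f : Fin n → P) (hf : ∀ i, f i ∈ ℳ (wt i))
    (c : Fin n → A) (j : M) :
    ((DirectSum.decompose ℳ (∑ i, c i • f i)) j : P)
      = ∑ i, ((DirectSum.decompose 𝒜 (c i)) (j - wt i) : A) • f i := by
  rw [DirectSum.decompose_sum, DFinsupp.finsetSum_apply, AddSubmonoidClass.coe_finsetSum]
  refine Finset.sum_congr rfl fun i _ => ?_
  have := decompose_smul_comp 𝒜 ℳ (c i) (hf i) (j - wt i)
  rwa [sub_add_cancel] at this

end


open DirectSum in
/-- Let `A` be a commutative algebra over a field `k`, graded by an additive commutative group `M` (for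
`M` the character group of a split torus `T` this is a `T`-action on `Spec A`, and an `M`-graded
`A`-module is a `T`-equivariant quasi-coherent sheaf), let `P` be a finitely generated projective
`A`-module with a compatible `M`-grading (a locally free `T`-sheaf of finite rank), and let `m` be a
homogeneous maximal ideal with residue field `k` (a `T`-fixed rational point). If homogeneous
elements `f i` of `P` reduce to a basis of `P/mP`, then there is a homogeneous `s ∉ m` such that
after inverting `s` the `f i` generate `P` and every relation among them is killed by a power of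
`s`: on the invariant open `D(s)` the module is free on the homogeneous sections `f i`, with the
weights of the fibre `P/mP`. (The published statement has `M ≅ ℤ^r`, a split torus; here `M` is any
additive commutative group, i.e. any diagonalizable group.) -/
theorem result
    {k : Type u} [Field k] {M : Type v} [AddCommGroup M] [DecidableEq M]
    {A : Type w} [CommRing A] [Algebra k A] (𝒜 : M → Submodule k A) [GradedAlgebra 𝒜]
    {P : Type x} [AddCommGroup P] [Module A P] [Module k P] [IsScalarTower k A P]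
    (ℳ : M → Submodule k P) [Decomposition ℳ] [SetLike.GradedSMul 𝒜 ℳ]
    [Module.Finite A P] [Module.Projective A P]
    (m : Ideal A) [m.IsMaximal] (hm : m.IsHomogeneous 𝒜)
    (hrat : Function.Surjective (algebraMap k (A ⧸ m)))
    {n : ℕ} (wt : Fin n → M) (f : Fin n → P) (hf : ∀ i, f i ∈ ℳ (wt i))
    (hli : LinearIndependent (A ⧸ m)
      (fun i => (Submodule.Quotient.mk (f i) : P ⧸ (m • (⊤ : Submodule A P)))))
    (hsp : Submodule.span A (Set.range f) ⊔ m • (⊤ : Submodule A P) = ⊤) :
    ∃ s : A, SetLike.IsHomogeneousElem 𝒜 s ∧ s ∉ m ∧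
      (∀ p : P, ∃ (N : ℕ) (c : Fin n → A), s ^ N • p = ∑ i, c i • f i) ∧
      (∀ c : Fin n → A, ∑ i, c i • f i = 0 → ∃ N : ℕ, ∀ i, s ^ N * c i = 0) := by
  classical
  -- Step 0: homogeneous elements of nonzero degree lie in m
  have hfix : ∀ i : M, i ≠ 0 → ∀ a ∈ 𝒜 i, a ∈ m := by
    intro i hi a ha
    obtain ⟨c, hc⟩ := hrat (Ideal.Quotient.mk m a)
    have h1 : a - algebraMap k A c ∈ m := by
      rw [← Ideal.Quotient.eq, ← hc]; rfl
    have h2 := hm i h1
    rw [DirectSum.decompose_sub, DirectSum.sub_apply, AddSubgroupClass.coe_sub,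
      DirectSum.decompose_of_mem_same 𝒜 ha,
      DirectSum.decompose_of_mem_ne 𝒜 (SetLike.algebraMap_mem_graded 𝒜 c) (Ne.symm hi),
      sub_zero] at h2
    exact h2
  -- Step 1: an element whose degree zero part lies in m lies in m
  have hdeg0 : ∀ r : A, r ∉ m → ((DirectSum.decompose 𝒜 r) 0 : A) ∉ m := by
    intro r hr h
    apply hr
    rw [← DirectSum.sum_support_decompose 𝒜 r]
    refine Submodule.sum_mem _ fun i _ => ?_
    by_cases hi : i = 0
    · subst hi; exact h
    · exact hfix i hi _ (SetLike.coe_mem _)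
  -- Step 2: Nakayama
  set N : Submodule A P := Submodule.span A (Set.range f) with hN
  obtain ⟨r, hr1, hrN⟩ := Submodule.exists_sub_one_mem_and_smul_le_of_fg_of_le_sup
    (I := m) (N := N) (N' := ⊤) (P := ⊤) (Module.Finite.fg_top) le_rfl (by rw [hsp])
  have hrm : r ∉ m := by
    intro h
    have : (1 : A) ∈ m := by
      have := Ideal.sub_mem _ h hr1
      simpa using this
    exact (Ideal.IsMaximal.ne_top ‹_›) ((Ideal.eq_top_iff_one m).mpr this)
  set s1 : A := ((DirectSum.decompose 𝒜 r) 0 : A) with hs1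
  have hs1m : s1 ∉ m := hdeg0 r hrm
  have hs1h : s1 ∈ 𝒜 0 := SetLike.coe_mem _
  -- the span of f as a range
  have hNmem : ∀ p : P, p ∈ N ↔ ∃ c : Fin n → A, p = ∑ i, c i • f i := by
    intro p
    rw [hN, Submodule.mem_span_range_iff_exists_fun]
    constructor
    · rintro ⟨c, rfl⟩; exact ⟨c, rfl⟩
    · rintro ⟨c, rfl⟩; exact ⟨c, rfl⟩
  -- s1 • P ≤ N
  have hs1N : ∀ p : P, s1 • p ∈ N := by
    intro p
    rw [← DirectSum.sum_support_decompose ℳ p, Finset.smul_sum]
    refine Submodule.sum_mem _ fun j _ => ?_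
    have hpj : ((DirectSum.decompose ℳ p) j : P) ∈ ℳ j := SetLike.coe_mem _
    have h1 : r • ((DirectSum.decompose ℳ p) j : P) ∈ N :=
      hrN (Submodule.smul_mem_pointwise_smul _ r ⊤ Submodule.mem_top)
    obtain ⟨c, hc⟩ := (hNmem _).mp h1
    have h2 := decompose_smul_comp 𝒜 ℳ r hpj 0
    rw [zero_add, hc, decompose_sum_smul 𝒜 ℳ wt f hf c j] at h2
    rw [hs1, ← h2]
    exact (hNmem _).mpr ⟨_, rfl⟩
  -- Step 3: a partial splitting, from projectivity
  let φ : (Fin n → A) →ₗ[A] P := Fintype.linearCombination A f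
  have hφ : ∀ c : Fin n → A, φ c = ∑ i, c i • f i := fun c => Fintype.linearCombination_apply A f c
  have hφrange : ∀ p : P, s1 • p ∈ LinearMap.range φ := by
    intro p
    obtain ⟨c, hc⟩ := (hNmem _).mp (hs1N p)
    exact ⟨c, by rw [hφ, hc]⟩
  let g' : P →ₗ[A] LinearMap.range φ :=
    LinearMap.codRestrict (LinearMap.range φ) (s1 • LinearMap.id) (fun p => hφrange p)
  obtain ⟨ψ, hψ⟩ := Module.projective_lifting_property φ.rangeRestrict g'
    (LinearMap.surjective_rangeRestrict φ)
  have hψ' : ∀ p : P, φ (ψ p) = s1 • p := by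
    intro p
    have := congrArg (fun h => ((h p : LinearMap.range φ) : P)) hψ
    simpa [g'] using this
  let E : Matrix (Fin n) (Fin n) A := Matrix.of fun i l => ψ (f l) i
  have hE : ∀ c : Fin n → A, E.mulVec c = ψ (φ c) := by
    intro c
    ext i
    rw [hφ, map_sum]
    simp only [Matrix.mulVec, dotProduct, E, Matrix.of_apply, map_smul, Finset.sum_apply,
      Pi.smul_apply, smul_eq_mul]
    exact Finset.sum_congr rfl fun l _ => mul_comm _ _
  have hker : ∀ c : Fin n → A, ∑ i, c i • f i = 0 → ∀ i, E.det * c i = 0 := by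
    intro c hc i
    have h1 : E.mulVec c = 0 := by rw [hE, hφ, hc, map_zero]
    have h2 : (E.adjugate * E).mulVec c = 0 := by
      rw [← Matrix.mulVec_mulVec, h1, Matrix.mulVec_zero]
    rw [Matrix.adjugate_mul, Matrix.smul_mulVec, Matrix.one_mulVec] at h2
    simpa using congrFun h2 i
  -- entries of s1 • 1 - E lie in m
  have hDm : ∀ i l, (s1 • (1 : Matrix (Fin n) (Fin n) A) - E) i l ∈ m := by
    intro i l
    have h0 : ∑ i, (s1 • (1 : Matrix (Fin n) (Fin n) A) - E) i l • f i = 0 := by
      have h1 : ∑ i, (E i l) • f i = s1 • f l := by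
        rw [← hψ' (f l), hφ]
        rfl
      have h2 : ∑ i, ((s1 • (1 : Matrix (Fin n) (Fin n) A)) i l) • f i = s1 • f l := by
        simp [Matrix.one_apply, ite_smul, Finset.sum_ite_eq']
      simp only [Matrix.sub_apply, sub_smul, Finset.sum_sub_distrib]
      rw [h1, h2, sub_self]
    have h3 := congrArg (Submodule.mkQ (m • (⊤ : Submodule A P))) h0
    rw [map_zero, map_sum] at h3
    have h4 := (Fintype.linearIndependent_iff.mp hli)
      (fun i => Ideal.Quotient.mk m ((s1 • (1 : Matrix (Fin n) (Fin n) A) - E) i l)) h3 i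
    exact Ideal.Quotient.eq_zero_iff_mem.mp h4
  have hdet : E.det ∉ m := by
    intro h
    have h1 : (Ideal.Quotient.mk m) E.det = 0 := Ideal.Quotient.eq_zero_iff_mem.mpr h
    rw [RingHom.map_det] at h1
    have h2 : (Ideal.Quotient.mk m).mapMatrix E
        = (Ideal.Quotient.mk m s1) • (1 : Matrix (Fin n) (Fin n) (A ⧸ m)) := by
      ext i l
      have := Ideal.Quotient.eq_zero_iff_mem.mpr (hDm i l)
      simp only [Matrix.sub_apply, Matrix.smul_apply, Matrix.one_apply, smul_eq_mul, map_sub,
        map_mul] at this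
      simp only [RingHom.mapMatrix_apply, Matrix.map_apply, Matrix.smul_apply, Matrix.one_apply,
        smul_eq_mul]
      rw [sub_eq_zero] at this
      rw [← this]
      split_ifs <;> simp
    rw [h2, Matrix.det_smul, Matrix.det_one, mul_one] at h1
    have h3 := (pow_eq_zero_iff'.mp h1).1
    exact hs1m (Ideal.Quotient.eq_zero_iff_mem.mp h3)
  -- Step 4: assemble
  set r0 : A := ((DirectSum.decompose 𝒜 E.det) 0 : A) with hr0
  have hr0m : r0 ∉ m := hdeg0 _ hdet
  have hr0h : r0 ∈ 𝒜 0 := SetLike.coe_mem _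
  have hkill : ∀ c : Fin n → A, ∑ i, c i • f i = 0 → ∀ i, r0 * c i = 0 := by
    intro c hc i
    have hcomp : ∀ d : M, r0 * ((DirectSum.decompose 𝒜 (c i)) d : A) = 0 := by
      intro d
      set j : M := d + wt i with hj
      have h1 : ∑ l, ((DirectSum.decompose 𝒜 (c l)) (j - wt l) : A) • f l = 0 := by
        rw [← decompose_sum_smul 𝒜 ℳ wt f hf c j, hc, DirectSum.decompose_zero]
        rfl
      have h2 := hker _ h1 i
      have h3 : j - wt i = d := by rw [hj]; abel
      rw [h3] at h2
      have h4 := DirectSum.coe_decompose_mul_add_of_right_mem 𝒜 (i := 0) (a := E.det)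
        (SetLike.coe_mem ((DirectSum.decompose 𝒜 (c i)) d))
      rw [← hr0] at h4
      rw [← h4, h2, DirectSum.decompose_zero]
      rfl
    rw [← DirectSum.sum_support_decompose 𝒜 (c i), Finset.mul_sum]
    exact Finset.sum_eq_zero fun d _ => hcomp d
  refine ⟨s1 * r0, ⟨0, ?_⟩, ?_, ?_, ?_⟩
  · have := SetLike.GradedMul.mul_mem (A := 𝒜) hs1h hr0h
    rwa [add_zero] at this
  · intro h
    rcases (Ideal.IsMaximal.isPrime ‹_›).mem_or_mem h with h | h
    · exact hs1m h
    · exact hr0m h
  · intro p
    have : (s1 * r0) • p ∈ N := by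
      rw [mul_comm, mul_smul]
      exact N.smul_mem _ (hs1N p)
    obtain ⟨c, hc⟩ := (hNmem _).mp this
    exact ⟨1, c, by rw [pow_one, hc]⟩
  · intro c hc
    refine ⟨1, fun i => ?_⟩
    rw [pow_one, mul_assoc, hkill c hc i, mul_zero]


end Groth.Agent.S18789
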