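import Groth.Statements.S18790
-- import your own Groth.Agent.* helpers here

set_option autoImplicit false
universe u v w
open TorusGr

namespace Groth.Agent.S18790

/-- Let `A` be a commutative algebra over a field `k`, graded by an additive commutative group `M` (for
`M` the character group of a split torus `T`, a `T`-action on `Spec A`), let `J` be the ideal
generated by the homogeneous elements of non-zero degree (its zero locus is the fixed-point
subscheme) and let `m ⊇ J` be a maximal ideal with residue field `k` (a fixed rational point) at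
which the fixed-point subscheme is the reduced point: `J` and `m` agree after localizing at `m`.
Then the cotangent space `m/m²` has no part of weight zero: every degree-zero element of `m` lies in
`m²`. (The published statement has `M ≅ ℤ^r`, a split torus, and phrases the conclusion as the
non-vanishing of the weights of a semi-invariant basis of `m/m²`; here `M` is any additive
commutative group, i.e. any diagonalizable group.) -/
theorem result
    {k : Type u} [Field k] {M : Type v} [AddCommGroup M] [DecidableEq M]
    {A : Type w} [CommRing A] [Algebra k A] (𝒜 : M → Submodule k A) [GradedAlgebra 𝒜]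
    (m : Ideal A) [m.IsMaximal] (hrat : Function.Surjective (algebraMap k (A ⧸ m)))
    (hfix : ∀ i : M, i ≠ 0 → ∀ a ∈ 𝒜 i, a ∈ m)
    (hred : ∀ a ∈ m, ∃ s ∉ m, s * a ∈ Ideal.span {b : A | ∃ i : M, i ≠ 0 ∧ b ∈ 𝒜 i})
    {f : A} (hf0 : f ∈ 𝒜 0) (hfm : f ∈ m) : f ∈ m ^ 2 := by
  classical
  obtain ⟨s, hs, hsf⟩ := hred f hfm
  -- degree zero part of any multiple of an element of the span lies in m^2
  have key : ∀ x ∈ Ideal.span {b : A | ∃ i : M, i ≠ 0 ∧ b ∈ 𝒜 i},
      ∀ a : A, ((DirectSum.decompose 𝒜 (a * x) 0 : 𝒜 0) : A) ∈ m ^ 2 := by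
    intro x hx
    refine Submodule.span_induction ?_ ?_ ?_ ?_ hx
    · rintro b ⟨i, hi, hb⟩ a
      have h1 : ((DirectSum.decompose 𝒜 (a * b) (-i + i) : 𝒜 (-i + i)) : A)
          = (DirectSum.decompose 𝒜 a (-i) : A) * b :=
        DirectSum.coe_decompose_mul_add_of_right_mem 𝒜 hb
      have h2 : ((DirectSum.decompose 𝒜 (a * b) 0 : 𝒜 0) : A)
          = (DirectSum.decompose 𝒜 a (-i) : A) * b := by
        rw [← h1]
        have : (-i + i) = 0 := by simp
        rw [this]
      rw [h2, pow_two]
      exact Ideal.mul_mem_mul (hfix (-i) (by simpa using hi) _ (SetLike.coe_mem _)) (hfix i hi b hb)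
    · intro a; simp
    · intro x y _ _ hx hy a
      rw [mul_add, DirectSum.decompose_add]
      simpa using Ideal.add_mem _ (hx a) (hy a)
    · intro c x _ hx a
      have : a * (c • x) = (a * c) * x := by simp [mul_assoc]
      rw [this]
      exact hx (a * c)
  have h0 := key _ hsf 1
  rw [one_mul, DirectSum.coe_decompose_mul_of_right_mem_zero 𝒜 hf0] at h0
  -- s0 := degree zero part of s is not in m
  set s0 : A := (DirectSum.decompose 𝒜 s 0 : A) with hs0
  have hs0m : s0 ∉ m := by
    intro h
    apply hs
    rw [← DirectSum.sum_support_decompose 𝒜 s]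
    refine Submodule.sum_mem _ fun i _ => ?_
    by_cases hi : i = 0
    · subst hi; exact h
    · exact hfix i hi _ (SetLike.coe_mem _)
  obtain ⟨t, ht⟩ := Ideal.Quotient.exists_inv (I := m)
    (a := Ideal.Quotient.mk m s0) (by rwa [Ne, Ideal.Quotient.eq_zero_iff_mem])
  obtain ⟨t, rfl⟩ := Ideal.Quotient.mk_surjective t
  rw [← map_mul, ← map_one (Ideal.Quotient.mk m), Ideal.Quotient.eq] at ht
  have : f = t * (s0 * f) - (s0 * t - 1) * f := by ring
  rw [this]
  refine Ideal.sub_mem _ (Ideal.mul_mem_left _ _ h0) ?_
  rw [pow_two]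
  exact Ideal.mul_mem_mul ht hfm

end Groth.Agent.S18790
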