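import Groth.Statements.S18791
import Mathlib.LinearAlgebra.Matrix.Adjugate
-- import your own Groth.Agent.* helpers here

set_option autoImplicit false
universe u v w x
open TorusGr

namespace Groth.Agent.S18791

/-- Let `φ : B → A` be a degree-preserving homomorphism of commutative algebras over a field `k` graded
by an additive commutative group `M` (for `M` the character group of a split torus, an equivariant
morphism `Spec A → Spec B`), and let `m` be a maximal ideal of `A` containing all homogeneous
elements of non-zero degree (a fixed point). Then the ideal of those `b` whose image is zero in the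
local ring `A_m` is homogeneous: the homogeneous (weight) components of such a `b` again die in
`A_m`. Since `A_m` embeds in its completion when `A` is Noetherian, these are the elements of `B`
that die in the completed local ring. (The published lemma asserts moreover that, for `B = k[Y_1, …,
Y_d]` mapping the `Y_i` to semi-invariant lifts of a basis of `m/m²`, the kernel of the induced
surjection of completions `k[[Y]] → Â_m` is generated by semi-invariant polynomials; generation of
that kernel by polynomials can fail, so only the statement about polynomial elements of the kernel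
is recorded here. The published statement has `M ≅ ℤ^r` (a split torus) and `B` the polynomial ring
on the lifts; here `M` is any additive commutative group and `B` any `M`-graded `k`-algebra.) -/
theorem result
    {k : Type u} [Field k] {M : Type v} [AddCommGroup M] [DecidableEq M]
    {A : Type w} [CommRing A] [Algebra k A] (𝒜 : M → Submodule k A) [GradedAlgebra 𝒜]
    {B : Type x} [CommRing B] [Algebra k B] (ℬ : M → Submodule k B) [GradedAlgebra ℬ]
    (φ : B →ₐ[k] A) (hφ : ∀ i : M, ∀ b ∈ ℬ i, φ b ∈ 𝒜 i)
    (m : Ideal A) [m.IsMaximal] (hfix : ∀ i : M, i ≠ 0 → ∀ a ∈ 𝒜 i, a ∈ m) :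
    (RingHom.ker ((algebraMap A (Localization.AtPrime m)).comp (φ : B →+* A))).IsHomogeneous ℬ := by
  classical
  intro i b hb
  rw [RingHom.mem_ker, RingHom.comp_apply] at hb ⊢
  rw [IsLocalization.map_eq_zero_iff m.primeCompl] at hb ⊢
  obtain ⟨⟨s, hs⟩, hsb⟩ := hb
  simp only at hsb
  -- degree zero component of s is not in m
  have hs0m : ((DirectSum.decompose 𝒜 s) 0 : A) ∉ m := by
    intro h
    apply hs
    rw [← DirectSum.sum_support_decompose 𝒜 s]
    refine Submodule.sum_mem _ fun i _ => ?_
    by_cases hi : i = 0
    · subst hi; exact h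
    · exact hfix i hi _ (SetLike.coe_mem _)
  set supp := (DirectSum.decompose ℬ b).support with hsupp
  let a : supp → A := fun l => φ ((DirectSum.decompose ℬ b) l.1 : B)
  have ha : ∀ l : supp, a l ∈ 𝒜 l.1 := fun l => hφ _ _ (SetLike.coe_mem _)
  have hφb : (φ : B →+* A) b = ∑ l : supp, a l := by
    conv_lhs => rw [← DirectSum.sum_support_decompose ℬ b]
    rw [map_sum, ← Finset.sum_coe_sort]
    rfl
  let S : Matrix supp supp A := Matrix.of fun p l => ((DirectSum.decompose 𝒜 s) (p.1 - l.1) : A)
  have hS : S.mulVec a = 0 := by
    ext p
    have h1 : ((DirectSum.decompose 𝒜 (s * (φ : B →+* A) b)) p.1 : A) = 0 := by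
      rw [hsb, DirectSum.decompose_zero]; rfl
    rw [hφb, Finset.mul_sum, DirectSum.decompose_sum, DFinsupp.finsetSum_apply,
      AddSubmonoidClass.coe_finsetSum] at h1
    simp only [Matrix.mulVec, dotProduct, S, Matrix.of_apply, Pi.zero_apply]
    rw [← h1]
    refine Finset.sum_congr rfl fun l _ => ?_
    have := DirectSum.coe_decompose_mul_add_of_right_mem 𝒜 (i := p.1 - l.1) (a := s) (ha l)
    rw [sub_add_cancel] at this
    exact this.symm
  have hdet : ∀ l : supp, S.det * a l = 0 := by
    intro l
    have h2 : (S.adjugate * S).mulVec a = 0 := by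
      rw [← Matrix.mulVec_mulVec, hS, Matrix.mulVec_zero]
    rw [Matrix.adjugate_mul, Matrix.smul_mulVec, Matrix.one_mulVec] at h2
    simpa using congrFun h2 l
  have hdetm : S.det ∉ m := by
    intro h
    have h1 : (Ideal.Quotient.mk m) S.det = 0 := Ideal.Quotient.eq_zero_iff_mem.mpr h
    rw [RingHom.map_det] at h1
    have h2 : (Ideal.Quotient.mk m).mapMatrix S
        = (Ideal.Quotient.mk m ((DirectSum.decompose 𝒜 s) 0 : A)) • (1 : Matrix supp supp (A ⧸ m)) := by
      ext p l
      simp only [RingHom.mapMatrix_apply, Matrix.map_apply, Matrix.smul_apply, Matrix.one_apply,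
        smul_eq_mul, S, Matrix.of_apply]
      by_cases hpl : p = l
      · subst hpl
        simp only [if_true, mul_one]
        have : ∀ j : M, j = 0 → ((DirectSum.decompose 𝒜 s) j : A) = ((DirectSum.decompose 𝒜 s) 0 : A) := by
          rintro j rfl; rfl
        rw [this _ (sub_self _)]
      · rw [if_neg hpl, mul_zero, Ideal.Quotient.eq_zero_iff_mem]
        refine hfix _ ?_ _ (SetLike.coe_mem _)
        intro h0
        apply hpl
        exact Subtype.ext (sub_eq_zero.mp h0)
    rw [h2, Matrix.det_smul, Matrix.det_one, mul_one] at h1
    have h3 := (pow_eq_zero_iff'.mp h1).1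
    exact hs0m (Ideal.Quotient.eq_zero_iff_mem.mp h3)
  by_cases hi : i ∈ supp
  · exact ⟨⟨S.det, hdetm⟩, hdet ⟨i, hi⟩⟩
  · refine ⟨⟨1, Submonoid.one_mem _⟩, ?_⟩
    simp only [hsupp, DFinsupp.mem_support_toFun, ne_eq, not_not] at hi
    simp [hi]

end Groth.Agent.S18791
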