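import Groth.Statements.S18792
-- import your own Groth.Agent.* helpers here

set_option autoImplicit false
universe u
open DefMod

namespace Groth.Agent.S18792

/-- Let A be an associative unital algebra over ℚ, let a ∈ A be nilpotent and let b ∈ A. Then the
commutator map x ↦ a x − x a is a nilpotent ℚ-linear endomorphism of A, and exp(a) b exp(−a) =
exp(ad a)(b), where exp is the finite exponential series of a nilpotent element and ad a is the
commutator map. (The published statement takes A an algebra over an arbitrary commutative ring; the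
factorials in the exponential series require the rationals to act, so A is taken to be a ℚ-algebra
here. The intermediate double-sum expansion printed between the two sides is not restated.) -/
theorem result {A : Type u} [Ring A] [Algebra ℚ A] (a b : A)
    (ha : IsNilpotent a) :
    IsNilpotent (LinearMap.mulLeft ℚ a - LinearMap.mulRight ℚ a) ∧
      IsNilpotent.exp a * b * IsNilpotent.exp (-a) =
        IsNilpotent.exp (LinearMap.mulLeft ℚ a - LinearMap.mulRight ℚ a) b := by
  have hL : IsNilpotent (LinearMap.mulLeft ℚ a) := by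
    obtain ⟨n, hn⟩ := ha
    exact ⟨n, by rw [LinearMap.pow_mulLeft, hn, LinearMap.mulLeft_zero_eq_zero]⟩
  have hna : IsNilpotent (-a) := ha.neg
  have hR : ∀ c : A, IsNilpotent c → IsNilpotent (LinearMap.mulRight ℚ c) := by
    rintro c ⟨n, hn⟩
    exact ⟨n, by rw [LinearMap.pow_mulRight, hn, LinearMap.mulRight_zero_eq_zero]⟩
  have hcomm : Commute (LinearMap.mulLeft ℚ a) (LinearMap.mulRight ℚ (-a)) :=
    LinearMap.commute_mulLeft_right a (-a)
  have hsub : LinearMap.mulLeft ℚ a - LinearMap.mulRight ℚ a
      = LinearMap.mulLeft ℚ a + LinearMap.mulRight ℚ (-a) := by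
    ext x; simp [sub_eq_add_neg]
  have hexpL : IsNilpotent.exp (LinearMap.mulLeft ℚ a) = LinearMap.mulLeft ℚ (IsNilpotent.exp a) := by
    have := IsNilpotent.map_exp ha (Algebra.lmul ℚ A)
    exact this.symm
  have hexpR : ∀ c : A, IsNilpotent c →
      IsNilpotent.exp (LinearMap.mulRight ℚ c) = LinearMap.mulRight ℚ (IsNilpotent.exp c) := by
    rintro c ⟨n, hn⟩
    have hn' : (LinearMap.mulRight ℚ c) ^ n = 0 := by
      rw [LinearMap.pow_mulRight, hn, LinearMap.mulRight_zero_eq_zero]
    rw [IsNilpotent.exp_eq_sum hn, IsNilpotent.exp_eq_sum hn']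
    ext x
    simp [LinearMap.pow_mulRight, Finset.mul_sum, LinearMap.sum_apply]
  refine ⟨?_, ?_⟩
  · rw [hsub]
    exact hcomm.isNilpotent_add hL (hR _ hna)
  · rw [hsub, IsNilpotent.exp_add_of_commute hcomm hL (hR _ hna), hexpL, hexpR _ hna]
    simp [mul_assoc]

end Groth.Agent.S18792
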