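import Groth.Statements.S18797
import Mathlib.LinearAlgebra.FreeModule.Finite.Basic
-- import your own Groth.Agent.* helpers here

set_option autoImplicit false
universe u v w
open DefMod

namespace Groth.Agent.S18797

/-- Let K be a field of characteristic zero, O a commutative K-algebra with a K-linear derivation ∂, and
E a finite free O-module equipped with a K-linear map ∂_E satisfying the Leibniz rule ∂_E(a e) =
∂(a) e + a ∂_E(e) (a differential module). The induced derivation on End_O(E) sends φ to ∂_E ∘ φ − φ
∘ ∂_E, which is again O-linear; the trace End_O(E) → O is compatible with the two derivations: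
tr(∂_E ∘ φ − φ ∘ ∂_E) = ∂(tr φ). Here the O-linear map ψ = ∂_E ∘ φ − φ ∘ ∂_E is given by its values.
(The published lemma also asserts that the trace is split surjective and that it respects commutator
brackets; the split surjectivity fails for E = 0 over a nonzero ring and holds only in positive
rank, and neither clause is restated.) -/
theorem result
    {K : Type u} [Field K] [CharZero K]
    {O : Type v} [CommRing O] [Algebra K O] (δ : Derivation K O O)
    {E : Type w} [AddCommGroup E] [Module O E] [Module K E] [IsScalarTower K O E]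
    [Module.Free O E] [Module.Finite O E]
    (δE : E →ₗ[K] E) (hδE : ∀ (a : O) (e : E), δE (a • e) = δ a • e + a • δE e)
    (φ ψ : E →ₗ[O] E) (hψ : ∀ e : E, ψ e = δE (φ e) - φ (δE e)) :
    LinearMap.trace O E ψ = δ (LinearMap.trace O E φ) := by
  classical
  let b := Module.Free.chooseBasis O E
  set Φ := LinearMap.toMatrix b b φ with hΦ
  let N : Matrix (Module.Free.ChooseBasisIndex O E) (Module.Free.ChooseBasisIndex O E) O :=
    fun j i => b.repr (δE (b i)) j
  have hφ : ∀ i, φ (b i) = ∑ j, Φ j i • b j := by
    intro i
    simp only [hΦ, LinearMap.toMatrix_apply]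
    exact (b.sum_repr _).symm
  have hN : ∀ i, δE (b i) = ∑ j, N j i • b j := fun i => (b.sum_repr _).symm
  have hψ' : ∀ i, b.repr (ψ (b i)) i = δ (Φ i i) + ∑ j, Φ j i * N i j - ∑ j, N j i * Φ i j := by
    intro i
    have h1 : δE (φ (b i)) = ∑ j, (δ (Φ j i) • b j + Φ j i • δE (b j)) := by
      rw [hφ i, map_sum]
      exact Finset.sum_congr rfl fun j _ => hδE _ _
    have h2 : φ (δE (b i)) = ∑ j, N j i • φ (b j) := by
      rw [hN i, map_sum]
      exact Finset.sum_congr rfl fun j _ => map_smul _ _ _
    rw [hψ, h1, h2, map_sub, Finsupp.sub_apply, map_sum, map_sum, Finsupp.finsetSum_apply,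
      Finsupp.finsetSum_apply]
    have h3 : ∀ j, b.repr (δ (Φ j i) • b j + Φ j i • δE (b j)) i
        = (if j = i then δ (Φ j i) else 0) + Φ j i * N i j := by
      intro j
      simp only [map_add, map_smul, Finsupp.add_apply, Finsupp.smul_apply, smul_eq_mul,
        Module.Basis.repr_self, N]
      rw [Finsupp.single_apply]
      split_ifs <;> simp
    have h4 : ∀ j, b.repr (N j i • φ (b j)) i = N j i * Φ i j := by
      intro j
      simp only [map_smul, Finsupp.smul_apply, smul_eq_mul, hΦ, LinearMap.toMatrix_apply]
    simp_rw [h3, h4, Finset.sum_add_distrib, Finset.sum_ite_eq', Finset.mem_univ, if_true]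
  rw [LinearMap.trace_eq_matrix_trace O b ψ, LinearMap.trace_eq_matrix_trace O b φ]
  simp only [Matrix.trace, Matrix.diag_apply, LinearMap.toMatrix_apply, map_sum]
  simp_rw [hψ', Finset.sum_sub_distrib, Finset.sum_add_distrib]
  have h5 : ∑ i, ∑ j, Φ j i * N i j = ∑ i, ∑ j, N j i * Φ i j := by
    rw [Finset.sum_comm]
    exact Finset.sum_congr rfl fun i _ => Finset.sum_congr rfl fun j _ => mul_comm _ _
  rw [h5, add_sub_cancel_right]
  refine Finset.sum_congr rfl fun i _ => ?_
  rw [hΦ, LinearMap.toMatrix_apply]

end Groth.Agent.S18797
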