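import Groth.Statements.S18802
import Mathlib.Algebra.Module.Submodule.Equiv
import Mathlib.LinearAlgebra.Basis.VectorSpace
import Mathlib.Algebra.Module.Projective
import Mathlib.LinearAlgebra.FreeModule.Basic
-- import your own Groth.Agent.* helpers here

set_option autoImplicit false
universe u v w w' w''
open DefMod

namespace Groth.Agent.S18802

open W4c6defoisocp1

/-- Let K be a field of characteristic zero, D an associative K-algebra and E, F left D-modules. A
K-linear map s : D → Hom_K(E, F) with s(ab)(e) = a s(b)(e) + s(a)(b e) (a derivation into the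
bimodule Hom_K(E, F), i.e. a Hochschild 1-cocycle) defines the twisted sum F ⊕_s E = F × E with a ·
(f, e) = (a f + s(a) e, a e), an extension of E by F. Every extension of left D-modules 0 → F → Q →
E → 0 arises this way: there are such an s and a D-linear isomorphism Q ≅ F ⊕_s E carrying the given
map F → Q to the inclusion f ↦ (f, 0) and compatible with the two projections onto E. (Together with
the splitting criterion this identifies derivations modulo principal derivations with Ext¹_D(E, F);
the compatibility of that identification with addition and scalars is not restated.) -/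
theorem result
    {K : Type u} [Field K] [CharZero K]
    {D : Type v} [Ring D] [Algebra K D]
    {E : Type w} [AddCommGroup E] [Module K E] [Module D E] [IsScalarTower K D E]
    {F : Type w'} [AddCommGroup F] [Module K F] [Module D F] [IsScalarTower K D F]
    {Q : Type w''} [AddCommGroup Q] [Module D Q]
    (i : F →ₗ[D] Q) (p : Q →ₗ[D] E) (hi : Function.Injective i) (hp : Function.Surjective p)
    (hex : Function.Exact i p) :
    ∃ (s : D →ₗ[K] E →ₗ[K] F) (hs : W4c6defoisocp1.IsHomDerivation s) (Φ : Q ≃ₗ[D] W4c6defoisocp1.TwistExt s hs),
      (∀ f : F, Φ (i f) = W4c6defoisocp1.TwistExt.inl f) ∧ ∀ q : Q, W4c6defoisocp1.TwistExt.snd (Φ q) = p q := by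
  letI : Module K Q := Module.compHom Q (algebraMap K D)
  haveI : IsScalarTower K D Q := ⟨fun c a q => by
    change (c • a) • q = algebraMap K D c • (a • q)
    rw [Algebra.smul_def, mul_smul]⟩
  -- K-linear section of p and retraction of i
  obtain ⟨t, ht⟩ := (p.restrictScalars K).exists_rightInverse_of_surjective
    (LinearMap.range_eq_top.mpr hp)
  obtain ⟨g, hg⟩ := (i.restrictScalars K).exists_leftInverse_of_injective
    (LinearMap.ker_eq_bot.mpr hi)
  have ht' : ∀ e, p (t e) = e := fun e => LinearMap.congr_fun ht e
  have hg' : ∀ f, g (i f) = f := fun f => LinearMap.congr_fun hg f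
  have hig : ∀ q, p q = 0 → i (g q) = q := by
    intro q hq
    obtain ⟨f, rfl⟩ := (hex q).mp hq
    rw [hg']
  have hcomm : ∀ (c : K) (a : D) (q : Q), a • (c • q) = c • (a • q) := by
    intro c a q
    change a • (algebraMap K D c • q) = algebraMap K D c • (a • q)
    rw [← mul_smul, ← mul_smul, Algebra.commutes]
  let s : D →ₗ[K] E →ₗ[K] F := LinearMap.mk₂ K (fun a e => g (a • t e) - g (t (a • e)))
    (by intro a a' e; simp only [add_smul, map_add]; abel)
    (by intro c a e; simp only [smul_assoc, map_smul, smul_sub])
    (by intro a e e'; simp only [map_add, smul_add]; abel)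
    (by intro c a e; simp only [map_smul, hcomm, smul_comm a c e, smul_sub])
  have hsdef : ∀ a e, s a e = g (a • t e - t (a • e)) := fun a e => by
    rw [map_sub]; rfl
  have his : ∀ a e, i (s a e) = a • t e - t (a • e) := by
    intro a e
    rw [hsdef]
    apply hig
    rw [map_sub, map_smul, ht', ht', sub_self]
  have hs : IsHomDerivation s := by
    intro a b e
    apply hi
    rw [map_add, map_smul, his, his, his, mul_smul, mul_smul, smul_sub]
    abel
  let Θ : TwistExt s hs →ₗ[D] Q :=
    { toFun := fun x => i (TwistExt.val x).1 + t (TwistExt.val x).2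
      map_add' := by
        intro x y
        simp only [TwistExt.val_add, Prod.fst_add, Prod.snd_add, map_add]
        abel
      map_smul' := by
        intro a x
        simp only [TwistExt.val_smul, RingHom.id_apply, map_add, map_smul, his, smul_add]
        abel }
  have hΘ : ∀ x, Θ x = i (TwistExt.val x).1 + t (TwistExt.val x).2 := fun x => rfl
  have hpi : ∀ f, p (i f) = 0 := fun f => (hex (i f)).mpr ⟨f, rfl⟩
  have hbij : Function.Bijective Θ := by
    constructor
    · rw [← LinearMap.ker_eq_bot, LinearMap.ker_eq_bot']
      intro x hx
      rw [hΘ] at hx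
      have h2 : (TwistExt.val x).2 = 0 := by
        have := congrArg p hx
        rwa [map_add, hpi, ht', zero_add, map_zero] at this
      rw [h2, map_zero, add_zero] at hx
      have h1 : (TwistExt.val x).1 = 0 := hi (by rw [hx, map_zero])
      exact TwistExt.ext h1 h2
    · intro q
      refine ⟨TwistExt.mk (g (q - t (p q)), p q), ?_⟩
      rw [hΘ, TwistExt.val_mk, hig _ (by rw [map_sub, ht', sub_self])]
      abel
  refine ⟨s, hs, (LinearEquiv.ofBijective Θ hbij).symm, ?_, ?_⟩
  · intro f
    rw [LinearEquiv.symm_apply_eq]
    change i f = Θ (TwistExt.inl f)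
    rw [hΘ, TwistExt.val_inl, map_zero, add_zero]
  · intro q
    obtain ⟨x, rfl⟩ := hbij.2 q
    have : (LinearEquiv.ofBijective Θ hbij).symm (Θ x) = x :=
      (LinearEquiv.ofBijective Θ hbij).symm_apply_apply x
    rw [this, hΘ, map_add, hpi, ht', zero_add, TwistExt.snd_apply]

end Groth.Agent.S18802
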