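import Groth.Statements.S18806
import Groth.Agent.Lib.Helper25Comod

set_option autoImplicit false
universe u v v' w w' x
open TensorProduct
open HopfRep

namespace Groth.Agent.S18806

section aux
variable {k : Type u} [CommRing k] {C : Type v} [AddCommGroup C] [Module k C]
    {D : Type v'} [AddCommGroup D] [Module k D] {V : Type w} [AddCommGroup V] [Module k V]

theorem assoc_nat (i : C →ₗ[k] D) (z : V ⊗[k] C) (c : C) :
    (TensorProduct.map i i).lTensor V (TensorProduct.assoc k V C C (z ⊗ₜ[k] c)) =
      TensorProduct.assoc k V D D ((i.lTensor V z) ⊗ₜ[k] i c) := by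
  induction z using TensorProduct.induction_on with
  | zero => simp
  | add x y hx hy => simp only [TensorProduct.add_tmul, map_add, hx, hy]
  | tmul v a => simp

theorem assoc_rTensor_nat (i : C →ₗ[k] D) (ρC : V →ₗ[k] V ⊗[k] C) (ρ : V →ₗ[k] V ⊗[k] D)
    (h : ∀ v, i.lTensor V (ρC v) = ρ v) (y : V ⊗[k] C) :
    (TensorProduct.map i i).lTensor V (TensorProduct.assoc k V C C (ρC.rTensor C y)) =
      TensorProduct.assoc k V D D (ρ.rTensor D (i.lTensor V y)) := by
  induction y using TensorProduct.induction_on with
  | zero => simp
  | add x y hx hy => simp only [map_add, hx, hy]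
  | tmul v a =>
    rw [LinearMap.rTensor_tmul, assoc_nat, h, LinearMap.lTensor_tmul, LinearMap.rTensor_tmul]

end aux


/-- Let k be a field, i : C → D an injective morphism of k-coalgebras and V a right D-comodule with
coaction ρ : V → V ⊗ D. If ρ(v) lies in the image of V ⊗ C → V ⊗ D (induced by i) for every v, then
V comes from a C-comodule: there is a C-comodule structure on V whose coaction, followed by V ⊗ C →
V ⊗ D, is ρ. (The source states this for left comodules over the coordinate bialgebras of an affine
monoid scheme over k and of its group of units, assumed open and schematically dense, and uses that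
assumption only through the injectivity of the restriction map of coordinate rings; the row is the
right-comodule mirror image for any injective coalgebra map. The converse direction is immediate.) -/
theorem result (k : Type u) [Field k]
    (C : Type v) [AddCommGroup C] [Module k C] [Coalgebra k C]
    (D : Type v') [AddCommGroup D] [Module k D] [Coalgebra k D]
    (i : C →ₗc[k] D) (hi : Function.Injective i)
    (V : Type w) [AddCommGroup V] [Module k V] [HopfRep.Comod k D V]
    (h : ∀ v : V, HopfRep.Comod.coact (k := k) (A := D) v ∈ LinearMap.range ((i : C →ₗ[k] D).lTensor V)) :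
    ∃ c : HopfRep.Comod k C V,
      (i : C →ₗ[k] D).lTensor V ∘ₗ c.coact = HopfRep.Comod.coact (k := k) (A := D) := by
  have hinj : Function.Injective ((i : C →ₗ[k] D).lTensor V) :=
    Module.Flat.lTensor_preserves_injective_linearMap _ hi
  let ρ : V →ₗ[k] V ⊗[k] D := HopfRep.Comod.coact (k := k) (A := D)
  let ρC : V →ₗ[k] V ⊗[k] C :=
    (LinearEquiv.ofInjective ((i : C →ₗ[k] D).lTensor V) hinj).symm.toLinearMap ∘ₗ
      LinearMap.codRestrict (LinearMap.range ((i : C →ₗ[k] D).lTensor V)) ρ h
  have key : ∀ v, (i : C →ₗ[k] D).lTensor V (ρC v) = ρ v := by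
    intro v
    have := LinearEquiv.apply_symm_apply
      (LinearEquiv.ofInjective ((i : C →ₗ[k] D).lTensor V) hinj)
      (LinearMap.codRestrict (LinearMap.range ((i : C →ₗ[k] D).lTensor V)) ρ h v)
    exact congrArg Subtype.val this
  have hinj2 : Function.Injective
      ((TensorProduct.map (i : C →ₗ[k] D) (i : C →ₗ[k] D)).lTensor V) :=
    Module.Flat.lTensor_preserves_injective_linearMap _
      (TensorProduct.map_injective_of_flat_flat _ _ hi hi)
  refine ⟨{ coact := ρC, coassoc := ?_, counit_comp := ?_ }, LinearMap.ext key⟩
  · apply LinearMap.ext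
    intro v
    apply hinj2
    simp only [LinearMap.coe_comp, Function.comp_apply, LinearEquiv.coe_coe]
    rw [assoc_rTensor_nat (i : C →ₗ[k] D) ρC ρ key, key,
      ← LinearMap.comp_apply (LinearMap.lTensor V _) (LinearMap.lTensor V _),
      ← LinearMap.lTensor_comp, CoalgHomClass.map_comp_comul, LinearMap.lTensor_comp,
      LinearMap.comp_apply, key]
    have hc := LinearMap.congr_fun (HopfRep.Comod.coassoc (k := k) (A := D) (V := V)) v
    simpa only [LinearMap.coe_comp, Function.comp_apply, LinearEquiv.coe_coe] using hc
  · apply LinearMap.ext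
    intro v
    rw [LinearMap.comp_apply, ← CoalgHomClass.counit_comp i, LinearMap.lTensor_comp,
      LinearMap.comp_apply, key]
    exact LinearMap.congr_fun (HopfRep.Comod.counit_comp (k := k) (A := D) (V := V)) v

end Groth.Agent.S18806
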