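import Groth.Statements.S18807
import Groth.Agent.Lib.Helper25Comod
import Mathlib.LinearAlgebra.Basis.VectorSpace

set_option autoImplicit false
universe u v v' w w' x
open TensorProduct
open HopfRep

namespace Groth.Agent.S18807

open Groth.Agent.Lib.Helper25 in
theorem slice_lTensor {k : Type u} [CommRing k] {C : Type v} [AddCommGroup C] [Module k C]
    {D : Type v'} [AddCommGroup D] [Module k D] {V : Type w} [AddCommGroup V] [Module k V]
    (i : C →ₗ[k] D) (ψ : D →ₗ[k] k) (x : V ⊗[k] C) :
    slice V ψ (i.lTensor V x) = slice V (ψ ∘ₗ i) x := by
  induction x using TensorProduct.induction_on with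
  | zero => simp
  | add x y hx hy => simp only [map_add, hx, hy]
  | tmul v a => simp


/-- Let k be a field, i : C → D an injective morphism of k-coalgebras, and V a k-vector space carrying a
right C-comodule structure with coaction ρ_C and a right D-comodule structure whose coaction is ρ_C
followed by V ⊗ C → V ⊗ D. Then every k-subspace W of V which is a D-subcomodule (the D-coaction
maps W into the image of W ⊗ D) is a C-subcomodule (ρ_C maps W into the image of W ⊗ C);
consequently the quotient by W is again a C-comodule. (The source states this for left comodules
over the coordinate bialgebras of an affine monoid scheme and of its open schematically dense group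
of units, using only the injectivity of the restriction map; it also records that a D-comodule map
between C-comodules is a C-comodule map, which is immediate from that injectivity and is not part of
this row.) -/
theorem result (k : Type u) [Field k]
    (C : Type v) [AddCommGroup C] [Module k C] [Coalgebra k C]
    (D : Type v') [AddCommGroup D] [Module k D] [Coalgebra k D]
    (i : C →ₗc[k] D) (hi : Function.Injective i)
    (V : Type w) [AddCommGroup V] [Module k V] [HopfRep.Comod k C V] [HopfRep.Comod k D V]
    (hcd : (i : C →ₗ[k] D).lTensor V ∘ₗ HopfRep.Comod.coact (k := k) (A := C) =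
      HopfRep.Comod.coact (k := k) (A := D) (V := V))
    (W : Submodule k V) (hW : HopfRep.IsSubcomod (k := k) (A := D) W) :
    HopfRep.IsSubcomod (k := k) (A := C) W := by
  rw [Groth.Agent.Lib.Helper25.isSubcomod_iff] at hW ⊢
  intro φ w hw
  obtain ⟨r, hr⟩ := LinearMap.exists_leftInverse_of_injective (i : C →ₗ[k] D)
    (LinearMap.ker_eq_bot.mpr hi)
  have h := hW (φ ∘ₗ r) w hw
  rw [Groth.Agent.Lib.Helper25.T_apply, ← hcd, LinearMap.comp_apply, slice_lTensor,
    LinearMap.comp_assoc, hr, LinearMap.comp_id] at h
  exact h

end Groth.Agent.S18807
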