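import Groth.Statements.S18811
import Mathlib

set_option autoImplicit false
universe u
open CategoryTheory CategoryTheory.Limits AlgebraicGeometry
open Variety

namespace Groth.Agent.S18811


lemma quasiSeparatedSpace_of_affine_diagonal (k : Type u) [Field k] (X : Scheme.{u})
    (p : X ⟶ Spec (CommRingCat.of k)) [IsAffineHom (pullback.diagonal p)] :
    QuasiSeparatedSpace X := by
  have h1 : QuasiSeparated p := ⟨inferInstance⟩
  exact (quasiSeparatedSpace_iff_quasiSeparated X).mpr
    (by
      have : terminal.from X = p ≫ terminal.from _ := terminal.hom_ext _ _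
      rw [this]; infer_instance)

lemma flat_of_field (k : Type u) [Field k] (X : Scheme.{u}) (p : X ⟶ Spec (CommRingCat.of k)) :
    Flat p := by
  rw [HasRingHomProperty.iff_of_source_openCover (P := @Flat) X.affineCover]
  intro i
  have h : ((Scheme.ΓSpecIso (.of k)).inv ≫ (X.affineCover.f i ≫ p).appTop).hom.Flat := by
    generalize ((Scheme.ΓSpecIso (.of k)).inv ≫ (X.affineCover.f i ≫ p).appTop) = φ
    algebraize [φ.hom]
    change Module.Flat k _
    infer_instance
  rw [CommRingCat.hom_comp] at h
  exact (RingHom.Flat.respectsIso.cancel_left_isIso (Scheme.ΓSpecIso (.of k)).inv _).mp h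



/-- Let k be a field and X, Y quasi-compact k-schemes whose diagonal morphisms over k are affine
(semi-separated; for instance X and Y separated over k). Then the canonical map Γ(X, O_X) ⊗_k Γ(Y,
O_Y) → Γ(X ×_k Y, O) is an isomorphism: the commutative square of rings of global sections formed by
Spec k, X, Y and X ×_k Y with the pullback maps along the structure morphisms and the two
projections is a pushout square of commutative rings. -/
theorem result (k : Type u) [Field k]
    (X : Scheme.{u}) [X.Over (Spec (CommRingCat.of k))] [CompactSpace ↥X]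
    [IsAffineHom (pullback.diagonal (X ↘ (Spec (CommRingCat.of k))))]
    (Y : Scheme.{u}) [Y.Over (Spec (CommRingCat.of k))] [CompactSpace ↥Y]
    [IsAffineHom (pullback.diagonal (Y ↘ (Spec (CommRingCat.of k))))] :
    IsPushout (X ↘ (Spec (CommRingCat.of k))).appTop (Y ↘ (Spec (CommRingCat.of k))).appTop
      (pullback.fst (X ↘ (Spec (CommRingCat.of k))) (Y ↘ (Spec (CommRingCat.of k)))).appTop
      (pullback.snd (X ↘ (Spec (CommRingCat.of k))) (Y ↘ (Spec (CommRingCat.of k)))).appTop := by
  have hX : QuasiSeparatedSpace X := quasiSeparatedSpace_of_affine_diagonal k X (X ↘ _)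
  have hY : QuasiSeparatedSpace Y := quasiSeparatedSpace_of_affine_diagonal k Y (Y ↘ _)
  have hflat : Flat (Y ↘ (Spec (CommRingCat.of k))) := flat_of_field k Y _
  have H : IsPullback (pullback.fst (X ↘ (Spec (CommRingCat.of k))) (Y ↘ (Spec (CommRingCat.of k))))
      (pullback.snd (X ↘ (Spec (CommRingCat.of k))) (Y ↘ (Spec (CommRingCat.of k))))
      (X ↘ (Spec (CommRingCat.of k))) (Y ↘ (Spec (CommRingCat.of k))) := IsPullback.of_hasPullback _ _
  have hiX : ((X ↘ (Spec (CommRingCat.of k))).appLE ⊤ ⊤ le_top).hom.Flat := by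
    have hflatX : Flat (X ↘ (Spec (CommRingCat.of k))) := flat_of_field k X _
    have h1 : ((Scheme.ΓSpecIso (.of k)).inv ≫
        (X ↘ (Spec (CommRingCat.of k))).appLE ⊤ ⊤ le_top).hom.Flat := by
      generalize ((Scheme.ΓSpecIso (.of k)).inv ≫
        (X ↘ (Spec (CommRingCat.of k))).appLE ⊤ ⊤ le_top) = φ
      algebraize [φ.hom]
      change Module.Flat k _
      infer_instance
    rw [CommRingCat.hom_comp] at h1
    exact (RingHom.Flat.respectsIso.cancel_left_isIso (Scheme.ΓSpecIso (.of k)).inv _).mp h1
  have hiso := isIso_pushoutSection_of_isCompact_of_flat_right_of_ringHomFlat H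
    (US := ⊤) (UT := ⊤) (UX := ⊤) (UY := ⊤) le_top le_top (by simp)
    (isAffineOpen_top _) isCompact_univ (isQuasiSeparated_univ (α := Y))
    isCompact_univ (isQuasiSeparated_univ (α := X)) hiX
  have hpo := (isIso_pushoutSection_iff H (US := ⊤) (UT := ⊤) (UX := ⊤) (UY := ⊤)
    le_top le_top (by simp)).mp hiso
  have key : ∀ {A B : Scheme.{u}} (f : A ⟶ B), f.appTop = f.appLE ⊤ ⊤ le_top := by
    intro A B f
    rw [Scheme.Hom.appTop, Scheme.Hom.app_eq_appLE]
    rfl
  rw [key, key, key, key]
  exact hpo

end Groth.Agent.S18811
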