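import Groth.Statements.S18818
import Groth.Agent.Lib.Helper25ComodSS

set_option autoImplicit false
universe u v w
open TensorProduct
open HopfRep

namespace Groth.Agent.S18818

/-- Let k be a field, C a k-coalgebra and V a right C-comodule which is semisimple in the sense that
every subcomodule has a complementary subcomodule (equivalently every injective comodule map into V
splits). Then V is completely reducible: V is the sum of its simple subcomodules, the nonzero
subcomodules W whose only subcomodules are 0 and W. (The source states this for representations of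
an affine monoid scheme over k, i.e. left comodules over its coordinate bialgebra; the converse
implication and the stability of the class under subobjects and quotients are not part of this row.) -/
theorem result (k : Type u) [Field k]
    (C : Type v) [AddCommGroup C] [Module k C] [Coalgebra k C]
    (V : Type w) [AddCommGroup V] [Module k V] [HopfRep.Comod k C V] (hV : HopfRep.IsSemisimpleComod k C V) :
    (⨆ W : {W : Submodule k V // HopfRep.IsSubcomod (k := k) (A := C) W ∧ W ≠ ⊥ ∧
        ∀ W' : Submodule k V, HopfRep.IsSubcomod (k := k) (A := C) W' → W' ≤ W → W' = ⊥ ∨ W' = W},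
      (W.1 : Submodule k V)) = ⊤ := by
  letI := Groth.Agent.Lib.Helper25.dualModule k C V
  have hss := Groth.Agent.Lib.Helper25.isSemisimpleComod_iff.mp hV
  have htop := @IsSemisimpleModule.sSup_simples_eq_top (Groth.Agent.Lib.Helper25.DualAlg k C) _ V _ _ hss
  set X : Submodule k V := ⨆ W : {W : Submodule k V // HopfRep.IsSubcomod (k := k) (A := C) W ∧ W ≠ ⊥ ∧
        ∀ W' : Submodule k V, HopfRep.IsSubcomod (k := k) (A := C) W' → W' ≤ W → W' = ⊥ ∨ W' = W},
      (W.1 : Submodule k V) with hX
  have hXsub : HopfRep.IsSubcomod (k := k) (A := C) X :=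
    Groth.Agent.Lib.Helper25.isSubcomod_iSup (fun W => W.2.1)
  have hle : sSup {m : Submodule (Groth.Agent.Lib.Helper25.DualAlg k C) V |
      IsSimpleModule (Groth.Agent.Lib.Helper25.DualAlg k C) m} ≤
      Groth.Agent.Lib.Helper25.toDualSub X hXsub := by
    apply sSup_le
    intro m hm
    rw [Set.mem_setOf_eq, isSimpleModule_iff_isAtom,
      Groth.Agent.Lib.Helper25.isAtom_dual_iff] at hm
    have : Groth.Agent.Lib.Helper25.ofDualSub m ≤ X :=
      le_iSup_of_le ⟨Groth.Agent.Lib.Helper25.ofDualSub m,
        Groth.Agent.Lib.Helper25.isSubcomod_ofDualSub m, hm.1, hm.2⟩ le_rfl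
    exact this
  rw [htop, top_le_iff] at hle
  have := congrArg Groth.Agent.Lib.Helper25.ofDualSub hle
  rw [Groth.Agent.Lib.Helper25.ofDualSub_toDualSub] at this
  exact this

end Groth.Agent.S18818
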