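import Groth.Statements.S18819
import Groth.Agent.Lib.Helper25ComodSS

set_option autoImplicit false
universe u v w w'
open TensorProduct
open HopfRep

namespace Groth.Agent.S18819

/-- Let k be a field, C a k-coalgebra and V a right C-comodule which is the sum of finitely many simple
subcomodules, given as the images of comodule maps g_i : K_i → V (i < n) from simple comodules K_i.
If S is a simple comodule and f : S → V a nonzero comodule map (so that its image is a simple
subcomodule of V), then S is isomorphic as a comodule to some K_i: there is a k-linear isomorphism S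
≃ K_i commuting with the coactions. (The source states this for representations of an affine monoid
scheme over k with the subrepresentations given as subspaces; here the simple subcomodules are
presented as images of maps from simple comodules.) -/
theorem result (k : Type u) [Field k]
    (C : Type v) [AddCommGroup C] [Module k C] [Coalgebra k C]
    (V : Type w) [AddCommGroup V] [Module k V] [HopfRep.Comod k C V]
    {n : ℕ} (K : Fin n → Type w') [∀ i, AddCommGroup (K i)] [∀ i, Module k (K i)] [∀ i, HopfRep.Comod k C (K i)]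
    (hK : ∀ i, HopfRep.IsSimpleComod k C (K i)) (g : ∀ i, K i →ₗ[k] V) (hg : ∀ i, Hoch.IsComodHom C (g i))
    (hsum : (⨆ i, LinearMap.range (g i)) = ⊤)
    (S : Type w') [AddCommGroup S] [Module k S] [HopfRep.Comod k C S] (hS : HopfRep.IsSimpleComod k C S)
    (f : S →ₗ[k] V) (hf : Hoch.IsComodHom C f) (hf0 : f ≠ 0) :
    ∃ (i : Fin n) (e : S ≃ₗ[k] K i), Hoch.IsComodHom C (e : S →ₗ[k] K i) := by
  classical
  letI := Groth.Agent.Lib.Helper25.dualModule k C V
  letI := Groth.Agent.Lib.Helper25.dualModule k C S
  letI : ∀ i, Module (Groth.Agent.Lib.Helper25.DualAlg k C) (K i) :=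
    fun i => Groth.Agent.Lib.Helper25.dualModule k C (K i)
  haveI hKs : ∀ i, IsSimpleModule (Groth.Agent.Lib.Helper25.DualAlg k C) (K i) :=
    fun i => Groth.Agent.Lib.Helper25.isSimpleComod_iff.mp (hK i)
  haveI hSs : IsSimpleModule (Groth.Agent.Lib.Helper25.DualAlg k C) S :=
    Groth.Agent.Lib.Helper25.isSimpleComod_iff.mp hS
  let g' : ∀ i, K i →ₗ[Groth.Agent.Lib.Helper25.DualAlg k C] V :=
    fun i => Groth.Agent.Lib.Helper25.toDualLinear (g i) (hg i)
  let f' : S →ₗ[Groth.Agent.Lib.Helper25.DualAlg k C] V :=
    Groth.Agent.Lib.Helper25.toDualLinear f hf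
  have hsum' : (⨆ i, LinearMap.range (g' i)) = ⊤ := by
    apply Groth.Agent.Lib.Helper25.ofDualSub_injective
    rw [Groth.Agent.Lib.Helper25.ofDualSub_top, ← hsum]
    apply le_antisymm
    · intro x hx
      rw [Groth.Agent.Lib.Helper25.mem_ofDualSub] at hx
      refine Submodule.iSup_induction (fun i => LinearMap.range (g' i))
        (motive := fun x => x ∈ ⨆ i, LinearMap.range (g i)) hx ?_ ?_ ?_
      · rintro i _ ⟨y, rfl⟩
        exact Submodule.mem_iSup_of_mem i ⟨y, rfl⟩
      · exact Submodule.zero_mem _
      · intro x y hx hy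
        exact Submodule.add_mem _ hx hy
    · apply iSup_le
      rintro i _ ⟨y, rfl⟩
      rw [Groth.Agent.Lib.Helper25.mem_ofDualSub]
      exact Submodule.mem_iSup_of_mem i ⟨y, rfl⟩
  haveI hVss : IsSemisimpleModule (Groth.Agent.Lib.Helper25.DualAlg k C) V :=
    isSemisimpleModule_of_isSemisimpleModule_submodule' (p := fun i => LinearMap.range (g' i))
      (fun i => IsSemisimpleModule.range (g' i)) hsum'
  have hf'0 : f' ≠ 0 := by
    intro h
    apply hf0
    ext x
    exact LinearMap.congr_fun h x
  have hinj : Function.Injective f' := LinearMap.injective_of_ne_zero hf'0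
  obtain ⟨π, hπ⟩ := IsSemisimpleModule.extension_property f' hinj LinearMap.id
  have hπ0 : ∃ i, π ∘ₗ g' i ≠ 0 := by
    by_contra hcon
    push Not at hcon
    have hle : (⊤ : Submodule (Groth.Agent.Lib.Helper25.DualAlg k C) V) ≤ LinearMap.ker π := by
      rw [← hsum']
      apply iSup_le
      rintro i _ ⟨y, rfl⟩
      rw [LinearMap.mem_ker]
      exact LinearMap.congr_fun (hcon i) y
    haveI : Nontrivial S := hS.1
    obtain ⟨s, hs⟩ := exists_ne (0 : S)
    apply hs
    have := LinearMap.congr_fun hπ s
    rw [LinearMap.comp_apply, LinearMap.id_apply] at this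
    rw [← this]
    exact LinearMap.mem_ker.mp (hle Submodule.mem_top)
  obtain ⟨i, hi⟩ := hπ0
  have hbij : Function.Bijective (π ∘ₗ g' i) := LinearMap.bijective_of_ne_zero hi
  let e0 : K i ≃ₗ[k] S := LinearEquiv.ofBijective
    (Groth.Agent.Lib.Helper25.ofDualLinear (π ∘ₗ g' i)) hbij
  have he0 : Hoch.IsComodHom C (e0 : K i →ₗ[k] S) :=
    Groth.Agent.Lib.Helper25.isComodHom_ofDualLinear (π ∘ₗ g' i)
  exact ⟨i, e0.symm, Groth.Agent.Lib.Helper25.isComodHom_symm e0 he0⟩

end Groth.Agent.S18819
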