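import Groth.Statements.S1882
import Mathlib
import Groth.Agent.Lib.Helper11GrpdRat
import Groth.Agent.Lib.Helper11CompMin

set_option autoImplicit false
universe u
open CategoryTheory CategoryTheory.Limits AlgebraicGeometry
open Grpd

namespace Groth.Agent.S1882

open Groth.Agent.Lib.Helper11


/-- Let (U, R, s, t, c) be a groupoid scheme over S with U isomorphic to the spectrum of a field k. Then
every local ring of R has exactly one minimal prime ideal, and exactly one irreducible component of
R passes through the identity point e. (The published statement has a third part, geometric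
irreducibility of that component over k, which is not stated here.) (A groupoid scheme carries U, R,
s, t, c, e, i over S with the groupoid axioms on T-points.) -/
theorem result (S : Scheme.{u}) (G : Grpd.GroupoidScheme S) (k : Type u) [Field k] (eU : G.U ≅ Spec (CommRingCat.of k)) : (∀ r : G.R, (minimalPrimes (G.R.presheaf.stalk r)).Subsingleton) ∧ ∃! Z : Set G.R, Z ∈ irreducibleComponents (G.R : Type u) ∧ G.e (eU.inv (IsLocalRing.closedPoint k)) ∈ Z := by
  classical
  have hUn : Nonempty G.U := ⟨eU.inv (IsLocalRing.closedPoint k)⟩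
  haveI hUi : AlgebraicGeometry.IsIntegral G.U := isIntegral_of_isOpenImmersion eU.hom
  haveI hUs : Subsingleton G.U := eU.hom.homeomorph.subsingleton
  have h1 : ∀ r : G.R, (minimalPrimes (G.R.presheaf.stalk r)).Subsingleton := by
    intro r
    obtain ⟨k', _, _, φ, x₀, b, hα, hβ, hr⟩ := GrpdRat.exists_rational_lift G k eU r
    have hcomp := GrpdRat.components_eq_of_rational G k'
      (Spec.map (CommRingCat.ofHom φ) ≫ eU.inv) x₀ hα b hβ
    have hmin := CompMin.minimalPrimes_subsingleton_of_components
      (x₀ (IsLocalRing.closedPoint k'))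
      (fun Z₁ h₁ Z₂ h₂ hx₁ hx₂ => hcomp Z₁ h₁ Z₂ h₂ hx₁ hx₂)
    haveI : Flat (GrpdRat.ρ G (Spec.map (CommRingCat.ofHom φ) ≫ eU.inv)) := by
      unfold GrpdRat.ρ
      infer_instance
    have hfl := CompMin.minimalPrimes_subsingleton_of_flat_hom
      (GrpdRat.ρ G (Spec.map (CommRingCat.ofHom φ) ≫ eU.inv)) (x₀ (IsLocalRing.closedPoint k')) hmin
    have e : (GrpdRat.ρ G (Spec.map (CommRingCat.ofHom φ) ≫ eU.inv))
        (x₀ (IsLocalRing.closedPoint k')) = r := by
      rw [← Scheme.Hom.comp_apply]
      exact hr
    exact e ▸ hfl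
  refine ⟨h1, ?_⟩
  refine ⟨irreducibleComponent (G.e (eU.inv (IsLocalRing.closedPoint k))),
    ⟨irreducibleComponent_mem_irreducibleComponents _, mem_irreducibleComponent⟩, ?_⟩
  rintro Z ⟨hZ, hZe⟩
  exact CompMin.components_unique_of_minimalPrimes_subsingleton _ (h1 _) Z hZ _
    (irreducibleComponent_mem_irreducibleComponents _) hZe mem_irreducibleComponent

end Groth.Agent.S1882
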