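import Groth.Statements.S18821
import Mathlib

set_option autoImplicit false
universe u
open CategoryTheory MonoidalCategory CartesianMonoidalCategory MonObj AlgebraicGeometry
open AlgGrp

namespace Groth.Agent.S18821


open CategoryTheory.Limits

variable {S : Scheme.{u}} (M : Over S) [MonObj M]

/-- `(x, y) ↦ (x y, y x)` -/
noncomputable def phi : M ⊗ M ⟶ M ⊗ M := lift (fst M M * snd M M) (snd M M * fst M M)

/-- the point `(1, 1)` -/
noncomputable def one2 : 𝟙_ (Over S) ⟶ M ⊗ M := lift η[M] η[M]

/-- the scheme of units (pairs `(x, y)` with `x y = 1 = y x`). -/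
noncomputable abbrev Units : Over S := pullback (phi M) (one2 M)

/-- the inclusion of the units. -/
noncomputable def incl : Units M ⟶ M := pullback.fst (phi M) (one2 M) ≫ fst M M

variable {M}

lemma lift_phi {T : Over S} (x y : T ⟶ M) : lift x y ≫ phi M = lift (x * y) (y * x) := by
  apply CartesianMonoidalCategory.hom_ext <;> simp [phi, MonObj.comp_mul]

lemma toUnit_one2 {T : Over S} (t : T ⟶ 𝟙_ (Over S)) : t ≫ one2 M = lift 1 1 := by
  apply CartesianMonoidalCategory.hom_ext <;> simp [one2, Hom.one_def, toUnit_unique t (toUnit T)]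

lemma units_mul {T : Over S} (g : T ⟶ Units M) :
    (g ≫ pullback.fst _ _ ≫ fst M M) * (g ≫ pullback.fst _ _ ≫ snd M M) = 1 ∧
    (g ≫ pullback.fst _ _ ≫ snd M M) * (g ≫ pullback.fst _ _ ≫ fst M M) = 1 := by
  have h : (g ≫ pullback.fst (phi M) (one2 M)) ≫ phi M = lift 1 1 := by
    rw [Category.assoc, pullback.condition, ← Category.assoc, toUnit_one2]
  have e : g ≫ pullback.fst (phi M) (one2 M) =
      lift (g ≫ pullback.fst _ _ ≫ fst M M) (g ≫ pullback.fst _ _ ≫ snd M M) := by
    apply CartesianMonoidalCategory.hom_ext <;> simp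
  rw [e, lift_phi] at h
  constructor
  · simpa using congrArg (· ≫ fst M M) h
  · simpa using congrArg (· ≫ snd M M) h

instance : Mono (incl M) := by
  constructor
  intro T a b hab
  obtain ⟨a1, a2⟩ := units_mul a
  obtain ⟨b1, b2⟩ := units_mul b
  have hx : a ≫ pullback.fst (phi M) (one2 M) ≫ fst M M = b ≫ pullback.fst _ _ ≫ fst M M := by
    simpa [incl] using hab
  have hy : a ≫ pullback.fst (phi M) (one2 M) ≫ snd M M = b ≫ pullback.fst _ _ ≫ snd M M := by
    rw [hx] at a2
    exact left_inv_eq_right_inv a2 b1
  apply pullback.hom_ext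
  · apply CartesianMonoidalCategory.hom_ext
    · simpa using hx
    · simpa using hy
  · exact toUnit_unique _ _

lemma factors_iff {T : Over S} (m : T ⟶ M) : (∃ g : T ⟶ Units M, g ≫ incl M = m) ↔ IsUnit m := by
  constructor
  · rintro ⟨g, rfl⟩
    obtain ⟨h1, h2⟩ := units_mul g
    exact ⟨⟨_, _, h1, h2⟩, by simp [incl]⟩
  · rintro ⟨⟨m, n, h1, h2⟩, rfl⟩
    refine ⟨pullback.lift (lift m n) (toUnit T) ?_, ?_⟩
    · rw [lift_phi, toUnit_one2, h1, h2]
    · rw [incl, pullback.lift_fst_assoc, lift_fst]

lemma isAffine_units [IsAffine S] [IsAffine M.left] : IsAffine (Units M).left := by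
  have e : (Over.forget S).obj (Units M) ≅ pullback (phi M).left (one2 M).left :=
    PreservesPullback.iso (Over.forget S) (phi M) (one2 M)
  haveI : IsAffine (M ⊗ M).left := by
    change IsAffine (pullback M.hom M.hom)
    infer_instance
  haveI : IsAffine (𝟙_ (Over S)).left := by
    change IsAffine S
    infer_instance
  haveI : IsAffine (pullback (phi M).left (one2 M).left) := inferInstance
  exact IsAffine.of_isIso e.hom



/-- Let k be a commutative ring and M a monoid k-scheme (a monoid object in k-schemes). Then the group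
k-functor of units T ↦ M(T)^× is representable by a k-scheme: there are a k-scheme G and a
monomorphism i : G → M such that, for every k-scheme T, a T-valued point of M factors through i if
and only if it is invertible in the monoid M(T). If moreover M is affine then G is affine. -/
theorem result (k : Type u) [CommRing k]
    (M : Over (Spec (CommRingCat.of k))) [MonObj M] :
    ∃ (G : Over (Spec (CommRingCat.of k))) (i : G ⟶ M), Mono i ∧
      (∀ (T : Over (Spec (CommRingCat.of k))) (m : T ⟶ M), (∃ g : T ⟶ G, g ≫ i = m) ↔ IsUnit m) ∧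
      (IsAffine M.left → IsAffine G.left) := by
  refine ⟨Units M, incl M, inferInstance, fun T m => factors_iff m, fun h => ?_⟩
  haveI := h
  exact isAffine_units

end Groth.Agent.S18821
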