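import Groth.Statements.S18822
import Mathlib

set_option autoImplicit false
universe u
open CategoryTheory MonoidalCategory CartesianMonoidalCategory MonObj AlgebraicGeometry Opposite
open Magnet

namespace Groth.Agent.S18822


section General

universe v₁ u₁
variable {C : Type u₁} [Category.{v₁} C] [CartesianMonoidalCategory C] {A X : C} [MonObj A]
  (a : Magnet.MonAct A X) (J : GrothendieckTopology C)

theorem isSheaf_fixedPsh (hX : Presieve.IsSheaf J (yoneda.obj X)) :
    Presieve.IsSheaf J (Magnet.MonAct.fixedPsh a) := by
  intro T R hR x hx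
  have hxc : ∀ {W W' : C} (g : W ⟶ T) (k : W' ⟶ W) (hg : R g),
      (x (k ≫ g) (R.downward_closed hg k)).1 = k ≫ (x g hg).1 := by
    intro W W' g k hg
    have := (Presieve.compatible_iff_sieveCompatible _).1 hx g k hg
    exact congrArg Subtype.val this
  let y : Presieve.FamilyOfElements (yoneda.obj X) R.arrows := fun W h hh => (x h hh).1
  have hy : y.Compatible := by
    rw [Presieve.compatible_iff_sieveCompatible]
    intro W W' h k hh
    exact hxc h k hh
  obtain ⟨φ, hφ, huniq⟩ := hX _ hR y hy
  have hφ' : ∀ {W : C} (h : W ⟶ T) (hh : R h), h ≫ φ = (x h hh).1 := fun h hh => hφ h hh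
  have hfix : ∀ (T' : C) (t : T' ⟶ T) (g : T' ⟶ A), lift g (t ≫ φ) ≫ a.act = t ≫ φ := by
    intro T' t g
    refine (hX _ (J.pullback_stable t hR)).isSeparatedFor.ext (fun W k hk => ?_)
    change k ≫ lift g (t ≫ φ) ≫ a.act = k ≫ t ≫ φ
    have hk' : R (k ≫ t) := hk
    have h1 := (x (k ≫ t) hk').2 W (𝟙 W) (k ≫ g)
    rw [Category.id_comp] at h1
    rw [comp_lift_assoc, ← Category.assoc k t φ, hφ' _ hk', h1]
  refine ⟨⟨φ, hfix⟩, ?_, ?_⟩
  · intro W g hg
    apply Subtype.ext
    exact hφ' g hg
  · intro ψ hψ
    apply Subtype.ext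
    change ψ.1 = φ
    apply huniq
    intro W h hh
    exact congrArg Subtype.val (hψ h hh)

end General



/-- Let k be a commutative ring, M a monoid k-scheme and X a k-scheme with an action a of M. Then the
fixed-point subpresheaf X^M of X, whose T-valued points are the k-morphisms x : T → X such that g ·
(x ∘ t) = x ∘ t for every k-scheme T', every t : T' → T and every T'-valued point g of M, is a sheaf
for the Zariski topology on k-schemes (the topology induced on schemes over Spec k). -/
theorem result (k : Type u) [CommRing k]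
    (M X : Over (Spec (CommRingCat.of k))) [MonObj M] (a : Magnet.MonAct M X) :
    Presheaf.IsSheaf (Scheme.zariskiTopology.over (Spec (CommRingCat.of k))) (Magnet.MonAct.fixedPsh a) := by
  rw [isSheaf_iff_isSheaf_of_type]
  have : (Scheme.zariskiTopology.over (Spec (CommRingCat.of k))).Subcanonical :=
    GrothendieckTopology.subcanonical_over _ _
  exact isSheaf_fixedPsh a _ (GrothendieckTopology.Subcanonical.isSheaf_of_isRepresentable _)

end Groth.Agent.S18822
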