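import Groth.Statements.S18823
import Mathlib
import Groth.Agent.Lib.Helper11FixOver

set_option autoImplicit false
universe u
open CategoryTheory MonoidalCategory CartesianMonoidalCategory AlgebraicGeometry
open AlgGrp

namespace Groth.Agent.S18823


/-- Let k be a field, X a separated k-scheme, M a k-scheme (in the source a monoid k-scheme) acting on X
through a : M ×_k X → X, and i : G → M a morphism of k-schemes which is a scheme-theoretically
dominant open immersion: no nonzero quasi-coherent ideal of O_M restricts to zero on G (for
quasi-compact i this is the usual schematic density, O_M → i_*O_G injective; in the source G is the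
group of units of M, open and schematically dense). For a k-scheme T and a T-valued point x of X, x
is fixed under M, i.e. a ∘ (id_M × x) = x ∘ pr_T on M ×_k T, if and only if x is fixed under G, i.e.
a ∘ (i × x) = x ∘ pr_T on G ×_k T. Thus the fixed-point subpresheaves X^M and X^G of X are equal.
(The published statement has no separatedness assumption on X and reduces to points landing in an
affine open; the step asserting that the equalizer of the two maps M ×_k T → X is closed uses that
the target is separated, so X is taken separated here, the case the printed argument establishes.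
The monoid structure and the action axioms play no role in that argument and are not assumed.) -/
theorem result (k : Type u) [Field k]
    (M G X : Over (Spec (CommRingCat.of k))) [IsSeparated X.hom] (a : M ⊗ X ⟶ X) (i : G ⟶ M)
    [IsOpenImmersion i.left] [IsSchemeTheoreticallyDominant i.left]
    (T : Over (Spec (CommRingCat.of k))) (x : T ⟶ X) :
    (M ◁ x) ≫ a = CartesianMonoidalCategory.snd M T ≫ x ↔
      (G ◁ x) ≫ (i ▷ X) ≫ a = CartesianMonoidalCategory.snd G T ≫ x := by
  constructor
  · intro h
    rw [whisker_exchange_assoc, h, whiskerRight_snd_assoc]
  · intro h
    -- the locus in `M` where the two maps `T ⊗ M ⟶ X` agree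
    obtain ⟨Z, j, hj, hfix, huniv⟩ :=
      Groth.Agent.Lib.Helper11FixOver.exists_closedImmersion_fix_over k T M X
        (lift (snd T M) (fst T M) ≫ (M ◁ x) ≫ a) (fst T M ≫ x)
    have key : ∀ {S : Over (Spec (CommRingCat.of k))} (m : S ⟶ M),
        (T ◁ m) ≫ lift (snd T M) (fst T M) = lift (snd T S) (fst T S) ≫ (m ▷ T) := by
      intro S m
      apply CartesianMonoidalCategory.hom_ext <;> simp
    obtain ⟨z, hz⟩ := huniv G i (by
      rw [← Category.assoc, key i, Category.assoc, ← whisker_exchange_assoc, h, whiskerLeft_fst_assoc,
        lift_snd_assoc])
    -- `j` is an isomorphism since `i` is scheme theoretically dominant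
    have hiso : IsIso j.left := by
      rw [IsClosedImmersion.isIso_iff_ker_eq_bot, ← le_bot_iff,
        ← IsSchemeTheoreticallyDominant.ker_eq_bot (f := i.left)]
      have : i.left = z.left ≫ j.left := by rw [← Over.comp_left, hz]
      rw [this]
      exact Scheme.Hom.le_ker_comp _ _
    have hiso' : IsIso j := by
      have : IsIso ((Over.forget _).map j) := hiso
      exact isIso_of_reflects_iso j (Over.forget _)
    have h2 : lift (snd T M) (fst T M) ≫ (M ◁ x) ≫ a = fst T M ≫ x := by
      have := congrArg (fun f => (T ◁ inv j) ≫ f) hfix
      simpa [← MonoidalCategory.whiskerLeft_comp_assoc] using this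
    have h3 := congrArg (fun f => lift (snd M T) (fst M T) ≫ f) h2
    simp only [← Category.assoc, comp_lift, lift_snd, lift_fst, lift_fst_snd] at h3
    simpa using h3

end Groth.Agent.S18823
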