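import Groth.Statements.S18824
import Mathlib
import Groth.Agent.S14884
import Groth.Agent.Lib.Helper12Act

set_option autoImplicit false
universe u
open CategoryTheory MonoidalCategory CartesianMonoidalCategory MonObj AlgebraicGeometry
open AlgGrp

namespace Groth.Agent.S18824


open Groth.Agent.Lib.Helper12 CategoryTheory.Limits MonObj

/-- points of a cartesian square of schemes. -/
lemma exists_preimage_of_isPullback {P A B C : Scheme.{u}} {p₁ : P ⟶ A} {p₂ : P ⟶ B} {f : A ⟶ C}
    {g : B ⟶ C} (h : IsPullback p₁ p₂ f g) (x : A) (y : B) (hxy : f x = g y) :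
    ∃ t : P, p₁ t = x ∧ p₂ t = y := by
  obtain ⟨z, hz1, hz2⟩ := Scheme.Pullback.exists_preimage_pullback x y hxy
  refine ⟨h.isoPullback.inv z, ?_, ?_⟩
  · rw [← Scheme.Hom.comp_apply, h.isoPullback_inv_fst, hz1]
  · rw [← Scheme.Hom.comp_apply, h.isoPullback_inv_snd, hz2]



/-- Let k be a field, G a locally algebraic group over k (a group k-scheme locally of finite type)
acting on a k-scheme X through a : G ×_k X → X, and U an open subset of X. Let G·U ⊆ X be the image
under a of G ×_k U (the preimage of U under the projection). Then G·U is open in X, contains U, is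
G-stable in the sense that a maps G ×_k (G·U) into G·U, and is the smallest such set: every G-stable
open subset of X containing U contains G·U. -/
theorem result (k : Type u) [Field k]
    (G X : Over (Spec (CommRingCat.of k))) [GrpObj G] [LocallyOfFiniteType G.hom] (a : AlgGrp.Action G X)
    (U : Set ↥X.left) (hU : IsOpen U) :
    IsOpen (a.act.left.base '' ((CartesianMonoidalCategory.snd G X).left.base ⁻¹' U)) ∧
      U ⊆ a.act.left.base '' ((CartesianMonoidalCategory.snd G X).left.base ⁻¹' U) ∧
      a.act.left.base '' ((CartesianMonoidalCategory.snd G X).left.base ⁻¹'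
          (a.act.left.base '' ((CartesianMonoidalCategory.snd G X).left.base ⁻¹' U))) ⊆
        a.act.left.base '' ((CartesianMonoidalCategory.snd G X).left.base ⁻¹' U) ∧
      ∀ W : Set ↥X.left, IsOpen W → U ⊆ W →
        a.act.left.base '' ((CartesianMonoidalCategory.snd G X).left.base ⁻¹' W) ⊆ W →
          a.act.left.base '' ((CartesianMonoidalCategory.snd G X).left.base ⁻¹' U) ⊆ W := by
  haveI : Flat G.hom := inferInstance
  haveI : LocallyOfFinitePresentation G.hom := inferInstance
  haveI : UniversallyOpen G.hom := inferInstance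
  have hsnd : (CartesianMonoidalCategory.snd G X).left = pullback.snd G.hom X.hom := rfl
  haveI : UniversallyOpen (CartesianMonoidalCategory.snd G X).left := by rw [hsnd]; infer_instance
  have hact : a.act.left = (shearIso a).hom.left ≫ (CartesianMonoidalCategory.snd G X).left := by
    rw [← Over.comp_left]
    congr 1
    exact (shear_snd a).symm
  have hopen : IsOpenMap a.act.left.base := by
    rw [hact]
    haveI : IsIso (shearIso a).hom.left :=
      inferInstanceAs (IsIso ((Over.forget _).map (shearIso a).hom))
    exact ((shearIso a).hom.left ≫ (CartesianMonoidalCategory.snd G X).left).isOpenMap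
  let e : X ⟶ G ⊗ X := lift (1 : X ⟶ G) (𝟙 X)
  have he1 : e ≫ CartesianMonoidalCategory.snd G X = 𝟙 X := lift_snd _ _
  have he2 : e ≫ a.act = 𝟙 X := act_one a (𝟙 X)
  refine ⟨hopen _ (hU.preimage (CartesianMonoidalCategory.snd G X).left.continuous), ?_, ?_, ?_⟩
  · intro x hx
    refine ⟨e.left x, ?_, ?_⟩
    · change (CartesianMonoidalCategory.snd G X).left (e.left x) ∈ U
      rw [← Scheme.Hom.comp_apply, ← Over.comp_left, he1]
      exact hx
    · change a.act.left (e.left x) = x
      rw [← Scheme.Hom.comp_apply, ← Over.comp_left, he2]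
      rfl
  · rintro _ ⟨z, ⟨w, hw, hwz⟩, rfl⟩
    have hw : (CartesianMonoidalCategory.snd G X).left w ∈ U := hw
    have hwz : a.act.left w = (CartesianMonoidalCategory.snd G X).left z := hwz
    have hpb : IsPullback (G ◁ a.act).left (CartesianMonoidalCategory.snd G (G ⊗ X)).left
        (CartesianMonoidalCategory.snd G X).left a.act.left :=
      (Groth.Agent.S14884.isPullback_whiskerLeft G a.act).map (Over.forget _)
    obtain ⟨t, ht1, ht2⟩ := exists_preimage_of_isPullback hpb z w hwz.symm
    have h1 : ((α_ G G X).inv ≫ (μ[G] ▷ X)) ≫ a.act = (G ◁ a.act) ≫ a.act := by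
      rw [Category.assoc, a.mul_act, Iso.inv_hom_id_assoc]
    have h2 : ((α_ G G X).inv ≫ (μ[G] ▷ X)) ≫ CartesianMonoidalCategory.snd G X =
        CartesianMonoidalCategory.snd G (G ⊗ X) ≫ CartesianMonoidalCategory.snd G X := by
      simp
    refine ⟨((α_ G G X).inv ≫ (μ[G] ▷ X)).left t, ?_, ?_⟩
    · change (CartesianMonoidalCategory.snd G X).left (((α_ G G X).inv ≫ (μ[G] ▷ X)).left t) ∈ U
      rw [← Scheme.Hom.comp_apply, ← Over.comp_left, h2, Over.comp_left, Scheme.Hom.comp_apply, ht2]
      exact hw
    · change a.act.left (((α_ G G X).inv ≫ (μ[G] ▷ X)).left t) = a.act.left z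
      rw [← Scheme.Hom.comp_apply, ← Over.comp_left, h1, Over.comp_left, Scheme.Hom.comp_apply, ht1]
  · intro W _ hUW hWst
    exact (Set.image_mono (Set.preimage_mono hUW)).trans hWst

end Groth.Agent.S18824
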