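import Groth.Statements.S18828
import Groth.Agent.Lib.Helper5FinFlat
import Groth.Agent.Lib.Helper11HomFlat
import Mathlib

set_option autoImplicit false
universe u
open CategoryTheory MonoidalCategory CartesianMonoidalCategory MonObj AlgebraicGeometry
open AlgGrp

namespace Groth.Agent.S18828

open TensorProduct IsLocalRing in
-- a local homomorphism of noetherian local rings inducing isomorphisms modulo all powers of the
-- maximal ideals is flat
theorem flat_of_pow_iso {A B : Type u} [CommRing A] [CommRing B] [IsLocalRing A] [IsLocalRing B]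
    [IsNoetherianRing A] [IsNoetherianRing B] (φ : A →+* B)
    (h : ∀ n : ℕ, Function.Surjective ((Ideal.Quotient.mk (maximalIdeal B ^ (n + 1))).comp φ) ∧
      ∀ a : A, φ a ∈ maximalIdeal B ^ (n + 1) ↔ a ∈ maximalIdeal A ^ (n + 1)) : φ.Flat := by
  letI : Algebra A B := φ.toAlgebra
  have halg : ∀ a : A, algebraMap A B a = φ a := fun _ => rfl
  change Module.Flat A B
  have h0 : ∀ a : A, φ a ∈ maximalIdeal B ↔ a ∈ maximalIdeal A := by
    intro a
    have := (h 0).2 a
    simpa using this
  -- `m_A B = m_B`
  have hmap : (maximalIdeal A).map (algebraMap A B) = maximalIdeal B := by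
    apply le_antisymm
    · rw [Ideal.map_le_iff_le_comap]
      intro a ha
      exact (h0 a).mpr ha
    · refine Submodule.le_of_le_smul_of_le_jacobson_bot (I := maximalIdeal B)
        (IsNoetherian.noetherian _) ?_ ?_
      · rw [IsLocalRing.jacobson_eq_maximalIdeal ⊥ bot_ne_top]
      · intro b hb
        obtain ⟨a, ha⟩ := (h 1).1 b
        rw [RingHom.comp_apply, Ideal.Quotient.eq] at ha
        have hφa : φ a ∈ maximalIdeal B := by
          have : φ a = (φ a - b) + b := by ring
          rw [this]
          exact Ideal.add_mem _ (Ideal.pow_le_self (by norm_num) ha) hb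
        have haA : a ∈ maximalIdeal A := (h0 a).mp hφa
        have : b = φ a + -(φ a - b) := by ring
        rw [this]
        refine Submodule.add_mem_sup (Ideal.mem_map_of_mem _ haA) ?_
        rw [smul_eq_mul, ← pow_two]
        exact neg_mem ha
  have hmappow : ∀ n : ℕ, (maximalIdeal A ^ n).map (algebraMap A B) = maximalIdeal B ^ n := by
    intro n
    rw [Ideal.map_pow, hmap]
  refine Groth.Agent.Lib.Helper5.flat_of_flat_baseChange_pow_of_le_jacobson (A := A) (B := B) B
    (maximalIdeal A) ?_ ?_
  · rw [hmap, IsLocalRing.jacobson_eq_maximalIdeal ⊥ bot_ne_top]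
  · intro n hn
    obtain ⟨m, rfl⟩ : ∃ m, n = m + 1 := ⟨n - 1, by omega⟩
    let R' := A ⧸ maximalIdeal A ^ (m + 1)
    let ψ : R' →ₗ[R'] R' ⊗[A] B := Algebra.linearMap R' (R' ⊗[A] B)
    have hψ : ∀ x : R', ψ x = x ⊗ₜ[A] (1 : B) := fun x => rfl
    -- injectivity
    have hle : maximalIdeal A ^ (m + 1) ≤ (maximalIdeal B ^ (m + 1)).comap (algebraMap A B) := by
      intro a ha
      exact ((h m).2 a).mpr ha
    let f1 : R' →ₐ[A] B ⧸ maximalIdeal B ^ (m + 1) :=
      Ideal.quotientMapₐ (maximalIdeal B ^ (m + 1)) (Algebra.ofId A B) hle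
    let f2 : B →ₐ[A] B ⧸ maximalIdeal B ^ (m + 1) := Ideal.Quotient.mkₐ A _
    let g : R' ⊗[A] B →ₐ[A] B ⧸ maximalIdeal B ^ (m + 1) := Algebra.TensorProduct.productMap f1 f2
    have hinj : Function.Injective ψ := by
      rw [injective_iff_map_eq_zero]
      intro x hx
      have h1 : g (ψ x) = f1 x := by
        rw [hψ]
        simp [g, f2]
      rw [hx, map_zero] at h1
      obtain ⟨a, rfl⟩ := Ideal.Quotient.mk_surjective x
      have h2 : f1 (Ideal.Quotient.mk _ a) = Ideal.Quotient.mk _ (φ a) := rfl
      rw [h2] at h1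
      rw [Ideal.Quotient.eq_zero_iff_mem]
      exact ((h m).2 a).mp (Ideal.Quotient.eq_zero_iff_mem.mp h1.symm)
    -- surjectivity
    have hzero : ∀ (x : R') (c : B), c ∈ (maximalIdeal A ^ (m + 1)).map (algebraMap A B) →
        x ⊗ₜ[A] c = 0 := by
      intro x c hc
      induction hc using Submodule.span_induction with
      | mem c hc =>
        obtain ⟨i, hi, rfl⟩ := hc
        have : (algebraMap A B i) = i • (1 : B) := by rw [Algebra.smul_def, _root_.mul_one]
        rw [this, ← TensorProduct.smul_tmul]
        have : i • x = 0 := by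
          obtain ⟨a, rfl⟩ := Ideal.Quotient.mk_surjective x
          rw [Algebra.smul_def, Ideal.Quotient.algebraMap_eq, ← map_mul,
            Ideal.Quotient.eq_zero_iff_mem]
          exact Ideal.mul_mem_right _ _ hi
        rw [this, TensorProduct.zero_tmul]
      | zero => exact TensorProduct.tmul_zero _ _
      | add c d _ _ hc hd => rw [TensorProduct.tmul_add, hc, hd, add_zero]
      | smul b c _ hc =>
        have : x ⊗ₜ[A] (b • c) = ((1 : R') ⊗ₜ[A] b) * (x ⊗ₜ[A] c) := by
          rw [Algebra.TensorProduct.tmul_mul_tmul, _root_.one_mul, smul_eq_mul]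
        rw [this, hc, MulZeroClass.mul_zero]
    have hsurj : Function.Surjective ψ := by
      intro t
      induction t using TensorProduct.induction_on with
      | zero => exact ⟨0, map_zero _⟩
      | add t₁ t₂ h₁ h₂ =>
        obtain ⟨y₁, rfl⟩ := h₁
        obtain ⟨y₂, rfl⟩ := h₂
        exact ⟨y₁ + y₂, map_add _ _ _⟩
      | tmul x b =>
        obtain ⟨a, ha⟩ := (h m).1 b
        rw [RingHom.comp_apply, Ideal.Quotient.eq, ← hmappow] at ha
        refine ⟨a • x, ?_⟩
        have e1 : x ⊗ₜ[A] b = x ⊗ₜ[A] (φ a) - x ⊗ₜ[A] (φ a - b) := by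
          rw [← TensorProduct.tmul_sub]
          congr 1
          ring
        have e2 : φ a = a • (1 : B) := by rw [Algebra.smul_def, _root_.mul_one]; rfl
        rw [e1, hzero x _ ha, sub_zero, hψ, e2, TensorProduct.smul_tmul]
    exact Module.Flat.of_linearEquiv (LinearEquiv.ofBijective ψ ⟨hinj, hsurj⟩).symm


open GrpObj CategoryTheory.Limits in
-- homogeneity: a homomorphism of group schemes over a field which is flat at one point is flat
theorem flat_hom_of_stalkMap_flat {k : Type u} [Field k] {G C : Over (Spec (CommRingCat.of k))}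
    [GrpObj G] [GrpObj C] (p : G ⟶ C) [IsMonHom p] (ξ : G.left)
    (hξ : (p.left.stalkMap ξ).hom.Flat) : Flat p.left := by
  have ha : Flat ((fst G C ≫ p) * snd G C).left := by
    apply Groth.Agent.Lib.Helper11Homog.flat_of_shear ((fst G C ≫ p) * snd G C)
      ((fst G C ≫ p)⁻¹ * snd G C)
    · rw [MonObj.comp_mul, GrpObj.comp_inv, ← Category.assoc, lift_fst, lift_snd]
      group
    · rw [MonObj.comp_mul, ← Category.assoc, lift_fst, lift_snd]
      group
  refine Groth.Agent.Lib.Helper11Homog.flat_of_stalkMap_flat (fun s t => Subsingleton.elim s t) G C p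
    ((fst G C ≫ p) * snd G C) ha ?_ ξ hξ
  rw [MonObj.comp_mul, ← Category.assoc, whiskerLeft_fst, whiskerLeft_snd, MonObj.mul_eq_mul,
    MonObj.mul_comp]

/-- Let k be a field and f : H → G a homomorphism of locally algebraic groups over k (group k-schemes
locally of finite type). Write e_H for the unit point of H (the image under the unit section of the
point pt of the base Spec k) and φ : O_{G,f(e_H)} → O_{H,e_H} for the induced local homomorphism of
local rings. Assume (1) φ induces an isomorphism of completed local rings, stated here as: for every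
n, φ followed by reduction modulo the (n+1)-st power of the maximal ideal of O_{H,e_H} is
surjective, and an element of O_{G,f(e_H)} maps into that power exactly when it lies in the (n+1)-st
power of the maximal ideal of O_{G,f(e_H)}; and (2) f is a monomorphism of schemes. Then f is an
open immersion. -/
theorem result (k : Type u) [Field k]
    (H G : Over (Spec (CommRingCat.of k))) [GrpObj H] [GrpObj G]
    [LocallyOfFiniteType H.hom] [LocallyOfFiniteType G.hom] (f : H ⟶ G) [IsMonHom f] [Mono f.left]
    (pt : ↥(𝟙_ (Over (Spec (CommRingCat.of k)))).left)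
    (h : ∀ n : ℕ,
      Function.Surjective ((Ideal.Quotient.mk (IsLocalRing.maximalIdeal
          ↑(H.left.presheaf.stalk (η[H].left.base pt)) ^ (n + 1))).comp
        (f.left.stalkMap (η[H].left.base pt)).hom) ∧
      ∀ a : ↑(G.left.presheaf.stalk (f.left.base (η[H].left.base pt))),
        (f.left.stalkMap (η[H].left.base pt)).hom a ∈
            IsLocalRing.maximalIdeal ↑(H.left.presheaf.stalk (η[H].left.base pt)) ^ (n + 1) ↔
          a ∈ IsLocalRing.maximalIdeal ↑(G.left.presheaf.stalk (f.left.base (η[H].left.base pt))) ^ (n + 1)) :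
    IsOpenImmersion f.left := by
  haveI : IsLocallyNoetherian G.left := LocallyOfFiniteType.isLocallyNoetherian G.hom
  haveI : IsLocallyNoetherian H.left := LocallyOfFiniteType.isLocallyNoetherian H.hom
  haveI : LocallyOfFiniteType (f.left ≫ G.hom) := by rw [Over.w f]; infer_instance
  haveI : LocallyOfFiniteType f.left := locallyOfFiniteType_of_comp f.left G.hom
  have hflat : (f.left.stalkMap (η[H].left.base pt)).hom.Flat := flat_of_pow_iso _ h
  haveI : Flat f.left := flat_hom_of_stalkMap_flat f _ hflat
  exact IsOpenImmersion.of_flat_of_mono f.left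

end Groth.Agent.S18828
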