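import Groth.Statements.S18829
import Groth.Agent.Lib.Helper25IntegralBC

set_option autoImplicit false
universe u
open scoped TensorProduct
open HopfRep

namespace Groth.Agent.S18829


open Groth.Agent.Lib.Helper25 TensorProduct

noncomputable def coeff1 (K : Type u) [CommRing K] (G : Type*) [Monoid G] :
    MonoidAlgebra K G →ₗ[K] K :=
  Finsupp.lapply 1 ∘ₗ (MonoidAlgebra.coeffLinearEquiv K).toLinearMap

theorem coeff1_single (K : Type u) [CommRing K] (G : Type*) [Monoid G]
    (m : G) (r : K) [Decidable (m = 1)] :
    coeff1 K G (MonoidAlgebra.single m r) = if m = 1 then r else 0 := by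
  simp [coeff1, Finsupp.single_apply]

theorem coeff1_one (K : Type u) [CommRing K] (G : Type*) [Monoid G] :
    coeff1 K G 1 = 1 := by
  classical
  rw [MonoidAlgebra.one_def, coeff1_single, if_pos rfl]

theorem coeff1_integral (K : Type u) [CommRing K] (G : Type*) [Monoid G]
    (a : MonoidAlgebra K G) :
    lslice (coeff1 K G) (CoalgebraStruct.comul (R := K) a) =
      coeff1 K G a • (1 : MonoidAlgebra K G) := by
  classical
  suffices h : lslice (coeff1 K G) ∘ₗ
      CoalgebraStruct.comul (R := K) (A := MonoidAlgebra K G) =
      (LinearMap.toSpanSingleton K (MonoidAlgebra K G) 1) ∘ₗ coeff1 K G from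
    LinearMap.congr_fun h a
  apply MonoidAlgebra.lhom_ext'
  intro m
  ext
  simp only [LinearMap.coe_comp, Function.comp_apply, MonoidAlgebra.lsingle_apply,
    LinearMap.toSpanSingleton_apply]
  erw [MonoidAlgebra.comul_single]
  simp only [CommSemiring.comul_apply, TensorProduct.map_tmul, MonoidAlgebra.lsingle_apply,
    lslice_tmul, coeff1_single]
  by_cases hm : m = 1
  · subst hm
    simp [MonoidAlgebra.one_def]
  · simp [hm]


/-- Transport of an integral along a bialgebra isomorphism. -/
theorem integral_transport {K : Type u} [Field K] {B : Type u} {C : Type*} [CommRing B]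
    [Bialgebra K B] [CommRing C] [Bialgebra K C] (e : B ≃ₐc[K] C) (l : C →ₗ[K] K)
    (hl : ∀ x : C, lslice l (CoalgebraStruct.comul (R := K) x) = l x • (1 : C)) (x : B) :
    lslice (l ∘ₗ (e.toBialgHom.toCoalgHom : B →ₗ[K] C)) (CoalgebraStruct.comul (R := K) x) =
      (l ∘ₗ (e.toBialgHom.toCoalgHom : B →ₗ[K] C)) x • (1 : B) := by
  have hinj : Function.Injective (e.toBialgHom.toCoalgHom : B →ₗ[K] C) :=
    EquivLike.injective e
  apply hinj
  have h1 := hl (e x)
  have h2 : CoalgebraStruct.comul (R := K) (e x) =
      TensorProduct.map (e.toBialgHom.toCoalgHom : B →ₗ[K] C) (e.toBialgHom.toCoalgHom : B →ₗ[K] C)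
        (CoalgebraStruct.comul (R := K) x) :=
    (CoalgHomClass.map_comp_comul_apply e.toBialgHom.toCoalgHom x).symm
  rw [h2, lslice_map] at h1
  have hone : (e.toBialgHom.toCoalgHom : B →ₗ[K] C) 1 = 1 := map_one e
  rw [map_smul, hone]
  exact h1



/-- Let k be a field and A a finitely generated commutative Hopf algebra over k, the coordinate ring of
an affine algebraic group T. Suppose T is a torus: for some algebraically closed field extension K
of k the base change K ⊗_k A is isomorphic as a K-bialgebra to the group algebra over K of a free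
abelian group ℤ^n (T_K is a split torus of rank n). Then T is linearly reductive in the sense that
every finite-dimensional A-comodule is semisimple. (The source's definition of a torus asks for such
an isomorphism over every algebraically closed extension; one suffices for the printed argument. The
source's notion of a linearly reductive algebraic group also includes smoothness of T over k, which
this row does not assert.) -/
theorem result (k K A : Type u) [Field k] [Field K]
    [Algebra k K] [IsAlgClosed K] [CommRing A] [HopfAlgebra k A] [Algebra.FiniteType k A] (n : ℕ)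
    (e : (K ⊗[k] A) ≃ₐc[K] MonoidAlgebra K (Multiplicative (Fin n → ℤ))) :
    HopfRep.IsLinearlyReductive k A := by
  have hΑ := fun x => integral_transport e (coeff1 K (Multiplicative (Fin n → ℤ)))
    (coeff1_integral K _) x
  have hΑ1 : ((coeff1 K (Multiplicative (Fin n → ℤ))) ∘ₗ
      (e.toBialgHom.toCoalgHom : (K ⊗[k] A) →ₗ[K] MonoidAlgebra K (Multiplicative (Fin n → ℤ)))) 1
        = 1 := by
    rw [LinearMap.comp_apply]
    have : (e.toBialgHom.toCoalgHom :
        (K ⊗[k] A) →ₗ[K] MonoidAlgebra K (Multiplicative (Fin n → ℤ))) 1 = 1 := map_one e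
    rw [this, coeff1_one]
  obtain ⟨α, hα, h1⟩ := integral_descent _ hΑ hΑ1
  intro V _ _ _ _
  exact isSemisimpleComod_of_totalIntegral α ((isComodHom_trivial_iff α).mpr hα) h1

end Groth.Agent.S18829
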