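import Groth.Statements.S18830
import Mathlib
import Groth.Agent.S18821

set_option autoImplicit false
universe u
open CategoryTheory MonoidalCategory CartesianMonoidalCategory MonObj AlgebraicGeometry
open AlgGrp

namespace Groth.Agent.S18830


open CategoryTheory.Limits

variable {S : Scheme.{u}} {M : Over S} [MonObj M]

/-- any representing monomorphism of the unit functor is isomorphic to the standard one. -/
lemma exists_iso_units {G : Over S} (i : G ⟶ M) [Mono i]
    (hi : ∀ (T : Over S) (m : T ⟶ M), (∃ g : T ⟶ G, g ≫ i = m) ↔ IsUnit m) :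
    ∃ e : G ≅ S18821.Units M, e.hom ≫ S18821.incl M = i := by
  obtain ⟨a, ha⟩ := (S18821.factors_iff i).2 ((hi G i).1 ⟨𝟙 G, Category.id_comp _⟩)
  obtain ⟨b, hb⟩ := (hi _ (S18821.incl M)).2 ((S18821.factors_iff _).1 ⟨𝟙 _, Category.id_comp _⟩)
  refine ⟨⟨a, b, ?_, ?_⟩, ha⟩
  · rw [← cancel_mono i, Category.assoc, hb, ha, Category.id_comp]
  · rw [← cancel_mono (S18821.incl M), Category.assoc, ha, hb, Category.id_comp]

lemma units_hom_eq : (S18821.Units M).hom =
    (pullback.fst (S18821.phi M) (S18821.one2 M)).left ≫ pullback.fst M.hom M.hom ≫ M.hom := by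
  rw [← Over.w (pullback.fst (S18821.phi M) (S18821.one2 M))]
  rfl

lemma isPullback_units_left :
    IsPullback (pullback.fst (S18821.phi M) (S18821.one2 M)).left
      (pullback.snd (S18821.phi M) (S18821.one2 M)).left (S18821.phi M).left (S18821.one2 M).left :=
  (IsPullback.of_hasPullback (S18821.phi M) (S18821.one2 M)).map (Over.forget S)

lemma one2_left_comp : (S18821.one2 M).left ≫ (pullback.fst M.hom M.hom ≫ M.hom) = 𝟙 S := by
  have := Over.w (S18821.one2 M)
  exact this



/-- Let k be a field and M an algebraic monoid over k (a monoid k-scheme of finite type). Let i : G → M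
be its group of units: a monomorphism of k-schemes through which a T-valued point of M factors if
and only if it is invertible in the monoid M(T). Then G is of finite type over k, i.e. the unit
group is an algebraic group. -/
theorem result (k : Type u) [Field k]
    (M G : Over (Spec (CommRingCat.of k))) [MonObj M] [LocallyOfFiniteType M.hom] [QuasiCompact M.hom]
    (i : G ⟶ M) [Mono i]
    (hi : ∀ (T : Over (Spec (CommRingCat.of k))) (m : T ⟶ M), (∃ g : T ⟶ G, g ≫ i = m) ↔ IsUnit m) :
    LocallyOfFiniteType G.hom ∧ QuasiCompact G.hom := by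
  obtain ⟨e, he⟩ := exists_iso_units i hi
  have hG : G.hom = e.hom.left ≫ (S18821.Units M).hom := (Over.w e.hom).symm
  haveI : IsIso e.hom.left := inferInstanceAs (IsIso ((Over.forget _).map e.hom))
  have h1 : LocallyOfFiniteType (S18821.one2 M).left := by
    haveI : LocallyOfFiniteType ((S18821.one2 M).left ≫ (pullback.fst M.hom M.hom ≫ M.hom)) := by
      rw [one2_left_comp]
      exact MorphismProperty.id_mem _ _
    exact locallyOfFiniteType_of_comp _ (pullback.fst M.hom M.hom ≫ M.hom)
  have h2 : QuasiCompact (S18821.one2 M).left := by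
    haveI : TopologicalSpace.NoetherianSpace (𝟙_ (Over (Spec (CommRingCat.of k)))).left := by
      change TopologicalSpace.NoetherianSpace (Spec (CommRingCat.of k))
      infer_instance
    infer_instance
  have h3 : LocallyOfFiniteType (pullback.fst (S18821.phi M) (S18821.one2 M)).left :=
    MorphismProperty.of_isPullback (P := @LocallyOfFiniteType) isPullback_units_left.flip h1
  have h4 : QuasiCompact (pullback.fst (S18821.phi M) (S18821.one2 M)).left :=
    MorphismProperty.of_isPullback (P := @QuasiCompact) isPullback_units_left.flip h2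
  rw [hG, units_hom_eq]
  constructor <;> infer_instance

end Groth.Agent.S18830
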