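import Groth.Statements.S18834
import Groth.Agent.Lib.Helper25Reynolds
import Groth.Agent.S12556

set_option autoImplicit false
universe u
open TensorProduct
open GIT

namespace Groth.Agent.S18834

/-- Let k be an algebraically closed field of characteristic zero, G = Spec A a linearly reductive
affine group over k (A a commutative Hopf algebra whose finite-dimensional comodules are semisimple)
acting on an affine k-scheme Spec R of finite type (a multiplicative coaction of A on R), and R^G
the ring of invariants. Then for every ideal I of R^G the ideal I·R of R generated by I satisfies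
(I·R) ∩ R^G = I. (The section also assumes Spec R irreducible; that hypothesis plays no role here
and is not carried.) -/
theorem result (k : Type u) [Field k] [IsAlgClosed k] [CharZero k]
    (A : Type u) [CommRing A] [HopfAlgebra k A] (hG : HopfRep.IsLinearlyReductive k A)
    (R : Type u) [CommRing R] [Algebra k R] [Algebra.FiniteType k R]
    [HopfRep.Comod k A R] [GLin.IsCoactAlg k A R]
    (I : Ideal (GLin.invariants k A R)) :
    Ideal.comap (GLin.invariants k A R).val.toRingHom
        (Ideal.map (GLin.invariants k A R).val.toRingHom I) = I := by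
  open Groth.Agent.Lib.Helper25 in
  have hss := isSemisimpleComod_of_isLinearlyReductive hG R
  open Groth.Agent.Lib.Helper25 in
  obtain ⟨E, hE, hEE, hEx⟩ := exists_reynolds hss
  have hrE : ∀ x, E x ∈ GLin.invariants k A R := fun x => (hEx _).mp (LinearMap.congr_fun hEE x)
  have hmulE : ∀ (x y : R), y ∈ GLin.invariants k A R → E (x * y) = E x * y :=
    fun x y hy => Groth.Agent.S12556.result k A hG R E hE hEE hEx x y hy
  refine le_antisymm ?_ Ideal.le_comap_map
  intro x hx
  rw [Ideal.mem_comap] at hx
  have key : ∀ y ∈ Ideal.map (GLin.invariants k A R).val.toRingHom I,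
      ∀ r : R, ∃ z ∈ I, (z : R) = E (r * y) := by
    intro y hy
    unfold Ideal.map at hy
    induction hy using Submodule.span_induction with
    | mem y hy =>
      obtain ⟨f, hf, rfl⟩ := hy
      intro r
      refine ⟨⟨E r, hrE r⟩ * f, I.mul_mem_left _ hf, ?_⟩
      have : (GLin.invariants k A R).val.toRingHom f = (f : R) := rfl
      rw [this, hmulE r _ f.2]
      rfl
    | zero =>
      intro r
      exact ⟨0, I.zero_mem, by simp⟩
    | add y z _ _ hy hz =>
      intro r
      obtain ⟨a, ha, ha'⟩ := hy r
      obtain ⟨b, hb, hb'⟩ := hz r
      refine ⟨a + b, I.add_mem ha hb, ?_⟩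
      rw [mul_add, map_add, ← ha', ← hb']
      rfl
    | smul r' y _ hy =>
      intro r
      obtain ⟨a, ha, ha'⟩ := hy (r * r')
      refine ⟨a, ha, ?_⟩
      rw [ha', smul_eq_mul, mul_assoc]
  obtain ⟨z, hz, hz'⟩ := key _ hx 1
  rw [one_mul] at hz'
  have hx' : E (x : R) = x := (hEx _).mpr x.2
  have : z = x := Subtype.ext (hz'.trans hx')
  rw [← this]
  exact hz

end Groth.Agent.S18834
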