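import Groth.Statements.S18836
import Mathlib
import Groth.Prelude
import Groth.Agent.Lib.Helper20LocFree
import Groth.Agent.Lib.Helper20Nakayama
import Groth.Agent.Lib.Helper2RankLoc
import Groth.Agent.Lib.Helper23FinTypeLocal
import Groth.Agent.Lib.Helper23QCohLocal
import Groth.Agent.Lib.Helper23QCohAbelian
import Groth.Agent.Lib.Helper2QCoh
import Groth.Agent.Lib.Helper20StalkExact

set_option autoImplicit false
universe u
open CategoryTheory CategoryTheory.Limits AlgebraicGeometry
open FGA

namespace Groth.Agent.S18836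

open CategoryTheory CategoryTheory.Limits AlgebraicGeometry TopologicalSpace Opposite
open Groth.Agent.Lib.Helper23.QCohLocal

/-- the free module of finite rank is of finite type -/
theorem isFT_freeMod (Y : Scheme.{u}) (m : ℕ) :
    SheafOfModules.IsFiniteType (R := Y.ringCatSheaf) (FlatMod.freeMod Y m) := by
  have : (FlatMod.freeMod Y m).IsQuasicoherent :=
    Groth.Agent.Lib.Helper20.LocFree.isQuasicoherent_freeMod Y m
  rw [Groth.Agent.Lib.Helper23.FinType.isFiniteType_iff_forall_affine]
  intro U hU
  obtain ⟨e⟩ := Groth.Agent.Lib.Helper2.RankLoc.nonempty_sections_equiv_of_iso_freeMod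
    (FlatMod.freeMod Y m) (Iso.refl _) hU
  exact Module.Finite.equiv e.symm

/-- extension of a coherent quotient of `O^N` along a quasi-compact open immersion -/
theorem exists_extension {U Y : Scheme.{u}} (j : U ⟶ Y) [IsOpenImmersion j] [QuasiCompact j]
    (N : ℕ) (F : U.Modules) (hF : Coh.IsCoh F) (q : FlatMod.freeMod U N ⟶ F) [Epi q] :
    ∃ (F' : Y.Modules) (q' : FlatMod.freeMod Y N ⟶ F') (ι : F' ⟶ (Scheme.Modules.pushforward j).obj F),
      Epi q' ∧ Mono ι ∧ Coh.IsCoh F' ∧
      Nonempty ((Scheme.Modules.restrictFunctor j).obj F' ≅ F) := by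
  haveI : F.IsQuasicoherent := hF.1
  obtain ⟨a, ha⟩ : ∃ a : FlatMod.freeMod Y N ⟶ (Scheme.Modules.pushforward j).obj F,
      (Scheme.Modules.restrictFunctor j).map a ≫ (Scheme.Modules.restrictAdjunction j).counit.app F =
        (Groth.Agent.Lib.Helper20.LocFree.restrictFreeMod j N).hom ≫ q := by
    refine ⟨(Scheme.Modules.restrictAdjunction j).homEquiv _ _
      ((Groth.Agent.Lib.Helper20.LocFree.restrictFreeMod j N).hom ≫ q), ?_⟩
    have := ((Scheme.Modules.restrictAdjunction j).homEquiv (FlatMod.freeMod Y N) F).symm_apply_apply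
      ((Groth.Agent.Lib.Helper20.LocFree.restrictFreeMod j N).hom ≫ q)
    rwa [(Scheme.Modules.restrictAdjunction j).homEquiv_counit] at this
  haveI : (FlatMod.freeMod Y N).IsQuasicoherent :=
    Groth.Agent.Lib.Helper20.LocFree.isQuasicoherent_freeMod Y N
  haveI : ((Scheme.Modules.pushforward j).obj F).IsQuasicoherent := isQuasicoherent_pushforward j F
  haveI : (cokernel a).IsQuasicoherent := isQuasicoherent_cokernel a
  haveI hI : (Abelian.image a).IsQuasicoherent := isQuasicoherent_kernel (cokernel.π a)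
  haveI : SheafOfModules.IsFiniteType (R := Y.ringCatSheaf) (FlatMod.freeMod Y N) :=
    isFT_freeMod Y N
  haveI hepi : Epi (Abelian.factorThruImage a) := inferInstance
  have hft : SheafOfModules.IsFiniteType (R := Y.ringCatSheaf) (Abelian.image a) :=
    @Groth.Agent.Lib.Helper23.FinType.isFiniteType_of_epi Y (FlatMod.freeMod Y N) (Abelian.image a)
      (Groth.Agent.Lib.Helper20.LocFree.isQuasicoherent_freeMod Y N) hI (Abelian.factorThruImage a) hepi
      (isFT_freeMod Y N)
  refine ⟨Abelian.image a, Abelian.factorThruImage a, Abelian.image.ι a, inferInstance,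
    inferInstance, ⟨hI, hft⟩, ?_⟩
  haveI : IsIso ((Scheme.Modules.restrictAdjunction j).counit.app F) := inferInstance
  let θ : (Scheme.Modules.restrictFunctor j).obj (Abelian.image a) ⟶ F :=
    (Scheme.Modules.restrictFunctor j).map (Abelian.image.ι a) ≫
      (Scheme.Modules.restrictAdjunction j).counit.app F
  have h1 : (Scheme.Modules.restrictFunctor j).map (Abelian.factorThruImage a) ≫ θ =
      (Groth.Agent.Lib.Helper20.LocFree.restrictFreeMod j N).hom ≫ q := by
    change (Scheme.Modules.restrictFunctor j).map (Abelian.factorThruImage a) ≫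
      (Scheme.Modules.restrictFunctor j).map (Abelian.image.ι a) ≫ _ = _
    rw [← Functor.map_comp_assoc, Abelian.image.fac]
    exact ha
  haveI : Mono θ := by
    haveI : Mono ((Scheme.Modules.restrictFunctor j).map (Abelian.image.ι a)) := inferInstance
    exact mono_comp _ _
  haveI : Epi θ := by
    haveI : Epi ((Scheme.Modules.restrictFunctor j).map (Abelian.factorThruImage a) ≫ θ) := by
      rw [h1]; infer_instance
    exact epi_of_epi ((Scheme.Modules.restrictFunctor j).map (Abelian.factorThruImage a)) θ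
  haveI : IsIso θ := isIso_of_mono_of_epi θ
  exact ⟨asIso θ⟩


theorem flat_of_regular {R S M : Type u} [CommRing R] [IsDomain R] [IsDiscreteValuationRing R]
    [CommRing S] [Algebra R S] (p : Ideal R) [p.IsPrime] [IsLocalization.AtPrime S p]
    [AddCommGroup M] [Module S M] (ϖ : R) (hϖ : Irreducible ϖ)
    (hreg : ∀ m : M, algebraMap R S ϖ • m = 0 → m = 0) : Module.Flat S M := by
  letI : Module R M := Module.compHom M (algebraMap R S)
  haveI : IsScalarTower R S M := ⟨fun r s m => by
    change (r • s) • m = algebraMap R S r • (s • m)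
    rw [Algebra.smul_def, mul_smul]⟩
  rw [Module.flat_iff_of_isLocalization S p.primeCompl M]
  rw [Module.Flat.flat_iff_torsion_eq_bot_of_isBezout]
  rw [Submodule.eq_bot_iff]
  intro m hm
  rw [Submodule.mem_torsion_iff] at hm
  obtain ⟨a, ha⟩ := hm
  have ha0 : (a : R) ≠ 0 := nonZeroDivisors.ne_zero a.2
  obtain ⟨n, u, hu⟩ := IsDiscreteValuationRing.eq_unit_mul_pow_irreducible ha0 hϖ
  have h1 : (a : R) • m = 0 := ha
  rw [hu, mul_smul] at h1
  have h2 : ϖ ^ n • m = 0 := by
    have := congrArg (fun z => ((u⁻¹ : Rˣ) : R) • z) h1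
    simpa [smul_smul] using this
  clear h1 hu ha
  induction n with
  | zero => simpa using h2
  | succ k ih =>
    apply ih
    rw [pow_succ', mul_smul] at h2
    exact hreg _ h2

theorem isLocalization_away_fractionRing (R : Type u) [CommRing R] [IsDomain R]
    [IsDiscreteValuationRing R] (ϖ : R) (hϖ : Irreducible ϖ) :
    IsLocalization.Away ϖ (FractionRing R) := by
  have hinj : Function.Injective (algebraMap R (FractionRing R)) := IsFractionRing.injective R _
  change IsLocalization (Submonoid.powers ϖ) (FractionRing R)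
  rw [isLocalization_iff]
  refine ⟨?_, ?_, ?_⟩
  · rintro ⟨_, n, rfl⟩
    apply IsUnit.mk0
    rw [map_pow]
    exact pow_ne_zero _ (fun h => hϖ.ne_zero (hinj (h.trans (map_zero _).symm)))
  · intro z
    obtain ⟨a, b, hb, rfl⟩ := IsFractionRing.div_surjective (A := R) z
    have hb0 : b ≠ 0 := nonZeroDivisors.ne_zero hb
    obtain ⟨n, u, hu⟩ := IsDiscreteValuationRing.eq_unit_mul_pow_irreducible hb0 hϖ
    refine ⟨(a * ((u⁻¹ : Rˣ) : R), ⟨ϖ ^ n, n, rfl⟩), ?_⟩
    have hb' : algebraMap R (FractionRing R) b ≠ 0 :=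
      fun h => hb0 (hinj (h.trans (map_zero _).symm))
    change algebraMap R (FractionRing R) a / algebraMap R (FractionRing R) b *
      algebraMap R (FractionRing R) (ϖ ^ n) = algebraMap R (FractionRing R) (a * ((u⁻¹ : Rˣ) : R))
    rw [div_mul_eq_mul_div, div_eq_iff hb', ← map_mul, ← map_mul]
    congr 1
    rw [hu]
    have : ((u⁻¹ : Rˣ) : R) * (u : R) = 1 := Units.inv_mul u
    calc a * ϖ ^ n = a * (((u⁻¹ : Rˣ) : R) * (u : R)) * ϖ ^ n := by rw [this, mul_one]
      _ = a * ((u⁻¹ : Rˣ) : R) * ((u : R) * ϖ ^ n) := by ring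
  · intro x y h
    exact ⟨1, by rw [hinj h]⟩



/-- regularity of a uniformizer on the stalks of a submodule of a pushforward from the locus
where it is invertible -/
theorem stalk_regular {U Y : Scheme.{u}} (j : U ⟶ Y) [IsOpenImmersion j]
    (π : Γ(Y, ⊤)) (hunit : IsUnit (j.appTop.hom π))
    (F : U.Modules) (F' : Y.Modules) (ι : F' ⟶ (Scheme.Modules.pushforward j).obj F) [Mono ι]
    (y : Y) (m : F'.presheaf.stalk y)
    (hm : Y.presheaf.germ ⊤ y trivial π • m = 0) : m = 0 := by
  obtain ⟨V, hyV, s, rfl⟩ := F'.presheaf.exists_germ_eq m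
  let πV : Γ(Y, V) := Y.presheaf.map (homOfLE (le_top : V ≤ ⊤)).op π
  have h1 : Y.presheaf.germ ⊤ y trivial π = Y.presheaf.germ V y hyV πV :=
    (TopCat.Presheaf.germ_res_apply Y.presheaf (homOfLE (le_top : V ≤ ⊤)) y hyV π).symm
  rw [h1, ← Groth.Agent.Lib.Helper2.QCoh.germ_smul] at hm
  have h2 : F'.presheaf.germ V y hyV (πV • s) = F'.presheaf.germ V y hyV 0 := by
    rw [hm, map_zero]
  obtain ⟨W, hyW, i₁, i₂, h3⟩ := TopCat.Presheaf.germ_eq F'.presheaf y hyV hyV _ _ h2
  rw [map_zero, Scheme.Modules.map_smul] at h3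
  set s' : Γ(F', W) := F'.presheaf.map i₁.op s with hs'
  set πW : Γ(Y, W) := Y.presheaf.map i₁.op πV with hπW
  have h4 : ι.app W (πW • s') = 0 := by rw [h3, map_zero]
  rw [Scheme.Modules.Hom.app_smul] at h4
  -- the scalar action on the pushforward
  have h5 : (j.app W).hom πW • (show Γ(F, j ⁻¹ᵁ W) from ι.app W s') = 0 := h4
  have hu : IsUnit ((j.app W).hom πW) := by
    have hnat : (j.app W).hom πW =
        (U.presheaf.map (homOfLE (le_top : j ⁻¹ᵁ W ≤ ⊤)).op).hom (j.appTop.hom π) := by
      have e1 : πW = (Y.presheaf.map (homOfLE (le_top : W ≤ ⊤)).op).hom π := by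
        rw [hπW]
        change (Y.presheaf.map i₁.op).hom ((Y.presheaf.map (homOfLE (le_top : V ≤ ⊤)).op).hom π) = _
        rw [← CommRingCat.comp_apply, ← Functor.map_comp]
        rfl
      rw [e1]
      have := j.naturality (homOfLE (le_top : W ≤ ⊤)).op
      exact congr($this π)
    rw [hnat]
    exact hunit.map _
  have h6 : (show Γ(F, j ⁻¹ᵁ W) from ι.app W s') = 0 := by
    obtain ⟨u, hu'⟩ := hu
    have := congrArg (fun z => ((u⁻¹ : (Γ(U, j ⁻¹ᵁ W))ˣ) : Γ(U, j ⁻¹ᵁ W)) • z) h5
    simp only [smul_zero] at this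
    rwa [← hu', smul_smul, Units.inv_mul, one_smul] at this
  have h7 : s' = 0 := by
    apply Groth.Agent.Lib.Helper20.StalkExact.injective_app_of_mono ι W
    rw [map_zero]
    exact h6
  rw [← TopCat.Presheaf.germ_res_apply F'.presheaf i₁ y hyW s, ← hs', h7, map_zero]


theorem isFlatOver_of_mono {U Y : Scheme.{u}} (R : Type u) [CommRing R] [IsDomain R]
    [IsDiscreteValuationRing R]
    (g : Y ⟶ Spec (CommRingCat.of R)) (j : U ⟶ Y) [IsOpenImmersion j]
    (ϖ : R) (hϖ : Irreducible ϖ)
    (hunit : IsUnit ((j ≫ g).appTop.hom ((Scheme.ΓSpecIso (CommRingCat.of R)).inv.hom ϖ)))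
    (F : U.Modules) (F' : Y.Modules) (ι : F' ⟶ (Scheme.Modules.pushforward j).obj F) [Mono ι] :
    FlatMod.IsFlatOver g F' := by
  intro y
  unfold FlatMod.IsFlatOverAt
  letI := FlatMod.moduleStalkOver g F' y
  letI : Algebra R ((Spec (CommRingCat.of R)).presheaf.stalk (g.base y)) :=
    StructureSheaf.stalkAlgebra (R := R) (g.base y)
  haveI : IsLocalization.AtPrime ((Spec (CommRingCat.of R)).presheaf.stalk (g.base y))
      (g.base y).asIdeal := StructureSheaf.IsLocalization.to_stalk (R := R) (g.base y)
  refine flat_of_regular (g.base y).asIdeal ϖ hϖ ?_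
  intro m hm
  let t : Γ(Spec (CommRingCat.of R), ⊤) := (Scheme.ΓSpecIso (CommRingCat.of R)).inv.hom ϖ
  have h1 : algebraMap R ((Spec (CommRingCat.of R)).presheaf.stalk (g.base y)) ϖ =
      (Spec (CommRingCat.of R)).presheaf.germ ⊤ (g.base y) trivial t := rfl
  have h2 : (g.stalkMap y).hom ((Spec (CommRingCat.of R)).presheaf.germ ⊤ (g.base y) trivial t) =
      Y.presheaf.germ (g ⁻¹ᵁ ⊤) y trivial (g.app ⊤ t) :=
    Scheme.Hom.germ_stalkMap_apply g ⊤ y trivial t
  have hm' : (g.stalkMap y).hom (algebraMap R ((Spec (CommRingCat.of R)).presheaf.stalk (g.base y)) ϖ)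
      • m = 0 := hm
  rw [h1, h2] at hm'
  refine stalk_regular j (g.app ⊤ t) ?_ F F' ι y m hm'
  have : (j ≫ g).appTop = g.appTop ≫ j.appTop := Scheme.Hom.comp_appTop j g
  rw [this] at hunit
  exact hunit



theorem main {Y : Scheme.{u}} (R : Type u) [CommRing R] [IsDomain R] [IsDiscreteValuationRing R]
    (g : Y ⟶ Spec (CommRingCat.of R)) (N : ℕ)
    (F : (pullback g (Spec.map (CommRingCat.ofHom (algebraMap R (FractionRing R))))).Modules)
    (hF : Coh.IsCoh F) (q : FlatMod.freeMod _ N ⟶ F) [Epi q] :
    ∃ (F' : Y.Modules) (q' : FlatMod.freeMod _ N ⟶ F'),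
      Coh.IsCoh F' ∧ Epi q' ∧ FlatMod.IsFlatOver g F' ∧
      Nonempty ((Scheme.Modules.pullback
          (pullback.fst g (Spec.map (CommRingCat.ofHom (algebraMap R (FractionRing R)))))).obj F' ≅ F) := by
  obtain ⟨ϖ, hϖ⟩ := IsDiscreteValuationRing.exists_irreducible R
  haveI := isLocalization_away_fractionRing R ϖ hϖ
  haveI hs : IsOpenImmersion (Spec.map (CommRingCat.ofHom (algebraMap R (FractionRing R)))) :=
    IsOpenImmersion.of_isLocalization ϖ
  haveI : IsOpenImmersion (pullback.fst g
    (Spec.map (CommRingCat.ofHom (algebraMap R (FractionRing R))))) := inferInstance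
  haveI : QuasiCompact (pullback.fst g
    (Spec.map (CommRingCat.ofHom (algebraMap R (FractionRing R))))) := inferInstance
  obtain ⟨F', q', ι, hq', hι, hF', ⟨e⟩⟩ := exists_extension (pullback.fst g
    (Spec.map (CommRingCat.ofHom (algebraMap R (FractionRing R))))) N F hF q
  haveI := hι
  have hunit : IsUnit ((pullback.fst g
      (Spec.map (CommRingCat.ofHom (algebraMap R (FractionRing R)))) ≫ g).appTop.hom
      ((Scheme.ΓSpecIso (CommRingCat.of R)).inv.hom ϖ)) := by
    rw [pullback.condition, Scheme.Hom.comp_appTop]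
    have h1 : (Scheme.ΓSpecIso (CommRingCat.of R)).inv ≫
        (Spec.map (CommRingCat.ofHom (algebraMap R (FractionRing R)))).appTop =
        CommRingCat.ofHom (algebraMap R (FractionRing R)) ≫
          (Scheme.ΓSpecIso (CommRingCat.of (FractionRing R))).inv :=
      (Scheme.ΓSpecIso_inv_naturality (CommRingCat.ofHom (algebraMap R (FractionRing R)))).symm
    have h2 : (Spec.map (CommRingCat.ofHom (algebraMap R (FractionRing R)))).appTop.hom
        ((Scheme.ΓSpecIso (CommRingCat.of R)).inv.hom ϖ) =
        (Scheme.ΓSpecIso (CommRingCat.of (FractionRing R))).inv.hom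
          (algebraMap R (FractionRing R) ϖ) := congr($h1 ϖ)
    have h3 : IsUnit (algebraMap R (FractionRing R) ϖ) :=
      IsUnit.mk0 _ (fun h => hϖ.ne_zero
        (IsFractionRing.injective R (FractionRing R) (h.trans (map_zero _).symm)))
    change IsUnit ((pullback.snd g _).appTop.hom
      ((Spec.map (CommRingCat.ofHom (algebraMap R (FractionRing R)))).appTop.hom _))
    rw [h2]
    exact (h3.map _).map _
  refine ⟨F', q', hF', hq', isFlatOver_of_mono R g _ ϖ hϖ hunit F F' ι, ⟨?_⟩⟩
  exact ((Scheme.Modules.restrictFunctorIsoPullback _).symm.app F') ≪≫ e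


/-- Let k be an algebraically closed field of characteristic zero, X a projective k-scheme (proper over
k, carrying an ample invertible sheaf), R a discrete valuation ring containing k with fraction field
K, X_R = X ×_k Spec R and X_K = X_R ×_(Spec R) Spec K with j : X_K → X_R the canonical open
immersion. If F is a coherent module on X_K which is a quotient of O^N, then there is a coherent
module F' on X_R, flat over Spec R and again a quotient of O^N, whose restriction j^*F' to X_K is
isomorphic to F. (The Hilbert polynomial of the closed fibre of F' then equals that of F by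
flatness; that clause is not restated.) The published statement is for a valuation ring R containing
k; its argument uses a uniformiser, and this row takes R a discrete valuation ring. The row asserts
only the existence of an isomorphism j^*F' ≅ F, not its compatibility with the two quotient maps. -/
theorem result (k : Type u) [Field k] [IsAlgClosed k] [CharZero k]
    (X : Scheme.{u}) [X.Over (Spec (CommRingCat.of k))] [IsProper (X ↘ Spec (CommRingCat.of k))]
    (L : X.Modules) (hLi : PicF.IsInvertible L) (hL : CohB1.IsAmple L)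
    (R : Type u) [CommRing R] [IsDomain R] [IsDiscreteValuationRing R] [Algebra k R]
    (N : ℕ)
    (F : (pullback (pullback.snd (X ↘ Spec (CommRingCat.of k))
              (Spec.map (CommRingCat.ofHom (algebraMap k R))))
            (Spec.map (CommRingCat.ofHom (algebraMap R (FractionRing R))))).Modules)
    (hF : Coh.IsCoh F)
    (q : FlatMod.freeMod _ N ⟶ F) (hq : Epi q) :
    ∃ (F' : (pullback (X ↘ Spec (CommRingCat.of k)) (Spec.map (CommRingCat.ofHom (algebraMap k R)))).Modules)
      (q' : FlatMod.freeMod _ N ⟶ F'),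
      Coh.IsCoh F' ∧ Epi q' ∧
      FlatMod.IsFlatOver (pullback.snd (X ↘ Spec (CommRingCat.of k))
          (Spec.map (CommRingCat.ofHom (algebraMap k R)))) F' ∧
      Nonempty ((Scheme.Modules.pullback
          (pullback.fst (pullback.snd (X ↘ Spec (CommRingCat.of k))
              (Spec.map (CommRingCat.ofHom (algebraMap k R))))
            (Spec.map (CommRingCat.ofHom (algebraMap R (FractionRing R)))))).obj F' ≅ F) := by
  haveI := hq
  exact main R _ N F hF q

end Groth.Agent.S18836
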