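import Groth.Statements.S18838
import Groth.Agent.Lib.Helper19DefKaehlerC

set_option autoImplicit false
universe u
open Polynomial TensorProduct
open Deform

namespace Groth.Agent.S18838

/-- Let k be an algebraically closed field of characteristic zero, n ≥ 1, D = k[X]/(X^(n+1)) (given with
a k-algebra isomorphism e identifying the class of X with τ ∈ D), and B a finitely generated
k-algebra which is a flat D-algebra such that B/tB is smooth over k, where t is the image of τ in B
(an affine open of a flat deformation of a smooth k-scheme over Spec D); put B' = B/t^nB. The map μ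
: B → B' × (B' ⊗_B Ω_(B/k)) sending f to (f mod t^n, 1 ⊗ df) is injective, and its image consists
exactly of the pairs (g, α) with dg = r(α) in Ω_(B'/k), r being the canonical map B' ⊗_B Ω_(B/k) →
Ω_(B'/k). Injectivity uses that n is invertible in k. The source works with a flat proper family
over Spec D with smooth central fibre; the statement is local and is given here on an affine open. -/
theorem result (k : Type u) [Field k] [IsAlgClosed k] [CharZero k] (n : ℕ) (hn : 1 ≤ n)
    (D : Type u) [CommRing D] [Algebra k D] (τ : D)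
    (e : (k[X] ⧸ Ideal.span {(X : k[X]) ^ (n + 1)}) ≃ₐ[k] D)
    (he : e (Ideal.Quotient.mk (Ideal.span {(X : k[X]) ^ (n + 1)}) X) = τ)
    (B : Type u) [CommRing B] [Algebra k B] [Algebra D B] [IsScalarTower k D B]
    [Algebra.FiniteType k B] [Module.Flat D B]
    (t : B) (ht : t = algebraMap D B τ) (hsm : Algebra.Smooth k (B ⧸ Ideal.span {t})) :
    Function.Injective (fun f : B =>
      ((Ideal.Quotient.mk (Ideal.span {t ^ n}) f,
        (1 : (B ⧸ Ideal.span {t ^ n})) ⊗ₜ[B] KaehlerDifferential.D k B f) : (B ⧸ Ideal.span {t ^ n}) × ((B ⧸ Ideal.span {t ^ n}) ⊗[B] Ω[B⁄k]))) ∧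
    Set.range (fun f : B =>
      ((Ideal.Quotient.mk (Ideal.span {t ^ n}) f,
        (1 : (B ⧸ Ideal.span {t ^ n})) ⊗ₜ[B] KaehlerDifferential.D k B f) : (B ⧸ Ideal.span {t ^ n}) × ((B ⧸ Ideal.span {t ^ n}) ⊗[B] Ω[B⁄k]))) =
      {p | KaehlerDifferential.D k (B ⧸ Ideal.span {t ^ n}) p.1 = KaehlerDifferential.mapBaseChange k B (B ⧸ Ideal.span {t ^ n}) p.2} := by
  haveI : IsNoetherianRing B := Algebra.FiniteType.isNoetherianRing k B
  haveI : Algebra.FormallySmooth k (B ⧸ Ideal.span {t}) := hsm.formallySmooth
  have hτ := Groth.Agent.Lib.Helper19.DefKaehler.tau_pow_eq_zero n τ e he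
  have hD := Groth.Agent.Lib.Helper19.DefKaehler.exists_eq_aeval n τ e he
  haveI : Algebra.FormallySmooth D B :=
    Groth.Agent.Lib.Helper19.DefKaehler.formallySmooth_of_flat_of_quotient τ (n + 1) hτ
      (Groth.Agent.Lib.Helper19.DefKaehler.exists_sub_mem_span n τ e he) t ht
  obtain ⟨δ, hδ⟩ := Groth.Agent.Lib.Helper19.DefKaehler.exists_derivation n τ hD
    (Groth.Agent.Lib.Helper19.DefKaehler.exists_algHom_of_pow_eq_zero n τ e he) t ht
  have htn : t ^ (n + 1) = 0 := by rw [ht, ← map_pow, hτ, map_zero]
  exact ⟨Groth.Agent.Lib.Helper19.DefKaehler.injective_mu n hn t htn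
      (Groth.Agent.Lib.Helper19.DefKaehler.injective_toSpanSingleton n t δ hδ),
    Groth.Agent.Lib.Helper19.DefKaehler.range_mu (Ideal.span {t ^ n})⟩

end Groth.Agent.S18838
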