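import Groth.Statements.S18858
import Mathlib
import Groth.Agent.Lib.Helper12Torsor
import Groth.Agent.Lib.Helper12Cart

set_option autoImplicit false
universe u
open CategoryTheory MonoidalCategory CartesianMonoidalCategory MonObj GrpObj AlgebraicGeometry
open NonAbH1

namespace Groth.Agent.S18858


open Groth.Agent.Lib.Helper12

/-- trivialization of a pseudo-torsor along a section `s : T ⟶ X`, explicit form. -/
lemma isIso_triv {S : Scheme.{u}} {G X : Over S} [GrpObj G] (a : AlgGrp.Action G X)
    (h : NonAbH1.IsPseudoTorsorSch a) {T : Over S} (s : T ⟶ X) :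
    IsIso (lift ((G ◁ s) ≫ a.act) (snd G T)) := by
  haveI : IsIso (lift a.act (snd G X)) := h
  set Φ := lift a.act (snd G X) with hΦ
  have hΦ1 : Φ ≫ fst X X = a.act := by simp [Φ]
  have hΦ2 : Φ ≫ snd X X = snd G X := by simp [Φ]
  have h2 : inv Φ ≫ snd G X = snd X X := by rw [IsIso.inv_comp_eq, hΦ2]
  have h3 : inv Φ ≫ a.act = fst X X := by rw [IsIso.inv_comp_eq, hΦ1]
  let φ : G ⊗ T ⟶ X ⊗ T := lift ((G ◁ s) ≫ a.act) (snd G T)
  let ψ : X ⊗ T ⟶ G ⊗ T := lift ((X ◁ s) ≫ inv Φ ≫ fst G X) (snd X T)
  have key1 : φ ≫ (X ◁ s) = (G ◁ s) ≫ Φ := by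
    apply CartesianMonoidalCategory.hom_ext
    · simp [φ, hΦ1]
    · simp [φ, hΦ2]
  have key2 : ψ ≫ (G ◁ s) = (X ◁ s) ≫ inv Φ := by
    apply CartesianMonoidalCategory.hom_ext
    · simp [ψ]
    · simp [ψ, h2]
  refine ⟨ψ, ?_, ?_⟩
  · apply CartesianMonoidalCategory.hom_ext
    · simp only [ψ, Category.assoc, lift_fst, Category.id_comp]
      rw [reassoc_of% key1]
      simp
    · simp [φ, ψ]
  · apply CartesianMonoidalCategory.hom_ext
    · simp only [φ, Category.assoc, lift_fst, Category.id_comp]
      rw [reassoc_of% key2, h3]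
      simp
    · simp [φ, ψ]

lemma isIso_whiskerRight_of_section {S : Scheme.{u}} {G X X' : Over S} [GrpObj G]
    (a : AlgGrp.Action G X) (a' : AlgGrp.Action G X')
    (ha : NonAbH1.IsPseudoTorsorSch a) (ha' : NonAbH1.IsPseudoTorsorSch a')
    (f : X ⟶ X') (hf : AlgGrp.Action.IsEquivariant a a' f) {T : Over S} (s : T ⟶ X) :
    IsIso (f ▷ T) := by
  have h1 := isIso_triv a ha s
  have h2 := isIso_triv a' ha' (s ≫ f)
  have e : lift ((G ◁ s) ≫ a.act) (snd G T) ≫ (f ▷ T) =
      lift ((G ◁ (s ≫ f)) ≫ a'.act) (snd G T) := by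
    apply CartesianMonoidalCategory.hom_ext
    · simp only [Category.assoc, whiskerRight_fst, lift_fst_assoc, lift_fst]
      rw [hf, MonoidalCategory.whiskerLeft_comp, Category.assoc]
    · simp
  have : f ▷ T = inv (lift ((G ◁ s) ≫ a.act) (snd G T)) ≫
      lift ((G ◁ (s ≫ f)) ≫ a'.act) (snd G T) := by
    rw [← e, IsIso.inv_hom_id_assoc]
  rw [this]
  infer_instance


open Limits MorphismProperty in


/-- Let S be a scheme, G a group scheme over S and X, X' two G-torsors over S for the fpqc topology
(pseudo-torsors under G acquiring sections on the members of some fpqc covering family of S). Then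
every G-equivariant S-morphism f : X → X' is an isomorphism; so the category of G-torsors over S
with equivariant morphisms is a groupoid. (The source takes for G the base change to a scheme over a
field of a group scheme over that field; the statement and its meaning are unchanged for an
arbitrary group scheme over the base.) -/
theorem result {S : Scheme.{u}} {G X X' : Over S} [GrpObj G]
    (a : AlgGrp.Action G X) (a' : AlgGrp.Action G X')
    (ha : NonAbH1.IsTorsorFor Scheme.fpqcPrecoverage a)
    (ha' : NonAbH1.IsTorsorFor Scheme.fpqcPrecoverage a')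
    (f : X ⟶ X') (hf : AlgGrp.Action.IsEquivariant a a' f) : IsIso f := by
  obtain ⟨hpt, R, hR, hsec⟩ := ha
  obtain ⟨hpt', -⟩ := ha'
  suffices h : (MorphismProperty.isomorphisms Scheme.{u}) f.left by
    have h1 : IsIso ((Over.forget S).map f) := h
    exact isIso_of_reflects_iso f (Over.forget S)
  have hR' : R.pullbackArrows X'.hom ∈ Scheme.fpqcPrecoverage X'.left :=
    Precoverage.pullbackArrows_mem X'.hom hR
  refine of_mem_fpqcPrecoverage inferInstance f.left _ hR' (fun Y' g' hg' => ?_)
  obtain ⟨S', g, hg⟩ := hg'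
  obtain ⟨s, hs⟩ := hsec g hg
  let T : Over S := Over.mk g
  let s' : T ⟶ X := Over.homMk s hs
  have hiso : IsIso (f ▷ T) := isIso_whiskerRight_of_section a a' hpt hpt' f hf s'
  have hiso' : IsIso (f ▷ T).left := inferInstanceAs (IsIso ((Over.forget S).map (f ▷ T)))
  have sq := Functor.map_isPullback (Over.forget S) (isPullback_whiskerRight T f)
  simp only [Over.forget_obj, Over.forget_map] at sq
  have e1 : (fst X' T).left = pullback.fst X'.hom g := rfl
  have sq' : IsPullback ((f ▷ T).left ≫ (pullbackSymmetry X'.hom g).hom) (fst X T).left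
      (pullback.snd g X'.hom) f.left := by
    refine IsPullback.of_iso sq (Iso.refl _) (pullbackSymmetry X'.hom g) (Iso.refl _) (Iso.refl _)
      (by simp) (by simp) ?_ (by simp)
    rw [e1]; simp
  have e2 : pullback.snd f.left (pullback.snd g X'.hom) =
      sq'.flip.isoPullback.inv ≫ (f ▷ T).left ≫ (pullbackSymmetry X'.hom g).hom := by
    rw [Iso.eq_inv_comp, IsPullback.isoPullback_hom_snd]
  rw [e2]
  change IsIso _
  infer_instance

end Groth.Agent.S18858
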