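import Groth.Statements.S18861
-- import your own Groth.Agent.* helpers here
import Groth.Agent.Lib.Helper12Act

set_option autoImplicit false
universe u
open CategoryTheory MonoidalCategory CartesianMonoidalCategory MonObj GrpObj AlgebraicGeometry
open AlgGrp

namespace Groth.Agent.S18861

/-- A property stable under base change and respecting isos passes from `G → S` to the action map. -/
theorem act_of_baseChange {S : Scheme.{u}} {G X : Over S} [GrpObj G]
    (a : AlgGrp.Action G X) (P : MorphismProperty Scheme.{u}) [P.IsStableUnderBaseChange]
    (h : P G.hom) : P a.act.left := by
  have h1 : a.act.left = (Groth.Agent.Lib.Helper12.shearIso a).hom.left ≫ (snd G X).left := by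
    rw [← Over.comp_left]
    congr 1
    exact (Groth.Agent.Lib.Helper12.shear_snd a).symm
  have h2 : P (snd G X).left := by
    rw [Over.snd_left]
    exact P.pullback_snd _ _ h
  have hiso : IsIso (Groth.Agent.Lib.Helper12.shearIso a).hom.left :=
    (inferInstance : IsIso ((Over.forget S).mapIso (Groth.Agent.Lib.Helper12.shearIso a)).hom)
  rw [h1]
  exact (P.cancel_left_of_respectsIso _ _).mpr h2

/-- Let S be a scheme and G a group scheme over S acting on an S-scheme X, with action morphism G ×_S X
→ X. If G → S is surjective, resp. flat, resp. affine, resp. proper, resp. finite, resp. smooth,
then so is the action morphism. (The source works over a field, where G → S is automatically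
faithfully flat, with G and X of finite type, and concludes that the action morphism is faithfully
flat, and smooth, affine, proper or finite when G is; the base and the finiteness conditions play no
role.) -/
theorem result {S : Scheme.{u}} {G X : Over S} [GrpObj G]
    (a : AlgGrp.Action G X) :
    (Surjective G.hom → Surjective a.act.left) ∧ (Flat G.hom → Flat a.act.left) ∧
      (IsAffineHom G.hom → IsAffineHom a.act.left) ∧ (IsProper G.hom → IsProper a.act.left) ∧
      (IsFinite G.hom → IsFinite a.act.left) ∧ (Smooth G.hom → Smooth a.act.left) := by
  refine ⟨fun h => act_of_baseChange a @Surjective h, fun h => act_of_baseChange a @Flat h,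
    fun h => act_of_baseChange a @IsAffineHom h, fun h => act_of_baseChange a @IsProper h,
    fun h => act_of_baseChange a @IsFinite h, fun h => act_of_baseChange a @Smooth h⟩

end Groth.Agent.S18861
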