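import Groth.Statements.S18864
-- import your own Groth.Agent.* helpers here
import Mathlib.RingTheory.Flat.Basic
import Mathlib.RingTheory.Adjoin.Basic
import Mathlib.LinearAlgebra.TensorProduct.Basic
import Mathlib.RingTheory.Flat.Stability
import Mathlib.LinearAlgebra.Dimension.Free
import Mathlib.LinearAlgebra.FreeModule.Basic
import Mathlib.LinearAlgebra.Basis.VectorSpace

set_option autoImplicit false
universe u v w
open HopfRep

namespace Groth.Agent.S18864

/-- Let k be a field and G = lim G_i a pro-algebraic group scheme over k, so that G = Spec A with A the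
direct limit of the Hopf algebras A_i of the affine group schemes G_i of finite type; assume
moreover that the maps A_i → A are injective, so that A is the directed union of the A_i, here given
as injective bialgebra maps A_i → A with directed, jointly covering images. Then every homomorphism
from G to an affine group scheme H = Spec B of finite type over k factors through some projection G
→ G_i: every bialgebra map f : B → A with B finitely generated as a k-algebra is the composite of
A_i → A with a bialgebra map B → A_i for some i. (The published statement allows arbitrary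
transition maps in the system; this row assumes each A_i → A injective, the case the printed
argument treats. The source also states the pro-finite variant with H finite, which is the case of
finite-dimensional A_i and B; finite generation of the A_i is not used.) -/
theorem result (k : Type u) [Field k]
    (A : Type v) [CommRing A] [HopfAlgebra k A] {ι : Type v} (Aι : ι → Type v)
    [∀ i, CommRing (Aι i)] [∀ i, HopfAlgebra k (Aι i)] (emb : ∀ i, Aι i →ₐc[k] A)
    (hinj : ∀ i, Function.Injective (emb i))
    (hdir : ∀ i j, ∃ l, Set.range (emb i) ⊆ Set.range (emb l) ∧ Set.range (emb j) ⊆ Set.range (emb l))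
    (hcov : ∀ a : A, ∃ i, a ∈ Set.range (emb i))
    (B : Type w) [CommRing B] [HopfAlgebra k B] [Algebra.FiniteType k B] (f : B →ₐc[k] A) :
    ∃ (i : ι) (g : B →ₐc[k] Aι i), (emb i).comp g = f := by
  classical
  -- Step 1: a common index for a finite generating set
  obtain ⟨s, hs⟩ := (Algebra.FiniteType.out : (⊤ : Subalgebra k B).FG)
  have hfin : ∀ t : Finset B, ∃ l, ∀ b ∈ t, f b ∈ Set.range (emb l) := by
    intro t
    induction t using Finset.induction_on with
    | empty =>
      obtain ⟨i, -⟩ := hcov 0
      exact ⟨i, by simp⟩
    | insert b t _ ih =>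
      obtain ⟨l, hl⟩ := ih
      obtain ⟨i, hi⟩ := hcov (f b)
      obtain ⟨m, hm1, hm2⟩ := hdir i l
      refine ⟨m, ?_⟩
      intro c hc
      rcases Finset.mem_insert.mp hc with rfl | hc
      · exact hm1 hi
      · exact hm2 (hl c hc)
  obtain ⟨l, hl⟩ := hfin s
  let el : Aι l →ₐ[k] A := (emb l : Aι l →ₐ[k] A)
  let fa : B →ₐ[k] A := (f : B →ₐ[k] A)
  have hrange : ∀ b : B, fa b ∈ el.range := by
    have hle : fa.range ≤ el.range := by
      rw [← Algebra.map_top, ← hs, AlgHom.map_adjoin, Algebra.adjoin_le_iff]
      rintro _ ⟨b, hb, rfl⟩
      obtain ⟨a, ha⟩ := hl b hb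
      exact ⟨a, ha⟩
    intro b
    exact hle ⟨b, rfl⟩
  -- Step 2: the algebra map
  let e := AlgEquiv.ofInjective el (hinj l)
  let g₀ : B →ₐ[k] Aι l := (e.symm : el.range →ₐ[k] Aι l).comp (fa.codRestrict el.range hrange)
  have hg₀ : ∀ b, el (g₀ b) = fa b := by
    intro b
    have h1 : (e (g₀ b) : A) = fa b := by
      simp only [g₀, AlgHom.comp_apply, AlgEquiv.coe_algHom, AlgEquiv.apply_symm_apply]
      rfl
    exact h1
  have hcomp : el.comp g₀ = fa := AlgHom.ext hg₀
  -- Step 3: bialgebra structure
  have hcounit : (Bialgebra.counitAlgHom k (Aι l)).comp g₀ = Bialgebra.counitAlgHom k B := by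
    rw [← BialgHom.counitAlgHom_comp (emb l), AlgHom.comp_assoc]
    change (Bialgebra.counitAlgHom k A).comp (el.comp g₀) = _
    rw [hcomp]
    exact BialgHom.counitAlgHom_comp f
  have hinjT : Function.Injective (Algebra.TensorProduct.map el el) := by
    have : (Algebra.TensorProduct.map el el : _ → _) =
        (TensorProduct.map el.toLinearMap el.toLinearMap : _ → _) := rfl
    rw [this]
    exact TensorProduct.map_injective_of_flat_flat _ _ (hinj l) (hinj l)
  have hcomul : (Algebra.TensorProduct.map g₀ g₀).comp (Bialgebra.comulAlgHom k B) =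
      (Bialgebra.comulAlgHom k (Aι l)).comp g₀ := by
    apply AlgHom.ext
    intro b
    apply hinjT
    have h1 : (Algebra.TensorProduct.map el el).comp ((Algebra.TensorProduct.map g₀ g₀).comp
        (Bialgebra.comulAlgHom k B)) = (Bialgebra.comulAlgHom k A).comp fa := by
      rw [← AlgHom.comp_assoc, ← Algebra.TensorProduct.map_comp, hcomp]
      exact BialgHom.map_comp_comulAlgHom f
    have h2 : (Algebra.TensorProduct.map el el).comp ((Bialgebra.comulAlgHom k (Aι l)).comp g₀) =
        (Bialgebra.comulAlgHom k A).comp fa := by
      rw [← AlgHom.comp_assoc, BialgHom.map_comp_comulAlgHom (emb l), AlgHom.comp_assoc]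
      change (Bialgebra.comulAlgHom k A).comp (el.comp g₀) = _
      rw [hcomp]
    exact (AlgHom.congr_fun h1 b).trans (AlgHom.congr_fun h2 b).symm
  refine ⟨l, BialgHom.ofAlgHom g₀ hcounit hcomul, ?_⟩
  ext b
  exact hg₀ b

end Groth.Agent.S18864
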