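import Groth.Statements.S18868
import Groth.Agent.Lib.Helper29GorLink
import Groth.Agent.Lib.Helper5GorDual
import Groth.Agent.Lib.Helper5CMEquidim
import Groth.Agent.Lib.Helper5KoszulGor

set_option autoImplicit false
universe u
open Liaison

namespace Groth.Agent.S18868

/-- Let K be a field, R = K[x_0, …, x_n] graded by degree, c ≥ 2, 𝔠 ⊂ R a homogeneous complete
intersection of codimension c, that is a homogeneous ideal of height c generated by c elements g_1,
…, g_c, and I ⊂ R a homogeneous ideal of height c with R/I Cohen–Macaulay which properly contains 𝔠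
and has the form I = 𝔠 + fR for some f (so I is an almost complete intersection). Then the linked
ideal J = 𝔠 : I has height c and R/J is a Gorenstein ring. (A Gorenstein ideal of the notes, one
whose quotient is Cohen–Macaulay with last graded Betti number 1, is rendered as: the quotient ring
is Gorenstein.) -/
theorem result (K : Type u) [Field K] (n c : ℕ) (hc : 2 ≤ c)
    (g : Fin c → MvPolynomial (Fin (n + 1)) K) (f : MvPolynomial (Fin (n + 1)) K) (𝔠 I : Ideal (MvPolynomial (Fin (n + 1)) K)) (h𝔠g : Ideal.span (Set.range g) = 𝔠)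
    (h𝔠 : 𝔠.IsHomogeneous (GrSyz.stdGr K (Fin (n + 1)))) (hI : I.IsHomogeneous (GrSyz.stdGr K (Fin (n + 1))))
    (h𝔠c : 𝔠.height = c) (hIc : I.height = c) [LocCoh.IsCohenMacaulayRing (MvPolynomial (Fin (n + 1)) K ⧸ I)]
    (hlt : 𝔠 < I) (hIf : I = 𝔠 ⊔ Ideal.span {f}) :
    (𝔠.colon (I : Set (MvPolynomial (Fin (n + 1)) K))).height = c ∧
      LocCoh.IsGorensteinRing (MvPolynomial (Fin (n + 1)) K ⧸ 𝔠.colon (I : Set (MvPolynomial (Fin (n + 1)) K))) := by
  open Groth.Agent.Lib.Helper29GorLink Groth.Agent.Lib.Helper5.GorUnmixed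
    Groth.Agent.Lib.Helper5.GorRing in
  haveI hGK : LocCoh.IsGorensteinRing K := gorRing_of_field K
  haveI hGR : LocCoh.IsGorensteinRing (MvPolynomial (Fin (n + 1)) K) :=
    Groth.Agent.Lib.Helper5.KoszulGor.gorRing_mvPolynomial K (n + 1)
  have hofList : 𝔠 = Ideal.ofList (List.ofFn g) := by
    rw [← h𝔠g, Ideal.ofList]
    congr 1
    ext r
    simp [List.mem_ofFn]
  haveI hG𝔠 : LocCoh.IsGorensteinRing (MvPolynomial (Fin (n + 1)) K ⧸ 𝔠) :=
    gorRing_quotient_of_eq_ofList (List.ofFn g) 𝔠 hofList (by rw [List.length_ofFn, h𝔠c])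
  have hnle : ¬ I ≤ 𝔠 := not_le_of_gt hlt
  have hht := (colon_unmixed K (n + 1) 𝔠 I h𝔠 hnle).1
  refine ⟨by rw [hht, h𝔠c], ?_⟩
  have hIu : ∀ p ∈ associatedPrimes (MvPolynomial (Fin (n + 1)) K)
      (MvPolynomial (Fin (n + 1)) K ⧸ I), p.height ≤ 𝔠.height := by
    intro p hp
    have hpmin := mem_minimalPrimes_of_mem_associatedPrimes_quotient_cm I hp
    rw [Groth.Agent.Lib.Helper5.CMEquidim.height_eq_height_of_mem_minimalPrimes_cm K (n + 1) I hI
      hpmin, hIc, h𝔠c]
  have hJI := colon_colon_eq 𝔠 I hlt.le hIu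
  exact gorRing_quot_of_colon 𝔠 I _ f rfl hJI hIf inferInstance

end Groth.Agent.S18868
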