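import Groth.Statements.S7518
import Groth.Agent.Lib.Helper3GrpFibDim
import Groth.Agent.Lib.Helper4FibDimH
import Groth.Agent.Lib.Helper2Grpd
import Groth.Agent.S5341
import Mathlib

set_option autoImplicit false
universe u
open CategoryTheory CategoryTheory.Limits AlgebraicGeometry
open Grpd

namespace Groth.Agent.S7518

open Groth.Agent.Lib.Helper2.Grpd

variable {S : Scheme.{u}} (G : Grpd.GroupoidScheme S)

lemma c_eq : G.c = comp G (pullback.fst G.s G.t) (pullback.snd G.s G.t) pullback.condition := by
  unfold comp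
  have : pullback.lift (pullback.fst G.s G.t) (pullback.snd G.s G.t) pullback.condition =
      𝟙 _ := by
    apply pullback.hom_ext <;> simp
  rw [this, Category.id_comp]

lemma c_s : G.c ≫ G.s = pullback.snd G.s G.t ≫ G.s := by
  rw [c_eq G]; exact comp_s G _ _ _

lemma c_t : G.c ≫ G.t = pullback.fst G.s G.t ≫ G.t := by
  rw [c_eq G]; exact comp_t G _ _ _

/-- `(α, β) ↦ (α ∘ β, β)`. -/
noncomputable def shearSHom : pullback G.s G.t ⟶ pullback G.s G.s :=
  pullback.lift G.c (pullback.snd G.s G.t) (c_s G)

/-- `(γ, β) ↦ (γ ∘ β⁻¹, β)`. -/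
noncomputable def shearSInv : pullback G.s G.s ⟶ pullback G.s G.t :=
  pullback.lift
    (comp G (pullback.fst G.s G.s) (pullback.snd G.s G.s ≫ G.i)
      (by rw [Category.assoc, G.i_t]; exact pullback.condition))
    (pullback.snd G.s G.s) (by rw [comp_s, Category.assoc, G.i_s])

@[reassoc (attr := simp)]
lemma shearSHom_fst : shearSHom G ≫ pullback.fst G.s G.s = G.c := pullback.lift_fst _ _ _
@[reassoc (attr := simp)]
lemma shearSHom_snd : shearSHom G ≫ pullback.snd G.s G.s = pullback.snd G.s G.t :=
  pullback.lift_snd _ _ _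
@[reassoc (attr := simp)]
lemma shearSInv_snd : shearSInv G ≫ pullback.snd G.s G.t = pullback.snd G.s G.s :=
  pullback.lift_snd _ _ _
@[reassoc]
lemma shearSInv_fst : shearSInv G ≫ pullback.fst G.s G.t =
    comp G (pullback.fst G.s G.s) (pullback.snd G.s G.s ≫ G.i)
      (by rw [Category.assoc, G.i_t]; exact pullback.condition) := pullback.lift_fst _ _ _

lemma shearS_hom_inv : shearSHom G ≫ shearSInv G = 𝟙 _ := by
  apply pullback.hom_ext
  · rw [Category.assoc, shearSInv_fst, Category.id_comp, precomp_comp]
    have h1 : shearSHom G ≫ pullback.fst G.s G.s =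
        comp G (pullback.fst G.s G.t) (pullback.snd G.s G.t) pullback.condition := by
      rw [shearSHom_fst]; exact c_eq G
    have h2 : shearSHom G ≫ pullback.snd G.s G.s ≫ G.i = pullback.snd G.s G.t ≫ G.i := by
      rw [shearSHom_snd_assoc]
    rw [comp_congr G _ h1 h2]
    exact comp_comp_i G _ _ pullback.condition _
  · rw [Category.assoc, shearSInv_snd, shearSHom_snd, Category.id_comp]

lemma shearS_inv_hom : shearSInv G ≫ shearSHom G = 𝟙 _ := by
  apply pullback.hom_ext
  · rw [Category.assoc, shearSHom_fst, Category.id_comp, c_eq G, precomp_comp]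
    have h1 := shearSInv_fst G
    have h2 := shearSInv_snd G
    rw [comp_congr G _ h1 h2]
    exact comp_i_comp' G _ _ _ _
  · rw [Category.assoc, shearSHom_snd, shearSInv_snd, Category.id_comp]

/-- `(α, β) ↦ (α, α ∘ β)`. -/
noncomputable def shearTHom : pullback G.s G.t ⟶ pullback G.t G.t :=
  pullback.lift (pullback.fst G.s G.t) G.c (c_t G).symm

/-- `(α, γ) ↦ (α, α⁻¹ ∘ γ)`. -/
noncomputable def shearTInv : pullback G.t G.t ⟶ pullback G.s G.t :=
  pullback.lift (pullback.fst G.t G.t)
    (comp G (pullback.fst G.t G.t ≫ G.i) (pullback.snd G.t G.t)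
      (by rw [Category.assoc, G.i_s]; exact pullback.condition))
    (by rw [comp_t, Category.assoc, G.i_t])

@[reassoc (attr := simp)]
lemma shearTHom_fst : shearTHom G ≫ pullback.fst G.t G.t = pullback.fst G.s G.t :=
  pullback.lift_fst _ _ _
@[reassoc (attr := simp)]
lemma shearTHom_snd : shearTHom G ≫ pullback.snd G.t G.t = G.c := pullback.lift_snd _ _ _
@[reassoc (attr := simp)]
lemma shearTInv_fst : shearTInv G ≫ pullback.fst G.s G.t = pullback.fst G.t G.t :=
  pullback.lift_fst _ _ _
@[reassoc]
lemma shearTInv_snd : shearTInv G ≫ pullback.snd G.s G.t =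
    comp G (pullback.fst G.t G.t ≫ G.i) (pullback.snd G.t G.t)
      (by rw [Category.assoc, G.i_s]; exact pullback.condition) := pullback.lift_snd _ _ _

lemma shearT_hom_inv : shearTHom G ≫ shearTInv G = 𝟙 _ := by
  apply pullback.hom_ext
  · rw [Category.assoc, shearTInv_fst, shearTHom_fst, Category.id_comp]
  · rw [Category.assoc, shearTInv_snd, Category.id_comp, precomp_comp]
    have h1 : shearTHom G ≫ pullback.fst G.t G.t ≫ G.i = pullback.fst G.s G.t ≫ G.i := by
      rw [shearTHom_fst_assoc]
    have h2 : shearTHom G ≫ pullback.snd G.t G.t =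
        comp G (pullback.fst G.s G.t) (pullback.snd G.s G.t) pullback.condition := by
      rw [shearTHom_snd]; exact c_eq G
    rw [comp_congr G _ h1 h2]
    exact i_comp_comp G _ _ pullback.condition _

lemma shearT_inv_hom : shearTInv G ≫ shearTHom G = 𝟙 _ := by
  apply pullback.hom_ext
  · rw [Category.assoc, shearTHom_fst, shearTInv_fst, Category.id_comp]
  · rw [Category.assoc, shearTHom_snd, Category.id_comp, c_eq G, precomp_comp]
    have h1 := shearTInv_fst G
    have h2 := shearTInv_snd G
    rw [comp_congr G _ h1 h2]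
    exact comp_i_comp G _ _ _ _

theorem fibreDimAt_s_snd_eq_t_fst [LocallyOfFiniteType G.s] [LocallyOfFiniteType G.t]
    (z : ↥(pullback G.s G.t)) :
    FlatMor.fibreDimAt G.s (pullback.snd G.s G.t z) =
      FlatMor.fibreDimAt G.t (pullback.fst G.s G.t z) := by
  haveI : IsIso (shearSHom G) := ⟨shearSInv G, shearS_hom_inv G, shearS_inv_hom G⟩
  haveI : IsIso (shearTHom G) := ⟨shearTInv G, shearT_hom_inv G, shearT_inv_hom G⟩
  have e1 : FlatMor.fibreDimAt G.c z = FlatMor.fibreDimAt G.s (pullback.snd G.s G.t z) := by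
    rw [← shearSHom_fst G, Groth.Agent.Lib.Helper3.FlatFibDim.fibreDimAt_comp_of_isOpenImmersion,
      Groth.Agent.Lib.Helper3.LocDimBC.fibreDimAt_eq_of_isPullback G.s G.s (pullback.snd G.s G.s)
        (pullback.fst G.s G.s) (IsPullback.of_hasPullback G.s G.s).flip,
      ← Scheme.Hom.comp_apply, shearSHom_snd]
  have e2 : FlatMor.fibreDimAt G.c z = FlatMor.fibreDimAt G.t (pullback.fst G.s G.t z) := by
    rw [← shearTHom_snd G, Groth.Agent.Lib.Helper3.FlatFibDim.fibreDimAt_comp_of_isOpenImmersion,
      Groth.Agent.Lib.Helper3.LocDimBC.fibreDimAt_eq_of_isPullback G.t G.t (pullback.fst G.t G.t)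
        (pullback.snd G.t G.t) (IsPullback.of_hasPullback G.t G.t),
      ← Scheme.Hom.comp_apply, shearTHom_fst]
  rw [← e1, e2]

/-- Let (U, R, s, t, c) be a groupoid scheme over S with U the spectrum of a field and s, t locally of
finite type. Then R is equidimensional: every irreducible component of R has Krull dimension equal
to dim R; and for every point r of R the local dimension of R at r (the infimum of the dimensions of
open neighbourhoods) equals dim R. (The equality of the transcendence degrees of κ(r) over s(k) and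
over t(k), and the dimension of the local rings at closed points, are not stated here.) (A groupoid
scheme carries U, R, s, t, c, e, i over S with the groupoid axioms on T-points; c is defined on the
fibre product of s and t and sends a pair (a, b) with s(a) = t(b) to a composed with b.) -/
theorem result (S : Scheme.{u}) (G : Grpd.GroupoidScheme S) (k : Type u) [Field k] (eU : G.U ≅ Spec (CommRingCat.of k)) [LocallyOfFiniteType G.s] [LocallyOfFiniteType G.t] : (∀ Z ∈ irreducibleComponents ↥G.R, topologicalKrullDim ↥Z = topologicalKrullDim ↥G.R) ∧ ∀ r : G.R, FlatMor.localDim ↥G.R r = topologicalKrullDim ↥G.R := by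
  haveI : Subsingleton G.U := (Scheme.homeoOfIso eU).injective.subsingleton
  letI : G.R.Over (Spec (CommRingCat.of k)) := ⟨G.s ≫ eU.hom⟩
  haveI : LocallyOfFiniteType (G.R ↘ Spec (CommRingCat.of k)) := by
    show LocallyOfFiniteType (G.s ≫ eU.hom)
    infer_instance
  have hconst : ∀ x y : G.R, FlatMor.localDim G.R x = FlatMor.localDim G.R y := by
    intro x y
    obtain ⟨z, hz1, hz2⟩ := Scheme.Pullback.exists_preimage_pullback (f := G.s) (g := G.t) y x
      (Subsingleton.elim _ _)
    have := fibreDimAt_s_snd_eq_t_fst G z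
    rw [hz1, hz2, Groth.Agent.S5341.fibreDimAt_eq_localDim_of_subsingleton,
      Groth.Agent.S5341.fibreDimAt_eq_localDim_of_subsingleton] at this
    exact this
  have hii : ∀ g : G.R, FlatMor.localDim ↥G.R g = topologicalKrullDim ↥G.R := by
    intro g
    rw [Groth.Agent.Lib.Helper7.TopDim.topologicalKrullDim_eq_iSup_localDim]
    exact le_antisymm (le_iSup (fun x => FlatMor.localDim ↥G.R x) g)
      (iSup_le fun x => (hconst x g).le)
  refine ⟨?_, hii⟩
  intro Z hZ
  obtain ⟨z, hz⟩ := QuasiSober.sober hZ.1 (isClosed_of_mem_irreducibleComponents _ hZ)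
  have hzcl : closure ({z} : Set G.R) = Z := hz.def
  have hzmax : ∀ w : G.R, w ⤳ z → w = z := fun w hw =>
    Groth.Agent.Lib.Helper4.VarDim.eq_of_specializes_generic z w (by rw [hzcl]; exact hZ) hw
  rw [← hzcl, Groth.Agent.Lib.Helper4.VarDim.topologicalKrullDim_closure_singleton k G.R z,
    ← Groth.Agent.Lib.Helper4.FibDim.localDim_eq_trdegNat_of_maximal k G.R z hzmax, hii]

end Groth.Agent.S7518
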