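import Groth.Statements.S18874
import Mathlib
import Groth.Agent.Lib.Helper26StalkLim
import Groth.Agent.S2074

set_option autoImplicit false
universe u
open Lim

namespace Groth.Agent.S18874

open CategoryTheory AlgebraicGeometry
open Limits Opposite Groth.Agent.Lib.Helper26

section P1
variable {C : Type*} [Category C] [HasPullbacks C] {Y S T T' : C} (g : Y ⟶ S) (c : T ⟶ S)
  (c' : T' ⟶ S) (h : T' ⟶ T) (hc : h ≫ c = c')

/-- base change map between pullbacks -/
noncomputable def bcMap : pullback g c' ⟶ pullback g c :=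
  pullback.lift (pullback.fst g c') (pullback.snd g c' ≫ h)
    (by rw [Category.assoc, hc, pullback.condition])

@[reassoc]
theorem bcMap_fst : bcMap g c c' h hc ≫ pullback.fst g c = pullback.fst g c' :=
  pullback.lift_fst _ _ _

@[reassoc]
theorem bcMap_snd : bcMap g c c' h hc ≫ pullback.snd g c = pullback.snd g c' ≫ h :=
  pullback.lift_snd _ _ _

theorem isPullback_bcMap :
    IsPullback (bcMap g c c' h hc) (pullback.snd g c') (pullback.snd g c) h := by
  refine IsPullback.of_right ?_ (bcMap_snd g c c' h hc) (IsPullback.of_hasPullback g c)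
  rw [bcMap_fst, hc]
  exact IsPullback.of_hasPullback g c'

end P1

theorem fpqc_stable : MorphismProperty.IsStableUnderBaseChange
    (@Surjective ⊓ @Flat ⊓ @QuasiCompact : MorphismProperty Scheme.{u}) :=
  @MorphismProperty.IsStableUnderBaseChange.inf _ _ _ _
    MorphismProperty.IsStableUnderBaseChange.inf inferInstance

theorem uc_resp : MorphismProperty.RespectsIso (@UniversallyClosed : MorphismProperty Scheme.{u}) :=
  MorphismProperty.IsStableUnderBaseChange.respectsIso

theorem ucdiag_desc : (MorphismProperty.diagonal @UniversallyClosed :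
    MorphismProperty Scheme.{u}).DescendsAlong (@Surjective ⊓ @Flat ⊓ @QuasiCompact) :=
  @MorphismProperty.instDescendsAlongDiagonalOfRespectsIsoOfIsStableUnderBaseChange _ _ _ _ _
    inferInstance uc_resp fpqc_stable

theorem isProper_of_isPullback_fpqc {X' Y' X Y : Scheme.{u}} {f' : X' ⟶ Y'} {τ : X' ⟶ X}
    {ρ : Y' ⟶ Y} {f : X ⟶ Y} (h : IsPullback f' τ ρ f) [Surjective ρ] [Flat ρ] [QuasiCompact ρ]
    [LocallyOfFiniteType f] [IsProper f'] : IsProper f := by
  have hQ : (@Surjective ⊓ @Flat ⊓ @QuasiCompact : MorphismProperty Scheme.{u}) ρ :=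
    ⟨⟨‹_›, ‹_›⟩, ‹_›⟩
  have huc : UniversallyClosed f :=
    MorphismProperty.of_isPullback_of_descendsAlong (P := @UniversallyClosed)
      (Q := @Surjective ⊓ @Flat ⊓ @QuasiCompact) h hQ inferInstance
  have hd' : MorphismProperty.diagonal @UniversallyClosed f' := by
    change UniversallyClosed (pullback.diagonal f')
    infer_instance
  have := ucdiag_desc.{u}
  have hd : MorphismProperty.diagonal @UniversallyClosed f :=
    MorphismProperty.of_isPullback_of_descendsAlong
      (P := MorphismProperty.diagonal @UniversallyClosed)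
      (Q := @Surjective ⊓ @Flat ⊓ @QuasiCompact) h hQ hd'
  have hd2 : UniversallyClosed (pullback.diagonal f) := hd
  have hci : IsClosedImmersion (pullback.diagonal f) :=
    .of_isPreimmersion _ (pullback.diagonal f).isClosedMap.isClosed_range
  have hsep : IsSeparated f := ⟨hci⟩
  exact { toIsSeparated := hsep, toUniversallyClosed := huc, toLocallyOfFiniteType := ‹_› }

theorem isProper_restrict_of_isPullback {X Y Xi Yi : Scheme.{u}} (f : X ⟶ Y) (U : Y.Opens)
    {p : Xi ⟶ X} {fi : Xi ⟶ Yi} {j : Yi ⟶ Y} (G : IsPullback p fi f j) (k : (U : Scheme.{u}) ⟶ Yi)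
    (hk : k ≫ j = U.ι) [IsProper fi] : IsProper (f ∣_ U) := by
  have H := isPullback_morphismRestrict f U
  let l' : (f ⁻¹ᵁ U : Scheme.{u}) ⟶ Xi := G.lift (f ⁻¹ᵁ U).ι ((f ∣_ U) ≫ k)
    (by rw [Category.assoc, hk]; exact H.w.symm)
  have h1 : l' ≫ p = (f ⁻¹ᵁ U).ι := G.lift_fst _ _ _
  have h2 : l' ≫ fi = (f ∣_ U) ≫ k := G.lift_snd _ _ _
  have left : IsPullback l' (f ∣_ U) fi k := by
    refine IsPullback.of_right ?_ h2 G
    rw [h1, hk]
    exact H.flip
  exact MorphismProperty.of_isPullback (P := @IsProper) left inferInstance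

open CategoryTheory AlgebraicGeometry in
/-- Let S be a quasi-compact scheme whose affine opens have excellent coordinate rings, let X → S and Y
→ S be quasi-compact, quasi-separated and locally of finite presentation, let f : X → Y be a
morphism over S, let s be a closed point of S and R the completion of the local ring of S at s. If
the base change X ×_S Spec R → Y ×_S Spec R of f is proper, then s has an open neighbourhood W in S
such that X ×_S W → Y ×_S W is proper. (The published statement assumes X and Y only locally of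
finite presentation over S; for S the affine line over a field, s the origin, Y = S and X the
disjoint union of S with one reduced point over each closed point other than s, the base change to
Spec R is an isomorphism while X ×_S W → W is not quasi-compact for any open W ∋ s, so X and Y are
taken of finite presentation over S here, which is what the limit argument of the published proof
uses.) -/
theorem result
    (S : Scheme.{u}) [CompactSpace S] (hS : ∀ U : S.affineOpens, EGA4.IsExcellent Γ(S, U.1))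
    {X Y : Scheme.{u}} (f : X ⟶ Y) (g : Y ⟶ S)
    [QuasiCompact g] [QuasiSeparated g] [LocallyOfFinitePresentation g]
    [QuasiCompact (f ≫ g)] [QuasiSeparated (f ≫ g)] [LocallyOfFinitePresentation (f ≫ g)]
    (s : S) (hs : IsClosed ({s} : Set S))
    (hR : IsProper (Limits.pullback.snd f (Limits.pullback.fst g
      (Spec.map (CommRingCat.ofHom (algebraMap (S.presheaf.stalk s) (EGA4.Cpl (S.presheaf.stalk s)))) ≫
        S.fromSpecStalk s)))) :
    ∃ W : S.Opens, s ∈ W ∧ IsProper (f ∣_ (g ⁻¹ᵁ W)) := by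
  have hN : IsLocallyNoetherian S := ⟨fun U => (hS U).1⟩
  have hNO : IsNoetherianRing (S.presheaf.stalk s) := inferInstance
  have hflft : LocallyOfFiniteType f := locallyOfFiniteType_of_comp f g
  have hfqc : QuasiCompact f := QuasiCompact.of_comp f g
  have hfqs : QuasiSeparated f := QuasiSeparated.of_comp f g
  -- the completion map
  have hff : Module.FaithfullyFlat (S.presheaf.stalk s) (EGA4.Cpl (S.presheaf.stalk s)) :=
    Module.FaithfullyFlat.of_flat_of_isLocalHom
  let ĉ : Spec (CommRingCat.of (EGA4.Cpl (S.presheaf.stalk s))) ⟶ Spec (S.presheaf.stalk s) :=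
    Spec.map (CommRingCat.ofHom (algebraMap (S.presheaf.stalk s) (EGA4.Cpl (S.presheaf.stalk s))))
  let c₀ : Spec (S.presheaf.stalk s) ⟶ S := S.fromSpecStalk s
  have hĉflat : Flat ĉ := by
    refine (HasRingHomProperty.Spec_iff (P := @Flat)).mpr ?_
    exact (RingHom.flat_algebraMap_iff).mpr inferInstance
  have hĉsurj : Surjective ĉ := ⟨PrimeSpectrum.comap_surjective_of_faithfullyFlat⟩
  have hĉqc : QuasiCompact ĉ := inferInstance
  -- base change Y_Ô → Y_O
  let ρ₁ : pullback g (ĉ ≫ c₀) ⟶ pullback g c₀ := bcMap g c₀ (ĉ ≫ c₀) ĉ rfl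
  have hρ₁ : IsPullback ρ₁ (pullback.snd g (ĉ ≫ c₀)) (pullback.snd g c₀) ĉ :=
    isPullback_bcMap g c₀ (ĉ ≫ c₀) ĉ rfl
  have hρflat : Flat ρ₁ := MorphismProperty.of_isPullback (P := @Flat) hρ₁.flip hĉflat
  have hρsurj : Surjective ρ₁ := MorphismProperty.of_isPullback (P := @Surjective) hρ₁.flip hĉsurj
  have hρqc : QuasiCompact ρ₁ := MorphismProperty.of_isPullback (P := @QuasiCompact) hρ₁.flip hĉqc
  let τ : pullback f (pullback.fst g (ĉ ≫ c₀)) ⟶ pullback f (pullback.fst g c₀) :=
    bcMap f (pullback.fst g c₀) (pullback.fst g (ĉ ≫ c₀)) ρ₁ (bcMap_fst g c₀ (ĉ ≫ c₀) ĉ rfl)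
  have hτ : IsPullback τ (pullback.snd f (pullback.fst g (ĉ ≫ c₀)))
      (pullback.snd f (pullback.fst g c₀)) ρ₁ :=
    isPullback_bcMap f (pullback.fst g c₀) (pullback.fst g (ĉ ≫ c₀)) ρ₁ _
  have hfOlft : LocallyOfFiniteType (pullback.snd f (pullback.fst g c₀)) := inferInstance
  have hR' : IsProper (pullback.snd f (pullback.fst g (ĉ ≫ c₀))) := hR
  have hfO : IsProper (pullback.snd f (pullback.fst g c₀)) :=
    isProper_of_isPullback_fpqc (f' := pullback.snd f (pullback.fst g (ĉ ≫ c₀))) hτ.flip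
  -- the limit
  let i₀ : (StalkLim.AffNhd s)ᵒᵖ := op (Classical.arbitrary (StalkLim.AffNhd s))
  let u₀ : pullback g (StalkLim.toX s i₀) ⟶ Y := pullback.fst g (StalkLim.toX s i₀)
  have hcY₀ : CompactSpace ↥(pullback g (StalkLim.toX s i₀)) :=
    QuasiCompact.compactSpace_of_compactSpace (pullback.snd g (StalkLim.toX s i₀))
  have hqY₀ : QuasiSeparatedSpace ↥(pullback g (StalkLim.toX s i₀)) :=
    quasiSeparatedSpace_of_quasiSeparated (pullback.snd g (StalkLim.toX s i₀))
  have hcX₀ : CompactSpace ↥(pullback f u₀) :=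
    QuasiCompact.compactSpace_of_compactSpace (pullback.snd f u₀)
  have hqX₀ : QuasiSeparatedSpace ↥(pullback f u₀) :=
    quasiSeparatedSpace_of_quasiSeparated (pullback.snd f u₀)
  let qY : pullback g c₀ ⟶ pullback g (StalkLim.toX s i₀) :=
    bcMap g (StalkLim.toX s i₀) c₀ ((StalkLim.specCone s).π.app i₀) (StalkLim.π_toX s i₀)
  have hY : IsPullback qY (pullback.snd g c₀) (pullback.snd g (StalkLim.toX s i₀))
      ((StalkLim.specCone s).π.app i₀) :=
    isPullback_bcMap g (StalkLim.toX s i₀) c₀ ((StalkLim.specCone s).π.app i₀) (StalkLim.π_toX s i₀)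
  let qX : pullback f (pullback.fst g c₀) ⟶ pullback f u₀ :=
    bcMap f u₀ (pullback.fst g c₀) qY (bcMap_fst g (StalkLim.toX s i₀) c₀ _ (StalkLim.π_toX s i₀))
  have hX : IsPullback qX (pullback.snd f (pullback.fst g c₀)) (pullback.snd f u₀) qY :=
    isPullback_bcMap f u₀ (pullback.fst g c₀) qY _
  obtain ⟨i, φ, Xi, Yi, fi, gi, pY, pX, H1, H2, hfi⟩ :=
    Groth.Agent.S2074.result (StalkLim.specDiagram s) (StalkLim.specCone s) (StalkLim.specIsLimit s)
      i₀ (pullback.snd f u₀) (pullback.snd g (StalkLim.toX s i₀))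
      (pullback.snd f (pullback.fst g c₀)) (pullback.snd g c₀) qY qX hY hX
  let W : S.Opens := i.unop.U
  refine ⟨W, i.unop.mem, ?_⟩
  -- `fi` is a base change of `f`
  have G : IsPullback (pX ≫ pullback.fst f u₀) fi f (pY ≫ u₀) :=
    H2.paste_horiz (IsPullback.of_hasPullback f u₀)
  -- `Yi` is the base change of `Y`
  have GY : IsPullback (pY ≫ u₀) gi g (StalkLim.toX s i) := by
    have := H1.paste_horiz (IsPullback.of_hasPullback g (StalkLim.toX s i₀))
    rw [StalkLim.map_toX] at this
    exact this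
  let κ : (g ⁻¹ᵁ W : Scheme.{u}) ⟶ (StalkLim.specDiagram s).obj i :=
    (g ∣_ W) ≫ i.unop.isAffine.isoSpec.hom
  have hκ : κ ≫ StalkLim.toX s i = (g ⁻¹ᵁ W).ι ≫ g := by
    change ((g ∣_ W) ≫ i.unop.isAffine.isoSpec.hom) ≫ i.unop.isAffine.fromSpec = _
    rw [Category.assoc, IsAffineOpen.isoSpec_hom_fromSpec, morphismRestrict_ι]
  let k : (g ⁻¹ᵁ W : Scheme.{u}) ⟶ Yi := GY.lift (g ⁻¹ᵁ W).ι κ hκ.symm
  have hk : k ≫ (pY ≫ u₀) = (g ⁻¹ᵁ W).ι := GY.lift_fst _ _ _
  exact isProper_restrict_of_isPullback f (g ⁻¹ᵁ W) G k hk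

end Groth.Agent.S18874
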