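import Groth.Statements.S18876
import Mathlib
import Groth.Agent.Lib.Helper15GerbCoarse

set_option autoImplicit false
universe u
open Gerb

namespace Groth.Agent.S18876

open CategoryTheory AlgebraicGeometry in
/-- Let S be a scheme and F : 𝒳 → 𝒴 a morphism of algebraic stacks over S which makes 𝒳 an fppf gerbe
over 𝒴 and through which every morphism from 𝒳 to an algebraic space factors, uniquely up to
2-isomorphism. Then 𝒴 admits a coarse moduli space exactly when 𝒳 does, and the two coarse moduli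
spaces coincide: for every coarse moduli map π : 𝒴 → M the composite 𝒳 → 𝒴 → M is a coarse moduli
map of 𝒳. (The published statement is about the rigidification F of 𝒳 along a flat finitely
presented subgroup stack of its inertia; only two of its properties are assumed here, that F is a
gerbe and that maps to algebraic spaces factor through F, which is what the published argument uses;
neither stack is assumed quasi-separated or locally of finite presentation over S, and their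
diagonals are not assumed quasi-compact or separated.) -/
theorem result (S : Scheme.{u}) (𝒳 𝒴 : AlgSt.Cat S)
    (h𝒳 : AlgSt.IsAlgStack Scheme.fppfPrecoverage 𝒳) (h𝒴 : AlgSt.IsAlgStack Scheme.fppfPrecoverage 𝒴)
    (F : 𝒳 ⥤ᵇ 𝒴) (hF : Gerb.IsGerbeOver (QuotSh.J Scheme.fppfPrecoverage S) F)
    (huniv : ∀ (N : AlgSp.Sp S), AlgSp.IsAlgSpace N → ∀ φ : 𝒳 ⥤ᵇ AlgSt.ofSp N,
      ∃ ψ : 𝒴 ⥤ᵇ AlgSt.ofSp N, Nonempty (BasedFunctor.comp F ψ ≅ φ) ∧
        ∀ ψ' : 𝒴 ⥤ᵇ AlgSt.ofSp N, Nonempty (BasedFunctor.comp F ψ' ≅ φ) → Nonempty (ψ' ≅ ψ)) :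
    ((∃ (M : AlgSp.Sp S) (π : 𝒴 ⥤ᵇ AlgSt.ofSp M), AlgSt.IsCoarseModuli π) ↔
        ∃ (M : AlgSp.Sp S) (π : 𝒳 ⥤ᵇ AlgSt.ofSp M), AlgSt.IsCoarseModuli π) ∧
      ∀ (M : AlgSp.Sp S) (π : 𝒴 ⥤ᵇ AlgSt.ofSp M), AlgSt.IsCoarseModuli π →
        AlgSt.IsCoarseModuli (BasedFunctor.comp F π) := by
  refine ⟨⟨?_, ?_⟩, ?_⟩
  · rintro ⟨M, π, hπ⟩
    exact ⟨M, BasedFunctor.comp F π,
      Groth.Agent.Lib.Helper15GerbCoarse.isCoarseModuli_comp h𝒳.isStack.1 h𝒴.isStack.1 F hF huniv π hπ⟩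
  · rintro ⟨M, π', hπ'⟩
    obtain ⟨ψ, ⟨i⟩, -⟩ := huniv M hπ'.1.1 π'
    exact ⟨M, ψ, Groth.Agent.Lib.Helper15GerbCoarse.isCoarseModuli_of_comp h𝒳.isStack.1 h𝒴.isStack.1 F hF
      huniv π' hπ' ψ (Groth.Agent.Lib.Helper15Quot.eq_of_iso_ofPsh i)⟩
  · intro M π hπ
    exact Groth.Agent.Lib.Helper15GerbCoarse.isCoarseModuli_comp h𝒳.isStack.1 h𝒴.isStack.1 F hF huniv π hπ


end Groth.Agent.S18876
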