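import Groth.Statements.S18877
import Groth.Agent.Lib.Helper22LimConn

set_option autoImplicit false
universe u
open Lim

namespace Groth.Agent.S18877

open CategoryTheory AlgebraicGeometry in
/-- Let S = lim S_i be a cofiltered limit of Noetherian schemes with affine transition morphisms, let X₀
→ S_{i₀} be a scheme of finite type over one stage and X → S its base change to the limit. If all
geometric fibres of X → S are connected, then for some stage S_i → S_{i₀} all geometric fibres of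
the base change X₀ ×_{S_{i₀}} S_i → S_i are connected. (Connected is read so as to allow the empty
fibre: the underlying space of each geometric fibre is preconnected; the geometric fibre of X₀
×_{S_{i₀}} S_i over Spec Ω → S_i is written as the pullback of X₀ → S_{i₀} along Spec Ω → S_i →
S_{i₀}.) -/
theorem result {I : Type u} [SmallCategory I] [IsCofiltered I]
    (D : I ⥤ Scheme.{u}) (c : Limits.Cone D) (hc : Limits.IsLimit c)
    [∀ (i j : I) (a : i ⟶ j), IsAffineHom (D.map a)] [∀ i : I, AlgebraicGeometry.IsNoetherian (D.obj i)]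
    (i₀ : I) {X₀ : Scheme.{u}} (f₀ : X₀ ⟶ D.obj i₀) [QuasiCompact f₀] [LocallyOfFiniteType f₀]
    {X : Scheme.{u}} (f : X ⟶ c.pt) (q : X ⟶ X₀) (hX : IsPullback q f f₀ (c.π.app i₀))
    (hconn : ∀ (Ω : Type u) [Field Ω] [IsAlgClosed Ω] (t : Spec (CommRingCat.of Ω) ⟶ c.pt),
      PreconnectedSpace ↥(Limits.pullback f t)) :
    ∃ (i : I) (a : i ⟶ i₀), ∀ (Ω : Type u) [Field Ω] [IsAlgClosed Ω] (t : Spec (CommRingCat.of Ω) ⟶ D.obj i),
      PreconnectedSpace ↥(Limits.pullback f₀ (t ≫ D.map a)) := by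
  have hcs : ∀ i, CompactSpace ↥(D.obj i) := fun i => inferInstance
  have hqs : ∀ i, QuasiSeparatedSpace ↥(D.obj i) := fun i => inferInstance
  have : LocallyOfFinitePresentation f₀ := inferInstance
  have : IsLocallyNoetherian X₀ := LocallyOfFiniteType.isLocallyNoetherian f₀
  have : QuasiSeparatedSpace ↥X₀ := inferInstance
  have : QuasiSeparated f₀ := inferInstance
  have h0 : Topology.IsConstructible {s : ↥(D.obj i₀) | MoreMor.nGeomConnComp f₀ s = 0} :=
    (Groth.Agent.Lib.Helper22.GI.isLocallyConstructible_nGeomConnComp_eq f₀ 0).isConstructible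
  have h1 : Topology.IsConstructible {s : ↥(D.obj i₀) | MoreMor.nGeomConnComp f₀ s = 1} :=
    (Groth.Agent.Lib.Helper22.GI.isLocallyConstructible_nGeomConnComp_eq f₀ 1).isConstructible
  have hEeq : {s : ↥(D.obj i₀) | ¬ MoreMor.nGeomConnComp f₀ s ≤ 1} =
      ({s : ↥(D.obj i₀) | MoreMor.nGeomConnComp f₀ s = 0} ∪
        {s : ↥(D.obj i₀) | MoreMor.nGeomConnComp f₀ s = 1})ᶜ := by
    ext s
    simp only [Set.mem_ofPred_eq, Set.mem_compl_iff, Set.mem_union, not_iff_not]
    exact Order.le_one_iff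
  have hE : Topology.IsConstructible {s : ↥(D.obj i₀) | ¬ MoreMor.nGeomConnComp f₀ s ≤ 1} := by
    rw [hEeq]
    exact (h0.union h1).compl
  have hpre : (c.π.app i₀).base ⁻¹' {s : ↥(D.obj i₀) | ¬ MoreMor.nGeomConnComp f₀ s ≤ 1} = ∅ := by
    rw [Set.eq_empty_iff_forall_notMem]
    intro s' hs'
    apply hs'
    show MoreMor.nGeomConnComp f₀ ((c.π.app i₀).base s') ≤ 1
    have hbc := Groth.Agent.Lib.Helper2.GeomFibBC.nGeomConnComp_eq f₀ f q (c.π.app i₀) hX s'
    rw [← hbc]
    exact Groth.Agent.Lib.Helper22.LimConn.nGeomConnComp_le_one_of_preconnected f s'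
      (AlgebraicClosure (SeparableClosure (c.pt.residueField s'))) (algebraMap _ _) (hconn _ _)
  obtain ⟨k, a, hk⟩ := Groth.Agent.Lib.Helper3.LimConstr.exists_preimage_eq_empty D c hc i₀ _ hE hpre
  refine ⟨k, a, fun Ω _ _ t => ?_⟩
  let pt : ↥(Spec (CommRingCat.of Ω)) := (⟨⊥, Ideal.isPrime_bot⟩ : PrimeSpectrum Ω)
  apply Groth.Agent.Lib.Helper22.LimConn.preconnectedSpace_pullback_of_le_one f₀ Ω (t ≫ D.map a) pt
  by_contra hcon
  have hmem : t.base pt ∈ (D.map a).base ⁻¹' {s : ↥(D.obj i₀) | ¬ MoreMor.nGeomConnComp f₀ s ≤ 1} := hcon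
  rw [hk] at hmem
  exact hmem

end Groth.Agent.S18877
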