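import Groth.Statements.S18879
import Mathlib
import Groth.Agent.Lib.Helper4DimFormulaI
-- import your own Groth.Agent.* helpers here

set_option autoImplicit false
set_option linter.style.haveILetI false
set_option linter.unusedSectionVars false
universe u
open CategoryTheory AlgebraicGeometry
open Resolve

namespace Groth.Agent.S18879

open Groth.Agent.Lib.Helper4.DimFormula


/-- Let f : Y ⟶ X be a morphism locally of finite type between Noetherian separated schemes which is
birational: it maps the maximal points of Y bijectively onto the maximal points of X, and over every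
maximal point of X its fibre is one point with the same residue field. Then for every point y of Y,
the Krull dimension of the local ring of Y at y is at most the Krull dimension of the local ring of
X at f y (the codimension of a point does not increase along f). -/
theorem result {X Y : Scheme.{u}} (f : Y ⟶ X)
    [IsNoetherian X] [X.IsSeparated] [IsNoetherian Y] [Y.IsSeparated] [LocallyOfFiniteType f]
    (hf : RadPt.IsBirational f) (y : Y) :
    ringKrullDim (Y.presheaf.stalk y) ≤ ringKrullDim (X.presheaf.stalk (f.base y)) := by
  obtain ⟨n, hn⟩ := exists_trdeg_residueFieldMap_eq_nat f y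
  have h1 := ringKrullDim_stalk_add_le f y n 0 hn (fun ξ hξ _ => by
    have hξ' : ξ ∈ genericPoints Y := hξ
    have hfξ : f ξ ∈ genericPoints X := hf.1.mapsTo hξ'
    have hbij := (hf.2 (f ξ) hfξ).2 ξ rfl
    letI := (f.residueFieldMap ξ).hom.toAlgebra
    haveI : Algebra.IsAlgebraic (X.residueField (f.base ξ)) (Y.residueField ξ) := by
      constructor
      intro z
      obtain ⟨w, rfl⟩ := hbij.2 z
      exact isAlgebraic_algebraMap w
    rw [trdeg_eq_zero]
    simp)
  have h0 : (0 : WithBot ℕ∞) ≤ (n : WithBot ℕ∞) := by exact_mod_cast Nat.zero_le n
  calc ringKrullDim (Y.presheaf.stalk y)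
      ≤ ringKrullDim (Y.presheaf.stalk y) + n := le_add_of_nonneg_right h0
    _ ≤ ringKrullDim (X.presheaf.stalk (f.base y)) + (0 : ℕ) := h1
    _ = ringKrullDim (X.presheaf.stalk (f.base y)) := by simp

end Groth.Agent.S18879
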