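import Groth.Statements.S1888
import Mathlib

set_option autoImplicit false
universe u
open CategoryTheory CategoryTheory.Limits AlgebraicGeometry
open Grpd

namespace Groth.Agent.S1888

open CategoryTheory CategoryTheory.Limits AlgebraicGeometry in
/-- On the spectrum of a field, the canonical map from the spectrum of a residue field is an iso. -/
lemma isIso_fromSpecResidueField_Spec (k : Type u) [Field k] (x : Spec (CommRingCat.of k)) :
    IsIso ((Spec (CommRingCat.of k)).fromSpecResidueField x) := by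
  rw [← Scheme.Spec.map_residueFieldIso_inv_eq_fromSpecResidueField]
  have : x.asIdeal.IsMaximal := IsArtinianRing.isMaximal_of_isPrime x.asIdeal
  have hb : Function.Bijective (algebraMap k x.asIdeal.ResidueField) :=
    ⟨(algebraMap k x.asIdeal.ResidueField).injective,
      Ideal.algebraMap_residueField_surjective x.asIdeal⟩
  have : IsIso (CommRingCat.ofHom (algebraMap (CommRingCat.of k) x.asIdeal.ResidueField)) := by
    rw [ConcreteCategory.isIso_iff_bijective]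
    exact hb
  infer_instance

open CategoryTheory CategoryTheory.Limits AlgebraicGeometry in
lemma isIso_fromSpecResidueField {U : Scheme.{u}} (k : Type u) [Field k]
    (eU : U ≅ Spec (CommRingCat.of k)) (x : U) : IsIso (U.fromSpecResidueField x) := by
  have h := Scheme.Hom.SpecMap_residueFieldMap_fromSpecResidueField eU.hom x
  have := isIso_fromSpecResidueField_Spec k (eU.hom x)
  have h2 : IsIso (U.fromSpecResidueField x ≫ eU.hom) := by
    rw [← h]
    infer_instance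
  exact IsIso.of_isIso_comp_right _ eU.hom

open CategoryTheory CategoryTheory.Limits AlgebraicGeometry in
/-- composition of T-points in the groupoid -/
noncomputable def comp {S : Scheme.{u}} (G : Grpd.GroupoidScheme S) {T : Scheme.{u}}
    (α β : T ⟶ G.R) (h : α ≫ G.s = β ≫ G.t) : T ⟶ G.R := pullback.lift α β h ≫ G.c

open CategoryTheory CategoryTheory.Limits AlgebraicGeometry in
lemma comp_congr {S : Scheme.{u}} (G : Grpd.GroupoidScheme S) {T : Scheme.{u}}
    {α α' β β' : T ⟶ G.R} (h : α ≫ G.s = β ≫ G.t) (hα : α = α') (hβ : β = β') :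
    comp G α β h = comp G α' β' (by rw [← hα, ← hβ]; exact h) := by
  subst hα hβ
  rfl

open CategoryTheory CategoryTheory.Limits AlgebraicGeometry in
lemma precomp_comp {S : Scheme.{u}} (G : Grpd.GroupoidScheme S) {T T' : Scheme.{u}}
    (f : T' ⟶ T) (α β : T ⟶ G.R) (h : α ≫ G.s = β ≫ G.t) :
    f ≫ comp G α β h = comp G (f ≫ α) (f ≫ β)
      (by rw [Category.assoc, Category.assoc, h]) := by
  unfold comp
  rw [← Category.assoc]
  congr 1
  apply pullback.hom_ext <;> simp only [Category.assoc, pullback.lift_fst, pullback.lift_snd]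

/-- Let (U, R, s, t, c) be a groupoid scheme over S with U the spectrum of a field k, and r a point of R
such that both s and t induce isomorphisms from k to κ(r). Then there is an automorphism of the
scheme R carrying the identity point e to r. (The source's automorphism is x ↦ c(r, x); only the
existence of an automorphism moving e to r is stated here.) (A groupoid scheme carries U, R, s, t,
c, e, i over S with the groupoid axioms on T-points; 'finite locally free' is finite, flat and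
locally of finite presentation; C ⊂ Γ(U) is the ring of functions a with s♯(a) = t♯(a) and M = Spec
C.) -/
theorem result (S : Scheme.{u}) (G : Grpd.GroupoidScheme S) (k : Type u) [Field k] (eU : G.U ≅ Spec (CommRingCat.of k)) (r : G.R) (hs : IsIso (G.s.residueFieldMap r)) (ht : IsIso (G.t.residueFieldMap r)) : ∃ φ : G.R ≅ G.R, φ.hom (G.e (eU.inv (IsLocalRing.closedPoint k))) = r := by
  classical
  -- the point r as a morphism
  let ρT : Spec (G.R.residueField r) ⟶ G.R := G.R.fromSpecResidueField r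
  have ha : IsIso (ρT ≫ G.s) := by
    have h := Scheme.Hom.SpecMap_residueFieldMap_fromSpecResidueField G.s r
    have := isIso_fromSpecResidueField k eU (G.s r)
    show IsIso (G.R.fromSpecResidueField r ≫ G.s)
    rw [← h]
    infer_instance
  have hb : IsIso (ρT ≫ G.t) := by
    have h := Scheme.Hom.SpecMap_residueFieldMap_fromSpecResidueField G.t r
    have := isIso_fromSpecResidueField k eU (G.t r)
    show IsIso (G.R.fromSpecResidueField r ≫ G.t)
    rw [← h]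
    infer_instance
  let ρ : G.U ⟶ G.R := inv (ρT ≫ G.s) ≫ ρT
  have hρs : ρ ≫ G.s = 𝟙 G.U := by
    show (inv (ρT ≫ G.s) ≫ ρT) ≫ G.s = 𝟙 _
    rw [Category.assoc, IsIso.inv_hom_id]
  let σ : G.U ⟶ G.U := ρ ≫ G.t
  have hσ : IsIso σ := by
    show IsIso ((inv (ρT ≫ G.s) ≫ ρT) ≫ G.t)
    rw [Category.assoc]
    infer_instance
  -- the two maps
  have h1 : (G.t ≫ ρ) ≫ G.s = 𝟙 G.R ≫ G.t := by
    rw [Category.assoc, hρs, Category.comp_id, Category.id_comp]
  let φ : G.R ⟶ G.R := comp G (G.t ≫ ρ) (𝟙 G.R) h1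
  have h2 : (G.t ≫ inv σ ≫ ρ ≫ G.i) ≫ G.s = 𝟙 G.R ≫ G.t := by
    simp only [Category.assoc, G.i_s, Category.id_comp]
    show G.t ≫ inv σ ≫ σ = G.t
    rw [IsIso.inv_hom_id, Category.comp_id]
  let ψ : G.R ⟶ G.R := comp G (G.t ≫ inv σ ≫ ρ ≫ G.i) (𝟙 G.R) h2
  have hφt : φ ≫ G.t = G.t ≫ σ := by
    show (pullback.lift (G.t ≫ ρ) (𝟙 G.R) h1 ≫ G.c) ≫ G.t = _
    rw [G.comp_t, Category.assoc]
  have hψt : ψ ≫ G.t = G.t ≫ inv σ := by
    show (pullback.lift (G.t ≫ inv σ ≫ ρ ≫ G.i) (𝟙 G.R) h2 ≫ G.c) ≫ G.t = _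
    rw [G.comp_t]
    simp only [Category.assoc, G.i_t, hρs, Category.comp_id]
  -- φ ≫ ψ = 𝟙
  have hφψ : φ ≫ ψ = 𝟙 G.R := by
    have e1 := precomp_comp G φ _ _ h2
    have e2 : φ ≫ G.t ≫ inv σ ≫ ρ ≫ G.i = (G.t ≫ ρ) ≫ G.i := by
      rw [← Category.assoc, hφt]
      simp only [Category.assoc, IsIso.hom_inv_id_assoc]
    have e3 : φ ≫ 𝟙 G.R = comp G (G.t ≫ ρ) (𝟙 G.R) h1 := Category.comp_id _
    rw [e1, comp_congr G _ e2 e3]
    -- assoc
    have hassoc := G.assoc ((G.t ≫ ρ) ≫ G.i) (G.t ≫ ρ) (𝟙 G.R)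
      (by rw [Category.assoc, G.i_s]) h1
    show pullback.lift ((G.t ≫ ρ) ≫ G.i) (pullback.lift (G.t ≫ ρ) (𝟙 G.R) h1 ≫ G.c) _ ≫ G.c = _
    rw [← hassoc]
    have e4 := G.i_comp (G.t ≫ ρ)
    have e5 : (G.t ≫ ρ) ≫ G.s ≫ G.e = 𝟙 G.R ≫ G.t ≫ G.e := by
      rw [Category.assoc, reassoc_of% hρs, Category.id_comp]
    have e6 := G.e_comp (𝟙 G.R)
    calc pullback.lift (pullback.lift ((G.t ≫ ρ) ≫ G.i) (G.t ≫ ρ) _ ≫ G.c) (𝟙 G.R) _ ≫ G.c
        = comp G (comp G ((G.t ≫ ρ) ≫ G.i) (G.t ≫ ρ) (by rw [Category.assoc, G.i_s])) (𝟙 G.R)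
            (by
              show (pullback.lift ((G.t ≫ ρ) ≫ G.i) (G.t ≫ ρ) _ ≫ G.c) ≫ G.s = _
              rw [G.comp_s]; exact h1) := rfl
      _ = comp G (𝟙 G.R ≫ G.t ≫ G.e) (𝟙 G.R) (by
              rw [Category.assoc, Category.assoc, G.e_s, Category.comp_id]) :=
          comp_congr G _ (e4.trans e5) rfl
      _ = 𝟙 G.R := e6
  -- ψ ≫ φ = 𝟙
  have hψφ : ψ ≫ φ = 𝟙 G.R := by
    have e1 := precomp_comp G ψ _ _ h1
    have e2 : ψ ≫ G.t ≫ ρ = G.t ≫ inv σ ≫ ρ := by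
      rw [← Category.assoc, hψt, Category.assoc]
    have e3 : ψ ≫ 𝟙 G.R = comp G ((G.t ≫ inv σ ≫ ρ) ≫ G.i) (𝟙 G.R)
        (by simpa only [Category.assoc] using h2) := by
      rw [Category.comp_id]
      exact comp_congr G h2 (by simp only [Category.assoc]) rfl
    rw [e1, comp_congr G _ e2 e3]
    have hβs : (G.t ≫ inv σ ≫ ρ) ≫ G.s = ((G.t ≫ inv σ ≫ ρ) ≫ G.i) ≫ G.t := by
      rw [Category.assoc _ G.i, G.i_t]
    have hassoc := G.assoc (G.t ≫ inv σ ≫ ρ) ((G.t ≫ inv σ ≫ ρ) ≫ G.i) (𝟙 G.R) hβs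
      (by simpa only [Category.assoc] using h2)
    show pullback.lift (G.t ≫ inv σ ≫ ρ)
      (pullback.lift ((G.t ≫ inv σ ≫ ρ) ≫ G.i) (𝟙 G.R) _ ≫ G.c) _ ≫ G.c = _
    rw [← hassoc]
    have e4 := G.comp_i (G.t ≫ inv σ ≫ ρ)
    have e5 : (G.t ≫ inv σ ≫ ρ) ≫ G.t ≫ G.e = 𝟙 G.R ≫ G.t ≫ G.e := by
      simp only [Category.assoc, Category.id_comp]
      show G.t ≫ inv σ ≫ σ ≫ G.e = G.t ≫ G.e
      rw [IsIso.inv_hom_id_assoc]
    have e6 := G.e_comp (𝟙 G.R)
    calc pullback.lift (pullback.lift (G.t ≫ inv σ ≫ ρ) ((G.t ≫ inv σ ≫ ρ) ≫ G.i) _ ≫ G.c)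
          (𝟙 G.R) _ ≫ G.c
        = comp G (comp G (G.t ≫ inv σ ≫ ρ) ((G.t ≫ inv σ ≫ ρ) ≫ G.i) hβs) (𝟙 G.R)
            (by
              show (pullback.lift (G.t ≫ inv σ ≫ ρ) ((G.t ≫ inv σ ≫ ρ) ≫ G.i) _ ≫ G.c) ≫ G.s = _
              rw [G.comp_s]; simpa only [Category.assoc] using h2) := rfl
      _ = comp G (𝟙 G.R ≫ G.t ≫ G.e) (𝟙 G.R) (by
              rw [Category.assoc, Category.assoc, G.e_s, Category.comp_id]) :=
          comp_congr G _ (e4.trans e5) rfl
      _ = 𝟙 G.R := e6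
  refine ⟨⟨φ, ψ, hφψ, hψφ⟩, ?_⟩
  -- e ≫ φ = ρ
  have heφ : G.e ≫ φ = ρ := by
    have e1 := precomp_comp G G.e _ _ h1
    have e2 : G.e ≫ G.t ≫ ρ = ρ := by rw [reassoc_of% G.e_t]
    have e3 : G.e ≫ 𝟙 G.R = ρ ≫ G.s ≫ G.e := by
      rw [Category.comp_id, reassoc_of% hρs]
    rw [e1, comp_congr G _ e2 e3]
    exact G.comp_e ρ
  show φ (G.e (eU.inv (IsLocalRing.closedPoint k))) = r
  have : φ (G.e (eU.inv (IsLocalRing.closedPoint k))) =
      (G.e ≫ φ) (eU.inv (IsLocalRing.closedPoint k)) := rfl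
  rw [this, heφ]
  show ρT (inv (ρT ≫ G.s) (eU.inv (IsLocalRing.closedPoint k))) = r
  exact Scheme.fromSpecResidueField_apply _ _

end Groth.Agent.S1888
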