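import Groth.Statements.S18887
-- import your own Groth.Agent.* helpers here
import Mathlib.LinearAlgebra.Matrix.ToLin
import Mathlib.LinearAlgebra.Dimension.Free
import Mathlib.LinearAlgebra.Matrix.Trace
import Mathlib.Tactic.Ring
import Mathlib.Tactic.LinearCombination
import Mathlib.Tactic.FinCases

set_option autoImplicit false
universe u v
open DblCov

namespace Groth.Agent.S18887

/-- polarized Cayley–Hamilton for `2 × 2` matrices -/
theorem polar_ch {A : Type u} [CommRing A] (X Y : Matrix (Fin 2) (Fin 2) A) :
    X * Y + Y * X - Matrix.trace X • Y - Matrix.trace Y • X +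
      (Matrix.trace X * Matrix.trace Y - Matrix.trace (X * Y)) • (1 : Matrix (Fin 2) (Fin 2) A) = 0 := by
  ext i j
  fin_cases i <;> fin_cases j <;>
    simp [Matrix.mul_apply, Fin.sum_univ_two, Matrix.trace_fin_two, Matrix.one_apply] <;> ring

theorem key {A : Type u} [CommRing A] (X Y : Matrix (Fin 2) (Fin 2) A) (hXY : X * Y = Y * X) :
    Matrix.trace (X * Y) • (1 : Matrix (Fin 2) (Fin 2) A) - X * Y =
      (Matrix.trace X • (1 : Matrix (Fin 2) (Fin 2) A) - X) * (Matrix.trace Y • 1 - Y) := by
  have h := polar_ch X Y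
  rw [← hXY] at h
  have e : (Matrix.trace X • (1 : Matrix (Fin 2) (Fin 2) A) - X) * (Matrix.trace Y • 1 - Y) =
      (Matrix.trace X * Matrix.trace Y) • (1 : Matrix (Fin 2) (Fin 2) A) - Matrix.trace X • Y
        - Matrix.trace Y • X + X * Y := by
    simp only [sub_mul, mul_sub, Matrix.smul_mul, Matrix.mul_smul, Matrix.one_mul, Matrix.mul_one,
      smul_smul]
    rw [mul_comm (Matrix.trace Y) (Matrix.trace X)]
    abel
  rw [e]
  rw [sub_smul] at h
  have h' := h
  -- rearrange
  have : Matrix.trace (X * Y) • (1 : Matrix (Fin 2) (Fin 2) A) - X * Y -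
      ((Matrix.trace X * Matrix.trace Y) • (1 : Matrix (Fin 2) (Fin 2) A) - Matrix.trace X • Y
        - Matrix.trace Y • X + X * Y) = 0 := by
    rw [← neg_eq_zero, ← h']
    abel
  exact sub_eq_zero.mp this

/-- Let A be a commutative ring in which 2 is invertible and B a commutative A-algebra which is free of
rank 2 as an A-module and whose trace form tr : B → A has kernel free of rank 1 over A. Then σ(b) =
tr(b) − b defines an A-algebra endomorphism σ of B with σ ≠ id and σ ∘ σ = id, and the elements
fixed by σ are exactly the image of A in B. -/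
theorem result {A : Type u} {B : Type v} [CommRing A] [CommRing B]
    [Algebra A B] (h2 : IsUnit (2 : A)) [Module.Free A B] [Module.Finite A B]
    (hrk : Module.finrank A B = 2)
    [Module.Free A (LinearMap.ker (Algebra.trace A B))]
    (hker : Module.finrank A (LinearMap.ker (Algebra.trace A B)) = 1) :
    ∃ σ : B →ₐ[A] B, (∀ b : B, σ b = algebraMap A B (Algebra.trace A B b) - b) ∧
      σ ≠ AlgHom.id A B ∧ σ.comp σ = AlgHom.id A B ∧
      ∀ b : B, σ b = b ↔ b ∈ Set.range (algebraMap A B) := by
  have hnt : Nontrivial A := by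
    by_contra hn
    rw [not_nontrivial_iff_subsingleton] at hn
    have := Module.finrank_subsingleton (R := A) (M := B)
    omega
  let bs : Module.Basis (Fin 2) A B := Module.finBasisOfFinrankEq A B hrk
  let L := Algebra.leftMulMatrix bs
  have hLinj : Function.Injective L := Algebra.leftMulMatrix_injective bs
  have htr : ∀ x : B, Algebra.trace A B x = Matrix.trace (L x) := fun x =>
    Algebra.trace_eq_matrix_trace bs x
  have htrA : ∀ a : A, Algebra.trace A B (algebraMap A B a) = 2 * a := by
    intro a
    rw [Algebra.trace_algebraMap, hrk]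
    simp [two_mul]
  -- σ as a linear map
  let σl : B →ₗ[A] B := (Algebra.linearMap A B) ∘ₗ (Algebra.trace A B) - LinearMap.id
  have hσl : ∀ b, σl b = algebraMap A B (Algebra.trace A B b) - b := fun b => rfl
  have hLσ : ∀ b, L (σl b) = Matrix.trace (L b) • (1 : Matrix (Fin 2) (Fin 2) A) - L b := by
    intro b
    rw [hσl, map_sub, AlgHom.commutes, htr, Algebra.algebraMap_eq_smul_one]
  have hone : σl 1 = 1 := by
    rw [hσl, ← map_one (algebraMap A B), htrA, ← map_sub]
    congr 1
    ring
  have hmul : ∀ x y, σl (x * y) = σl x * σl y := by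
    intro x y
    apply hLinj
    rw [hLσ (x * y), map_mul L (σl x) (σl y), hLσ x, hLσ y, map_mul L x y]
    exact key (L x) (L y) (by rw [← map_mul, ← map_mul, mul_comm])
  let σ : B →ₐ[A] B := AlgHom.ofLinearMap σl hone hmul
  have hσ : ∀ b, σ b = algebraMap A B (Algebra.trace A B b) - b := fun b => rfl
  obtain ⟨u, hu⟩ := h2
  have hfix : ∀ b : B, σ b = b ↔ b ∈ Set.range (algebraMap A B) := by
    intro b
    constructor
    · intro h
      rw [hσ] at h
      refine ⟨(↑u⁻¹ : A) * Algebra.trace A B b, ?_⟩
      have h3 : algebraMap A B (Algebra.trace A B b) = algebraMap A B 2 * b := by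
        rw [map_ofNat, two_mul]
        linear_combination h
      rw [map_mul, h3, ← mul_assoc, ← map_mul, ← hu, Units.inv_mul, map_one, one_mul]
    · rintro ⟨a, rfl⟩
      rw [hσ, htrA, ← map_sub]
      congr 1
      ring
  refine ⟨σ, hσ, ?_, ?_, hfix⟩
  · intro hid
    -- then everything is in the range of `algebraMap`
    have hall : ∀ w : B, ∃ c : A, c • (1 : B) = w := by
      intro w
      have : σ w = w := by rw [hid]; rfl
      obtain ⟨a, ha⟩ := (hfix w).mp this
      exact ⟨a, by rw [← ha, Algebra.algebraMap_eq_smul_one]⟩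
    have := finrank_le_one (1 : B) hall
    omega
  · ext b
    simp only [AlgHom.comp_apply, AlgHom.id_apply]
    rw [hσ, hσ, map_sub, map_sub, htrA]
    rw [map_mul, map_ofNat]
    ring

end Groth.Agent.S18887
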