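import Groth.Statements.S18888
-- import your own Groth.Agent.* helpers here
import Mathlib

set_option autoImplicit false
universe u v w
open CAlg

namespace Groth.Agent.S18888

section Helpers
open Polynomial

/-- In a UFD, if `b² d ∈ A` for `b ∈ K` and `d` squarefree then `b ∈ A`. -/
theorem mem_of_sq_mul_squarefree {A : Type u} {K : Type v}
    [CommRing A] [IsDomain A] [UniqueFactorizationMonoid A] [Field K] [Algebra A K]
    [IsFractionRing A K] (d : A) (hd : Squarefree d) (b : K) (e : A)
    (h : b * b * algebraMap A K d = algebraMap A K e) : ∃ b₀ : A, algebraMap A K b₀ = b := by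
  obtain ⟨p, q, hpq, rfl⟩ := IsFractionRing.exists_reduced_fraction (A := A) (K := K) b
  have hq0 : algebraMap A K (q : A) ≠ 0 :=
    IsFractionRing.to_map_ne_zero_of_mem_nonZeroDivisors q.2
  have hinj : Function.Injective (algebraMap A K) := IsFractionRing.injective A K
  -- p² d = e q²
  have h1 : p * p * d = e * (q * q) := by
    apply hinj
    have hmk : IsLocalization.mk' K p q * algebraMap A K (q : A) = algebraMap A K p :=
      IsLocalization.mk'_spec K p q
    simp only [map_mul]
    calc algebraMap A K p * algebraMap A K p * algebraMap A K d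
        = (IsLocalization.mk' K p q * algebraMap A K (q : A)) *
            (IsLocalization.mk' K p q * algebraMap A K (q : A)) * algebraMap A K d := by rw [hmk]
      _ = (IsLocalization.mk' K p q * IsLocalization.mk' K p q * algebraMap A K d) *
            (algebraMap A K (q : A) * algebraMap A K (q : A)) := by ring
      _ = algebraMap A K e * (algebraMap A K (q : A) * algebraMap A K (q : A)) := by rw [h]
  -- q*q ∣ d
  have hrel : IsRelPrime ((q : A) * q) (p * p) := by
    have h1 : IsRelPrime (q : A) p := hpq.symm
    exact (IsRelPrime.mul_left h1 h1).mul_right ((IsRelPrime.mul_left h1 h1))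
  have hdvd : (q : A) * q ∣ d := by
    apply hrel.dvd_of_dvd_mul_left
    rw [h1]
    exact dvd_mul_left _ _
  have hunit : IsUnit (q : A) := hd q hdvd
  obtain ⟨u, hu⟩ := hunit
  refine ⟨p * ↑u⁻¹, ?_⟩
  rw [IsLocalization.eq_mk'_iff_mul_eq, ← map_mul, mul_assoc, ← hu, Units.inv_mul, mul_one]

theorem aux {A : Type u} {K : Type v} {L : Type w}
    [CommRing A] [IsDomain A] [UniqueFactorizationMonoid A] [Field K] [Algebra A K] [IsFractionRing A K]
    [Field L] [Algebra K L] [Algebra A L] [IsScalarTower A K L]
    (h2 : IsUnit (2 : A)) (hL : Module.finrank K L = 2)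
    (d : A) (hd : Squarefree d) (y : L) (hy : y * y = algebraMap A L d)
    (hyK : y ∉ Set.range (algebraMap K L)) :
    integralClosure A L = Algebra.adjoin A {y} := by
  have hinjKL : Function.Injective (algebraMap K L) := (algebraMap K L).injective
  have hfd : FiniteDimensional K L := Module.finite_of_finrank_pos (by rw [hL]; norm_num)
  have hyint : IsIntegral A y := by
    refine ⟨X ^ 2 - C d, monic_X_pow_sub_C d (by norm_num), ?_⟩
    rw [eval₂_sub, eval₂_pow, eval₂_X, eval₂_C, pow_two, hy, sub_self]
  apply le_antisymm
  · -- integral elements lie in A[y]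
    intro z hz
    have hzint : IsIntegral A z := hz
    -- decomposition z = a + b y
    have hli : LinearIndependent K ![(1 : L), y] := by
      rw [LinearIndependent.pair_iff]
      intro s t hst
      by_cases ht : t = 0
      · subst ht
        simp only [zero_smul, add_zero] at hst
        have : s = 0 := by
          have := hst
          rw [Algebra.smul_def, mul_one] at this
          exact (map_eq_zero_iff _ hinjKL).mp this
        exact ⟨this, rfl⟩
      · exfalso
        apply hyK
        refine ⟨-s / t, ?_⟩
        have h1 : t • y = -(s • (1 : L)) := by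
          rw [eq_neg_iff_add_eq_zero, add_comm]; exact hst
        rw [Algebra.smul_def, Algebra.smul_def, mul_one] at h1
        rw [map_div₀, map_neg, div_eq_iff ((map_ne_zero_iff _ hinjKL).mpr ht), ← h1, mul_comm]
    have hspan : Submodule.span K (Set.range ![(1 : L), y]) = ⊤ :=
      hli.span_eq_top_of_card_eq_finrank' (by rw [hL]; simp)
    obtain ⟨c, hc⟩ := (Submodule.mem_span_range_iff_exists_fun K).mp
      (hspan ▸ Submodule.mem_top : z ∈ Submodule.span K (Set.range ![(1 : L), y]))
    rw [Fin.sum_univ_two] at hc
    simp only [Matrix.cons_val_zero, Matrix.cons_val_one] at hc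
    set a := c 0 with ha
    set b := c 1 with hb
    have hz' : z = algebraMap K L a + algebraMap K L b * y := by
      rw [← hc, Algebra.smul_def, Algebra.smul_def, mul_one]
    -- a, b come from A
    suffices hab : (∃ a₀ : A, algebraMap A K a₀ = a) ∧ (∃ b₀ : A, algebraMap A K b₀ = b) by
      obtain ⟨⟨a₀, ha₀⟩, ⟨b₀, hb₀⟩⟩ := hab
      rw [hz', ← ha₀, ← hb₀, ← IsScalarTower.algebraMap_apply, ← IsScalarTower.algebraMap_apply]
      exact Subalgebra.add_mem _ (Subalgebra.algebraMap_mem _ _)
        (Subalgebra.mul_mem _ (Subalgebra.algebraMap_mem _ _) (Algebra.self_mem_adjoin_singleton A y))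
    by_cases hb0 : b = 0
    · refine ⟨?_, ⟨0, by rw [hb0, map_zero]⟩⟩
      rw [hb0, map_zero, zero_mul, add_zero] at hz'
      rw [hz'] at hzint
      have : IsIntegral A a := (isIntegral_algebraMap_iff hinjKL).mp hzint
      exact IsIntegrallyClosed.isIntegral_iff.mp this
    · -- the minimal polynomial
      set P : K[X] := X ^ 2 - C (2 * a) * X + C (a * a - b * b * algebraMap A K d) with hP
      have hyd : y * y = algebraMap K L (algebraMap A K d) := by
        rw [hy, ← IsScalarTower.algebraMap_apply]
      have hPz : aeval z P = 0 := by
        rw [hP, map_add, map_sub, map_mul, map_pow, aeval_X, aeval_C, aeval_C, hz']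
        simp only [map_sub, map_mul, map_ofNat]
        rw [← hyd]
        ring
      have hPm : P.Monic := by
        rw [hP]
        have : (X ^ 2 - C (2 * a) * X + C (a * a - b * b * algebraMap A K d) : K[X]) =
            X ^ 2 - (C (2 * a) * X - C (a * a - b * b * algebraMap A K d)) := by ring
        rw [this]
        apply monic_X_pow_sub
        refine lt_of_le_of_lt (degree_sub_le _ _) ?_
        rw [max_lt_iff]
        constructor
        · exact lt_of_le_of_lt (degree_C_mul_X_le _) (by norm_num)
        · exact lt_of_le_of_lt degree_C_le (by norm_num)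
      have hPdeg : P.natDegree = 2 := by
        rw [hP]
        have : (X ^ 2 - C (2 * a) * X + C (a * a - b * b * algebraMap A K d) : K[X]) =
            X ^ 2 - (C (2 * a) * X - C (a * a - b * b * algebraMap A K d)) := by ring
        rw [this]
        apply natDegree_eq_of_degree_eq_some
        rw [degree_sub_eq_left_of_degree_lt, degree_X_pow]
        rw [degree_X_pow]
        refine lt_of_le_of_lt (degree_sub_le _ _) ?_
        rw [max_lt_iff]
        constructor
        · exact lt_of_le_of_lt (degree_C_mul_X_le _) (by norm_num)
        · exact lt_of_le_of_lt degree_C_le (by norm_num)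
      have hzK : z ∉ (algebraMap K L).range := by
        rintro ⟨c', hc'⟩
        apply hyK
        refine ⟨(c' - a) / b, ?_⟩
        rw [map_div₀, map_sub, div_eq_iff ((map_ne_zero_iff _ hinjKL).mpr hb0), hc', hz']
        ring
      have hzintK : IsIntegral K z := hzint.tower_top
      have h2le : 2 ≤ (minpoly K z).natDegree := (minpoly.two_le_natDegree_iff hzintK).mpr hzK
      have hmin : P = minpoly K z :=
        eq_of_monic_of_dvd_of_natDegree_le (minpoly.monic hzintK) hPm (minpoly.dvd K z hPz)
          (by rw [hPdeg]; exact h2le)
      have hmap := minpoly.isIntegrallyClosed_eq_field_fractions' K hzint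
      rw [← hmin] at hmap
      have hc1 : P.coeff 1 = -(2 * a) := by
        rw [hP]
        simp [coeff_C]
      have hc0 : P.coeff 0 = a * a - b * b * algebraMap A K d := by
        rw [hP]
        simp [coeff_X, coeff_C]
      have hm1 : P.coeff 1 = algebraMap A K ((minpoly A z).coeff 1) := by
        rw [hmap, coeff_map]
      have hm0 : P.coeff 0 = algebraMap A K ((minpoly A z).coeff 0) := by
        rw [hmap, coeff_map]
      obtain ⟨u, hu⟩ := h2
      have ha₀ : algebraMap A K (↑u⁻¹ * -((minpoly A z).coeff 1)) = a := by
        rw [map_mul, map_neg, ← hm1, hc1, neg_neg]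
        have h2K : algebraMap A K (↑u⁻¹ : A) * 2 = 1 := by
          have : (↑u⁻¹ : A) * 2 = 1 := by rw [← hu, Units.inv_mul]
          have := congrArg (algebraMap A K) this
          rwa [map_mul, map_ofNat, map_one] at this
        rw [← mul_assoc, h2K, one_mul]
      refine ⟨⟨_, ha₀⟩, ?_⟩
      apply mem_of_sq_mul_squarefree d hd b
        ((↑u⁻¹ * -((minpoly A z).coeff 1)) * (↑u⁻¹ * -((minpoly A z).coeff 1)) -
          (minpoly A z).coeff 0)
      rw [map_sub, map_mul, ha₀, ← hm0, hc0]
      ring
  · exact Algebra.adjoin_le (Set.singleton_subset_iff.mpr hyint)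

end Helpers

/-- Let A be a unique factorisation domain in which 2 is invertible, with fraction field K, and let L ⊇
K be a quadratic extension field (of degree 2 over K) containing an element y ∉ K whose square is a
squarefree element d of A. Then the integral closure of A in L equals the A-subalgebra A[y]
generated by y. -/
theorem result {A : Type u} {K : Type v} {L : Type w}
    [CommRing A] [IsDomain A] [UniqueFactorizationMonoid A] [Field K] [Algebra A K] [IsFractionRing A K]
    [Field L] [Algebra K L] [Algebra A L] [IsScalarTower A K L]
    (h2 : IsUnit (2 : A)) (hL : Module.finrank K L = 2)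
    (d : A) (hd : Squarefree d) (y : L) (hy : y * y = algebraMap A L d)
    (hyK : y ∉ Set.range (algebraMap K L)) :
    integralClosure A L = Algebra.adjoin A {y} := by
  exact aux h2 hL d hd y hy hyK

end Groth.Agent.S18888
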