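import Groth.Statements.S18889
-- import your own Groth.Agent.* helpers here
import Mathlib

set_option autoImplicit false
universe u v w
open CAlg

namespace Groth.Agent.S18889

section Helpers

open Polynomial

variable {R : Type u} {A : Type v} [CommRing R] [CommRing A] [Algebra R A]
  {G : Type w} [Group G] [Fintype G] [MulSemiringAction G A] [SMulCommClass G R A]

/-- The Reynolds operator (with `u` an inverse of `|G|`). -/
noncomputable def rey (G : Type w) [Group G] [Fintype G] [MulSemiringAction G A] (u : R) (a : A) : A :=
  u • ∑ g : G, g • a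

theorem rey_mem (u : R) (a : A) : rey G u a ∈ FixedPoints.subalgebra R A G := by
  intro h
  change h • (u • ∑ g : G, g • a) = u • ∑ g : G, g • a
  rw [smul_comm h u, Finset.smul_sum]
  congr 1
  exact Fintype.sum_equiv (Equiv.mulLeft h) _ _ (fun g => by simp [mul_smul])

theorem rey_mul (u : R) {c : A} (hc : c ∈ FixedPoints.subalgebra R A G) (a : A) :
    rey G u (c * a) = c * rey G u a := by
  have hc' : ∀ g : G, g • c = c := hc
  simp only [rey, smul_mul', hc', ← Finset.mul_sum, mul_smul_comm]

theorem rey_of_mem (u : R) (hu : u * (Fintype.card G : R) = 1) {c : A}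
    (hc : c ∈ FixedPoints.subalgebra R A G) : rey G u c = c := by
  have hc' : ∀ g : G, g • c = c := hc
  simp only [rey, hc', Finset.sum_const, Finset.card_univ]
  rw [← Nat.cast_smul_eq_nsmul R, smul_smul, hu, one_smul]

theorem rey_add (u : R) (a b : A) : rey G u (a + b) = rey G u a + rey G u b := by
  simp only [rey, smul_add, Finset.sum_add_distrib]

theorem rey_sum (u : R) {ι : Type*} (t : Finset ι) (f : ι → A) :
    rey G u (∑ i ∈ t, f i) = ∑ i ∈ t, rey G u (f i) := by
  classical
  induction t using Finset.induction_on with
  | empty => simp [rey]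
  | insert i t hi ih => rw [Finset.sum_insert hi, Finset.sum_insert hi, rey_add, ih]

theorem fg_fixed (u : R) (hu : u * (Fintype.card G : R) = 1) [Algebra.FiniteType R A] :
    (FixedPoints.subalgebra R A G).FG := by
  classical
  obtain ⟨s, hs⟩ := (Algebra.FiniteType.out : (⊤ : Subalgebra R A).FG)
  let X : Finset A := s.biUnion (fun a => (MulSemiringAction.charpoly G a).coeffs)
  let S' : Subalgebra R A := Algebra.adjoin R (X : Set A)
  have hXS : (X : Set A) ⊆ FixedPoints.subalgebra R A G := by
    intro c hc
    obtain ⟨a, ha, hca⟩ := Finset.mem_biUnion.mp (Finset.mem_coe.mp hc)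
    obtain ⟨n, hn, rfl⟩ := Polynomial.mem_coeffs_iff.mp hca
    intro g
    exact MulSemiringAction.smul_coeff_charpoly a n g
  have hS'S : S' ≤ FixedPoints.subalgebra R A G := Algebra.adjoin_le hXS
  have hint : ∀ a ∈ (s : Set A), IsIntegral S' a := by
    intro a ha
    have hl : MulSemiringAction.charpoly G a ∈ Polynomial.lifts (algebraMap S' A) := by
      rw [Polynomial.lifts_iff_coeff_lifts]
      intro n
      by_cases h0 : (MulSemiringAction.charpoly G a).coeff n = 0
      · exact ⟨0, by rw [map_zero, h0]⟩
      · exact ⟨⟨_, Algebra.subset_adjoin (Finset.mem_coe.mpr (Finset.mem_biUnion.mpr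
          ⟨a, ha, Polynomial.coeff_mem_coeffs h0⟩))⟩, rfl⟩
    obtain ⟨p, hp1, -, hp2⟩ := Polynomial.lifts_and_natDegree_eq_and_monic hl
      (MulSemiringAction.monic_charpoly G a)
    exact ⟨p, hp2, by rw [← Polynomial.eval_map, hp1, MulSemiringAction.eval_charpoly]⟩
  have hfg : (Algebra.adjoin S' (s : Set A)).toSubmodule.FG :=
    fg_adjoin_of_finite s.finite_toSet hint
  have htop : Algebra.adjoin S' (s : Set A) = ⊤ := by
    rw [eq_top_iff]
    intro x hx0
    clear hx0
    have hx : x ∈ Algebra.adjoin R (s : Set A) := by rw [hs]; trivial
    induction hx using Algebra.adjoin_induction with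
    | mem a ha => exact Algebra.subset_adjoin ha
    | algebraMap r =>
      have : algebraMap R A r = algebraMap S' A (algebraMap R S' r) := rfl
      rw [this]
      exact Subalgebra.algebraMap_mem _ _
    | add a b _ _ ha hb => exact Subalgebra.add_mem _ ha hb
    | mul a b _ _ ha hb => exact Subalgebra.mul_mem _ ha hb
  obtain ⟨t, ht⟩ := hfg
  rw [htop, Algebra.top_toSubmodule] at ht
  refine ⟨X ∪ t.image (rey G u), le_antisymm ?_ ?_⟩
  · apply Algebra.adjoin_le
    intro c hc
    rw [Finset.coe_union, Finset.coe_image] at hc
    rcases hc with hc | ⟨b, -, rfl⟩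
    · exact hXS hc
    · exact rey_mem u b
  · intro x hx
    have hxspan : x ∈ Submodule.span S' (t : Set A) := by rw [ht]; trivial
    obtain ⟨f, -, hf⟩ := Submodule.mem_span_finset.mp hxspan
    have hxr : x = rey G u x := (rey_of_mem u hu hx).symm
    rw [hxr, ← hf, rey_sum]
    apply Subalgebra.sum_mem
    intro b hb
    rw [show (f b • b : A) = (f b : A) * b from rfl, rey_mul u (hS'S (f b).2)]
    apply Subalgebra.mul_mem
    · exact Algebra.adjoin_mono (by simp) (f b).2
    · exact Algebra.subset_adjoin (by
        rw [Finset.coe_union, Finset.coe_image]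
        exact Or.inr ⟨b, hb, rfl⟩)

theorem main [Algebra.FinitePresentation R A] (u : R) (hu : u * (Fintype.card G : R) = 1) :
    Algebra.FinitePresentation R (FixedPoints.subalgebra R A G) := by
  classical
  set S := FixedPoints.subalgebra R A G with hSdef
  haveI hft : Algebra.FiniteType R S := (Subalgebra.fg_iff_finiteType S).mp (fg_fixed u hu)
  obtain ⟨n, f, hf⟩ := Algebra.FiniteType.iff_quotient_mvPolynomial''.mp hft
  let P := MvPolynomial (Fin n) R
  letI algPS : Algebra P S := f.toRingHom.toAlgebra
  letI algPA : Algebra P A := ((algebraMap S A).comp f.toRingHom).toAlgebra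
  haveI : IsScalarTower P S A := IsScalarTower.of_algebraMap_eq (fun _ => rfl)
  haveI : IsScalarTower R P S := IsScalarTower.of_algebraMap_eq (fun r => (f.commutes r).symm)
  haveI : IsScalarTower R P A := IsScalarTower.of_algebraMap_eq (fun r => by
    change algebraMap R A r = algebraMap S A (f (algebraMap R P r))
    rw [f.commutes]
    rfl)
  haveI : Algebra.IsInvariant S A G := ⟨fun b hb => ⟨⟨b, hb⟩, rfl⟩⟩
  haveI : Algebra.IsIntegral S A := Algebra.IsInvariant.isIntegral S A G
  haveI : Algebra.FiniteType S A := Algebra.FiniteType.of_restrictScalars_finiteType R S A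
  haveI : Module.Finite S A := Algebra.IsIntegral.finite
  haveI : Module.Finite P S := Module.Finite.of_surjective (Algebra.linearMap P S) hf
  haveI : Module.Finite P A := Module.Finite.trans S A
  haveI : Algebra.FinitePresentation P A :=
    Algebra.FinitePresentation.of_restrict_scalars_finitePresentation R P A
  haveI : Module.FinitePresentation P A :=
    Module.FinitePresentation.of_finite_of_finitePresentation P A
  let ρ : A →ₗ[P] S :=
    { toFun := fun a => ⟨rey G u a, rey_mem u a⟩
      map_add' := fun a b => Subtype.ext (rey_add u a b)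
      map_smul' := fun p a => Subtype.ext (by
        change rey G u (((f p : S) : A) * a) = ((f p : S) : A) * rey G u a
        exact rey_mul u (f p).2 a) }
  let ι : S →ₗ[P] A := (IsScalarTower.toAlgHom P S A).toLinearMap
  have hρι : ∀ s : S, ρ (ι s) = s := fun s => Subtype.ext (rey_of_mem u hu s.2)
  have hρsurj : Function.Surjective ρ := fun s => ⟨ι s, hρι s⟩
  have hker : (LinearMap.ker ρ).FG := by
    have : LinearMap.ker ρ = LinearMap.range (LinearMap.id - ι ∘ₗ ρ) := by
      ext a
      simp only [LinearMap.mem_ker, LinearMap.mem_range]
      constructor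
      · intro ha
        exact ⟨a, by simp [ha]⟩
      · rintro ⟨b, rfl⟩
        simp [hρι]
    rw [this, LinearMap.range_eq_map]
    exact Module.Finite.fg_top.map _
  haveI : Module.FinitePresentation P S := Module.finitePresentation_of_surjective ρ hρsurj hker
  have hkerf : (LinearMap.ker (Algebra.linearMap P S)).FG :=
    Module.FinitePresentation.fg_ker (Algebra.linearMap P S) hf
  refine Algebra.FinitePresentation.of_surjective (f := f) hf ?_
  have heq : RingHom.ker f.toRingHom = LinearMap.ker (Algebra.linearMap P S) := by
    ext x
    rfl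
  rw [heq]
  exact hkerf

end Helpers

/-- Let R be a commutative ring, A a commutative R-algebra of finite presentation, and G a finite group
acting on A by R-algebra automorphisms such that the order of G is invertible in R. Then the ring of
invariants A^G is an R-algebra of finite presentation. (The source takes G to be a group of
automorphisms of A; here G acts through a possibly non-faithful action, which changes nothing since
the invariants and the invertibility of the order only depend on the image of G.) -/
theorem result {R : Type u} {A : Type v} [CommRing R] [CommRing A]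
    [Algebra R A] [Algebra.FinitePresentation R A]
    {G : Type w} [Group G] [Finite G] [MulSemiringAction G A] [SMulCommClass G R A]
    (hG : IsUnit ((Nat.card G : ℕ) : R)) :
    Algebra.FinitePresentation R (FixedPoints.subalgebra R A G) := by
  cases nonempty_fintype G
  obtain ⟨u, hu⟩ := hG.exists_left_inv
  rw [Nat.card_eq_fintype_card] at hu
  exact main u hu

end Groth.Agent.S18889
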