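import Groth.Statements.S18890
-- import your own Groth.Agent.* helpers here
import Mathlib.LinearAlgebra.Projection

set_option autoImplicit false
universe u v w w'
open CAlg

namespace Groth.Agent.S18890

/-- Let R be a commutative ring, G a finite group whose order is invertible in R, M an R-module with an
R-linear action ρ of G and N an arbitrary R-module. Then the natural map M^G ⊗_R N → M ⊗_R N induced
by the inclusion of the invariants is injective, and its image is the submodule of invariants of M
⊗_R N under the action ρ ⊗ 1 (G acting on the first factor). (The source lets G be a group of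
R-automorphisms of M; a possibly non-faithful linear action changes nothing.) -/
theorem result {R : Type u} [CommRing R]
    {G : Type v} [Group G] [Finite G] (hG : IsUnit ((Nat.card G : ℕ) : R))
    {M : Type w} {N : Type w'} [AddCommGroup M] [Module R M] [AddCommGroup N] [Module R N]
    (ρ : Representation R G M) :
    Function.Injective (LinearMap.rTensor N ρ.invariants.subtype) ∧
      LinearMap.range (LinearMap.rTensor N ρ.invariants.subtype) =
        (ρ.tprod (Representation.trivial R G N)).invariants := by
  classical
  haveI : Fintype G := Fintype.ofFinite G
  rw [Nat.card_eq_fintype_card] at hG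
  haveI : Invertible ((Fintype.card G : ℕ) : R) := hG.invertible
  have hproj := ρ.isProj_averageMap
  let p : M →ₗ[R] ρ.invariants := hproj.codRestrict
  have hp : p ∘ₗ ρ.invariants.subtype = LinearMap.id := by
    ext x
    simp [p]
  have hsp : ρ.invariants.subtype ∘ₗ p = ρ.averageMap := by
    ext x
    simp [p]
  constructor
  · apply Function.LeftInverse.injective (g := LinearMap.rTensor N p)
    intro x
    rw [← LinearMap.comp_apply, ← LinearMap.rTensor_comp, hp, LinearMap.rTensor_id,
      LinearMap.id_apply]
  · apply le_antisymm
    · rintro _ ⟨x, rfl⟩
      intro g
      rw [Representation.tprod_apply]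
      induction x using TensorProduct.induction_on with
      | zero => simp
      | tmul m n =>
        simp only [LinearMap.rTensor_tmul, Submodule.subtype_apply, TensorProduct.map_tmul]
        rw [m.2 g]
        rfl
      | add x y hx hy => simp only [map_add, hx, hy]
    · intro x hx
      refine ⟨LinearMap.rTensor N p x, ?_⟩
      rw [← LinearMap.comp_apply, ← LinearMap.rTensor_comp, hsp]
      -- averageMap as a sum
      have hav : ρ.averageMap = ⅟((Fintype.card G : ℕ) : R) • ∑ g : G, ρ g := by
        simp only [Representation.averageMap, GroupAlgebra.average, map_smul, map_sum,
          MonoidAlgebra.of_apply, Representation.asAlgebraHom_single, one_smul]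
      rw [hav]
      have h1 : LinearMap.rTensor N (⅟((Fintype.card G : ℕ) : R) • ∑ g : G, ρ g) =
          ⅟((Fintype.card G : ℕ) : R) • ∑ g : G, LinearMap.rTensor N (ρ g) := by
        rw [LinearMap.rTensor_smul, ← LinearMap.coe_rTensorHom, map_sum]
      rw [h1, LinearMap.smul_apply, LinearMap.sum_apply]
      have h2 : ∀ g : G, LinearMap.rTensor N (ρ g) x = x := by
        intro g
        have := hx g
        rw [Representation.tprod_apply] at this
        exact this
      simp only [h2, Finset.sum_const, Finset.card_univ]
      rw [← Nat.cast_smul_eq_nsmul R, smul_smul, invOf_mul_self, one_smul]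

end Groth.Agent.S18890
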