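import Groth.Statements.S18899
import Mathlib.Tactic
import Mathlib.RingTheory.Invariant.Basic

set_option autoImplicit false
universe u v w
open CAlg

namespace Groth.Agent.S18899

section helpers
open Pointwise Polynomial

variable {B : Type u} [CommRing B] {G : Type v} [Group G] [Finite G] [MulSemiringAction G B]
  {K : Type w} [Field K]

instance isInvariant_fixedPoints : Algebra.IsInvariant (FixedPoints.subring B G) B G :=
  ⟨fun b hb => ⟨⟨b, hb⟩, rfl⟩⟩

/-- pointwise version -/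
theorem pointwise (f₁ f₂ : B →+* K)
    (h : ∀ a : B, (∀ g : G, g • a = a) → f₁ a = f₂ a) (a : B) :
    ∃ g : G, f₂ a = f₁ (g • a) := by
  classical
  cases nonempty_fintype G
  obtain ⟨q, hq⟩ := (Polynomial.mem_lifts _).mp
    (Algebra.IsInvariant.charpoly_mem_lifts (FixedPoints.subring B G) B G a)
  have hcomp : f₁.comp (algebraMap (FixedPoints.subring B G) B) =
      f₂.comp (algebraMap (FixedPoints.subring B G) B) := by
    ext r
    exact h r.1 r.2
  have h1 : (MulSemiringAction.charpoly G a).map f₁ = (MulSemiringAction.charpoly G a).map f₂ := by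
    rw [← hq, Polynomial.map_map, Polynomial.map_map, hcomp]
  rw [MulSemiringAction.charpoly_eq, Polynomial.map_prod, Polynomial.map_prod] at h1
  have h2 := congrArg (Polynomial.eval (f₂ a)) h1
  rw [Polynomial.eval_prod, Polynomial.eval_prod] at h2
  have h3 : ∏ g : G, Polynomial.eval (f₂ a) (Polynomial.map f₂ (X - C (g • a))) = 0 := by
    apply Finset.prod_eq_zero (Finset.mem_univ (1 : G))
    simp
  rw [h3, Finset.prod_eq_zero_iff] at h2
  obtain ⟨g, _, hg⟩ := h2
  refine ⟨g, ?_⟩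
  simpa [sub_eq_zero] using hg

/-- the case of equal kernels -/
theorem same_ker (f₁ f₂ : B →+* K)
    (h : ∀ a : B, (∀ g : G, g • a = a) → f₁ a = f₂ a)
    (hker : RingHom.ker f₁ = RingHom.ker f₂) :
    ∃ σ : G, ∀ a : B, f₂ a = f₁ (σ • a) := by
  classical
  set R := FixedPoints.subring B G with hR
  set Q : Ideal B := RingHom.ker f₂ with hQ
  haveI : Q.IsPrime := RingHom.ker_isPrime f₂
  set P : Ideal R := Q.under R with hP
  haveI : Q.LiesOver P := Ideal.over_under Q
  -- the two injections of B ⧸ Q into K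
  let j₁ : B ⧸ Q →+* K := Ideal.Quotient.lift Q f₁ (fun a ha => by
    have h' : a ∈ RingHom.ker f₁ := hker ▸ ha
    exact h')
  let j₂ : B ⧸ Q →+* K := Ideal.Quotient.lift Q f₂ (fun a ha => ha)
  have hj₁ : Function.Injective j₁ := by
    rw [injective_iff_map_eq_zero]
    intro x hx
    obtain ⟨x, rfl⟩ := Ideal.Quotient.mk_surjective x
    rw [Ideal.Quotient.eq_zero_iff_mem, ← hker]
    exact hx
  have hj₂ : Function.Injective j₂ := by
    rw [injective_iff_map_eq_zero]
    intro x hx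
    obtain ⟨x, rfl⟩ := Ideal.Quotient.mk_surjective x
    rw [Ideal.Quotient.eq_zero_iff_mem]
    exact hx
  have h12 : ∀ x, j₂ x ∈ j₁.range := by
    intro x
    obtain ⟨x, rfl⟩ := Ideal.Quotient.mk_surjective x
    obtain ⟨g, hg⟩ := pointwise f₁ f₂ h x
    exact ⟨Ideal.Quotient.mk Q (g • x), hg.symm⟩
  have h21 : ∀ x, j₁ x ∈ j₂.range := by
    intro x
    obtain ⟨x, rfl⟩ := Ideal.Quotient.mk_surjective x
    obtain ⟨g, hg⟩ := pointwise f₂ f₁ (fun a ha => (h a ha).symm) x
    exact ⟨Ideal.Quotient.mk Q (g • x), hg.symm⟩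
  let E₁ : (B ⧸ Q) ≃+* j₁.range := RingEquiv.ofBijective j₁.rangeRestrict
    ⟨by intro x y hxy; exact hj₁ (congrArg Subtype.val hxy), j₁.rangeRestrict_surjective⟩
  let E₂ : (B ⧸ Q) ≃+* j₂.range := RingEquiv.ofBijective j₂.rangeRestrict
    ⟨by intro x y hxy; exact hj₂ (congrArg Subtype.val hxy), j₂.rangeRestrict_surjective⟩
  let τ₁ : B ⧸ Q →+* B ⧸ Q := E₁.symm.toRingHom.comp (j₂.codRestrict j₁.range h12)
  let τ₂ : B ⧸ Q →+* B ⧸ Q := E₂.symm.toRingHom.comp (j₁.codRestrict j₂.range h21)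
  have hτ₁ : ∀ x, j₁ (τ₁ x) = j₂ x := by
    intro x
    have : E₁ (τ₁ x) = j₂.codRestrict j₁.range h12 x := E₁.apply_symm_apply _
    exact congrArg Subtype.val this
  have hτ₂ : ∀ x, j₂ (τ₂ x) = j₁ x := by
    intro x
    have : E₂ (τ₂ x) = j₁.codRestrict j₂.range h21 x := E₂.apply_symm_apply _
    exact congrArg Subtype.val this
  let τ : (B ⧸ Q) ≃+* (B ⧸ Q) := RingEquiv.ofRingHom τ₁ τ₂
    (by ext x; apply hj₁; simp only [RingHom.comp_apply, RingHom.id_apply]; rw [hτ₁, hτ₂])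
    (by ext x; apply hj₂; simp only [RingHom.comp_apply, RingHom.id_apply]; rw [hτ₂, hτ₁])
  have hcomm : ∀ x : R ⧸ P, τ (algebraMap (R ⧸ P) (B ⧸ Q) x) = algebraMap (R ⧸ P) (B ⧸ Q) x := by
    intro x
    obtain ⟨r, rfl⟩ := Ideal.Quotient.mk_surjective x
    apply hj₁
    show j₁ (τ₁ _) = _
    rw [hτ₁]
    have e : algebraMap (R ⧸ P) (B ⧸ Q) (Ideal.Quotient.mk P r) = Ideal.Quotient.mk Q (r : B) := rfl
    rw [e]
    show f₂ (r : B) = f₁ (r : B)
    exact (h r.1 r.2).symm
  let τa : (B ⧸ Q) ≃ₐ[R ⧸ P] (B ⧸ Q) := AlgEquiv.ofRingEquiv (f := τ) hcomm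
  obtain ⟨σ, hσ⟩ := Ideal.Quotient.stabilizerHom_surjective G P Q τa
  refine ⟨σ.1, fun a => ?_⟩
  have h1 : τa (Ideal.Quotient.mk Q a) = Ideal.Quotient.mk Q (σ • a) := by
    rw [← hσ, Ideal.Quotient.stabilizerHom_apply]
  have h2 : j₁ (τa (Ideal.Quotient.mk Q a)) = j₂ (Ideal.Quotient.mk Q a) := hτ₁ _
  rw [h1] at h2
  exact h2.symm

end helpers


/-- Let A be a commutative ring on which a finite group G acts by ring automorphisms, with ring of
invariants A^G, and let K be a field. If two ring homomorphisms f₁, f₂ : A → K have the same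
restriction to A^G, then f₂ = f₁ ∘ γ for some γ ∈ G. -/
theorem result {A : Type u} [CommRing A] {G : Type v} [Group G] [Finite G]
    [MulSemiringAction G A] {K : Type w} [Field K] (f₁ f₂ : A →+* K)
    (h : ∀ a : A, (∀ g : G, g • a = a) → f₁ a = f₂ a) :
    ∃ γ : G, ∀ a : A, f₂ a = f₁ (γ • a) := by
  classical
  haveI : (RingHom.ker f₁).IsPrime := RingHom.ker_isPrime f₁
  haveI : (RingHom.ker f₂).IsPrime := RingHom.ker_isPrime f₂
  have hunder : (RingHom.ker f₁).under (FixedPoints.subring A G) =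
      (RingHom.ker f₂).under (FixedPoints.subring A G) := by
    ext r
    simp only [Ideal.under, Ideal.mem_comap, RingHom.mem_ker]
    have : f₁ (algebraMap (FixedPoints.subring A G) A r) = f₂ (algebraMap (FixedPoints.subring A G) A r) :=
      h r.1 r.2
    rw [this]
  obtain ⟨g, hg⟩ := Algebra.IsInvariant.exists_smul_of_under_eq (FixedPoints.subring A G) A G
    (RingHom.ker f₁) (RingHom.ker f₂) hunder
  -- replace f₁ by f₁ ∘ g⁻¹
  set f₁' : A →+* K := f₁.comp (MulSemiringAction.toRingHom G A g⁻¹) with hf₁'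
  have hf₁'a : ∀ a, f₁' a = f₁ (g⁻¹ • a) := fun a => rfl
  have hker : RingHom.ker f₁' = RingHom.ker f₂ := by
    rw [hg]
    ext x
    rw [Ideal.mem_pointwise_smul_iff_inv_smul_mem, RingHom.mem_ker, RingHom.mem_ker, hf₁'a]
  have h' : ∀ a : A, (∀ g : G, g • a = a) → f₁' a = f₂ a := by
    intro a ha
    rw [hf₁'a, ha g⁻¹]
    exact h a ha
  obtain ⟨σ, hσ⟩ := same_ker f₁' f₂ h' hker
  refine ⟨g⁻¹ * σ, fun a => ?_⟩
  rw [hσ a, hf₁'a, mul_smul]


end Groth.Agent.S18899
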