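import Groth.Statements.S1890
import Mathlib

set_option autoImplicit false
universe u
open CategoryTheory CategoryTheory.Limits AlgebraicGeometry
open Grpd

namespace Groth.Agent.S1890

section Dev
theorem affine_preimage_of_le_coborder {V Y : Scheme.{u}} (j : V ⟶ Y) [IsImmersion j]
    (U : Y.Opens) (hU : IsAffineOpen U) (hle : (U : Set Y) ⊆ coborder (Set.range ⇑j)) :
    IsAffineOpen (j ⁻¹ᵁ U) := by
  have hrange : Set.range ⇑(j ∣_ U) = Subtype.val ⁻¹' (closure (Set.range ⇑j)) := by
    ext y
    constructor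
    · rintro ⟨x, rfl⟩
      show ((j ∣_ U) x).1 ∈ closure (Set.range ⇑j)
      rw [morphismRestrict_base_coe]
      exact subset_closure ⟨_, rfl⟩
    · intro hy
      have hy' : y.1 ∈ closure (Set.range ⇑j) := hy
      have : y.1 ∈ Set.range ⇑j := by
        rw [← closure_inter_coborder (s := Set.range ⇑j)]
        exact ⟨hy', hle y.2⟩
      obtain ⟨x, hx⟩ := this
      have hxU : x ∈ j ⁻¹ᵁ U := by
        show j x ∈ U
        rw [hx]; exact y.2
      refine ⟨⟨x, hxU⟩, ?_⟩
      apply Subtype.ext
      rw [morphismRestrict_base_coe]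
      exact hx
  have hcl : IsClosed (Set.range ⇑(j ∣_ U)) := by
    rw [hrange]
    exact isClosed_closure.preimage continuous_subtype_val
  have : IsClosedImmersion (j ∣_ U) := IsClosedImmersion.of_isPreimmersion _ hcl
  have : IsAffine (U : Scheme) := hU
  exact isAffine_of_isAffineHom (j ∣_ U)

theorem main (A : Type u) [CommRing A] (V : Scheme.{u}) (j : V ⟶ Spec (CommRingCat.of A)) [IsImmersion j] [QuasiCompact j] (f : A) (haff : IsAffineOpen (j ⁻¹ᵁ PrimeSpectrum.basicOpen f)) (hcl : IsClosed (Set.range ⇑j ∩ PrimeSpectrum.zeroLocus {f})) : IsAffine V := by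
  let R : Set (PrimeSpectrum A) := Set.range ⇑j
  let K : Set (PrimeSpectrum A) := R ∩ PrimeSpectrum.zeroLocus {f}
  have hK : IsClosed K := hcl
  have hlc : IsLocallyClosed R := j.isLocallyClosed_range
  let Z : Set (PrimeSpectrum A) := (coborder R)ᶜ
  have hZ : IsClosed Z := hlc.isOpen_coborder.isClosed_compl
  have hKZ : K ∩ Z = ∅ := by
    ext x
    simp only [Set.mem_inter_iff, Set.mem_empty_iff_false, iff_false, not_and]
    intro hx hx'
    exact hx' (subset_coborder hx.1)
  have htop : PrimeSpectrum.vanishingIdeal K ⊔ PrimeSpectrum.vanishingIdeal Z = ⊤ := by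
    rw [← PrimeSpectrum.zeroLocus_empty_iff_eq_top, PrimeSpectrum.zeroLocus_sup,
      PrimeSpectrum.zeroLocus_vanishingIdeal_eq_closure,
      PrimeSpectrum.zeroLocus_vanishingIdeal_eq_closure, hK.closure_eq, hZ.closure_eq, hKZ]
  have h1 : (1 : A) ∈ PrimeSpectrum.vanishingIdeal K ⊔ PrimeSpectrum.vanishingIdeal Z := by
    rw [htop]; trivial
  obtain ⟨k, hk, g, hg, hkg⟩ := Submodule.mem_sup.mp h1
  have hDg : IsAffineOpen (j ⁻¹ᵁ PrimeSpectrum.basicOpen g) := by
    apply affine_preimage_of_le_coborder j _ (IsAffineOpen.Spec_basicOpen g)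
    intro x hx
    by_contra hx'
    have hxZ : x ∈ Z := hx'
    have := (PrimeSpectrum.mem_vanishingIdeal _ _).mp hg x hxZ
    exact hx this
  have hDk : IsAffineOpen (j ⁻¹ᵁ PrimeSpectrum.basicOpen k) := by
    have hle : j ⁻¹ᵁ PrimeSpectrum.basicOpen k ≤ j ⁻¹ᵁ PrimeSpectrum.basicOpen f := by
      intro x hx
      have hx1 : j x ∈ PrimeSpectrum.basicOpen k := hx
      show j x ∈ PrimeSpectrum.basicOpen f
      by_contra hxf
      have hxK : j x ∈ K := by
        refine ⟨⟨x, rfl⟩, ?_⟩
        rw [PrimeSpectrum.mem_zeroLocus]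
        intro a ha
        rw [Set.mem_singleton_iff] at ha
        subst ha
        by_contra h2
        exact hxf h2
      have := (PrimeSpectrum.mem_vanishingIdeal _ _).mp hk (j x) hxK
      exact hx1 this
    have e1 : (PrimeSpectrum.basicOpen k : (Spec (CommRingCat.of A)).Opens) =
        (Spec (CommRingCat.of A)).basicOpen ((Scheme.ΓSpecIso (CommRingCat.of A)).inv k) := by
      rw [basicOpen_eq_of_affine']
      simp
    rw [e1, Scheme.preimage_basicOpen]
    rw [e1, Scheme.preimage_basicOpen] at hle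
    set s := j.app ⊤ ((Scheme.ΓSpecIso (CommRingCat.of A)).inv k) with hs
    have e2 : V.basicOpen s = V.basicOpen (V.presheaf.map (homOfLE le_top).op s :
        Γ(V, j ⁻¹ᵁ PrimeSpectrum.basicOpen f)) := by
      rw [Scheme.basicOpen_res]
      exact (inf_eq_right.mpr hle).symm
    rw [e2]
    exact haff.basicOpen _
  have : IsAffineHom j := by
    apply isAffineHom_of_forall_exists_isAffineOpen
    intro x
    by_cases hx : g ∈ x.asIdeal
    · refine ⟨PrimeSpectrum.basicOpen k, ?_, IsAffineOpen.Spec_basicOpen (R := CommRingCat.of A) k, hDk⟩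
      intro hk'
      have : (1 : A) ∈ x.asIdeal := by
        rw [← hkg]
        exact x.asIdeal.add_mem hk' hx
      exact x.asIdeal.ne_top_iff_one.mp x.isPrime.ne_top this
    · exact ⟨PrimeSpectrum.basicOpen g, hx, IsAffineOpen.Spec_basicOpen (R := CommRingCat.of A) g, hDg⟩
  exact isAffine_of_isAffineHom j
end Dev

/-- Take a quasi-compact immersion j : V → Spec A and an element f ∈ A such that j⁻¹(D(f)) is affine and
j(V) ∩ V(f) is closed in Spec A. Then V is affine. -/
theorem result (A : Type u) [CommRing A] (V : Scheme.{u}) (j : V ⟶ Spec (CommRingCat.of A)) [IsImmersion j] [QuasiCompact j] (f : A) (haff : IsAffineOpen (j ⁻¹ᵁ PrimeSpectrum.basicOpen f)) (hcl : IsClosed (Set.range ⇑j ∩ PrimeSpectrum.zeroLocus {f})) : IsAffine V := by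
  exact main A V j f haff hcl

end Groth.Agent.S1890
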