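import Groth.Statements.S18905
import Mathlib

set_option autoImplicit false
universe u
open CategoryTheory CategoryTheory.Limits AlgebraicGeometry
open Mor

namespace Groth.Agent.S18905
open TensorProduct
open CategoryTheory CategoryTheory.Limits AlgebraicGeometry

/-- algebra hom to dual numbers from a "derivation-like" pair -/
noncomputable def dualHom {k B : Type u} [Field k] [CommRing B] [Algebra k B]
    (ev : B →ₐ[k] k) (d : B →ₗ[k] k) (h1 : d 1 = 0)
    (hmul : ∀ a b, d (a * b) = ev a * d b + ev b * d a) : B →ₐ[k] DualNumber k :=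
  AlgHom.ofLinearMap
    ((TrivSqZeroExt.inlAlgHom k k k).toLinearMap ∘ₗ ev.toLinearMap + (TrivSqZeroExt.inrHom k k) ∘ₗ d)
    (by ext <;> simp [h1])
    (fun a b => by ext <;> simp [hmul, mul_comm])

theorem formallyUnramified_of_dualNumber (k B : Type u) [Field k] [IsAlgClosed k]
    [CommRing B] [Algebra k B] [Algebra.FiniteType k B]
    (H : ∀ ψ₁ ψ₂ : B →ₐ[k] DualNumber k,
      (TrivSqZeroExt.fstHom k k k).comp ψ₁ = (TrivSqZeroExt.fstHom k k k).comp ψ₂ → ψ₁ = ψ₂) :
    Algebra.FormallyUnramified k B := by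
  rw [Algebra.formallyUnramified_iff]
  by_contra hne
  rw [not_subsingleton_iff_nontrivial] at hne
  obtain ⟨q, hq⟩ := Module.nonempty_support_of_nontrivial (R := B) (M := Ω[B⁄k])
  obtain ⟨m, hm, hqm⟩ := Ideal.exists_le_maximal q.asIdeal q.2.ne_top
  have hm' : (⟨m, hm.isPrime⟩ : PrimeSpectrum B) ∈ Module.support B Ω[B⁄k] :=
    Module.mem_support_mono (p := q) (q := ⟨m, hm.isPrime⟩) hqm hq
  rw [Module.mem_support_iff_nontrivial_residueField_tensorProduct] at hm'
  let κ := m.ResidueField
  have hsurj : Function.Surjective (algebraMap B κ) := m.algebraMap_residueField_surjective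
  have hft : Algebra.FiniteType k κ :=
    Algebra.FiniteType.of_surjective (IsScalarTower.toAlgHom k B κ) hsurj
  have hfin : Module.Finite k κ := finite_of_finite_type_of_isJacobsonRing k κ
  have hbij : Function.Bijective (algebraMap k κ) :=
    IsAlgClosed.algebraMap_bijective_of_isIntegral
  let σ : κ ≃ₐ[k] k := (AlgEquiv.ofBijective (Algebra.ofId k κ) hbij).symm
  -- nonzero functional
  obtain ⟨v, hv⟩ := exists_ne (0 : κ ⊗[B] Ω[B⁄k])
  obtain ⟨f, hf⟩ : ∃ f : Module.Dual κ (κ ⊗[B] Ω[B⁄k]), f v ≠ 0 := by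
    by_contra hcon
    push Not at hcon
    exact hv ((Module.forall_dual_apply_eq_zero_iff κ v).mp hcon)
  let g : Ω[B⁄k] →ₗ[B] κ := (f.restrictScalars B) ∘ₗ (TensorProduct.mk B κ Ω[B⁄k] 1)
  let D : Derivation k B κ := KaehlerDifferential.linearMapEquivDerivation k B g
  have hD : ∃ b, D b ≠ 0 := by
    by_contra hcon
    push Not at hcon
    have hg : g = 0 := by
      apply (KaehlerDifferential.linearMapEquivDerivation k B).injective
      ext b
      simpa [D] using hcon b
    have hall : ∀ w : κ ⊗[B] Ω[B⁄k], f w = 0 := by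
      intro w
      induction w with
      | zero => simp
      | add x y hx hy => rw [map_add, hx, hy, add_zero]
      | tmul c ω =>
        have : c ⊗ₜ[B] ω = c • ((1 : κ) ⊗ₜ[B] ω) := by simp [smul_tmul']
        rw [this, map_smul]
        have h0 : f ((1 : κ) ⊗ₜ[B] ω) = g ω := rfl
        rw [h0, hg]; simp
    exact hf (hall v)
  obtain ⟨b₀, hb₀⟩ := hD
  let ev : B →ₐ[k] k := σ.toAlgHom.comp (IsScalarTower.toAlgHom k B κ)
  let d : B →ₗ[k] k := σ.toLinearMap ∘ₗ (D : B →ₗ[k] κ)
  have hd1 : d 1 = 0 := by simp [d]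
  have hdmul : ∀ a b, d (a * b) = ev a * d b + ev b * d a := by
    intro a b
    simp [d, ev, Algebra.smul_def]
  have hd0 : ∀ a b, (0 : B →ₗ[k] k) (a * b) = ev a * (0 : B →ₗ[k] k) b + ev b * (0 : B →ₗ[k] k) a := by
    intro a b; simp
  have := H (dualHom ev d hd1 hdmul) (dualHom ev 0 (by simp) hd0) (by
    ext x; simp [dualHom])
  have h2 := congrArg (fun ψ => (ψ b₀).snd) this
  simp [dualHom, d] at h2
  exact hb₀ h2

theorem isNilpotent_ker_SpecMap {R S : CommRingCat.{u}} (φ : R ⟶ S)
    (h : RingHom.ker φ.hom ^ 2 = ⊥) : IsNilpotent (Spec.map φ).ker := by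
  refine ⟨2, ?_⟩
  rw [Scheme.ker_of_isAffine]
  apply Scheme.IdealSheafData.equivOfIsAffine.injective
  rw [map_pow, map_zero]
  have : Scheme.IdealSheafData.equivOfIsAffine
      (Scheme.IdealSheafData.ofIdealTop (RingHom.ker (Spec.map φ).appTop.hom)) =
      RingHom.ker (Spec.map φ).appTop.hom :=
    Scheme.IdealSheafData.equivOfIsAffine.apply_symm_apply _
  erw [this]
  rw [pow_two, Ideal.zero_eq_bot, eq_bot_iff, Ideal.mul_le]
  intro x hx y hy
  have key : ∀ z ∈ RingHom.ker (Spec.map φ).appTop.hom,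
      (Scheme.ΓSpecIso R).hom z ∈ RingHom.ker φ.hom := by
    intro z hz
    rw [RingHom.mem_ker] at hz ⊢
    have := congr($(Scheme.ΓSpecIso_naturality φ) z)
    simp only [CommRingCat.comp_apply] at this
    rw [← this, hz, map_zero]
  have h1 : (Scheme.ΓSpecIso R).hom x * (Scheme.ΓSpecIso R).hom y ∈ RingHom.ker φ.hom ^ 2 := by
    rw [pow_two]; exact Ideal.mul_mem_mul (key x hx) (key y hy)
  rw [h, Ideal.mem_bot, ← map_mul] at h1
  rw [Ideal.mem_bot]
  have hinj : Function.Injective (Scheme.ΓSpecIso R).hom :=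
    (ConcreteCategory.bijective_of_isIso (Scheme.ΓSpecIso R).hom).1
  exact hinj (by rw [h1, map_zero])


/-- Let k be an algebraically closed field and X a scheme locally of finite type over k. Then X → Spec k
is formally unramified if and only if the map Hom_k(Spec k[ε], X) → Hom_k(Spec k, X) given by
restricting along the closed immersion of Spec k into Spec k[ε] (k[ε] the ring of dual numbers, ε ↦
0), is bijective; since that map is always surjective, the condition is stated as injectivity: two
k-morphisms from Spec k[ε] to X which agree on Spec k are equal. -/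
theorem result (k : Type u) [Field k] [IsAlgClosed k]
    {X : Scheme.{u}} (p : X ⟶ Spec (CommRingCat.of k)) [LocallyOfFiniteType p] :
    FormallyUnramified p ↔
      ∀ v₁ v₂ : Spec (CommRingCat.of (DualNumber k)) ⟶ X,
        v₁ ≫ p = Spec.map (CommRingCat.ofHom (algebraMap k (DualNumber k))) →
        v₂ ≫ p = Spec.map (CommRingCat.ofHom (algebraMap k (DualNumber k))) →
        Spec.map (CommRingCat.ofHom (TrivSqZeroExt.fstHom k k k).toRingHom) ≫ v₁ =
          Spec.map (CommRingCat.ofHom (TrivSqZeroExt.fstHom k k k).toRingHom) ≫ v₂ →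
        v₁ = v₂ := by
  constructor
  · intro hp v₁ v₂ h1 h2 h3
    have hsurj : Function.Surjective (CommRingCat.ofHom (TrivSqZeroExt.fstHom k k k).toRingHom) :=
      fun x => ⟨TrivSqZeroExt.inl x, by simp⟩
    have : IsClosedImmersion (Spec.map (CommRingCat.ofHom (TrivSqZeroExt.fstHom k k k).toRingHom)) :=
      IsClosedImmersion.spec_of_surjective _ hsurj
    refine FormallyUnramified.hom_ext
      (Spec.map (CommRingCat.ofHom (TrivSqZeroExt.fstHom k k k).toRingHom))
      (isNilpotent_ker_SpecMap _ ?_) p h3 (h1.trans h2.symm)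
    rw [pow_two, eq_bot_iff, Ideal.mul_le]
    intro x hx y hy
    rw [RingHom.mem_ker] at hx hy
    rw [Ideal.mem_bot]
    ext <;> simp_all
  · intro H
    let 𝒰 := X.affineOpenCover
    rw [IsZariskiLocalAtSource.iff_of_openCover (P := @FormallyUnramified) 𝒰.openCover]
    intro i
    obtain ⟨φ, hφ⟩ := Spec.map_surjective (𝒰.f i ≫ p)
    have h2 : LocallyOfFiniteType (Spec.map φ) := by rw [hφ]; infer_instance
    change FormallyUnramified (𝒰.f i ≫ p)
    rw [← hφ, HasRingHomProperty.Spec_iff (P := @FormallyUnramified)]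
    rw [HasRingHomProperty.Spec_iff (P := @LocallyOfFiniteType)] at h2
    algebraize [φ.hom]
    suffices hAB : Algebra.FormallyUnramified k (𝒰.X i) by
      rwa [← RingHom.formallyUnramified_algebraMap, RingHom.algebraMap_toAlgebra] at hAB
    apply formallyUnramified_of_dualNumber
    intro ψ₁ ψ₂ h
    have hc : ∀ ψ : (𝒰.X i) →ₐ[k] DualNumber k,
        (Spec.map (CommRingCat.ofHom ψ.toRingHom) ≫ 𝒰.f i) ≫ p =
          Spec.map (CommRingCat.ofHom (algebraMap k (DualNumber k))) := by
      intro ψ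
      rw [Category.assoc, ← hφ, ← Spec.map_comp]
      congr 1
      refine CommRingCat.hom_ext (RingHom.ext fun x => ?_)
      simpa [RingHom.algebraMap_toAlgebra] using ψ.commutes x
    have := H (Spec.map (CommRingCat.ofHom ψ₁.toRingHom) ≫ 𝒰.f i)
      (Spec.map (CommRingCat.ofHom ψ₂.toRingHom) ≫ 𝒰.f i) (hc ψ₁) (hc ψ₂) (by
        rw [← Spec.map_comp_assoc, ← Spec.map_comp_assoc, ← CommRingCat.ofHom_comp,
          ← CommRingCat.ofHom_comp]
        congr 3
        exact congrArg AlgHom.toRingHom h)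
    rw [cancel_mono] at this
    have h3 := Spec.map_injective this
    refine AlgHom.ext fun x => ?_
    exact congr($h3 x)

end Groth.Agent.S18905
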