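import Groth.Statements.S18912
import Mathlib.Tactic
import Mathlib.Algebra.Polynomial.Splits

set_option autoImplicit false
universe u
open CategoryTheory CategoryTheory.Limits AlgebraicGeometry
open TFNodal

namespace Groth.Agent.S18912

section helpers

theorem app_res {X : Scheme.{u}} {F : X.Modules} (τ : F ⟶ Coh.structureModule X) {U V : X.Opens}
    (i : V ⟶ U) (a : Γ(F, U)) :
    (τ.app V (F.presheaf.map i.op a) : Γ(X, V)) = X.presheaf.map i.op (τ.app U a : Γ(X, U)) := by
  have := τ.mapPresheaf.naturality i.op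
  exact congr($this a)

theorem germ_app_res {X : Scheme.{u}} {F : X.Modules} (τ : F ⟶ Coh.structureModule X)
    {U V : X.Opens} (i : V ⟶ U) (η : X) (hV : η ∈ V) (a : Γ(F, U)) :
    (X.presheaf.germ V η hV).hom (τ.app V (F.presheaf.map i.op a) : Γ(X, V)) =
      (X.presheaf.germ U η (i.le hV)).hom (τ.app U a : Γ(X, U)) := by
  rw [app_res]
  exact TopCat.Presheaf.germ_res_apply X.presheaf i η hV _

open Polynomial in
/-- roots of unity in a domain over an algebraically closed field come from the field -/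
theorem exists_root_of_unity {k : Type*} [Field k] [IsAlgClosed k] {K : Type*} [CommRing K]
    [IsDomain K] (φ : k →+* K) (d : ℕ) (hd : 1 ≤ d) (ζ : K) (hζ : ζ ^ d = 1) :
    ∃ ξ : k, ξ ^ d = 1 ∧ φ ξ = ζ := by
  classical
  have hm : (X ^ d - C (1 : k) : k[X]).Monic := monic_X_pow_sub_C 1 (by omega)
  have hsplit : (X ^ d - C (1 : k) : k[X]).Splits := IsAlgClosed.splits _
  have h1 := hsplit.eq_prod_roots_of_monic hm
  have h2 := congrArg (fun q : k[X] => (q.map φ).eval ζ) h1
  simp only [Polynomial.map_sub, Polynomial.map_pow, map_X, map_C, map_one, eval_sub, eval_pow,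
    eval_X, eval_C, hζ, Polynomial.map_one, eval_one, sub_self, Polynomial.map_multiset_prod, Multiset.map_map,
    Function.comp_apply, eval_multiset_prod] at h2
  have h3 := h2.symm
  rw [Multiset.prod_eq_zero_iff, Multiset.mem_map] at h3
  obtain ⟨r, hr, hr0⟩ := h3
  refine ⟨r, ?_, ?_⟩
  · have := (mem_roots hm.ne_zero).mp hr
    simpa [sub_eq_zero] using this
  · exact (sub_eq_zero.mp hr0).symm

end helpers


/-- Let k be an algebraically closed field of characteristic zero, X a reduced scheme locally of finite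
type over k, F an O_X-module, d ≥ 1 an integer and τ, τ' : F → O_X two O_X-linear maps whose d-th
symmetric powers agree, in the sense that for every open U and all sections a_1, …, a_d of F over U
the products τ(a_1)⋯τ(a_d) and τ'(a_1)⋯τ'(a_d) coincide in Γ(U, O_X). Then for every point η of X
whose local ring is a field (a generic point of an irreducible component) there is a d-th root of
unity ξ in k such that, for every section a of F over an open containing η, the germ of τ'(a) at η
is ξ times the germ of τ(a). The published statement is for a coherent module on a projective nodal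
curve and concludes that τ' = ξ τ with one root of unity ξ on each connected component; that form
fails for the union of two lines meeting at a node, F the ideal of the node, τ the inclusion and τ'
equal to τ on one line and to −τ on the other (d = 2), so the conclusion is stated here at each
generic point, i.e. per irreducible component, which is what the stalkwise argument yields. -/
theorem result
    (k : Type u) [Field k] [IsAlgClosed k] [CharZero k]
    (X : Scheme.{u}) [X.Over (Spec (CommRingCat.of k))]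
    [LocallyOfFiniteType (X ↘ Spec (CommRingCat.of k))] [AlgebraicGeometry.IsReduced X]
    (F : X.Modules) (τ τ' : F ⟶ Coh.structureModule X) (d : ℕ) (hd : 1 ≤ d)
    (hS : ∀ (U : X.Opens) (a : Fin d → Γ(F, U)),
      (∏ i, (τ.app U (a i) : Γ(X, U)) : Γ(X, U)) = (∏ i, (τ'.app U (a i) : Γ(X, U)) : Γ(X, U)))
    (η : X) (hη : IsField (X.presheaf.stalk η)) :
    ∃ ξ : k, ξ ^ d = 1 ∧ ∀ (U : X.Opens) (hU : η ∈ U) (a : Γ(F, U)),
      (X.presheaf.germ U η hU (τ'.app U a : Γ(X, U)) : X.presheaf.stalk η) =
        Curv2.stalkMap k X η ξ * X.presheaf.germ U η hU (τ.app U a : Γ(X, U)) := by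
  classical
  haveI : IsDomain (X.presheaf.stalk η) := hη.isDomain
  obtain ⟨d', rfl⟩ : ∃ d', d = d' + 1 := ⟨d - 1, by omega⟩
  -- products of germs
  have hprod : ∀ (U : X.Opens) (hU : η ∈ U) (a : Fin (d' + 1) → Γ(F, U)),
      ∏ i, (X.presheaf.germ U η hU).hom (τ.app U (a i) : Γ(X, U)) =
        ∏ i, (X.presheaf.germ U η hU).hom (τ'.app U (a i) : Γ(X, U)) := by
    intro U hU a
    have := congrArg (X.presheaf.germ U η hU).hom (hS U a)
    rwa [map_prod, map_prod] at this
  -- powers
  have hpow : ∀ (U : X.Opens) (hU : η ∈ U) (a : Γ(F, U)),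
      ((X.presheaf.germ U η hU).hom (τ.app U a : Γ(X, U))) ^ (d' + 1) =
        ((X.presheaf.germ U η hU).hom (τ'.app U a : Γ(X, U))) ^ (d' + 1) := by
    intro U hU a
    have := hprod U hU (fun _ => a)
    simpa using this
  -- mixed
  have hmix : ∀ (U : X.Opens) (hU : η ∈ U) (a b : Γ(F, U)),
      (X.presheaf.germ U η hU).hom (τ.app U a : Γ(X, U)) *
        ((X.presheaf.germ U η hU).hom (τ.app U b : Γ(X, U))) ^ d' =
      (X.presheaf.germ U η hU).hom (τ'.app U a : Γ(X, U)) *
        ((X.presheaf.germ U η hU).hom (τ'.app U b : Γ(X, U))) ^ d' := by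
    intro U hU a b
    have := hprod U hU (Fin.cons a (fun _ => b))
    simpa [Fin.prod_univ_succ] using this
  by_cases hall : ∀ (U : X.Opens) (hU : η ∈ U) (a : Γ(F, U)),
      (X.presheaf.germ U η hU).hom (τ.app U a : Γ(X, U)) = 0
  · refine ⟨1, one_pow _, fun U hU a => ?_⟩
    have h1 := hpow U hU a
    rw [hall U hU a, zero_pow (Nat.succ_ne_zero d')] at h1
    have h2 : (X.presheaf.germ U η hU).hom (τ'.app U a : Γ(X, U)) = 0 :=
      pow_eq_zero_iff (Nat.succ_ne_zero d') |>.mp h1.symm
    show (X.presheaf.germ U η hU).hom (τ'.app U a : Γ(X, U)) = _ * (X.presheaf.germ U η hU).hom _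
    rw [h2, hall U hU a, mul_zero]
  · push Not at hall
    obtain ⟨U₀, hU₀, a₀, ht₀⟩ := hall
    obtain ⟨u, hu⟩ := hη.mul_inv_cancel ht₀
    set t₀ := (X.presheaf.germ U₀ η hU₀).hom (τ.app U₀ a₀ : Γ(X, U₀)) with ht₀def
    set t₀' := (X.presheaf.germ U₀ η hU₀).hom (τ'.app U₀ a₀ : Γ(X, U₀)) with ht₀'def
    have hζd : (t₀' * u) ^ (d' + 1) = 1 := by
      rw [mul_pow, ← hpow U₀ hU₀ a₀, ← mul_pow, hu, one_pow]
    obtain ⟨ξ, hξ, hξζ⟩ := exists_root_of_unity (Curv2.stalkMap k X η) (d' + 1) (by omega)
      (t₀' * u) hζd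
    have ht₀'eq : t₀' = (t₀' * u) * t₀ := by
      rw [mul_assoc, mul_comm u, hu, mul_one]
    refine ⟨ξ, hξ, fun U hU a => ?_⟩
    show (X.presheaf.germ U η hU).hom (τ'.app U a : Γ(X, U)) = _ * (X.presheaf.germ U η hU).hom _
    rw [hξζ]
    -- restrict to the intersection
    set W := U ⊓ U₀ with hW
    have hWη : η ∈ W := ⟨hU, hU₀⟩
    let iU : W ⟶ U := homOfLE inf_le_left
    let iU₀ : W ⟶ U₀ := homOfLE inf_le_right
    have h := hmix W hWη (F.presheaf.map iU.op a) (F.presheaf.map iU₀.op a₀)
    rw [germ_app_res τ iU η hWη a, germ_app_res τ' iU η hWη a, germ_app_res τ iU₀ η hWη a₀,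
      germ_app_res τ' iU₀ η hWη a₀] at h
    change _ * t₀ ^ d' = _ * t₀' ^ d' at h
    -- now algebra in the domain
    set ta := (X.presheaf.germ U η hU).hom (τ.app U a : Γ(X, U)) with hta
    set ta' := (X.presheaf.germ U η hU).hom (τ'.app U a : Γ(X, U)) with hta'
    have ht₀pow : t₀ ^ d' ≠ 0 := pow_ne_zero _ ht₀
    have h3 : ta' * (t₀' * u) ^ d' * t₀ ^ d' = ta * t₀ ^ d' := by
      rw [h]
      conv_rhs => rw [ht₀'eq]
      ring
    have h4 : ta' * (t₀' * u) ^ d' = ta := mul_right_cancel₀ ht₀pow h3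
    calc ta' = ta' * (t₀' * u) ^ (d' + 1) := by rw [hζd, mul_one]
      _ = (t₀' * u) * (ta' * (t₀' * u) ^ d') := by ring
      _ = (t₀' * u) * ta := by rw [h4]


end Groth.Agent.S18912
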