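import Groth.Statements.S18914
import Mathlib
import Groth.Agent.Lib.Helper7TorsionFreeAss

set_option autoImplicit false
set_option linter.style.haveILetI false
universe u
open CategoryTheory CategoryTheory.Limits AlgebraicGeometry
open TFNodal

namespace Groth.Agent.S18914

/-- Let k be an algebraically closed field of characteristic zero, X a reduced proper curve over k (a
proper k-scheme of dimension one), and E, F₁, F₂ coherent O_X-modules that are torsion free (every
stalk is a torsion free module over the local ring: no nonzero element is killed by a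
non-zero-divisor). Let q₁ : E → F₁ and q₂ : E → F₂ be epimorphisms, U a dense open subset of X and φ
: F₁|_U ≅ F₂|_U an isomorphism of the restricted quotients, q₁|_U ≫ φ = q₂|_U. Then there is an
isomorphism of quotients ψ : F₁ ≅ F₂, q₁ ≫ ψ = q₂, whose restriction to U is φ. -/
theorem result
    (k : Type u) [Field k] [IsAlgClosed k] [CharZero k]
    (X : Scheme.{u}) [X.Over (Spec (CommRingCat.of k))] [IsProper (X ↘ Spec (CommRingCat.of k))]
    [AlgebraicGeometry.IsReduced X] (hdim : topologicalKrullDim X = 1)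
    (E F₁ F₂ : X.Modules) (hE : Coh.IsCoh E) (hF₁ : Coh.IsCoh F₁) (hF₂ : Coh.IsCoh F₂)
    (htE : TorSh.IsTorsionFree E) (ht₁ : TorSh.IsTorsionFree F₁) (ht₂ : TorSh.IsTorsionFree F₂)
    (q₁ : E ⟶ F₁) (q₂ : E ⟶ F₂) [Epi q₁] [Epi q₂]
    (U : X.Opens) (hU : Dense (U : Set X))
    (φ : F₁.restrict U.ι ≅ F₂.restrict U.ι)
    (hφ : (Scheme.Modules.restrictFunctor U.ι).map q₁ ≫ φ.hom = (Scheme.Modules.restrictFunctor U.ι).map q₂) :
    ∃ ψ : F₁ ≅ F₂, q₁ ≫ ψ.hom = q₂ ∧ (Scheme.Modules.restrictFunctor U.ι).map ψ.hom = φ.hom := by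
  haveI : IsLocallyNoetherian X :=
    LocallyOfFiniteType.isLocallyNoetherian (X ↘ Spec (CommRingCat.of k))
  haveI : CompactSpace X :=
    QuasiCompact.compactSpace_of_compactSpace (X ↘ Spec (CommRingCat.of k))
  haveI : IsNoetherian X := {}
  haveI : F₁.IsQuasicoherent := hF₁.1
  haveI : F₂.IsQuasicoherent := hF₂.1
  have hass : ∀ (F : X.Modules), TorSh.IsTorsionFree F → ∀ y ∈ AssSch.Ass F, y ∈ U :=
    fun F htF y hy =>
      Groth.Agent.Lib.Helper7.TorsionFreeAss.mem_of_dense_of_maximalIdeal_eq_bot y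
        (Groth.Agent.Lib.Helper7.TorsionFreeAss.maximalIdeal_stalk_eq_bot_of_isAssPoint F htF y hy)
        U hU
  have hφ' : (Scheme.Modules.restrictFunctor U.ι).map q₂ ≫ φ.inv =
      (Scheme.Modules.restrictFunctor U.ι).map q₁ := by
    rw [← hφ, Category.assoc, Iso.hom_inv_id, Category.comp_id]
  have h12 : kernel.ι q₁ ≫ q₂ = 0 := by
    apply Groth.Agent.Lib.Helper7.TorsionFreeAss.hom_eq_zero_of_restrict_eq_zero _ U (hass F₂ ht₂)
    rw [Functor.map_comp, ← hφ, ← Category.assoc, ← Functor.map_comp, kernel.condition,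
      Functor.map_zero, zero_comp]
  have h21 : kernel.ι q₂ ≫ q₁ = 0 := by
    apply Groth.Agent.Lib.Helper7.TorsionFreeAss.hom_eq_zero_of_restrict_eq_zero _ U (hass F₁ ht₁)
    rw [Functor.map_comp, ← hφ', ← Category.assoc, ← Functor.map_comp, kernel.condition,
      Functor.map_zero, zero_comp]
  let ψ : F₁ ⟶ F₂ := Abelian.epiDesc q₁ q₂ h12
  let ψ' : F₂ ⟶ F₁ := Abelian.epiDesc q₂ q₁ h21
  have hψ : q₁ ≫ ψ = q₂ := Abelian.comp_epiDesc q₁ q₂ h12
  have hψ' : q₂ ≫ ψ' = q₁ := Abelian.comp_epiDesc q₂ q₁ h21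
  have h1 : ψ ≫ ψ' = 𝟙 F₁ := by
    rw [← cancel_epi q₁, ← Category.assoc, hψ, hψ', Category.comp_id]
  have h2 : ψ' ≫ ψ = 𝟙 F₂ := by
    rw [← cancel_epi q₂, ← Category.assoc, hψ', hψ, Category.comp_id]
  refine ⟨⟨ψ, ψ', h1, h2⟩, hψ, ?_⟩
  haveI : Epi ((Scheme.Modules.restrictFunctor U.ι).map q₁) := inferInstance
  rw [← cancel_epi ((Scheme.Modules.restrictFunctor U.ι).map q₁), ← Functor.map_comp]
  change (Scheme.Modules.restrictFunctor U.ι).map (q₁ ≫ ψ) = _
  rw [hψ, hφ]

end Groth.Agent.S18914
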