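import Groth.Statements.S18916
import Mathlib
import Groth.Agent.Lib.Helper7TorsionFreeAss
import Groth.Agent.Lib.Helper28HomShRefl2
import Groth.Agent.Lib.Helper23UnitStalk

set_option autoImplicit false
set_option linter.style.haveILetI false
universe u
open CategoryTheory CategoryTheory.Limits AlgebraicGeometry
open TFNodal

namespace Groth.Agent.S18916

/-- if the maximal ideal of a Noetherian local ring is associated to a module of homomorphisms
`M → N`, it is associated to `N` -/
theorem isAssociatedPrime_of_hom {R M N : Type*} [CommRing R] [IsLocalRing R] [IsNoetherianRing R]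
    [AddCommGroup M] [Module R M] [AddCommGroup N] [Module R N]
    (h : IsAssociatedPrime (IsLocalRing.maximalIdeal R) (M →ₗ[R] N)) :
    IsAssociatedPrime (IsLocalRing.maximalIdeal R) N := by
  obtain ⟨hprime, φ, hφ⟩ := isAssociatedPrime_iff.1 h
  have hφ0 : φ ≠ 0 := by
    intro h0
    have : (1 : R) ∈ IsLocalRing.maximalIdeal R := by
      rw [hφ, Submodule.mem_colon_singleton, Submodule.mem_bot, h0, smul_zero]
    exact hprime.ne_top ((Ideal.eq_top_iff_one _).2 this)
  obtain ⟨a, ha⟩ : ∃ a, φ a ≠ 0 := by
    by_contra hno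
    push_neg at hno
    exact hφ0 (LinearMap.ext hno)
  refine isAssociatedPrime_iff.2 ⟨hprime, φ a, ?_⟩
  have hle : IsLocalRing.maximalIdeal R ≤ (⊥ : Submodule R N).colon {φ a} := by
    intro r hr
    have h1 : r • φ = 0 := by
      have : r ∈ (⊥ : Submodule R (M →ₗ[R] N)).colon {φ} := hφ ▸ hr
      rwa [Submodule.mem_colon_singleton, Submodule.mem_bot] at this
    rw [Submodule.mem_colon_singleton, Submodule.mem_bot]
    have h2 : (r • φ) a = 0 := by rw [h1]; rfl
    exact h2
  have hne : (⊥ : Submodule R N).colon {φ a} ≠ ⊤ := by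
    intro htop
    have : (1 : R) ∈ (⊥ : Submodule R N).colon {φ a} := by rw [htop]; trivial
    rw [Submodule.mem_colon_singleton, Submodule.mem_bot, one_smul] at this
    exact ha this
  exact ((IsLocalRing.maximalIdeal.isMaximal R).eq_of_le hne hle)

/-- Let k be an algebraically closed field of characteristic zero, X a reduced proper curve over k (a
proper k-scheme of dimension one) without isolated points (no closed point is open, i.e. X is
one-dimensional at every point) and F a coherent O_X-module. Then the dual 𝓗om(F, O_X) is torsion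
free: no closed point of X is an associated point of it. -/
theorem result
    (k : Type u) [Field k] [IsAlgClosed k] [CharZero k]
    (X : Scheme.{u}) [X.Over (Spec (CommRingCat.of k))] [IsProper (X ↘ Spec (CommRingCat.of k))]
    [AlgebraicGeometry.IsReduced X] (hdim : topologicalKrullDim X = 1)
    (hpure : ∀ x : X, IsClosed ({x} : Set X) → ¬ IsOpen ({x} : Set X))
    (F : X.Modules) (hF : Coh.IsCoh F) (x : X) (hx : IsClosed ({x} : Set X)) :
    ¬ Curv2.IsAssPoint (RefHull.dual F) x := by
  haveI : IsLocallyNoetherian X :=
    LocallyOfFiniteType.isLocallyNoetherian (X ↘ Spec (CommRingCat.of k))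
  haveI : CompactSpace X :=
    QuasiCompact.compactSpace_of_compactSpace (X ↘ Spec (CommRingCat.of k))
  haveI : IsNoetherian X := {}
  intro hAss
  let e1 := LinearEquiv.ofBijective (RefHull.evalStalk F (Coh.structureModule X) x)
    (Groth.Agent.Lib.Helper28.HomSh.evalStalk_bijective_of_isCoh F (Coh.structureModule X) hF x)
  have h1 : IsAssociatedPrime (IsLocalRing.maximalIdeal (X.presheaf.stalk x))
      (F.presheaf.stalk x →ₗ[X.presheaf.stalk x] (Coh.structureModule X).presheaf.stalk x) :=
    (e1.isAssociatedPrime_iff).1 hAss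
  have h2 := isAssociatedPrime_of_hom h1
  have h3 : IsAssociatedPrime (IsLocalRing.maximalIdeal (X.presheaf.stalk x))
      (X.presheaf.stalk x) :=
    ((Groth.Agent.Lib.Helper23.UnitStalk.unitStalkEquiv x).isAssociatedPrime_iff).2 h2
  have hbot := Groth.Agent.Lib.Helper7.TorsionFreeAss.maximalIdeal_eq_bot_of_mem_ass_self h3
  have hgen := Groth.Agent.Lib.Helper7.TorsionFreeAss.mem_genericPoints_of_maximalIdeal_eq_bot x hbot
  obtain ⟨o, ho, hne, hsub⟩ :=
    TopologicalSpace.NoetherianSpace.exists_isOpen_nonempty_subset_irreducibleComponent _ hgen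
  rw [hx.closure_eq] at hsub
  have : o = {x} := by
    apply Set.Subset.antisymm hsub
    obtain ⟨z, hz⟩ := hne
    intro w hw
    rw [Set.mem_singleton_iff] at hw
    rw [hw, ← Set.mem_singleton_iff.1 (hsub hz)]
    exact hz
  exact hpure x hx (this ▸ ho)

end Groth.Agent.S18916
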