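import Groth.Statements.S1892
import Mathlib
import Groth.Agent.S1891

set_option autoImplicit false
universe u
open CategoryTheory CategoryTheory.Limits AlgebraicGeometry
open Grpd

namespace Groth.Agent.S1892

section Aux
open Groth.Agent.Lib.Helper2.Grpd Groth.Agent.S1891
variable {S : Scheme.{u}} {G₁ G₂ : Grpd.GroupoidScheme S} (a : Grpd.GroupoidScheme.Hom G₁ G₂)

lemma i_mem_closure (r : G₂.R) (hr : r ∈ closure (Set.range a.fR)) :
    G₂.i r ∈ closure (Set.range a.fR) := by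
  have h1 : G₂.i '' (closure (Set.range a.fR)) ⊆ closure (G₂.i '' Set.range a.fR) :=
    image_closure_subset_closure_image G₂.i.continuous
  have h2 : G₂.i '' Set.range a.fR ⊆ Set.range a.fR := by
    rintro _ ⟨_, ⟨x, rfl⟩, rfl⟩
    refine ⟨G₁.i x, ?_⟩
    rw [← Scheme.Hom.comp_apply, ← Scheme.Hom.comp_apply, hom_i]
  exact closure_mono h2 (h1 ⟨r, hr, rfl⟩)

lemma comp_mem_closure (k : Type u) [Field k] (eU : G₂.U ≅ Spec (CommRingCat.of k)) [IsIso a.fU]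
    {T : Scheme.{u}} (ρ : T ⟶ G₂.R) (x : T ⟶ G₁.R) (h : ρ ≫ G₂.s = (x ≫ a.fR) ≫ G₂.t) (τ : T)
    (hτ : ρ τ ∈ closure (Set.range a.fR)) :
    comp G₂ ρ (x ≫ a.fR) h τ ∈ closure (Set.range a.fR) := by
  have hUn : Nonempty G₂.U := ⟨eU.inv (IsLocalRing.closedPoint k)⟩
  have hUi : IsIntegral G₂.U := isIntegral_of_isOpenImmersion eU.hom
  have hUs : Subsingleton G₂.U := eU.hom.homeomorph.subsingleton
  set π1 := pullback.fst G₂.s (a.fR ≫ G₂.t) with hπ1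
  set π2 := pullback.snd G₂.s (a.fR ≫ G₂.t) with hπ2
  have hm : π1 ≫ G₂.s = (π2 ≫ a.fR) ≫ G₂.t := by rw [Category.assoc]; exact pullback.condition
  set m' := comp G₂ π1 (π2 ≫ a.fR) hm with hm'
  have hopen : IsOpenMap π1 := by
    have : UniversallyOpen (a.fR ≫ G₂.t) := inferInstance
    have : UniversallyOpen π1 := inferInstance
    exact π1.isOpenMap
  have hsub : π1 ⁻¹' (closure (Set.range a.fR)) ⊆ m' ⁻¹' (closure (Set.range a.fR)) := by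
    rw [hopen.preimage_closure_eq_closure_preimage π1.continuous]
    apply closure_minimal _ (isClosed_closure.preimage m'.continuous)
    rintro q ⟨x₁, hx₁⟩
    apply subset_closure
    obtain ⟨q', hq1, hq2⟩ :=
      Scheme.Pullback.exists_preimage_pullback (f := π1) (g := a.fR) q x₁ hx₁.symm
    set f1 := pullback.fst π1 a.fR with hf1
    set x₁' := pullback.snd π1 a.fR with hx₁'
    have hc : f1 ≫ π1 = x₁' ≫ a.fR := pullback.condition
    have hs : x₁' ≫ G₁.s = (f1 ≫ π2) ≫ G₁.t := by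
      rw [← cancel_mono a.fU]
      calc (x₁' ≫ G₁.s) ≫ a.fU = x₁' ≫ (G₁.s ≫ a.fU) := Category.assoc _ _ _
        _ = x₁' ≫ (a.fR ≫ G₂.s) := by rw [a.comm_s]
        _ = (x₁' ≫ a.fR) ≫ G₂.s := (Category.assoc _ _ _).symm
        _ = (f1 ≫ π1) ≫ G₂.s := by rw [hc]
        _ = f1 ≫ (π1 ≫ G₂.s) := Category.assoc _ _ _
        _ = f1 ≫ ((π2 ≫ a.fR) ≫ G₂.t) := by rw [hm]
        _ = (f1 ≫ π2) ≫ (a.fR ≫ G₂.t) := by simp only [Category.assoc]
        _ = (f1 ≫ π2) ≫ (G₁.t ≫ a.fU) := congrArg (fun z => (f1 ≫ π2) ≫ z) a.comm_t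
        _ = ((f1 ≫ π2) ≫ G₁.t) ≫ a.fU := (Category.assoc _ _ _).symm
    have e1 : comp G₁ x₁' (f1 ≫ π2) hs ≫ a.fR = f1 ≫ m' := by
      rw [Groth.Agent.S1891.hom_comp, hm', precomp_comp]
      exact comp_congr G₂ _ hc.symm (Category.assoc _ _ _)
    refine ⟨comp G₁ x₁' (f1 ≫ π2) hs q', ?_⟩
    rw [← Scheme.Hom.comp_apply, e1, Scheme.Hom.comp_apply, hq1]
  let ℓ : T ⟶ pullback G₂.s (a.fR ≫ G₂.t) := pullback.lift ρ x (by rw [h, Category.assoc])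
  have hℓ : ℓ ≫ m' = comp G₂ ρ (x ≫ a.fR) h := by
    rw [hm', precomp_comp]
    exact comp_congr G₂ _ (pullback.lift_fst _ _ _) (by rw [← Category.assoc, pullback.lift_snd])
  have hℓ1 : ℓ ≫ π1 = ρ := pullback.lift_fst _ _ _
  have h3 : ℓ τ ∈ π1 ⁻¹' (closure (Set.range a.fR)) := by
    rw [Set.mem_preimage, ← Scheme.Hom.comp_apply, hℓ1]
    exact hτ
  have h4 := hsub h3
  rw [← hℓ]
  exact h4

end Aux


/-- Let (U₁, R₁, s, t, c) and (U₂, R₂, s, t, c) be groupoid schemes over S with U₂ isomorphic to Spec k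
for a field k, and a : R₁ → R₂ a morphism of groupoid schemes which is an isomorphism on objects. If
a(R₁) is locally closed in R₂ then it is closed. (A groupoid scheme carries U, R, s, t, c, e, i over
S satisfying the groupoid axioms on T-points.) -/
theorem result (S : Scheme.{u}) (G₁ G₂ : Grpd.GroupoidScheme S) (k : Type u) [Field k] (eU : G₂.U ≅ Spec (CommRingCat.of k)) (a : Grpd.GroupoidScheme.Hom G₁ G₂) [IsIso a.fU] (hlc : IsLocallyClosed (Set.range ⇑a.fR)) : IsClosed (Set.range ⇑a.fR) := by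
  classical
  obtain ⟨O, C, hO, hC, hY⟩ := hlc
  have hYO : Set.range a.fR ⊆ O := by rw [hY]; exact Set.inter_subset_left
  have hYC : closure (Set.range a.fR) ⊆ C := by
    apply closure_minimal _ hC
    rw [hY]; exact Set.inter_subset_right
  have hOC : O ∩ closure (Set.range a.fR) ⊆ Set.range a.fR := by
    intro x hx
    rw [hY]
    exact ⟨hx.1, hYC hx.2⟩
  rw [← closure_subset_iff_isClosed]
  intro r hr
  let W : G₂.R.Opens := ⟨O, hO⟩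
  let Z := Spec (G₂.R.residueField r)
  let aZ : Z ⟶ G₂.R := G₂.R.fromSpecResidueField r
  have hOp := Groth.Agent.S1889.result S G₂ k eU W Z aZ
  set p1 := pullback.fst (aZ ≫ G₂.s) (W.ι ≫ G₂.t) with hp1
  set p2 := pullback.snd (aZ ≫ G₂.s) (W.ι ≫ G₂.t) with hp2
  have hm : (p1 ≫ aZ) ≫ G₂.s = (p2 ≫ W.ι) ≫ G₂.t :=
    (Category.assoc _ _ _).trans (pullback.condition.trans (Category.assoc _ _ _).symm)
  set m := Groth.Agent.Lib.Helper2.Grpd.comp G₂ (p1 ≫ aZ) (p2 ≫ W.ι) hm with hmdef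
  have hO' : IsOpen (Set.range m) := hOp
  -- identity lies in W
  have he : G₂.e = inv a.fU ≫ G₁.e ≫ a.fR := by
    rw [Groth.Agent.S1891.hom_e, IsIso.inv_hom_id_assoc]
  have hεW : Set.range (aZ ≫ G₂.s ≫ G₂.e) ⊆ Set.range W.ι := by
    rw [Scheme.Opens.range_ι]
    rintro _ ⟨z, rfl⟩
    apply hYO
    show (aZ ≫ G₂.s ≫ G₂.e) z ∈ Set.range a.fR
    rw [he]
    simp only [Scheme.Hom.comp_apply]
    exact ⟨_, rfl⟩
  let w0 : Z ⟶ W.toScheme := IsOpenImmersion.lift W.ι _ hεW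
  have hw0 : w0 ≫ W.ι = aZ ≫ G₂.s ≫ G₂.e := IsOpenImmersion.lift_fac _ _ _
  let γ : Z ⟶ pullback (aZ ≫ G₂.s) (W.ι ≫ G₂.t) := pullback.lift (𝟙 Z) w0 (by
    rw [Category.id_comp, ← Category.assoc w0, hw0, Category.assoc, Category.assoc, G₂.e_t,
      Category.comp_id])
  have hγm : γ ≫ m = aZ := by
    rw [hmdef, Groth.Agent.Lib.Helper2.Grpd.precomp_comp]
    have e1 : γ ≫ p1 ≫ aZ = aZ := by
      rw [← Category.assoc, hp1, pullback.lift_fst, Category.id_comp]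
    have e2 : γ ≫ p2 ≫ W.ι = aZ ≫ G₂.s ≫ G₂.e := by
      rw [← Category.assoc, hp2, pullback.lift_snd, hw0]
    rw [Groth.Agent.Lib.Helper2.Grpd.comp_congr G₂ _ e1 e2]
    exact Groth.Agent.Lib.Helper2.Grpd.comp_e G₂ aZ _ rfl _
  have hZne : Nonempty Z := inferInstance
  obtain ⟨z0⟩ := hZne
  have hrO : r ∈ Set.range m := by
    refine ⟨γ z0, ?_⟩
    rw [← Scheme.Hom.comp_apply, hγm]
    exact Scheme.fromSpecResidueField_apply _ _
  obtain ⟨x, hxO, hxW⟩ := mem_closure_iff.mp hr _ hO' hrO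
  obtain ⟨z, rfl⟩ := hxO
  obtain ⟨y, hy⟩ := hxW
  obtain ⟨q, hq1, hq2⟩ := Scheme.Pullback.exists_preimage_pullback (f := m) (g := a.fR) z y hy.symm
  set π1 := pullback.fst m a.fR with hπ1
  set υ := pullback.snd m a.fR with hυ
  have hQ : π1 ≫ m = υ ≫ a.fR := pullback.condition
  let ω : pullback m a.fR ⟶ G₂.R := π1 ≫ p2 ≫ W.ι
  -- the new part: ω q lies in the closure, hence in the image
  have hρs : (π1 ≫ p1 ≫ aZ) ≫ G₂.s = ω ≫ G₂.t := by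
    show (π1 ≫ p1 ≫ aZ) ≫ G₂.s = (π1 ≫ p2 ≫ W.ι) ≫ G₂.t
    simp only [Category.assoc]
    have := hm
    simp only [Category.assoc] at this
    rw [this]
  have hρω : Groth.Agent.Lib.Helper2.Grpd.comp G₂ (π1 ≫ p1 ≫ aZ) ω hρs = υ ≫ a.fR := by
    have e0' : π1 ≫ Groth.Agent.Lib.Helper2.Grpd.comp G₂ (p1 ≫ aZ) (p2 ≫ W.ι) hm
        = υ ≫ a.fR := hQ
    rw [← e0', Groth.Agent.Lib.Helper2.Grpd.precomp_comp]
  have hrq : (π1 ≫ p1 ≫ aZ) q = r := by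
    simp only [Scheme.Hom.comp_apply]
    exact Scheme.fromSpecResidueField_apply _ _
  have his : ((π1 ≫ p1 ≫ aZ) ≫ G₂.i) ≫ G₂.s = (υ ≫ a.fR) ≫ G₂.t := by
    rw [Category.assoc _ G₂.i, G₂.i_s, ← hρω, Groth.Agent.Lib.Helper2.Grpd.comp_t]
  have hωeq : ω = Groth.Agent.Lib.Helper2.Grpd.comp G₂ ((π1 ≫ p1 ≫ aZ) ≫ G₂.i) (υ ≫ a.fR) his := by
    have h1 := Groth.Agent.Lib.Helper2.Grpd.i_comp_comp G₂ (π1 ≫ p1 ≫ aZ) ω hρs
      (by rw [Category.assoc _ G₂.i, G₂.i_s, Groth.Agent.Lib.Helper2.Grpd.comp_t])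
    rw [← h1]
    exact Groth.Agent.Lib.Helper2.Grpd.comp_congr G₂ _ rfl hρω
  have hωcl : ω q ∈ closure (Set.range a.fR) := by
    rw [hωeq]
    apply comp_mem_closure a k eU
    rw [Scheme.Hom.comp_apply, hrq]
    exact i_mem_closure a r hr
  have hωW : ω q ∈ Set.range a.fR := by
    apply hOC
    refine ⟨?_, hωcl⟩
    show (π1 ≫ p2 ≫ W.ι) q ∈ O
    rw [Scheme.Hom.comp_apply, Scheme.Hom.comp_apply]
    exact (p2 (π1 q)).2
  obtain ⟨y', hy'⟩ := hωW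
  obtain ⟨τ, hτ1, hτ2⟩ :=
    Scheme.Pullback.exists_preimage_pullback (f := ω) (g := a.fR) q y' hy'.symm
  set π := pullback.fst ω a.fR with hπ
  set w' := pullback.snd ω a.fR with hw'def
  have hw' : π ≫ ω = w' ≫ a.fR := pullback.condition
  let x' : pullback ω a.fR ⟶ G₁.R := π ≫ υ
  let rT : pullback ω a.fR ⟶ G₂.R := π ≫ π1 ≫ p1 ≫ aZ
  have hrω : rT ≫ G₂.s = (π ≫ ω) ≫ G₂.t := by
    show (π ≫ π1 ≫ p1 ≫ aZ) ≫ G₂.s = (π ≫ π1 ≫ p2 ≫ W.ι) ≫ G₂.t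
    simp only [Category.assoc]
    have := hm
    simp only [Category.assoc] at this
    rw [this]
  have hx' : Groth.Agent.Lib.Helper2.Grpd.comp G₂ rT (π ≫ ω) hrω = x' ≫ a.fR := by
    have e0 : (π ≫ π1) ≫ m = x' ≫ a.fR := by
      rw [Category.assoc, hQ, ← Category.assoc]
    have e0' : (π ≫ π1) ≫ Groth.Agent.Lib.Helper2.Grpd.comp G₂ (p1 ≫ aZ) (p2 ≫ W.ι) hm
        = x' ≫ a.fR := e0
    rw [← e0', Groth.Agent.Lib.Helper2.Grpd.precomp_comp]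
    exact Groth.Agent.Lib.Helper2.Grpd.comp_congr G₂ _ (by simp only [rT, Category.assoc])
      (by simp only [ω, Category.assoc])
  have hs : x' ≫ G₁.s = w' ≫ G₁.s := by
    rw [← cancel_mono a.fU]
    calc (x' ≫ G₁.s) ≫ a.fU = x' ≫ (G₁.s ≫ a.fU) := Category.assoc _ _ _
      _ = x' ≫ (a.fR ≫ G₂.s) := by rw [a.comm_s]
      _ = (x' ≫ a.fR) ≫ G₂.s := (Category.assoc _ _ _).symm
      _ = (π ≫ ω) ≫ G₂.s := by rw [← hx', Groth.Agent.Lib.Helper2.Grpd.comp_s]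
      _ = (w' ≫ a.fR) ≫ G₂.s := by rw [hw']
      _ = w' ≫ (a.fR ≫ G₂.s) := Category.assoc _ _ _
      _ = w' ≫ (G₁.s ≫ a.fU) := by rw [a.comm_s]
      _ = (w' ≫ G₁.s) ≫ a.fU := (Category.assoc _ _ _).symm
  have hc : x' ≫ G₁.s = (w' ≫ G₁.i) ≫ G₁.t := by rw [hs, Category.assoc, G₁.i_t]
  let ρ' : pullback ω a.fR ⟶ G₁.R := Groth.Agent.Lib.Helper2.Grpd.comp G₁ x' (w' ≫ G₁.i) hc
  have hρ' : ρ' ≫ a.fR = rT := by
    show Groth.Agent.Lib.Helper2.Grpd.comp G₁ x' (w' ≫ G₁.i) hc ≫ a.fR = rT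
    rw [Groth.Agent.S1891.hom_comp]
    have e2 : (w' ≫ G₁.i) ≫ a.fR = (π ≫ ω) ≫ G₂.i := by
      rw [Category.assoc, Groth.Agent.S1891.hom_i, ← Category.assoc, ← hw']
    rw [Groth.Agent.Lib.Helper2.Grpd.comp_congr G₂ _ hx'.symm e2]
    exact Groth.Agent.Lib.Helper2.Grpd.comp_comp_i G₂ rT (π ≫ ω) hrω _
  refine ⟨ρ' τ, ?_⟩
  rw [← Scheme.Hom.comp_apply, hρ']
  show (π ≫ π1 ≫ p1 ≫ aZ) τ = r
  simp only [Scheme.Hom.comp_apply]
  exact Scheme.fromSpecResidueField_apply _ _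

end Groth.Agent.S1892
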