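import Groth.Statements.S18922
import Mathlib
import Groth.Agent.Lib.Helper7TorsionFreeAss

set_option autoImplicit false
set_option linter.style.haveILetI false
universe u
open CategoryTheory CategoryTheory.Limits AlgebraicGeometry
open TFNodal

namespace Groth.Agent.S18922

/-- Let k be an algebraically closed field of characteristic zero, X a reduced proper curve over k (a
proper k-scheme of dimension one) and F a coherent torsion free O_X-module (every stalk a torsion
free module over the local ring). Let x be a point of X and U an open subset containing x such that
every irreducible component of U passes through x, that is, every point of U whose local ring is a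
field specializes to x. Then the map from the sections of F over U to the stalk F_x is injective.
(The source states this for x a node of a connected nodal curve and U inside the union of the
irreducible components through x, meeting no other node.) -/
theorem result
    (k : Type u) [Field k] [IsAlgClosed k] [CharZero k]
    (X : Scheme.{u}) [X.Over (Spec (CommRingCat.of k))] [IsProper (X ↘ Spec (CommRingCat.of k))]
    [AlgebraicGeometry.IsReduced X] (hdim : topologicalKrullDim X = 1)
    (F : X.Modules) (hF : Coh.IsCoh F) (htF : TorSh.IsTorsionFree F)
    (x : X) (U : X.Opens) (hxU : x ∈ U)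
    (hU : ∀ y : X, y ∈ U → IsField (X.presheaf.stalk y) → x ∈ closure ({y} : Set X)) :
    Function.Injective (F.presheaf.germ U x hxU) := by
  haveI : IsLocallyNoetherian X :=
    LocallyOfFiniteType.isLocallyNoetherian (X ↘ Spec (CommRingCat.of k))
  haveI : F.IsQuasicoherent := hF.1
  rw [injective_iff_map_eq_zero]
  intro s hs
  by_contra hne
  obtain ⟨y, hyU, hyA, hgy⟩ :=
    Groth.Agent.Lib.Helper2.Ass.exists_isWeakAssPoint_of_ne_zero_open F U s hne
  have hyAss : Curv2.IsAssPoint F y :=
    (Groth.Agent.Lib.Helper2.Ass.isAssPoint_iff_isWeakAssPoint F y).2 hyA
  have hbot := Groth.Agent.Lib.Helper7.TorsionFreeAss.maximalIdeal_stalk_eq_bot_of_isAssPoint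
    F htF y hyAss
  have hfield : IsField (X.presheaf.stalk y) := IsLocalRing.isField_iff_maximalIdeal_eq.2 hbot
  have hsp : y ⤳ x := specializes_iff_mem_closure.2 (hU y hyU hfield)
  apply hgy
  have h1 := TopCat.Presheaf.germ_stalkSpecializes F.presheaf (U := U) hxU hsp
  have h2 : F.presheaf.germ U y hyU s =
      (F.presheaf.stalkSpecializes hsp) (F.presheaf.germ U x hxU s) := by
    rw [← h1]; rfl
  rw [h2, hs, map_zero]

end Groth.Agent.S18922
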