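import Groth.Statements.S18927
import Mathlib
-- import your own Groth.Agent.* helpers here

set_option autoImplicit false
set_option linter.style.haveILetI false
set_option linter.unusedSectionVars false
universe u v
open W4c6secantcecovers

namespace Groth.Agent.S18927

open TensorProduct

section Ext

variable (R : Type u) [CommRing R] (r : ℕ)

theorem contr_one (j : Fin r) : ssContr R r j (1 : SSLam R r) = 0 := by
  unfold ssContr
  exact CliffordAlgebra.contractLeft_one (0 : QuadraticForm R (Fin r → R)) _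

theorem contr_ι_mul (j : Fin r) (a : Fin r → R) (b : SSLam R r) :
    ssContr R r j (ExteriorAlgebra.ι R a * b) = a j • b - ExteriorAlgebra.ι R a * ssContr R r j b := by
  unfold ssContr
  exact CliffordAlgebra.contractLeft_ι_mul (Q := (0 : QuadraticForm R (Fin r → R))) _ a b

theorem contr_mul (j : Fin r) (n : ℕ) (v : Fin n → (Fin r → R)) (x : SSLam R r) :
    ssContr R r j (ExteriorAlgebra.ιMulti R n v * x) =
      ssContr R r j (ExteriorAlgebra.ιMulti R n v) * x +
        (-1 : R) ^ n • (ExteriorAlgebra.ιMulti R n v * ssContr R r j x) := by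
  induction n generalizing x with
  | zero =>
    rw [ExteriorAlgebra.ιMulti_zero_apply, one_mul, contr_one, zero_mul, zero_add, pow_zero,
      one_smul, one_mul]
  | succ n ih =>
    rw [ExteriorAlgebra.ιMulti_succ_apply, mul_assoc, contr_ι_mul, ih, contr_ι_mul]
    rw [mul_add, sub_mul, smul_mul_assoc, mul_smul_comm, pow_succ, mul_assoc, mul_assoc]
    rw [mul_smul, neg_one_smul R, smul_neg]
    abel

theorem ιMulti_mul (n m : ℕ) (v : Fin n → (Fin r → R)) (w : Fin m → (Fin r → R)) :
    ExteriorAlgebra.ιMulti R n v * ExteriorAlgebra.ιMulti R m w =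
      ExteriorAlgebra.ιMulti R (n + m) (Fin.append v w) := by
  rw [ExteriorAlgebra.ιMulti_apply, ExteriorAlgebra.ιMulti_apply, ExteriorAlgebra.ιMulti_apply,
    ← List.prod_append, ← List.ofFn_fin_append]
  congr 2
  funext i
  induction i using Fin.addCases with
  | left i => simp
  | right i => simp

theorem ιMulti_eq_zero (n : ℕ) (hn : r < n) (g : Fin n → (Fin r → R)) :
    ExteriorAlgebra.ιMulti R n g = 0 := by
  classical
  have hg : g = fun i => ∑ j, g i j • (Pi.single j (1 : R) : Fin r → R) := by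
    funext i
    exact pi_eq_sum_univ' (g i) |>.trans (by simp)
  rw [hg]
  rw [← AlternatingMap.coe_multilinearMap, MultilinearMap.map_sum]
  refine Finset.sum_eq_zero (fun σ _ => ?_)
  rw [MultilinearMap.map_smul_univ]
  have hσ : ¬ Function.Injective σ := by
    intro h
    have := Fintype.card_le_of_injective σ h
    simp at this
    omega
  rw [AlternatingMap.coe_multilinearMap,
    AlternatingMap.map_eq_zero_of_not_injective _ _ (fun h => hσ ?_), smul_zero]
  intro a b hab
  by_contra hne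
  obtain ⟨x, y, hxy, hne'⟩ : ∃ x y, σ x = σ y ∧ x ≠ y := by
    by_contra hcon
    push Not at hcon
    exact hσ (fun x y h => hcon x y h)
  have : (fun i => (Pi.single (σ i) (1 : R) : Fin r → R)) x =
      (fun i => (Pi.single (σ i) (1 : R) : Fin r → R)) y := by
    simp only [hxy]
  exact hne' (h this)

end Ext
section Main

variable (R : Type u) [CommRing R] (r : ℕ) (N : Type v) [AddCommGroup N] [Module R N]

theorem pair_tmul (β : N →ₗ[R] N →ₗ[R] R) (k : ℕ) (w h : SSLam R r)
    (s t : MvPolynomial (Fin r) R) (n m : N) :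
    ssPair R r N β k ((w ⊗ₜ[R] s) ⊗ₜ[R] n) ((h ⊗ₜ[R] t) ⊗ₜ[R] m) =
      ((-1 : R) ^ (k.choose 2) * β n m) • ((w * h) ⊗ₜ[R] (s * t)) := by
  simp only [ssPair, ssPairAux, LinearMap.smul_apply, TensorProduct.curry_apply,
    LinearMap.comp_apply, LinearEquiv.coe_coe, TensorProduct.tensorTensorTensorComm_tmul,
    TensorProduct.map_tmul, LinearMap.mul'_apply, TensorProduct.lift.tmul,
    TensorProduct.rid_tmul, Algebra.TensorProduct.tmul_mul_tmul, mul_smul]

theorem delta_tmul (φ : Fin r → (N →ₗ[R] N)) (w : SSLam R r)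
    (s : MvPolynomial (Fin r) R) (n : N) :
    ssDelta R r N φ ((w ⊗ₜ[R] s) ⊗ₜ[R] n) =
      ∑ j : Fin r, (((ssContr R r j w) ⊗ₜ[R] (MvPolynomial.X j * s)) ⊗ₜ[R] n -
        ((ssContr R r j w) ⊗ₜ[R] s) ⊗ₜ[R] (φ j n)) := by
  simp only [ssDelta, LinearMap.sum_apply, LinearMap.add_apply, LinearMap.smul_apply, ssDKoszul,
    ssDAct, TensorProduct.map_tmul, LinearMap.mulLeft_apply, LinearMap.id_apply]
  refine Finset.sum_congr rfl (fun j _ => ?_)
  rw [sub_eq_add_neg]
  congr 1


open TensorProduct in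
/-- Let R be a commutative ring, E = R^r the free module with its coordinate basis, S = R[X_1, …, X_r]
(the symmetric algebra of E), and N an R-module carrying R-linear operators φ_j (the action of the
j-th basis vector of E) and an R-bilinear form β with β(φ_j n, m) = β(n, φ_j m) for every j. On (ΛE
⊗ S) ⊗ N — all terms Λ^k(S ⊗ E) ⊗ N of the Scheja–Storch complex at once — let δ be the differential
sending (e_1 ∧ ⋯ ∧ e_k) ⊗ s ⊗ n to Σ_i (-1)^(i-1) (e_1 ∧ ⋯ ê_i ⋯ ∧ e_k) ⊗ x(e_i) s ⊗ n + Σ_i (-1)^i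
(e_1 ∧ ⋯ ê_i ⋯ ∧ e_k) ⊗ s ⊗ e_i · n, and pair a term u = ω ⊗ s ⊗ n of degree k with v = η ⊗ t ⊗ m by
⟨u, v⟩_k = (-1)^(k choose 2) β(n, m) · (ω ∧ η) ⊗ s t. Then the differential is adjoint to itself for
this pairing in complementary degrees: for u = (e_0 ∧ ⋯ ∧ e_k) ⊗ s ⊗ n of degree k + 1 ≤ r and v =
(f_1 ∧ ⋯ ∧ f_(r-k)) ⊗ t ⊗ m of degree r - k, ⟨δ u, v⟩_k = ⟨u, δ v⟩_(k+1). (The source takes E
finitely generated projective and N a module over the ambient algebra with a pairing satisfying ⟨f,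
g h⟩ = ⟨g f, h⟩; the proof runs on a basis, which is the form stated here, with the action of E
recorded by the operators φ_j.) -/
theorem result
    (R : Type u) [CommRing R] (r : ℕ) (N : Type v) [AddCommGroup N] [Module R N]
    (φ : Fin r → (N →ₗ[R] N)) (β : N →ₗ[R] N →ₗ[R] R)
    (hβ : ∀ (j : Fin r) (n m : N), β (φ j n) m = β n (φ j m))
    (k : ℕ) (hk : k < r)
    (e : Fin (k + 1) → (Fin r → R)) (f : Fin (r - k) → (Fin r → R))
    (s t : MvPolynomial (Fin r) R) (n m : N) :
    W4c6secantcecovers.ssPair R r N β k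
        (W4c6secantcecovers.ssDelta R r N φ ((ExteriorAlgebra.ιMulti R (k + 1) e ⊗ₜ[R] s) ⊗ₜ[R] n))
        ((ExteriorAlgebra.ιMulti R (r - k) f ⊗ₜ[R] t) ⊗ₜ[R] m) =
      W4c6secantcecovers.ssPair R r N β (k + 1)
        ((ExteriorAlgebra.ιMulti R (k + 1) e ⊗ₜ[R] s) ⊗ₜ[R] n)
        (W4c6secantcecovers.ssDelta R r N φ ((ExteriorAlgebra.ιMulti R (r - k) f ⊗ₜ[R] t) ⊗ₜ[R] m)) := by
  set ω := ExteriorAlgebra.ιMulti R (k + 1) e with hω
  set η := ExteriorAlgebra.ιMulti R (r - k) f with hη
  have hzero : ω * η = 0 := by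
    rw [hω, hη, ιMulti_mul]
    exact ιMulti_eq_zero R r _ (by omega) _
  have hkey : ∀ j, ssContr R r j ω * η = (-1 : R) ^ k • (ω * ssContr R r j η) := by
    intro j
    have h1 := contr_mul R r j (k + 1) e η
    rw [← hω, hzero, map_zero] at h1
    have h2 : ssContr R r j ω * η = -((-1 : R) ^ (k + 1) • (ω * ssContr R r j η)) :=
      eq_neg_of_add_eq_zero_left h1.symm
    rw [h2, pow_succ, mul_smul, neg_one_smul R, smul_neg, neg_neg]
  have hsign : (-1 : R) ^ ((k + 1).choose 2) = (-1 : R) ^ (k.choose 2) * (-1 : R) ^ k := by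
    rw [Nat.choose_succ_succ' k 1, Nat.choose_one_right, pow_add, mul_comm]
  rw [delta_tmul, delta_tmul, map_sum, map_sum, LinearMap.sum_apply]
  refine Finset.sum_congr rfl (fun j _ => ?_)
  rw [map_sub, map_sub, LinearMap.sub_apply, pair_tmul, pair_tmul, pair_tmul, pair_tmul, hkey,
    hsign, hβ]
  simp only [TensorProduct.smul_tmul', smul_smul]
  have e1 : MvPolynomial.X j * s * t = s * (MvPolynomial.X j * t) := by ring
  rw [e1, mul_right_comm _ (β n m), mul_right_comm _ (β n (φ j m))]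

end Main

end Groth.Agent.S18927
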