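import Groth.Statements.S18928
import Mathlib.Tactic
import Mathlib.RingTheory.DividedPowers.Basic

set_option autoImplicit false
universe u
open DPow

namespace Groth.Agent.S18928

/-- Let B be a commutative ring, I an ideal of B with a divided power structure, p a prime, r a natural
number, b an element of B and δ an element of I. Then (b + δ)^(p^r) − b^(p^r) lies in the ideal p^r
I. (The source states this for a divided power thickening over the Witt vectors of length n and 0 ≤
r ≤ n; neither restriction is used.) -/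
theorem result {B : Type u} [CommRing B] {I : Ideal B}
    (hI : DividedPowers I) (p : ℕ) [Fact p.Prime] (r : ℕ) (b δ : B) (hδ : δ ∈ I) :
    (b + δ) ^ (p ^ r) - b ^ (p ^ r) ∈ Ideal.span {((p : B) ^ r)} * I := by
  have hN : 0 < p ^ r := pow_pos (Fact.out : p.Prime).pos r
  rw [add_comm b δ, add_pow, Finset.sum_range_succ']
  simp only [pow_zero, one_mul, Nat.sub_zero, Nat.choose_zero_right, Nat.cast_one, mul_one,
    add_sub_cancel_right]
  apply Ideal.sum_mem
  intro m _
  have key : ((m + 1).factorial : B) * (((p ^ r).choose (m + 1) : ℕ) : B) =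
      (p : B) ^ r * (((p ^ r - 1).descFactorial m : ℕ) : B) := by
    have h := Nat.descFactorial_eq_factorial_mul_choose (p ^ r) (m + 1)
    have h2 : (p ^ r).descFactorial (m + 1) = p ^ r * (p ^ r - 1).descFactorial m := by
      obtain ⟨n, hn⟩ : ∃ n, p ^ r = n + 1 := ⟨p ^ r - 1, by omega⟩
      rw [hn, Nat.succ_descFactorial_succ]
      simp
    rw [← Nat.cast_mul, ← h, h2]
    push_cast
    ring
  have hterm : δ ^ (m + 1) * b ^ (p ^ r - (m + 1)) * (((p ^ r).choose (m + 1) : ℕ) : B) =
      (p : B) ^ r * ((((p ^ r - 1).descFactorial m : ℕ) : B) * b ^ (p ^ r - (m + 1)) *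
        hI.dpow (m + 1) δ) := by
    rw [← hI.factorial_mul_dpow_eq_pow hδ]
    calc ((m + 1).factorial : B) * hI.dpow (m + 1) δ * b ^ (p ^ r - (m + 1)) *
          (((p ^ r).choose (m + 1) : ℕ) : B)
        = (((m + 1).factorial : B) * (((p ^ r).choose (m + 1) : ℕ) : B)) *
          (b ^ (p ^ r - (m + 1)) * hI.dpow (m + 1) δ) := by ring
      _ = _ := by rw [key]; ring
  rw [hterm]
  exact Ideal.mul_mem_mul (Ideal.mem_span_singleton_self _)
    (I.mul_mem_left _ (hI.dpow_mem (Nat.succ_ne_zero m) hδ))


end Groth.Agent.S18928
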