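import Groth.Statements.S18929
import Mathlib.Tactic
import Mathlib.RingTheory.DividedPowers.Basic
import Mathlib.RingTheory.WittVector.Truncated
import Groth.Agent.S18928

set_option autoImplicit false
universe u
open DPow

namespace Groth.Agent.S18929

theorem ghost_formula (p : ℕ) [Fact p.Prime] (n : ℕ) {B : Type u} [CommRing B]
    (x : WittVector p B) :
    WittVector.ghostComponent n x =
      ∑ i ∈ Finset.range (n + 1), (p : B) ^ i * (x.coeff i) ^ (p ^ (n - i)) := by
  rw [WittVector.ghostComponent_apply, wittPolynomial_eq_sum_C_mul_X_pow, map_sum]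
  apply Finset.sum_congr rfl
  intro i _
  simp [MvPolynomial.aeval_C]


/-- Let p be a prime, n a natural number, B a commutative ring in which p^n = 0, and I an ideal of B
equipped with divided powers. There is a ring homomorphism θ from the truncated Witt vectors
W_n(B/I) to B such that, for every Witt vector x over B, θ applied to the truncation of the image of
x in W_n(B/I) equals Σ_{i<n} p^i x_i^(p^(n−i)); in particular this sum depends only on the residues
of x_0, …, x_{n−1} modulo I. (The source works with a divided power thickening of an algebra over a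
perfect field and also checks linearity over the Witt vectors of that field; only the ring
homomorphism is asserted here. θ is unique, the truncation-of-reduction map being surjective.) -/
theorem result (p : ℕ) [Fact p.Prime] (n : ℕ)
    {B : Type u} [CommRing B] (hp : (p : B) ^ n = 0) {I : Ideal B} (hI : DividedPowers I) :
    ∃ θ : TruncatedWittVector p n (B ⧸ I) →+* B, ∀ x : WittVector p B, θ (WittVector.truncate n (WittVector.map (Ideal.Quotient.mk I) x)) =
        ∑ i : Fin n, (p : B) ^ (i : ℕ) * (x.coeff i) ^ (p ^ (n - i)) := by
  classical
  set π : WittVector p B →+* TruncatedWittVector p n (B ⧸ I) :=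
    (WittVector.truncate n).comp (WittVector.map (Ideal.Quotient.mk I)) with hπ
  have hπs : Function.Surjective π := by
    rw [hπ, RingHom.coe_comp]
    exact (WittVector.truncate_surjective p n _).comp
      (WittVector.map_surjective _ Ideal.Quotient.mk_surjective)
  have hsum : ∀ x : WittVector p B, WittVector.ghostComponent n x =
      ∑ i : Fin n, (p : B) ^ (i : ℕ) * (x.coeff i) ^ (p ^ (n - i)) := by
    intro x
    rw [ghost_formula, Finset.sum_range_succ, hp, zero_mul, add_zero,
      Finset.sum_range (fun i => (p : B) ^ i * (x.coeff i) ^ (p ^ (n - i)))]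
  have hker : RingHom.ker π ≤ RingHom.ker (WittVector.ghostComponent n : WittVector p B →+* B) := by
    intro x hx
    rw [RingHom.mem_ker] at hx ⊢
    have hxi : ∀ i : Fin n, x.coeff i ∈ I := by
      intro i
      have h1 := (TruncatedWittVector.ext_iff.mp hx) i
      rw [hπ, RingHom.comp_apply, WittVector.coeff_truncate, WittVector.map_coeff,
        TruncatedWittVector.coeff_zero] at h1
      exact Ideal.Quotient.eq_zero_iff_mem.mp h1
    rw [hsum]
    apply Finset.sum_eq_zero
    intro i _
    have h2 := Groth.Agent.S18928.result hI p (n - i) 0 (x.coeff i) (hxi i)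
    have hpos : p ^ (n - (i : ℕ)) ≠ 0 := pow_ne_zero _ (Fact.out : p.Prime).ne_zero
    rw [zero_add, zero_pow hpos, sub_zero, Ideal.mem_span_singleton_mul] at h2
    obtain ⟨z, _, hz⟩ := h2
    rw [← hz, ← mul_assoc, ← pow_add]
    have : (i : ℕ) + (n - i) = n := by omega
    rw [this, hp, zero_mul]
  refine ⟨π.liftOfRightInverse (Function.surjInv hπs) (Function.rightInverse_surjInv hπs)
    ⟨WittVector.ghostComponent n, hker⟩, ?_⟩
  intro x
  have h := RingHom.liftOfRightInverse_comp_apply π (Function.surjInv hπs)
    (Function.rightInverse_surjInv hπs) ⟨WittVector.ghostComponent n, hker⟩ x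
  have h' : π x = WittVector.truncate n (WittVector.map (Ideal.Quotient.mk I) x) := rfl
  rw [← h', h]
  exact hsum x


end Groth.Agent.S18929
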