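import Groth.Statements.S18930
import Mathlib.Tactic
import Mathlib.RingTheory.WittVector.Truncated

set_option autoImplicit false
universe u
open DPow

namespace Groth.Agent.S18930

/-- Let p be a prime, n ≥ 1, B a commutative ring with p^n = 0 and A = B/pB. Let θ : W_n(A) → B be the
ring homomorphism which sends the reduction of a Witt vector (x_0, …, x_{n−1}) over B to Σ_{i<n} p^i
x_i^(p^(n−i)), let J_n be its kernel and let I_n be the set of a in W_n(A) whose zeroth component
satisfies a_0^(p^n) = 0. Then J_n + (p) ⊆ I_n. (In the source B is the ring of global sections of a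
scheme over the Witt vectors of length n of a perfect field.) -/
theorem result (p : ℕ) [Fact p.Prime] (n : ℕ) (hn : 0 < n)
    {B : Type u} [CommRing B] (hp : (p : B) ^ n = 0)
    (θ : TruncatedWittVector p n (B ⧸ (Ideal.span {(p : B)})) →+* B)
    (hθ : ∀ x : WittVector p B, θ (WittVector.truncate n (WittVector.map (Ideal.Quotient.mk (Ideal.span {(p : B)})) x)) =
        ∑ i : Fin n, (p : B) ^ (i : ℕ) * (x.coeff i) ^ (p ^ (n - i)))
    (a : TruncatedWittVector p n (B ⧸ (Ideal.span {(p : B)})))
    (ha : a ∈ RingHom.ker θ ⊔ Ideal.span {(p : TruncatedWittVector p n (B ⧸ (Ideal.span {(p : B)})))}) :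
    (TruncatedWittVector.coeff ⟨0, hn⟩ a) ^ (p ^ n) = 0 := by
  classical
  obtain ⟨m, rfl⟩ : ∃ m, n = m + 1 := ⟨n - 1, by omega⟩
  set A := B ⧸ (Ideal.span {(p : B)}) with hA
  have hpA : (p : A) = 0 := by
    have : (p : A) = Ideal.Quotient.mk (Ideal.span {(p : B)}) (p : B) := by simp
    rw [this, Ideal.Quotient.eq_zero_iff_mem]
    exact Ideal.mem_span_singleton_self _
  obtain ⟨j, hj, z, hz, rfl⟩ := Submodule.mem_sup.mp ha
  obtain ⟨c, rfl⟩ := Ideal.mem_span_singleton'.mp hz
  -- lift everything to Witt vectors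
  obtain ⟨J, rfl⟩ := WittVector.truncate_surjective p (m + 1) A j
  obtain ⟨C, rfl⟩ := WittVector.truncate_surjective p (m + 1) A c
  obtain ⟨x, rfl⟩ := WittVector.map_surjective (Ideal.Quotient.mk (Ideal.span {(p : B)}))
    Ideal.Quotient.mk_surjective J
  have h1 : (WittVector.truncate (m + 1)) ((WittVector.map (Ideal.Quotient.mk (Ideal.span {(p : B)}))) x) +
      (WittVector.truncate (m + 1)) C * (p : TruncatedWittVector p (m + 1) A) =
      WittVector.truncate (m + 1)
        ((WittVector.map (Ideal.Quotient.mk (Ideal.span {(p : B)}))) x + C * (p : WittVector p A)) := by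
    rw [map_add, map_mul, map_natCast]
  rw [h1, WittVector.coeff_truncate]
  have h2 : ((WittVector.map (Ideal.Quotient.mk (Ideal.span {(p : B)}))) x + C * (p : WittVector p A)).coeff
      ((⟨0, hn⟩ : Fin (m + 1)) : ℕ) = Ideal.Quotient.mk (Ideal.span {(p : B)}) (x.coeff 0) := by
    show ((WittVector.map (Ideal.Quotient.mk (Ideal.span {(p : B)}))) x + C * (p : WittVector p A)).coeff 0 = _
    rw [WittVector.add_coeff_zero, WittVector.mul_coeff_zero, WittVector.map_coeff,
      ← WittVector.constantCoeff_apply (p : WittVector p A), map_natCast, hpA, mul_zero, add_zero]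
  rw [h2, ← map_pow, Ideal.Quotient.eq_zero_iff_mem]
  -- use θ j = 0
  rw [RingHom.mem_ker, hθ, Fin.sum_univ_succ] at hj
  simp only [Fin.val_zero, pow_zero, one_mul, Nat.sub_zero, Fin.val_succ] at hj
  have h3 : x.coeff 0 ^ p ^ (m + 1) =
      -∑ i : Fin m, (p : B) ^ ((i : ℕ) + 1) * x.coeff ((i : ℕ) + 1) ^ p ^ (m + 1 - ((i : ℕ) + 1)) :=
    eq_neg_of_add_eq_zero_left hj
  rw [h3]
  apply Ideal.neg_mem_iff _ |>.mpr
  apply Ideal.sum_mem
  intro i _
  rw [pow_succ', mul_assoc]
  exact Ideal.mul_mem_right _ _ (Ideal.mem_span_singleton_self _)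


end Groth.Agent.S18930
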