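import Groth.Statements.S18931
import Mathlib.Tactic
import Mathlib.RingTheory.WittVector.Truncated

set_option autoImplicit false
universe u
open DPow

namespace Groth.Agent.S18931

section helpers

variable (p : ℕ) [Fact p.Prime] {B : Type u} [CommRing B]

/-- iterating surjectivity of Frobenius on `B/p`. -/
theorem exists_pow_add (hF : Function.Surjective (fun y : B ⧸ (Ideal.span {(p : B)}) => y ^ p))
    (k : ℕ) (b : B) : ∃ y c : B, b = y ^ (p ^ k) + (p : B) * c := by
  have h : ∀ k : ℕ, ∀ a : B ⧸ (Ideal.span {(p : B)}), ∃ y, y ^ (p ^ k) = a := by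
    intro k
    induction k with
    | zero => intro a; exact ⟨a, by simp⟩
    | succ k ih =>
      intro a
      obtain ⟨y, hy⟩ := ih a
      obtain ⟨z, hz⟩ := hF y
      refine ⟨z, ?_⟩
      rw [pow_succ', pow_mul]
      simp only at hz
      rw [hz, hy]
  obtain ⟨y, hy⟩ := h k (Ideal.Quotient.mk _ b)
  obtain ⟨y', rfl⟩ := Ideal.Quotient.mk_surjective y
  rw [← map_pow, Ideal.Quotient.eq, Ideal.mem_span_singleton'] at hy
  obtain ⟨c, hc⟩ := hy
  refine ⟨y', -c, ?_⟩
  have : y' ^ p ^ k - b = c * (p : B) := hc.symm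
  linear_combination (-1 : B) * this

/-- every element is a ghost-like sum. -/
theorem exists_sum_eq (n : ℕ) (hp : (p : B) ^ n = 0)
    (hF : Function.Surjective (fun y : B ⧸ (Ideal.span {(p : B)}) => y ^ p)) (b : B) :
    ∃ y : ℕ → B, b = ∑ i ∈ Finset.range n, (p : B) ^ i * (y i) ^ (p ^ (n - i)) := by
  have h : ∀ m : ℕ, ∃ (y : ℕ → B) (c : B),
      b = ∑ i ∈ Finset.range m, (p : B) ^ i * (y i) ^ (p ^ (n - i)) + (p : B) ^ m * c := by
    intro m
    induction m with
    | zero => exact ⟨fun _ => 0, b, by simp⟩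
    | succ m ih =>
      obtain ⟨y, c, hyc⟩ := ih
      obtain ⟨y', c', hc'⟩ := exists_pow_add p hF (n - m) c
      refine ⟨Function.update y m y', c', ?_⟩
      rw [Finset.sum_range_succ, Function.update_self]
      have hsum : ∑ i ∈ Finset.range m, (p : B) ^ i * (Function.update y m y' i) ^ (p ^ (n - i)) =
          ∑ i ∈ Finset.range m, (p : B) ^ i * (y i) ^ (p ^ (n - i)) := by
        apply Finset.sum_congr rfl
        intro i hi
        rw [Function.update_of_ne (Finset.mem_range.mp hi).ne]
      rw [hsum, hyc, hc']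
      ring
  obtain ⟨y, c, hyc⟩ := h n
  refine ⟨y, ?_⟩
  rw [hyc, hp, zero_mul, add_zero]

theorem theta_surjective (n : ℕ) (hp : (p : B) ^ n = 0)
    (hF : Function.Surjective (fun y : B ⧸ (Ideal.span {(p : B)}) => y ^ p))
    (θ : TruncatedWittVector p n (B ⧸ (Ideal.span {(p : B)})) →+* B)
    (hθ : ∀ x : WittVector p B, θ (WittVector.truncate n (WittVector.map (Ideal.Quotient.mk (Ideal.span {(p : B)})) x)) =
        ∑ i : Fin n, (p : B) ^ (i : ℕ) * (x.coeff i) ^ (p ^ (n - i))) :
    Function.Surjective θ := by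
  intro b
  obtain ⟨y, hy⟩ := exists_sum_eq p n hp hF b
  refine ⟨WittVector.truncate n (WittVector.map (Ideal.Quotient.mk (Ideal.span {(p : B)}))
    (WittVector.mk p y)), ?_⟩
  rw [hθ, hy, Finset.sum_range (fun i => (p : B) ^ i * (y i) ^ (p ^ (n - i)))]
  rfl

end helpers


/-- Let p be a prime, n ≥ 1, B a commutative ring with p^n = 0 and A = B/pB, and assume that the p-th
power map of A is surjective. Let θ : W_n(A) → B be the ring homomorphism which sends the reduction
of a Witt vector (x_0, …, x_{n−1}) over B to Σ_{i<n} p^i x_i^(p^(n−i)). Then every a in W_n(A) with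
a_0^(p^n) = 0 lies in ker θ + (p); together with the reverse inclusion, ker θ + (p) is exactly the
set of such a. (In the source B is the ring of global sections of a scheme over the Witt vectors of
length n of a perfect field. The printed argument subtracts a single correction term, which suffices
for n ≤ 2; in general one corrects the components one at a time.) -/
theorem result (p : ℕ) [Fact p.Prime]
    (n : ℕ) (hn : 0 < n) {B : Type u} [CommRing B] (hp : (p : B) ^ n = 0)
    (hF : Function.Surjective (fun y : B ⧸ (Ideal.span {(p : B)}) => y ^ p))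
    (θ : TruncatedWittVector p n (B ⧸ (Ideal.span {(p : B)})) →+* B)
    (hθ : ∀ x : WittVector p B, θ (WittVector.truncate n (WittVector.map (Ideal.Quotient.mk (Ideal.span {(p : B)})) x)) =
        ∑ i : Fin n, (p : B) ^ (i : ℕ) * (x.coeff i) ^ (p ^ (n - i)))
    (a : TruncatedWittVector p n (B ⧸ (Ideal.span {(p : B)}))) (ha : (TruncatedWittVector.coeff ⟨0, hn⟩ a) ^ (p ^ n) = 0) :
    a ∈ RingHom.ker θ ⊔ Ideal.span {(p : TruncatedWittVector p n (B ⧸ (Ideal.span {(p : B)})))} := by
  classical
  have hsurj := theta_surjective p n hp hF θ hθ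
  obtain ⟨m, rfl⟩ : ∃ m, n = m + 1 := ⟨n - 1, by omega⟩
  -- θ a ∈ (p)
  have hmem : θ a ∈ Ideal.span {(p : B)} := by
    obtain ⟨J, rfl⟩ := WittVector.truncate_surjective p (m + 1) _ a
    obtain ⟨x, rfl⟩ := WittVector.map_surjective (Ideal.Quotient.mk (Ideal.span {(p : B)}))
      Ideal.Quotient.mk_surjective J
    rw [WittVector.coeff_truncate] at ha
    have ha' : (Ideal.Quotient.mk (Ideal.span {(p : B)})) (x.coeff 0 ^ p ^ (m + 1)) = 0 := by
      rw [map_pow, ← WittVector.map_coeff]
      exact ha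
    rw [Ideal.Quotient.eq_zero_iff_mem] at ha'
    rw [hθ, Fin.sum_univ_succ]
    simp only [Fin.val_zero, pow_zero, one_mul, Nat.sub_zero, Fin.val_succ]
    apply Ideal.add_mem _ ha'
    apply Ideal.sum_mem
    intro i _
    rw [pow_succ', mul_assoc]
    exact Ideal.mul_mem_right _ _ (Ideal.mem_span_singleton_self _)
  obtain ⟨b, hb⟩ := Ideal.mem_span_singleton'.mp hmem
  obtain ⟨w, rfl⟩ := hsurj b
  rw [Submodule.mem_sup]
  refine ⟨a - w * (p : TruncatedWittVector p (m + 1) _), ?_, w * (p : TruncatedWittVector p (m + 1) _),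
    Ideal.mem_span_singleton'.mpr ⟨w, rfl⟩, by ring⟩
  rw [RingHom.mem_ker, map_sub, map_mul, map_natCast, hb, sub_self]


end Groth.Agent.S18931
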