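import Groth.Statements.S18936
import Mathlib.Tactic
import Mathlib.RingTheory.Localization.AtPrime.Basic
import Mathlib.RingTheory.Localization.Away.Basic
import Mathlib.RingTheory.Noetherian.Basic

set_option autoImplicit false
universe u
open CAlg

namespace Groth.Agent.S18936

/-- Let A be a Noetherian commutative ring, q a prime ideal of A and f an element of A whose image in
the localization A_q is a non-zero-divisor. Then there is an element b of A not in q such that the
image of f in A[1/b] is a non-zero-divisor. -/
theorem result {A : Type u} [CommRing A] [IsNoetherianRing A]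
    (q : Ideal A) [q.IsPrime] (f : A)
    (hf : algebraMap A (Localization.AtPrime q) f ∈ nonZeroDivisors (Localization.AtPrime q)) :
    ∃ b : A, b ∉ q ∧ algebraMap A (Localization.Away b) f ∈ nonZeroDivisors (Localization.Away b) := by
  classical
  -- the annihilator of `f`
  set K : Ideal A := LinearMap.ker (LinearMap.mulLeft A f) with hK
  have hKmem : ∀ x, x ∈ K ↔ f * x = 0 := by
    intro x
    simp [hK, LinearMap.mem_ker]
  -- every element of K is killed by some element outside q
  have hloc : ∀ x ∈ K, ∃ c : A, c ∉ q ∧ c * x = 0 := by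
    intro x hx
    have h1 : algebraMap A (Localization.AtPrime q) f * algebraMap A (Localization.AtPrime q) x = 0 := by
      rw [← map_mul, (hKmem x).mp hx, map_zero]
    have h2 : algebraMap A (Localization.AtPrime q) x = 0 :=
      (mem_nonZeroDivisors_iff.mp hf).1 _ h1
    obtain ⟨m, hm⟩ := (IsLocalization.map_eq_zero_iff q.primeCompl (Localization.AtPrime q) x).mp h2
    exact ⟨m, m.2, hm⟩
  -- K is finitely generated
  obtain ⟨S, hS⟩ : K.FG := IsNoetherian.noetherian K
  have hSK : ∀ s ∈ S, s ∈ K := fun s hs => hS ▸ Submodule.subset_span hs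
  choose! c hc using hloc
  refine ⟨∏ s ∈ S, c s, ?_, ?_⟩
  · intro h
    obtain ⟨s, hs, hcs⟩ := Ideal.IsPrime.prod_mem_iff.mp h
    exact (hc s (hSK s hs)).1 hcs
  · set b := ∏ s ∈ S, c s with hb
    have hbK : ∀ x ∈ K, b * x = 0 := by
      intro x hx
      rw [← hS] at hx
      induction hx using Submodule.span_induction with
      | mem s hs =>
        have hs' : s ∈ S := hs
        rw [hb, ← Finset.mul_prod_erase S c hs', mul_right_comm, (hc s (hSK s hs')).2, zero_mul]
      | zero => simp
      | add x y _ _ hx hy => rw [mul_add, hx, hy, add_zero]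
      | smul a x _ hx => rw [smul_eq_mul, mul_left_comm, hx, mul_zero]
    rw [mem_nonZeroDivisors_iff_right]
    intro z hz
    obtain ⟨⟨x, t⟩, rfl⟩ := IsLocalization.mk'_surjective (Submonoid.powers b) z
    dsimp only at hz ⊢
    rw [mul_comm, IsLocalization.mul_mk'_eq_mk'_of_mul, IsLocalization.mk'_eq_zero_iff] at hz
    obtain ⟨m, hm⟩ := hz
    rw [IsLocalization.mk'_eq_zero_iff]
    have hmx : (m : A) * x ∈ K := by
      rw [hKmem]
      rw [← hm]; ring
    refine ⟨⟨b, Submonoid.mem_powers b⟩ * m, ?_⟩
    have := hbK _ hmx
    simpa [mul_assoc] using this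


end Groth.Agent.S18936
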