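import Groth.Statements.S18942
import Mathlib

set_option autoImplicit false
universe u
open DPow

namespace Groth.Agent.S18942

lemma frobEquiv_pow_apply (p : ℕ) [Fact p.Prime] (k : Type u) [CommRing k] [CharP k p]
    [PerfectRing k p] (i : ℕ) (b : k) :
    ((frobeniusEquiv k p) ^ i) b = b ^ (p ^ i) := by
  induction i generalizing b with
  | zero => simp
  | succ i ih =>
    rw [pow_succ', RingAut.mul_apply, ih, frobeniusEquiv_apply, frobenius_def, ← pow_mul, pow_succ]

lemma frobEquiv_symm_pow_apply (p : ℕ) [Fact p.Prime] (k : Type u) [CommRing k] [CharP k p]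
    [PerfectRing k p] (i : ℕ) (b : k) :
    (((frobeniusEquiv k p).symm) ^ i) (b ^ (p ^ i)) = b := by
  rw [← frobEquiv_pow_apply p k i b]
  have h : ((frobeniusEquiv k p).symm) ^ i * (frobeniusEquiv k p) ^ i = 1 := by
    have hs : (frobeniusEquiv k p).symm = (frobeniusEquiv k p)⁻¹ := rfl
    rw [hs, inv_pow, inv_mul_cancel]
  have := DFunLike.congr_fun h b
  rwa [RingAut.mul_apply, RingAut.one_apply] at this


/-- Let p be a prime, k a perfect field of characteristic p, n a natural number and x an element of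
W_n(k), written here as the truncation of a Witt vector x over k. For any Witt vectors y_0, …,
y_{n−1} over k lifting the components of x under the map y ↦ (y_0)^(p^n) (that is, (y_i)_0^(p^n) =
x_i), one has x = Σ_{i<n} p^i y_i^(p^(n−i)) in W_n(k). -/
theorem result (p : ℕ) [Fact p.Prime]
    (k : Type u) [Field k] [CharP k p] [PerfectRing k p] (n : ℕ) (x : WittVector p k)
    (y : Fin n → WittVector p k) (hy : ∀ i : Fin n, ((y i).coeff 0) ^ (p ^ n) = x.coeff i) :
    WittVector.truncate n x =
      WittVector.truncate n (∑ i : Fin n, (p : WittVector p k) ^ (i : ℕ) * (y i) ^ (p ^ (n - i))) := by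
  classical
  rcases Nat.eq_zero_or_pos n with rfl | hnpos
  · apply TruncatedWittVector.ext
    intro i
    exact i.elim0
  obtain ⟨m, rfl⟩ := Nat.exists_eq_succ_of_ne_zero hnpos.ne'
  set RHS := ∑ i : Fin (m + 1), (p : WittVector p k) ^ (i : ℕ) * (y i) ^ (p ^ (m + 1 - i)) with hRHS
  -- Teichmüller series
  set T := ∑ i ∈ Finset.Iic m, (WittVector.teichmuller p
        (((_root_.frobeniusEquiv k p).symm ^ i) (x.coeff i)) * (p : WittVector p k) ^ i) with hT
  have h1 : (p : WittVector p k) ^ (m + 1) ∣ x - T :=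
    WittVector.dvd_sub_sum_teichmuller_iterateFrobeniusEquiv_coeff x m
  have hT' : T = ∑ i : Fin (m + 1), (WittVector.teichmuller p
        (((_root_.frobeniusEquiv k p).symm ^ (i : ℕ)) (x.coeff i)) * (p : WittVector p k) ^ (i : ℕ)) := by
    have hIic : Finset.Iic m = Finset.range (m + 1) := by
      ext z
      simp [Nat.lt_succ_iff]
    rw [hT, hIic]
    exact (Fin.sum_univ_eq_sum_range (fun i => WittVector.teichmuller p
        (((_root_.frobeniusEquiv k p).symm ^ i) (x.coeff i)) * (p : WittVector p k) ^ i) (m + 1)).symm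
  have h2 : (p : WittVector p k) ^ (m + 1) ∣ RHS - T := by
    rw [hRHS, hT', ← Finset.sum_sub_distrib]
    apply Finset.dvd_sum
    intro i _
    set a := (y i).coeff 0 with ha
    have hi : (i : ℕ) ≤ m := Nat.lt_succ_iff.1 i.2
    set j := m + 1 - (i : ℕ) with hj
    have hij : (i : ℕ) + j = m + 1 := by omega
    have hx : x.coeff i = (a ^ (p ^ j)) ^ (p ^ (i : ℕ)) := by
      rw [← hy i, ← pow_mul, ← pow_add, add_comm, hij]
    have hτ : WittVector.teichmuller p (((_root_.frobeniusEquiv k p).symm ^ (i : ℕ)) (x.coeff i))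
        = (WittVector.teichmuller p a) ^ (p ^ j) := by
      rw [hx, frobEquiv_symm_pow_apply, map_pow]
    rw [hτ]
    have hmod : (p : WittVector p k) ∣ y i - WittVector.teichmuller p a := by
      rw [← Ideal.mem_span_singleton, WittVector.mem_span_p_iff_coeff_zero_eq_zero]
      have : (y i - WittVector.teichmuller p a).coeff 0
          = WittVector.constantCoeff (y i - WittVector.teichmuller p a) := rfl
      rw [this, map_sub]
      simp [WittVector.constantCoeff_apply, ha]
    have h3 : (p : WittVector p k) ^ j ∣ (y i) ^ (p ^ j) - (WittVector.teichmuller p a) ^ (p ^ j) :=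
      dvd_trans (pow_dvd_pow _ (Nat.le_succ j)) (dvd_sub_pow_of_dvd_sub hmod j)
    have h4 : (p : WittVector p k) ^ (i : ℕ) * (y i) ^ (p ^ j)
        - (WittVector.teichmuller p a) ^ (p ^ j) * (p : WittVector p k) ^ (i : ℕ)
        = (p : WittVector p k) ^ (i : ℕ) * ((y i) ^ (p ^ j) - (WittVector.teichmuller p a) ^ (p ^ j)) := by
      ring
    have h5 : (p : WittVector p k) ^ (m + 1) = (p : WittVector p k) ^ (i : ℕ) * (p : WittVector p k) ^ j := by
      rw [← pow_add, hij]
    rw [h4, h5]
    exact mul_dvd_mul_left _ h3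
  have hdvd : (p : WittVector p k) ^ (m + 1) ∣ x - RHS := by
    have : x - RHS = (x - T) - (RHS - T) := by ring
    rw [this]
    exact dvd_sub h1 h2
  have hmem : x - RHS ∈ Ideal.span {((p : WittVector p k) ^ (m + 1))} :=
    Ideal.mem_span_singleton.2 hdvd
  rw [WittVector.mem_span_p_pow_iff_le_coeff_eq_zero] at hmem
  have h0 : WittVector.truncate (m + 1) (x - RHS) = 0 := by
    apply TruncatedWittVector.ext
    intro i
    rw [WittVector.coeff_truncate, hmem i i.2]
    simp
  rw [map_sub, sub_eq_zero] at h0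
  exact h0

end Groth.Agent.S18942
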