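import Groth.Statements.S18943
import Mathlib

set_option autoImplicit false
open scoped ContDiff
open CInfGerm

namespace Groth.Agent.S18943

open MeasureTheory Set

noncomputable def G (φ : ℝ → ℝ) (k : ℕ) (x : ℝ) : ℝ := ∫ t in (0:ℝ)..1, t ^ k * φ (t * x)

theorem G_continuous (φ : ℝ → ℝ) (hφ : Continuous φ) (k : ℕ) : Continuous (G φ k) := by
  unfold G
  apply intervalIntegral.continuous_parametric_intervalIntegral_of_continuous'
  exact ((continuous_snd.pow k).mul (hφ.comp (continuous_snd.mul continuous_fst)))

theorem G_hasDerivAt (φ : ℝ → ℝ) (hφ : ContDiff ℝ 1 φ) (k : ℕ) (x₀ : ℝ) :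
    HasDerivAt (G φ k) (G (deriv φ) (k+1) x₀) x₀ := by
  have hφ' : Continuous (deriv φ) := hφ.continuous_deriv le_rfl
  have hφc : Continuous φ := hφ.continuous
  have hdiff : Differentiable ℝ φ := hφ.differentiable one_ne_zero
  obtain ⟨C, hC⟩ := (isCompact_Icc (a := -(|x₀|+1)) (b := |x₀|+1)).exists_bound_of_continuousOn
    hφ'.continuousOn
  have key := intervalIntegral.hasDerivAt_integral_of_dominated_loc_of_deriv_le (μ := volume)
    (a := 0) (b := 1)
    (F := fun x t => t^k * φ (t*x)) (F' := fun x t => t^(k+1) * deriv φ (t*x)) (x₀ := x₀)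
    (s := Metric.ball x₀ 1)
    (bound := fun _ => C) (Metric.ball_mem_nhds x₀ one_pos) ?_ ?_ ?_ ?_ ?_ ?_
  · exact key.2
  · exact Filter.Eventually.of_forall fun x => (Continuous.aestronglyMeasurable
      ((continuous_id.pow k).mul (hφc.comp (continuous_id.mul continuous_const))))
  · exact Continuous.intervalIntegrable
      ((continuous_id.pow k).mul (hφc.comp (continuous_id.mul continuous_const))) _ _
  · exact Continuous.aestronglyMeasurable
      ((continuous_id.pow (k+1)).mul (hφ'.comp (continuous_id.mul continuous_const)))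
  · refine Filter.Eventually.of_forall fun t ht x hx => ?_
    rw [Set.uIoc_of_le zero_le_one] at ht
    have ht0 : 0 ≤ t := ht.1.le
    have ht1 : t ≤ 1 := ht.2
    have hx' : |x - x₀| < 1 := by
      rw [Metric.mem_ball, Real.dist_eq] at hx
      exact hx
    have hxb : |x| ≤ |x₀| + 1 := by
      have := abs_sub_abs_le_abs_sub x x₀
      linarith
    have htx : t * x ∈ Set.Icc (-(|x₀| + 1)) (|x₀| + 1) := by
      rw [Set.mem_Icc, ← abs_le, abs_mul, abs_of_nonneg ht0]
      calc t * |x| ≤ 1 * |x| := mul_le_mul_of_nonneg_right ht1 (abs_nonneg _)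
        _ = |x| := one_mul _
        _ ≤ _ := hxb
    have h1 := hC (t * x) htx
    rw [norm_mul, norm_pow, Real.norm_eq_abs, abs_of_nonneg ht0]
    calc t ^ (k+1) * ‖deriv φ (t * x)‖ ≤ 1 * C :=
          mul_le_mul (pow_le_one₀ ht0 ht1) h1 (norm_nonneg _) zero_le_one
      _ = C := one_mul _
  · exact intervalIntegrable_const
  · refine Filter.Eventually.of_forall fun t _ x _ => ?_
    have h1 : HasDerivAt (fun x => φ (t * x)) (deriv φ (t*x) * t) x := by
      have h2 : HasDerivAt (fun x => t * x) t x := by
        simpa using (hasDerivAt_id x).const_mul t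
      exact (hdiff (t*x)).hasDerivAt.comp x h2
    have h3 := h1.const_mul (t^k)
    have e : t^(k+1) * deriv φ (t*x) = t^k * (deriv φ (t*x) * t) := by ring
    rw [e]
    exact h3

theorem G_contDiff (n : ℕ) : ∀ (φ : ℝ → ℝ), ContDiff ℝ ∞ φ → ∀ k : ℕ, ContDiff ℝ n (G φ k) := by
  induction n with
  | zero =>
    intro φ hφ k
    exact contDiff_zero.mpr (G_continuous φ hφ.continuous k)
  | succ n ih =>
    intro φ hφ k
    have hφ1 : ContDiff ℝ 1 φ := hφ.of_le (by exact_mod_cast le_top)
    have hd : deriv (G φ k) = G (deriv φ) (k + 1) :=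
      funext fun x => (G_hasDerivAt φ hφ1 k x).deriv
    have hφ' : ContDiff ℝ ∞ (deriv φ) := by
      have := (contDiff_succ_iff_deriv (n := ∞) (f := φ)).mp (by simpa using hφ)
      exact this.2.2
    push_cast
    rw [contDiff_succ_iff_deriv]
    refine ⟨fun x => (G_hasDerivAt φ hφ1 k x).differentiableAt, ?_, ?_⟩
    · intro h
      exact absurd h (by simp)
    · rw [hd]
      exact ih (deriv φ) hφ' (k + 1)

theorem hadamard (f : ℝ → ℝ) (hf : ContDiff ℝ ∞ f) (h0 : f 0 = 0) :
    ∃ g : ℝ → ℝ, ContDiff ℝ ∞ g ∧ ∀ x : ℝ, f x = x * g x := by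
  have hf1 : ContDiff ℝ 1 f := hf.of_le (by exact_mod_cast le_top)
  have hf' : ContDiff ℝ ∞ (deriv f) := by
    have := (contDiff_succ_iff_deriv (n := ∞) (f := f)).mp (by simpa using hf)
    exact this.2.2
  refine ⟨G (deriv f) 0, contDiff_infty.mpr fun n => G_contDiff n (deriv f) hf' 0, fun x => ?_⟩
  -- f x = ∫_0^1 d/dt f(t x) dt = x ∫ f'(t x) dt
  have hdiff : Differentiable ℝ f := hf1.differentiable one_ne_zero
  have hcont : Continuous (deriv f) := hf1.continuous_deriv le_rfl
  have h1 : ∫ t in (0:ℝ)..1, deriv f (t * x) * x = f (1 * x) - f (0 * x) := by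
    apply intervalIntegral.integral_eq_sub_of_hasDerivAt (f := fun t => f (t * x))
      (f' := fun t => deriv f (t * x) * x)
    · intro t _
      have h2 : HasDerivAt (fun t => t * x) x t := by
        simpa using (hasDerivAt_id t).mul_const x
      exact (hdiff (t*x)).hasDerivAt.comp t h2
    · exact Continuous.intervalIntegrable
        ((hcont.comp (continuous_id.mul continuous_const)).mul continuous_const) _ _
  rw [one_mul, zero_mul, h0, sub_zero] at h1
  rw [← h1]
  unfold G
  rw [← intervalIntegral.integral_const_mul]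
  apply intervalIntegral.integral_congr
  intro t _
  simp only [pow_zero, one_mul]
  ring

/-- Let f be an infinitely differentiable real-valued function on the real line with f(0) = 0. Then f(x)
= x·g(x) for an infinitely differentiable function g. (The source phrases this for germs at 0: the
maximal ideal of the local ring of germs of smooth functions at the origin is generated by the
coordinate t; the global form stated here is what its argument, smooth extension of f(x)/x across 0,
gives.) -/
theorem result (f : ℝ → ℝ) (hf : ContDiff ℝ ∞ f) (h0 : f 0 = 0) :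
    ∃ g : ℝ → ℝ, ContDiff ℝ ∞ g ∧ ∀ x : ℝ, f x = x * g x := by
  exact hadamard f hf h0

end Groth.Agent.S18943
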