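import Groth.Statements.S18945
import Mathlib
import Groth.Agent.Lib.Helper11QF
import Groth.Agent.S18933
import Groth.Agent.S18934

set_option autoImplicit false
universe u
open CategoryTheory AlgebraicGeometry
open Synt

namespace Groth.Agent.S18945

open Polynomial Groth.Agent.Helper11QF

theorem appLE_comp_fromSpec {X : Scheme.{u}} {V : X.Opens} (hV : IsAffineOpen V)
    (B : CommRingCat.{u}) (ψ : Γ(X, V) ⟶ B)
    (e : (⊤ : (Spec B).Opens) ≤ (Spec.map ψ ≫ hV.fromSpec) ⁻¹ᵁ V) :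
    (Spec.map ψ ≫ hV.fromSpec).appLE V ⊤ e = ψ ≫ (Scheme.ΓSpecIso B).inv := by
  rw [Scheme.Hom.comp_appLE, hV.fromSpec_app_self, Category.assoc, Scheme.Hom.map_appLE' _ le_top,
    Scheme.ΓSpecIso_inv_naturality]
  rfl

/-- `Q F` for a single polynomial is `AdjoinRoot`. -/
noncomputable def oneEquiv {R : Type u} [CommRing R] (f : R[X]) :
    Q (fun _ : Fin 1 => f) ≃ₐ[R] AdjoinRoot f :=
  AlgEquiv.ofAlgHom
    (lift (fun _ : Fin 1 => f) (fun _ => AdjoinRoot.root f) (fun _ => by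
      rw [AdjoinRoot.aeval_eq, AdjoinRoot.mk_self]))
    (AdjoinRoot.liftAlgHom f (Algebra.ofId R (Q (fun _ : Fin 1 => f))) (gen (fun _ : Fin 1 => f) 0) (by
      have := aeval_gen (fun _ : Fin 1 => f) 0
      rw [Polynomial.aeval_def] at this
      exact this))
    (by
      apply AdjoinRoot.algHom_ext
      simp)
    (by
      apply Groth.Agent.Helper11QF.algHom_ext
      intro i
      have : i = 0 := Subsingleton.elim _ _
      subst this
      simp)

theorem synt_root_transfer {R T : Type u} [CommRing R] [CommRing T] [Algebra R T] (p : ℕ)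
    [Fact p.Prime] (a : R) (β : AdjoinRoot (X ^ p - C a : R[X]) ≃+* T)
    (hβ : ∀ r, β (algebraMap R _ r) = algebraMap R T r) :
    Synt.IsSyntomic R T ∧ Module.FaithfullyFlat R T := by
  have hp : p.Prime := Fact.out
  let e : Q (fun _ : Fin 1 => (X ^ p - C a : R[X])) ≃ₐ[R] T :=
    (oneEquiv (X ^ p - C a : R[X])).trans (AlgEquiv.ofRingEquiv (f := β) hβ)
  exact Groth.Agent.S18933.synt_of_equiv _ (fun _ => monic_X_pow_sub_C _ hp.ne_zero)
    (fun _ _ => by rw [natDegree_X_pow_sub_C]; exact hp.pos) e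

section affinePiece

variable (p : ℕ) [Fact p.Prime] {Z : Scheme.{u}} {V : Z.Opens} (hV : IsAffineOpen V) (aV : Γ(Z, V))

/-- the ring `Γ(X,V)[T]/(T^p - a)` -/
noncomputable abbrev BV : CommRingCat.{u} := CommRingCat.of (AdjoinRoot (X ^ p - C aV : Γ(Z, V)[X]))

noncomputable abbrev ψV : Γ(Z, V) ⟶ BV p aV :=
  CommRingCat.ofHom (algebraMap Γ(Z, V) (AdjoinRoot (X ^ p - C aV : Γ(Z, V)[X])))

noncomputable abbrev gV : Spec (BV p aV) ⟶ Z := Spec.map (ψV p aV) ≫ hV.fromSpec

omit [Fact p.Prime] in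
theorem gV_preimage : (⊤ : (Spec (BV p aV)).Opens) ≤ (gV p hV aV) ⁻¹ᵁ V := by
  rw [Scheme.Hom.comp_preimage, hV.fromSpec_preimage_self]
  exact le_of_eq rfl

theorem gV_syntomic : Synt.IsSyntomicMor (gV p hV aV) := by
  intro y
  refine ⟨⟨⊤, isAffineOpen_top _⟩, ⟨V, hV⟩, gV_preimage p hV aV, trivial, ?_⟩
  have h := appLE_comp_fromSpec hV (BV p aV) (ψV p aV) (gV_preimage p hV aV)
  show @Synt.IsSyntomic Γ(Z, V) _ Γ(Spec (BV p aV), ⊤) _
    (((gV p hV aV).appLE V ⊤ (gV_preimage p hV aV)).hom.toAlgebra)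
  rw [h]
  exact (@synt_root_transfer Γ(Z, V) Γ(Spec (BV p aV), ⊤) _ _
    ((ψV p aV ≫ (Scheme.ΓSpecIso (BV p aV)).inv).hom.toAlgebra) p _ aV
    (Scheme.ΓSpecIso (BV p aV)).symm.commRingCatIsoToRingEquiv (fun r => rfl)).1

theorem gV_covers (x : Z) (hx : x ∈ V) : ∃ y, gV p hV aV y = x := by
  have hx' : x ∈ Set.range hV.fromSpec := by rw [hV.range_fromSpec]; exact hx
  obtain ⟨x', rfl⟩ := hx'
  have hff : Module.FaithfullyFlat Γ(Z, V) (AdjoinRoot (X ^ p - C aV : Γ(Z, V)[X])) :=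
    (Groth.Agent.S18934.result p Γ(Z, V) aV).2
  obtain ⟨y, hy⟩ := PrimeSpectrum.comap_surjective_of_faithfullyFlat
    (A := Γ(Z, V)) (B := AdjoinRoot (X ^ p - C aV : Γ(Z, V)[X])) x'
  refine ⟨y, ?_⟩
  rw [Scheme.Hom.comp_apply]
  congr 1

theorem gV_root (a : Γ(Z, ⊤)) (ha : aV = Z.presheaf.map (homOfLE le_top).op a) :
    ∃ b : Γ(Spec (BV p aV), ⊤), b ^ p = (gV p hV aV).appTop a := by
  refine ⟨(Scheme.ΓSpecIso (BV p aV)).inv (AdjoinRoot.root _), ?_⟩
  have h := appLE_comp_fromSpec hV (BV p aV) (ψV p aV) (gV_preimage p hV aV)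
  have h2 : (gV p hV aV).appTop = Z.presheaf.map (homOfLE le_top).op ≫
      (gV p hV aV).appLE V ⊤ (gV_preimage p hV aV) := by
    rw [Scheme.Hom.map_appLE]
    rfl
  rw [h2, h, ← map_pow]
  simp only [CommRingCat.comp_apply, ← ha]
  congr 1
  have := AdjoinRoot.eval₂_root (X ^ p - C aV : Γ(Z, V)[X])
  rw [eval₂_sub, eval₂_pow, eval₂_X, eval₂_C, sub_eq_zero] at this
  exact this

end affinePiece



/-- Let p be a prime, X a scheme and a a global section of the structure sheaf of X. There is a covering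
of X for the syntomic topology, that is a jointly surjective family of syntomic morphisms X_i → X,
such that the restriction of a to each X_i is a p-th power. (The source states the surjectivity of
the p-th power map of the structure sheaf on the small syntomic site of a syntomic scheme over a
perfect field of characteristic p; the covering it uses elsewhere, adjoining a p-th root T^p = a
over affine pieces, gives the statement for every scheme, which is the form given here.) -/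
theorem result (p : ℕ) [Fact p.Prime] (X : Scheme.{u}) (a : Γ(X, ⊤)) :
    ∃ 𝒰 : Scheme.Cover.{u} (Scheme.precoverage @Synt.IsSyntomicMor) X,
      ∀ i : 𝒰.I₀, ∃ b : Γ(𝒰.X i, ⊤), b ^ p = (𝒰.f i).appTop a := by
  refine ⟨Scheme.Cover.mkOfCovers X.affineOpens
    (fun V => Spec (BV p (X.presheaf.map (homOfLE le_top).op a : Γ(X, V.1))))
    (fun V => gV p V.2 (X.presheaf.map (homOfLE le_top).op a : Γ(X, V.1))) ?_ ?_, ?_⟩
  · intro x
    obtain ⟨V, hV, hxV, -⟩ := exists_isAffineOpen_mem_and_subset (X := X) (x := x)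
      (U := ⊤) trivial
    obtain ⟨y, hy⟩ := gV_covers p hV (X.presheaf.map (homOfLE le_top).op a : Γ(X, V)) x hxV
    exact ⟨⟨V, hV⟩, y, hy⟩
  · intro V
    exact gV_syntomic p V.2 _
  · intro V
    exact gV_root p V.2 _ a rfl

end Groth.Agent.S18945
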