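import Groth.Statements.S18946
import Mathlib.RingTheory.Adjoin.Polynomial.Basic
import Mathlib.Algebra.MvPolynomial.Basic
import Mathlib.Tactic.Ring

set_option autoImplicit false
universe u
open scoped BigOperators
open InvQ

namespace Groth.Agent.S18946

open MvPolynomial in
lemma aeval_scale_monomial {k : Type*} [Field k] {ι : Type*} [Fintype ι] [DecidableEq ι]
    (σ : ι → kˣ) (m : ι →₀ ℕ) (c : k) :
    MvPolynomial.aeval (fun i => MvPolynomial.C (σ i : k) * MvPolynomial.X i) (monomial m c) =
      monomial m (c * ∏ i, (σ i : k) ^ (m i)) := by
  rw [aeval_monomial]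
  simp only [mul_pow, ← map_pow]
  rw [Finsupp.prod_mul, monomial_eq (s := m), map_mul]
  rw [Finsupp.prod_fintype _ _ (fun i => by simp), Finsupp.prod_fintype _ _ (fun i => by simp)]
  rw [map_prod]
  simp only [algebraMap_eq]
  ring

open MvPolynomial in
lemma coeff_aeval_scale {k : Type*} [Field k] {ι : Type*} [Fintype ι] [DecidableEq ι]
    (σ : ι → kˣ) (f : MvPolynomial ι k) (m : ι →₀ ℕ) :
    coeff m (MvPolynomial.aeval (fun i => MvPolynomial.C (σ i : k) * MvPolynomial.X i) f) =
      (∏ i, (σ i : k) ^ (m i)) * coeff m f := by
  induction f using MvPolynomial.induction_on' with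
  | monomial m' c =>
    rw [aeval_scale_monomial, coeff_monomial, coeff_monomial]
    split_ifs with h
    · subst h; ring
    · ring
  | add p q hp hq =>
    rw [map_add, coeff_add, coeff_add, hp, hq, mul_add]

/-- Let k be an algebraically closed field of characteristic zero and n a natural number, and let the
torus of (n+1)-tuples of units of k with product 1 act on the polynomial ring k[t_0, ..., t_n] by
rescaling each variable t_i by the i-th unit. A polynomial is fixed by every such rescaling if and
only if it lies in the k-subalgebra generated by the product t_0 t_1 ... t_n. (This is the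
computation of the ring of functions on affine (n+1)-space invariant under the maximal diagonal
torus of the special linear group, identified with the polynomial ring in the single coordinate t =
t_0 ... t_n of the line it maps to by the product map; invariance is tested on k-valued points of
the torus, which over an infinite field is the same as invariance under the group scheme.) -/
theorem result
    (k : Type u) [Field k] [IsAlgClosed k] [CharZero k] (n : ℕ)
    (f : MvPolynomial (Fin (n + 1)) k) :
    (∀ σ : Fin (n + 1) → kˣ, ∏ i, (σ i : k) = 1 →
        MvPolynomial.aeval (fun i => MvPolynomial.C (σ i : k) * MvPolynomial.X i) f = f) ↔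
      f ∈ Algebra.adjoin k ({∏ i : Fin (n + 1), MvPolynomial.X i} : Set (MvPolynomial (Fin (n + 1)) k)) := by
  classical
  set P : MvPolynomial (Fin (n + 1)) k := ∏ i : Fin (n + 1), MvPolynomial.X i with hP
  constructor
  · intro hinv
    -- every monomial in the support has constant exponent
    have hconst : ∀ m ∈ f.support, ∀ i j, m i = m j := by
      intro m hm i j
      by_contra hne
      have hij : i ≠ j := fun h => hne (by rw [h])
      have h2 : (2 : k) ≠ 0 := two_ne_zero
      let u : kˣ := Units.mk0 2 h2
      let σ : Fin (n + 1) → kˣ := Function.update (Function.update (fun _ => 1) i u) j u⁻¹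
      have hσi : σ i = u := by
        simp only [σ]
        rw [Function.update_of_ne hij, Function.update_self]
      have hσj : σ j = u⁻¹ := by
        simp only [σ]
        rw [Function.update_self]
      have hσl : ∀ l, l ≠ i ∧ l ≠ j → σ l = 1 := by
        intro l hl
        simp only [σ]
        rw [Function.update_of_ne hl.2, Function.update_of_ne hl.1]
      have hprod : ∏ l, (σ l : k) = 1 := by
        rw [Fintype.prod_eq_mul i j hij (fun l hl => by rw [hσl l hl]; rfl), hσi, hσj]
        simp [u]
      have h1 := hinv σ hprod
      have h3 := congrArg (MvPolynomial.coeff m) h1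
      rw [coeff_aeval_scale] at h3
      have hc : MvPolynomial.coeff m f ≠ 0 := MvPolynomial.mem_support_iff.mp hm
      have h4 : (∏ l, (σ l : k) ^ (m l)) = 1 := by
        have : ((∏ l, (σ l : k) ^ (m l)) - 1) * MvPolynomial.coeff m f = 0 := by
          rw [sub_mul, h3, one_mul, sub_self]
        rcases mul_eq_zero.mp this with h | h
        · exact sub_eq_zero.mp h
        · exact absurd h hc
      rw [Fintype.prod_eq_mul i j hij (fun l hl => by rw [hσl l hl]; simp), hσi, hσj] at h4
      have h5 : (2 : k) ^ (m i) = (2 : k) ^ (m j) := by
        have h6 : ((u⁻¹ : kˣ) : k) = (2 : k)⁻¹ := by simp [u]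
        have h7 : ((u : kˣ) : k) = 2 := rfl
        rw [h6, h7, inv_pow] at h4
        have h8 : (2 : k) ^ (m j) ≠ 0 := pow_ne_zero _ h2
        field_simp at h4
        exact h4
      have h9 : ((2 ^ (m i) : ℕ) : k) = ((2 ^ (m j) : ℕ) : k) := by
        push_cast; exact h5
      exact hne (Nat.pow_right_injective (le_refl 2) (Nat.cast_injective h9))
    -- hence each monomial is a power of P
    have hmono : ∀ m ∈ f.support, MvPolynomial.monomial m (1 : k) = P ^ (m 0) := by
      intro m hm
      rw [MvPolynomial.monomial_eq, map_one, one_mul,
        Finsupp.prod_fintype _ _ (fun i => by simp), hP, ← Finset.prod_pow]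
      apply Finset.prod_congr rfl
      intro i _
      rw [hconst m hm i 0]
    rw [← MvPolynomial.support_sum_monomial_coeff f]
    apply Subalgebra.sum_mem
    intro m hm
    have : MvPolynomial.monomial m (MvPolynomial.coeff m f) =
        (MvPolynomial.coeff m f) • MvPolynomial.monomial m (1 : k) := by
      rw [MvPolynomial.smul_monomial, smul_eq_mul, mul_one]
    rw [this, hmono m hm]
    apply Subalgebra.smul_mem
    apply Subalgebra.pow_mem
    exact Algebra.subset_adjoin (Set.mem_singleton _)
  · intro hf σ hσ
    rw [Algebra.adjoin_singleton_eq_range_aeval] at hf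
    obtain ⟨q, rfl⟩ := hf
    change (MvPolynomial.aeval (fun i => MvPolynomial.C (σ i : k) * MvPolynomial.X i))
      (Polynomial.aeval P q) = Polynomial.aeval P q
    rw [← Polynomial.aeval_algHom_apply]
    congr 1
    rw [hP, map_prod]
    simp only [MvPolynomial.aeval_X]
    rw [Finset.prod_mul_distrib, ← map_prod, hσ, map_one, one_mul]

end Groth.Agent.S18946
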