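import Groth.Statements.S18948
import Mathlib.Tactic.Group

set_option autoImplicit false
universe u v
open CExt

namespace Groth.Agent.S18948

lemma mem_orbit_conj {H : Type*} [Group H] (x y : H) :
    y ∈ MulAction.orbit (ConjAct H) x ↔ ∃ c : H, c * x * c⁻¹ = y := by
  rw [MulAction.mem_orbit_iff]
  constructor
  · rintro ⟨c, hc⟩
    exact ⟨ConjAct.ofConjAct c, by rw [← hc, ConjAct.smul_def]⟩
  · rintro ⟨c, hc⟩
    exact ⟨ConjAct.toConjAct c, by rw [ConjAct.smul_def, ConjAct.ofConjAct_toConjAct, hc]⟩

/-- Let f : E → G be a surjective homomorphism of groups whose kernel is central in E, and let x ∈ E.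
Then f maps the conjugacy class of x bijectively onto the conjugacy class of f(x) if and only if
every element of G commuting with f(x) is the image of some element of E commuting with x. (In the
source E → G is the central extension, with kernel the roots of unity, attached to a Brauer class of
the classifying stack of a finite tame étale group scheme, and a conjugacy class of E mapping
bijectively onto a given class of G is a marking; the equivalence is stated here for an arbitrary
central extension of abstract groups.) -/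
theorem result {E : Type u} {G : Type v} [Group E] [Group G]
    (f : E →* G) (hf : Function.Surjective f) (hker : f.ker ≤ Subgroup.center E) (x : E) :
    Set.BijOn f (MulAction.orbit (ConjAct E) x) (MulAction.orbit (ConjAct G) (f x)) ↔
      ∀ g : G, g * f x = f x * g → ∃ e : E, f e = g ∧ e * x = x * e := by
  constructor
  · intro h g hg
    obtain ⟨d, rfl⟩ := hf g
    refine ⟨d, rfl, ?_⟩
    have h1 : d * x * d⁻¹ ∈ MulAction.orbit (ConjAct E) x := (mem_orbit_conj x _).mpr ⟨d, rfl⟩
    have h2 : x ∈ MulAction.orbit (ConjAct E) x := MulAction.mem_orbit_self x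
    have h3 : f (d * x * d⁻¹) = f x := by
      rw [map_mul, map_mul, map_inv, hg, mul_inv_cancel_right]
    have h4 := h.injOn h1 h2 h3
    calc d * x = d * x * d⁻¹ * d := by group
      _ = x * d := by rw [h4]
  · intro h
    refine ⟨?_, ?_, ?_⟩
    · intro y hy
      obtain ⟨c, rfl⟩ := (mem_orbit_conj x y).mp hy
      exact (mem_orbit_conj _ _).mpr ⟨f c, by simp⟩
    · intro y hy z hz hyz
      obtain ⟨e, rfl⟩ := (mem_orbit_conj x y).mp hy
      obtain ⟨e', rfl⟩ := (mem_orbit_conj x z).mp hz
      have hcomm : f (e'⁻¹ * e) * f x = f x * f (e'⁻¹ * e) := by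
        have : f e * f x * (f e)⁻¹ = f e' * f x * (f e')⁻¹ := by simpa using hyz
        simp only [map_mul, map_inv]
        calc (f e')⁻¹ * f e * f x = (f e')⁻¹ * (f e * f x * (f e)⁻¹) * f e := by group
          _ = (f e')⁻¹ * (f e' * f x * (f e')⁻¹) * f e := by rw [this]
          _ = f x * ((f e')⁻¹ * f e) := by group
      obtain ⟨c, hc, hcx⟩ := h _ hcomm
      -- a = c⁻¹ * (e'⁻¹ * e) is in the kernel, hence central
      have ha : c⁻¹ * (e'⁻¹ * e) ∈ f.ker := by
        rw [MonoidHom.mem_ker, map_mul, map_inv, hc, inv_mul_cancel]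
      have hcen := Subgroup.mem_center_iff.mp (hker ha) x
      -- (e'⁻¹ e) x = x (e'⁻¹ e)
      have hd : (e'⁻¹ * e) * x = x * (e'⁻¹ * e) := by
        have e1 : e'⁻¹ * e = c * (c⁻¹ * (e'⁻¹ * e)) := by group
        rw [e1]
        calc c * (c⁻¹ * (e'⁻¹ * e)) * x = c * ((c⁻¹ * (e'⁻¹ * e)) * x) := by group
          _ = c * (x * (c⁻¹ * (e'⁻¹ * e))) := by rw [hcen]
          _ = (c * x) * (c⁻¹ * (e'⁻¹ * e)) := by group
          _ = (x * c) * (c⁻¹ * (e'⁻¹ * e)) := by rw [hcx]
          _ = x * (c * (c⁻¹ * (e'⁻¹ * e))) := by group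
      calc e * x * e⁻¹ = e' * ((e'⁻¹ * e) * x) * e⁻¹ := by group
        _ = e' * (x * (e'⁻¹ * e)) * e⁻¹ := by rw [hd]
        _ = e' * x * e'⁻¹ := by group
    · intro y hy
      obtain ⟨c, rfl⟩ := (mem_orbit_conj (f x) y).mp hy
      obtain ⟨d, rfl⟩ := hf c
      exact ⟨d * x * d⁻¹, (mem_orbit_conj x _).mpr ⟨d, rfl⟩, by simp⟩

end Groth.Agent.S18948
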