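import Groth.Statements.S18949
import Mathlib.Tactic.Group

set_option autoImplicit false
universe u v
open CExt

namespace Groth.Agent.S18949

/-- Automorphisms over the base: let f : E → G be a surjective homomorphism of groups with central
kernel A. For every homomorphism χ : G → A the map e ↦ χ(f(e)) · e is an endomorphism of E over G
which is the identity on A; and every endomorphism α of E with f ∘ α = f and α equal to the identity
on A is of this form for exactly one χ. (In the source this identifies the automorphisms of a
central extension fixing its kernel with Hom(G, A), for extensions of profinite étale group schemes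
over a field; stated here for abstract groups.) -/
theorem result {E : Type u} {G : Type v} [Group E] [Group G]
    (f : E →* G) (hf : Function.Surjective f) (hker : f.ker ≤ Subgroup.center E) :
    (∀ χ : G →* f.ker, ∃ α : E →* E, f.comp α = f ∧ (∀ a ∈ f.ker, α a = a) ∧
        ∀ e : E, α e = (χ (f e) : E) * e) ∧
      ∀ α : E →* E, f.comp α = f → (∀ a ∈ f.ker, α a = a) →
        ∃! χ : G →* f.ker, ∀ e : E, α e = (χ (f e) : E) * e := by
  have hcen : ∀ a ∈ f.ker, ∀ e : E, e * a = a * e := fun a ha e =>
    Subgroup.mem_center_iff.mp (hker ha) e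
  constructor
  · intro χ
    have hχ : ∀ g, f (χ g : E) = 1 := fun g => MonoidHom.mem_ker.mp (χ g).2
    let α : E →* E := MonoidHom.mk' (fun e => (χ (f e) : E) * e) (by
      intro e e'
      simp only [map_mul, Subgroup.coe_mul]
      have := hcen _ (χ (f e')).2 e
      calc (χ (f e) : E) * (χ (f e') : E) * (e * e')
          = (χ (f e) : E) * ((χ (f e') : E) * e) * e' := by group
        _ = (χ (f e) : E) * (e * (χ (f e') : E)) * e' := by rw [this]
        _ = (χ (f e) : E) * e * ((χ (f e') : E) * e') := by group)
    refine ⟨α, ?_, ?_, fun e => rfl⟩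
    · ext e
      change f ((χ (f e) : E) * e) = f e
      rw [map_mul, hχ, one_mul]
    · intro a ha
      change (χ (f a) : E) * a = a
      rw [MonoidHom.mem_ker.mp ha, map_one, Subgroup.coe_one, one_mul]
  · intro α hα hαA
    have hfα : ∀ e, f (α e) = f e := fun e => DFunLike.congr_fun hα e
    have hmem : ∀ e, α e * e⁻¹ ∈ f.ker := by
      intro e
      rw [MonoidHom.mem_ker, map_mul, hfα, map_inv, mul_inv_cancel]
    -- well-definedness
    have hwd : ∀ e e' : E, f e = f e' → α e * e⁻¹ = α e' * e'⁻¹ := by
      intro e e' hee
      have ha : e⁻¹ * e' ∈ f.ker := by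
        rw [MonoidHom.mem_ker, map_mul, map_inv, hee, inv_mul_cancel]
      have h1 : e' = e * (e⁻¹ * e') := by group
      have h2 : α e' = α e * (e⁻¹ * e') := by
        conv_lhs => rw [h1, map_mul, hαA _ ha]
      rw [h2]
      group
    let s : G → E := Function.surjInv hf
    have hs : ∀ g, f (s g) = g := Function.surjInv_eq hf
    let χ : G →* f.ker := MonoidHom.mk' (fun g => ⟨α (s g) * (s g)⁻¹, hmem _⟩) (by
      intro g g'
      apply Subtype.ext
      simp only [Subgroup.coe_mul]
      have h1 : α (s (g * g')) * (s (g * g'))⁻¹ = α (s g * s g') * (s g * s g')⁻¹ := by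
        apply hwd
        rw [hs, map_mul, hs, hs]
      rw [h1, map_mul]
      have := hcen _ (hmem (s g')) (s g)⁻¹
      calc α (s g) * α (s g') * (s g * s g')⁻¹
          = α (s g) * ((α (s g') * (s g')⁻¹) * (s g)⁻¹) := by group
        _ = α (s g) * ((s g)⁻¹ * (α (s g') * (s g')⁻¹)) := by
            rw [hcen _ (hmem (s g')) (s g)⁻¹]
        _ = α (s g) * (s g)⁻¹ * (α (s g') * (s g')⁻¹) := by group)
    have hχ : ∀ e, α e = (χ (f e) : E) * e := by
      intro e
      change α e = α (s (f e)) * (s (f e))⁻¹ * e
      rw [← hwd e (s (f e)) (hs (f e)).symm]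
      group
    refine ⟨χ, hχ, ?_⟩
    intro χ' hχ'
    ext g
    obtain ⟨e, rfl⟩ := hf g
    have h1 := hχ e
    have h2 := hχ' e
    rw [h1] at h2
    exact (mul_right_cancel h2).symm

end Groth.Agent.S18949
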