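import Groth.Statements.S18951


set_option autoImplicit false
universe u
open OrbPic

namespace Groth.Agent.S18951

open W4c6brauerbgmalle in
lemma char_eq_of_eqOn (G : Type*) [Group G] (C : Set G) (hC : Subgroup.closure C = ⊤)
    (χ χ' : Additive G →+ QmodZ) (h : ∀ g ∈ C, χ (Additive.ofMul g) = χ' (Additive.ofMul g)) :
    χ = χ' := by
  let H : Subgroup G :=
    { carrier := {g | χ (Additive.ofMul g) = χ' (Additive.ofMul g)}
      mul_mem' := by
        intro a b ha hb
        simp only [Set.mem_setOf_eq] at ha hb ⊢
        rw [ofMul_mul, map_add, map_add, ha, hb]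
      one_mem' := by
        simp only [Set.mem_setOf_eq]
        rw [ofMul_one, map_zero, map_zero]
      inv_mem' := by
        intro a ha
        simp only [Set.mem_setOf_eq] at ha ⊢
        rw [ofMul_inv, map_neg, map_neg, ha] }
  have hH : H = ⊤ := by
    apply top_unique
    rw [← hC, Subgroup.closure_le]
    exact h
  ext g
  have : Additive.toMul g ∈ H := by rw [hH]; trivial
  exact this

/-- Let G be a group and C ⊆ G a subset that generates G. Then the projection (χ, w) ↦ w from the group
of geometric partial orbifold line bundles with respect to C to functions G → ℚ is injective, its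
image contains every conjugation-invariant integer-valued function vanishing at 1 and outside C, and
the group is torsion-free. (The source works with the geometric points of a tame finite étale group
scheme, characters with values in roots of unity and weights on conjugacy classes of the Tate twist;
here these are identified with a group, homomorphisms to ℚ/ℤ and class functions as the source does
after choosing roots of unity. The case C = G ∖ {1} is the statement for full orbifold line
bundles.) -/
theorem result (G : Type u) [Group G] (C : Set G)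
    (hC : Subgroup.closure C = ⊤) :
    Set.InjOn (fun p : (Additive G →+ W4c6brauerbgmalle.QmodZ) × (G → ℚ) => p.2) (W4c6brauerbgmalle.picOrb G C) ∧
      (∀ w ∈ W4c6brauerbgmalle.intWeights G C, ((0 : Additive G →+ W4c6brauerbgmalle.QmodZ), w) ∈ W4c6brauerbgmalle.picOrb G C) ∧
      ∀ (n : ℕ) (p : (Additive G →+ W4c6brauerbgmalle.QmodZ) × (G → ℚ)), p ∈ W4c6brauerbgmalle.picOrb G C → n ≠ 0 →
        n • p = 0 → p = 0 := by
  have hinj : Set.InjOn (fun p : (Additive G →+ W4c6brauerbgmalle.QmodZ) × (G → ℚ) => p.2)
      (W4c6brauerbgmalle.picOrb G C) := by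
    rintro ⟨χ, w⟩ ⟨_, _, _, h4⟩ ⟨χ', w'⟩ ⟨_, _, _, h4'⟩ hw
    simp only at hw
    subst hw
    congr 1
    apply char_eq_of_eqOn G C hC
    intro g hg
    rw [← h4 g hg, ← h4' g hg]
  refine ⟨hinj, ?_, ?_⟩
  · rintro w ⟨h1, h2, h3, h4⟩
    refine ⟨h1, h2, h3, ?_⟩
    intro g _
    obtain ⟨n, hn⟩ := h4 g
    change W4c6brauerbgmalle.toQmodZ (w g) = (0 : Additive G →+ W4c6brauerbgmalle.QmodZ) (Additive.ofMul g)
    rw [AddMonoidHom.zero_apply, hn]
    rw [QuotientAddGroup.mk'_apply, QuotientAddGroup.eq_zero_iff]
    exact ⟨n, by simp⟩
  · intro n p hp hn hnp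
    have h2 : p.2 = 0 := by
      have : n • p.2 = 0 := by
        have := congrArg Prod.snd hnp
        simpa using this
      ext g
      have hg := congrFun this g
      simp only [Pi.smul_apply, Pi.zero_apply, nsmul_eq_mul] at hg
      rcases mul_eq_zero.mp hg with h | h
      · exact absurd (by exact_mod_cast h) hn
      · simpa using h
    exact hinj hp (W4c6brauerbgmalle.picOrb G C).zero_mem (by simpa using h2)

end Groth.Agent.S18951
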