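import Groth.Statements.S18953
import Mathlib.Tactic.Abel

set_option autoImplicit false
universe u v
open OrbPic

namespace Groth.Agent.S18953

/-- Let G₁ and G₂ be groups with subsets C₁ ⊆ G₁ and C₂ ⊆ G₂, and let C ⊆ G₁ × G₂ be the union of C₁ ×
{1} and {1} × C₂. Restricting the character and the weight along the two inclusions G₁ → G₁ × G₂ and
G₂ → G₁ × G₂ is a bijection from the geometric partial orbifold line bundles of G₁ × G₂ with respect
to C onto pairs of geometric partial orbifold line bundles of G₁ with respect to C₁ and of G₂ with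
respect to C₂. (As in the source after a choice of roots of unity, each group stands for the
geometric points of a tame finite étale group scheme, characters are homomorphisms to ℚ/ℤ and
weights are class functions; the source states the Galois-equivariant version, which follows by
taking invariants.) -/
theorem result (G₁ : Type u) (G₂ : Type v) [Group G₁] [Group G₂] (C₁ : Set G₁) (C₂ : Set G₂) :
    Set.BijOn
      (fun p : (Additive (G₁ × G₂) →+ W4c6brauerbgmalle.QmodZ) × (G₁ × G₂ → ℚ) =>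
        ((p.1.comp (MonoidHom.toAdditive (MonoidHom.inl G₁ G₂)), fun g => p.2 (g, 1)),
          (p.1.comp (MonoidHom.toAdditive (MonoidHom.inr G₁ G₂)), fun g => p.2 (1, g))))
      (W4c6brauerbgmalle.picOrb (G₁ × G₂) ((fun g => (g, (1 : G₂))) '' C₁ ∪ (fun g => ((1 : G₁), g)) '' C₂))
      ((W4c6brauerbgmalle.picOrb G₁ C₁ : Set _) ×ˢ (W4c6brauerbgmalle.picOrb G₂ C₂ : Set _)) := by
  classical
  set C : Set (G₁ × G₂) := (fun g => (g, (1 : G₂))) '' C₁ ∪ (fun g => ((1 : G₁), g)) '' C₂ with hCdef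
  have hC : ∀ x : G₁ × G₂, x ∈ C ↔ (x.2 = 1 ∧ x.1 ∈ C₁) ∨ (x.1 = 1 ∧ x.2 ∈ C₂) := by
    rintro ⟨a, b⟩
    simp only [hCdef, Set.mem_union, Set.mem_image, Prod.mk.injEq]
    constructor
    · rintro (⟨g, hg, rfl, rfl⟩ | ⟨g, hg, rfl, rfl⟩)
      · exact Or.inl ⟨rfl, hg⟩
      · exact Or.inr ⟨rfl, hg⟩
    · rintro (⟨rfl, hg⟩ | ⟨rfl, hg⟩)
      · exact Or.inl ⟨a, hg, rfl, rfl⟩
      · exact Or.inr ⟨b, hg, rfl, rfl⟩
  refine ⟨?_, ?_, ?_⟩
  · -- MapsTo
    rintro ⟨χ, w⟩ ⟨h1, h2, h3, h4⟩
    simp only at h1 h2 h3 h4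
    refine ⟨⟨?_, ?_, ?_, ?_⟩, ⟨?_, ?_, ?_, ?_⟩⟩
    · exact h1
    · intro g hg
      change w (g, 1) = 0
      by_cases hgC : (g, (1 : G₂)) ∈ C
      · rcases (hC _).mp hgC with ⟨_, hg'⟩ | ⟨hg1, _⟩
        · exact absurd hg' hg
        · simp only at hg1
          subst hg1
          exact h1
      · exact h2 _ hgC
    · intro g h
      change w (h * g * h⁻¹, 1) = w (g, 1)
      have := h3 (g, 1) (h, 1)
      simpa using this
    · intro g hg
      have hmem : (g, (1 : G₂)) ∈ C := (hC _).mpr (Or.inl ⟨rfl, hg⟩)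
      exact h4 _ hmem
    · exact h1
    · intro g hg
      change w (1, g) = 0
      by_cases hgC : ((1 : G₁), g) ∈ C
      · rcases (hC _).mp hgC with ⟨hg1, _⟩ | ⟨_, hg'⟩
        · simp only at hg1
          subst hg1
          exact h1
        · exact absurd hg' hg
      · exact h2 _ hgC
    · intro g h
      change w (1, h * g * h⁻¹) = w (1, g)
      have := h3 (1, g) (1, h)
      simpa using this
    · intro g hg
      have hmem : ((1 : G₁), g) ∈ C := (hC _).mpr (Or.inr ⟨rfl, hg⟩)
      exact h4 _ hmem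
  · -- InjOn
    rintro ⟨χ, w⟩ ⟨h1, h2, h3, h4⟩ ⟨χ', w'⟩ ⟨h1', h2', h3', h4'⟩ heq
    simp only [Prod.mk.injEq] at heq
    obtain ⟨⟨e1, e2⟩, ⟨e3, e4⟩⟩ := heq
    simp only at h1 h2 h3 h4 h1' h2' h3' h4'
    have hχ : χ = χ' := by
      apply AddMonoidHom.ext
      intro x
      obtain ⟨⟨g₁, g₂⟩, rfl⟩ := Additive.ofMul.surjective x
      have hdecomp : ((g₁, g₂) : G₁ × G₂) = (g₁, 1) * (1, g₂) := by simp
      rw [hdecomp, ofMul_mul, map_add, map_add]
      have a1 := DFunLike.congr_fun e1 (Additive.ofMul g₁)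
      have a2 := DFunLike.congr_fun e3 (Additive.ofMul g₂)
      simp only [AddMonoidHom.coe_comp, Function.comp_apply] at a1 a2
      have b1 : (MonoidHom.toAdditive (MonoidHom.inl G₁ G₂)) (Additive.ofMul g₁) =
          Additive.ofMul ((g₁, 1) : G₁ × G₂) := rfl
      have b2 : (MonoidHom.toAdditive (MonoidHom.inr G₁ G₂)) (Additive.ofMul g₂) =
          Additive.ofMul ((1, g₂) : G₁ × G₂) := rfl
      rw [b1] at a1
      rw [b2] at a2
      rw [a1, a2]
    have hw : w = w' := by
      funext x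
      by_cases hx : x ∈ C
      · rcases (hC _).mp hx with ⟨hx2, _⟩ | ⟨hx1, _⟩
        · obtain ⟨a, b⟩ := x
          simp only at hx2
          subst hx2
          exact congrFun e2 a
        · obtain ⟨a, b⟩ := x
          simp only at hx1
          subst hx1
          exact congrFun e4 b
      · rw [h2 x hx, h2' x hx]
    rw [hχ, hw]
  · -- SurjOn
    rintro ⟨⟨χ₁, w₁⟩, ⟨χ₂, w₂⟩⟩ ⟨⟨h1, h2, h3, h4⟩, ⟨k1, k2, k3, k4⟩⟩
    simp only at h1 h2 h3 h4 k1 k2 k3 k4
    let χ : Additive (G₁ × G₂) →+ W4c6brauerbgmalle.QmodZ :=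
      χ₁.comp (MonoidHom.toAdditive (MonoidHom.fst G₁ G₂)) +
        χ₂.comp (MonoidHom.toAdditive (MonoidHom.snd G₁ G₂))
    have hχ : ∀ a b, χ (Additive.ofMul ((a, b) : G₁ × G₂)) =
        χ₁ (Additive.ofMul a) + χ₂ (Additive.ofMul b) := fun a b => rfl
    let w : G₁ × G₂ → ℚ := fun x => if x.2 = 1 then w₁ x.1 else if x.1 = 1 then w₂ x.2 else 0
    have hw : ∀ a b, w (a, b) = if b = 1 then w₁ a else if a = 1 then w₂ b else 0 := fun a b => rfl
    have conj1 : ∀ (a h : G₁), h * a * h⁻¹ = 1 ↔ a = 1 := by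
      intro a h
      constructor
      · intro hh
        have : a = h⁻¹ * (h * a * h⁻¹) * h := by simp [mul_assoc]
        rw [this, hh]; simp
      · rintro rfl; simp
    have conj2 : ∀ (a h : G₂), h * a * h⁻¹ = 1 ↔ a = 1 := by
      intro a h
      constructor
      · intro hh
        have : a = h⁻¹ * (h * a * h⁻¹) * h := by simp [mul_assoc]
        rw [this, hh]; simp
      · rintro rfl; simp
    refine ⟨(χ, w), ⟨?_, ?_, ?_, ?_⟩, ?_⟩
    · change w (1, 1) = 0
      rw [hw, if_pos rfl]; exact h1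
    · rintro ⟨a, b⟩ hab
      change w (a, b) = 0
      rw [hC] at hab
      push Not at hab
      simp only at hab
      rw [hw]
      split_ifs with hb ha
      · exact h2 a (hab.1 hb)
      · exact k2 b (hab.2 ha)
      · rfl
    · rintro ⟨a, b⟩ ⟨h, h'⟩
      change w (h * a * h⁻¹, h' * b * h'⁻¹) = w (a, b)
      rw [hw, hw]
      simp only [conj1, conj2, h3, k3]
    · rintro ⟨a, b⟩ hab
      change W4c6brauerbgmalle.toQmodZ (w (a, b)) = χ (Additive.ofMul ((a, b) : G₁ × G₂))
      rw [hχ, hw]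
      rcases (hC _).mp hab with ⟨hb, ha⟩ | ⟨ha, hb⟩
      · simp only at hb ha
        subst hb
        rw [if_pos rfl, h4 a ha, ofMul_one, map_zero, add_zero]
      · simp only at hb ha
        subst ha
        by_cases hb1 : b = 1
        · subst hb1
          rw [if_pos rfl, h1]
          simp only [ofMul_one, map_zero, add_zero]
        · rw [if_neg hb1, if_pos rfl, k4 b hb, ofMul_one, map_zero, zero_add]
    · simp only [Prod.mk.injEq]
      refine ⟨⟨?_, ?_⟩, ⟨?_, ?_⟩⟩
      · apply AddMonoidHom.ext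
        intro x
        obtain ⟨a, rfl⟩ := Additive.ofMul.surjective x
        change χ (Additive.ofMul ((a, 1) : G₁ × G₂)) = χ₁ (Additive.ofMul a)
        rw [hχ, ofMul_one, map_zero, add_zero]
      · funext a
        change w (a, 1) = w₁ a
        rw [hw, if_pos rfl]
      · apply AddMonoidHom.ext
        intro x
        obtain ⟨b, rfl⟩ := Additive.ofMul.surjective x
        change χ (Additive.ofMul ((1, b) : G₁ × G₂)) = χ₂ (Additive.ofMul b)
        rw [hχ, ofMul_one, map_zero, zero_add]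
      · funext b
        change w (1, b) = w₂ b
        rw [hw]
        by_cases hb1 : b = 1
        · subst hb1
          rw [if_pos rfl, h1, k1]
        · rw [if_neg hb1, if_pos rfl]

end Groth.Agent.S18953
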