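import Groth.Statements.S18954
import Mathlib.GroupTheory.Index
import Mathlib.Tactic.FieldSimp

set_option autoImplicit false
universe u v w
open Classical
open BGCount

namespace Groth.Agent.S18954

/-- Let a finite group G act on a finite set X, let W be a finite set of orbits and f a function on
orbits with values in a field of characteristic zero. Then Σ_{O ∈ W} f(O)/|Stab(x_O)|, with x_O any
point of O, equals |G|⁻¹ · Σ f(orbit(x)) over the points x of X whose orbit lies in W. (In the
source X is the set of 1-cocycles of the absolute Galois group of a field in a finite étale group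
scheme G, acted on by the geometric points of G, the orbits are the isomorphism classes of G-torsors
and the stabilisers their automorphism groups; stated here for an arbitrary action of a finite group
on a finite set, the representative x_O being chosen by Quotient.out.) -/
theorem result {G : Type u} {X : Type v} (𝕜 : Type w)
    [Group G] [Fintype G] [MulAction G X] [Fintype X] [Field 𝕜] [CharZero 𝕜]
    (W : Finset (MulAction.orbitRel.Quotient G X)) (f : MulAction.orbitRel.Quotient G X → 𝕜) :
    (∑ O ∈ W, f O / (Nat.card (MulAction.stabilizer G O.out) : 𝕜)) =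
      (Fintype.card G : 𝕜)⁻¹ *
        ∑ x ∈ Finset.univ.filter (fun x : X => (Quotient.mk (MulAction.orbitRel G X) x) ∈ W),
          f (Quotient.mk (MulAction.orbitRel G X) x) := by
  have hG : (Fintype.card G : 𝕜) ≠ 0 := by exact_mod_cast Fintype.card_ne_zero
  rw [← Finset.sum_fiberwise_of_maps_to (s := Finset.univ.filter (fun x : X =>
      (Quotient.mk (MulAction.orbitRel G X) x) ∈ W)) (t := W)
      (g := fun x => Quotient.mk (MulAction.orbitRel G X) x)
      (fun x hx => (Finset.mem_filter.mp hx).2)]
  rw [Finset.mul_sum]
  apply Finset.sum_congr rfl
  intro O hO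
  have h1 : ∀ x ∈ (Finset.univ.filter (fun x : X =>
      (Quotient.mk (MulAction.orbitRel G X) x) ∈ W)).filter
      (fun x => Quotient.mk (MulAction.orbitRel G X) x = O),
      f (Quotient.mk (MulAction.orbitRel G X) x) = f O := by
    intro x hx
    rw [(Finset.mem_filter.mp hx).2]
  rw [Finset.sum_congr rfl h1, Finset.sum_const, nsmul_eq_mul]
  have hset : (((Finset.univ.filter (fun x : X =>
      (Quotient.mk (MulAction.orbitRel G X) x) ∈ W)).filter
      (fun x => Quotient.mk (MulAction.orbitRel G X) x = O) : Finset X) : Set X) =
      MulAction.orbit G O.out := by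
    ext x
    simp only [Finset.coe_filter, Finset.mem_filter, Finset.mem_univ, true_and, Set.mem_setOf_eq]
    constructor
    · rintro ⟨_, hx⟩
      have : Quotient.mk (MulAction.orbitRel G X) x = Quotient.mk (MulAction.orbitRel G X) O.out := by
        rw [hx, Quotient.out_eq]
      exact (MulAction.orbitRel_apply).mp (Quotient.exact this)
    · intro hx
      have : Quotient.mk (MulAction.orbitRel G X) x = O := by
        rw [← Quotient.out_eq O]
        exact Quotient.sound ((MulAction.orbitRel_apply).mpr hx)
      exact ⟨this ▸ hO, this⟩
  have hcard : ((Finset.univ.filter (fun x : X =>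
      (Quotient.mk (MulAction.orbitRel G X) x) ∈ W)).filter
      (fun x => Quotient.mk (MulAction.orbitRel G X) x = O)).card =
      (MulAction.orbit G O.out).ncard := by
    rw [← hset, Set.ncard_coe_finset]
  have hos : Nat.card (MulAction.stabilizer G O.out) * (MulAction.orbit G O.out).ncard =
      Fintype.card G := by
    rw [← MulAction.index_stabilizer, Subgroup.card_mul_index, Nat.card_eq_fintype_card]
  rw [hcard]
  have hos' : (Nat.card (MulAction.stabilizer G O.out) : 𝕜) * ((MulAction.orbit G O.out).ncard : 𝕜) =
      (Fintype.card G : 𝕜) := by exact_mod_cast hos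
  have hS : (Nat.card (MulAction.stabilizer G O.out) : 𝕜) ≠ 0 := by
    intro h0
    rw [h0, zero_mul] at hos'
    exact hG hos'.symm
  have hO' : ((MulAction.orbit G O.out).ncard : 𝕜) ≠ 0 := by
    intro h0
    rw [h0, mul_zero] at hos'
    exact hG hos'.symm
  rw [← hos']
  field_simp

end Groth.Agent.S18954
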