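import Groth.Statements.S18957
import Mathlib

set_option autoImplicit false
universe u
open CategoryTheory MonoidalCategory CartesianMonoidalCategory MonObj AlgebraicGeometry Opposite
open Magnet

namespace Groth.Agent.S18957

open CategoryTheory.Limits

/-- the whiskering of a scheme-theoretically dominant quasi-compact morphism over a field is
scheme-theoretically dominant. -/
lemma dominant_whiskerRight (k : Type u) [Field k] {G M : Over (Spec (CommRingCat.of k))}
    (Y : Over (Spec (CommRingCat.of k)))
    (i : G ⟶ M) [QuasiCompact i.left] [IsSchemeTheoreticallyDominant i.left] :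
    IsSchemeTheoreticallyDominant (i ▷ Y).left := by
  have hsq : IsPullback (i ▷ Y).left (pullback.fst G.hom Y.hom) (pullback.fst M.hom Y.hom)
      i.left := by
    refine IsPullback.of_right (h₁₂ := pullback.snd M.hom Y.hom) (v₁₃ := Y.hom) (h₂₂ := M.hom)
      ?_ ?_ (IsPullback.of_hasPullback M.hom Y.hom).flip
    · have h1 : (i ▷ Y).left ≫ pullback.snd M.hom Y.hom = pullback.snd G.hom Y.hom :=
        Over.whiskerRight_left_snd i
      have h2 : i.left ≫ M.hom = G.hom := Over.w i
      rw [h1, h2]
      exact (IsPullback.of_hasPullback G.hom Y.hom).flip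
    · exact Over.whiskerRight_left_fst i
  exact IsSchemeTheoreticallyDominant.of_isPullback hsq.flip

/-- factoring through a closed subscheme by schematic density. -/
lemma exists_factor (k : Type u) [Field k] {G M X Z : Over (Spec (CommRingCat.of k))}
    (Y : Over (Spec (CommRingCat.of k)))
    (i : G ⟶ M) [QuasiCompact i.left] [IsSchemeTheoreticallyDominant i.left]
    (j : Z ⟶ X) [IsClosedImmersion j.left] (φ : M ⊗ Y ⟶ X) (ψ : G ⊗ Y ⟶ Z)
    (h : (i ▷ Y) ≫ φ = ψ ≫ j) : ∃ χ : M ⊗ Y ⟶ Z, χ ≫ j = φ := by
  have hdom := dominant_whiskerRight k Y i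
  have hcond : (i ▷ Y).left ≫ φ.left = ψ.left ≫ j.left := by
    rw [← Over.comp_left, ← Over.comp_left, h]
  let l := pullback.lift (i ▷ Y).left ψ.left hcond
  have hl : l ≫ pullback.fst φ.left j.left = (i ▷ Y).left := pullback.lift_fst _ _ _
  have hker : (pullback.fst φ.left j.left).ker = ⊥ := by
    have h1 : (l ≫ pullback.fst φ.left j.left).ker = ⊥ := by
      rw [hl]; exact (i ▷ Y).left.ker_eq_bot
    rw [Scheme.Hom.ker_comp] at h1
    rw [← le_bot_iff, ← h1, ← Scheme.IdealSheafData.map_bot]
    exact Scheme.IdealSheafData.map_mono _ bot_le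
  have hiso : IsIso (pullback.fst φ.left j.left) :=
    IsClosedImmersion.isIso_iff_ker_eq_bot.mpr hker
  have hw : (inv (pullback.fst φ.left j.left) ≫ pullback.snd φ.left j.left) ≫ Z.hom =
      (M ⊗ Y).hom := by
    rw [Category.assoc, ← Over.w j, ← pullback.condition_assoc, IsIso.inv_hom_id_assoc, Over.w φ]
  refine ⟨Over.homMk (inv (pullback.fst φ.left j.left) ≫ pullback.snd φ.left j.left) hw, ?_⟩
  ext1
  change (inv (pullback.fst φ.left j.left) ≫ pullback.snd φ.left j.left) ≫ j.left = φ.left
  rw [Category.assoc, ← pullback.condition, IsIso.inv_hom_id_assoc]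


/-- Let k be a field, M a monoid k-scheme with an action a on a k-scheme X, G a group k-scheme and i : G
→ M a homomorphism of monoids which is a quasi-compact open immersion with scheme-theoretically
dense image. Let j : Z → X be a closed immersion and b an action of G on Z for which j is
equivariant, G acting on X through i and a (a closed G-stable subscheme). Then the G-action on Z
extends to an M-action making j equivariant: there is an action c of M on Z such that j is
equivariant for c and a and the restriction of c along i is b. (The published statement takes G to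
be the group of units of M, schematically dense in M; here it is assumed only that i is a
homomorphism of monoids and a quasi-compact, scheme-theoretically dominant open immersion.) -/
theorem result (k : Type u) [Field k]
    (M G X Z : Over (Spec (CommRingCat.of k))) [MonObj M] [GrpObj G]
    (i : G ⟶ M) [IsMonHom i] [IsOpenImmersion i.left] [QuasiCompact i.left]
    [IsSchemeTheoreticallyDominant i.left]
    (a : Magnet.MonAct M X) (b : AlgGrp.Action G Z) (j : Z ⟶ X) [IsClosedImmersion j.left]
    (hj : Magnet.MonAct.IsEquivariant (Magnet.MonAct.ofAction b) (a.restrict i) j) :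
    ∃ c : Magnet.MonAct M Z, Magnet.MonAct.IsEquivariant c a j ∧ c.restrict i = Magnet.MonAct.ofAction b := by
  have hjmono : Mono j := by
    have : Mono j.left := inferInstance
    exact (Over.forget _).mono_of_mono_map this
  have hj' : b.act ≫ j = (G ◁ j) ≫ (i ▷ X) ≫ a.act := hj
  obtain ⟨χ, hχ⟩ := exists_factor k Z i j ((M ◁ j) ≫ a.act) b.act (by
    rw [hj', ← Category.assoc, ← Category.assoc, whisker_exchange])
  refine ⟨MonAct.mk' χ ?_ ?_, ?_, ?_⟩
  · intro T x
    rw [← cancel_mono j, Category.assoc, hχ, lift_whiskerLeft_assoc, a.lift_one_act]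
  · intro T g h x
    rw [← cancel_mono j, Category.assoc, Category.assoc, hχ, lift_whiskerLeft_assoc,
      lift_whiskerLeft_assoc, a.lift_mul_act, Category.assoc, hχ, lift_whiskerLeft_assoc]
  · exact hχ
  · apply MonAct.ext'
    rw [MonAct.restrict_act, MonAct.mk'_act, MonAct.ofAction_act, ← cancel_mono j, Category.assoc,
      hχ, hj', ← Category.assoc, ← Category.assoc, whisker_exchange]

end Groth.Agent.S18957
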