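import Groth.Statements.S18956
import Mathlib
import Groth.Agent.S18957

set_option autoImplicit false
universe u
open CategoryTheory MonoidalCategory CartesianMonoidalCategory MonObj AlgebraicGeometry Opposite
open Magnet

namespace Groth.Agent.S18956

open CategoryTheory.Limits


/-- Let k be a field, M an affine monoid k-scheme, G an affine group k-scheme and i : G → M a
homomorphism of monoids which is a quasi-compact open immersion with scheme-theoretically dense
image. Let X be a k-scheme with an action aX of G, and j : Z → X a closed immersion which is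
G-equivariant for an action aZ of G on Z (a closed G-stable subscheme). For a G-scheme W write D_W
for the functor on k-schemes whose value at Y is the set of k-morphisms M ×_k Y → W that are
G-equivariant for G acting on M ×_k Y by left multiplication through i on the first factor. Then the
square of presheaves formed by D_Z → D_X (composition with j), the restrictions D_Z → Z and D_X → X
to the unit section of M, and j is cartesian. (The published statement takes G to be the group of
units of M, open and schematically dense; here it is assumed only that i is a homomorphism of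
monoids and a quasi-compact, scheme-theoretically dominant open immersion.) -/
theorem result (k : Type u) [Field k]
    (M G X Z : Over (Spec (CommRingCat.of k))) [MonObj M] [GrpObj G] [IsAffine M.left] [IsAffine G.left]
    (i : G ⟶ M) [IsMonHom i] [IsOpenImmersion i.left] [QuasiCompact i.left]
    [IsSchemeTheoreticallyDominant i.left]
    (aX : AlgGrp.Action G X) (aZ : AlgGrp.Action G Z) (j : Z ⟶ X) [IsClosedImmersion j.left]
    (hj : Magnet.MonAct.IsEquivariant (Magnet.MonAct.ofAction aZ) (Magnet.MonAct.ofAction aX) j) :
    IsPullback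
      (Magnet.MonAct.eqvHom.postcomp ((Magnet.MonAct.regular M).restrict i) j hj)
      (Magnet.MonAct.eqvHom.evalAt ((Magnet.MonAct.regular M).restrict i) (Magnet.MonAct.ofAction aZ) η[M])
      (Magnet.MonAct.eqvHom.evalAt ((Magnet.MonAct.regular M).restrict i) (Magnet.MonAct.ofAction aX) η[M])
      (yoneda.map j) := by
  have hjmono : Mono j := by
    have : Mono j.left := inferInstance
    exact (Over.forget _).mono_of_mono_map this
  have hj' : aZ.act ≫ j = (G ◁ j) ≫ aX.act := hj
  refine IsPullback.of_forall_isPullback_app fun T => ?_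
  rw [Types.isPullback_iff]
  refine ⟨?_, ?_, ?_⟩
  · ext φ
    change (lift (toUnit (unop T) ≫ η[M]) (𝟙 (unop T)) ≫ (φ.1 ≫ j)) =
      (lift (toUnit (unop T) ≫ η[M]) (𝟙 (unop T)) ≫ φ.1) ≫ j
    rw [Category.assoc]
  · rintro x₁ y₁ ⟨h1, -⟩
    apply Subtype.ext
    have h2 : x₁.1 ≫ j = y₁.1 ≫ j := congrArg Subtype.val h1
    exact (cancel_mono j).mp h2
  · rintro ⟨φ, hφ⟩ z hz
    have hz' : lift (toUnit (unop T) ≫ η[M]) (𝟙 (unop T)) ≫ φ = z ≫ j := hz
    have hφX := hφ
    rw [MonAct.mem_eqvHom_iff] at hφX
    have hcompat : (i ▷ (unop T)) ≫ φ = ((G ◁ z) ≫ aZ.act) ≫ j := by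
      apply hom_ext_lift₂
      intro T' g y
      have h1 := hφX T' g (toUnit T' ≫ η[M]) y
      rw [MonAct.lift_restrict_act, MonAct.lift_regular_act] at h1
      have h2 : (g ≫ i) * (toUnit T' ≫ η[M]) = g ≫ i := by
        rw [← Hom.one_def, _root_.mul_one]
      rw [h2] at h1
      have h3 : lift (toUnit T' ≫ η[M]) y = y ≫ lift (toUnit (unop T) ≫ η[M]) (𝟙 (unop T)) := by
        rw [comp_lift, Category.comp_id, ← Category.assoc, toUnit_unique (y ≫ toUnit (unop T))]
      rw [h3, Category.assoc, hz'] at h1
      rw [lift_whiskerRight_assoc, h1]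
      have h4 : lift g y ≫ ((G ◁ z) ≫ aZ.act) ≫ j = lift g (y ≫ z ≫ j) ≫ aX.act := by
        rw [Category.assoc, hj', lift_whiskerLeft_assoc, lift_whiskerLeft_assoc, Category.assoc]
      rw [h4]
      rfl
    obtain ⟨χ, hχ⟩ := Groth.Agent.S18957.exists_factor k (unop T) i j φ ((G ◁ z) ≫ aZ.act)
      hcompat
    have hχeq : MonAct.IsEquivariant
        ((((MonAct.regular M).restrict i)).prod (MonAct.trivial G (unop T)))
        (MonAct.ofAction aZ) χ := by
      change _ ≫ χ = (G ◁ χ) ≫ aZ.act
      rw [← cancel_mono j, Category.assoc, hχ, Category.assoc, hj', ← Category.assoc (G ◁ χ),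
        ← MonoidalCategory.whiskerLeft_comp, hχ]
      exact hφ
    refine ⟨⟨χ, hχeq⟩, ?_, ?_⟩
    · apply Subtype.ext
      exact hχ
    · change lift (toUnit (unop T) ≫ η[M]) (𝟙 (unop T)) ≫ χ = z
      rw [← cancel_mono j, Category.assoc, hχ, hz']

end Groth.Agent.S18956
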