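import Groth.Statements.S18958
import Mathlib

set_option autoImplicit false
universe u
open CategoryTheory MonoidalCategory CartesianMonoidalCategory MonObj AlgebraicGeometry Opposite
open Magnet

namespace Groth.Agent.S18958

open CategoryTheory.Limits

section general

variable {S : Scheme.{u}}

/-- the residue field point of an object of `Over S`, as an object of `Over S`. -/
noncomputable def pt (Y : Over S) (y : Y.left) : Over S :=
  Over.mk (Y.left.fromSpecResidueField y ≫ Y.hom)

/-- the residue field point of an object of `Over S`, as a morphism of `Over S`. -/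
noncomputable def ptHom (Y : Over S) (y : Y.left) : pt Y y ⟶ Y :=
  Over.homMk (Y.left.fromSpecResidueField y) rfl

theorem range_ptHom (Y : Over S) (y : Y.left) : Set.range (ptHom Y y).left = {y} :=
  Scheme.range_fromSpecResidueField y

theorem exists_factor_of_range_subset {U X Q : Over S} (j : U ⟶ X) [IsOpenImmersion j.left]
    (x : Q ⟶ X) (h : Set.range x.left ⊆ Set.range j.left) : ∃ u : Q ⟶ U, u ≫ j = x := by
  refine ⟨Over.homMk (IsOpenImmersion.lift j.left x.left h) ?_, ?_⟩
  · have h1 : U.hom = j.left ≫ X.hom := (Over.w j).symm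
    rw [h1, ← Category.assoc, IsOpenImmersion.lift_fac, Over.w]
  · ext1
    simp [IsOpenImmersion.lift_fac]

theorem mem_range_iff_exists_factor {U X Y : Over S} (j : U ⟶ X) [IsOpenImmersion j.left]
    (f : Y ⟶ X) (y : Y.left) :
    f.left y ∈ Set.range j.left ↔ ∃ u : pt Y y ⟶ U, u ≫ j = ptHom Y y ≫ f := by
  constructor
  · intro h
    apply exists_factor_of_range_subset
    rintro _ ⟨s, rfl⟩
    have hs : (ptHom Y y).left s = y := by
      have : (ptHom Y y).left s ∈ Set.range (ptHom Y y).left := ⟨s, rfl⟩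
      rw [range_ptHom] at this
      exact this
    rw [Over.comp_left, Scheme.Hom.comp_apply, hs]
    exact h
  · rintro ⟨u, hu⟩
    have hy : y ∈ Set.range (ptHom Y y).left := by rw [range_ptHom]; rfl
    obtain ⟨s, hs⟩ := hy
    refine ⟨u.left s, ?_⟩
    have h1 : j.left (u.left s) = (u ≫ j).left s := by
      rw [Over.comp_left, Scheme.Hom.comp_apply]
    have h2 : f.left ((ptHom Y y).left s) = (ptHom Y y ≫ f).left s := by
      rw [Over.comp_left, Scheme.Hom.comp_apply]
    rw [h1, hu, ← h2, hs]

end general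

section key

variable (k : Type u) [Field k]
    (M G X U : Over (Spec (CommRingCat.of k))) [MonObj M] [GrpObj G] (i : G ⟶ M) [IsMonHom i]
    (o : 𝟙_ (Over (Spec (CommRingCat.of k))) ⟶ M)
    (hM : ∀ (T : Over (Spec (CommRingCat.of k))) (K : Type u) [Field K] (eT : T.left ≅ Spec (CommRingCat.of K))
      (W : (M ⊗ T).left.Opens),
      (CartesianMonoidalCategory.snd G (M ⊗ T)).left ⁻¹ᵁ W ≤
          ((((Magnet.MonAct.regular M).restrict i).prod (Magnet.MonAct.trivial G T)).act).left ⁻¹ᵁ W →
      (CartesianMonoidalCategory.lift (toUnit T ≫ o) (𝟙 T)).left ⁻¹ᵁ W = ⊤ → W = ⊤)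
    (aX : AlgGrp.Action G X) (aU : AlgGrp.Action G U) (j : U ⟶ X) [IsOpenImmersion j.left]
    (hj : Magnet.MonAct.IsEquivariant (Magnet.MonAct.ofAction aU) (Magnet.MonAct.ofAction aX) j)

include hM hj in
theorem key (T : Over (Spec (CommRingCat.of k))) (φ : M ⊗ T ⟶ X)
    (hφ : MonAct.IsEquivariant ((((MonAct.regular M).restrict i)).prod (MonAct.trivial G T))
        (MonAct.ofAction aX) φ)
    (z : T ⟶ U) (hz : lift (toUnit T ≫ o) (𝟙 T) ≫ φ = z ≫ j) :
    ∃ χ : M ⊗ T ⟶ U, χ ≫ j = φ := by
  have hj' : aU.act ≫ j = (G ◁ j) ≫ aX.act := hj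
  apply exists_factor_of_range_subset
  rintro _ ⟨w, rfl⟩
  rw [mem_range_iff_exists_factor]
  let T' : Over (Spec (CommRingCat.of k)) := pt (M ⊗ T) w
  let q : T' ⟶ M ⊗ T := ptHom (M ⊗ T) w
  let t' : T' ⟶ T := q ≫ snd M T
  let ψ : M ⊗ T' ⟶ X := (M ◁ t') ≫ φ
  have hψ : MonAct.IsEquivariant ((((MonAct.regular M).restrict i)).prod (MonAct.trivial G T'))
        (MonAct.ofAction aX) ψ :=
    ((MonAct.eqvHom ((MonAct.regular M).restrict i) (MonAct.ofAction aX)).map t'.op ⟨φ, hφ⟩).2
  have hψ' : ((((MonAct.regular M).restrict i)).prod (MonAct.trivial G T')).act ≫ ψ =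
      (G ◁ ψ) ≫ aX.act := hψ
  let W' : (M ⊗ T').left.Opens := ψ.left ⁻¹ᵁ j.left.opensRange
  have hW' : W' = ⊤ := by
    refine hM T' ((M ⊗ T).left.residueField w) (Iso.refl _) W' ?_ ?_
    · intro p hp
      have hp' : (snd G (M ⊗ T') ≫ ψ).left p ∈ Set.range j.left := by
        rw [Over.comp_left, Scheme.Hom.comp_apply]
        exact hp
      rw [mem_range_iff_exists_factor] at hp'
      obtain ⟨u, hu⟩ := hp'
      have hgoal : (((((MonAct.regular M).restrict i)).prod (MonAct.trivial G T')).act ≫ ψ).left p ∈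
          Set.range j.left := by
        rw [mem_range_iff_exists_factor]
        refine ⟨lift (ptHom _ p ≫ fst _ _) u ≫ aU.act, ?_⟩
        have h3 : lift (ptHom (G ⊗ (M ⊗ T')) p ≫ fst _ _)
            (ptHom (G ⊗ (M ⊗ T')) p ≫ snd G (M ⊗ T') ≫ ψ) = ptHom (G ⊗ (M ⊗ T')) p ≫ (G ◁ ψ) := by
          apply CartesianMonoidalCategory.hom_ext
          · rw [lift_fst, Category.assoc, whiskerLeft_fst]
          · rw [lift_snd, Category.assoc, whiskerLeft_snd]
        rw [Category.assoc, hj', hψ', lift_whiskerLeft_assoc, hu, h3, Category.assoc]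
      rw [Over.comp_left, Scheme.Hom.comp_apply] at hgoal
      exact hgoal
    · rw [eq_top_iff]
      intro s _
      have h1 : lift (toUnit T' ≫ o) (𝟙 T') ≫ ψ = (t' ≫ z) ≫ j := by
        rw [Category.assoc, ← hz]
        change lift (toUnit T' ≫ o) (𝟙 T') ≫ (M ◁ t') ≫ φ = _
        rw [lift_whiskerLeft_assoc, Category.id_comp, ← Category.assoc t', comp_lift,
          Category.comp_id, ← Category.assoc, toUnit_unique (t' ≫ toUnit T)]
      change ψ.left ((lift (toUnit T' ≫ o) (𝟙 T')).left s) ∈ Set.range j.left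
      rw [← Scheme.Hom.comp_apply, ← Over.comp_left, h1, Over.comp_left, Scheme.Hom.comp_apply]
      exact ⟨_, rfl⟩
  have hrange : Set.range ψ.left ⊆ Set.range j.left := by
    rintro _ ⟨s, rfl⟩
    have : s ∈ W' := by rw [hW']; trivial
    exact this
  obtain ⟨χ', hχ'⟩ := exists_factor_of_range_subset j ψ hrange
  refine ⟨lift (q ≫ fst M T) (𝟙 T') ≫ χ', ?_⟩
  rw [Category.assoc, hχ']
  change lift (q ≫ fst M T) (𝟙 T') ≫ (M ◁ t') ≫ φ = q ≫ φ
  have h4 : lift (q ≫ fst M T) t' = q := by
    apply CartesianMonoidalCategory.hom_ext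
    · rw [lift_fst]
    · rw [lift_snd]
  rw [lift_whiskerLeft_assoc, Category.id_comp, h4]

end key


/-- Let k be a field, G a group k-scheme and M a monoid k-scheme with a homomorphism of monoids i : G →
M and a zero o : Spec k → M (m·o = o = o·m for every point m of M). Assume that for every k-scheme T
whose underlying scheme is the spectrum of a field K, every open subset of M ×_k T which is stable
under G acting by left multiplication through i on the first factor and which contains the zero
section T → M ×_k T is the whole of M ×_k T. Let X be a k-scheme with an action aX of G and j : U →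
X an open immersion, G-equivariant for an action aU of G on U (an open G-stable subscheme). For a
G-scheme W write D_W for the functor on k-schemes whose value at Y is the set of k-morphisms M ×_k Y
→ W that are G-equivariant for G acting on M ×_k Y by left multiplication through i on the first
factor. Then the square of presheaves formed by D_U → D_X (composition with j), the restrictions D_U
→ U and D_X → X to the zero section of M, and j is cartesian. (In the source M is a Kempf monoid
with G its group of units, and the restriction to the zero section is viewed as the retraction of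
D_X onto the fixed points X^G; the displayed property of the open G-stable subsets of M over field
extensions is what the argument uses about M, and the square over X^G is cartesian exactly when the
one over X is, U^G being X^G ×_X U.) -/
theorem result (k : Type u) [Field k]
    (M G X U : Over (Spec (CommRingCat.of k))) [MonObj M] [GrpObj G] (i : G ⟶ M) [IsMonHom i]
    (o : 𝟙_ (Over (Spec (CommRingCat.of k))) ⟶ M)
    (ho : ∀ (T : Over (Spec (CommRingCat.of k))) (m : T ⟶ M), m * (toUnit T ≫ o) = toUnit T ≫ o ∧ (toUnit T ≫ o) * m = toUnit T ≫ o)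
    (hM : ∀ (T : Over (Spec (CommRingCat.of k))) (K : Type u) [Field K] (eT : T.left ≅ Spec (CommRingCat.of K))
      (W : (M ⊗ T).left.Opens),
      (CartesianMonoidalCategory.snd G (M ⊗ T)).left ⁻¹ᵁ W ≤
          ((((Magnet.MonAct.regular M).restrict i).prod (Magnet.MonAct.trivial G T)).act).left ⁻¹ᵁ W →
      (CartesianMonoidalCategory.lift (toUnit T ≫ o) (𝟙 T)).left ⁻¹ᵁ W = ⊤ → W = ⊤)
    (aX : AlgGrp.Action G X) (aU : AlgGrp.Action G U) (j : U ⟶ X) [IsOpenImmersion j.left]
    (hj : Magnet.MonAct.IsEquivariant (Magnet.MonAct.ofAction aU) (Magnet.MonAct.ofAction aX) j) :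
    IsPullback
      (Magnet.MonAct.eqvHom.postcomp ((Magnet.MonAct.regular M).restrict i) j hj)
      (Magnet.MonAct.eqvHom.evalAt ((Magnet.MonAct.regular M).restrict i) (Magnet.MonAct.ofAction aU) o)
      (Magnet.MonAct.eqvHom.evalAt ((Magnet.MonAct.regular M).restrict i) (Magnet.MonAct.ofAction aX) o)
      (yoneda.map j) := by
  have hjmono : Mono j := by
    have : Mono j.left := inferInstance
    exact (Over.forget _).mono_of_mono_map this
  have hj' : aU.act ≫ j = (G ◁ j) ≫ aX.act := hj
  refine IsPullback.of_forall_isPullback_app fun T => ?_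
  rw [Types.isPullback_iff]
  refine ⟨?_, ?_, ?_⟩
  · ext φ
    change (lift (toUnit (unop T) ≫ o) (𝟙 (unop T)) ≫ (φ.1 ≫ j)) =
      (lift (toUnit (unop T) ≫ o) (𝟙 (unop T)) ≫ φ.1) ≫ j
    rw [Category.assoc]
  · rintro x₁ y₁ ⟨h1, -⟩
    apply Subtype.ext
    have h2 : x₁.1 ≫ j = y₁.1 ≫ j := congrArg Subtype.val h1
    exact (cancel_mono j).mp h2
  · rintro ⟨φ, hφ⟩ z hz
    have hz' : lift (toUnit (unop T) ≫ o) (𝟙 (unop T)) ≫ φ = z ≫ j := hz
    obtain ⟨χ, hχ⟩ := key k M G X U i o hM aX aU j hj (unop T) φ hφ z hz'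
    have hχeq : MonAct.IsEquivariant
        ((((MonAct.regular M).restrict i)).prod (MonAct.trivial G (unop T)))
        (MonAct.ofAction aU) χ := by
      change _ ≫ χ = (G ◁ χ) ≫ aU.act
      rw [← cancel_mono j, Category.assoc, hχ, Category.assoc, hj', ← Category.assoc (G ◁ χ),
        ← MonoidalCategory.whiskerLeft_comp, hχ]
      exact hφ
    refine ⟨⟨χ, hχeq⟩, ?_, ?_⟩
    · apply Subtype.ext
      exact hχ
    · change lift (toUnit (unop T) ≫ o) (𝟙 (unop T)) ≫ χ = z
      rw [← cancel_mono j, Category.assoc, hχ, hz']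

end Groth.Agent.S18958
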