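import Groth.Statements.S18960
import Mathlib

set_option autoImplicit false
universe w' w v u
open CategoryTheory Limits
open CatLim

namespace Groth.Agent.S18960

variable {C : Type u} [Category.{v} C] (T : C ⥤ C)

/-- The property of having invertible structure map. -/
abbrev P : ObjectProperty (Endofunctor.Algebra T) := fun A => IsIso A.str

/-- The forgetful functor. -/
abbrev F : (P T).FullSubcategory ⥤ C := (P T).ι ⋙ Endofunctor.Algebra.forget T

variable {T} {J : Type w} [Category.{w'} J]
variable (K : J ⥤ (P T).FullSubcategory) (c : Cocone (K ⋙ F T))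

/-- carrier -/
abbrev car (j : J) : C := (K.obj j).obj.a

/-- structure map -/
def st (j : J) : T.obj (car K j) ⟶ car K j := (K.obj j).obj.str

instance isIso_st (j : J) : IsIso (st K j) := (K.obj j).property

/-- inverse structure map -/
noncomputable def stInv (j : J) : car K j ⟶ T.obj (car K j) := inv (st K j)

@[reassoc (attr := simp)]
lemma st_stInv (j : J) : st K j ≫ stInv K j = 𝟙 _ := IsIso.hom_inv_id _

@[reassoc (attr := simp)]
lemma stInv_st (j : J) : stInv K j ≫ st K j = 𝟙 _ := IsIso.inv_hom_id _

/-- transition map -/
def tr {j j' : J} (f : j ⟶ j') : car K j ⟶ car K j' := (K.map f).hom.f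

/-- leg -/
def leg (j : J) : car K j ⟶ c.pt := c.ι.app j

lemma map_tr_st {j j' : J} (f : j ⟶ j') :
    T.map (tr K f) ≫ st K j' = st K j ≫ tr K f :=
  (K.map f).hom.h

lemma tr_leg {j j' : J} (f : j ⟶ j') : tr K f ≫ leg K c j' = leg K c j := c.w f

/-- cocone for the structure map -/
def strCocone : Cocone ((K ⋙ F T) ⋙ T) where
  pt := c.pt
  ι :=
    { app := fun j => st K j ≫ leg K c j
      naturality := fun j j' f => by
        change T.map (tr K f) ≫ st K j' ≫ leg K c j' = (st K j ≫ leg K c j) ≫ 𝟙 _
        rw [← Category.assoc, map_tr_st, Category.assoc, tr_leg, Category.comp_id] }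

/-- cocone for the inverse of the structure map -/
noncomputable def invCocone : Cocone (K ⋙ F T) where
  pt := T.obj c.pt
  ι :=
    { app := fun j => stInv K j ≫ T.map (leg K c j)
      naturality := fun j j' f => by
        change tr K f ≫ stInv K j' ≫ T.map (leg K c j') =
          (stInv K j ≫ T.map (leg K c j)) ≫ 𝟙 _
        have h : tr K f ≫ stInv K j' = stInv K j ≫ T.map (tr K f) := by
          have h1 := map_tr_st K f
          calc tr K f ≫ stInv K j' = stInv K j ≫ (st K j ≫ tr K f) ≫ stInv K j' := by
                rw [Category.assoc, stInv_st_assoc]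
            _ = stInv K j ≫ T.map (tr K f) := by
                rw [← h1, Category.assoc, st_stInv, Category.comp_id]
        rw [Category.comp_id, ← Category.assoc, h, Category.assoc, ← T.map_comp, tr_leg] }

variable [PreservesColimitsOfShape J T] (t : IsColimit c)

/-- structure map on the colimit -/
noncomputable def str : T.obj c.pt ⟶ c.pt := (isColimitOfPreserves T t).desc (strCocone K c)

/-- inverse structure map on the colimit -/
noncomputable def strInv : c.pt ⟶ T.obj c.pt := t.desc (invCocone K c)

lemma map_leg_str (j : J) :
    T.map (leg K c j) ≫ str K c t = st K j ≫ leg K c j :=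
  (isColimitOfPreserves T t).fac (strCocone K c) j

lemma leg_strInv (j : J) :
    leg K c j ≫ strInv K c t = stInv K j ≫ T.map (leg K c j) :=
  t.fac (invCocone K c) j

include t in
lemma hom_ext_leg {X : C} {f g : c.pt ⟶ X} (h : ∀ j, leg K c j ≫ f = leg K c j ≫ g) : f = g :=
  t.hom_ext h

include t in
lemma hom_ext_map_leg {X : C} {f g : T.obj c.pt ⟶ X}
    (h : ∀ j, T.map (leg K c j) ≫ f = T.map (leg K c j) ≫ g) : f = g :=
  (isColimitOfPreserves T t).hom_ext h

lemma str_strInv : str K c t ≫ strInv K c t = 𝟙 _ := by
  apply hom_ext_map_leg K c t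
  intro j
  rw [← Category.assoc, map_leg_str, Category.assoc, leg_strInv, st_stInv_assoc,
    Category.comp_id]

lemma strInv_str : strInv K c t ≫ str K c t = 𝟙 _ := by
  apply hom_ext_leg K c t
  intro j
  rw [← Category.assoc, leg_strInv, Category.assoc, map_leg_str, stInv_st_assoc,
    Category.comp_id]

/-- the lifted algebra -/
noncomputable def liftPt : (P T).FullSubcategory :=
  ⟨⟨c.pt, str K c t⟩, ⟨⟨strInv K c t, str_strInv K c t, strInv_str K c t⟩⟩⟩

/-- the lifted cocone -/
noncomputable def liftCocone : Cocone K where
  pt := liftPt K c t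
  ι :=
    { app := fun j => ObjectProperty.homMk ⟨leg K c j, map_leg_str K c t j⟩
      naturality := fun j j' f => by
        apply ObjectProperty.hom_ext
        apply Endofunctor.Algebra.Hom.ext
        change tr K f ≫ leg K c j' = leg K c j ≫ 𝟙 _
        rw [tr_leg, Category.comp_id] }

/-- the leg of a cocone over `K` -/
def sleg (s : Cocone K) (j : J) : car K j ⟶ s.pt.obj.a := (s.ι.app j).hom.f

lemma map_sleg (s : Cocone K) (j : J) :
    T.map (sleg K s j) ≫ s.pt.obj.str = st K j ≫ sleg K s j :=
  (s.ι.app j).hom.h

/-- descent map -/
noncomputable def dsc (s : Cocone K) : c.pt ⟶ s.pt.obj.a := t.desc ((F T).mapCocone s)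

lemma leg_dsc (s : Cocone K) (j : J) : leg K c j ≫ dsc K c t s = sleg K s j :=
  t.fac ((F T).mapCocone s) j

/-- the lifted cocone is a colimit -/
noncomputable def liftIsColimit : IsColimit (liftCocone K c t) where
  desc s := ObjectProperty.homMk
    ⟨dsc K c t s, by
      apply hom_ext_map_leg K c t
      intro j
      change T.map (leg K c j) ≫ T.map (dsc K c t s) ≫ s.pt.obj.str
        = T.map (leg K c j) ≫ str K c t ≫ dsc K c t s
      rw [← Category.assoc, ← T.map_comp, leg_dsc, ← Category.assoc, map_leg_str, Category.assoc,
        leg_dsc, map_sleg]⟩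
  fac s j := by
    apply ObjectProperty.hom_ext
    apply Endofunctor.Algebra.Hom.ext
    exact leg_dsc K c t s j
  uniq s m hm := by
    apply ObjectProperty.hom_ext
    apply Endofunctor.Algebra.Hom.ext
    apply t.uniq ((F T).mapCocone s) m.hom.f
    intro j
    have := congrArg (fun g => g.hom.f) (hm j)
    exact this


/-- Let C be a category and T an endofunctor of C; let C(T) be the category whose objects are pairs (X,
u) with u : T X → X an isomorphism and whose morphisms (X, u) → (Y, w) are the morphisms X → Y
compatible with u and w — the full subcategory of T-algebras with invertible structure map — and let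
π : C(T) → C be the forgetful functor. If T preserves colimits of shape J then π creates colimits of
shape J. (The source assumes T preserves all small colimits and concludes for all small shapes; the
argument is shape by shape.) -/
theorem result {C : Type u} [Category.{v} C] (T : C ⥤ C)
    (J : Type w) [Category.{w'} J] [PreservesColimitsOfShape J T] :
    Nonempty (CreatesColimitsOfShape J
      ((ObjectProperty.ι (fun A : Endofunctor.Algebra T => IsIso A.str)) ⋙ Endofunctor.Algebra.forget T)) := by
  refine ⟨⟨fun {K} => ?_⟩⟩
  exact createsColimitOfReflectsIso (F := F T) fun c t =>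
    { liftedCocone := liftCocone K c t
      validLift := Cocone.ext (Iso.refl _) (fun j => Category.comp_id _)
      makesColimit := liftIsColimit K c t }

end Groth.Agent.S18960
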