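import Groth.Statements.S18961
import Groth.Agent.Lib.Helper19SmoothKer
import Groth.Agent.Lib.Helper19GrSection

set_option autoImplicit false
universe u
open BBDec

namespace Groth.Agent.S18961

/-- Let k be a field, A a finitely generated k-algebra and B a finitely generated A-algebra graded by
the natural numbers as an A-algebra, with degree-zero part equal to the image of A and A → B
injective; let B₊ be the irrelevant ideal. So Spec B → Spec A is the retraction of an affine scheme
with an action of the multiplicative monoid of the affine line onto its fixed-point scheme, with
zero section cut out by B₊; this is the affine-local graded form, for that monoid, of the published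
statement, which covers any Kempf monoid M with unit group G and a k-scheme X locally of finite
type, and concludes that the retraction X⁺ → X^G is an affine-space bundle near a fixed point at
whose section value it is smooth. Assume that A → B is smooth at every prime ideal containing B₊ and
that B₊/B₊² is a free A-module of finite rank. Then B is isomorphic, as an A-algebra, to the
polynomial ring over A in (rank of B₊/B₊²) variables. (The published statement also makes the
isomorphism equivariant for a suitable linear action when G is linearly reductive; only the
existence of an A-algebra isomorphism is stated here. Freeness of the conormal module holds after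
shrinking the base, which is how the published proof reaches this situation.) -/
theorem result (k : Type u) [Field k]
    (A B : Type u) [CommRing A] [CommRing B] [Algebra k A] [Algebra k B] [Algebra A B] [IsScalarTower k A B]
    [Algebra.FiniteType k A] [Algebra.FiniteType A B] (𝒜 : ℕ → Submodule A B) [GradedAlgebra 𝒜]
    (h0 : ∀ b : B, b ∈ 𝒜 0 ↔ b ∈ Set.range (algebraMap A B)) (hinj : Function.Injective (algebraMap A B))
    (hsm : ∀ (P : Ideal B) [P.IsPrime], (HomogeneousIdeal.irrelevant 𝒜).toIdeal ≤ P → Algebra.IsSmoothAt A P)
    [Module.Free A (HomogeneousIdeal.irrelevant 𝒜).toIdeal.Cotangent]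
    [Module.Finite A (HomogeneousIdeal.irrelevant 𝒜).toIdeal.Cotangent] :
    Nonempty (B ≃ₐ[A]
      MvPolynomial (Fin (Module.finrank A (HomogeneousIdeal.irrelevant 𝒜).toIdeal.Cotangent)) A) := by
  classical
  open Groth.Agent.Lib.Helper19 in
  by_cases hA : Subsingleton A
  · haveI : Subsingleton B := by
      refine ⟨fun x y => ?_⟩
      have h1 : (1 : B) = 0 := by
        rw [← map_one (algebraMap A B), Subsingleton.elim (1 : A) 0, map_zero]
      rw [← mul_one x, ← mul_one y, h1, mul_zero, mul_zero]
    exact ⟨{ toFun := fun _ => 0, invFun := fun _ => 0,
             left_inv := fun _ => Subsingleton.elim _ _, right_inv := fun _ => Subsingleton.elim _ _,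
             map_mul' := fun _ _ => Subsingleton.elim _ _, map_add' := fun _ _ => Subsingleton.elim _ _,
             commutes' := fun _ => Subsingleton.elim _ _ }⟩
  · rw [not_subsingleton_iff_nontrivial] at hA
    haveI : IsNoetherianRing A := Algebra.FiniteType.isNoetherianRing k A
    haveI : Algebra.FinitePresentation A B := Algebra.FinitePresentation.of_finiteType.mp inferInstance
    let e := Module.finBasis A (HomogeneousIdeal.irrelevant 𝒜).toIdeal.Cotangent
    have hsurj := GrSection.φ_surjective 𝒜 e (fun x hx => (h0 x).mp hx)
    have hker := GrSection.ker_le_vars_sq 𝒜 e hinj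
    obtain ⟨f, hf1, hf2⟩ := SmoothKer.exists_formallySmooth_away (A := A)
      (HomogeneousIdeal.irrelevant 𝒜).toIdeal hsm
    obtain ⟨f', hf'⟩ := hsurj f
    have hc : MvPolynomial.constantCoeff f' = 1 := by
      have h1 := GrSection.sub_C_mem_vars (A := A) f'
      have h2 := GrSection.vars_le_comap 𝒜 e h1
      rw [Ideal.mem_comap, map_sub, hf', ← MvPolynomial.algebraMap_eq, AlgHom.commutes] at h2
      have h3 : algebraMap A B (MvPolynomial.constantCoeff f' - 1) ∈
          (HomogeneousIdeal.irrelevant 𝒜).toIdeal := by
        have : algebraMap A B (MvPolynomial.constantCoeff f' - 1) =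
            (f - 1) - (f - algebraMap A B (MvPolynomial.constantCoeff f')) := by
          rw [map_sub, map_one]; ring
        rw [this]
        exact sub_mem hf1 h2
      have := GrSection.algebraMap_eq_zero_of_mem_irr 𝒜 hinj h3
      exact sub_eq_zero.mp this
    have : Algebra.FormallySmooth A (Localization.Away ((GrSection.φ 𝒜 e) f')) := by
      rw [hf']; exact hf2
    have hinj' := SmoothKer.injective_of_formallySmooth_away (GrSection.φ 𝒜 e) hsurj f' hc hker
    exact ⟨(AlgEquiv.ofBijective (GrSection.φ 𝒜 e) ⟨hinj', hsurj⟩).symm⟩

end Groth.Agent.S18961
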