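import Groth.Statements.S1897
import Groth.Agent.Lib.Helper2CycRelDim
open Groth.Agent.Lib.Helper2.CycRelDim

set_option autoImplicit false
universe u
open CategoryTheory AlgebraicGeometry
open Cyc

namespace Groth.Agent.S1897

/-- Let f : X → Y be flat, locally of finite type, of relative dimension r, and F a coherent O_Y-module
whose support has δ-dimension ≤ k. Then the support of f^*F has δ-dimension ≤ k + r and f^*[F]_k =
[f^*F]_{k+r} (coefficientwise). A pair (X, δ) with Cyc.IsSetup plays the role of a scheme locally of
finite type over a fixed base with a dimension function (X locally Noetherian with universally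
catenary local rings, δ a dimension function), and Cyc.DeltaCompat records that the dimension
function upstairs is the induced one. -/
theorem result (X Y : Scheme.{u}) (δX : X → ℤ) (δY : Y → ℤ) (hX : Cyc.IsSetup X δX) (hY : Cyc.IsSetup Y δY) (f : X ⟶ Y) [Flat f] [LocallyOfFiniteType f] (r : ℕ) (hr : Cyc.HasRelDim f r) (hδ : Cyc.DeltaCompat f δX δY) (k : ℤ) (F : Y.Modules) (hF : Coh.IsCoh F) (hdim : ∀ y : Y, Nontrivial (F.presheaf.stalk y) → δY y ≤ k) : (∀ x : X, Nontrivial (((Scheme.Modules.pullback f).obj F).presheaf.stalk x) → δX x ≤ k + r) ∧ Cyc.pullFun f δX δY r (Cyc.sheafFun δY k F) = Cyc.sheafFun δX (k + r) ((Scheme.Modules.pullback f).obj F) := by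
  haveI : F.IsQuasicoherent := hF.1
  constructor
  · intro x hx
    have h1 := nontrivial_stalk_of_pullback f F x hx
    have h2 := hdim (f x) h1
    have h3 := delta_le f r hr δX δY hδ x
    omega
  · funext x
    simp only [Cyc.pullFun, Cyc.sheafFun]
    by_cases hR : δX x = k + (r : ℤ)
    · rw [if_pos hR]
      by_cases hN : Nontrivial (F.presheaf.stalk (f x))
      · have h2 := hdim (f x) hN
        have h3 := delta_le f r hr δX δY hδ x
        have h4 : δY (f x) = k := by omega
        have h5 : δX x = δY (f x) + (r : ℤ) := by omega
        rw [if_pos h5, if_pos h4, length_stalk_pullback f F x, ENat.toNat_mul]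
        push_cast
        rfl
      · rw [not_nontrivial_iff_subsingleton] at hN
        haveI := hN
        have hz : Module.length (Y.presheaf.stalk (f x)) (F.presheaf.stalk (f x)) = 0 :=
          Module.length_eq_zero_iff.mpr inferInstance
        rw [length_stalk_pullback f F x, hz, zero_mul]
        split_ifs <;> simp
    · rw [if_neg hR]
      by_cases h5 : δX x = δY (f x) + (r : ℤ)
      · rw [if_pos h5]
        have h4 : ¬ δY (f x) = k := fun h => hR (by omega)
        rw [if_neg h4, zero_mul]
      · rw [if_neg h5]

end Groth.Agent.S1897
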