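import Groth.Statements.S18974
import Mathlib

set_option autoImplicit false
universe u
open CAlg

namespace Groth.Agent.S18974

open Polynomial Finset

section
variable {A : Type u} [CommRing A] [Algebra ℚ A] (D : Derivation ℚ A A)

/-- iterated derivation -/
noncomputable def Dn (n : ℕ) (x : A) : A := ((D : A →ₗ[ℚ] A) ^ n) x

lemma Dn_zero (x : A) : Dn D 0 x = x := by simp [Dn]

lemma Dn_succ (n : ℕ) (x : A) : Dn D (n + 1) x = D (Dn D n x) := by
  unfold Dn
  rw [pow_succ']
  rfl

lemma Dn_succ' (n : ℕ) (x : A) : Dn D (n + 1) x = Dn D n (D x) := by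
  unfold Dn
  rw [pow_succ]
  rfl

lemma Dn_add (n : ℕ) (x y : A) : Dn D n (x + y) = Dn D n x + Dn D n y := by
  unfold Dn; exact map_add _ _ _

lemma Dn_smul (n : ℕ) (q : ℚ) (x : A) : Dn D n (q • x) = q • Dn D n x := by
  unfold Dn; exact map_smul _ _ _

lemma Dn_eq_zero_of_le {N n : ℕ} (h : N ≤ n) (x : A) (hx : Dn D N x = 0) : Dn D n x = 0 := by
  obtain ⟨k, rfl⟩ := Nat.exists_eq_add_of_le h
  induction k with
  | zero => exact hx
  | succ k ih =>
    rw [← add_assoc, Dn_succ, ih (Nat.le_add_right _ _), map_zero]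

/-- general Leibniz rule -/
lemma Dn_mul (n : ℕ) (x y : A) :
    Dn D n (x * y) = ∑ ij ∈ antidiagonal n, n.choose ij.1 • (Dn D ij.1 x * Dn D ij.2 y) := by
  induction n with
  | zero => simp [Dn_zero]
  | succ n ih =>
    rw [sum_antidiagonal_choose_succ_nsmul (M := A) (fun i j => Dn D i x * Dn D j y) n]
    rw [Dn_succ, ih, map_sum]
    simp only [map_nsmul, Derivation.leibniz, smul_eq_mul, smul_add, sum_add_distrib]
    congr 1
    · refine sum_congr rfl fun ij _ => ?_
      rw [Dn_succ]
    · refine sum_congr rfl fun ij hij => ?_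
      rw [n.choose_symm_of_eq_add (mem_antidiagonal.1 hij).symm, Dn_succ, mul_comm]

/-- divided powers -/
noncomputable def dp (n : ℕ) (x : A) : A := ((n.factorial : ℚ)⁻¹) • Dn D n x

lemma dp_zero (x : A) : dp D 0 x = x := by simp [dp, Dn_zero]

lemma dp_mul (n : ℕ) (x y : A) :
    dp D n (x * y) = ∑ ij ∈ antidiagonal n, dp D ij.1 x * dp D ij.2 y := by
  unfold dp
  rw [Dn_mul, smul_sum]
  refine sum_congr rfl fun ij hij => ?_
  have hn : ij.1 + ij.2 = n := mem_antidiagonal.1 hij
  rw [smul_mul_smul_comm, ← Nat.cast_smul_eq_nsmul ℚ, smul_smul]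
  congr 1
  have h1 : (n.choose ij.1 : ℚ) * (ij.2.factorial : ℚ) * (ij.1.factorial : ℚ) = (n.factorial : ℚ) := by
    have := Nat.add_choose_mul_factorial_mul_factorial ij.2 ij.1
    rw [add_comm, hn] at this
    exact_mod_cast this
  have h2 : (n.factorial : ℚ) ≠ 0 := by positivity
  have h3 : (ij.1.factorial : ℚ) ≠ 0 := by positivity
  have h4 : (ij.2.factorial : ℚ) ≠ 0 := by positivity
  have h5 : (n.choose ij.1 : ℚ) ≠ 0 := by
    intro h
    rw [h, zero_mul, zero_mul] at h1
    exact h2 h1.symm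
  rw [← h1]
  field_simp

lemma dp_add (n : ℕ) (x y : A) : dp D n (x + y) = dp D n x + dp D n y := by
  unfold dp; rw [Dn_add, smul_add]

lemma D_dp (n : ℕ) (x : A) : D (dp D n x) = ((n + 1 : ℕ) : ℚ) • dp D (n + 1) x := by
  unfold dp
  rw [D.map_smul, ← Dn_succ, smul_smul]
  congr 1
  rw [Nat.factorial_succ]
  have h1 : ((n + 1 : ℕ) : ℚ) ≠ 0 := by positivity
  have h2 : (n.factorial : ℚ) ≠ 0 := by positivity
  push_cast
  field_simp

lemma dp_D (n : ℕ) (x : A) : dp D n (D x) = ((n + 1 : ℕ) : ℚ) • dp D (n + 1) x := by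
  unfold dp
  rw [← Dn_succ', smul_smul]
  congr 1
  rw [Nat.factorial_succ]
  have h1 : ((n + 1 : ℕ) : ℚ) ≠ 0 := by positivity
  have h2 : (n.factorial : ℚ) ≠ 0 := by positivity
  push_cast
  field_simp

variable (hnil : ∀ x : A, ∃ n : ℕ, ((D : A →ₗ[ℚ] A) ^ n) x = 0)

lemma dp_eq_zero_of_le {N n : ℕ} (h : N ≤ n) (x : A) (hx : Dn D N x = 0) : dp D n x = 0 := by
  unfold dp
  rw [Dn_eq_zero_of_le D h x hx, smul_zero]

/-- the Taylor polynomial -/
noncomputable def Epoly (x : A) : A[X] :=
  ∑ n ∈ range (Classical.choose (hnil x)), monomial n (dp D n x)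

lemma coeff_Epoly (x : A) (n : ℕ) : (Epoly D hnil x).coeff n = dp D n x := by
  unfold Epoly
  rw [finsetSum_coeff]
  simp only [coeff_monomial]
  by_cases hn : n < Classical.choose (hnil x)
  · rw [sum_eq_single n]
    · rw [if_pos rfl]
    · intro b _ hb; rw [if_neg hb]
    · intro h; exact (h (mem_range.2 hn)).elim
  · rw [sum_eq_zero]
    · exact (dp_eq_zero_of_le D (not_lt.1 hn) x (Classical.choose_spec (hnil x))).symm
    · intro b hb
      rw [if_neg]
      intro h
      exact hn (h ▸ mem_range.1 hb)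

/-- the Taylor ring homomorphism -/
noncomputable def E : A →+* A[X] where
  toFun := Epoly D hnil
  map_one' := by
    ext n
    rw [coeff_Epoly, coeff_one]
    cases n with
    | zero => rw [dp_zero, if_pos rfl]
    | succ n =>
      rw [if_neg (Nat.succ_ne_zero n)]
      unfold dp
      rw [Dn_succ', Derivation.map_one_eq_zero]
      have : Dn D n (0 : A) = 0 := by unfold Dn; exact map_zero _
      rw [this, smul_zero]
  map_mul' x y := by
    ext n
    rw [coeff_Epoly, coeff_mul, dp_mul]
    refine sum_congr rfl fun ij _ => ?_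
    rw [coeff_Epoly, coeff_Epoly]
  map_zero' := by
    ext n
    rw [coeff_Epoly, coeff_zero]
    unfold dp
    have : Dn D n (0 : A) = 0 := by unfold Dn; exact map_zero _
    rw [this, smul_zero]
  map_add' x y := by
    ext n
    rw [coeff_Epoly, coeff_add, coeff_Epoly, coeff_Epoly, dp_add]

lemma coeff_E (x : A) (n : ℕ) : (E D hnil x).coeff n = dp D n x := coeff_Epoly D hnil x n

lemma E_eq_sum (x : A) (N : ℕ) (hN : Dn D N x = 0) :
    E D hnil x = ∑ n ∈ range N, monomial n (dp D n x) := by
  ext n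
  rw [coeff_E, finsetSum_coeff]
  simp only [coeff_monomial]
  by_cases hn : n < N
  · rw [sum_eq_single n]
    · rw [if_pos rfl]
    · intro b _ hb; rw [if_neg hb]
    · intro h; exact (h (mem_range.2 hn)).elim
  · rw [sum_eq_zero]
    · exact dp_eq_zero_of_le D (not_lt.1 hn) x hN
    · intro b hb
      rw [if_neg]
      intro h
      exact hn (h ▸ mem_range.1 hb)

/-- `E x = C x` when `D x = 0` -/
lemma E_of_D_eq_zero (x : A) (hx : D x = 0) : E D hnil x = C x := by
  rw [E_eq_sum D hnil x 1 (by rw [Dn_succ, Dn_zero, hx]), sum_range_one, dp_zero, monomial_zero_left]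

variable (a : A)

/-- the Dixmier map -/
noncomputable def eps : A →+* A := (Polynomial.evalRingHom (-a)).comp (E D hnil)

lemma eps_apply (x : A) : eps D hnil a x = (E D hnil x).eval (-a) := rfl

lemma eps_eq_sum (x : A) (N : ℕ) (hN : Dn D N x = 0) :
    eps D hnil a x = ∑ n ∈ range N, dp D n x * (-a) ^ n := by
  rw [eps_apply, E_eq_sum D hnil x N hN, eval_finsetSum]
  refine sum_congr rfl fun n _ => ?_
  rw [eval_monomial]

/-- `eps x = x` when `D x = 0` -/
lemma eps_of_D_eq_zero (x : A) (hx : D x = 0) : eps D hnil a x = x := by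
  rw [eps_apply, E_of_D_eq_zero D hnil x hx, eval_C]

variable (ha : D a = 1)

include ha in
lemma E_a : E D hnil a = C a + X := by
  have h2 : Dn D 2 a = 0 := by
    rw [Dn_succ, Dn_succ, Dn_zero, ha, Derivation.map_one_eq_zero]
  rw [E_eq_sum D hnil a 2 h2, sum_range_succ, sum_range_one, dp_zero, monomial_zero_left]
  congr 1
  unfold dp
  rw [Dn_succ, Dn_zero, ha, Nat.factorial_one, Nat.cast_one, inv_one, one_smul,
    monomial_one_one_eq_X]

include ha in
lemma eps_a : eps D hnil a a = 0 := by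
  rw [eps_apply, E_a D hnil a ha, eval_add, eval_C, eval_X, add_neg_cancel]

include ha in
/-- `D ∘ eps = 0` -/
lemma D_eps (x : A) : D (eps D hnil a x) = 0 := by
  obtain ⟨N, hN⟩ := hnil x
  change Dn D N x = 0 at hN
  rw [eps_eq_sum D hnil a x N hN, map_sum]
  -- telescoping
  set f : ℕ → A := fun m : ℕ => (m : ℚ) • (dp D m x * (-a) ^ (m - 1)) with hf
  have hterm : ∀ n, D (dp D n x * (-a) ^ n) = f (n + 1) - f n := by
    intro n
    simp only [hf]
    rw [Derivation.leibniz, Derivation.leibniz_pow, D_dp, map_neg, ha]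
    simp only [smul_eq_mul, Algebra.smul_def, map_natCast, Nat.add_sub_cancel,
      eq_natCast]
    push_cast
    ring
  rw [sum_congr rfl (fun n _ => hterm n), sum_range_sub]
  simp only [hf, Nat.cast_zero, zero_smul, sub_zero]
  rw [dp_eq_zero_of_le D le_rfl x hN, zero_mul, smul_zero]

/-- the candidate isomorphism -/
noncomputable def chi0 : A →+* (A ⧸ Ideal.span ({a} : Set A))[X] :=
  (Polynomial.mapRingHom (Ideal.Quotient.mk (Ideal.span ({a} : Set A)))).comp (E D hnil)

lemma coeff_chi0 (x : A) (n : ℕ) :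
    (chi0 D hnil a x).coeff n = Ideal.Quotient.mk (Ideal.span ({a} : Set A)) (dp D n x) := by
  change ((E D hnil x).map _).coeff n = _
  rw [coeff_map, coeff_E]

include ha in
lemma eps_mem_ker : Ideal.span ({a} : Set A) ≤ RingHom.ker (eps D hnil a) := by
  rw [Ideal.span_le]
  intro y hy
  rw [Set.mem_singleton_iff.1 hy]
  exact eps_a D hnil a ha

/-- the induced map on the quotient -/
noncomputable def epsBar : (A ⧸ Ideal.span ({a} : Set A)) →+* A :=
  Ideal.Quotient.lift (Ideal.span ({a} : Set A)) (eps D hnil a)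
    (fun y hy => eps_mem_ker D hnil a ha hy)

lemma epsBar_mk (x : A) :
    epsBar D hnil a ha (Ideal.Quotient.mk (Ideal.span ({a} : Set A)) x) = eps D hnil a x :=
  Ideal.Quotient.lift_mk _ _ _

/-- the inverse -/
noncomputable def psi : (A ⧸ Ideal.span ({a} : Set A))[X] →+* A :=
  Polynomial.eval₂RingHom (epsBar D hnil a ha) a

lemma psi_X : psi D hnil a ha X = a := by
  change eval₂ _ _ X = a
  rw [eval₂_X]

lemma psi_C (x : A) :
    psi D hnil a ha (C (Ideal.Quotient.mk (Ideal.span ({a} : Set A)) x)) = eps D hnil a x := by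
  change eval₂ _ _ (C _) = _
  rw [eval₂_C, epsBar_mk]

lemma mk_eps (x : A) :
    Ideal.Quotient.mk (Ideal.span ({a} : Set A)) (eps D hnil a x) =
      Ideal.Quotient.mk (Ideal.span ({a} : Set A)) x := by
  obtain ⟨N, hN⟩ := hnil x
  change Dn D N x = 0 at hN
  have hN1 : Dn D (N + 1) x = 0 := Dn_eq_zero_of_le D (Nat.le_succ N) x hN
  rw [eps_eq_sum D hnil a x (N + 1) hN1, sum_range_succ', pow_zero, mul_one, dp_zero, map_add,
    add_eq_right, map_sum]
  apply sum_eq_zero
  intro n _
  rw [Ideal.Quotient.eq_zero_iff_mem, pow_succ, ← mul_assoc]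
  exact Ideal.mul_mem_left _ _ (Ideal.neg_mem_iff _ |>.2 (Ideal.subset_span rfl))

include ha in
lemma chi0_eps (x : A) :
    chi0 D hnil a (eps D hnil a x) = C (Ideal.Quotient.mk (Ideal.span ({a} : Set A)) x) := by
  change ((E D hnil (eps D hnil a x)).map _) = _
  rw [E_of_D_eq_zero D hnil _ (D_eps D hnil a ha x), map_C]
  change C (Ideal.Quotient.mk _ (eps D hnil a x)) = _
  rw [mk_eps D hnil a]

include ha in
lemma chi0_a : chi0 D hnil a a = X := by
  change ((E D hnil a).map _) = _
  rw [E_a D hnil a ha, Polynomial.map_add, map_C, map_X]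
  change C (Ideal.Quotient.mk _ a) + X = X
  have h0 : Ideal.Quotient.mk (Ideal.span ({a} : Set A)) a = 0 :=
    Ideal.Quotient.eq_zero_iff_mem.2 (Ideal.subset_span (Set.mem_singleton a))
  rw [h0, map_zero, zero_add]

lemma chi0_psi (p : (A ⧸ Ideal.span ({a} : Set A))[X]) :
    chi0 D hnil a (psi D hnil a ha p) = p := by
  have : (chi0 D hnil a).comp (psi D hnil a ha) = RingHom.id _ := by
    apply Polynomial.ringHom_ext
    · intro y
      obtain ⟨x, rfl⟩ := Ideal.Quotient.mk_surjective y
      rw [RingHom.comp_apply, psi_C, chi0_eps D hnil a ha]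
      rfl
    · rw [RingHom.comp_apply, psi_X, chi0_a D hnil a ha]
      rfl
  exact RingHom.congr_fun this p

include ha in
lemma chi0_injective : Function.Injective (chi0 D hnil a) := by
  rw [injective_iff_map_eq_zero]
  intro x hx
  by_contra hx0
  -- all `Dn n x ∈ (a)`
  have hmem : ∀ n, Dn D n x ∈ Ideal.span ({a} : Set A) := by
    intro n
    have h1 := coeff_chi0 D hnil a x n
    rw [hx, coeff_zero] at h1
    have h2 : dp D n x ∈ Ideal.span ({a} : Set A) := Ideal.Quotient.eq_zero_iff_mem.1 h1.symm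
    have h3 : Dn D n x = (n.factorial : ℚ) • dp D n x := by
      unfold dp
      rw [smul_smul, mul_inv_cancel₀ (by positivity), one_smul]
    rw [h3, Algebra.smul_def]
    exact Ideal.mul_mem_left _ _ h2
  classical
  have hex : ∃ n, Dn D n x = 0 := hnil x
  have hN0 : Nat.find hex ≠ 0 := by
    intro h0
    have := Nat.find_spec hex
    rw [h0, Dn_zero] at this
    exact hx0 this
  obtain ⟨M, hM⟩ := Nat.exists_eq_succ_of_ne_zero hN0
  have hy0 : Dn D M x ≠ 0 := Nat.find_min hex (by rw [hM]; exact Nat.lt_succ_self M)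
  have hDy : D (Dn D M x) = 0 := by
    rw [← Dn_succ, ← Nat.succ_eq_add_one, ← hM]
    exact Nat.find_spec hex
  apply hy0
  obtain ⟨z, hz⟩ := Ideal.mem_span_singleton'.1 (hmem M)
  rw [← eps_of_D_eq_zero D hnil a _ hDy, ← hz, map_mul, eps_a D hnil a ha, mul_zero]

/-- the isomorphism -/
noncomputable def chi : A ≃+* (A ⧸ Ideal.span ({a} : Set A))[X] :=
  RingEquiv.ofBijective (chi0 D hnil a)
    ⟨chi0_injective D hnil a ha, fun p => ⟨psi D hnil a ha p, chi0_psi D hnil a ha p⟩⟩

lemma chi_apply (x : A) : chi D hnil a ha x = chi0 D hnil a x := rfl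

lemma chi_symm_apply (p : (A ⧸ Ideal.span ({a} : Set A))[X]) :
    (chi D hnil a ha).symm p = psi D hnil a ha p := by
  rw [RingEquiv.symm_apply_eq, chi_apply, chi0_psi]

end


/-- Let A be a commutative algebra over the rationals, D a locally nilpotent derivation of A and a an
element with D a = 1; write A' for the quotient of A by the ideal generated by a. Then there is a
ring isomorphism from A onto the polynomial ring A'[Y] which sends every x to the (finite) sum over
n of (1/n!) (class of D^n x) Y^n; its inverse sends Y to a and the constant polynomial on the class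
of x to the sum over n of ((-1)^n/n!) (D^n x) a^n, and under it D corresponds to the derivative
d/dY. (The source says only that A is a ring, in a setting over a field of characteristic zero; the
rational coefficients 1/n! require an algebra over the rationals, which is the hypothesis taken
here. Both sums are written over any range beyond which the iterates of D vanish at x.) -/
theorem result
    (A : Type u) [CommRing A] [Algebra ℚ A] (D : Derivation ℚ A A)
    (hnil : ∀ x : A, ∃ n : ℕ, ((D : A →ₗ[ℚ] A) ^ n) x = 0) (a : A) (ha : D a = 1) :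
    ∃ χ : A ≃+* Polynomial (A ⧸ Ideal.span ({a} : Set A)),
      (∀ (x : A) (N : ℕ), ((D : A →ₗ[ℚ] A) ^ N) x = 0 →
        χ x = ∑ n ∈ Finset.range N,
          ((n.factorial : ℚ)⁻¹ • Polynomial.C (Ideal.Quotient.mk (Ideal.span ({a} : Set A)) (((D : A →ₗ[ℚ] A) ^ n) x))) *
            Polynomial.X ^ n) ∧
      χ.symm Polynomial.X = a ∧
      (∀ (x : A) (N : ℕ), ((D : A →ₗ[ℚ] A) ^ N) x = 0 →
        χ.symm (Polynomial.C (Ideal.Quotient.mk (Ideal.span ({a} : Set A)) x)) =
          ∑ n ∈ Finset.range N, (((-1 : ℚ) ^ n * (n.factorial : ℚ)⁻¹) • ((((D : A →ₗ[ℚ] A) ^ n) x) * a ^ n))) ∧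
      ∀ p : Polynomial (A ⧸ Ideal.span ({a} : Set A)), χ (D (χ.symm p)) = Polynomial.derivative p := by
  refine ⟨chi D hnil a ha, ?_, ?_, ?_, ?_⟩
  · intro x N hN
    change Dn D N x = 0 at hN
    rw [chi_apply]
    change ((E D hnil x).map _) = _
    rw [E_eq_sum D hnil x N hN, Polynomial.map_sum]
    refine sum_congr rfl fun n _ => ?_
    rw [map_monomial, ← C_mul_X_pow_eq_monomial]
    congr 1
    rw [smul_C]
    congr 1
  · rw [chi_symm_apply, psi_X]
  · intro x N hN
    change Dn D N x = 0 at hN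
    rw [chi_symm_apply, psi_C, eps_eq_sum D hnil a x N hN]
    refine sum_congr rfl fun n _ => ?_
    change dp D n x * (-a) ^ n = ((-1 : ℚ) ^ n * (n.factorial : ℚ)⁻¹) • (Dn D n x * a ^ n)
    unfold dp
    rw [neg_pow, Algebra.smul_def, Algebra.smul_def, map_mul, map_pow, map_neg, map_one]
    ring
  · intro p
    obtain ⟨y, rfl⟩ := (chi D hnil a ha).surjective p
    rw [RingEquiv.symm_apply_apply, chi_apply, chi_apply]
    ext n
    rw [coeff_chi0, coeff_derivative, coeff_chi0, dp_D, Algebra.smul_def, map_mul, map_natCast,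
      map_natCast]
    push_cast
    ring

end Groth.Agent.S18974
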