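import Groth.Statements.S18977
import Mathlib
import Groth.Agent.Lib.Helper12RelTorsor
import Groth.Agent.Lib.Helper12Act

set_option autoImplicit false
universe u
open CategoryTheory MonoidalCategory CartesianMonoidalCategory MonObj AlgebraicGeometry
open GIT

namespace Groth.Agent.S18977


open Groth.Agent.Lib.Helper12 Groth.Agent.Lib.Helper12.RelTorsor



/-- Composition of torsors. Over an algebraically closed field k of characteristic zero, let G be an
affine group scheme of finite type over k, N a closed normal subgroup scheme which is the kernel of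
a homomorphism q : G → Q, and H a closed subgroup scheme of G which q maps isomorphically onto Q (so
G is the inner semidirect product N H). Let G act on a k-scheme X and let φ₁ : X → Y be a torsor
over Y under the restricted action of N (the square formed by the N-action, the second projection
and φ₁ twice is cartesian, and φ₁ acquires sections on the members of some fpqc covering family of
Y); let Q act on Y so that φ₁ is equivariant along q, and let φ₂ : Y → Z be a Q-torsor over Z in the
same sense. Then φ₂ ∘ φ₁ is a G-torsor over Z: the square formed by the G-action, the second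
projection and φ₂ ∘ φ₁ twice is cartesian, and φ₂ ∘ φ₁ acquires sections fpqc-locally on Z. (The
induced action of the factor group on Y is taken as a datum together with the equivariance of φ₁;
the source's second assertion, that the composite of trivial torsors is trivial, amounts to
composing sections and is not restated.) -/
theorem result
    (k : Type u) [Field k] [IsAlgClosed k] [CharZero k]
    (G N Q H X Y Z : Over (Spec (CommRingCat.of k))) [GrpObj G] [GrpObj N] [GrpObj Q] [GrpObj H]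
    [IsAffine G.left] [LocallyOfFiniteType G.hom]
    (iN : N ⟶ G) [IsMonHom iN] [IsClosedImmersion iN.left] (hnorm : AlgGrp.IsNormalHom iN)
    (q : G ⟶ Q) [IsMonHom q] (hker : AlgGrp.IsKernel iN q)
    (iH : H ⟶ G) [IsMonHom iH] [IsClosedImmersion iH.left] [IsIso (iH ≫ q)]
    (a : AlgGrp.Action G X) (φ₁ : X ⟶ Y)
    (h₁ : IsPullback (a.restrict iN).act (snd N X) φ₁ φ₁)
    (h₁loc : NonAbH1.IsLocallyTrivialFor Scheme.fpqcPrecoverage (Over.mk φ₁.left : Over Y.left))
    (aY : AlgGrp.Action Q Y) (hequiv : (q ⊗ₘ φ₁) ≫ aY.act = a.act ≫ φ₁)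
    (φ₂ : Y ⟶ Z) (h₂ : IsPullback aY.act (snd Q Y) φ₂ φ₂)
    (h₂loc : NonAbH1.IsLocallyTrivialFor Scheme.fpqcPrecoverage (Over.mk φ₂.left : Over Z.left)) :
    IsPullback a.act (snd G X) (φ₁ ≫ φ₂) (φ₁ ≫ φ₂) ∧
      NonAbH1.IsLocallyTrivialFor Scheme.fpqcPrecoverage (Over.mk (φ₁ ≫ φ₂).left : Over Z.left) := by
  refine ⟨?_, isLocallyTrivialFor_comp φ₁.left φ₂.left h₁loc h₂loc⟩
  -- equivariance on points
  have heq : ∀ {T : Over (Spec (CommRingCat.of k))} (g : T ⟶ G) (x : T ⟶ X),
      (lift g x ≫ a.act) ≫ φ₁ = lift (g ≫ q) (x ≫ φ₁) ≫ aY.act := by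
    intro T g x
    rw [Category.assoc, ← hequiv, ← Category.assoc]
    congr 1
    apply CartesianMonoidalCategory.hom_ext <;> simp
  have w : a.act ≫ φ₁ ≫ φ₂ = snd G X ≫ φ₁ ≫ φ₂ := by
    rw [← Category.assoc, ← hequiv, Category.assoc, h₂.w]
    simp
  refine isPullback_of_existsUnique w ?_
  intro T x₁ x₂ e
  obtain ⟨c, hc, hcu⟩ := existsUnique_of_isPullback h₂ (x₁ ≫ φ₁) (x₂ ≫ φ₁)
    (by simpa using e)
  set g₀ : T ⟶ G := c ≫ inv (iH ≫ q) ≫ iH with hg₀
  have hg₀q : g₀ ≫ q = c := by
    simp only [hg₀, Category.assoc]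
    rw [IsIso.inv_hom_id, Category.comp_id]
  have h3 : (lift g₀ x₂ ≫ a.act) ≫ φ₁ = x₁ ≫ φ₁ := by rw [heq, hg₀q, hc]
  obtain ⟨n, hn, hnu⟩ := existsUnique_of_isPullback h₁ x₁ (lift g₀ x₂ ≫ a.act) h3.symm
  have hn' : lift (n ≫ iN) (lift g₀ x₂ ≫ a.act) ≫ a.act = x₁ := by
    rw [← AlgGrp.Action.lift_restrict_act]; exact hn
  refine ⟨(n ≫ iN) * g₀, ?_, ?_⟩
  · change lift ((n ≫ iN) * g₀) x₂ ≫ a.act = x₁
    rw [act_mul, hn']
  · intro g' hg'
    have hg'q : g' ≫ q = c := by
      apply hcu
      change lift (g' ≫ q) (x₂ ≫ φ₁) ≫ aY.act = x₁ ≫ φ₁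
      rw [← heq, hg']
    set κ := g' * g₀⁻¹ with hκ
    have hκq : κ ≫ q = toUnit T ≫ η[Q] := by
      rw [hκ, MonObj.mul_comp, GrpObj.inv_comp, hg'q, hg₀q, mul_inv_cancel]
      rfl
    obtain ⟨n', hn'1, -⟩ : ∃ n' : T ⟶ N, n' ≫ iN = κ ∧ True :=
      ⟨hker.lift κ (toUnit T) hκq, hker.lift_fst _ _ _, trivial⟩
    have h4 : n' = n := by
      apply hnu
      change lift n' (lift g₀ x₂ ≫ a.act) ≫ (a.restrict iN).act = x₁
      rw [AlgGrp.Action.lift_restrict_act, hn'1, ← act_mul, hκ, inv_mul_cancel_right, hg']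
    rw [← h4, hn'1, hκ, inv_mul_cancel_right]

end Groth.Agent.S18977
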