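import Groth.Statements.S18983
import Mathlib
-- import your own Groth.Agent.* helpers here

set_option autoImplicit false
set_option linter.style.haveILetI false
set_option linter.unusedSectionVars false
universe u v w
open CAlg

namespace Groth.Agent.S18983

open Module

section
variable {k : Type u} [Field k] {Λ : Type v} [AddCommGroup Λ] [DecidableEq Λ]
  {V : Type w} [AddCommGroup V] [Module k V]
  (𝒱 : Λ → Submodule k V) (A : Module.End k V) (χ : Λ)

/-- the chain family with tops `t i` and lengths `n i + 1` -/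
def E {ι : Type w} (n : ι → ℕ) (t : ι → V) : (Σ i : ι, Fin (n i + 1)) → V :=
  fun x => (A ^ (n x.1 - (x.2 : ℕ))) (t x.1)

variable {𝒱 A χ}

lemma pow_hom (hhom : ∀ (μ : Λ) (v : V), v ∈ 𝒱 μ → A v ∈ 𝒱 (μ + χ)) (m : ℕ) (v : V)
    (hv : ∃ μ, v ∈ 𝒱 μ) : ∃ μ, (A ^ m) v ∈ 𝒱 μ := by
  induction m with
  | zero => simpa using hv
  | succ m ih =>
    obtain ⟨μ, hμ⟩ := ih
    refine ⟨μ + χ, ?_⟩
    rw [pow_succ', Module.End.mul_apply]
    exact hhom μ _ hμ

lemma pow_mem (W : Submodule k V) (hWA : ∀ w ∈ W, A w ∈ W) (m : ℕ) (v : V) (hv : v ∈ W) :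
    (A ^ m) v ∈ W := by
  induction m with
  | zero => simpa using hv
  | succ m ih =>
    rw [pow_succ', Module.End.mul_apply]
    exact hWA _ ih

lemma proj_A [DirectSum.Decomposition 𝒱]
    (hhom : ∀ (μ : Λ) (v : V), v ∈ 𝒱 μ → A v ∈ 𝒱 (μ + χ)) (v : V) (μ : Λ) :
    ((DirectSum.decompose 𝒱 (A v)) (μ + χ) : V) = A ((DirectSum.decompose 𝒱 v) μ : V) := by
  induction v using DirectSum.Decomposition.inductionOn 𝒱 with
  | zero => simp
  | @homogeneous ν m =>
    by_cases h : ν = μ
    · subst h
      rw [DirectSum.decompose_of_mem_same 𝒱 (hhom ν _ m.2), DirectSum.decompose_of_mem_same 𝒱 m.2]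
    · have h' : ν + χ ≠ μ + χ := fun hh => h (add_right_cancel hh)
      rw [DirectSum.decompose_of_mem_ne 𝒱 (hhom ν _ m.2) h', DirectSum.decompose_of_mem_ne 𝒱 m.2 h,
        map_zero]
  | add m m' hm hm' =>
    rw [map_add, DirectSum.decompose_add, DirectSum.decompose_add, DirectSum.add_apply,
      DirectSum.add_apply, Submodule.coe_add, Submodule.coe_add, hm, hm', map_add]

theorem main [FiniteDimensional k V] [DirectSum.Decomposition 𝒱] (hA : IsNilpotent A)
    (hhom : ∀ (μ : Λ) (v : V), v ∈ 𝒱 μ → A v ∈ 𝒱 (μ + χ)) (d : ℕ) :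
    ∀ (W : Submodule k V), finrank k W = d → (∀ w ∈ W, A w ∈ W) →
      (∀ (μ : Λ), ∀ w ∈ W, ((DirectSum.decompose 𝒱 w) μ : V) ∈ W) →
    ∃ (ι : Type w) (_ : Finite ι) (n : ι → ℕ) (t : ι → V),
      (∀ i, ∃ μ, t i ∈ 𝒱 μ) ∧ (∀ i, (A ^ (n i + 1)) (t i) = 0) ∧
      LinearIndependent k (E A n t) ∧ Submodule.span k (Set.range (E A n t)) = W := by
  classical
  induction d using Nat.strong_induction_on with
  | _ d ih =>
  intro W hd hWA hWgr
  by_cases hW : W = ⊥
  · subst hW
    haveI : IsEmpty (Σ i : PEmpty.{w+1}, Fin ((PEmpty.elim i : ℕ) + 1)) := ⟨fun x => x.1.elim⟩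
    refine ⟨PEmpty, inferInstance, PEmpty.elim, PEmpty.elim, fun i => i.elim, fun i => i.elim,
      linearIndependent_empty_type, ?_⟩
    rw [Set.range_eq_empty, Submodule.span_empty]
  · set W' : Submodule k V := W.map A with hW'
    have hW'le : W' ≤ W := by
      rintro _ ⟨w, hw, rfl⟩
      exact hWA w hw
    have hlt : finrank k W' < finrank k W := by
      by_contra hcon
      push Not at hcon
      have heq : W' = W := Submodule.eq_of_le_of_finrank_le hW'le hcon
      obtain ⟨N, hN⟩ := hA
      have hall : ∀ m : ℕ, W.map (A ^ m) = W := by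
        intro m
        induction m with
        | zero => simp [Module.End.one_eq_id]
        | succ m ihm =>
          rw [pow_succ', Module.End.mul_eq_comp, Submodule.map_comp, ihm]
          exact heq
      have h0 := hall N
      rw [hN] at h0
      apply hW
      rw [← h0]
      exact Submodule.map_zero _
    obtain ⟨ι', hfin', n', t', hhom', hnil', hli', hspan'⟩ :=
      ih (finrank k W') (hd ▸ hlt) W' rfl
        (fun w' hw' => Submodule.mem_map_of_mem (hW'le hw'))
        (by
          rintro μ _ ⟨w, hw, rfl⟩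
          have h1 := proj_A hhom w (μ - χ)
          rw [sub_add_cancel] at h1
          rw [h1]
          exact Submodule.mem_map_of_mem (hWgr _ w hw))
    have hE'mem : ∀ x, E A n' t' x ∈ W' := fun x => by
      rw [← hspan']; exact Submodule.subset_span ⟨x, rfl⟩
    have ht'mem : ∀ i, t' i ∈ W' := by
      intro i
      have h1 := hE'mem ⟨i, Fin.last (n' i)⟩
      simpa [E] using h1
    have hv : ∀ i, ∃ v, v ∈ W ∧ (∃ μ, v ∈ 𝒱 μ) ∧ A v = t' i := by
      intro i
      obtain ⟨w, hw, hwA⟩ := ht'mem i
      obtain ⟨μ, hμ⟩ := hhom' i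
      refine ⟨((DirectSum.decompose 𝒱 w) (μ - χ) : V), hWgr _ w hw, ⟨μ - χ, Submodule.coe_mem _⟩, ?_⟩
      have h1 := proj_A hhom w (μ - χ)
      rw [sub_add_cancel, hwA, DirectSum.decompose_of_mem_same 𝒱 hμ] at h1
      exact h1.symm
    choose v hvW hvhom hvA using hv
    set K : Submodule k V := W ⊓ LinearMap.ker A with hK
    set s : Set V := Set.range (fun i : ι' => E A n' t' ⟨i, 0⟩) with hs
    set T : Set V := {x | x ∈ K ∧ ∃ μ, x ∈ 𝒱 μ} with hT
    have hE0 : ∀ i : ι', E A n' t' ⟨i, 0⟩ = (A ^ (n' i)) (t' i) := fun i => by simp [E]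
    have hsT : s ⊆ T := by
      rintro _ ⟨i, rfl⟩
      refine ⟨⟨hW'le (hE'mem _), ?_⟩, ?_⟩
      · show A (E A n' t' ⟨i, 0⟩) = 0
        rw [hE0, ← Module.End.mul_apply, ← pow_succ', hnil']
      · show ∃ μ, E A n' t' ⟨i, 0⟩ ∈ 𝒱 μ
        rw [hE0]; exact pow_hom hhom _ _ (hhom' i)
    have hsli : LinearIndepOn k id s := by
      have h1 : LinearIndependent k (fun i : ι' => E A n' t' ⟨i, 0⟩) :=
        hli'.comp (fun i : ι' => (⟨i, 0⟩ : Σ i : ι', Fin (n' i + 1)))
          (fun i j h => congrArg Sigma.fst h)
      exact h1.linearIndepOn_id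
    obtain ⟨b, hbT, hsb, hTb, hbli⟩ := exists_linearIndepOn_id_extension hsli hsT
    have hKT : K ≤ Submodule.span k T := by
      intro w hw
      rw [← DirectSum.sum_support_decompose 𝒱 w]
      refine Submodule.sum_mem _ (fun μ _ =>
        Submodule.subset_span ⟨⟨hWgr μ w hw.1, ?_⟩, μ, Submodule.coe_mem _⟩)
      show A ((DirectSum.decompose 𝒱 w) μ : V) = 0
      rw [← proj_A hhom w μ, LinearMap.mem_ker.mp hw.2, DirectSum.decompose_zero]
      rfl
    have hbfin : b.Finite := LinearIndependent.setFinite hbli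
    let J := ↥(b \ s)
    haveI : Finite J := (hbfin.subset Set.diff_subset).to_subtype
    let n : ι' ⊕ J → ℕ := Sum.elim (fun i => n' i + 1) (fun _ => 0)
    let t : ι' ⊕ J → V := Sum.elim v (fun j => j.1)
    have hE1 : ∀ (i : ι') (l : Fin (n' i + 1)),
        A (E A n t ⟨Sum.inl i, l.succ⟩) = E A n' t' ⟨i, l⟩ := by
      intro i l
      show A ((A ^ (n' i + 1 - ((l.succ : Fin (n' i + 1 + 1)) : ℕ))) (v i))
        = (A ^ (n' i - (l : ℕ))) (t' i)
      rw [Fin.val_succ, Nat.add_sub_add_right, ← Module.End.mul_apply, ← pow_succ', pow_succ,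
        Module.End.mul_apply, hvA]
    have hE0' : ∀ i : ι', E A n t ⟨Sum.inl i, 0⟩ = E A n' t' ⟨i, 0⟩ := by
      intro i
      show (A ^ (n' i + 1 - ((0 : Fin (n' i + 1 + 1)) : ℕ))) (v i)
        = (A ^ (n' i - ((0 : Fin (n' i + 1)) : ℕ))) (t' i)
      rw [Fin.val_zero, Fin.val_zero, Nat.sub_zero, Nat.sub_zero, pow_succ, Module.End.mul_apply, hvA]
    have hEr : ∀ j : J, E A n t ⟨Sum.inr j, 0⟩ = j.1 := by
      intro j
      show (A ^ (0 - ((0 : Fin (0 + 1)) : ℕ))) j.1 = j.1
      simp
    have hEW : ∀ x, E A n t x ∈ W := by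
      rintro ⟨(i | j), l⟩
      · exact pow_mem W hWA _ _ (hvW i)
      · exact pow_mem W hWA _ _ (hbT j.2.1).1.1
    have hspan : Submodule.span k (Set.range (E A n t)) = W := by
      apply le_antisymm
      · rw [Submodule.span_le]; rintro _ ⟨x, rfl⟩; exact hEW x
      · intro w hw
        have hlift : ∀ y ∈ W', ∃ u ∈ Submodule.span k (Set.range (E A n t)), A u = y := by
          intro y hy
          rw [← hspan'] at hy
          induction hy using Submodule.span_induction with
          | mem y hy =>
            obtain ⟨⟨i, l⟩, rfl⟩ := hy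
            exact ⟨_, Submodule.subset_span ⟨⟨Sum.inl i, l.succ⟩, rfl⟩, hE1 i l⟩
          | zero => exact ⟨0, zero_mem _, map_zero _⟩
          | add y z _ _ hy hz =>
            obtain ⟨u, hu, rfl⟩ := hy
            obtain ⟨u', hu', rfl⟩ := hz
            exact ⟨u + u', add_mem hu hu', map_add _ _ _⟩
          | smul c y _ hy =>
            obtain ⟨u, hu, rfl⟩ := hy
            exact ⟨c • u, Submodule.smul_mem _ _ hu, map_smul _ _ _⟩
        obtain ⟨u, hu, huA⟩ := hlift (A w) (Submodule.mem_map_of_mem hw)
        have huW : u ∈ W :=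
          (Submodule.span_le.mpr (by rintro _ ⟨x, rfl⟩; exact hEW x)) hu
        have hdiff : w - u ∈ K :=
          ⟨sub_mem hw huW, by show A (w - u) = 0; rw [map_sub, huA, sub_self]⟩
        have hbS : b ⊆ Submodule.span k (Set.range (E A n t)) := by
          intro x hx
          by_cases hxs : x ∈ s
          · obtain ⟨i, rfl⟩ := hxs
            show E A n' t' ⟨i, 0⟩ ∈ _
            rw [← hE0' i]
            exact Submodule.subset_span ⟨_, rfl⟩
          · have h1 : E A n t ⟨Sum.inr ⟨x, hx, hxs⟩, 0⟩ = x := hEr ⟨x, hx, hxs⟩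
            exact Submodule.subset_span ⟨_, h1⟩
        have h2 : w - u ∈ Submodule.span k (Set.range (E A n t)) :=
          (Submodule.span_le.mpr hbS) ((Submodule.span_le.mpr hTb) (hKT hdiff))
        have h3 := add_mem h2 hu
        rwa [sub_add_cancel] at h3
    have hli : LinearIndependent k (E A n t) := by
      let Ψ : (Σ i : ι', Fin (n' i + 1)) ⊕ (ι' ⊕ J) → (Σ x : ι' ⊕ J, Fin (n x + 1)) := fun z =>
        match z with
        | Sum.inl ⟨i, l⟩ => ⟨Sum.inl i, l.succ⟩
        | Sum.inr (Sum.inl i) => ⟨Sum.inl i, 0⟩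
        | Sum.inr (Sum.inr j) => ⟨Sum.inr j, 0⟩
      have hcomp : LinearIndependent k (E A n t ∘ Ψ) := by
        have hF : (E A n t ∘ Ψ) = Sum.elim (fun x => E A n t (Ψ (Sum.inl x)))
            (fun y => E A n t (Ψ (Sum.inr y))) := by
          funext z; cases z <;> rfl
        rw [hF]
        have hF1 : (A ∘ fun x => E A n t (Ψ (Sum.inl x))) = E A n' t' := by
          funext ⟨i, l⟩
          exact hE1 i l
        apply LinearIndependent.sum_type
        · apply LinearIndependent.of_comp A
          rw [hF1]; exact hli'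
        · let g : ι' ⊕ J → b := fun y => match y with
            | Sum.inl i => ⟨E A n' t' ⟨i, 0⟩, hsb ⟨i, rfl⟩⟩
            | Sum.inr j => ⟨j.1, j.2.1⟩
          have hg : Function.Injective g := by
            rintro (i | j) (i' | j') h
            · have h1 : E A n' t' ⟨i, 0⟩ = E A n' t' ⟨i', 0⟩ := congrArg (fun z : b => (z : V)) h
              have h2 := hli'.injective h1
              have h3 : i = i' := congrArg Sigma.fst h2
              rw [h3]
            · exfalso
              have h1 : E A n' t' ⟨i, 0⟩ = j'.1 := congrArg (fun z : b => (z : V)) h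
              exact j'.2.2 ⟨i, h1⟩
            · exfalso
              have h1 : j.1 = E A n' t' ⟨i', 0⟩ := congrArg (fun z : b => (z : V)) h
              exact j.2.2 ⟨i', h1.symm⟩
            · have h1 : j.1 = j'.1 := congrArg (fun z : b => (z : V)) h
              rw [Subtype.ext h1]
          have h3 := LinearIndependent.comp hbli g hg
          have hF0 : (fun y => E A n t (Ψ (Sum.inr y))) = (fun x : b => id (x : V)) ∘ g := by
            funext y
            rcases y with i | j
            · exact hE0' i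
            · exact hEr j
          rw [hF0]; exact h3
        · rw [Submodule.disjoint_def]
          intro x hx1 hx0
          have hxker : A x = 0 := by
            have h4 : Submodule.span k (Set.range fun y => E A n t (Ψ (Sum.inr y)))
                ≤ LinearMap.ker A := by
              rw [Submodule.span_le]
              rintro _ ⟨y, rfl⟩
              rcases y with i | j
              · show E A n t ⟨Sum.inl i, 0⟩ ∈ _
                rw [hE0' i]; exact (hsT ⟨i, rfl⟩).1.2
              · show E A n t ⟨Sum.inr j, 0⟩ ∈ _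
                rw [hEr j]; exact (hbT j.2.1).1.2
            exact LinearMap.mem_ker.mp (h4 hx0)
          obtain ⟨c, rfl⟩ := Finsupp.mem_span_range_iff_exists_finsupp.mp hx1
          have h5 : A (c.sum fun x a => a • E A n t (Ψ (Sum.inl x)))
              = c.sum fun x a => a • E A n' t' x := by
            rw [map_finsuppSum]
            refine Finsupp.sum_congr (fun x _ => ?_)
            rw [map_smul]
            exact congrArg _ (congrFun hF1 x)
          have hc : c = 0 := by
            apply linearIndependent_iff.mp hli' c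
            rw [Finsupp.linearCombination_apply, ← h5, hxker]
          rw [hc]; simp
      have hΨinj : Function.Injective Ψ := hcomp.injective.of_comp
      have hΨsurj : Function.Surjective Ψ := by
        rintro ⟨(i | j), l⟩
        · refine Fin.cases ?_ (fun l' => ?_) l
          · exact ⟨Sum.inr (Sum.inl i), rfl⟩
          · exact ⟨Sum.inl ⟨i, l'⟩, rfl⟩
        · have hl : l = 0 := by
            apply Fin.ext
            have h6 := l.isLt
            change (l : ℕ) < 0 + 1 at h6
            simp only [Fin.val_zero]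
            omega
          subst hl
          exact ⟨Sum.inr (Sum.inr j), rfl⟩
      exact (linearIndependent_equiv (Equiv.ofBijective Ψ ⟨hΨinj, hΨsurj⟩)).mp hcomp
    refine ⟨ι' ⊕ J, inferInstance, n, t, ?_, ?_, hli, hspan⟩
    · rintro (i | j)
      · exact hvhom i
      · exact (hbT j.2.1).2
    · rintro (i | j)
      · show (A ^ (n' i + 1 + 1)) (v i) = 0
        rw [pow_succ, Module.End.mul_apply, hvA, hnil']
      · show (A ^ (0 + 1)) j.1 = 0
        rw [zero_add, pow_one]
        exact LinearMap.mem_ker.mp (hbT j.2.1).1.2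

end


/-- Let k be a field, Λ an additive commutative group, V a finite-dimensional k-vector space which is
the internal direct sum of subspaces V_μ indexed by Λ (a representation of a torus with character
group Λ), and A a nilpotent endomorphism of V mapping each V_μ into V_{μ+χ} for a fixed χ (the
infinitesimal generator of an action of the additive group on which the torus acts through the
character χ). Then V has a basis consisting of homogeneous vectors e_{i,l}, 0 ≤ l ≤ n_i, with A
e_{i,0} = 0 and A e_{i,l+1} = e_{i,l}: a weight basis bringing A into Jordan normal form. (The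
source states this, over an algebraically closed field of characteristic zero, as a decomposition of
every representation of the semidirect product of the additive group with a torus into twists of
symmetric powers of the standard two-dimensional representation by characters; the first line of its
proof reduces that to the present statement, which is what is proved, and which holds over any
field.) -/
theorem result
    (k : Type u) [Field k] (Λ : Type v) [AddCommGroup Λ] [DecidableEq Λ]
    (V : Type w) [AddCommGroup V] [Module k V] [FiniteDimensional k V]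
    (𝒱 : Λ → Submodule k V) (h𝒱 : DirectSum.IsInternal 𝒱)
    (A : Module.End k V) (hA : IsNilpotent A) (χ : Λ)
    (hhom : ∀ (μ : Λ) (v : V), v ∈ 𝒱 μ → A v ∈ 𝒱 (μ + χ)) :
    ∃ (ι : Type w) (_ : Finite ι) (n : ι → ℕ) (b : Module.Basis (Σ i : ι, Fin (n i + 1)) k V),
      (∀ (i : ι) (l : Fin (n i + 1)), ∃ μ : Λ, b ⟨i, l⟩ ∈ 𝒱 μ) ∧
      (∀ i : ι, A (b ⟨i, 0⟩) = 0) ∧
      ∀ (i : ι) (l : Fin (n i)), A (b ⟨i, l.succ⟩) = b ⟨i, l.castSucc⟩ := by
  classical
  haveI : DirectSum.Decomposition 𝒱 := h𝒱.chooseDecomposition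
  obtain ⟨ι, hfin, n, t, hhomt, hnil, hli, hspan⟩ :=
    main (𝒱 := 𝒱) hA hhom _ ⊤ rfl (fun _ _ => Submodule.mem_top) (fun _ _ _ => Submodule.mem_top)
  refine ⟨ι, hfin, n, Basis.mk hli hspan.ge, ?_, ?_, ?_⟩
  · intro i l
    rw [Basis.mk_apply]
    exact pow_hom hhom _ _ (hhomt i)
  · intro i
    rw [Basis.mk_apply]
    show A ((A ^ (n i - ((0 : Fin (n i + 1)) : ℕ))) (t i)) = 0
    rw [Fin.val_zero, Nat.sub_zero, ← Module.End.mul_apply, ← pow_succ', hnil]
  · intro i l
    rw [Basis.mk_apply, Basis.mk_apply]
    show A ((A ^ (n i - ((l.succ : Fin (n i + 1)) : ℕ))) (t i))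
      = (A ^ (n i - ((l.castSucc : Fin (n i + 1)) : ℕ))) (t i)
    rw [Fin.val_succ, Fin.val_castSucc, ← Module.End.mul_apply, ← pow_succ']
    have h1 : n i - ((l : ℕ) + 1) + 1 = n i - (l : ℕ) := by have := l.isLt; omega
    rw [h1]

end Groth.Agent.S18983
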