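import Groth.Statements.S19004
-- import your own Groth.Agent.* helpers here
import Mathlib

set_option autoImplicit false
open GIT

namespace Groth.Agent.S19004

section Helpers
open MvPolynomial Matrix Equiv Finset

variable (n : ℕ)

/-- exponent vector of the `τ`-term of `det (X_i^j)` -/
noncomputable def eA (τ : Perm (Fin n)) : Fin n →₀ ℕ := ∑ i, Finsupp.single (τ i) (i : ℕ)

/-- exponent vector of the `σ`-term of `det (X_i^(n-1-j))` -/
noncomputable def eB (σ : Perm (Fin n)) : Fin n →₀ ℕ :=
  ∑ i, Finsupp.single (σ i) (n - 1 - (i : ℕ))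

theorem eA_apply (τ : Perm (Fin n)) (i : Fin n) : eA n τ (τ i) = i := by
  classical
  simp only [eA, Finsupp.coe_finset_sum, Finset.sum_apply, Finsupp.single_apply]
  rw [Finset.sum_eq_single i]
  · simp
  · intro j _ hj
    rw [if_neg]
    intro h; exact hj (τ.injective h)
  · intro h; exact absurd (Finset.mem_univ i) h

theorem eB_apply (σ : Perm (Fin n)) (i : Fin n) : eB n σ (σ i) = n - 1 - (i : ℕ) := by
  classical
  simp only [eB, Finsupp.coe_finset_sum, Finset.sum_apply, Finsupp.single_apply]
  rw [Finset.sum_eq_single i]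
  · simp
  · intro j _ hj
    rw [if_neg]
    intro h; exact hj (σ.injective h)
  · intro h; exact absurd (Finset.mem_univ i) h

/-- the target exponent vector -/
noncomputable def mTop : Fin n →₀ ℕ := Finsupp.equivFunOnFinite.symm (fun _ : Fin n => n - 1)

theorem eA_add_eB_eq_iff (τ σ : Perm (Fin n)) : eA n τ + eB n σ = mTop n ↔ τ = σ := by
  constructor
  · intro h
    ext i
    -- evaluate at τ i
    have h1 := DFunLike.congr_fun h (τ i)
    obtain ⟨j, hj⟩ : ∃ j, σ j = τ i := σ.surjective (τ i)
    simp only [Finsupp.add_apply, mTop, Finsupp.equivFunOnFinite_symm_apply_apply] at h1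
    rw [eA_apply, ← hj, eB_apply] at h1
    have hi := i.2
    have hj' := j.2
    have : (i : ℕ) = j := by omega
    rw [← hj, Fin.ext this]
  · rintro rfl
    ext k
    obtain ⟨i, rfl⟩ := τ.surjective k
    simp only [Finsupp.add_apply, mTop, Finsupp.equivFunOnFinite_symm_apply_apply]
    rw [eA_apply, eB_apply]
    have := i.2
    omega

local notation "P" => MvPolynomial (Fin n) ℤ

theorem detA : det (vandermonde (X : Fin n → P)) =
    ∑ τ : Perm (Fin n), ((Perm.sign τ : ℤˣ) : ℤ) • monomial (eA n τ) (1 : ℤ) := by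
  rw [det_apply]
  refine Finset.sum_congr rfl fun τ _ => ?_
  rw [Units.smul_def]
  congr 1
  simp only [vandermonde_apply, X_pow_eq_monomial, eA]
  rw [monomial_sum_one]

/-- the matrix `X_i^(n-1-j)` -/
noncomputable def N : Matrix (Fin n) (Fin n) P := fun i j => X i ^ (n - 1 - (j : ℕ))

theorem detB : det (N n) =
    ∑ σ : Perm (Fin n), ((Perm.sign σ : ℤˣ) : ℤ) • monomial (eB n σ) (1 : ℤ) := by
  rw [det_apply]
  refine Finset.sum_congr rfl fun σ _ => ?_
  rw [Units.smul_def]
  congr 1
  simp only [N, X_pow_eq_monomial, eB]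
  rw [monomial_sum_one]

theorem N_eq : N n = (vandermonde ((X : Fin n → P) ∘ Fin.rev)).submatrix Fin.revPerm Fin.revPerm := by
  refine Matrix.ext fun i j => ?_
  simp only [N, submatrix_apply, vandermonde_apply, Function.comp_apply, Fin.revPerm_apply,
    Fin.rev_rev, Fin.val_rev]
  congr 1
  omega

theorem detB_prod : det (N n) = ∏ i : Fin n, ∏ j ∈ Iio i, ((X j : P) - X i) := by
  rw [N_eq, det_submatrix_equiv_self, det_vandermonde]
  rw [← Equiv.prod_comp Fin.revPerm]
  refine Finset.prod_congr rfl fun i _ => ?_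
  refine Finset.prod_bij (fun j _ => Fin.rev j) ?_ ?_ ?_ ?_
  · intro j hj
    simp only [mem_Ioi, mem_Iio, Fin.revPerm_apply] at hj ⊢
    exact Fin.rev_lt_iff.mpr hj
  · intro a _ b _ h; exact Fin.rev_injective h
  · intro b hb
    refine ⟨Fin.rev b, ?_, Fin.rev_rev b⟩
    simp only [mem_Ioi, mem_Iio, Fin.revPerm_apply] at hb ⊢
    exact Fin.lt_rev_iff.mpr (by rwa [Fin.rev_rev]) 
  · intro j _
    simp only [Function.comp_apply, Fin.revPerm_apply, Fin.rev_rev]

theorem prod_eq : (∏ i : Fin n, ∏ j ∈ Finset.univ.erase i, ((X i : P) - X j)) =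
    det (vandermonde (X : Fin n → P)) * det (N n) := by
  classical
  rw [det_vandermonde, detB_prod, ← Finset.prod_mul_distrib]
  have hswap : (∏ i : Fin n, ∏ j ∈ Finset.univ.erase i, ((X i : P) - X j)) =
      ∏ i : Fin n, ∏ j ∈ Finset.univ.erase i, ((X j : P) - X i) := by
    rw [Finset.prod_comm' (s' := fun j => Finset.univ.erase j) (t' := Finset.univ)]
    intro x y
    simp only [Finset.mem_univ, Finset.mem_erase, ne_eq, true_and, and_true]
    exact ⟨fun h => fun h' => h h'.symm, fun h => fun h' => h h'.symm⟩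
  rw [hswap]
  refine Finset.prod_congr rfl fun i _ => ?_
  have hunion : Finset.univ.erase i = Ioi i ∪ Iio i := by
    ext j
    simp only [Finset.mem_erase, Finset.mem_univ, and_true, Finset.mem_union, mem_Ioi, mem_Iio]
    exact ⟨fun h => (lt_or_gt_of_ne h).symm.imp id id |>.symm.symm, fun h => by
      rcases h with h | h
      · exact (ne_of_gt h)
      · exact (ne_of_lt h)⟩
  rw [hunion, Finset.prod_union]
  rw [Finset.disjoint_left]
  intro j hj hj'
  simp only [mem_Ioi, mem_Iio] at hj hj'
  exact lt_asymm hj hj'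

theorem coeff_prod : coeff (mTop n)
    (det (vandermonde (X : Fin n → P)) * det (N n)) = (n.factorial : ℤ) := by
  classical
  rw [detA, detB, Finset.sum_mul_sum]
  simp only [smul_mul_smul_comm, monomial_mul, mul_one, coeff_sum, coeff_smul, coeff_monomial,
    eA_add_eB_eq_iff]
  simp only [smul_eq_mul, mul_ite, mul_one, mul_zero, Finset.sum_ite_eq, Finset.mem_univ, if_true]
  have : ∀ τ : Perm (Fin n), ((Perm.sign τ : ℤˣ) : ℤ) * ((Perm.sign τ : ℤˣ) : ℤ) = 1 := by
    intro τ
    rw [← Units.val_mul, Int.units_mul_self, Units.val_one]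
  simp only [this, Finset.sum_const, Finset.card_univ, Fintype.card_perm, Fintype.card_fin,
    smul_eq_mul, mul_one]
  simp

end Helpers

/-- For the group PGL(n) acting on the space of n × n matrices the T-quotient is (P^{n−1})^n with Chow
ring ℚ[t_1,…,t_n]/(t_1^n,…,t_n^n), the class c_top(g/t) is the product of all roots t_i − t_j (i ≠
j), and the computation in the proof shows that this product equals n!·t_1^{n−1}⋯t_n^{n−1} in that
ring. Stated here as the equivalent coefficient identity in ℤ[t_1,…,t_n]: the coefficient of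
t_1^{n−1}⋯t_n^{n−1} in the product over ordered pairs i ≠ j of (t_i − t_j) is n!. -/
theorem result (n : ℕ) :
    MvPolynomial.coeff (Finsupp.equivFunOnFinite.symm (fun _ : Fin n => n - 1))
      (∏ i : Fin n, ∏ j ∈ Finset.univ.erase i, (MvPolynomial.X i - MvPolynomial.X j : MvPolynomial (Fin n) ℤ)) = (n.factorial : ℤ) := by
  rw [prod_eq]
  exact coeff_prod n

end Groth.Agent.S19004
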