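import Groth.Statements.S19005
-- import your own Groth.Agent.* helpers here
import Mathlib.Tactic

set_option autoImplicit false
open scoped TensorProduct
open K2Cent

namespace Groth.Agent.S19005

theorem even_sq_sub (a : ℤ) : ∃ c : ℤ, a * a - a = 2 * c := by
  have h : Even (a * a - a) := by
    have : a * a - a = a * (a - 1) := by ring
    rw [this]
    exact Int.even_mul_pred_self a
  obtain ⟨c, hc⟩ := h
  exact ⟨c, by rw [hc]; ring⟩

/-- For abelian groups X and M and ε in M with 2ε = 0 (in the source X is the character group of a split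
torus and ε is the class of −1 among the units), the map x ↦ (x ⊗ x, −(x ⊗ ε)) into (X ⊗ X) × (X ⊗
M) is quadratic over ℤ, i.e. it underlies an integer quadratic map with exactly these values. -/
theorem result (X M : Type*) [AddCommGroup X]
    [AddCommGroup M] (ε : M) (hε : 2 • ε = 0) :
    ∃ R : QuadraticMap ℤ X (TensorProduct ℤ X X × TensorProduct ℤ X M),
      ∀ x : X, R x = (x ⊗ₜ[ℤ] x, -(x ⊗ₜ[ℤ] ε)) := by
  refine ⟨⟨fun x => (x ⊗ₜ[ℤ] x, -(x ⊗ₜ[ℤ] ε)), ?_, ?_⟩, fun x => rfl⟩
  · intro a x
    ext
    · simp only [Prod.smul_fst]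
      rw [TensorProduct.smul_tmul_smul]
    · simp only [Prod.smul_snd, smul_neg, neg_inj]
      obtain ⟨c, hc⟩ := even_sq_sub a
      have h2 : (a * a - a) • (x ⊗ₜ[ℤ] ε) = 0 := by
        rw [hc, mul_comm, mul_smul, ← TensorProduct.tmul_smul]
        have : (2 : ℤ) • ε = 0 := by
          rw [← hε, ofNat_zsmul]
        rw [this, TensorProduct.tmul_zero, smul_zero]
      rw [sub_smul, sub_eq_zero] at h2
      rw [h2, TensorProduct.smul_tmul']
  · refine ⟨LinearMap.mk₂ ℤ (fun x y => ((x ⊗ₜ[ℤ] y + y ⊗ₜ[ℤ] x, 0) :
        TensorProduct ℤ X X × TensorProduct ℤ X M)) ?_ ?_ ?_ ?_, ?_⟩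
    · intro x x' y
      ext
      · simp only [TensorProduct.add_tmul, TensorProduct.tmul_add, Prod.fst_add]
        abel
      · simp
    · intro c x y
      ext
      · simp only [Prod.smul_fst, smul_add, TensorProduct.smul_tmul', TensorProduct.tmul_smul]
      · simp
    · intro x y y'
      ext
      · simp only [TensorProduct.add_tmul, TensorProduct.tmul_add, Prod.fst_add]
        abel
      · simp
    · intro c x y
      ext
      · simp only [Prod.smul_fst, smul_add, TensorProduct.smul_tmul', TensorProduct.tmul_smul]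
      · simp
    · intro x y
      rw [LinearMap.mk₂_apply]
      ext
      · simp only [TensorProduct.add_tmul, TensorProduct.tmul_add, Prod.fst_add]
        abel
      · simp only [TensorProduct.add_tmul, Prod.snd_add, neg_add_rev, add_zero]
        abel

end Groth.Agent.S19005
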