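import Groth.Statements.S19006

set_option autoImplicit false
universe u v w x
open RootD

namespace Groth.Agent.S19006

lemma key {ι : Type u} {R : Type v} {M : Type w} {N : Type x} [CommRing R]
    [AddCommGroup M] [Module R M] [AddCommGroup N] [Module R N] (P : RootPairing ι R M N)
    (Q : QuadraticMap R N R) (j : ι) (y : N) :
    Q (P.coreflection j y) - Q y =
      P.root' j y * (P.root' j y * Q (P.coroot j) - QuadraticMap.polar Q y (P.coroot j)) := by
  have h1 : P.coreflection j y = y + (-(P.root' j y)) • P.coroot j := by
    rw [RootPairing.coreflection_apply, neg_smul, sub_eq_add_neg]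
  have h2 : Q (y + (-(P.root' j y)) • P.coroot j) =
      Q y + Q ((-(P.root' j y)) • P.coroot j) +
        QuadraticMap.polar Q y ((-(P.root' j y)) • P.coroot j) := by
    unfold QuadraticMap.polar
    ring
  rw [h1, h2, QuadraticMap.map_smul, QuadraticMap.polar_smul_right]
  simp only [smul_eq_mul]
  ring

/-- For a root pairing over an integral domain of characteristic zero, a quadratic form Q on the
coweight module N with polar form B, and a root α with coroot α^∨, the form Q is invariant under the
reflection attached to α acting on N if and only if B(y, α^∨) = ⟨α, y⟩ Q(α^∨) for all y in N. (The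
source states this for integer-valued forms on the cocharacter lattice of a split reductive group;
here the form takes values in the base ring of the pairing.) -/
theorem result {ι : Type u} {R : Type v} {M : Type w} {N : Type x} [CommRing R] [IsDomain R] [CharZero R]
    [AddCommGroup M] [Module R M] [AddCommGroup N] [Module R N] (P : RootPairing ι R M N)
    (Q : QuadraticMap R N R) (j : ι) :
    (∀ y : N, Q (P.coreflection j y) = Q y) ↔
      ∀ y : N, QuadraticMap.polar Q y (P.coroot j) = P.root' j y * Q (P.coroot j) := by
  constructor
  · intro h y
    have hy := key P Q j y
    rw [h y, sub_self] at hy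
    by_cases ht : P.root' j y = 0
    · -- use `y + coroot j`
      have hy' := key P Q j (y + P.coroot j)
      rw [h, sub_self] at hy'
      have h2 : P.root' j (y + P.coroot j) = 2 := by
        rw [map_add, ht, zero_add]
        exact P.root_coroot_two j
      rw [h2, QuadraticMap.polar_add_left, QuadraticMap.polar_self] at hy'
      have h3 : (2 : R) ≠ 0 := two_ne_zero
      have h4 := (mul_eq_zero.mp hy'.symm).resolve_left h3
      rw [ht, zero_mul]
      have h5 : QuadraticMap.polar Q y (P.coroot j) = 0 := by
        rw [two_smul, two_mul] at h4
        have : -QuadraticMap.polar Q y (P.coroot j) = 0 := by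
          rw [← h4]; ring
        exact neg_eq_zero.mp this
      exact h5
    · have := (mul_eq_zero.mp hy.symm).resolve_left ht
      exact (sub_eq_zero.mp this).symm
  · intro h y
    have hy := key P Q j y
    rw [h y, sub_self, mul_zero] at hy
    exact sub_eq_zero.mp hy

end Groth.Agent.S19006
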