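import Groth.Statements.S19007
import Groth.Agent.Lib.Helper8Quad

set_option autoImplicit false
universe u v w x
open RootD

namespace Groth.Agent.S19007

/-- Let P be a finite reduced crystallographic root pairing over an integral domain of characteristic
zero, b a base of P (a system of simple roots) and Q a quadratic form on the coweight module with
polar form B. Then Q is invariant under all root reflections (equivalently under the Weyl group) on
the span of the coroots if and only if for all pairs of distinct simple roots α_i ≠ α_j one has
B(α_i^∨, α_j^∨) = ⟨α_j, α_i^∨⟩ Q(α_j^∨). (In the source the form is integer-valued on the lattice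
spanned by the coroots and the condition says that the bilinear form lies in the kernel of the last
map of a three-term complex built from the Bruhat cells of codimension at most two; here the form
takes values in the base ring.) -/
theorem result {ι : Type u} {R : Type v} {M : Type w} {N : Type x} [CommRing R] [IsDomain R] [CharZero R]
    [AddCommGroup M] [Module R M] [AddCommGroup N] [Module R N] (P : RootPairing ι R M N)
    [Finite ι] [P.IsCrystallographic] [P.IsReduced] (b : P.Base) (Q : QuadraticMap R N R) :
    (∀ i : ι, ∀ y ∈ Submodule.span R (Set.range P.coroot), Q (P.coreflection i y) = Q y) ↔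
      ∀ i ∈ b.support, ∀ j ∈ b.support, i ≠ j →
        QuadraticMap.polar Q (P.coroot i) (P.coroot j) = P.pairing j i * Q (P.coroot j) := by
  open Groth.Agent.Lib.Helper8 in
  have hS : ∀ i : ι, P.coroot i ∈ Submodule.span R (Set.range P.coroot) :=
    fun i => Submodule.subset_span ⟨i, rfl⟩
  constructor
  · intro hQ i hi j hj hij
    have h1 := polar_eq_of_invariant_on Q P (Submodule.span R (Set.range P.coroot)) j (hS j)
      (hQ j) (P.coroot i) (hS i)
    rw [h1]
    rfl
  · intro H
    have hspan : Submodule.span R (P.coroot '' (b.support : Set ι)) =
        Submodule.span R (Set.range P.coroot) := b.span_coroot_support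
    -- the polar identity for simple reflections on the span
    have hpolar : ∀ i ∈ b.support, ∀ y ∈ Submodule.span R (Set.range P.coroot),
        QuadraticMap.polar Q y (P.coroot i) = P.root' i y * Q (P.coroot i) := by
      intro i hi y hy
      rw [← hspan] at hy
      have := LinearMap.eqOn_span (f := (QuadraticMap.polarBilin Q).flip (P.coroot i))
        (g := Q (P.coroot i) • P.root' i) (s := P.coroot '' (b.support : Set ι)) ?_ hy
      · simpa [mul_comm] using this
      · rintro _ ⟨j, hj, rfl⟩
        simp only [LinearMap.flip_apply, QuadraticMap.polarBilin_apply_apply,
          LinearMap.smul_apply, smul_eq_mul]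
        by_cases hji : j = i
        · subst hji
          rw [QuadraticMap.polar_self, root'_coroot_self]
          simp [mul_comm]
        · rw [H j hj i hi hji, mul_comm]
          rfl
    have hsimple : ∀ i ∈ b.support, ∀ y ∈ Submodule.span R (Set.range P.coroot),
        Q (P.coreflection i y) = Q y := fun i hi y hy =>
      quad_coreflection_of_polar_eq Q P i y (hpolar i hi y hy)
    have hmem : ∀ (i : ι) (y : N), y ∈ Submodule.span R (Set.range P.coroot) →
        P.coreflection i y ∈ Submodule.span R (Set.range P.coroot) := fun i y hy =>
      coreflection_mem P _ i (hS i) hy
    have hconj : ∀ (i j : ι) (y : N), P.coreflection (P.reflectionPerm j i) y =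
        P.coreflection j (P.coreflection i (P.coreflection j y)) := by
      intro i j y
      have h1 := P.flip.reflection_reflectionPerm (i := i) (j := j)
      exact LinearEquiv.congr_fun h1 y
    intro i
    refine b.induction_reflect i (p := fun i => ∀ y ∈ Submodule.span R (Set.range P.coroot),
      Q (P.coreflection i y) = Q y) ?_ ?_ ?_
    · intro i hi y hy
      rw [hconj, RootPairing.coreflection_same]
      exact hi y hy
    · exact hsimple
    · intro i j hi hj y hy
      rw [hconj, hsimple j hj _ (hmem i _ (hmem j y hy)), hi _ (hmem j y hy), hsimple j hj y hy]

end Groth.Agent.S19007
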