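import Groth.Statements.S19009
import Groth.Agent.Lib.Helper8Quad
import Mathlib.LinearAlgebra.Projection

set_option autoImplicit false
universe u v w x
open RootD

namespace Groth.Agent.S19009

/-- Let P be a root pairing over an integral domain R of characteristic zero (roots α acting on the
coweight module N through reflections y ↦ y − ⟨α, y⟩ α^∨), D ⊆ N a submodule containing every coroot
and such that every element of D has a positive integer multiple in the span of the coroots (the
derived part), and Y₀ a complement of D in N. Let Q_d be a quadratic form on N whose restriction to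
D is invariant under all root reflections. Then there is a quadratic form on N, invariant under all
root reflections and agreeing with Q_d on D, if and only if there is an R-bilinear form Φ on N with
Φ(y₀, α^∨) = ⟨α, y₀⟩ Q_d(α^∨) for all y₀ in Y₀ and all roots α. (In the source R = ℤ, N = Y₀ ⊕ Y_der
is the cocharacter lattice of a split reductive group, and the condition is phrased as integrality
on Y₀ × Y_der of the pairing y₀, y ↦ B(q(y₀), y) deduced from the polar form B of Q_d; that pairing
is characterised by the displayed values on coroots, only the values of Φ on Y₀ × D matter, and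
forms take values in R here.) -/
theorem result {ι : Type u} {R : Type v} {M : Type w} {N : Type x} [CommRing R] [IsDomain R] [CharZero R]
    [AddCommGroup M] [Module R M] [AddCommGroup N] [Module R N] (P : RootPairing ι R M N)
    (D Y₀ : Submodule R N) (hD : ∀ i : ι, P.coroot i ∈ D)
    (hDsat : ∀ y ∈ D, ∃ n : ℕ, 0 < n ∧ n • y ∈ Submodule.span R (Set.range P.coroot))
    (hc : IsCompl Y₀ D)
    (Qd : QuadraticMap R N R) (hQd : ∀ i : ι, ∀ y ∈ D, Qd (P.coreflection i y) = Qd y) :
    (∃ Q : QuadraticMap R N R, (∀ (i : ι) (y : N), Q (P.coreflection i y) = Q y) ∧ ∀ y ∈ D, Q y = Qd y) ↔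
      ∃ Φ : N →ₗ[R] N →ₗ[R] R, ∀ y₀ ∈ Y₀, ∀ i : ι,
        Φ y₀ (P.coroot i) = P.root' i y₀ * Qd (P.coroot i) := by
  open Groth.Agent.Lib.Helper8 in
  constructor
  · rintro ⟨Q, hQ, hQD⟩
    refine ⟨QuadraticMap.polarBilin Q, fun y₀ _ i => ?_⟩
    rw [QuadraticMap.polarBilin_apply_apply, polar_eq_of_invariant Q P i (hQ i), hQD _ (hD i)]
  · rintro ⟨Φ, hΦ⟩
    let p₀ : N →ₗ[R] N := Y₀.subtype ∘ₗ Submodule.projectionOnto Y₀ D hc
    let pD : N →ₗ[R] N := D.subtype ∘ₗ Submodule.projectionOnto D Y₀ hc.symm
    have hp₀mem : ∀ y, p₀ y ∈ Y₀ := fun y => (Submodule.projectionOnto Y₀ D hc y).2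
    have hpDmem : ∀ y, pD y ∈ D := fun y => (Submodule.projectionOnto D Y₀ hc.symm y).2
    have hp₀D : ∀ d ∈ D, p₀ d = 0 := fun d hd => by
      simp only [p₀, LinearMap.comp_apply,
        Submodule.projectionOnto_apply_of_mem_right hc hd, map_zero]
    have hpDD : ∀ d ∈ D, pD d = d := fun d hd => by
      simp only [pD, LinearMap.comp_apply,
        Submodule.projectionOnto_apply_of_mem_left hc.symm hd, Submodule.subtype_apply]
    have hsum : ∀ y, p₀ y + pD y = y := by
      intro y
      have hy : y ∈ Y₀ ⊔ D := by rw [hc.sup_eq_top]; exact Submodule.mem_top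
      obtain ⟨y₀, hy₀, d, hd, rfl⟩ := Submodule.mem_sup.mp hy
      have h1 : p₀ y₀ = y₀ := by
        simp only [p₀, LinearMap.comp_apply,
          Submodule.projectionOnto_apply_of_mem_left hc hy₀, Submodule.subtype_apply]
      have h2 : pD y₀ = 0 := by
        simp only [pD, LinearMap.comp_apply,
          Submodule.projectionOnto_apply_of_mem_right hc.symm hy₀, map_zero]
      rw [map_add, map_add, h1, h2, hp₀D d hd, hpDD d hd]
      abel
    refine ⟨Qd.comp pD + LinearMap.BilinMap.toQuadraticMap (Φ.compl₁₂ p₀ pD), ?_, ?_⟩
    · intro i y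
      have ha := hD i
      have h1 : p₀ (P.coreflection i y) = p₀ y := by
        rw [RootPairing.coreflection_apply, map_sub, map_smul, hp₀D _ ha, smul_zero, sub_zero]
      have h2 : pD (P.coreflection i y) = pD y - P.root' i y • P.coroot i := by
        rw [RootPairing.coreflection_apply, map_sub, map_smul, hpDD _ ha]
      have h3 := polar_eq_of_invariant_on Qd P D i ha (hQd i) (pD y) (hpDmem y)
      have h4 := hΦ (p₀ y) (hp₀mem y) i
      have h5 : P.root' i y = P.root' i (p₀ y) + P.root' i (pD y) := by
        rw [← map_add, hsum]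
      simp only [add_apply, QuadraticMap.comp_apply, LinearMap.BilinMap.toQuadraticMap_apply,
        LinearMap.compl₁₂_apply, h1, h2, quad_sub_smul, map_sub, map_smul, h3, h4, smul_eq_mul]
      rw [h5]
      ring
    · intro y hy
      simp only [add_apply, QuadraticMap.comp_apply, LinearMap.BilinMap.toQuadraticMap_apply,
        LinearMap.compl₁₂_apply, hp₀D y hy, hpDD y hy, map_zero, LinearMap.zero_apply, add_zero]

end Groth.Agent.S19009
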