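import Groth.Statements.S19010
import Groth.Agent.Lib.Helper8Quad
import Mathlib.LinearAlgebra.Projection

set_option autoImplicit false
universe u v w x
open RootD

namespace Groth.Agent.S19010

/-- Let P be a root pairing over an integral domain R of characteristic zero (roots α acting on the
coweight module N through reflections y ↦ y − ⟨α, y⟩ α^∨), D ⊆ N a submodule containing every coroot
and such that every element of D has a positive integer multiple in the span of the coroots (the
derived part), and Y₀ a complement of D in N. Let Q' be a quadratic form on N invariant under all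
root reflections. Then restriction to Y₀ is a bijection from the set of quadratic forms on N that
are invariant under all root reflections and agree with Q' on D onto the set of all quadratic forms
on Y₀. (In the source R = ℤ and N = Y₀ ⊕ Y_der is the cocharacter lattice of a split reductive
group; forms take values in R here.) -/
theorem result {ι : Type u} {R : Type v} {M : Type w} {N : Type x} [CommRing R] [IsDomain R] [CharZero R]
    [AddCommGroup M] [Module R M] [AddCommGroup N] [Module R N] (P : RootPairing ι R M N)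
    (D Y₀ : Submodule R N) (hD : ∀ i : ι, P.coroot i ∈ D)
    (hDsat : ∀ y ∈ D, ∃ n : ℕ, 0 < n ∧ n • y ∈ Submodule.span R (Set.range P.coroot))
    (hc : IsCompl Y₀ D)
    (Q' : QuadraticMap R N R) (hQ' : ∀ (i : ι) (y : N), Q' (P.coreflection i y) = Q' y) :
    Set.BijOn (fun Q : QuadraticMap R N R => Q.comp Y₀.subtype)
      {Q | (∀ (i : ι) (y : N), Q (P.coreflection i y) = Q y) ∧ ∀ y ∈ D, Q y = Q' y} Set.univ := by
  open Groth.Agent.Lib.Helper8 in
  refine ⟨fun _ _ => Set.mem_univ _, ?_, ?_⟩
  · -- injectivity
    rintro Q₁ ⟨h₁, h₁'⟩ Q₂ ⟨h₂, h₂'⟩ hres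
    have hres' : ∀ y₀ ∈ Y₀, Q₁ y₀ = Q₂ y₀ := by
      intro y₀ hy₀
      have := congrArg (fun q : QuadraticMap R Y₀ R => q ⟨y₀, hy₀⟩) hres
      simpa using this
    have hagree : ∀ y ∈ D, Q₁ y = Q₂ y := fun y hy => by rw [h₁' y hy, h₂' y hy]
    ext y
    have hy : y ∈ Y₀ ⊔ D := by rw [hc.sup_eq_top]; exact Submodule.mem_top
    obtain ⟨y₀, hy₀, d, hd, rfl⟩ := Submodule.mem_sup.mp hy
    rw [QuadraticMap.map_add (⇑Q₁), QuadraticMap.map_add (⇑Q₂), hres' y₀ hy₀, hagree d hd,
      polar_eq_of_invariant_of_agree P D hD hDsat Q₁ Q₂ h₁ h₂ hagree y₀ d hd]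
  · -- surjectivity
    intro q₀ _
    let π : N →ₗ[R] Y₀ := Submodule.projectionOnto Y₀ D hc
    have hπD : ∀ d ∈ D, π d = 0 := fun d hd => Submodule.projectionOnto_apply_of_mem_right hc hd
    have hπY : ∀ y₀ : Y₀, π (y₀ : N) = y₀ := fun y₀ => Submodule.projectionOnto_apply_left hc y₀
    refine ⟨Q' + (q₀ - Q'.comp Y₀.subtype).comp π, ⟨?_, ?_⟩, ?_⟩
    · intro i y
      have h1 : π (P.coreflection i y) = π y := by
        rw [RootPairing.coreflection_apply, map_sub, map_smul, hπD _ (hD i), smul_zero, sub_zero]
      simp only [add_apply, QuadraticMap.comp_apply, h1, hQ' i y]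
    · intro y hy
      simp only [add_apply, QuadraticMap.comp_apply, hπD y hy, map_zero, add_zero]
    · ext y₀
      simp only [QuadraticMap.comp_apply, add_apply, sub_apply,
        Submodule.subtype_apply, hπY]
      ring

end Groth.Agent.S19010
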