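import Groth.Statements.S19011
import Groth.Agent.Lib.Helper8RatForm
import Mathlib.LinearAlgebra.RootSystem.Base

set_option autoImplicit false
universe u v w x
open RootD

namespace Groth.Agent.S19011

section
set_option linter.unusedSectionVars false
variable {ι R M N : Type*} [CommRing R] [IsDomain R] [CharZero R]
    [AddCommGroup M] [Module R M] [AddCommGroup N] [Module R N] (P : RootPairing ι R M N)

variable [Finite ι] [P.IsCrystallographic]

/-- The reflection relation attached to a pair of indices. -/
noncomputable def rel (p : ι × ι) : ι →₀ ℤ :=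
  Finsupp.single (P.reflectionPerm p.1 p.2) (1 : ℤ) - Finsupp.single p.2 1 +
    P.pairingIn ℤ p.1 p.2 • Finsupp.single p.1 1

lemma rel_mem_ker (p : ι × ι) :
    rel P p ∈ LinearMap.ker (Finsupp.linearCombination ℤ (fun i : ι => (P.coroot i : N))) := by
  rw [LinearMap.mem_ker, rel]
  simp only [map_add, map_sub, map_smul, Finsupp.linearCombination_single, one_smul]
  rw [← P.reflectionPerm_coroot, RootPairing.root_coroot_eq_pairing,
    ← P.algebraMap_pairingIn ℤ, algebraMap_int_eq, eq_intCast, Int.cast_smul_eq_zsmul]
  abel

lemma span_rel_le_ker :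
    Submodule.span ℤ (Set.range (rel P)) ≤
      LinearMap.ker (Finsupp.linearCombination ℤ (fun i : ι => (P.coroot i : N))) := by
  rw [Submodule.span_le]
  rintro _ ⟨p, rfl⟩
  exact rel_mem_ker P p

lemma single_mem_sup [P.IsReduced] (b : P.Base) (i : ι) :
    Finsupp.single i (1 : ℤ) ∈
      Finsupp.supported ℤ ℤ (b.support : Set ι) ⊔ Submodule.span ℤ (Set.range (rel P)) := by
  have hrel : ∀ p, rel P p ∈
      Finsupp.supported ℤ ℤ (b.support : Set ι) ⊔ Submodule.span ℤ (Set.range (rel P)) :=
    fun p => Submodule.mem_sup_right (Submodule.subset_span ⟨p, rfl⟩)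
  refine b.induction_reflect i (p := fun i => Finsupp.single i (1 : ℤ) ∈
      Finsupp.supported ℤ ℤ (b.support : Set ι) ⊔ Submodule.span ℤ (Set.range (rel P))) ?_ ?_ ?_
  · intro i hi
    have h1 : Finsupp.single (P.reflectionPerm i i) (1 : ℤ) =
        rel P (i, i) + Finsupp.single i 1 - P.pairingIn ℤ i i • Finsupp.single i 1 := by
      simp only [rel]; abel
    rw [h1]
    exact sub_mem (add_mem (hrel _) hi) (Submodule.smul_mem _ _ hi)
  · intro i hi
    exact Submodule.mem_sup_left (Finsupp.single_mem_supported ℤ 1 hi)
  · intro i j hi hj
    have h1 : Finsupp.single (P.reflectionPerm j i) (1 : ℤ) =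
        rel P (j, i) + Finsupp.single i 1 - P.pairingIn ℤ j i • Finsupp.single j 1 := by
      simp only [rel]; abel
    rw [h1]
    exact sub_mem (add_mem (hrel _) hi) (Submodule.smul_mem _ _
      (Submodule.mem_sup_left (Finsupp.single_mem_supported ℤ 1 hj)))

lemma ker_le_of_base [P.IsReduced] (b : P.Base) :
    LinearMap.ker (Finsupp.linearCombination ℤ (fun i : ι => (P.coroot i : N))) ≤
      Submodule.span ℤ (Set.range (rel P)) := by
  intro x hx
  have hx' : x ∈ Finsupp.supported ℤ ℤ (b.support : Set ι) ⊔
      Submodule.span ℤ (Set.range (rel P)) := by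
    induction x using Finsupp.induction with
    | zero => exact zero_mem _
    | single_add a c f _ _ _ =>
      have h1 : Finsupp.single a c = c • Finsupp.single a (1 : ℤ) := by
        rw [Finsupp.smul_single, smul_eq_mul, mul_one]
      have h2 : ∀ y : ι →₀ ℤ, y ∈ Finsupp.supported ℤ ℤ (b.support : Set ι) ⊔
          Submodule.span ℤ (Set.range (rel P)) := by
        intro y
        induction y using Finsupp.induction with
        | zero => exact zero_mem _
        | single_add a c f _ _ ih =>
          have h1 : Finsupp.single a c = c • Finsupp.single a (1 : ℤ) := by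
            rw [Finsupp.smul_single, smul_eq_mul, mul_one]
          rw [h1]
          exact add_mem (Submodule.smul_mem _ _ (single_mem_sup P b a)) ih
      exact h2 _
  obtain ⟨g, hg, k, hk, rfl⟩ := Submodule.mem_sup.mp hx'
  have hk0 := span_rel_le_ker P hk
  rw [LinearMap.mem_ker] at hx hk0
  rw [map_add, hk0, add_zero] at hx
  have hli : LinearIndepOn ℤ P.coroot (b.support : Set ι) :=
    b.linearIndepOn_coroot.restrict_scalars' ℤ
  have hg0 : g = 0 := linearIndepOn_iff.mp hli g hg hx
  rw [hg0, zero_add]
  exact hk

end

/-- For a finite reduced crystallographic root pairing over an integral domain of characteristic zero,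
the additive group generated by the coroots admits the presentation with one generator [β] for each
root β and the relations [s_α(β)] = [β] − ⟨α, β^∨⟩ [α] for all roots α, β, where ⟨α, β^∨⟩ is the
Cartan integer. Concretely: the kernel of the ℤ-linear map from the free abelian group on the index
type of the roots to the coweight module sending the generator of index β to the coroot β^∨ is the
subgroup generated by the elements [s_α(β)] − [β] + ⟨α, β^∨⟩ [α]. (The source states this for the
cocharacter lattice of a split semi-simple simply connected group, which is the group generated by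
the coroots.) -/
theorem result {ι : Type u} {R : Type v} {M : Type w} {N : Type x} [CommRing R] [IsDomain R] [CharZero R]
    [AddCommGroup M] [Module R M] [AddCommGroup N] [Module R N] (P : RootPairing ι R M N)
    [Finite ι] [P.IsCrystallographic] [P.IsReduced] :
    LinearMap.ker (Finsupp.linearCombination ℤ (fun i : ι => (P.coroot i : N))) =
      Submodule.span ℤ (Set.range fun p : ι × ι =>
        Finsupp.single (P.reflectionPerm p.1 p.2) (1 : ℤ) - Finsupp.single p.2 1 +
          P.pairingIn ℤ p.1 p.2 • Finsupp.single p.1 1) := by
  open Groth.Agent.Lib.Helper8 in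
  have hset : (Set.range fun p : ι × ι =>
        Finsupp.single (P.reflectionPerm p.1 p.2) (1 : ℤ) - Finsupp.single p.2 1 +
          P.pairingIn ℤ p.1 p.2 • Finsupp.single p.1 1) = Set.range (rel P) := rfl
  rw [hset]
  refine le_antisymm ?_ (span_rel_le_ker P)
  intro x hx
  obtain ⟨bq⟩ := nonempty_ratBase P
  have h1 := ratForm_linearCombination_coroot_eq_zero P x (LinearMap.mem_ker.mp hx)
  have h2 := ker_le_of_base (ratForm P) bq (LinearMap.mem_ker.mpr h1)
  have h3 : rel (ratForm P) = rel P := by
    funext p
    simp only [rel, ratForm_reflectionPerm, ratForm_pairingIn]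
  rw [h3] at h2
  exact h2

end Groth.Agent.S19011
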