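import Groth.Statements.S19012
import Groth.Agent.Lib.Helper8Quad
import Mathlib.LinearAlgebra.RootSystem.CartanMatrix
import Mathlib.LinearAlgebra.RootSystem.Irreducible

set_option autoImplicit false
universe u v w x
open RootD

namespace Groth.Agent.S19012

/-- Let P be a finite reduced crystallographic root pairing over a field of characteristic zero which is
irreducible, and b a base. A quadratic form on the coweight module that is invariant under all root
reflections and vanishes on some simple coroot is zero; in other words an invariant form is
determined by its value on a single simple coroot. (The source proves, component by component of the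
Dynkin diagram, that an invariant integer-valued form on the coroot lattice with prescribed value on
the first simple coroot of each component is unique; here the system is irreducible, the coroots
span the coweight module, and forms take values in the base field.) -/
theorem result {ι : Type u} {K : Type v} {M : Type w} {N : Type x} [Field K] [CharZero K]
    [AddCommGroup M] [Module K M] [AddCommGroup N] [Module K N] (P : RootPairing ι K M N)
    [Finite ι] [P.IsCrystallographic] [P.IsReduced] [P.IsIrreducible] (b : P.Base)
    (Q : QuadraticMap K N K) (hQ : ∀ (i : ι) (y : N), Q (P.coreflection i y) = Q y)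
    (i₀ : ι) (hi₀ : i₀ ∈ b.support) (h0 : Q (P.coroot i₀) = 0) : Q = 0 := by
  open Groth.Agent.Lib.Helper8 in
  have hne : Nonempty ι := ⟨i₀⟩
  -- polar values on simple pairs
  have hpol : ∀ i j : ι, QuadraticMap.polar Q (P.coroot i) (P.coroot j) =
      P.pairing j i * Q (P.coroot j) := fun i j => by
    rw [polar_eq_of_invariant Q P j (hQ j)]
    rfl
  -- propagation along the Dynkin diagram
  have hzero : ∀ j : b.support, Q (P.coroot j) = 0 := by
    intro j
    refine b.induction_on_cartanMatrix (fun k : b.support => Q (P.coroot k) = 0)
      (i := ⟨i₀, hi₀⟩) (j := j) h0 ?_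
    intro i j hi hji
    have h1 : P.pairing j i ≠ 0 := by
      intro h
      apply hji
      show P.pairingIn ℤ (j : ι) (i : ι) = 0
      apply FaithfulSMul.algebraMap_injective ℤ K
      rw [RootPairing.algebraMap_pairingIn, h, map_zero]
    have h1' : P.pairing (i : ι) (j : ι) ≠ 0 := by
      have : NeZero (2 : K) := ⟨two_ne_zero⟩
      exact fun h => h1 (P.pairing_eq_zero_iff.mp h)
    have h2 := hpol i j
    have h3 := hpol j i
    rw [QuadraticMap.polar_comm, h3, hi, mul_zero] at h2
    rcases mul_eq_zero.mp h2.symm with h4 | h4
    · exact absurd h4 h1
    · exact h4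
  have hspan : Submodule.span K (P.coroot '' (b.support : Set ι)) = ⊤ := by
    have : NeZero (2 : K) := ⟨two_ne_zero⟩
    rw [b.span_coroot_support]
    exact RootPairing.IsRootSystem.span_coroot_eq_top
  have hB0 : ∀ i ∈ b.support, ∀ j ∈ b.support,
      QuadraticMap.polar Q (P.coroot i) (P.coroot j) = 0 := by
    intro i hi j hj
    rw [hpol, hzero ⟨j, hj⟩, mul_zero]
  have hB1 : ∀ (x : N), ∀ j ∈ b.support, QuadraticMap.polar Q x (P.coroot j) = 0 := by
    intro x j hj
    have := LinearMap.ext_on hspan (f := (QuadraticMap.polarBilin Q).flip (P.coroot j))
      (g := 0) ?_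
    · simpa using LinearMap.congr_fun this x
    · rintro _ ⟨i, hi, rfl⟩
      simpa using hB0 i hi j hj
  have hB2 : ∀ x y : N, QuadraticMap.polar Q x y = 0 := by
    intro x y
    have := LinearMap.ext_on hspan (f := QuadraticMap.polarBilin Q x) (g := 0) ?_
    · simpa using LinearMap.congr_fun this y
    · rintro _ ⟨j, hj, rfl⟩
      simpa using hB1 x j hj
  ext x
  have h1 := QuadraticMap.polar_self Q x
  rw [hB2] at h1
  have h2 : (2 : K) * Q x = 0 := by
    have h3 : (2 : ℕ) • Q x = (2 : K) * Q x := by simp
    rw [← h3, ← h1]
  rcases mul_eq_zero.mp h2 with h3 | h3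
  · exact absurd h3 two_ne_zero
  · simpa using h3

end Groth.Agent.S19012
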