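import Groth.Statements.S19013
import Groth.Agent.Lib.Helper29MilKMul

set_option autoImplicit false
universe u v
open MilnorK

namespace Groth.Agent.S19013

/-- Let A ⊆ B be discrete valuation rings, the inclusion being a local homomorphism, with fraction
fields E ⊆ F compatibly, with the induced homomorphism of residue fields κ(A) → κ(B), and with
ramification index e, the natural number such that the maximal ideal of A generates the e-th power
of the maximal ideal of B. Let ∂_A : K_{n+1}(E) → K_n(κ(A)) and ∂_B : K_{n+1}(F) → K_n(κ(B)) be the
residue maps (tame symbols) on Milnor K-groups. Then for every x in K_{n+1}(E) one has ∂_B(x_F) = e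
· (∂_A x)_{κ(B)}, where the subscripts denote the change-of-fields maps along E → F and κ(A) → κ(B).
(The published statement concerns discrete valuations of geometric type on fields finitely generated
over a base field; it is stated here for an arbitrary pair of discrete valuation rings, which is all
the printed computation uses.) -/
theorem result
    (A B : Type u) [CommRing A] [IsDomain A] [IsDiscreteValuationRing A]
    [CommRing B] [IsDomain B] [IsDiscreteValuationRing B] [Algebra A B] [IsLocalHom (algebraMap A B)]
    (E F : Type v) [Field E] [Field F] [Algebra A E] [IsFractionRing A E] [Algebra B F] [IsFractionRing B F]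
    [Algebra E F] [Algebra A F] [IsScalarTower A E F] [IsScalarTower A B F]
    (e : ℕ) (he : Ideal.map (algebraMap A B) (IsLocalRing.maximalIdeal A) = IsLocalRing.maximalIdeal B ^ e)
    (n : ℕ) (dA : MilK.K E (n + 1) →+ MilK.K (IsLocalRing.ResidueField A) n) (hdA : MilK.IsTameSymbol A E n dA)
    (dB : MilK.K F (n + 1) →+ MilK.K (IsLocalRing.ResidueField B) n) (hdB : MilK.IsTameSymbol B F n dB)
    (x : MilK.K E (n + 1)) :
    dB (MilK.map (algebraMap E F) (n + 1) x) =
      e • MilK.map (IsLocalRing.ResidueField.map (algebraMap A B)) n (dA x) := by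
  obtain ⟨ϖA, hA⟩ := IsDiscreteValuationRing.exists_irreducible A
  obtain ⟨ϖB, hB⟩ := IsDiscreteValuationRing.exists_irreducible B
  have hassoc : ∃ w : Bˣ, algebraMap A B ϖA = ϖB ^ e * (w : B) := by
    rw [hA.maximalIdeal_eq, hB.maximalIdeal_eq, Ideal.map_span, Set.image_singleton,
      Ideal.span_singleton_pow, Ideal.span_singleton_eq_span_singleton] at he
    obtain ⟨w, hw⟩ := he.symm
    exact ⟨w, hw.symm⟩
  obtain ⟨w, hw⟩ := hassoc
  have hx : x ∈ AddSubgroup.closure (Groth.Agent.Lib.Helper29.unitSymbols A E (n + 1) ∪
      Groth.Agent.Lib.Helper29.piSymbols A E ϖA hA n) := by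
    rw [Groth.Agent.Lib.Helper29.closure_unit_pi]; trivial
  have hcomp : ∀ a : A, algebraMap E F (algebraMap A E a) = algebraMap B F (algebraMap A B a) := by
    intro a
    rw [← IsScalarTower.algebraMap_apply A E F, ← IsScalarTower.algebraMap_apply A B F]
  have hunits : ∀ (m : ℕ) (u : Fin m → Aˣ),
      (fun i => Units.map ((algebraMap E F : E →+* F) : E →* F) (MilK.unitToFrac A E (u i))) =
        fun i => MilK.unitToFrac B F (Units.map ((algebraMap A B : A →+* B) : A →* B) (u i)) := by
    intro m u
    funext i
    apply Units.ext
    simp only [MilK.unitToFrac, Units.coe_map, MonoidHom.coe_coe]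
    exact hcomp _
  induction hx using AddSubgroup.closure_induction with
  | mem z hz =>
    rcases hz with ⟨u, rfl⟩ | ⟨u, rfl⟩
    · rw [MilK.map_symbol, hunits, Groth.Agent.Lib.Helper29.tame_unit_symbol B F ϖB hB dB hdB,
        Groth.Agent.Lib.Helper29.tame_unit_symbol A E ϖA hA dA hdA, map_zero, smul_zero]
    · rw [MilK.map_symbol, hdA ϖA hA u, MilK.map_symbol]
      have hcons : (fun i => Units.map ((algebraMap E F : E →+* F) : E →* F)
          ((Fin.cons (MilK.unitFrac A E ϖA hA.ne_zero) fun i => MilK.unitToFrac A E (u i) :
            Fin (n + 1) → Eˣ) i)) =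
          Fin.cons (MilK.unitFrac B F ϖB hB.ne_zero ^ (e : ℤ) * MilK.unitToFrac B F w)
            (fun i => MilK.unitToFrac B F (Units.map ((algebraMap A B : A →+* B) : A →* B) (u i))) := by
        funext i
        induction i using Fin.cases with
        | zero =>
          apply Units.ext
          simp only [Fin.cons_zero, Units.coe_map, MonoidHom.coe_coe, MilK.coe_unitFrac,
            Units.val_mul, zpow_natCast, Units.val_pow_eq_pow_val,
            Groth.Agent.Lib.Helper29.coe_unitToFrac]
          rw [hcomp, hw, map_mul, map_pow]
        | succ j =>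
          simp only [Fin.cons_succ]
          exact congrFun (hunits n u) j
      rw [hcons, Groth.Agent.Lib.Helper29.tame_cons_units B F ϖB hB dB hdB,
        (Groth.Agent.Lib.Helper29.ordPi_zpow_mul_unit B F ϖB hB e w).1, natCast_zsmul]
      congr 2
  | zero => simp
  | add a b _ _ ha hb => rw [map_add, map_add, map_add, map_add, ha, hb, smul_add]
  | neg a _ ha => rw [map_neg, map_neg, map_neg, map_neg, ha, smul_neg]

end Groth.Agent.S19013
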