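import Groth.Statements.S19018
-- import your own Groth.Agent.* helpers here
import Mathlib

set_option autoImplicit false
universe u
open TensorProduct
open SymTen

namespace Groth.Agent.S19018

section Helpers

variable (k R : Type u) [Field k] [CommRing R] [Algebra k R]

theorem comm_comm (x : R ⊗[k] R) :
    (Algebra.TensorProduct.comm k R R) ((Algebra.TensorProduct.comm k R R) x) = x := by
  induction x using TensorProduct.induction_on with
  | zero => simp
  | tmul a b => simp
  | add x y hx hy => rw [map_add, map_add, hx, hy]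

theorem comm_gen (s : R) :
    (Algebra.TensorProduct.comm k R R) ((1 : R) ⊗ₜ[k] s - s ⊗ₜ[k] (1 : R)) =
      -((1 : R) ⊗ₜ[k] s - s ⊗ₜ[k] (1 : R)) := by
  rw [map_sub, Algebra.TensorProduct.comm_tmul, Algebra.TensorProduct.comm_tmul, neg_sub]

open scoped Pointwise in
theorem aux
    (k R : Type u) [Field k] [NeZero (2 : k)] [CommRing R] [Algebra k R] :
    Ideal.comap
        (AlgHom.equalizer ((Algebra.TensorProduct.comm k R R : R ⊗[k] R ≃ₐ[k] R ⊗[k] R) : R ⊗[k] R →ₐ[k] R ⊗[k] R)
          (AlgHom.id k (R ⊗[k] R))).val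
        (KaehlerDifferential.ideal k R ^ 4) =
      (Ideal.comap
        (AlgHom.equalizer ((Algebra.TensorProduct.comm k R R : R ⊗[k] R ≃ₐ[k] R ⊗[k] R) : R ⊗[k] R →ₐ[k] R ⊗[k] R)
          (AlgHom.id k (R ⊗[k] R))).val
        (KaehlerDifferential.ideal k R ^ 2)) ^ 2 := by
  set σ : R ⊗[k] R →ₐ[k] R ⊗[k] R :=
    ((Algebra.TensorProduct.comm k R R : R ⊗[k] R ≃ₐ[k] R ⊗[k] R) : R ⊗[k] R →ₐ[k] R ⊗[k] R) with hσ
  set S := AlgHom.equalizer σ (AlgHom.id k (R ⊗[k] R)) with hS
  set I := KaehlerDifferential.ideal k R with hI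
  have h2 : (2 : k) ≠ 0 := NeZero.ne 2
  have hσσ : ∀ x, σ (σ x) = x := fun x => comm_comm k R x
  set G : Set (R ⊗[k] R) := Set.range fun s : R => (1 : R) ⊗ₜ[k] s - s ⊗ₜ[k] (1 : R) with hG
  have hIG : I = Ideal.span G := (KaehlerDifferential.span_range_eq_ideal k R).symm
  have hσG : ∀ g ∈ G, σ g = -g := by
    rintro _ ⟨s, rfl⟩
    exact comm_gen k R s
  have hσGG : ∀ a ∈ G * G, σ a = a := by
    rintro _ ⟨g1, hg1, g2, hg2, rfl⟩
    rw [map_mul, hσG g1 hg1, hσG g2 hg2, neg_mul_neg]
  have hI2 : I ^ 2 = Ideal.span (G * G) := by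
    rw [pow_two, hIG, Ideal.span_mul_span']
  have hI4 : I ^ 4 = Ideal.span ((G * G) * (G * G)) := by
    rw [show 4 = 2 * 2 from rfl, pow_mul, hI2, pow_two, Ideal.span_mul_span']
  apply le_antisymm
  · -- ⊆
    -- symmetrization
    have hsym_mem : ∀ t : R ⊗[k] R, (2⁻¹ : k) • (t + σ t) ∈ S := by
      intro t
      rw [hS, AlgHom.mem_equalizer]
      rw [map_smul, map_add, hσσ, AlgHom.id_apply, add_comm]
    have key : ∀ y ∈ I ^ 4, ∀ t : R ⊗[k] R, ∀ h : (2⁻¹ : k) • (t * y + σ (t * y)) ∈ S,
        (⟨_, h⟩ : S) ∈ (Ideal.comap S.val (I ^ 2)) ^ 2 := by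
      intro y hy
      rw [hI4] at hy
      induction hy using Submodule.span_induction with
      | mem x hx =>
        intro t h
        obtain ⟨a, ha, b, hb, rfl⟩ := hx
        have haS : a ∈ S := by rw [hS, AlgHom.mem_equalizer, hσGG a ha, AlgHom.id_apply]
        have hbS : b ∈ S := by rw [hS, AlgHom.mem_equalizer, hσGG b hb, AlgHom.id_apply]
        have haI : a ∈ I ^ 2 := by rw [hI2]; exact Ideal.subset_span ha
        have hbI : b ∈ I ^ 2 := by rw [hI2]; exact Ideal.subset_span hb
        have heq : (⟨_, h⟩ : S) = (⟨_, hsym_mem t⟩ * ⟨a, haS⟩) * ⟨b, hbS⟩ := by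
          apply Subtype.ext
          change (2⁻¹ : k) • (t * (a * b) + σ (t * (a * b))) = ((2⁻¹ : k) • (t + σ t)) * a * b
          rw [map_mul, map_mul, hσGG a ha, hσGG b hb]
          simp only [smul_mul_assoc, add_mul, mul_assoc]
        rw [heq, pow_two]
        apply Ideal.mul_mem_mul
        · apply Ideal.mul_mem_left
          exact haI
        · exact hbI
      | zero =>
        intro t h
        have : (⟨_, h⟩ : S) = 0 := by
          apply Subtype.ext
          change (2⁻¹ : k) • (t * 0 + σ (t * 0)) = 0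
          simp
        rw [this]
        exact Ideal.zero_mem _
      | add x y _ _ hx hy =>
        intro t h
        have hx' : (2⁻¹ : k) • (t * x + σ (t * x)) ∈ S := hsym_mem _
        have hy' : (2⁻¹ : k) • (t * y + σ (t * y)) ∈ S := hsym_mem _
        have : (⟨_, h⟩ : S) = ⟨_, hx'⟩ + ⟨_, hy'⟩ := by
          apply Subtype.ext
          change (2⁻¹ : k) • (t * (x + y) + σ (t * (x + y))) =
            (2⁻¹ : k) • (t * x + σ (t * x)) + (2⁻¹ : k) • (t * y + σ (t * y))
          rw [mul_add, map_add, ← smul_add]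
          congr 1
          abel
        rw [this]
        exact Ideal.add_mem _ (hx t hx') (hy t hy')
      | smul a x _ hx =>
        intro t h
        have h' : (2⁻¹ : k) • ((t * a) * x + σ ((t * a) * x)) ∈ S := hsym_mem _
        have : (⟨_, h⟩ : S) = ⟨_, h'⟩ := by
          apply Subtype.ext
          change (2⁻¹ : k) • (t * (a • x) + σ (t * (a • x))) =
            (2⁻¹ : k) • ((t * a) * x + σ ((t * a) * x))
          rw [smul_eq_mul, mul_assoc]
        rw [this]
        exact hx (t * a) h'
    intro y hy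
    obtain ⟨y, hyS⟩ := y
    have hyI : y ∈ I ^ 4 := hy
    have hyσ : σ y = y := by
      have := hyS
      rw [hS, AlgHom.mem_equalizer, AlgHom.id_apply] at this
      exact this
    have h := key y hyI 1 (hsym_mem _)
    have heq : (⟨y, hyS⟩ : S) = ⟨_, hsym_mem (1 * y)⟩ := by
      apply Subtype.ext
      change y = (2⁻¹ : k) • (1 * y + σ (1 * y))
      rw [one_mul, hyσ, ← two_smul k y, smul_smul, inv_mul_cancel₀ h2, one_smul]
    rw [heq]
    exact h
  · -- ⊇
    have := Ideal.le_comap_pow (S.val : S →+* R ⊗[k] R) (K := I ^ 2) 2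
    rwa [← pow_mul] at this

end Helpers

/-- Suppose k is a field in which 2 ≠ 0 and R is a commutative k-algebra. Write I for the ideal of the
diagonal, i.e. the kernel of multiplication R ⊗_k R → R, and write S for the subalgebra of R ⊗_k R
consisting of elements invariant under interchanging the two tensor factors. Then, viewed as ideals
of S, the swap-invariant elements of I^4 form precisely the square of the ideal of swap-invariant
elements of I^2. (The source is stated over the complex numbers; the proof needs only that 2 is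
invertible.) -/
theorem result
    (k R : Type u) [Field k] [NeZero (2 : k)] [CommRing R] [Algebra k R] :
    Ideal.comap
        (AlgHom.equalizer ((Algebra.TensorProduct.comm k R R : R ⊗[k] R ≃ₐ[k] R ⊗[k] R) : R ⊗[k] R →ₐ[k] R ⊗[k] R)
          (AlgHom.id k (R ⊗[k] R))).val
        (KaehlerDifferential.ideal k R ^ 4) =
      (Ideal.comap
        (AlgHom.equalizer ((Algebra.TensorProduct.comm k R R : R ⊗[k] R ≃ₐ[k] R ⊗[k] R) : R ⊗[k] R →ₐ[k] R ⊗[k] R)
          (AlgHom.id k (R ⊗[k] R))).val
        (KaehlerDifferential.ideal k R ^ 2)) ^ 2 := by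
  exact aux k R

end Groth.Agent.S19018
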