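import Groth.Statements.S19025
-- import your own Groth.Agent.* helpers here
import Mathlib.Tactic

set_option autoImplicit false
universe u
open HigherRestr

namespace Groth.Agent.S19025

section
variable (S : Type u) [CommRing S]

/-- shift operator on sequences -/
noncomputable def E : Module.End S (ℕ → S) := LinearMap.funLeft S S (fun n : ℕ => n + 1)

/-- forward difference operator -/
noncomputable def D : Module.End S (ℕ → S) := E S - 1

variable {S}

theorem E_apply (f : ℕ → S) (n : ℕ) : E S f n = f (n + 1) := rfl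

theorem E_pow_apply (k : ℕ) (f : ℕ → S) (n : ℕ) : (E S ^ k) f n = f (n + k) := by
  induction k generalizing f with
  | zero => simp
  | succ k ih =>
    rw [pow_succ, Module.End.mul_apply, ih, E_apply]
    rfl

theorem D_coe : ⇑(D S) = fwdDiff (1 : ℕ) := by
  funext f n
  simp [D, E_apply, fwdDiff]

theorem D_pow_apply (k : ℕ) (f : ℕ → S) : (D S ^ k) f = (fwdDiff (1 : ℕ))^[k] f := by
  rw [Module.End.pow_apply, D_coe]

theorem commute_E_D : Commute (E S) (D S) :=
  (Commute.refl (E S)).sub_right (Commute.one_right _)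

/-- expansion 1 -/
theorem expand1 (g₀ e : S) (N : ℕ) (y : ℕ → S) :
    ((e • E S + g₀ • D S) ^ N) y 0 =
      ∑ m ∈ Finset.range (N + 1),
        e ^ m * g₀ ^ (N - m) * (N.choose m : S) * (fwdDiff (1 : ℕ))^[N - m] y m := by
  have hc : Commute (e • E S) (g₀ • D S) := (commute_E_D.smul_left e).smul_right g₀
  rw [hc.add_pow, LinearMap.sum_apply, Finset.sum_apply]
  refine Finset.sum_congr rfl fun m _ => ?_
  rw [smul_pow, smul_pow]
  have h1 : ((e ^ m • E S ^ m * g₀ ^ (N - m) • D S ^ (N - m) * (N.choose m : Module.End S (ℕ → S))) y) 0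
      = e ^ m * (g₀ ^ (N - m) * ((N.choose m : S) * ((E S ^ m) ((D S ^ (N - m)) y)) 0)) := by
    have hcast : (N.choose m : Module.End S (ℕ → S)) = (N.choose m : S) • (1 : Module.End S (ℕ → S)) := by
      rw [Nat.cast_smul_eq_nsmul, nsmul_eq_mul, mul_one]
    rw [hcast]
    simp only [Module.End.mul_apply, LinearMap.smul_apply, Module.End.one_apply, Pi.smul_apply,
      smul_eq_mul, map_smul]
    ring
  rw [h1, E_pow_apply, D_pow_apply, zero_add]
  ring

theorem expand2 (g₀ g₁ : S) (N : ℕ) (y : ℕ → S) :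
    ((g₁ • E S + (-g₀) • (1 : Module.End S (ℕ → S))) ^ N) y 0 =
      (fwdDiff (1 : ℕ))^[N] (fun j : ℕ => g₀ ^ (N - j) * g₁ ^ j * y j) 0 := by
  have hc : Commute (g₁ • E S) ((-g₀) • (1 : Module.End S (ℕ → S))) :=
    ((Commute.one_right (E S)).smul_left g₁).smul_right (-g₀)
  rw [hc.add_pow, LinearMap.sum_apply, Finset.sum_apply, fwdDiff_iter_eq_sum_shift]
  refine Finset.sum_congr rfl fun m _ => ?_
  rw [smul_pow, smul_pow, one_pow]
  have hcast : (N.choose m : Module.End S (ℕ → S)) = (N.choose m : S) • (1 : Module.End S (ℕ → S)) := by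
    rw [Nat.cast_smul_eq_nsmul, nsmul_eq_mul, mul_one]
  rw [hcast]
  simp only [Module.End.mul_apply, LinearMap.smul_apply, Module.End.one_apply, Pi.smul_apply,
    smul_eq_mul, map_smul]
  rw [E_pow_apply]
  simp only [zero_add, smul_eq_mul, mul_one, zsmul_eq_mul]
  rw [neg_pow]
  push_cast
  ring

end

/-- In abstract form, the estimate its proof establishes. Let S be a commutative ring, I an ideal of S,
g₀ and g₁ elements with g₁ - g₀ ∈ I, N a natural number and y a sequence in S such that, for 1 ≤ i ≤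
N, the (N-i)-fold unit-step forward difference of y taken at i lies in I^(N-i). Then g₀^N times the
N-fold forward difference of y at 0, minus the N-fold forward difference at 0 of the twisted
sequence j ↦ g₀^(N-j) g₁^j y_j, lies in I^N. (In the source S is the ring of functions on an affine
chart of X^n, I the ideal of a pairwise diagonal, g₀ and g₁ the two pullbacks of a transition unit
of L, and y_j the components x_λ along the compositions a₀^(N-j) a₁^j μ; the estimate is what makes
the higher order restrictions D^l_L well defined on ker D^(l-1)_L independently of the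
trivialisation.) -/
theorem result
    (S : Type u) [CommRing S] (I : Ideal S) (g₀ g₁ : S) (hg : g₁ - g₀ ∈ I)
    (N : ℕ) (y : ℕ → S)
    (hy : ∀ i : ℕ, 1 ≤ i → i ≤ N → (fwdDiff (1 : ℕ))^[N - i] y i ∈ I ^ (N - i)) :
    g₀ ^ N * (fwdDiff (1 : ℕ))^[N] y 0 -
        (fwdDiff (1 : ℕ))^[N] (fun j : ℕ => g₀ ^ (N - j) * g₁ ^ j * y j) 0 ∈ I ^ N := by
  set e := g₁ - g₀ with he
  have hop : g₁ • E S + (-g₀) • (1 : Module.End S (ℕ → S)) = e • E S + g₀ • D S := by
    rw [he, D]
    module
  rw [← expand2, hop, expand1, Finset.sum_range_succ']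
  simp only [pow_zero, one_mul, Nat.sub_zero, Nat.choose_zero_right, Nat.cast_one, mul_one]
  rw [sub_add_cancel_right]
  apply Submodule.neg_mem
  apply Submodule.sum_mem
  intro m hm
  rw [Finset.mem_range] at hm
  have h1 : e ^ (m + 1) ∈ I ^ (m + 1) := Ideal.pow_mem_pow hg _
  have h2 := hy (m + 1) (by omega) (by omega)
  have h3 : e ^ (m + 1) * (fwdDiff (1 : ℕ))^[N - (m + 1)] y (m + 1) ∈ I ^ N := by
    have := Ideal.mul_mem_mul h1 h2
    rw [← pow_add] at this
    have hN : m + 1 + (N - (m + 1)) = N := by omega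
    rw [hN] at this
    exact this
  have h4 : e ^ (m + 1) * g₀ ^ (N - (m + 1)) * (N.choose (m + 1) : S) *
      (fwdDiff (1 : ℕ))^[N - (m + 1)] y (m + 1) =
      (g₀ ^ (N - (m + 1)) * (N.choose (m + 1) : S)) *
        (e ^ (m + 1) * (fwdDiff (1 : ℕ))^[N - (m + 1)] y (m + 1)) := by ring
  rw [h4]
  exact Ideal.mul_mem_left _ _ h3

end Groth.Agent.S19025
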