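import Groth.Statements.S19035
-- import your own Groth.Agent.* helpers here
import Mathlib.Tactic
import Mathlib.Data.Finset.Order
import Mathlib.RingTheory.Noetherian.Basic

set_option autoImplicit false
universe u v w x
open CAlg

namespace Groth.Agent.S19035

/-- Let p be a prime and k a perfect field of characteristic p. Let (A_i) be a directed system of
finitely generated commutative k-algebras, indexed by a nonempty directed preorder, with compatible
k-algebra transition maps, and let B be a finitely generated k-algebra with compatible k-algebra
maps A_i → B which present B as the direct limit of the system (every element of B is the image of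
an element of some A_i, and two elements of some A_i with the same image in B have the same image in
some A_j). Then the p-typical Witt vectors commute with this direct limit: every Witt vector over B
is the image of a Witt vector over some A_i, and two Witt vectors over some A_i with the same image
over B already have the same image over some A_j. (Both finiteness hypotheses matter: for an
arbitrary filtered direct limit of commutative rings either assertion can fail.) -/
theorem result
    (p : ℕ) [Fact p.Prime] (k : Type u) [Field k] [CharP k p] [PerfectRing k p]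
    {ι : Type v} [Preorder ι] [IsDirected ι (· ≤ ·)] [Nonempty ι]
    (A : ι → Type w) [∀ i, CommRing (A i)] [∀ i, Algebra k (A i)]
    [∀ i, Algebra.FiniteType k (A i)]
    (f : ∀ i j, i ≤ j → (A i →ₐ[k] A j))
    (hf : ∀ i j l (hij : i ≤ j) (hjl : j ≤ l) (x : A i),
      f j l hjl (f i j hij x) = f i l (hij.trans hjl) x)
    (B : Type x) [CommRing B] [Algebra k B] [Algebra.FiniteType k B]
    (g : ∀ i, A i →ₐ[k] B)
    (hfg : ∀ i j (hij : i ≤ j) (x : A i), g j (f i j hij x) = g i x)
    (hsurj : ∀ b : B, ∃ i, ∃ x : A i, g i x = b)
    (hinj : ∀ i (x y : A i), g i x = g i y → ∃ j, ∃ hij : i ≤ j, f i j hij x = f i j hij y) :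
    (∀ w : WittVector p B, ∃ i, ∃ v : WittVector p (A i),
        WittVector.map (g i).toRingHom v = w) ∧
    (∀ i (v v' : WittVector p (A i)),
        WittVector.map (g i).toRingHom v = WittVector.map (g i).toRingHom v' →
        ∃ j, ∃ hij : i ≤ j,
          WittVector.map (f i j hij).toRingHom v = WittVector.map (f i j hij).toRingHom v') := by
  classical
  constructor
  · -- some `g i` is surjective
    obtain ⟨s, hs⟩ := (Algebra.FiniteType.out : (⊤ : Subalgebra k B).FG)
    have hch : ∀ b : s, ∃ i, ∃ x : A i, g i x = b.1 := fun b => hsurj b.1
    choose I X hX using hch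
    obtain ⟨i0, hi0⟩ := Finset.exists_le (Finset.univ.image I)
    have hrange : (g i0).range = ⊤ := by
      rw [eq_top_iff, ← hs, Algebra.adjoin_le_iff]
      intro b hb
      have hle : I ⟨b, hb⟩ ≤ i0 := hi0 _ (Finset.mem_image_of_mem _ (Finset.mem_univ _))
      refine ⟨f _ _ hle (X ⟨b, hb⟩), ?_⟩
      change g i0 (f _ _ hle (X ⟨b, hb⟩)) = b
      rw [hfg, hX]
    have hsurj0 : Function.Surjective (g i0) := by
      intro b
      have : b ∈ (g i0).range := by rw [hrange]; trivial
      exact this
    intro w
    refine ⟨i0, WittVector.mk p (fun n => (hsurj0 (w.coeff n)).choose), ?_⟩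
    ext n
    rw [WittVector.map_coeff]
    exact (hsurj0 (w.coeff n)).choose_spec
  · intro i v v' hvv
    haveI : IsNoetherianRing (A i) := Algebra.FiniteType.isNoetherianRing k (A i)
    have hfg' : (RingHom.ker (g i).toRingHom).FG := IsNoetherian.noetherian _
    obtain ⟨t, ht⟩ := hfg'
    have hch : ∀ x : t, ∃ j, ∃ hij : i ≤ j, f i j hij x.1 = 0 := by
      intro x
      have hx : x.1 ∈ RingHom.ker (g i).toRingHom := by
        rw [← ht]; exact Ideal.subset_span x.2
      have : g i x.1 = g i 0 := by
        rw [map_zero]; exact hx
      obtain ⟨j, hij, h⟩ := hinj i _ _ this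
      exact ⟨j, hij, by rw [h, map_zero]⟩
    choose J hJ hJ' using hch
    obtain ⟨j, hj⟩ := Finset.exists_le (insert i (Finset.univ.image J))
    have hij : i ≤ j := hj i (Finset.mem_insert_self _ _)
    refine ⟨j, hij, ?_⟩
    have hker : RingHom.ker (g i).toRingHom ≤ RingHom.ker (f i j hij).toRingHom := by
      rw [← ht, Ideal.span_le]
      intro x hx
      have hle : J ⟨x, hx⟩ ≤ j :=
        hj _ (Finset.mem_insert_of_mem (Finset.mem_image_of_mem _ (Finset.mem_univ _)))
      change f i j hij x = 0
      rw [← hf i _ j (hJ ⟨x, hx⟩) hle, hJ', map_zero]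
    ext n
    rw [WittVector.map_coeff, WittVector.map_coeff]
    have h1 : g i (v.coeff n) = g i (v'.coeff n) := by
      have := congrArg (fun w => w.coeff n) hvv
      simpa [WittVector.map_coeff] using this
    have h2 : v.coeff n - v'.coeff n ∈ RingHom.ker (g i).toRingHom := by
      change g i (v.coeff n - v'.coeff n) = 0
      rw [map_sub, h1, sub_self]
    have h3 := hker h2
    change f i j hij (v.coeff n - v'.coeff n) = 0 at h3
    rw [map_sub, sub_eq_zero] at h3
    exact h3

end Groth.Agent.S19035
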