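import Groth.Statements.S19036
-- import your own Groth.Agent.* helpers here
import Mathlib

set_option autoImplicit false
universe u
open Instab

namespace Groth.Agent.S19036

set_option linter.style.haveILetI false
set_option linter.unusedSectionVars false

section ZR
variable {K : Type*} [Field K] {R₀ : Type*} [CommRing R₀] (φ₀ : R₀ →+* K)

/-- indicator functions of valuation subrings of `K` containing the image of `φ₀` -/
def Cset : Set (K → Bool) :=
  {χ | χ 0 = true ∧ χ 1 = true ∧ (∀ x y, χ x = true → χ y = true → χ (x + y) = true) ∧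
    (∀ x y, χ x = true → χ y = true → χ (x * y) = true) ∧ (∀ x, χ x = true → χ (-x) = true) ∧
    (∀ x, χ x = true ∨ χ x⁻¹ = true) ∧ ∀ r, χ (φ₀ r) = true}

theorem isClopen_coord (a : K) : IsClopen {χ : K → Bool | χ a = true} :=
  (isClopen_discrete ({true} : Set Bool)).preimage (continuous_apply a)

theorem isClosed_Cset : IsClosed (Cset φ₀) := by
  have h1 : ∀ a : K, IsClosed {χ : K → Bool | χ a = true} := fun a => (isClopen_coord a).1
  have h2 : ∀ a : K, IsClosed {χ : K → Bool | ¬ χ a = true} := fun a =>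
    (isClopen_coord a).2.isClosed_compl
  simp only [Cset, Set.ofPred_and, Set.ofPred_forall]
  refine (h1 0).inter ((h1 1).inter (IsClosed.inter ?_ (IsClosed.inter ?_ (IsClosed.inter ?_
    (IsClosed.inter ?_ ?_)))))
  · refine isClosed_iInter fun x => isClosed_iInter fun y => ?_
    simp only [imp_iff_not_or, Set.ofPred_or]
    exact (h2 x).union ((h2 y).union (h1 _))
  · refine isClosed_iInter fun x => isClosed_iInter fun y => ?_
    simp only [imp_iff_not_or, Set.ofPred_or]
    exact (h2 x).union ((h2 y).union (h1 _))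
  · refine isClosed_iInter fun x => ?_
    simp only [imp_iff_not_or, Set.ofPred_or]
    exact (h2 x).union (h1 _)
  · refine isClosed_iInter fun x => ?_
    simp only [Set.ofPred_or]
    exact (h1 x).union (h1 _)
  · exact isClosed_iInter fun r => h1 _

/-- the valuation subring attached to an indicator function -/
def ofχ (χ : K → Bool) (h : χ ∈ Cset φ₀) : ValuationSubring K where
  carrier := {x | χ x = true}
  mul_mem' {x y} hx hy := h.2.2.2.1 x y hx hy
  one_mem' := h.2.1
  add_mem' {x y} hx hy := h.2.2.1 x y hx hy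
  zero_mem' := h.1
  neg_mem' {x} hx := h.2.2.2.2.1 x hx
  mem_or_inv_mem' x := h.2.2.2.2.2.1 x

theorem mem_ofχ (χ : K → Bool) (h : χ ∈ Cset φ₀) (x : K) : x ∈ ofχ φ₀ χ h ↔ χ x = true := Iff.rfl

open Classical in
/-- the indicator function of a valuation subring -/
noncomputable def χof (O : ValuationSubring K) : K → Bool := fun x => decide (x ∈ O)

theorem χof_apply (O : ValuationSubring K) (x : K) : χof O x = true ↔ x ∈ O := by
  simp [χof]

theorem χof_mem_Cset (O : ValuationSubring K) (hO : ∀ r, φ₀ r ∈ O) : χof O ∈ Cset φ₀ := by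
  refine ⟨?_, ?_, ?_, ?_, ?_, ?_, ?_⟩
  · rw [χof_apply]; exact O.zero_mem
  · rw [χof_apply]; exact O.one_mem
  · intro x y hx hy; rw [χof_apply] at *; exact O.add_mem _ _ hx hy
  · intro x y hx hy; rw [χof_apply] at *; exact O.mul_mem _ _ hx hy
  · intro x hx; rw [χof_apply] at *; exact O.neg_mem _ hx
  · intro x; rw [χof_apply, χof_apply]; exact O.mem_or_inv_mem x
  · intro r; rw [χof_apply]; exact hO r

/-- quasi-compactness of the Zariski–Riemann space -/
theorem exists_finite_subcover {ι : Type*} (G : ι → Finset K)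
    (hcov : ∀ O : ValuationSubring K, (∀ r, φ₀ r ∈ O) → ∃ i, ∀ b ∈ G i, b ∈ O) :
    ∃ t : Finset ι, ∀ O : ValuationSubring K, (∀ r, φ₀ r ∈ O) → ∃ i ∈ t, ∀ b ∈ G i, b ∈ O := by
  have hcomp : IsCompact (Cset φ₀) := (isClosed_Cset φ₀).isCompact
  let U : ι → Set (K → Bool) := fun i => ⋂ b ∈ G i, {χ | χ b = true}
  have hU : ∀ i, IsOpen (U i) := fun i =>
    isOpen_biInter_finset fun b _ => (isClopen_coord b).2
  have hsub : Cset φ₀ ⊆ ⋃ i, U i := by
    intro χ hχ
    obtain ⟨i, hi⟩ := hcov (ofχ φ₀ χ hχ) (fun r => hχ.2.2.2.2.2.2 r)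
    refine Set.mem_iUnion.mpr ⟨i, ?_⟩
    simp only [U, Set.mem_iInter]
    intro b hb
    exact hi b hb
  obtain ⟨t, ht⟩ := hcomp.elim_finite_subcover U hU hsub
  refine ⟨t, fun O hO => ?_⟩
  have := ht (χof_mem_Cset φ₀ O hO)
  simp only [Set.mem_iUnion, exists_prop] at this
  obtain ⟨i, hi, hχ⟩ := this
  refine ⟨i, hi, fun b hb => ?_⟩
  simp only [U, Set.mem_iInter] at hχ
  exact (χof_apply O b).mp (hχ b hb)

end ZR


open CategoryTheory AlgebraicGeometry IsLocalRing

section Center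
set_option backward.isDefEq.respectTransparency.types false
variable {X Y : Scheme.{u}} (f : X ⟶ Y) {V : Y.Opens} (hV : IsAffineOpen V) (ξ : X)
  (hξ : f ξ ∈ V)

include hξ in
theorem range_subset_V :
    Set.range (X.fromSpecResidueField ξ ≫ f) ⊆ Set.range hV.fromSpec := by
  rw [hV.range_fromSpec]
  rintro _ ⟨p, rfl⟩
  rw [Scheme.Hom.comp_apply, Scheme.fromSpecResidueField_apply]
  exact hξ

/-- `Γ(Y, V) → κ(ξ)` -/
noncomputable def φ₀ : Γ(Y, V) ⟶ X.residueField ξ :=
  Spec.preimage (IsOpenImmersion.lift hV.fromSpec (X.fromSpecResidueField ξ ≫ f)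
    (range_subset_V f hV ξ hξ))

theorem φ₀_spec : Spec.map (φ₀ f hV ξ hξ) ≫ hV.fromSpec = X.fromSpecResidueField ξ ≫ f := by
  rw [φ₀, Spec.map_preimage, IsOpenImmersion.lift_fac]

variable (O : ValuationSubring (X.residueField ξ)) (hO : ∀ r, (φ₀ f hV ξ hξ).hom r ∈ O)

/-- `Γ(Y, V) → O` -/
noncomputable def φO : Γ(Y, V) ⟶ CommRingCat.of O :=
  CommRingCat.ofHom ((φ₀ f hV ξ hξ).hom.codRestrict O.toSubring hO)

theorem φO_comp : φO f hV ξ hξ O hO ≫ CommRingCat.ofHom (algebraMap O (X.residueField ξ)) =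
    φ₀ f hV ξ hξ := by
  ext r
  rfl

/-- the valuative square attached to `O` -/
noncomputable def sq : ValuativeCommSq f where
  R := O
  K := X.residueField ξ
  i₁ := X.fromSpecResidueField ξ
  i₂ := Spec.map (φO f hV ξ hξ O hO) ≫ hV.fromSpec
  commSq := ⟨by
    rw [← Category.assoc, ← Spec.map_comp, φO_comp, φ₀_spec]⟩

variable (hf : ValuativeCriterion f)

include hf in
theorem exists_lft : ∃ l : Spec (CommRingCat.of O) ⟶ X,
    Spec.map (CommRingCat.ofHom (algebraMap O (X.residueField ξ))) ≫ l =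
      X.fromSpecResidueField ξ ∧
    l ≫ f = Spec.map (φO f hV ξ hξ O hO) ≫ hV.fromSpec := by
  obtain ⟨⟨l, h1, h2⟩⟩ := (hf.existence (sq f hV ξ hξ O hO)).exists_lift
  exact ⟨l, h1, h2⟩

/-- the lift -/
noncomputable def lft : Spec (CommRingCat.of O) ⟶ X := (exists_lft f hV ξ hξ O hO hf).choose

theorem lft_left : Spec.map (CommRingCat.ofHom (algebraMap O (X.residueField ξ))) ≫
    lft f hV ξ hξ O hO hf = X.fromSpecResidueField ξ :=
  (exists_lft f hV ξ hξ O hO hf).choose_spec.1

theorem lft_right : lft f hV ξ hξ O hO hf ≫ f = Spec.map (φO f hV ξ hξ O hO) ≫ hV.fromSpec :=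
  (exists_lft f hV ξ hξ O hO hf).choose_spec.2

theorem lft_unique (l : Spec (CommRingCat.of O) ⟶ X)
    (h1 : Spec.map (CommRingCat.ofHom (algebraMap O (X.residueField ξ))) ≫ l =
      X.fromSpecResidueField ξ)
    (h2 : l ≫ f = Spec.map (φO f hV ξ hξ O hO) ≫ hV.fromSpec) :
    l = lft f hV ξ hξ O hO hf := by
  haveI := hf.uniqueness (sq f hV ξ hξ O hO)
  have := Subsingleton.elim
    (⟨l, h1, h2⟩ : (sq f hV ξ hξ O hO).commSq.LiftStruct)
    ⟨lft f hV ξ hξ O hO hf, lft_left f hV ξ hξ O hO hf, lft_right f hV ξ hξ O hO hf⟩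
  exact congrArg CommSq.LiftStruct.l this

/-- the center of `O` on `X` -/
noncomputable def center : X := lft f hV ξ hξ O hO hf (closedPoint O)

theorem specializes_center : ξ ⤳ center f hV ξ hξ O hO hf := by
  have h1 : (Spec.map (CommRingCat.ofHom (algebraMap O (X.residueField ξ))))
      (closedPoint (X.residueField ξ)) ⤳ closedPoint O := specializes_closedPoint _
  have h2 := h1.map (lft f hV ξ hξ O hO hf).continuous
  have h3 : (Spec.map (CommRingCat.ofHom (algebraMap O (X.residueField ξ))) ≫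
      lft f hV ξ hξ O hO hf) (closedPoint (X.residueField ξ)) = ξ := by
    rw [lft_left, Scheme.fromSpecResidueField_apply]
  rw [Scheme.Hom.comp_apply] at h3
  rw [h3] at h2
  exact h2

theorem center_mem_V : f (center f hV ξ hξ O hO hf) ∈ V := by
  have h1 : (lft f hV ξ hξ O hO hf ≫ f) (closedPoint O) ∈ Set.range hV.fromSpec := by
    rw [lft_right, Scheme.Hom.comp_apply]
    exact ⟨_, rfl⟩
  rw [hV.range_fromSpec, Scheme.Hom.comp_apply] at h1
  exact h1

section W
variable {W : X.Opens} (hW : IsAffineOpen W) (hξW : ξ ∈ W)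

include hξW in
theorem range_subset_W : Set.range (X.fromSpecResidueField ξ) ⊆ Set.range hW.fromSpec := by
  rw [hW.range_fromSpec, Scheme.range_fromSpecResidueField]
  simpa using hξW

/-- `Γ(X, W) → κ(ξ)` -/
noncomputable def ψ : Γ(X, W) ⟶ X.residueField ξ :=
  Spec.preimage (IsOpenImmersion.lift hW.fromSpec (X.fromSpecResidueField ξ)
    (range_subset_W ξ hW hξW))

theorem ψ_spec : Spec.map (ψ ξ hW hξW) ≫ hW.fromSpec = X.fromSpecResidueField ξ := by
  rw [ψ, Spec.map_preimage, IsOpenImmersion.lift_fac]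

variable (hWV : W ≤ f ⁻¹ᵁ V)

theorem appLE_comp_ψ : f.appLE V W hWV ≫ ψ ξ hW hξW = φ₀ f hV ξ hξ := by
  apply Spec.map_injective
  rw [← cancel_mono hV.fromSpec, Spec.map_comp, Category.assoc,
    IsAffineOpen.SpecMap_appLE_fromSpec f hV hW hWV, ← Category.assoc, ψ_spec, φ₀_spec]

theorem ψ_mem_of_center_mem (hc : center f hV ξ hξ O hO hf ∈ W) (b : Γ(X, W)) :
    (ψ ξ hW hξW).hom b ∈ O := by
  have hrange : Set.range (lft f hV ξ hξ O hO hf) ⊆ Set.range hW.fromSpec := by
    rw [hW.range_fromSpec]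
    rintro _ ⟨p, rfl⟩
    have h1 : p ⤳ closedPoint O := specializes_closedPoint p
    exact (h1.map (lft f hV ξ hξ O hO hf).continuous).mem_open W.isOpen hc
  let l' : Spec (CommRingCat.of O) ⟶ Spec Γ(X, W) :=
    IsOpenImmersion.lift hW.fromSpec (lft f hV ξ hξ O hO hf) hrange
  have hl' : l' ≫ hW.fromSpec = lft f hV ξ hξ O hO hf := IsOpenImmersion.lift_fac _ _ _
  let lam : Γ(X, W) ⟶ CommRingCat.of O := Spec.preimage l'
  have hlam : Spec.map lam = l' := Spec.map_preimage _
  have hcomp : lam ≫ CommRingCat.ofHom (algebraMap O (X.residueField ξ)) = ψ ξ hW hξW := by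
    apply Spec.map_injective
    rw [← cancel_mono hW.fromSpec, Spec.map_comp, Category.assoc, hlam, hl', lft_left, ψ_spec]
  have : (ψ ξ hW hξW).hom b = algebraMap O (X.residueField ξ) (lam.hom b) := by
    rw [← hcomp]; rfl
  rw [this]
  exact (lam.hom b).2

include hWV in
theorem center_mem_of_ψ_mem (h : ∀ b, (ψ ξ hW hξW).hom b ∈ O) :
    center f hV ξ hξ O hO hf ∈ W := by
  let lam : Γ(X, W) ⟶ CommRingCat.of O :=
    CommRingCat.ofHom ((ψ ξ hW hξW).hom.codRestrict O.toSubring h)
  have hlam : lam ≫ CommRingCat.ofHom (algebraMap O (X.residueField ξ)) = ψ ξ hW hξW := by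
    ext b; rfl
  have hinj : Function.Injective (algebraMap O (X.residueField ξ)) :=
    IsFractionRing.injective O (X.residueField ξ)
  have hρ : f.appLE V W hWV ≫ lam = φO f hV ξ hξ O hO := by
    ext r
    change algebraMap O (X.residueField ξ) ((f.appLE V W hWV ≫ lam).hom r) =
      algebraMap O (X.residueField ξ) ((φO f hV ξ hξ O hO).hom r)
    have h1 : algebraMap O (X.residueField ξ) ((f.appLE V W hWV ≫ lam).hom r) =
        ((f.appLE V W hWV ≫ lam) ≫ CommRingCat.ofHom (algebraMap O (X.residueField ξ))).hom r :=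
      rfl
    have h2 : algebraMap O (X.residueField ξ) ((φO f hV ξ hξ O hO).hom r) =
        (φO f hV ξ hξ O hO ≫ CommRingCat.ofHom (algebraMap O (X.residueField ξ))).hom r := rfl
    rw [h1, h2, Category.assoc, hlam, appLE_comp_ψ f hV ξ hξ hW hξW hWV, φO_comp]
  have hl := lft_unique f hV ξ hξ O hO hf (Spec.map lam ≫ hW.fromSpec)
    (by rw [← Category.assoc, ← Spec.map_comp, hlam, ψ_spec])
    (by rw [Category.assoc, ← IsAffineOpen.SpecMap_appLE_fromSpec f hV hW hWV,
      ← Category.assoc, ← Spec.map_comp, hρ])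
  have h1 : (Spec.map lam ≫ hW.fromSpec) (closedPoint O) ∈ Set.range hW.fromSpec := by
    rw [Scheme.Hom.comp_apply]
    exact ⟨_, rfl⟩
  rw [hW.range_fromSpec, hl] at h1
  exact h1

end W

theorem exists_center_eq (x : X) (hx : ξ ⤳ x) (hxV : f x ∈ V) :
    ∃ (O : ValuationSubring (X.residueField ξ)) (hO : ∀ r, (φ₀ f hV ξ hξ).hom r ∈ O),
      center f hV ξ hξ O hO hf = x := by
  let θ : X.presheaf.stalk x ⟶ X.residueField ξ := X.presheaf.stalkSpecializes hx ≫ X.residue ξ
  obtain ⟨O, hθ, hloc⟩ := exists_factor_valuationRing θ.hom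
  let θO : X.presheaf.stalk x ⟶ CommRingCat.of O :=
    CommRingCat.ofHom (θ.hom.codRestrict _ hθ)
  have hθO : θO ≫ CommRingCat.ofHom (algebraMap O (X.residueField ξ)) = θ := by
    ext a; rfl
  let l₃ : Spec (CommRingCat.of O) ⟶ X := Spec.map θO ≫ X.fromSpecStalk x
  have hl₃cl : l₃ (closedPoint O) = x := by
    have h1 : Spec.map θO (closedPoint O) = closedPoint (X.presheaf.stalk x) :=
      comap_closedPoint (S := O) (θ.hom.codRestrict O.toSubring hθ)
    change (Spec.map θO ≫ X.fromSpecStalk x) (closedPoint O) = x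
    rw [Scheme.Hom.comp_apply, h1, X.fromSpecStalk_closedPoint]
  have hl₃left : Spec.map (CommRingCat.ofHom (algebraMap O (X.residueField ξ))) ≫ l₃ =
      X.fromSpecResidueField ξ := by
    change _ ≫ Spec.map θO ≫ X.fromSpecStalk x = _
    rw [← Category.assoc, ← Spec.map_comp, hθO, Spec.map_comp, Category.assoc,
      Scheme.SpecMap_stalkSpecializes_fromSpecStalk]
    rfl
  have hrange : Set.range (l₃ ≫ f) ⊆ Set.range hV.fromSpec := by
    rw [hV.range_fromSpec]
    rintro _ ⟨p, rfl⟩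
    have h1 : p ⤳ closedPoint O := specializes_closedPoint p
    have h2 := h1.map (l₃ ≫ f).continuous
    refine h2.mem_open V.isOpen ?_
    rw [Scheme.Hom.comp_apply, hl₃cl]
    exact hxV
  let m' : Spec (CommRingCat.of O) ⟶ Spec Γ(Y, V) :=
    IsOpenImmersion.lift hV.fromSpec (l₃ ≫ f) hrange
  have hm' : m' ≫ hV.fromSpec = l₃ ≫ f := IsOpenImmersion.lift_fac _ _ _
  let μ : Γ(Y, V) ⟶ CommRingCat.of O := Spec.preimage m'
  have hμ' : Spec.map μ = m' := Spec.map_preimage _
  have hμ : μ ≫ CommRingCat.ofHom (algebraMap O (X.residueField ξ)) = φ₀ f hV ξ hξ := by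
    apply Spec.map_injective
    rw [← cancel_mono hV.fromSpec, Spec.map_comp, Category.assoc, hμ', hm', ← Category.assoc,
      hl₃left, φ₀_spec]
  have hO : ∀ r, (φ₀ f hV ξ hξ).hom r ∈ O := by
    intro r
    rw [← hμ]
    exact (μ.hom r).2
  have hφO : φO f hV ξ hξ O hO = μ := by
    ext r
    change (φ₀ f hV ξ hξ).hom r = _
    rw [← hμ]
    rfl
  refine ⟨O, hO, ?_⟩
  have h := lft_unique f hV ξ hξ O hO hf l₃ hl₃left (by rw [hφO, hμ', hm'])
  rw [center, ← h, hl₃cl]

theorem exists_data [LocallyOfFiniteType f] (T : Set X) (hT : IsOpen T)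
    (hc : center f hV ξ hξ O hO hf ∈ T) :
    ∃ (W : X.Opens) (hW : IsAffineOpen W) (hξW : ξ ∈ W) (_ : W ≤ f ⁻¹ᵁ V)
      (G : Finset (X.residueField ξ)),
      center f hV ξ hξ O hO hf ∈ W ∧ (W : Set X) ⊆ T ∧ (∀ b ∈ G, b ∈ O) ∧
      ∀ (O' : ValuationSubring (X.residueField ξ)), (∀ r, (φ₀ f hV ξ hξ).hom r ∈ O') →
        (∀ b ∈ G, b ∈ O') → ∀ b : Γ(X, W), (ψ ξ hW hξW).hom b ∈ O' := by
  have hcV : center f hV ξ hξ O hO hf ∈ (⟨T, hT⟩ : X.Opens) ⊓ f ⁻¹ᵁ V :=
    ⟨hc, center_mem_V f hV ξ hξ O hO hf⟩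
  obtain ⟨W, hW, hcW, hWle⟩ := exists_isAffineOpen_mem_and_subset hcV
  have hξW : ξ ∈ W := (specializes_center f hV ξ hξ O hO hf).mem_open W.isOpen hcW
  have hWV : W ≤ f ⁻¹ᵁ V := fun y hy => (hWle hy).2
  have hft := LocallyOfFiniteType.finiteType_appLE f hV hW hWV
  letI := (f.appLE V W hWV).hom.toAlgebra
  obtain ⟨G, hG⟩ := (hft : Algebra.FiniteType Γ(Y, V) Γ(X, W)).out
  classical
  refine ⟨W, hW, hξW, hWV, G.image (ψ ξ hW hξW).hom, hcW, fun y hy => (hWle hy).1, ?_, ?_⟩
  · intro b hb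
    obtain ⟨g, -, rfl⟩ := Finset.mem_image.mp hb
    exact ψ_mem_of_center_mem f hV ξ hξ O hO hf hW hξW hcW g
  intro O' hO' hG' b
  let S : Subalgebra Γ(Y, V) Γ(X, W) :=
    { carrier := {b | (ψ ξ hW hξW).hom b ∈ O'}
      mul_mem' := fun {a b} ha hb => by
        change (ψ ξ hW hξW).hom (a * b) ∈ O'
        rw [map_mul]; exact O'.mul_mem _ _ ha hb
      add_mem' := fun {a b} ha hb => by
        change (ψ ξ hW hξW).hom (a + b) ∈ O'
        rw [map_add]; exact O'.add_mem _ _ ha hb
      algebraMap_mem' := fun r => by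
        change (ψ ξ hW hξW).hom ((f.appLE V W hWV).hom r) ∈ O'
        have : (ψ ξ hW hξW).hom ((f.appLE V W hWV).hom r) =
            (f.appLE V W hWV ≫ ψ ξ hW hξW).hom r := rfl
        rw [this, appLE_comp_ψ f hV ξ hξ hW hξW hWV]
        exact hO' r }
  have hle : Algebra.adjoin Γ(Y, V) (G : Set Γ(X, W)) ≤ S := by
    apply Algebra.adjoin_le
    intro g hg
    exact hG' _ (Finset.mem_image_of_mem _ hg)
  rw [hG] at hle
  exact hle (Algebra.mem_top (x := b))

theorem isCompact_inter_closure [LocallyOfFiniteType f] {V : Y.Opens} (hV : IsAffineOpen V)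
    (ξ : X) (hf : ValuativeCriterion f) :
    IsCompact ((f ⁻¹ᵁ V : Set X) ∩ closure {ξ}) := by
  by_cases hξ : f ξ ∈ V
  swap
  · convert isCompact_empty
    rw [Set.eq_empty_iff_forall_notMem]
    rintro x ⟨hxV, hx⟩
    rw [← specializes_iff_mem_closure] at hx
    exact hξ (hx.mem_open (f ⁻¹ᵁ V).isOpen hxV)
  apply isCompact_of_finite_subcover
  intro ι U hUo hcov
  -- the index type: valuation subrings over `Γ(Y, V)`
  let 𝒱 := {O : ValuationSubring (X.residueField ξ) // ∀ r, (φ₀ f hV ξ hξ).hom r ∈ O}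
  have hmem : ∀ O : 𝒱, center f hV ξ hξ O.1 O.2 hf ∈ (f ⁻¹ᵁ V : Set X) ∩ closure {ξ} := fun O =>
    ⟨center_mem_V f hV ξ hξ O.1 O.2 hf,
      specializes_iff_mem_closure.mp (specializes_center f hV ξ hξ O.1 O.2 hf)⟩
  have hi : ∀ O : 𝒱, ∃ i, center f hV ξ hξ O.1 O.2 hf ∈ U i := fun O => by
    simpa using hcov (hmem O)
  choose i hi using hi
  have hdata := fun O : 𝒱 => exists_data f hV ξ hξ O.1 O.2 hf (U (i O)) (hUo _) (hi O)
  choose W hW hξW hWV G hcW hWU hGO hgen using hdata
  obtain ⟨t, ht⟩ := exists_finite_subcover (φ₀ f hV ξ hξ).hom G (fun O' hO' =>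
    ⟨⟨O', hO'⟩, hGO ⟨O', hO'⟩⟩)
  classical
  refine ⟨t.image i, ?_⟩
  rintro x ⟨hxV, hx⟩
  rw [← specializes_iff_mem_closure] at hx
  obtain ⟨O', hO', hcx⟩ := exists_center_eq f hV ξ hξ hf x hx hxV
  obtain ⟨O, hOt, hb⟩ := ht O' hO'
  have h1 := hgen O O' hO' hb
  have h2 := center_mem_of_ψ_mem f hV ξ hξ O' hO' hf (hW O) (hξW O) (hWV O) h1
  rw [hcx] at h2
  simp only [Set.mem_iUnion, Finset.mem_image, exists_prop]
  exact ⟨i O, ⟨O, hOt, rfl⟩, hWU O h2⟩

end Center

open CategoryTheory AlgebraicGeometry in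
/-- Let f : X → Y be a morphism of schemes which is locally of finite presentation, and for which the
valuative criterion holds (every valuative square over a valuation ring has exactly one lift). When
X has only finitely many irreducible components, the morphism f is quasi-compact. (The source states
this for algebraic spaces and adds that f is then proper; universal closedness follows from
quasi-compactness and the existence part by the standard criterion, and separatedness from the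
uniqueness part once f is quasi-separated. Only the scheme case and the quasi-compactness conclusion
are stated here.) -/
theorem result
    {X Y : Scheme.{u}} (f : X ⟶ Y) [LocallyOfFinitePresentation f]
    (hf : ValuativeCriterion f) (hX : (irreducibleComponents ↥X).Finite) :
    QuasiCompact f := by
  rw [quasiCompact_iff_forall_isAffineOpen]
  intro V hV
  have h1 : (f ⁻¹ᵁ V : Set X) = ⋃ Z ∈ irreducibleComponents X, ((f ⁻¹ᵁ V : Set X) ∩ Z) := by
    rw [← Set.inter_iUnion₂, ← Set.sUnion_eq_biUnion, sUnion_irreducibleComponents, Set.inter_univ]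
  rw [h1]
  apply hX.isCompact_biUnion
  intro Z hZ
  have hZirr : IsIrreducible Z := hZ.1
  have hZcl : IsClosed Z := isClosed_of_mem_irreducibleComponents Z hZ
  rw [← hZirr.closure_genericPoint hZcl]
  exact isCompact_inter_closure f hV _ hf

end Groth.Agent.S19036
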