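import Groth.Statements.S19037
-- import your own Groth.Agent.* helpers here
import Mathlib.Tactic

set_option autoImplicit false
universe u v
open scoped Polynomial LaurentPolynomial
open Instab

namespace Groth.Agent.S19037

theorem toLaurent_coeff_neg_one {R : Type u} [CommRing R] (q : R[X]) :
    (Polynomial.toLaurent q).coeff (-1) = 0 := by
  rw [← Finsupp.notMem_support_iff, LaurentPolynomial.support_coeff_toLaurent]
  simp only [Finset.mem_map, Polynomial.mem_support_iff, ne_eq, Nat.castEmbedding_apply, not_exists,
    not_and]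
  intro n _ h
  omega

theorem C_mul_T_coeff {R : Type u} [CommRing R] (r : R) (n : ℤ) :
    (LaurentPolynomial.C r * LaurentPolynomial.T n : R[T;T⁻¹]).coeff n = r := by
  rw [← LaurentPolynomial.single_eq_C_mul_T, AddMonoidAlgebra.coeff_single, Finsupp.single_eq_same]

/-- Affine form over a ring R. Let A be a commutative ℤ-graded R-algebra and t an element of degree −1
(so A is a graded algebra over R[t] with t in degree −1), and let ψ : A[1/t] → R[T, T⁻¹] be an
R-algebra map sending t to T which is graded, in the sense that each homogeneous element of degree n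
of A goes to an element of R times T^(−n). Then ψ is obtained by inverting t from an R-algebra map χ
: A → R[T] (compared through the inclusion of R[T] in R[T, T⁻¹]) if and only if ψ kills t·a for
every homogeneous a of degree 1; such a χ is unique. (The source states this for quasi-coherent
graded algebras over an arbitrary base scheme; the statement is local on the base and is given here
over an affine base.) -/
theorem result
    {R : Type u} {A : Type v} [CommRing R] [CommRing A] [Algebra R A]
    (𝒜 : ℤ → Submodule R A) [GradedAlgebra 𝒜] (t : A) (ht : t ∈ 𝒜 (-1))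
    (ψ : Localization.Away t →ₐ[R] R[T;T⁻¹])
    (hψt : ψ (algebraMap A (Localization.Away t) t) = LaurentPolynomial.T 1)
    (hψ : ∀ (n : ℤ) (a : A), a ∈ 𝒜 n →
      ∃ r : R, ψ (algebraMap A (Localization.Away t) a) = LaurentPolynomial.C r * LaurentPolynomial.T (-n)) :
    (∃! χ : A →ₐ[R] R[X], ∀ a : A,
        ψ (algebraMap A (Localization.Away t) a) = Polynomial.toLaurentAlg (χ a)) ↔
      ∀ a ∈ 𝒜 1, ψ (algebraMap A (Localization.Away t) (t * a)) = 0 := by
  classical
  set L : R[X] →ₐ[R] R[T;T⁻¹] := Polynomial.toLaurentAlg with hL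
  have hLinj : Function.Injective L := Polynomial.toLaurent_injective
  constructor
  · rintro ⟨χ, hχ, -⟩ a ha
    obtain ⟨r, hr⟩ := hψ 1 a ha
    have h1 := hχ a
    rw [hr] at h1
    have h2 := congrArg (fun f : R[T;T⁻¹] => f.coeff (-1)) h1
    simp only [C_mul_T_coeff] at h2
    have h3 : (Polynomial.toLaurentAlg (χ a) : R[T;T⁻¹]).coeff (-1) = 0 :=
      toLaurent_coeff_neg_one (χ a)
    rw [h3] at h2
    rw [map_mul, map_mul, hr, h2, map_zero, zero_mul, mul_zero]
  · intro h
    let φ : A →ₐ[R] R[T;T⁻¹] := ψ.comp (IsScalarTower.toAlgHom R A (Localization.Away t))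
    have hφ : ∀ a, φ a = ψ (algebraMap A (Localization.Away t) a) := fun a => rfl
    have hhom : ∀ (n : ℤ) (a : A), a ∈ 𝒜 n → φ a ∈ L.range := by
      intro n a ha
      rcases le_or_gt n 0 with hn | hn
      · obtain ⟨r, hr⟩ := hψ n a ha
        refine ⟨Polynomial.C r * Polynomial.X ^ (-n).toNat, ?_⟩
        rw [hφ, hr]
        change Polynomial.toLaurent _ = _
        rw [Polynomial.toLaurent_C_mul_X_pow]
        congr 2
        omega
      · obtain ⟨m, rfl⟩ : ∃ m : ℕ, n = m + 1 := ⟨(n - 1).toNat, by omega⟩
        have h1 : t ^ m * a ∈ 𝒜 1 := by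
          have := SetLike.mul_mem_graded (SetLike.pow_mem_graded m ht) ha
          have e : m • (-1 : ℤ) + ((m : ℤ) + 1) = 1 := by
            simp
          rw [e] at this
          exact this
        have h2 := h _ h1
        rw [map_mul, map_mul, map_mul, map_mul, map_pow, map_pow, hψt, ← mul_assoc, ← pow_succ'] at h2
        have hu : IsUnit ((LaurentPolynomial.T 1 : R[T;T⁻¹]) ^ (m + 1)) :=
          (LaurentPolynomial.isUnit_T 1).pow _
        have h3 : φ a = 0 := by
          rw [hφ]
          exact (hu.mul_right_eq_zero).mp h2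
        rw [h3]
        exact Subalgebra.zero_mem _
    have hrange : ∀ a : A, φ a ∈ L.range := by
      intro a
      refine DirectSum.Decomposition.inductionOn 𝒜 (motive := fun a => φ a ∈ L.range) ?_ ?_ ?_ a
      · rw [map_zero]; exact Subalgebra.zero_mem _
      · intro i m
        exact hhom i m.1 m.2
      · intro m m' hm hm'
        rw [map_add]
        exact Subalgebra.add_mem _ hm hm'
    let e := AlgEquiv.ofInjective L hLinj
    let χ : A →ₐ[R] R[X] := (e.symm : L.range →ₐ[R] R[X]).comp (φ.codRestrict L.range hrange)
    have hχ : ∀ a, L (χ a) = φ a := by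
      intro a
      have h1 : (e (χ a) : R[T;T⁻¹]) = φ a := by
        simp only [χ, AlgHom.comp_apply, AlgEquiv.coe_toAlgHom, AlgEquiv.apply_symm_apply]
        rfl
      exact h1
    refine ⟨χ, fun a => (hχ a).symm, ?_⟩
    intro χ' hχ'
    ext a : 1
    apply hLinj
    rw [hχ a, hφ]
    exact (hχ' a).symm

end Groth.Agent.S19037
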