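import Groth.Statements.S19039
import Groth.Prelude.Def_Magnet4
import Mathlib
import Groth.Agent.Lib.Helper20MagnetSTD2

set_option autoImplicit false
universe u
open Instab

namespace Groth.Agent.S19039

open CategoryTheory MonoidalCategory CartesianMonoidalCategory MonObj GrpObj AlgebraicGeometry
open scoped TensorProduct Polynomial

variable (R : Type u) [CommRing R]

/-- `ℕ → Multiplicative ℤ`. -/
def ι0 : ℕ → Multiplicative ℤ := fun n => Multiplicative.ofAdd (n : ℤ)

theorem ι0_injective : Function.Injective ι0 := by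
  intro a b h
  have : ((a : ℤ)) = (b : ℤ) := Multiplicative.ofAdd.injective h
  exact_mod_cast this

/-- Truncation `R[z, z⁻¹] → R[x]`, an `R`-linear retraction of `x ↦ z`. -/
noncomputable def trunc : ThetaS.Lau R →ₗ[R] R[X] :=
  (Polynomial.toFinsuppIsoLinear R).symm.toLinearMap ∘ₗ
    (AddMonoidAlgebra.coeffLinearEquiv R).symm.toLinearMap ∘ₗ
      Finsupp.lcomapDomain ι0 ι0_injective ∘ₗ (MonoidAlgebra.coeffLinearEquiv R).toLinearMap

theorem trunc_single (n : ℕ) (r : R) :
    trunc R (MonoidAlgebra.single (Multiplicative.ofAdd (n : ℤ)) r) = Polynomial.monomial n r := by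
  simp only [trunc, LinearMap.comp_apply, LinearEquiv.coe_coe]
  have h1 : (MonoidAlgebra.coeffLinearEquiv R) (MonoidAlgebra.single (Multiplicative.ofAdd (n : ℤ)) r) =
      Finsupp.single (ι0 n) r := by
    ext; simp [ι0]
  rw [h1]
  have h2 : Finsupp.lcomapDomain (R := R) ι0 ι0_injective (Finsupp.single (ι0 n) r) =
      Finsupp.single n r := by
    ext m
    simp only [Finsupp.lcomapDomain, LinearMap.coe_mk, AddHom.coe_mk, Finsupp.comapDomain_apply,
      Finsupp.single_apply]
    by_cases h : n = m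
    · subst h; simp
    · rw [if_neg h, if_neg]
      exact fun h' => h (ι0_injective h')
  rw [h2]
  apply (Polynomial.toFinsuppIsoLinear R).injective
  rw [LinearEquiv.apply_symm_apply]
  apply (AddMonoidAlgebra.coeffLinearEquiv R).injective
  rw [LinearEquiv.apply_symm_apply]
  ext m
  simp [Polynomial.toFinsuppIsoLinear, Polynomial.toFinsupp_monomial]

theorem trunc_aeval (p : R[X]) : trunc R (Polynomial.aeval (ThetaS.zPow R 1) p) = p := by
  induction p using Polynomial.induction_on' with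
  | add p q hp hq => rw [map_add, map_add, hp, hq]
  | monomial n r =>
    rw [Polynomial.aeval_monomial]
    have h1 : (ThetaS.zPow R 1) ^ n = MonoidAlgebra.single (Multiplicative.ofAdd (n : ℤ)) 1 := by
      rw [ThetaS.zPow, MonoidAlgebra.single_pow, one_pow]
      congr 1
      rw [← ofAdd_nsmul]
      simp
    rw [h1, Algebra.algebraMap_eq_smul_one, smul_mul_assoc, _root_.one_mul,
      MonoidAlgebra.smul_single, smul_eq_mul, _root_.mul_one, trunc_single]


/-- the inclusion `G_m ⟶ 𝔸¹`. -/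
noncomputable abbrev jj : ThetaS.Gm R ⟶ ThetaS.Line R :=
  CoactBr.pt (ThetaS.linePt (ThetaS.zPow R 1))

theorem act_j : lift (fst (ThetaS.Gm R) (ThetaS.Gm R)) (snd (ThetaS.Gm R) (ThetaS.Gm R) ≫ jj R) ≫
    (ThetaS.lineAction R).act = μ[ThetaS.Gm R] ≫ jj R := by
  apply Magnet.hom_ext_pt (R := R) (B := ThetaS.Lau R) (C := ThetaS.Lau R)
  rw [comp_lift_assoc, lift_fst, lift_snd_assoc]
  have h1 : CoactBr.pt (Algebra.TensorProduct.includeRight :
        ThetaS.Lau R →ₐ[R] ThetaS.Lau R ⊗[R] ThetaS.Lau R) ≫ jj R =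
      CoactBr.pt (ThetaS.linePt ((1 : ThetaS.Lau R) ⊗ₜ[R] ThetaS.zPow R 1)) := by
    rw [jj, ← CoactBr.pt_comp]
    congr 1
    apply Polynomial.algHom_ext
    simp
  rw [h1, ThetaS.lineAction_pt, ← Category.assoc, ← Hom.mul_def, CoactBr.pt_mul_pt, jj,
    ← CoactBr.pt_comp]
  congr 1
  apply Polynomial.algHom_ext
  simp [Bialgebra.comulAlgHom_apply]


theorem lift_act_j {T' : Over (Spec (CommRingCat.of R))} (g h : T' ⟶ ThetaS.Gm R) :
    lift g (h ≫ jj R) ≫ (ThetaS.lineAction R).act = (g * h) ≫ jj R := by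
  have := congrArg (lift g h ≫ ·) (act_j R)
  simpa [comp_lift_assoc, Hom.mul_def] using this

open Groth.Agent.Lib.Helper20MagnetSTD in
theorem isSTD_j_whiskerRight (T : Over (Spec (CommRingCat.of R))) :
    IsSchemeTheoreticallyDominant (jj R ▷ T).left := by
  let eG := Scheme.ΓSpecIso (CommRingCat.of (ThetaS.Lau R))
  let eL := Scheme.ΓSpecIso (CommRingCat.of R[X])
  let eR := Scheme.ΓSpecIso (CommRingCat.of R)
  let ρ : Γ(Spec (CommRingCat.of (ThetaS.Lau R)), ⊤) →+ Γ(Spec (CommRingCat.of R[X]), ⊤) :=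
    (eL.inv.hom : _ →+* _).toAddMonoidHom.comp
      ((trunc R).toAddMonoidHom.comp (eG.hom.hom : _ →+* _).toAddMonoidHom)
  have hϑ : (jj R).left ≫ (ThetaS.Line R).hom = (ThetaS.Gm R).hom := Over.w _
  have : IsAffine (ThetaS.Line R).left :=
    (inferInstance : IsAffine (Spec (CommRingCat.of R[X])))
  have : IsAffine (ThetaS.Gm R).left :=
    (inferInstance : IsAffine (Spec (CommRingCat.of (ThetaS.Lau R))))
  refine isSchemeTheoreticallyDominant_of_retraction
    (IsPullback.of_hasPullback (ThetaS.Line R).hom T.hom)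
    (IsPullback.of_hasPullback (ThetaS.Gm R).hom T.hom) (jj R).left hϑ _ ?_ ?_ ρ ?_ ?_
  · exact Over.whiskerRight_left_fst _
  · exact Over.whiskerRight_left_snd _
  · intro r x
    have hnG := Scheme.ΓSpecIso_naturality (CommRingCat.ofHom (algebraMap R (ThetaS.Lau R)))
    have hnL := Scheme.ΓSpecIso_naturality (CommRingCat.ofHom (algebraMap R R[X]))
    have h1 : eG.hom ((ThetaS.Gm R).hom.appTop r) = algebraMap R (ThetaS.Lau R) (eR.hom r) :=
      congrArg (fun k => k.hom r) hnG
    have h2 : eL.hom ((ThetaS.Line R).hom.appTop r) = algebraMap R R[X] (eR.hom r) :=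
      congrArg (fun k => k.hom r) hnL
    have hinv : ∀ y, eL.hom (eL.inv y) = y := fun y => by
      rw [← CommRingCat.comp_apply, Iso.inv_hom_id, CommRingCat.id_apply]
    have key : ∀ (a : Γ(Spec (CommRingCat.of R[X]), ⊤))
        (b x' : Γ(Spec (CommRingCat.of (ThetaS.Lau R)), ⊤)) (r' : R),
        eG.hom b = algebraMap R (ThetaS.Lau R) r' → eL.hom a = algebraMap R R[X] r' →
        eL.inv (trunc R (eG.hom (b * x'))) = a * eL.inv (trunc R (eG.hom x')) := by
      intro a b x' r' hb ha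
      apply (ConcreteCategory.bijective_of_isIso eL.hom).1
      rw [hinv]
      have e1 : eG.hom (b * x') = algebraMap R (ThetaS.Lau R) r' * eG.hom x' := by
        rw [map_mul, hb]
      have e2 : eL.hom (a * eL.inv (trunc R (eG.hom x'))) =
          algebraMap R R[X] r' * trunc R (eG.hom x') := by
        rw [map_mul, ha, hinv]
      rw [e1, e2, ← Algebra.smul_def, ← Algebra.smul_def, map_smul]
    exact key _ _ _ _ h1 h2
  · intro x
    have hnat := Scheme.ΓSpecIso_naturality
      (CommRingCat.ofHom (ThetaS.linePt (R := R) (A := ThetaS.Lau R) (ThetaS.zPow R 1)).toRingHom)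
    have h1 : eG.hom ((jj R).left.appTop x) =
        (ThetaS.linePt (R := R) (A := ThetaS.Lau R) (ThetaS.zPow R 1)) (eL.hom x) := by
      have := congrArg (fun k => k.hom x) hnat
      exact this
    show eL.inv (trunc R (eG.hom ((jj R).left.appTop x))) = x
    rw [h1]
    erw [trunc_aeval]
    rw [← CommRingCat.comp_apply, Iso.hom_inv_id, CommRingCat.id_apply]

section sw

variable {C : Type*} [Category C] [CartesianMonoidalCategory C]

/-- `A ⊗ (B ⊗ C) ⟶ B ⊗ (A ⊗ C)`. -/
def sw (A B D : C) : A ⊗ (B ⊗ D) ⟶ B ⊗ (A ⊗ D) :=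
  lift (snd _ _ ≫ fst _ _) (lift (fst _ _) (snd _ _ ≫ snd _ _))

theorem sw_sw (A B D : C) : sw A B D ≫ sw B A D = 𝟙 _ := by
  apply CartesianMonoidalCategory.hom_ext
  · simp [sw]
  · apply CartesianMonoidalCategory.hom_ext <;> simp [sw]

theorem whisker_sw {A B B' D : C} (f : B ⟶ B') :
    (A ◁ (f ▷ D)) ≫ sw A B' D = sw A B D ≫ (f ▷ (A ⊗ D)) := by
  apply CartesianMonoidalCategory.hom_ext
  · simp [sw]
  · apply CartesianMonoidalCategory.hom_ext <;> simp [sw]

theorem whisker_eq {A B B' D : C} (f : B ⟶ B') :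
    A ◁ (f ▷ D) = sw A B D ≫ (f ▷ (A ⊗ D)) ≫ sw B' A D := by
  rw [← Category.assoc, ← whisker_sw, Category.assoc, sw_sw, Category.comp_id]

end sw

theorem isSTD_whiskerLeft_j_whiskerRight (A T : Over (Spec (CommRingCat.of R))) :
    IsSchemeTheoreticallyDominant (A ◁ (jj R ▷ T)).left := by
  rw [whisker_eq, Over.comp_left, Over.comp_left]
  have h1 : IsIso (sw A (ThetaS.Gm R) T) := ⟨sw _ _ _, sw_sw _ _ _, sw_sw _ _ _⟩
  have h2 : IsIso (sw (ThetaS.Line R) A T) := ⟨sw _ _ _, sw_sw _ _ _, sw_sw _ _ _⟩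
  have h1' : IsIso (sw A (ThetaS.Gm R) T).left :=
    (Over.forget _).map_isIso (sw A (ThetaS.Gm R) T)
  have h2' : IsIso (sw (ThetaS.Line R) A T).left :=
    (Over.forget _).map_isIso (sw (ThetaS.Line R) A T)
  have h3 := isSTD_j_whiskerRight R (A ⊗ T)
  infer_instance

open Groth.Agent.Lib.Helper20MagnetSTD in

open CategoryTheory MonoidalCategory CartesianMonoidalCategory MonObj GrpObj AlgebraicGeometry in
/-- The case n = 1 for a scheme X separated over an affine base Spec R, stated as the two facts that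
identify equivariant families with maps whose orbit map extends. Let G_m act on X (a left action a :
G_m × X → X over Spec R) and on A¹ × T through the scaling action on A¹, for an R-scheme T; write j
: G_m → A¹ for the inclusion t ↦ t. (a) If u, v : A¹ × T → X are G_m-equivariant R-morphisms with
the same restriction to the section {1} × T, then u = v. (b) If x : T → X is an R-morphism and u :
A¹ × T → X is an R-morphism whose restriction along j × T is the orbit family (g, t) ↦ g · x(t),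
then u is G_m-equivariant. (The source works with an algebraic space X quasi-separated and locally
of finite presentation over a base B with an action of G_mⁿ and deduces that X⁺ → X is a locally
finitely presented unramified monomorphism; only the elementary identification for n = 1 is stated
here, which uses separatedness alone.) -/
theorem result
    (R : Type u) [CommRing R] (X : Over (Spec (CommRingCat.of R))) [IsSeparated X.hom]
    (a : AlgGrp.Action (ThetaS.Gm R) X) (T : Over (Spec (CommRingCat.of R))) :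
    (∀ u v : ThetaS.Line R ⊗ T ⟶ X,
        (α_ (ThetaS.Gm R) (ThetaS.Line R) T).inv ≫ ((ThetaS.lineAction R).act ▷ T) ≫ u = (ThetaS.Gm R ◁ u) ≫ a.act →
        (α_ (ThetaS.Gm R) (ThetaS.Line R) T).inv ≫ ((ThetaS.lineAction R).act ▷ T) ≫ v = (ThetaS.Gm R ◁ v) ≫ a.act →
        lift ((1 : T ⟶ ThetaS.Gm R) ≫ (CoactBr.pt (ThetaS.linePt (ThetaS.zPow R 1)) : ThetaS.Gm R ⟶ ThetaS.Line R)) (𝟙 T) ≫ u =
          lift ((1 : T ⟶ ThetaS.Gm R) ≫ (CoactBr.pt (ThetaS.linePt (ThetaS.zPow R 1)) : ThetaS.Gm R ⟶ ThetaS.Line R)) (𝟙 T) ≫ v →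
        u = v) ∧
    (∀ (x : T ⟶ X) (u : ThetaS.Line R ⊗ T ⟶ X),
        ((CoactBr.pt (ThetaS.linePt (ThetaS.zPow R 1)) : ThetaS.Gm R ⟶ ThetaS.Line R) ▷ T) ≫ u = (ThetaS.Gm R ◁ x) ≫ a.act →
        (α_ (ThetaS.Gm R) (ThetaS.Line R) T).inv ≫ ((ThetaS.lineAction R).act ▷ T) ≫ u =
          (ThetaS.Gm R ◁ u) ≫ a.act) := by
  -- restriction of an equivariant family to `G_m × T`
  have restr : ∀ u : ThetaS.Line R ⊗ T ⟶ X,
      (α_ (ThetaS.Gm R) (ThetaS.Line R) T).inv ≫ ((ThetaS.lineAction R).act ▷ T) ≫ u =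
        (ThetaS.Gm R ◁ u) ≫ a.act →
      (jj R ▷ T) ≫ u = lift (fst _ _)
        (snd _ _ ≫ lift ((1 : T ⟶ ThetaS.Gm R) ≫ jj R) (𝟙 T) ≫ u) ≫ a.act := by
    intro u hu
    apply Magnet.hom_ext_lift₂
    intro T' g t
    have h := congrArg (fun m => lift g (lift ((1 : T' ⟶ ThetaS.Gm R) ≫ jj R) t) ≫ m) hu
    simp only [lift_lift_associator_inv_assoc, lift_whiskerRight_assoc, lift_whiskerLeft_assoc] at h
    rw [lift_act_j, _root_.mul_one] at h
    rw [lift_whiskerRight_assoc, h, comp_lift_assoc, lift_fst, lift_snd_assoc, comp_lift_assoc,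
      Category.comp_id, ← Category.assoc t, MonObj.comp_one]
  refine ⟨?_, ?_⟩
  · intro u v hu hv huv
    have hSTD := isSTD_j_whiskerRight R T
    apply over_ext_of_isSchemeTheoreticallyDominant (jj R ▷ T)
    rw [restr u hu, restr v hv]
    have huv' : lift ((1 : T ⟶ ThetaS.Gm R) ≫ jj R) (𝟙 T) ≫ u =
        lift ((1 : T ⟶ ThetaS.Gm R) ≫ jj R) (𝟙 T) ≫ v := huv
    rw [huv']
  · intro x u hxu
    have hxu' : (jj R ▷ T) ≫ u = (ThetaS.Gm R ◁ x) ≫ a.act := hxu
    have hSTD := isSTD_whiskerLeft_j_whiskerRight R (ThetaS.Gm R) T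
    apply over_ext_of_isSchemeTheoreticallyDominant (ThetaS.Gm R ◁ (jj R ▷ T))
    apply Magnet.hom_ext_lift₂
    intro T' g w
    obtain ⟨h, t, rfl⟩ : ∃ h t, w = lift h t :=
      ⟨w ≫ fst _ _, w ≫ snd _ _, (lift_comp_fst_snd w).symm⟩
    simp only [lift_whiskerLeft_assoc, lift_whiskerRight_assoc, lift_lift_associator_inv_assoc,
      lift_whiskerRight]
    rw [lift_act_j]
    have e1 : lift ((g * h) ≫ jj R) t ≫ u = lift (g * h) (t ≫ x) ≫ a.act := by
      have := congrArg (fun m => lift (g * h) t ≫ m) hxu'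
      simpa [lift_whiskerRight_assoc, lift_whiskerLeft_assoc] using this
    have e2 : lift (h ≫ jj R) t ≫ u = lift h (t ≫ x) ≫ a.act := by
      have := congrArg (fun m => lift h t ≫ m) hxu'
      simpa [lift_whiskerRight_assoc, lift_whiskerLeft_assoc] using this
    rw [e1, e2]
    exact (Magnet.MonAct.ofAction a).lift_mul_act g h (t ≫ x)

end Groth.Agent.S19039
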