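import Groth.Statements.S19041
import Mathlib.Tactic
-- import your own Groth.Agent.* helpers here

set_option autoImplicit false
universe u
open Dieu

namespace Groth.Agent.S19041

section Aux

open W4c6eohyperellchar2

variable (c : ℕ) (k : Type u) [Field k] [CharP k 2] [PerfectRing k 2]

theorem coefX_X (j n : ℕ) (hj : 1 ≤ j) (hjc : j ≤ c) :
    coefX (X c k j) n = if n = j then 1 else 0 := by
  unfold coefX X
  by_cases h : 1 ≤ n ∧ n ≤ c
  · rw [dif_pos h]
    simp only
    have : n - 1 + 1 = n := by omega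
    rw [this]
  · rw [dif_neg h]
    have : n ≠ j := by omega
    rw [if_neg this]

theorem coefY_X (j n : ℕ) : coefY (X c k j) n = 0 := by
  unfold coefY X
  split_ifs <;> rfl

theorem coefX_Y (j n : ℕ) : coefX (Y c k j) n = 0 := by
  unfold coefX Y
  split_ifs <;> rfl

theorem coefY_Y (j n : ℕ) (hj : 1 ≤ j) (hjc : j ≤ c) :
    coefY (Y c k j) n = if n = j then 1 else 0 := by
  unfold coefY Y
  by_cases h : 1 ≤ n ∧ n ≤ c
  · rw [dif_pos h]
    simp only
    have : n - 1 + 1 = n := by omega
    rw [this]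
  · rw [dif_neg h]
    have : n ≠ j := by omega
    rw [if_neg this]

theorem F_X_even (j : ℕ) (hj : 1 ≤ j) (hjc : 2 * j ≤ c) : F c k (X c k (2 * j)) = X c k j := by
  unfold F
  refine Prod.ext (funext fun i => ?_) (funext fun i => ?_)
  · simp only
    rw [coefX_X c k (2 * j) _ (by omega) hjc]
    change _ = if i.val + 1 = j then (1 : k) else 0
    by_cases h : i.val + 1 = j
    · rw [if_pos (by omega), if_pos h, one_pow]
    · rw [if_neg (by omega), if_neg h, zero_pow two_ne_zero]
  · simp only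
    rw [coefX_X c k (2 * j) _ (by omega) hjc, if_neg (by omega), zero_pow two_ne_zero]
    rfl

theorem F_X_odd (l : ℕ) (hl : Odd l) (hlc : l ≤ c) :
    F c k (X c k l) = Y c k (c - (l - 1) / 2) := by
  obtain ⟨t, rfl⟩ := hl
  unfold F
  refine Prod.ext (funext fun i => ?_) (funext fun i => ?_)
  · simp only
    rw [coefX_X c k (2 * t + 1) _ (by omega) hlc, if_neg (by omega), zero_pow two_ne_zero]
    rfl
  · simp only
    rw [coefX_X c k (2 * t + 1) _ (by omega) hlc]
    change _ = if i.val + 1 = c - (2 * t + 1 - 1) / 2 then (1 : k) else 0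
    have hi := i.isLt
    by_cases h : i.val + 1 = c - (2 * t + 1 - 1) / 2
    · rw [if_pos (by omega), if_pos h, one_pow]
    · rw [if_neg (by omega), if_neg h, zero_pow two_ne_zero]

theorem V_X (j : ℕ) (hjc : j ≤ c) (hcj : c < 2 * j) :
    V c k (X c k j) = Y c k (2 * c - 2 * j + 1) := by
  unfold V
  refine Prod.ext rfl (funext fun i => ?_)
  simp only
  change _ = if i.val + 1 = 2 * c - 2 * j + 1 then (1 : k) else 0
  have hi := i.isLt
  by_cases hpar : (i.val + 1) % 2 = 0
  · rw [if_pos hpar, coefY_X, map_zero, if_neg (by omega)]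
  · rw [if_neg hpar, coefX_X c k j _ (by omega) hjc]
    by_cases h : i.val + 1 = 2 * c - 2 * j + 1
    · rw [if_pos (by omega), if_pos h, map_one]
    · rw [if_neg (by omega), if_neg h, map_zero]

theorem V_Y (m : ℕ) (hm : 1 ≤ m) (hmc : 2 * m ≤ c) : V c k (Y c k m) = Y c k (2 * m) := by
  unfold V
  refine Prod.ext rfl (funext fun i => ?_)
  simp only
  change _ = if i.val + 1 = 2 * m then (1 : k) else 0
  have hi := i.isLt
  by_cases hpar : (i.val + 1) % 2 = 0
  · rw [if_pos hpar, coefY_Y c k m _ hm (by omega)]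
    by_cases h : i.val + 1 = 2 * m
    · rw [if_pos (by omega), if_pos h, map_one]
    · rw [if_neg (by omega), if_neg h, map_zero]
  · rw [if_neg hpar, coefX_Y, map_zero, if_neg (by omega)]

theorem F_iterate_X (e l : ℕ) (hl : 1 ≤ l) (hlc : 2 ^ e * l ≤ c) :
    (F c k)^[e] (X c k (2 ^ e * l)) = X c k l := by
  induction e with
  | zero => simp
  | succ e ih =>
    rw [Function.iterate_succ_apply]
    have h1 : 2 ^ (e + 1) * l = 2 * (2 ^ e * l) := by ring
    have h2 : 1 ≤ 2 ^ e * l := Nat.mul_pos (Nat.pow_pos (by norm_num)) hl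
    rw [h1, F_X_even c k _ h2 (by omega)]
    exact ih (by omega)

theorem V_iterate_Y (n m : ℕ) (hm : 1 ≤ m) (hmc : 2 ^ n * m ≤ c) :
    (V c k)^[n] (Y c k m) = Y c k (2 ^ n * m) := by
  induction n with
  | zero => simp
  | succ n ih =>
    have h1 : 2 ^ (n + 1) * m = 2 * (2 ^ n * m) := by ring
    have h2 : 1 ≤ 2 ^ n * m := Nat.mul_pos (Nat.pow_pos (by norm_num)) hm
    rw [Function.iterate_succ_apply', ih (by omega), h1, V_Y c k _ h2 (by omega)]

end Aux

/-- Let `k` be a perfect field of characteristic `2` and `c` a natural number, and consider the explicit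
`2c`-dimensional `k`-space on `X_1, …, X_c, Y_1, …, Y_c` with its operators `F` and `V` (`F Y_j =
0`; `F X_j = X_{j/2}` for `j` even and `Y_{c-(j-1)/2}` for `j` odd; `V Y_j = Y_{2j}` when `2j ≤ c`,
else `0`; `V X_j = Y_{2c-2j+1}` when `2j > c`, else `0`). For `j = 2^e l` with `l` odd and `c < 2j ≤
2c`, and for `j'` with `c < 2j' ≤ 2c` and `n` with `2^n (2c - 2j' + 1) = c - (l-1)/2`, one has
`F^{e+1} X_j + V^{n+1} X_{j'} = 0`. (Stated over any perfect field of characteristic `2`; the source
works over an algebraically closed one.) -/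
theorem result (c : ℕ) (k : Type u) [Field k] [CharP k 2] [PerfectRing k 2]
    (j e l : ℕ) (hj : j = 2 ^ e * l) (hl : Odd l) (hjc : j ≤ c) (hcj : c < 2 * j)
    (j' n : ℕ) (hj'c : j' ≤ c) (hcj' : c < 2 * j') (hn : 2 ^ n * (2 * c - 2 * j' + 1) = c - (l - 1) / 2) :
    (W4c6eohyperellchar2.F c k)^[e + 1] (W4c6eohyperellchar2.X c k j) + (W4c6eohyperellchar2.V c k)^[n + 1] (W4c6eohyperellchar2.X c k j') = 0 := by
  have hl1 : 1 ≤ l := hl.pos
  have hlc : l ≤ c := by
    have : l ≤ 2 ^ e * l := Nat.le_mul_of_pos_left l (Nat.pow_pos (by norm_num))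
    omega
  have hF : (W4c6eohyperellchar2.F c k)^[e + 1] (W4c6eohyperellchar2.X c k j) =
      W4c6eohyperellchar2.Y c k (c - (l - 1) / 2) := by
    rw [Function.iterate_succ_apply', hj, F_iterate_X c k e l hl1 (by omega), F_X_odd c k l hl hlc]
  have hV : (W4c6eohyperellchar2.V c k)^[n + 1] (W4c6eohyperellchar2.X c k j') =
      W4c6eohyperellchar2.Y c k (c - (l - 1) / 2) := by
    rw [Function.iterate_succ_apply, V_X c k j' hj'c hcj',
      V_iterate_Y c k n _ (by omega) (by omega), hn]
  rw [hF, hV, ← two_smul k, CharTwo.two_eq_zero, zero_smul]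

end Groth.Agent.S19041
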