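import Groth.Statements.S19042
import Mathlib.Tactic
import Groth.Agent.S19041
-- import your own Groth.Agent.* helpers here

set_option autoImplicit false
universe u
open Dieu

namespace Groth.Agent.S19042

/-- Let `k` be a perfect field of characteristic `2` and `c` a natural number, and consider the explicit
`2c`-dimensional `k`-space on `X_1, …, X_c, Y_1, …, Y_c` with its operators `F` and `V` (`F Y_j =
0`; `F X_j = X_{j/2}` for `j` even and `Y_{c-(j-1)/2}` for `j` odd; `V Y_j = Y_{2j}` when `2j ≤ c`,
else `0`; `V X_j = Y_{2c-2j+1}` when `2j > c`, else `0`). The vectors `X_j` with `c < 2j ≤ 2c`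
generate it as a module over `k[F, V]`: a `k`-subspace stable under `F` and `V` containing them is
everything. (Stated over any perfect field of characteristic `2`; the source works over an
algebraically closed one.) -/
theorem result (c : ℕ) (k : Type u) [Field k] [CharP k 2] [PerfectRing k 2]
    (N : Submodule k (W4c6eohyperellchar2.GcMod c k))
    (hF : ∀ v ∈ N, W4c6eohyperellchar2.F c k v ∈ N) (hV : ∀ v ∈ N, W4c6eohyperellchar2.V c k v ∈ N)
    (hX : ∀ j : ℕ, c < 2 * j → j ≤ c → W4c6eohyperellchar2.X c k j ∈ N) : N = ⊤ := by
  have hXall : ∀ d j : ℕ, c - j = d → 1 ≤ j → j ≤ c → W4c6eohyperellchar2.X c k j ∈ N := by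
    intro d
    induction d using Nat.strong_induction_on with
    | _ d ih =>
      intro j hd hj hjc
      by_cases h : c < 2 * j
      · exact hX j h hjc
      · rw [← S19041.F_X_even c k j hj (by omega)]
        exact hF _ (ih (c - 2 * j) (by omega) (2 * j) rfl (by omega) (by omega))
  have hYall : ∀ m : ℕ, 1 ≤ m → m ≤ c → W4c6eohyperellchar2.Y c k m ∈ N := by
    intro m
    induction m using Nat.strong_induction_on with
    | _ m ih =>
      intro hm hmc
      rcases Nat.even_or_odd' m with ⟨t, rfl | rfl⟩
      · rw [← S19041.V_Y c k t (by omega) hmc]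
        exact hV _ (ih t (by omega) (by omega) (by omega))
      · have h1 := S19041.V_X c k (c - t) (by omega) (by omega)
        have h2 : 2 * c - 2 * (c - t) + 1 = 2 * t + 1 := by omega
        rw [h2] at h1
        rw [← h1]
        exact hV _ (hXall _ _ rfl (by omega) (by omega))
  rw [eq_top_iff]
  intro v _
  have hv : v = ∑ i : Fin c, (v.1 i • W4c6eohyperellchar2.X c k (i.val + 1) +
      v.2 i • W4c6eohyperellchar2.Y c k (i.val + 1)) := by
    refine Prod.ext (funext fun i' => ?_) (funext fun i' => ?_)
    · rw [Prod.fst_sum, Finset.sum_apply]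
      simp only [W4c6eohyperellchar2.X, W4c6eohyperellchar2.Y, Prod.fst_add, Prod.smul_fst,
        Pi.add_apply, Pi.smul_apply, smul_eq_mul, Pi.zero_apply, mul_zero, add_zero,
        mul_ite, mul_one]
      rw [Finset.sum_eq_single i']
      · rw [if_pos rfl]
      · intro b _ hb
        rw [if_neg]
        intro h
        exact hb (Fin.ext (by omega)).symm
      · intro h; exact absurd (Finset.mem_univ _) h
    · rw [Prod.snd_sum, Finset.sum_apply]
      simp only [W4c6eohyperellchar2.X, W4c6eohyperellchar2.Y, Prod.snd_add, Prod.smul_snd,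
        Pi.add_apply, Pi.smul_apply, smul_eq_mul, Pi.zero_apply, mul_zero, zero_add,
        mul_ite, mul_one]
      rw [Finset.sum_eq_single i']
      · rw [if_pos rfl]
      · intro b _ hb
        rw [if_neg]
        intro h
        exact hb (Fin.ext (by omega)).symm
      · intro h; exact absurd (Finset.mem_univ _) h
  rw [hv]
  refine Submodule.sum_mem _ fun i _ => Submodule.add_mem _ (Submodule.smul_mem _ _ ?_)
    (Submodule.smul_mem _ _ ?_)
  · exact hXall _ _ rfl (by omega) (by have := i.isLt; omega)
  · exact hYall _ (by omega) (by have := i.isLt; omega)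

end Groth.Agent.S19042
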