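import Groth.Statements.S19043
import Mathlib.Tactic
import Groth.Agent.S19041
-- import your own Groth.Agent.* helpers here

set_option autoImplicit false
universe u
open Dieu

namespace Groth.Agent.S19043

section Aux

open W4c6eohyperellchar2

variable (c : ℕ) (k : Type u) [Field k] [CharP k 2] [PerfectRing k 2]

/-- The subspace of vectors whose `X_j`-coordinates vanish for `c < 2j`. -/
def T : Submodule k (GcMod c k) where
  carrier := {v | ∀ i : Fin c, c < 2 * (i.val + 1) → v.1 i = 0}
  zero_mem' := fun _ _ => rfl
  add_mem' := by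
    intro v w hv hw i hi
    change v.1 i + w.1 i = 0
    rw [hv i hi, hw i hi, add_zero]
  smul_mem' := by
    intro r v hv i hi
    change r * v.1 i = 0
    rw [hv i hi, mul_zero]

theorem mem_T (v : GcMod c k) : v ∈ T c k ↔ ∀ i : Fin c, c < 2 * (i.val + 1) → v.1 i = 0 := Iff.rfl

theorem span_eq_T :
    Submodule.span k (Set.range (F c k) ∪ Set.range (V c k)) = T c k := by
  apply le_antisymm
  · rw [Submodule.span_le]
    rintro _ (⟨v, rfl⟩ | ⟨v, rfl⟩)
    · intro i hi
      change coefX v (2 * (i.val + 1)) ^ 2 = 0
      unfold coefX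
      rw [dif_neg (by omega), zero_pow two_ne_zero]
    · intro i _
      rfl
  · intro v hv
    have hXmem : ∀ j : ℕ, 1 ≤ j → 2 * j ≤ c →
        X c k j ∈ Submodule.span k (Set.range (F c k) ∪ Set.range (V c k)) := by
      intro j hj hjc
      rw [← S19041.F_X_even c k j hj hjc]
      exact Submodule.subset_span (Or.inl ⟨_, rfl⟩)
    have hYmem : ∀ m : ℕ, 1 ≤ m → m ≤ c →
        Y c k m ∈ Submodule.span k (Set.range (F c k) ∪ Set.range (V c k)) := by
      intro m hm hmc
      rcases Nat.even_or_odd' m with ⟨t, rfl | rfl⟩
      · rw [← S19041.V_Y c k t (by omega) hmc]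
        exact Submodule.subset_span (Or.inr ⟨_, rfl⟩)
      · have h1 := S19041.V_X c k (c - t) (by omega) (by omega)
        have h2 : 2 * c - 2 * (c - t) + 1 = 2 * t + 1 := by omega
        rw [h2] at h1
        rw [← h1]
        exact Submodule.subset_span (Or.inr ⟨_, rfl⟩)
    have hvsum : v = ∑ i : Fin c, (v.1 i • X c k (i.val + 1) + v.2 i • Y c k (i.val + 1)) := by
      refine Prod.ext (funext fun i' => ?_) (funext fun i' => ?_)
      · rw [Prod.fst_sum, Finset.sum_apply]
        simp only [X, Y, Prod.fst_add, Prod.smul_fst,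
          Pi.add_apply, Pi.smul_apply, smul_eq_mul, Pi.zero_apply, mul_zero, add_zero,
          mul_ite, mul_one]
        rw [Finset.sum_eq_single i']
        · rw [if_pos rfl]
        · intro b _ hb
          rw [if_neg]
          intro h
          exact hb (Fin.ext (by omega)).symm
        · intro h; exact absurd (Finset.mem_univ _) h
      · rw [Prod.snd_sum, Finset.sum_apply]
        simp only [X, Y, Prod.snd_add, Prod.smul_snd,
          Pi.add_apply, Pi.smul_apply, smul_eq_mul, Pi.zero_apply, mul_zero, zero_add,
          mul_ite, mul_one]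
        rw [Finset.sum_eq_single i']
        · rw [if_pos rfl]
        · intro b _ hb
          rw [if_neg]
          intro h
          exact hb (Fin.ext (by omega)).symm
        · intro h; exact absurd (Finset.mem_univ _) h
    rw [hvsum]
    refine Submodule.sum_mem _ fun i _ => Submodule.add_mem _ ?_ (Submodule.smul_mem _ _ ?_)
    · by_cases hi : c < 2 * (i.val + 1)
      · rw [hv i hi, zero_smul]
        exact Submodule.zero_mem _
      · exact Submodule.smul_mem _ _ (hXmem _ (by omega) (by omega))
    · exact hYmem _ (by omega) (by have := i.isLt; omega)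

end Aux

/-- Let `k` be a perfect field of characteristic `2` and `c` a natural number, and let `M` be the
explicit `2c`-dimensional `k`-space on `X_1, …, X_c, Y_1, …, Y_c` with its operators `F` and `V` (`F
Y_j = 0`; `F X_j = X_{j/2}` for `j` even and `Y_{c-(j-1)/2}` for `j` odd; `V Y_j = Y_{2j}` when `2j
≤ c`, else `0`; `V X_j = Y_{2c-2j+1}` when `2j > c`, else `0`). The classes of the `X_j` with `c <
2j ≤ 2c` in the quotient of `M` by the `k`-span of `F(M) ∪ V(M)` are linearly independent and span
that quotient. (Stated over any perfect field of characteristic `2`; the source works over an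
algebraically closed one.) -/
theorem result (c : ℕ) (k : Type u) [Field k] [CharP k 2] [PerfectRing k 2] :
    LinearIndependent k (fun j : {j : ℕ // c < 2 * j ∧ j ≤ c} =>
        Submodule.mkQ (Submodule.span k (Set.range (W4c6eohyperellchar2.F c k) ∪ Set.range (W4c6eohyperellchar2.V c k))) (W4c6eohyperellchar2.X c k j.1)) ∧
      Submodule.span k (Set.range (fun j : {j : ℕ // c < 2 * j ∧ j ≤ c} =>
        Submodule.mkQ (Submodule.span k (Set.range (W4c6eohyperellchar2.F c k) ∪ Set.range (W4c6eohyperellchar2.V c k))) (W4c6eohyperellchar2.X c k j.1))) = ⊤ := by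
  rw [span_eq_T]
  constructor
  · rw [linearIndependent_iff]
    intro l hl
    rw [Finsupp.linearCombination_apply, Finsupp.sum] at hl
    simp only [← map_smul, ← map_sum] at hl
    rw [Submodule.mkQ_apply, Submodule.Quotient.mk_eq_zero, mem_T] at hl
    ext ⟨j0, hj0⟩
    have hj0' : j0 - 1 < c := by omega
    have := hl ⟨j0 - 1, hj0'⟩ (by simp only; omega)
    rw [Prod.fst_sum, Finset.sum_apply] at this
    simp only [W4c6eohyperellchar2.X, Prod.smul_fst, Pi.smul_apply, smul_eq_mul, mul_ite,
      mul_one, mul_zero] at this
    rw [Finsupp.zero_apply]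
    by_cases hmem : (⟨j0, hj0⟩ : {j : ℕ // c < 2 * j ∧ j ≤ c}) ∈ l.support
    · rw [Finset.sum_eq_single (⟨j0, hj0⟩ : {j : ℕ // c < 2 * j ∧ j ≤ c})] at this
      · rw [if_pos (by simp only; omega)] at this
        exact this
      · intro b _ hb
        rw [if_neg]
        intro h
        apply hb
        apply Subtype.ext
        simp only at h ⊢
        omega
      · intro h; exact absurd hmem h
    · exact Finsupp.notMem_support_iff.mp hmem
  · rw [eq_top_iff]
    rintro y -
    obtain ⟨v, rfl⟩ := Submodule.mkQ_surjective _ y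
    classical
    let s0 : Finset (Fin c) := (Finset.univ : Finset (Fin c)).filter (fun i => c < 2 * (i.val + 1))
    let s : Finset {j : ℕ // c < 2 * j ∧ j ≤ c} :=
      s0.attach.image
        (fun i => ⟨i.1.val + 1,
          (Finset.mem_filter (p := fun i : Fin c => c < 2 * (i.val + 1)).mp i.2).2,
          by have := i.1.isLt; omega⟩)
    have hrepr : Submodule.mkQ (T c k) v = ∑ j ∈ s, v.1 ⟨j.1 - 1, by have := j.2; omega⟩ •
        Submodule.mkQ (T c k) (W4c6eohyperellchar2.X c k j.1) := by
      simp only [← map_smul, ← map_sum]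
      rw [Submodule.mkQ_apply, Submodule.mkQ_apply, Submodule.Quotient.eq, mem_T]
      intro i hi
      change v.1 i - _ = 0
      rw [Prod.fst_sum, Finset.sum_apply]
      simp only [W4c6eohyperellchar2.X, Prod.smul_fst, Pi.smul_apply, smul_eq_mul, mul_ite,
        mul_one, mul_zero]
      have hmem : (⟨i.val + 1, hi, by have := i.isLt; omega⟩ : {j : ℕ // c < 2 * j ∧ j ≤ c}) ∈ s := by
        simp only [s, s0, Finset.mem_image, Finset.mem_attach, true_and, Subtype.exists,
          Finset.mem_filter, Finset.mem_univ]
        exact ⟨i, hi, rfl⟩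
      rw [Finset.sum_eq_single (⟨i.val + 1, hi, by have := i.isLt; omega⟩ :
        {j : ℕ // c < 2 * j ∧ j ≤ c})]
      · rw [if_pos rfl]
        simp
      · intro b _ hb
        rw [if_neg]
        intro h
        apply hb
        apply Subtype.ext
        simp only
        omega
      · intro h; exact absurd hmem h
    rw [hrepr]
    exact Submodule.sum_mem _ fun j _ => Submodule.smul_mem _ _
      (Submodule.subset_span ⟨j, rfl⟩)

end Groth.Agent.S19043
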