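import Groth.Statements.S19045
import Groth.Agent.Lib.LeadAS2
open FunFld WithZero Groth.Agent.Lib.LeadFF Groth.Agent.Lib.LeadAS Groth.Agent.Lib

set_option autoImplicit false
universe u v
open FunFld

namespace Groth.Agent.S19045

/-- Let `k` be algebraically closed of characteristic `2` and `K = k(x, y)` with `y² + y = f(x)`, `K`
separable of degree `2` over `k(x)`; let `B ⊆ k` be a finite set containing `0` such that `f` has a
pole of odd order `d_β` at `x = β` for every `β ∈ B` and is integral at all other places of `k(x)`.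
Then `y` is integral at the places of `K` above `x = ∞` and has order `0` at one of them, and for `α
∈ B` and `j ∈ ℤ` the divisor of poles of `y (x - α)^j` consists of: order `max(d_α - 2j, 0)` at the
place above `α`, order exactly `d_β` above every other `β ∈ B`, order `max(j - ord_P y, 0)` at each
place `P` above `∞`, and nothing elsewhere. -/
theorem result (k : Type u) (K : Type v)
    [Field k] [IsAlgClosed k] [CharP k 2] [Field K] [Algebra k K] [Algebra (RatFunc k) K] [IsScalarTower k (RatFunc k) K]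
    (hK : FunFld.IsFunctionField k K) (hdeg : Module.finrank (RatFunc k) K = 2) [Algebra.IsSeparable (RatFunc k) K]
    (y : K) (hy : y ∉ Set.range (algebraMap (RatFunc k) K)) (f : RatFunc k)
    (heq : y ^ 2 + y = algebraMap (RatFunc k) K f)
    (B : Finset k) (h0 : (0 : k) ∈ B) (d : k → ℕ) (hd : ∀ β ∈ B, Odd (d β))
    (hpole : ∀ (p : FunFld.Place k (RatFunc k)) (β : k), β ∈ B →
      p.1 ((RatFunc.X : RatFunc k) - RatFunc.C β) < 1 → p.ord f = -(d β : ℤ))
    (hint : ∀ p : FunFld.Place k (RatFunc k), (∀ β ∈ B, 1 ≤ p.1 ((RatFunc.X : RatFunc k) - RatFunc.C β)) → p.1 f ≤ 1) :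
    (∀ P : FunFld.Place k K, 1 < P.1 (algebraMap (RatFunc k) K RatFunc.X) → 0 ≤ P.ord y) ∧
    (∃ P : FunFld.Place k K, 1 < P.1 (algebraMap (RatFunc k) K RatFunc.X) ∧ P.ord y = 0) ∧
    ∀ (α : k), α ∈ B → ∀ (j : ℤ) (P : FunFld.Place k K),
      (P.1 ((algebraMap (RatFunc k) K RatFunc.X) - (algebraMap k K α)) < 1 →
        max (-(P.ord (y * ((algebraMap (RatFunc k) K RatFunc.X) - (algebraMap k K α)) ^ j))) 0 = max ((d α : ℤ) - 2 * j) 0) ∧
      (∀ β : k, β ∈ B → β ≠ α → P.1 ((algebraMap (RatFunc k) K RatFunc.X) - (algebraMap k K β)) < 1 →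
        P.ord (y * ((algebraMap (RatFunc k) K RatFunc.X) - (algebraMap k K α)) ^ j) = -(d β : ℤ)) ∧
      (1 < P.1 (algebraMap (RatFunc k) K RatFunc.X) → max (-(P.ord (y * ((algebraMap (RatFunc k) K RatFunc.X) - (algebraMap k K α)) ^ j))) 0 = max (j - P.ord y) 0) ∧
      (P.1 (algebraMap (RatFunc k) K RatFunc.X) ≤ 1 → (∀ β : k, β ∈ B → 1 ≤ P.1 ((algebraMap (RatFunc k) K RatFunc.X) - (algebraMap k K β))) → 0 ≤ P.ord (y * ((algebraMap (RatFunc k) K RatFunc.X) - (algebraMap k K α)) ^ j)) := by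
  classical
  set x := algebraMap (RatFunc k) K RatFunc.X with hx
  have hy0 : y ≠ 0 := fun h => hy ⟨0, by rw [map_zero, h]⟩
  have hA : ∀ {α : k}, α ∈ B → ∀ P : FunFld.Place k K, P.1 (x - algebraMap k K α) < 1 →
      P.1 y = exp (d α : ℤ) ∧ P.1 (x - algebraMap k K α) = exp (-2 : ℤ) ∧
      ∀ β : k, β ≠ α → P.1 (x - algebraMap k K β) = 1 :=
    fun {α} hα P h => local_at_pole hdeg hy heq hd hpole (α := α) hα P h
  have hI : ∀ P : FunFld.Place k K, 1 < P.1 x → P.1 y ≤ 1 ∧
      ∀ β : k, P.1 (x - algebraMap k K β) = exp (1 : ℤ) :=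
    fun P h => local_at_infty hdeg hy heq hint P h
  have hE : ∀ P : FunFld.Place k K, P.1 x ≤ 1 → (∀ β ∈ B, 1 ≤ P.1 (x - algebraMap k K β)) →
      P.1 y ≤ 1 ∧ ∀ β ∈ B, P.1 (x - algebraMap k K β) = 1 :=
    fun P h hB => local_elsewhere hdeg heq hint P h hB
  refine ⟨fun P hP => ord_nonneg_of_val_le_one P (hI P hP).1, ?_, ?_⟩
  · have hxt : Transcendental k x := by
      haveI : FiniteDimensional (RatFunc k) K :=
        Module.finite_of_finrank_pos (by rw [hdeg]; norm_num)
      exact transcendental_algebraMap (RatFunc.transcendental_X (K := k))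
    obtain ⟨P, hP⟩ := Groth.Agent.Lib.LeadHY.exists_pole hK hxt
    by_cases h0 : P.ord y = 0
    · exact ⟨P, hP, h0⟩
    · have hlt : P.1 y < 1 := by
        refine lt_of_le_of_ne (hI P hP).1 (fun h1 => h0 ?_)
        rw [ord_eq_of_val P (c := 0) (by rw [h1, exp_zero])]; simp
      obtain ⟨σ, hσ⟩ := exists_conj hdeg hy heq
      refine ⟨conjPlace (σ.restrictScalars k) P, ?_, ?_⟩
      · rw [conjPlace_apply]
        show 1 < P.1 (σ x)
        rw [hx, σ.commutes]; exact hP
      · have : (conjPlace (σ.restrictScalars k) P).1 y = exp (0 : ℤ) := by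
          rw [conjPlace_apply]
          show P.1 (σ y) = exp (0 : ℤ)
          rw [hσ, exp_zero,
            Valuation.map_add_eq_of_lt_right _ (by rw [map_one]; exact hlt), map_one]
        rw [ord_eq_of_val _ this]; simp
  · intro α hα j P
    refine ⟨fun h => ?_, fun β hβ hne h => ?_, fun h => ?_, fun h hB => ?_⟩
    · obtain ⟨h1, h2, -⟩ := hA hα P h
      have : P.1 (y * (x - algebraMap k K α) ^ j) = exp ((d α : ℤ) - 2 * j) := by
        rw [map_mul, map_zpow₀, h1, h2, ← exp_zsmul, ← exp_add]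
        congr 1
        simp only [smul_eq_mul]; ring
      rw [ord_eq_of_val P this, neg_neg]
    · obtain ⟨h1, -, h3⟩ := hA hβ P h
      have : P.1 (y * (x - algebraMap k K α) ^ j) = exp (d β : ℤ) := by
        rw [map_mul, map_zpow₀, h1, h3 α hne.symm, one_zpow, mul_one]
      rw [ord_eq_of_val P this]
    · obtain ⟨h1, h2⟩ := hI P h
      have : P.1 (y * (x - algebraMap k K α) ^ j) = exp (-(P.ord y) + j) := by
        rw [map_mul, map_zpow₀, LeadFG.val_eq_exp_neg_ord P hy0, h2 α, ← exp_zsmul, ← exp_add]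
        congr 1
        simp
      rw [ord_eq_of_val P this]
      congr 1; ring
    · obtain ⟨h1, h2⟩ := hE P h hB
      apply ord_nonneg_of_val_le_one
      rw [map_mul, map_zpow₀, h2 α hα, one_zpow, mul_one]; exact h1

end Groth.Agent.S19045
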