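import Groth.Statements.S19060
import Groth.Agent.Lib.Helper2CohBCI
import Groth.Agent.Lib.Helper2TopCohA
import Groth.Agent.Lib.Helper2TopCohB

set_option autoImplicit false
universe u
open CategoryTheory CategoryTheory.Limits AlgebraicGeometry Opposite
open Curves

namespace Groth.Agent.S19060

/-- Let R be a Noetherian ring and X a relative curve over Spec R (proper and smooth, with geometrically
connected fibres of dimension one, and projective: X carries an ample invertible module). Let F be a
coherent O_X-module which is flat over Spec R (every stalk is a flat module over the local ring of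
the base). If H^1(X, F) is a projective R-module, then H^0(X, F) is a projective R-module. (The
source says only that F is an O_X-module flat over the base; F is taken coherent here, as the
finiteness of its cohomology over R used there requires.) -/
theorem result (R : Type u) [CommRing R] [IsNoetherianRing R]
    (X : Scheme.{u}) [X.Over (Spec (CommRingCat.of R))] [IsProper (X ↘ Spec (CommRingCat.of R))]
    [Smooth (X ↘ Spec (CommRingCat.of R))] [GeometricallyConnected (X ↘ Spec (CommRingCat.of R))]
    (hdim : ∀ s : Spec (CommRingCat.of R), topologicalKrullDim ↥((X ↘ Spec (CommRingCat.of R)).fiber s) = 1)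
    (hproj : ∃ M : X.Modules, CohB1.IsAmple M)
    (F : X.Modules) (hF : Coh.IsCoh F) (hfl : FlatMod.IsFlatOver (X ↘ Spec (CommRingCat.of R)) F)
    (h1 : Module.Projective R (Coh.HH X F 1)) :
    Module.Projective R (Coh.HH X F 0) := by
  open Groth.Agent.Lib.Helper2.CohBCI Groth.Agent.Lib.Helper2.TopCohA
    Groth.Agent.Lib.Helper2.TopCohB in
  obtain ⟨P, hP, hpos, ⟨b, hb⟩, hH, hrk⟩ := exists_complex_affine R X F hF hfl
  have hP' : ∀ i, Module.Finite R (P.X i) ∧ Module.Flat R (P.X i) := fun i =>
    ⟨(hP i).1, by have := (hP i).2; infer_instance⟩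
  obtain ⟨e1⟩ : Nonempty (Coh.HH X F 1 ≃ₗ[R] ↑(P.homology (-1))) := by simpa using hH 1
  obtain ⟨e0⟩ : Nonempty (Coh.HH X F 0 ≃ₗ[R] ↑(P.homology 0)) := by simpa using hH 0
  haveI : Module.Projective R ↑(P.homology (-1)) := Module.Projective.of_equiv e1
  have hr : ∀ q : ℤ, q ≤ -2 → ∀ s : PrimeSpectrum R, CohIII.dRank P q s = 0 := by
    intro q hq s
    obtain ⟨p, rfl⟩ : ∃ p : ℕ, q = -(p : ℤ) := ⟨(-q).toNat, by omega⟩
    rw [← hrk p s]
    exact fiberRank_eq_zero_of_dim_lt (X ↘ Spec (CommRingCat.of R)) F s 1 (hdim s).le p (by omega)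
  haveI := projective_homology_zero P hP' hpos b hb hr inferInstance
  exact Module.Projective.of_equiv e0.symm

end Groth.Agent.S19060
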