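import Groth.Statements.S1910
import Groth.Agent.S1911
import Groth.Agent.Lib.Helper4CycLen2
import Groth.Agent.Lib.Helper4KFilt2
import Groth.Agent.Lib.Helper23PB
import Groth.Agent.Lib.Helper2FlatOver2
import Groth.Agent.Lib.Helper13AffBC
import Groth.Agent.Lib.Helper7NoEmbBC3

set_option autoImplicit false
universe u
open CategoryTheory AlgebraicGeometry
open CategoryTheory.Limits
open Cyc

namespace Groth.Agent.S1910

/-- Let W → X be a closed immersion with W flat over R and dim W_η ≤ r. Then dim W_s ≤ r and sp([W_η]_r)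
= [W_s]_r. Here R is a discrete valuation ring, a : X → Spec R is locally of finite type, X_η and
X_s are the fibres over the generic and closed points (Mathlib's Scheme.Hom.fiber) with their
dimension functions δη, δs (transcendence degree of residue fields), r-cycles on X_η are cycles
supported at points with δη = r, and sp is the specialization map Z_r(X_η) → Z_r(X_s) on coefficient
functions (Cyc.spFun). -/
theorem result (R : Type u) [CommRing R] [IsDomain R] [IsDiscreteValuationRing R] (X : Scheme.{u}) (a : X ⟶ Spec (CommRingCat.of R)) [LocallyOfFiniteType a] (δη : ↥(a.fiber (genericPoint ↥(Spec (CommRingCat.of R)))) → ℤ) (δs : ↥(a.fiber (IsLocalRing.closedPoint R)) → ℤ) (hδη : Cyc.DeltaCompat (a.fiberToSpecResidueField (genericPoint ↥(Spec (CommRingCat.of R)))) δη (fun _ => 0)) (hδs : Cyc.DeltaCompat (a.fiberToSpecResidueField (IsLocalRing.closedPoint R)) δs (fun _ => 0)) (r : ℤ) (W : Scheme.{u}) (ι : W ⟶ X) [IsClosedImmersion ι] [Flat (ι ≫ a)] (hdim : ∀ ζ : ↥(a.fiber (genericPoint ↥(Spec (CommRingCat.of R)))),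 a.fiberι (genericPoint ↥(Spec (CommRingCat.of R))) ζ ∈ Set.range ⇑ι → δη ζ ≤ r) : (∀ x : ↥(a.fiber (IsLocalRing.closedPoint R)), a.fiberι (IsLocalRing.closedPoint R) x ∈ Set.range ⇑ι → δs x ≤ r) ∧ Cyc.spFun a (genericPoint ↥(Spec (CommRingCat.of R))) (IsLocalRing.closedPoint R) δη δs r (Cyc.subschemeFun δη r (pullback.snd ι (a.fiberι (genericPoint ↥(Spec (CommRingCat.of R)))))) = Cyc.subschemeFun δs r (pullback.snd ι (a.fiberι (IsLocalRing.closedPoint R))) := by
  haveI : IsLocallyNoetherian X := LocallyOfFiniteType.isLocallyNoetherian a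
  have hcohW : Coh.IsCoh (Coh.structureModule W) :=
    Groth.Agent.Lib.Helper4.Dev.isCoh_structureModule W
  haveI : (Coh.structureModule W).IsQuasicoherent := hcohW.1
  have hF : Coh.IsCoh ((Scheme.Modules.pushforward ι).obj (Coh.structureModule W)) :=
    Groth.Agent.Lib.Helper4.Dev.isCoh_push_closed ι _ hcohW
  haveI : ((Scheme.Modules.pushforward ι).obj (Coh.structureModule W)).IsQuasicoherent := hF.1
  haveI : SheafOfModules.IsFiniteType (R := X.ringCatSheaf)
      ((Scheme.Modules.pushforward ι).obj (Coh.structureModule W)) := hF.2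
  have hflat : FlatMod.IsFlatOver a ((Scheme.Modules.pushforward ι).obj (Coh.structureModule W)) :=
    (Groth.Agent.Lib.Helper2.FlatOver.isFlatOver_pushforward_iff ι a (Coh.structureModule W)).mp
      (Groth.Agent.Lib.Helper7.NoEmbBC.isFlatOver_structureModule (ι ≫ a))
  have key : ∀ (y : ↥(Spec (CommRingCat.of R))) (δ : ↥(a.fiber y) → ℤ),
      Cyc.sheafFun δ r ((Scheme.Modules.pullback (a.fiberι y)).obj
        ((Scheme.Modules.pushforward ι).obj (Coh.structureModule W))) =
      Cyc.subschemeFun δ r (pullback.snd ι (a.fiberι y)) := by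
    intro y δ
    have hpb : IsPullback (pullback.fst ι (a.fiberι y)) (pullback.snd ι (a.fiberι y)) ι
        (a.fiberι y) := IsPullback.of_hasPullback ι (a.fiberι y)
    haveI := Groth.Agent.Helper13AffBC.isIso_bcMap ι (a.fiberι y) (pullback.fst ι (a.fiberι y))
      (pullback.snd ι (a.fiberι y)) hpb (Coh.structureModule W)
    let e1 := asIso (Groth.Agent.Helper13AffBC.bcMap ι (a.fiberι y) (pullback.fst ι (a.fiberι y))
      (pullback.snd ι (a.fiberι y)) hpb (Coh.structureModule W))
    let e2 := (Scheme.Modules.pushforward (pullback.snd ι (a.fiberι y))).mapIso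
      (Groth.Agent.Lib.Helper23.PB.pullbackUnitIso (pullback.fst ι (a.fiberι y)))
    rw [Groth.Agent.Lib.Helper4.CycLen.subschemeFun_eq_sheafFun (pullback.snd ι (a.fiberι y)) δ r]
    funext x
    unfold Cyc.sheafFun
    rw [Groth.Agent.Lib.Helper4.KFilt.length_stalk_eq_of_iso (e1 ≪≫ e2) x]
  have hsupp : ∀ (y : ↥(Spec (CommRingCat.of R))) (z : ↥(a.fiber y)),
      Nontrivial (((Scheme.Modules.pullback (a.fiberι y)).obj
        ((Scheme.Modules.pushforward ι).obj (Coh.structureModule W))).presheaf.stalk z) ↔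
      a.fiberι y z ∈ Set.range ⇑ι := by
    intro y z
    rw [Groth.Agent.Lib.Helper7.DvrLen.nontrivial_stalk_fibre_iff a _ y z]
    constructor
    · intro hnt
      exact Groth.Agent.Lib.Helper4.Dev.support_push_subset ι (Coh.structureModule W)
        (not_subsingleton_iff_nontrivial.mpr hnt)
    · rintro ⟨w, hw⟩
      rw [← hw, ← not_subsingleton_iff_nontrivial]
      intro hsub
      have h0 : Module.length (X.presheaf.stalk (ι w))
          (((Scheme.Modules.pushforward ι).obj (Coh.structureModule W)).presheaf.stalk (ι w)) = 0 :=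
        Module.length_eq_zero_iff.2 hsub
      rw [Groth.Agent.Lib.Helper4.CycLen.length_stalk_push_structure_eq ι w,
        Module.length_eq_zero_iff] at h0
      exact not_subsingleton _ h0
  obtain ⟨h1, h2⟩ := Groth.Agent.S1911.result R X a δη δs hδη hδs r
    ((Scheme.Modules.pushforward ι).obj (Coh.structureModule W)) hF hflat
    (fun ζ hζ => hdim ζ ((hsupp _ ζ).mp hζ))
  refine ⟨fun x hx => h1 x ((hsupp _ x).mpr hx), ?_⟩
  rw [← key (genericPoint ↥(Spec (CommRingCat.of R))) δη, ← key (IsLocalRing.closedPoint R) δs]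
  exact h2

end Groth.Agent.S1910
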