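import Groth.Statements.S19106
import Mathlib

set_option autoImplicit false
open HilbD

namespace Groth.Agent.S19106

/-- Let μ be a non-empty Young diagram, V the number of its cells, E the number of unordered pairs of
cells sharing a side (a cell together with the cell immediately below it, or immediately to its
right, both in μ) and Q the number of 2 × 2 blocks of cells of μ (cells c such that the cell
diagonally below-right of c is in μ, the other two corners being in μ automatically). Then V − E + Q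
− 1 = 0, stated as V + Q = E + 1 in the naturals. (The empty diagram, for which the count reads 0 −
0 + 0 − 1, is excluded.) -/
theorem result (μ : YoungDiagram) (hμ : μ ≠ ⊥) :
    μ.cells.card + (μ.cells.filter (fun c => (c.1 + 1, c.2 + 1) ∈ μ)).card =
      (μ.cells.filter (fun c => (c.1 + 1, c.2) ∈ μ)).card + (μ.cells.filter (fun c => (c.1, c.2 + 1) ∈ μ)).card + 1 := by
  classical
  have hmem : ∀ c : ℕ × ℕ, c ∈ μ.cells ↔ c ∈ μ := fun c => YoungDiagram.mem_cells c
  -- (0,0) ∈ μ
  have h00 : ((0, 0) : ℕ × ℕ) ∈ μ := by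
    have hne : μ.cells.Nonempty := by
      rw [Finset.nonempty_iff_ne_empty]
      intro h
      apply hμ
      apply YoungDiagram.ext
      rw [h, YoungDiagram.cells_bot]
    obtain ⟨c, hc⟩ := hne
    exact μ.up_left_mem (Nat.zero_le _) (Nat.zero_le _) ((hmem c).mp hc)
  -- shift bijections
  have hEv : (μ.cells.filter (fun c => (c.1 + 1, c.2) ∈ μ)).card =
      (μ.cells.filter (fun c => 1 ≤ c.1)).card := by
    apply Finset.card_bij (fun c _ => ((c.1 + 1, c.2) : ℕ × ℕ))
    · intro c hc
      rw [Finset.mem_filter] at hc ⊢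
      exact ⟨(hmem _).mpr hc.2, Nat.le_add_left _ _⟩
    · intro c _ c' _ h
      have h1 := (Prod.mk.inj h).1
      have h2 := (Prod.mk.inj h).2
      exact Prod.ext (by omega) h2
    · intro c hc
      rw [Finset.mem_filter] at hc
      obtain ⟨hc1, hc2⟩ := hc
      refine ⟨(c.1 - 1, c.2), ?_, ?_⟩
      · rw [Finset.mem_filter]
        have e : c.1 - 1 + 1 = c.1 := by omega
        constructor
        · exact (hmem _).mpr (μ.up_left_mem (Nat.sub_le _ _) le_rfl ((hmem c).mp hc1))
        · show (c.1 - 1 + 1, c.2) ∈ μ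
          rw [e]
          exact (hmem c).mp hc1
      · have e : c.1 - 1 + 1 = c.1 := by omega
        exact Prod.ext e rfl
  have hEh : (μ.cells.filter (fun c => (c.1, c.2 + 1) ∈ μ)).card =
      (μ.cells.filter (fun c => 1 ≤ c.2)).card := by
    apply Finset.card_bij (fun c _ => ((c.1, c.2 + 1) : ℕ × ℕ))
    · intro c hc
      rw [Finset.mem_filter] at hc ⊢
      exact ⟨(hmem _).mpr hc.2, Nat.le_add_left _ _⟩
    · intro c _ c' _ h
      have h1 := (Prod.mk.inj h).1
      have h2 := (Prod.mk.inj h).2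
      exact Prod.ext h1 (by omega)
    · intro c hc
      rw [Finset.mem_filter] at hc
      obtain ⟨hc1, hc2⟩ := hc
      refine ⟨(c.1, c.2 - 1), ?_, ?_⟩
      · rw [Finset.mem_filter]
        have e : c.2 - 1 + 1 = c.2 := by omega
        constructor
        · exact (hmem _).mpr (μ.up_left_mem le_rfl (Nat.sub_le _ _) ((hmem c).mp hc1))
        · show (c.1, c.2 - 1 + 1) ∈ μ
          rw [e]
          exact (hmem c).mp hc1
      · have e : c.2 - 1 + 1 = c.2 := by omega
        exact Prod.ext rfl e
  have hQ : (μ.cells.filter (fun c => (c.1 + 1, c.2 + 1) ∈ μ)).card =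
      (μ.cells.filter (fun c => 1 ≤ c.1 ∧ 1 ≤ c.2)).card := by
    apply Finset.card_bij (fun c _ => ((c.1 + 1, c.2 + 1) : ℕ × ℕ))
    · intro c hc
      rw [Finset.mem_filter] at hc ⊢
      exact ⟨(hmem _).mpr hc.2, Nat.le_add_left _ _, Nat.le_add_left _ _⟩
    · intro c _ c' _ h
      have h1 := (Prod.mk.inj h).1
      have h2 := (Prod.mk.inj h).2
      exact Prod.ext (by omega) (by omega)
    · intro c hc
      rw [Finset.mem_filter] at hc
      obtain ⟨hc1, hc2, hc3⟩ := hc
      refine ⟨(c.1 - 1, c.2 - 1), ?_, ?_⟩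
      · rw [Finset.mem_filter]
        have e1 : c.1 - 1 + 1 = c.1 := by omega
        have e2 : c.2 - 1 + 1 = c.2 := by omega
        constructor
        · exact (hmem _).mpr (μ.up_left_mem (Nat.sub_le _ _) (Nat.sub_le _ _) ((hmem c).mp hc1))
        · show (c.1 - 1 + 1, c.2 - 1 + 1) ∈ μ
          rw [e1, e2]
          exact (hmem c).mp hc1
      · have e1 : c.1 - 1 + 1 = c.1 := by omega
        have e2 : c.2 - 1 + 1 = c.2 := by omega
        exact Prod.ext e1 e2
  rw [hEv, hEh, hQ]
  -- counting
  have s1 : (μ.cells.filter (fun c => 1 ≤ c.2)).card + (μ.cells.filter (fun c => ¬ 1 ≤ c.2)).card =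
      μ.cells.card := Finset.card_filter_add_card_filter_not _
  have s2 : ((μ.cells.filter (fun c => 1 ≤ c.1)).filter (fun c => 1 ≤ c.2)).card +
      ((μ.cells.filter (fun c => 1 ≤ c.1)).filter (fun c => ¬ 1 ≤ c.2)).card =
      (μ.cells.filter (fun c => 1 ≤ c.1)).card := Finset.card_filter_add_card_filter_not _
  have s3 : ((μ.cells.filter (fun c => ¬ 1 ≤ c.2)).filter (fun c => 1 ≤ c.1)).card +
      ((μ.cells.filter (fun c => ¬ 1 ≤ c.2)).filter (fun c => ¬ 1 ≤ c.1)).card =
      (μ.cells.filter (fun c => ¬ 1 ≤ c.2)).card := Finset.card_filter_add_card_filter_not _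
  have e1 : (μ.cells.filter (fun c => 1 ≤ c.1)).filter (fun c => 1 ≤ c.2) =
      μ.cells.filter (fun c => 1 ≤ c.1 ∧ 1 ≤ c.2) := Finset.filter_filter _ _ _
  have e2 : (μ.cells.filter (fun c => 1 ≤ c.1)).filter (fun c => ¬ 1 ≤ c.2) =
      (μ.cells.filter (fun c => ¬ 1 ≤ c.2)).filter (fun c => 1 ≤ c.1) := Finset.filter_comm _ _ _
  have e3 : (μ.cells.filter (fun c => ¬ 1 ≤ c.2)).filter (fun c => ¬ 1 ≤ c.1) = {((0, 0) : ℕ × ℕ)} := by
    ext c
    rw [Finset.mem_filter, Finset.mem_filter, Finset.mem_singleton]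
    constructor
    · rintro ⟨⟨_, h2⟩, h1⟩
      exact Prod.ext (by show c.1 = 0; omega) (by show c.2 = 0; omega)
    · rintro rfl
      exact ⟨⟨(hmem _).mpr h00, by decide⟩, by decide⟩
  rw [e1] at s2
  rw [e2] at s2
  rw [e3, Finset.card_singleton] at s3
  omega

end Groth.Agent.S19106
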