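import Groth.Statements.S19130
import Mathlib
import Groth.Agent.Lib.Helper23ConstLCGeo
import Groth.Agent.Lib.Helper23SepClosedPush
import Groth.Agent.Lib.Helper9HofPush
import Groth.Agent.Lib.Helper9EtPull
import Groth.Agent.S0073
import Groth.Agent.S0101
-- import your own Groth.Agent.* helpers here

set_option autoImplicit false
set_option backward.isDefEq.respectTransparency.types false
universe u
open CategoryTheory CategoryTheory.Limits AlgebraicGeometry Opposite
open EtCoh

namespace Groth.Agent.S19130

open Groth.Agent.Lib.Helper23.ConstLC Groth.Agent.Lib.Helper23.ConstLCGeo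
open Groth.Agent.Lib.Helper21.TorsA

/-- separable closedness transfers along ring isomorphisms -/
theorem isSepClosed_of_ringEquiv {K L : Type*} [Field K] [Field L] (e : K ≃+* L) [IsSepClosed K] :
    IsSepClosed L := by
  apply IsSepClosed.of_exists_root
  intro q hq hirr hsep
  have hsep' : (q.map (e.symm : L →+* K)).Separable := hsep.map
  have hdeg : (q.map (e.symm : L →+* K)).degree ≠ 0 := by
    rw [Polynomial.degree_map]
    exact (Polynomial.degree_pos_of_irreducible hirr).ne'
  obtain ⟨z, hz⟩ := IsSepClosed.exists_root _ hdeg hsep'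
  refine ⟨e z, ?_⟩
  have h1 : Polynomial.eval₂ (e.symm : L →+* K) z q = 0 := by
    rw [← Polynomial.eval_map]; exact hz
  have h2 : ((e : K →+* L).comp (e.symm : L →+* K)) = RingHom.id L := by
    ext x; simp
  have h3 := congrArg (e : K →+* L) h1
  rw [Polynomial.hom_eval₂, h2, Polynomial.eval₂_id, map_zero] at h3
  exact h3

/-- étale cohomology of the spectrum of a separably closed field vanishes in positive degrees -/
theorem subsingleton_H_sepClosed (K : Type u) [Field K] [IsSepClosed K]
    (F : EtCoh.Ab (Spec (CommRingCat.of K))) (i : ℕ) (hi : 1 ≤ i) :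
    Subsingleton (EtCoh.H (Spec (CommRingCat.of K)) F i) := by
  haveI : IsSepClosed (IsLocalRing.ResidueField K) :=
    isSepClosed_of_ringEquiv (RingEquiv.ofBijective (IsLocalRing.residue K)
      ⟨(IsLocalRing.residue K).injective, IsLocalRing.residue_surjective⟩)
  exact Groth.Agent.S0073.result K F i hi

/-- sections of the constant sheaf are continuous functions -/
noncomputable def sectionsEquiv (X : Scheme.{u}) (M : Type) [AddCommGroup M] (W : X.Etale) :
    (EtCoh.const X M).obj.obj (op W) ≃ C(W.left, Disc M) :=
  ((asIso ((constToLC X M).hom.app (op W))).addCommGroupIsoToAddEquiv.toEquiv).trans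
    ⟨fn, ofFn, fun _ => rfl, fun _ => rfl⟩

/-- continuous functions from a connected space to a discrete space -/
noncomputable def constEquiv (W : Type*) [TopologicalSpace W] [PreconnectedSpace W] [Nonempty W]
    (N : Type*) [TopologicalSpace N] [DiscreteTopology N] : C(W, N) ≃ N where
  toFun s := s (Classical.arbitrary W)
  invFun n := ContinuousMap.const W n
  left_inv s := by
    ext w
    exact PreconnectedSpace.constant inferInstance s.continuous
  right_inv n := rfl

theorem card_H_zero (Y : Scheme.{u}) [IrreducibleSpace Y] (M : Type) [AddCommGroup M] :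
    Nat.card (EtCoh.H Y (EtCoh.const Y M) 0) = Nat.card M := by
  let e1 : EtCoh.H Y (EtCoh.const Y M) 0 ≃ (EtCoh.const Y ℤ ⟶ EtCoh.const Y M) :=
    Abelian.Ext.homEquiv₀
  let e2 : (EtCoh.const Y ℤ ⟶ EtCoh.const Y M) ≃ (EtCoh.const Y M).obj.obj (op (EtCoh.top Y)) :=
    Equiv.ofBijective (Groth.Agent.Lib.Helper9.EtPull.sec (EtCoh.const Y M))
      ⟨Groth.Agent.Lib.Helper9.EtPull.sec_injective _, Groth.Agent.Lib.Helper9.EtPull.sec_surjective _⟩
  haveI : PreconnectedSpace ↥(EtCoh.top Y).left := inferInstanceAs (PreconnectedSpace ↥Y)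
  haveI : Nonempty ↥(EtCoh.top Y).left := inferInstanceAs (Nonempty ↥Y)
  exact Nat.card_congr (e1.trans (e2.trans ((sectionsEquiv Y M (EtCoh.top Y)).trans
    (constEquiv _ (Disc M)))))

/-- Let p be a prime and Y an integral scheme which is normal (every local ring is integrally closed in
its fraction field) and whose function field is algebraically closed. Then the étale cohomology of
the constant sheaf Z/p on Y is Z/p in degree 0 and vanishes in positive degrees: H^0(Y_et, Z/p) has
exactly p elements and H^i(Y_et, Z/p) = 0 for i > 0. Moreover, for every nonempty open subscheme j :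
U → Y, the unit morphism from the constant sheaf Z/p on Y_et to j_* of its restriction to U is an
isomorphism. -/
theorem result
    (p : ℕ) [Fact p.Prime] (Y : Scheme.{u}) [IsIntegral Y]
    (hnorm : ∀ y : Y, IsIntegrallyClosed (Y.presheaf.stalk y)) [IsAlgClosed Y.functionField] :
    Nat.card (EtCoh.H Y (EtCoh.const Y (ZMod p)) 0) = p ∧
      (∀ i : ℕ, 0 < i → Subsingleton (EtCoh.H Y (EtCoh.const Y (ZMod p)) i)) ∧
      ∀ U : Y.Opens, (U : Set Y).Nonempty →
        IsIso ((EtCoh.pullPushAdj U.ι).unit.app (EtCoh.const Y (ZMod p))) := by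
  have hX : Pi1.IsNormalScheme Y := fun x => ⟨inferInstance, hnorm x⟩
  refine ⟨?_, ?_, fun U hU => isIso_unit_of_open hX U hU _⟩
  · rw [card_H_zero Y (ZMod p)]
    exact Nat.card_zmod p
  · intro i hi
    let K : Type u := Y.functionField
    haveI : IsSepClosed K := inferInstanceAs (IsSepClosed Y.functionField)
    let g : Spec (CommRingCat.of K) ⟶ Y := Y.fromSpecStalk (genericPoint Y)
    haveI : IsPreimmersion g := inferInstanceAs (IsPreimmersion (Y.fromSpecStalk (genericPoint Y)))
    have hg : Set.range g = {genericPoint Y} := by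
      change Set.range (Y.fromSpecStalk (genericPoint Y)) = _
      rw [Scheme.range_fromSpecStalk]
      ext y
      simp only [Set.mem_setOf_eq, Set.mem_singleton_iff]
      constructor
      · intro h
        exact (h.antisymm (genericPoint_specializes (α := ↥Y) y)).eq
      · rintro rfl
        exact specializes_rfl
    haveI hiso : IsIso ((EtCoh.pullPushAdj g).unit.app (EtCoh.const Y (ZMod p))) :=
      isIso_unit_of_generic g hg hX _
    haveI := Groth.Agent.S0101.result g
    let G := (EtCoh.pull g).obj (EtCoh.const Y (ZMod p))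
    have hbij := Groth.Agent.Lib.Helper9.HofPush.HofPush_bijective g G
      (fun q hq => Groth.Agent.Lib.Helper23.SepClosedPush.isZero_Rpush K g G q hq) i
    haveI hsub := subsingleton_H_sepClosed K G i hi
    have hinj : Function.Injective
        ((EtCoh.HF Y i).map ((EtCoh.pullPushAdj g).unit.app (EtCoh.const Y (ZMod p)))).hom :=
      ((ConcreteCategory.isIso_iff_bijective _).1 inferInstance).1
    exact (hbij.1.comp hinj).subsingleton

end Groth.Agent.S19130
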