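import Groth.Statements.S19138
import Mathlib
-- import your own Groth.Agent.* helpers here

set_option autoImplicit false
set_option linter.style.haveILetI false
set_option linter.unusedSectionVars false
open Instab

namespace Groth.Agent.S19138

open Matrix

theorem exists_rho : ∃ ρ : ℝ →ₗ[ℚ] ℝ, (∀ q : ℚ, ρ (q : ℝ) = q) ∧ (∀ x : ℝ, ∃ q : ℚ, ρ x = q) := by
  obtain ⟨g, hg⟩ := LinearMap.exists_leftInverse_of_injective (Algebra.linearMap ℚ ℝ)
    (LinearMap.ker_eq_bot.mpr (algebraMap ℚ ℝ).injective)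
  refine ⟨(Algebra.linearMap ℚ ℝ).comp g, fun q => ?_, fun x => ⟨g x, rfl⟩⟩
  have h1 : g ((q : ℝ)) = q := by
    have := LinearMap.congr_fun hg q
    simpa using this
  show algebraMap ℚ ℝ (g (q : ℝ)) = q
  rw [h1]
  rfl

theorem rho_mul (ρ : ℝ →ₗ[ℚ] ℝ) (q : ℚ) (x : ℝ) : ρ ((q : ℝ) * x) = (q : ℝ) * ρ x := by
  have h : (q : ℝ) * x = q • x := (Rat.smul_def q x).symm
  rw [h, map_smul, Rat.smul_def]

/-- A nonempty rational polyhedron has a rational point (minimal face argument). -/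
theorem exists_rat_point_aux {n : ℕ} {κ : Type} [Fintype κ] (a : κ → Fin n → ℚ) (b : κ → ℚ) :
    ∀ d : ℕ, ∀ y : Fin n → ℝ, (∀ k, (b k : ℝ) ≤ ∑ i, (a k i : ℝ) * y i) →
      Fintype.card κ - (Finset.univ.filter fun k => ∑ i, (a k i : ℝ) * y i = b k).card = d →
      ∃ x : Fin n → ℚ, ∀ k, b k ≤ ∑ i, a k i * x i := by
  classical
  intro d
  induction d using Nat.strong_induction_on with
  | _ d ih =>
    intro y hy hd
    by_cases hall : ∀ z : Fin n → ℝ,
        (∀ k ∈ (Finset.univ.filter fun k => ∑ i, (a k i : ℝ) * y i = b k),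
          ∑ i, (a k i : ℝ) * z i = b k) → ∀ k, (b k : ℝ) ≤ ∑ i, (a k i : ℝ) * z i
    · obtain ⟨ρ, hρ1, hρ2⟩ := exists_rho
      choose x hx using fun i => hρ2 (y i)
      refine ⟨x, fun k => ?_⟩
      have hz : ∀ k ∈ (Finset.univ.filter fun k => ∑ i, (a k i : ℝ) * y i = b k),
          ∑ i, (a k i : ℝ) * ((x i : ℚ) : ℝ) = b k := by
        intro k hk
        have hk' : ∑ i, (a k i : ℝ) * y i = b k := (Finset.mem_filter.mp hk).2
        have h1 := congrArg ρ hk'
        rw [map_sum, hρ1] at h1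
        rw [← h1]
        refine Finset.sum_congr rfl fun i _ => ?_
        rw [rho_mul, hx]
      have h2 := hall (fun i => (x i : ℝ)) hz k
      exact_mod_cast h2
    · push Not at hall
      obtain ⟨z, hzT, j, hj⟩ := hall
      have hlin : ∀ (k : κ) (t : ℝ), ∑ i, (a k i : ℝ) * (y i + t * (z i - y i)) =
          ∑ i, (a k i : ℝ) * y i + t * (∑ i, (a k i : ℝ) * z i - ∑ i, (a k i : ℝ) * y i) := by
        intro k t
        rw [← Finset.sum_sub_distrib, Finset.mul_sum, ← Finset.sum_add_distrib]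
        refine Finset.sum_congr rfl fun i _ => ?_
        ring
      let V := Finset.univ.filter fun k => ∑ i, (a k i : ℝ) * z i < b k
      have hVne : V.Nonempty := ⟨j, by simp [V, hj]⟩
      have hVgt : ∀ k ∈ V, (b k : ℝ) < ∑ i, (a k i : ℝ) * y i := by
        intro k hk
        have hk1 : ∑ i, (a k i : ℝ) * z i < b k := (Finset.mem_filter.mp hk).2
        rcases (hy k).lt_or_eq with h | h
        · exact h
        · exfalso
          have := hzT k (Finset.mem_filter.mpr ⟨Finset.mem_univ _, h.symm⟩)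
          linarith
      let τ : κ → ℝ := fun k => (∑ i, (a k i : ℝ) * y i - b k) /
        (∑ i, (a k i : ℝ) * y i - ∑ i, (a k i : ℝ) * z i)
      obtain ⟨k₀, hk₀V, hmin⟩ := V.exists_min_image τ hVne
      have hden : ∀ k ∈ V, 0 < ∑ i, (a k i : ℝ) * y i - ∑ i, (a k i : ℝ) * z i := by
        intro k hk
        have hk1 : ∑ i, (a k i : ℝ) * z i < b k := (Finset.mem_filter.mp hk).2
        have := hVgt k hk
        linarith
      have hτ0 : 0 ≤ τ k₀ := by
        apply div_nonneg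
        · have := hVgt k₀ hk₀V; linarith
        · exact (hden k₀ hk₀V).le
      have hτ1 : τ k₀ ≤ 1 := by
        rw [div_le_one (hden k₀ hk₀V)]
        have hk1 : ∑ i, (a k₀ i : ℝ) * z i < b k₀ := (Finset.mem_filter.mp hk₀V).2
        linarith
      have hy' : ∀ k, (b k : ℝ) ≤ ∑ i, (a k i : ℝ) * (y i + τ k₀ * (z i - y i)) := by
        intro k
        rw [hlin]
        by_cases hk : k ∈ V
        · have h1 := hmin k hk
          have h2 := hden k hk
          have h3 : τ k₀ * (∑ i, (a k i : ℝ) * y i - ∑ i, (a k i : ℝ) * z i) ≤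
              ∑ i, (a k i : ℝ) * y i - b k := by
            calc τ k₀ * (∑ i, (a k i : ℝ) * y i - ∑ i, (a k i : ℝ) * z i)
                ≤ τ k * (∑ i, (a k i : ℝ) * y i - ∑ i, (a k i : ℝ) * z i) :=
                  mul_le_mul_of_nonneg_right h1 h2.le
              _ = ∑ i, (a k i : ℝ) * y i - b k := div_mul_cancel₀ _ h2.ne'
          linarith
        · have hk1 : (b k : ℝ) ≤ ∑ i, (a k i : ℝ) * z i := by
            by_contra hcon
            exact hk (Finset.mem_filter.mpr ⟨Finset.mem_univ _, not_le.mp hcon⟩)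
          have := hy k
          nlinarith
      have hk₀T : k₀ ∉ (Finset.univ.filter fun k => ∑ i, (a k i : ℝ) * y i = b k) := by
        intro h
        have h1 : ∑ i, (a k₀ i : ℝ) * y i = b k₀ := (Finset.mem_filter.mp h).2
        have := hVgt k₀ hk₀V
        linarith
      have hsub : insert k₀ (Finset.univ.filter fun k => ∑ i, (a k i : ℝ) * y i = b k) ⊆
          (Finset.univ.filter fun k => ∑ i, (a k i : ℝ) * (y i + τ k₀ * (z i - y i)) = b k) := by
        intro k hk
        rw [Finset.mem_insert] at hk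
        rw [Finset.mem_filter]
        refine ⟨Finset.mem_univ _, ?_⟩
        rw [hlin]
        rcases hk with rfl | hk
        · have h2 := hden k hk₀V
          have : τ k * (∑ i, (a k i : ℝ) * y i - ∑ i, (a k i : ℝ) * z i) =
              ∑ i, (a k i : ℝ) * y i - b k := div_mul_cancel₀ _ h2.ne'
          linarith
        · have h1 : ∑ i, (a k i : ℝ) * y i = b k := (Finset.mem_filter.mp hk).2
          have h2 := hzT k hk
          rw [h1, h2, sub_self, mul_zero, add_zero]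
      have hcard := Finset.card_le_card hsub
      rw [Finset.card_insert_of_notMem hk₀T] at hcard
      have hle : (Finset.univ.filter fun k =>
          ∑ i, (a k i : ℝ) * (y i + τ k₀ * (z i - y i)) = b k).card ≤ Fintype.card κ :=
        Finset.card_le_univ _
      exact ih _ (by omega) _ hy' rfl

section quad

variable {n : ℕ} (M : Matrix (Fin n) (Fin n) ℝ)

/-- the quadratic form -/
def qf (y : Fin n → ℝ) : ℝ := y ⬝ᵥ M *ᵥ y

/-- its polar form -/
def bf (y z : Fin n → ℝ) : ℝ := y ⬝ᵥ M *ᵥ z + z ⬝ᵥ M *ᵥ y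

theorem qf_add_smul (y d : Fin n → ℝ) (t : ℝ) :
    qf M (y + t • d) = qf M y + t * bf M y d + t ^ 2 * qf M d := by
  unfold qf bf
  rw [mulVec_add, mulVec_smul, dotProduct_add, add_dotProduct, add_dotProduct, smul_dotProduct,
    smul_dotProduct, dotProduct_smul, dotProduct_smul]
  simp only [smul_eq_mul]
  ring

theorem qf_smul (c : ℝ) (y : Fin n → ℝ) : qf M (c • y) = c ^ 2 * qf M y := by
  unfold qf
  rw [mulVec_smul, smul_dotProduct, dotProduct_smul]
  simp only [smul_eq_mul]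
  ring

theorem qf_zero : qf M 0 = 0 := by
  unfold qf
  rw [zero_dotProduct]

theorem bf_self (y : Fin n → ℝ) : bf M y y = 2 * qf M y := by
  unfold bf qf
  ring

theorem bf_comm (y z : Fin n → ℝ) : bf M y z = bf M z y := by
  unfold bf
  ring

theorem bf_sq_le (hnn : ∀ y, 0 ≤ qf M y) (y z : Fin n → ℝ) :
    bf M y z ^ 2 ≤ 4 * qf M y * qf M z := by
  have h : ∀ t : ℝ, 0 ≤ qf M y * (t * t) + bf M y z * t + qf M z := by
    intro t
    have := hnn (z + t • y)
    rw [qf_add_smul, bf_comm] at this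
    nlinarith
  have := discrim_le_zero h
  unfold discrim at this
  linarith

theorem bf_eq_sum (y z : Fin n → ℝ) :
    bf M y z = ∑ i, z i * ∑ j, (M i j + M j i) * y j := by
  unfold bf dotProduct mulVec dotProduct
  have h1 : ∑ i, y i * ∑ j, M i j * z j = ∑ i, z i * ∑ j, M j i * y j := by
    simp only [Finset.mul_sum]
    rw [Finset.sum_comm]
    refine Finset.sum_congr rfl fun i _ => Finset.sum_congr rfl fun j _ => ?_
    ring
  rw [h1, ← Finset.sum_add_distrib]
  refine Finset.sum_congr rfl fun i _ => ?_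
  rw [← mul_add, ← Finset.sum_add_distrib]
  congr 1
  refine Finset.sum_congr rfl fun j _ => ?_
  ring

end quad

/-- small-`t` lemma -/
theorem nonneg_of_small {Lc W t₁ : ℝ} (ht₁ : 0 < t₁)
    (h : ∀ t, 0 < t → t ≤ t₁ → 0 ≤ Lc + t * W) : 0 ≤ Lc := by
  by_contra hcon
  push Not at hcon
  have hW : 0 < 2 * (|W| + 1) := by positivity
  set t := min t₁ (-Lc / (2 * (|W| + 1))) with ht
  have htpos : 0 < t := lt_min ht₁ (div_pos (by linarith) hW)
  have h1 := h t htpos (min_le_left _ _)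
  have h2 : t ≤ -Lc / (2 * (|W| + 1)) := min_le_right _ _
  rw [le_div_iff₀ hW] at h2
  have h3 : t * W ≤ t * |W| := mul_le_mul_of_nonneg_left (le_abs_self W) htpos.le
  nlinarith

theorem directional {n : ℕ} (M : Matrix (Fin n) (Fin n) ℝ) (L : Fin n → ℝ) (ys : Fin n → ℝ)
    (a Q₀ : ℝ) (ha : a = L ⬝ᵥ ys) (hQ : Q₀ = qf M ys) (hapos : 0 < a)
    (hkey : ∀ y : Fin n → ℝ, (∀ i, 0 ≤ y i) → 0 ≤ L ⬝ᵥ y →
      Q₀ * (L ⬝ᵥ y) ^ 2 ≤ a ^ 2 * qf M y)
    (d : Fin n → ℝ) (t₀ : ℝ) (ht₀ : 0 < t₀)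
    (hfeas : ∀ t, 0 < t → t ≤ t₀ → ∀ i, 0 ≤ ys i + t * d i) :
    2 * Q₀ * (L ⬝ᵥ d) ≤ a * bf M ys d := by
  have hpos2 : 0 < 2 * (|L ⬝ᵥ d| + 1) := by positivity
  have ht₁ : 0 < min t₀ (a / (2 * (|L ⬝ᵥ d| + 1))) := lt_min ht₀ (div_pos hapos hpos2)
  have hmain : 0 ≤ (a ^ 2 * bf M ys d - 2 * Q₀ * a * (L ⬝ᵥ d)) := by
    apply nonneg_of_small (W := a ^ 2 * qf M d - Q₀ * (L ⬝ᵥ d) ^ 2) ht₁
    intro t ht htle
    have htt₀ : t ≤ t₀ := htle.trans (min_le_left _ _)
    have hta : t ≤ a / (2 * (|L ⬝ᵥ d| + 1)) := htle.trans (min_le_right _ _)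
    rw [le_div_iff₀ hpos2] at hta
    have hLy : L ⬝ᵥ (ys + t • d) = a + t * (L ⬝ᵥ d) := by
      rw [dotProduct_add, dotProduct_smul, smul_eq_mul, ← ha]
    have hnonneg : 0 ≤ a + t * (L ⬝ᵥ d) := by
      have h1 : -(t * |L ⬝ᵥ d|) ≤ t * (L ⬝ᵥ d) := by
        have := neg_abs_le (L ⬝ᵥ d)
        nlinarith
      nlinarith [abs_nonneg (L ⬝ᵥ d)]
    have h1 := hkey (ys + t • d) (fun i => by simpa using hfeas t ht htt₀ i)
      (by rw [hLy]; exact hnonneg)
    rw [hLy, qf_add_smul, ← hQ] at h1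
    have h2 : 0 ≤ t * ((a ^ 2 * bf M ys d - 2 * Q₀ * a * (L ⬝ᵥ d)) +
        t * (a ^ 2 * qf M d - Q₀ * (L ⬝ᵥ d) ^ 2)) := by
      nlinarith
    by_contra hneg
    push Not at hneg
    nlinarith [mul_neg_of_pos_of_neg ht hneg]
  have h3 : 0 ≤ a * (a * bf M ys d - 2 * Q₀ * (L ⬝ᵥ d)) := by nlinarith
  by_contra hneg
  push Not at hneg
  nlinarith [mul_neg_of_pos_of_neg hapos (sub_neg.mpr hneg)]

theorem sufficiency {n : ℕ} (M : Matrix (Fin n) (Fin n) ℝ) (L : Fin n → ℝ)
    (hnn : ∀ y, 0 ≤ qf M y) (X : Fin n → ℝ) (hXq : 0 < qf M X)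
    (hLX : L ⬝ᵥ X = 2 * qf M X)
    (hc : ∀ i, L i ≤ ∑ j, (M i j + M j i) * X j)
    (z : Fin n → ℝ) (hz : ∀ i, 0 ≤ z i) (hzq : 0 < qf M z) :
    L ⬝ᵥ z / Real.sqrt (qf M z) ≤ L ⬝ᵥ X / Real.sqrt (qf M X) := by
  have h1 : L ⬝ᵥ z ≤ bf M X z := by
    rw [bf_eq_sum]
    unfold dotProduct
    refine Finset.sum_le_sum fun i _ => ?_
    rw [mul_comm]
    exact mul_le_mul_of_nonneg_left (hc i) (hz i)
  have h2 := bf_sq_le M hnn X z
  have hsX := Real.sqrt_pos.mpr hXq
  have hsz := Real.sqrt_pos.mpr hzq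
  have h3 : bf M X z ≤ 2 * Real.sqrt (qf M X) * Real.sqrt (qf M z) := by
    have h4 : |bf M X z| ≤ Real.sqrt (4 * qf M X * qf M z) := Real.abs_le_sqrt h2
    have h5 : Real.sqrt (4 * qf M X * qf M z) =
        2 * Real.sqrt (qf M X) * Real.sqrt (qf M z) := by
      have : 4 * qf M X * qf M z = (2 * Real.sqrt (qf M X) * Real.sqrt (qf M z)) ^ 2 := by
        rw [mul_pow, mul_pow, Real.sq_sqrt hXq.le, Real.sq_sqrt hzq.le]
        norm_num
      rw [this, Real.sqrt_sq (by positivity)]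
    exact (le_abs_self _).trans (h4.trans h5.le)
  rw [hLX, div_le_div_iff₀ hsz hsX]
  have h6 : 2 * qf M X = 2 * Real.sqrt (qf M X) * Real.sqrt (qf M X) := by
    rw [mul_assoc, Real.mul_self_sqrt hXq.le]
  calc L ⬝ᵥ z * Real.sqrt (qf M X)
      ≤ (2 * Real.sqrt (qf M X) * Real.sqrt (qf M z)) * Real.sqrt (qf M X) :=
        mul_le_mul_of_nonneg_right (h1.trans h3) hsX.le
    _ = 2 * qf M X * Real.sqrt (qf M z) := by rw [h6]; ring


open Matrix in
/-- Let ℓ ∈ ℚⁿ and let B be a rational n × n matrix whose real quadratic form q(y) = y · (B y) is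
non-negative on ℝⁿ and positive at every non-zero point of the non-negative orthant. If ℓ · y > 0 at
some point of the orthant, then the function ℓ · y / √q(y) on the non-zero points of the orthant
attains its maximum at a point with rational coordinates. (The published lemma says that the
numerical invariant attached to a rational degree-two class and such a norm on graded points attains
its maximum on each rational simplex at a rational point whenever it is positive somewhere on that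
simplex; on one rational simplex that invariant is this function, so this is what is asked there.
The case of a piecewise rational linear norm is not stated here.) -/
theorem result (n : ℕ) (ℓ : Fin n → ℚ)
    (B : Matrix (Fin n) (Fin n) ℚ)
    (hnn : ∀ y : Fin n → ℝ, 0 ≤ y ⬝ᵥ (B.map (fun r : ℚ => (r : ℝ))) *ᵥ y)
    (hpos : ∀ y : Fin n → ℝ, (∀ i, 0 ≤ y i) → y ≠ 0 → 0 < y ⬝ᵥ (B.map (fun r : ℚ => (r : ℝ))) *ᵥ y)
    (hℓ : ∃ y : Fin n → ℝ, (∀ i, 0 ≤ y i) ∧ 0 < (fun i => (ℓ i : ℝ)) ⬝ᵥ y) :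
    ∃ x : Fin n → ℚ, (∀ i, 0 ≤ x i) ∧ x ≠ 0 ∧
      ∀ y : Fin n → ℝ, (∀ i, 0 ≤ y i) → y ≠ 0 →
        (fun i => (ℓ i : ℝ)) ⬝ᵥ y / Real.sqrt (y ⬝ᵥ (B.map (fun r : ℚ => (r : ℝ))) *ᵥ y) ≤
          (fun i => (ℓ i : ℝ)) ⬝ᵥ (fun i => (x i : ℝ)) /
            Real.sqrt ((fun i => (x i : ℝ)) ⬝ᵥ (B.map (fun r : ℚ => (r : ℝ))) *ᵥ (fun i => (x i : ℝ))) := by
  classical
  obtain ⟨y₀, hy₀nn, hy₀⟩ := hℓ
  set M : Matrix (Fin n) (Fin n) ℝ := B.map (fun r : ℚ => (r : ℝ)) with hM
  set L : Fin n → ℝ := fun i => (ℓ i : ℝ) with hL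
  have hnn' : ∀ y, 0 ≤ qf M y := hnn
  have hpos' : ∀ y : Fin n → ℝ, (∀ i, 0 ≤ y i) → y ≠ 0 → 0 < qf M y := hpos
  have hy₀ne : y₀ ≠ 0 := by
    rintro rfl
    simp at hy₀
  have hne : Nonempty (Fin n) := by
    rcases Nat.eq_zero_or_pos n with rfl | h
    · exfalso
      simp [dotProduct] at hy₀
    · exact ⟨⟨0, h⟩⟩
  let f : (Fin n → ℝ) → ℝ := fun y => L ⬝ᵥ y / Real.sqrt (qf M y)
  have hcont : ContinuousOn f (stdSimplex ℝ (Fin n)) := by
    have hq : Continuous (fun y : Fin n → ℝ => qf M y) := by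
      unfold qf dotProduct mulVec dotProduct
      fun_prop
    have hl : Continuous (fun y : Fin n → ℝ => L ⬝ᵥ y) := by
      unfold dotProduct
      fun_prop
    refine ContinuousOn.div hl.continuousOn (Real.continuous_sqrt.comp hq).continuousOn ?_
    intro y hy
    have hyne : y ≠ 0 := by
      rintro rfl
      have := hy.2
      simp at this
    exact (Real.sqrt_pos.mpr (hpos' y hy.1 hyne)).ne'
  obtain ⟨i₀⟩ := hne
  obtain ⟨ys, hysΔ, hysmax⟩ := (isCompact_stdSimplex ℝ (Fin n)).exists_isMaxOn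
    ⟨Pi.single i₀ 1, single_mem_stdSimplex ℝ i₀⟩ hcont
  have hysnn : ∀ i, 0 ≤ ys i := hysΔ.1
  have hysne : ys ≠ 0 := by
    rintro rfl
    have := hysΔ.2
    simp at this
  have hhom : ∀ (c : ℝ) (y : Fin n → ℝ), 0 < c → f (c • y) = f y := by
    intro c y hc
    simp only [f]
    rw [dotProduct_smul, qf_smul, smul_eq_mul, Real.sqrt_mul (sq_nonneg c), Real.sqrt_sq hc.le,
      mul_div_mul_left _ _ hc.ne']
  have hmax : ∀ y : Fin n → ℝ, (∀ i, 0 ≤ y i) → y ≠ 0 → f y ≤ f ys := by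
    intro y hy hyne
    have hσ : 0 < ∑ i, y i := by
      apply Finset.sum_pos' (fun i _ => hy i)
      obtain ⟨i, hi⟩ := Function.ne_iff.mp hyne
      exact ⟨i, Finset.mem_univ _, lt_of_le_of_ne (hy i) (Ne.symm hi)⟩
    have hmem : (∑ i, y i)⁻¹ • y ∈ stdSimplex ℝ (Fin n) := by
      refine ⟨fun i => ?_, ?_⟩
      · simp only [Pi.smul_apply, smul_eq_mul]
        exact mul_nonneg (inv_pos.mpr hσ).le (hy i)
      · simp only [Pi.smul_apply, smul_eq_mul]
        rw [← Finset.mul_sum, inv_mul_cancel₀ hσ.ne']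
    have := isMaxOn_iff.mp hysmax _ hmem
    rwa [hhom _ _ (inv_pos.mpr hσ)] at this
  set a := L ⬝ᵥ ys with ha
  set Q₀ := qf M ys with hQ
  have hQpos : 0 < Q₀ := hpos' ys hysnn hysne
  have hfy₀ : 0 < f y₀ := div_pos hy₀ (Real.sqrt_pos.mpr (hpos' y₀ hy₀nn hy₀ne))
  have hfys : 0 < f ys := hfy₀.trans_le (hmax y₀ hy₀nn hy₀ne)
  have hapos : 0 < a := by
    have := hfys
    simp only [f] at this
    exact (div_pos_iff_of_pos_right (Real.sqrt_pos.mpr hQpos)).mp this
  have hkey : ∀ y : Fin n → ℝ, (∀ i, 0 ≤ y i) → 0 ≤ L ⬝ᵥ y →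
      Q₀ * (L ⬝ᵥ y) ^ 2 ≤ a ^ 2 * qf M y := by
    intro y hy hLy
    by_cases hyne : y = 0
    · subst hyne
      simp [qf_zero]
    · have h1 := hmax y hy hyne
      have hqy := hpos' y hy hyne
      simp only [f] at h1
      rw [div_le_div_iff₀ (Real.sqrt_pos.mpr hqy) (Real.sqrt_pos.mpr hQpos)] at h1
      have h2 : (L ⬝ᵥ y * Real.sqrt Q₀) ^ 2 ≤ (a * Real.sqrt (qf M y)) ^ 2 :=
        pow_le_pow_left₀ (mul_nonneg hLy (Real.sqrt_nonneg _)) h1 2
      rw [mul_pow, mul_pow, Real.sq_sqrt hQpos.le, Real.sq_sqrt hqy.le] at h2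
      linarith
  let c : (Fin n → ℝ) → Fin n → ℝ := fun y i => ∑ j, (M i j + M j i) * y j
  have hbf_single : ∀ (y : Fin n → ℝ) (i : Fin n), bf M y (Pi.single i 1) = c y i := by
    intro y i
    rw [bf_eq_sum]
    simp [c, Pi.single_apply]
  have hK1 : ∀ i, 2 * Q₀ * L i ≤ a * c ys i := by
    intro i
    have := directional M L ys a Q₀ ha hQ hapos hkey (Pi.single i 1) 1 one_pos
      (fun t ht _ j => by
        have h1 : 0 ≤ (Pi.single i (1:ℝ) : Fin n → ℝ) j := by
          rw [Pi.single_apply]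
          split_ifs <;> norm_num
        have := mul_nonneg ht.le h1
        linarith [hysnn j])
    rwa [dotProduct_single, mul_one, hbf_single] at this
  have hK2 : ∀ i, 0 < ys i → a * c ys i ≤ 2 * Q₀ * L i := by
    intro i hi
    have := directional M L ys a Q₀ ha hQ hapos hkey (-(Pi.single i 1)) (ys i) hi
      (fun t ht htle j => by
        by_cases hj : j = i
        · subst hj
          simp only [Pi.neg_apply, Pi.single_eq_same]
          linarith
        · simp only [Pi.neg_apply, Pi.single_apply, if_neg hj, neg_zero, mul_zero, add_zero]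
          exact hysnn j)
    have hbneg : bf M ys (-(Pi.single i 1)) = - c ys i := by
      rw [← hbf_single]
      unfold bf
      simp only [mulVec_neg, dotProduct_neg, neg_dotProduct]
      ring
    rw [dotProduct_neg, dotProduct_single, mul_one, hbneg] at this
    linarith
  set r := a / (2 * Q₀) with hr
  have h2Q : 0 < 2 * Q₀ := by positivity
  have hrpos : 0 < r := div_pos hapos h2Q
  have hcsmul : ∀ i, c (r • ys) i = r * c ys i := by
    intro i
    simp only [c, Pi.smul_apply, smul_eq_mul]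
    rw [Finset.mul_sum]
    refine Finset.sum_congr rfl fun j _ => by ring
  have hP1 : ∀ i, L i ≤ c (r • ys) i := by
    intro i
    rw [hcsmul, hr, div_mul_eq_mul_div, le_div_iff₀ h2Q]
    linarith [hK1 i]
  have hP2 : ∀ i, 0 < ys i → c (r • ys) i ≤ L i := by
    intro i hi
    rw [hcsmul, hr, div_mul_eq_mul_div, div_le_iff₀ h2Q]
    linarith [hK2 i hi]
  -- the polyhedron
  let A : Fin n ⊕ (Fin n ⊕ Fin n) → Fin n → ℚ := fun k => match k with
    | Sum.inl i => Pi.single i 1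
    | Sum.inr (Sum.inl i) => fun j => B i j + B j i
    | Sum.inr (Sum.inr i) => if 0 < ys i then fun j => -(B i j + B j i) else -(Pi.single i 1)
  let b : Fin n ⊕ (Fin n ⊕ Fin n) → ℚ := fun k => match k with
    | Sum.inl _ => 0
    | Sum.inr (Sum.inl i) => ℓ i
    | Sum.inr (Sum.inr i) => if 0 < ys i then -ℓ i else 0
  have hsingle : ∀ (i : Fin n) (w : Fin n → ℝ),
      ∑ j, (((Pi.single i (1:ℚ) : Fin n → ℚ) j : ℚ) : ℝ) * w j = w i := by
    intro i w
    simp only [Pi.single_apply, apply_ite (Rat.cast : ℚ → ℝ), Rat.cast_one, Rat.cast_zero,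
      ite_mul, one_mul, zero_mul, Finset.sum_ite_eq', Finset.mem_univ, if_true]
  have hCsum : ∀ (i : Fin n) (w : Fin n → ℝ),
      ∑ j, ((B i j + B j i : ℚ) : ℝ) * w j = c w i := by
    intro i w
    simp only [c]
    refine Finset.sum_congr rfl fun j _ => ?_
    push_cast
    rfl
  have hrow1 : ∀ (i : Fin n) (w : Fin n → ℝ), ∑ j, ((A (Sum.inl i) j : ℚ) : ℝ) * w j = w i :=
    fun i w => hsingle i w
  have hrow2 : ∀ (i : Fin n) (w : Fin n → ℝ),
      ∑ j, ((A (Sum.inr (Sum.inl i)) j : ℚ) : ℝ) * w j = c w i := fun i w => hCsum i w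
  have hrow3 : ∀ (i : Fin n) (w : Fin n → ℝ), 0 < ys i →
      ∑ j, ((A (Sum.inr (Sum.inr i)) j : ℚ) : ℝ) * w j = - c w i := by
    intro i w hi
    simp only [A, if_pos hi]
    rw [← hCsum, ← Finset.sum_neg_distrib]
    refine Finset.sum_congr rfl fun j _ => ?_
    push_cast
    ring
  have hrow4 : ∀ (i : Fin n) (w : Fin n → ℝ), ¬ 0 < ys i →
      ∑ j, ((A (Sum.inr (Sum.inr i)) j : ℚ) : ℝ) * w j = - w i := by
    intro i w hi
    simp only [A, if_neg hi]
    rw [← hsingle i w, ← Finset.sum_neg_distrib]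
    refine Finset.sum_congr rfl fun j _ => ?_
    simp only [Pi.neg_apply]
    push_cast
    ring
  have hfeas : ∀ k, (b k : ℝ) ≤ ∑ j, ((A k j : ℚ) : ℝ) * (r • ys) j := by
    rintro (i | i | i)
    · rw [hrow1]
      simp only [b, Rat.cast_zero, Pi.smul_apply, smul_eq_mul]
      exact mul_nonneg hrpos.le (hysnn i)
    · rw [hrow2]
      exact hP1 i
    · by_cases hi : 0 < ys i
      · rw [hrow3 i _ hi]
        simp only [b, if_pos hi]
        push_cast
        linarith [hP2 i hi]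
      · rw [hrow4 i _ hi]
        simp only [b, if_neg hi, Rat.cast_zero, Pi.smul_apply, smul_eq_mul]
        have : ys i = 0 := le_antisymm (not_lt.mp hi) (hysnn i)
        rw [this, mul_zero, neg_zero]
  obtain ⟨x, hx⟩ := exists_rat_point_aux A b _ (r • ys) hfeas rfl
  set X : Fin n → ℝ := fun i => (x i : ℝ) with hX
  have hxR : ∀ k, (b k : ℝ) ≤ ∑ j, ((A k j : ℚ) : ℝ) * X j := by
    intro k
    have h2 := (Rat.cast_le (K := ℝ)).mpr (hx k)
    push_cast at h2
    exact h2
  have hX1 : ∀ i, 0 ≤ X i := by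
    intro i
    have := hxR (Sum.inl i)
    rw [hrow1] at this
    simpa [b] using this
  have hX2 : ∀ i, L i ≤ c X i := by
    intro i
    have := hxR (Sum.inr (Sum.inl i))
    rwa [hrow2] at this
  have hX3 : ∀ i, 0 < ys i → c X i ≤ L i := by
    intro i hi
    have := hxR (Sum.inr (Sum.inr i))
    rw [hrow3 i _ hi] at this
    simp only [b, if_pos hi] at this
    push_cast at this
    linarith
  have hX4 : ∀ i, ¬ 0 < ys i → X i = 0 := by
    intro i hi
    have := hxR (Sum.inr (Sum.inr i))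
    rw [hrow4 i _ hi] at this
    simp only [b, if_neg hi, Rat.cast_zero] at this
    exact le_antisymm (by linarith) (hX1 i)
  have hLX : L ⬝ᵥ X = 2 * qf M X := by
    rw [← bf_self, bf_eq_sum]
    unfold dotProduct
    refine Finset.sum_congr rfl fun i _ => ?_
    by_cases hi : 0 < ys i
    · have : L i = c X i := le_antisymm (hX2 i) (hX3 i hi)
      rw [this]
      ring
    · rw [hX4 i hi]
      ring
  have hXne : X ≠ 0 := by
    intro h0
    have hL0 : ∀ i, L i ≤ 0 := by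
      intro i
      have := hX2 i
      rw [h0] at this
      simpa [c] using this
    have : L ⬝ᵥ y₀ ≤ 0 := by
      unfold dotProduct
      exact Finset.sum_nonpos fun i _ => by nlinarith [hL0 i, hy₀nn i]
    linarith
  have hXq : 0 < qf M X := hpos' X hX1 hXne
  refine ⟨x, fun i => ?_, ?_, ?_⟩
  · have := hX1 i
    simp only [X] at this
    exact_mod_cast this
  · intro h0
    apply hXne
    funext i
    simp [X, h0]
  · intro z hz hzne
    exact sufficiency M L hnn' X hXq hLX hX2 z hz (hpos' z hz hzne)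

end Groth.Agent.S19138
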