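import Groth.Statements.S19144
import Groth.Agent.Lib.Helper3TwcD
import Mathlib

set_option autoImplicit false
set_option linter.style.haveILetI false
open CategoryTheory MonoidalCategory CartesianMonoidalCategory MonObj GrpObj AlgebraicGeometry
universe u
open TwC

namespace Groth.Agent.S19144

/-- A quasi-isotrivial twisted constant S-scheme X (etale-locally on S isomorphic to a constant scheme)
is separated and etale over S, and its structure morphism satisfies the valuative criterion of
properness (every valuative square has exactly one lift; X ⟶ S need not be quasi-compact). -/
theorem result {S : Scheme.{u}} (X : Over S)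
    (hX : TwC.IsTwConst TwC.Topology.etale X) :
    IsSeparated X.hom ∧ Etale X.hom ∧ ValuativeCriterion X.hom := by
  have hp := Groth.Agent.Lib.Helper3.TwcB.tc_of_isTwConst X hX
  exact ⟨hp.isSeparated, hp.etale, Groth.Agent.Lib.Helper3.TwcD.TC.valuativeCriterion hp⟩

end Groth.Agent.S19144
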