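import Groth.Statements.S19148
import Mathlib
-- import your own Groth.Agent.* helpers here

set_option autoImplicit false
open scoped TensorProduct
universe u v
open FiltMod

namespace Groth.Agent.S19148.Aux

set_option autoImplicit false

namespace SummandPow


open TensorProduct

variable {R : Type u} [CommRing R] {M : Type v} [AddCommGroup M] [Module R M]

/-- product functional on a tensor power. -/
noncomputable def prodFun {k : ℕ} (χ : Fin k → (M →ₗ[R] R)) : (⨂[R] _ : Fin k, M) →ₗ[R] R :=
  PiTensorProduct.lift ((MultilinearMap.mkPiAlgebra R (Fin k) R).compLinearMap χ)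

theorem prodFun_tprod {k : ℕ} (χ : Fin k → (M →ₗ[R] R)) (m : Fin k → M) :
    prodFun χ (PiTensorProduct.tprod R m) = ∏ i, χ i (m i) := by
  simp [prodFun]

theorem key [Module.Finite R M] [Module.Projective R M] (F₁ F₂ C₁ C₂ : Submodule R M)
    (h₁ : IsCompl F₁ C₁) (h₂ : IsCompl F₂ C₂) (k' : ℕ)
    (h : LinearMap.range (PiTensorProduct.map (R := R) (fun _ : Fin (k' + 1) => F₁.subtype)) ≤
      LinearMap.range (PiTensorProduct.map (R := R) (fun _ : Fin (k' + 1) => F₂.subtype))) :
    F₁ ≤ F₂ := by
  classical
  let p₁ : M →ₗ[R] F₁ := Submodule.projectionOnto F₁ C₁ h₁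
  let p₂ : M →ₗ[R] C₂ := Submodule.projectionOnto C₂ F₂ h₂.symm
  have hp₁ : ∀ z : F₁, p₁ (z : M) = z := fun z => Submodule.projectionOnto_apply_left h₁ z
  have hp₂ : ∀ w : F₂, p₂ (w : M) = 0 := fun w =>
    (Submodule.projectionOnto_apply_eq_zero_iff h₂.symm).mpr w.2
  haveI : Module.Projective R F₁ :=
    Module.Projective.of_split F₁.subtype p₁ (by ext z; simp [hp₁])
  haveI : Module.Finite R F₁ :=
    Module.Finite.of_surjective p₁ (Submodule.projectionOnto_surjective h₁)
  haveI : Module.Projective R C₂ :=
    Module.Projective.of_split C₂.subtype p₂ (by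
      ext z
      have := Submodule.projectionOnto_apply_left h₂.symm z
      simpa [p₂] using this)
  obtain ⟨n, f, g, -, -, hfg⟩ := Module.Finite.exists_comp_eq_id_of_projective R F₁
  have hexp : ∀ y : F₁, y = ∑ i, (g y i) • f (Pi.single i 1) := by
    intro y
    have h1 : f (g y) = y := by
      have := congrArg (fun t => t y) hfg
      simpa using this
    conv_lhs => rw [← h1]
    have h2 : g y = ∑ i, (g y i) • (Pi.single i 1 : Fin n → R) := by
      funext j
      simp [Finset.sum_apply, Pi.single_apply]
    conv_lhs => rw [h2]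
    rw [map_sum]
    apply Finset.sum_congr rfl
    intro i _
    rw [map_smul]
  intro x hx
  have hgoal : p₂ x = 0 := by
    apply Module.eval_apply_injective R
    ext θ
    simp only [Module.Dual.eval_apply, map_zero, LinearMap.zero_apply]
    let χ₀ : M →ₗ[R] R := θ ∘ₗ p₂
    have hχ₀ : ∀ w : F₂, χ₀ (w : M) = 0 := fun w => by simp [χ₀, hp₂ w]
    -- the tensor power argument
    have hP : ∀ d j : ℕ, j + d = k' → ∀ (z : Fin j → F₁) (φ : Fin j → Module.Dual R F₁) (x' : F₁),
        (∏ i, φ i (z i)) * χ₀ (x' : M) = 0 := by
      intro d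
      induction d with
      | zero =>
        intro j hj z φ x'
        have hj' : j = k' := by omega
        subst hj'
        let χ : Fin (j + 1) → (M →ₗ[R] R) := Fin.cons χ₀ (fun i => φ i ∘ₗ p₁)
        have hvan : prodFun χ ∘ₗ PiTensorProduct.map (R := R) (fun _ : Fin (j + 1) => F₂.subtype)
            = 0 := by
          apply PiTensorProduct.ext
          apply MultilinearMap.ext
          intro w
          simp only [LinearMap.compMultilinearMap_apply, LinearMap.coe_comp, Function.comp_apply,
            PiTensorProduct.map_tprod, prodFun_tprod, LinearMap.zero_apply]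
          apply Finset.prod_eq_zero (Finset.mem_univ (0 : Fin (j + 1)))
          simp only [χ, Fin.cons_zero, Submodule.subtype_apply]
          exact hχ₀ (w 0)
        let t : Fin (j + 1) → F₁ := Fin.cons x' z
        have hmem : PiTensorProduct.map (R := R) (fun _ : Fin (j + 1) => F₁.subtype)
            (PiTensorProduct.tprod R t) ∈ LinearMap.range
              (PiTensorProduct.map (R := R) (fun _ : Fin (j + 1) => F₂.subtype)) :=
          h ⟨_, rfl⟩
        obtain ⟨s, hs⟩ := hmem
        have h0 : prodFun χ (PiTensorProduct.map (R := R) (fun _ : Fin (j + 1) => F₁.subtype)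
            (PiTensorProduct.tprod R t)) = 0 := by
          rw [← hs]
          have := congrArg (fun L => L s) hvan
          simpa using this
        rw [PiTensorProduct.map_tprod, prodFun_tprod, Fin.prod_univ_succ] at h0
        simp only [χ, t, Fin.cons_zero, Fin.cons_succ, Submodule.subtype_apply,
          LinearMap.coe_comp, Function.comp_apply, hp₁] at h0
        rw [mul_comm]
        exact h0
      | succ d ih =>
        intro j hj z φ x'
        have hj' : (j + 1) + d = k' := by omega
        rw [hexp x']
        simp only [Submodule.coe_sum, Submodule.coe_smul, map_sum, map_smul, smul_eq_mul,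
          Finset.mul_sum]
        apply Finset.sum_eq_zero
        intro i _
        have := ih (j + 1) hj' (Fin.snoc z x') (Fin.snoc φ ((LinearMap.proj i) ∘ₗ g))
          (f (Pi.single i 1))
        rw [Fin.prod_univ_castSucc] at this
        simp only [Fin.snoc_castSucc, Fin.snoc_last, LinearMap.coe_comp, Function.comp_apply,
          LinearMap.proj_apply] at this
        rw [← this]
        ring
    have := hP k' 0 (by omega) Fin.elim0 Fin.elim0 ⟨x, hx⟩
    simpa [χ₀] using this
  exact (Submodule.projectionOnto_apply_eq_zero_iff h₂.symm).mp hgoal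

theorem main [Module.Finite R M] [Module.Projective R M] (F₁ F₂ : Submodule R M)
    (h₁ : ∃ C : Submodule R M, IsCompl F₁ C) (h₂ : ∃ C : Submodule R M, IsCompl F₂ C) (k : ℕ)
    (hk : 1 ≤ k) :
    LinearMap.range (PiTensorProduct.map (R := R) (fun _ : Fin k => F₁.subtype)) =
      LinearMap.range (PiTensorProduct.map (R := R) (fun _ : Fin k => F₂.subtype)) ↔ F₁ = F₂ := by
  constructor
  · intro h
    obtain ⟨C₁, hC₁⟩ := h₁
    obtain ⟨C₂, hC₂⟩ := h₂
    obtain ⟨k', rfl⟩ : ∃ k', k = k' + 1 := ⟨k - 1, by omega⟩
    exact le_antisymm (key F₁ F₂ C₁ C₂ hC₁ hC₂ k' h.le) (key F₂ F₁ C₂ C₁ hC₂ hC₁ k' h.ge)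
  · rintro rfl
    rfl

end SummandPow

end Groth.Agent.S19148.Aux

namespace Groth.Agent.S19148

/-- In affine form, let R be a commutative ring, M a finitely generated projective R-module (a finite
locally free sheaf on Spec R), F₁ and F₂ direct summands of M and k ≥ 1. Then the images of F₁^{⊗k}
and F₂^{⊗k} in the k-th tensor power M^{⊗k} are equal if and only if F₁ = F₂. (The source states
this for local direct factors of a finite locally free sheaf on a scheme; equality of subsheaves
being local, this is the affine case with global direct summands, to which it reduces.) -/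
theorem result {R : Type u} [CommRing R] {M : Type v} [AddCommGroup M] [Module R M]
    [Module.Finite R M] [Module.Projective R M] (F₁ F₂ : Submodule R M)
    (h₁ : ∃ C : Submodule R M, IsCompl F₁ C) (h₂ : ∃ C : Submodule R M, IsCompl F₂ C) (k : ℕ) (hk : 1 ≤ k) :
    LinearMap.range (PiTensorProduct.map (R := R) (fun _ : Fin k => F₁.subtype)) =
      LinearMap.range (PiTensorProduct.map (R := R) (fun _ : Fin k => F₂.subtype)) ↔ F₁ = F₂ := by
  exact Aux.SummandPow.main F₁ F₂ h₁ h₂ k hk

end Groth.Agent.S19148
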