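import Groth.Statements.S19158
import Mathlib
-- import your own Groth.Agent.* helpers here

set_option autoImplicit false
universe u v w
open FiltMod

namespace Groth.Agent.S19158.Aux

set_option autoImplicit false

namespace FiltSplit


open DirectSum

section gen

variable {Γ : Type w} [LinearOrder Γ] {R : Type u} [CommRing R] {N : Type v} [AddCommGroup N]
  [Module R N]

/-- a family indexed by a linear order, each member disjoint from the sum of the later ones, is
independent -/
theorem indep_of_disjoint_above (C : Γ → Submodule R N)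
    (h : ∀ γ, Disjoint (C γ) (⨆ η ∈ Set.Ioi γ, C η)) : iSupIndep C := by
  classical
  apply iSupIndep_of_dfinsupp_lsum_injective
  rw [injective_iff_map_eq_zero]
  intro m hm
  by_contra hne
  have hsupp : m.support.Nonempty := by
    rw [Finset.nonempty_iff_ne_empty]
    intro h0
    exact hne (DFinsupp.support_eq_empty.mp h0)
  set γ₁ := m.support.min' hsupp with hγ₁
  have hγ₁mem : γ₁ ∈ m.support := Finset.min'_mem _ _
  rw [DFinsupp.lsum_apply_apply, DFinsupp.sumAddHom_apply, DFinsupp.sum] at hm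
  rw [← Finset.add_sum_erase _ _ hγ₁mem] at hm
  simp only [LinearMap.toAddMonoidHom_coe, Submodule.subtype_apply] at hm
  have h1 : ((m γ₁ : C γ₁) : N) = - ∑ x ∈ m.support.erase γ₁, ((m x : C x) : N) :=
    eq_neg_of_add_eq_zero_left hm
  have h2 : ((m γ₁ : C γ₁) : N) ∈ ⨆ η ∈ Set.Ioi γ₁, C η := by
    rw [h1]
    apply Submodule.neg_mem
    apply Submodule.sum_mem
    intro x hx
    have hx' := Finset.mem_erase.mp hx
    have hlt : γ₁ < x := lt_of_le_of_ne (Finset.min'_le _ _ hx'.2) (Ne.symm hx'.1)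
    exact Submodule.mem_iSup_of_mem x (Submodule.mem_iSup_of_mem hlt (m x).2)
  have h3 : ((m γ₁ : C γ₁) : N) = 0 :=
    Submodule.disjoint_def.mp (h γ₁) _ (m γ₁).2 h2
  have : m γ₁ = 0 := Subtype.ext h3
  exact (DFinsupp.mem_support_iff.mp hγ₁mem) this


/-- chain lemma: complements at finitely many jumps assemble to a splitting. -/
theorem chain [NoMaxOrder Γ] [Nonempty Γ] (F' C : Γ → Submodule R N) (hanti : Antitone F') (J : Finset Γ)
    (h1 : ∀ γ, C γ ≤ F' γ)
    (h2 : ∀ γ, F' γ ≤ C γ ⊔ ⨆ η ∈ Set.Ioi γ, F' η)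
    (h3 : ∀ γ, Disjoint (C γ) (⨆ η ∈ Set.Ioi γ, F' η))
    (h4 : ∀ γ, γ ∉ J → C γ = ⊥)
    (h5 : ∀ γ γ', (∀ η ∈ J, γ ≤ η ↔ γ' ≤ η) → F' γ = F' γ')
    (h6a : ∀ γ, (∀ η ∈ J, γ ≤ η) → F' γ = ⊤)
    (h6b : ∀ γ, (∀ η ∈ J, ¬ γ ≤ η) → F' γ = ⊥) :
    DirectSum.IsInternal C ∧ ∀ γ, F' γ = ⨆ η ∈ Set.Ici γ, C η := by
  classical
  -- Step 1
  have step1 : ∀ (n : ℕ) (γ : Γ), (J.filter (fun η => γ ≤ η)).card = n →
      F' γ = ⨆ η ∈ Set.Ici γ, C η := by
    intro n
    induction n using Nat.strong_induction_on with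
    | _ n ih =>
      intro γ hcard
      set S := J.filter (fun η => γ ≤ η) with hS
      by_cases hSe : S = ∅
      · have hb : F' γ = ⊥ := by
          apply h6b
          intro η hη hle
          have : η ∈ S := Finset.mem_filter.mpr ⟨hη, hle⟩
          rw [hSe] at this
          exact absurd this (Finset.notMem_empty _)
        rw [hb]
        symm
        rw [eq_bot_iff]
        apply iSup₂_le
        intro η hη
        have : η ∉ J := by
          intro hJ
          have : η ∈ S := Finset.mem_filter.mpr ⟨hJ, hη⟩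
          rw [hSe] at this
          exact absurd this (Finset.notMem_empty _)
        rw [h4 η this]
      · have hSne : S.Nonempty := Finset.nonempty_iff_ne_empty.mpr hSe
        set γ' := S.min' hSne with hγ'
        have hγ'S : γ' ∈ S := Finset.min'_mem _ _
        have hγγ' : γ ≤ γ' := (Finset.mem_filter.mp hγ'S).2
        have hγ'J : γ' ∈ J := (Finset.mem_filter.mp hγ'S).1
        have hFγ : F' γ = F' γ' := by
          apply h5
          intro η hη
          constructor
          · intro hle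
            exact Finset.min'_le _ _ (Finset.mem_filter.mpr ⟨hη, hle⟩)
          · intro hle
            exact hγγ'.trans hle
        set S' := J.filter (fun η => γ' < η) with hS'
        -- choose η₀
        obtain ⟨η₀, hη₀gt, hη₀min, hη₀J⟩ : ∃ η₀, γ' < η₀ ∧ (∀ ζ ∈ S', η₀ ≤ ζ) ∧
            (S'.Nonempty → η₀ ∈ S') := by
          by_cases hS'e : S'.Nonempty
          · refine ⟨S'.min' hS'e, ?_, fun ζ hζ => Finset.min'_le _ _ hζ, fun _ => Finset.min'_mem _ _⟩
            exact (Finset.mem_filter.mp (Finset.min'_mem _ hS'e)).2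
          · obtain ⟨η₀, hη₀⟩ := exists_gt γ'
            refine ⟨η₀, hη₀, fun ζ hζ => absurd ⟨ζ, hζ⟩ hS'e, fun h => absurd h hS'e⟩
        have hplus : (⨆ η ∈ Set.Ioi γ', F' η) = F' η₀ := by
          apply le_antisymm
          · apply iSup₂_le
            intro η hη
            have hη' : γ' < η := hη
            rcases le_or_gt η η₀ with hle | hgt
            · have : F' η = F' η₀ := by
                apply h5
                intro ζ hζ
                constructor
                · intro hηζ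
                  exact hη₀min ζ (Finset.mem_filter.mpr ⟨hζ, lt_of_lt_of_le hη' hηζ⟩)
                · intro h; exact hle.trans h
              rw [this]
            · exact hanti hgt.le
          · exact le_iSup₂_of_le η₀ hη₀gt le_rfl
        have hcard' : (J.filter (fun η => η₀ ≤ η)).card < n := by
          rw [← hcard]
          apply Finset.card_lt_card
          rw [Finset.ssubset_iff_of_subset]
          · refine ⟨γ', hγ'S, ?_⟩
            intro hmem
            have := (Finset.mem_filter.mp hmem).2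
            exact absurd hη₀gt (not_lt.mpr this)
          · intro ζ hζ
            have hζ' := Finset.mem_filter.mp hζ
            exact Finset.mem_filter.mpr ⟨hζ'.1, hγγ'.trans (hη₀gt.le.trans hζ'.2)⟩
        have hih := ih _ hcard' η₀ rfl
        have hFγ' : F' γ' = C γ' ⊔ F' η₀ := by
          apply le_antisymm
          · rw [← hplus]; exact h2 γ'
          · exact sup_le (h1 γ') (hanti hη₀gt.le)
        rw [hFγ, hFγ', hih]
        apply le_antisymm
        · apply sup_le
          · exact le_iSup₂_of_le γ' hγγ' le_rfl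
          · apply iSup₂_le
            intro η hη
            exact le_iSup₂_of_le η (hγγ'.trans (hη₀gt.le.trans hη)) le_rfl
        · apply iSup₂_le
          intro η hη
          have hη' : γ ≤ η := hη
          by_cases hJ : η ∈ J
          · have hηS : η ∈ S := Finset.mem_filter.mpr ⟨hJ, hη'⟩
            have hge : γ' ≤ η := Finset.min'_le _ _ hηS
            rcases hge.eq_or_lt with heq | hlt
            · rw [← heq]; exact le_sup_left
            · have : η ∈ S' := Finset.mem_filter.mpr ⟨hJ, hlt⟩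
              exact le_sup_of_le_right (le_iSup₂_of_le η (hη₀min η this) le_rfl)
          · rw [h4 η hJ]; exact bot_le
  have hF : ∀ γ, F' γ = ⨆ η ∈ Set.Ici γ, C η := fun γ => step1 _ γ rfl
  refine ⟨?_, hF⟩
  apply DirectSum.isInternal_submodule_of_iSupIndep_of_iSup_eq_top
  · apply indep_of_disjoint_above
    intro γ
    apply (h3 γ).mono_right
    apply iSup₂_le
    intro η hη
    exact le_iSup₂_of_le η hη (h1 η)
  · -- top
    obtain ⟨γ₀, hγ₀⟩ : ∃ γ₀, ∀ η ∈ J, γ₀ ≤ η := by
      by_cases hJ : J.Nonempty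
      · exact ⟨J.min' hJ, fun η hη => Finset.min'_le _ _ hη⟩
      · obtain ⟨γ₀⟩ := ‹Nonempty Γ›
        exact ⟨γ₀, fun η hη => absurd ⟨η, hη⟩ hJ⟩
    rw [eq_top_iff, ← h6a γ₀ hγ₀, hF γ₀]
    apply iSup₂_le
    intro η _
    exact le_iSup C η


section proj

variable {Γ' : Type w} [DecidableEq Γ'] (G : Γ' → Submodule R N) (hG : DirectSum.IsInternal G)

/-- graded projection attached to an internal direct sum decomposition. -/
noncomputable def gproj (γ : Γ') : N →ₗ[R] N :=
  (G γ).subtype ∘ₗ DirectSum.component R Γ' (fun γ => G γ) γ ∘ₗ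
    (LinearEquiv.ofBijective (DirectSum.coeLinearMap G) hG).symm.toLinearMap

theorem gproj_mem (γ : Γ') (m : N) : gproj G hG γ m ∈ G γ := by
  simp only [gproj, LinearMap.coe_comp, Function.comp_apply, Submodule.subtype_apply]
  exact Submodule.coe_mem _

theorem symm_of_mem (η : Γ') (m : N) (hm : m ∈ G η) :
    (LinearEquiv.ofBijective (DirectSum.coeLinearMap G) hG).symm m
      = DirectSum.lof R Γ' (fun γ => G γ) η ⟨m, hm⟩ := by
  rw [LinearEquiv.symm_apply_eq]
  simp only [LinearEquiv.ofBijective_apply]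
  exact (DirectSum.coeLinearMap_of G η ⟨m, hm⟩).symm

theorem gproj_of_mem (γ : Γ') (m : N) (hm : m ∈ G γ) : gproj G hG γ m = m := by
  simp only [gproj, LinearMap.coe_comp, Function.comp_apply, LinearEquiv.coe_coe,
    symm_of_mem G hG γ m hm, DirectSum.component.lof_self, Submodule.subtype_apply]

theorem gproj_of_mem_ne (γ η : Γ') (hne : η ≠ γ) (m : N) (hm : m ∈ G η) :
    gproj G hG γ m = 0 := by
  simp only [gproj, LinearMap.coe_comp, Function.comp_apply, LinearEquiv.coe_coe,
    symm_of_mem G hG η m hm, DirectSum.component.of, dif_neg hne, map_zero]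

theorem gproj_eq_zero_of_mem_iSup (γ : Γ') (P : Γ' → Prop) (hP : ¬ P γ) (m : N)
    (hm : m ∈ ⨆ η ∈ {η | P η}, G η) : gproj G hG γ m = 0 := by
  have : (⨆ η ∈ {η | P η}, G η) ≤ LinearMap.ker (gproj G hG γ) := by
    apply iSup₂_le
    intro η hη x hx
    rw [LinearMap.mem_ker]
    apply gproj_of_mem_ne G hG γ η _ x hx
    rintro rfl
    exact hP hη
  exact this hm

theorem sub_gproj_mem (γ : Γ') (P : Γ' → Prop) (hP : P γ) (m : N)
    (hm : m ∈ ⨆ η ∈ {η | P η}, G η) :
    m - gproj G hG γ m ∈ ⨆ η ∈ {η | P η ∧ η ≠ γ}, G η := by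
  have : (⨆ η ∈ {η | P η}, G η) ≤ Submodule.comap (LinearMap.id - gproj G hG γ)
      (⨆ η ∈ {η | P η ∧ η ≠ γ}, G η) := by
    apply iSup₂_le
    intro η hη x hx
    rw [Submodule.mem_comap]
    simp only [LinearMap.sub_apply, LinearMap.id_coe, id_eq]
    by_cases hηγ : η = γ
    · subst hηγ
      rw [gproj_of_mem G hG η x hx, sub_self]
      exact Submodule.zero_mem _
    · rw [gproj_of_mem_ne G hG γ η hηγ x hx, sub_zero]
      exact Submodule.mem_iSup_of_mem η (Submodule.mem_iSup_of_mem ⟨hη, hηγ⟩ hx)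
  exact this hm

include hG in
theorem finite_ne_bot [Module.Finite R N] : {γ | G γ ≠ ⊥}.Finite := by
  have htop : (⊤ : Submodule R N) ≤ ⨆ γ, G γ := by
    rw [DirectSum.IsInternal.submodule_iSup_eq_top hG]
  have hc : IsCompactElement (⊤ : Submodule R N) :=
    (Submodule.fg_iff_compact _).mp Module.Finite.fg_top
  obtain ⟨T, hT⟩ := CompleteLattice.IsCompactElement.exists_finset_of_le_iSup _ hc _ htop
  apply Set.Finite.subset T.finite_toSet
  intro γ hγ
  by_contra hnot
  apply hγ
  have hind := DirectSum.IsInternal.submodule_iSupIndep hG γ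
  rw [eq_bot_iff]
  intro x hx
  have h1 : x ∈ ⨆ η ∈ T, G η := hT (Submodule.mem_top)
  have h2 : (⨆ η ∈ T, G η) ≤ ⨆ (η) (_ : η ≠ γ), G η := by
    apply iSup₂_le
    intro η hη
    have : η ≠ γ := by
      rintro rfl
      exact hnot hη
    exact le_iSup₂_of_le η this le_rfl
  exact Submodule.disjoint_def.mp hind x hx (h2 h1)

end proj

end gen

section main

variable {Γ : Type w} [AddCommGroup Γ] [LinearOrder Γ] [IsOrderedAddMonoid Γ] [Nontrivial Γ]
    {R : Type u} [CommRing R] {A : Type v} [Fintype A] (M : A → Type v) [∀ a, AddCommGroup (M a)]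
    [∀ a, Module R (M a)] [∀ a, Module.Finite R (M a)]
    (F : ∀ a, Γ → Submodule R (M a)) (hF : ∀ a, Antitone (F a))

include hF in
theorem of_pi (G : Γ → Submodule R (∀ a, M a)) (hG : DirectSum.IsInternal G)
    (hFG : ∀ γ, Submodule.pi Set.univ (fun a => F a γ) = ⨆ η ∈ Set.Ici γ, G η) (a : A) :
    ∃ G' : Γ → Submodule R (M a), DirectSum.IsInternal G' ∧
      ∀ γ, F a γ = ⨆ η ∈ Set.Ici γ, G' η := by
  classical
  set ι : M a →ₗ[R] (∀ a, M a) := LinearMap.single R M a with hι
  set π : (∀ a, M a) →ₗ[R] M a := LinearMap.proj a with hπ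
  have hπι : ∀ x, π (ι x) = x := fun x => by simp [hι, hπ]
  have hιmem : ∀ γ x, x ∈ F a γ → ι x ∈ ⨆ η ∈ Set.Ici γ, G η := by
    intro γ x hx
    rw [← hFG γ]
    exact Submodule.le_comap_single_pi (fun a => F a γ) hx
  have hπmem : ∀ γ m, m ∈ ⨆ η ∈ Set.Ici γ, G η → π m ∈ F a γ := by
    intro γ m hm
    rw [← hFG γ] at hm
    exact hm a trivial
  have hGle : ∀ γ, G γ ≤ ⨆ η ∈ Set.Ici γ, G η := fun γ =>
    le_iSup₂_of_le γ (Set.mem_Ici.mpr le_rfl) le_rfl
  have hfin := finite_ne_bot G hG
  set J := hfin.toFinset with hJ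
  have hJmem : ∀ γ, γ ∈ J ↔ G γ ≠ ⊥ := by
    intro γ
    simp [hJ]
  let C : Γ → Submodule R (M a) := fun γ => ((F a γ).map ι).map (π ∘ₗ gproj G hG γ)
  have hCmem : ∀ γ y, y ∈ C γ ↔ ∃ x ∈ F a γ, π (gproj G hG γ (ι x)) = y := by
    intro γ y
    simp only [C, Submodule.mem_map, LinearMap.coe_comp, Function.comp_apply]
    constructor
    · rintro ⟨_, ⟨x, hx, rfl⟩, rfl⟩
      exact ⟨x, hx, rfl⟩
    · rintro ⟨x, hx, rfl⟩
      exact ⟨_, ⟨x, hx, rfl⟩, rfl⟩
  -- projection of the strictly higher part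
  have hπplus : ∀ γ m, m ∈ ⨆ η ∈ {η | γ ≤ η ∧ η ≠ γ}, G η → π m ∈ ⨆ η ∈ Set.Ioi γ, F a η := by
    intro γ m hm
    have : (⨆ η ∈ {η | γ ≤ η ∧ η ≠ γ}, G η) ≤
        Submodule.comap π (⨆ η ∈ Set.Ioi γ, F a η) := by
      apply iSup₂_le
      intro η hη x hx
      have hlt : γ < η := lt_of_le_of_ne hη.1 (Ne.symm hη.2)
      rw [Submodule.mem_comap]
      exact Submodule.mem_iSup_of_mem η (Submodule.mem_iSup_of_mem hlt (hπmem η x (hGle η hx)))
    exact this hm
  have hdecomp : ∀ γ x, x ∈ F a γ →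
      x - π (gproj G hG γ (ι x)) ∈ ⨆ η ∈ Set.Ioi γ, F a η := by
    intro γ x hx
    have h1 : ι x - gproj G hG γ (ι x) ∈ ⨆ η ∈ {η | γ ≤ η ∧ η ≠ γ}, G η :=
      sub_gproj_mem G hG γ (fun η => γ ≤ η) le_rfl (ι x) (hιmem γ x hx)
    have h2 := hπplus γ _ h1
    rwa [map_sub, hπι] at h2
  have hιplus : ∀ γ x, x ∈ ⨆ η ∈ Set.Ioi γ, F a η → ι x ∈ ⨆ ζ ∈ {ζ | γ < ζ}, G ζ := by
    intro γ x hx
    have : (⨆ η ∈ Set.Ioi γ, F a η) ≤ Submodule.comap ι (⨆ ζ ∈ {ζ | γ < ζ}, G ζ) := by
      apply iSup₂_le
      intro η hη y hy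
      rw [Submodule.mem_comap]
      have h1 := hιmem η y hy
      have h2 : (⨆ ζ ∈ Set.Ici η, G ζ) ≤ ⨆ ζ ∈ {ζ | γ < ζ}, G ζ := by
        apply iSup₂_le
        intro ζ hζ
        have hη' : γ < η := hη
        have hζ' : η ≤ ζ := hζ
        exact le_iSup₂_of_le ζ (lt_of_lt_of_le hη' hζ') le_rfl
      exact h2 h1
    exact this hx
  have hGbot : ∀ γ, γ ∉ J → G γ = ⊥ := by
    intro γ hγ
    by_contra hne
    exact hγ ((hJmem γ).mpr hne)
  suffices hch : DirectSum.IsInternal C ∧ ∀ γ, F a γ = ⨆ η ∈ Set.Ici γ, C η from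
    ⟨C, hch.1, hch.2⟩
  apply chain (F a) C (hF a) J
  · -- h1
    intro γ y hy
    obtain ⟨x, hx, rfl⟩ := (hCmem γ y).mp hy
    exact hπmem γ _ (hGle γ (gproj_mem G hG γ _))
  · -- h2
    intro γ x hx
    have : x = π (gproj G hG γ (ι x)) + (x - π (gproj G hG γ (ι x))) := by abel
    rw [this]
    exact Submodule.add_mem_sup ((hCmem γ _).mpr ⟨x, hx, rfl⟩) (hdecomp γ x hx)
  · -- h3
    intro γ
    rw [Submodule.disjoint_def]
    intro y hy hy'
    obtain ⟨x, hx, rfl⟩ := (hCmem γ y).mp hy
    have hxplus : x ∈ ⨆ η ∈ Set.Ioi γ, F a η := by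
      have : x = (x - π (gproj G hG γ (ι x))) + π (gproj G hG γ (ι x)) := by abel
      rw [this]
      exact Submodule.add_mem _ (hdecomp γ x hx) hy'
    have h0 : gproj G hG γ (ι x) = 0 :=
      gproj_eq_zero_of_mem_iSup G hG γ (fun ζ => γ < ζ) (lt_irrefl γ) (ι x) (hιplus γ x hxplus)
    rw [h0, map_zero]
  · -- h4
    intro γ hγ
    rw [eq_bot_iff]
    intro y hy
    obtain ⟨x, hx, rfl⟩ := (hCmem γ y).mp hy
    have hmem := gproj_mem G hG γ (ι x)
    rw [hGbot γ hγ, Submodule.mem_bot] at hmem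
    rw [hmem, map_zero]
    exact Submodule.zero_mem _
  · -- h5
    have key : ∀ γ γ', (∀ η ∈ J, γ ≤ η → γ' ≤ η) → F a γ ≤ F a γ' := by
      intro γ γ' h x hx
      have h1 := hιmem γ x hx
      have h2 : (⨆ η ∈ Set.Ici γ, G η) ≤ ⨆ η ∈ Set.Ici γ', G η := by
        apply iSup₂_le
        intro η hη
        by_cases hJη : η ∈ J
        · exact le_iSup₂_of_le η (h η hJη hη) le_rfl
        · rw [hGbot η hJη]
          exact bot_le
      have h3 := hπmem γ' _ (h2 h1)
      rwa [hπι] at h3
    intro γ γ' h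
    exact le_antisymm (key γ γ' fun η hη => (h η hη).mp) (key γ' γ fun η hη => (h η hη).mpr)
  · -- h6a
    intro γ h
    rw [eq_top_iff]
    intro x _
    have h1 : ι x ∈ ⨆ η ∈ Set.Ici γ, G η := by
      have h2 : (⊤ : Submodule R (∀ a, M a)) ≤ ⨆ η ∈ Set.Ici γ, G η := by
        rw [← DirectSum.IsInternal.submodule_iSup_eq_top hG]
        apply iSup_le
        intro η
        by_cases hJη : η ∈ J
        · exact le_iSup₂_of_le η (h η hJη) le_rfl
        · rw [hGbot η hJη]
          exact bot_le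
      exact h2 Submodule.mem_top
    have h3 := hπmem γ _ h1
    rwa [hπι] at h3
  · -- h6b
    intro γ h
    rw [eq_bot_iff]
    intro x hx
    have h1 := hιmem γ x hx
    have h2 : (⨆ η ∈ Set.Ici γ, G η) ≤ ⊥ := by
      apply iSup₂_le
      intro η hη
      have : η ∉ J := fun hJη => h η hJη hη
      rw [hGbot η this]
    have h3 : ι x = 0 := (Submodule.mem_bot R).mp (h2 h1)
    rw [Submodule.mem_bot, ← hπι x, h3, map_zero]

theorem to_pi (G' : ∀ a, Γ → Submodule R (M a))
    (hG' : ∀ a, DirectSum.IsInternal (G' a))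
    (hFG : ∀ a γ, F a γ = ⨆ η ∈ Set.Ici γ, G' a η) :
    ∃ G : Γ → Submodule R (∀ a, M a), DirectSum.IsInternal G ∧
        ∀ γ, Submodule.pi Set.univ (fun a => F a γ) = ⨆ η ∈ Set.Ici γ, G η := by
  classical
  refine ⟨fun γ => Submodule.pi Set.univ (fun a => G' a γ), ?_, ?_⟩
  · apply DirectSum.isInternal_submodule_of_iSupIndep_of_iSup_eq_top
    · intro γ
      rw [Submodule.disjoint_def]
      intro x hx hx'
      funext a
      have h1 : x a ∈ G' a γ := hx a trivial
      have h2 : x a ∈ ⨆ (η) (_ : η ≠ γ), G' a η := by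
        have : (⨆ (η) (_ : η ≠ γ), Submodule.pi Set.univ (fun a => G' a η)) ≤
            Submodule.comap (LinearMap.proj a) (⨆ (η) (_ : η ≠ γ), G' a η) := by
          apply iSup₂_le
          intro η hη m hm
          exact Submodule.mem_iSup_of_mem η (Submodule.mem_iSup_of_mem hη (hm a trivial))
        exact this hx'
      exact Submodule.disjoint_def.mp
        (DirectSum.IsInternal.submodule_iSupIndep (hG' a) γ) _ h1 h2
    · rw [eq_top_iff]
      intro m _
      rw [← Finset.univ_sum_single m]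
      apply Submodule.sum_mem
      intro a _
      have : (⊤ : Submodule R (M a)) ≤ Submodule.comap (LinearMap.single R M a)
          (⨆ γ, Submodule.pi Set.univ (fun a => G' a γ)) := by
        rw [← DirectSum.IsInternal.submodule_iSup_eq_top (hG' a)]
        apply iSup_le
        intro γ x hx
        exact Submodule.mem_iSup_of_mem γ
          (Submodule.le_comap_single_pi (fun a => G' a γ) hx)
      exact this Submodule.mem_top
  · intro γ
    apply le_antisymm
    · intro m hm
      rw [← Finset.univ_sum_single m]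
      apply Submodule.sum_mem
      intro a _
      have : F a γ ≤ Submodule.comap (LinearMap.single R M a)
          (⨆ η ∈ Set.Ici γ, Submodule.pi Set.univ (fun a => G' a η)) := by
        rw [hFG a γ]
        apply iSup₂_le
        intro η hη x hx
        exact Submodule.mem_iSup_of_mem η (Submodule.mem_iSup_of_mem hη
          (Submodule.le_comap_single_pi (fun a => G' a η) hx))
      exact this (hm a trivial)
    · apply iSup₂_le
      intro η hη
      apply Submodule.pi_mono
      intro a _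
      rw [hFG a γ]
      exact le_iSup₂_of_le η hη le_rfl

include hF in
theorem main :
    (∃ G : Γ → Submodule R (∀ a, M a), DirectSum.IsInternal G ∧
        ∀ γ, Submodule.pi Set.univ (fun a => F a γ) = ⨆ η ∈ Set.Ici γ, G η) ↔
    ∀ a, ∃ G : Γ → Submodule R (M a), DirectSum.IsInternal G ∧
      ∀ γ, F a γ = ⨆ η ∈ Set.Ici γ, G η := by
  constructor
  · rintro ⟨G, hG, hFG⟩ a
    exact of_pi M F hF G hG hFG a
  · intro h
    choose G' hG' hFG' using h
    exact to_pi M F G' hG' hFG'

end main

end FiltSplit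

end Groth.Agent.S19158.Aux

namespace Groth.Agent.S19158

/-- In affine form, let Γ be a non-trivial totally ordered commutative group, R a commutative ring and
(M_a) a finite family of finitely generated projective R-modules, each carrying a non-increasing
Γ-indexed family of submodules F_a; give M = Π_a M_a the family F^γ = Π_a F_a^γ. Then F is split by
a Γ-grading of M (an internal direct sum decomposition M = ⊕_γ G_γ with F^γ = Σ_{η ≥ γ} G_η for all
γ) if and only if each F_a is split by a Γ-grading of M_a. (The published statement is for finite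
locally free sheaves on a scheme, where a filtration counts as split when it is split by a grading
locally on the scheme; this row is the affine case, in which that is the same as being split by one
global grading.) -/
theorem result
    {Γ : Type w} [AddCommGroup Γ] [LinearOrder Γ] [IsOrderedAddMonoid Γ] [Nontrivial Γ]
    {R : Type u} [CommRing R] {A : Type v} [Fintype A] (M : A → Type v) [∀ a, AddCommGroup (M a)] [∀ a, Module R (M a)]
    [∀ a, Module.Finite R (M a)] [∀ a, Module.Projective R (M a)]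
    (F : ∀ a, Γ → Submodule R (M a)) (hF : ∀ a, Antitone (F a)) :
    (∃ G : Γ → Submodule R (∀ a, M a), DirectSum.IsInternal G ∧
        ∀ γ, Submodule.pi Set.univ (fun a => F a γ) = ⨆ η ∈ Set.Ici γ, G η) ↔
    ∀ a, ∃ G : Γ → Submodule R (M a), DirectSum.IsInternal G ∧ ∀ γ, F a γ = ⨆ η ∈ Set.Ici γ, G η := by
  exact Aux.FiltSplit.main M F hF

end Groth.Agent.S19158
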