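import Groth.Statements.S19154
import Mathlib
import Groth.Agent.S19158
-- import your own Groth.Agent.* helpers here

set_option autoImplicit false
open scoped TensorProduct
universe u v w
open FiltMod

namespace Groth.Agent.S19154.Aux

set_option autoImplicit false

namespace FiltGr


open DirectSum TensorProduct
open Groth.Agent.S19158.Aux.FiltSplit

section alg

variable {Γ : Type w} [LinearOrder Γ] {R : Type u} [CommRing R] {N : Type v} [AddCommGroup N]
  [Module R N]

/-- complements of the strictly higher part which span everything give a splitting -/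
theorem splitting_of_complements (F Fp G : Γ → Submodule R N) (hF : Antitone F)
    (hFp : ∀ γ, Fp γ = ⨆ η ∈ Set.Ioi γ, F η)
    (h1 : ∀ γ, G γ ≤ F γ) (h2 : ∀ γ, Disjoint (G γ) (Fp γ))
    (h4 : ⨆ γ, G γ = ⊤) :
    DirectSum.IsInternal G ∧ ∀ γ, F γ = ⨆ η ∈ Set.Ici γ, G η := by
  classical
  have hGFp : ∀ γ η, γ < η → G η ≤ Fp γ := by
    intro γ η hlt
    rw [hFp γ]
    exact le_iSup₂_of_le η hlt (h1 η)
  have hFFp : ∀ γ η, γ < η → F η ≤ Fp γ := by
    intro γ η hlt
    rw [hFp γ]
    exact le_iSup₂_of_le η hlt le_rfl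
  have hind : iSupIndep G := by
    apply indep_of_disjoint_above
    intro γ
    apply (h2 γ).mono_right
    apply iSup₂_le
    intro η hη
    exact hGFp γ η hη
  refine ⟨DirectSum.isInternal_submodule_of_iSupIndep_of_iSup_eq_top hind h4, ?_⟩
  intro γ
  apply le_antisymm
  · -- key claim
    have key : ∀ T : Finset Γ, ∀ x ∈ ⨆ η ∈ T, G η, x ∈ F γ → x ∈ ⨆ η ∈ Set.Ici γ, G η := by
      intro T
      induction T using Finset.induction_on_min with
      | empty =>
        intro x hx _
        simp only [Finset.notMem_empty, iSup_false, iSup_bot, Submodule.mem_bot] at hx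
        rw [hx]
        exact Submodule.zero_mem _
      | insert a s ha ih =>
        intro x hx hxF
        by_cases hγa : γ ≤ a
        · have : (⨆ η ∈ insert a s, G η) ≤ ⨆ η ∈ Set.Ici γ, G η := by
            apply iSup₂_le
            intro η hη
            rcases Finset.mem_insert.mp hη with rfl | hηs
            · exact le_iSup₂_of_le η hγa le_rfl
            · exact le_iSup₂_of_le η (hγa.trans (ha η hηs).le) le_rfl
          exact this hx
        · have haγ : a < γ := not_le.mp hγa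
          rw [Finset.iSup_insert] at hx
          obtain ⟨x₀, hx₀, x', hx', rfl⟩ := Submodule.mem_sup.mp hx
          have hx'Fp : x' ∈ Fp a := by
            have : (⨆ η ∈ s, G η) ≤ Fp a := by
              apply iSup₂_le
              intro η hη
              exact hGFp a η (ha η hη)
            exact this hx'
          have hxFp : x₀ + x' ∈ Fp a := hFFp a γ haγ hxF
          have hx₀Fp : x₀ ∈ Fp a := by
            have := Submodule.sub_mem _ hxFp hx'Fp
            rwa [add_sub_cancel_right] at this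
          have hx₀0 : x₀ = 0 := Submodule.disjoint_def.mp (h2 a) x₀ hx₀ hx₀Fp
          rw [hx₀0, zero_add] at hxF ⊢
          exact ih x' hx' hxF
    intro x hx
    have hxtop : x ∈ ⨆ γ, G γ := by
      rw [h4]; exact Submodule.mem_top
    obtain ⟨T, hT⟩ := (Submodule.mem_iSup_iff_exists_finset).mp hxtop
    exact key T x hT hx
  · apply iSup₂_le
    intro η hη
    exact (h1 η).trans (hF hη)

/-- a complement of `Fp` inside `F`, from projectivity of the quotient -/
theorem exists_complement (F Fp : Submodule R N)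
    [Module.Projective R (↥F ⧸ Submodule.comap F.subtype Fp)] :
    ∃ G : Submodule R N, G ≤ F ∧ Disjoint G Fp ∧ F ≤ G ⊔ Fp := by
  set K := Submodule.comap F.subtype Fp with hK
  obtain ⟨s, hs⟩ := Module.projective_lifting_property K.mkQ LinearMap.id
    (Submodule.mkQ_surjective K)
  have hs' : ∀ q, K.mkQ (s q) = q := fun q => by
    have := LinearMap.congr_fun hs q
    simpa using this
  refine ⟨Submodule.map F.subtype (LinearMap.range s), ?_, ?_, ?_⟩
  · intro x hx
    obtain ⟨y, _, rfl⟩ := Submodule.mem_map.mp hx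
    exact y.2
  · rw [Submodule.disjoint_def]
    intro x hx hxFp
    obtain ⟨y, hy, rfl⟩ := Submodule.mem_map.mp hx
    obtain ⟨q, rfl⟩ := LinearMap.mem_range.mp hy
    have hmem : s q ∈ K := hxFp
    have h0 : K.mkQ (s q) = 0 := (Submodule.Quotient.mk_eq_zero K).mpr hmem
    rw [hs'] at h0
    rw [h0, map_zero, map_zero]
  · intro x hx
    set x' : F := ⟨x, hx⟩ with hx'
    have hdiff : x' - s (K.mkQ x') ∈ K := by
      rw [← Submodule.Quotient.mk_eq_zero K]
      have : K.mkQ (x' - s (K.mkQ x')) = 0 := by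
        rw [map_sub, hs', sub_self]
      exact this
    have hx_eq : x = F.subtype (s (K.mkQ x')) + F.subtype (x' - s (K.mkQ x')) := by
      rw [← map_add]
      simp [hx']
    rw [hx_eq]
    apply Submodule.add_mem_sup
    · exact Submodule.mem_map_of_mem (LinearMap.mem_range_self _ _)
    · exact hdiff

end alg

section bc

variable {R : Type u} [CommRing R] (κ : Type u) [Field κ] [Algebra R κ] {M : Type v}
  [AddCommGroup M] [Module R M]

/-- image of the base change of a submodule -/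
noncomputable def bc (P : Submodule R M) : Submodule κ (κ ⊗[R] M) :=
  LinearMap.range (P.subtype.baseChange κ)

/-- the right adjoint -/
def pre (T : Submodule κ (κ ⊗[R] M)) : Submodule R M :=
  Submodule.comap (TensorProduct.mk R κ M 1) (T.restrictScalars R)

theorem mem_pre (T : Submodule κ (κ ⊗[R] M)) (m : M) :
    m ∈ pre κ T ↔ (1 : κ) ⊗ₜ[R] m ∈ T := Iff.rfl

theorem bc_le_iff (P : Submodule R M) (T : Submodule κ (κ ⊗[R] M)) :
    bc κ P ≤ T ↔ P ≤ pre κ T := by
  constructor
  · intro h m hm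
    rw [mem_pre]
    apply h
    refine ⟨(1 : κ) ⊗ₜ[R] (⟨m, hm⟩ : P), ?_⟩
    simp
  · intro h
    rintro _ ⟨z, rfl⟩
    induction z using TensorProduct.induction_on with
    | zero => simp
    | tmul c m =>
      have h1 : (P.subtype.baseChange κ) (c ⊗ₜ[R] m) = c • ((1 : κ) ⊗ₜ[R] (m : M)) := by
        simp [TensorProduct.smul_tmul']
      rw [h1]
      exact T.smul_mem c ((mem_pre κ T _).mp (h m.2))
    | add a b ha hb =>
      rw [map_add]
      exact T.add_mem ha hb

theorem gc_bc : GaloisConnection (bc κ (R := R) (M := M)) (pre κ) := fun P T => bc_le_iff κ P T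

theorem tmul_mem_bc (P : Submodule R M) (m : M) (hm : m ∈ P) : (1 : κ) ⊗ₜ[R] m ∈ bc κ P :=
  ((bc_le_iff κ P (bc κ P)).mp le_rfl) hm

theorem bc_mono {P P' : Submodule R M} (h : P ≤ P') : bc κ P ≤ bc κ P' := (gc_bc κ).monotone_l h

theorem bc_sup (P P' : Submodule R M) : bc κ (P ⊔ P') = bc κ P ⊔ bc κ P' := (gc_bc κ).l_sup

theorem bc_iSup {ι : Sort*} (P : ι → Submodule R M) : bc κ (⨆ i, P i) = ⨆ i, bc κ (P i) :=
  (gc_bc κ).l_iSup

theorem bc_iSup₂ {ι : Sort*} {p : ι → Sort*} (P : ∀ i, p i → Submodule R M) :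
    bc κ (⨆ (i) (j), P i j) = ⨆ (i) (j), bc κ (P i j) :=
  (gc_bc κ).l_iSup₂

theorem bc_top : bc κ (⊤ : Submodule R M) = ⊤ := by
  rw [eq_top_iff]
  rintro z -
  induction z using TensorProduct.induction_on with
  | zero => exact Submodule.zero_mem _
  | tmul c m =>
    have h1 : c ⊗ₜ[R] m = c • ((1 : κ) ⊗ₜ[R] m) := by
      simp [TensorProduct.smul_tmul']
    rw [h1]
    exact Submodule.smul_mem _ c (tmul_mem_bc κ ⊤ m Submodule.mem_top)
  | add a b ha hb => exact Submodule.add_mem _ ha hb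

theorem bc_bot : bc κ (⊥ : Submodule R M) = ⊥ := (gc_bc κ).l_bot

end bc

section field

variable {Γ : Type w} [LinearOrder Γ] {K : Type u} [Field K] {V : Type v} [AddCommGroup V]
  [Module K V] [Module.Finite K V]

theorem finrank_biSup_of_indep (W : Γ → Submodule K V) (hind : iSupIndep W) (s : Finset Γ) :
    Module.finrank K ↥(⨆ γ ∈ s, W γ) = ∑ γ ∈ s, Module.finrank K (W γ) := by
  classical
  induction s using Finset.induction_on with
  | empty => simp
  | insert a s ha ih =>
    rw [Finset.iSup_insert, Finset.sum_insert ha, ← ih]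
    have hdisj : W a ⊓ (⨆ γ ∈ s, W γ) = ⊥ := by
      have := hind.disjoint_biSup (x := a) (y := (s : Set Γ)) (by simpa using ha)
      exact disjoint_iff.mp this
    have := Submodule.finrank_sup_add_finrank_inf_eq (W a) (⨆ γ ∈ s, W γ)
    rw [hdisj, finrank_bot, add_zero] at this
    exact this

theorem iSup_eq_top_of_finrank (W : Γ → Submodule K V) (hind : iSupIndep W)
    (h : Module.finrank K V = ∑ᶠ γ, Module.finrank K (W γ)) : ⨆ γ, W γ = ⊤ := by
  classical
  by_cases hfin : (Function.support fun γ => Module.finrank K (W γ)).Finite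
  · rw [finsum_eq_sum_of_support_subset_of_finite _ (subset_refl _) hfin,
      ← finrank_biSup_of_indep W hind] at h
    have h1 : (⨆ γ ∈ hfin.toFinset, W γ) = ⊤ := Submodule.eq_top_of_finrank_eq h.symm
    rw [eq_top_iff, ← h1]
    apply iSup₂_le
    intro γ _
    exact le_iSup W γ
  · rw [finsum_of_infinite_support hfin] at h
    have : Subsingleton V := Module.finrank_zero_iff.mp h
    rw [eq_top_iff]
    intro x _
    rw [Subsingleton.elim x 0]
    exact Submodule.zero_mem _

/-- relative complement in a vector space -/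
theorem exists_rel_compl (W X : Submodule K V) :
    ∃ W' : Submodule K V, W' ≤ W ∧ W' ⊓ X = ⊥ ∧ W' ⊔ X = W ⊔ X := by
  obtain ⟨C, hC⟩ := exists_isCompl (W ⊓ X)
  refine ⟨W ⊓ C, inf_le_left, ?_, ?_⟩
  · have : W ⊓ C ⊓ X = C ⊓ (W ⊓ X) := by
      rw [inf_comm W C, inf_assoc]
    rw [this, inf_comm]
    exact hC.inf_eq_bot
  · apply le_antisymm
    · exact sup_le_sup_right inf_le_left X
    · have h1 : (W ⊓ X) ⊔ (C ⊓ W) = W := by
        rw [← sup_inf_assoc_of_le C (inf_le_left : W ⊓ X ≤ W), hC.sup_eq_top, top_inf_eq]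
      apply sup_le _ le_sup_right
      calc W = (W ⊓ X) ⊔ (C ⊓ W) := h1.symm
        _ ≤ (W ⊓ C) ⊔ X := by
          rw [sup_comm, inf_comm C W]
          exact sup_le_sup_left inf_le_right _

theorem fibre_surj (Fx W : Γ → Submodule K V)
    (hW : ∀ γ, Fx γ = W γ ⊔ ⨆ η ∈ Set.Ioi γ, Fx η)
    (h : Module.finrank K V = ∑ᶠ γ, (Module.finrank K (Fx γ) -
      Module.finrank K ↥(⨆ η ∈ Set.Ioi γ, Fx η))) :
    ⨆ γ, W γ = ⊤ := by
  classical
  choose W' hW'1 hW'2 hW'3 using fun γ => exists_rel_compl (W γ) (⨆ η ∈ Set.Ioi γ, Fx η)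
  have hW'Fx : ∀ γ, W' γ ≤ Fx γ := by
    intro γ
    rw [hW γ]
    exact (hW'1 γ).trans le_sup_left
  have hind : iSupIndep W' := by
    apply indep_of_disjoint_above
    intro γ
    rw [disjoint_iff, eq_bot_iff, ← hW'2 γ]
    apply inf_le_inf_left
    apply iSup₂_le
    intro η hη
    exact le_iSup₂_of_le η hη (hW'Fx η)
  have hdim : ∀ γ, Module.finrank K (W' γ) = Module.finrank K (Fx γ) -
      Module.finrank K ↥(⨆ η ∈ Set.Ioi γ, Fx η) := by
    intro γ
    have := Submodule.finrank_sup_add_finrank_inf_eq (W' γ) (⨆ η ∈ Set.Ioi γ, Fx η)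
    rw [hW'2 γ, hW'3 γ, ← hW γ, finrank_bot, add_zero] at this
    omega
  have htop : ⨆ γ, W' γ = ⊤ := by
    apply iSup_eq_top_of_finrank W' hind
    rw [h]
    exact finsum_congr fun γ => (hdim γ).symm
  rw [eq_top_iff, ← htop]
  exact iSup_mono hW'1

end field

section glob

variable {R : Type u} [CommRing R] {M : Type v} [AddCommGroup M] [Module R M] [Module.Finite R M]

theorem eq_top_of_bc_eq_top (N : Submodule R M)
    (h : ∀ p : PrimeSpectrum R, bc p.asIdeal.ResidueField N = ⊤) : N = ⊤ := by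
  rw [← Submodule.Quotient.subsingleton_iff, ← Module.support_eq_empty_iff (R := R),
    Set.eq_empty_iff_forall_notMem]
  intro p
  rw [Module.mem_support_iff_nontrivial_residueField_tensorProduct, not_nontrivial_iff_subsingleton]
  set κ := p.asIdeal.ResidueField
  have hsurj : Function.Surjective (N.mkQ.baseChange κ) := by
    rw [LinearMap.baseChange_eq_ltensor]
    exact LinearMap.lTensor_surjective _ (Submodule.mkQ_surjective N)
  refine ⟨fun a b => ?_⟩
  have key : ∀ z : κ ⊗[R] (M ⧸ N), z = 0 := by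
    intro z
    obtain ⟨y, rfl⟩ := hsurj z
    have hy : y ∈ bc κ N := by rw [h p]; exact Submodule.mem_top
    obtain ⟨w, rfl⟩ := hy
    have : (N.mkQ.baseChange κ) ((N.subtype.baseChange κ) w) =
        ((N.mkQ ∘ₗ N.subtype).baseChange κ) w := by
      rw [LinearMap.baseChange_comp]
      rfl
    rw [this]
    have h0 : N.mkQ ∘ₗ N.subtype = 0 := by
      ext x
      simp
    rw [h0, LinearMap.baseChange_zero]
    rfl
  rw [key a, key b]

end glob

section main1

variable {Γ : Type w} [LinearOrder Γ]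
    {R : Type u} [CommRing R] {M : Type v} [AddCommGroup M] [Module R M] [Module.Finite R M]
    (F : Γ → Submodule R M) (hF : Antitone F)
    (Fp : Γ → Submodule R M) (hFp : ∀ γ, Fp γ = ⨆ η ∈ Set.Ioi γ, F η)

include hF hFp in
theorem of_gr
    (hproj : ∀ γ, Module.Projective R (↥(F γ) ⧸ Submodule.comap (F γ).subtype (Fp γ)))
    (hdim : ∀ (p : PrimeSpectrum R)
      (Fx : Γ → Submodule p.asIdeal.ResidueField (p.asIdeal.ResidueField ⊗[R] M)),
        (∀ γ, Fx γ = LinearMap.range ((F γ).subtype.baseChange p.asIdeal.ResidueField)) →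
        Module.finrank p.asIdeal.ResidueField (p.asIdeal.ResidueField ⊗[R] M) =
          ∑ᶠ γ, (Module.finrank p.asIdeal.ResidueField ↥(Fx γ) -
            Module.finrank p.asIdeal.ResidueField ↥(⨆ η ∈ Set.Ioi γ, Fx η))) :
    ∃ G : Γ → Submodule R M, DirectSum.IsInternal G ∧ ∀ γ, F γ = ⨆ η ∈ Set.Ici γ, G η := by
  have hFpF : ∀ γ, Fp γ ≤ F γ := by
    intro γ
    rw [hFp γ]
    apply iSup₂_le
    intro η hη
    exact hF (le_of_lt hη)
  choose G hG1 hG2 hG3 using fun γ =>
    haveI := hproj γ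
    exists_complement (F γ) (Fp γ)
  refine ⟨G, splitting_of_complements F Fp G hF hFp hG1 hG2 ?_⟩
  apply eq_top_of_bc_eq_top
  intro p
  rw [bc_iSup]
  apply fibre_surj (fun γ => bc p.asIdeal.ResidueField (F γ))
    (fun γ => bc p.asIdeal.ResidueField (G γ))
  · intro γ
    change bc _ (F γ) = bc _ (G γ) ⊔ ⨆ η ∈ Set.Ioi γ, bc _ (F η)
    rw [← bc_iSup₂, ← hFp γ, ← bc_sup]
    congr 1
    exact le_antisymm (hG3 γ) (sup_le (hG1 γ) (hFpF γ))
  · exact hdim p (fun γ => bc p.asIdeal.ResidueField (F γ)) (fun γ => rfl)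

end main1

section main2

variable {Γ : Type w} [LinearOrder Γ]
    {R : Type u} [CommRing R] {M : Type v} [AddCommGroup M] [Module R M]
    (F : Γ → Submodule R M)
    (Fp : Γ → Submodule R M) (hFp : ∀ γ, Fp γ = ⨆ η ∈ Set.Ioi γ, F η)
    (G : Γ → Submodule R M) (hG : DirectSum.IsInternal G)
    (hFG : ∀ γ, F γ = ⨆ η ∈ Set.Ici γ, G η)

include hFp hFG in
theorem Fp_eq (γ : Γ) : Fp γ = ⨆ η ∈ Set.Ioi γ, G η := by
  rw [hFp γ]
  apply le_antisymm
  · apply iSup₂_le
    intro η hη
    rw [hFG η]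
    apply iSup₂_le
    intro ζ hζ
    have h1 : γ < η := hη
    have h2 : η ≤ ζ := hζ
    exact le_iSup₂_of_le ζ (lt_of_lt_of_le h1 h2) le_rfl
  · apply iSup₂_le
    intro η hη
    refine le_iSup₂_of_le η hη ?_
    rw [hFG η]
    exact le_iSup₂_of_le η (Set.mem_Ici.mpr le_rfl) le_rfl

include hFG in
theorem G_le_F (γ : Γ) : G γ ≤ F γ := by
  rw [hFG γ]
  exact le_iSup₂_of_le γ (Set.mem_Ici.mpr le_rfl) le_rfl

/-- the graded projection restricted to `F γ`, with values in `G γ` -/
noncomputable def phi (γ : Γ) : ↥(F γ) →ₗ[R] ↥(G γ) :=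
  LinearMap.codRestrict (G γ) (gproj G hG γ ∘ₗ (F γ).subtype) (fun x => gproj_mem G hG γ _)

include hFG in
theorem phi_surjective (γ : Γ) : Function.Surjective (phi F G hG γ) := by
  intro y
  refine ⟨⟨y.1, G_le_F F G hFG γ y.2⟩, ?_⟩
  apply Subtype.ext
  simp only [phi, LinearMap.codRestrict_apply, LinearMap.coe_comp, Function.comp_apply,
    Submodule.subtype_apply]
  exact gproj_of_mem G hG γ y.1 y.2

include hFp hFG in
theorem ker_phi (γ : Γ) :
    LinearMap.ker (phi F G hG γ) = Submodule.comap (F γ).subtype (Fp γ) := by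
  ext x
  rw [LinearMap.mem_ker, Submodule.mem_comap, Fp_eq F Fp hFp G hFG γ]
  have hval : phi F G hG γ x = 0 ↔ gproj G hG γ x.1 = 0 := by
    rw [← Subtype.coe_inj]
    simp only [phi, LinearMap.codRestrict_apply, LinearMap.coe_comp, Function.comp_apply,
      Submodule.subtype_apply, ZeroMemClass.coe_zero]
  rw [hval]
  constructor
  · intro h0
    have hx : x.1 ∈ ⨆ η ∈ {η | γ ≤ η}, G η := (hFG γ).le x.2
    have h1 := sub_gproj_mem G hG γ (fun η => γ ≤ η) le_rfl x.1 hx
    rw [h0, sub_zero] at h1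
    have h2 : (⨆ η ∈ {η | γ ≤ η ∧ η ≠ γ}, G η) ≤ ⨆ η ∈ Set.Ioi γ, G η := by
      apply iSup₂_le
      intro η hη
      exact le_iSup₂_of_le η (lt_of_le_of_ne hη.1 (Ne.symm hη.2)) le_rfl
    exact h2 h1
  · intro hx
    exact gproj_eq_zero_of_mem_iSup G hG γ (fun η => γ < η) (lt_irrefl γ) x.1 hx

/-- the graded piece is the summand -/
noncomputable def grEquiv (γ : Γ) :
    (↥(F γ) ⧸ Submodule.comap (F γ).subtype (Fp γ)) ≃ₗ[R] ↥(G γ) :=
  (Submodule.quotEquivOfEq _ _ (ker_phi F Fp hFp G hG hFG γ).symm).trans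
    ((phi F G hG γ).quotKerEquivOfSurjective (phi_surjective F G hG hFG γ))

include hG in
theorem finite_summand [Module.Finite R M] (γ : Γ) : Module.Finite R ↥(G γ) := by
  classical
  apply Module.Finite.of_surjective
    (LinearMap.codRestrict (G γ) (gproj G hG γ) (fun x => gproj_mem G hG γ x))
  intro y
  refine ⟨y.1, ?_⟩
  apply Subtype.ext
  simp only [LinearMap.codRestrict_apply]
  exact gproj_of_mem G hG γ y.1 y.2

include hG in
theorem projective_summand [Module.Projective R M] (γ : Γ) : Module.Projective R ↥(G γ) := by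
  classical
  apply Module.Projective.of_split (G γ).subtype
    (LinearMap.codRestrict (G γ) (gproj G hG γ) (fun x => gproj_mem G hG γ x))
  ext y
  simp only [LinearMap.coe_comp, Function.comp_apply, Submodule.subtype_apply,
    LinearMap.codRestrict_apply, LinearMap.id_coe, id_eq]
  exact gproj_of_mem G hG γ y.1 y.2

end main2

section main3

variable {Γ : Type w} [LinearOrder Γ]
    {R : Type u} [CommRing R] {M : Type v} [AddCommGroup M] [Module R M] [Module.Finite R M]
    (κ : Type u) [Field κ] [Algebra R κ]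
    (F : Γ → Submodule R M)
    (Fp : Γ → Submodule R M) (hFp : ∀ γ, Fp γ = ⨆ η ∈ Set.Ioi γ, F η)
    (G : Γ → Submodule R M) (hG : DirectSum.IsInternal G)
    (hFG : ∀ γ, F γ = ⨆ η ∈ Set.Ici γ, G η)

include hG in
omit [Module.Finite R M] in
theorem indep_bc : iSupIndep (fun γ => bc κ (G γ)) := by
  classical
  intro γ
  set q := (gproj G hG γ).baseChange κ with hq
  have h1 : bc κ (G γ) ≤ LinearMap.eqLocus q LinearMap.id := by
    rw [bc_le_iff]
    intro m hm
    rw [mem_pre, LinearMap.mem_eqLocus]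
    simp [hq, gproj_of_mem G hG γ m hm]
  have h2 : (⨆ (η) (_ : η ≠ γ), bc κ (G η)) ≤ LinearMap.ker q := by
    apply iSup₂_le
    intro η hη
    rw [bc_le_iff]
    intro m hm
    rw [mem_pre, LinearMap.mem_ker]
    simp [hq, gproj_of_mem_ne G hG γ η hη m hm]
  rw [Submodule.disjoint_def]
  intro z hz hz'
  have e1 := h1 hz
  have e2 := h2 hz'
  rw [LinearMap.mem_eqLocus] at e1
  rw [LinearMap.mem_ker] at e2
  rw [e2] at e1
  exact e1.symm

include hFp hG hFG in
theorem dim_formula (Fx : Γ → Submodule κ (κ ⊗[R] M)) (hFx : ∀ γ, Fx γ = bc κ (F γ)) :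
    Module.finrank κ (κ ⊗[R] M) = ∑ᶠ γ, (Module.finrank κ ↥(Fx γ) -
      Module.finrank κ ↥(⨆ η ∈ Set.Ioi γ, Fx η)) := by
  classical
  set W : Γ → Submodule κ (κ ⊗[R] M) := fun γ => bc κ (G γ) with hW
  have hind : iSupIndep W := indep_bc κ G hG
  have htop : ⨆ γ, W γ = ⊤ := by
    rw [hW, ← bc_iSup, DirectSum.IsInternal.submodule_iSup_eq_top hG, bc_top]
  have hFxW : ∀ γ, Fx γ = ⨆ η ∈ Set.Ici γ, W η := by
    intro γ
    rw [hFx γ, hFG γ, bc_iSup₂]
  have hFxpW : ∀ γ, (⨆ η ∈ Set.Ioi γ, Fx η) = ⨆ η ∈ Set.Ioi γ, W η := by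
    intro γ
    have : (⨆ η ∈ Set.Ioi γ, Fx η) = bc κ (Fp γ) := by
      rw [hFp γ, bc_iSup₂]
      exact iSup_congr fun η => iSup_congr fun _ => hFx η
    rw [this, Fp_eq F Fp hFp G hFG γ, bc_iSup₂]
  have hsplit : ∀ γ, Fx γ = W γ ⊔ ⨆ η ∈ Set.Ioi γ, W η := by
    intro γ
    rw [hFxW γ]
    apply le_antisymm
    · apply iSup₂_le
      intro η hη
      have hη' : γ ≤ η := hη
      rcases hη'.eq_or_lt with rfl | hlt
      · exact le_sup_left
      · exact le_sup_of_le_right (le_iSup₂_of_le η hlt le_rfl)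
    · apply sup_le
      · exact le_iSup₂_of_le γ (Set.mem_Ici.mpr le_rfl) le_rfl
      · apply iSup₂_le
        intro η hη
        exact le_iSup₂_of_le η (Set.mem_Ici.mpr (le_of_lt hη)) le_rfl
  have hterm : ∀ γ, Module.finrank κ ↥(Fx γ) - Module.finrank κ ↥(⨆ η ∈ Set.Ioi γ, Fx η) =
      Module.finrank κ (W γ) := by
    intro γ
    rw [hFxpW γ, hsplit γ]
    have hdisj : W γ ⊓ (⨆ η ∈ Set.Ioi γ, W η) = ⊥ := by
      have := hind.disjoint_biSup (x := γ) (y := Set.Ioi γ) (by simp)
      exact disjoint_iff.mp this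
    have := Submodule.finrank_sup_add_finrank_inf_eq (W γ) (⨆ η ∈ Set.Ioi γ, W η)
    rw [hdisj, finrank_bot, add_zero] at this
    omega
  rw [finsum_congr hterm]
  have hfin : {γ | W γ ≠ ⊥}.Finite := WellFoundedGT.finite_ne_bot_of_iSupIndep hind
  have hsupp : (Function.support fun γ => Module.finrank κ (W γ)) ⊆ {γ | W γ ≠ ⊥} := by
    intro γ hγ h0
    apply hγ
    change Module.finrank κ (W γ) = 0
    rw [h0, finrank_bot]
  rw [finsum_eq_sum_of_support_subset_of_finite _ hsupp hfin, ← finrank_biSup_of_indep W hind]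
  have : (⨆ γ ∈ hfin.toFinset, W γ) = ⊤ := by
    rw [eq_top_iff, ← htop]
    apply iSup_le
    intro γ
    by_cases h0 : W γ = ⊥
    · rw [h0]; exact bot_le
    · exact le_iSup₂_of_le γ (by simpa using h0) le_rfl
  rw [this, finrank_top]

end main3

section final

variable {Γ : Type w} [LinearOrder Γ]
    {R : Type u} [CommRing R] {M : Type v} [AddCommGroup M] [Module R M] [Module.Finite R M]
    [Module.Projective R M]
    (F : Γ → Submodule R M) (hF : Antitone F)
    (Fp : Γ → Submodule R M) (hFp : ∀ γ, Fp γ = ⨆ η ∈ Set.Ioi γ, F η)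

include hF hFp in
theorem main :
    (∃ G : Γ → Submodule R M, DirectSum.IsInternal G ∧ ∀ γ, F γ = ⨆ η ∈ Set.Ici γ, G η) ↔
    ((∀ γ, Module.Finite R (↥(F γ) ⧸ Submodule.comap (F γ).subtype (Fp γ)) ∧
        Module.Projective R (↥(F γ) ⧸ Submodule.comap (F γ).subtype (Fp γ))) ∧
      ∀ (p : PrimeSpectrum R)
        (Fx : Γ → Submodule p.asIdeal.ResidueField (p.asIdeal.ResidueField ⊗[R] M)),
        (∀ γ, Fx γ = LinearMap.range ((F γ).subtype.baseChange p.asIdeal.ResidueField)) →
        Module.finrank p.asIdeal.ResidueField (p.asIdeal.ResidueField ⊗[R] M) =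
          ∑ᶠ γ, (Module.finrank p.asIdeal.ResidueField ↥(Fx γ) -
            Module.finrank p.asIdeal.ResidueField ↥(⨆ η ∈ Set.Ioi γ, Fx η))) := by
  constructor
  · rintro ⟨G, hG, hFG⟩
    refine ⟨fun γ => ⟨?_, ?_⟩, ?_⟩
    · haveI := finite_summand G hG γ
      exact Module.Finite.equiv (grEquiv F Fp hFp G hG hFG γ).symm
    · haveI := projective_summand G hG γ
      exact Module.Projective.of_equiv (grEquiv F Fp hFp G hG hFG γ).symm
    · intro p Fx hFx
      exact dim_formula p.asIdeal.ResidueField F Fp hFp G hG hFG Fx hFx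
  · rintro ⟨h1, h2⟩
    exact of_gr F hF Fp hFp (fun γ => (h1 γ).2) h2

end final

end FiltGr

end Groth.Agent.S19154.Aux

namespace Groth.Agent.S19154

/-- (1) ⇔ (4): in affine form, let Γ be a non-trivial totally ordered commutative group, R a commutative
ring, M a finitely generated projective R-module (a finite locally free sheaf on X = Spec R) and F a
non-increasing Γ-indexed family of submodules of M; write F^γ_+ for the sum of the F^η with η > γ
and Gr^γ = F^γ/F^γ_+. Then the following are equivalent: (1) there is a Γ-grading M = ⊕_γ G_γ by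
submodules (internal direct sum) with F^γ = Σ_{η ≥ γ} G_η for every γ; (4) every Gr^γ is finitely
generated projective over R and, for every prime p of R, dim_{κ(p)} (κ(p) ⊗ M) = Σ_γ dim_{κ(p)} Gr^γ
of the image filtration on κ(p) ⊗ M (whose γ-th term F_x^γ is the image of κ(p) ⊗ F^γ; dim Gr^γ is
written as dim F_x^γ − dim F_x^γ_+, and the sum has finitely many non-zero terms). (The source's
conditions (2), (3) are the Zariski- and fpqc-local forms of (1) on a general scheme; its further
assertions on F^γ ⊗ κ(x) are not stated.) -/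
theorem result
    {Γ : Type w} [AddCommGroup Γ] [LinearOrder Γ] [IsOrderedAddMonoid Γ] [Nontrivial Γ]
    {R : Type u} [CommRing R] {M : Type v} [AddCommGroup M] [Module R M] [Module.Finite R M] [Module.Projective R M]
    (F : Γ → Submodule R M) (hF : Antitone F)
    (Fp : Γ → Submodule R M) (hFp : ∀ γ, Fp γ = ⨆ η ∈ Set.Ioi γ, F η) :
    (∃ G : Γ → Submodule R M, DirectSum.IsInternal G ∧ ∀ γ, F γ = ⨆ η ∈ Set.Ici γ, G η) ↔
    ((∀ γ, Module.Finite R (↥(F γ) ⧸ Submodule.comap (F γ).subtype (Fp γ)) ∧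
        Module.Projective R (↥(F γ) ⧸ Submodule.comap (F γ).subtype (Fp γ))) ∧
      ∀ (p : PrimeSpectrum R) (Fx : Γ → Submodule p.asIdeal.ResidueField (p.asIdeal.ResidueField ⊗[R] M)),
        (∀ γ, Fx γ = LinearMap.range ((F γ).subtype.baseChange p.asIdeal.ResidueField)) →
        Module.finrank p.asIdeal.ResidueField (p.asIdeal.ResidueField ⊗[R] M) =
          ∑ᶠ γ, (Module.finrank p.asIdeal.ResidueField ↥(Fx γ) -
            Module.finrank p.asIdeal.ResidueField ↥(⨆ η ∈ Set.Ioi γ, Fx η))) := by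
  exact Aux.FiltGr.main F hF Fp hFp

end Groth.Agent.S19154
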