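import Groth.Statements.S5453
import Groth.Agent.Lib.Helper8Root4

set_option autoImplicit false
open RootPairing
open scoped Pointwise
open RootD

namespace Groth.Agent.S5453

open Groth.Agent.Lib.Helper8 in
lemma aux {ι M N : Type*} [AddCommGroup M] [AddCommGroup N]
    (P : RootPairing ι ℤ M N) [Finite ι] (P' : Set ι)
    (hP2 : ∀ i : ι, i ∈ P' ∨ P.reflectionPerm i i ∈ P') (hcl : RootD.IsClosedSub P P') :
    ∀ (d : ℕ) (S : Set ι), RootD.IsPosSys P S → (S \ P').ncard = d →
      ∃ g : P.Aut, g ∈ P.weylGroup ∧ (fun i : ι => g • i) '' S ⊆ P' := by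
  intro d
  induction d using Nat.strong_induction_on with
  | _ d ih =>
    intro S hS hd
    by_cases hsub : S ⊆ P'
    · refine ⟨1, one_mem _, ?_⟩
      rintro _ ⟨i, hi, rfl⟩
      show (1 : P.Aut) • i ∈ P'
      rw [one_smul]
      exact hsub hi
    · have hW := pos_weakPos hS
      have hΔ := weakPos_isSimpleSys hW
      have hSeq := weakPos_eq_posOf hW
      obtain ⟨α, hαΔ, hαP'⟩ : ∃ α ∈ simpleOf P S, α ∉ P' := by
        by_contra hcon
        push Not at hcon
        apply hsub
        intro k hk
        have : P.root k ∈ natSpan P (simpleOf P S) := weakPos_mem_natSpan_simpleOf hW hk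
        exact mem_of_closed_of_mem_natSpan P hcl (natSpan_mono P hcon this)
      have hαS : α ∈ S := hαΔ.1
      have hnegα : P.reflectionPerm α α ∈ P' := (hP2 α).resolve_left hαP'
      have hS₁ : IsPosSys P ((fun i : ι => RootPairing.Equiv.reflection P α • i) '' S) :=
        pos_image _ hS
      have hsubset : ((fun i : ι => RootPairing.Equiv.reflection P α • i) '' S) \ P' ⊆
          (S \ P') \ {α} := by
        rintro k ⟨hk1, hk2⟩
        rw [mem_image_aut_iff, RootPairing.Equiv.reflection_inv] at hk1
        have hk0 : P.reflectionPerm α k ∈ S := hk1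
        by_cases hprop : ∃ n : ℕ, P.root (P.reflectionPerm α k) = n • P.root α
        · exfalso
          obtain ⟨n, hn⟩ := hprop
          have hk' : P.root k = n • P.root (P.reflectionPerm α α) := by
            have h1 : P.root k = P.reflection α (P.root (P.reflectionPerm α k)) := by
              rw [RootPairing.root_reflectionPerm]
              simp
            rw [h1, hn, map_nsmul, RootPairing.reflection_apply_self, root_neg]
          apply hk2
          apply mem_of_closed_of_mem_natSpan P hcl
          rw [hk']
          exact AddSubmonoid.nsmul_mem _ (root_mem_natSpan P hnegα) n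
        · push Not at hprop
          have hk0' : P.reflectionPerm α k ∈ posOf P (simpleOf P S) := hSeq ▸ hk0
          have h2 := simple_reflection_pos hΔ hk0' hαΔ hprop
          have hkk : P.reflectionPerm α (P.reflectionPerm α k) = k := by
            apply P.root.injective
            simp
          rw [hkk, ← hSeq] at h2
          refine ⟨⟨h2, hk2⟩, ?_⟩
          intro hkα
          have hkα' : k = α := hkα
          rw [hkα'] at hk0
          exact hS.disjoint hαS hk0
      have hlt : (((fun i : ι => RootPairing.Equiv.reflection P α • i) '' S) \ P').ncard <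
          (S \ P').ncard := by
        calc _ ≤ ((S \ P') \ {α}).ncard := Set.ncard_le_ncard hsubset (Set.toFinite _)
          _ < (S \ P').ncard := Set.ncard_sdiff_singleton_lt_of_mem ⟨hαS, hαP'⟩ (Set.toFinite _)
      obtain ⟨g, hg, hgS⟩ := ih _ (hd ▸ hlt) _ hS₁ rfl
      refine ⟨g * RootPairing.Equiv.reflection P α,
        mul_mem hg (P.reflection_mem_weylGroup α), ?_⟩
      rintro _ ⟨i, hi, rfl⟩
      apply hgS
      exact ⟨RootPairing.Equiv.reflection P α • i, ⟨i, hi, rfl⟩, (mul_smul g _ i).symm⟩

/-- If S is a system of positive roots and P' is a closed set of roots containing each root or its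
opposite, then w(S) ⊆ P' for some w in the Weyl group. -/
theorem result {ι M N : Type*} [AddCommGroup M] [AddCommGroup N]
    (P : RootPairing ι ℤ M N) [Finite ι] (S : Set ι) (hS : RootD.IsPosSys P S)
    (P' : Set ι) (hP2 : ∀ i : ι, i ∈ P' ∨ P.reflectionPerm i i ∈ P') (hcl : RootD.IsClosedSub P P') :
    ∃ g : P.Aut, g ∈ P.weylGroup ∧ (fun i : ι => g • i) '' S ⊆ P' := by
  exact aux P P' hP2 hcl _ S hS rfl

end Groth.Agent.S5453
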