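import Groth.Statements.S19155
import Groth.Agent.Lib.Helper8Root9
import Groth.Agent.S5453

set_option autoImplicit false
open RootPairing
open RootD

namespace Groth.Agent.S19155

open Groth.Agent.Lib.Helper8

variable {ι M N : Type*} [AddCommGroup M] [AddCommGroup N] {P : RootPairing ι ℤ M N}

lemma uniq [Finite ι] {Δ : Set ι} (hΔ : IsSimpleSys P Δ)
    {Γ : Type*} [AddCommGroup Γ] [LinearOrder Γ] [IsOrderedAddMonoid Γ] (f : M →+ Γ)
    (hf : ∀ i ∈ posOf P Δ, 0 ≤ f (P.root i)) :
    ∀ (n : ℕ) (l : List ι), l.length ≤ n → (∀ a ∈ l, a ∈ Δ) →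
      (∀ i ∈ posOf P Δ, 0 ≤ f (word P l • P.root i)) →
      ∀ m : M, f (word P l • m) = f m := by
  classical
  intro n
  induction n with
  | zero =>
    intro l hl _ _ m
    have : l = [] := List.length_eq_zero_iff.mp (Nat.le_zero.mp hl)
    rw [this, word_nil, one_smul]
  | succ n ih =>
    intro l0 hl0 hl0Δ hyp0 m
    have hex : ∃ k : ℕ, ∃ l : List ι, l.length = k ∧ (∀ a ∈ l, a ∈ Δ) ∧ word P l = word P l0 :=
      ⟨l0.length, l0, rfl, hl0Δ, rfl⟩
    obtain ⟨l, hlen, hl, hw⟩ := Nat.find_spec hex
    have hlen_le : l.length ≤ n + 1 := by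
      rw [hlen]
      exact (Nat.find_min' hex ⟨l0, rfl, hl0Δ, rfl⟩).trans hl0
    rw [← hw]
    have hyp : ∀ i ∈ posOf P Δ, 0 ≤ f (word P l • P.root i) := by
      rw [hw]; exact hyp0
    by_cases hne : l = []
    · rw [hne, word_nil, one_smul]
    have hmin : ∀ l' : List ι, (∀ a ∈ l', a ∈ Δ) → word P l' = word P l →
        l.length ≤ l'.length := by
      intro l' hl' hw'
      rw [hlen]
      exact Nat.find_min' hex ⟨l', rfl, hl', hw'.trans hw⟩
    have hnp := not_pos_of_minimal (simple_posData hΔ) l hl hne hmin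
    set a := l.getLast hne with ha
    have haΔ : a ∈ Δ := hl a (List.getLast_mem hne)
    have hnotpos : word P l • a ∉ posOf P Δ := fun h =>
      hnp ⟨h, indiv_aut _ (simple_indiv hΔ haΔ)⟩
    -- f vanishes on the image of the last letter
    have h1 : 0 ≤ f (word P l • P.root a) := hyp a (subset_posOf P Δ haΔ)
    have h2 : f (word P l • P.root a) ≤ 0 := by
      have hneg : P.reflectionPerm (word P l • a) (word P l • a) ∈ posOf P Δ := by
        rcases (simple_isPosSys_posOf hΔ).cover (word P l • a) with h | h
        · exact absurd h hnotpos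
        · exact h
      have := hf _ hneg
      rw [root_neg, map_neg, aut_root] at this
      exact neg_nonneg.mp this
    have h0 : f (word P l • P.root a) = 0 := le_antisymm h2 h1
    -- split off the last letter
    have hsplit := List.dropLast_append_getLast hne
    have hwl : word P l = word P l.dropLast * RootPairing.Equiv.reflection P a := by
      conv_lhs => rw [← hsplit]
      rw [word_append]
      simp [ha]
    have hlen2 : l.dropLast.length + 1 = l.length := by
      conv_rhs => rw [← hsplit]
      simp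
    have hdl : ∀ x ∈ l.dropLast, x ∈ Δ := fun x hx => hl x (List.mem_of_mem_dropLast hx)
    have hwd : word P l.dropLast = word P l * RootPairing.Equiv.reflection P a := by
      rw [hwl, mul_assoc, refl_mul_self, mul_one]
    have hsame : ∀ x : M, f (word P l.dropLast • x) = f (word P l • x) := by
      intro x
      rw [hwd, mul_smul, RootPairing.Equiv.reflection_smul, RootPairing.reflection_apply,
        smul_sub, map_sub, smul_comm, map_zsmul, h0, smul_zero, sub_zero]
    rw [← hsame]
    apply ih l.dropLast (by omega) hdl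
    intro i hi
    rw [hsame]
    exact hyp i hi

/-- Let P be a root datum (root pairing over ℤ with finitely many roots, roots in M), S a system of
positive roots, Γ a non-trivial totally ordered commutative group and f : M → Γ additive. Call f
dominant when f(α) ≥ 0 for every positive root α. Then the dominant maps form a fundamental domain
for the Weyl group W acting on Hom(M, Γ) through M: there is w ∈ W with f ∘ w dominant, and if f and
f ∘ w are both dominant (w ∈ W) then f ∘ w = f. -/
theorem result {ι M N : Type*} [AddCommGroup M] [AddCommGroup N]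
    (P : RootPairing ι ℤ M N) [Finite ι] (S : Set ι) (hS : RootD.IsPosSys P S)
    {Γ : Type*} [AddCommGroup Γ] [LinearOrder Γ] [IsOrderedAddMonoid Γ] [Nontrivial Γ] (f : M →+ Γ) :
    (∃ g : P.Aut, g ∈ P.weylGroup ∧ ∀ i ∈ S, 0 ≤ f (RootPairing.Equiv.weightHom P g (P.root i))) ∧
    (∀ g : P.Aut, g ∈ P.weylGroup → (∀ i ∈ S, 0 ≤ f (P.root i)) →
      (∀ i ∈ S, 0 ≤ f (RootPairing.Equiv.weightHom P g (P.root i))) →
      ∀ m : M, f (RootPairing.Equiv.weightHom P g m) = f m) := by
  classical
  constructor
  · -- existence, from the conjugacy theorem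
    have hP2 : ∀ i : ι, i ∈ {i : ι | 0 ≤ f (P.root i)} ∨
        P.reflectionPerm i i ∈ {i : ι | 0 ≤ f (P.root i)} := by
      intro i
      rcases le_total 0 (f (P.root i)) with h | h
      · exact Or.inl h
      · right
        show 0 ≤ f (P.root (P.reflectionPerm i i))
        rw [Groth.Agent.Lib.Helper8.root_neg, map_neg]
        exact neg_nonneg.mpr h
    have hcl : RootD.IsClosedSub P {i : ι | 0 ≤ f (P.root i)} := by
      intro i j k hi hj hk
      show 0 ≤ f (P.root k)
      rw [hk, map_add]
      exact add_nonneg hi hj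
    obtain ⟨g, hg, hsub⟩ := Groth.Agent.S5453.result P S hS _ hP2 hcl
    refine ⟨g, hg, fun i hi => ?_⟩
    have : g • i ∈ {i : ι | 0 ≤ f (P.root i)} := hsub ⟨i, hi, rfl⟩
    have h2 : 0 ≤ f (P.root (g • i)) := this
    rw [Groth.Agent.Lib.Helper8.aut_root] at h2
    exact h2
  · intro g hg hf hfg m
    have hW := Groth.Agent.Lib.Helper8.pos_weakPos hS
    have hΔ := Groth.Agent.Lib.Helper8.weakPos_isSimpleSys hW
    have hSeq := Groth.Agent.Lib.Helper8.weakPos_eq_posOf hW
    have hg' : g ∈ Groth.Agent.Lib.Helper8.reflSub P (Groth.Agent.Lib.Helper8.simpleOf P S) := by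
      rw [Groth.Agent.Lib.Helper8.reflSub_simple_eq_weylGroup hΔ]; exact hg
    obtain ⟨l, hl, hw⟩ := Groth.Agent.Lib.Helper8.exists_word_of_mem_closure hg'
    have := uniq hΔ f (by rw [← hSeq]; exact hf) l.length l le_rfl hl
      (by rw [← hSeq, hw]; exact hfg) m
    rw [hw] at this
    exact this

end Groth.Agent.S19155
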