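import Groth.Statements.S19156
import Groth.Agent.Lib.Helper8Root15

set_option autoImplicit false
open RootPairing
open RootD

namespace Groth.Agent.S19156

open Groth.Agent.Lib.Helper8

variable {ι M N : Type*} [AddCommGroup M] [AddCommGroup N] {P : RootPairing ι ℤ M N}

lemma refl_mem_weyl (k : ι) : RootPairing.Equiv.reflection P k ∈ P.weylGroup :=
  Subgroup.subset_closure (Set.mem_range_self k)

lemma sum_nonneg_of_dominant [Fintype ι] {S : Set ι}
    {Γ : Type*} [AddCommGroup Γ] [LinearOrder Γ] [IsOrderedAddMonoid Γ]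
    {c : ι → Γ} (hc0 : ∀ i, 0 ≤ c i) (hcS : ∀ i, i ∉ S → c i = 0) {m : M}
    (hm : ∀ i ∈ S, 0 ≤ P.coroot' i m) : 0 ≤ ∑ i, (P.coroot' i m) • c i := by
  refine Finset.sum_nonneg fun i _ => ?_
  by_cases hi : i ∈ S
  · exact zsmul_nonneg (hc0 i) (hm i hi)
  · rw [hcS i hi, smul_zero]

/-- Let P be a root datum (root pairing over ℤ with finitely many roots indexed by ι), S a system of
positive roots, Γ a non-trivial totally ordered commutative group and f : M → Γ additive. Then f is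
dominant (non-negative on the positive roots) if and only if, for every w in the Weyl group, f − f ∘
w is a combination m ↦ Σ_{α ∈ S} ⟨m, α∨⟩ c_α of the positive coroots with coefficients c_α ≥ 0 in Γ
(f ∘ w is strongly dominated by f); and f is dominant if and only if f(w m) ≤ f(m) for every w ∈ W
and every dominant weight m (weak dominance). -/
theorem result {ι M N : Type*} [AddCommGroup M] [AddCommGroup N]
    (P : RootPairing ι ℤ M N) [Fintype ι] (S : Set ι) (hS : RootD.IsPosSys P S)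
    {Γ : Type*} [AddCommGroup Γ] [LinearOrder Γ] [IsOrderedAddMonoid Γ] [Nontrivial Γ] (f : M →+ Γ) :
    ((∀ i ∈ S, 0 ≤ f (P.root i)) ↔
      ∀ g : P.Aut, g ∈ P.weylGroup → ∃ c : ι → Γ, (∀ i, 0 ≤ c i) ∧ (∀ i, i ∉ S → c i = 0) ∧
        ∀ m : M, f m - f (RootPairing.Equiv.weightHom P g m) = ∑ i, (P.coroot' i m) • c i) ∧
    ((∀ i ∈ S, 0 ≤ f (P.root i)) ↔
      ∀ g : P.Aut, g ∈ P.weylGroup → ∀ m : M, (∀ i ∈ S, 0 ≤ P.coroot' i m) →
        f (RootPairing.Equiv.weightHom P g m) ≤ f m) := by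
  classical
  have hW := pos_weakPos hS
  have hΔ := weakPos_isSimpleSys hW
  have hSeq := weakPos_eq_posOf hW
  set Δ := simpleOf P S with hΔdef
  have hρdom : ∀ i ∈ S, 0 ≤ P.coroot' i (twoRho P (posOf P Δ)) := fun i hi =>
    (coroot'_twoRho_pos hΔ (hSeq ▸ hi)).le
  -- dominance implies the representation
  have hAB : (∀ i ∈ S, 0 ≤ f (P.root i)) →
      ∀ g : P.Aut, g ∈ P.weylGroup → ∃ c : ι → Γ, (∀ i, 0 ≤ c i) ∧ (∀ i, i ∉ S → c i = 0) ∧
        ∀ m : M, f m - f (RootPairing.Equiv.weightHom P g m) = ∑ i, (P.coroot' i m) • c i := by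
    intro hf g hg
    have hg' : g ∈ reflSub P Δ := by
      rw [reflSub_simple_eq_weylGroup hΔ]; exact hg
    obtain ⟨l, hl, hw⟩ := exists_word_of_mem_closure hg'
    obtain ⟨c, h1, h2, h3⟩ := dominant_repr hΔ f (by rw [← hSeq]; exact hf) l.length l le_rfl hl
    refine ⟨c, h1, fun i hi => h2 i (by rw [← hSeq]; exact hi), fun m => ?_⟩
    have := h3 m
    rw [hw] at this
    exact this
  -- the weak inequality implies dominance
  have hCA : (∀ g : P.Aut, g ∈ P.weylGroup → ∀ m : M, (∀ i ∈ S, 0 ≤ P.coroot' i m) →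
        f (RootPairing.Equiv.weightHom P g m) ≤ f m) → ∀ i ∈ S, 0 ≤ f (P.root i) := by
    intro h i hi
    refine dominant_of_le hΔ f (fun k _ => ?_) i (hSeq ▸ hi)
    exact h _ (refl_mem_weyl k) _ hρdom
  -- the representation implies the weak inequality
  have hBC : (∀ g : P.Aut, g ∈ P.weylGroup → ∃ c : ι → Γ, (∀ i, 0 ≤ c i) ∧
        (∀ i, i ∉ S → c i = 0) ∧
        ∀ m : M, f m - f (RootPairing.Equiv.weightHom P g m) = ∑ i, (P.coroot' i m) • c i) →
      ∀ g : P.Aut, g ∈ P.weylGroup → ∀ m : M, (∀ i ∈ S, 0 ≤ P.coroot' i m) →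
        f (RootPairing.Equiv.weightHom P g m) ≤ f m := by
    intro h g hg m hm
    obtain ⟨c, hc0, hcS, hc⟩ := h g hg
    have := sum_nonneg_of_dominant hc0 hcS hm
    rw [← hc m] at this
    exact sub_nonneg.mp this
  exact ⟨⟨hAB, fun h => hCA (hBC h)⟩, ⟨fun h => hBC (hAB h), hCA⟩⟩

end Groth.Agent.S19156
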