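import Groth.Statements.S19157
import Mathlib
import Groth.Agent.S19148
import Groth.Agent.S19158
-- import your own Groth.Agent.* helpers here

set_option autoImplicit false
open scoped TensorProduct
universe u v w
open FiltMod

namespace Groth.Agent.S19157.Aux

set_option autoImplicit false

namespace FiltPow


open TensorProduct DirectSum
open Groth.Agent.S19158.Aux.FiltSplit

section tens

variable {R : Type u} [CommRing R] {M : Type v} [AddCommGroup M] [Module R M] {k : ℕ}

/-- span of pure tensors with entries in given submodules -/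
def tens (N : Fin k → Submodule R M) : Submodule R (⨂[R] _ : Fin k, M) :=
  Submodule.span R {t | ∃ y : Fin k → M, (∀ i, y i ∈ N i) ∧ PiTensorProduct.tprod R y = t}

theorem range_map_subtype (N : Fin k → Submodule R M) :
    LinearMap.range (PiTensorProduct.map (R := R) (fun i => (N i).subtype)) = tens N := by
  rw [PiTensorProduct.map_range_eq_span_tprod, tens]
  congr 1
  ext t
  constructor
  · rintro ⟨m, rfl⟩
    exact ⟨fun i => (m i : M), fun i => (m i).2, rfl⟩
  · rintro ⟨y, hy, rfl⟩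
    exact ⟨fun i => ⟨y i, hy i⟩, rfl⟩

theorem tens_eq_bot (N : Fin k → Submodule R M) (j : Fin k) (hj : N j = ⊥) : tens N = ⊥ := by
  rw [tens, Submodule.span_eq_bot]
  rintro t ⟨y, hy, rfl⟩
  have : y j = 0 := by
    have := hy j
    rwa [hj, Submodule.mem_bot] at this
  exact (PiTensorProduct.tprod R).map_coord_zero j this

theorem tens_map {M' : Type v} [AddCommGroup M'] [Module R M'] (π : M →ₗ[R] M')
    (N : Fin k → Submodule R M) :
    tens (fun j => (N j).map π) = (tens N).map (PiTensorProduct.map (fun _ : Fin k => π)) := by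
  rw [tens, tens, Submodule.map_span]
  congr 1
  ext t
  constructor
  · rintro ⟨y, hy, rfl⟩
    choose x hx hxy using hy
    refine ⟨PiTensorProduct.tprod R x, ⟨x, hx, rfl⟩, ?_⟩
    rw [PiTensorProduct.map_tprod]
    congr 1
    funext i
    exact hxy i
  · rintro ⟨_, ⟨x, hx, rfl⟩, rfl⟩
    refine ⟨fun i => π (x i), fun i => Submodule.mem_map_of_mem (hx i), ?_⟩
    rw [PiTensorProduct.map_tprod]

end tens

section quot

variable {Γ : Type w} [DecidableEq Γ]
variable {R : Type u} [CommRing R] {M : Type v} [AddCommGroup M] [Module R M]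

theorem isCompl_of_isInternal (G : Γ → Submodule R M) (hG : DirectSum.IsInternal G) (γ₀ : Γ) :
    IsCompl (G γ₀) (⨆ (η) (_ : η ≠ γ₀), G η) := by
  constructor
  · exact DirectSum.IsInternal.submodule_iSupIndep hG γ₀
  · rw [codisjoint_iff, eq_top_iff, ← DirectSum.IsInternal.submodule_iSup_eq_top hG]
    apply iSup_le
    intro η
    by_cases h : η = γ₀
    · subst h
      exact le_sup_left
    · exact le_sup_of_le_right (le_iSup₂_of_le η h le_rfl)

theorem internal_map_mkQ (G : Γ → Submodule R M) (hG : DirectSum.IsInternal G) (γ₀ : Γ)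
    (P : Submodule R M) (hP : G γ₀ = P) :
    DirectSum.IsInternal (fun η => (G η).map P.mkQ) := by
  have hind := DirectSum.IsInternal.submodule_iSupIndep hG
  apply DirectSum.isInternal_submodule_of_iSupIndep_of_iSup_eq_top
  · intro γ
    rw [Submodule.disjoint_def]
    intro x hx hx'
    have hx'' : x ∈ (⨆ (η) (_ : η ≠ γ), G η).map P.mkQ := by
      simpa only [Submodule.map_iSup] using hx'
    obtain ⟨g, hg, rfl⟩ := Submodule.mem_map.mp hx
    obtain ⟨y, hy, hyg⟩ := Submodule.mem_map.mp hx''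
    have hdiff : g - y ∈ P := by
      rw [← Submodule.Quotient.mk_eq_zero P]
      have : P.mkQ (g - y) = 0 := by rw [map_sub, hyg, sub_self]
      exact this
    by_cases hγ : γ = γ₀
    · subst hγ
      rw [hP] at hg
      exact (Submodule.Quotient.mk_eq_zero P).mpr hg
    · have hg' : g ∈ ⨆ (η) (_ : η ≠ γ), G η := by
        have : g = y + (g - y) := by abel
        rw [this]
        apply Submodule.add_mem _ hy
        rw [← hP] at hdiff
        have hle : G γ₀ ≤ ⨆ (η) (_ : η ≠ γ), G η :=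
          le_iSup₂_of_le (f := fun η (_ : η ≠ γ) => G η) γ₀ (Ne.symm hγ) le_rfl
        exact hle hdiff
      have : g = 0 := Submodule.disjoint_def.mp (hind γ) g hg hg'
      rw [this, map_zero]
  · rw [← Submodule.map_iSup, DirectSum.IsInternal.submodule_iSup_eq_top hG, Submodule.map_top,
      Submodule.range_mkQ]

theorem projective_quot (G : Γ → Submodule R M) (hG : DirectSum.IsInternal G) (γ₀ : Γ)
    (P : Submodule R M) (hP : G γ₀ = P) [Module.Projective R M] :
    Module.Projective R (M ⧸ P) := by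
  have hle : P ≤ LinearMap.ker (LinearMap.id - gproj G hG γ₀) := by
    intro x hx
    rw [LinearMap.mem_ker, LinearMap.sub_apply, LinearMap.id_apply]
    rw [← hP] at hx
    rw [gproj_of_mem G hG γ₀ x hx, sub_self]
  apply Module.Projective.of_split (P.liftQ (LinearMap.id - gproj G hG γ₀) hle) P.mkQ
  apply Submodule.linearMap_qext
  ext x
  simp only [LinearMap.coe_comp, Function.comp_apply, Submodule.mkQ_apply, Submodule.liftQ_apply,
    LinearMap.sub_apply, LinearMap.id_coe, id_eq, Submodule.Quotient.mk_sub]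
  have : (Submodule.Quotient.mk (gproj G hG γ₀ x) : M ⧸ P) = 0 := by
    rw [Submodule.Quotient.mk_eq_zero, ← hP]
    exact gproj_mem G hG γ₀ x
  rw [this, sub_zero]

end quot

section step

variable {Γ : Type w} [AddCommGroup Γ] [LinearOrder Γ] [IsOrderedAddMonoid Γ]
variable {R : Type u} [CommRing R] {M : Type v} [AddCommGroup M] [Module R M] {k : ℕ}

/-- the induced filtration on the tensor power -/
def T (F : Γ → Submodule R M) (γ : Γ) : Submodule R (⨂[R] _ : Fin k, M) :=
  ⨆ c : {c : Fin k → Γ // ∑ i, c i = γ}, tens (fun i => F (c.1 i))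

theorem T_top (F : Γ → Submodule R M) (γ₀ : Γ) (P : Submodule R M)
    (hbot : ∀ γ, γ₀ < γ → F γ = ⊥) (hP : F γ₀ = P) :
    T (k := k) F (k • γ₀) = tens (fun _ => P) := by
  apply le_antisymm
  · apply iSup_le
    rintro ⟨c, hc⟩
    by_cases hex : ∃ j, γ₀ < c j
    · obtain ⟨j, hj⟩ := hex
      rw [tens_eq_bot _ j (hbot _ hj)]
      exact bot_le
    · have hle : ∀ j, c j ≤ γ₀ := fun j => not_lt.mp fun h => hex ⟨j, h⟩
      have heq : ∀ j, c j = γ₀ := by
        by_contra hne
        obtain ⟨j, hj⟩ := not_forall.mp hne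
        have hlt : c j < γ₀ := lt_of_le_of_ne (hle j) hj
        have : ∑ i, c i < ∑ _i : Fin k, γ₀ :=
          Finset.sum_lt_sum (fun i _ => hle i) ⟨j, Finset.mem_univ j, hlt⟩
        rw [hc, Finset.sum_const, Finset.card_univ, Fintype.card_fin] at this
        exact lt_irrefl _ this
      have : (fun i => F (c i)) = fun _ => P := by
        funext i
        rw [heq i, hP]
      change tens (fun i => F (c i)) ≤ _
      rw [this]
  · refine le_iSup_of_le ⟨fun _ => γ₀, by simp⟩ ?_
    change tens (fun _ => P) ≤ tens (fun _ : Fin k => F γ₀)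
    rw [hP]

omit [IsOrderedAddMonoid Γ] [LinearOrder Γ] in
theorem T_map {M' : Type v} [AddCommGroup M'] [Module R M'] (π : M →ₗ[R] M')
    (F : Γ → Submodule R M) (γ : Γ) :
    T (k := k) (fun γ => (F γ).map π) γ =
      (T (k := k) F γ).map (PiTensorProduct.map (fun _ : Fin k => π)) := by
  simp only [T, Submodule.map_iSup, tens_map]

end step

section ind

variable {Γ : Type w} [AddCommGroup Γ] [LinearOrder Γ] [IsOrderedAddMonoid Γ]
variable {R : Type u} [CommRing R] {k : ℕ}

theorem aux (hk : 1 ≤ k) : ∀ (n : ℕ) (M : Type v) [AddCommGroup M] [Module R M] [Module.Finite R M]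
    [Module.Projective R M] (F₁ F₂ G₁ G₂ : Γ → Submodule R M),
    DirectSum.IsInternal G₁ → (∀ γ, F₁ γ = ⨆ η ∈ Set.Ici γ, G₁ η) →
    DirectSum.IsInternal G₂ → (∀ γ, F₂ γ = ⨆ η ∈ Set.Ici γ, G₂ η) →
    ∀ J : Finset Γ, (∀ η, η ∉ J → G₁ η = ⊥ ∧ G₂ η = ⊥) → J.card = n →
    (∀ γ, T (k := k) F₁ γ = T (k := k) F₂ γ) → F₁ = F₂ := by
  intro n
  induction n with
  | zero =>
    intro M _ _ _ _ F₁ F₂ G₁ G₂ _ hF₁ _ hF₂ J hJ hcard _
    have hJe : J = ∅ := Finset.card_eq_zero.mp hcard
    funext γ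
    rw [hF₁ γ, hF₂ γ]
    have h1 : ∀ η, G₁ η = ⊥ := fun η => (hJ η (by rw [hJe]; exact Finset.notMem_empty η)).1
    have h2 : ∀ η, G₂ η = ⊥ := fun η => (hJ η (by rw [hJe]; exact Finset.notMem_empty η)).2
    simp only [h1, h2]
  | succ n ih =>
    intro M _ _ _ _ F₁ F₂ G₁ G₂ hG₁ hF₁ hG₂ hF₂ J hJ hcard h
    have hJne : J.Nonempty := by
      rw [← Finset.card_pos, hcard]
      exact Nat.succ_pos n
    set γ₀ := J.max' hJne with hγ₀
    have hγ₀J : γ₀ ∈ J := Finset.max'_mem _ _
    have hGbot : ∀ η, γ₀ < η → G₁ η = ⊥ ∧ G₂ η = ⊥ := by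
      intro η hη
      apply hJ
      intro hmem
      exact absurd (Finset.le_max' J η hmem) (not_le.mpr hη)
    -- vanishing above γ₀
    have hbot : ∀ (F G : Γ → Submodule R M), (∀ γ, F γ = ⨆ η ∈ Set.Ici γ, G η) →
        (∀ η, γ₀ < η → G η = ⊥) → ∀ γ, γ₀ < γ → F γ = ⊥ := by
      intro F G hF hG γ hγ
      rw [hF γ, eq_bot_iff]
      apply iSup₂_le
      intro η hη
      have hη' : γ ≤ η := hη
      rw [hG η (lt_of_lt_of_le hγ hη')]
    have htop : ∀ (F G : Γ → Submodule R M), (∀ γ, F γ = ⨆ η ∈ Set.Ici γ, G η) →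
        (∀ η, γ₀ < η → G η = ⊥) → F γ₀ = G γ₀ := by
      intro F G hF hG
      rw [hF γ₀]
      apply le_antisymm
      · apply iSup₂_le
        intro η hη
        have hη' : γ₀ ≤ η := hη
        rcases hη'.eq_or_lt with rfl | hlt
        · exact le_rfl
        · rw [hG η hlt]; exact bot_le
      · exact le_iSup₂_of_le γ₀ (Set.mem_Ici.mpr le_rfl) le_rfl
    have hb1 := hbot F₁ G₁ hF₁ (fun η hη => (hGbot η hη).1)
    have hb2 := hbot F₂ G₂ hF₂ (fun η hη => (hGbot η hη).2)
    have ht1 := htop F₁ G₁ hF₁ (fun η hη => (hGbot η hη).1)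
    have ht2 := htop F₂ G₂ hF₂ (fun η hη => (hGbot η hη).2)
    -- top pieces agree
    have hP12 : G₁ γ₀ = G₂ γ₀ := by
      have hT : tens (k := k) (fun _ => G₁ γ₀) = tens (k := k) (fun _ => G₂ γ₀) := by
        rw [← T_top F₁ γ₀ (G₁ γ₀) hb1 ht1, ← T_top F₂ γ₀ (G₂ γ₀) hb2 ht2]
        exact h _
      rw [← range_map_subtype, ← range_map_subtype] at hT
      exact (Groth.Agent.S19148.result (G₁ γ₀) (G₂ γ₀)
        ⟨_, isCompl_of_isInternal G₁ hG₁ γ₀⟩ ⟨_, isCompl_of_isInternal G₂ hG₂ γ₀⟩ k hk).mp hT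
    set P := G₁ γ₀ with hP
    -- the quotient
    have : Module.Projective R (M ⧸ P) := projective_quot G₁ hG₁ γ₀ P rfl
    have hint1 := internal_map_mkQ G₁ hG₁ γ₀ P rfl
    have hint2 := internal_map_mkQ G₂ hG₂ γ₀ P hP12.symm
    have hquot : (fun γ => (F₁ γ).map P.mkQ) = fun γ => (F₂ γ).map P.mkQ := by
      apply ih (M ⧸ P) (fun γ => (F₁ γ).map P.mkQ) (fun γ => (F₂ γ).map P.mkQ)
        (fun η => (G₁ η).map P.mkQ) (fun η => (G₂ η).map P.mkQ) hint1 ?_ hint2 ?_
        (J.erase γ₀) ?_ ?_ ?_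
      · intro γ
        simp only [hF₁ γ, Submodule.map_iSup]
      · intro γ
        simp only [hF₂ γ, Submodule.map_iSup]
      · intro η hη
        by_cases hηγ : η = γ₀
        · subst hηγ
          constructor
          · exact Submodule.mkQ_map_self P
          · rw [← hP12]
            exact Submodule.mkQ_map_self P
        · have : η ∉ J := fun hmem => hη (Finset.mem_erase.mpr ⟨hηγ, hmem⟩)
          obtain ⟨h1, h2⟩ := hJ η this
          simp only [h1, h2, Submodule.map_bot, and_self]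
      · rw [Finset.card_erase_of_mem hγ₀J, hcard]
        rfl
      · intro γ
        rw [T_map, T_map, h γ]
    funext γ
    rcases le_or_gt γ γ₀ with hle | hgt
    · have hPle1 : P ≤ F₁ γ := by
        rw [hF₁ γ]
        exact le_iSup₂_of_le γ₀ hle le_rfl
      have hPle2 : P ≤ F₂ γ := by
        rw [hF₂ γ, hP12]
        exact le_iSup₂_of_le γ₀ hle le_rfl
      have hq := congrArg (fun F' => Submodule.comap P.mkQ (F' γ)) hquot
      simp only [Submodule.comap_map_mkQ] at hq
      rw [sup_eq_right.mpr hPle1, sup_eq_right.mpr hPle2] at hq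
      exact hq
    · rw [hb1 γ hgt, hb2 γ hgt]

end ind

section final

variable {Γ : Type w} [AddCommGroup Γ] [LinearOrder Γ] [IsOrderedAddMonoid Γ]
variable {R : Type u} [CommRing R] {M : Type v} [AddCommGroup M] [Module R M] [Module.Finite R M]
  [Module.Projective R M]

theorem main (F₁ F₂ : Γ → Submodule R M)
    (h₁ : ∃ G : Γ → Submodule R M, DirectSum.IsInternal G ∧ ∀ γ, F₁ γ = ⨆ η ∈ Set.Ici γ, G η)
    (h₂ : ∃ G : Γ → Submodule R M, DirectSum.IsInternal G ∧ ∀ γ, F₂ γ = ⨆ η ∈ Set.Ici γ, G η)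
    (k : ℕ) (hk : 1 ≤ k)
    (h : ∀ γ : Γ,
      (⨆ c : {c : Fin k → Γ // ∑ i, c i = γ}, LinearMap.range
        (PiTensorProduct.map (R := R) (fun i => (F₁ (c.1 i)).subtype))) =
      (⨆ c : {c : Fin k → Γ // ∑ i, c i = γ}, LinearMap.range
        (PiTensorProduct.map (R := R) (fun i => (F₂ (c.1 i)).subtype)))) :
    F₁ = F₂ := by
  classical
  obtain ⟨G₁, hG₁, hF₁⟩ := h₁
  obtain ⟨G₂, hG₂, hF₂⟩ := h₂
  have hfin1 := finite_ne_bot G₁ hG₁
  have hfin2 := finite_ne_bot G₂ hG₂
  set J := hfin1.toFinset ∪ hfin2.toFinset with hJ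
  apply aux hk J.card M F₁ F₂ G₁ G₂ hG₁ hF₁ hG₂ hF₂ J ?_ rfl ?_
  · intro η hη
    rw [hJ, Finset.mem_union, not_or] at hη
    constructor
    · by_contra hne
      exact hη.1 (by simpa using hne)
    · by_contra hne
      exact hη.2 (by simpa using hne)
  · intro γ
    have := h γ
    simp only [range_map_subtype] at this
    exact this

end final

end FiltPow

end Groth.Agent.S19157.Aux

namespace Groth.Agent.S19157

/-- In affine form, let Γ be a non-trivial totally ordered commutative group, R a commutative ring, M a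
finitely generated projective R-module, k ≥ 1, and F₁, F₂ two Γ-filtrations of M each admitting a
splitting (a grading M = ⊕_γ G_γ by submodules with F^γ = Σ_{η ≥ γ} G_η). If the filtrations they
induce on the k-th tensor power M^{⊗k} coincide, i.e. for every γ the sum over γ₁ + ⋯ + γ_k = γ of
the images of F₁^{γ₁} ⊗ ⋯ ⊗ F₁^{γ_k} in M^{⊗k} equals the corresponding sum for F₂, then F₁ = F₂.
(The source states this for Γ-filtrations of a finite locally free sheaf on a scheme, which split
Zariski-locally; this is the affine split case to which it reduces.) -/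
theorem result
    {Γ : Type w} [AddCommGroup Γ] [LinearOrder Γ] [IsOrderedAddMonoid Γ] [Nontrivial Γ]
    {R : Type u} [CommRing R] {M : Type v} [AddCommGroup M] [Module R M] [Module.Finite R M] [Module.Projective R M]
    (F₁ F₂ : Γ → Submodule R M)
    (h₁ : ∃ G : Γ → Submodule R M, DirectSum.IsInternal G ∧ ∀ γ, F₁ γ = ⨆ η ∈ Set.Ici γ, G η)
    (h₂ : ∃ G : Γ → Submodule R M, DirectSum.IsInternal G ∧ ∀ γ, F₂ γ = ⨆ η ∈ Set.Ici γ, G η)
    (k : ℕ) (hk : 1 ≤ k)
    (h : ∀ γ : Γ,
      (⨆ c : {c : Fin k → Γ // ∑ i, c i = γ}, LinearMap.range (PiTensorProduct.map (R := R) (fun i => (F₁ (c.1 i)).subtype))) =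
      (⨆ c : {c : Fin k → Γ // ∑ i, c i = γ}, LinearMap.range (PiTensorProduct.map (R := R) (fun i => (F₂ (c.1 i)).subtype)))) :
    F₁ = F₂ := by
  exact Aux.FiltPow.main F₁ F₂ h₁ h₂ k hk h

end Groth.Agent.S19157
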