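import Groth.Statements.S4637
import Groth.Agent.S8871
import Groth.Agent.Lib.Helper5SuppDim

set_option autoImplicit false
open CategoryTheory AlgebraicGeometry
universe u
open AssSch

namespace Groth.Agent.S4637

set_option linter.style.haveILetI false

open Groth.Agent.S8871 TopologicalSpace in
/-- nonvanishing of a stalk in terms of the support of the module of sections over an affine open. -/
theorem nontrivial_stalk_iff {X : Scheme.{u}} {U : X.Opens} (hU : IsAffineOpen U) (F : X.Modules)
    [F.IsQuasicoherent] (z : X) (hz : z ∈ U) :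
    Nontrivial ↑(F.presheaf.stalk z) ↔
      hU.primeIdealOf ⟨z, hz⟩ ∈ Module.support Γ(X, U) Γ(F, U) := by
  letI : Algebra Γ(X, U) (X.presheaf.stalk z) :=
    TopCat.Presheaf.algebra_section_stalk X.presheaf (⟨z, hz⟩ : U)
  haveI : IsLocalization.AtPrime (X.presheaf.stalk z) (hU.primeIdealOf ⟨z, hz⟩).asIdeal :=
    hU.isLocalization_stalk ⟨z, hz⟩
  have halg : (X.presheaf.germ U z hz).hom = algebraMap Γ(X, U) (X.presheaf.stalk z) := rfl
  have hc : PrimeSpectrum.comap (X.presheaf.germ U z hz).hom
      (IsLocalRing.closedPoint (X.presheaf.stalk z)) = hU.primeIdealOf ⟨z, hz⟩ := by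
    apply PrimeSpectrum.ext
    rw [halg]
    exact IsLocalization.AtPrime.under_maximalIdeal (X.presheaf.stalk z) _
  rw [← hc, ← mem_support_stalk_iff hU F z hz]
  constructor
  · intro hnt
    have hne : (Module.support (X.presheaf.stalk z) (F.presheaf.stalk z)).Nonempty := by
      rw [Set.nonempty_iff_ne_empty, Ne, Module.support_eq_empty_iff]
      exact not_subsingleton _
    obtain ⟨q', hq'⟩ := hne
    exact Module.mem_support_mono (IsLocalRing.le_maximalIdeal q'.isPrime.ne_top) hq'
  · intro h
    by_contra hnt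
    rw [not_nontrivial_iff_subsingleton, ← Module.support_eq_empty_iff (R := X.presheaf.stalk z)] at hnt
    rw [hnt] at h
    exact h

open Groth.Agent.S8871 TopologicalSpace in
/-- Let X be a locally Noetherian scheme, F a coherent O_X-module and x a point of X. Then x is the
generic point of an irreducible component of Supp F (F_x ≠ 0 and every point y with F_y ≠ 0 that
specialises to x equals x) if and only if F_x is a nonzero module of finite length over the local
ring O_{X,x}. -/
theorem result {X : Scheme.{u}} [IsLocallyNoetherian X] (F : X.Modules)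
    (hF : Coh.IsCoh F) (x : X) :
    (Nontrivial ↑(F.presheaf.stalk x) ∧ ∀ y : X, Nontrivial ↑(F.presheaf.stalk y) → y ⤳ x → y = x) ↔
      (Nontrivial ↑(F.presheaf.stalk x) ∧ IsFiniteLength ↑(X.presheaf.stalk x) ↑(F.presheaf.stalk x)) := by
  obtain ⟨hqc, hft⟩ := hF
  haveI : F.IsQuasicoherent := hqc
  haveI : SheafOfModules.IsFiniteType (R := X.ringCatSheaf) F := hft
  obtain ⟨U, hU, hxU, -⟩ :=
    (TopologicalSpace.Opens.isBasis_iff_nbhd.mp X.isBasis_affineOpens) (Opens.mem_top x)
  haveI : IsNoetherianRing Γ(X, U) := IsLocallyNoetherian.component_noetherian ⟨U, hU⟩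
  haveI : Module.Finite Γ(X, U) Γ(F, U) :=
    Groth.Agent.Lib.Helper23.FinType.finite_of_isFiniteType F hU
  haveI : Module.Finite (X.presheaf.stalk x) (F.presheaf.stalk x) := finite_stalk hU F x hxU
  constructor
  · rintro ⟨hnt, hgen⟩
    refine ⟨hnt, ?_⟩
    apply Groth.Agent.Lib.Helper5.isFiniteLength_of_supportDim_le_zero
    by_cases h1 : 1 ≤ Module.supportDim (X.presheaf.stalk x) (F.presheaf.stalk x)
    · exfalso
      obtain ⟨q, hqS, hqlt⟩ := exists_lt_of_one_le_supportDim hU F x hxU h1
      have hyU : hU.fromSpec q ∈ U := Groth.Agent.Lib.Helper2.QCoh.fromSpec_mem hU q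
      have hpQ : hU.primeIdealOf ⟨hU.fromSpec q, hyU⟩ = q :=
        Groth.Agent.Lib.Helper2.QCoh.primeIdealOf_fromSpec hU q
      have hynt : Nontrivial ↑(F.presheaf.stalk (hU.fromSpec q)) := by
        rw [nontrivial_stalk_iff hU F _ hyU, hpQ]; exact hqS
      have hyx : hU.fromSpec q ⤳ x :=
        Groth.Agent.Lib.Helper2.QCoh.fromSpec_specializes hU q x hxU hqlt.le
      have heq := hgen _ hynt hyx
      have h2 : hU.primeIdealOf ⟨x, hxU⟩ = q := by
        rw [← hpQ]; congr 1; exact Subtype.ext heq.symm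
      rw [h2] at hqlt
      exact lt_irrefl _ hqlt
    · exact Order.le_of_lt_succ (not_le.1 h1)
  · rintro ⟨hnt, hfl⟩
    refine ⟨hnt, ?_⟩
    intro y hynt hyx
    by_contra hne'
    have hyU : y ∈ U := hyx.mem_open U.isOpen hxU
    have hle := Groth.Agent.Lib.Helper2.QCoh.primeIdealOf_le_of_specializes hU x y hxU hyU hyx
    have hlt : (hU.primeIdealOf ⟨y, hyU⟩).asIdeal < (hU.primeIdealOf ⟨x, hxU⟩).asIdeal := by
      refine lt_of_le_of_ne hle fun h => hne' ?_
      exact Groth.Agent.Lib.Helper20.AbsCurve.eq_of_primeIdealOf_eq hU y x hyU hxU (PrimeSpectrum.ext h)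
    have hyS := (nontrivial_stalk_iff hU F y hyU).1 hynt
    have h1 := one_le_supportDim_of_lt hU F x hxU _ hyS hlt
    have h0 := Groth.Agent.Lib.Helper5.supportDim_le_zero_of_isFiniteLength hfl
    exact absurd (h1.trans h0) (by decide)

end Groth.Agent.S4637
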