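import Groth.Statements.S1916
import Groth.Agent.S4637

set_option autoImplicit false
universe u
open CategoryTheory AlgebraicGeometry
open Cyc

namespace Groth.Agent.S1916

set_option linter.style.haveILetI false

/-- in a space, only finitely many irreducible components meet a given Noetherian open subset. -/
theorem finite_irreducibleComponents_meeting {α : Type*} [TopologicalSpace α] (V : Set α)
    (hV : IsOpen V) [TopologicalSpace.NoetherianSpace V] :
    {Z : Set α | Z ∈ irreducibleComponents α ∧ (Z ∩ V).Nonempty}.Finite := by
  have hfin : (irreducibleComponents V).Finite :=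
    TopologicalSpace.NoetherianSpace.finite_irreducibleComponents
  refine (hfin.image fun T : Set V => closure ((Subtype.val : V → α) '' T)).subset ?_
  rintro Z ⟨hZ, hne⟩
  have hemb : Topology.IsOpenEmbedding (Subtype.val : V → α) := hV.isOpenEmbedding_subtypeVal
  have hW : IsIrreducible ((Subtype.val : V → α) ⁻¹' Z) := by
    apply hZ.1.preimage hemb
    rw [Subtype.range_coe]
    exact hne
  obtain ⟨T, hT, hWT⟩ := exists_mem_irreducibleComponents_subset_of_isIrreducible _ hW
  refine ⟨T, hT, ?_⟩
  have hirr : IsIrreducible (closure ((Subtype.val : V → α) '' T)) :=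
    (hT.1.image _ continuous_subtype_val.continuousOn).closure
  have hsub : Z ⊆ closure ((Subtype.val : V → α) '' T) := by
    refine (subset_closure_inter_of_isPreirreducible_of_isOpen hZ.1.2 hV hne).trans ?_
    apply closure_mono
    rintro a ⟨haZ, haV⟩
    exact ⟨⟨a, haV⟩, hWT haZ, rfl⟩
  exact subset_antisymm (hZ.2 hirr hsub) hsub

open TopologicalSpace in
/-- Let F be a coherent O_X-module on a locally Noetherian scheme X. The irreducible components of Supp
F form a locally finite family of subsets of X, and at every point ξ of Supp F admitting no proper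
generalization inside Supp F the stalk F_ξ has finite length over O_{X,ξ}. -/
theorem result (X : Scheme.{u}) [IsLocallyNoetherian X] (F : X.Modules) (hF : Coh.IsCoh F) : LocallyFinite (fun Z : irreducibleComponents {x : X | Nontrivial (F.presheaf.stalk x)} => ((↑) '' (Z : Set {x : X | Nontrivial (F.presheaf.stalk x)}) : Set X)) ∧ ∀ ξ : X, Nontrivial (F.presheaf.stalk ξ) → (∀ x : X, Nontrivial (F.presheaf.stalk x) → x ⤳ ξ → x = ξ) → Module.length (X.presheaf.stalk ξ) (F.presheaf.stalk ξ) < ⊤ := by
  constructor
  · intro x
    obtain ⟨U, hU, hxU, -⟩ :=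
      (TopologicalSpace.Opens.isBasis_iff_nbhd.mp X.isBasis_affineOpens) (Opens.mem_top x)
    haveI : IsNoetherianRing Γ(X, U) := IsLocallyNoetherian.component_noetherian ⟨U, hU⟩
    have hUn : NoetherianSpace (U : Set X) := noetherianSpace_of_isAffineOpen U hU
    refine ⟨U, U.isOpen.mem_nhds hxU, ?_⟩
    set S : Set X := {x : X | Nontrivial (F.presheaf.stalk x)} with hS
    let V : Set S := {a | a.1 ∈ U}
    have hVo : IsOpen V := U.isOpen.preimage continuous_subtype_val
    haveI : NoetherianSpace V := by
      rw [noetherianSpace_set_iff]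
      intro t ht
      rw [Topology.IsInducing.subtypeVal.isCompact_iff]
      have hsub : (Subtype.val : S → X) '' t ⊆ (U : Set X) := by
        rintro _ ⟨a, hat, rfl⟩; exact ht hat
      exact (noetherianSpace_set_iff (U : Set X)).1 hUn _ hsub
    have hfin := finite_irreducibleComponents_meeting V hVo
    refine (hfin.preimage (Subtype.val_injective.injOn)).subset ?_
    rintro Z ⟨y, ⟨a, haZ, rfl⟩, hyU⟩
    exact ⟨Z.2, a, haZ, hyU⟩
  · intro ξ hnt hgen
    have h := (Groth.Agent.S4637.result F hF ξ).1 ⟨hnt, hgen⟩
    exact lt_top_iff_ne_top.2 (Module.length_ne_top_iff.2 h.2)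

end Groth.Agent.S1916
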