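import Groth.Statements.S5452
import Groth.Agent.Lib.Helper8Root5

set_option autoImplicit false
open RootPairing
open scoped Pointwise
open RootD

namespace Groth.Agent.S5452

/-- The Weyl group of a root datum acts faithfully on the set of roots. -/
theorem result {ι M N : Type*} [AddCommGroup M] [AddCommGroup N]
    (P : RootPairing ι ℤ M N) [Finite ι] :
    Function.Injective P.weylGroupToPerm := by
  open Groth.Agent.Lib.Helper8 in
  refine (injective_iff_map_eq_one _).mpr ?_
  rintro ⟨g, hg⟩ h
  apply Subtype.ext
  show g = 1
  refine aut_eq_one_of_fix g (fun m => ⟨1, one_pos, ?_⟩) fun i => ?_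
  · rw [one_smul]
    exact weyl_smul_sub_mem_rootSpan hg m
  · have := congrArg (fun e : Equiv.Perm ι => e i) h
    exact this

end Groth.Agent.S5452
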