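import Groth.Statements.S19161
import Groth.Agent.Lib.Helper8Root15
import Groth.Agent.S19156
import Groth.Agent.S5453
import Groth.Agent.S5452

set_option autoImplicit false
open RootPairing
open RootD

namespace Groth.Agent.S19161

open Groth.Agent.Lib.Helper8

variable {ι M N : Type*} [AddCommGroup M] [AddCommGroup N] {P : RootPairing ι ℤ M N}

lemma finite_weyl [Finite ι] : Finite P.weylGroup :=
  Finite.of_injective _ (Groth.Agent.S5452.result P)

/-- Every weight is conjugate under the Weyl group to a dominant one. -/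
lemma exists_dominant [Finite ι] {S : Set ι} (hS : IsPosSys P S) (m : M) :
    ∃ g : P.Aut, g ∈ P.weylGroup ∧ ∀ i ∈ S, 0 ≤ P.coroot' i (g • m) := by
  classical
  let _ := Fintype.ofFinite ι
  have hP2 : ∀ i : ι, i ∈ {i : ι | 0 ≤ P.coroot' i m} ∨
      P.reflectionPerm i i ∈ {i : ι | 0 ≤ P.coroot' i m} := by
    intro i
    rcases le_total 0 (P.coroot' i m) with h | h
    · exact Or.inl h
    · right
      show 0 ≤ P.toLinearMap m (P.coroot (P.reflectionPerm i i))
      have : P.coroot (P.reflectionPerm i i) = -P.coroot i := root_neg P.flip i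
      rw [this, map_neg]
      exact neg_nonneg.mpr h
  have hcl : IsClosedSub P {i : ι | 0 ≤ P.coroot' i m} := by
    intro i j k hi hj hk
    show 0 ≤ P.toLinearMap m (P.coroot k)
    have hi' : 0 ≤ P.toLinearMap m (P.coroot i) := hi
    have hj' : 0 ≤ P.toLinearMap m (P.coroot j) := hj
    have h1 : P.RootForm (P.root k) (P.root k) • P.coroot k =
        P.RootForm (P.root i) (P.root i) • P.coroot i +
          P.RootForm (P.root j) (P.root j) • P.coroot j := by
      rw [RootPairing.rootForm_self_smul_coroot, RootPairing.rootForm_self_smul_coroot,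
        RootPairing.rootForm_self_smul_coroot, hk, map_add, smul_add]
    have h2 := congrArg (fun y => P.toLinearMap m y) h1
    simp only [map_add, map_smul, smul_eq_mul] at h2
    have hk0 := rootForm_root_pos P k
    have hi0 := rootForm_root_pos P i
    have hj0 := rootForm_root_pos P j
    by_contra hneg
    rw [not_le] at hneg
    have : P.RootForm (P.root k) (P.root k) * P.toLinearMap m (P.coroot k) < 0 :=
      mul_neg_of_pos_of_neg hk0 hneg
    have h3 : 0 ≤ P.RootForm (P.root i) (P.root i) * P.toLinearMap m (P.coroot i) :=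
      mul_nonneg hi0.le hi'
    have h4 : 0 ≤ P.RootForm (P.root j) (P.root j) * P.toLinearMap m (P.coroot j) :=
      mul_nonneg hj0.le hj'
    linarith
  obtain ⟨g, hg, hsub⟩ := Groth.Agent.S5453.result P S hS _ hP2 hcl
  refine ⟨g⁻¹, inv_mem hg, fun i hi => ?_⟩
  have h1 : g • i ∈ {i : ι | 0 ≤ P.coroot' i m} := hsub ⟨i, hi, rfl⟩
  have h2 : 0 ≤ P.toLinearMap m (P.coroot (g • i)) := h1
  have h3 := pairing_aut_smul g (g⁻¹ • m) i
  rw [smul_inv_smul] at h3
  rw [h3] at h2
  exact h2

/-- Let P be a root datum (root pairing over ℤ, finitely many roots), S a system of positive roots, W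
the Weyl group, Γ a non-trivial totally ordered commutative group and f₁, f₂ : M → Γ additive maps
which are dominant (f_i(α) ≥ 0 for α ∈ S). Then f₁ ≤ f₂ in the weak dominance order (f₁(m) ≤ f₂(m)
for every dominant weight m, i.e. every m with ⟨m, α∨⟩ ≥ 0 for all α ∈ S) if and only if, for every
non-empty finite W-stable subset X ⊆ M, the maximum of f₁ on X is at most the maximum of f₂ on X.
(The source phrases the right-hand side through W-invariant elements x of ℕ[M] and the largest
element of the support of f_i(x) in ℤ[Γ]; for ℕ-coefficients that largest element is the maximum of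
f_i over the support of x.) -/
theorem result {ι M N : Type*} [AddCommGroup M] [AddCommGroup N]
    (P : RootPairing ι ℤ M N) [Finite ι] (S : Set ι) (hS : RootD.IsPosSys P S)
    {Γ : Type*} [AddCommGroup Γ] [LinearOrder Γ] [IsOrderedAddMonoid Γ] [Nontrivial Γ] (f₁ f₂ : M →+ Γ)
    (hf₁ : ∀ i ∈ S, 0 ≤ f₁ (P.root i)) (hf₂ : ∀ i ∈ S, 0 ≤ f₂ (P.root i)) :
    (∀ m : M, (∀ i ∈ S, 0 ≤ P.coroot' i m) → f₁ m ≤ f₂ m) ↔
    ∀ (X : Finset M) (hX : X.Nonempty), (∀ g : P.Aut, g ∈ P.weylGroup → ∀ m ∈ X, RootPairing.Equiv.weightHom P g m ∈ X) →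
      X.sup' hX f₁ ≤ X.sup' hX f₂ := by
  classical
  let _ := Fintype.ofFinite ι
  have hweak₁ := ((Groth.Agent.S19156.result P S hS f₁).2).mp hf₁
  have hweak₂ := ((Groth.Agent.S19156.result P S hS f₂).2).mp hf₂
  constructor
  · intro h X hX hstab
    obtain ⟨m₁, hm₁, hsup⟩ := Finset.exists_mem_eq_sup' hX f₁
    obtain ⟨g, hg, hdom⟩ := exists_dominant hS m₁
    have hmem : g • m₁ ∈ X := hstab g hg m₁ hm₁
    have h1 : f₁ m₁ ≤ f₁ (g • m₁) := by
      have := hweak₁ g⁻¹ (inv_mem hg) (g • m₁) hdom
      have h2 : RootPairing.Equiv.weightHom P g⁻¹ (g • m₁) = m₁ := inv_smul_smul g m₁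
      rw [h2] at this
      exact this
    rw [hsup]
    exact h1.trans ((h _ hdom).trans (Finset.le_sup' f₂ hmem))
  · intro h m hm
    have : Finite P.weylGroup := finite_weyl
    let _ := Fintype.ofFinite P.weylGroup
    set X : Finset M := Finset.image (fun g : P.weylGroup => (g : P.Aut) • m) Finset.univ with hXdef
    have hmX : m ∈ X := by
      rw [hXdef, Finset.mem_image]
      exact ⟨1, Finset.mem_univ _, by simp⟩
    have hX : X.Nonempty := ⟨m, hmX⟩
    have hstab : ∀ g : P.Aut, g ∈ P.weylGroup → ∀ x ∈ X, RootPairing.Equiv.weightHom P g x ∈ X := by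
      intro g hg x hx
      rw [hXdef, Finset.mem_image] at hx ⊢
      obtain ⟨w, _, rfl⟩ := hx
      refine ⟨⟨g, hg⟩ * w, Finset.mem_univ _, ?_⟩
      show (g * (w : P.Aut)) • m = g • ((w : P.Aut) • m)
      rw [mul_smul]
    have h1 := h X hX hstab
    have h2 : f₁ m ≤ X.sup' hX f₁ := Finset.le_sup' f₁ hmX
    have h3 : X.sup' hX f₂ ≤ f₂ m := by
      apply Finset.sup'_le
      intro x hx
      rw [hXdef, Finset.mem_image] at hx
      obtain ⟨w, _, rfl⟩ := hx
      exact hweak₂ (w : P.Aut) w.2 m hm
    exact h2.trans (h1.trans h3)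

end Groth.Agent.S19161
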