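import Groth.Statements.S19167
import Mathlib
-- import your own Groth.Agent.* helpers here

set_option autoImplicit false
universe u v
open ProCompl

namespace Groth.Agent.S19167

open Topology in
/-- Let i : A → B be an injective continuous homomorphism of topological abelian groups inducing the
topology of A from that of B (a strict injection), with open image. Then every character χ : A → ℚ/ℤ
with open kernel extends along i to a character ψ : B → ℚ/ℤ with open kernel. Here ℚ/ℤ is regarded
as a discrete group, so that continuity of a character means that its kernel is open. -/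
theorem result
    {A : Type u} {B : Type v} [AddCommGroup A] [TopologicalSpace A] [IsTopologicalAddGroup A]
    [AddCommGroup B] [TopologicalSpace B] [IsTopologicalAddGroup B]
    (i : A →+ B) (hi : Continuous i) (hinj : Function.Injective i) (hind : IsInducing i)
    (hopen : IsOpen (Set.range i))
    (χ : A →+ ℚ ⧸ AddSubgroup.zmultiples (1 : ℚ)) (hχ : IsOpen (χ.ker : Set A)) :
    ∃ ψ : B →+ ℚ ⧸ AddSubgroup.zmultiples (1 : ℚ), IsOpen (ψ.ker : Set B) ∧ ψ.comp i = χ := by
  have hBaer : Module.Baer ℤ (ℚ ⧸ AddSubgroup.zmultiples (1 : ℚ)) :=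
    Module.Baer.of_divisible (AddCircle (1 : ℚ))
  obtain ⟨ψ, hψ⟩ := hBaer.extension_property_addMonoidHom i hinj χ
  refine ⟨ψ, ?_, hψ⟩
  have hoe : IsOpenEmbedding i := ⟨⟨hind, hinj⟩, hopen⟩
  have hle : (χ.ker).map i ≤ ψ.ker := by
    rintro _ ⟨a, ha, rfl⟩
    rw [SetLike.mem_coe] at ha
    rw [AddMonoidHom.mem_ker] at ha ⊢
    have := DFunLike.congr_fun hψ a
    rw [AddMonoidHom.comp_apply] at this
    rw [this, ha]
  have hopen' : IsOpen (((χ.ker).map i : AddSubgroup B) : Set B) := by
    rw [AddSubgroup.coe_map]
    exact hoe.isOpenMap _ hχ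
  exact AddSubgroup.isOpen_mono hle hopen'

end Groth.Agent.S19167
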