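import Groth.Statements.S19170
import Mathlib
-- import your own Groth.Agent.* helpers here

set_option autoImplicit false
universe u
open ProCompl

namespace Groth.Agent.S19170

/-- Let B be a topological abelian group generated as a group by a compact subset. Then every character
χ : B → ℚ/ℤ with open kernel (a continuous character for discrete ℚ/ℤ) has kernel of finite index;
consequently each such character factors through B^∧, the completion of B taken along its
finite-index open subgroups, i.e. (B^∧)^D = B^D. (The published statement assumes moreover that B is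
Hausdorff, locally compact and totally disconnected; only compact generation is needed for this
assertion, so those assumptions are dropped here.) -/
theorem result
    {B : Type u} [AddCommGroup B] [TopologicalSpace B] [IsTopologicalAddGroup B]
    (hcg : ∃ K : Set B, IsCompact K ∧ AddSubgroup.closure K = ⊤)
    (χ : B →+ ℚ ⧸ AddSubgroup.zmultiples (1 : ℚ)) (hχ : IsOpen (χ.ker : Set B)) : χ.ker.FiniteIndex := by
  obtain ⟨K, hK, hgen⟩ := hcg
  have hcover : K ⊆ ⋃ b : B, (fun x => b + x) '' (χ.ker : Set B) := fun x _ =>
    Set.mem_iUnion.mpr ⟨x, 0, χ.ker.zero_mem, add_zero x⟩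
  have hopen : ∀ b : B, IsOpen ((fun x => b + x) '' (χ.ker : Set B)) := fun b =>
    (Homeomorph.addLeft b).isOpenMap _ hχ
  obtain ⟨t, ht⟩ := hK.elim_finite_subcover _ hopen hcover
  have hsub : χ '' K ⊆ χ '' (t : Set B) := by
    rintro _ ⟨x, hx, rfl⟩
    obtain ⟨b, hb, y, hy, rfl⟩ : ∃ b ∈ t, ∃ y ∈ (χ.ker : Set B), b + y = x := by
      have := ht hx
      simp only [Set.mem_iUnion, Set.mem_image, exists_prop] at this
      exact this
    refine ⟨b, hb, ?_⟩
    rw [map_add, (AddMonoidHom.mem_ker).mp hy, add_zero]
  have hfin : (χ '' K).Finite := (t.finite_toSet.image χ).subset hsub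
  have hrange : χ.range = AddSubgroup.closure (χ '' K) := by
    rw [← AddMonoidHom.map_closure, hgen, AddMonoidHom.range_eq_map]
  haveI : AddGroup.FG χ.range := by
    rw [AddGroup.fg_iff_addSubgroup_fg, hrange]
    exact ⟨hfin.toFinset, by rw [Set.Finite.coe_toFinset]⟩
  have htors : IsAddTorsion χ.range := by
    rintro ⟨x, hx⟩
    obtain ⟨q, rfl⟩ := QuotientAddGroup.mk_surjective x
    rw [isOfFinAddOrder_iff_nsmul_eq_zero]
    refine ⟨q.den, q.den_pos, Subtype.ext ?_⟩
    change q.den • (QuotientAddGroup.mk q : ℚ ⧸ AddSubgroup.zmultiples (1 : ℚ)) = 0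
    rw [← QuotientAddGroup.mk_nsmul, QuotientAddGroup.eq_zero_iff, AddSubgroup.mem_zmultiples_iff]
    refine ⟨q.num, ?_⟩
    rw [nsmul_eq_mul, zsmul_eq_mul, mul_one, mul_comm]
    exact (Rat.mul_den_eq_num q).symm
  haveI : Finite χ.range := AddCommGroup.finite_of_fg_isAddTorsion _ htors
  exact AddSubgroup.finiteIndex_ker χ

end Groth.Agent.S19170
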