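import Groth.Statements.S19176
import Mathlib
-- import your own Groth.Agent.* helpers here

set_option autoImplicit false
universe u
open PlaneCurve

namespace Groth.Agent.S19176.Aux
set_option autoImplicit false

namespace CuspJac
open MvPolynomial

variable (k : Type u) [Field k]

local notation "P" => MvPolynomial (Fin 2) k

/-- the exponent vector `(i, j)` -/
noncomputable def ex (i j : ℕ) : Fin 2 →₀ ℕ := Finsupp.single 0 i + Finsupp.single 1 j

theorem ex_zero (i j : ℕ) : ex i j 0 = i := by simp [ex]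
theorem ex_one (i j : ℕ) : ex i j 1 = j := by simp [ex]

theorem eq_ex (m : Fin 2 →₀ ℕ) : m = ex (m 0) (m 1) := by
  ext t
  fin_cases t
  · simp [ex]
  · simp [ex]

theorem ex_inj {i j i' j' : ℕ} (h : ex i j = ex i' j') : i = i' ∧ j = j' := by
  constructor
  · have := congrArg (fun m : Fin 2 →₀ ℕ => m 0) h
    simpa [ex] using this
  · have := congrArg (fun m : Fin 2 →₀ ℕ => m 1) h
    simpa [ex] using this

/-- coefficient extraction in the box `[0,a) × [0,b)` -/
noncomputable def L (a b : ℕ) : P →ₗ[k] (Fin a × Fin b → k) where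
  toFun g := fun x => coeff (ex x.1 x.2) g
  map_add' g h := by funext x; simp
  map_smul' c g := by funext x; simp

theorem L_apply (a b : ℕ) (g : P) (x : Fin a × Fin b) : L k a b g x = coeff (ex x.1 x.2) g := rfl

theorem L_surj (a b : ℕ) : Function.Surjective (L k a b) := by
  intro v
  refine ⟨∑ x : Fin a × Fin b, monomial (ex x.1 x.2) (v x), ?_⟩
  funext y
  rw [L_apply, coeff_sum]
  rw [Finset.sum_eq_single y]
  · simp
  · intro x _ hxy
    rw [coeff_monomial, if_neg]
    intro h
    apply hxy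
    obtain ⟨h1, h2⟩ := ex_inj h
    exact Prod.ext (Fin.ext h1) (Fin.ext h2)
  · intro hy
    exact absurd (Finset.mem_univ y) hy

theorem ker_L (a b : ℕ) :
    (Ideal.span ({X 0 ^ a, X 1 ^ b} : Set P)).restrictScalars k = LinearMap.ker (L k a b) := by
  apply le_antisymm
  · intro g hg
    rw [Submodule.restrictScalars_mem] at hg
    rw [LinearMap.mem_ker]
    refine Submodule.span_induction ?_ ?_ ?_ ?_ hg
    · intro g hg
      simp only [Set.mem_insert_iff, Set.mem_singleton_iff] at hg
      rcases hg with rfl | rfl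
      · funext x
        rw [L_apply, X_pow_eq_monomial, ← mul_one (monomial _ _), coeff_monomial_mul', if_neg]
        · rfl
        · rw [Finsupp.single_le_iff, ex_zero]; exact not_le.mpr x.1.2
      · funext x
        rw [L_apply, X_pow_eq_monomial, ← mul_one (monomial _ _), coeff_monomial_mul', if_neg]
        · rfl
        · rw [Finsupp.single_le_iff, ex_one]; exact not_le.mpr x.2.2
    · exact map_zero _
    · intro g h _ _ hg hh
      rw [map_add, hg, hh, add_zero]
    · intro c g _ hg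
      -- c • g = c * g, use monomial decomposition of c
      rw [smul_eq_mul]
      funext x
      rw [L_apply]
      induction c using MvPolynomial.induction_on' with
      | monomial m r =>
        rw [Pi.zero_apply]
        have hzero : ∀ y : Fin a × Fin b, coeff (ex y.1 y.2) g = 0 := fun y => congrFun hg y
        rw [coeff_monomial_mul']
        split_ifs with hle
        · have hm : ex (↑x.1) (↑x.2) - m = ex (x.1 - m 0) (x.2 - m 1) := by
            ext t
            fin_cases t <;> simp [ex]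
          rw [hm]
          have h1 : (x.1 : ℕ) - m 0 < a := lt_of_le_of_lt (Nat.sub_le _ _) x.1.2
          have h2 : (x.2 : ℕ) - m 1 < b := lt_of_le_of_lt (Nat.sub_le _ _) x.2.2
          have := hzero (⟨_, h1⟩, ⟨_, h2⟩)
          simp only at this
          rw [this, mul_zero]
        · rfl
      | add p q hp hq =>
        rw [add_mul, coeff_add, hp, hq]
        simp
  · intro g hg
    rw [LinearMap.mem_ker] at hg
    rw [Submodule.restrictScalars_mem]
    rw [g.as_sum]
    refine Submodule.sum_mem _ fun m hm => ?_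
    have hcoef : coeff m g ≠ 0 := mem_support_iff.mp hm
    have hbox : ¬ (m 0 < a ∧ m 1 < b) := by
      rintro ⟨h1, h2⟩
      apply hcoef
      have := congrFun hg (⟨m 0, h1⟩, ⟨m 1, h2⟩)
      rw [L_apply] at this
      simp only at this
      rw [← eq_ex] at this
      exact this
    rw [not_and_or, not_lt, not_lt] at hbox
    rcases hbox with h | h
    · have hm' : m = (m - Finsupp.single 0 a) + Finsupp.single 0 a := by
        rw [tsub_add_cancel_of_le]
        rw [Finsupp.single_le_iff]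
        exact h
      rw [hm', ← mul_one (coeff _ g), ← monomial_mul, ← X_pow_eq_monomial]
      exact Ideal.mul_mem_left _ _ (Ideal.subset_span (by simp))
    · have hm' : m = (m - Finsupp.single 1 b) + Finsupp.single 1 b := by
        rw [tsub_add_cancel_of_le]
        rw [Finsupp.single_le_iff]
        exact h
      rw [hm', ← mul_one (coeff _ g), ← monomial_mul, ← X_pow_eq_monomial]
      exact Ideal.mul_mem_left _ _ (Ideal.subset_span (by simp))

theorem finrank_box (a b : ℕ) :
    Module.finrank k (P ⧸ Ideal.span ({X 0 ^ a, X 1 ^ b} : Set P)) = a * b := by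
  have e1 := Submodule.Quotient.restrictScalarsEquiv k (Ideal.span ({X 0 ^ a, X 1 ^ b} : Set P))
  have e2 := Submodule.quotEquivOfEq _ _ (ker_L k a b)
  have e3 := (L k a b).quotKerEquivOfSurjective (L_surj k a b)
  rw [(e1.symm.trans (e2.trans e3)).finrank_eq]
  simp


theorem hd0 : pderiv 0 (X 1 ^ 2 - X 0 ^ 3 : P) = - (C 3 * X 0 ^ 2) := by
  simp [Derivation.leibniz_pow]
  exact (map_ofNat C 3).symm

theorem hd1 : pderiv 1 (X 1 ^ 2 - X 0 ^ 3 : P) = C 2 * X 1 := by
  simp [Derivation.leibniz_pow]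
  exact (map_ofNat C 2).symm

/-- the Jacobian ideal of the cusp -/
noncomputable abbrev J : Ideal P :=
  Ideal.span ({X 1 ^ 2 - X 0 ^ 3, pderiv 0 (X 1 ^ 2 - X 0 ^ 3), pderiv 1 (X 1 ^ 2 - X 0 ^ 3)} : Set P)

theorem J_eq : J k = Ideal.span ({X 1 ^ 2 - X 0 ^ 3, - (C 3 * X 0 ^ 2), C 2 * X 1} : Set P) := by
  rw [J, hd0, hd1]

theorem two_ne_zero_of (p : ℕ) [CharP k p] (hp : p ≠ 2) : (2 : k) ≠ 0 := by
  intro h
  have h2 : ((2 : ℕ) : k) = 0 := by exact_mod_cast h
  rw [CharP.cast_eq_zero_iff k p] at h2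
  have hle : p ≤ 2 := Nat.le_of_dvd (by norm_num) h2
  interval_cases p
  · simp at h2
  · have : ((1 : ℕ) : k) = 0 := (CharP.cast_eq_zero_iff k 1 1).mpr (dvd_refl 1)
    exact one_ne_zero (α := k) (by exact_mod_cast this)
  · exact hp rfl

theorem three_ne_zero_of (p : ℕ) [CharP k p] (hp : p ≠ 3) : (3 : k) ≠ 0 := by
  intro h
  have h2 : ((3 : ℕ) : k) = 0 := by exact_mod_cast h
  rw [CharP.cast_eq_zero_iff k p] at h2
  have hle : p ≤ 3 := Nat.le_of_dvd (by norm_num) h2
  interval_cases p
  · simp at h2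
  · have : ((1 : ℕ) : k) = 0 := (CharP.cast_eq_zero_iff k 1 1).mpr (dvd_refl 1)
    exact one_ne_zero (α := k) (by exact_mod_cast this)
  · norm_num at h2
  · exact hp rfl

theorem case_two [CharP k 2] : J k = Ideal.span ({X 0 ^ 2, X 1 ^ 2} : Set P) := by
  have h2 : (2 : k) = 0 := by
    have : ((2 : ℕ) : k) = 0 := (CharP.cast_eq_zero_iff k 2 2).mpr (dvd_refl 2)
    exact_mod_cast this
  have h3 : (3 : k) = 1 := by
    have : (3 : k) = 2 + 1 := by norm_num
    rw [this, h2, zero_add]
  rw [J_eq, h2, h3, C_0, C_1, zero_mul, one_mul]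
  set T1 : Ideal P := Ideal.span ({X 1 ^ 2 - X 0 ^ 3, - X 0 ^ 2, 0} : Set P) with hT1
  set T2 : Ideal P := Ideal.span ({X 0 ^ 2, X 1 ^ 2} : Set P) with hT2
  have m1a : (X 1 ^ 2 - X 0 ^ 3 : P) ∈ T1 := Ideal.subset_span (by simp)
  have m1b : (- X 0 ^ 2 : P) ∈ T1 := Ideal.subset_span (by simp)
  have m2a : (X 0 ^ 2 : P) ∈ T2 := Ideal.subset_span (by simp)
  have m2b : (X 1 ^ 2 : P) ∈ T2 := Ideal.subset_span (by simp)
  apply le_antisymm
  · rw [hT1, Ideal.span_le]
    intro g hg
    simp only [Set.mem_insert_iff, Set.mem_singleton_iff] at hg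
    rcases hg with rfl | rfl | rfl
    · have : (X 1 ^ 2 - X 0 ^ 3 : P) = X 1 ^ 2 - X 0 * X 0 ^ 2 := by ring
      rw [SetLike.mem_coe, this]
      exact Ideal.sub_mem _ m2b (Ideal.mul_mem_left _ _ m2a)
    · exact (Ideal.neg_mem_iff _).mpr m2a
    · exact zero_mem _
  · rw [hT2, Ideal.span_le]
    intro g hg
    simp only [Set.mem_insert_iff, Set.mem_singleton_iff] at hg
    have hx : (X 0 ^ 2 : P) ∈ T1 := (Ideal.neg_mem_iff _).mp m1b
    rcases hg with rfl | rfl
    · exact hx
    · have : (X 1 ^ 2 : P) = (X 1 ^ 2 - X 0 ^ 3) + X 0 * X 0 ^ 2 := by ring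
      rw [SetLike.mem_coe, this]
      exact Ideal.add_mem _ m1a (Ideal.mul_mem_left _ _ hx)

theorem case_three [CharP k 3] : J k = Ideal.span ({X 0 ^ 3, X 1 ^ 1} : Set P) := by
  have h3 : (3 : k) = 0 := by
    have : ((3 : ℕ) : k) = 0 := (CharP.cast_eq_zero_iff k 3 3).mpr (dvd_refl 3)
    exact_mod_cast this
  have h2 : (2 : k) ≠ 0 := two_ne_zero_of k 3 (by norm_num)
  rw [J_eq, h3, C_0, zero_mul, neg_zero, pow_one]
  set T1 : Ideal P := Ideal.span ({X 1 ^ 2 - X 0 ^ 3, 0, C 2 * X 1} : Set P) with hT1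
  set T2 : Ideal P := Ideal.span ({X 0 ^ 3, X 1} : Set P) with hT2
  have m1a : (X 1 ^ 2 - X 0 ^ 3 : P) ∈ T1 := Ideal.subset_span (by simp)
  have m1c : (C 2 * X 1 : P) ∈ T1 := Ideal.subset_span (by simp)
  have m2a : (X 0 ^ 3 : P) ∈ T2 := Ideal.subset_span (by simp)
  have m2b : (X 1 : P) ∈ T2 := Ideal.subset_span (by simp)
  apply le_antisymm
  · rw [hT1, Ideal.span_le]
    intro g hg
    simp only [Set.mem_insert_iff, Set.mem_singleton_iff] at hg
    rcases hg with rfl | rfl | rfl
    · have : (X 1 ^ 2 - X 0 ^ 3 : P) = X 1 * X 1 - X 0 ^ 3 := by ring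
      rw [SetLike.mem_coe, this]
      exact Ideal.sub_mem _ (Ideal.mul_mem_left _ _ m2b) m2a
    · exact zero_mem _
    · exact Ideal.mul_mem_left _ _ m2b
  · rw [hT2, Ideal.span_le]
    intro g hg
    simp only [Set.mem_insert_iff, Set.mem_singleton_iff] at hg
    have hy : (X 1 : P) ∈ T1 := by
      have e : (X 1 : P) = C (2⁻¹ : k) * (C 2 * X 1) := by
        rw [← mul_assoc, ← C_mul, inv_mul_cancel₀ h2, C_1, one_mul]
      rw [e]
      exact Ideal.mul_mem_left _ _ m1c
    rcases hg with rfl | rfl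
    · have : (X 0 ^ 3 : P) = X 1 * X 1 - (X 1 ^ 2 - X 0 ^ 3) := by ring
      rw [SetLike.mem_coe, this]
      exact Ideal.sub_mem _ (Ideal.mul_mem_left _ _ hy) m1a
    · exact hy

theorem case_other (p : ℕ) [CharP k p] (hp2 : p ≠ 2) (hp3 : p ≠ 3) :
    J k = Ideal.span ({X 0 ^ 2, X 1 ^ 1} : Set P) := by
  have h2 : (2 : k) ≠ 0 := two_ne_zero_of k p hp2
  have h3 : (3 : k) ≠ 0 := three_ne_zero_of k p hp3
  rw [J_eq, pow_one]
  set T1 : Ideal P := Ideal.span ({X 1 ^ 2 - X 0 ^ 3, - (C 3 * X 0 ^ 2), C 2 * X 1} : Set P) with hT1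
  set T2 : Ideal P := Ideal.span ({X 0 ^ 2, X 1} : Set P) with hT2
  have m1b : (- (C 3 * X 0 ^ 2) : P) ∈ T1 := Ideal.subset_span (by simp)
  have m1c : (C 2 * X 1 : P) ∈ T1 := Ideal.subset_span (by simp)
  have m2a : (X 0 ^ 2 : P) ∈ T2 := Ideal.subset_span (by simp)
  have m2b : (X 1 : P) ∈ T2 := Ideal.subset_span (by simp)
  apply le_antisymm
  · rw [hT1, Ideal.span_le]
    intro g hg
    simp only [Set.mem_insert_iff, Set.mem_singleton_iff] at hg
    rcases hg with rfl | rfl | rfl
    · have : (X 1 ^ 2 - X 0 ^ 3 : P) = X 1 * X 1 - X 0 * X 0 ^ 2 := by ring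
      rw [SetLike.mem_coe, this]
      exact Ideal.sub_mem _ (Ideal.mul_mem_left _ _ m2b) (Ideal.mul_mem_left _ _ m2a)
    · exact (Ideal.neg_mem_iff _).mpr (Ideal.mul_mem_left _ _ m2a)
    · exact Ideal.mul_mem_left _ _ m2b
  · rw [hT2, Ideal.span_le]
    intro g hg
    simp only [Set.mem_insert_iff, Set.mem_singleton_iff] at hg
    rcases hg with rfl | rfl
    · have e : (X 0 ^ 2 : P) = (- C (3⁻¹ : k)) * (- (C 3 * X 0 ^ 2)) := by
        rw [neg_mul_neg, ← mul_assoc, ← C_mul, inv_mul_cancel₀ h3, C_1, one_mul]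
      rw [SetLike.mem_coe, e]
      exact Ideal.mul_mem_left _ _ m1b
    · have e : (X 1 : P) = C (2⁻¹ : k) * (C 2 * X 1) := by
        rw [← mul_assoc, ← C_mul, inv_mul_cancel₀ h2, C_1, one_mul]
      rw [SetLike.mem_coe, e]
      exact Ideal.mul_mem_left _ _ m1c

theorem main (p : ℕ) [CharP k p] :
    Module.finrank k (P ⧸ J k) = (if p = 2 then 4 else if p = 3 then 3 else 2) := by
  by_cases h2 : p = 2
  · subst h2
    rw [if_pos rfl, case_two, finrank_box]
  · by_cases h3 : p = 3
    · subst h3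
      rw [if_neg h2, if_pos rfl, case_three, finrank_box]
    · rw [if_neg h2, if_neg h3, case_other k p h2 h3, finrank_box]

end CuspJac

end Groth.Agent.S19176.Aux

namespace Groth.Agent.S19176

open MvPolynomial in
/-- Let k be a field of characteristic p (p = 0 allowed) and F = y² − x³ in k[x, y] (x the variable of
index 0, y of index 1). The singular subscheme of the plane curve F = 0, cut out by F and its two
partial derivatives, is finite over k of degree 4 when p = 2, of degree 3 when p = 3, and of degree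
2 otherwise: the k-dimension of k[x, y]/(F, ∂F/∂x, ∂F/∂y) is that number. (The source phrases this
through the complete local ring of a cusp; the row is the computation for the standard cusp y² =
x³.) -/
theorem result (k : Type u) [Field k] (p : ℕ) [CharP k p] :
    Module.finrank k (MvPolynomial (Fin 2) k ⧸ Ideal.span
      ({X 1 ^ 2 - X 0 ^ 3, pderiv 0 (X 1 ^ 2 - X 0 ^ 3), pderiv 1 (X 1 ^ 2 - X 0 ^ 3)} :
        Set (MvPolynomial (Fin 2) k))) = (if p = 2 then 4 else if p = 3 then 3 else 2) := by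
  exact Aux.CuspJac.main k p

end Groth.Agent.S19176
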