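import Groth.Statements.S19177
import Mathlib

set_option autoImplicit false
universe u
open CAlg

namespace Groth.Agent.S19177

lemma exists_retraction (S R : Type u) [CommRing S] [CommRing R] [Algebra S R] [Module.Finite S R]
    [Module.Projective S R]
    (h2 : ∀ p : PrimeSpectrum S, Module.rankAtStalk (R := S) R p = 2) :
    ∃ g : R →ₗ[S] S, g 1 = 1 := by
  let ev : (R →ₗ[S] S) →ₗ[S] S := LinearMap.applyₗ (1 : R)
  let I : Ideal S := LinearMap.range ev
  suffices hI : I = ⊤ by
    have h1 : (1 : S) ∈ I := by rw [hI]; trivial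
    obtain ⟨g, hg⟩ := h1
    exact ⟨g, hg⟩
  by_contra hne
  obtain ⟨m, hm, hIm⟩ := Ideal.exists_le_maximal I hne
  let P : PrimeSpectrum S := ⟨m, hm.isPrime⟩
  have hpos : 0 < Module.rankAtStalk (R := S) R P := by rw [h2]; norm_num
  rw [PrimeSpectrum.rankAtStalk_pos_iff_mem_range_comap] at hpos
  obtain ⟨q, hq⟩ := hpos
  obtain ⟨s, hs⟩ := Module.projective_def'.1 (inferInstance : Module.Projective S R)
  have h1 : (1 : R) = Finsupp.linearCombination S id (s 1) := by
    have := LinearMap.congr_fun hs 1
    simpa using this.symm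
  have h3 : (1 : R) ∈ q.asIdeal := by
    rw [h1, Finsupp.linearCombination_apply, Finsupp.sum]
    refine Ideal.sum_mem _ fun r _ => ?_
    rw [id, Algebra.smul_def]
    apply Ideal.mul_mem_right
    have h4 : (s 1) r ∈ I := ⟨(Finsupp.lapply r).comp s, rfl⟩
    have h5 : (s 1) r ∈ m := hIm h4
    have h6 : m = q.asIdeal.comap (algebraMap S R) := by
      have := congrArg PrimeSpectrum.asIdeal hq
      exact this.symm
    rw [h6] at h5
    exact h5
  exact q.isPrime.ne_top ((Ideal.eq_top_iff_one _).2 h3)

/-- Let S → R be a homomorphism of commutative rings making R a finitely generated projective S-module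
of rank 2 at every prime of S (the affine form of a finite locally free morphism of degree 2). Then
the cokernel of the (injective) structure map S → R, the S-module R/S, is a projective S-module of
rank 1 at every prime of S (locally free of rank 1). -/
theorem result
    (S R : Type u) [CommRing S] [CommRing R] [Algebra S R] [Module.Finite S R] [Module.Projective S R]
    (h2 : ∀ p : PrimeSpectrum S, Module.rankAtStalk (R := S) R p = 2) :
    Module.Projective S (R ⧸ LinearMap.range (Algebra.linearMap S R)) ∧
      ∀ p : PrimeSpectrum S,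
        Module.rankAtStalk (R := S) (R ⧸ LinearMap.range (Algebra.linearMap S R)) p = 1 := by
  obtain ⟨g, hg⟩ := exists_retraction S R h2
  set N := LinearMap.range (Algebra.linearMap S R) with hN
  have hgalg : ∀ a : S, g (algebraMap S R a) = a := by
    intro a
    rw [Algebra.algebraMap_eq_smul_one, map_smul, hg, smul_eq_mul, mul_one]
  let i : (R ⧸ N) →ₗ[S] R := N.liftQ (LinearMap.id - (Algebra.linearMap S R) ∘ₗ g) (by
    rintro _ ⟨a, rfl⟩
    simp [hgalg])
  have hi : ∀ x : R, i (N.mkQ x) = x - algebraMap S R (g x) := by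
    intro x
    simp [i]
  have hmk : ∀ a : S, N.mkQ (algebraMap S R a) = 0 := by
    intro a
    rw [Submodule.mkQ_apply, Submodule.Quotient.mk_eq_zero]
    exact ⟨a, rfl⟩
  have H : N.mkQ ∘ₗ i = LinearMap.id := by
    apply Submodule.linearMap_qext
    ext x
    simp only [LinearMap.coe_comp, Function.comp_apply, LinearMap.id_comp]
    rw [hi, map_sub, hmk, sub_zero]
  have hproj : Module.Projective S (R ⧸ N) := Module.Projective.of_split i N.mkQ H
  refine ⟨hproj, fun p => ?_⟩
  have hgi : ∀ y : R ⧸ N, g (i y) = 0 := by
    intro y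
    obtain ⟨x, rfl⟩ := N.mkQ_surjective y
    rw [hi, map_sub, hgalg, sub_self]
  let e : R ≃ₗ[S] S × (R ⧸ N) := LinearEquiv.ofLinearMap (g.prod N.mkQ)
    ((Algebra.linearMap S R).coprod i)
    (by
      apply LinearMap.ext
      rintro ⟨a, y⟩
      show (g (algebraMap S R a + i y), N.mkQ (algebraMap S R a + i y)) = (a, y)
      rw [map_add, map_add, hgalg, hgi, hmk, add_zero, zero_add]
      congr 1
      exact LinearMap.congr_fun H y)
    (by
      apply LinearMap.ext
      intro x
      show algebraMap S R (g x) + i (N.mkQ x) = x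
      rw [hi]
      abel)
  have hnt : Nontrivial S := by
    by_contra hS
    rw [not_nontrivial_iff_subsingleton] at hS
    exact p.isPrime.ne_top (Subsingleton.elim _ _)
  have h3 := Module.rankAtStalk_eq_of_equiv e
  rw [Module.rankAtStalk_prod, Module.rankAtStalk_self] at h3
  have h4 := congrFun h3 p
  rw [h2] at h4
  simp only [Pi.add_apply, Pi.one_apply] at h4
  omega

end Groth.Agent.S19177
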