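import Groth.Statements.S19180
import Mathlib
import Groth.Agent.Lib.Helper27PnCohVanish
import Groth.Agent.Lib.Helper27CohFin
import Groth.Agent.Lib.Helper27PnMor2

set_option autoImplicit false
universe u
open Coherent

namespace Groth.Agent.S19180

open CategoryTheory AlgebraicGeometry in
/-- Let R be a local ring and m ≥ 1, and consider the projective line P¹_R with its structure sheaf O
and twisting sheaf O(m). For every O-module F and every short exact sequence 0 → O(m) → F → O → 0 of
O-modules, the surjection F → O admits a section; consequently F is isomorphic to O(m) ⊕ O. -/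
theorem result (R : Type u) [CommRing R] [IsLocalRing R]
    (m : ℕ) (hm : 1 ≤ m) (F : (CohB1.ProjSpace 1 R).Modules)
    (i : Twist.twistProjSpace 1 R (m : ℤ) ⟶ F) (p : F ⟶ Coh.structureModule (CohB1.ProjSpace 1 R))
    (w : i ≫ p = 0) (hex : (ShortComplex.mk i p w).ShortExact) :
    ∃ s : Coh.structureModule (CohB1.ProjSpace 1 R) ⟶ F, s ≫ p = 𝟙 _ := by
  classical
  let X := CohB1.ProjSpace 1 R
  have hT : Limits.IsTerminal (⊤ : X.Opens) := Limits.isTerminalTop
  let S : ShortComplex X.Modules := ShortComplex.mk i p w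
  have hsub : Subsingleton (Coh.HH X (Twist.twistProjSpace 1 R (m : ℤ)) 1) :=
    Groth.Agent.Lib.Helper27PnCohVanish.subsingleton_HH 1 R (m : ℤ) 1 (by simp) (by
      intro h
      have := h.2
      push_cast at this
      omega)
  -- the section `1` of the structure module
  let one : Γ(Coh.structureModule X, ⊤) :=
    Groth.Agent.Lib.Helper23.SecTw.sv (𝟙 (Coh.structureModule X)) ⊤
  let x : Coh.HH X (Coh.structureModule X) 0 :=
    (Sheaf.H.equiv₀ (Coh.toAb (Coh.structureModule X)) hT).symm one
  have hδ : Groth.Agent.Lib.Helper27CohFin.delta S hex 0 x = 0 := Subsingleton.elim _ _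
  obtain ⟨y, hy⟩ := Groth.Agent.Lib.Helper27CohFin.exact_delta S hex 0 x hδ
  let t : Γ(F, ⊤) := Sheaf.H.equiv₀ (Coh.toAb F) hT y
  have ht : p.app ⊤ t = one := by
    have h1 := Sheaf.H.equiv₀_naturality hT
      ((SheafOfModules.toSheaf X.ringCatSheaf).map p) y
    have h2 : Sheaf.H.map ((SheafOfModules.toSheaf X.ringCatSheaf).map p) 0 y = x := hy
    rw [h2] at h1
    refine Eq.trans ?_ (h1.trans ?_)
    · rfl
    · exact (Sheaf.H.equiv₀ (Coh.toAb (Coh.structureModule X)) hT).apply_symm_apply one
  refine ⟨Groth.Agent.Lib.Helper23.SecTw.secHom F t, ?_⟩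
  rw [Groth.Agent.Lib.Helper27PnMor.secHom_comp, ht]
  exact Groth.Agent.Lib.Helper27PnMor.secHom_sv _ _

end Groth.Agent.S19180
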