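import Groth.Statements.S19181
import Mathlib

set_option autoImplicit false
universe u
open CAlg

namespace Groth.Agent.S19181

section gen
open Polynomial

variable {S : Type*} [CommRing S]

lemma dvd_of_dvd_X_mul (g : S[X]) (hc : IsLeftRegular (g.coeff 0)) (u : S[X]) (h : g ∣ X * u) :
    g ∣ u := by
  obtain ⟨v, hv⟩ := h
  have h0 : g.coeff 0 * v.coeff 0 = 0 := by
    rw [← Polynomial.mul_coeff_zero, ← hv]
    simp
  have hv0 : v.coeff 0 = 0 := hc (by simpa using h0)
  obtain ⟨v', rfl⟩ := Polynomial.X_dvd_iff.2 hv0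
  refine ⟨v', ?_⟩
  apply (Polynomial.isRegular_X (R := S)).left
  show X * u = X * (g * v')
  rw [hv]; ring

lemma dvd_of_dvd_X_pow_mul (g : S[X]) (hc : IsLeftRegular (g.coeff 0)) (n : ℕ) (u : S[X])
    (h : g ∣ X ^ n * u) : g ∣ u := by
  induction n with
  | zero => simpa using h
  | succ n ih =>
    apply ih
    apply dvd_of_dvd_X_mul g hc
    rw [← mul_assoc, ← pow_succ']
    exact h

lemma sat (g : S[X]) (hc : IsLeftRegular (g.coeff 0)) (s : S[X]) :
    (∃ n : ℕ, X ^ 2 * g ∣ X ^ n * s) ↔ g ∣ s := by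
  constructor
  · rintro ⟨n, hn⟩
    exact dvd_of_dvd_X_pow_mul g hc n s ((Dvd.intro_left _ rfl).trans hn)
  · rintro ⟨t, rfl⟩
    exact ⟨2, ⟨t, by ring⟩⟩

lemma isLeftRegular_of_coeff_zero_eq_one {R : Type*} [CommRing R] (c : R[X]) (h : c.coeff 0 = 1) :
    IsLeftRegular c := by
  intro a b hab
  have hab : c * a = c * b := hab
  have hu : IsUnit (c : PowerSeries R) := by
    rw [PowerSeries.isUnit_iff_constantCoeff]
    rw [← PowerSeries.coeff_zero_eq_constantCoeff_apply, Polynomial.coeff_coe, h]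
    exact isUnit_one
  apply Polynomial.coe_injective
  apply hu.isRegular.left
  show (c : PowerSeries R) * a = c * b
  rw [← Polynomial.coe_mul, ← Polynomial.coe_mul, hab]

end gen

section transport
open MvPolynomial

variable (R : Type u) [CommRing R]

noncomputable def E : MvPolynomial (Fin 2) R ≃ₐ[R] Polynomial (Polynomial R) :=
  (finSuccEquiv R 1).trans (Polynomial.mapAlgEquiv (uniqueAlgEquiv R (Fin 1)))

lemma E_X0 : E R (X 0) = Polynomial.X := by
  simp [E, finSuccEquiv_X_zero]

lemma E_X1 : E R (X 1) = Polynomial.C Polynomial.X := by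
  have h : finSuccEquiv R 1 (X 1) = Polynomial.C (X 0) := finSuccEquiv_X_succ (j := (0 : Fin 1))
  simp [E, h]

lemma E_C (a : R) : E R (C a) = Polynomial.C (Polynomial.C a) := by
  have : (C a : MvPolynomial (Fin 2) R) = algebraMap R _ a := rfl
  rw [this, AlgEquiv.commutes]
  rfl

lemma transport (g s : MvPolynomial (Fin 2) R)
    (hc : IsLeftRegular ((E R g).coeff 0)) :
    (∃ n : ℕ, X 0 ^ n * s ∈ Ideal.span ({X 0 ^ 2 * g} : Set (MvPolynomial (Fin 2) R))) ↔
      s ∈ Ideal.span ({g} : Set (MvPolynomial (Fin 2) R)) := by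
  simp only [Ideal.mem_span_singleton]
  rw [← map_dvd_iff (E R), ← sat (E R g) hc (E R s)]
  apply exists_congr
  intro n
  rw [← map_dvd_iff (E R)]
  simp only [map_mul, map_pow, E_X0]

end transport

open MvPolynomial in

open MvPolynomial in
/-- Let R be a commutative ring, a₁, a₂ ∈ R, and C ⊂ A²_R the curve y² + a₁xy = x³ + a₂x², blown up at
the section x = y = 0. In the chart where x = yα (variables y = X 0, α = X 1) the equation of C
becomes y²·g₁ with g₁ = 1 + a₁α − yα³ − a₂α², and the y-saturation of the ideal (y²g₁) is (g₁): for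
s ∈ R[y, α], some yⁿs lies in (y²g₁) if and only if s ∈ (g₁). In the chart where y = xβ (variables x
= X 0, β = X 1) the equation becomes x²·g₂ with g₂ = β² + a₁β − x − a₂, and some xⁿs lies in (x²g₂)
if and only if s ∈ (g₂). In other words the strict transform of C is cut out by g₁, resp. g₂, in the
two charts. -/
theorem result (R : Type u) [CommRing R] (a₁ a₂ : R) :
    (∀ s : MvPolynomial (Fin 2) R,
      (∃ n : ℕ, X 0 ^ n * s ∈ Ideal.span ({X 0 ^ 2 * (1 + C a₁ * X 1 - X 0 * X 1 ^ 3 - C a₂ * X 1 ^ 2)} :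
        Set (MvPolynomial (Fin 2) R))) ↔
      s ∈ Ideal.span ({1 + C a₁ * X 1 - X 0 * X 1 ^ 3 - C a₂ * X 1 ^ 2} : Set (MvPolynomial (Fin 2) R))) ∧
    (∀ s : MvPolynomial (Fin 2) R,
      (∃ n : ℕ, X 0 ^ n * s ∈ Ideal.span ({X 0 ^ 2 * (X 1 ^ 2 + C a₁ * X 1 - X 0 - C a₂)} :
        Set (MvPolynomial (Fin 2) R))) ↔
      s ∈ Ideal.span ({X 1 ^ 2 + C a₁ * X 1 - X 0 - C a₂} : Set (MvPolynomial (Fin 2) R))) := by
  constructor
  · intro s
    apply transport
    simp only [map_add, map_sub, map_mul, map_pow, map_one, E_X0, E_X1, E_C]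
    apply isLeftRegular_of_coeff_zero_eq_one
    simp only [Polynomial.coeff_add, Polynomial.coeff_sub, Polynomial.mul_coeff_zero,
      Polynomial.coeff_C_zero, Polynomial.coeff_X_zero, Polynomial.coeff_one_zero,
      ← Polynomial.C_pow]
    simp
  · intro s
    apply transport
    simp only [map_add, map_sub, map_mul, map_pow, map_one, E_X0, E_X1, E_C]
    have : (Polynomial.C Polynomial.X ^ 2 + Polynomial.C (Polynomial.C a₁) * Polynomial.C Polynomial.X
        - Polynomial.X - Polynomial.C (Polynomial.C a₂) : Polynomial (Polynomial R)).coeff 0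
        = Polynomial.X ^ 2 + Polynomial.C a₁ * Polynomial.X - Polynomial.C a₂ := by
      simp only [Polynomial.coeff_add, Polynomial.coeff_sub, Polynomial.mul_coeff_zero,
        Polynomial.coeff_C_zero, Polynomial.coeff_X_zero, Polynomial.coeff_one_zero,
        ← Polynomial.C_pow]
      simp
    rw [this]
    have hm : (Polynomial.X ^ 2 + Polynomial.C a₁ * Polynomial.X - Polynomial.C a₂ :
        Polynomial R).Monic := by
      nontriviality R
      have : (Polynomial.X ^ 2 + Polynomial.C a₁ * Polynomial.X - Polynomial.C a₂ :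
        Polynomial R) = Polynomial.X ^ 2 + (Polynomial.C a₁ * Polynomial.X - Polynomial.C a₂) := by
        ring
      rw [this]
      apply Polynomial.monic_X_pow_add
      refine lt_of_le_of_lt (Polynomial.degree_sub_le _ _) ?_
      refine max_lt ?_ ?_
      · exact lt_of_le_of_lt (Polynomial.degree_C_mul_X_le _) (by norm_num)
      · exact lt_of_le_of_lt Polynomial.degree_C_le (by norm_num)
    exact hm.isRegular.left

end Groth.Agent.S19181
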