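import Groth.Statements.S19182
import Mathlib
-- import your own Groth.Agent.* helpers here

set_option autoImplicit false
universe u
open CAlg

namespace Groth.Agent.S19182.Aux

set_option autoImplicit false

namespace BlowCharts


open MvPolynomial

variable (R : Type u) [CommRing R] (a₁ a₂ : R)

/-- Generic: a quotient `Q` of `MvPolynomial (Fin 2) R` via `π`. -/
theorem smooth_poly : Algebra.Smooth R (Polynomial R) := {}

theorem smooth_laurent : Algebra.Smooth R (Localization.Away (Polynomial.X : Polynomial R)) := by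
  haveI : Algebra.Smooth R (Polynomial R) := smooth_poly R
  haveI : Algebra.Smooth (Polynomial R) (Localization.Away (Polynomial.X : Polynomial R)) :=
    Algebra.Smooth.of_isLocalization_Away (Polynomial.X : Polynomial R)
  exact Algebra.Smooth.comp R (Polynomial R) _

/-- second chart -/
noncomputable def f2 : MvPolynomial (Fin 2) R →ₐ[R] Polynomial R :=
  aeval ![Polynomial.X ^ 2 + Polynomial.C a₁ * Polynomial.X - Polynomial.C a₂, Polynomial.X]

theorem chart2 : Algebra.Smooth R (MvPolynomial (Fin 2) R ⧸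
      Ideal.span ({X 1 ^ 2 + C a₁ * X 1 - X 0 - C a₂} : Set (MvPolynomial (Fin 2) R))) := by
  set I : Ideal (MvPolynomial (Fin 2) R) :=
    Ideal.span ({X 1 ^ 2 + C a₁ * X 1 - X 0 - C a₂} : Set (MvPolynomial (Fin 2) R)) with hI
  have hrel : (Ideal.Quotient.mk I (X 1)) ^ 2 + Ideal.Quotient.mk I (C a₁) * Ideal.Quotient.mk I (X 1)
      - Ideal.Quotient.mk I (X 0) - Ideal.Quotient.mk I (C a₂) = 0 := by
    have : Ideal.Quotient.mk I (X 1 ^ 2 + C a₁ * X 1 - X 0 - C a₂) = 0 :=
      Ideal.Quotient.eq_zero_iff_mem.mpr (Ideal.subset_span rfl)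
    simpa using this
  have hkill : ∀ p ∈ I, f2 R a₁ a₂ p = 0 := by
    intro p hp
    have : I ≤ RingHom.ker (f2 R a₁ a₂) := by
      rw [hI, Ideal.span_le, Set.singleton_subset_iff]
      show f2 R a₁ a₂ _ = 0
      simp [f2]
    exact this hp
  let F : (MvPolynomial (Fin 2) R ⧸ I) →ₐ[R] Polynomial R := Ideal.Quotient.liftₐ I (f2 R a₁ a₂) hkill
  let G : Polynomial R →ₐ[R] (MvPolynomial (Fin 2) R ⧸ I) :=
    Polynomial.aeval (Ideal.Quotient.mk I (X 1))
  have hFG : F.comp G = AlgHom.id R _ := by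
    apply Polynomial.algHom_ext
    simp [F, G, f2]
  have hGF : G.comp F = AlgHom.id R _ := by
    apply Ideal.Quotient.algHom_ext
    apply MvPolynomial.algHom_ext
    intro i
    fin_cases i
    · simp only [Fin.zero_eta, AlgHom.coe_comp, Function.comp_apply,
        Ideal.Quotient.mkₐ_eq_mk, AlgHom.id_comp]
      show G (f2 R a₁ a₂ (X 0)) = _
      simp only [f2, aeval_X, Matrix.cons_val_zero, G, map_sub, map_add, map_mul, map_pow,
        Polynomial.aeval_X, Polynomial.aeval_C]
      have : algebraMap R (MvPolynomial (Fin 2) R ⧸ I) = (Ideal.Quotient.mk I).comp C := rfl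
      rw [this]
      simp only [RingHom.comp_apply]
      linear_combination hrel
    · simp only [Fin.mk_one, AlgHom.coe_comp, Function.comp_apply,
        Ideal.Quotient.mkₐ_eq_mk, AlgHom.id_comp]
      show G (f2 R a₁ a₂ (X 1)) = _
      simp [f2, G]
  haveI := smooth_poly R
  exact Algebra.Smooth.of_equiv (AlgEquiv.ofAlgHom G F hGF hFG)


/-- first chart -/
theorem chart1 : Algebra.Smooth R (MvPolynomial (Fin 2) R ⧸
      Ideal.span ({1 + C a₁ * X 1 - X 0 * X 1 ^ 3 - C a₂ * X 1 ^ 2} :
        Set (MvPolynomial (Fin 2) R))) := by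
  set I : Ideal (MvPolynomial (Fin 2) R) :=
    Ideal.span ({1 + C a₁ * X 1 - X 0 * X 1 ^ 3 - C a₂ * X 1 ^ 2} :
      Set (MvPolynomial (Fin 2) R)) with hI
  set L := Localization.Away (Polynomial.X : Polynomial R) with hL
  set α : L := algebraMap (Polynomial R) L Polynomial.X with hα
  set αi : L := IsLocalization.Away.invSelf (Polynomial.X : Polynomial R) with hαi
  have hααi : α * αi = 1 := IsLocalization.Away.mul_invSelf (Polynomial.X : Polynomial R)
  set y : MvPolynomial (Fin 2) R ⧸ I := Ideal.Quotient.mk I (X 0) with hy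
  set β : MvPolynomial (Fin 2) R ⧸ I := Ideal.Quotient.mk I (X 1) with hβ
  set c₁ : MvPolynomial (Fin 2) R ⧸ I := Ideal.Quotient.mk I (C a₁) with hc₁
  set c₂ : MvPolynomial (Fin 2) R ⧸ I := Ideal.Quotient.mk I (C a₂) with hc₂
  have hrel : 1 + c₁ * β - y * β ^ 3 - c₂ * β ^ 2 = 0 := by
    have : Ideal.Quotient.mk I (1 + C a₁ * X 1 - X 0 * X 1 ^ 3 - C a₂ * X 1 ^ 2) = 0 :=
      Ideal.Quotient.eq_zero_iff_mem.mpr (Ideal.subset_span rfl)
    simpa using this
  set γ : MvPolynomial (Fin 2) R ⧸ I := y * β ^ 2 + c₂ * β - c₁ with hγ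
  have hβγ : β * γ = 1 := by
    rw [hγ]; linear_combination (-1 : MvPolynomial (Fin 2) R ⧸ I) * hrel
  have hc₁' : algebraMap R (MvPolynomial (Fin 2) R ⧸ I) a₁ = c₁ := rfl
  have hc₂' : algebraMap R (MvPolynomial (Fin 2) R ⧸ I) a₂ = c₂ := rfl
  let f1 : MvPolynomial (Fin 2) R →ₐ[R] L :=
    aeval ![(1 + algebraMap R L a₁ * α - algebraMap R L a₂ * α ^ 2) * αi ^ 3, α]
  have hkill : ∀ p ∈ I, f1 p = 0 := by
    intro p hp
    have : I ≤ RingHom.ker f1 := by
      rw [hI, Ideal.span_le, Set.singleton_subset_iff]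
      show f1 _ = 0
      simp only [f1, map_sub, map_add, map_mul, map_pow, map_one, aeval_X, aeval_C,
        Matrix.cons_val_zero, Matrix.cons_val_one]
      have h3 : αi ^ 3 * α ^ 3 = 1 := by rw [← mul_pow, mul_comm, hααi, one_pow]
      linear_combination (-(1 + algebraMap R L a₁ * α - algebraMap R L a₂ * α ^ 2)) * h3
    exact this hp
  let F : (MvPolynomial (Fin 2) R ⧸ I) →ₐ[R] L := Ideal.Quotient.liftₐ I f1 hkill
  let g0 : Polynomial R →ₐ[R] (MvPolynomial (Fin 2) R ⧸ I) := Polynomial.aeval β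
  have hunit : IsUnit (g0 Polynomial.X) := by
    have : g0 Polynomial.X = β := by simp [g0]
    rw [this]
    exact IsUnit.of_mul_eq_one _ hβγ
  let G : L →ₐ[R] (MvPolynomial (Fin 2) R ⧸ I) := IsLocalization.Away.liftAlgHom (Polynomial.X : Polynomial R) hunit
  have hGα : G α = β := by
    have h1 : G α = IsLocalization.Away.lift (S := L) (Polynomial.X : Polynomial R)
        (g := (g0 : Polynomial R →+* _)) hunit α := rfl
    rw [h1, hα, IsLocalization.Away.lift_eq]
    simp [g0]
  have hGαi : G αi = γ := by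
    have h1 : G α * G αi = 1 := by rw [← map_mul, hααi, map_one]
    rw [hGα] at h1
    calc G αi = (γ * β) * G αi := by rw [mul_comm γ β, hβγ, one_mul]
      _ = γ * (β * G αi) := by ring
      _ = γ := by rw [h1, mul_one]
  have hFβ : F β = α := by
    show f1 (X 1) = α
    simp [f1]
  have hFG : F.comp G = AlgHom.id R _ := by
    apply IsLocalization.algHom_ext (Submonoid.powers (Polynomial.X : Polynomial R))
    apply Polynomial.algHom_ext
    simp only [AlgHom.coe_comp, Function.comp_apply, IsScalarTower.coe_toAlgHom', AlgHom.id_comp,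
      AlgHom.coe_id, id_eq]
    show F (G α) = α
    rw [hGα, hFβ]
  have hGF : G.comp F = AlgHom.id R _ := by
    apply Ideal.Quotient.algHom_ext
    apply MvPolynomial.algHom_ext
    intro i
    fin_cases i
    · simp only [Fin.zero_eta, AlgHom.coe_comp, Function.comp_apply,
        Ideal.Quotient.mkₐ_eq_mk, AlgHom.id_comp]
      show G (f1 (X 0)) = y
      simp only [f1, aeval_X, Matrix.cons_val_zero, map_mul, map_sub, map_add, map_pow, map_one,
        hGα, hGαi, AlgHom.commutes, hc₁', hc₂']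
      have h3 : β ^ 3 * γ ^ 3 = 1 := by rw [← mul_pow, hβγ, one_pow]
      linear_combination (γ ^ 3) * hrel + y * h3
    · simp only [Fin.mk_one, AlgHom.coe_comp, Function.comp_apply,
        Ideal.Quotient.mkₐ_eq_mk, AlgHom.id_comp]
      show G (f1 (X 1)) = β
      simp only [f1, aeval_X, Matrix.cons_val_one]
      exact hGα
  haveI := smooth_laurent R
  exact Algebra.Smooth.of_equiv (AlgEquiv.ofAlgHom G F hGF hFG)

theorem main : Algebra.Smooth R (MvPolynomial (Fin 2) R ⧸
      Ideal.span ({1 + C a₁ * X 1 - X 0 * X 1 ^ 3 - C a₂ * X 1 ^ 2} : Set (MvPolynomial (Fin 2) R))) ∧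
    Algebra.Smooth R (MvPolynomial (Fin 2) R ⧸
      Ideal.span ({X 1 ^ 2 + C a₁ * X 1 - X 0 - C a₂} : Set (MvPolynomial (Fin 2) R))) :=
  ⟨chart1 R a₁ a₂, chart2 R a₁ a₂⟩

end BlowCharts

end Groth.Agent.S19182.Aux

namespace Groth.Agent.S19182

open MvPolynomial in
/-- Let R be a commutative ring and a₁, a₂ ∈ R. The two affine charts of the blow-up of the plane curve
y² + a₁xy = x³ + a₂x² at the section x = y = 0, with coordinate rings R[y, α]/(1 + a₁α − yα³ − a₂α²)
and R[x, β]/(β² + a₁β − x − a₂) (variables indexed 0 and 1 in this order), are smooth R-algebras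
(formally smooth of finite presentation). This is the local computation behind the statement that
the blow-up of a Weierstrass curve along a section through its singular locus is a smooth proper
curve of genus 0. -/
theorem result (R : Type u) [CommRing R] (a₁ a₂ : R) :
    Algebra.Smooth R (MvPolynomial (Fin 2) R ⧸
      Ideal.span ({1 + C a₁ * X 1 - X 0 * X 1 ^ 3 - C a₂ * X 1 ^ 2} : Set (MvPolynomial (Fin 2) R))) ∧
    Algebra.Smooth R (MvPolynomial (Fin 2) R ⧸
      Ideal.span ({X 1 ^ 2 + C a₁ * X 1 - X 0 - C a₂} : Set (MvPolynomial (Fin 2) R))) := by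
  exact Aux.BlowCharts.main R a₁ a₂

end Groth.Agent.S19182
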