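import Groth.Statements.S19183
import Mathlib.Tactic
import Mathlib.LinearAlgebra.Dimension.Free
import Mathlib.LinearAlgebra.Dimension.Constructions
-- import your own Groth.Agent.* helpers here

set_option autoImplicit false
universe u
open CAlg

namespace Groth.Agent.S19183

/-- Let A be a non-zero commutative ring and f ∈ A a non-zero-divisor. The fibre product A ×_{A/(f)} A
of two copies of A over A/(f) — the A-submodule of A × A of pairs (x, y) with x − y ∈ (f), which is
the coordinate ring of two copies of Spec A glued along the Cartier divisor f = 0 — is a free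
A-module of rank 2. (This is what makes the gluing of two copies of a curve along an effective
Cartier divisor finite locally free of degree 2 over the curve.) -/
theorem result (A : Type u) [CommRing A] [Nontrivial A]
    (f : A) (hf : f ∈ nonZeroDivisors A) :
    Module.Free A (Submodule.comap (LinearMap.fst A A A - LinearMap.snd A A A) (Ideal.span ({f} : Set A))) ∧
      Module.finrank A (Submodule.comap (LinearMap.fst A A A - LinearMap.snd A A A) (Ideal.span ({f} : Set A))) = 2 := by
  set N := Submodule.comap (LinearMap.fst A A A - LinearMap.snd A A A) (Ideal.span ({f} : Set A))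
    with hN
  have hmem : ∀ z : A × A, z ∈ N ↔ ∃ a, z.1 - z.2 = f * a := by
    intro z
    rw [hN, Submodule.mem_comap, Ideal.mem_span_singleton']
    simp only [LinearMap.sub_apply, LinearMap.fst_apply, LinearMap.snd_apply]
    constructor
    · rintro ⟨a, ha⟩; exact ⟨a, by rw [← ha, mul_comm]⟩
    · rintro ⟨a, ha⟩; exact ⟨a, by rw [ha, mul_comm]⟩
  let φ : A × A →ₗ[A] N :=
    { toFun := fun w => ⟨(w.1 + f * w.2, w.1), (hmem _).mpr ⟨w.2, by ring⟩⟩
      map_add' := fun w w' => Subtype.ext (Prod.ext (by simp; ring) (by simp))
      map_smul' := fun r w => Subtype.ext (Prod.ext (by simp; ring) (by simp)) }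
  have hφinj : Function.Injective φ := by
    intro w w' h
    have h1 : w.1 + f * w.2 = w'.1 + f * w'.2 := congrArg (fun z : N => z.1.1) h
    have h2 : w.1 = w'.1 := congrArg (fun z : N => z.1.2) h
    have h3 : f * (w.2 - w'.2) = 0 := by rw [mul_sub]; rw [h2] at h1; linear_combination h1
    have h4 : w.2 - w'.2 = 0 := (mem_nonZeroDivisors_iff.mp hf).1 _ h3
    exact Prod.ext h2 (sub_eq_zero.mp h4)
  have hφsurj : Function.Surjective φ := by
    rintro ⟨z, hz⟩
    obtain ⟨a, ha⟩ := (hmem z).mp hz
    refine ⟨(z.2, a), Subtype.ext (Prod.ext ?_ rfl)⟩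
    change z.2 + f * a = z.1
    rw [← ha]; ring
  let e : (A × A) ≃ₗ[A] N := LinearEquiv.ofBijective φ ⟨hφinj, hφsurj⟩
  refine ⟨Module.Free.of_equiv e, ?_⟩
  rw [← e.finrank_eq, Module.finrank_prod, Module.finrank_self]

end Groth.Agent.S19183
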