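import Groth.Statements.S19184
import Mathlib
-- import your own Groth.Agent.* helpers here

set_option autoImplicit false
universe u
open CAlg

namespace Groth.Agent.S19184

open Polynomial in
/-- Let S be a commutative ring, a, b ∈ S, f = x² + ax + b ∈ S[x] and R = S[x]/(f), a free S-algebra of
rank 2. Let A ⊂ S[x] be the S-subalgebra of polynomials whose class in R lies in the image of S → R;
it is the fibre product S[x] ×_R S, the coordinate ring of the affine line over S with the degree-2
subscheme Spec R collapsed onto Spec S. Then A is a free S-module and S[x] is a finitely generated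
A-module. -/
theorem result (S : Type u) [CommRing S] (a b : S) :
    Module.Free S ((⊥ : Subalgebra S (S[X] ⧸ Ideal.span ({X ^ 2 + C a * X + C b} : Set S[X]))).comap
        (Ideal.Quotient.mkₐ S (Ideal.span ({X ^ 2 + C a * X + C b} : Set S[X])))) ∧
      Module.Finite ((⊥ : Subalgebra S (S[X] ⧸ Ideal.span ({X ^ 2 + C a * X + C b} : Set S[X]))).comap
        (Ideal.Quotient.mkₐ S (Ideal.span ({X ^ 2 + C a * X + C b} : Set S[X])))) S[X] := by
  classical
  set f : S[X] := X ^ 2 + C a * X + C b with hf
  set A' := (⊥ : Subalgebra S (S[X] ⧸ Ideal.span ({f} : Set S[X]))).comap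
        (Ideal.Quotient.mkₐ S (Ideal.span ({f} : Set S[X]))) with hA'
  rcases subsingleton_or_nontrivial S with hS | hS
  · haveI : Subsingleton S[X] := inferInstance
    haveI : Subsingleton A' := ⟨fun x y => Subtype.ext (Subsingleton.elim _ _)⟩
    exact ⟨Module.Free.of_subsingleton _ _, Module.Finite.of_finite⟩
  have hmonic : f.Monic := by
    rw [hf]
    monicity!
  have hdeg : f.natDegree = 2 := by
    rw [hf]
    compute_degree!
  have hmem : ∀ P : S[X], P ∈ A' ↔ ∃ c : S, f ∣ P - C c := by
    intro P
    rw [hA', Subalgebra.mem_comap, Algebra.mem_bot]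
    constructor
    · rintro ⟨c, hc⟩
      refine ⟨c, ?_⟩
      rw [← Ideal.mem_span_singleton, ← Ideal.Quotient.eq]
      rw [Ideal.Quotient.mkₐ_eq_mk] at hc
      rw [← hc]
      rfl
    · rintro ⟨c, hc⟩
      refine ⟨c, ?_⟩
      rw [← Ideal.mem_span_singleton, ← Ideal.Quotient.eq] at hc
      rw [Ideal.Quotient.mkₐ_eq_mk, hc]
      rfl
  have hmemC : ∀ (c : S) (q : S[X]), C c + f * q ∈ A' := by
    intro c q
    rw [hmem]
    exact ⟨c, ⟨q, by ring⟩⟩
  have hmod : ∀ (c : S) (q : S[X]), (C c + f * q) %ₘ f = C c ∧ (C c + f * q) /ₘ f = q := by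
    intro c q
    have hlt : (C c : S[X]).degree < f.degree := by
      rw [Polynomial.degree_eq_natDegree hmonic.ne_zero, hdeg]
      exact lt_of_le_of_lt Polynomial.degree_C_le (by norm_num)
    have := Polynomial.div_modByMonic_unique (f := C c + f * q) q (C c) hmonic ⟨rfl, hlt⟩
    exact ⟨this.2, this.1⟩
  constructor
  · -- freeness
    let φ : (S × S[X]) →ₗ[S] A' :=
      { toFun := fun w => ⟨C w.1 + f * w.2, hmemC _ _⟩
        map_add' := fun w w' => Subtype.ext (by
          change C (w.1 + w'.1) + f * (w.2 + w'.2) = (C w.1 + f * w.2) + (C w'.1 + f * w'.2)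
          rw [C_add]; ring)
        map_smul' := fun r w => Subtype.ext (by
          change C (r • w.1) + f * (r • w.2) = r • (C w.1 + f * w.2)
          rw [smul_eq_mul, C_mul, Polynomial.smul_eq_C_mul, Polynomial.smul_eq_C_mul]; ring) }
    have hφinj : Function.Injective φ := by
      intro w w' h
      have h0 : C w.1 + f * w.2 = C w'.1 + f * w'.2 := congrArg Subtype.val h
      have h1 := (hmod w.1 w.2)
      have h2 := (hmod w'.1 w'.2)
      rw [h0] at h1
      have hq : w.2 = w'.2 := by rw [← h1.2, h2.2]
      have hc : C w.1 = C w'.1 := by rw [← h1.1, h2.1]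
      exact Prod.ext (Polynomial.C_injective hc) hq
    have hφsurj : Function.Surjective φ := by
      rintro ⟨P, hP⟩
      obtain ⟨c, q, hq⟩ := (hmem P).mp hP
      refine ⟨(c, q), Subtype.ext ?_⟩
      change C c + f * q = P
      rw [← hq]; ring
    exact Module.Free.of_equiv (LinearEquiv.ofBijective φ ⟨hφinj, hφsurj⟩)
  · -- finiteness
    refine ⟨⟨{1, X}, ?_⟩⟩
    rw [eq_top_iff]
    intro P _
    have hP := Polynomial.modByMonic_add_div P f
    have hr : (P %ₘ f).natDegree ≤ 1 := by
      have hne1 : f ≠ 1 := by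
        intro h1
        rw [h1, Polynomial.natDegree_one] at hdeg
        exact absurd hdeg (by norm_num)
      have := Polynomial.natDegree_modByMonic_lt P hmonic hne1
      omega
    have hr' := Polynomial.eq_X_add_C_of_natDegree_le_one hr
    set c1 := (P %ₘ f).coeff 1
    set c0 := (P %ₘ f).coeff 0
    have hPeq : P = (⟨C c0 + f * (P /ₘ f), hmemC _ _⟩ : A') • (1 : S[X]) +
        (⟨C c1 + f * 0, hmemC _ _⟩ : A') • (X : S[X]) := by
      change P = (C c0 + f * (P /ₘ f)) * 1 + (C c1 + f * 0) * X
      have h3 : P %ₘ f + f * (P /ₘ f) = (C c0 + f * (P /ₘ f)) * 1 + (C c1 + f * 0) * X := by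
        rw [hr']; ring
      exact hP.symm.trans h3
    rw [hPeq]
    refine Submodule.add_mem _ (Submodule.smul_mem _ _ (Submodule.subset_span ?_))
      (Submodule.smul_mem _ _ (Submodule.subset_span ?_))
    · simp
    · simp

end Groth.Agent.S19184
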