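import Groth.Statements.S19185
import Mathlib
-- import your own Groth.Agent.* helpers here

set_option autoImplicit false
set_option linter.style.haveILetI false
set_option linter.unusedSectionVars false
universe u
open Curves

namespace Groth.Agent.S19185

/-- The inclusion `k[X] → k[X₀, X₁]`, `X ↦ X₀`. -/
noncomputable def φ (k : Type u) [Field k] : Polynomial k →ₐ[k] MvPolynomial (Fin 2) k :=
  Polynomial.aeval (MvPolynomial.X 0)

theorem phi_sum {k : Type u} [Field k] {m : ℕ} (c : Fin m → k) (e : Fin m → ℕ) :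
    φ k (∑ i, Polynomial.C (c i) * Polynomial.X ^ (e i)) =
      ∑ i, MvPolynomial.C (c i) * MvPolynomial.X 0 ^ (e i) := by
  simp [φ, map_sum, MvPolynomial.algebraMap_eq]

/-- Evaluation `k[X₀, X₁] → L` at `(θ, w)`. -/
noncomputable def ev {k : Type u} [Field k] {L : Type u} [CommRing L] [Algebra k L] (θ w : L) :
    MvPolynomial (Fin 2) k →ₐ[k] L := MvPolynomial.aeval ![θ, w]

theorem ev_phi {k : Type u} [Field k] {L : Type u} [CommRing L] [Algebra k L] (θ w : L)
    (p : Polynomial k) : ev θ w (φ k p) = Polynomial.aeval θ p := by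
  unfold ev φ
  rw [← Polynomial.aeval_algHom_apply]
  simp

theorem ev_X1 {k : Type u} [Field k] {L : Type u} [CommRing L] [Algebra k L] (θ w : L) :
    ev (k := k) θ w (MvPolynomial.X 1) = w := by
  simp [ev]

theorem pderiv_phi {k : Type u} [Field k] (p : Polynomial k) :
    MvPolynomial.pderiv (1 : Fin 2) (φ k p) = 0 := by
  simp [φ, Polynomial.aeval_eq_sum_range, Derivation.leibniz_pow, MvPolynomial.pderiv_X]

theorem F_ne_zero {k : Type u} [Field k] (a b : Polynomial k) (h : a ≠ 0 ∨ b ≠ 0) :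
    φ k a + φ k b * MvPolynomial.X 1 ≠ 0 := by
  intro hF
  have h0 := congrArg (ev (Polynomial.X : Polynomial k) 0) hF
  have h1 := congrArg (ev (Polynomial.X : Polynomial k) 1) hF
  simp only [map_add, map_mul, ev_phi, ev_X1, Polynomial.aeval_X_left_apply, mul_zero, add_zero,
    mul_one, map_zero] at h0 h1
  rw [h0, zero_add] at h1
  rcases h with h | h
  · exact h h0
  · exact h h1

theorem smooth_of_isCoprime {k : Type u} [Field k] (a b : Polynomial k) (h : IsCoprime a b) :
    Algebra.Smooth k (MvPolynomial (Fin 2) k ⧸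
      Ideal.span ({φ k a + φ k b * MvPolynomial.X 1} : Set (MvPolynomial (Fin 2) k))) := by
  classical
  set F : MvPolynomial (Fin 2) k := φ k a + φ k b * MvPolynomial.X 1 with hF
  let v : Fin 1 → MvPolynomial (Fin 2) k := fun _ => F
  have hrange : Set.range v = {F} := Set.range_const
  have key : Algebra.IsStandardSmooth k
      (MvPolynomial (Fin 2) k ⧸ Ideal.span (Set.range v)) := by
    let Q : Algebra.PreSubmersivePresentation k
        (MvPolynomial (Fin 2) k ⧸ Ideal.span (Set.range v)) (Fin 2) (Fin 1) :=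
      Algebra.PreSubmersivePresentation.naive (v := v) (fun _ => (1 : Fin 2))
        (fun i j _ => Subsingleton.elim i j)
    have hQ : Q.jacobian = Ideal.Quotient.mk _ (φ k b) := by
      rw [Algebra.PreSubmersivePresentation.jacobian_eq_jacobiMatrix_det]
      have : Q.jacobiMatrix.det = φ k b := by
        rw [Matrix.det_fin_one]
        have h2 : Q.jacobiMatrix 0 0 = MvPolynomial.pderiv (1 : Fin 2) (v 0) :=
          Algebra.PreSubmersivePresentation.jacobiMatrix_naive _ _ _ _ 0 0
        rw [h2]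
        simp [v, hF, pderiv_phi]
      rw [this]
      rfl
    let P : Algebra.SubmersivePresentation k
        (MvPolynomial (Fin 2) k ⧸ Ideal.span (Set.range v)) (Fin 2) (Fin 1) :=
      { toPreSubmersivePresentation := Q
        jacobian_isUnit := by
          rw [hQ]
          obtain ⟨u, w, huw⟩ := h
          have h1 := congrArg (fun p => Ideal.Quotient.mk (Ideal.span (Set.range v)) (φ k p)) huw
          simp only [map_add, map_mul, map_one] at h1
          have h0 : Ideal.Quotient.mk (Ideal.span (Set.range v)) F = 0 :=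
            Ideal.Quotient.eq_zero_iff_mem.mpr (Ideal.subset_span ⟨0, rfl⟩)
          rw [hF, map_add, map_mul] at h0
          refine IsUnit.of_mul_eq_one (Ideal.Quotient.mk _ (φ k w) -
            Ideal.Quotient.mk _ (φ k u) * Ideal.Quotient.mk _ (MvPolynomial.X 1)) ?_
          linear_combination h1 - Ideal.Quotient.mk _ (φ k u) * h0 }
    exact P.isStandardSmooth
  rw [hrange] at key
  infer_instance

theorem jacobian_identity {k : Type u} [Field k] (a b : Polynomial k)
    (hF : φ k a + φ k b * MvPolynomial.X 1 ≠ 0)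
    (hs : Algebra.FormallySmooth k (MvPolynomial (Fin 2) k ⧸
      Ideal.span ({φ k a + φ k b * MvPolynomial.X 1} : Set (MvPolynomial (Fin 2) k)))) :
    ∃ α β c : MvPolynomial (Fin 2) k,
      1 + α * (φ k (Polynomial.derivative a) + φ k (Polynomial.derivative b) * MvPolynomial.X 1)
        + β * φ k b = c * (φ k a + φ k b * MvPolynomial.X 1) := by
  set F : MvPolynomial (Fin 2) k := φ k a + φ k b * MvPolynomial.X 1 with hFdef
  set I : Ideal (MvPolynomial (Fin 2) k) := Ideal.span {F} with hI
  let f : MvPolynomial (Fin 2) k →ₐ[k] MvPolynomial (Fin 2) k ⧸ I := Ideal.Quotient.mkₐ k I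
  have hf : Function.Surjective f := Ideal.Quotient.mkₐ_surjective k I
  obtain ⟨g, hg⟩ := (Algebra.FormallySmooth.iff_split_surjection f hf).mp hs
  have hker : RingHom.ker f.toRingHom = I := Ideal.Quotient.mkₐ_ker k I
  let π : MvPolynomial (Fin 2) k →ₐ[k] MvPolynomial (Fin 2) k ⧸ RingHom.ker f.toRingHom ^ 2 :=
    Ideal.Quotient.mkₐ k (RingHom.ker f.toRingHom ^ 2)
  have lift : ∀ x : MvPolynomial (Fin 2) k, ∃ y ∈ I, g (f x) = π (x + y) := by
    intro x
    obtain ⟨T, hT⟩ := Ideal.Quotient.mk_surjective (g (f x))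
    have h1 : f.kerSquareLift (g (f x)) = f x := DFunLike.congr_fun hg (f x)
    rw [← hT] at h1
    have h2 : f.kerSquareLift (Ideal.Quotient.mk _ T) = f T := AlgHom.kerSquareLift_mk f T
    rw [h2] at h1
    refine ⟨T - x, ?_, ?_⟩
    · rw [← hker, RingHom.mem_ker]
      show f (T - x) = 0
      rw [map_sub, h1, sub_self]
    · rw [← hT, add_sub_cancel]
      rfl
  obtain ⟨y0, hy0, e0⟩ := lift (MvPolynomial.X 0)
  obtain ⟨y1, hy1, e1⟩ := lift (MvPolynomial.X 1)
  obtain ⟨α, rfl⟩ := Ideal.mem_span_singleton'.mp hy0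
  obtain ⟨β, rfl⟩ := Ideal.mem_span_singleton'.mp hy1
  have hcomp : ∀ x : MvPolynomial (Fin 2) k, g (f x) =
      MvPolynomial.aeval ![π (MvPolynomial.X 0 + α * F), π (MvPolynomial.X 1 + β * F)] x := by
    intro x
    have : g.comp f =
        MvPolynomial.aeval ![π (MvPolynomial.X 0 + α * F), π (MvPolynomial.X 1 + β * F)] := by
      apply MvPolynomial.algHom_ext
      intro i
      fin_cases i
      · show g (f (MvPolynomial.X 0)) = _
        rw [e0, MvPolynomial.aeval_X]
        rfl
      · show g (f (MvPolynomial.X 1)) = _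
        rw [e1, MvPolynomial.aeval_X]
        rfl
    exact congrArg (fun h => h x) this
  have hFsq : π F * π F = 0 := by
    rw [← map_mul]
    show Ideal.Quotient.mk _ (F * F) = 0
    rw [Ideal.Quotient.eq_zero_iff_mem, ← pow_two]
    exact Ideal.pow_mem_pow (hker.symm ▸ Ideal.mem_span_singleton_self F) 2
  have h0 : g (f F) = 0 := by
    have : f F = 0 :=
      Ideal.Quotient.eq_zero_iff_mem.mpr (Ideal.mem_span_singleton_self F)
    rw [this, map_zero]
  rw [hcomp] at h0
  have hphi : ∀ p : Polynomial k,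
      MvPolynomial.aeval ![π (MvPolynomial.X 0 + α * F), π (MvPolynomial.X 1 + β * F)] (φ k p) =
        π (φ k p) + π (φ k (Polynomial.derivative p)) * (π α * π F) := by
    intro p
    have h1 := ev_phi (k := k) (π (MvPolynomial.X 0 + α * F)) (π (MvPolynomial.X 1 + β * F)) p
    unfold ev at h1
    rw [h1]
    have h2 : π (MvPolynomial.X 0 + α * F) = π (MvPolynomial.X 0) + π α * π F := by
      rw [map_add, map_mul]
    rw [h2, Polynomial.aeval_add_of_sq_eq_zero]
    · rw [Polynomial.aeval_algHom_apply, Polynomial.aeval_algHom_apply]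
      rfl
    · have h3 : (π α * π F) ^ 2 = (π α * π α) * (π F * π F) := by ring
      rw [h3, hFsq, mul_zero]
  have hπF : π F = π (φ k a) + π (φ k b) * π (MvPolynomial.X 1) := by
    rw [hFdef, map_add, map_mul]
  have hw : (![π (MvPolynomial.X 0 + α * F), π (MvPolynomial.X 1 + β * F)] : Fin 2 → _) 1 =
      π (MvPolynomial.X 1) + π β * π F := by
    show π (MvPolynomial.X 1 + β * F) = _
    rw [map_add, map_mul]
  have hmain : π (F * (1 + α * (φ k (Polynomial.derivative a) +
      φ k (Polynomial.derivative b) * MvPolynomial.X 1) + β * φ k b)) = 0 := by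
    rw [hFdef, map_add, map_mul, hphi, hphi, MvPolynomial.aeval_X, hw] at h0
    simp only [map_mul, map_add, map_one]
    linear_combination h0 + hπF - (π (φ k (Polynomial.derivative b)) * π α * π β) * hFsq
  have hmem : F * (1 + α * (φ k (Polynomial.derivative a) +
      φ k (Polynomial.derivative b) * MvPolynomial.X 1) + β * φ k b) ∈
      RingHom.ker f.toRingHom ^ 2 :=
    Ideal.Quotient.eq_zero_iff_mem.mp hmain
  rw [hker, hI, Ideal.span_singleton_pow, Ideal.mem_span_singleton'] at hmem
  obtain ⟨c, hc⟩ := hmem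
  refine ⟨α, β, c, ?_⟩
  apply mul_left_cancel₀ hF
  rw [← hc]
  ring

theorem ne_zero_of_smooth {k : Type u} [Field k] (a b : Polynomial k)
    (hF : φ k a + φ k b * MvPolynomial.X 1 ≠ 0)
    (hs : Algebra.FormallySmooth k (MvPolynomial (Fin 2) k ⧸
      Ideal.span ({φ k a + φ k b * MvPolynomial.X 1} : Set (MvPolynomial (Fin 2) k))))
    {L : Type u} [Field L] [Algebra k L] (θ w : L) (ha : Polynomial.aeval θ a = 0)
    (hb : Polynomial.aeval θ b = 0) :
    Polynomial.aeval θ (Polynomial.derivative a) +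
      Polynomial.aeval θ (Polynomial.derivative b) * w ≠ 0 := by
  obtain ⟨α, β, c, h⟩ := jacobian_identity a b hF hs
  have h' := congrArg (ev θ w) h
  simp only [map_add, map_mul, map_one, ev_phi, ev_X1, ha, hb] at h'
  intro h0
  rw [h0] at h'
  simp at h'

theorem isCoprime_of_smooth {k : Type u} [Field k] (a b : Polynomial k) (h : a ≠ 0 ∨ b ≠ 0)
    (hs1 : Algebra.FormallySmooth k (MvPolynomial (Fin 2) k ⧸
      Ideal.span ({φ k a + φ k b * MvPolynomial.X 1} : Set (MvPolynomial (Fin 2) k))))
    (hs2 : Algebra.FormallySmooth k (MvPolynomial (Fin 2) k ⧸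
      Ideal.span ({φ k b + φ k a * MvPolynomial.X 1} : Set (MvPolynomial (Fin 2) k)))) :
    IsCoprime a b := by
  apply isCoprime_of_irreducible_dvd (by tauto)
  intro g hg hga hgb
  haveI : Fact (Irreducible g) := ⟨hg⟩
  set θ : AdjoinRoot g := AdjoinRoot.root g with hθ
  have ha : Polynomial.aeval θ a = 0 := by
    rw [hθ, AdjoinRoot.aeval_eq]
    exact AdjoinRoot.mk_eq_zero.mpr hga
  have hb : Polynomial.aeval θ b = 0 := by
    rw [hθ, AdjoinRoot.aeval_eq]
    exact AdjoinRoot.mk_eq_zero.mpr hgb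
  have H1 := ne_zero_of_smooth a b (F_ne_zero a b h) hs1 θ
  have H2 := ne_zero_of_smooth b a (F_ne_zero b a h.symm) hs2 θ
  have A' := H1 0 ha hb
  have B' := H2 0 hb ha
  rw [mul_zero, add_zero] at A' B'
  refine H1 (-(Polynomial.aeval θ (Polynomial.derivative a)) /
    (Polynomial.aeval θ (Polynomial.derivative b))) ha hb ?_
  field_simp
  ring

theorem reflect_sum' {R : Type*} [Semiring R] (N : ℕ) {ι : Type*} (s : Finset ι)
    (f : ι → Polynomial R) :
    Polynomial.reflect N (∑ i ∈ s, f i) = ∑ i ∈ s, Polynomial.reflect N (f i) := by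
  classical
  induction s using Finset.induction_on with
  | empty => simp
  | insert i s hi ih =>
    rw [Finset.sum_insert hi, Finset.sum_insert hi, Polynomial.reflect_add, ih]

theorem reflect_pol {k : Type u} [Field k] {m : ℕ} (c : Fin m → k) (N : ℕ)
    (hN : ∀ i : Fin m, (i : ℕ) ≤ N) :
    Polynomial.reflect N (∑ i : Fin m, Polynomial.C (c i) * Polynomial.X ^ (i : ℕ)) =
      ∑ i : Fin m, Polynomial.C (c i) * Polynomial.X ^ (N - (i : ℕ)) := by
  rw [reflect_sum']
  refine Finset.sum_congr rfl fun i _ => ?_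
  rw [Polynomial.reflect_C_mul_X_pow, Polynomial.revAt_le (hN i)]

theorem natDegree_pol_le {k : Type u} [Field k] {m : ℕ} (c : Fin m → k) (N : ℕ)
    (hN : ∀ i : Fin m, (i : ℕ) ≤ N) :
    (∑ i : Fin m, Polynomial.C (c i) * Polynomial.X ^ (i : ℕ)).natDegree ≤ N := by
  refine Polynomial.natDegree_sum_le_of_forall_le _ _ fun i _ => ?_
  exact (Polynomial.natDegree_C_mul_X_pow_le _ _).trans (hN i)

theorem coeff_pol {k : Type u} [Field k] {m : ℕ} (c : Fin m → k) (j : Fin m) :
    (∑ i : Fin m, Polynomial.C (c i) * Polynomial.X ^ (i : ℕ)).coeff j = c j := by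
  simp only [Polynomial.finset_sum_coeff, Polynomial.coeff_C_mul_X_pow, Fin.val_inj,
    Finset.sum_ite_eq, Finset.mem_univ, if_true]

theorem pol_ne_zero {k : Type u} [Field k] {m : ℕ} (c : Fin m → k) (hc : c ≠ 0) :
    (∑ i : Fin m, Polynomial.C (c i) * Polynomial.X ^ (i : ℕ)) ≠ 0 := by
  intro h
  apply hc
  funext j
  rw [← coeff_pol c j, h]
  simp

theorem natDegree_lt_of_coeff_eq_zero {k : Type u} [Field k] {p : Polynomial k} {N : ℕ}
    (hN : 0 < N) (h : p.natDegree ≤ N) (hc : p.coeff N = 0) : p.natDegree < N := by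
  rcases h.lt_or_eq with h | h
  · exact h
  · exfalso
    have h1 : p.leadingCoeff = 0 := by rw [Polynomial.leadingCoeff, h, hc]
    rw [Polynomial.leadingCoeff_eq_zero] at h1
    rw [h1, Polynomial.natDegree_zero] at h
    omega

theorem isCoprime_of_combination {R : Type*} [CommRing R] {x y z : R} (hz : IsCoprime z x)
    (h : ∃ p r, x * p + y * r = z) : IsCoprime x y := by
  obtain ⟨u, v, huv⟩ := hz
  obtain ⟨p, r, hpr⟩ := h
  exact ⟨u * p + v, u * r, by linear_combination u * hpr + huv⟩

theorem natDegree_le_pred_of_degree_lt {k : Type u} [Field k] {p : Polynomial k} {M : ℕ}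
    (hM : 0 < M) (h : p.degree < (M : WithBot ℕ)) : p.natDegree ≤ M - 1 := by
  by_cases hp : p = 0
  · rw [hp, Polynomial.natDegree_zero]
    exact Nat.zero_le _
  · have := (Polynomial.natDegree_lt_iff_degree_lt hp).mpr h
    omega

theorem coprime_of_resultant_ne_zero {k : Type u} [Field k] (a b : Polynomial k) (N M : ℕ)
    (hN : 0 < N) (hM : 0 < M) (ha : a.natDegree ≤ N) (hb : b.natDegree ≤ M)
    (hres : Polynomial.resultant a b N M ≠ 0) :
    IsCoprime a b ∧ IsCoprime (a.reflect N) (b.reflect M) := by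
  obtain ⟨p, r, hp, hr, e⟩ :=
    Polynomial.exists_mul_add_mul_eq_C_resultant a b ha hb (Or.inl hN.ne')
  have hρ : IsUnit (Polynomial.C (Polynomial.resultant a b N M)) :=
    Polynomial.isUnit_C.mpr (isUnit_iff_ne_zero.mpr hres)
  constructor
  · obtain ⟨u, hu⟩ := hρ.exists_left_inv
    exact ⟨u * p, u * r, by linear_combination u * e + hu⟩
  · have hp' : p.natDegree ≤ M - 1 := natDegree_le_pred_of_degree_lt hM hp
    have hr' : r.natDegree ≤ N - 1 := natDegree_le_pred_of_degree_lt hN hr
    have e' : a.reflect N * p.reflect (M - 1) + b.reflect M * r.reflect (N - 1) =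
        Polynomial.C (Polynomial.resultant a b N M) * Polynomial.X ^ (N + M - 1) := by
      have h0 := congrArg (Polynomial.reflect (N + M - 1)) e
      rw [Polynomial.reflect_add, Polynomial.reflect_C] at h0
      have h1 : N + M - 1 = N + (M - 1) := by omega
      have h2 : N + M - 1 = M + (N - 1) := by omega
      rw [← h0]
      congr 1
      · rw [h1, Polynomial.reflect_mul a p ha hp']
      · rw [h2, Polynomial.reflect_mul b r hb hr']
    have hc : a.coeff N ≠ 0 ∨ b.coeff M ≠ 0 := by
      by_contra hcon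
      push Not at hcon
      exact hres (Polynomial.resultant_eq_zero_of_lt_lt _ _ _ _
        (natDegree_lt_of_coeff_eq_zero hN ha hcon.1)
        (natDegree_lt_of_coeff_eq_zero hM hb hcon.2))
    rcases hc with hc | hc
    · have hX : IsCoprime (Polynomial.X : Polynomial k) (a.reflect N) := by
        rw [Polynomial.irreducible_X.coprime_iff_not_dvd, Polynomial.X_dvd_iff,
          Polynomial.coeff_reflect, Polynomial.revAt_zero]
        exact hc
      have hz : IsCoprime (Polynomial.C (Polynomial.resultant a b N M) *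
          Polynomial.X ^ (N + M - 1)) (a.reflect N) :=
        (isCoprime_mul_unit_left_left hρ _ _).mpr hX.pow_left
      exact isCoprime_of_combination hz ⟨_, _, e'⟩
    · have hX : IsCoprime (Polynomial.X : Polynomial k) (b.reflect M) := by
        rw [Polynomial.irreducible_X.coprime_iff_not_dvd, Polynomial.X_dvd_iff,
          Polynomial.coeff_reflect, Polynomial.revAt_zero]
        exact hc
      have hz : IsCoprime (Polynomial.C (Polynomial.resultant a b N M) *
          Polynomial.X ^ (N + M - 1)) (b.reflect M) :=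
        (isCoprime_mul_unit_left_left hρ _ _).mpr hX.pow_left
      refine (isCoprime_of_combination hz
        ⟨r.reflect (N - 1), p.reflect (M - 1), ?_⟩).symm
      rw [add_comm]
      exact e'

theorem resultant_ne_zero_of_coprime {k : Type u} [Field k] (a b : Polynomial k) (N M : ℕ)
    (ha : a.natDegree ≤ N) (hb : b.natDegree ≤ M) (h1 : IsCoprime a b)
    (h2 : IsCoprime (a.reflect N) (b.reflect M)) :
    Polynomial.resultant a b N M ≠ 0 := by
  have hc : a.coeff N ≠ 0 ∨ b.coeff M ≠ 0 := by
    by_contra hcon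
    push Not at hcon
    have d1 : (Polynomial.X : Polynomial k) ∣ a.reflect N := by
      rw [Polynomial.X_dvd_iff, Polynomial.coeff_reflect, Polynomial.revAt_zero]
      exact hcon.1
    have d2 : (Polynomial.X : Polynomial k) ∣ b.reflect M := by
      rw [Polynomial.X_dvd_iff, Polynomial.coeff_reflect, Polynomial.revAt_zero]
      exact hcon.2
    exact Polynomial.not_isUnit_X (h2.isUnit_of_dvd' d1 d2)
  have hres : Polynomial.resultant a b ≠ 0 := Polynomial.resultant_ne_zero a b h1
  rcases hc with hc | hc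
  · have hN : a.natDegree = N := le_antisymm ha (Polynomial.le_natDegree_of_ne_zero hc)
    obtain ⟨j, rfl⟩ := Nat.exists_eq_add_of_le hb
    subst hN
    rw [Polynomial.resultant_add_right_deg _ _ _ _ j le_rfl]
    exact mul_ne_zero (pow_ne_zero _ hc) hres
  · have hM : b.natDegree = M := le_antisymm hb (Polynomial.le_natDegree_of_ne_zero hc)
    obtain ⟨j, rfl⟩ := Nat.exists_eq_add_of_le ha
    subst hM
    rw [Polynomial.resultant_add_left_deg _ _ _ _ j le_rfl]
    exact mul_ne_zero (mul_ne_zero (pow_ne_zero _ (by simp)) (pow_ne_zero _ hc)) hres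


/-- Let k be a field, n ≥ 3, q a binary quadratic form and ξ a binary form of degree n over k, given by
coefficient vectors (q_i the coefficient of x^i y^(2−i), ξ_j that of x^j y^(n−j)), not both zero.
The pair (q, ξ) is a global section of O(2) ⊕ O(n) on P¹_k, i.e. of the line bundle of class e + nf
on the Hirzebruch surface F_{n−2} = P(O ⊕ O(n−2)) → P¹_k, and cuts out the curve W : q·u + ξ·v = 0
there ([u : v] the fibre coordinates). Over the two standard opens of P¹ (t = x/y, s = y/x) and the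
two opens u ≠ 0, v ≠ 0 of the fibres, W is covered by four affine charts with coordinate rings k[t,
w]/(q(t,1) + ξ(t,1)·w), k[t, w]/(q(t,1)·w + ξ(t,1)), k[s, w]/(q(1,s) + ξ(1,s)·w) and k[s,
w]/(q(1,s)·w + ξ(1,s)) (variables indexed 0 for t or s and 1 for w). Then W is smooth over k — all
four chart algebras are smooth k-algebras — if and only if the resultant of q and ξ (the Sylvester
determinant of the two coefficient vectors with size parameters 2 and n) is nonzero. (The published
statement is over a general base scheme B, for a section (q, ξ) vanishing on no fibre, with 'the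
resultant is a unit on B' in place of 'nonzero'; its proof reduces at once to the statement over a
field given here, which is the case B = Spec k.) -/
theorem result (k : Type u) [Field k] (n : ℕ) (hn : 3 ≤ n)
    (q : Fin 3 → k) (ξ : Fin (n + 1) → k) (hqξ : q ≠ 0 ∨ ξ ≠ 0) :
    (Algebra.Smooth k (MvPolynomial (Fin 2) k ⧸ Ideal.span ({(∑ i : Fin 3, MvPolynomial.C (q i) * MvPolynomial.X 0 ^ (i : ℕ)) + (∑ j : Fin (n + 1), MvPolynomial.C (ξ j) * MvPolynomial.X 0 ^ (j : ℕ)) * MvPolynomial.X 1} : Set (MvPolynomial (Fin 2) k))) ∧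
      Algebra.Smooth k (MvPolynomial (Fin 2) k ⧸ Ideal.span ({(∑ i : Fin 3, MvPolynomial.C (q i) * MvPolynomial.X 0 ^ (i : ℕ)) * MvPolynomial.X 1 + (∑ j : Fin (n + 1), MvPolynomial.C (ξ j) * MvPolynomial.X 0 ^ (j : ℕ))} : Set (MvPolynomial (Fin 2) k))) ∧
      Algebra.Smooth k (MvPolynomial (Fin 2) k ⧸ Ideal.span ({(∑ i : Fin 3, MvPolynomial.C (q i) * MvPolynomial.X 0 ^ (2 - (i : ℕ))) + (∑ j : Fin (n + 1), MvPolynomial.C (ξ j) * MvPolynomial.X 0 ^ (n - (j : ℕ))) * MvPolynomial.X 1} : Set (MvPolynomial (Fin 2) k))) ∧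
      Algebra.Smooth k (MvPolynomial (Fin 2) k ⧸ Ideal.span ({(∑ i : Fin 3, MvPolynomial.C (q i) * MvPolynomial.X 0 ^ (2 - (i : ℕ))) * MvPolynomial.X 1 + (∑ j : Fin (n + 1), MvPolynomial.C (ξ j) * MvPolynomial.X 0 ^ (n - (j : ℕ)))} : Set (MvPolynomial (Fin 2) k)))) ↔
    Polynomial.resultant (∑ i : Fin 3, Polynomial.C (q i) * Polynomial.X ^ (i : ℕ))
      (∑ j : Fin (n + 1), Polynomial.C (ξ j) * Polynomial.X ^ (j : ℕ)) 2 n ≠ 0 := by
  have hq2 : ∀ i : Fin 3, (i : ℕ) ≤ 2 := fun i => by omega
  have hξn : ∀ j : Fin (n + 1), (j : ℕ) ≤ n := fun j => by omega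
  have e1 : (∑ i : Fin 3, MvPolynomial.C (q i) * MvPolynomial.X 0 ^ (i : ℕ)) =
      φ k (∑ i : Fin 3, Polynomial.C (q i) * Polynomial.X ^ (i : ℕ)) := (phi_sum q _).symm
  have e2 : (∑ j : Fin (n + 1), MvPolynomial.C (ξ j) * MvPolynomial.X 0 ^ (j : ℕ)) =
      φ k (∑ j : Fin (n + 1), Polynomial.C (ξ j) * Polynomial.X ^ (j : ℕ)) := (phi_sum ξ _).symm
  have e3 : (∑ i : Fin 3, MvPolynomial.C (q i) * MvPolynomial.X 0 ^ (2 - (i : ℕ))) =
      φ k (Polynomial.reflect 2 (∑ i : Fin 3, Polynomial.C (q i) * Polynomial.X ^ (i : ℕ))) := by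
    rw [reflect_pol q 2 hq2, phi_sum]
  have e4 : (∑ j : Fin (n + 1), MvPolynomial.C (ξ j) * MvPolynomial.X 0 ^ (n - (j : ℕ))) =
      φ k (Polynomial.reflect n
        (∑ j : Fin (n + 1), Polynomial.C (ξ j) * Polynomial.X ^ (j : ℕ))) := by
    rw [reflect_pol ξ n hξn, phi_sum]
  rw [e1, e2, e3, e4]
  have hda := natDegree_pol_le q 2 hq2
  have hdb := natDegree_pol_le ξ n hξn
  have hne : (∑ i : Fin 3, Polynomial.C (q i) * Polynomial.X ^ (i : ℕ)) ≠ 0 ∨
      (∑ j : Fin (n + 1), Polynomial.C (ξ j) * Polynomial.X ^ (j : ℕ)) ≠ 0 :=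
    hqξ.imp (pol_ne_zero q) (pol_ne_zero ξ)
  generalize (∑ i : Fin 3, Polynomial.C (q i) * Polynomial.X ^ (i : ℕ)) = a at *
  generalize (∑ j : Fin (n + 1), Polynomial.C (ξ j) * Polynomial.X ^ (j : ℕ)) = b at *
  have hne' : a.reflect 2 ≠ 0 ∨ b.reflect n ≠ 0 := by
    simpa only [ne_eq, Polynomial.reflect_eq_zero_iff] using hne
  constructor
  · rintro ⟨s1, s2, s3, s4⟩
    rw [add_comm] at s2 s4
    have c1 := isCoprime_of_smooth a b hne s1.formallySmooth s2.formallySmooth
    have c2 := isCoprime_of_smooth _ _ hne' s3.formallySmooth s4.formallySmooth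
    exact resultant_ne_zero_of_coprime a b 2 n hda hdb c1 c2
  · intro hres
    obtain ⟨c1, c2⟩ := coprime_of_resultant_ne_zero a b 2 n (by norm_num) (by omega) hda hdb hres
    refine ⟨smooth_of_isCoprime a b c1, ?_, smooth_of_isCoprime _ _ c2, ?_⟩
    · rw [add_comm]
      exact smooth_of_isCoprime b a c1.symm
    · rw [add_comm]
      exact smooth_of_isCoprime _ _ c2.symm

end Groth.Agent.S19185
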