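import Groth.Statements.S19186
import Mathlib.Tactic
-- import your own Groth.Agent.* helpers here

set_option autoImplicit false
universe u
open OneMot

namespace Groth.Agent.S19186

/-- Let p and ℓ be distinct prime numbers, r and n natural numbers, and f : A → B a homomorphism of
abelian groups whose kernel and cokernel are annihilated by p^r (f a = 0 implies p^r • a = 0, and
every p^r • b lies in the image of f). Then f induces a bijection between the ℓ^n-torsion subgroups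
of A and B and a bijection A/ℓ^n A → B/ℓ^n B. Spelled out without quotients: every ℓ^n-torsion
element of B has exactly one ℓ^n-torsion preimage; an element of A whose image is an ℓ^n-multiple is
itself an ℓ^n-multiple; and every element of B is the sum of an image and an ℓ^n-multiple. -/
theorem result {A B : Type u} [AddCommGroup A] [AddCommGroup B] (f : A →+ B) (p ℓ r n : ℕ) (hp : p.Prime) (hl : ℓ.Prime) (hne : ℓ ≠ p) (hker : ∀ a : A, f a = 0 → p ^ r • a = 0) (hcoker : ∀ b : B, ∃ a : A, f a = p ^ r • b) : (∀ b : B, ℓ ^ n • b = 0 → ∃! a : A, ℓ ^ n • a = 0 ∧ f a = b) ∧ (∀ a : A, (∃ b' : B, f a = ℓ ^ n • b') → ∃ a' : A, a = ℓ ^ n • a') ∧ (∀ b : B, ∃ (a : A) (b' : B), b = f a + ℓ ^ n • b') := by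
  have hcop : ∀ m : ℕ, IsCoprime ((ℓ ^ n : ℕ) : ℤ) ((p ^ m : ℕ) : ℤ) := by
    intro m
    apply Nat.Coprime.isCoprime
    apply Nat.Coprime.pow
    exact (Nat.coprime_primes hl hp).mpr hne
  -- conversions between ℕ- and ℤ-scalars
  have hz : ∀ {G : Type u} [AddCommGroup G] (k : ℕ) (x : G), ((k : ℕ) : ℤ) • x = k • x :=
    fun k x => natCast_zsmul x k
  obtain ⟨u, v, huv⟩ := hcop r
  refine ⟨fun b hb => ?_, fun a => ?_, fun b => ?_⟩
  · -- torsion bijection
    obtain ⟨a0, ha0⟩ := hcoker b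
    have hb1 : b = (v * ((p ^ r : ℕ) : ℤ)) • b := by
      have : (u * ((ℓ ^ n : ℕ) : ℤ) + v * ((p ^ r : ℕ) : ℤ)) • b = b := by rw [huv, one_smul]
      rw [add_smul, mul_smul, hz, hb, smul_zero, zero_add] at this
      exact this.symm
    have hfa1 : f (v • a0) = b := by
      rw [map_zsmul, ha0, ← hz, ← mul_smul]; exact hb1.symm
    have hl1 : (p ^ r) • ((ℓ ^ n) • (v • a0)) = 0 := by
      apply hker
      rw [map_nsmul, hfa1, hb]
    refine ⟨(v * ((p ^ r : ℕ) : ℤ)) • (v • a0), ⟨?_, ?_⟩, ?_⟩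
    · rw [mul_smul, hz, smul_comm (ℓ ^ n) v, smul_comm (ℓ ^ n) (p ^ r), hl1, smul_zero]
    · rw [map_zsmul, hfa1]; exact hb1.symm
    · rintro a' ⟨ha'1, ha'2⟩
      set a := (v * ((p ^ r : ℕ) : ℤ)) • (v • a0) with hadef
      have hfa : f a = b := by rw [hadef, map_zsmul, hfa1]; exact hb1.symm
      have hla : (ℓ ^ n) • a = 0 := by
        rw [hadef, mul_smul, hz, smul_comm (ℓ ^ n) v, smul_comm (ℓ ^ n) (p ^ r), hl1, smul_zero]
      have hd1 : (p ^ r) • (a' - a) = 0 := hker _ (by rw [map_sub, ha'2, hfa, sub_self])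
      have hd2 : (ℓ ^ n) • (a' - a) = 0 := by rw [smul_sub, ha'1, hla, sub_zero]
      have : (u * ((ℓ ^ n : ℕ) : ℤ) + v * ((p ^ r : ℕ) : ℤ)) • (a' - a) = a' - a := by
        rw [huv, one_smul]
      rw [add_smul, mul_smul, mul_smul, hz, hz, hd1, hd2, smul_zero, smul_zero, add_zero] at this
      exact sub_eq_zero.mp this.symm
  · rintro ⟨b', hb'⟩
    obtain ⟨a0, ha0⟩ := hcoker b'
    obtain ⟨u', v', huv'⟩ := hcop (r + r)
    have h1 : (p ^ r) • ((p ^ r) • a - (ℓ ^ n) • a0) = 0 := by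
      apply hker
      rw [map_sub, map_nsmul, map_nsmul, hb', ha0, smul_comm, sub_self]
    have h2 : (p ^ (r + r)) • a = (ℓ ^ n) • ((p ^ r) • a0) := by
      rw [smul_sub, sub_eq_zero] at h1
      rw [pow_add, mul_smul, h1, smul_comm]
    refine ⟨u' • a + v' • ((p ^ r) • a0), ?_⟩
    have : (u' * ((ℓ ^ n : ℕ) : ℤ) + v' * ((p ^ (r + r) : ℕ) : ℤ)) • a = a := by
      rw [huv', one_smul]
    rw [add_smul, mul_smul, mul_smul, hz, hz, h2] at this
    rw [smul_add, smul_comm (ℓ ^ n) u', smul_comm (ℓ ^ n) v']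
    exact this.symm
  · obtain ⟨a0, ha0⟩ := hcoker b
    refine ⟨v • a0, u • b, ?_⟩
    have : (u * ((ℓ ^ n : ℕ) : ℤ) + v * ((p ^ r : ℕ) : ℤ)) • b = b := by rw [huv, one_smul]
    rw [add_smul, mul_smul, mul_smul, hz, hz] at this
    rw [map_zsmul, ha0, smul_comm (ℓ ^ n) u, add_comm]
    exact this.symm

end Groth.Agent.S19186
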