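import Groth.Statements.S19187
import Mathlib
-- import your own Groth.Agent.* helpers here

set_option autoImplicit false
universe u
open Cpct

namespace Groth.Agent.S19187

open CategoryTheory AlgebraicGeometry in
/-- Let k be a field, X̄ and Ȳ schemes proper over Spec k, j : X → X̄ an open immersion with dense image
and v : Y → Ȳ an open immersion (compactifications of X and Y), f : X → Y a proper morphism and f̄ :
X̄ → Ȳ a morphism over Spec k with f̄ ∘ j = v ∘ f. Then the preimage under f̄ of the open v(Y) is
the open j(X); equivalently, the complement of X in X̄ is the preimage of the complement of Y in Ȳ.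
(The base field k is arbitrary: no perfectness assumption is needed.) -/
theorem result {k : Type u} [Field k] {X Y Xb Yb : Scheme.{u}} (a : Xb ⟶ Spec (CommRingCat.of k)) (b : Yb ⟶ Spec (CommRingCat.of k)) [IsProper a] [IsProper b] (j : X ⟶ Xb) [IsOpenImmersion j] (hj : Dense (Set.range j.base)) (v : Y ⟶ Yb) [IsOpenImmersion v] (f : X ⟶ Y) [IsProper f] (fb : Xb ⟶ Yb) (hfb : fb ≫ b = a) (hsq : j ≫ fb = f ≫ v) : fb ⁻¹ᵁ v.opensRange = j.opensRange := by
  haveI : IsProper (fb ≫ b) := by rw [hfb]; infer_instance
  haveI : IsProper fb := IsProper.of_comp fb b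
  let l : X ⟶ Limits.pullback fb v := Limits.pullback.lift j f hsq
  have hl1 : l ≫ Limits.pullback.fst fb v = j := Limits.pullback.lift_fst _ _ _
  have hl2 : l ≫ Limits.pullback.snd fb v = f := Limits.pullback.lift_snd _ _ _
  haveI : IsProper (l ≫ Limits.pullback.snd fb v) := by rw [hl2]; infer_instance
  haveI : IsProper l := IsProper.of_comp l (Limits.pullback.snd fb v)
  have hclosed : IsClosed (Set.range l) := l.isClosedMap.isClosed_range
  have hopenemb : Topology.IsOpenEmbedding (Limits.pullback.fst fb v) :=
    (Limits.pullback.fst fb v).isOpenEmbedding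
  have hrange_l : Set.range l = (Limits.pullback.fst fb v) ⁻¹' Set.range j := by
    ext z
    constructor
    · rintro ⟨x, rfl⟩
      refine ⟨x, ?_⟩
      rw [← hl1]
      exact Scheme.Hom.comp_apply _ _ _
    · rintro ⟨x, hx⟩
      refine ⟨x, hopenemb.injective ?_⟩
      rw [← hx, ← hl1]; rfl
  have hdense : Dense (Set.range l) := by
    rw [hrange_l]
    exact hj.preimage hopenemb.isOpenMap
  have hsurj : Set.range l = Set.univ := by
    rw [← hclosed.closure_eq]; exact hdense.closure_eq
  apply TopologicalSpace.Opens.ext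
  change fb ⁻¹' (Set.range v) = Set.range j
  rw [← Scheme.Pullback.range_fst]
  have : Set.range j = Set.range (l ≫ Limits.pullback.fst fb v) := by rw [hl1]
  rw [this]
  ext y
  constructor
  · rintro ⟨z, rfl⟩
    obtain ⟨x, rfl⟩ : z ∈ Set.range l := by rw [hsurj]; trivial
    exact ⟨x, rfl⟩
  · rintro ⟨x, rfl⟩
    exact ⟨l x, rfl⟩

end Groth.Agent.S19187
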