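import Groth.Statements.S19189
import Mathlib
-- import your own Groth.Agent.* helpers here

set_option autoImplicit false
universe v u
open CategoryTheory CategoryTheory.Limits CategoryTheory.Pretriangulated CategoryTheory.Triangulated
open CohDer

namespace Groth.Agent.S19189

lemma ring_conj {R : Type*} [Ring R] (ε ν : R) (hε : ε * ε = ε) (hν : ν * ν = 0)
    (he : (ε + ν) * (ε + ν) = ε + ν) :
    ∃ u v : R, u * v = 1 ∧ v * u = 1 ∧ (ε + ν) * u = u * ε := by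
  have H1 : ε * ν + ν * ε = ν := by
    have h2 : (ε + ν) * (ε + ν) = ε * ε + (ε * ν + ν * ε) + ν * ν := by noncomm_ring
    rw [h2, hε, hν, add_zero] at he
    exact add_left_cancel he
  have H2 : ε * ν * ε = 0 := by
    have h : ε * (ε * ν + ν * ε) = ε * ν := by rw [H1]
    rw [mul_add, ← mul_assoc, hε, ← mul_assoc] at h
    have h' : ε * ν + ε * ν * ε = ε * ν + 0 := by rw [h, add_zero]
    exact add_left_cancel h'
  have H3 : ν * ε * ν = 0 := by
    have h : (ε * ν + ν * ε) * ν = ν * ν := by rw [H1]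
    rw [add_mul, mul_assoc ε ν ν, hν, mul_zero, zero_add] at h
    exact h
  set w : R := ν - (ν * ε + ν * ε) with hw
  have hww : w * w = 0 := by
    have : w * w = ν * ν - (ν * ν) * ε - (ν * ν) * ε - (ν * ε * ν) - (ν * ε * ν) + (ν * ε * ν) * ε
        + (ν * ε * ν) * ε + (ν * ε * ν) * ε + (ν * ε * ν) * ε := by
      rw [hw]; noncomm_ring
    rw [this, hν, H3]; simp
  refine ⟨1 - w, 1 + w, ?_, ?_, ?_⟩
  · have : (1 - w) * (1 + w) = 1 - w * w := by noncomm_ring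
    rw [this, hww, sub_zero]
  · have : (1 + w) * (1 - w) = 1 - w * w := by noncomm_ring
    rw [this, hww, sub_zero]
  · rw [← sub_eq_zero]
    have : (ε + ν) * (1 - w) - (1 - w) * ε = (ν - (ε * ν + ν * ε)) + (ε * ν * ε) + (ε * ν * ε)
        - ν * ν + (ν * ν) * ε + (ν * ν) * ε - (ν * (ε * ε - ε)) - (ν * (ε * ε - ε)) := by
      rw [hw]; noncomm_ring
    rw [this, H1, H2, hν, hε]; simp

section pre
variable {C : Type u} [Category.{v} C] [Preadditive C]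

/-- an idempotent differing from a split idempotent by a square-zero element splits -/
lemma split_of_conj {X A : C} (ρ : X ⟶ A) (σ : A ⟶ X) (hσρ : σ ≫ ρ = 𝟙 A) (e : X ⟶ X)
    (he : e ≫ e = e) (hν : (e - ρ ≫ σ) ≫ (e - ρ ≫ σ) = 0) :
    ∃ (Y : C) (i : Y ⟶ X) (r : X ⟶ Y), i ≫ r = 𝟙 Y ∧ r ≫ i = e := by
  have hε : (ρ ≫ σ) ≫ (ρ ≫ σ) = ρ ≫ σ := by
    rw [Category.assoc, ← Category.assoc σ, hσρ, Category.id_comp]
  have hsum : (ρ ≫ σ) + (e - ρ ≫ σ) = e := by abel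
  obtain ⟨u, v, huv, hvu, hconj⟩ := ring_conj (R := End X) (ρ ≫ σ) (e - ρ ≫ σ) hε hν
    (by rw [hsum]; exact he)
  rw [hsum] at hconj
  have h1 : v ≫ u = 𝟙 X := huv
  have h2 : u ≫ v = 𝟙 X := hvu
  have h3 : u ≫ e = (ρ ≫ σ) ≫ u := hconj
  refine ⟨A, σ ≫ u, v ≫ ρ, ?_, ?_⟩
  · rw [Category.assoc, ← Category.assoc u, h2, Category.id_comp, hσρ]
  · calc (v ≫ ρ) ≫ σ ≫ u = v ≫ ((ρ ≫ σ) ≫ u) := by simp only [Category.assoc]
      _ = v ≫ u ≫ e := by rw [h3]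
      _ = e := by rw [← Category.assoc, h1, Category.id_comp]

end pre

section tri
variable {C : Type u} [Category.{v} C] [Preadditive C]
  [HasZeroObject C] [HasShift C ℤ] [∀ n : ℤ, (shiftFunctor C n).Additive] [Pretriangulated C]
  [IsTriangulated C]

/-- extension lemma: an idempotent endomorphism of a distinguished triangle whose outer components
split has a split middle component -/
lemma split_ext {X' X X'' : C} (f : X' ⟶ X) (g : X ⟶ X'') (h : X'' ⟶ X'⟦(1 : ℤ)⟧)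
    (hT : Triangle.mk f g h ∈ distTriang C)
    (e' : X' ⟶ X') (e : X ⟶ X) (e'' : X'' ⟶ X'')
    (c1 : f ≫ e = e' ≫ f) (c2 : g ≫ e'' = e ≫ g) (c3 : h ≫ e'⟦(1 : ℤ)⟧' = e'' ≫ h)
    (he : e ≫ e = e)
    {A' A'' : C} (s' : A' ⟶ X') (r' : X' ⟶ A') (hsr' : s' ≫ r' = 𝟙 A') (hrs' : r' ≫ s' = e')
    (s'' : A'' ⟶ X'') (r'' : X'' ⟶ A'') (hsr'' : s'' ≫ r'' = 𝟙 A'') (hrs'' : r'' ≫ s'' = e'') :
    ∃ (Y : C) (i : Y ⟶ X) (r : X ⟶ Y), i ≫ r = 𝟙 Y ∧ r ≫ i = e := by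
  obtain ⟨hA, hhA⟩ : ∃ hA : A'' ⟶ A'⟦(1 : ℤ)⟧, hA = s'' ≫ h ≫ r'⟦(1 : ℤ)⟧' := ⟨_, rfl⟩
  obtain ⟨A, fA, gA, hTA⟩ := distinguished_cocone_triangle₂ hA
  have hs''e : s'' ≫ e'' = s'' := by rw [← hrs'', ← Category.assoc, hsr'', Category.id_comp]
  have he'r : e' ≫ r' = r' := by rw [← hrs', Category.assoc, hsr', Category.comp_id]
  have comm1 : hA ≫ s'⟦(1 : ℤ)⟧' = s'' ≫ h := by
    rw [hhA, Category.assoc, Category.assoc, ← Functor.map_comp, hrs', c3, ← Category.assoc, hs''e]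
  have comm2 : h ≫ r'⟦(1 : ℤ)⟧' = r'' ≫ hA := by
    rw [hhA, ← Category.assoc r'', hrs'', ← Category.assoc e'', ← c3, Category.assoc,
      ← Functor.map_comp, he'r]
  obtain ⟨σ, hσ1, hσ2⟩ : ∃ σ : A ⟶ X, fA ≫ σ = s' ≫ f ∧ gA ≫ s'' = σ ≫ g :=
    complete_distinguished_triangle_morphism₂ _ _ hTA hT s' s'' comm1
  obtain ⟨ρ, hρ1, hρ2⟩ : ∃ ρ : X ⟶ A, f ≫ ρ = r' ≫ fA ∧ g ≫ r'' = ρ ≫ gA :=
    complete_distinguished_triangle_morphism₂ _ _ hT hTA r' r'' comm2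
  have k1 : fA ≫ σ ≫ ρ = fA := by
    rw [← Category.assoc, hσ1, Category.assoc, hρ1, ← Category.assoc, hsr', Category.id_comp]
  have k2 : (σ ≫ ρ) ≫ gA = gA := by
    rw [Category.assoc, ← hρ2, ← Category.assoc, ← hσ2, Category.assoc, hsr'', Category.comp_id]
  have hiso : IsIso (σ ≫ ρ) := by
    have q1 : fA ≫ (σ ≫ ρ) = 𝟙 A' ≫ fA := by rw [k1, Category.id_comp]
    have q2 : gA ≫ 𝟙 A'' = (σ ≫ ρ) ≫ gA := by rw [k2, Category.comp_id]
    have q3 : hA ≫ (𝟙 A')⟦(1 : ℤ)⟧' = 𝟙 A'' ≫ hA := by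
      rw [CategoryTheory.Functor.map_id, Category.comp_id, Category.id_comp]
    let φ : Triangle.mk fA gA hA ⟶ Triangle.mk fA gA hA :=
      Triangle.homMk (Triangle.mk fA gA hA) (Triangle.mk fA gA hA) (𝟙 A') (σ ≫ ρ) (𝟙 A'') q1 q2 q3
    have i1 : IsIso φ.hom₁ := (inferInstance : IsIso (𝟙 A'))
    have i3 : IsIso φ.hom₃ := (inferInstance : IsIso (𝟙 A''))
    have i2 : IsIso φ.hom₂ := isIso₂_of_isIso₁₃ φ hTA hTA i1 i3
    exact i2
  have k1' : fA ≫ inv (σ ≫ ρ) = fA := by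
    rw [← cancel_mono (σ ≫ ρ), Category.assoc, IsIso.inv_hom_id, Category.comp_id, k1]
  have k2' : inv (σ ≫ ρ) ≫ gA = gA := by
    rw [← cancel_epi (σ ≫ ρ), IsIso.hom_inv_id_assoc, k2]
  obtain ⟨ρ', hρ'⟩ : ∃ ρ' : X ⟶ A, ρ' = ρ ≫ inv (σ ≫ ρ) := ⟨_, rfl⟩
  have hσρ' : σ ≫ ρ' = 𝟙 A := by
    rw [hρ', ← Category.assoc, IsIso.hom_inv_id]
  have hfν : f ≫ (e - ρ' ≫ σ) = 0 := by
    rw [Preadditive.comp_sub, sub_eq_zero, c1, hρ', ← Category.assoc, ← Category.assoc, hρ1,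
      Category.assoc r', k1', Category.assoc, hσ1, ← Category.assoc, hrs']
  have hνg : (e - ρ' ≫ σ) ≫ g = 0 := by
    rw [Preadditive.sub_comp, sub_eq_zero, ← c2, hρ', Category.assoc, Category.assoc, ← hσ2,
      ← Category.assoc (inv (σ ≫ ρ)), k2', ← Category.assoc, ← hρ2, Category.assoc, hrs'']
  obtain ⟨d, hd⟩ : ∃ d : X ⟶ X', e - ρ' ≫ σ = d ≫ f := Triangle.coyoneda_exact₂ _ hT _ hνg
  have hνν : (e - ρ' ≫ σ) ≫ (e - ρ' ≫ σ) = 0 := by
    nth_rw 1 [hd]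
    rw [Category.assoc, hfν, comp_zero]
  exact split_of_conj ρ' σ hσρ' e he hνν

/-- in the (shifted) heart, `𝟙 - e` splits for every idempotent `e` -/
lemma split_one_sub_of_heart (t : TStructure C) (n : ℤ) (X : C) [t.IsGE X n] [t.IsLE X n]
    (e : X ⟶ X) (he : e ≫ e = e) :
    ∃ (Y : C) (i : Y ⟶ X) (r : X ⟶ Y), i ≫ r = 𝟙 Y ∧ r ≫ i = 𝟙 X - e := by
  obtain ⟨Cn, g, h, hT⟩ := distinguished_cocone_triangle e
  have h1 : e ≫ (𝟙 X - e) = 0 := by rw [Preadditive.comp_sub, Category.comp_id, he, sub_self]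
  obtain ⟨c, hc⟩ : ∃ c : Cn ⟶ X, 𝟙 X - e = g ≫ c := Triangle.yoneda_exact₂ _ hT _ h1
  obtain ⟨π, hπ⟩ : ∃ π : Cn ⟶ (t.truncGE n).obj Cn, π = (t.truncGEπ n).app Cn := ⟨_, rfl⟩
  have hs : π ≫ t.descTruncGE c n = c := by rw [hπ]; exact t.π_descTruncGE c n
  refine ⟨(t.truncGE n).obj Cn, t.descTruncGE c n, g ≫ π, ?_, ?_⟩
  · apply t.from_truncGE_obj_ext
    rw [← hπ, ← Category.assoc, hs, Category.comp_id]
    -- c ≫ g ≫ π = π
    have h2 : g ≫ (c ≫ g ≫ π - π) = 0 := by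
      rw [Preadditive.comp_sub, ← Category.assoc, ← hc, Preadditive.sub_comp, Category.id_comp,
        sub_sub_cancel_left, neg_eq_zero]
      have : e ≫ g = 0 := comp_distTriang_mor_zero₁₂ _ hT
      rw [← Category.assoc, this, zero_comp]
    obtain ⟨ψ, hψ⟩ : ∃ ψ : X⟦(1 : ℤ)⟧ ⟶ (t.truncGE n).obj Cn, c ≫ g ≫ π - π = h ≫ ψ :=
      Triangle.yoneda_exact₃ _ hT _ h2
    have hψ0 : ψ = 0 := t.zero_of_isLE_of_isGE ψ (n - 1) n (by lia)
      (t.isLE_shift X n 1 (n - 1) (by lia)) inferInstance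
    rw [hψ0, comp_zero, sub_eq_zero] at hψ
    exact hψ
  · rw [Category.assoc, hs, ← hc]

theorem main (t : TStructure C) (k : ℕ) : ∀ (X : C) (a : ℤ), t.IsGE X a → t.IsLE X (a + k - 1) →
    ∀ (e : X ⟶ X), e ≫ e = e → ∃ (Y : C) (i : Y ⟶ X) (r : X ⟶ Y), i ≫ r = 𝟙 Y ∧ r ≫ i = e := by
  induction k with
  | zero =>
    intro X a hGE hLE e he
    have hzero : IsZero X := t.isZero X (a + ((0 : ℕ) : ℤ) - 1) a (by simp)
    exact ⟨X, 𝟙 X, 𝟙 X, Category.comp_id _, hzero.eq_of_src _ _⟩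
  | succ k ih =>
    intro X a hGE hLE e he
    have hb : a + ((k + 1 : ℕ) : ℤ) - 1 = a + k := by push_cast; ring
    rw [hb] at hLE
    have hT := t.triangleLTGE_distinguished (a + k) X
    -- splitting on the truncation below
    obtain ⟨A', s', r', hsr', hrs'⟩ := ih ((t.truncLT (a + k)).obj X) a inferInstance
      (inferInstance : t.IsLE ((t.truncLT (a + k)).obj X) (a + k - 1))
      ((t.truncLT (a + k)).map e) (by rw [← Functor.map_comp, he])
    -- splitting on the top piece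
    have he'' : (𝟙 _ - (t.truncGE (a + k)).map e) ≫ (𝟙 _ - (t.truncGE (a + k)).map e) =
        𝟙 _ - (t.truncGE (a + k)).map e := by
      rw [Preadditive.sub_comp, Preadditive.comp_sub, Preadditive.comp_sub, Category.id_comp,
        Category.comp_id, Category.id_comp, ← Functor.map_comp, he]
      abel
    obtain ⟨A'', s'', r'', hsr'', hrs''⟩ := split_one_sub_of_heart t (a + k)
      ((t.truncGE (a + k)).obj X) (𝟙 _ - (t.truncGE (a + k)).map e) he''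
    rw [sub_sub_cancel] at hrs''
    exact split_ext ((t.truncLTι (a + k)).app X) ((t.truncGEπ (a + k)).app X)
      ((t.truncGEδLT (a + k)).app X) hT ((t.truncLT (a + k)).map e) e ((t.truncGE (a + k)).map e)
      ((t.truncLTι (a + k)).naturality e).symm ((t.truncGEπ (a + k)).naturality e).symm
      ((t.truncGEδLT (a + k)).naturality e).symm he s' r' hsr' hrs' s'' r'' hsr'' hrs''

end tri

/-- Let `C` be a triangulated category (octahedron axiom included) and `t` a t-structure on `C` which is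
bounded, i.e. every object of `C` is both `≥ a` and `≤ b` for some integers `a`, `b`. Then `C` is
idempotent complete (Karoubian): every idempotent endomorphism `p = p ≫ p` of an object splits as `p
= e ≫ i` with `i ≫ e = 𝟙`. -/
theorem result {C : Type u} [Category.{v} C] [Preadditive C]
    [HasZeroObject C] [HasShift C ℤ] [∀ n : ℤ, (shiftFunctor C n).Additive] [Pretriangulated C]
    [IsTriangulated C] (t : TStructure C) (hb : ∀ X : C, t.bounded X) :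
    IsIdempotentComplete C := by
  refine ⟨fun X p hp => ?_⟩
  obtain ⟨⟨a, ha⟩, ⟨b, hb'⟩⟩ := hb X
  have hLE : t.IsLE X (a + ((b - a + 1).toNat : ℤ) - 1) := t.isLE_of_le X b _ (by omega)
  exact main t (b - a + 1).toNat X a ha hLE p hp

end Groth.Agent.S19189
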