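import Groth.Statements.S19190
import Mathlib
-- import your own Groth.Agent.* helpers here

set_option autoImplicit false
universe w v u v' u'
open CategoryTheory CategoryTheory.Limits CategoryTheory.Pretriangulated CategoryTheory.Triangulated
open CohDer

namespace Groth.Agent.S19190

open ZeroObject

section
variable {A : Type w} [CommRing A] (S : Submonoid A)
  {T : Type u} [Category.{v} T] [Preadditive T] [Linear A T] [HasZeroObject T] [HasShift T ℤ]
  [∀ n : ℤ, (shiftFunctor T n).Additive] [∀ n : ℤ, (shiftFunctor T n).Linear A]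
  [Pretriangulated T]

/-- objects killed by an element of `S` -/
def Tors : ObjectProperty T := fun Z => ∃ s ∈ S, s • 𝟙 Z = 0

omit [HasZeroObject T] [HasShift T ℤ] [∀ n : ℤ, (shiftFunctor T n).Additive]
  [∀ n : ℤ, (shiftFunctor T n).Linear A] [Pretriangulated T] in
lemma smul_to {Z : T} {s : A} (h : s • 𝟙 Z = 0) {X : T} (f : X ⟶ Z) : s • f = 0 := by
  rw [← Category.comp_id f, ← Linear.comp_smul, h, comp_zero]

omit [HasZeroObject T] [HasShift T ℤ] [∀ n : ℤ, (shiftFunctor T n).Additive]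
  [∀ n : ℤ, (shiftFunctor T n).Linear A] [Pretriangulated T] in
lemma smul_from {Z : T} {s : A} (h : s • 𝟙 Z = 0) {Y : T} (f : Z ⟶ Y) : s • f = 0 := by
  rw [← Category.id_comp f, ← Linear.smul_comp, h, zero_comp]

instance : (Tors (T := T) S).IsClosedUnderIsomorphisms where
  of_iso {Z Z'} e := by
    rintro ⟨s, hs, h⟩
    refine ⟨s, hs, ?_⟩
    rw [← e.inv_hom_id, ← Linear.smul_comp, smul_to h e.inv, zero_comp]

instance : (Tors (T := T) S).IsStableUnderRetracts where
  of_retract {X Y} r := by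
    rintro ⟨s, hs, h⟩
    refine ⟨s, hs, ?_⟩
    rw [← r.retract, ← Linear.smul_comp, smul_to h r.i, zero_comp]

instance : (Tors (T := T) S).IsTriangulated where
  exists_zero := ⟨0, isZero_zero T, 1, S.one_mem, (isZero_zero T).eq_of_src _ _⟩
  isStableUnderShiftBy n :=
    { le_shift := by
        rintro Z ⟨s, hs, h⟩
        refine ⟨s, hs, ?_⟩
        show s • 𝟙 (Z⟦n⟧) = 0
        rw [← (shiftFunctor T n).map_id, ← Functor.map_smul, h, Functor.map_zero] }
  toIsTriangulatedClosed₂ := .mk' (by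
    rintro T' hT' ⟨s, hs, h⟩ ⟨s', hs', h'⟩
    refine ⟨s * s', S.mul_mem hs hs', ?_⟩
    have e1 : (s' • 𝟙 T'.obj₂) ≫ T'.mor₂ = 0 := by
      rw [Linear.smul_comp, Category.id_comp, smul_to h' T'.mor₂]
    obtain ⟨a, ha⟩ := Triangle.coyoneda_exact₂ T' hT' _ e1
    rw [mul_smul, ha, ← Linear.smul_comp, smul_to h a, zero_comp])

lemma tors_cone (X : T) (f : A) (hf : f ∈ S) (Z : T) (g : X ⟶ Z) (h : Z ⟶ X⟦(1 : ℤ)⟧)
    (hT : Triangle.mk (f • 𝟙 X) g h ∈ distTriang T) : Tors S Z := by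
  refine ⟨f * f, S.mul_mem hf hf, ?_⟩
  have e1 : (f • 𝟙 Z) ≫ h = 0 := by
    have h0 : h ≫ (f • 𝟙 X)⟦(1 : ℤ)⟧' = 0 := comp_distTriang_mor_zero₃₁ _ hT
    rw [Functor.map_smul, CategoryTheory.Functor.map_id, Linear.comp_smul, Category.comp_id] at h0
    rw [Linear.smul_comp, Category.id_comp, h0]
  obtain ⟨a, ha⟩ : ∃ a : Z ⟶ X, f • 𝟙 Z = a ≫ g := Triangle.coyoneda_exact₃ _ hT _ e1
  have h1 : (f • 𝟙 X) ≫ g = 0 := comp_distTriang_mor_zero₁₂ _ hT
  rw [Linear.smul_comp, Category.id_comp] at h1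
  rw [mul_smul, ha, ← Linear.comp_smul, h1, comp_zero]

end

/-- Let `A` be a commutative ring, `S` a multiplicative subset of `A` and `T` an `A`-linear triangulated
category (octahedron axiom included; the shift functors are `A`-linear). Call an object of `T`
`S`-torsion when it lies in the smallest thick subcategory `U` of `T` (a property of objects
containing zero, stable under shifts, extensions, isomorphisms and direct factors) containing every
cone of an endomorphism `f • 𝟙 X` with `f ∈ S`. Let `Q : T ⥤ E` exhibit `E` as the localization of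
`T` at the morphisms whose cone lies in `U` (the Verdier quotient `T/U`), where `E` is preadditive
and `A`-linear and `Q` is `A`-linear. Then for all objects `X`, `Y` of `T` the `A`-linear map
`Hom_T(X, Y) → Hom_E(Q X, Q Y)` given by `Q` exhibits its target as the localization of `Hom_T(X,
Y)` at `S`. Since `Q` is essentially surjective, this says that the comparison functor from `T/U` to
the category having the objects of `T` and morphism modules `Hom_T(X, Y) ⊗_A S⁻¹A` is an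
equivalence. -/
theorem result
    {A : Type w} [CommRing A] (S : Submonoid A)
    {T : Type u} [Category.{v} T] [Preadditive T] [Linear A T] [HasZeroObject T] [HasShift T ℤ]
    [∀ n : ℤ, (shiftFunctor T n).Additive] [∀ n : ℤ, (shiftFunctor T n).Linear A]
    [Pretriangulated T] [IsTriangulated T]
    (U : ObjectProperty T) [U.IsTriangulated] [U.IsClosedUnderIsomorphisms] [U.IsStableUnderRetracts]
    (hU : ∀ (X : T) (f : A), f ∈ S → ∀ (Z : T) (g : X ⟶ Z) (h : Z ⟶ X⟦(1 : ℤ)⟧),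
      Triangle.mk (f • 𝟙 X) g h ∈ distTriang T → U Z)
    (hmin : ∀ (U' : ObjectProperty T) [U'.IsTriangulated] [U'.IsClosedUnderIsomorphisms]
      [U'.IsStableUnderRetracts],
      (∀ (X : T) (f : A), f ∈ S → ∀ (Z : T) (g : X ⟶ Z) (h : Z ⟶ X⟦(1 : ℤ)⟧),
        Triangle.mk (f • 𝟙 X) g h ∈ distTriang T → U' Z) → U ≤ U')
    {E : Type u'} [Category.{v'} E] [Preadditive E] [Linear A E]
    (Q : T ⥤ E) [Q.Additive] [Q.Linear A] [Q.IsLocalization U.trW] (X Y : T) :
    IsLocalizedModule S (Q.mapLinearMap A : (X ⟶ Y) →ₗ[A] (Q.obj X ⟶ Q.obj Y)) := by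
  have hUT : U ≤ Tors S := hmin (Tors S) (fun X f hf Z g h hT => tors_cone S X f hf Z g h hT)
  -- multiplication by s ∈ S becomes invertible
  have hinv : ∀ (s : A), s ∈ S → ∀ W : T, IsIso (Q.map (s • 𝟙 W)) := by
    intro s hs W
    obtain ⟨Z, g, h, hT⟩ := distinguished_cocone_triangle (s • 𝟙 W)
    exact Localization.inverts Q U.trW _ ⟨Z, g, h, hT, hU W s hs Z g h hT⟩
  refine ⟨fun x => ?_, fun y => ?_, fun {x₁ x₂} h => ?_⟩
  · rw [Module.End.isUnit_iff]
    have := hinv x.1 x.2 X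
    have key : ∀ φ : Q.obj X ⟶ Q.obj Y,
        (algebraMap A (Module.End A (Q.obj X ⟶ Q.obj Y)) x) φ = Q.map ((x : A) • 𝟙 X) ≫ φ := by
      intro φ
      rw [Module.algebraMap_end_apply, Functor.map_smul, CategoryTheory.Functor.map_id, Linear.smul_comp,
        Category.id_comp]
    constructor
    · intro φ ψ hφψ
      rw [key, key] at hφψ
      exact (cancel_epi _).1 hφψ
    · intro φ
      exact ⟨inv (Q.map ((x : A) • 𝟙 X)) ≫ φ, by rw [key, IsIso.hom_inv_id_assoc]⟩
  · obtain ⟨φ, hφ⟩ := Localization.exists_leftFraction Q U.trW y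
    obtain ⟨Z, g, h, hT, hZ⟩ := φ.hs
    obtain ⟨s, hs, hsZ⟩ := hUT Z hZ
    have e1 : (s • 𝟙 φ.Y') ≫ g = 0 := by
      rw [Linear.smul_comp, Category.id_comp, smul_to hsZ g]
    obtain ⟨w', hw'⟩ : ∃ w' : φ.Y' ⟶ Y, s • 𝟙 φ.Y' = w' ≫ φ.s :=
      Triangle.coyoneda_exact₂ _ hT _ e1
    refine ⟨(φ.f ≫ w', ⟨s, hs⟩), ?_⟩
    show s • y = Q.map (φ.f ≫ w')
    have := Localization.inverts Q U.trW φ.s ⟨Z, g, h, hT, hZ⟩
    have hy : y = Q.map φ.f ≫ inv (Q.map φ.s) := hφ
    have hw : Q.map w' = s • inv (Q.map φ.s) := by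
      rw [← cancel_mono (Q.map φ.s), ← Q.map_comp, ← hw', Linear.smul_comp, IsIso.inv_hom_id,
        Functor.map_smul, CategoryTheory.Functor.map_id]
    rw [Q.map_comp, hw, hy, Linear.comp_smul]
  · have h' : Q.map x₁ = Q.map x₂ := h
    obtain ⟨Z, t, ht, fac⟩ := (MorphismProperty.map_eq_iff_postcomp Q U.trW x₁ x₂).1 h'
    obtain ⟨X', f', hh, hT, hX'⟩ := (U.trW_iff' t).1 ht
    have e1 : (x₁ - x₂) ≫ t = 0 := by rw [Preadditive.sub_comp, fac, sub_self]
    obtain ⟨a, ha⟩ : ∃ a : X ⟶ X', x₁ - x₂ = a ≫ f' := Triangle.coyoneda_exact₂ _ hT _ e1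
    obtain ⟨s, hs, hsX'⟩ := hUT X' hX'
    refine ⟨⟨s, hs⟩, ?_⟩
    show s • x₁ = s • x₂
    rw [← sub_eq_zero, ← smul_sub, ha, ← Linear.smul_comp, smul_to hsX' a, zero_comp]

end Groth.Agent.S19190
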