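import Groth.Statements.S19196
import Mathlib

set_option autoImplicit false
universe u
open RelS1

namespace Groth.Agent.S19196

/-- Let R be a Noetherian commutative ring and N a finitely generated R-module which fails Serre's
condition (S_1), in the sense that some associated prime of N is not a minimal prime of the
annihilator of N. Then there exist an element a of R lying in no minimal prime of the annihilator of
N and a nonzero element b of N with a • b = 0; thus the basic open set D(a) meets the support of N
densely while restriction to it is not injective on N. -/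
theorem result (R N : Type u) [CommRing R] [IsNoetherianRing R]
    [AddCommGroup N] [Module R N] [Module.Finite R N]
    (h : ¬ associatedPrimes R N ⊆ (Module.annihilator R N).minimalPrimes) :
    ∃ (a : R) (b : N), (∀ P ∈ (Module.annihilator R N).minimalPrimes, a ∉ P) ∧ b ≠ 0 ∧ a • b = 0 := by
  classical
  obtain ⟨P, hPass, hPmin⟩ := Set.not_subset.mp h
  have hP := (isAssociatedPrime_iff (R := R) (M := N)).mp hPass
  obtain ⟨hPprime, x, hPx⟩ := hP
  have hmemP : ∀ r : R, r ∈ P ↔ r • x = 0 := by
    intro r
    rw [hPx, Submodule.mem_colon_singleton, Submodule.mem_bot]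
  have hannP : Module.annihilator R N ≤ P := by
    intro r hr
    rw [hmemP]
    exact Module.mem_annihilator.mp hr x
  have hfin := Ideal.finite_minimalPrimes_of_isNoetherianRing R (Module.annihilator R N)
  have hprimes : ∀ Q ∈ hfin.toFinset, Q ≠ P → Q ≠ P → Ideal.IsPrime ((fun Q : Ideal R => Q) Q) := by
    intro Q hQ _ _
    rw [Set.Finite.mem_toFinset] at hQ
    exact hQ.1.1
  have hnot : ¬ ((P : Set R) ⊆ ⋃ Q ∈ (↑hfin.toFinset : Set (Ideal R)), ((fun Q : Ideal R => Q) Q : Set R)) := by
    intro hsub
    obtain ⟨Q, hQ, hPQ⟩ := (Ideal.subset_union_prime (s := hfin.toFinset)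
      (f := fun Q : Ideal R => Q) P P hprimes).mp hsub
    rw [Set.Finite.mem_toFinset] at hQ
    have hQP : Q ≤ P := hQ.2 ⟨hPprime, hannP⟩ hPQ
    have : P = Q := le_antisymm hPQ hQP
    exact hPmin (this ▸ hQ)
  obtain ⟨a, haP, hanot⟩ := Set.not_subset.mp hnot
  refine ⟨a, x, ?_, ?_, ?_⟩
  · intro Q hQ haQ
    apply hanot
    simp only [Set.mem_iUnion]
    exact ⟨Q, by simpa using hQ, haQ⟩
  · intro hx0
    apply hPprime.ne_top
    rw [Ideal.eq_top_iff_one, hmemP, hx0, smul_zero]
  · exact (hmemP a).mp haP

end Groth.Agent.S19196
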