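import Groth.Statements.S19198
import Mathlib
import Groth.Agent.S17728
import Groth.Agent.S10879

set_option autoImplicit false
universe u
open CategoryTheory AlgebraicGeometry
open Models

namespace Groth.Agent.S19198

open CategoryTheory.Limits

/-- A quasi-compact scheme-theoretically dominant open immersion gives a schematically dense open
in the prelude sense. -/
theorem isSchematicallyDense_of_std {X : Scheme.{u}} (V : X.Opens)
    [IsSchemeTheoreticallyDominant V.ι] [QuasiCompact V.ι] : CInt.IsSchematicallyDense V := by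
  intro W
  have h1 : Function.Injective (V.ι.app W).hom := V.ι.app_injective W
  rw [Scheme.Opens.ι_app] at h1
  have heq : W ⊓ V = V.ι ''ᵁ V.ι ⁻¹ᵁ W := by
    rw [Scheme.Hom.image_preimage_eq_opensRange_inf, Scheme.Opens.opensRange_ι, inf_comm]
  have key : ∀ (W' : X.Opens) (_ : W ⊓ V = W') (i : Opposite.op W ⟶ Opposite.op W'),
      Function.Injective (X.presheaf.map i).hom →
      Function.Injective (X.presheaf.map (homOfLE (inf_le_left : W ⊓ V ≤ W)).op) := by
    intro W' hW' i hi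
    subst hW'
    have : i = (homOfLE (inf_le_left : W ⊓ V ≤ W)).op := Subsingleton.elim _ _
    rw [this] at hi
    exact hi
  exact key _ heq _ h1

/-- If `g` is an isomorphism over `U`, two morphisms into the source which agree after `g` and one of
which lands in `g⁻¹ U` are equal. -/
theorem eq_of_comp_eq_of_range_subset {Z C P : Scheme.{u}} (g : Z ⟶ C) (U : C.Opens)
    [IsIso (g ∣_ U)] (a b : P ⟶ Z) (ha : Set.range a ⊆ ((g ⁻¹ᵁ U : Z.Opens) : Set Z))
    (hab : a ≫ g = b ≫ g) : a = b := by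
  have hb : Set.range b ⊆ ((g ⁻¹ᵁ U : Z.Opens) : Set Z) := by
    rintro _ ⟨p, rfl⟩
    show g (b p) ∈ U
    rw [← Scheme.Hom.comp_apply, ← hab, Scheme.Hom.comp_apply]
    exact ha ⟨p, rfl⟩
  have ha' : Set.range a ⊆ Set.range (g ⁻¹ᵁ U).ι := by rwa [Scheme.Opens.range_ι]
  have hb' : Set.range b ⊆ Set.range (g ⁻¹ᵁ U).ι := by rwa [Scheme.Opens.range_ι]
  have hfa := IsOpenImmersion.lift_fac (g ⁻¹ᵁ U).ι a ha'
  have hfb := IsOpenImmersion.lift_fac (g ⁻¹ᵁ U).ι b hb'
  have h1 : IsOpenImmersion.lift (g ⁻¹ᵁ U).ι a ha' ≫ (g ∣_ U) =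
      IsOpenImmersion.lift (g ⁻¹ᵁ U).ι b hb' ≫ (g ∣_ U) := by
    rw [← cancel_mono U.ι, Category.assoc, Category.assoc, morphismRestrict_ι, ← Category.assoc,
      ← Category.assoc, hfa, hfb, hab]
  have h2 := (cancel_mono (g ∣_ U)).mp h1
  rw [← hfa, ← hfb, h2]

/-- If `g` is separated, an isomorphism over an open `U` whose preimage is scheme-theoretically
dense (and retrocompact), and `l` lifts the localisation `Spec 𝒪_{C,c} ⟶ C` to the source, then the
base change of `g` to `Spec 𝒪_{C,c}` is an isomorphism; in particular the fibre of `g` over `c` is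
the single point `l(closed point)`. -/
theorem fibre_eq_of_local_lift {Z C : Scheme.{u}} (g : Z ⟶ C) [IsSeparated g] (U : C.Opens)
    [IsIso (g ∣_ U)] [IsSchemeTheoreticallyDominant (g ⁻¹ᵁ U).ι] [QuasiCompact (g ⁻¹ᵁ U).ι]
    (c : C) (l : Spec (C.presheaf.stalk c) ⟶ Z) (hl : l ≫ g = C.fromSpecStalk c)
    (z : Z) (hz : g z = c) : z = l (IsLocalRing.closedPoint _) := by
  let t := C.fromSpecStalk c
  have htflat : Flat t := Groth.Agent.S10879.flat_fromSpecStalk C c
  let p₁ := pullback.fst g t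
  let p₂ := pullback.snd g t
  have hp₁flat : Flat p₁ := inferInstance
  let k := pullback.fst p₁ (g ⁻¹ᵁ U).ι
  have hkstd : IsSchemeTheoreticallyDominant k := inferInstance
  let σT : Spec (C.presheaf.stalk c) ⟶ pullback g t :=
    pullback.lift l (𝟙 _) (by rw [hl, Category.id_comp])
  have hσ₁ : σT ≫ p₁ = l := pullback.lift_fst _ _ _
  have hσ₂ : σT ≫ p₂ = 𝟙 _ := pullback.lift_snd _ _ _
  have hσcl : IsClosedImmersion σT := by
    have : IsClosedImmersion (σT ≫ p₂) := by rw [hσ₂]; infer_instance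
    exact IsClosedImmersion.of_comp σT p₂
  -- `k` factors through `σT`
  have hk : k = (k ≫ p₂) ≫ σT := by
    apply pullback.hom_ext
    · -- first components
      show k ≫ p₁ = ((k ≫ p₂) ≫ σT) ≫ p₁
      rw [Category.assoc, hσ₁]
      apply eq_of_comp_eq_of_range_subset g U
      · rintro _ ⟨q, rfl⟩
        have h1 : k ≫ p₁ = pullback.snd p₁ (g ⁻¹ᵁ U).ι ≫ (g ⁻¹ᵁ U).ι := pullback.condition
        rw [h1, Scheme.Hom.comp_apply]
        exact ((pullback.snd p₁ (g ⁻¹ᵁ U).ι) q).2
      · rw [Category.assoc, Category.assoc, Category.assoc, hl]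
        show k ≫ pullback.fst g t ≫ g = k ≫ pullback.snd g t ≫ t
        rw [pullback.condition]
    · show k ≫ p₂ = ((k ≫ p₂) ≫ σT) ≫ p₂
      rw [Category.assoc, hσ₂, Category.comp_id]
  have hσiso : IsIso σT := by
    rw [IsClosedImmersion.isIso_iff_ker_eq_bot, ← le_bot_iff]
    have h1 := Scheme.Hom.le_ker_comp (k ≫ p₂) σT
    rw [← hk, Scheme.Hom.ker_eq_bot k] at h1
    exact h1
  -- a point of the pullback over `z` and the closed point
  have hzc : g z = t (IsLocalRing.closedPoint _) := by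
    rw [hz]
    exact (Scheme.fromSpecStalk_closedPoint (x := c)).symm
  obtain ⟨w, hw₁, hw₂⟩ := Scheme.Pullback.exists_preimage_pullback z _ hzc
  have hw : w = σT (p₂ w) := by
    have h2 : σT ≫ p₂ = 𝟙 _ := hσ₂
    have h3 : p₂ ≫ σT = 𝟙 _ := by
      have h4 : p₂ = inv σT := by
        rw [← cancel_epi σT, h2, IsIso.hom_inv_id]
      rw [h4, IsIso.inv_hom_id]
    have := congr($h3 w)
    rw [Scheme.Hom.comp_apply] at this
    simpa using this.symm
  rw [← hw₁, hw, hw₂, ← Scheme.Hom.comp_apply, hσ₁]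

/-- A closed morphism which is an open immersion on an open `W` containing the whole fibre over `c`
is an isomorphism over a neighbourhood of `c`. -/
theorem exists_nhd_isIso_of_fibre_subset {Z C : Scheme.{u}} (g : Z ⟶ C) (hcl : IsClosedMap g)
    (W : Z.Opens) [IsOpenImmersion (W.ι ≫ g)] (c : C) (hfib : ∀ z, g z = c → z ∈ W)
    (hc : ∃ w ∈ W, g w = c) : ∃ V : C.Opens, c ∈ V ∧ IsIso (g ∣_ V) := by
  have hFcl : IsClosed ((W : Set Z)ᶜ) := W.2.isClosed_compl
  have hgF : IsClosed (g '' ((W : Set Z)ᶜ)) := hcl _ hFcl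
  let V' : C.Opens := ⟨(g '' ((W : Set Z)ᶜ))ᶜ, hgF.isOpen_compl⟩
  let V₁ : C.Opens := (W.ι ≫ g).opensRange
  have hcV' : c ∈ V' := by
    rintro ⟨z, hzW, hzc⟩
    exact hzW (hfib z hzc)
  have hcV₁ : c ∈ V₁ := by
    obtain ⟨w, hw, hwc⟩ := hc
    exact ⟨⟨w, hw⟩, by rw [Scheme.Hom.comp_apply]; exact hwc⟩
  have hle : g ⁻¹ᵁ (V' ⊓ V₁) ≤ W := by
    intro z hz
    by_contra hzW
    exact hz.1 ⟨z, hzW, rfl⟩
  refine ⟨V' ⊓ V₁, ⟨hcV', hcV₁⟩, ?_⟩
  have hoi : IsOpenImmersion (g ∣_ (V' ⊓ V₁)) := by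
    have h1 : (g ∣_ (V' ⊓ V₁)) ≫ (V' ⊓ V₁).ι = Z.homOfLE hle ≫ W.ι ≫ g := by
      rw [morphismRestrict_ι, Scheme.homOfLE_ι_assoc]
    have : IsOpenImmersion ((g ∣_ (V' ⊓ V₁)) ≫ (V' ⊓ V₁).ι) := by
      rw [h1]; infer_instance
    exact IsOpenImmersion.of_comp (g ∣_ (V' ⊓ V₁)) (V' ⊓ V₁).ι
  have hsurj : Surjective (g ∣_ (V' ⊓ V₁)) := by
    constructor
    intro v
    obtain ⟨w, hw⟩ := v.2.2
    have hw' : g (W.ι w) = v.1 := by rw [← Scheme.Hom.comp_apply]; exact hw
    have hmem : W.ι w ∈ g ⁻¹ᵁ (V' ⊓ V₁) := by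
      show g (W.ι w) ∈ V' ⊓ V₁
      rw [hw']; exact v.2
    refine ⟨⟨W.ι w, hmem⟩, ?_⟩
    apply (V' ⊓ V₁).ι.injective
    rw [← Scheme.Hom.comp_apply, morphismRestrict_ι, Scheme.Hom.comp_apply]
    exact hw'
  exact (isIso_iff_isOpenImmersion_and_surjective _).mpr ⟨hoi, hsurj⟩


/-- Form over the valuation ring: let R be a discrete valuation ring with a uniformizer ϖ, let C → Spec
R be flat and locally of finite type, f : X → C proper, and Z → X a closed immersion with Z flat
over R such that the composite Z → C restricts to an isomorphism over the generic fibre, the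
preimage of the open set D(ϖ) of Spec R. Then for every point c of C whose local ring is an
integrally closed domain of Krull dimension one (a codimension-one point at which C is normal, for
instance a generic point of the closed fibre lying in the smooth locus), there is an open
neighbourhood V of c over which Z → C is an isomorphism. (The published statement, that the closed
fibre of such a Z maps isomorphically onto the closed fibre of C over every generic point of its
smooth locus, also after a finite extension of R, follows by restriction to the closed fibre and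
flat descent.) -/
theorem result (R : Type u) [CommRing R] [IsDomain R]
    [IsDiscreteValuationRing R] {C X Z : Scheme.{u}} (πC : C ⟶ Spec (CommRingCat.of R)) [Flat πC]
    [LocallyOfFiniteType πC] (f : X ⟶ C) [IsProper f] (i : Z ⟶ X) [IsClosedImmersion i]
    [Flat ((i ≫ f) ≫ πC)] (ϖ : R) (hϖ : Irreducible ϖ)
    (hgen : IsIso ((i ≫ f) ∣_ (πC ⁻¹ᵁ (PrimeSpectrum.basicOpen ϖ))))
    (c : C) (hdom : IsDomain (C.presheaf.stalk c)) (hnorm : IsIntegrallyClosed (C.presheaf.stalk c))
    (hdim : ringKrullDim (C.presheaf.stalk c) = 1) :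
    ∃ V : C.Opens, c ∈ V ∧ IsIso ((i ≫ f) ∣_ V) := by
  haveI instDom := hdom
  set g := i ≫ f with hg
  set D : (Spec (CommRingCat.of R)).Opens := PrimeSpectrum.basicOpen ϖ with hD
  set U : C.Opens := πC ⁻¹ᵁ D with hU
  by_cases hcU : c ∈ U
  · exact ⟨U, hcU, hgen⟩
  have hCN : IsLocallyNoetherian C := LocallyOfFiniteType.isLocallyNoetherian πC
  have hgproper : IsProper g := inferInstance
  -- scheme-theoretic density of the generic fibre of `Z`
  have hDqc : QuasiCompact D.ι := inferInstance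
  have hϖ0 : ϖ ≠ 0 := hϖ.ne_zero
  have hηD : (⟨⊥, Ideal.isPrime_bot⟩ : PrimeSpectrum R) ∈ PrimeSpectrum.basicOpen ϖ := by
    rw [PrimeSpectrum.mem_basicOpen]
    simpa using hϖ0
  have hDdom : IsDominant D.ι := by
    constructor
    rw [DenseRange, Scheme.Opens.range_ι]
    have hirr : IrreducibleSpace (PrimeSpectrum R) := inferInstance
    exact (PrimeSpectrum.basicOpen ϖ).2.dense ⟨_, hηD⟩
  have hDstd : IsSchemeTheoreticallyDominant D.ι :=
    (isSchemeTheoreticallyDominant_iff_isDominant D.ι).mpr hDdom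
  have hstd : IsSchemeTheoreticallyDominant (g ⁻¹ᵁ U).ι :=
    IsSchemeTheoreticallyDominant.of_isPullback (isPullback_morphismRestrict (g ≫ πC) D)
  have hqc : QuasiCompact (g ⁻¹ᵁ U).ι :=
    MorphismProperty.of_isPullback (P := @QuasiCompact)
      (isPullback_morphismRestrict (g ≫ πC) D) hDqc
  have hdense : CInt.IsSchematicallyDense (g ⁻¹ᵁ U) := isSchematicallyDense_of_std _
  -- the local ring at `c` is a valuation ring
  have hAN : IsNoetherianRing (C.presheaf.stalk c) := inferInstance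
  have hAval : ValuationRing (C.presheaf.stalk c) := by
    have hdimle : Ring.KrullDimLE 1 (C.presheaf.stalk c) := by
      rw [Ring.krullDimLE_iff]
      exact hdim.le
    have h4 : IsIntegrallyClosed (C.presheaf.stalk c) ∧
        ∀ P : Ideal (C.presheaf.stalk c), P ≠ ⊥ → P.IsPrime → P = IsLocalRing.maximalIdeal _ :=
      ⟨hnorm, fun P hP hP' => IsLocalRing.eq_maximalIdeal (hP'.isMaximal_of_ne_bot hP)⟩
    exact ((tfae_of_isNoetherianRing_of_isLocalRing_of_isDomain
      (C.presheaf.stalk c)).out 3 1).mp h4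
  haveI instVal := hAval
  -- the generic point of `Spec 𝒪_{C,c}` maps into `U`
  let i₂ := C.fromSpecStalk c
  let ηA : Spec (C.presheaf.stalk c) := (⟨⊥, Ideal.isPrime_bot⟩ : PrimeSpectrum (C.presheaf.stalk c))
  have hηU : i₂ ηA ∈ U := by
    have hgen' : GeneralizingMap πC := Flat.generalizingMap πC
    have hsp : (⟨⊥, Ideal.isPrime_bot⟩ : PrimeSpectrum R) ⤳ πC c := by
      rw [← PrimeSpectrum.le_iff_specializes]
      exact bot_le
    obtain ⟨c', hc'c, hc'⟩ := hgen' hsp
    have hc'U : c' ∈ U := by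
      show πC c' ∈ D
      rw [hc']
      exact hηD
    have hc'r : c' ∈ Set.range i₂ := by
      rw [Scheme.range_fromSpecStalk]
      exact hc'c
    obtain ⟨q, hq⟩ := hc'r
    have hηq : ηA ⤳ q :=
      (PrimeSpectrum.le_iff_specializes
        (⟨⊥, Ideal.isPrime_bot⟩ : PrimeSpectrum (C.presheaf.stalk c)) q).mp bot_le
    have h5 : i₂ ηA ⤳ i₂ q := hηq.map i₂.continuous
    rw [hq] at h5
    exact h5.mem_open U.2 hc'U
  -- valuative criterion: lift of `Spec 𝒪_{C,c} ⟶ C` to `Z`
  let K := FractionRing (C.presheaf.stalk c)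
  let sK : Spec (CommRingCat.of K) ⟶ Spec (C.presheaf.stalk c) :=
    Spec.map (CommRingCat.ofHom (algebraMap (C.presheaf.stalk c) K))
  have hsK : ∀ p, sK p = ηA := by
    intro p
    apply PrimeSpectrum.ext
    show Ideal.comap (algebraMap (C.presheaf.stalk c) K) p.asIdeal = ⊥
    have hp : p.asIdeal = ⊥ := (Ideal.eq_bot_or_top p.asIdeal).resolve_right p.2.ne_top
    rw [hp, ← RingHom.ker_eq_comap_bot]
    exact (RingHom.injective_iff_ker_eq_bot _).mp (IsFractionRing.injective _ K)
  let j := sK ≫ i₂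
  have hjU : Set.range j ⊆ Set.range U.ι := by
    rintro _ ⟨p, rfl⟩
    rw [Scheme.Opens.range_ι, Scheme.Hom.comp_apply, hsK]
    exact hηU
  let j' := IsOpenImmersion.lift U.ι j hjU
  have hj' : j' ≫ U.ι = j := IsOpenImmersion.lift_fac _ _ _
  let i₁ : Spec (CommRingCat.of K) ⟶ Z := j' ≫ inv (g ∣_ U) ≫ (g ⁻¹ᵁ U).ι
  have hi₁ : i₁ ≫ g = sK ≫ i₂ := by
    show (j' ≫ inv (g ∣_ U) ≫ (g ⁻¹ᵁ U).ι) ≫ g = _
    rw [Category.assoc, Category.assoc, ← morphismRestrict_ι, IsIso.inv_hom_id_assoc, hj']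
  let S : ValuativeCommSq g :=
    { R := C.presheaf.stalk c, domain := hdom, valuationRing := hAval, K := K, i₁ := i₁, i₂ := i₂,
      commSq := ⟨hi₁⟩ }
  have hex : ValuativeCriterion.Existence g := by
    have h6 : UniversallyClosed g := inferInstance
    rw [UniversallyClosed.eq_valuativeCriterion] at h6
    exact h6.1
  obtain ⟨⟨l, hl₁, hl₂⟩⟩ := (hex S).exists_lift
  let l' : Spec (C.presheaf.stalk c) ⟶ Z := l
  have hl : l' ≫ g = C.fromSpecStalk c := hl₂
  -- spread out the section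
  have hl' : l' ≫ g = C.fromSpecStalk c ≫ 𝟙 C := by rw [hl, Category.comp_id]
  obtain ⟨V, hV, σ, h1, h2⟩ := spread_out_of_isGermInjective' (𝟙 C) g l' hl'
  have hσ : σ ≫ g = V.ι := by rw [h2, Category.comp_id]
  have hσc : σ ⟨c, hV⟩ = l' (IsLocalRing.closedPoint _) := by
    have h3 := congr($h1 (IsLocalRing.closedPoint _))
    have h5 : (V.fromSpecStalkOfMem c hV) (IsLocalRing.closedPoint _) = ⟨c, hV⟩ := by
      show (Spec.map (inv (V.ι.stalkMap ⟨c, hV⟩)) ≫ V.toScheme.fromSpecStalk ⟨c, hV⟩)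
        (IsLocalRing.closedPoint _) = _
      rw [Scheme.Hom.comp_apply, Spec_closedPoint, Scheme.fromSpecStalk_closedPoint]
    rw [Scheme.Hom.comp_apply, h5] at h3
    exact h3.symm
  -- `g` is an open immersion near `σ c`
  obtain ⟨W, hW, hWo⟩ := Groth.Agent.S17728.exists_isOpenImmersion_nhd_of_local_section g U hgen
    hdense V σ hσ ⟨c, hV⟩
  -- the fibre over `c` is `{σ c}`
  have hfib : ∀ z, g z = c → z ∈ W := by
    intro z hz
    have := fibre_eq_of_local_lift g U c l' hl z hz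
    rw [this, ← hσc]
    exact hW
  have hcW : ∃ w ∈ W, g w = c := by
    refine ⟨σ ⟨c, hV⟩, hW, ?_⟩
    rw [← Scheme.Hom.comp_apply, hσ]
    rfl
  exact exists_nhd_isIso_of_fibre_subset g (g.isClosedMap) W c hfib hcW

end Groth.Agent.S19198
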