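import Groth.Statements.S19208
import Mathlib
import Groth.Agent.Lib.Helper5Mult

set_option autoImplicit false
universe u
open Filter
open LocAlg

namespace Groth.Agent.S19208

/-- Let O be a Noetherian local ring of Krull dimension r containing a field, with maximal ideal m. The
zeroth flat multiplicity e_0(O), the supremum over m-primary ideals I of e(I)/(r!·length(O/I)) with
e(I) the Samuel multiplicity, is at least 1: for every ε > 0 there is an m-primary ideal I (I ⊆ m,
m^N ⊆ I for some N) whose multiplicity e(I), the limit of r!·length(O/I^n)/n^r, satisfies e(I) ≥ (1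
− ε)·r!·length(O/I). (The same statement for the power-series rings O[[t_1, …, t_k]] is the bound
e_k(O) ≥ 1 for the k-th flat multiplicity.) -/
theorem result (O : Type u) [CommRing O] [IsNoetherianRing O]
    [IsLocalRing O] (K : Type u) [Field K] [Algebra K O] (r : ℕ) (hr : ringKrullDim O = r)
    (ε : ℝ) (hε : 0 < ε) :
    ∃ (I : Ideal O) (e : ℝ), I ≤ IsLocalRing.maximalIdeal O ∧
      (∃ N : ℕ, IsLocalRing.maximalIdeal O ^ N ≤ I) ∧
      Tendsto (fun n : ℕ => (r.factorial : ℝ) * ((Module.length O (O ⧸ I ^ n)).toNat : ℝ) / (n : ℝ) ^ r)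
        atTop (nhds e) ∧
      (1 - ε) * ((r.factorial : ℝ) * ((Module.length O (O ⧸ I)).toNat : ℝ)) ≤ e := by
  classical
  have hsd : Module.supportDim O O = r := by
    rw [Module.supportDim_self_eq_ringKrullDim, hr]
  obtain ⟨c, hc, hc0, hc1⟩ := Groth.Agent.Lib.Helper5.Mult.exists_mult O
    (IsLocalRing.maximalIdeal O) le_rfl ⟨1, by rw [pow_one]⟩ O r hsd.le
  have hc1' : 1 ≤ c := hc1 hsd
  have hcpos : (0 : ℝ) < (c : ℝ) := by exact_mod_cast (by omega : 0 < c)
  obtain ⟨k, hk1, hk⟩ : ∃ k : ℕ, 1 ≤ k ∧ (1 - ε) * ((r.factorial : ℝ) *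
      ((Module.length O (O ⧸ (IsLocalRing.maximalIdeal O ^ k •
        (⊤ : Submodule O O)))).toNat : ℝ)) ≤ (k : ℝ) ^ r * c := by
    by_cases hε1 : 1 ≤ ε
    · refine ⟨1, le_rfl, ?_⟩
      have h1 : (1 - ε) ≤ 0 := by linarith
      have h2 : (0 : ℝ) ≤ (r.factorial : ℝ) * ((Module.length O (O ⧸
          (IsLocalRing.maximalIdeal O ^ 1 • (⊤ : Submodule O O)))).toNat : ℝ) := by positivity
      have h3 : (0 : ℝ) ≤ ((1 : ℕ) : ℝ) ^ r * c := by positivity
      nlinarith
    · push Not at hε1
      have hpos : 0 < 1 - ε := by linarith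
      have hlt : (c : ℝ) < c / (1 - ε) := by
        rw [lt_div_iff₀ hpos]
        nlinarith
      have hev := hc.eventually (gt_mem_nhds hlt)
      obtain ⟨k, hk⟩ := (hev.and (eventually_ge_atTop 1)).exists
      refine ⟨k, hk.2, ?_⟩
      have hk0 : (0 : ℝ) < (k : ℝ) ^ r := by
        have : (0 : ℝ) < (k : ℝ) := by exact_mod_cast hk.2
        positivity
      have h1 := hk.1
      rw [div_lt_div_iff₀ hk0 hpos] at h1
      linarith
  refine ⟨IsLocalRing.maximalIdeal O ^ k, (k : ℝ) ^ r * c, Ideal.pow_le_self (by omega),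
    ⟨k, le_rfl⟩, ?_, ?_⟩
  · have hcomp : Tendsto (fun n : ℕ => k * n) atTop atTop :=
      Filter.tendsto_atTop_mono (fun n => Nat.le_mul_of_pos_left n hk1) tendsto_id
    have h1 := (hc.comp hcomp).const_mul ((k : ℝ) ^ r)
    refine h1.congr' ?_
    filter_upwards [eventually_ge_atTop 1] with n hn
    have hn0 : (n : ℝ) ≠ 0 := by
      have : (0 : ℝ) < (n : ℝ) := by exact_mod_cast hn
      exact this.ne'
    have hk0 : (k : ℝ) ≠ 0 := by
      have : (0 : ℝ) < (k : ℝ) := by exact_mod_cast hk1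
      exact this.ne'
    simp only [Function.comp]
    rw [Groth.Agent.Lib.Helper5.Reduction.length_quot_pow O (IsLocalRing.maximalIdeal O ^ k) n,
      ← pow_mul]
    push_cast
    rw [mul_pow]
    field_simp
  · rw [Groth.Agent.Lib.Helper5.Reduction.length_quot_pow O (IsLocalRing.maximalIdeal O) k]
    exact hk

end Groth.Agent.S19208
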