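import Groth.Statements.S19209
import Mathlib

set_option autoImplicit false
universe u
open Curves

namespace Groth.Agent.S19209

lemma tele (p : ℕ → ℝ) (n : ℕ) :
    ∑ k ∈ Finset.range n, (p k - p (k + 1)) * ((k : ℝ) + ((k + 1 : ℕ) : ℝ)) =
      2 * ∑ i ∈ Finset.range (n + 1), p i - p 0 - (2 * n + 1) * p n := by
  induction n with
  | zero => simp; ring
  | succ n ih =>
    rw [Finset.sum_range_succ, ih, Finset.sum_range_succ _ (n + 1)]
    push_cast
    ring

/-- Let n ≥ 1 and let p_0 ≥ p_1 ≥ … ≥ p_n = 0 be real numbers. Then some chain 0 = s_0 < s_1 < … < s_l =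
n satisfies Σ_{k<l} (p_{s_k} − p_{s_{k+1}})·(s_k + s_{k+1}) ≤ (2n/(n+1))·(p_0 + p_1 + … + p_n).
Equivalently the minimum of these sums over all chains, which is twice the area under the Newton
polygon (lower convex hull) of the points (k, p_k), is at most 2n/(n+1) times the sum of the
weights. -/
theorem result (n : ℕ) (hn : 1 ≤ n) (p : ℕ → ℝ)
    (hp : ∀ i j : ℕ, i ≤ j → j ≤ n → p j ≤ p i) (hpn : p n = 0) :
    ∃ (l : ℕ) (s : ℕ → ℕ), s 0 = 0 ∧ s l = n ∧ (∀ k : ℕ, k < l → s k < s (k + 1)) ∧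
      (∑ k ∈ Finset.range l, (p (s k) - p (s (k + 1))) * ((s k : ℝ) + (s (k + 1) : ℝ))) ≤
        2 * (n : ℝ) / ((n : ℝ) + 1) * ∑ i ∈ Finset.range (n + 1), p i := by
  set S := ∑ i ∈ Finset.range (n + 1), p i with hS
  have hn0 : (0 : ℝ) < (n : ℝ) + 1 := by positivity
  by_cases hc : S ≤ p 0 * ((n : ℝ) + 1) / 2
  · -- full chain
    refine ⟨n, fun k => k, rfl, rfl, fun k _ => Nat.lt_succ_self k, ?_⟩
    have := tele p n
    simp only at this ⊢
    rw [this, hpn, ← hS]
    rw [div_mul_eq_mul_div, le_div_iff₀ hn0]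
    nlinarith
  · -- trivial chain
    push_neg at hc
    refine ⟨1, fun k => if k = 0 then 0 else n, by simp, by simp, ?_, ?_⟩
    · intro k hk
      have : k = 0 := by omega
      subst this
      simp; omega
    · simp only [Finset.range_one, Finset.sum_singleton]
      simp only [if_true, one_ne_zero, if_false, zero_add, Nat.cast_zero, hpn, sub_zero]
      rw [div_mul_eq_mul_div, le_div_iff₀ hn0]
      have hnn : (0:ℝ) ≤ n := Nat.cast_nonneg n
      nlinarith

end Groth.Agent.S19209
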