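import Groth.Statements.S19210
import Mathlib

set_option autoImplicit false
universe u
open LocAlg

namespace Groth.Agent.S19210

theorem diff_bounds (b : ℕ) (x : ℝ) (hx : 0 ≤ x) :
    ((b : ℝ) + 1) * x ^ b ≤ (x + 1) ^ (b + 1) - x ^ (b + 1) ∧
    (x + 1) ^ (b + 1) - x ^ (b + 1) ≤ ((b : ℝ) + 1) * (x + 1) ^ b := by
  have h := geom_sum₂_mul (x + 1) x (b + 1)
  have h1 : (x + 1) - x = 1 := by ring
  rw [h1, mul_one] at h
  rw [← h]
  constructor
  · calc ((b : ℝ) + 1) * x ^ b = ∑ i ∈ Finset.range (b + 1), x ^ b := by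
          rw [Finset.sum_const, Finset.card_range, nsmul_eq_mul]; push_cast; ring
      _ ≤ _ := by
          apply Finset.sum_le_sum
          intro i hi
          rw [Finset.mem_range] at hi
          have : x ^ b = x ^ i * x ^ (b + 1 - 1 - i) := by
            rw [← pow_add]; congr 1; omega
          rw [this]
          apply mul_le_mul_of_nonneg_right _ (pow_nonneg hx _)
          exact pow_le_pow_left₀ hx (by linarith) _
  · calc _ ≤ ∑ i ∈ Finset.range (b + 1), (x + 1) ^ b := by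
          apply Finset.sum_le_sum
          intro i hi
          rw [Finset.mem_range] at hi
          have : (x + 1) ^ b = (x + 1) ^ i * (x + 1) ^ (b + 1 - 1 - i) := by
            rw [← pow_add]; congr 1; omega
          rw [this]
          apply mul_le_mul_of_nonneg_left _ (pow_nonneg (by linarith) _)
          exact pow_le_pow_left₀ hx (by linarith) _
      _ = _ := by
          rw [Finset.sum_const, Finset.card_range, nsmul_eq_mul]; push_cast; ring

theorem base (b : ℕ) (n : ℕ) :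
    (n : ℝ) ^ (b + 1) / ((b : ℝ) + 1) - (n : ℝ) ^ b ≤ ∑ i ∈ Finset.range n, (i : ℝ) ^ b ∧
    ∑ i ∈ Finset.range n, (i : ℝ) ^ b ≤ (n : ℝ) ^ (b + 1) / ((b : ℝ) + 1) := by
  have hb : (0 : ℝ) < (b : ℝ) + 1 := by positivity
  induction n with
  | zero =>
    simp only [Finset.range_zero, Finset.sum_empty, Nat.cast_zero]
    constructor
    · rw [zero_pow (Nat.succ_ne_zero b), zero_div, zero_sub]
      exact neg_nonpos.mpr (pow_nonneg le_rfl _)
    · rw [zero_pow (Nat.succ_ne_zero b), zero_div]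
  | succ n ih =>
    obtain ⟨h1, h2⟩ := diff_bounds b (n : ℝ) (Nat.cast_nonneg n)
    rw [Finset.sum_range_succ]
    push_cast
    constructor
    · have : ((n : ℝ) + 1) ^ (b + 1) / ((b : ℝ) + 1) - ((n : ℝ) + 1) ^ b
          ≤ (n : ℝ) ^ (b + 1) / ((b : ℝ) + 1) := by
        rw [sub_le_iff_le_add, div_le_iff₀ hb]
        have : ((n : ℝ) ^ (b + 1) / ((b : ℝ) + 1) + ((n : ℝ) + 1) ^ b) * ((b : ℝ) + 1)
            = (n : ℝ) ^ (b + 1) + ((b : ℝ) + 1) * ((n : ℝ) + 1) ^ b := by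
          field_simp
        rw [this]
        linarith
      linarith [ih.1]
    · have : (n : ℝ) ^ (b + 1) / ((b : ℝ) + 1) + (n : ℝ) ^ b
          ≤ ((n : ℝ) + 1) ^ (b + 1) / ((b : ℝ) + 1) := by
        rw [le_div_iff₀ hb]
        have : ((n : ℝ) ^ (b + 1) / ((b : ℝ) + 1) + (n : ℝ) ^ b) * ((b : ℝ) + 1)
            = (n : ℝ) ^ (b + 1) + ((b : ℝ) + 1) * (n : ℝ) ^ b := by
          field_simp
        rw [this]
        linarith
      linarith [ih.2]

/-- the constant -/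
noncomputable def c (a b : ℕ) : ℝ := (a.factorial : ℝ) * (b.factorial : ℝ) / ((a + b + 1).factorial : ℝ)

theorem c_zero (b : ℕ) : c 0 b = 1 / ((b : ℝ) + 1) := by
  unfold c
  rw [Nat.factorial_zero, Nat.cast_one, one_mul, zero_add, Nat.factorial_succ]
  push_cast
  have : ((b.factorial : ℕ) : ℝ) ≠ 0 := by positivity
  field_simp

theorem c_succ (a b : ℕ) : c (a + 1) b = c a b - c a (b + 1) := by
  unfold c
  have e1 : a + 1 + b + 1 = (a + b + 1) + 1 := by ring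
  have e2 : a + (b + 1) + 1 = (a + b + 1) + 1 := by ring
  rw [e1, e2, Nat.factorial_succ (a + b + 1), Nat.factorial_succ a, Nat.factorial_succ b]
  push_cast
  have : (((a + b + 1).factorial : ℕ) : ℝ) ≠ 0 := by positivity
  field_simp
  ring

theorem main (a : ℕ) : ∀ b : ℕ, ∃ C : ℝ, 0 ≤ C ∧ ∀ n : ℕ,
    |(∑ i ∈ Finset.range n, ((n : ℝ) - (i : ℝ)) ^ a * (i : ℝ) ^ b) - c a b * (n : ℝ) ^ (a + b + 1)|
      ≤ C * (n : ℝ) ^ (a + b) := by
  induction a with
  | zero =>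
    intro b
    refine ⟨1, zero_le_one, fun n => ?_⟩
    obtain ⟨h1, h2⟩ := base b n
    simp only [pow_zero, one_mul, zero_add]
    rw [c_zero, abs_le]
    have : 1 / ((b : ℝ) + 1) * (n : ℝ) ^ (b + 1) = (n : ℝ) ^ (b + 1) / ((b : ℝ) + 1) := by ring
    rw [this]
    constructor <;> linarith [pow_nonneg (Nat.cast_nonneg n : (0 : ℝ) ≤ n) b]
  | succ a ih =>
    intro b
    obtain ⟨C1, hC1, h1⟩ := ih b
    obtain ⟨C2, hC2, h2⟩ := ih (b + 1)
    refine ⟨C1 + C2, add_nonneg hC1 hC2, fun n => ?_⟩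
    have hsum : ∑ i ∈ Finset.range n, ((n : ℝ) - (i : ℝ)) ^ (a + 1) * (i : ℝ) ^ b
        = (n : ℝ) * ∑ i ∈ Finset.range n, ((n : ℝ) - (i : ℝ)) ^ a * (i : ℝ) ^ b
          - ∑ i ∈ Finset.range n, ((n : ℝ) - (i : ℝ)) ^ a * (i : ℝ) ^ (b + 1) := by
      rw [Finset.mul_sum, ← Finset.sum_sub_distrib]
      apply Finset.sum_congr rfl
      intro i _
      ring
    rw [hsum, c_succ]
    have e : (n : ℝ) * ∑ i ∈ Finset.range n, ((n : ℝ) - (i : ℝ)) ^ a * (i : ℝ) ^ b
          - ∑ i ∈ Finset.range n, ((n : ℝ) - (i : ℝ)) ^ a * (i : ℝ) ^ (b + 1)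
          - (c a b - c a (b + 1)) * (n : ℝ) ^ (a + 1 + b + 1)
        = (n : ℝ) * ((∑ i ∈ Finset.range n, ((n : ℝ) - (i : ℝ)) ^ a * (i : ℝ) ^ b)
            - c a b * (n : ℝ) ^ (a + b + 1))
          - ((∑ i ∈ Finset.range n, ((n : ℝ) - (i : ℝ)) ^ a * (i : ℝ) ^ (b + 1))
            - c a (b + 1) * (n : ℝ) ^ (a + (b + 1) + 1)) := by
      have e1 : a + 1 + b + 1 = (a + b + 1) + 1 := by ring
      have e2 : a + (b + 1) + 1 = (a + b + 1) + 1 := by ring
      rw [e1, e2, pow_succ (n : ℝ) (a + b + 1)]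
      ring
    rw [e]
    have hn : (0 : ℝ) ≤ n := Nat.cast_nonneg n
    calc _ ≤ |(n : ℝ) * ((∑ i ∈ Finset.range n, ((n : ℝ) - (i : ℝ)) ^ a * (i : ℝ) ^ b)
            - c a b * (n : ℝ) ^ (a + b + 1))|
          + |(∑ i ∈ Finset.range n, ((n : ℝ) - (i : ℝ)) ^ a * (i : ℝ) ^ (b + 1))
            - c a (b + 1) * (n : ℝ) ^ (a + (b + 1) + 1)| := abs_sub _ _
      _ ≤ (n : ℝ) * (C1 * (n : ℝ) ^ (a + b)) + C2 * (n : ℝ) ^ (a + (b + 1)) := by
          rw [abs_mul, abs_of_nonneg hn]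
          exact add_le_add (mul_le_mul_of_nonneg_left (h1 n) hn) (h2 n)
      _ = (C1 + C2) * (n : ℝ) ^ (a + 1 + b) := by
          have e1 : a + 1 + b = (a + b) + 1 := by ring
          have e2 : a + (b + 1) = (a + b) + 1 := by ring
          rw [e1, e2, pow_succ]
          ring

/-- For natural numbers j ≤ r, the sums Σ_{i=0}^{n−1} (n − i)^{r−j} i^j equal n^{r+1}·(r − j)!·j!/(r +
1)! up to O(n^r): there is a real constant C with |Σ_{i<n} (n − i)^{r−j} i^j − ((r − j)!·j!/(r +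
1)!)·n^{r+1}| ≤ C·n^r for all n ≥ 1. -/
theorem result (r j : ℕ) (hj : j ≤ r) :
    ∃ C : ℝ, ∀ n : ℕ, 1 ≤ n →
      |(∑ i ∈ Finset.range n, ((n : ℝ) - (i : ℝ)) ^ (r - j) * (i : ℝ) ^ j) -
          ((r - j).factorial : ℝ) * (j.factorial : ℝ) / ((r + 1).factorial : ℝ) * (n : ℝ) ^ (r + 1)| ≤
        C * (n : ℝ) ^ r := by
  obtain ⟨C, _, hC⟩ := main (r - j) j
  refine ⟨C, fun n _ => ?_⟩
  have h := hC n
  have e1 : r - j + j = r := Nat.sub_add_cancel hj
  rw [e1] at h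
  unfold c at h
  rw [e1] at h
  exact h

end Groth.Agent.S19210
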