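import Groth.Statements.S19218
import Mathlib

set_option autoImplicit false
universe u v
open TensorProduct
open DiagIdeal

namespace Groth.Agent.S19218

/-- abstract lemma: an involution-like ring endomorphism acting by `-1` on generators of `I` and
trivially modulo `I` acts by `(-1)^s` on `I^s / I^(s+1)`. -/
theorem key_pow {R : Type*} [CommRing R] (T : R →+* R) (I : Ideal R) (G : Set R)
    (hG : I = Ideal.span G) (hTG : ∀ g ∈ G, T g = -g) (hT : ∀ r : R, T r - r ∈ I) :
    ∀ (s : ℕ) (y : R), y ∈ I ^ s → T y - (-1) ^ s * y ∈ I ^ (s + 1) := by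
  have hI2 : I ^ 2 ≤ I := Ideal.pow_le_self (by norm_num)
  have h1 : ∀ v ∈ I, T v + v ∈ I ^ 2 := by
    intro v hv
    rw [hG] at hv
    induction hv using Submodule.span_induction with
    | mem g hg => rw [hTG g hg, neg_add_cancel]; exact Submodule.zero_mem _
    | zero => rw [map_zero, add_zero]; exact Submodule.zero_mem _
    | add a b _ _ ha hb =>
      have : T (a + b) + (a + b) = (T a + a) + (T b + b) := by rw [map_add]; ring
      rw [this]; exact Submodule.add_mem _ ha hb
    | smul r v' hv' ih =>
      have hv'I : v' ∈ I := by rw [hG]; exact hv'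
      have hTv' : T v' ∈ I := by
        have : T v' = (T v' + v') - v' := by ring
        rw [this]; exact Submodule.sub_mem _ (hI2 ih) hv'I
      have e : T (r • v') + r • v' = (T r - r) * T v' + r * (T v' + v') := by
        rw [smul_eq_mul, map_mul]; ring
      rw [e]
      refine Submodule.add_mem _ ?_ (Ideal.mul_mem_left _ _ ih)
      rw [pow_two]
      exact Ideal.mul_mem_mul (hT r) hTv'
  intro s
  induction s with
  | zero =>
    intro y _
    simpa using hT y
  | succ s ih =>
    intro y hy
    rw [pow_succ] at hy
    refine Submodule.smul_induction_on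
      (p := fun y => T y - (-1) ^ (s + 1) * y ∈ I ^ (s + 1 + 1)) hy ?_ ?_
    · intro u hu v hv
      obtain ⟨z, hz, hTu⟩ : ∃ z ∈ I ^ (s + 1), T u = (-1) ^ s * u + z :=
        ⟨T u - (-1) ^ s * u, ih u hu, by ring⟩
      obtain ⟨w, hw, hTv⟩ : ∃ w ∈ I ^ 2, T v = -v + w := ⟨T v + v, h1 v hv, by ring⟩
      have e : T (u • v) - (-1) ^ (s + 1) * (u • v) =
          (-1) ^ s * (u * w) - z * v + z * w := by
        rw [smul_eq_mul, map_mul, hTu, hTv]; ring
      rw [e]
      have hss : I ^ (s + 1 + 1) = I ^ s * I ^ 2 := by rw [← pow_add]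
      refine Submodule.add_mem _ (Submodule.sub_mem _ ?_ ?_) ?_
      · rw [hss]; exact Ideal.mul_mem_left _ _ (Ideal.mul_mem_mul hu hw)
      · rw [pow_succ (I) (s + 1)]; exact Ideal.mul_mem_mul hz hv
      · rw [pow_succ (I) (s + 1)]; exact Ideal.mul_mem_mul hz (hI2 hw)
    · intro a b ha hb
      have : T (a + b) - (-1) ^ (s + 1) * (a + b) =
          (T a - (-1) ^ (s + 1) * a) + (T b - (-1) ^ (s + 1) * b) := by rw [map_add]; ring
      rw [this]; exact Submodule.add_mem _ ha hb

section swap

variable (k : Type u) [Field k] (A : Type v) [CommRing A] [Algebra k A] (n : ℕ)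

/-- the permutation action on the tensor power, as an algebra endomorphism. -/
noncomputable def permHom (σ : Equiv.Perm (Fin n)) :
    (⨂[k] _ : Fin n, A) →ₐ[k] (⨂[k] _ : Fin n, A) :=
  AlgHom.ofLinearMap (PiTensorProduct.reindex k (fun _ : Fin n => A) σ).toLinearMap
    (by
      rw [PiTensorProduct.one_def]
      change PiTensorProduct.reindex k (fun _ : Fin n => A) σ (PiTensorProduct.tprod k 1) = _
      rw [PiTensorProduct.reindex_tprod]
      rfl)
    (by
      intro y z
      change PiTensorProduct.reindex k (fun _ : Fin n => A) σ (y * z) =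
        PiTensorProduct.reindex k (fun _ : Fin n => A) σ y *
          PiTensorProduct.reindex k (fun _ : Fin n => A) σ z
      induction y using PiTensorProduct.induction_on with
      | smul_tprod r f =>
        induction z using PiTensorProduct.induction_on with
        | smul_tprod r' g =>
          rw [PiTensorProduct.smul_tprod_mul_smul_tprod, map_smul, map_smul, map_smul,
            PiTensorProduct.reindex_tprod, PiTensorProduct.reindex_tprod,
            PiTensorProduct.reindex_tprod, PiTensorProduct.smul_tprod_mul_smul_tprod]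
          rfl
        | add z1 z2 h1 h2 => rw [mul_add, map_add, map_add, mul_add, h1, h2]
      | add y1 y2 h1 h2 => rw [add_mul, map_add, map_add, add_mul, h1, h2])

theorem permHom_apply (σ : Equiv.Perm (Fin n)) (x : ⨂[k] _ : Fin n, A) :
    permHom k A n σ x = PiTensorProduct.reindex k (fun _ : Fin n => A) σ x := rfl

theorem permHom_single (σ : Equiv.Perm (Fin n)) (l : Fin n) (a : A) :
    permHom k A n σ (PiTensorProduct.singleAlgHom (R := k) (A := fun _ : Fin n => A) l a) =
      PiTensorProduct.singleAlgHom (R := k) (A := fun _ : Fin n => A) (σ l) a := by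
  rw [permHom_apply, PiTensorProduct.singleAlgHom_apply, PiTensorProduct.singleAlgHom_apply,
    PiTensorProduct.reindex_tprod]
  congr 1
  funext m
  simp only [MonoidHom.mulSingle_apply]
  by_cases h : m = σ l
  · subst h; simp
  · rw [Pi.mulSingle_eq_of_ne h, Pi.mulSingle_eq_of_ne]
    intro h'
    exact h (by rw [← h', Equiv.apply_symm_apply])

end swap

/-- Let k be an algebraically closed field of characteristic zero and A a smooth k-algebra which is a
domain of Krull dimension 2. In the n-fold tensor power R of A over k, indexed by Fin n, let I_p (p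
= (i, j), i < j) be the ideal generated by the a_i − a_j, a ∈ A, and let I be the intersection of
the I_p, the ideal of the big diagonal. Assume that for every s ≥ 0 the power I ^ s is the
intersection of the powers I_p ^ s (a property of the big diagonal of a smooth surface that the
source takes from the literature). Then for m ≥ 1 every element of R fixed by all permutations of
the n factors and lying in I ^ (2m − 1) lies in I ^ (2m): on the symmetric product the invariants of
the odd power and of the next even power of the ideal of the big diagonal coincide. (The source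
states the sheaf version for a smooth quasi-projective complex surface, using the displayed property
of the powers without restating it as a hypothesis.) -/
theorem result (k : Type u) [Field k] [IsAlgClosed k] [CharZero k]
    (A : Type v) [CommRing A] [Algebra k A] [Algebra.Smooth k A] [IsDomain A]
    (hdim : ringKrullDim A = 2) (n : ℕ)
    (I : Fin n × Fin n → Ideal (⨂[k] _ : Fin n, A))
    (hI : ∀ p, I p = Ideal.span (Set.range fun a : A =>
        PiTensorProduct.singleAlgHom (R := k) (A := fun _ : Fin n => A) p.1 a -
        PiTensorProduct.singleAlgHom (R := k) (A := fun _ : Fin n => A) p.2 a))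
    (IΔ : Ideal (⨂[k] _ : Fin n, A))
    (hIΔ : IΔ = ⨅ p ∈ Finset.univ.filter (fun p : Fin n × Fin n => p.1 < p.2), I p)
    (hpow : ∀ s : ℕ, IΔ ^ s = ⨅ p ∈ Finset.univ.filter (fun p : Fin n × Fin n => p.1 < p.2), (I p) ^ s)
    (m : ℕ) (hm : 1 ≤ m) (x : ⨂[k] _ : Fin n, A)
    (hx : ∀ σ : Equiv.Perm (Fin n), PiTensorProduct.reindex k (fun _ : Fin n => A) σ x = x)
    (hmem : x ∈ IΔ ^ (2 * m - 1)) :
    x ∈ IΔ ^ (2 * m) := by
  classical
  rw [hpow (2 * m)]
  rw [hpow (2 * m - 1)] at hmem
  simp only [Finset.mem_filter, Finset.mem_univ, true_and, Submodule.mem_iInf] at hmem ⊢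
  intro p hp
  have hne : p.1 ≠ p.2 := ne_of_lt hp
  set σ : Equiv.Perm (Fin n) := Equiv.swap p.1 p.2 with hσ
  set T := permHom k A n σ with hT
  set G : Set (⨂[k] _ : Fin n, A) := Set.range fun a : A =>
        PiTensorProduct.singleAlgHom (R := k) (A := fun _ : Fin n => A) p.1 a -
        PiTensorProduct.singleAlgHom (R := k) (A := fun _ : Fin n => A) p.2 a with hGdef
  have hTG : ∀ g ∈ G, T g = -g := by
    rintro _ ⟨a, rfl⟩
    rw [map_sub, hT, permHom_single, permHom_single, hσ, Equiv.swap_apply_left,
      Equiv.swap_apply_right]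
    ring
  have hTr : ∀ r : (⨂[k] _ : Fin n, A), T r - r ∈ I p := by
    intro r
    have hcomp : (Ideal.Quotient.mkₐ k (I p)).comp T = Ideal.Quotient.mkₐ k (I p) := by
      apply PiTensorProduct.algHom_ext
      intro l
      ext a
      change Ideal.Quotient.mk (I p) (T (PiTensorProduct.singleAlgHom l a)) =
        Ideal.Quotient.mk (I p) (PiTensorProduct.singleAlgHom l a)
      rw [hT, permHom_single, Ideal.Quotient.eq, hI p]
      by_cases h1 : l = p.1
      · subst h1
        rw [hσ, Equiv.swap_apply_left]
        have : PiTensorProduct.singleAlgHom (R := k) (A := fun _ : Fin n => A) p.2 a -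
            PiTensorProduct.singleAlgHom (R := k) (A := fun _ : Fin n => A) p.1 a =
            -(PiTensorProduct.singleAlgHom (R := k) (A := fun _ : Fin n => A) p.1 a -
            PiTensorProduct.singleAlgHom (R := k) (A := fun _ : Fin n => A) p.2 a) := by ring
        rw [this]
        exact Submodule.neg_mem _ (Ideal.subset_span ⟨a, rfl⟩)
      · by_cases h2 : l = p.2
        · subst h2
          rw [hσ, Equiv.swap_apply_right]
          exact Ideal.subset_span ⟨a, rfl⟩
        · rw [hσ, Equiv.swap_apply_of_ne_of_ne h1 h2, sub_self]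
          exact Submodule.zero_mem _
    have := congrArg (fun φ => φ r) hcomp
    change Ideal.Quotient.mk (I p) (T r) = Ideal.Quotient.mk (I p) r at this
    rwa [Ideal.Quotient.eq] at this
  have hkey := key_pow (T : (⨂[k] _ : Fin n, A) →+* (⨂[k] _ : Fin n, A)) (I p) G (hI p) hTG hTr
    (2 * m - 1) x (hmem p hp)
  have hTx : T x = x := hx σ
  have hodd : Odd (2 * m - 1) := by
    refine ⟨m - 1, ?_⟩
    omega
  have hsucc : 2 * m - 1 + 1 = 2 * m := by omega
  rw [hsucc] at hkey
  change T x - (-1) ^ (2 * m - 1) * x ∈ I p ^ (2 * m) at hkey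
  rw [hTx, hodd.neg_one_pow] at hkey
  have h2x : (2 : k) • x ∈ I p ^ (2 * m) := by
    have : (2 : k) • x = x - -1 * x := by
      rw [two_smul]; ring
    rw [this]; exact hkey
  have : x = (2 : k)⁻¹ • ((2 : k) • x) := by
    rw [smul_smul, inv_mul_cancel₀ (two_ne_zero), one_smul]
  rw [this, Algebra.smul_def]
  exact Ideal.mul_mem_left _ _ h2x

end Groth.Agent.S19218
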