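import Groth.Statements.S19223
import Groth.Agent.Lib.Helper18GC

set_option autoImplicit false
attribute [local instance] Units.mulDistribMulActionRight
open GalCoh

namespace Groth.Agent.S19223

/-- For a strictly henselian local ring R whose residue field k has characteristic p ≥ 0, and a finite
group G of order prime to p acting on R by ring automorphisms (hence on the unit groups R^× and
k^×), consider the homomorphism H^n(G, R^×) → H^n(G, k^×) induced by the reduction map. It is
bijective for every n ≥ 2; it is also bijective for n = 1 provided that p = 0 or the only p-power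
root of unity in R is 1. (The reduction map on cohomology is pinned by its values on units; groups,
rings and modules are taken in the lowest universe, as integral coefficients in the group-cohomology
library require.) -/
theorem result (R : Type) [CommRing R]
    [HenselianLocalRing R] [IsSepClosed (IsLocalRing.ResidueField R)] (p : ℕ) [CharP (IsLocalRing.ResidueField R) p]
    (G : Type) [Group G] [Finite G] [MulSemiringAction G R] (hp : ¬ p ∣ Nat.card G)
    (φ : Rep.ofMulDistribMulAction G Rˣ ⟶ Rep.ofMulDistribMulAction G (IsLocalRing.ResidueField R)ˣ)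
    (hφ : ∀ x : Rˣ, Additive.toMul (φ.hom (Additive.ofMul x)) = Units.map (IsLocalRing.residue R).toMonoidHom x)
    (n : ℕ) (hn : 1 ≤ n) (h1 : n = 1 → p ≠ 0 → ∀ (ζ : Rˣ) (m : ℕ), ζ ^ p ^ m = 1 → ζ = 1) :
    Function.Bijective ((groupCohomology.functor ℤ G n).map φ).hom := by
  classical
  have : Fintype G := Fintype.ofFinite G
  obtain ⟨m, rfl⟩ : ∃ m, n = m + 1 := ⟨n - 1, by omega⟩
  have hcard : Fintype.card G = Nat.card G := (Nat.card_eq_fintype_card).symm
  -- `|G|` is a unit in `R`
  have hNunit : IsUnit ((Fintype.card G : ℕ) : R) := by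
    rw [← IsLocalRing.notMem_maximalIdeal, ← IsLocalRing.residue_eq_zero_iff, map_natCast,
      CharP.cast_eq_zero_iff (IsLocalRing.ResidueField R) p, hcard]
    exact hp
  -- description of the kernel
  have hker : ∀ u : Rˣ, φ.hom (Additive.ofMul u : Additive Rˣ) = 0 ↔
      (u : R) - 1 ∈ IsLocalRing.maximalIdeal R := by
    intro u
    have h2 : φ.hom (Additive.ofMul u : Additive Rˣ) = 0 ↔
        Units.map (IsLocalRing.residue R).toMonoidHom u = 1 := by
      rw [← hφ u]
      constructor
      · intro h; exact (congrArg Additive.toMul h).trans rfl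
      · intro h
        exact Additive.toMul.injective (h.trans rfl)
    rw [h2, ← IsLocalRing.residue_eq_zero_iff, map_sub, map_one, sub_eq_zero, Units.ext_iff]
    rfl
  refine Groth.Agent.Helper18GC.bijective_of_ker_divisible φ ?_ ?_ ?_ m
  · -- surjectivity
    intro y
    let w : (IsLocalRing.ResidueField R)ˣ :=
      Additive.toMul (y : Additive (IsLocalRing.ResidueField R)ˣ)
    obtain ⟨r, hr⟩ := IsLocalRing.residue_surjective (R := R) (w : IsLocalRing.ResidueField R)
    have hru : IsUnit r := by
      rw [← IsLocalRing.notMem_maximalIdeal, ← IsLocalRing.residue_eq_zero_iff, hr]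
      exact Units.ne_zero _
    refine ⟨(Additive.ofMul hru.unit : Additive Rˣ), ?_⟩
    have h := hφ hru.unit
    apply Additive.toMul.injective
    refine h.trans ?_
    apply Units.ext
    exact hr
  · -- divisibility
    intro a ha
    obtain ⟨u, rfl⟩ : ∃ u : Rˣ, (Additive.ofMul u : Additive Rˣ) = a :=
      ⟨Additive.toMul (a : Additive Rˣ), rfl⟩
    obtain ⟨v, hv, hv1⟩ := Groth.Agent.Helper18GC.hensel_root (Fintype.card G) hNunit (u : R)
      ((hker u).mp ha)
    have hvu : IsUnit v := by
      have : IsUnit (v ^ Fintype.card G) := hv ▸ u.isUnit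
      exact (isUnit_pow_iff Fintype.card_ne_zero).mp this
    refine ⟨(Additive.ofMul hvu.unit : Additive Rˣ), (hker _).mpr (by simpa using hv1), ?_⟩
    have h6 : hvu.unit ^ Fintype.card G = u := Units.ext (by simpa using hv)
    exact congrArg Additive.ofMul h6
  · -- torsion-freeness
    intro a ha hN
    obtain ⟨u, rfl⟩ : ∃ u : Rˣ, (Additive.ofMul u : Additive Rˣ) = a :=
      ⟨Additive.toMul (a : Additive Rˣ), rfl⟩
    have h3 : u ^ Fintype.card G = 1 := Additive.ofMul.injective hN
    have hpow : (u : R) ^ Fintype.card G = 1 := by
      have := congrArg (fun w : Rˣ => (w : R)) h3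
      simpa using this
    have h4 := Groth.Agent.Helper18GC.root_unique (Fintype.card G) hNunit (u : R)
      ((hker u).mp ha) hpow
    have h5 : u = 1 := Units.ext h4
    rw [h5]; rfl

end Groth.Agent.S19223
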