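import Groth.Statements.S19230
import Mathlib
import Groth.Agent.Lib.Helper22SigmaLin

set_option autoImplicit false
universe u v
open SigmaLin

namespace Groth.Agent.S19230

open Groth.Agent.Lib.Helper22.SigmaLin

/-- Let k be a field, σ a surjective ring endomorphism of k, V a finite-dimensional k-vector space and T
: V → V additive with T (c • v) = σ c • T v. Then the set of vectors killed by some iterate of T is
a k-subspace on which a single iterate of T vanishes, it is a complement of the intersection over n
of the k-spans of the images of the n-th iterates, and T restricts to a bijection of that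
intersection onto itself. -/
theorem result
    (k : Type u) [Field k] (σ : k →+* k) (hσ : Function.Surjective σ)
    (V : Type v) [AddCommGroup V] [Module k V] [FiniteDimensional k V] (T : V →ₛₗ[σ] V) :
    (∃ W : Submodule k V, (W : Set V) = {v : V | ∃ n : ℕ, (⇑T)^[n] v = 0} ∧
      (∃ N : ℕ, ∀ v ∈ W, (⇑T)^[N] v = 0) ∧
      IsCompl W (⨅ n : ℕ, Submodule.span k (Set.range ((⇑T)^[n])))) ∧
    Set.BijOn (⇑T) (⋂ n : ℕ, (Submodule.span k (Set.range ((⇑T)^[n])) : Set V))
      (⋂ n : ℕ, (Submodule.span k (Set.range ((⇑T)^[n])) : Set V)) := by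
  obtain ⟨N, hW, hK, hcompl⟩ := fitting hσ T
  have hiInf : (⨅ n : ℕ, Submodule.span k (Set.range ((⇑T)^[n]))) = W T N := iInf_W_eq T hW
  have hiInter : (⋂ n : ℕ, (Submodule.span k (Set.range ((⇑T)^[n])) : Set V)) = (W T N : Set V) := by
    rw [← hiInf, Submodule.coe_iInf]
  refine ⟨⟨K T N, ?_, ⟨N, fun v hv => hv⟩, ?_⟩, ?_⟩
  · ext v
    constructor
    · intro hv
      exact ⟨N, hv⟩
    · rintro ⟨n, hn⟩
      have h1 : v ∈ K T n := hn
      have h2 : K T n ≤ K T (max n N) := K_mono T (le_max_left _ _)
      rw [hK _ (le_max_right _ _)] at h2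
      exact h2 h1
  · rw [hiInf]; exact hcompl
  · rw [hiInter]
    exact bijOn_W_stable hσ T hW

end Groth.Agent.S19230
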