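import Groth.Statements.S19244
import Mathlib

set_option autoImplicit false
universe v v' u u'
open HomAlg3

namespace Groth.Agent.S19244

open CategoryTheory CategoryTheory.Limits

section
variable {A : Type u} [Category.{v} A] [Abelian A]

theorem zsmul_id_comp {X Y : A} (n : ℤ) (f : X ⟶ Y) : (n • 𝟙 X) ≫ f = n • f := by
  rw [Preadditive.zsmul_comp, Category.id_comp]

theorem comp_zsmul_id {X Y : A} (n : ℤ) (f : X ⟶ Y) : f ≫ (n • 𝟙 Y) = n • f := by
  rw [Preadditive.comp_zsmul, Category.comp_id]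

/-- quasi-inverse of a morphism with bounded torsion kernel and cokernel -/
theorem exists_quasi_inverse {Y Y' : A} (s : Y ⟶ Y') (n₁ n₂ : ℤ)
    (h₁ : n₁ • 𝟙 (kernel s) = 0) (h₂ : n₂ • 𝟙 (cokernel s) = 0) :
    ∃ t : Y' ⟶ Y, s ≫ t = (n₂ * n₁) • 𝟙 Y := by
  -- a : Y' → image s
  have ha : (n₂ • 𝟙 Y') ≫ cokernel.π s = 0 := by
    rw [zsmul_id_comp, ← comp_zsmul_id, h₂, comp_zero]
  let a : Y' ⟶ Abelian.image s := kernel.lift (cokernel.π s) (n₂ • 𝟙 Y') ha
  have ha' : a ≫ Abelian.image.ι s = n₂ • 𝟙 Y' := kernel.lift_ι _ _ _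
  have hb : kernel.ι s ≫ (n₁ • 𝟙 Y) = 0 := by
    rw [comp_zsmul_id, ← zsmul_id_comp, h₁, zero_comp]
  let b : Abelian.coimage s ⟶ Y := cokernel.desc (kernel.ι s) (n₁ • 𝟙 Y) hb
  have hb' : Abelian.coimage.π s ≫ b = n₁ • 𝟙 Y := cokernel.π_desc _ _ _
  refine ⟨a ≫ (Abelian.coimageIsoImage s).inv ≫ b, ?_⟩
  have h1 : s ≫ a = n₂ • (Abelian.coimage.π s ≫ (Abelian.coimageIsoImage s).hom) := by
    rw [← cancel_mono (Abelian.image.ι s), Category.assoc, ha', comp_zsmul_id,
      Preadditive.zsmul_comp, Category.assoc]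
    congr 1
    exact (Abelian.coimage_image_factorisation s).symm
  rw [← Category.assoc, h1, Preadditive.zsmul_comp, Category.assoc, Iso.hom_inv_id_assoc, hb',
    smul_smul]

end

open CategoryTheory in
/-- Let A be an abelian category and let P be the class of bounded-torsion objects of A, those X with n
• 𝟙_X = 0 for some nonzero integer n; assume P is a Serre class. Let L : A ⥤ D be an additive
functor to a preadditive category exhibiting D as the localization of A at the morphisms whose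
kernel and cokernel are in P (so D is the quotient category A_ℚ = A ⧸ A_{b-tor}; the source assumes
A well-powered, which guarantees that this quotient exists). Then for all objects X, Y of A: (1) for
every nonzero integer n, multiplication by n is bijective on Hom_D(L X, L Y), so that this group is
naturally a ℚ-vector space; (2) a morphism f : X ⟶ Y satisfies L f = 0 if and only if n • f = 0 for
some nonzero integer n; (3) for every g : L X ⟶ L Y there are a nonzero integer n and f : X ⟶ Y with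
n • g = L f. Equivalently, the natural map Hom_A(X, Y) ⊗_ℤ ℚ → Hom_D(L X, L Y) is an isomorphism. -/
theorem result
    {A : Type u} [Category.{v} A] [Abelian A] {D : Type u'} [Category.{v'} D] [Preadditive D]
    (P : ObjectProperty A) (hP : ∀ X : A, P X ↔ ∃ n : ℤ, n ≠ 0 ∧ n • (𝟙 X) = 0) [P.IsSerreClass]
    (L : A ⥤ D) [L.Additive] [L.IsLocalization P.isoModSerre] (X Y : A) :
    (∀ n : ℤ, n ≠ 0 → Function.Bijective (fun g : L.obj X ⟶ L.obj Y => n • g)) ∧
    (∀ f : X ⟶ Y, L.map f = 0 ↔ ∃ n : ℤ, n ≠ 0 ∧ n • f = 0) ∧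
    (∀ g : L.obj X ⟶ L.obj Y, ∃ (n : ℤ) (f : X ⟶ Y), n ≠ 0 ∧ n • g = L.map f) := by
  -- n • 𝟙 is in W
  have hW : ∀ (Z : A) (n : ℤ), n ≠ 0 → P.isoModSerre (n • 𝟙 Z) := by
    intro Z n hn
    constructor
    · show P (kernel (n • 𝟙 Z))
      rw [hP]
      refine ⟨n, hn, ?_⟩
      have h : (n • 𝟙 (kernel (n • 𝟙 Z))) ≫ kernel.ι (n • 𝟙 Z) = 0 ≫ kernel.ι (n • 𝟙 Z) := by
        rw [zsmul_id_comp, zero_comp]
        exact (comp_zsmul_id n _).symm.trans (kernel.condition (n • 𝟙 Z))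
      exact (cancel_mono _).mp h
    · show P (cokernel (n • 𝟙 Z))
      rw [hP]
      refine ⟨n, hn, ?_⟩
      have h : cokernel.π (n • 𝟙 Z) ≫ (n • 𝟙 (cokernel (n • 𝟙 Z))) = cokernel.π (n • 𝟙 Z) ≫ 0 := by
        rw [comp_zsmul_id, comp_zero]
        exact (zsmul_id_comp n _).symm.trans (cokernel.condition (n • 𝟙 Z))
      exact (cancel_epi _).mp h
  have hiso : ∀ (Z : A) (n : ℤ), n ≠ 0 → IsIso (n • 𝟙 (L.obj Z)) := by
    intro Z n hn
    have h := Localization.inverts L P.isoModSerre _ (hW Z n hn)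
    rw [L.map_zsmul, L.map_id] at h
    exact h
  have hsm : ∀ (n : ℤ) (g : L.obj X ⟶ L.obj Y), n • g = g ≫ (n • 𝟙 (L.obj Y)) := by
    intro n g
    rw [Preadditive.comp_zsmul, Category.comp_id]
  have h1 : ∀ n : ℤ, n ≠ 0 → Function.Bijective (fun g : L.obj X ⟶ L.obj Y => n • g) := by
    intro n hn
    have := hiso Y n hn
    constructor
    · intro g g' h
      simp only at h
      rw [hsm, hsm] at h
      exact (cancel_mono _).mp h
    · intro g
      refine ⟨g ≫ inv (n • 𝟙 (L.obj Y)), ?_⟩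
      simp only
      rw [hsm, Category.assoc, IsIso.inv_hom_id, Category.comp_id]
  have h2 : ∀ f : X ⟶ Y, L.map f = 0 ↔ ∃ n : ℤ, n ≠ 0 ∧ n • f = 0 := by
    intro f
    rw [ObjectProperty.SerreClassLocalization.map_eq_zero_iff L P, hP]
    constructor
    · rintro ⟨n, hn, h⟩
      refine ⟨n, hn, ?_⟩
      rw [← Abelian.image.fac f, ← Preadditive.zsmul_comp, ← comp_zsmul_id, h, comp_zero, zero_comp]
    · rintro ⟨n, hn, h⟩
      refine ⟨n, hn, ?_⟩
      have h' : Abelian.factorThruImage f ≫ (n • 𝟙 (Abelian.image f)) ≫ Abelian.image.ι f =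
          Abelian.factorThruImage f ≫ 0 ≫ Abelian.image.ι f := by
        rw [zsmul_id_comp, Preadditive.comp_zsmul, Abelian.image.fac, h, zero_comp, comp_zero]
      exact (cancel_mono _).mp ((cancel_epi _).mp h')
  refine ⟨h1, h2, ?_⟩
  intro g
  obtain ⟨φ, hφ⟩ := Localization.exists_leftFraction L P.isoModSerre g
  obtain ⟨n₁, hn₁, hk⟩ := (hP _).mp φ.hs.1
  obtain ⟨n₂, hn₂, hc⟩ := (hP _).mp φ.hs.2
  obtain ⟨t, ht⟩ := exists_quasi_inverse φ.s n₁ n₂ hk hc
  refine ⟨n₂ * n₁, φ.f ≫ t, mul_ne_zero hn₂ hn₁, ?_⟩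
  have := Localization.inverts L P.isoModSerre _ φ.hs
  have ht' : L.map t = inv (L.map φ.s) ≫ ((n₂ * n₁) • 𝟙 (L.obj Y)) := by
    rw [← cancel_epi (L.map φ.s), IsIso.hom_inv_id_assoc, ← L.map_comp, ht, L.map_zsmul, L.map_id]
  rw [L.map_comp, ht', hφ, hsm]
  simp only [MorphismProperty.LeftFraction.map, Category.assoc]

end Groth.Agent.S19244
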