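import Groth.Statements.S19246
import Mathlib
-- import your own Groth.Agent.* helpers here

set_option autoImplicit false
set_option linter.style.haveILetI false
set_option linter.unusedSectionVars false
universe u
open CohTop

namespace Groth.Agent.S19246
open CategoryTheory CategoryTheory.Limits TopologicalSpace Opposite

section Types

variable {G G' : ℕᵒᵖ ⥤ Type u} (res : G ⟶ G') (τ : G'.sections)
  (h0 : ∃ s : G.obj ⟨0⟩, res.app ⟨0⟩ s = τ.1 ⟨0⟩)
  (hstep : ∀ (n : ℕ) (s : G.obj ⟨n⟩), res.app ⟨n⟩ s = τ.1 ⟨n⟩ →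
    ∃ s' : G.obj ⟨n + 1⟩, res.app ⟨n + 1⟩ s' = τ.1 ⟨n + 1⟩ ∧
      G.map (homOfLE (Nat.le_succ n)).op s' = s)

/-- recursive lifting -/
noncomputable def seq : (n : ℕ) → {s : G.obj ⟨n⟩ // res.app ⟨n⟩ s = τ.1 ⟨n⟩}
  | 0 => ⟨h0.choose, h0.choose_spec⟩
  | n + 1 => ⟨(hstep n (seq n).1 (seq n).2).choose, (hstep n (seq n).1 (seq n).2).choose_spec.1⟩

lemma seq_succ (n : ℕ) :
    G.map (homOfLE (Nat.le_succ n)).op (seq res τ h0 hstep (n + 1)).1 = (seq res τ h0 hstep n).1 :=
  (hstep n (seq res τ h0 hstep n).1 (seq res τ h0 hstep n).2).choose_spec.2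

lemma seq_le (k' k : ℕ) (h : k' ≤ k) :
    G.map (homOfLE h).op (seq res τ h0 hstep k).1 = (seq res τ h0 hstep k').1 := by
  induction h with
  | refl =>
    have : (homOfLE (le_refl k')).op = 𝟙 (op k') := rfl
    rw [this, G.map_id]; rfl
  | @step p h ih =>
    rw [← ih]
    have h2 : (homOfLE (Nat.le_succ_of_le h)).op =
        (homOfLE (Nat.le_succ p)).op ≫ (homOfLE h).op := rfl
    rw [h2, G.map_comp]
    show G.map _ (G.map _ _) = _
    rw [seq_succ]

include h0 hstep in
lemma exists_lift_section : ∃ σ : G.sections, ∀ n : ℕ, res.app ⟨n⟩ (σ.1 ⟨n⟩) = τ.1 ⟨n⟩ := by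
  refine ⟨⟨fun m => (seq res τ h0 hstep m.unop).1, ?_⟩, fun n => (seq res τ h0 hstep n).2⟩
  intro ⟨m⟩ ⟨m'⟩ ⟨⟨⟨(h : m' ≤ m)⟩⟩⟩
  exact seq_le res τ h0 hstep m' m h

end Types

section Sheaf

variable {X : TopCat.{u}}

/-- the lifting step for an epimorphism with flasque kernel -/
lemma step_lemma {A B : CohTop.Ab X} (f : A ⟶ B) [Epi f]
    (hK : TopCat.Sheaf.IsFlasque (kernel f : CohTop.Ab X))
    {U V : Opens X} (i : V ⟶ U) (s : B.obj.obj (op U)) (t' : A.obj.obj (op V))
    (ht : f.hom.app (op V) t' = B.obj.map i.op s) :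
    ∃ s' : A.obj.obj (op U), A.obj.map i.op s' = t' ∧ f.hom.app (op U) s' = s := by
  have hS : (ShortComplex.kernelSequence f).ShortExact :=
    { exact := ShortComplex.kernelSequence_exact f
      mono_f := inferInstanceAs (Mono (kernel.ι f))
      epi_g := inferInstanceAs (Epi f) }
  haveI : TopCat.Sheaf.IsFlasque (ShortComplex.kernelSequence f).X₁ := hK
  have hepi := TopCat.Sheaf.IsFlasque.epi_of_shortExact (U := U) hS
  have hsurj : Function.Surjective (f.hom.app (op U)) :=
    (AddCommGrpCat.epi_iff_surjective _).mp hepi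
  obtain ⟨s1, hs1'⟩ := hsurj s
  -- exactness over V
  let evV : CohTop.Ab X ⥤ AddCommGrpCat.{u} := sheafToPresheaf _ _ ⋙ (evaluation _ _).obj (op V)
  have hex : ((ShortComplex.kernelSequence f).map evV).Exact :=
    (ShortComplex.kernelSequence_exact f).map_of_mono_of_preservesKernel evV
      (inferInstanceAs (Mono (kernel.ι f))) inferInstance
  rw [ShortComplex.ab_exact_iff] at hex
  let d : A.obj.obj (op V) := A.obj.map i.op s1 - t'
  have hd : f.hom.app (op V) d = 0 := by
    show f.hom.app (op V) (A.obj.map i.op s1 - t') = 0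
    rw [map_sub, ht, NatTrans.naturality_apply, hs1', sub_self]
  obtain ⟨k, hk⟩ := hex d hd
  have hk' : (kernel.ι f).hom.app (op V) k = d := hk
  -- extend k
  have hKepi : Epi ((kernel f : CohTop.Ab X).obj.map i.op) := hK.epi i.op
  obtain ⟨k', hk'2⟩ := (AddCommGrpCat.epi_iff_surjective _).mp hKepi k
  refine ⟨s1 - (kernel.ι f).hom.app (op U) k', ?_, ?_⟩
  · rw [map_sub, ← NatTrans.naturality_apply, hk'2, hk']
    show A.obj.map i.op s1 - (A.obj.map i.op s1 - t') = t'
    abel
  · rw [map_sub, hs1']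
    have h0 : f.hom.app (op U) ((kernel.ι f).hom.app (op U) k') = 0 := by
      have := congrArg (fun m => m.hom.app (op U) k') (kernel.condition f)
      exact this
    rw [h0, sub_zero]

end Sheaf


open CategoryTheory CategoryTheory.Limits TopologicalSpace Opposite in
/-- Let X be a topological space and (M_n)_{n ≥ 0} an inverse system of abelian sheaves on X indexed by
the natural numbers, such that every M_n is flasque and every transition map M_{n+1} ⟶ M_n is an
epimorphism of sheaves with flasque kernel. Then the limit sheaf lim_n M_n is flasque. (The source's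
statement is about flasque de Rham–Witt systems on a scheme, whose definition is exactly this
condition on the underlying tower of abelian sheaves; the additional structure plays no role in the
assertion or its proof, so the row is stated for towers of abelian sheaves on any space.) -/
theorem result {X : TopCat.{u}} (M : ℕᵒᵖ ⥤ CohTop.Ab X) :
    (∀ n : ℕ, TopCat.Sheaf.IsFlasque (M.obj (op n))) →
      (∀ n : ℕ, Epi (M.map (homOfLE (Nat.le_succ n)).op)) →
      (∀ n : ℕ, TopCat.Sheaf.IsFlasque (kernel (M.map (homOfLE (Nat.le_succ n)).op) : CohTop.Ab X)) →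
      TopCat.Sheaf.IsFlasque (limit M : CohTop.Ab X) := by
  intro hfl hepi hker
  constructor
  intro U' V' i
  rw [AddCommGrpCat.epi_iff_surjective]
  intro t
  let evU : CohTop.Ab X ⥤ Type u :=
    sheafToPresheaf _ _ ⋙ (evaluation _ _).obj U' ⋙ forget AddCommGrpCat
  let evV : CohTop.Ab X ⥤ Type u :=
    sheafToPresheaf _ _ ⋙ (evaluation _ _).obj V' ⋙ forget AddCommGrpCat
  let res : M ⋙ evU ⟶ M ⋙ evV :=
    { app := fun n => (forget AddCommGrpCat).map ((M.obj n).obj.map i)
      naturality := fun n n' g => by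
        have := (M.map g).hom.naturality i
        exact congrArg (fun m => (forget AddCommGrpCat).map m) this.symm }
  have hcU := isLimitOfPreserves evU (limit.isLimit M)
  have hcV := isLimitOfPreserves evV (limit.isLimit M)
  let eU := Types.isLimitEquivSections hcU
  let eV := Types.isLimitEquivSections hcV
  let τ := eV t
  have h0 : ∃ s : (M ⋙ evU).obj ⟨0⟩, res.app ⟨0⟩ s = τ.1 ⟨0⟩ := by
    have hE : Epi ((M.obj (op 0)).obj.map i) := (hfl 0).epi i
    exact (AddCommGrpCat.epi_iff_surjective _).mp hE (τ.1 ⟨0⟩)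
  have hstep : ∀ (n : ℕ) (s : (M ⋙ evU).obj ⟨n⟩), res.app ⟨n⟩ s = τ.1 ⟨n⟩ →
      ∃ s' : (M ⋙ evU).obj ⟨n + 1⟩, res.app ⟨n + 1⟩ s' = τ.1 ⟨n + 1⟩ ∧
        (M ⋙ evU).map (homOfLE (Nat.le_succ n)).op s' = s := by
    intro n s hs
    haveI := hepi n
    have hτ : (M ⋙ evV).map (homOfLE (Nat.le_succ n)).op (τ.1 ⟨n + 1⟩) = τ.1 ⟨n⟩ := τ.2 _
    obtain ⟨s', h1, h2⟩ := step_lemma (M.map (homOfLE (Nat.le_succ n)).op) (hker n)
      (U := U'.unop) (V := V'.unop) i.unop s (τ.1 ⟨n + 1⟩) (hτ.trans hs.symm)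
    exact ⟨s', h1, h2⟩
  obtain ⟨σ, hσ⟩ := exists_lift_section res τ h0 hstep
  refine ⟨eU.symm σ, ?_⟩
  apply eV.injective
  apply Subtype.ext
  funext n
  obtain ⟨n⟩ := n
  have h1 : (limit.π M ⟨n⟩).hom.app U' (eU.symm σ) = σ.1 ⟨n⟩ :=
    Types.isLimitEquivSections_symm_apply hcU σ ⟨n⟩
  have h2 := NatTrans.naturality_apply (limit.π M ⟨n⟩).hom i (eU.symm σ)
  show (limit.π M ⟨n⟩).hom.app V' ((limit M).obj.map i (eU.symm σ)) = τ.1 ⟨n⟩
  rw [h2, h1]
  exact hσ n

end Groth.Agent.S19246
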