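import Groth.Statements.S19247
import Mathlib
import Groth.Agent.S19246
-- import your own Groth.Agent.* helpers here

set_option autoImplicit false
set_option linter.style.haveILetI false
set_option linter.unusedSectionVars false
universe u
open CohTop

namespace Groth.Agent.S19247
open CategoryTheory CategoryTheory.Limits TopologicalSpace Opposite

variable {X : TopCat.{u}}

/-- sections of an epimorphism with flasque kernel are surjective -/
lemma surj_of_flasque_kernel {A B : CohTop.Ab X} (f : A ⟶ B) [Epi f]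
    (hK : TopCat.Sheaf.IsFlasque (kernel f : CohTop.Ab X)) (U : Opens X) :
    Function.Surjective (f.hom.app (op U)) := by
  have hS : (ShortComplex.kernelSequence f).ShortExact :=
    { exact := ShortComplex.kernelSequence_exact f
      mono_f := inferInstanceAs (Mono (kernel.ι f))
      epi_g := inferInstanceAs (Epi f) }
  haveI : TopCat.Sheaf.IsFlasque (ShortComplex.kernelSequence f).X₁ := hK
  have hepi := TopCat.Sheaf.IsFlasque.epi_of_shortExact (U := U) hS
  exact (AddCommGrpCat.epi_iff_surjective _).mp hepi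

/-- sections of a short exact sequence with flasque kernel -/
lemma ses_sections {S : ShortComplex (CohTop.Ab X)} (hS : S.ShortExact)
    (hfl : TopCat.Sheaf.IsFlasque S.X₁) (U : Opens X) :
    Function.Surjective (S.g.hom.app (op U)) ∧
    ∀ y : S.X₂.obj.obj (op U), S.g.hom.app (op U) y = 0 →
      ∃ b : S.X₁.obj.obj (op U), S.f.hom.app (op U) b = y := by
  haveI := hfl
  have hepi := TopCat.Sheaf.IsFlasque.epi_of_shortExact (U := U) hS
  refine ⟨(AddCommGrpCat.epi_iff_surjective _).mp hepi, ?_⟩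
  let evU : CohTop.Ab X ⥤ AddCommGrpCat.{u} := sheafToPresheaf _ _ ⋙ (evaluation _ _).obj (op U)
  have hex : (S.map evU).Exact :=
    hS.exact.map_of_mono_of_preservesKernel evU hS.mono_f inferInstance
  rw [ShortComplex.ab_exact_iff] at hex
  exact hex


open CategoryTheory CategoryTheory.Limits TopologicalSpace Opposite in
/-- Let X be a topological space and S : 0 ⟶ M' ⟶ M ⟶ M'' ⟶ 0 a short exact sequence of ℕ-indexed
inverse systems of abelian sheaves on X (short exact in the abelian category of such systems, i.e.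
levelwise), such that each of M', M, M'' is a flasque tower: every term is flasque and every
transition map is an epimorphism of sheaves with flasque kernel. Then the induced map lim M ⟶ lim
M'' is an epimorphism of sheaves, so that, lim being left exact, the sequence 0 ⟶ lim M' ⟶ lim M ⟶
lim M'' ⟶ 0 is exact. (The source's statement is the exactness of lim on flasque de Rham–Witt
systems on a scheme; the de Rham–Witt structure plays no role, so the row is stated for towers of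
abelian sheaves on any space.) -/
theorem result {X : TopCat.{u}}
    (S : ShortComplex (ℕᵒᵖ ⥤ CohTop.Ab X)) (hS : S.ShortExact) :
    (∀ n : ℕ, TopCat.Sheaf.IsFlasque (S.X₁.obj (op n))) →
      (∀ n : ℕ, Epi (S.X₁.map (homOfLE (Nat.le_succ n)).op)) →
      (∀ n : ℕ, TopCat.Sheaf.IsFlasque (kernel (S.X₁.map (homOfLE (Nat.le_succ n)).op) : CohTop.Ab X)) →
    (∀ n : ℕ, TopCat.Sheaf.IsFlasque (S.X₂.obj (op n))) →
      (∀ n : ℕ, Epi (S.X₂.map (homOfLE (Nat.le_succ n)).op)) →
      (∀ n : ℕ, TopCat.Sheaf.IsFlasque (kernel (S.X₂.map (homOfLE (Nat.le_succ n)).op) : CohTop.Ab X)) →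
    (∀ n : ℕ, TopCat.Sheaf.IsFlasque (S.X₃.obj (op n))) →
      (∀ n : ℕ, Epi (S.X₃.map (homOfLE (Nat.le_succ n)).op)) →
      (∀ n : ℕ, TopCat.Sheaf.IsFlasque (kernel (S.X₃.map (homOfLE (Nat.le_succ n)).op) : CohTop.Ab X)) →
      Epi (limMap S.g) := by
  intro h1fl h1epi h1ker h2fl h2epi h2ker h3fl h3epi h3ker
  suffices h : ∀ U : Opens X, Function.Surjective ((limMap S.g).hom.app (op U)) by
    haveI : Epi ((sheafToPresheaf _ _).map (limMap S.g)) := by
      haveI : ∀ U, Epi (((sheafToPresheaf _ _).map (limMap S.g)).app U) := fun U =>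
        (AddCommGrpCat.epi_iff_surjective _).mpr (h U.unop)
      exact NatTrans.epi_of_epi_app _
    exact (sheafToPresheaf _ _).epi_of_epi_map inferInstance
  intro U t
  let evU : CohTop.Ab X ⥤ Type u :=
    sheafToPresheaf _ _ ⋙ (evaluation _ _).obj (op U) ⋙ forget AddCommGrpCat
  let res : S.X₂ ⋙ evU ⟶ S.X₃ ⋙ evU := Functor.whiskerRight S.g evU
  have hc2 := isLimitOfPreserves evU (limit.isLimit S.X₂)
  have hc3 := isLimitOfPreserves evU (limit.isLimit S.X₃)
  let e2 := Types.isLimitEquivSections hc2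
  let e3 := Types.isLimitEquivSections hc3
  let τ := e3 t
  have hSn : ∀ n : ℕ, (S.map ((evaluation ℕᵒᵖ (CohTop.Ab X)).obj (op n))).ShortExact :=
    fun n => hS.map_of_exact _
  have h0 : ∃ s : (S.X₂ ⋙ evU).obj ⟨0⟩, res.app ⟨0⟩ s = τ.1 ⟨0⟩ :=
    (ses_sections (hSn 0) (h1fl 0) U).1 (τ.1 ⟨0⟩)
  have hstep : ∀ (n : ℕ) (s : (S.X₂ ⋙ evU).obj ⟨n⟩), res.app ⟨n⟩ s = τ.1 ⟨n⟩ →
      ∃ s' : (S.X₂ ⋙ evU).obj ⟨n + 1⟩, res.app ⟨n + 1⟩ s' = τ.1 ⟨n + 1⟩ ∧
        (S.X₂ ⋙ evU).map (homOfLE (Nat.le_succ n)).op s' = s := by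
    intro n s hs
    let φ : (op (n + 1) : ℕᵒᵖ) ⟶ op n := (homOfLE (Nat.le_succ n)).op
    -- typed maps on sections
    let g0 : (S.X₂.obj (op n)).obj.obj (op U) →+ (S.X₃.obj (op n)).obj.obj (op U) :=
      ((S.g.app (op n)).hom.app (op U)).hom
    let g1 : (S.X₂.obj (op (n+1))).obj.obj (op U) →+ (S.X₃.obj (op (n+1))).obj.obj (op U) :=
      ((S.g.app (op (n+1))).hom.app (op U)).hom
    let i0 : (S.X₁.obj (op n)).obj.obj (op U) →+ (S.X₂.obj (op n)).obj.obj (op U) :=
      ((S.f.app (op n)).hom.app (op U)).hom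
    let i1 : (S.X₁.obj (op (n+1))).obj.obj (op U) →+ (S.X₂.obj (op (n+1))).obj.obj (op U) :=
      ((S.f.app (op (n+1))).hom.app (op U)).hom
    let f1 : (S.X₁.obj (op (n+1))).obj.obj (op U) →+ (S.X₁.obj (op n)).obj.obj (op U) :=
      ((S.X₁.map φ).hom.app (op U)).hom
    let f2 : (S.X₂.obj (op (n+1))).obj.obj (op U) →+ (S.X₂.obj (op n)).obj.obj (op U) :=
      ((S.X₂.map φ).hom.app (op U)).hom
    let f3 : (S.X₃.obj (op (n+1))).obj.obj (op U) →+ (S.X₃.obj (op n)).obj.obj (op U) :=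
      ((S.X₃.map φ).hom.app (op U)).hom
    have natg : ∀ x, g0 (f2 x) = f3 (g1 x) := fun x =>
      congrArg (fun m => m.hom.app (op U) x) (S.g.naturality φ)
    have natf : ∀ x, i0 (f1 x) = f2 (i1 x) := fun x =>
      congrArg (fun m => m.hom.app (op U) x) (S.f.naturality φ)
    have zero1 : ∀ x, g1 (i1 x) = 0 := fun x =>
      congrArg (fun m => (m.app (op (n+1))).hom.app (op U) x) S.zero
    let s0 : (S.X₂.obj (op n)).obj.obj (op U) := s
    let t0 : (S.X₃.obj (op n)).obj.obj (op U) := τ.1 ⟨n⟩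
    let t1 : (S.X₃.obj (op (n+1))).obj.obj (op U) := τ.1 ⟨n + 1⟩
    have hτ : f3 t1 = t0 := τ.2 φ
    have hs' : g0 s0 = t0 := hs
    have hsurj1 : Function.Surjective g1 := (ses_sections (hSn (n+1)) (h1fl (n+1)) U).1
    obtain ⟨a, ha'⟩ := hsurj1 t1
    have hy : g0 (f2 a - s0) = 0 := by
      rw [map_sub, natg, ha', hτ, hs', sub_self]
    have hex0 : ∀ y, g0 y = 0 → ∃ b, i0 b = y := (ses_sections (hSn n) (h1fl n) U).2
    obtain ⟨b, hb'⟩ := hex0 (f2 a - s0) hy
    haveI := h1epi n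
    have hsurjf1 : Function.Surjective f1 := surj_of_flasque_kernel (S.X₁.map φ) (h1ker n) U
    obtain ⟨b', hb'3⟩ := hsurjf1 b
    refine ⟨a - i1 b', ?_, ?_⟩
    · show g1 (a - i1 b') = t1
      rw [map_sub, zero1, sub_zero, ha']
    · show f2 (a - i1 b') = s0
      rw [map_sub, ← natf, hb'3, hb']
      abel
  obtain ⟨σ, hσ⟩ := Groth.Agent.S19246.exists_lift_section res τ h0 hstep
  refine ⟨e2.symm σ, ?_⟩
  apply e3.injective
  apply Subtype.ext
  funext n
  obtain ⟨n⟩ := n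
  have h1 : (limit.π S.X₂ ⟨n⟩).hom.app (op U) (e2.symm σ) = σ.1 ⟨n⟩ :=
    Types.isLimitEquivSections_symm_apply hc2 σ ⟨n⟩
  have h2 : limMap S.g ≫ limit.π S.X₃ ⟨n⟩ = limit.π S.X₂ ⟨n⟩ ≫ S.g.app ⟨n⟩ := limMap_π _ _
  have h3 := congrArg (fun m => m.hom.app (op U) (e2.symm σ)) h2
  show (limit.π S.X₃ ⟨n⟩).hom.app (op U) ((limMap S.g).hom.app (op U) (e2.symm σ)) = τ.1 ⟨n⟩
  refine h3.trans ?_
  show (S.g.app ⟨n⟩).hom.app (op U) ((limit.π S.X₂ ⟨n⟩).hom.app (op U) (e2.symm σ)) = τ.1 ⟨n⟩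
  rw [h1]
  exact hσ n

end Groth.Agent.S19247
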