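import Groth.Statements.S19258
import Mathlib

set_option autoImplicit false
universe u
open PontDual

namespace Groth.Agent.S19258

/-- An endomorphism of `ℚ/ℤ` is multiplication by an integer on the `n`-torsion. -/
theorem endo_torsion (θ : AddCircle (1 : ℚ) →+ AddCircle (1 : ℚ)) (n : ℕ) (hn : 0 < n) :
    ∃ m : ℕ, ∀ x : AddCircle (1 : ℚ), n • x = 0 → θ x = m • x := by
  have hgen : ∀ x : AddCircle (1 : ℚ), n • x = 0 →
      ∃ m : ℕ, x = m • ((((1 : ℚ) / n : ℚ)) : AddCircle (1 : ℚ)) := by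
    intro x hx
    obtain ⟨m, -, rfl⟩ := (AddCircle.nsmul_eq_zero_iff hn).mp hx
    refine ⟨m, ?_⟩
    rw [← AddCircle.coe_nsmul]
    congr 1
    simp [div_eq_mul_inv]
  have h1 : n • ((((1 : ℚ) / n : ℚ)) : AddCircle (1 : ℚ)) = 0 := by
    rw [← AddCircle.coe_nsmul, nsmul_eq_mul, mul_one_div_cancel (by exact_mod_cast hn.ne')]
    exact AddCircle.coe_period 1
  have h2 : n • θ ((((1 : ℚ) / n : ℚ)) : AddCircle (1 : ℚ)) = 0 := by
    rw [← map_nsmul, h1, map_zero]
  obtain ⟨m, hm⟩ := hgen _ h2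
  refine ⟨m, fun x hx => ?_⟩
  obtain ⟨m', rfl⟩ := hgen x hx
  rw [map_nsmul, hm, smul_comm]


theorem alg_step {G G' : Type u} [AddCommGroup G] [AddCommGroup G'] (hG' : IsAddTorsion G')
    (β : G' →+ (G →+ AddCircle (1 : ℚ))) (χ : G →+ AddCircle (1 : ℚ))
    (I : Set G') (hI : I.Finite) (hker : ∀ x : G, (∀ f ∈ I, β f x = 0) → χ x = 0) :
    ∃ f' : G', β f' = χ := by
  classical
  have : Fintype I := hI.fintype
  let Ψ : G →+ (I → AddCircle (1 : ℚ)) := AddMonoidHom.pi (fun i : I => β i.1)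
  have hΨ : ∀ x (i : I), Ψ x i = β i.1 x := fun x i => rfl
  have hle : ∀ x ∈ Ψ.ker, χ x = 0 := by
    intro x hx
    apply hker
    intro f hf
    have := congrFun (AddMonoidHom.mem_ker.mp hx) ⟨f, hf⟩
    exact this
  let χbar : G ⧸ Ψ.ker →+ AddCircle (1 : ℚ) := QuotientAddGroup.lift Ψ.ker χ hle
  obtain ⟨θ, hθ⟩ := (Module.Baer.of_divisible (AddCircle (1 : ℚ))).extension_property_addMonoidHom
    (QuotientAddGroup.kerLift Ψ) (QuotientAddGroup.kerLift_injective Ψ) χbar
  have hθx : ∀ x, θ (Ψ x) = χ x := by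
    intro x
    have := DFunLike.congr_fun hθ (QuotientAddGroup.mk x)
    simpa [χbar] using this
  have hord : ∀ i : I, 0 < addOrderOf (i : G') := fun i => (hG' i.1).addOrderOf_pos
  have htors : ∀ (i : I) (x : G), addOrderOf (i : G') • β i.1 x = 0 := by
    intro i x
    rw [← AddMonoidHom.smul_apply, ← map_nsmul, addOrderOf_nsmul_eq_zero, map_zero]
    rfl
  have hm : ∀ i : I, ∃ m : ℕ, ∀ x : AddCircle (1 : ℚ), addOrderOf (i : G') • x = 0 →
      (θ.comp (AddMonoidHom.single (fun _ : I => AddCircle (1 : ℚ)) i)) x = m • x :=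
    fun i => endo_torsion _ _ (hord i)
  choose m hm using hm
  refine ⟨∑ i : I, m i • (i : G'), ?_⟩
  ext x
  rw [map_sum, AddMonoidHom.finsetSum_apply, ← hθx]
  have hdecomp : Ψ x = ∑ i : I, Pi.single i (Ψ x i) := (Finset.univ_sum_single (Ψ x)).symm
  rw [hdecomp, map_sum]
  refine Finset.sum_congr rfl (fun i _ => ?_)
  rw [map_nsmul, AddMonoidHom.smul_apply]
  have := hm i (β i.1 x) (htors i x)
  rw [hΨ]
  exact this.symm



/-- Let G and G' be abelian groups such that every element of G' has finite order, and let β : G' →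
Hom(G, ℚ/ℤ) be an injective homomorphism (equivalently a pairing G' × G → ℚ/ℤ with no left kernel).
Endow G with the weak topology defined by G': the coarsest topology for which every character β(f),
f ∈ G', is continuous when ℚ/ℤ carries the discrete topology. Then every homomorphism χ : G → ℚ/ℤ
that is continuous for this topology on G and the discrete topology on ℚ/ℤ equals β(f) for some f ∈
G', so that β is a bijection from G' onto the group of continuous characters of G. -/
theorem result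
    (G : Type u) (G' : Type u) [AddCommGroup G] [AddCommGroup G'] (hG' : IsAddTorsion G')
    (β : G' →+ (G →+ AddCircle (1 : ℚ))) (hβ : Function.Injective β)
    (χ : G →+ AddCircle (1 : ℚ))
    (hχ : @Continuous G (AddCircle (1 : ℚ)) (⨅ f' : G', TopologicalSpace.induced (fun x : G => β f' x) ⊥) ⊥ χ) :
    ∃ f' : G', β f' = χ := by
  have hopen : @IsOpen G (⨅ f' : G', TopologicalSpace.induced (fun x : G => β f' x) ⊥)
      (χ ⁻¹' {0}) :=
    @Continuous.isOpen_preimage G (AddCircle (1 : ℚ))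
      (⨅ f' : G', TopologicalSpace.induced (fun x : G => β f' x) ⊥) ⊥ χ hχ {0} trivial
  have hmem : (χ ⁻¹' {0}) ∈ @nhds G (⨅ f' : G', TopologicalSpace.induced (fun x : G => β f' x) ⊥)
      (0 : G) :=
    @IsOpen.mem_nhds G (⨅ f' : G', TopologicalSpace.induced (fun x : G => β f' x) ⊥) (0 : G) _
      hopen (by simp)
  rw [nhds_iInf] at hmem
  obtain ⟨I, hI, V, hV, hUV⟩ := Filter.mem_iInf.mp hmem
  apply alg_step hG' β χ I hI
  intro x hx
  have hxmem : x ∈ ⋂ i, V i := by
    rw [Set.mem_iInter]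
    intro i
    have hVi := hV i
    rw [@nhds_induced (AddCircle (1 : ℚ)) G ⊥ (fun x : G => β i.1 x) 0] at hVi
    obtain ⟨W, hW, hWV⟩ := Filter.mem_comap.mp hVi
    apply hWV
    have h0 : (β i.1 0) ∈ W := @mem_of_mem_nhds (AddCircle (1 : ℚ)) ⊥ _ _ hW
    rw [Set.mem_preimage, hx i.1 i.2]
    rw [map_zero] at h0
    exact h0
  rw [← hUV] at hxmem
  exact hxmem

end Groth.Agent.S19258
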