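import Groth.Statements.S19266
-- import your own Groth.Agent.* helpers here
import Groth.Agent.Lib.Helper26Witt
import Mathlib.Tactic
import Mathlib.RingTheory.Polynomial.GaussLemma
import Mathlib.RingTheory.IntegralClosure.IntegrallyClosed

set_option autoImplicit false
universe u
open WittFil

namespace Groth.Agent.S19266

theorem mem_range_of_pow_mem {A B : Type u} [CommRing A] [IsDomain A] [IsIntegrallyClosed A]
    [CommRing B] [Algebra A B] (π : A) [IsLocalization.Away π B] (y : B) (N : ℕ)
    (hN : 0 < N) (h : y ^ N ∈ (algebraMap A B).range) : y ∈ (algebraMap A B).range := by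
  by_cases hπ : π = 0
  · -- B is trivial
    have h0 : (algebraMap A B π) = 0 := by rw [hπ, map_zero]
    have hu : IsUnit (algebraMap A B π) := IsLocalization.Away.algebraMap_isUnit (S := B) π
    rw [h0] at hu
    haveI : Subsingleton B := subsingleton_of_zero_eq_one (isUnit_zero_iff.mp hu)
    exact ⟨0, Subsingleton.elim _ _⟩
  let K := FractionRing A
  have hne : algebraMap A K π ≠ 0 := by
    intro h0
    exact hπ ((IsFractionRing.injective A K) (by rw [h0, map_zero]))
  have hunit : IsUnit (algebraMap A K π) := hne.isUnit
  let f : B →+* K := IsLocalization.Away.lift π hunit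
  have hf : ∀ a : A, f (algebraMap A B a) = algebraMap A K a := fun a =>
    IsLocalization.Away.lift_eq π hunit a
  obtain ⟨a', ha'⟩ := h
  have hint : IsIntegral A (f y) := by
    apply IsIntegral.of_pow hN
    rw [← map_pow, ← ha', hf]
    exact isIntegral_algebraMap
  obtain ⟨z, hz⟩ := IsIntegrallyClosed.isIntegral_iff.mp hint
  obtain ⟨k, a, hya⟩ := IsLocalization.Away.surj π y
  have h1 : algebraMap A K a = algebraMap A K (z * π ^ k) := by
    rw [← hf a, ← hya, map_mul, map_pow, hf, map_mul, map_pow, hz]
  have h2 : a = z * π ^ k := IsFractionRing.injective A K h1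
  have hu : IsUnit (algebraMap A B π ^ k) :=
    (IsLocalization.Away.algebraMap_isUnit (S := B) π).pow k
  refine ⟨z, ?_⟩
  apply hu.mul_left_injective
  change algebraMap A B z * algebraMap A B π ^ k = y * algebraMap A B π ^ k
  rw [hya, h2, map_mul, map_pow]

/-- Let A be a unique factorisation domain of characteristic p, x_1, …, x_r pairwise non-associate prime
elements of A, B = A[1/(x_1⋯x_r)] with u_i the unit of B defined by x_i, n ∈ ℤ^r, m ≥ 0 and c = ∏
u_i ^ n_i. A truncated p-typical Witt vector a of length m over B lies in the filtered piece cut out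
by c ^ (p ^ (m-1)) if and only if all coordinates of the product a · [c] lie in A, where [c] denotes
the (truncated) Teichmüller representative of c; in other words that filtered piece is the
invertible module [c]⁻¹ · W_m(A). (Published for a regular local ring; only unique factorisation is
used.) -/
theorem result (p : ℕ) [Fact p.Prime] {A B : Type u} [CommRing A] [IsDomain A]
    [UniqueFactorizationMonoid A] [CharP A p] [CommRing B] [Algebra A B] {r : ℕ} (x : Fin r → A)
    (hx : ∀ i, Prime (x i)) (hxa : ∀ i j, Associated (x i) (x j) → i = j)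
    [IsLocalization.Away (∏ i, x i) B] (u : Fin r → Bˣ)
    (hu : ∀ i, (u i : B) = algebraMap A B (x i)) (n : Fin r → ℤ) (m : ℕ)
    (a : TruncatedWittVector p m B) :
    a ∈ WittFil.fil p m (A := A) ((WittFil.zmon u n) ^ (p ^ (m - 1))) ↔
      ∀ j : Fin m, TruncatedWittVector.coeff j
          (a * WittVector.truncate m (WittVector.teichmuller p (WittFil.zmon u n))) ∈
        (algebraMap A B).range := by
  have key : ∀ j : Fin m, TruncatedWittVector.coeff j a ^ p ^ (m - 1 - (j : ℕ)) *
      (WittFil.zmon u n) ^ (p ^ (m - 1)) =
      (TruncatedWittVector.coeff j a * (WittFil.zmon u n) ^ p ^ (j : ℕ)) ^ p ^ (m - 1 - (j : ℕ)) := by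
    intro j
    have hjm : (j : ℕ) + (m - 1 - (j : ℕ)) = m - 1 := by
      have := j.2
      omega
    rw [mul_pow, ← pow_mul, ← pow_add, hjm]
  constructor
  · intro ha j
    have h := ha j
    rw [key] at h
    rw [Groth.Agent.Lib.Helper26.truncated_coeff_mul_teichmuller]
    exact mem_range_of_pow_mem (∏ i, x i) _ _ (pow_pos (Fact.out : p.Prime).pos _) h
  · intro ha j
    have h := ha j
    rw [Groth.Agent.Lib.Helper26.truncated_coeff_mul_teichmuller] at h
    change _ ∈ (algebraMap A B).range
    rw [key]
    exact Subring.pow_mem _ h _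

end Groth.Agent.S19266
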