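import Groth.Statements.S19269
import Mathlib

set_option autoImplicit false
universe u
open CAlg

namespace Groth.Agent.S19269

open IsLocalRing

section
variable {R : Type u} [CommRing R] [IsNoetherianRing R] (I : Ideal R)
  {M : Type u} [AddCommGroup M] [Module R M] [Module.Finite R M] (N : Submodule R M)

/-- the image of the completion of `N` lies in any `R^`-submodule containing the image of `N` -/
theorem range_map_le (N' : Submodule (AdicCompletion I R) (AdicCompletion I M))
    (hle : ∀ x ∈ N, AdicCompletion.of I M x ∈ N') :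
    LinearMap.range (AdicCompletion.map I N.subtype) ≤ N' := by
  rintro _ ⟨yh, rfl⟩
  obtain ⟨t, rfl⟩ := AdicCompletion.ofTensorProduct_surjective_of_finite I N yh
  induction t using TensorProduct.induction_on with
  | zero => simp
  | tmul r n =>
    rw [AdicCompletion.ofTensorProduct_tmul, map_smul, AdicCompletion.map_of]
    exact N'.smul_mem _ (hle _ n.2)
  | add a b ha hb =>
    rw [map_add, map_add]
    exact N'.add_mem ha hb

/-- elements of the closure of `N` come from the completion of `N` (Artin–Rees) -/
theorem mem_range_map_of_dense (y : AdicCompletion I M)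
    (hdense : ∀ k : ℕ, ∃ x ∈ N, AdicCompletion.eval I M k y = Submodule.Quotient.mk x) :
    y ∈ LinearMap.range (AdicCompletion.map I N.subtype) := by
  choose x hxN hx using hdense
  obtain ⟨c, hc⟩ := Ideal.exists_pow_inf_eq_pow_smul I N
  -- differences
  have hdiff : ∀ k, x k - x (k + 1) ∈ (I ^ k • ⊤ : Submodule R M) := by
    intro k
    rw [← Submodule.Quotient.mk_eq_zero, Submodule.Quotient.mk_sub, ← hx k, sub_eq_zero]
    have h1 := AdicCompletion.transitionMap_comp_eval_apply (I := I) (M := M) (Nat.le_succ k) y
    rw [← AdicCompletion.eval_apply, ← AdicCompletion.eval_apply, hx (k + 1)] at h1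
    rw [← h1]
    rfl
  have hz : ∀ k, (⟨x (k + c), hxN _⟩ : N) ≡ ⟨x (k + 1 + c), hxN _⟩
      [SMOD (I ^ k • ⊤ : Submodule R N)] := by
    intro k
    rw [SModEq.sub_mem, Submodule.mem_smul_top_iff]
    have h1 : x (k + c) - x (k + c + 1) ∈ (I ^ (k + c) • ⊤ ⊓ N : Submodule R M) :=
      ⟨hdiff (k + c), N.sub_mem (hxN _) (hxN _)⟩
    rw [hc (k + c) (Nat.le_add_left c k), Nat.add_sub_cancel] at h1
    have h2 : (I ^ k • (I ^ c • ⊤ ⊓ N) : Submodule R M) ≤ I ^ k • N :=
      Submodule.smul_mono le_rfl inf_le_right
    have h3 := h2 h1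
    have e : k + 1 + c = k + c + 1 := by omega
    simp only [e]
    exact h3
  refine ⟨AdicCompletion.mk I N (AdicCompletion.AdicCauchySequence.mk I N
    (fun k => ⟨x (k + c), hxN _⟩) hz), ?_⟩
  apply AdicCompletion.ext
  intro n
  rw [AdicCompletion.map_mk]
  change Submodule.mkQ _ (x (n + c)) = y.val n
  have h1 := AdicCompletion.transitionMap_comp_eval_apply (I := I) (M := M)
    (Nat.le_add_right n c) y
  rw [← h1, ← AdicCompletion.eval_apply, hx (n + c)]
  rfl

end


open IsLocalRing in
/-- Let R be a Noetherian local ring with maximal ideal 𝔪, M a finitely generated R-module and M^ its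
𝔪-adic completion, a module over the 𝔪-adic completion R^ of R. Let N' be an R^-submodule of M^ and
N an R-submodule of M whose image in M^ is contained in N' and is dense in N' for the 𝔪-adic
topology, in the sense that for every y in N' and every k there is x in N with y ≡ x modulo the
kernel of M^ → M/𝔪^k M. Then N' equals the image of the completion of N under the map induced by the
inclusion N → M (so N' is the completion of N), and N is the set of elements of M whose image in M^
lies in N'. -/
theorem result {R : Type u} [CommRing R]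
    [IsNoetherianRing R] [IsLocalRing R] {M : Type u} [AddCommGroup M] [Module R M]
    [Module.Finite R M] (N : Submodule R M)
    (N' : Submodule (AdicCompletion (maximalIdeal R) R) (AdicCompletion (maximalIdeal R) M))
    (hle : ∀ x ∈ N, AdicCompletion.of (maximalIdeal R) M x ∈ N')
    (hdense : ∀ y ∈ N', ∀ k : ℕ, ∃ x ∈ N,
      AdicCompletion.eval (maximalIdeal R) M k y = Submodule.Quotient.mk x) :
    (N'.restrictScalars R =
        (LinearMap.range (AdicCompletion.map (maximalIdeal R) N.subtype)).restrictScalars R) ∧
      (∀ x : M, x ∈ N ↔ AdicCompletion.of (maximalIdeal R) M x ∈ N') := by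
  refine ⟨?_, fun x => ⟨hle x, fun hx => ?_⟩⟩
  · apply le_antisymm
    · intro y hy
      exact mem_range_map_of_dense (maximalIdeal R) N y (hdense y hy)
    · intro y hy
      exact range_map_le (maximalIdeal R) N N' hle hy
  · -- Krull intersection
    have hk : ∀ k, N.mkQ x ∈ ((maximalIdeal R) ^ k • ⊤ : Submodule R (M ⧸ N)) := by
      intro k
      obtain ⟨xk, hxk, hxk'⟩ := hdense _ hx k
      rw [AdicCompletion.eval_of] at hxk'
      have h1 : x - xk ∈ ((maximalIdeal R) ^ k • ⊤ : Submodule R M) := by
        rw [← Submodule.Quotient.mk_eq_zero, Submodule.Quotient.mk_sub, sub_eq_zero]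
        exact hxk'
      have h2 : N.mkQ x = N.mkQ (x - xk) := by
        have h0 : N.mkQ xk = 0 := (Submodule.Quotient.mk_eq_zero N).mpr hxk
        rw [map_sub, h0, sub_zero]
      rw [h2]
      have h3 : Submodule.map N.mkQ ((maximalIdeal R) ^ k • ⊤ : Submodule R M) ≤
          ((maximalIdeal R) ^ k • ⊤ : Submodule R (M ⧸ N)) := by
        rw [Submodule.map_smul'']
        exact Submodule.smul_mono le_rfl le_top
      exact h3 ⟨_, h1, rfl⟩
    have hmem : N.mkQ x ∈ (⨅ i : ℕ, (maximalIdeal R) ^ i • ⊤ : Submodule R (M ⧸ N)) :=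
      (Submodule.mem_iInf _).mpr hk
    rw [Ideal.iInf_pow_smul_eq_bot_of_isLocalRing (maximalIdeal R)
      (Ideal.IsMaximal.ne_top inferInstance), Submodule.mem_bot] at hmem
    exact (Submodule.Quotient.mk_eq_zero N).mp hmem

end Groth.Agent.S19269
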