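import Groth.Statements.S19272
-- import your own Groth.Agent.* helpers here
import Groth.Agent.Lib.Helper26WittFilK
import Mathlib.Tactic

set_option autoImplicit false
universe u
open WittFil

namespace Groth.Agent.S19272

/-- Let A be a unique factorisation domain of characteristic p, x_1, …, x_r pairwise non-associate prime
elements of A, B = A[1/(x_1⋯x_r)] with u_i the unit of B defined by x_i, m ≥ 0, and n ∈ ℤ^r with n_i
< 0 for every i. Then every truncated p-typical Witt vector of length m over B lying in the filtered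
piece cut out by ∏ u_i ^ n_i (every coordinate y_j has y_j ^ (p ^ (m−1−j)) · ∏ u_i ^ n_i in the
image of A) has all its coordinates in the image of the ideal (x_1⋯x_r)·A. (The published item,
stated for the filtered de Rham–Witt pieces in all degrees over a regular local ring, says only that
such vectors have all coordinates in A; this row states the divisibility of every coordinate by
x_1⋯x_r that its proof establishes, in degree zero, for a unique factorisation domain in place of a
regular local ring.) -/
theorem result (p : ℕ) [Fact p.Prime] {A B : Type u} [CommRing A] [IsDomain A]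
    [UniqueFactorizationMonoid A] [CharP A p] [CommRing B] [Algebra A B] {r : ℕ} (x : Fin r → A)
    (hx : ∀ i, Prime (x i)) (hxa : ∀ i j, Associated (x i) (x j) → i = j)
    [IsLocalization.Away (∏ i, x i) B] (u : Fin r → Bˣ)
    (hu : ∀ i, (u i : B) = algebraMap A B (x i)) (m : ℕ) (n : Fin r → ℤ) (hn : ∀ i, n i < 0)
    (a : TruncatedWittVector p m B) (ha : a ∈ WittFil.fil p m (A := A) (WittFil.zmon u n))
    (j : Fin m) :
    ∃ b : A, TruncatedWittVector.coeff j a = algebraMap A B ((∏ i, x i) * b) := by
  have hpp : 0 < p := (Fact.out : p.Prime).pos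
  have hN : 0 < p ^ (m - 1 - (j : ℕ)) := pow_pos hpp _
  have h := (Groth.Agent.Lib.Helper26.pow_mul_zmon_mem_iff x hx hxa u hu _ _ hN n).mp (ha j)
  obtain ⟨a', ha'⟩ := h
  -- q_i = n_i / N ≤ -1; set e_i = (-q_i - 1).toNat
  set N : ℕ := p ^ (m - 1 - (j : ℕ)) with hNdef
  have hN' : (0 : ℤ) < (N : ℤ) := by exact_mod_cast hN
  have hq : ∀ i, n i / (N : ℤ) ≤ -1 := by
    intro i
    have h1 : n i / (N : ℤ) < 0 := Int.ediv_neg_of_neg_of_pos (hn i) hN'
    omega
  -- zmon q * zmon (-q) = 1
  have hmul : WittFil.zmon u (fun i => n i / (N : ℤ)) *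
      algebraMap A B (∏ i, x i ^ ((-(n i / (N : ℤ))).toNat)) = 1 := by
    rw [← Groth.Agent.Lib.Helper26.zmon_natCast x u hu, ← Groth.Agent.Lib.Helper26.zmon_add]
    have : ((fun i => n i / (N : ℤ)) + fun i => (((-(n i / (N : ℤ))).toNat : ℕ) : ℤ)) =
        fun _ => (0 : ℤ) := by
      funext i
      have := hq i
      rw [Pi.add_apply, Int.toNat_of_nonneg (by omega)]
      ring
    rw [this]
    unfold WittFil.zmon
    simp
  refine ⟨a' * ∏ i, x i ^ ((-(n i / (N : ℤ))).toNat - 1), ?_⟩
  have hprod : (∏ i, x i) * (a' * ∏ i, x i ^ ((-(n i / (N : ℤ))).toNat - 1)) =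
      a' * ∏ i, x i ^ ((-(n i / (N : ℤ))).toNat) := by
    rw [mul_left_comm, ← Finset.prod_mul_distrib]
    congr 2
    funext i
    rw [← pow_succ']
    congr 1
    have := hq i
    omega
  rw [hprod, map_mul, ha', mul_assoc, hmul, mul_one]

end Groth.Agent.S19272
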