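import Groth.Statements.S19273
import Mathlib

set_option autoImplicit false
universe u
open CAlg

namespace Groth.Agent.S19273

noncomputable def wfun {B : Type*} [CommRing B] {r N : ℕ} {ι : Type*} (u : Fin r → Bˣ) :
    Fin N ⊕ ι → Bˣ
  | Sum.inl i => if h : (i : ℕ) < r then (u ⟨i, h⟩)⁻¹ else 1
  | Sum.inr _ => 1

theorem wfun_inl_lt {B : Type*} [CommRing B] {r N : ℕ} {ι : Type*} (u : Fin r → Bˣ) (i : Fin N)
    (h : (i : ℕ) < r) : wfun (ι := ι) u (Sum.inl i) = (u ⟨i, h⟩)⁻¹ := dif_pos h

theorem wfun_inl_ge {B : Type*} [CommRing B] {r N : ℕ} {ι : Type*} (u : Fin r → Bˣ) (i : Fin N)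
    (h : ¬ (i : ℕ) < r) : wfun (ι := ι) u (Sum.inl i) = 1 := dif_neg h

theorem wfun_inr {B : Type*} [CommRing B] {r N : ℕ} {ι : Type*} (u : Fin r → Bˣ) (k : ι) :
    wfun (N := N) u (Sum.inr k) = 1 := rfl

open KaehlerDifferential in
/-- Let A be an integral domain of prime characteristic p, x_1, …, x_N elements of A, r ≤ N, B =
A[1/(x_1⋯x_r)] with u_i the unit of B defined by x_i for i ≤ r, and suppose that the module Ω_A of
absolute Kähler differentials of A is free with a basis b indexed by {1, …, N} ⊔ ι whose i-th vector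
is d(x_i) for i ≤ N. Then the module of logarithmic 1-forms — the A-submodule of Ω_B spanned by the
image of Ω_A and the forms u_i⁻¹ · d(x_i), i ≤ r — is a free A-module: it has a basis indexed by {1,
…, N} ⊔ ι whose vector at i ≤ r is u_i⁻¹ · d(x_i), at r < i ≤ N is d(x_i), and at k ∈ ι is the image
of b_k. (In the published statement A is a regular local F-finite algebra over the prime field with
maximal ideal (x_1, …, x_N), the basis of Ω_A comes from the preceding lemma, and the assertion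
covers the logarithmic q-forms for all q together with their identification with the log de Rham
complex of the log ring; only the degree-one freeness is stated here, from the properties of A
actually used.) -/
theorem result (p : ℕ) [Fact p.Prime]
    {A B : Type u} [CommRing A] [IsDomain A] [CharP A p] [CommRing B] [Algebra A B] {r N : ℕ}
    (hr : r ≤ N) (x : Fin N → A) [IsLocalization.Away (∏ i : Fin r, x (Fin.castLE hr i)) B]
    (u : Fin r → Bˣ) (hu : ∀ i, (u i : B) = algebraMap A B (x (Fin.castLE hr i)))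
    {ι : Type u} (b : Module.Basis (Fin N ⊕ ι) A (Ω[A⁄ℤ])) (hb : ∀ i, b (Sum.inl i) = D ℤ A (x i)) :
    ∃ e : Module.Basis (Fin N ⊕ ι) A
        (W4c6katofilta.logForms1 (fun i : Fin r => x (Fin.castLE hr i)) u),
      (∀ i : Fin r, (e (Sum.inl (Fin.castLE hr i)) : Ω[B⁄ℤ]) =
          ((u i)⁻¹ : Bˣ) • KaehlerDifferential.map ℤ ℤ A B (D ℤ A (x (Fin.castLE hr i)))) ∧
      (∀ i : Fin N, r ≤ (i : ℕ) →
          (e (Sum.inl i) : Ω[B⁄ℤ]) = KaehlerDifferential.map ℤ ℤ A B (D ℤ A (x i))) ∧
      (∀ k : ι, (e (Sum.inr k) : Ω[B⁄ℤ]) = KaehlerDifferential.map ℤ ℤ A B (b (Sum.inr k))) := by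
  classical
  have hxne : ∀ i : Fin N, x i ≠ 0 := by
    intro i h0
    apply b.ne_zero (Sum.inl i)
    rw [hb, h0, map_zero]
  have hπ : (∏ i : Fin r, x (Fin.castLE hr i)) ≠ 0 :=
    Finset.prod_ne_zero_iff.mpr (fun i _ => hxne _)
  have hinj : Function.Injective (algebraMap A B) :=
    IsLocalization.injective B (M := Submonoid.powers (∏ i : Fin r, x (Fin.castLE hr i)))
      (powers_le_nonZeroDivisors_of_noZeroDivisors hπ)
  obtain ⟨bB, hbB⟩ : ∃ bB : Module.Basis (Fin N ⊕ ι) B (Ω[B⁄ℤ]),
      ∀ j, bB j = KaehlerDifferential.map ℤ ℤ A B (b j) :=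
    ⟨b.ofIsLocalizedModule B (Submonoid.powers (∏ i : Fin r, x (Fin.castLE hr i)))
      (KaehlerDifferential.map ℤ ℤ A B),
      fun j => Module.Basis.ofIsLocalizedModule_apply _ _ _ _ j⟩
  obtain ⟨e', he'⟩ : ∃ e' : Module.Basis (Fin N ⊕ ι) B (Ω[B⁄ℤ]),
      ∀ j, e' j = wfun u j • KaehlerDifferential.map ℤ ℤ A B (b j) :=
    ⟨bB.unitsSMul (wfun u), fun j => by rw [Module.Basis.unitsSMul_apply, hbB]⟩
  have hli : LinearIndependent A (fun j => e' j) :=
    e'.linearIndependent.restrict_scalars (by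
      intro a a' h
      apply hinj
      simpa [Algebra.smul_def] using h)
  have hmap_lt : ∀ (i : Fin N) (h : (i : ℕ) < r),
      KaehlerDifferential.map ℤ ℤ A B (b (Sum.inl i)) = x i • e' (Sum.inl i) := by
    intro i h
    have hc : Fin.castLE hr ⟨(i : ℕ), h⟩ = i := Fin.ext rfl
    have hui : (u ⟨i, h⟩ : B) = algebraMap A B (x i) := by
      rw [hu, hc]
    rw [he', wfun_inl_lt u i h, ← algebraMap_smul B (x i), ← hui, Units.smul_def, smul_smul,
      Units.mul_inv, one_smul]
  have hmap_ge : ∀ j, (∀ i : Fin N, j = Sum.inl i → ¬ (i : ℕ) < r) →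
      e' j = KaehlerDifferential.map ℤ ℤ A B (b j) := by
    intro j hj
    rw [he']
    have h1 : wfun u j = 1 := by
      rcases j with i | k
      · exact wfun_inl_ge u i (hj i rfl)
      · exact wfun_inr u k
    rw [h1, one_smul]
  have hmem : ∀ j, KaehlerDifferential.map ℤ ℤ A B (b j) ∈
      Submodule.span A (Set.range fun j => e' j) := by
    intro j
    by_cases hj : ∃ i : Fin N, j = Sum.inl i ∧ (i : ℕ) < r
    · obtain ⟨i, rfl, h⟩ := hj
      rw [hmap_lt i h]
      exact Submodule.smul_mem _ _ (Submodule.subset_span ⟨_, rfl⟩)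
    · rw [← hmap_ge j (fun i hi h => hj ⟨i, hi, h⟩)]
      exact Submodule.subset_span ⟨_, rfl⟩
  have hlog : ∀ i : Fin r, e' (Sum.inl (Fin.castLE hr i)) =
      ((u i)⁻¹ : Bˣ) • KaehlerDifferential.map ℤ ℤ A B (D ℤ A (x (Fin.castLE hr i))) := by
    intro i
    have h : ((Fin.castLE hr i : Fin N) : ℕ) < r := i.2
    have hi : (⟨((Fin.castLE hr i : Fin N) : ℕ), h⟩ : Fin r) = i := Fin.ext rfl
    rw [he', wfun_inl_lt u _ h, hi, hb]
  have hspan : W4c6katofilta.logForms1 (fun i : Fin r => x (Fin.castLE hr i)) u =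
      Submodule.span A (Set.range fun j => e' j) := by
    apply le_antisymm
    · unfold W4c6katofilta.logForms1
      rw [Submodule.span_le]
      rintro m (⟨ω, rfl⟩ | ⟨i, rfl⟩)
      · have hω : ω ∈ Submodule.span A (Set.range b) := by rw [b.span_eq]; trivial
        induction hω using Submodule.span_induction with
        | mem y hy => obtain ⟨j, rfl⟩ := hy; exact hmem j
        | zero => rw [map_zero]; exact Submodule.zero_mem _
        | add y z _ _ hy hz => rw [map_add]; exact Submodule.add_mem _ hy hz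
        | smul a y _ hy => rw [map_smul]; exact Submodule.smul_mem _ a hy
      · have h2 := hlog i
        simp only at h2 ⊢
        rw [← h2]
        exact Submodule.subset_span ⟨_, rfl⟩
    · rw [Submodule.span_le]
      rintro _ ⟨j, rfl⟩
      unfold W4c6katofilta.logForms1
      apply Submodule.subset_span
      by_cases hj : ∃ i : Fin N, j = Sum.inl i ∧ (i : ℕ) < r
      · obtain ⟨i, rfl, h⟩ := hj
        right
        refine ⟨⟨i, h⟩, ?_⟩
        have hc : Fin.castLE hr ⟨(i : ℕ), h⟩ = i := Fin.ext rfl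
        have h3 := hlog ⟨i, h⟩
        rw [hc] at h3
        simp only [hc]
        exact h3.symm
      · left
        exact ⟨b j, (hmap_ge j (fun i hi h => hj ⟨i, hi, h⟩)).symm⟩
  obtain ⟨e, he⟩ : ∃ e : Module.Basis (Fin N ⊕ ι) A
      (W4c6katofilta.logForms1 (fun i : Fin r => x (Fin.castLE hr i)) u),
      ∀ j, ((e j : W4c6katofilta.logForms1 (fun i : Fin r => x (Fin.castLE hr i)) u) : Ω[B⁄ℤ]) =
        e' j := by
    refine ⟨(Module.Basis.span hli).map (LinearEquiv.ofEq _ _ hspan.symm), fun j => ?_⟩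
    rw [Module.Basis.map_apply, LinearEquiv.coe_ofEq_apply, Module.Basis.span_apply]
  refine ⟨e, ?_, ?_, ?_⟩
  · intro i
    rw [he, hlog]
  · intro i hi
    rw [he, hmap_ge _ (fun i' hi' h => by
      have : i = i' := Sum.inl.inj hi'
      subst this
      omega), hb]
  · intro k
    rw [he, hmap_ge _ (fun i' hi' => by cases hi')]

end Groth.Agent.S19273
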