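import Groth.Statements.S19274
-- import your own Groth.Agent.* helpers here
import Groth.Agent.Lib.Helper26WittFilK
import Mathlib.RingTheory.WittVector.InitTail
import Mathlib.Tactic

set_option autoImplicit false
universe u
open WittFil

namespace Groth.Agent.S19274

theorem witt_eq_teichmuller_add_verschiebung (p : ℕ) [Fact p.Prime] {B : Type u} [CommRing B]
    (a : WittVector p B) :
    a = WittVector.teichmuller p (a.coeff 0) +
      WittVector.verschiebung (WittVector.mk p (fun j => a.coeff (j + 1))) := by
  have h1 : WittVector.init 1 a = WittVector.teichmuller p (a.coeff 0) := by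
    ext k
    rcases k with _ | k
    · rw [WittVector.teichmuller_coeff_zero]
      simp [WittVector.init, WittVector.select]
    · rw [WittVector.teichmuller_coeff_pos p _ _ (Nat.succ_pos k)]
      simp [WittVector.init, WittVector.select]
  have h2 : WittVector.tail 1 a =
      WittVector.verschiebung (WittVector.mk p (fun j => a.coeff (j + 1))) := by
    ext k
    rcases k with _ | k
    · rw [WittVector.verschiebung_coeff_zero]
      simp [WittVector.tail, WittVector.select]
    · rw [WittVector.verschiebung_coeff_succ]
      simp [WittVector.tail, WittVector.select]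
  rw [← h1, ← h2, WittVector.init_add_tail]

/-- Let A be a unique factorisation domain of characteristic p, x a prime element of A, B = A[1/x] with
u the unit of B defined by x, m ≥ 1, and n an integer NOT divisible by p^m. For e in B and k ≥ 0
write fil_k(e) for the set of truncated p-typical Witt vectors of length k over B whose j-th
coordinate y_j satisfies y_j ^ (p ^ (k−1−j)) · e ∈ A for all j < k (the filtered piece; fil_k(u^n)
is the piece of index n). Then fil_{m+1}(u^n) is contained in fil_{m+1}(u^(n−1)) + V(fil_m(u^n))
(the reverse inclusion is immediate): every a in fil_{m+1}(u^n) can be written a = b + V(y) with b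
in fil_{m+1}(u^(n−1)) and y a Witt vector over B whose length-m truncation lies in fil_m(u^n), V(y)
being truncated to length m+1. (In the source A is a henselian discrete valuation ring, n = p^r·l >
1 with p not dividing l, and the condition reads m ≥ r + 1.) -/
theorem result (p : ℕ) [Fact p.Prime]
    {A B : Type u} [CommRing A] [IsDomain A] [UniqueFactorizationMonoid A] [CharP A p]
    [CommRing B] [Algebra A B] (x : A) (hx : Prime x) [IsLocalization.Away x B] (u : Bˣ)
    (hu : (u : B) = algebraMap A B x) (m : ℕ) (hm : 0 < m) (n : ℤ) (hn : ¬ ((p : ℤ) ^ m ∣ n)) :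
    ∀ a ∈ WittFil.fil p (m + 1) (A := A) ((u ^ n : Bˣ) : B),
      ∃ b ∈ WittFil.fil p (m + 1) (A := A) ((u ^ (n - 1) : Bˣ) : B),
        ∃ y : WittVector p B,
          WittVector.truncate m y ∈ WittFil.fil p m (A := A) ((u ^ n : Bˣ) : B) ∧
            a = b + WittVector.truncate (m + 1) (WittVector.verschiebung y) := by
  intro a ha
  have hpp : 0 < p := (Fact.out : p.Prime).pos
  let x' : Fin 1 → A := fun _ => x
  let u' : Fin 1 → Bˣ := fun _ => u
  have hprod : ∏ i, x' i = x := by simp [x']
  have : IsLocalization.Away (∏ i, x' i) B := by rw [hprod]; infer_instance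
  have hx' : ∀ i, Prime (x' i) := fun _ => hx
  have hxa' : ∀ i j, Associated (x' i) (x' j) → i = j := fun i j _ => Subsingleton.elim i j
  have hu' : ∀ i, (u' i : B) = algebraMap A B (x' i) := fun _ => hu
  have hz : ∀ k : ℤ, WittFil.zmon u' (fun _ => k) = ((u ^ k : Bˣ) : B) := by
    intro k; unfold WittFil.zmon; simp [u']
  have K := fun (w : B) (N : ℕ) (hN : 0 < N) (k : ℤ) =>
    Groth.Agent.Lib.Helper26.pow_mul_zmon_mem_iff x' hx' hxa' u' hu' w N hN (fun _ => k)
  obtain ⟨a', rfl⟩ := WittVector.truncate_surjective p (m + 1) B a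
  refine ⟨WittVector.truncate (m + 1) (WittVector.teichmuller p (a'.coeff 0)), ?_,
    WittVector.mk p (fun j => a'.coeff (j + 1)), ?_, ?_⟩
  · intro j
    rw [WittVector.coeff_truncate]
    by_cases hj : (j : ℕ) = 0
    · rw [hj, WittVector.teichmuller_coeff_zero]
      have h0 := ha 0
      rw [WittVector.coeff_truncate] at h0
      have he : m + 1 - 1 - ((0 : Fin (m + 1)) : ℕ) = m := by simp
      rw [he] at h0
      have he' : m + 1 - 1 - 0 = m := by simp
      rw [he']
      rw [← hz] at h0 ⊢
      rw [K _ _ (pow_pos hpp m)] at h0 ⊢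
      have hNpos : (0 : ℤ) < ((p ^ m : ℕ) : ℤ) := by exact_mod_cast pow_pos hpp m
      have hfloor : (n - 1) / ((p ^ m : ℕ) : ℤ) = n / ((p ^ m : ℕ) : ℤ) := by
        have hmod : n % ((p ^ m : ℕ) : ℤ) ≠ 0 := by
          intro h0
          apply hn
          have := Int.dvd_of_emod_eq_zero h0
          push_cast at this
          exact this
        have h1 := Int.emod_nonneg n hNpos.ne'
        have h2 := Int.emod_lt_of_pos n hNpos
        have h3 := Int.emod_add_mul_ediv n ((p ^ m : ℕ) : ℤ)
        exact ((Int.ediv_emod_unique hNpos).mpr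
          ⟨by linarith [h3], by omega, by omega⟩ :
            (n - 1) / ((p ^ m : ℕ) : ℤ) = n / ((p ^ m : ℕ) : ℤ) ∧
              (n - 1) % ((p ^ m : ℕ) : ℤ) = n % ((p ^ m : ℕ) : ℤ) - 1).1
      simp only [hfloor]
      exact h0
    · rw [WittVector.teichmuller_coeff_pos p _ _ (Nat.pos_of_ne_zero hj),
        zero_pow (pow_pos hpp _).ne', zero_mul]
      exact Subring.zero_mem _
  · intro j
    rw [WittVector.coeff_truncate, WittVector.coeff_mk]
    have h := ha ⟨(j : ℕ) + 1, by have := j.2; omega⟩
    rw [WittVector.coeff_truncate] at h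
    have he : m + 1 - 1 - ((⟨(j : ℕ) + 1, by have := j.2; omega⟩ : Fin (m + 1)) : ℕ) =
        m - 1 - (j : ℕ) := by
      simp only []
      omega
    rw [he] at h
    exact h
  · rw [← map_add]
    congr 1
    exact witt_eq_teichmuller_add_verschiebung p a'

end Groth.Agent.S19274
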