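import Groth.Statements.S19288
import Groth.Agent.Lib.Helper20FinHom

set_option autoImplicit false
universe u
open CategoryTheory CategoryTheory.Limits MonoidalCategory CartesianMonoidalCategory MonObj AlgebraicGeometry
open AbSch

namespace Groth.Agent.S19288

/-- Let S be a scheme, X a commutative S-group scheme which is etale and separated over S (hence locally
of finite presentation), and P a commutative S-group scheme of finite presentation over S all of
whose fibres are connected. Then every homomorphism of S-group schemes from P to X is trivial (it
factors through the unit section). -/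
theorem result {S : Scheme.{u}} (P X : Over S)
    [GrpObj P] [IsCommMonObj P] [GrpObj X] [IsCommMonObj X]
    [Etale X.hom] [IsSeparated X.hom]
    [QuasiCompact P.hom] [QuasiSeparated P.hom] [LocallyOfFinitePresentation P.hom]
    (hP : ∀ s : S, ConnectedSpace ↥(P.hom.fiber s))
    (f : P ⟶ X) [IsMonHom f] : f = 1 := by
  let e : S ⟶ X.left := (η[X]).left
  have he : e ≫ X.hom = 𝟙 S := Over.w (η[X])
  have hop : IsOpenImmersion e :=
    Groth.Agent.Lib.Helper20.FinHom.isOpenImmersion_of_section X.hom e he
  have hcl : IsClosedImmersion e :=
    Groth.Agent.Lib.Helper20.FinHom.isClosedImmersion_of_section X.hom e he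
  set Z : Set P.left := f.left.base ⁻¹' Set.range e.base with hZdef
  have hZ : IsClopen Z :=
    ⟨e.isClosedEmbedding.isClosed_range.preimage f.left.continuous,
      e.isOpenEmbedding.isOpen_range.preimage f.left.continuous⟩
  have hZu : ∀ x : P.left, x ∈ Z := by
    intro x
    set s := P.hom.base x with hs
    have := hP s
    have hW : IsClopen ((P.hom.fiberι s).base ⁻¹' Z) := hZ.preimage (P.hom.fiberι s).continuous
    rcases isClopen_iff.mp hW with h | h
    · exfalso
      let ep : S ⟶ P.left := (η[P]).left
      have hep : ep ≫ P.hom = 𝟙 S := Over.w (η[P])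
      have h1 : P.hom.base (ep.base s) = s := by
        have := congrArg (fun g : S ⟶ S => g.base s) hep
        simpa using this
      have h2 : ep.base s ∈ Set.range (P.hom.fiberι s).base := by
        rw [Scheme.Hom.range_fiberι]
        exact h1
      obtain ⟨y, hy⟩ := h2
      have h3 : ep ≫ f.left = e :=
        congrArg (fun g => CommaMorphism.left g) (IsMonHom.one_hom (f := f))
      have h4 : y ∈ (P.hom.fiberι s).base ⁻¹' Z := by
        show f.left.base ((P.hom.fiberι s).base y) ∈ Set.range e.base
        rw [hy]
        refine ⟨s, ?_⟩
        have := congrArg (fun g : S ⟶ X.left => g.base s) h3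
        simpa using this.symm
      rw [h] at h4
      exact h4
    · have hx : x ∈ Set.range (P.hom.fiberι s).base := by
        rw [Scheme.Hom.range_fiberι]
        rfl
      obtain ⟨y, hy⟩ := hx
      have : y ∈ (P.hom.fiberι s).base ⁻¹' Z := by rw [h]; trivial
      rw [← hy]
      exact this
  have hrange : Set.range f.left.base ⊆ Set.range e.base := by
    rintro _ ⟨x, rfl⟩
    exact hZu x
  have hg : IsOpenImmersion.lift e f.left hrange ≫ e = f.left := IsOpenImmersion.lift_fac _ _ _
  have hg' : IsOpenImmersion.lift e f.left hrange = P.hom := by
    have h1 := congrArg (fun g => g ≫ X.hom) hg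
    simp only [Category.assoc, he, Category.comp_id, Over.w] at h1
    exact h1
  rw [Hom.one_def]
  ext : 1
  rw [← hg, hg']
  simp [e]

end Groth.Agent.S19288
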