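import Groth.Statements.S19306
import Mathlib
-- import your own Groth.Agent.* helpers here

set_option autoImplicit false
universe u
open PowerSeries
open CAlg

namespace Groth.Agent.S19306.Aux

set_option autoImplicit false

namespace LatPS


open PowerSeries

variable {R : Type u} [CommRing R]

theorem vec_div {l m : ℕ} (f : Fin l → R) (w : Fin m → R⟦X⟧) (z : Fin l → (Fin m → R⟦X⟧))
    (h : (X : R⟦X⟧) • w = ∑ i, f i • z i) :
    ∃ z' : Fin l → (Fin m → R⟦X⟧), w = ∑ i, f i • z' i := by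
  refine ⟨fun i c => mk fun p => coeff (p + 1) (z i c), ?_⟩
  funext c
  ext p
  have h1 := congrArg (fun u => coeff (p + 1) (u c)) h
  simp only [Pi.smul_apply, smul_eq_mul, coeff_succ_X_mul, Finset.sum_apply, map_sum] at h1
  rw [h1]
  simp only [Finset.sum_apply, Pi.smul_apply, map_sum]
  apply Finset.sum_congr rfl
  intro i _
  simp [coeff_smul]

variable {n M : ℕ}

theorem claimA (Λ : Submodule R⟦X⟧ (Fin n → R⟦X⟧)) [Module.Finite R⟦X⟧ Λ]
    [Module.Projective R⟦X⟧ Λ] {l : ℕ} (f : Fin l → R) (lam : Λ) (μ : Fin l → Λ)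
    (h : (X : R⟦X⟧) • lam = ∑ i, f i • μ i) : ∃ μ' : Fin l → Λ, lam = ∑ i, f i • μ' i := by
  obtain ⟨m, ff, g, -, -, hfg⟩ := Module.Finite.exists_comp_eq_id_of_projective R⟦X⟧ Λ
  have hfg' : ∀ y : Λ, ff (g y) = y := fun y => LinearMap.congr_fun hfg y
  have h1 : (X : R⟦X⟧) • g lam = ∑ i, f i • g (μ i) := by
    rw [← map_smul, h, map_sum]
    apply Finset.sum_congr rfl
    intro i _
    exact LinearMap.map_smul_of_tower g (f i) (μ i)
  obtain ⟨z', hz'⟩ := vec_div f (g lam) (fun i => g (μ i)) h1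
  refine ⟨fun i => ff (z' i), ?_⟩
  rw [← hfg' lam, hz', map_sum]
  apply Finset.sum_congr rfl
  intro i _
  exact LinearMap.map_smul_of_tower ff (f i) (z' i)

theorem key (Λ : Submodule R⟦X⟧ (Fin n → R⟦X⟧)) [Module.Finite R⟦X⟧ Λ]
    [Module.Projective R⟦X⟧ Λ]
    (hΛ : ∀ v : Fin n → R⟦X⟧, ((X : R⟦X⟧) ^ M) • v ∈ Λ) {l : ℕ} (f : Fin l → R)
    (v : Fin l → (Fin n → R⟦X⟧)) (hv : ∑ i, f i • v i ∈ Λ) :
    ∃ μ : Fin l → Λ, ∑ i, f i • v i = ∑ i, f i • (μ i : Fin n → R⟦X⟧) := by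
  set w : Λ := ⟨∑ i, f i • v i, hv⟩ with hw
  have step : ∀ j, (∃ μ : Fin l → Λ, ((X : R⟦X⟧) ^ (j + 1)) • w = ∑ i, f i • μ i) →
      ∃ μ : Fin l → Λ, ((X : R⟦X⟧) ^ j) • w = ∑ i, f i • μ i := by
    rintro j ⟨μ, hμ⟩
    apply claimA Λ f _ μ
    rw [← hμ, pow_succ', mul_smul]
  have hM : ∃ μ : Fin l → Λ, ((X : R⟦X⟧) ^ M) • w = ∑ i, f i • μ i := by
    refine ⟨fun i => ⟨((X : R⟦X⟧) ^ M) • v i, hΛ _⟩, ?_⟩
    apply Subtype.ext
    simp only [hw, Submodule.coe_smul, Submodule.coe_sum, Finset.smul_sum]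
    apply Finset.sum_congr rfl
    intro i _
    rw [smul_comm]
    rfl
  have hdown : ∀ d j, j + d = M →
      ∃ μ : Fin l → Λ, ((X : R⟦X⟧) ^ j) • w = ∑ i, f i • μ i := by
    intro d
    induction d with
    | zero =>
      intro j hj
      rw [add_zero] at hj
      rw [hj]
      exact hM
    | succ d ih =>
      intro j hj
      apply step
      apply ih
      omega
  obtain ⟨μ, hμ⟩ := hdown M 0 (by omega)
  refine ⟨μ, ?_⟩
  rw [pow_zero, one_smul] at hμ
  have := congrArg (fun y : Λ => (y : Fin n → R⟦X⟧)) hμ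
  simp only [hw, Submodule.coe_sum] at this
  rw [this]
  apply Finset.sum_congr rfl
  intro i _
  rfl

theorem ps_trunc (M : ℕ) (s : R⟦X⟧) :
    s = ∑ t : Fin M, C (coeff (t : ℕ) s) * X ^ (t : ℕ) +
      X ^ M * mk (fun i => coeff (i + M) s) := by
  ext p
  rw [map_add, map_sum]
  simp only [coeff_C_mul, coeff_X_pow, coeff_X_pow_mul', coeff_mk]
  by_cases hp : p < M
  · rw [Finset.sum_eq_single ⟨p, hp⟩]
    · simp [not_le.mpr hp]
    · intro t _ ht
      have : p ≠ (t : ℕ) := fun h => ht (Fin.ext h.symm)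
      simp [this]
    · intro h
      exact absurd (Finset.mem_univ _) h
  · have hM : M ≤ p := not_lt.mp hp
    rw [Finset.sum_eq_zero]
    · simp [hM, Nat.sub_add_cancel hM]
    · intro t _
      have : p ≠ (t : ℕ) := fun h => hp (h ▸ t.2)
      simp [this]

theorem vec_trunc (M : ℕ) (u : Fin n → R⟦X⟧) :
    u = ∑ c : Fin n, ∑ t : Fin M, (coeff (t : ℕ) (u c)) •
          (((X : R⟦X⟧) ^ (t : ℕ)) • (Pi.single c (1 : R⟦X⟧) : Fin n → R⟦X⟧))
        + ((X : R⟦X⟧) ^ M) • (fun c => mk (fun i => coeff (i + M) (u c))) := by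
  funext c'
  simp only [Pi.add_apply, Finset.sum_apply, Pi.smul_apply, smul_eq_mul]
  rw [Finset.sum_eq_single c']
  · simp only [Pi.single_eq_same, mul_one]
    conv_lhs => rw [ps_trunc M (u c')]
    congr 1
    apply Finset.sum_congr rfl
    intro t _
    rw [smul_eq_C_mul]
  · intro c _ hc
    apply Finset.sum_eq_zero
    intro t _
    simp [Pi.single_apply, hc.symm]
  · intro h
    exact absurd (Finset.mem_univ _) h

theorem flat_quot (Λ : Submodule R⟦X⟧ (Fin n → R⟦X⟧)) [Module.Finite R⟦X⟧ Λ]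
    [Module.Projective R⟦X⟧ Λ]
    (hΛ : ∀ v : Fin n → R⟦X⟧, ((X : R⟦X⟧) ^ M) • v ∈ Λ) :
    Module.Flat R ((Fin n → R⟦X⟧) ⧸ Λ) := by
  classical
  apply Module.Flat.of_forall_isTrivialRelation
  intro l f x hx
  set q : (Fin n → R⟦X⟧) →ₗ[R] ((Fin n → R⟦X⟧) ⧸ Λ) := Λ.mkQ.restrictScalars R with hq
  have hq0 : ∀ y, q y = 0 ↔ y ∈ Λ := fun y => Submodule.Quotient.mk_eq_zero Λ
  choose v hv using fun i => Submodule.Quotient.mk_surjective Λ (x i)
  have hv' : ∀ i, q (v i) = x i := hv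
  have hmem : ∑ i, f i • v i ∈ Λ := by
    rw [← hq0, map_sum]
    simp only [map_smul, hv']
    exact hx
  obtain ⟨μ, hμ⟩ := key Λ hΛ f v hmem
  set u : Fin l → (Fin n → R⟦X⟧) := fun i => v i - μ i with hu
  have hu0 : ∑ i, f i • u i = 0 := by
    simp only [hu, smul_sub, Finset.sum_sub_distrib, hμ, sub_self]
  have hux : ∀ i, q (u i) = x i := by
    intro i
    rw [hu, map_sub, hv', (hq0 _).mpr (μ i).2, sub_zero]
  refine ⟨n * M,
    fun i j => coeff ((finProdFinEquiv.symm j).2 : ℕ) (u i (finProdFinEquiv.symm j).1),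
    fun j => q (((X : R⟦X⟧) ^ ((finProdFinEquiv.symm j).2 : ℕ)) •
      (Pi.single (finProdFinEquiv.symm j).1 (1 : R⟦X⟧) : Fin n → R⟦X⟧)), ?_, ?_⟩
  · intro i
    rw [← hux i]
    rw [← Equiv.sum_comp finProdFinEquiv]
    simp only [Equiv.symm_apply_apply]
    rw [Fintype.sum_prod_type]
    conv_lhs => rw [vec_trunc M (u i)]
    rw [map_add]
    have h0 : q (((X : R⟦X⟧) ^ M) • (fun c => mk (fun i' => coeff (i' + M) (u i c)))) = 0 :=
      (hq0 _).mpr (hΛ _)
    rw [h0, add_zero, map_sum]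
    apply Finset.sum_congr rfl
    intro c _
    rw [map_sum]
    apply Finset.sum_congr rfl
    intro t _
    rw [map_smul]
  · intro j
    have h1 := congrArg (fun w : Fin n → R⟦X⟧ =>
      coeff ((finProdFinEquiv.symm j).2 : ℕ) (w (finProdFinEquiv.symm j).1)) hu0
    simp only [Finset.sum_apply, Pi.smul_apply, map_sum, coeff_smul, Pi.zero_apply, map_zero,
      smul_eq_mul] at h1
    exact h1

/-- polynomial vectors of degree `< M` -/
noncomputable def Tr (n M : ℕ) : (Fin n × Fin M → R) →ₗ[R] (Fin n → R⟦X⟧) where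
  toFun a := ∑ c : Fin n, ∑ t : Fin M, (a (c, t)) •
          (((X : R⟦X⟧) ^ (t : ℕ)) • (Pi.single c (1 : R⟦X⟧) : Fin n → R⟦X⟧))
  map_add' a b := by
    simp only [Pi.add_apply, add_smul, Finset.sum_add_distrib]
  map_smul' r a := by
    simp only [Pi.smul_apply, smul_eq_mul, mul_smul, Finset.smul_sum, RingHom.id_apply]

/-- low coefficients -/
noncomputable def tau (n M : ℕ) : (Fin n → R⟦X⟧) →ₗ[R] (Fin n × Fin M → R) where
  toFun y := fun p => coeff (p.2 : ℕ) (y p.1)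
  map_add' a b := by
    funext p
    simp
  map_smul' r a := by
    funext p
    simp

theorem Tr_tau (y : Fin n → R⟦X⟧) :
    y = Tr n M (tau n M y) + ((X : R⟦X⟧) ^ M) • (fun c => mk (fun i => coeff (i + M) (y c))) :=
  vec_trunc M y

theorem tau_X_pow_smul (y : Fin n → R⟦X⟧) : tau n M (((X : R⟦X⟧) ^ M) • y) = 0 := by
  funext p
  simp only [tau, LinearMap.coe_mk, AddHom.coe_mk, Pi.smul_apply, smul_eq_mul, Pi.zero_apply]
  rw [coeff_X_pow_mul']
  simp [not_le.mpr p.2.2]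

theorem tau_Tr (a : Fin n × Fin M → R) : tau n M (Tr n M a) = a := by
  funext p
  obtain ⟨c', t'⟩ := p
  simp only [tau, Tr, LinearMap.coe_mk, AddHom.coe_mk, Finset.sum_apply, Pi.smul_apply,
    smul_eq_mul, map_sum, coeff_smul]
  rw [Finset.sum_eq_single c']
  · rw [Finset.sum_eq_single t']
    · simp [coeff_X_pow]
    · intro t _ ht
      have : (t' : ℕ) ≠ (t : ℕ) := fun h => ht (Fin.ext h.symm)
      simp [coeff_X_pow, this]
    · intro h
      exact absurd (Finset.mem_univ _) h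
  · intro c _ hc
    apply Finset.sum_eq_zero
    intro t _
    simp [hc.symm]
  · intro h
    exact absurd (Finset.mem_univ _) h

theorem tau_smul_mem (lam : Fin n → R⟦X⟧) (c : R⟦X⟧) :
    tau n M (c • lam) ∈ Submodule.span R
      (Set.range fun t : Fin M => tau n M (((X : R⟦X⟧) ^ (t : ℕ)) • lam)) := by
  have hc := ps_trunc M c
  have h1 : c • lam = ∑ t : Fin M, (coeff (t : ℕ) c) • (((X : R⟦X⟧) ^ (t : ℕ)) • lam) +
      ((X : R⟦X⟧) ^ M) • ((mk fun i => coeff (i + M) c) • lam) := by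
    conv_lhs => rw [hc]
    rw [add_smul, Finset.sum_smul, mul_smul]
    congr 1
    apply Finset.sum_congr rfl
    intro t _
    rw [mul_smul]
    have hC : (C (coeff (t : ℕ) c) : R⟦X⟧) = algebraMap R R⟦X⟧ (coeff (t : ℕ) c) := by
      simp [PowerSeries.algebraMap_apply]
    rw [hC, algebraMap_smul]
  rw [h1, map_add, tau_X_pow_smul, add_zero, map_sum]
  apply Submodule.sum_mem
  intro t _
  rw [map_smul]
  exact Submodule.smul_mem _ _ (Submodule.subset_span ⟨t, rfl⟩)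

theorem fp_quot (Λ : Submodule R⟦X⟧ (Fin n → R⟦X⟧)) [Module.Finite R⟦X⟧ Λ]
    (hΛ : ∀ v : Fin n → R⟦X⟧, ((X : R⟦X⟧) ^ M) • v ∈ Λ) :
    Module.FinitePresentation R ((Fin n → R⟦X⟧) ⧸ Λ) := by
  classical
  set q : (Fin n → R⟦X⟧) →ₗ[R] ((Fin n → R⟦X⟧) ⧸ Λ) := Λ.mkQ.restrictScalars R with hq
  have hq0 : ∀ y, q y = 0 ↔ y ∈ Λ := fun y => Submodule.Quotient.mk_eq_zero Λ
  have hqTr : ∀ y, q (Tr n M (tau n M y)) = q y := by
    intro y
    conv_rhs => rw [Tr_tau (M := M) y]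
    rw [map_add, (hq0 _).mpr (hΛ _), add_zero]
  set l : (Fin n × Fin M → R) →ₗ[R] ((Fin n → R⟦X⟧) ⧸ Λ) := q ∘ₗ Tr n M with hl
  have hsurj : Function.Surjective l := by
    intro y
    obtain ⟨y', rfl⟩ := Submodule.Quotient.mk_surjective Λ y
    exact ⟨tau n M y', hqTr y'⟩
  apply Module.finitePresentation_of_free_of_surjective l hsurj
  obtain ⟨s, hs⟩ := Module.Finite.fg_top (R := R⟦X⟧) (M := Λ)
  let Gset : Set (Fin n × Fin M → R) := ⋃ lam ∈ s, Set.range fun t : Fin M =>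
    tau n M (((X : R⟦X⟧) ^ (t : ℕ)) • (lam : Fin n → R⟦X⟧))
  have hfin : Gset.Finite :=
    Set.Finite.biUnion s.finite_toSet (fun _ _ => Set.finite_range _)
  have hker : LinearMap.ker l = Submodule.span R Gset := by
    apply le_antisymm
    · intro a ha
      have hTr : Tr n M a ∈ Λ := by
        rw [← hq0]
        exact ha
      have hall : ∀ w : Λ, ∀ c : R⟦X⟧, tau n M (c • (w : Fin n → R⟦X⟧)) ∈ Submodule.span R Gset := by
        intro w
        have hw : w ∈ Submodule.span R⟦X⟧ (s : Set Λ) := by rw [hs]; exact Submodule.mem_top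
        induction hw using Submodule.span_induction with
        | mem x hx =>
          intro c
          have hsub : Submodule.span R (Set.range fun t : Fin M =>
              tau n M (((X : R⟦X⟧) ^ (t : ℕ)) • (x : Fin n → R⟦X⟧))) ≤ Submodule.span R Gset := by
            apply Submodule.span_mono
            intro z hz
            exact Set.mem_biUnion hx hz
          exact hsub (tau_smul_mem (x : Fin n → R⟦X⟧) c)
        | zero =>
          intro c
          simp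
        | add x y _ _ hx hy =>
          intro c
          rw [Submodule.coe_add, smul_add, map_add]
          exact Submodule.add_mem _ (hx c) (hy c)
        | smul a x _ hx =>
          intro c
          rw [Submodule.coe_smul, ← mul_smul]
          exact hx (c * a)
      have := hall ⟨Tr n M a, hTr⟩ 1
      rw [one_smul] at this
      change tau n M (Tr n M a) ∈ _ at this
      rwa [tau_Tr] at this
    · rw [Submodule.span_le]
      intro z hz
      obtain ⟨lam, hlam, t, rfl⟩ : ∃ lam ∈ s, ∃ t : Fin M,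
          tau n M (((X : R⟦X⟧) ^ (t : ℕ)) • (lam : Fin n → R⟦X⟧)) = z := by
        simpa [Gset] using hz
      change l _ = 0
      rw [hl, LinearMap.comp_apply, hqTr, hq0]
      exact Λ.smul_mem _ lam.2
  rw [hker]
  exact Submodule.fg_span hfin

theorem proj_quot (Λ : Submodule R⟦X⟧ (Fin n → R⟦X⟧)) [Module.Finite R⟦X⟧ Λ]
    [Module.Projective R⟦X⟧ Λ]
    (hΛ : ∀ v : Fin n → R⟦X⟧, ((X : R⟦X⟧) ^ M) • v ∈ Λ) :
    Module.Projective R ((Fin n → R⟦X⟧) ⧸ Λ) := by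
  haveI := flat_quot Λ hΛ
  haveI := fp_quot Λ hΛ
  exact Module.Flat.projective_of_finitePresentation

section converse

open TensorProduct

variable (Λ : Submodule R⟦X⟧ (Fin n → R⟦X⟧))
    (hΛ : ∀ v : Fin n → R⟦X⟧, ((X : R⟦X⟧) ^ M) • v ∈ Λ)

include hΛ in
theorem finite_quot : Module.Finite R ((Fin n → R⟦X⟧) ⧸ Λ) := by
  set q : (Fin n → R⟦X⟧) →ₗ[R] ((Fin n → R⟦X⟧) ⧸ Λ) := Λ.mkQ.restrictScalars R with hq
  have hq0 : ∀ y, q y = 0 ↔ y ∈ Λ := fun y => Submodule.Quotient.mk_eq_zero Λ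
  have hqTr : ∀ y, q (Tr n M (tau n M y)) = q y := by
    intro y
    conv_rhs => rw [Tr_tau (M := M) y]
    rw [map_add, (hq0 _).mpr (hΛ _), add_zero]
  apply Module.Finite.of_surjective (q ∘ₗ Tr n M)
  intro y
  obtain ⟨y', rfl⟩ := Submodule.Quotient.mk_surjective Λ y
  exact ⟨tau n M y', hqTr y'⟩

include hΛ in
theorem X_pow_smul_quot (y : (Fin n → R⟦X⟧) ⧸ Λ) : ((X : R⟦X⟧) ^ M) • y = 0 := by
  obtain ⟨y', rfl⟩ := Submodule.Quotient.mk_surjective Λ y
  rw [← Submodule.Quotient.mk_smul, Submodule.Quotient.mk_eq_zero]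
  exact hΛ y'

/-- multiplication by `X` on the quotient, as an `R`-linear map -/
noncomputable def xQ : Module.End R ((Fin n → R⟦X⟧) ⧸ Λ) :=
  ((X : R⟦X⟧) • (LinearMap.id : ((Fin n → R⟦X⟧) ⧸ Λ) →ₗ[R⟦X⟧] ((Fin n → R⟦X⟧) ⧸ Λ))).restrictScalars R

theorem xQ_pow_apply (j : ℕ) (y : (Fin n → R⟦X⟧) ⧸ Λ) :
    ((xQ Λ) ^ j) y = ((X : R⟦X⟧) ^ j) • y := by
  induction j generalizing y with
  | zero => simp
  | succ j ih =>
    rw [pow_succ, Module.End.mul_apply, ih, pow_succ, mul_smul]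
    rfl

/-- evaluation map -/
noncomputable def eps : (R⟦X⟧ ⊗[R] ((Fin n → R⟦X⟧) ⧸ Λ)) →ₗ[R⟦X⟧] ((Fin n → R⟦X⟧) ⧸ Λ) :=
  LinearMap.liftBaseChange R⟦X⟧ (LinearMap.id : ((Fin n → R⟦X⟧) ⧸ Λ) →ₗ[R] _)

theorem eps_tmul (s : R⟦X⟧) (y : (Fin n → R⟦X⟧) ⧸ Λ) : eps Λ (s ⊗ₜ[R] y) = s • y := by
  simp [eps]

/-- the map `X - x` -/
noncomputable def psi : Module.End R⟦X⟧ (R⟦X⟧ ⊗[R] ((Fin n → R⟦X⟧) ⧸ Λ)) :=
  (X : R⟦X⟧) • (1 : Module.End R⟦X⟧ _) - (xQ Λ).baseChange R⟦X⟧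

theorem psi_tmul (s : R⟦X⟧) (y : (Fin n → R⟦X⟧) ⧸ Λ) :
    psi Λ (s ⊗ₜ[R] y) = (X * s) ⊗ₜ[R] y - s ⊗ₜ[R] ((X : R⟦X⟧) • y) := by
  simp only [psi, LinearMap.sub_apply, LinearMap.smul_apply, Module.End.one_apply,
    LinearMap.baseChange_tmul, TensorProduct.smul_tmul', smul_eq_mul]
  rfl

theorem eps_psi (e : R⟦X⟧ ⊗[R] ((Fin n → R⟦X⟧) ⧸ Λ)) : eps Λ (psi Λ e) = 0 := by
  induction e using TensorProduct.induction_on with
  | zero => simp
  | tmul s y =>
    rw [psi_tmul, map_sub, eps_tmul, eps_tmul, mul_comm, mul_smul, sub_self]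
  | add a b ha hb => rw [map_add, map_add, ha, hb, add_zero]

theorem isRegular_X : IsRegular (X : R⟦X⟧) :=
  ⟨fun a b h => X_mul_cancel h, fun a b h => by
    simp only [mul_comm _ (X : R⟦X⟧)] at h
    exact X_mul_cancel h⟩

include hΛ in
theorem psi_injective [Module.Projective R ((Fin n → R⟦X⟧) ⧸ Λ)] :
    Function.Injective (psi Λ) := by
  rw [injective_iff_map_eq_zero]
  intro e he
  set u := (xQ Λ).baseChange R⟦X⟧ with hu
  have h1 : (X : R⟦X⟧) • e = u e := by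
    have : psi Λ e = (X : R⟦X⟧) • e - u e := by
      simp [psi, hu]
    rw [this, sub_eq_zero] at he
    exact he
  have h2 : ∀ j : ℕ, ((X : R⟦X⟧) ^ j) • e = (u ^ j) e := by
    intro j
    induction j with
    | zero => simp
    | succ j ih =>
      rw [pow_succ, mul_smul, h1, ← map_smul, ih, pow_succ', Module.End.mul_apply]
  have h3 : u ^ M = 0 := by
    rw [hu, ← LinearMap.baseChange_pow]
    have : (xQ Λ) ^ M = 0 := by
      ext y
      rw [xQ_pow_apply, X_pow_smul_quot Λ hΛ]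
      rfl
    rw [this, LinearMap.baseChange_zero]
  have h4 : ((X : R⟦X⟧) ^ M) • e = 0 := by rw [h2 M, h3]; rfl
  have hreg : IsSMulRegular (R⟦X⟧ ⊗[R] ((Fin n → R⟦X⟧) ⧸ Λ)) ((X : R⟦X⟧) ^ M) :=
    Module.Flat.isSMulRegular_of_isRegular ((isRegular_X).pow M)
  exact hreg (show ((X : R⟦X⟧) ^ M) • e = ((X : R⟦X⟧) ^ M) • 0 by rw [h4, smul_zero])

theorem lemC (t : ℕ) : ∀ (s : R⟦X⟧) (y : (Fin n → R⟦X⟧) ⧸ Λ),
    (X ^ t * s) ⊗ₜ[R] y - s ⊗ₜ[R] (((X : R⟦X⟧) ^ t) • y) ∈ LinearMap.range (psi Λ) := by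
  induction t with
  | zero =>
    intro s y
    simp
  | succ t ih =>
    intro s y
    have h1 : (X ^ (t + 1) * s) ⊗ₜ[R] y - s ⊗ₜ[R] (((X : R⟦X⟧) ^ (t + 1)) • y) =
        psi Λ ((X ^ t * s) ⊗ₜ[R] y) +
          ((X ^ t * s) ⊗ₜ[R] ((X : R⟦X⟧) • y) - s ⊗ₜ[R] (((X : R⟦X⟧) ^ t) • ((X : R⟦X⟧) • y))) := by
      have hX : ((X : R⟦X⟧) ^ (t + 1)) • y = ((X : R⟦X⟧) ^ t) • ((X : R⟦X⟧) • y) := by
        rw [pow_succ, mul_smul]
      rw [hX, psi_tmul, pow_succ', mul_assoc]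
      abel
    rw [h1]
    exact Submodule.add_mem _ (LinearMap.mem_range_self _ _) (ih s _)

include hΛ in
theorem ker_eps_le : LinearMap.ker (eps Λ) ≤ LinearMap.range (psi Λ) := by
  have key : ∀ e : R⟦X⟧ ⊗[R] ((Fin n → R⟦X⟧) ⧸ Λ),
      e - (1 : R⟦X⟧) ⊗ₜ[R] (eps Λ e) ∈ LinearMap.range (psi Λ) := by
    intro e
    induction e using TensorProduct.induction_on with
    | zero => simp
    | tmul s y =>
      rw [eps_tmul]
      have hs := ps_trunc M s
      set s' := mk fun i => coeff (i + M) s with hs'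
      have h1 : s ⊗ₜ[R] y = ∑ t : Fin M, (X ^ (t : ℕ) * C (coeff (t : ℕ) s)) ⊗ₜ[R] y +
          (X ^ M * s') ⊗ₜ[R] y := by
        conv_lhs => rw [hs]
        rw [TensorProduct.add_tmul, TensorProduct.sum_tmul]
        congr 1
        apply Finset.sum_congr rfl
        intro t _
        rw [mul_comm]
      have h2 : (1 : R⟦X⟧) ⊗ₜ[R] (s • y) =
          ∑ t : Fin M, (C (coeff (t : ℕ) s)) ⊗ₜ[R] (((X : R⟦X⟧) ^ (t : ℕ)) • y) +
            s' ⊗ₜ[R] (((X : R⟦X⟧) ^ M) • y) := by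
        rw [X_pow_smul_quot Λ hΛ y, TensorProduct.tmul_zero, add_zero]
        conv_lhs => rw [hs]
        rw [add_smul, mul_smul, X_pow_smul_quot Λ hΛ, add_zero, Finset.sum_smul,
          TensorProduct.tmul_sum]
        apply Finset.sum_congr rfl
        intro t _
        rw [mul_smul]
        have hC : (C (coeff (t : ℕ) s) : R⟦X⟧) = algebraMap R R⟦X⟧ (coeff (t : ℕ) s) := by
          simp
        rw [hC, algebraMap_smul, TensorProduct.tmul_smul, TensorProduct.smul_tmul',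
          Algebra.smul_def, mul_one]
      rw [h1, h2]
      have h3 : (∑ t : Fin M, (X ^ (t : ℕ) * C (coeff (t : ℕ) s)) ⊗ₜ[R] y +
          (X ^ M * s') ⊗ₜ[R] y) -
          (∑ t : Fin M, (C (coeff (t : ℕ) s)) ⊗ₜ[R] (((X : R⟦X⟧) ^ (t : ℕ)) • y) +
            s' ⊗ₜ[R] (((X : R⟦X⟧) ^ M) • y)) =
          ∑ t : Fin M, ((X ^ (t : ℕ) * C (coeff (t : ℕ) s)) ⊗ₜ[R] y -
            (C (coeff (t : ℕ) s)) ⊗ₜ[R] (((X : R⟦X⟧) ^ (t : ℕ)) • y)) +
          ((X ^ M * s') ⊗ₜ[R] y - s' ⊗ₜ[R] (((X : R⟦X⟧) ^ M) • y)) := by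
        rw [Finset.sum_sub_distrib]
        abel
      rw [h3]
      apply Submodule.add_mem
      · apply Submodule.sum_mem
        intro t _
        exact lemC Λ _ _ _
      · exact lemC Λ _ _ _
    | add a b ha hb =>
      have : a + b - (1 : R⟦X⟧) ⊗ₜ[R] (eps Λ (a + b)) =
          (a - (1 : R⟦X⟧) ⊗ₜ[R] (eps Λ a)) + (b - (1 : R⟦X⟧) ⊗ₜ[R] (eps Λ b)) := by
        rw [map_add, TensorProduct.tmul_add]
        abel
      rw [this]
      exact Submodule.add_mem _ ha hb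
  intro e he
  have := key e
  rw [LinearMap.mem_ker.mp he, TensorProduct.tmul_zero, sub_zero] at this
  exact this

include hΛ in
theorem lattice_proj [Module.Projective R ((Fin n → R⟦X⟧) ⧸ Λ)] :
    Module.Finite R⟦X⟧ Λ ∧ Module.Projective R⟦X⟧ Λ := by
  haveI : Module.Finite R ((Fin n → R⟦X⟧) ⧸ Λ) := finite_quot Λ hΛ
  have hinj := psi_injective Λ hΛ
  have hrange : LinearMap.range (psi Λ) = LinearMap.ker (eps Λ) := by
    apply le_antisymm
    · rintro _ ⟨e, rfl⟩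
      exact eps_psi Λ e
    · exact ker_eps_le Λ hΛ
  let κ : (R⟦X⟧ ⊗[R] ((Fin n → R⟦X⟧) ⧸ Λ)) ≃ₗ[R⟦X⟧] LinearMap.ker (eps Λ) :=
    (LinearEquiv.ofInjective (psi Λ) hinj).trans (LinearEquiv.ofEq _ _ hrange)
  haveI : Module.Finite R⟦X⟧ (LinearMap.ker (eps Λ)) := Module.Finite.equiv κ
  haveI : Module.Projective R⟦X⟧ (LinearMap.ker (eps Λ)) := Module.Projective.of_equiv κ
  have heps_surj : Function.Surjective (eps Λ) := fun y => ⟨1 ⊗ₜ y, by simp [eps_tmul]⟩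
  obtain ⟨σ, hσ⟩ := Module.projective_lifting_property Λ.mkQ (eps Λ) (Submodule.mkQ_surjective Λ)
  obtain ⟨τ', hτ'⟩ := Module.projective_lifting_property (eps Λ) Λ.mkQ heps_surj
  have hσ' : ∀ e, Λ.mkQ (σ e) = eps Λ e := fun e => LinearMap.congr_fun hσ e
  have hτ'' : ∀ y, eps Λ (τ' y) = Λ.mkQ y := fun y => LinearMap.congr_fun hτ' y
  have hmk0 : ∀ y, Λ.mkQ y = 0 ↔ y ∈ Λ := fun y => Submodule.Quotient.mk_eq_zero Λ
  let i : Λ →ₗ[R⟦X⟧] ((Fin n → R⟦X⟧) × LinearMap.ker (eps Λ)) :=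
    LinearMap.prod Λ.subtype
      (LinearMap.codRestrict (LinearMap.ker (eps Λ)) (-(τ' ∘ₗ Λ.subtype)) (by
        intro lam
        rw [LinearMap.mem_ker, LinearMap.neg_apply, map_neg, LinearMap.comp_apply, hτ'',
          Submodule.subtype_apply, (hmk0 _).mpr lam.2, neg_zero]))
  let r : ((Fin n → R⟦X⟧) × LinearMap.ker (eps Λ)) →ₗ[R⟦X⟧] Λ :=
    LinearMap.codRestrict Λ
      (LinearMap.fst _ _ _ - σ ∘ₗ ((LinearMap.ker (eps Λ)).subtype ∘ₗ LinearMap.snd _ _ _ +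
        τ' ∘ₗ LinearMap.fst _ _ _)) (by
        rintro ⟨y, z⟩
        rw [← hmk0]
        have hz : eps Λ z.1 = 0 := z.2
        simp only [LinearMap.sub_apply, LinearMap.fst_apply, LinearMap.comp_apply,
          LinearMap.add_apply, LinearMap.snd_apply, Submodule.subtype_apply, map_sub, map_add,
          hσ', hτ'', hz, zero_add, sub_self])
  have hri : r ∘ₗ i = LinearMap.id := by
    ext lam : 1
    apply Subtype.ext
    simp [r, i]
  refine ⟨Module.Finite.of_surjective r ?_, Module.Projective.of_split i r hri⟩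
  intro lam
  exact ⟨i lam, LinearMap.congr_fun hri lam⟩

end converse

theorem main (Λ : Submodule R⟦X⟧ (Fin n → R⟦X⟧))
    (hΛ : ∀ v : Fin n → R⟦X⟧, ((X : R⟦X⟧) ^ M) • v ∈ Λ) :
    (Module.Finite R⟦X⟧ Λ ∧ Module.Projective R⟦X⟧ Λ) ↔
      Module.Projective R ((Fin n → R⟦X⟧) ⧸ Λ) := by
  constructor
  · rintro ⟨h1, h2⟩
    exact proj_quot Λ hΛ
  · intro h
    exact lattice_proj Λ hΛ

end LatPS

end Groth.Agent.S19306.Aux

namespace Groth.Agent.S19306

/-- Let k be a field, R a commutative k-algebra, n, M natural numbers and Λ an R⟦X⟧-submodule of the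
free module R⟦X⟧^n with X^M · R⟦X⟧^n ⊆ Λ. Then Λ is a finitely generated projective R⟦X⟧-module if
and only if the quotient R⟦X⟧^n / Λ is projective as an R-module. (The published statement
identifies, functorially in R, the families of lattices between t^N Λ₀ and t^{-N} Λ₀ in R((t))^n, Λ₀
the standard lattice, with the R⟦t⟧-submodules in that range whose quotient t^{-N} Λ₀ / Λ is
R-projective; after multiplying by t^N this is the pointwise statement here, with 2N replaced by any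
exponent M; a submodule containing X^M · R⟦X⟧^n automatically spans R((X))^n.) -/
theorem result
    (k : Type u) [Field k] (R : Type u) [CommRing R] [Algebra k R] (n M : ℕ)
    (Λ : Submodule R⟦X⟧ (Fin n → R⟦X⟧))
    (hΛ : ∀ v : Fin n → R⟦X⟧, ((PowerSeries.X : R⟦X⟧) ^ M) • v ∈ Λ) :
    (Module.Finite R⟦X⟧ Λ ∧ Module.Projective R⟦X⟧ Λ) ↔
      Module.Projective R ((Fin n → R⟦X⟧) ⧸ Λ) := by
  exact Aux.LatPS.main Λ hΛ

end Groth.Agent.S19306
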