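import Groth.Statements.S19307
import Groth.Agent.Lib.Helper3PSTors
import Mathlib

set_option autoImplicit false
set_option linter.style.haveILetI false
universe u
open CategoryTheory MonoidalCategory CartesianMonoidalCategory MonObj GrpObj AlgebraicGeometry PowerSeries
open NonAbH1

namespace Groth.Agent.S19307

/-- Let R be a commutative ring, G an affine smooth group scheme over the power series ring R⟦X⟧ and P a
G-torsor over Spec R⟦X⟧ for the fpqc topology. Then there is an étale and faithfully flat R-algebra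
R' such that P has a section over Spec R'⟦X⟧. (The published statement takes R an algebra over a
field and G the base change to R⟦X⟧ of a smooth affine group scheme over the power series ring of
that field; the statement here allows any affine smooth group scheme over R⟦X⟧, to which the
published proof applies unchanged.) -/
theorem result
    (R : Type u) [CommRing R]
    (G : Over (Spec (CommRingCat.of R⟦X⟧))) [GrpObj G] [IsAffine G.left] [Smooth G.hom]
    (P : Over (Spec (CommRingCat.of R⟦X⟧))) (a : AlgGrp.Action G P)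
    (hP : NonAbH1.IsTorsorFor Scheme.fpqcPrecoverage a) :
    ∃ (R' : Type u) (_ : CommRing R') (_ : Algebra R R'),
      Algebra.Etale R R' ∧ Module.FaithfullyFlat R R' ∧
      NonAbH1.HasSectionOver P (Spec.map (CommRingCat.ofHom (PowerSeries.map (algebraMap R R')))) := by
  haveI : IsAffineHom G.hom := isAffineHom_of_isAffine G.hom
  haveI hsm : Smooth P.hom :=
    Groth.Agent.Lib.Helper3.PSTors.prop_of_isTorsorFor_fpqc a @Smooth inferInstance hP inferInstance
  haveI hsj : Surjective P.hom :=
    Groth.Agent.Lib.Helper3.PSTors.prop_of_isTorsorFor_fpqc a @Surjective inferInstance hP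
      (Groth.Agent.Lib.Helper3.PSTors.surjective_of_grpObj G)
  haveI haff : IsAffineHom P.hom :=
    Groth.Agent.Lib.Helper3.PSTors.prop_of_isTorsorFor_fpqc a @IsAffineHom
      Groth.Agent.Lib.Helper12.descendsAlong_isAffineHom hP inferInstance
  haveI : IsAffine P.left := isAffine_of_isAffineHom P.hom
  obtain ⟨e, he⟩ : ∃ e : P.left ≅ Spec Γ(P.left, ⊤), e = P.left.isoSpec := ⟨_, rfl⟩
  obtain ⟨φ, hφ⟩ : ∃ φ : CommRingCat.of R⟦X⟧ ⟶ Γ(P.left, ⊤), Spec.map φ = e.inv ≫ P.hom :=
    ⟨Spec.preimage _, Spec.map_preimage _⟩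
  letI : Algebra R⟦X⟧ Γ(P.left, ⊤) := φ.hom.toAlgebra
  have hsmφ : Smooth (Spec.map φ) := by rw [hφ]; infer_instance
  have hsmQ : Algebra.Smooth R⟦X⟧ Γ(P.left, ⊤) :=
    (HasRingHomProperty.Spec_iff (P := @Smooth)).mp hsmφ
  haveI : Algebra.FormallySmooth R⟦X⟧ Γ(P.left, ⊤) := hsmQ.1
  obtain ⟨R', _, _, hEt, hff, ψ, hψ⟩ :=
    Groth.Agent.Lib.Helper3.PSTors.exists_etale_cover_section R Γ(P.left, ⊤) (fun p => by
      obtain ⟨A, _, _, hA, t, ht, hmem, hopen⟩ :=
        Groth.Agent.Lib.Helper3.PSTors.exists_etale_local_section R P p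
      obtain ⟨ψ, hψ⟩ : ∃ ψ : Γ(P.left, ⊤) ⟶ CommRingCat.of A, Spec.map ψ = t ≫ e.hom :=
        ⟨Spec.preimage _, Spec.map_preimage _⟩
      refine ⟨A, inferInstance, inferInstance, hA, ψ.hom, ?_, hmem, hopen⟩
      have h1 : Spec.map (φ ≫ ψ) = Spec.map (CommRingCat.ofHom
          ((algebraMap R A).comp (constantCoeff (R := R)))) := by
        rw [Spec.map_comp, hψ, hφ, Category.assoc, e.hom_inv_id_assoc, ht]
      have h2 := Spec.map_injective h1
      exact congrArg CommRingCat.Hom.hom h2)
  obtain ⟨g, hg⟩ := Groth.Agent.Lib.Helper3.PSTors.exists_lift_powerSeries R R' Γ(P.left, ⊤) ψ hψ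
  refine ⟨R', inferInstance, inferInstance, hEt, hff, Spec.map (CommRingCat.ofHom g) ≫ e.inv, ?_⟩
  rw [Category.assoc, ← hφ, ← Spec.map_comp]
  congr 1
  ext1
  exact hg

end Groth.Agent.S19307
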