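import Groth.Statements.S19309
import Mathlib.Tactic
import Mathlib.RingTheory.LaurentSeries

set_option autoImplicit false
universe u
open PowerSeries LaurentSeries
open CAlg

namespace Groth.Agent.S19309

/-- Coefficients of the image of a power series in Laurent series. -/
theorem coeff_algebraMap {S : Type u} [CommRing S] (g : S⟦X⟧) (i : ℤ) :
    (algebraMap S⟦X⟧ S⸨X⸩ g).coeff i = if i < 0 then 0 else PowerSeries.coeff i.natAbs g := by
  rw [LaurentSeries.coe_algebraMap]
  exact PowerSeries.coeff_coe (f := g) i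

/-- A ring map of Laurent series compatible with `map φ` on power series acts coefficientwise. -/
theorem coeff_theta {R R' : Type u} [CommRing R] [CommRing R'] (φ : R →+* R')
    (θ : R⸨X⸩ →+* R'⸨X⸩)
    (hθ : θ.comp (algebraMap R⟦X⟧ R⸨X⸩) = (algebraMap R'⟦X⟧ R'⸨X⸩).comp (PowerSeries.map φ))
    (f : R⸨X⸩) (i : ℤ) : (θ f).coeff i = φ (f.coeff i) := by
  obtain ⟨⟨g, ⟨_, n, rfl⟩⟩, hg⟩ :=
    IsLocalization.surj (Submonoid.powers (PowerSeries.X : R⟦X⟧)) f
  simp only at hg
  have e1 := RingHom.congr_fun hθ (PowerSeries.X ^ n)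
  have e2 := RingHom.congr_fun hθ g
  simp only [RingHom.comp_apply] at e1 e2
  have h1 : θ f * algebraMap R'⟦X⟧ R'⸨X⸩ (PowerSeries.X ^ n)
      = algebraMap R'⟦X⟧ R'⸨X⸩ (PowerSeries.map φ g) := by
    have h0 := congrArg θ hg
    rw [map_mul, e1, e2] at h0
    simpa using h0
  have hX : ∀ (S : Type u) [CommRing S],
      algebraMap S⟦X⟧ S⸨X⸩ (PowerSeries.X ^ n) = HahnSeries.single (n : ℤ) 1 := by
    intro S _
    rw [LaurentSeries.coe_algebraMap, HahnSeries.ofPowerSeries_X_pow]
  rw [hX] at h1 hg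
  have c1 : (θ f).coeff i = (algebraMap R'⟦X⟧ R'⸨X⸩ (PowerSeries.map φ g)).coeff (i + n) := by
    rw [← h1, HahnSeries.coeff_mul_single_add, mul_one]
  have c2 : f.coeff i = (algebraMap R⟦X⟧ R⸨X⸩ g).coeff (i + n) := by
    rw [← hg, HahnSeries.coeff_mul_single_add, mul_one]
  rw [c1, c2, coeff_algebraMap, coeff_algebraMap]
  split_ifs
  · simp
  · simp

/-- A Laurent series without negative coefficients is a power series. -/
theorem mem_range_of_coeff {S : Type u} [CommRing S] (f : S⸨X⸩) (hf : ∀ i : ℤ, i < 0 → f.coeff i = 0) :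
    f ∈ (algebraMap S⟦X⟧ S⸨X⸩).range := by
  refine ⟨PowerSeries.mk (fun n => f.coeff (n : ℤ)), ?_⟩
  ext i
  rw [coeff_algebraMap]
  split_ifs with h
  · exact (hf i h).symm
  · rw [PowerSeries.coeff_mk]
    congr 1
    omega

theorem algebraMap_injective {S : Type u} [CommRing S] :
    Function.Injective (algebraMap S⟦X⟧ S⸨X⸩) := by
  rw [LaurentSeries.coe_algebraMap]
  exact HahnSeries.ofPowerSeries_injective

/-- Let k be a field, R a commutative k-algebra, B a finitely presented R⟦X⟧-algebra (an affine scheme V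
= Spec B of finite presentation over the disc D_R = Spec R⟦X⟧) and s : B → R((X)) an R⟦X⟧-algebra
map (a section of V over the punctured disc). Then there is an ideal I of R such that for every ring
map φ : R → R', writing θ : R((X)) → R'((X)) for the ring map compatible with R⟦X⟧ → R'⟦X⟧, the
section s extends to a section over D_{R'} — an R⟦X⟧-algebra map s' : B → R'⟦X⟧ whose composite with
R'⟦X⟧ → R'((X)) is θ ∘ s — if and only if φ kills I. In other words the sub-presheaf of Spec R where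
s extends over the disc is the closed subscheme defined by I. -/
theorem result
    (k : Type u) [Field k] (R : Type u) [CommRing R] [Algebra k R]
    (B : Type u) [CommRing B] [Algebra R⟦X⟧ B] [Algebra.FinitePresentation R⟦X⟧ B]
    (s : B →ₐ[R⟦X⟧] R⸨X⸩) :
    ∃ I : Ideal R, ∀ (R' : Type u) [CommRing R'] (φ : R →+* R') (θ : R⸨X⸩ →+* R'⸨X⸩),
      θ.comp (algebraMap R⟦X⟧ R⸨X⸩) = (algebraMap R'⟦X⟧ R'⸨X⸩).comp (PowerSeries.map φ) →
      ((∃ s' : B →+* R'⟦X⟧, s'.comp (algebraMap R⟦X⟧ B) = PowerSeries.map φ ∧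
          (algebraMap R'⟦X⟧ R'⸨X⸩).comp s' = θ.comp s.toRingHom) ↔ I ≤ RingHom.ker φ) := by
  refine ⟨Ideal.span {r : R | ∃ (b : B) (i : ℤ), i < 0 ∧ (s b).coeff i = r}, ?_⟩
  intro R' _ φ θ hθ
  constructor
  · rintro ⟨s', hs'1, hs'2⟩
    rw [Ideal.span_le]
    rintro r ⟨b, i, hi, rfl⟩
    change φ ((s b).coeff i) = 0
    rw [← coeff_theta φ θ hθ]
    have h1 := RingHom.congr_fun hs'2 b
    simp only [RingHom.comp_apply] at h1
    have h2 : θ (s b) = algebraMap R'⟦X⟧ R'⸨X⸩ (s' b) := h1.symm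
    rw [h2, coeff_algebraMap, if_pos hi]
  · intro hI
    have hmem : ∀ b : B, (θ.comp s.toRingHom) b ∈ (algebraMap R'⟦X⟧ R'⸨X⸩).range := by
      intro b
      apply mem_range_of_coeff
      intro i hi
      change (θ (s b)).coeff i = 0
      rw [coeff_theta φ θ hθ]
      exact hI (Ideal.subset_span ⟨b, i, hi, rfl⟩)
    let e : R'⟦X⟧ ≃+* (algebraMap R'⟦X⟧ R'⸨X⸩).range :=
      RingEquiv.ofBijective (algebraMap R'⟦X⟧ R'⸨X⸩).rangeRestrict
        ⟨fun a b hab => algebraMap_injective (congrArg Subtype.val hab),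
          RingHom.rangeRestrict_surjective _⟩
    let s' : B →+* R'⟦X⟧ :=
      e.symm.toRingHom.comp ((θ.comp s.toRingHom).codRestrict _ hmem)
    have key : ∀ b : B, algebraMap R'⟦X⟧ R'⸨X⸩ (s' b) = θ (s b) := by
      intro b
      have h1 : e (s' b) = (θ.comp s.toRingHom).codRestrict _ hmem b := by
        simp [s']
      have h2 := congrArg Subtype.val h1
      exact h2
    refine ⟨s', ?_, ?_⟩
    · ext1 g
      apply algebraMap_injective
      rw [RingHom.comp_apply, key]
      have h1 : s (algebraMap R⟦X⟧ B g) = algebraMap R⟦X⟧ R⸨X⸩ g := s.commutes g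
      rw [h1]
      exact RingHom.congr_fun hθ g
    · ext1 b
      exact key b

end Groth.Agent.S19309
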