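import Groth.Statements.S19310
import Groth.Agent.Lib.Helper14TensorDomain

set_option autoImplicit false
universe u
open TensorProduct
open CAlg

namespace Groth.Agent.S19310

open Groth.Agent.Lib.Helper14.TensorDomain Module

theorem repr_map {k S S' A ι : Type*} [CommRing k] [CommRing S] [CommRing S'] [CommRing A]
    [Algebra k S] [Algebra k S'] [Algebra k A] (φ : S →ₐ[k] S') (b : Basis ι k A)
    (t : S ⊗[k] A) (i : ι) :
    (Algebra.TensorProduct.basis S' b).repr
        (Algebra.TensorProduct.map φ (AlgHom.id k A) t) i =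
      φ ((Algebra.TensorProduct.basis S b).repr t i) := by
  induction t using TensorProduct.induction_on with
  | zero => simp
  | tmul a z =>
    simp only [Algebra.TensorProduct.map_tmul, AlgHom.coe_id, id_eq,
      Algebra.TensorProduct.basis_repr_tmul, Finsupp.smul_apply, smul_eq_mul,
      Finsupp.mapRange_apply, map_mul, AlgHom.commutes]
  | add x y hx hy => simp only [map_add, Finsupp.add_apply, hx, hy]


/-- Let k be an algebraically closed field, A a finitely generated k-algebra which is an integral domain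
(X = Spec A an affine variety), R a commutative k-algebra, possibly non-reduced, and U an open
subset of X_R = Spec (R ⊗_k A) meeting every fibre of X_R → Spec R (a very dense open subset). Then
a regular function on X_R whose restriction to U vanishes is zero: if f ∈ R ⊗_k A maps to 0 in the
localisation (R ⊗_k A)[1/g] for every g with D(g) ⊆ U, then f = 0. (The published statement is that
automorphisms of a torsor under a smooth affine group scheme over X_R which are the identity over a
very dense open subset are the identity, for X a smooth projective curve; its proof reduces this to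
the present assertion about functions, for quasi-projective X; this row is the affine case.) -/
theorem result
    (k : Type u) [Field k] [IsAlgClosed k]
    (A : Type u) [CommRing A] [Algebra k A] [IsDomain A] [Algebra.FiniteType k A]
    (R : Type u) [CommRing R] [Algebra k R]
    (U : TopologicalSpace.Opens (PrimeSpectrum (TensorProduct k R A)))
    (hsurj : ∀ q : PrimeSpectrum R, ∃ P ∈ U,
      PrimeSpectrum.comap (Algebra.TensorProduct.includeLeftRingHom : R →+* TensorProduct k R A) P = q)
    (f : TensorProduct k R A)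
    (hf : ∀ g : TensorProduct k R A, (PrimeSpectrum.basicOpen g : Set (PrimeSpectrum (TensorProduct k R A))) ⊆ U →
      algebraMap (TensorProduct k R A) (Localization.Away g) f = 0) :
    f = 0 := by
  classical
  let b := Basis.ofVectorSpace k A
  let 𝔟 := Algebra.TensorProduct.basis R b
  by_contra hf0
  obtain ⟨i₀, hi₀⟩ : ∃ i, 𝔟.repr f i ≠ 0 := by
    by_contra hh
    push Not at hh
    exact hf0 (𝔟.repr.map_eq_zero_iff.mp (Finsupp.ext hh))
  -- a maximal ideal containing the annihilator of this coefficient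
  let 𝔞 : Ideal R := LinearMap.ker (LinearMap.toSpanSingleton R R (𝔟.repr f i₀))
  have h𝔞 : 𝔞 ≠ ⊤ := by
    intro h
    have h1 : (1 : R) ∈ 𝔞 := h ▸ Submodule.mem_top
    rw [LinearMap.mem_ker, LinearMap.toSpanSingleton_apply, one_smul] at h1
    exact hi₀ h1
  obtain ⟨M, hM, h𝔞M⟩ := Ideal.exists_le_maximal 𝔞 h𝔞
  let q : PrimeSpectrum R := ⟨M, hM.isPrime⟩
  obtain ⟨P, hPU, hPq⟩ := hsurj q
  obtain ⟨_, ⟨g, rfl⟩, hgP, hgU⟩ :=
    PrimeSpectrum.isTopologicalBasis_basic_opens.exists_subset_of_mem_open hPU U.isOpen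
  have hg0 := hf g hgU
  obtain ⟨⟨_, N, rfl⟩, hN⟩ :=
    (IsLocalization.map_eq_zero_iff (Submonoid.powers g) (Localization.Away g) f).mp hg0
  change g ^ N * f = 0 at hN
  have hGP : g ^ N ∉ P.asIdeal := fun h => hgP (P.isPrime.mem_of_pow_mem N h)
  set G := g ^ N with hG
  -- the local ring at q
  let Rq := Localization.AtPrime q.asIdeal
  let κ := IsLocalRing.ResidueField Rq
  let φ : R →ₐ[k] Rq := IsScalarTower.toAlgHom k R Rq
  let ψ : Rq →ₐ[k] κ := IsScalarTower.toAlgHom k Rq κ
  let τ : (R ⊗[k] A) →ₐ[k] (Rq ⊗[k] A) := Algebra.TensorProduct.map φ (AlgHom.id k A)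
  let ρ : (Rq ⊗[k] A) →ₐ[k] (κ ⊗[k] A) := Algebra.TensorProduct.map ψ (AlgHom.id k A)
  let 𝔟q := Algebra.TensorProduct.basis Rq b
  let 𝔟κ := Algebra.TensorProduct.basis κ b
  haveI : IsDomain (κ ⊗[k] A) := isDomain_tensor' k A κ
  -- Claim 1
  have hρG : ρ (τ G) ≠ 0 := by
    intro h0
    apply hGP
    have hcoef : ∀ i, 𝔟.repr G i ∈ q.asIdeal := by
      intro i
      have h1 := repr_map ψ b (τ G) i
      rw [h0, map_zero, Finsupp.zero_apply] at h1
      have h2 := repr_map φ b G i
      change 𝔟q.repr (τ G) i = _ at h2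
      rw [h2] at h1
      have h3 : φ (𝔟.repr G i) ∈ IsLocalRing.maximalIdeal Rq := by
        rw [← IsLocalRing.residue_eq_zero_iff]
        exact h1.symm
      exact (IsLocalization.AtPrime.to_map_mem_maximal_iff Rq q.asIdeal _).mp h3
    rw [← 𝔟.linearCombination_repr G, Finsupp.linearCombination_apply, Finsupp.sum]
    refine Ideal.sum_mem _ fun i _ => ?_
    have h4 : Algebra.TensorProduct.includeLeftRingHom (𝔟.repr G i) ∈ P.asIdeal := by
      have := hcoef i
      rw [← hPq] at this
      exact this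
    rw [Algebra.smul_def]
    exact Ideal.mul_mem_right _ _ h4
  -- Claim 2
  let v : _ → Rq ⊗[k] A := (LinearMap.mulLeft Rq (τ G)) ∘ 𝔟q
  haveI : Module.Free Rq (Rq ⊗[k] A) := Module.Free.of_basis 𝔟q
  have hv : LinearIndependent Rq v := by
    apply IsLocalRing.linearIndependent_of_flat
    let Ψ : κ ⊗[Rq] (Rq ⊗[k] A) →ₗ[κ] κ ⊗[k] A :=
      (TensorProduct.AlgebraTensorModule.cancelBaseChange k Rq κ κ A).toLinearMap
    have hΨ : ∀ t : Rq ⊗[k] A, Ψ ((1 : κ) ⊗ₜ[Rq] t) = ρ t := by
      intro t
      induction t using TensorProduct.induction_on with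
      | zero => simp
      | tmul x a =>
        change (x • (1 : κ)) ⊗ₜ[k] a = ψ x ⊗ₜ[k] a
        rw [Algebra.smul_def, mul_one]
        rfl
      | add x y hx hy => rw [TensorProduct.tmul_add, map_add, map_add, hx, hy]
    apply LinearIndependent.of_comp Ψ
    have hcomp : Ψ ∘ (TensorProduct.mk Rq κ (Rq ⊗[k] A) 1 ∘ v) =
        (LinearMap.mulLeft κ (ρ (τ G))) ∘ 𝔟κ := by
      funext i
      change Ψ ((1 : κ) ⊗ₜ[Rq] (τ G * 𝔟q i)) = ρ (τ G) * 𝔟κ i
      rw [hΨ, map_mul]
      congr 1
      change ρ (Algebra.TensorProduct.basis Rq b i) = Algebra.TensorProduct.basis κ b i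
      rw [Algebra.TensorProduct.basis_apply, Algebra.TensorProduct.basis_apply]
      change ψ 1 ⊗ₜ[k] b i = _
      rw [map_one]
    rw [hcomp]
    refine 𝔟κ.linearIndependent.map' _ ?_
    rw [LinearMap.ker_eq_bot]
    exact mul_right_injective₀ hρG
  -- Claim 3
  have hτf : 𝔟q.repr (τ f) = Finsupp.mapRange φ (map_zero φ) (𝔟.repr f) := by
    ext i
    rw [Finsupp.mapRange_apply]
    exact repr_map φ b f i
  have hsum : Finsupp.linearCombination Rq v (Finsupp.mapRange φ (map_zero φ) (𝔟.repr f)) = 0 := by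
    rw [← hτf]
    change Finsupp.linearCombination Rq ((LinearMap.mulLeft Rq (τ G)) ∘ 𝔟q) _ = 0
    rw [← Finsupp.apply_linearCombination, 𝔟q.linearCombination_repr]
    change τ G * τ f = 0
    rw [← map_mul, hN, map_zero]
  have hzero := linearIndependent_iff.mp hv _ hsum
  have h5 : φ (𝔟.repr f i₀) = 0 := by
    have := DFunLike.congr_fun hzero i₀
    rwa [Finsupp.mapRange_apply] at this
  obtain ⟨⟨s, hs⟩, hs0⟩ :=
    (IsLocalization.map_eq_zero_iff q.asIdeal.primeCompl Rq (𝔟.repr f i₀)).mp h5
  apply hs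
  apply h𝔞M
  rw [LinearMap.mem_ker, LinearMap.toSpanSingleton_apply]
  exact hs0

end Groth.Agent.S19310
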