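import Groth.Statements.S19322
import Mathlib
import Groth.Agent.S8355

set_option autoImplicit false
universe v u
open CategoryTheory CategoryTheory.Limits
open SpSeq

namespace Groth.Agent.S19322


section aux

variable {K : Type u} [Field K]

lemma finite_of_iso {M N : ModuleCat.{v} K} (e : M ≅ N) [Module.Finite K M] : Module.Finite K N :=
  Module.Finite.equiv e.toLinearEquiv

lemma finrank_of_iso {M N : ModuleCat.{v} K} (e : M ≅ N) :
    Module.finrank K M = Module.finrank K N :=
  LinearEquiv.finrank_eq e.toLinearEquiv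

lemma sc_dim (S : ShortComplex (ModuleCat.{v} K)) [Module.Finite K S.X₂] :
    Module.Finite K S.homology ∧ Module.finrank K S.homology ≤ Module.finrank K S.X₂ ∧
      (Module.finrank K S.homology = Module.finrank K S.X₂ → S.f = 0 ∧ S.g = 0) := by
  have e := S.moduleCatHomologyIso
  have hfin : Module.Finite K (LinearMap.ker S.g.hom ⧸ LinearMap.range S.moduleCatToCycles) :=
    inferInstance
  have h1 := Submodule.finrank_quotient_add_finrank (LinearMap.range S.moduleCatToCycles)
  have h2 := LinearMap.finrank_range_add_finrank_ker S.g.hom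
  have h3 : Module.finrank K S.homology =
      Module.finrank K (LinearMap.ker S.g.hom ⧸ LinearMap.range S.moduleCatToCycles) :=
    LinearEquiv.finrank_eq e.toLinearEquiv
  haveI : Module.Finite K ↑S.moduleCatLeftHomologyData.H := hfin
  refine ⟨Module.Finite.equiv e.symm.toLinearEquiv, by omega, fun heq => ?_⟩
  have h4 : Module.finrank K (LinearMap.range S.g.hom) = 0 := by omega
  have h5 : Module.finrank K (LinearMap.range S.moduleCatToCycles) = 0 := by omega
  have h6 : LinearMap.range S.g.hom = ⊥ := Submodule.finrank_eq_zero.mp h4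
  have h7 : LinearMap.range S.moduleCatToCycles = ⊥ := Submodule.finrank_eq_zero.mp h5
  constructor
  · rw [LinearMap.range_eq_bot] at h7
    ext x
    have := congrArg (fun t => ((t x : LinearMap.ker S.g.hom) : S.X₂)) h7
    simpa using this
  · rw [LinearMap.range_eq_bot] at h6
    ext x
    have := congrArg (fun t => t x) h6
    simpa using this

lemma finite_of_mono {M N : ModuleCat.{v} K} (f : M ⟶ N) [Mono f] [Module.Finite K N] :
    Module.Finite K M :=
  Module.Finite.of_injective f.hom ((ModuleCat.mono_iff_injective f).mp inferInstance)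

lemma finite_of_epi {M N : ModuleCat.{v} K} (f : M ⟶ N) [Epi f] [Module.Finite K M] :
    Module.Finite K N :=
  Module.Finite.of_surjective f.hom ((ModuleCat.epi_iff_surjective f).mp inferInstance)

lemma finrank_cokernel {M N : ModuleCat.{v} K} (f : M ⟶ N) [Mono f] [Module.Finite K N] :
    Module.finrank K N = Module.finrank K M + Module.finrank K ↑(cokernel f) := by
  haveI := finite_of_mono f
  haveI : Module.Finite K ↑(cokernel f) := finite_of_epi (cokernel.π f)
  let S : ShortComplex (ModuleCat.{v} K) := ShortComplex.mk f (cokernel.π f) (cokernel.condition f)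
  have hS : S.ShortExact :=
    { exact := S.exact_of_g_is_cokernel (cokernelIsCokernel f)
      mono_f := inferInstanceAs (Mono f)
      epi_g := inferInstanceAs (Epi (cokernel.π f)) }
  haveI : Module.Finite K S.X₁ := inferInstanceAs (Module.Finite K M)
  haveI : Module.Finite K S.X₃ := inferInstanceAs (Module.Finite K ↑(cokernel f))
  exact ModuleCat.free_shortExact_finrank_add hS rfl rfl

lemma finrank_of_isZero {M : ModuleCat.{v} K} (h : IsZero M) : Module.finrank K M = 0 := by
  haveI : Subsingleton M := ModuleCat.subsingleton_of_isZero h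
  exact Module.finrank_zero_of_subsingleton

section fil

variable {X : ModuleCat.{v} K} [Module.Finite K X] (F : ℤ → Subobject X) (hF : Antitone F)

lemma dimF_step (s : ℤ) :
    Module.finrank K ↑(F s : ModuleCat.{v} K) =
      Module.finrank K ↑(F (s + 1) : ModuleCat.{v} K) + Module.finrank K ↑(grPiece F hF s) := by
  haveI : Module.Finite K ↑(F s : ModuleCat.{v} K) := finite_of_mono (F s).arrow
  exact finrank_cokernel ((F (s + 1)).ofLE (F s) (hF (Int.le_add_one le_rfl)))

lemma dimF_tele (s t : ℤ) (hst : s ≤ t) :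
    Module.finrank K ↑(F s : ModuleCat.{v} K) =
      Module.finrank K ↑(F t : ModuleCat.{v} K) +
        ∑ i ∈ Finset.Ico s t, Module.finrank K ↑(grPiece F hF i) := by
  induction t, hst using Int.leInduction with
  | base => simp
  | succ t hst ih =>
    have hI : Finset.Ico s (t + 1) = insert t (Finset.Ico s t) := by
      ext x
      simp only [Finset.mem_Ico, Finset.mem_insert]
      omega
    rw [hI, Finset.sum_insert (by simp), ih, dimF_step F hF t]
    ring

omit [Module.Finite K X] in
lemma finrank_of_eq_top (s : ℤ) (h : F s = ⊤) :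
    Module.finrank K ↑(F s : ModuleCat.{v} K) = Module.finrank K X := by
  haveI : IsIso (F s).arrow := by rw [h]; infer_instance
  exact finrank_of_iso (asIso (F s).arrow)

omit [Module.Finite K X] in
lemma finrank_of_eq_bot (s : ℤ) (h : F s = ⊥) :
    Module.finrank K ↑(F s : ModuleCat.{v} K) = 0 := by
  apply finrank_of_isZero
  rw [h]
  exact IsZero.of_iso (isZero_zero _) Subobject.botCoeIsoZero

lemma finrank_eq_sum (a b : ℤ) (ha : F a = ⊤) (hb : F b = ⊥) (n : ℤ)
    (hz : ∀ i, i < 0 ∨ n < i → IsZero (grPiece F hF i)) :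
    Module.finrank K X = ∑ i ∈ Finset.Icc (0 : ℤ) n, Module.finrank K ↑(grPiece F hF i) := by
  have hA : F (min a 0) = ⊤ := top_le_iff.mp (ha ▸ hF (min_le_left a 0))
  have hB : F (max b (n + 1)) = ⊥ := le_bot_iff.mp (hb ▸ hF (le_max_left b (n + 1)))
  by_cases hle : min a 0 ≤ max b (n + 1)
  · have h1 := dimF_tele F hF (min a 0) (max b (n + 1)) hle
    rw [finrank_of_eq_top F _ hA, finrank_of_eq_bot F _ hB, zero_add] at h1
    rw [h1]
    symm
    apply Finset.sum_subset
    · intro x hx
      simp only [Finset.mem_Icc] at hx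
      simp only [Finset.mem_Ico]
      constructor
      · exact (min_le_right a 0).trans hx.1
      · exact lt_of_lt_of_le (Int.lt_add_one_iff.mpr hx.2) (le_max_right b (n + 1))
    · intro x _ hx
      simp only [Finset.mem_Icc, not_and_or, not_le] at hx
      exact finrank_of_isZero (hz x hx)
  · rw [not_le] at hle
    -- then ⊤ = F (min a 0) ≤ F (max b (n+1)) = ⊥
    have h2 : (⊤ : Subobject X) ≤ ⊥ := by
      rw [← hA, ← hB]; exact hF hle.le
    have h3 : F 0 = ⊥ := le_bot_iff.mp (le_top.trans h2)
    have h4 : F 0 = ⊤ := top_le_iff.mp (by rw [h3]; exact h2)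
    rw [← finrank_of_eq_top F 0 h4, finrank_of_eq_bot F 0 h3]
    symm
    apply Finset.sum_eq_zero
    intro i _
    have hi : F i = ⊥ := le_bot_iff.mp (le_top.trans h2)
    have hi1 : F (i + 1) = ⊥ := le_bot_iff.mp (le_top.trans h2)
    have e := dimF_step F hF i
    rw [finrank_of_eq_bot F i hi, finrank_of_eq_bot F (i + 1) hi1] at e
    omega

end fil

variable {r₀ : ℤ}

lemma page_step (E : CohomologicalSpectralSequence (ModuleCat.{v} K) r₀) (pq : ℤ × ℤ) (k : ℤ)
    (hk : r₀ ≤ k) (hfd : Module.Finite K ((E.page k hk).X pq)) :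
    Module.Finite K ((E.page (k + 1) (hk.trans (Int.le_add_one le_rfl))).X pq) ∧
    Module.finrank K ((E.page (k + 1) (hk.trans (Int.le_add_one le_rfl))).X pq) ≤
      Module.finrank K ((E.page k hk).X pq) ∧
    (Module.finrank K ((E.page (k + 1) (hk.trans (Int.le_add_one le_rfl))).X pq) =
      Module.finrank K ((E.page k hk).X pq) →
      (E.page k hk).d (pq - (k, 1 - k)) pq = 0 ∧ (E.page k hk).d pq (pq + (k, 1 - k)) = 0) := by
  have hprev : (ComplexShape.up' (⟨k, 1 - k⟩ : ℤ × ℤ)).prev pq = pq - (k, 1 - k) :=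
    (ComplexShape.up' (⟨k, 1 - k⟩ : ℤ × ℤ)).prev_eq' (by
      change pq - (k, 1 - k) + (k, 1 - k) = pq
      simp)
  have hnext : (ComplexShape.up' (⟨k, 1 - k⟩ : ℤ × ℤ)).next pq = pq + (k, 1 - k) :=
    (ComplexShape.up' (⟨k, 1 - k⟩ : ℤ × ℤ)).next_eq' (by
      change pq + (k, 1 - k) = pq + (k, 1 - k)
      rfl)
  haveI : Module.Finite K ((E.page k hk).sc pq).X₂ := hfd
  obtain ⟨h1, h2, h3⟩ := sc_dim ((E.page k hk).sc pq)
  have e : ((E.page k hk).sc pq).homology ≅
      (E.page (k + 1) (hk.trans (Int.le_add_one le_rfl))).X pq := E.iso k (k + 1) pq rfl hk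
  haveI := h1
  refine ⟨finite_of_iso e, ?_, ?_⟩
  · rw [← finrank_of_iso e]; exact h2
  · intro h
    rw [← finrank_of_iso e] at h
    obtain ⟨hf, hg⟩ := h3 h
    constructor
    · rw [← hprev]; exact hf
    · rw [← hnext]; exact hg

lemma page_all (E : CohomologicalSpectralSequence (ModuleCat.{v} K) r₀) (pq : ℤ × ℤ)
    (hfd : Module.Finite K ((E.page r₀ le_rfl).X pq)) (k : ℤ) (hk : r₀ ≤ k) :
    Module.Finite K ((E.page k hk).X pq) ∧
    Module.finrank K ((E.page k hk).X pq) ≤ Module.finrank K ((E.page r₀ le_rfl).X pq) ∧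
    (Module.finrank K ((E.page k hk).X pq) = Module.finrank K ((E.page r₀ le_rfl).X pq) →
      ∀ (r : ℤ) (hr : r₀ ≤ r), r < k →
        (E.page r hr).d (pq - (r, 1 - r)) pq = 0 ∧ (E.page r hr).d pq (pq + (r, 1 - r)) = 0) := by
  induction k, hk using Int.leInduction with
  | base => exact ⟨hfd, le_rfl, fun _ r hr hlt => absurd hlt (not_lt.mpr hr)⟩
  | succ k hk ih =>
    obtain ⟨i1, i2, i3⟩ := ih
    obtain ⟨s1, s2, s3⟩ := page_step E pq k hk i1
    refine ⟨s1, s2.trans i2, fun heq r hr hlt => ?_⟩
    have hA : Module.finrank K ((E.page (k + 1) (hk.trans (Int.le_add_one le_rfl))).X pq) =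
        Module.finrank K ((E.page k hk).X pq) := le_antisymm s2 (by rw [heq]; exact i2)
    rcases (Int.lt_add_one_iff.mp hlt).lt_or_eq with h | h
    · exact i3 (by rw [← hA, heq]) r hr h
    · subst h
      exact s3 hA

end aux


/-- Let K be a field and E a cohomological spectral sequence of K-vector spaces, pages from r₀,
concentrated in the first quadrant on page r₀ and with all terms of page r₀ finite-dimensional, and
let H be abutment data for E whose filtration in degree n is finite, H n finite-dimensional. If the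
dimensions of the page-r₀ terms E^{s, n-s}, 0 ≤ s ≤ n, add up to the dimension of H n, then every
position of total degree n is stationary from page r₀ on: all differentials into and out of it
vanish on every page. (The printed statement takes r₀ a positive integer and n ≥ 0; neither
restriction is needed.) -/
theorem result
    {K : Type u} [Field K] {r₀ : ℤ}
    (E : CohomologicalSpectralSequence (ModuleCat.{v} K) r₀) (H : ℤ → ModuleCat.{v} K)
    (a : SpSeq.Abutment E H) (n : ℤ) (hfin : a.IsFinite n)
    (hquad : ∀ pq : ℤ × ℤ, pq.1 < 0 ∨ pq.2 < 0 → IsZero ((E.page r₀ le_rfl).X pq))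
    (hfd : ∀ pq : ℤ × ℤ, Module.Finite K ((E.page r₀ le_rfl).X pq))
    (hH : Module.Finite K (H n))
    (hsum : ∑ s ∈ Finset.Icc (0 : ℤ) n, Module.finrank K ((E.page r₀ le_rfl).X (s, n - s)) =
      Module.finrank K (H n)) :
    ∀ s : ℤ, SpSeq.StationaryAt E (s, n - s) r₀ := by
  classical
  have hm : ∀ s : ℤ, s + (n - s) = n := fun s => by ring
  have htr : ∀ (m : ℤ) (s : ℤ), m = n →
      Module.finrank K ↑(grPiece (a.fil m) (a.anti m) s) =
        Module.finrank K ↑(grPiece (a.fil n) (a.anti n) s) := by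
    intro m s h; subst h; rfl
  have htrz : ∀ (m : ℤ) (s : ℤ), m = n → IsZero (grPiece (a.fil m) (a.anti m) s) →
      IsZero (grPiece (a.fil n) (a.anti n) s) := by
    intro m s h; subst h; exact id
  have hgr : ∀ s : ℤ, Module.finrank K ↑(grPiece (a.fil n) (a.anti n) s) =
      Module.finrank K ((E.page (a.rk (s, n - s)) (a.stat (s, n - s)).1).X (s, n - s)) := by
    intro s
    rw [← htr (s + (n - s)) s (hm s)]
    exact (finrank_of_iso (a.β (s, n - s))).symm
  have hq : ∀ s : ℤ, s < 0 ∨ n < s → IsZero ((E.page r₀ le_rfl).X (s, n - s)) := by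
    intro s hs
    apply hquad
    rcases hs with h | h
    · left; exact h
    · right
      change n - s < 0
      omega
  have hzero : ∀ s : ℤ, s < 0 ∨ n < s → ∀ (k : ℤ) (hk : r₀ ≤ k),
      IsZero ((E.page k hk).X (s, n - s)) := by
    intro s hs k hk
    exact (Groth.Agent.S8355.result E r₀ le_rfl (s, n - s) (hq s hs)).1 k hk
  have hgrz : ∀ s, s < 0 ∨ n < s → IsZero (grPiece (a.fil n) (a.anti n) s) := by
    intro s hs
    exact htrz (s + (n - s)) s (hm s)
      ((Groth.Agent.S8355.result E r₀ le_rfl (s, n - s) (hq s hs)).2 H a)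
  haveI := hH
  obtain ⟨⟨a0, ha0⟩, ⟨b0, hb0⟩⟩ := hfin
  have hsumH := finrank_eq_sum (a.fil n) (a.anti n) a0 b0 ha0 hb0 n hgrz
  have hle : ∀ s ∈ Finset.Icc (0 : ℤ) n, Module.finrank K ↑(grPiece (a.fil n) (a.anti n) s) ≤
      Module.finrank K ((E.page r₀ le_rfl).X (s, n - s)) := by
    intro s _
    rw [hgr s]
    exact (page_all E (s, n - s) (hfd _) _ (a.stat _).1).2.1
  have heq := (Finset.sum_eq_sum_iff_of_le hle).mp (by rw [← hsumH, hsum])
  intro s
  refine ⟨le_rfl, fun r' h₀ _ => ?_⟩
  by_cases hs : s ∈ Finset.Icc (0 : ℤ) n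
  · have h1 := heq s hs
    rw [hgr s] at h1
    have h2 := (page_all E (s, n - s) (hfd _) _ (a.stat _).1).2.2 h1
    by_cases hr : r' < a.rk (s, n - s)
    · exact h2 r' h₀ hr
    · exact (a.stat (s, n - s)).2 r' h₀ (not_lt.mp hr)
  · have hz := hzero s (by simp only [Finset.mem_Icc, not_and_or, not_le] at hs; exact hs) r' h₀
    exact ⟨hz.eq_of_tgt _ _, hz.eq_of_src _ _⟩

end Groth.Agent.S19322
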