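import Groth.Statements.S19323
import Mathlib
import Groth.Agent.S8355

set_option autoImplicit false
universe v u
open CategoryTheory CategoryTheory.Limits
open SpSeq

namespace Groth.Agent.S19323


theorem mono_homologyMap_of {C : Type u} [Category.{v} C] [Abelian C] {ι : Type*}
    {c : ComplexShape ι} {K L : HomologicalComplex C c} (ψ : K ⟶ L) (i j k : ι)
    (hi : c.prev j = i) (hk : c.next j = k) (hL : L.d i j = 0) [Mono (ψ.f j)] :
    Mono (HomologicalComplex.homologyMap ψ j) := by
  rw [HomologicalComplex.mono_homologyMap_iff_up_to_refinements ψ i j k hi hk]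
  intro A x₂ hx₂ y₁ hy
  rw [hL, comp_zero] at hy
  have h0 : x₂ = 0 := by
    rw [← cancel_mono (ψ.f j), hy, zero_comp]
  exact ⟨A, 𝟙 A, inferInstance, 0, by rw [h0]; simp⟩


/-- In an abelian category let E and E' be first-quadrant E₂ cohomological spectral sequences and φ : E
⟶ E' a morphism of spectral sequences such that (i) every differential of E' leaving a position
whose first coordinate is nonzero vanishes, (ii) on every page the map φ at each position followed
by the outgoing differential of E' is zero, and (iii) φ is a monomorphism at every position of page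
2. Then E degenerates at page 2. -/
theorem result
    {C : Type u} [Category.{v} C] [Abelian C]
    (E E' : E₂CohomologicalSpectralSequence C) (φ : E ⟶ E')
    (hE : ∀ pq : ℤ × ℤ, pq.1 < 0 ∨ pq.2 < 0 → IsZero ((E.page 2 le_rfl).X pq))
    (hE' : ∀ pq : ℤ × ℤ, pq.1 < 0 ∨ pq.2 < 0 → IsZero ((E'.page 2 le_rfl).X pq))
    (hd' : ∀ (r : ℤ) (hr : 2 ≤ r) (pq : ℤ × ℤ), pq.1 ≠ 0 →
      (E'.page r hr).d pq (pq + (r, 1 - r)) = 0)
    (hφd : ∀ (r : ℤ) (hr : 2 ≤ r) (pq : ℤ × ℤ),
      (φ.hom r hr).f pq ≫ (E'.page r hr).d pq (pq + (r, 1 - r)) = 0)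
    (hmono : ∀ pq : ℤ × ℤ, Mono ((φ.hom 2 le_rfl).f pq)) :
    SpSeq.Degenerates E 2 := by
  have hz : ∀ (r : ℤ) (hr : 2 ≤ r) (pq : ℤ × ℤ), pq.1 < 0 → IsZero ((E.page r hr).X pq) :=
    fun r hr pq h => (Groth.Agent.S8355.result E 2 le_rfl pq (hE pq (Or.inl h))).1 r hr
  have dvanish : ∀ (r : ℤ) (hr : 2 ≤ r),
      (∀ pq : ℤ × ℤ, r ≤ pq.1 → Mono ((φ.hom r hr).f pq)) →
      ∀ pq pq' : ℤ × ℤ, (E.page r hr).d pq pq' = 0 := by
    intro r hr ih pq pq'
    by_cases hrel : (ComplexShape.up' ((r, 1 - r) : ℤ × ℤ)).Rel pq pq'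
    · have hpq' : pq + (r, 1 - r) = pq' := hrel
      subst hpq'
      by_cases hp : pq.1 < 0
      · exact (hz r hr pq hp).eq_of_src _ _
      · rw [not_lt] at hp
        haveI : Mono ((φ.hom r hr).f (pq + (r, 1 - r))) :=
          ih (pq + (r, 1 - r)) (by simp only [Prod.fst_add]; omega)
        rw [← cancel_mono ((φ.hom r hr).f (pq + (r, 1 - r))), zero_comp,
          ← (φ.hom r hr).comm]
        exact hφd r hr pq
    · exact HomologicalComplex.shape _ _ _ hrel
  have key : ∀ (r : ℤ) (hr : 2 ≤ r), ∀ pq : ℤ × ℤ, r ≤ pq.1 → Mono ((φ.hom r hr).f pq) := by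
    intro r hr
    induction r, hr using Int.leInduction with
    | base => intro pq _; exact hmono pq
    | succ r hr ih =>
      intro pq hpq
      have hc := φ.comm r (r + 1) pq rfl hr
      have hrel : (ComplexShape.up' ((r, 1 - r) : ℤ × ℤ)).Rel (pq - (r, 1 - r)) pq := by
        change pq - (r, 1 - r) + (r, 1 - r) = pq
        simp
      have hL : (E'.page r hr).d (pq - (r, 1 - r)) pq = 0 := by
        have h1 := hd' r hr (pq - (r, 1 - r)) (by simp only [Prod.fst_sub]; omega)
        rwa [sub_add_cancel] at h1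
      haveI : Mono ((φ.hom r hr).f pq) := ih pq (by omega)
      haveI : Mono (HomologicalComplex.homologyMap (φ.hom r hr) pq) :=
        mono_homologyMap_of (φ.hom r hr) (pq - (r, 1 - r)) pq _
          ((ComplexShape.up' ((r, 1 - r) : ℤ × ℤ)).prev_eq' hrel) rfl hL
      have e : (φ.hom (r + 1) (hr.trans (Int.le_add_one le_rfl))).f pq =
          (E.iso r (r + 1) pq rfl hr).inv ≫ HomologicalComplex.homologyMap (φ.hom r hr) pq ≫
            (E'.iso r (r + 1) pq rfl hr).hom := by
        rw [hc, Iso.inv_hom_id_assoc]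
      rw [e]
      infer_instance
  exact ⟨le_rfl, fun r' h₀ _ pq pq' => dvanish r' h₀ (key r' h₀) pq pq'⟩

end Groth.Agent.S19323
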