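import Groth.Statements.S19326
import Groth.Agent.Lib.Helper25Weights

set_option autoImplicit false
universe u
open TensorProduct
open GLin

namespace Groth.Agent.S19326

/-- Let k be a field, M a finite abelian group and D = Spec k[M] the finite diagonalizable group scheme
it defines, acting on an affine k-scheme U = Spec R through a multiplicative coaction R → R ⊗ k[M];
write R_a for the weight space of a ∈ M (elements with coaction f ⊗ a). For an ideal J of R the
induced action of D on the closed subscheme V(J) is trivial, meaning that the coaction followed by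
reduction modulo J equals f ↦ (f mod J) ⊗ 1, exactly when J contains the ideal generated by the
weight spaces R_a for a ≠ 0; in other words that ideal defines the largest closed subscheme of U on
which D acts trivially. (The printed setting has U smooth, which plays no role here and is not
assumed; the further assertion that the construction commutes with flat base change on U/D is not
part of this statement.) -/
theorem result
    {k : Type u} [Field k] {M : Type u} [AddCommGroup M] [Finite M]
    {R : Type u} [CommRing R] [Algebra k R] [HopfRep.Comod k (AddMonoidAlgebra k M) R]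
    [GLin.IsCoactAlg k (AddMonoidAlgebra k M) R] (J : Ideal R) :
    (∀ f : R, LinearMap.rTensor (AddMonoidAlgebra k M) (Ideal.Quotient.mkₐ k J).toLinearMap
        (HopfRep.Comod.coact (k := k) (A := AddMonoidAlgebra k M) f) =
        (Ideal.Quotient.mk J f) ⊗ₜ[k] (1 : AddMonoidAlgebra k M)) ↔
      Ideal.span (⋃ (a : M) (_ : a ≠ 0),
        (HopfRep.eigenspace k (AddMonoidAlgebra k M) R (AddMonoidAlgebra.single a 1) : Set R)) ≤ J := by
  open Groth.Agent.Lib.Helper25 in
  classical
  set b := AddMonoidAlgebra.basis M k with hbdef
  have hbapp : ∀ a : M, b a = AddMonoidAlgebra.single a (1 : k) := fun a => AddMonoidAlgebra.basis_apply k a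
  have hb : ∀ a, IsGroupLikeElem k (b a) := by
    intro a
    rw [hbapp]
    exact AddMonoidAlgebra.isGroupLikeElem_single_one a
  have hb0 : b 0 = (1 : AddMonoidAlgebra k M) := by
    rw [hbapp]; rfl
  constructor
  · intro h
    apply Ideal.span_le.mpr
    intro f hf
    simp only [Set.mem_iUnion] at hf
    obtain ⟨a, ha, hfa⟩ := hf
    have hfa' : HopfRep.Comod.coact (k := k) (A := AddMonoidAlgebra k M) f =
        f ⊗ₜ[k] AddMonoidAlgebra.single a (1 : k) := hfa
    have h1 := h f
    rw [hfa', LinearMap.rTensor_tmul] at h1
    have h2 := congrArg (slice (R ⧸ J) (b.coord a)) h1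
    rw [slice_tmul, slice_tmul, ← hbapp, ← hb0] at h2
    simp only [Module.Basis.coord_apply, Module.Basis.repr_self, Finsupp.single_apply] at h2
    have h0a : ¬ (0 : M) = a := fun h' => ha h'.symm
    simp only [if_true, if_neg h0a, one_smul, zero_smul] at h2
    exact Ideal.Quotient.eq_zero_iff_mem.mp h2
  · intro h f
    obtain ⟨s, hs⟩ := coact_eq_sum_T_coord (V := R) b f
    have hJ : ∀ a : M, a ≠ 0 → Ideal.Quotient.mk J (T (b.coord a) f) = 0 := by
      intro a ha
      apply Ideal.Quotient.eq_zero_iff_mem.mpr
      apply h
      apply Ideal.subset_span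
      simp only [Set.mem_iUnion]
      refine ⟨a, ha, ?_⟩
      have := T_coord_mem_eigenspace (V := R) b hb a f
      rw [hbapp] at this
      exact this
    have hf : f = ∑ a ∈ s, T (b.coord a) f := by
      have h1 := congrArg (slice R (CoalgebraStruct.counit (R := k) (A := AddMonoidAlgebra k M))) hs
      rw [← T_apply, T_counit, map_sum] at h1
      simp only [slice_tmul] at h1
      refine h1.trans ?_
      apply Finset.sum_congr rfl
      intro a _
      rw [(hb a).counit_eq_one, one_smul]
    rw [hs, map_sum]
    conv_rhs => rw [hf, map_sum, TensorProduct.sum_tmul]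
    apply Finset.sum_congr rfl
    intro a _
    rw [LinearMap.rTensor_tmul]
    by_cases ha : a = 0
    · subst ha
      rw [hb0]
      rfl
    · have := hJ a ha
      change (Ideal.Quotient.mk J (T (b.coord a) f)) ⊗ₜ[k] b a = _
      rw [this, TensorProduct.zero_tmul, TensorProduct.zero_tmul]

end Groth.Agent.S19326
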