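import Groth.Statements.S19328
import Mathlib.Tactic
import Mathlib.AlgebraicGeometry.Morphisms.Flat
import Mathlib.AlgebraicGeometry.Morphisms.FinitePresentation
import Mathlib.RingTheory.Polynomial.ScaleRoots
import Mathlib.RingTheory.AdjoinRoot
import Mathlib.RingTheory.LocalRing.ResidueField.Ideal

set_option autoImplicit false
universe u
open CategoryTheory CategoryTheory.Limits AlgebraicGeometry
open ModPair

namespace Groth.Agent.S19328

open Polynomial in
theorem exists_root (A : Type u) [CommRing A] [Nontrivial A]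
    (hloc : ∀ (X : Scheme.{u}) (R : Presieve X),
      R ∈ Scheme.precoverage (@Flat ⊓ @LocallyOfFinitePresentation ⊓ @QuasiCompact ⊓ @QuasiSeparated) X →
      ∀ g : Spec (CommRingCat.of A) ⟶ X,
        ∃ (Y : Scheme.{u}) (v : Y ⟶ X) (h : Spec (CommRingCat.of A) ⟶ Y), R v ∧ h ≫ v = g)
    (F : A[X]) (hF : F.Monic) (hdeg : F.natDegree ≠ 0) : ∃ a : A, F.eval a = 0 := by
  let B := AdjoinRoot F
  let pb := AdjoinRoot.powerBasis' hF
  haveI : Module.Free A B := Module.Free.of_basis pb.basis
  haveI : Nontrivial B := by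
    have hdim : 0 < pb.dim := by
      rw [AdjoinRoot.powerBasis'_dim]; omega
    exact ⟨⟨pb.basis ⟨0, hdim⟩, 0, pb.basis.linearIndependent.ne_zero _⟩⟩
  haveI : Module.FaithfullyFlat A B := inferInstance
  let φ : CommRingCat.of A ⟶ CommRingCat.of B := CommRingCat.ofHom (algebraMap A B)
  have hff : φ.hom.FaithfullyFlat := (RingHom.faithfullyFlat_algebraMap_iff).mpr inferInstance
  obtain ⟨hflat, hsurj⟩ := (flat_and_surjective_SpecMap_iff φ).mpr hff
  have hfp : LocallyOfFinitePresentation (Spec.map φ) := by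
    rw [HasRingHomProperty.Spec_iff (P := @LocallyOfFinitePresentation)]
    exact (RingHom.finitePresentation_algebraMap).mpr inferInstance
  have hmem : Presieve.singleton (Spec.map φ) ∈ Scheme.precoverage
      (@Flat ⊓ @LocallyOfFinitePresentation ⊓ @QuasiCompact ⊓ @QuasiSeparated)
      (Spec (CommRingCat.of A)) := by
    rw [Scheme.singleton_mem_precoverage_iff]
    exact ⟨hsurj.surj, ⟨⟨⟨hflat, hfp⟩, inferInstance⟩, inferInstance⟩⟩
  obtain ⟨Y, v, h, hv, hcomp⟩ := hloc _ _ hmem (𝟙 _)
  cases hv
  obtain ⟨ψ, rfl⟩ := Spec.map_surjective h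
  rw [← Spec.map_comp, ← Spec.map_id] at hcomp
  have h1 : φ ≫ ψ = 𝟙 _ := Spec.map_injective hcomp
  have h2 : ∀ a : A, ψ.hom (algebraMap A B a) = a := by
    intro a
    have := congrArg (fun k => k.hom a) h1
    simp only [CommRingCat.hom_comp, CommRingCat.hom_id, RingHom.comp_apply,
      RingHom.id_apply] at this
    exact this
  refine ⟨ψ.hom (AdjoinRoot.root F), ?_⟩
  have h3 : ψ.hom (eval₂ (algebraMap A B) (AdjoinRoot.root F) F) = 0 := by
    rw [AdjoinRoot.algebraMap_eq, AdjoinRoot.eval₂_root, map_zero]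
  rw [Polynomial.hom_eval₂] at h3
  have h4 : (ψ.hom.comp (algebraMap A B)) = RingHom.id A := RingHom.ext h2
  rw [h4] at h3
  simpa [Polynomial.eval₂_id] using h3

open Polynomial in
theorem isAlgClosed_of_roots (A : Type u) [CommRing A] (p : Ideal A) [p.IsPrime]
    (hroot : ∀ F : A[X], F.Monic → F.natDegree ≠ 0 → ∃ a : A, F.eval a = 0) :
    IsAlgClosed p.ResidueField := by
  apply IsAlgClosed.of_exists_root
  intro q hq hirr
  let ι : A →+* p.ResidueField := algebraMap A p.ResidueField
  have hι : ∀ c : A, ι c = algebraMap (A ⧸ p) p.ResidueField (Ideal.Quotient.mk p c) := by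
    intro c
    exact IsScalarTower.algebraMap_apply A (A ⧸ p) p.ResidueField c
  obtain ⟨b, hb⟩ := IsLocalization.exist_integer_multiples_of_finset (nonZeroDivisors (A ⧸ p))
    (q.coeffs : Finset p.ResidueField)
  obtain ⟨s, hs⟩ := Ideal.Quotient.mk_surjective (b : A ⧸ p)
  have hs0 : ι s ≠ 0 := by
    rw [hι, hs]
    intro h0
    have hinj : Function.Injective (algebraMap (A ⧸ p) p.ResidueField) :=
      IsFractionRing.injective _ _
    have : (b : A ⧸ p) = 0 := hinj (by rw [h0, map_zero])
    exact nonZeroDivisors.coe_ne_zero b this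
  have hcoef : ∀ i, ∃ c : A, ι c = q.coeff i * ι s := by
    intro i
    by_cases hi : q.coeff i = 0
    · exact ⟨0, by simp [hi]⟩
    · obtain ⟨c', hc'⟩ := hb (q.coeff i) (Polynomial.coeff_mem_coeffs hi)
      obtain ⟨c, rfl⟩ := Ideal.Quotient.mk_surjective c'
      refine ⟨c, ?_⟩
      rw [hι, hc', hι, hs, Algebra.smul_def, mul_comm]
  have hlift : scaleRoots q (ι s) ∈ lifts ι := by
    rw [lifts_iff_coeff_lifts]
    intro n
    rw [coeff_scaleRoots]
    by_cases hn : n < q.natDegree
    · obtain ⟨c, hc⟩ := hcoef n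
      refine ⟨c * s ^ (q.natDegree - n - 1), ?_⟩
      rw [map_mul, hc, map_pow, mul_assoc, ← pow_succ']
      congr 2; omega
    · rcases (not_lt.mp hn).eq_or_lt with h | h
      · subst h
        exact ⟨1, by simp [hq.coeff_natDegree]⟩
      · exact ⟨0, by simp [coeff_eq_zero_of_natDegree_lt h]⟩
  obtain ⟨F, hFmap, hFdeg, hFmonic⟩ :=
    lifts_and_natDegree_eq_and_monic hlift ((monic_scaleRoots_iff _).mpr hq)
  have hdeg : F.natDegree ≠ 0 := by
    rw [hFdeg, natDegree_scaleRoots]
    exact (Polynomial.natDegree_pos_iff_degree_pos.mpr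
      (Polynomial.degree_pos_of_irreducible hirr)).ne'
  obtain ⟨a, ha⟩ := hroot F hFmonic hdeg
  refine ⟨ι a / ι s, ?_⟩
  have h1 : eval (ι a) (scaleRoots q (ι s)) = 0 := by
    rw [← hFmap, eval_map, eval₂_at_apply, ha, map_zero]
  have h2 : ι a = ι s * (ι a / ι s) := by field_simp
  rw [h2, scaleRoots_eval_mul] at h1
  exact (mul_eq_zero.mp h1).resolve_left (pow_ne_zero _ hs0)

/-- Let A be a commutative ring such that Spec A is local for fppf coverings, in the sense that for
every scheme X, every jointly surjective family of morphisms to X each of which is flat and of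
finite presentation (locally of finite presentation, quasi-compact and quasi-separated), and every
morphism Spec A ⟶ X, the morphism factors through a member of the family. Then the residue field of
A at every prime ideal is algebraically closed. -/
theorem result (A : Type u) [CommRing A]
    (hloc : ∀ (X : Scheme.{u}) (R : Presieve X),
      R ∈ Scheme.precoverage (@Flat ⊓ @LocallyOfFinitePresentation ⊓ @QuasiCompact ⊓ @QuasiSeparated) X →
      ∀ g : Spec (CommRingCat.of A) ⟶ X,
        ∃ (Y : Scheme.{u}) (v : Y ⟶ X) (h : Spec (CommRingCat.of A) ⟶ Y), R v ∧ h ≫ v = g)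
    (p : Ideal A) [p.IsPrime] : IsAlgClosed p.ResidueField := by
  haveI : Nontrivial A := by
    have hne : p ≠ ⊤ := Ideal.IsPrime.ne_top inferInstance
    by_contra hA
    rw [not_nontrivial_iff_subsingleton] at hA
    exact hne (Subsingleton.elim _ _)
  exact isAlgClosed_of_roots A p (fun F hF hdeg => exists_root A hloc F hF hdeg)

end Groth.Agent.S19328
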