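import Groth.Statements.S19329
import Groth.Agent.Lib.Helper2Quot
import Groth.Agent.Lib.Helper2EffQuot
import Groth.Agent.Lib.Helper2StrictTr
import Groth.Agent.Lib.Helper20BlowUp

set_option autoImplicit false
universe u
open CategoryTheory CategoryTheory.Limits AlgebraicGeometry TopologicalSpace
open ModPair

namespace Groth.Agent.S19329

theorem isEffCartierIdeal_comap_of_le {Y Z : Scheme.{u}} (J : Y.IdealSheafData)
    (K : Z.IdealSheafData) (hJ : BlowUp.IsEffCartierIdeal J) (hK : BlowUp.IsEffCartierIdeal K)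
    (g : Y ⟶ Z) (hg : J ≤ K.comap g) : BlowUp.IsEffCartierIdeal (K.comap g) := by
  intro y
  obtain ⟨W, hyW, k, -, hKk⟩ := hK (g y)
  obtain ⟨V, hV, hyV, hVW, j, hj, hJj⟩ :=
    Groth.Agent.Lib.Helper20.EffCartier.exists_le_of_isEffCartierIdeal hJ y (g ⁻¹ᵁ W.1) hyW
  have hK' : (K.comap g).ideal ⟨V, hV⟩ = Ideal.span {(g.appLE W.1 V hVW).hom k} := by
    rw [Groth.Agent.Lib.Helper20.EffCartier.ideal_comap_eq_map g K hV W.2 hVW, hKk,
      Ideal.map_span, Set.image_singleton]
  refine ⟨⟨V, hV⟩, hyV, _, ?_, hK'⟩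
  have hjm : j ∈ Ideal.span {(g.appLE W.1 V hVW).hom k} := by
    rw [← hK']
    apply hg ⟨V, hV⟩
    rw [hJj]
    exact Ideal.mem_span_singleton_self j
  obtain ⟨c, hc⟩ := Ideal.mem_span_singleton'.mp hjm
  rw [mem_nonZeroDivisors_iff_right]
  intro z hz
  apply (mem_nonZeroDivisors_iff_right.mp hj) z
  rw [← hc, ← mul_assoc, mul_comm z c, mul_assoc, hz, mul_zero]

/-- Let (X, I), (Y, J), (Z, K) be modulus pairs, i.e. schemes with quasi-coherent ideal sheaves of
effective Cartier divisors, and let f : X ⟶ Y and g : Y ⟶ Z satisfy the modulus conditions I ≤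
J.comap f and J ≤ K.comap g. Suppose the composite X ⟶ Z is minimal, I = K.comap (f ≫ g). Then f is
minimal, and there is an open subset U of Y whose inclusion is quasi-compact, which contains the
image of f, and such that U ⟶ Z is minimal for the modulus of Y restricted to U. -/
theorem result {X Y Z : Scheme.{u}}
    (I : X.IdealSheafData) (J : Y.IdealSheafData) (K : Z.IdealSheafData)
    (hI : BlowUp.IsEffCartierIdeal I) (hJ : BlowUp.IsEffCartierIdeal J)
    (hK : BlowUp.IsEffCartierIdeal K) (f : X ⟶ Y) (g : Y ⟶ Z)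
    (hf : ModPair.IsAmbient I J f) (hg : ModPair.IsAmbient J K g)
    (hfg : ModPair.IsMinimal I K (f ≫ g)) :
    ModPair.IsMinimal I J f ∧
      ∃ U : Y.Opens, QuasiCompact U.ι ∧ Set.range f.base ⊆ (U : Set Y) ∧
        ModPair.IsMinimal (J.comap U.ι) K (U.ι ≫ g) := by
  have hf' : I ≤ J.comap f := hf
  have hg' : J ≤ K.comap g := hg
  have hfg' : I = K.comap (f ≫ g) := hfg
  have hmin : I = J.comap f := by
    apply le_antisymm hf'
    have h1 : J.comap f ≤ (K.comap g).comap f := Scheme.IdealSheafData.comap_mono f hg'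
    rw [← Scheme.IdealSheafData.comap_comp, ← hfg'] at h1
    exact h1
  have hK' : BlowUp.IsEffCartierIdeal (K.comap g) := isEffCartierIdeal_comap_of_le J K hJ hK g hg'
  have hQ : BlowUp.IsEffCartierIdeal (Groth.Agent.Lib.Helper2.Quot.quot J (K.comap g)
      (Groth.Agent.Lib.Helper2.Quot.fg_of_isEffCartierIdeal hK')) :=
    Groth.Agent.Lib.Helper2.Quot.isEffCartierIdeal_quot hJ hK' hg'
  have hmul : K.comap g * Groth.Agent.Lib.Helper2.Quot.quot J (K.comap g)
      (Groth.Agent.Lib.Helper2.Quot.fg_of_isEffCartierIdeal hK') = J :=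
    Groth.Agent.Lib.Helper2.Quot.mul_quot_eq hK' hg'
  generalize Groth.Agent.Lib.Helper2.Quot.quot J (K.comap g)
      (Groth.Agent.Lib.Helper2.Quot.fg_of_isEffCartierIdeal hK') = Q at hQ hmul
  have hQf : Q.comap f = ⊤ := by
    apply Groth.Agent.Lib.Helper2.EffQuot.eq_of_mul_eq_mul hI
    have h1 : I = (K.comap g).comap f * Q.comap f := by
      rw [← Groth.Agent.Lib.Helper20.BlowUpBasic.comap_mul, hmul]
      exact hmin
    have h2 : (K.comap g).comap f = I := by
      rw [← Scheme.IdealSheafData.comap_comp]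
      exact hfg'.symm
    rw [h2] at h1
    calc Q.comap f * I = I * Q.comap f := mul_comm _ _
      _ = I := h1.symm
      _ = ⊤ * I := (one_mul I).symm
  have hQU : Q.comap (ModPair.interior Q).ι = ⊤ :=
    Groth.Agent.Lib.Helper20.BlowUpBasic.comap_ι_compl Q
  refine ⟨hmin, ModPair.interior Q, ?_, ?_, ?_⟩
  · have : IsAffineHom (ModPair.interior Q).ι :=
      Groth.Agent.Lib.Helper2.StrictTr.isAffineHom_ι_compl hQ (ModPair.interior Q) rfl
    infer_instance
  · rintro _ ⟨x, rfl⟩ hx
    have h3 : x ∈ (Q.comap f).support := by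
      rw [Scheme.IdealSheafData.support_comap]
      exact hx
    rw [hQf, Scheme.IdealSheafData.support_top] at h3
    exact h3
  · change J.comap (ModPair.interior Q).ι = K.comap ((ModPair.interior Q).ι ≫ g)
    rw [Scheme.IdealSheafData.comap_comp, ← hmul, Groth.Agent.Lib.Helper20.BlowUpBasic.comap_mul,
      hQU]
    exact mul_one _

end Groth.Agent.S19329
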