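import Groth.Statements.S19330
import Mathlib
import Groth.Agent.Lib.Helper2ModPair
import Groth.Agent.S18743

set_option autoImplicit false
universe u
open CategoryTheory CategoryTheory.Limits AlgebraicGeometry TopologicalSpace
open ModPair

namespace Groth.Agent.S19330

section Aux

open Groth.Agent.Lib.Helper2.ModPairLib Groth.Agent.Lib.Helper2.AffBlowUp
  Groth.Agent.Lib.Helper2.StrictTr Groth.Agent.Lib.Helper20.EffCartier

theorem range_imageι_eq {V S : Scheme.{u}} (φ : V ⟶ S) [QuasiCompact φ] :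
    Set.range φ.imageι = closure (Set.range φ) := by
  change Set.range φ.ker.subschemeι = _
  rw [Scheme.IdealSheafData.range_subschemeι, Scheme.Hom.support_ker]

/-- an effective Cartier ideal pulls back to an effective Cartier ideal on the scheme-theoretic image
of a quasi-compact morphism landing in the interior. -/
theorem effCartier_comap_imageι {V S : Scheme.{u}} (φ : V ⟶ S) [QuasiCompact φ]
    {I : S.IdealSheafData} (hI : BlowUp.IsEffCartierIdeal I) (hφ : ∀ v : V, φ v ∉ I.support) :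
    BlowUp.IsEffCartierIdeal (I.comap φ.imageι) := by
  intro y
  obtain ⟨W, hyW, t, ht, hE⟩ := hI (φ.imageι y)
  have hU' : IsAffineOpen (φ.imageι ⁻¹ᵁ W.1) := W.2.preimage φ.imageι
  refine ⟨⟨φ.imageι ⁻¹ᵁ W.1, hU'⟩, hyW, (φ.imageι.appLE W.1 (φ.imageι ⁻¹ᵁ W.1) le_rfl).hom t,
    ?_, ?_⟩
  · rw [mem_nonZeroDivisors_iff_right]
    intro z hz
    apply φ.toImage_app_injective W
    rw [map_zero]
    have h1 : (φ.toImage.app (φ.imageι ⁻¹ᵁ W.1)).hom z *
        (φ.toImage.app (φ.imageι ⁻¹ᵁ W.1)).hom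
          ((φ.imageι.appLE W.1 (φ.imageι ⁻¹ᵁ W.1) le_rfl).hom t) = 0 := by
      rw [← map_mul, hz, map_zero]
    have hle2 : φ.toImage ⁻¹ᵁ (φ.imageι ⁻¹ᵁ W.1) ≤ (φ.toImage ≫ φ.imageι) ⁻¹ᵁ W.1 :=
      fun w hw => hw
    have h2 : (φ.toImage.app (φ.imageι ⁻¹ᵁ W.1)).hom
        ((φ.imageι.appLE W.1 (φ.imageι ⁻¹ᵁ W.1) le_rfl).hom t) =
        ((φ.toImage ≫ φ.imageι).appLE W.1 (φ.toImage ⁻¹ᵁ (φ.imageι ⁻¹ᵁ W.1)) hle2).hom t := by
      rw [Scheme.Hom.app_eq_appLE, ← Scheme.Hom.appLE_comp_appLE _ _ W.1 (φ.imageι ⁻¹ᵁ W.1)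
        (φ.toImage ⁻¹ᵁ (φ.imageι ⁻¹ᵁ W.1)) le_rfl le_rfl]
      rfl
    have hunit : IsUnit (((φ.toImage ≫ φ.imageι).appLE W.1
        (φ.toImage ⁻¹ᵁ (φ.imageι ⁻¹ᵁ W.1)) hle2).hom t) := by
      apply isUnit_appLE_of_le_basicOpen
      intro w hw
      have hw1 : (φ.toImage ≫ φ.imageι) w = φ w := by
        rw [Scheme.Hom.toImage_imageι]
      change (φ.toImage ≫ φ.imageι) w ∈ S.basicOpen t
      rw [hw1, mem_basicOpen_iff_of_span (ModPair.interior I) rfl W t hE]
      refine ⟨hφ w, ?_⟩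
      have := hle2 hw
      change (φ.toImage ≫ φ.imageι) w ∈ W.1 at this
      rwa [hw1] at this
    rw [h2] at h1
    exact hunit.mul_left_eq_zero.1 h1
  · rw [ideal_comap_eq_map φ.imageι I hU' W.2 le_rfl]
    change (I.ideal W).map _ = _
    rw [hE, Ideal.map_span, Set.image_singleton]

theorem exists_interior_specializes {S : Scheme.{u}} {I : S.IdealSheafData}
    (hI : BlowUp.IsEffCartierIdeal I) (s : S) :
    ∃ η : S, η ∈ ModPair.interior I ∧ η ⤳ s := by
  obtain ⟨W, hsW, a, ha, hE⟩ := hI s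
  set 𝔭 := W.2.primeIdealOf ⟨s, hsW⟩ with h𝔭
  have hs : W.2.fromSpec 𝔭 = s := W.2.fromSpec_primeIdealOf ⟨s, hsW⟩
  obtain ⟨𝔮, h𝔮, h𝔮𝔭⟩ := Ideal.exists_minimalPrimes_le (bot_le : (⊥ : Ideal Γ(S, W.1)) ≤ 𝔭.asIdeal)
  have h𝔮' : 𝔮 ∈ minimalPrimes Γ(S, W.1) := h𝔮
  haveI : 𝔮.IsPrime := h𝔮.1.1
  have ha𝔮 : a ∉ 𝔮 := fun hmem =>
    Set.disjoint_left.1 (Ideal.disjoint_nonZeroDivisors_of_mem_minimalPrimes h𝔮') hmem ha
  let q : PrimeSpectrum Γ(S, W.1) := ⟨𝔮, inferInstance⟩
  refine ⟨W.2.fromSpec q, ?_, ?_⟩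
  · have h1 := Groth.Agent.S18743.interior_inf_eq_basicOpen I W a hE
    have h2 : W.2.fromSpec q ∈ S.basicOpen a := by
      change q ∈ W.2.fromSpec ⁻¹ᵁ (S.basicOpen a)
      rw [W.2.fromSpec_preimage_basicOpen]
      exact ha𝔮
    rw [← h1] at h2
    exact h2.1
  · rw [← hs]
    have h3 : q ⤳ 𝔭 := (PrimeSpectrum.le_iff_specializes q 𝔭).1 h𝔮𝔭
    exact h3.map W.2.fromSpec.continuous

end Aux


/-- Let (S, I) be a modulus pair, i.e. a scheme with the quasi-coherent ideal sheaf of an effective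
Cartier divisor, with interior U, and let g_i : V_i ⟶ U be a jointly surjective family of closed
immersions into the interior. Let V̄_i be the scheme-theoretic image of V_i ⟶ U ⟶ S. Then the closed
immersions V̄_i ⟶ S are jointly surjective, the modulus restricted to each V̄_i is again the ideal
sheaf of an effective Cartier divisor (so that V̄_i ⟶ S is a minimal morphism of modulus pairs), and
the interior of V̄_i is V_i: the canonical morphism V_i ⟶ V̄_i is an open immersion whose image is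
the preimage of U. -/
theorem result {S : Scheme.{u}} (I : S.IdealSheafData)
    (hI : BlowUp.IsEffCartierIdeal I) {ι : Type u} (V : ι → Scheme.{u})
    (g : ∀ i, V i ⟶ (ModPair.interior I : Scheme.{u})) [∀ i, IsClosedImmersion (g i)]
    (hsurj : ∀ u : (ModPair.interior I : Scheme.{u}), ∃ (i : ι) (v : V i), (g i).base v = u) :
    (∀ s : S, ∃ (i : ι) (v : (g i ≫ (ModPair.interior I).ι).image),
        (g i ≫ (ModPair.interior I).ι).imageι.base v = s) ∧
      (∀ i, BlowUp.IsEffCartierIdeal (I.comap (g i ≫ (ModPair.interior I).ι).imageι)) ∧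
      ∀ i, IsOpenImmersion (g i ≫ (ModPair.interior I).ι).toImage ∧
        Set.range (g i ≫ (ModPair.interior I).ι).toImage.base =
          (g i ≫ (ModPair.interior I).ι).imageι.base ⁻¹' (ModPair.interior I : Set S) := by
  haveI : IsAffineHom (ModPair.interior I).ι :=
    Groth.Agent.Lib.Helper2.StrictTr.isAffineHom_ι_compl hI _ rfl
  have hqc : ∀ i, QuasiCompact (g i ≫ (ModPair.interior I).ι) := fun i => inferInstance
  have hφU : ∀ i (v : V i), (g i ≫ (ModPair.interior I).ι) v ∈ ModPair.interior I := by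
    intro i v
    exact ((g i) v).2
  refine ⟨fun s => ?_, fun i => ?_, fun i => ⟨inferInstance, ?_⟩⟩
  · obtain ⟨η, hη, hηs⟩ := exists_interior_specializes hI s
    obtain ⟨i, v, hv⟩ := hsurj ⟨η, hη⟩
    have hφv : (g i ≫ (ModPair.interior I).ι) v = η := by
      change (ModPair.interior I).ι ((g i) v) = η
      have : (g i) v = ⟨η, hη⟩ := hv
      rw [this]
      rfl
    have hmem : s ∈ closure (Set.range (g i ≫ (ModPair.interior I).ι)) := by
      have h1 : s ∈ closure ({η} : Set S) := specializes_iff_mem_closure.1 hηs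
      refine closure_mono ?_ h1
      rintro _ rfl
      exact ⟨v, hφv⟩
    rw [← range_imageι_eq] at hmem
    obtain ⟨w, hw⟩ := hmem
    exact ⟨i, w, hw⟩
  · exact effCartier_comap_imageι _ hI (fun v => hφU i v)
  · set φ := g i ≫ (ModPair.interior I).ι with hφ
    ext z
    constructor
    · rintro ⟨v, rfl⟩
      change φ.imageι (φ.toImage v) ∈ ModPair.interior I
      rw [← Scheme.Hom.comp_apply, Scheme.Hom.toImage_imageι]
      exact hφU i v
    · intro hz
      have hz' : φ.imageι z ∈ ModPair.interior I := hz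
      have h1 : φ.imageι z ∈ closure (Set.range φ) := by
        rw [← range_imageι_eq]
        exact ⟨z, rfl⟩
      -- range φ is closed in the interior
      have hcl : IsClosed (Set.range (g i)) := (g i).isClosedEmbedding.isClosed_range
      obtain ⟨C, hC, hCeq⟩ := (ModPair.interior I).ι.isEmbedding.isInducing.isClosed_iff.1 hcl
      have h3 : Set.range φ ⊆ C := by
        rintro _ ⟨v, rfl⟩
        have : (g i) v ∈ (ModPair.interior I).ι ⁻¹' C := by
          rw [hCeq]; exact ⟨v, rfl⟩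
        exact this
      have h4 : φ.imageι z ∈ C := (closure_minimal h3 hC) h1
      have h2 : (⟨φ.imageι z, hz'⟩ : ModPair.interior I) ∈ (ModPair.interior I).ι ⁻¹' C := h4
      rw [hCeq] at h2
      obtain ⟨v, hv⟩ := h2
      refine ⟨v, ?_⟩
      apply φ.imageι.isEmbedding.injective
      change φ.imageι (φ.toImage v) = φ.imageι z
      rw [← Scheme.Hom.comp_apply, Scheme.Hom.toImage_imageι]
      change (ModPair.interior I).ι ((g i) v) = _
      rw [hv]
      rfl

end Groth.Agent.S19330
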