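import Groth.Statements.S19333
import Mathlib.Tactic
import Mathlib.RingTheory.Valuation.LocalSubring

set_option autoImplicit false
universe u
open ModPair

namespace Groth.Agent.S19333

open Polynomial in
/-- The submonoid of values at `x` of monic polynomials. -/
def monicValues (A : Type u) {B : Type u} [CommRing A] [CommRing B] [Algebra A B] (x : B) :
    Submonoid B where
  carrier := {b | ∃ p : A[X], p.Monic ∧ Polynomial.aeval x p = b}
  one_mem' := ⟨1, Polynomial.monic_one, by simp⟩
  mul_mem' := by
    rintro a b ⟨p, hp, rfl⟩ ⟨q, hq, rfl⟩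
    exact ⟨p * q, hp.mul hq, by simp⟩

theorem forward {A B : Type u} [CommRing A] [CommRing B] [Algebra A B] (x : B)
    (hx : IsIntegral A x) (K : Type u) [Field K] (R : ValuationSubring K) (φ : B →+* K)
    (h : ∀ a : A, φ (algebraMap A B a) ∈ R) : φ x ∈ R := by
  let g : A →+* R := (φ.comp (algebraMap A B)).codRestrict R.toSubring h
  have h1 : IsIntegral R (φ x) :=
    IsIntegral.map_of_comp_eq g φ (by ext a; rfl) hx
  obtain ⟨y, hy⟩ := IsIntegrallyClosed.isIntegral_iff.mp h1
  rw [← hy]
  exact y.2

theorem integralElem_of_forall {A : Type u} [CommRing A] {K : Type u} [Field K] (f : A →+* K)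
    (y : K) (H : ∀ V : ValuationSubring K, (∀ a, f a ∈ V) → y ∈ V) : f.IsIntegralElem y := by
  have hmem : y ∈ (⨅ V : {V : ValuationSubring K // (f.range : Set K) ⊆ V.toSubring},
      V.1.toSubring) := by
    rw [Subring.mem_iInf]
    rintro ⟨V, hV⟩
    exact H V (fun a => hV ⟨a, rfl⟩)
  rw [iInf_valuationSubring_superset, Subalgebra.mem_toSubring, mem_integralClosure_iff] at hmem
  -- transfer integrality to `A`
  set T : Subring K := Subring.closure (f.range : Set K) with hT
  have hTeq : T = f.range := Subring.closure_eq _
  let g : A →+* T := f.codRestrict T (fun a => Subring.subset_closure ⟨a, rfl⟩)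
  have hg : Function.Surjective g := by
    rintro ⟨t, ht⟩
    have ht' : t ∈ f.range := hTeq ▸ ht
    obtain ⟨a, ha⟩ := ht'
    exact ⟨a, Subtype.ext ha⟩
  letI : Algebra A K := f.toAlgebra
  letI : Algebra A T := g.toAlgebra
  haveI : IsScalarTower A T K := IsScalarTower.of_algebraMap_eq (fun a => rfl)
  haveI : Algebra.IsIntegral A T := Algebra.isIntegral_of_surjective hg
  have h2 : IsIntegral A y := isIntegral_trans (A := T) _ hmem
  exact h2

theorem backward {A B : Type u} [CommRing A] [CommRing B] [Algebra A B] (x : B)
    (H : ∀ (K : Type u) [Field K] (R : ValuationSubring K) (φ : B →+* K),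
        (∀ a : A, φ (algebraMap A B a) ∈ R) → φ x ∈ R) : IsIntegral A x := by
  by_contra hx
  have hdisj : Disjoint ((⊥ : Ideal B) : Set B) (monicValues A x) := by
    rw [Set.disjoint_left]
    intro b hb hb'
    have hb0 : b = 0 := by simpa using hb
    obtain ⟨p, hp, hpb⟩ := hb'
    exact hx ⟨p, hp, by rw [← Polynomial.aeval_def, hpb, hb0]⟩
  obtain ⟨Q, hQ, -, hQd⟩ := Ideal.exists_le_prime_disjoint (⊥ : Ideal B) (monicValues A x) hdisj
  let K := FractionRing (B ⧸ Q)
  let φ : B →+* K := (algebraMap (B ⧸ Q) K).comp (Ideal.Quotient.mk Q)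
  obtain ⟨p, hp, hp0⟩ := integralElem_of_forall (φ.comp (algebraMap A B)) (φ x)
    (fun V hV => H K V φ hV)
  have h3 : φ (Polynomial.aeval x p) = 0 := by
    rw [Polynomial.aeval_def, Polynomial.hom_eval₂]
    exact hp0
  have h4 : Ideal.Quotient.mk Q (Polynomial.aeval x p) = 0 := by
    have hinj : Function.Injective (algebraMap (B ⧸ Q) K) := IsFractionRing.injective _ _
    apply hinj
    rw [map_zero]
    exact h3
  rw [Ideal.Quotient.eq_zero_iff_mem] at h4
  exact Set.disjoint_left.mp hQd h4 ⟨p, hp, rfl⟩

/-- Let A → B be any homomorphism of commutative rings. An element x of B is integral over A if and only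
if for every field K, every valuation subring R of K and every ring homomorphism φ : B → K which
sends the image of A into R, the element φ(x) lies in R. In other words the integral closure of A in
B is the intersection of the subrings R ×_K B taken over all commutative squares A → R ⊆ K ← B with
R a valuation ring of the field K. -/
theorem result {A B : Type u} [CommRing A]
    [CommRing B] [Algebra A B] (x : B) :
    x ∈ integralClosure A B ↔
      ∀ (K : Type u) [Field K] (R : ValuationSubring K) (φ : B →+* K),
        (∀ a : A, φ (algebraMap A B a) ∈ R) → φ x ∈ R := by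
  constructor
  · intro hx K _ R φ h
    exact forward x hx K R φ h
  · intro H
    exact backward x H

end Groth.Agent.S19333
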