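import Groth.Statements.S19334
import Mathlib
import Groth.Agent.Lib.Helper20EffCartier

set_option autoImplicit false
universe u
open CategoryTheory CategoryTheory.Limits AlgebraicGeometry TopologicalSpace
open ModPair

namespace Groth.Agent.S19334

section Aux

open Groth.Agent.Lib.Helper20.EffCartier

/-- Pure algebra: a nonzerodivisor non-unit `c` of `A` maps to a nonzero non-unit in some valuation
ring. -/
theorem exists_valuationRing_of_not_isUnit {A : Type u} [CommRing A] (c : A)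
    (hc : c ∈ nonZeroDivisors A) (hu : ¬ IsUnit c) :
    ∃ (K : Type u) (_ : Field K) (V : ValuationSubring K) (φ : A →+* V),
      φ c ≠ 0 ∧ ¬ IsUnit (φ c) := by
  obtain ⟨𝔭, hmax, hc𝔭⟩ := exists_max_ideal_of_mem_nonunits hu
  haveI : 𝔭.IsPrime := hmax.isPrime
  obtain ⟨𝔮, h𝔮, h𝔮𝔭⟩ := Ideal.exists_minimalPrimes_le (bot_le : (⊥ : Ideal A) ≤ 𝔭)
  have h𝔮' : 𝔮 ∈ minimalPrimes A := h𝔮
  haveI : 𝔮.IsPrime := h𝔮.1.1
  have hc𝔮 : c ∉ 𝔮 := fun hmem =>
    Set.disjoint_left.1 (Ideal.disjoint_nonZeroDivisors_of_mem_minimalPrimes h𝔮') hmem hc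
  let K := FractionRing (A ⧸ 𝔮)
  let f₀ : A →+* K := (algebraMap (A ⧸ 𝔮) K).comp (Ideal.Quotient.mk 𝔮)
  have hf₀ : ∀ y : A, y ∉ 𝔮 → f₀ y ≠ 0 := by
    intro y hy h0
    have h1 : Ideal.Quotient.mk 𝔮 y = 0 :=
      (IsFractionRing.injective (A ⧸ 𝔮) K) (by simpa [f₀] using h0)
    exact hy (Ideal.Quotient.eq_zero_iff_mem.1 h1)
  let f : Localization.AtPrime 𝔭 →+* K :=
    IsLocalization.lift (M := 𝔭.primeCompl) (g := f₀)
      (fun y => (hf₀ y.1 (fun hy => y.2 (h𝔮𝔭 hy))).isUnit)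
  obtain ⟨V, hV, hloc⟩ := IsLocalRing.exists_factor_valuationRing f
  refine ⟨K, inferInstance, V,
    (f.codRestrict V.toSubring hV).comp (algebraMap A (Localization.AtPrime 𝔭)), ?_, ?_⟩
  · intro h0
    have h1 : f (algebraMap A (Localization.AtPrime 𝔭) c) = 0 := congrArg Subtype.val h0
    rw [IsLocalization.lift_eq] at h1
    exact hf₀ c hc𝔮 h1
  · intro hunit
    have h2 : IsUnit (algebraMap A (Localization.AtPrime 𝔭) c) := hloc.map_nonunit _ hunit
    rw [IsLocalization.AtPrime.isUnit_to_map_iff (Localization.AtPrime 𝔭) 𝔭] at h2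
    exact h2 hc𝔭

/-- `appLE` of `Spec.map ψ ≫ hU.fromSpec` on `U` and `⊤`. -/
theorem appLE_specMap_fromSpec {X : Scheme.{u}} {U : X.Opens} (hU : IsAffineOpen U)
    {B : CommRingCat.{u}} (ψ : Γ(X, U) ⟶ B)
    (hle : (⊤ : (Spec B).Opens) ≤ (Spec.map ψ ≫ hU.fromSpec) ⁻¹ᵁ U) :
    (Spec.map ψ ≫ hU.fromSpec).appLE U ⊤ hle = ψ ≫ (Scheme.ΓSpecIso B).inv := by
  have e : (⊤ : (Spec Γ(X, U)).Opens) ≤ hU.fromSpec ⁻¹ᵁ U := by
    rw [hU.fromSpec_preimage_self]
  have h2 : hU.fromSpec.appLE U ⊤ e = (Scheme.ΓSpecIso Γ(X, U)).inv := by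
    rw [Scheme.Hom.appLE, hU.fromSpec_app_self, Category.assoc, ← Functor.map_comp]
    convert Category.comp_id _
    exact CategoryTheory.Functor.map_id _ _
  have h3 : (Spec.map ψ ≫ hU.fromSpec).appLE U ⊤ hle =
      hU.fromSpec.appLE U ⊤ e ≫ (Spec.map ψ).appLE ⊤ ⊤ le_top := by
    rw [Scheme.Hom.appLE_comp_appLE]
  rw [h3, h2, Scheme.ΓSpecIso_inv_naturality ψ, Scheme.Hom.appLE]
  congr 1

/-- Under the valuative hypothesis, a local generator of `I` is a unit. -/
theorem isUnit_of_valuative {X : Scheme.{u}} (I : X.IdealSheafData)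
    (h : ∀ (R : Type u) [CommRing R] [IsDomain R] [ValuationRing R]
      (p : Spec (CommRingCat.of R) ⟶ X), BlowUp.IsEffCartierIdeal (I.comap p) → I.comap p = ⊤)
    (U : X.affineOpens) (c : Γ(X, U.1)) (hc : c ∈ nonZeroDivisors Γ(X, U.1))
    (hI : I.ideal U = Ideal.span {c}) : IsUnit c := by
  by_contra hu
  obtain ⟨K, _, V, φ, hφ0, hφu⟩ := exists_valuationRing_of_not_isUnit c hc hu
  let ψ : Γ(X, U.1) ⟶ CommRingCat.of V := CommRingCat.ofHom φ
  let p : Spec (CommRingCat.of V) ⟶ X := Spec.map ψ ≫ U.2.fromSpec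
  have hle : (⊤ : (Spec (CommRingCat.of V)).Opens) ≤ p ⁻¹ᵁ U.1 := by
    intro z _
    change U.2.fromSpec ((Spec.map ψ) z) ∈ U.1
    have : U.2.fromSpec ((Spec.map ψ) z) ∈ U.2.fromSpec.opensRange := ⟨_, rfl⟩
    rwa [U.2.opensRange_fromSpec] at this
  have hform : (I.comap p).ideal ⟨⊤, isAffineOpen_top _⟩ =
      Ideal.span {(p.appLE U.1 ⊤ hle).hom c} := by
    rw [ideal_comap_eq_map p I (isAffineOpen_top _) U.2 hle, hI, Ideal.map_span,
      Set.image_singleton]
  have happ : (p.appLE U.1 ⊤ hle).hom c = (Scheme.ΓSpecIso (CommRingCat.of V)).inv.hom (φ c) := by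
    have := appLE_specMap_fromSpec U.2 ψ hle
    change p.appLE U.1 ⊤ hle = _ at this
    rw [this]
    rfl
  set d := (p.appLE U.1 ⊤ hle).hom c with hd
  let e : V ≃+* Γ(Spec (CommRingCat.of V), ⊤) :=
    (Scheme.ΓSpecIso (CommRingCat.of V)).symm.commRingCatIsoToRingEquiv
  have hde : d = e (φ c) := happ
  have hd0 : d ≠ 0 := by
    rw [hde]
    exact (EmbeddingLike.map_ne_zero_iff (f := e)).2 hφ0
  have hdu : ¬ IsUnit d := by
    rw [hde]
    intro hunit
    exact hφu ((isUnit_map_iff e (φ c)).1 hunit)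
  haveI : IsDomain Γ(Spec (CommRingCat.of V), ⊤) := e.toMulEquiv.isDomain_iff.1 inferInstance
  have hEC : BlowUp.IsEffCartierIdeal (I.comap p) := by
    intro z
    exact ⟨⟨⊤, isAffineOpen_top _⟩, trivial, d, mem_nonZeroDivisors_of_ne_zero hd0, hform⟩
  have htop := h V p hEC
  rw [htop, Scheme.IdealSheafData.ideal_top] at hform
  exact hdu (Ideal.span_singleton_eq_top.1 hform.symm)

end Aux


/-- Let (X, I) be a modulus pair, i.e. a scheme X with the quasi-coherent ideal sheaf I of an effective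
Cartier divisor. Suppose that for every valuation ring R and every morphism p : Spec R ⟶ X along
which the divisor of I pulls back to an effective Cartier divisor on Spec R (so that p is a minimal
morphism of modulus pairs for the pulled-back modulus), the pulled-back divisor is empty, I.comap p
= ⊤. Then the divisor of I is empty: I = ⊤. -/
theorem result {X : Scheme.{u}}
    (I : X.IdealSheafData) (hI : BlowUp.IsEffCartierIdeal I)
    (h : ∀ (R : Type u) [CommRing R] [IsDomain R] [ValuationRing R]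
      (p : Spec (CommRingCat.of R) ⟶ X), BlowUp.IsEffCartierIdeal (I.comap p) → I.comap p = ⊤) :
    I = ⊤ := by
  choose U hxU c hc hIU using hI
  refine Scheme.IdealSheafData.ext_of_iSup_eq_top U ?_ (fun x => ?_)
  · rw [eq_top_iff]
    intro x _
    exact TopologicalSpace.Opens.mem_iSup.mpr ⟨x, hxU x⟩
  · rw [hIU x, Scheme.IdealSheafData.ideal_top]
    exact Ideal.span_singleton_eq_top.2 (isUnit_of_valuative I h (U x) (c x) (hc x) (hIU x))

end Groth.Agent.S19334
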