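import Groth.Statements.S19335
import Mathlib
import Groth.Agent.Lib.Helper20EffCartier
import Groth.Agent.S19334
import Groth.Agent.S18743

set_option autoImplicit false
universe u
open CategoryTheory CategoryTheory.Limits AlgebraicGeometry TopologicalSpace
open ModPair

namespace Groth.Agent.S19335

section Aux

open Groth.Agent.Lib.Helper20.EffCartier

/-- Two-element version: `a` a nonzerodivisor, `c` a non-unit: some valuation ring sees `a ≠ 0`
and `c` a non-unit. -/
theorem exists_valuationSubring_two {A : Type u} [CommRing A] (a c : A)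
    (ha : a ∈ nonZeroDivisors A) (hu : ¬ IsUnit c) :
    ∃ (K : Type u) (_ : Field K) (V : ValuationSubring K) (φ : A →+* V),
      φ a ≠ 0 ∧ ¬ IsUnit (φ c) := by
  obtain ⟨𝔭, hmax, hc𝔭⟩ := exists_max_ideal_of_mem_nonunits hu
  haveI : 𝔭.IsPrime := hmax.isPrime
  obtain ⟨𝔮, h𝔮, h𝔮𝔭⟩ := Ideal.exists_minimalPrimes_le (bot_le : (⊥ : Ideal A) ≤ 𝔭)
  have h𝔮' : 𝔮 ∈ minimalPrimes A := h𝔮
  haveI : 𝔮.IsPrime := h𝔮.1.1
  have ha𝔮 : a ∉ 𝔮 := fun hmem =>
    Set.disjoint_left.1 (Ideal.disjoint_nonZeroDivisors_of_mem_minimalPrimes h𝔮') hmem ha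
  let K := FractionRing (A ⧸ 𝔮)
  let f₀ : A →+* K := (algebraMap (A ⧸ 𝔮) K).comp (Ideal.Quotient.mk 𝔮)
  have hf₀ : ∀ y : A, y ∉ 𝔮 → f₀ y ≠ 0 := by
    intro y hy h0
    have h1 : Ideal.Quotient.mk 𝔮 y = 0 :=
      (IsFractionRing.injective (A ⧸ 𝔮) K) (by simpa [f₀] using h0)
    exact hy (Ideal.Quotient.eq_zero_iff_mem.1 h1)
  let f : Localization.AtPrime 𝔭 →+* K :=
    IsLocalization.lift (M := 𝔭.primeCompl) (g := f₀)
      (fun y => (hf₀ y.1 (fun hy => y.2 (h𝔮𝔭 hy))).isUnit)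
  obtain ⟨V, hV, hloc⟩ := IsLocalRing.exists_factor_valuationRing f
  refine ⟨K, inferInstance, V,
    (f.codRestrict V.toSubring hV).comp (algebraMap A (Localization.AtPrime 𝔭)), ?_, ?_⟩
  · intro h0
    have h1 : f (algebraMap A (Localization.AtPrime 𝔭) a) = 0 := congrArg Subtype.val h0
    rw [IsLocalization.lift_eq] at h1
    exact hf₀ a ha𝔮 h1
  · intro hunit
    have h2 : IsUnit (algebraMap A (Localization.AtPrime 𝔭) c) := hloc.map_nonunit _ hunit
    rw [IsLocalization.AtPrime.isUnit_to_map_iff (Localization.AtPrime 𝔭) 𝔭] at h2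
    exact h2 hc𝔭

theorem valuationRing_quotient (R : Type u) [CommRing R] [IsDomain R] [ValuationRing R]
    (p : Ideal R) [p.IsPrime] : ValuationRing (R ⧸ p) := by
  have : PreValuationRing (R ⧸ p) := ?_
  · exact { }
  constructor
  intro x y
  obtain ⟨a, rfl⟩ := Ideal.Quotient.mk_surjective x
  obtain ⟨b, rfl⟩ := Ideal.Quotient.mk_surjective y
  obtain ⟨c, hc | hc⟩ := ValuationRing.cond a b
  · exact ⟨Ideal.Quotient.mk p c, Or.inl (by rw [← map_mul, hc])⟩
  · exact ⟨Ideal.Quotient.mk p c, Or.inr (by rw [← map_mul, hc])⟩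

/-- The key algebraic input: `a` nonzerodivisor, `c` non-unit; there is a valuation ring `R` with
`ψ a ≠ 0` lying in every nonzero prime and `ψ c` a non-unit. -/
theorem exists_valuationRing_rankOne {A : Type u} [CommRing A] (a c : A)
    (ha : a ∈ nonZeroDivisors A) (hu : ¬ IsUnit c) :
    ∃ (R : Type u) (_ : CommRing R) (_ : IsDomain R) (_ : ValuationRing R) (ψ : A →+* R),
      ψ a ≠ 0 ∧ ¬ IsUnit (ψ c) ∧ ∀ 𝔯 : Ideal R, 𝔯.IsPrime → 𝔯 ≠ ⊥ → ψ a ∈ 𝔯 := by
  obtain ⟨K, _, V, φ, hφa, hφc⟩ := exists_valuationSubring_two a c ha hu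
  set t : V := φ a with ht
  let S : Submonoid V := Submonoid.powers t
  have hdisj : Disjoint ((⊥ : Ideal V) : Set V) S := by
    rw [Set.disjoint_left]
    rintro x hx ⟨n, rfl⟩
    exact pow_ne_zero n hφa ((Ideal.mem_bot).1 hx)
  have ⟨p, _, hp⟩ := zorn_le_nonempty₀ {p : Ideal V | Disjoint (p : Set V) S}
    (fun c hc hc' x hx ↦ by
      cases isEmpty_or_nonempty c
      · exact ⟨⊥, hdisj, fun J hJ ↦ isEmptyElim (⟨J, hJ⟩ : c)⟩
      refine ⟨sSup c, Set.disjoint_left.mpr fun x hx ↦ ?_, fun _ ↦ le_sSup⟩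
      have ⟨p, hp⟩ := (Submodule.mem_iSup_of_directed _ hc'.directed).mp (sSup_eq_iSup' c ▸ hx)
      exact Set.disjoint_left.mp (hc p.2) hp) ⊥ hdisj
  have hpd : Disjoint (p : Set V) S := hp.1
  haveI hpp : p.IsPrime :=
    Ideal.isPrime_of_maximally_disjoint _ _ hp.1 (fun _ ↦ hp.not_prop_of_gt)
  haveI := valuationRing_quotient V p
  refine ⟨V ⧸ p, inferInstance, inferInstance, inferInstance,
    (Ideal.Quotient.mk p).comp φ, ?_, ?_, ?_⟩
  · intro h0
    have : t ∈ p := Ideal.Quotient.eq_zero_iff_mem.1 h0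
    exact Set.disjoint_left.1 hpd this (Submonoid.mem_powers t)
  · intro hunit
    haveI : IsLocalHom (Ideal.Quotient.mk p) :=
      IsLocalHom.of_surjective _ Ideal.Quotient.mk_surjective
    exact hφc (IsLocalHom.map_nonunit (f := Ideal.Quotient.mk p) _ hunit)
  · intro 𝔯 h𝔯 hne
    have hle : p ≤ 𝔯.comap (Ideal.Quotient.mk p) := by
      intro x hx
      rw [Ideal.mem_comap, Ideal.Quotient.eq_zero_iff_mem.2 hx]
      exact 𝔯.zero_mem
    have hlt : p < 𝔯.comap (Ideal.Quotient.mk p) := by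
      refine lt_of_le_of_ne hle (fun heq => hne ?_)
      have h1 := Ideal.map_comap_of_surjective (Ideal.Quotient.mk p)
        Ideal.Quotient.mk_surjective 𝔯
      rw [← heq, Ideal.map_quotient_self] at h1
      exact h1.symm
    have hnd := hp.not_prop_of_gt hlt
    rw [Set.mem_ofPred_eq, Set.not_disjoint_iff] at hnd
    obtain ⟨x, hx, ⟨n, rfl⟩⟩ := hnd
    have hx' : (Ideal.Quotient.mk p) t ^ n ∈ 𝔯 := by
      rw [← map_pow]; exact hx
    exact h𝔯.mem_of_pow_mem n hx'

theorem principal_on_basicOpen {X : Scheme.{u}} (K : X.IdealSheafData) (U : X.affineOpens)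
    (a : Γ(X, U.1)) (ha : a ∈ nonZeroDivisors Γ(X, U.1)) (hK : K.ideal U = Ideal.span {a})
    (r : Γ(X, U.1)) :
    ∃ a' : Γ(X, X.basicOpen r), a' ∈ nonZeroDivisors Γ(X, X.basicOpen r) ∧
      K.ideal ⟨X.basicOpen r, U.2.basicOpen r⟩ = Ideal.span {a'} := by
  refine ⟨(X.presheaf.map (homOfLE (X.basicOpen_le r)).op).hom a, ?_, ?_⟩
  · have inst := U.2.isLocalization_basicOpen r
    have h1 : (X.presheaf.map (homOfLE (X.basicOpen_le r)).op).hom = algebraMap _ _ := rfl
    rw [h1]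
    exact IsLocalization.map_nonZeroDivisors_le (.powers r) _ (Submonoid.mem_map_of_mem _ ha)
  · have h2 := K.map_ideal_basicOpen U r
    rw [hK, Ideal.map_span, Set.image_singleton] at h2
    exact h2.symm

theorem ideal_eq_of_valuative {X : Scheme.{u}} (I J : X.IdealSheafData) (hJI : J ≤ I)
    (h : ∀ (R : Type u) [CommRing R] [IsDomain R] [ValuationRing R]
      (p : Spec (CommRingCat.of R) ⟶ X), BlowUp.IsEffCartierIdeal (I.comap p) →
        (∀ x : Spec (CommRingCat.of R),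
          x ∈ (ModPair.interior (I.comap p) : Set (Spec (CommRingCat.of R))) ↔ x.asIdeal = ⊥) →
        I.comap p = J.comap p)
    (U : X.affineOpens) (a b : Γ(X, U.1)) (ha : a ∈ nonZeroDivisors Γ(X, U.1))
    (hIa : I.ideal U = Ideal.span {a}) (hJb : J.ideal U = Ideal.span {b}) :
    I.ideal U = J.ideal U := by
  have hb : b ∈ I.ideal U := hJI U (hJb ▸ Ideal.mem_span_singleton_self b)
  rw [hIa, Ideal.mem_span_singleton'] at hb
  obtain ⟨c, hcb⟩ := hb
  suffices hcu : IsUnit c by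
    rw [hIa, hJb, ← hcb, mul_comm]
    exact (Ideal.span_singleton_mul_right_unit hcu a).symm
  by_contra hu
  obtain ⟨R, _, _, _, φ, hφa, hφc, hrank⟩ := exists_valuationRing_rankOne a c ha hu
  let ψ : Γ(X, U.1) ⟶ CommRingCat.of R := CommRingCat.ofHom φ
  let p : Spec (CommRingCat.of R) ⟶ X := Spec.map ψ ≫ U.2.fromSpec
  have hle : (⊤ : (Spec (CommRingCat.of R)).Opens) ≤ p ⁻¹ᵁ U.1 := by
    intro z _
    change U.2.fromSpec ((Spec.map ψ) z) ∈ U.1
    have : U.2.fromSpec ((Spec.map ψ) z) ∈ U.2.fromSpec.opensRange := ⟨_, rfl⟩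
    rwa [U.2.opensRange_fromSpec] at this
  have happ : ∀ y : Γ(X, U.1),
      (p.appLE U.1 ⊤ hle).hom y = (Scheme.ΓSpecIso (CommRingCat.of R)).inv.hom (φ y) := by
    intro y
    have := Groth.Agent.S19334.appLE_specMap_fromSpec U.2 ψ hle
    change p.appLE U.1 ⊤ hle = _ at this
    rw [this]
    rfl
  let e : R ≃+* Γ(Spec (CommRingCat.of R), ⊤) :=
    (Scheme.ΓSpecIso (CommRingCat.of R)).symm.commRingCatIsoToRingEquiv
  have hformI : (I.comap p).ideal ⟨⊤, isAffineOpen_top _⟩ = Ideal.span {e (φ a)} := by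
    rw [ideal_comap_eq_map p I (isAffineOpen_top _) U.2 hle, hIa, Ideal.map_span,
      Set.image_singleton, happ]
    rfl
  have hformJ : (J.comap p).ideal ⟨⊤, isAffineOpen_top _⟩ = Ideal.span {e (φ a) * e (φ c)} := by
    rw [ideal_comap_eq_map p J (isAffineOpen_top _) U.2 hle, hJb, Ideal.map_span,
      Set.image_singleton, happ, ← hcb, mul_comm, map_mul, map_mul]
    rfl
  have hd0 : e (φ a) ≠ 0 := (EmbeddingLike.map_ne_zero_iff (f := e)).2 hφa
  haveI : IsDomain Γ(Spec (CommRingCat.of R), ⊤) := e.toMulEquiv.isDomain_iff.1 inferInstance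
  have hEC : BlowUp.IsEffCartierIdeal (I.comap p) := by
    intro z
    exact ⟨⟨⊤, isAffineOpen_top _⟩, trivial, e (φ a), mem_nonZeroDivisors_of_ne_zero hd0, hformI⟩
  have hint : ∀ x : Spec (CommRingCat.of R),
      x ∈ (ModPair.interior (I.comap p) : Set (Spec (CommRingCat.of R))) ↔ x.asIdeal = ⊥ := by
    intro x
    have h1 := Groth.Agent.S18743.interior_inf_eq_basicOpen (I.comap p)
      ⟨⊤, isAffineOpen_top _⟩ (e (φ a)) hformI
    rw [inf_top_eq] at h1
    have h2 : (Spec (CommRingCat.of R)).basicOpen (e (φ a)) = PrimeSpectrum.basicOpen (φ a) :=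
      basicOpen_eq_of_affine (R := CommRingCat.of R) (φ a)
    rw [SetLike.mem_coe, h1, h2]
    change φ a ∉ x.asIdeal ↔ _
    constructor
    · intro hx
      by_contra hne
      exact hx (hrank x.asIdeal x.isPrime hne)
    · intro hx
      rw [hx, Ideal.mem_bot]
      exact hφa
  have heq := h R p hEC hint
  rw [heq, hformJ] at hformI
  have hmem : e (φ a) ∈ Ideal.span {e (φ a) * e (φ c)} :=
    hformI ▸ Ideal.mem_span_singleton_self _
  rw [Ideal.mem_span_singleton'] at hmem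
  obtain ⟨r, hr⟩ := hmem
  have h3 : e (φ a) * (r * e (φ c)) = e (φ a) * 1 := by
    rw [mul_one]
    calc e (φ a) * (r * e (φ c)) = r * (e (φ a) * e (φ c)) := by ring
      _ = e (φ a) := hr
  have h4 := mul_left_cancel₀ hd0 h3
  have h5 : IsUnit (e (φ c)) := IsUnit.of_mul_eq_one _ (by rw [mul_comm]; exact h4)
  exact hφc ((isUnit_map_iff e (φ c)).1 h5)

end Aux


/-- Let X be a scheme and I, J quasi-coherent ideal sheaves of effective Cartier divisors D_I ≤ D_J on
X, i.e. J ≤ I. Suppose that for every valuation ring R and every morphism p : Spec R ⟶ X such that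
I.comap p is the ideal sheaf of an effective Cartier divisor on Spec R (so p is a minimal morphism
of modulus pairs for (X, I)) whose open complement consists of the generic point of Spec R only, the
two divisors agree after pull-back, I.comap p = J.comap p. Then I = J. -/
theorem result {X : Scheme.{u}} (I J : X.IdealSheafData)
    (hI : BlowUp.IsEffCartierIdeal I) (hJ : BlowUp.IsEffCartierIdeal J) (hJI : J ≤ I)
    (h : ∀ (R : Type u) [CommRing R] [IsDomain R] [ValuationRing R]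
      (p : Spec (CommRingCat.of R) ⟶ X), BlowUp.IsEffCartierIdeal (I.comap p) →
        (∀ x : Spec (CommRingCat.of R),
          x ∈ (ModPair.interior (I.comap p) : Set (Spec (CommRingCat.of R))) ↔ x.asIdeal = ⊥) →
        I.comap p = J.comap p) :
    I = J := by
  have key : ∀ x : X, ∃ V : X.affineOpens, x ∈ V.1 ∧ I.ideal V = J.ideal V := by
    intro x
    obtain ⟨U₁, hx1, a, ha, hIa⟩ := hI x
    obtain ⟨U₂, hx2, b, hb, hJb⟩ := hJ x
    obtain ⟨f, g, efg, hxf⟩ := exists_basicOpen_le_affine_inter U₁.2 U₂.2 x ⟨hx1, hx2⟩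
    obtain ⟨a', ha', hIa'⟩ := principal_on_basicOpen I U₁ a ha hIa f
    obtain ⟨b', hb', hJb'⟩ := principal_on_basicOpen J U₂ b hb hJb g
    have hJ'' : ∀ (V : X.Opens) (hV : IsAffineOpen V), V = X.basicOpen g →
        ∃ b'' : Γ(X, V), J.ideal ⟨V, hV⟩ = Ideal.span {b''} := by
      rintro V hV rfl
      exact ⟨b', hJb'⟩
    obtain ⟨b'', hJb''⟩ := hJ'' (X.basicOpen f) (U₁.2.basicOpen f) efg
    exact ⟨⟨X.basicOpen f, U₁.2.basicOpen f⟩, hxf,
      ideal_eq_of_valuative I J hJI h _ a' b'' ha' hIa' hJb''⟩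
  choose V hxV hV using key
  refine Scheme.IdealSheafData.ext_of_iSup_eq_top V ?_ hV
  rw [eq_top_iff]
  intro x _
  exact TopologicalSpace.Opens.mem_iSup.mpr ⟨x, hxV x⟩

end Groth.Agent.S19335
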