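import Groth.Statements.S19338
import Mathlib.Tactic

set_option autoImplicit false
universe w v u
open CategoryTheory
open ModPair

namespace Groth.Agent.S19338

/-- Let C be a category and S a class of morphisms which contains the identities, is closed under
composition, admits a right calculus of fractions, and consists of monomorphisms. Then the sieves
containing a morphism of S are the covering sieves of a Grothendieck topology on C, and for every
such topology J a presheaf of types F on C is a J-sheaf if and only if it is S-local, i.e. F sends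
every morphism of S to a bijection. -/
theorem result {C : Type u} [Category.{v} C]
    (S : MorphismProperty C) [S.HasRightCalculusOfFractions]
    (hmono : ∀ ⦃X Y : C⦄ (s : X ⟶ Y), S s → Mono s) :
    (∃ J : GrothendieckTopology C, ∀ (X : C) (T : Sieve X),
        T ∈ J X ↔ ∃ (Y : C) (s : Y ⟶ X), S s ∧ T s) ∧
      ∀ J : GrothendieckTopology C, (∀ (X : C) (T : Sieve X),
          T ∈ J X ↔ ∃ (Y : C) (s : Y ⟶ X), S s ∧ T s) →
        ∀ F : Cᵒᵖ ⥤ Type w,
          Presheaf.IsSheaf J F ↔ ∀ ⦃X Y : C⦄ (s : X ⟶ Y), S s → IsIso (F.map s.op) := by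
  have ore : ∀ ⦃X Y Z : C⦄ (f : Z ⟶ X) (s : Y ⟶ X), S s →
      ∃ (Z' : C) (s' : Z' ⟶ Z) (f' : Z' ⟶ Y), S s' ∧ s' ≫ f = f' ≫ s := by
    intro X Y Z f s hs
    obtain ⟨ψ, hψ⟩ := MorphismProperty.HasRightCalculusOfFractions.exists_rightFraction
      (W := S) (MorphismProperty.LeftFraction.mk f s hs)
    exact ⟨_, ψ.s, ψ.f, ψ.hs, hψ⟩
  refine ⟨⟨{ sieves := fun X => {T | ∃ (Y : C) (s : Y ⟶ X), S s ∧ T s}, top_mem' := ?_,
             pullback_stable' := ?_, transitive' := ?_ }, fun X T => Iff.rfl⟩, ?_⟩
  · intro X
    exact ⟨X, 𝟙 X, S.id_mem X, trivial⟩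
  · intro X Z T f hT
    obtain ⟨Y, s, hs, hTs⟩ := hT
    obtain ⟨Z', s', f', hs', e⟩ := ore f s hs
    refine ⟨Z', s', hs', ?_⟩
    change T (s' ≫ f)
    rw [e]
    exact T.downward_closed hTs f'
  · intro X T hT R hR
    obtain ⟨Y, s, hs, hTs⟩ := hT
    obtain ⟨Z, t, ht, hRt⟩ := hR hTs
    exact ⟨Z, t ≫ s, S.comp_mem _ _ ht hs, hRt⟩
  · intro J hJ F
    rw [isSheaf_iff_isSheaf_of_type]
    constructor
    · intro hF X Y s hs
      haveI := hmono s hs
      rw [isIso_iff_bijective]
      have hcov : Sieve.generate (Presieve.singleton s) ∈ J Y :=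
        (hJ _ _).mpr ⟨X, s, hs, ⟨X, 𝟙 X, s, Presieve.singleton.mk, by simp⟩⟩
      have hsh := hF _ hcov
      rw [← Presieve.isSheafFor_iff_generate, Presieve.isSheafFor_singleton] at hsh
      have key : ∀ x : F.obj (Opposite.op X), ∃! y, F.map s.op y = x := by
        intro x
        apply hsh x
        intro Z p₁ p₂ h
        rw [(cancel_mono s).mp h]
      constructor
      · intro a b hab
        obtain ⟨y, _, hy⟩ := key (F.map s.op b)
        rw [hy a hab, hy b rfl]
      · intro x
        obtain ⟨y, hy, _⟩ := key x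
        exact ⟨y, hy⟩
    · intro hF X T hT
      obtain ⟨Y, s, hs, hTs⟩ := (hJ _ _).mp hT
      haveI := hF s hs
      have hbij : Function.Bijective (F.map s.op) := (isIso_iff_bijective _).mp inferInstance
      intro x hx
      obtain ⟨y, hy⟩ := hbij.2 (x s hTs)
      refine ⟨y, ?_, ?_⟩
      · intro Z f hf
        obtain ⟨Z', s', f', hs', e⟩ := ore f s hs
        haveI := hF s' hs'
        have hinj : Function.Injective (F.map s'.op) :=
          ((isIso_iff_bijective _).mp inferInstance).1
        apply hinj
        have h1 : F.map s'.op (F.map f.op y) = F.map f'.op (F.map s.op y) := by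
          rw [← FunctorToTypes.map_comp_apply, ← FunctorToTypes.map_comp_apply, ← op_comp,
            ← op_comp, e]
        rw [h1, hy]
        exact hx f' s' hTs hf e.symm
      · intro y' hy'
        apply hbij.1
        rw [hy]
        exact hy' s hTs

end Groth.Agent.S19338
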