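import Groth.Statements.S19340
import Mathlib.Tactic
import Mathlib.CategoryTheory.Localization.CalculusOfFractions
import Mathlib.CategoryTheory.Filtered.Basic

set_option autoImplicit false
universe v v' u u'
open CategoryTheory
open ModPair

namespace Groth.Agent.S19340

/-- Let C be a category, S a class of morphisms of C containing the identities, closed under composition
and admitting a right calculus of fractions, and L : C ⥤ D a localization functor for S. Then for
every object X of C the comma category of L under X, whose objects are pairs (Y, L(X) ⟶ L(Y)) and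
whose morphisms are morphisms Y ⟶ Y' of C compatible with the structure maps, is cofiltered. The
published statement calls this category filtered; its proof verifies, and this row states,
cofilteredness. -/
theorem result {C : Type u}
    [Category.{v} C] {D : Type u'} [Category.{v'} D] (S : MorphismProperty C)
    [S.HasRightCalculusOfFractions] (L : C ⥤ D) [L.IsLocalization S] (X : C) :
    IsCofiltered (StructuredArrow (L.obj X) L) := by
  have hinv : S.IsInvertedBy L := Localization.inverts L S
  haveI : IsCofilteredOrEmpty (StructuredArrow (L.obj X) L) := by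
    refine ⟨?_, ?_⟩
    · intro A₁ A₂
      obtain ⟨φ₁, h₁⟩ := Localization.exists_rightFraction L S A₁.hom
      obtain ⟨φ₂, h₂⟩ := Localization.exists_rightFraction L S A₂.hom
      obtain ⟨ψ, hψ⟩ := MorphismProperty.HasRightCalculusOfFractions.exists_rightFraction
        (W := S) (MorphismProperty.LeftFraction.mk φ₁.s φ₂.s φ₂.hs)
      dsimp at hψ
      have hs3 : S (ψ.s ≫ φ₁.s) := S.comp_mem _ _ ψ.hs φ₁.hs
      haveI : IsIso (L.map (ψ.s ≫ φ₁.s)) := hinv _ hs3
      haveI : IsIso (L.map φ₁.s) := hinv _ φ₁.hs
      haveI : IsIso (L.map φ₂.s) := hinv _ φ₂.hs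
      haveI : IsIso (L.map ψ.s) := hinv _ ψ.hs
      refine ⟨StructuredArrow.mk (inv (L.map (ψ.s ≫ φ₁.s))),
        StructuredArrow.homMk (ψ.s ≫ φ₁.f) ?_, StructuredArrow.homMk (ψ.f ≫ φ₂.f) ?_, trivial⟩
      · dsimp
        rw [h₁, MorphismProperty.RightFraction.map, IsIso.inv_comp_eq]
        simp only [Functor.map_comp, Category.assoc, IsIso.hom_inv_id_assoc]
      · dsimp
        rw [h₂, MorphismProperty.RightFraction.map, IsIso.inv_comp_eq, hψ]
        simp only [Functor.map_comp, Category.assoc, IsIso.hom_inv_id_assoc]
    · intro A B a b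
      obtain ⟨φ, hφ⟩ := Localization.exists_rightFraction L S A.hom
      haveI : IsIso (L.map φ.s) := hinv _ φ.hs
      have hf : L.map φ.f = L.map φ.s ≫ A.hom := by
        rw [hφ, MorphismProperty.RightFraction.map_s_comp_map]
      have hab : L.map (φ.f ≫ a.right) = L.map (φ.f ≫ b.right) := by
        rw [Functor.map_comp, Functor.map_comp, hf, Category.assoc, Category.assoc,
          StructuredArrow.w a, StructuredArrow.w b]
      obtain ⟨Z, t, ht, e⟩ := (MorphismProperty.map_eq_iff_precomp L S _ _).mp hab
      have hs3 : S (t ≫ φ.s) := S.comp_mem _ _ ht φ.hs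
      haveI : IsIso (L.map (t ≫ φ.s)) := hinv _ hs3
      haveI : IsIso (L.map t) := hinv _ ht
      refine ⟨StructuredArrow.mk (inv (L.map (t ≫ φ.s))),
        StructuredArrow.homMk (t ≫ φ.f) ?_, ?_⟩
      · dsimp
        rw [IsIso.inv_comp_eq]
        simp only [Functor.map_comp, Category.assoc, hf]
      · apply StructuredArrow.hom_ext
        simp only [StructuredArrow.comp_right, StructuredArrow.homMk_right, Category.assoc]
        simpa using e
  exact { nonempty := ⟨StructuredArrow.mk (𝟙 (L.obj X))⟩ }

end Groth.Agent.S19340
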