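import Groth.Statements.S19356
import Groth.Agent.Lib.Helper29PosInv

set_option autoImplicit false
universe u
open AbVar

namespace Groth.Agent.S19356

/-- Let R be a finite-dimensional ℚ-algebra with a ℚ-linear involution x ↦ x† (an anti-automorphism of
order two) and a ℚ-linear functional σ with σ(x x†) > 0 for every x ≠ 0; this is the positivity of
the involution, σ being the trace of R over ℚ in the case of the endomorphism algebra of an abelian
variety with a Rosati involution, and the trace on a cohomology group in the case of an algebra of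
correspondences with the adjoint for a Weil form. Let α ∈ R with α α† = q for a rational number q.
Then α† lies in the subalgebra ℚ[α], and for every ℚ-algebra homomorphism ρ : ℚ[α] → ℂ one has ρ(α†)
= the complex conjugate of ρ(α) and |ρ(α)|² = q. (The published statement is for the endomorphism
algebra of an abelian variety with a Rosati involution, with σ its trace over ℚ and q an integer;
the form given here, for an arbitrary ℚ-linear functional σ positive on every x x† with x ≠ 0 and
rational q, is what its proof establishes.) -/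
theorem result (R : Type u) [Ring R] [Algebra ℚ R]
    [Module.Finite ℚ R] [StarRing R] [StarModule ℚ R]
    (σ : R →ₗ[ℚ] ℚ) (hpos : ∀ x : R, x ≠ 0 → 0 < σ (x * star x))
    (α : R) (q : ℚ) (hα : α * star α = algebraMap ℚ R q) :
    ∃ hmem : star α ∈ Algebra.adjoin ℚ ({α} : Set R),
      ∀ ρ : Algebra.adjoin ℚ ({α} : Set R) →ₐ[ℚ] ℂ,
        ρ ⟨star α, hmem⟩ = starRingEnd ℂ (ρ ⟨α, Algebra.self_mem_adjoin_singleton ℚ α⟩) ∧
          ‖ρ ⟨α, Algebra.self_mem_adjoin_singleton ℚ α⟩‖ ^ 2 = (q : ℝ) := by
  classical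
  have hαE : α ∈ Algebra.adjoin ℚ ({α} : Set R) := Algebra.self_mem_adjoin_singleton ℚ α
  by_cases htriv : Subsingleton R
  · refine ⟨?_, ?_⟩
    · rw [Subsingleton.elim (star α) α]
      exact hαE
    · intro ρ
      exfalso
      have h1 : (1 : Algebra.adjoin ℚ ({α} : Set R)) = 0 := Subtype.ext (Subsingleton.elim _ _)
      have h2 := congrArg ρ h1
      rw [map_one, map_zero] at h2
      exact one_ne_zero h2
  rw [not_subsingleton_iff_nontrivial] at htriv
  have hσ1 : 0 < σ 1 := by
    have := hpos 1 one_ne_zero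
    rwa [star_one, mul_one] at this
  by_cases hα0 : α = 0
  · have hq : q = 0 := by
      rw [hα0, zero_mul] at hα
      exact (algebraMap ℚ R).injective (by rw [← hα, map_zero])
    have hmem : star α ∈ Algebra.adjoin ℚ ({α} : Set R) := by
      rw [hα0, star_zero]
      exact Subalgebra.zero_mem _
    refine ⟨hmem, ?_⟩
    intro ρ
    have e1 : (⟨star α, hmem⟩ : Algebra.adjoin ℚ ({α} : Set R)) = 0 :=
      Subtype.ext (by change star α = (0 : R); rw [hα0, star_zero])
    have e2 : (⟨α, Algebra.self_mem_adjoin_singleton ℚ α⟩ : Algebra.adjoin ℚ ({α} : Set R)) = 0 :=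
      Subtype.ext (by change α = (0 : R); exact hα0)
    rw [e1, e2, map_zero, map_zero, hq]
    simp
  -- main case
  have hqpos : 0 < q := by
    have h1 := hpos α hα0
    rw [hα, Algebra.algebraMap_eq_smul_one, map_smul, smul_eq_mul] at h1
    exact (pos_iff_pos_of_mul_pos h1).mpr hσ1
  have : IsArtinianRing R := IsArtinianRing.of_finite ℚ R
  have hαβ : α * (q⁻¹ • star α) = 1 := by
    rw [mul_smul_comm, hα, Algebra.algebraMap_eq_smul_one, smul_smul, inv_mul_cancel₀ hqpos.ne', one_smul]
  have hβα : (q⁻¹ • star α) * α = 1 := mul_eq_one_comm.mp hαβ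
  have hβmem : q⁻¹ • star α ∈ Algebra.adjoin ℚ ({α} : Set R) := by
    let m : Algebra.adjoin ℚ ({α} : Set R) →ₗ[ℚ] Algebra.adjoin ℚ ({α} : Set R) :=
      LinearMap.mulRight ℚ (⟨α, hαE⟩ : Algebra.adjoin ℚ ({α} : Set R))
    have hinj : Function.Injective m := by
      rw [← LinearMap.ker_eq_bot, LinearMap.ker_eq_bot']
      intro x hx
      have h1 : (x : R) * α = 0 := congrArg Subtype.val hx
      apply Subtype.ext
      calc (x : R) = (x : R) * (α * (q⁻¹ • star α)) := by rw [hαβ, mul_one]
        _ = ((x : R) * α) * (q⁻¹ • star α) := by rw [mul_assoc]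
        _ = 0 := by rw [h1, zero_mul]
    obtain ⟨x, hx⟩ := LinearMap.surjective_of_injective hinj 1
    have h1 : (x : R) * α = 1 := congrArg Subtype.val hx
    have h2 : (x : R) = q⁻¹ • star α := by
      calc (x : R) = (x : R) * (α * (q⁻¹ • star α)) := by rw [hαβ, mul_one]
        _ = ((x : R) * α) * (q⁻¹ • star α) := by rw [mul_assoc]
        _ = q⁻¹ • star α := by rw [h1, one_mul]
    rw [← h2]
    exact x.2
  have hmem : star α ∈ Algebra.adjoin ℚ ({α} : Set R) := by
    have h1 : star α = q • (q⁻¹ • star α) := by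
      rw [smul_smul, mul_inv_cancel₀ hqpos.ne', one_smul]
    rw [h1]
    exact Subalgebra.smul_mem _ hβmem q
  refine ⟨hmem, ?_⟩
  intro ρ
  -- the positive definite form on the subalgebra
  let B : LinearMap.BilinForm ℚ (Algebra.adjoin ℚ ({α} : Set R)) :=
    LinearMap.mk₂ ℚ (fun x y : Algebra.adjoin ℚ ({α} : Set R) =>
      σ ((x : R) * star (y : R)) + σ ((y : R) * star (x : R)))
      (by intro x x' y; simp only [Subalgebra.coe_add, add_mul, mul_add, star_add, map_add]; ring)
      (by intro c x y; simp only [Subalgebra.coe_smul, smul_mul_assoc, mul_smul_comm, star_smul,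
            star_trivial, map_smul, smul_eq_mul]; ring)
      (by intro x y y'; simp only [Subalgebra.coe_add, add_mul, mul_add, star_add, map_add]; ring)
      (by intro c x y; simp only [Subalgebra.coe_smul, smul_mul_assoc, mul_smul_comm, star_smul,
            star_trivial, map_smul, smul_eq_mul]; ring)
  have hB : ∀ x y : Algebra.adjoin ℚ ({α} : Set R),
      B x y = σ ((x : R) * star (y : R)) + σ ((y : R) * star (x : R)) := fun _ _ => rfl
  have hsymm : B.IsSymm := ⟨fun x y => by rw [hB, hB, add_comm]⟩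
  have hBpos : ∀ x : Algebra.adjoin ℚ ({α} : Set R), x ≠ 0 → 0 < B x x := by
    intro x hx
    have hx' : (x : R) ≠ 0 := fun h => hx (Subtype.ext h)
    rw [hB]
    have := hpos x hx'
    linarith
  have hadj : ∀ x y : Algebra.adjoin ℚ ({α} : Set R),
      B (LinearMap.mulRight ℚ (⟨α, hαE⟩ : Algebra.adjoin ℚ ({α} : Set R)) x) y =
        B x (LinearMap.mulRight ℚ (⟨star α, hmem⟩ : Algebra.adjoin ℚ ({α} : Set R)) y) := by
    intro x y
    rw [hB, hB]
    simp only [LinearMap.mulRight_apply, Subalgebra.coe_mul, star_mul, star_star, mul_assoc]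
  have hρ0 : ρ.toLinearMap ≠ 0 := by
    intro h
    have := LinearMap.congr_fun h 1
    simp at this
  have key := Groth.Agent.Lib.Helper29.PosInv.adjoint_eigen B hsymm hBpos
    (LinearMap.mulRight ℚ (⟨α, hαE⟩ : Algebra.adjoin ℚ ({α} : Set R)))
    (LinearMap.mulRight ℚ (⟨star α, hmem⟩ : Algebra.adjoin ℚ ({α} : Set R))) hadj
    ρ.toLinearMap hρ0 (ρ ⟨α, hαE⟩) (ρ ⟨star α, hmem⟩)
    (by intro x; simp only [LinearMap.mulRight_apply, AlgHom.toLinearMap_apply, map_mul]; ring)
    (by intro x; simp only [LinearMap.mulRight_apply, AlgHom.toLinearMap_apply, map_mul]; ring)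
  refine ⟨key, ?_⟩
  have h1 : ρ ⟨α, hαE⟩ * ρ ⟨star α, hmem⟩ = (q : ℂ) := by
    rw [← map_mul]
    have : (⟨α, hαE⟩ * ⟨star α, hmem⟩ : Algebra.adjoin ℚ ({α} : Set R)) =
        algebraMap ℚ (Algebra.adjoin ℚ ({α} : Set R)) q := Subtype.ext hα
    rw [this, AlgHom.commutes]
    rfl
  rw [key, Complex.mul_conj, Complex.normSq_eq_norm_sq] at h1
  exact_mod_cast h1

end Groth.Agent.S19356
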