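import Groth.Statements.S19358
import Mathlib
import Groth.Agent.Lib.Helper15FanP
-- import your own Groth.Agent.* helpers here

set_option autoImplicit false
universe u
open CategoryTheory Opposite Instab
open Instab Instab.Fan

namespace Groth.Agent.S19358.Aux

set_option autoImplicit false

namespace FanInj


open CategoryTheory Opposite Instab Instab.Fan Limits Groth.Agent.Lib.Helper15.FanCone

theorem main {F G : Fan.{u}} (f : F ⟶ G) :
    ((∀ n : ICone, Function.Injective (f.app (op n))) → Function.Injective (Fan.P.map f)) ∧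
    ((∀ n : ICone, Function.Surjective (f.app (op n))) → Function.Surjective (Fan.P.map f)) := by
  constructor
  · intro hinj x x' hxx
    obtain ⟨n, ξ, v, rfl⟩ := mk_surjective x
    obtain ⟨n', ξ', v', rfl⟩ := mk_surjective x'
    rw [map_mk, map_mk] at hxx
    obtain ⟨k, φ₁, φ₂, y, c₁, c₂, h, hc₁, hc₂, h₁, h₂⟩ := exists_common_subcone _ _ _ _ hxx
    have e1 : G.map φ₁.op (f.app _ ξ) = f.app _ (F.map φ₁.op ξ) :=
      (NatTrans.naturality_apply f φ₁.op ξ).symm
    have e2 : G.map φ₂.op (f.app _ ξ') = f.app _ (F.map φ₂.op ξ') :=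
      (NatTrans.naturality_apply f φ₂.op ξ').symm
    rw [e1, e2] at h
    exact mk_eq_of_common ξ ξ' v v' φ₁ φ₂ y c₁ c₂ (hinj k h) hc₁ hc₂ h₁ h₂
  · intro hsurj x
    obtain ⟨n, η, v, rfl⟩ := mk_surjective x
    obtain ⟨ξ, rfl⟩ := hsurj n η
    exact ⟨P.mk ξ v, rfl⟩

end FanInj

end Groth.Agent.S19358.Aux

namespace Groth.Agent.S19358

/-- Let f : F ⟶ G be a map of formal fans. If f is injective on n-cones for every n, then the induced
continuous map of projective realizations P F → P G is injective; if f is surjective on n-cones for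
every n, then P F → P G is surjective. -/
theorem result {F G : Fan.{u}} (f : F ⟶ G) :
    ((∀ n : ICone, Function.Injective (f.app (op n))) → Function.Injective (Fan.P.map f)) ∧
    ((∀ n : ICone, Function.Surjective (f.app (op n))) → Function.Surjective (Fan.P.map f)) := by
  exact Aux.FanInj.main f

end Groth.Agent.S19358
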