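import Groth.Statements.S19359
import Mathlib
import Groth.Agent.Lib.Helper15FanB
-- import your own Groth.Agent.* helpers here

set_option autoImplicit false
universe u
open CategoryTheory Opposite Instab
open Instab Instab.Fan

namespace Groth.Agent.S19359.Aux

set_option autoImplicit false

namespace FanQS


open CategoryTheory Opposite Instab Instab.Fan Limits Groth.Agent.Lib.Helper15.FanCone

theorem pullback_elt_ext {F F' G : Fan.{u}} (f : F ⟶ G) (g : F' ⟶ G) {k : ICone}
    (ζ₁ ζ₂ : (pullback f g).obj (op k))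
    (h1 : (pullback.fst f g).app _ ζ₁ = (pullback.fst f g).app _ ζ₂)
    (h2 : (pullback.snd f g).app _ ζ₁ = (pullback.snd f g).app _ ζ₂) : ζ₁ = ζ₂ := by
  apply uliftYonedaEquiv.{u}.symm.injective
  apply pullback.hom_ext
  · rw [uliftYonedaEquiv_symm_comp, uliftYonedaEquiv_symm_comp, h1]
  · rw [uliftYonedaEquiv_symm_comp, uliftYonedaEquiv_symm_comp, h2]

theorem coneMap_comp {F G : Fan.{u}} (f : F ⟶ G) {m : ICone} (ξ : F.obj (op m)) :
    coneMap ξ ≫ f = coneMap (f.app _ ξ) :=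
  uliftYonedaEquiv_symm_comp _ _

theorem isBounded_yo (n : ICone) : IsBounded (uliftYoneda.{u}.obj n) := by
  refine ⟨{⟨n, ULift.up (𝟙 n)⟩}, ?_⟩
  intro x
  obtain ⟨m, ⟨φ⟩, y, rfl⟩ := mk_surjective x
  refine ⟨_, Finset.mem_singleton_self _, pushOrth φ y, ?_⟩
  exact (mk_yo φ y (pushOrth φ y) 1 one_pos (by simp)).symm

theorem forward (G : Fan.{u}) (hG : G.IsQuasiSeparated) (F : Fan.{u}) (f : F ⟶ G)
    (hF : F.IsBounded) : Fan.IsBoundedMap f := by
  classical
  obtain ⟨sF, hsF⟩ := hF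
  intro n σ
  choose t ht using fun e : (Σ m : ICone, F.obj (op m)) => hG e.1 n (f.app _ e.2) σ
  let μ : ∀ e : (Σ m : ICone, F.obj (op m)),
      pullback (coneMap (f.app _ e.2)) (coneMap σ) ⟶ pullback f (coneMap σ) := fun e =>
    pullback.lift (pullback.fst _ _ ≫ coneMap e.2) (pullback.snd _ _)
      (by rw [Category.assoc, coneMap_comp f e.2, pullback.condition])
  have hμ1 : ∀ e, μ e ≫ pullback.fst f (coneMap σ) = pullback.fst _ _ ≫ coneMap e.2 :=
    fun e => pullback.lift_fst _ _ _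
  have hμ2 : ∀ e, μ e ≫ pullback.snd f (coneMap σ) = pullback.snd _ _ :=
    fun e => pullback.lift_snd _ _ _
  refine ⟨sF.biUnion (fun e => (t e).image (fun ζ => ⟨ζ.1, (μ e).app _ ζ.2⟩)), ?_⟩
  intro z
  obtain ⟨k, ζ, w, rfl⟩ := mk_surjective z
  set a := (pullback.fst f (coneMap σ)).app _ ζ with ha
  set φ := ((pullback.snd f (coneMap σ)).app _ ζ).down with hφ
  obtain ⟨e, he, y, hy⟩ := hsF (P.mk a w)
  obtain ⟨k', α₁, α₂, t₀, c₁, c₂, hh, hc₁, hc₂, h₁, h₂⟩ :=
    exists_common_subcone a e.2 w y hy.symm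
  have hcond : (coneMap (f.app _ e.2)).app _ (ULift.up α₂ : (uliftYoneda.{u}.obj e.1).obj (op k'))
      = (coneMap σ).app _ (ULift.up (α₁ ≫ φ) : (uliftYoneda.{u}.obj n).obj (op k')) := by
    rw [coneMap_app, coneMap_app]
    show G.map α₂.op (f.app _ e.2) = G.map (α₁ ≫ φ).op σ
    have e1 : G.map α₂.op (f.app _ e.2) = f.app _ (F.map α₂.op e.2) :=
      (NatTrans.naturality_apply f α₂.op e.2).symm
    have e2 : G.map α₁.op (f.app _ a) = f.app _ (F.map α₁.op a) :=
      (NatTrans.naturality_apply f α₁.op a).symm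
    rw [e1, ← hh, ← e2, ha, pullback_cond f σ ζ, op_comp, Functor.map_comp_apply]
  obtain ⟨ζ', hζ'1, hζ'2⟩ := exists_pullback_elt (coneMap (f.app _ e.2)) (coneMap σ) _ _ hcond
  have hμζ' : (μ e).app _ ζ' = (pullback f (coneMap σ)).map α₁.op ζ := by
    apply pullback_elt_ext
    · have h3 : (pullback.fst f (coneMap σ)).app _ ((μ e).app _ ζ')
          = (coneMap e.2).app _ ((pullback.fst (coneMap (f.app _ e.2)) (coneMap σ)).app _ ζ') :=
        congrArg (fun t => t.app (op k') ζ') (hμ1 e)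
      rw [h3, hζ'1, coneMap_app]
      have h4 : (pullback.fst f (coneMap σ)).app _ ((pullback f (coneMap σ)).map α₁.op ζ)
          = F.map α₁.op ((pullback.fst f (coneMap σ)).app _ ζ) :=
        NatTrans.naturality_apply (pullback.fst f (coneMap σ)) α₁.op ζ
      rw [h4]
      exact hh.symm
    · have h3 : (pullback.snd f (coneMap σ)).app _ ((μ e).app _ ζ')
          = (pullback.snd (coneMap (f.app _ e.2)) (coneMap σ)).app _ ζ' :=
        congrArg (fun t => t.app (op k') ζ') (hμ2 e)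
      rw [h3, hζ'2]
      have h4 : (pullback.snd f (coneMap σ)).app _ ((pullback f (coneMap σ)).map α₁.op ζ)
          = (uliftYoneda.{u}.obj n).map α₁.op ((pullback.snd f (coneMap σ)).app _ ζ) :=
        NatTrans.naturality_apply (pullback.snd f (coneMap σ)) α₁.op ζ
      rw [h4]
      rfl
  obtain ⟨ζ'', hζ'', t'', ht''⟩ := ht e (P.mk ζ' t₀)
  refine ⟨⟨ζ''.1, (μ e).app _ ζ''.2⟩, ?_, t'', ?_⟩
  · rw [Finset.mem_biUnion]
    exact ⟨e, he, Finset.mem_image_of_mem _ hζ''⟩
  · show P.mk ((μ e).app _ ζ''.2) t'' = P.mk ζ w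
    rw [← mk_glue α₁ ζ t₀ w c₁ hc₁ h₁, ← hμζ']
    show P.map (μ e) (P.mk ζ''.2 t'') = P.map (μ e) (P.mk ζ' t₀)
    rw [ht'']

theorem main (G : Fan.{u}) :
    G.IsQuasiSeparated ↔
      ∀ (F : Fan.{u}) (f : F ⟶ G), F.IsBounded → Fan.IsBoundedMap f := by
  constructor
  · intro hG F f hF
    exact forward G hG F f hF
  · intro h n₀ n₁ σ₀ σ₁
    exact h _ (coneMap σ₀) (isBounded_yo n₀) n₁ σ₁

end FanQS

end Groth.Agent.S19359.Aux

namespace Groth.Agent.S19359

/-- A formal fan G is quasi-separated (the fibre product of any two of its cones is a bounded fan) if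
and only if, for every bounded formal fan F, every map of fans F ⟶ G is bounded (its base change
along each cone of G is a bounded fan). -/
theorem result (G : Fan.{u}) :
    G.IsQuasiSeparated ↔
      ∀ (F : Fan.{u}) (f : F ⟶ G), F.IsBounded → Fan.IsBoundedMap f := by
  exact Aux.FanQS.main G

end Groth.Agent.S19359
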