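import Groth.Statements.S19363
import Mathlib
import Groth.Agent.Lib.Helper15FanB
-- import your own Groth.Agent.* helpers here

set_option autoImplicit false
universe u
open CategoryTheory Opposite Instab
open Instab Instab.Fan

namespace Groth.Agent.S19363.Aux

set_option autoImplicit false

namespace FanBdd


open CategoryTheory Opposite Instab Instab.Fan Limits Groth.Agent.Lib.Helper15.FanCone

theorem closedMap {F G : Fan.{u}} (ψ : F ⟶ G) (hψ : Fan.IsBoundedMap ψ) :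
    IsClosedMap (Fan.P.map ψ) := by
  intro Z hZ
  rw [isClosed_iff]
  intro n ξ
  obtain ⟨s, hs⟩ := hψ n ξ
  have heq : {v : Orth n | P.mk ξ v ∈ P.map ψ '' Z} = ⋃ e ∈ s,
      {v : Orth n | ∃ (y : Orth e.1) (c : ℝ), 0 < c ∧
        v.1 = c • ((pullback.snd ψ (coneMap ξ)).app _ e.2).down.realMap y.1 ∧
        y ∈ {y : Orth e.1 | P.mk ((pullback.fst ψ (coneMap ξ)).app _ e.2) y ∈ Z}} := by
    ext v
    simp only [Set.mem_setOf_eq, Set.mem_iUnion, Set.mem_image]
    constructor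
    · rintro ⟨x, hxZ, hx⟩
      obtain ⟨e, he, y, c, hc, hv, rfl⟩ := exists_lift_of_cover ψ ξ s hs x v hx
      exact ⟨e, he, y, c, hc, hv, hxZ⟩
    · rintro ⟨e, he, y, c, hc, hv, hy⟩
      exact ⟨_, hy, map_mk_fst_eq ψ ξ e.2 y v c hc hv⟩
  rw [heq]
  apply Set.Finite.isClosed_biUnion s.finite_toSet
  intro e _
  apply isClosed_cone_image
  · exact hZ.preimage (continuous_mk _)
  · intro y w hy c hc hw
    show P.mk _ w ∈ Z
    rw [← mk_smul _ y w c hc hw]
    exact hy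

theorem finiteFibres {F G : Fan.{u}} (ψ : F ⟶ G) (hψ : Fan.IsBoundedMap ψ) (y₀ : Fan.P G) :
    (Fan.P.map ψ ⁻¹' {y₀}).Finite := by
  classical
  obtain ⟨n, ξ, v, rfl⟩ := mk_surjective y₀
  obtain ⟨s, hs⟩ := hψ n ξ
  let g : (Σ m : ICone, (pullback ψ (coneMap ξ)).obj (op m)) → P F := fun e =>
    if h : ∃ (y : Orth e.1) (c : ℝ), 0 < c ∧
        v.1 = c • ((pullback.snd ψ (coneMap ξ)).app _ e.2).down.realMap y.1 then
      P.mk ((pullback.fst ψ (coneMap ξ)).app _ e.2) h.choose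
    else P.mk ((pullback.fst ψ (coneMap ξ)).app _ e.2) (Orth.ones e.1)
  apply Set.Finite.subset (s.finite_toSet.image g)
  intro x hx
  have hx' : P.map ψ x = P.mk ξ v := hx
  obtain ⟨e, he, y, c, hc, hv, rfl⟩ := exists_lift_of_cover ψ ξ s hs x v hx'
  refine ⟨e, he, ?_⟩
  have hex : ∃ (y : Orth e.1) (c : ℝ), 0 < c ∧
      v.1 = c • ((pullback.snd ψ (coneMap ξ)).app _ e.2).down.realMap y.1 := ⟨y, c, hc, hv⟩
  simp only [g, dif_pos hex]
  obtain ⟨c', hc', hv'⟩ := hex.choose_spec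
  -- c' φ y' = c φ y hence y' = (c / c') y
  set y' := hex.choose with hy'
  have h1 : ((pullback.snd ψ (coneMap ξ)).app _ e.2).down.realMap (c' • y'.1)
      = ((pullback.snd ψ (coneMap ξ)).app _ e.2).down.realMap (c • y.1) := by
    rw [realMap_smul, realMap_smul, ← hv, ← hv']
  have h2 := realMap_injective _ h1
  apply mk_smul _ y' y (c' / c) (div_pos hc' hc)
  have : y.1 = (1 / c) • (c • y.1) := by
    rw [smul_smul]; field_simp; rw [one_smul]
  rw [this, ← h2, smul_smul]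
  congr 1
  field_simp

theorem imageDesc {F G : Fan.{u}} (ψ : F ⟶ G) (hψ : Fan.IsBoundedMap ψ)
    (n : ICone) (ξ : G.obj (op n)) : ∃ s : Finset (Σ k : ICone, k ⟶ n),
      {v : Fan.Orth n | Fan.P.mk ξ v ∈ Set.range (Fan.P.map ψ)} =
        ⋃ e ∈ s, {v : Fan.Orth n | ∃ (y : Fan.Orth e.1) (c : ℝ), 0 < c ∧
          v.1 = c • e.2.realMap y.1} := by
  classical
  obtain ⟨s, hs⟩ := hψ n ξ
  refine ⟨s.image (fun e => ⟨e.1, ((pullback.snd ψ (coneMap ξ)).app _ e.2).down⟩), ?_⟩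
  ext v
  simp only [Set.mem_setOf_eq, Set.mem_iUnion, Set.mem_range, Finset.mem_image]
  constructor
  · rintro ⟨x, hx⟩
    obtain ⟨e, he, y, c, hc, hv, -⟩ := exists_lift_of_cover ψ ξ s hs x v hx
    exact ⟨_, ⟨e, he, rfl⟩, y, c, hc, hv⟩
  · rintro ⟨_, ⟨e, he, rfl⟩, y, c, hc, hv⟩
    exact ⟨_, map_mk_fst_eq ψ ξ e.2 y v c hc hv⟩

theorem main {F G : Fan.{u}} (ψ : F ⟶ G)
    (hψ : Fan.IsBoundedMap ψ) :
    IsClosedMap (Fan.P.map ψ) ∧ (∀ y : Fan.P G, (Fan.P.map ψ ⁻¹' {y}).Finite) ∧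
    ∀ (n : ICone) (ξ : G.obj (op n)), ∃ s : Finset (Σ k : ICone, k ⟶ n),
      {v : Fan.Orth n | Fan.P.mk ξ v ∈ Set.range (Fan.P.map ψ)} =
        ⋃ e ∈ s, {v : Fan.Orth n | ∃ (y : Fan.Orth e.1) (c : ℝ), 0 < c ∧ v.1 = c • e.2.realMap y.1} :=
  ⟨closedMap ψ hψ, finiteFibres ψ hψ, imageDesc ψ hψ⟩

end FanBdd

end Groth.Agent.S19363.Aux

namespace Groth.Agent.S19363

/-- Let ψ : F ⟶ G be a bounded map of formal fans. Then the induced map P F → P G is a closed map whose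
fibres are finite, and its image meets each rational simplex of P G in a finite union of closed
rational sub-simplices: for every n-cone ξ of G there are finitely many cone morphisms φ into [n]
such that a nonzero nonnegative vector v of ℝ^n gives a point of the image exactly when v is a
positive multiple of φ y for one of these φ and some nonzero nonnegative y. -/
theorem result {F G : Fan.{u}} (ψ : F ⟶ G)
    (hψ : Fan.IsBoundedMap ψ) :
    IsClosedMap (Fan.P.map ψ) ∧ (∀ y : Fan.P G, (Fan.P.map ψ ⁻¹' {y}).Finite) ∧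
    ∀ (n : ICone) (ξ : G.obj (op n)), ∃ s : Finset (Σ k : ICone, k ⟶ n),
      {v : Fan.Orth n | Fan.P.mk ξ v ∈ Set.range (Fan.P.map ψ)} =
        ⋃ e ∈ s, {v : Fan.Orth n | ∃ (y : Fan.Orth e.1) (c : ℝ), 0 < c ∧ v.1 = c • e.2.realMap y.1} := by
  exact Aux.FanBdd.main ψ hψ

end Groth.Agent.S19363
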