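import Groth.Statements.S19364
import Mathlib
import Groth.Agent.Lib.Helper15FanB
import Groth.Agent.S19363
import Groth.Agent.S19370
-- import your own Groth.Agent.* helpers here

set_option autoImplicit false
universe u
open CategoryTheory Opposite Instab
open Instab Instab.Fan

namespace Groth.Agent.S19364.Aux

set_option autoImplicit false

namespace FanSurj


open CategoryTheory Opposite Instab Instab.Fan Limits Groth.Agent.Lib.Helper15.FanCone
open Groth.Agent.S19370.Aux.FanCvx (approx tendsto_approx approx_rational)

theorem main {F G : Fan.{u}} (ψ : F ⟶ G)
    (hψ : Fan.IsBoundedMap ψ) :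
    Function.Surjective (Fan.P.map ψ) ↔
      ∀ y : Fan.P G, y.IsRational → y ∈ Set.range (Fan.P.map ψ) := by
  constructor
  · intro h y _
    exact h y
  · intro h y₀
    obtain ⟨n, ξ, v, rfl⟩ := mk_surjective y₀
    obtain ⟨s, hs⟩ := (Groth.Agent.S19363.result ψ hψ).2.2 n ξ
    have hcl : IsClosed {v : Fan.Orth n | Fan.P.mk ξ v ∈ Set.range (Fan.P.map ψ)} := by
      rw [hs]
      apply Set.Finite.isClosed_biUnion s.finite_toSet
      intro e _
      have := isClosed_cone_image e.2 Set.univ isClosed_univ (fun _ _ _ _ _ _ => Set.mem_univ _)
      simpa using this
    have hmem : ∀ k, approx v k ∈ {v : Fan.Orth n | Fan.P.mk ξ v ∈ Set.range (Fan.P.map ψ)} :=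
      fun k => h _ (approx_rational ξ v k)
    exact hcl.mem_of_tendsto (tendsto_approx v) (Filter.Eventually.of_forall hmem)

end FanSurj

end Groth.Agent.S19364.Aux

namespace Groth.Agent.S19364

/-- Let ψ : F ⟶ G be a bounded map of formal fans. Then the induced map P F → P G is surjective if and
only if every rational point of P G lies in its image. (The published lemma also claims that such a
map is injective as soon as it is injective on rational points; that fails, since two copies of the
standard 2-cone glued to each other along all their rational rays map to the standard 2-cone by a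
bounded map that is bijective on rational points and two-to-one elsewhere, and it is not stated
here.) -/
theorem result {F G : Fan.{u}} (ψ : F ⟶ G)
    (hψ : Fan.IsBoundedMap ψ) :
    Function.Surjective (Fan.P.map ψ) ↔
      ∀ y : Fan.P G, y.IsRational → y ∈ Set.range (Fan.P.map ψ) := by
  exact Aux.FanSurj.main ψ hψ

end Groth.Agent.S19364
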