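import Groth.Statements.S19374
import Groth.Agent.Lib.Helper29Fan

set_option autoImplicit false
universe u
open CategoryTheory Opposite Instab
open Instab Instab.Fan

namespace Groth.Agent.S19374

/-- Let F be a formal fan and U ⊆ P F. Then U is locally convex in the simplex-wise sense — for every
rational simplex, a ray lying strictly between two rays that map into U also maps into U — if and
only if, for every n-cone ξ of F, the set of nonzero nonnegative vectors v of ℝ^n whose point of the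
rational simplex of ξ lies in U is a convex subset of ℝ^n (convexity of the preimage of U in each
punctured cone of the affine realization). -/
theorem result (F : Fan.{u}) (U : Set (Fan.P F)) :
    Fan.IsLocallyConvex U ↔
      ∀ (n : ICone) (ξ : F.obj (op n)),
        Convex ℝ {v : Fin n.dim → ℝ | ∃ h : (∀ i, 0 ≤ v i) ∧ v ≠ 0, Fan.P.mk ξ (⟨v, h⟩ : Fan.Orth n) ∈ U} := by
  constructor
  · intro h n ξ v₀ hv₀ v₂ hv₂ a b ha hb hab
    obtain ⟨h₀, hU₀⟩ := hv₀
    obtain ⟨h₂, hU₂⟩ := hv₂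
    rcases ha.eq_or_lt with ha0 | ha0
    · have hb1 : b = 1 := by rw [← ha0] at hab; simpa using hab
      rw [← ha0, hb1]
      simpa using ⟨h₂, hU₂⟩
    rcases hb.eq_or_lt with hb0 | hb0
    · have ha1 : a = 1 := by rw [← hb0] at hab; simpa using hab
      rw [← hb0, ha1]
      simpa using ⟨h₀, hU₀⟩
    have hnn : ∀ i, 0 ≤ (a • v₀ + b • v₂) i := by
      intro i
      have := h₀.1 i
      have := h₂.1 i
      simp only [Pi.add_apply, Pi.smul_apply, smul_eq_mul]
      positivity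
    have hne : a • v₀ + b • v₂ ≠ 0 := by
      intro hz
      apply h₀.2
      funext i
      have h1 := congr_fun hz i
      simp only [Pi.add_apply, Pi.smul_apply, smul_eq_mul, Pi.zero_apply] at h1
      have h2 := h₀.1 i
      have h3 := h₂.1 i
      have h4 : 0 ≤ b * v₂ i := by positivity
      have h5 : a * v₀ i ≤ 0 := by linarith
      have h6 : v₀ i ≤ 0 := by
        by_contra hcon
        rw [not_le] at hcon
        have : 0 < a * v₀ i := by positivity
        linarith
      simpa using le_antisymm h6 h2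
    exact ⟨⟨hnn, hne⟩, h n ξ ⟨v₀, h₀⟩ ⟨_, hnn, hne⟩ ⟨v₂, h₂⟩ hU₀ hU₂ ⟨a, b, ha0, hb0, rfl⟩⟩
  · intro h n ξ v₀ v₁ v₂ h₀ h₂ hex
    obtain ⟨a, b, ha, hb, hv₁⟩ := hex
    have hs : 0 < a + b := by positivity
    have hconv := h n ξ
    have m₀ : v₀.1 ∈ {v : Fin n.dim → ℝ | ∃ h : (∀ i, 0 ≤ v i) ∧ v ≠ 0,
        Fan.P.mk ξ (⟨v, h⟩ : Fan.Orth n) ∈ U} := ⟨v₀.2, h₀⟩
    have m₂ : v₂.1 ∈ {v : Fin n.dim → ℝ | ∃ h : (∀ i, 0 ≤ v i) ∧ v ≠ 0,
        Fan.P.mk ξ (⟨v, h⟩ : Fan.Orth n) ∈ U} := ⟨v₂.2, h₂⟩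
    have hmem := hconv m₀ m₂ (a := a / (a + b)) (b := b / (a + b)) (by positivity) (by positivity)
      (by field_simp)
    obtain ⟨hh, hU⟩ := hmem
    have heq : Fan.P.mk ξ (⟨_, hh⟩ : Fan.Orth n) = Fan.P.mk ξ v₁ := by
      apply Groth.Agent.Lib.Helper29.mk_smul ξ _ _ (a + b) hs
      rw [hv₁]
      funext i
      simp only [Pi.add_apply, Pi.smul_apply, smul_eq_mul]
      field_simp
    rw [← heq]
    exact hU

end Groth.Agent.S19374
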