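import Groth.Statements.S19375
import Mathlib
import Groth.Agent.Lib.Helper28OnePlus
import Groth.Agent.Lib.Helper28OnePlus2
-- import your own Groth.Agent.* helpers here

set_option autoImplicit false
universe u
open EGA4

namespace Groth.Agent.S19375

open Groth.Agent.Lib.Helper28.OnePlus

/-- Let A be a Noetherian ring, J a proper ideal of A, Â the J-adic completion of A and A_T the
localization of A at the multiplicative set T = 1 + J (the elements congruent to 1 modulo J). Assume
that the canonical map A → Â is a normal homomorphism (flat, with geometrically normal fibres), as
happens when A is excellent. Then Â is an integrally closed domain if and only if A_T is an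
integrally closed domain and the spectrum of A/J is connected. (The published statement asserts the
equivalence of the first two conditions alone; for A = ℤ and J = 6ℤ the localization A_T is an
integrally closed domain while Â ≅ ℤ_2 × ℤ_3 is not a domain, and the published proof tacitly uses
that Spec Â, whose connected components correspond to those of Spec(A/J), is connected. The case of
the henselization of the pair and of the weak completion is not stated here.) -/
theorem result
    (A : Type u) [CommRing A] [IsNoetherianRing A] (J : Ideal A) (hJ : J ≠ ⊤)
    (hf : EGA4.IsNormalHom A (AdicCompletion J A))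
    (T : Submonoid A) (hT : T = MonoidHom.mker (Ideal.Quotient.mk J)) :
    (IsDomain (AdicCompletion J A) ∧ IsIntegrallyClosed (AdicCompletion J A)) ↔
      ((IsDomain (Localization T) ∧ IsIntegrallyClosed (Localization T)) ∧
        ConnectedSpace (PrimeSpectrum (A ⧸ J))) := by
  subst hT
  have hJfg : J.FG := IsNoetherian.noetherian J
  have hntQ : Nontrivial (A ⧸ J) := Ideal.Quotient.nontrivial_iff.mpr hJ
  have hNB : IsNoetherianRing (AdicCompletion J A) :=
    Groth.Agent.Lib.Helper19.isNoetherianRing_adicCompletion J
  have hniff := normal_iff A J hf
  constructor
  · rintro ⟨hdom, hic⟩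
    have hnB : EGA4.IsNormalRing (AdicCompletion J A) := isNormalRing_of_isIntegrallyClosed _
    have hnS : EGA4.IsNormalRing (Localization (T J)) := hniff.mpr hnB
    have hdomS : IsDomain (Localization (T J)) := isDomain_localization_of_isDomain_cpl A J hf.1
    refine ⟨⟨hdomS, isIntegrallyClosed_of_isNormalRing _ hnS⟩, ?_⟩
    apply connectedSpace_of_idempotents
    intro e he
    obtain ⟨x, hx, rfl⟩ := exists_idempotent_lift J hJfg e he
    rcases (IsIdempotentElem.iff_eq_zero_or_one.mp hx) with rfl | rfl
    · left; simp
    · right; simp
  · rintro ⟨⟨hdomS, hicS⟩, hconn⟩
    have hnS : EGA4.IsNormalRing (Localization (T J)) := isNormalRing_of_isIntegrallyClosed _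
    have hnB : EGA4.IsNormalRing (AdicCompletion J A) := hniff.mp hnS
    have hntB : Nontrivial (AdicCompletion J A) :=
      (AdicCompletion.evalOneₐ_surjective J).nontrivial
    have hconnB : ConnectedSpace (PrimeSpectrum (AdicCompletion J A)) := by
      apply connectedSpace_of_idempotents
      intro x hx
      have hex : IsIdempotentElem (AdicCompletion.evalOneₐ J x) := hx.map _
      rcases idempotent_of_connectedSpace (A ⧸ J) _ hex with h0 | h1
      · left
        exact idempotent_eq_zero_of_evalOne J hJfg x hx h0
      · right
        have h2 : AdicCompletion.evalOneₐ J (1 - x) = 0 := by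
          rw [map_sub, map_one, h1, sub_self]
        have := idempotent_eq_zero_of_evalOne J hJfg (1 - x) hx.one_sub h2
        exact (sub_eq_zero.mp this).symm
    have hdomB : IsDomain (AdicCompletion J A) :=
      isDomain_of_forall_isDomain_localization fun P _ => (hnB P).1
    exact ⟨hdomB, isIntegrallyClosed_of_isNormalRing _ hnB⟩

end Groth.Agent.S19375
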