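import Groth.Statements.S19381
import Groth.Agent.Lib.Helper3AdicFlatC
import Groth.Agent.Lib.Helper3AdicFlatD
import Mathlib

set_option autoImplicit false
set_option linter.style.haveILetI false
universe u
open CategoryTheory CategoryTheory.Limits AlgebraicGeometry
open FlatMor

namespace Groth.Agent.S19381

open Groth.Agent.Lib.Helper3.AdicFlat Groth.Agent.Lib.Helper5.SpecialFibre in

/-- Over a discrete valuation ring, let V be a henselian discrete valuation ring with maximal ideal 𝔪, A
a smooth V-algebra, Â the 𝔪A-adic completion of A, and h : X → Spec A a proper morphism with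
reduction h₀ : X ×_{Spec A} Spec(A/𝔪A) → Spec(A/𝔪A). Then X is flat over V and h₀ is flat if and
only if the base change of h to Spec Â is flat. (The published statement is for an excellent normal
ring V with a henselian pair (V, V/I) and the projective lift h built from lifted equations, and
also lists the base changes to the weak completion and to the henselization of (A, 𝔪A); it rests on
a lemma asserting 'B flat over V iff B̂ flat over V' for V-algebras B of finite type, which fails
when V has dimension ≥ 2 (V = ℤ_p[[x]], I = (p), B = V[y]/(x, py − 1) ≅ ℚ_p has B̂ = 0), so the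
statement is given over a discrete valuation ring and for an arbitrary proper h.) -/
theorem result
    (V : Type u) [CommRing V] [IsDomain V] [IsDiscreteValuationRing V] [HenselianLocalRing V]
    (A : Type u) [CommRing A] [Algebra V A] [Algebra.Smooth V A]
    (X : Scheme.{u}) (h : X ⟶ Spec (.of A)) [IsProper h] :
    (Flat (h ≫ Spec.map (CommRingCat.ofHom (algebraMap V A))) ∧
        Flat (pullback.snd h (Spec.map (CommRingCat.ofHom
          (Ideal.Quotient.mk ((IsLocalRing.maximalIdeal V).map (algebraMap V A))))))) ↔
      Flat (pullback.snd h (Spec.map (CommRingCat.ofHom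
          (algebraMap A (AdicCompletion ((IsLocalRing.maximalIdeal V).map (algebraMap V A)) A))))) := by
  haveI : Algebra.FinitePresentation V A := Algebra.Smooth.finitePresentation
  haveI : IsNoetherianRing A := Algebra.FiniteType.isNoetherianRing V A
  set g := Spec.map (CommRingCat.ofHom (algebraMap V A)) with hg
  haveI : LocallyOfFinitePresentation g := by
    rw [hg, HasRingHomProperty.Spec_iff (P := @LocallyOfFinitePresentation)]
    exact RingHom.finitePresentation_algebraMap.mpr inferInstance
  haveI : Flat g := by
    rw [hg, HasRingHomProperty.Spec_iff (P := @Flat)]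
    exact (RingHom.flat_algebraMap_iff ..).mpr inferInstance
  haveI : LocallyOfFinitePresentation h :=
    LocallyOfFinitePresentation.iff_locallyOfFiniteType.mpr inferInstance
  haveI : LocallyOfFinitePresentation (h ≫ g) := inferInstance
  constructor
  · rintro ⟨h1, h2⟩
    haveI := h1
    exact flat_snd_completion_of_flat_fibre V h h2
  · intro hc
    refine ⟨?_, snd_quotient_of_snd_completion (P := @Flat) h _ hc⟩
    apply Flat.of_stalkMap
    intro x
    rcases eq_or_ne ((h ≫ g) x).asIdeal ⊥ with hv | hv
    · exact flat_of_isField _ (isField_stalk_of_asIdeal_eq_bot V _ hv)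
    · have hmax : ((h ≫ g) x).asIdeal = IsLocalRing.maximalIdeal V :=
        IsLocalRing.eq_maximalIdeal (Ideal.IsPrime.isMaximal ((h ≫ g) x).isPrime hv)
      have hx : (h ≫ g) x = y₀ V := PrimeSpectrum.ext hmax
      exact flat_stalkMap_comp_of_flat_completion _ h g hc x
        (mem_zeroLocus_of_comp_apply_eq V h x hx)

end Groth.Agent.S19381
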