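import Groth.Statements.S19382
import Groth.Agent.Lib.Helper3AdicFlatC
import Groth.Agent.Lib.Helper3AdicFlatD
import Mathlib

set_option autoImplicit false
set_option linter.style.haveILetI false
universe u
open CategoryTheory CategoryTheory.Limits AlgebraicGeometry
open FlatMor

namespace Groth.Agent.S19382

open Groth.Agent.Lib.Helper3.AdicFlat Groth.Agent.Lib.Helper5.SpecialFibre in

/-- Over a discrete valuation ring, let V be a henselian discrete valuation ring with maximal ideal 𝔪, A
a smooth V-algebra, Â the 𝔪A-adic completion of A, and h : X → Spec A a proper morphism with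
reduction h₀ over Spec(A/𝔪A). Then X is flat over V and h₀ is smooth if and only if the base change
of h to Spec Â is smooth. (As for the flat case, the published statement concerns an excellent
normal base ring with a henselian pair and the projective lift built from lifted equations, together
with the weak completion and the henselization; it is given here over a discrete valuation ring and
for an arbitrary proper h.) -/
theorem result
    (V : Type u) [CommRing V] [IsDomain V] [IsDiscreteValuationRing V] [HenselianLocalRing V]
    (A : Type u) [CommRing A] [Algebra V A] [Algebra.Smooth V A]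
    (X : Scheme.{u}) (h : X ⟶ Spec (.of A)) [IsProper h] :
    (Flat (h ≫ Spec.map (CommRingCat.ofHom (algebraMap V A))) ∧
        Smooth (pullback.snd h (Spec.map (CommRingCat.ofHom
          (Ideal.Quotient.mk ((IsLocalRing.maximalIdeal V).map (algebraMap V A))))))) ↔
      Smooth (pullback.snd h (Spec.map (CommRingCat.ofHom
          (algebraMap A (AdicCompletion ((IsLocalRing.maximalIdeal V).map (algebraMap V A)) A))))) := by
  haveI : Algebra.FinitePresentation V A := Algebra.Smooth.finitePresentation
  haveI : IsNoetherianRing A := Algebra.FiniteType.isNoetherianRing V A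
  set g := Spec.map (CommRingCat.ofHom (algebraMap V A)) with hg
  haveI : LocallyOfFinitePresentation g := by
    rw [hg, HasRingHomProperty.Spec_iff (P := @LocallyOfFinitePresentation)]
    exact RingHom.finitePresentation_algebraMap.mpr inferInstance
  haveI : Flat g := by
    rw [hg, HasRingHomProperty.Spec_iff (P := @Flat)]
    exact (RingHom.flat_algebraMap_iff ..).mpr inferInstance
  haveI : LocallyOfFinitePresentation h :=
    LocallyOfFinitePresentation.iff_locallyOfFiniteType.mpr inferInstance
  haveI : LocallyOfFinitePresentation (h ≫ g) := inferInstance
  constructor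
  · rintro ⟨h1, h2⟩
    haveI := h1
    exact smooth_snd_completion_of_smooth_fibre V h h2
  · intro hc
    haveI := hc
    have hcf : Flat (pullback.snd h (Spec.map (CommRingCat.ofHom
        (algebraMap A (AdicCompletion ((IsLocalRing.maximalIdeal V).map (algebraMap V A)) A))))) :=
      inferInstance
    refine ⟨?_, snd_quotient_of_snd_completion (P := @Smooth) h _ hc⟩
    apply Flat.of_stalkMap
    intro x
    rcases eq_or_ne ((h ≫ g) x).asIdeal ⊥ with hv | hv
    · exact flat_of_isField _ (isField_stalk_of_asIdeal_eq_bot V _ hv)
    · have hmax : ((h ≫ g) x).asIdeal = IsLocalRing.maximalIdeal V :=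
        IsLocalRing.eq_maximalIdeal (Ideal.IsPrime.isMaximal ((h ≫ g) x).isPrime hv)
      have hx : (h ≫ g) x = y₀ V := PrimeSpectrum.ext hmax
      exact flat_stalkMap_comp_of_flat_completion _ h g hcf x
        (mem_zeroLocus_of_comp_apply_eq V h x hx)

end Groth.Agent.S19382
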