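import Groth.Statements.S19383
import Mathlib.RingTheory.AdicCompletion.AsTensorProduct
import Mathlib.RingTheory.Flat.TorsionFree
import Mathlib.RingTheory.Flat.Stability
import Mathlib.RingTheory.Filtration

set_option autoImplicit false
universe u
open CAlg

namespace Groth.Agent.S19383

/-- Over a discrete valuation ring, let V be a henselian discrete valuation ring with maximal ideal 𝔪
and B a Noetherian V-algebra, B̂ its 𝔪B-adic completion. Then B is flat over V if and only if B̂ is
flat over V. (The published lemma takes V an excellent normal ring with an ideal I such that (V,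
V/I) is a henselian pair and B of finite type; in that generality it fails: for V = ℤ_p[[x]], I =
(p) and B = V[y]/(x, py − 1) ≅ ℚ_p one has IB = B, so B̂ = 0 is flat while B is not flat over V.
Over a discrete valuation ring flatness is torsion-freeness and the statement holds for every
Noetherian B.) -/
theorem result
    (V : Type u) [CommRing V] [IsDomain V] [IsDiscreteValuationRing V] [HenselianLocalRing V]
    (B : Type u) [CommRing B] [Algebra V B] [IsNoetherianRing B] :
    Module.Flat V B ↔
      Module.Flat V (AdicCompletion ((IsLocalRing.maximalIdeal V).map (algebraMap V B)) B) := by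
  set I := (IsLocalRing.maximalIdeal V).map (algebraMap V B) with hI
  constructor
  · intro h
    exact Module.Flat.trans V B (AdicCompletion I B)
  · intro h
    obtain ⟨ϖ, hϖ⟩ := IsDiscreteValuationRing.exists_irreducible V
    have hIspan : I = Ideal.span {algebraMap V B ϖ} := by
      rw [hI, hϖ.maximalIdeal_eq, Ideal.map_span, Set.image_singleton]
    have key : ∀ b : B, ϖ • b = 0 → b = 0 := by
      intro b hb
      have h0 : ϖ • AdicCompletion.of I B b = 0 := by
        rw [← algebraMap_smul B ϖ (AdicCompletion.of I B b), ← map_smul, algebraMap_smul, hb,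
          map_zero]
      have h1 : AdicCompletion.of I B b = 0 := (smul_eq_zero_iff_right hϖ.ne_zero).mp h0
      have h2 : b ∈ (⨅ i : ℕ, I ^ i • ⊤ : Submodule B B) := by
        rw [Submodule.mem_iInf]
        intro n
        have h3 := congrArg (fun x => x.val n) h1
        have h4 : (Ideal.Quotient.mk (I ^ n * ⊤)) b = 0 := by
          simpa [AdicCompletion.of, Submodule.Quotient.mk_eq_zero] using h3
        rw [Ideal.Quotient.eq_zero_iff_mem] at h4
        simpa using h4
      obtain ⟨⟨r, hr⟩, hrb⟩ := (I.mem_iInf_smul_pow_eq_bot_iff b).mp h2
      rw [hIspan, Ideal.mem_span_singleton'] at hr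
      obtain ⟨c, rfl⟩ := hr
      rw [← hrb]
      simp only [smul_eq_mul]
      rw [mul_assoc, ← Algebra.smul_def, hb, mul_zero]
    have keyn : ∀ (n : ℕ) (b : B), ϖ ^ n • b = 0 → b = 0 := by
      intro n
      induction n with
      | zero => intro b hb; simpa using hb
      | succ n ih =>
        intro b hb
        apply ih
        apply key
        rw [smul_smul, ← pow_succ']
        exact hb
    have : Module.IsTorsionFree V B := by
      refine ⟨fun r hr => ?_⟩
      have hr0 : r ≠ 0 := hr.ne_zero
      obtain ⟨n, u, rfl⟩ := IsDiscreteValuationRing.eq_unit_mul_pow_irreducible hr0 hϖ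
      intro b₁ b₂ hb
      have h5 : ϖ ^ n • (b₁ - b₂) = 0 := by
        have h6 : ((u : V) * ϖ ^ n) • (b₁ - b₂) = 0 := by
          rw [smul_sub]; exact sub_eq_zero.mpr hb
        rw [mul_smul] at h6
        exact (u.isUnit.smul_eq_zero).mp h6
      exact sub_eq_zero.mp (keyn n _ h5)
    infer_instance

end Groth.Agent.S19383
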