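import Groth.Statements.S19390
import Mathlib

set_option autoImplicit false
universe u
open GIT

namespace Groth.Agent.S19390

lemma key {α : Type u} [LinearOrder α] (e : ℕ) (x : Fin (2 * e + 1) → α)
    (hT : ∀ (a : α) (T : Finset (Fin (2 * e + 1))), (∀ k ∈ T, x k = a) → T.card ≤ e) :
    ∃ σ : Equiv.Perm (Fin (2 * e + 1)), ∀ s t : Fin (2 * e + 1), s.val + e ≤ t.val →
      x (σ s) ≠ x (σ t) := by
  refine ⟨Tuple.sort x, fun s t hst heq => ?_⟩
  have hmono := Tuple.monotone_sort x
  have hle : s ≤ t := by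
    rw [Fin.le_def]; omega
  have h1 := hT (x (Tuple.sort x s)) ((Finset.Icc s t).map (Tuple.sort x).toEmbedding) (by
    intro k hk
    obtain ⟨u, hu, rfl⟩ := Finset.mem_map.1 hk
    rw [Finset.mem_Icc] at hu
    have h2 : x (Tuple.sort x s) ≤ x (Tuple.sort x u) := hmono hu.1
    have h3 : x (Tuple.sort x u) ≤ x (Tuple.sort x t) := hmono hu.2
    exact le_antisymm (heq ▸ h3) h2)
  rw [Finset.card_map, Fin.card_Icc] at h1
  omega

lemma card_filter_bij {n : ℕ} (h : Fin n → Fin n) (hb : Function.Bijective h) (m : Fin n) :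
    (Finset.univ.filter fun k => h k = m).card = 1 := by
  rw [Finset.card_eq_one]
  refine ⟨(Equiv.ofBijective h hb).symm m, ?_⟩
  ext k
  simp only [Finset.mem_filter, Finset.mem_univ, true_and, Finset.mem_singleton]
  constructor
  · intro hk
    rw [← hk]
    exact ((Equiv.ofBijective h hb).symm_apply_apply k).symm
  · intro hk
    rw [hk]
    exact (Equiv.ofBijective h hb).apply_symm_apply m

/-- Let e ≥ 1, n = 2e + 1, and let x_1, …, x_n be points such that no point occurs more than e times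
among them (the stability condition for n ordered points on a line, n odd). Then there are index
sequences i_1, …, i_n and j_1, …, j_n in which every index between 1 and n occurs exactly twice in
total, such that x_{i_k} ≠ x_{j_k} for every k and (i_1, i_2, i_3) = (j_3, j_1, j_2). Indices are
written 0, …, n − 1 here. -/
theorem result {α : Type u} [DecidableEq α] (e : ℕ) (he : 1 ≤ e)
    (x : Fin (2 * e + 1) → α)
    (hx : ∀ a : α, (Finset.univ.filter fun k => x k = a).card ≤ e) :
    ∃ i j : Fin (2 * e + 1) → Fin (2 * e + 1),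
      (∀ m : Fin (2 * e + 1),
        (Finset.univ.filter fun k => i k = m).card + (Finset.univ.filter fun k => j k = m).card = 2) ∧
      (∀ k, x (i k) ≠ x (j k)) ∧
      i 0 = j 2 ∧ i 1 = j 0 ∧ i 2 = j 1 := by
  have hT : ∀ (a : α) (T : Finset (Fin (2 * e + 1))), (∀ k ∈ T, x k = a) → T.card ≤ e := by
    intro a T hTa
    refine le_trans (Finset.card_le_card ?_) (hx a)
    intro k hk
    simp [hTa k hk]
  obtain ⟨σ, hσ⟩ : ∃ σ : Equiv.Perm (Fin (2 * e + 1)), ∀ s t : Fin (2 * e + 1), s.val + e ≤ t.val →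
      x (σ s) ≠ x (σ t) := by
    obtain ⟨inst, _⟩ := exists_wellFoundedLT α
    exact key e x hT
  -- the position permutation
  let π : Fin (2 * e + 1) → Fin (2 * e + 1) := fun t =>
    if h1 : t.val ≤ e then ⟨t.val + e, by omega⟩
    else if h2 : t.val < 2 * e then ⟨t.val - e, by omega⟩ else ⟨0, by omega⟩
  have hπinj : Function.Injective π := by
    intro t1 t2 h
    simp only [π] at h
    apply Fin.ext
    split_ifs at h <;> simp only [Fin.mk.injEq] at h <;> omega
  have hπ : Function.Bijective π := Finite.injective_iff_bijective.1 hπinj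
  have hπx : ∀ t, x (σ t) ≠ x (σ (π t)) := by
    intro t
    by_cases h1 : t.val ≤ e
    · apply hσ
      simp only [π, dif_pos h1]
      omega
    · by_cases h2 : t.val < 2 * e
      · apply Ne.symm
        apply hσ
        simp only [π, dif_neg h1, dif_pos h2]
        omega
      · apply Ne.symm
        apply hσ
        simp only [π, dif_neg h1, dif_neg h2]
        have := t.isLt
        omega
  set k1 : Fin (2 * e + 1) := 1 with hk1
  set k2 : Fin (2 * e + 1) := 2 with hk2
  have hv0 : (0 : Fin (2 * e + 1)).val = 0 := rfl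
  have hv1 : k1.val = 1 := by
    rw [hk1]; show 1 % (2 * e + 1) = 1; exact Nat.mod_eq_of_lt (by omega)
  have hv2 : k2.val = 2 := by
    rw [hk2]; show 2 % (2 * e + 1) = 2; exact Nat.mod_eq_of_lt (by omega)
  let p1 : Fin (2 * e + 1) := ⟨e, by omega⟩
  let p2 : Fin (2 * e + 1) := ⟨2 * e, by omega⟩
  let f : Equiv.Perm (Fin (2 * e + 1)) := Equiv.swap k1 p1 * Equiv.swap k2 p2
  have hp1 : p1.val = e := rfl
  have hp2 : p2.val = 2 * e := rfl
  have n0k1 : (0 : Fin (2 * e + 1)) ≠ k1 := Fin.ne_of_val_ne (by rw [hv0, hv1]; omega)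
  have n0k2 : (0 : Fin (2 * e + 1)) ≠ k2 := Fin.ne_of_val_ne (by rw [hv0, hv2]; omega)
  have n0p1 : (0 : Fin (2 * e + 1)) ≠ p1 := Fin.ne_of_val_ne (by rw [hv0, hp1]; omega)
  have n0p2 : (0 : Fin (2 * e + 1)) ≠ p2 := Fin.ne_of_val_ne (by rw [hv0, hp2]; omega)
  have nk1k2 : k1 ≠ k2 := Fin.ne_of_val_ne (by rw [hv1, hv2]; omega)
  have nk1p2 : k1 ≠ p2 := Fin.ne_of_val_ne (by rw [hv1, hp2]; omega)
  have np2k1 : p2 ≠ k1 := Fin.ne_of_val_ne (by rw [hv1, hp2]; omega)
  have np2p1 : p2 ≠ p1 := Fin.ne_of_val_ne (by rw [hp1, hp2]; omega)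
  have hf0 : f 0 = 0 := by
    show Equiv.swap k1 p1 (Equiv.swap k2 p2 0) = 0
    rw [Equiv.swap_apply_of_ne_of_ne n0k2 n0p2, Equiv.swap_apply_of_ne_of_ne n0k1 n0p1]
  have hf1 : f k1 = p1 := by
    show Equiv.swap k1 p1 (Equiv.swap k2 p2 k1) = p1
    rw [Equiv.swap_apply_of_ne_of_ne nk1k2 nk1p2, Equiv.swap_apply_left]
  have hf2 : f k2 = p2 := by
    show Equiv.swap k1 p1 (Equiv.swap k2 p2 k2) = p2
    rw [Equiv.swap_apply_left, Equiv.swap_apply_of_ne_of_ne np2k1 np2p1]
  have hπ0 : π 0 = p1 := by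
    apply Fin.ext
    have h1 : (0 : Fin (2 * e + 1)).val ≤ e := by rw [hv0]; omega
    simp only [π, dif_pos h1, hv0, hp1, zero_add]
  have hπ1 : π p1 = p2 := by
    apply Fin.ext
    have h1 : p1.val ≤ e := by rw [hp1]
    simp only [π, dif_pos h1, hp1, hp2]
    omega
  have hπ2 : π p2 = 0 := by
    apply Fin.ext
    have h1 : ¬ p2.val ≤ e := by rw [hp2]; omega
    have h2 : ¬ p2.val < 2 * e := by rw [hp2]; omega
    simp only [π, dif_neg h1, dif_neg h2, hv0]
  refine ⟨fun k => σ (f k), fun k => σ (π (f k)), ?_, ?_, ?_, ?_, ?_⟩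
  · intro m
    rw [card_filter_bij (fun k => σ (f k)) (σ.bijective.comp f.bijective) m,
      card_filter_bij (fun k => σ (π (f k))) (σ.bijective.comp (hπ.comp f.bijective)) m]
  · intro k
    exact hπx (f k)
  · show σ (f 0) = σ (π (f k2))
    rw [hf0, hf2, hπ2]
  · show σ (f k1) = σ (π (f 0))
    rw [hf0, hf1, hπ0]
  · show σ (f k2) = σ (π (f k1))
    rw [hf1, hf2, hπ1]

end Groth.Agent.S19390
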