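import Groth.Statements.S19392
import Groth.Agent.S19391

set_option autoImplicit false
universe u
open InvQ

namespace Groth.Agent.S19392

/-- the invariants `I`, `J` in terms of the three products of brackets -/
theorem inv_brackets {R : Type u} [CommRing R] (la mu : Fin 4 → R) :
    2 * W4c6intromoduli.invI (W4c6intromoduli.coef la mu) =
      ((la 0 * mu 1 - la 1 * mu 0) * (la 2 * mu 3 - la 3 * mu 2)) ^ 2 +
      ((la 0 * mu 2 - la 2 * mu 0) * (la 1 * mu 3 - la 3 * mu 1)) ^ 2 +
      ((la 0 * mu 3 - la 3 * mu 0) * (la 1 * mu 2 - la 2 * mu 1)) ^ 2 ∧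
    W4c6intromoduli.invJ (W4c6intromoduli.coef la mu) =
      ((la 0 * mu 1 - la 1 * mu 0) * (la 2 * mu 3 - la 3 * mu 2) +
        (la 0 * mu 2 - la 2 * mu 0) * (la 1 * mu 3 - la 3 * mu 1)) *
      ((la 0 * mu 2 - la 2 * mu 0) * (la 1 * mu 3 - la 3 * mu 1) +
        (la 0 * mu 3 - la 3 * mu 0) * (la 1 * mu 2 - la 2 * mu 1)) *
      ((la 0 * mu 1 - la 1 * mu 0) * (la 2 * mu 3 - la 3 * mu 2) -
        (la 0 * mu 3 - la 3 * mu 0) * (la 1 * mu 2 - la 2 * mu 1)) := by
  have hc0 : W4c6intromoduli.coef la mu 0 = mu 0 * mu 1 * mu 2 * mu 3 := by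
    unfold W4c6intromoduli.coef; rw [Groth.Agent.S19391.rootPoly_eq]
    exact (Groth.Agent.S19391.coeff_quartic _ _ _ _ _).1
  have hc1 : W4c6intromoduli.coef la mu 1 = -(la 0 * mu 1 * mu 2 * mu 3 + mu 0 * la 1 * mu 2 * mu 3
      + mu 0 * mu 1 * la 2 * mu 3 + mu 0 * mu 1 * mu 2 * la 3) := by
    unfold W4c6intromoduli.coef; rw [Groth.Agent.S19391.rootPoly_eq]
    exact (Groth.Agent.S19391.coeff_quartic _ _ _ _ _).2.1
  have hc2 : W4c6intromoduli.coef la mu 2 = la 0 * la 1 * mu 2 * mu 3 + la 0 * mu 1 * la 2 * mu 3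
      + la 0 * mu 1 * mu 2 * la 3 + mu 0 * la 1 * la 2 * mu 3 + mu 0 * la 1 * mu 2 * la 3
      + mu 0 * mu 1 * la 2 * la 3 := by
    unfold W4c6intromoduli.coef; rw [Groth.Agent.S19391.rootPoly_eq]
    exact (Groth.Agent.S19391.coeff_quartic _ _ _ _ _).2.2.1
  have hc3 : W4c6intromoduli.coef la mu 3 = -(la 0 * la 1 * la 2 * mu 3 + la 0 * la 1 * mu 2 * la 3
      + la 0 * mu 1 * la 2 * la 3 + mu 0 * la 1 * la 2 * la 3) := by
    unfold W4c6intromoduli.coef; rw [Groth.Agent.S19391.rootPoly_eq]
    exact (Groth.Agent.S19391.coeff_quartic _ _ _ _ _).2.2.2.1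
  have hc4 : W4c6intromoduli.coef la mu 4 = la 0 * la 1 * la 2 * la 3 := by
    unfold W4c6intromoduli.coef; rw [Groth.Agent.S19391.rootPoly_eq]
    exact (Groth.Agent.S19391.coeff_quartic _ _ _ _ _).2.2.2.2
  unfold W4c6intromoduli.invI W4c6intromoduli.invJ
  rw [hc0, hc1, hc2, hc3, hc4]
  constructor <;> ring

theorem brackets_zero {k : Type u} [Field k] (d : Fin 4 → Fin 4 → k)
    (hanti : ∀ a b, d a b = 0 → d b a = 0)
    (i j l : Fin 4) (hij : i ≠ j) (hjl : j ≠ l) (hil : i ≠ l)
    (h1 : d i j = 0) (h2 : d j l = 0) (h3 : d i l = 0) :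
    d 0 1 * d 2 3 = 0 ∧ d 0 2 * d 1 3 = 0 ∧ d 0 3 * d 1 2 = 0 := by
  have h1' := hanti _ _ h1
  have h2' := hanti _ _ h2
  have h3' := hanti _ _ h3
  clear hanti
  fin_cases i <;> fin_cases j <;> fin_cases l <;> simp_all

/-- Over a field of characteristic different from 2 and 3, a nonzero binary quartic f has P(f) = Q(f) =
0 for the two basic invariants P, Q if and only if f has a triple zero. Stated for f = ∏_i (μ_i X₀ −
λ_i X₁) given by four root points (λ_i, μ_i) ≠ (0, 0) (over an algebraically closed field every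
nonzero quartic form is of this shape), with the integral invariants I = 6P and J = 72Q of the
coefficients of f; a triple zero means that three of the four root points are pairwise proportional. -/
theorem result (k : Type u) [Field k]
    (h2 : (2 : k) ≠ 0) (h3 : (3 : k) ≠ 0) (la mu : Fin 4 → k) (hne : ∀ i, la i ≠ 0 ∨ mu i ≠ 0) :
    (W4c6intromoduli.invI (W4c6intromoduli.coef la mu) = 0 ∧
        W4c6intromoduli.invJ (W4c6intromoduli.coef la mu) = 0) ↔
      ∃ i j l : Fin 4, i ≠ j ∧ j ≠ l ∧ i ≠ l ∧
        la i * mu j = la j * mu i ∧ la j * mu l = la l * mu j := by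
  obtain ⟨hI, hJ⟩ := inv_brackets la mu
  set u := (la 0 * mu 1 - la 1 * mu 0) * (la 2 * mu 3 - la 3 * mu 2) with hu
  set v := (la 0 * mu 2 - la 2 * mu 0) * (la 1 * mu 3 - la 3 * mu 1) with hv
  set w := (la 0 * mu 3 - la 3 * mu 0) * (la 1 * mu 2 - la 2 * mu 1) with hw
  have hpl : v = u + w := by rw [hu, hv, hw]; ring
  constructor
  · rintro ⟨hI0, hJ0⟩
    rw [hI0, mul_zero] at hI
    rw [hJ0] at hJ
    have hI' : u ^ 2 + u * w + w ^ 2 = 0 := by
      have h : 2 * (u ^ 2 + u * w + w ^ 2) = 0 := by rw [hI, hpl]; ring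
      exact (mul_eq_zero.mp h).resolve_left h2
    have hJ' : (2 * u + w) * (u + 2 * w) * (u - w) = 0 := by rw [hJ, hpl]; ring
    have huw : u = 0 ∧ w = 0 := by
      rcases mul_eq_zero.mp hJ' with h | h
      · rcases mul_eq_zero.mp h with h | h
        · have hw' : w = -(2 * u) := by linear_combination h
          have h3u : 3 * u ^ 2 = 0 := by rw [hw'] at hI'; linear_combination hI'
          have hu0 : u = 0 := by
            have := (mul_eq_zero.mp h3u).resolve_left h3
            exact pow_eq_zero_iff (by norm_num) |>.mp this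
          exact ⟨hu0, by rw [hw', hu0]; ring⟩
        · have hu' : u = -(2 * w) := by linear_combination h
          have h3w : 3 * w ^ 2 = 0 := by rw [hu'] at hI'; linear_combination hI'
          have hw0 : w = 0 := by
            have := (mul_eq_zero.mp h3w).resolve_left h3
            exact pow_eq_zero_iff (by norm_num) |>.mp this
          exact ⟨by rw [hu', hw0]; ring, hw0⟩
      · have hu' : u = w := by linear_combination h
        have h3w : 3 * w ^ 2 = 0 := by rw [hu'] at hI'; linear_combination hI'
        have hw0 : w = 0 := by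
          have := (mul_eq_zero.mp h3w).resolve_left h3
          exact pow_eq_zero_iff (by norm_num) |>.mp this
        exact ⟨by rw [hu', hw0], hw0⟩
    have hu0 : u = 0 := huw.1
    have hv0 : v = 0 := by rw [hpl, huw.1, huw.2, add_zero]
    rw [hu] at hu0
    rw [hv] at hv0
    rcases mul_eq_zero.mp hu0 with a01 | a23
    · rcases mul_eq_zero.mp hv0 with a02 | a13
      · exact ⟨1, 0, 2, by decide, by decide, by decide, by linear_combination -a01,
          by linear_combination a02⟩
      · exact ⟨0, 1, 3, by decide, by decide, by decide, by linear_combination a01,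
          by linear_combination a13⟩
    · rcases mul_eq_zero.mp hv0 with a02 | a13
      · exact ⟨0, 2, 3, by decide, by decide, by decide, by linear_combination a02,
          by linear_combination a23⟩
      · exact ⟨1, 3, 2, by decide, by decide, by decide, by linear_combination a13,
          by linear_combination -a23⟩
  · rintro ⟨i, j, l, hij, hjl, hil, e1, e2⟩
    have e3 : la i * mu l = la l * mu i := by
      rcases hne j with hj | hj
      · have h : la j * (la i * mu l - la l * mu i) = 0 := by
          linear_combination la l * e1 + la i * e2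
        have := (mul_eq_zero.mp h).resolve_left hj
        linear_combination this
      · have h : mu j * (la i * mu l - la l * mu i) = 0 := by
          linear_combination mu l * e1 + mu i * e2
        have := (mul_eq_zero.mp h).resolve_left hj
        linear_combination this
    obtain ⟨z1, z2, z3⟩ := brackets_zero (fun a b => la a * mu b - la b * mu a)
      (fun a b h => by
        have h' : la a * mu b - la b * mu a = 0 := h
        change la b * mu a - la a * mu b = 0
        linear_combination -h')
      i j l hij hjl hil (by change la i * mu j - la j * mu i = 0; linear_combination e1)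
      (by change la j * mu l - la l * mu j = 0; linear_combination e2)
      (by change la i * mu l - la l * mu i = 0; linear_combination e3)
    have hu0 : u = 0 := z1
    have hv0 : v = 0 := z2
    have hw0 : w = 0 := z3
    rw [hu0, hv0, hw0] at hI hJ
    constructor
    · have h : 2 * W4c6intromoduli.invI (W4c6intromoduli.coef la mu) = 0 := by rw [hI]; ring
      exact (mul_eq_zero.mp h).resolve_left h2
    · rw [hJ]; ring

end Groth.Agent.S19392
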