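import Groth.Statements.S19396
import Mathlib
import Groth.Agent.Lib.LeadFF15

set_option autoImplicit false
universe u v
open FunFld

namespace Groth.Agent.S19396

/-- On an elliptic curve with base point 0, if f has a double pole at 0 and no other pole and g a triple
pole at 0 and no other pole, then for n ≥ 2 the functions 1, f, …, f^[n/2], g, fg, …, f^[(n−3)/2] g
form a basis of the space of functions with at most an n-fold pole at 0. Stated for a function field
K/k of one variable of genus 1 with a place P of degree 1 in the role of the curve and its base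
point: the family indexed by Fin (n/2 + 1) ⊕ Fin ((n − 1)/2), sending i on the left to f^i and i on
the right to f^i g, is linearly independent over k and spans L(nP). -/
theorem result (k : Type u) (K : Type v) [Field k] [Field K]
    [Algebra k K] (hK : FunFld.IsFunctionField k K) (hgen : FunFld.genus k K = 1)
    (P : FunFld.Place k K) (hP : P.deg = 1) (f g : K)
    (hf : f ∈ FunFld.L (Finsupp.single P 2)) (hf2 : P.ord f = -2)
    (hg : g ∈ FunFld.L (Finsupp.single P 3)) (hg3 : P.ord g = -3) (n : ℕ) (hn : 2 ≤ n) :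
    LinearIndependent k
        (Sum.elim (fun i : Fin (n / 2 + 1) => f ^ (i : ℕ)) (fun i : Fin ((n - 1) / 2) => f ^ (i : ℕ) * g)) ∧
      Submodule.span k (Set.range
        (Sum.elim (fun i : Fin (n / 2 + 1) => f ^ (i : ℕ)) (fun i : Fin ((n - 1) / 2) => f ^ (i : ℕ) * g))) =
        FunFld.L (Finsupp.single P (n : ℤ)) := by
  classical
  have hf0 : f ≠ 0 := by
    rintro rfl
    simp [FunFld.Place.ord] at hf2
  have hg0 : g ≠ 0 := by
    rintro rfl
    simp [FunFld.Place.ord] at hg3
  have hvf : P.1 f = WithZero.exp (2 : ℤ) := by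
    rw [Groth.Agent.Lib.LeadFF.val_eq_exp_neg_ord P hf0, hf2]; simp
  have hvg : P.1 g = WithZero.exp (3 : ℤ) := by
    rw [Groth.Agent.Lib.LeadFF.val_eq_exp_neg_ord P hg0, hg3]; simp
  set e : Fin (n / 2 + 1) ⊕ Fin ((n - 1) / 2) → K :=
    Sum.elim (fun i : Fin (n / 2 + 1) => f ^ (i : ℕ)) (fun i : Fin ((n - 1) / 2) => f ^ (i : ℕ) * g)
    with he
  have hve : ∀ i, P.1 (e i) = WithZero.exp (Sum.elim (fun i : Fin (n / 2 + 1) => (2 * (i : ℕ) : ℤ))
      (fun i : Fin ((n - 1) / 2) => (2 * (i : ℕ) + 3 : ℤ)) i) := by
    rintro (i | i)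
    · simp only [he, Sum.elim_inl, map_pow, hvf]
      rw [← WithZero.exp_nsmul]
      congr 1
      simp [mul_comm]
    · simp only [he, Sum.elim_inr, map_mul, map_pow, hvf, hvg]
      rw [← WithZero.exp_nsmul, ← WithZero.exp_add]
      congr 1
      simp [mul_comm]
  have he0 : ∀ i, e i ≠ 0 := by
    rintro (i | i)
    · exact pow_ne_zero _ hf0
    · exact mul_ne_zero (pow_ne_zero _ hf0) hg0
  have hinj : Function.Injective (fun i => P.1 (e i)) := by
    intro i j hij
    simp only [hve, WithZero.exp_inj] at hij
    rcases i with i | i <;> rcases j with j | j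
    · simp only [Sum.elim_inl] at hij
      congr 1
      exact Fin.ext (by omega)
    · simp only [Sum.elim_inl, Sum.elim_inr] at hij
      omega
    · simp only [Sum.elim_inl, Sum.elim_inr] at hij
      omega
    · simp only [Sum.elim_inr] at hij
      congr 1
      exact Fin.ext (by omega)
  have hli : LinearIndependent k e :=
    Groth.Agent.Lib.LeadFF.linearIndependent_of_val_injective
      (Groth.Agent.Lib.LeadFF.place_trivOn P) e he0 hinj
  refine ⟨hli, ?_⟩
  have hfQ : ∀ Q : FunFld.Place k K, Q ≠ P → Q.1 f ≤ 1 := by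
    intro Q hQ
    have := hf Q
    rwa [Groth.Agent.Lib.LeadFF.single_apply_ne hQ, WithZero.exp_zero] at this
  have hgQ : ∀ Q : FunFld.Place k K, Q ≠ P → Q.1 g ≤ 1 := by
    intro Q hQ
    have := hg Q
    rwa [Groth.Agent.Lib.LeadFF.single_apply_ne hQ, WithZero.exp_zero] at this
  have hmem : ∀ i, e i ∈ FunFld.L (Finsupp.single P (n : ℤ)) := by
    intro i Q
    by_cases hQ : Q = P
    · subst hQ
      rw [hve, Groth.Agent.Lib.LeadFF.single_apply_self, WithZero.exp_le_exp]
      rcases i with i | i
      · simp only [Sum.elim_inl]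
        have := i.2
        omega
      · simp only [Sum.elim_inr]
        have := i.2
        omega
    · rw [Groth.Agent.Lib.LeadFF.single_apply_ne hQ, WithZero.exp_zero]
      rcases i with i | i
      · simp only [he, Sum.elim_inl, map_pow]
        exact pow_le_one₀ zero_le' (hfQ Q hQ)
      · simp only [he, Sum.elim_inr, map_mul, map_pow]
        exact mul_le_one' (pow_le_one₀ zero_le' (hfQ Q hQ)) (hgQ Q hQ)
  have hfin := Groth.Agent.Lib.LeadFF.L_finite hK (Finsupp.single P (n : ℤ))
  apply Submodule.eq_of_le_of_finrank_eq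
  · rw [Submodule.span_le]
    rintro x ⟨i, rfl⟩
    exact hmem i
  · rw [finrank_span_eq_card hli]
    have h1 := Groth.Agent.Lib.LeadFF.ell_single_of_genus_one hK hgen hP n (by omega)
    unfold FunFld.ell at h1
    rw [h1]
    simp only [Fintype.card_sum, Fintype.card_fin]
    omega

end Groth.Agent.S19396
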