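import Groth.Statements.S19397
import Mathlib
import Groth.Agent.Lib.Helper27EllAut3

set_option autoImplicit false
universe u v
open FunFld

namespace Groth.Agent.S19397

open Classical in
/-- Over an algebraically closed field of characteristic different from 2 and 3, the automorphism group
of an elliptic curve (automorphisms fixing the base point) with invariant j has order 2 if j ≠ 0,
12³, order 4 if j = 12³ and order 6 if j = 0. Stated for the function field K/k of the curve: K of
genus 1 generated by x, y with y² = x³ + a x + b and 4a³ + 27b² ≠ 0, P the place where x has its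
double and y its triple pole (and no other poles), so that j = 12³ · 4a³/(4a³ + 27b²) and the three
cases are a, b ≠ 0; b = 0; a = 0; the automorphisms are the k-algebra automorphisms of K preserving
the valuation of P. -/
theorem result (k : Type u) (K : Type v) [Field k]
    [IsAlgClosed k] [Field K] [Algebra k K] (h2 : (2 : k) ≠ 0) (h3 : (3 : k) ≠ 0)
    (hK : FunFld.IsFunctionField k K) (hgen : FunFld.genus k K = 1) (P : FunFld.Place k K)
    (a b : k) (hdisc : 4 * a ^ 3 + 27 * b ^ 2 ≠ 0) (x y : K)
    (heq : y ^ 2 = x ^ 3 + algebraMap k K a * x + algebraMap k K b)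
    (hxy : IntermediateField.adjoin k ({x, y} : Set K) = ⊤)
    (hx : x ∈ FunFld.L (Finsupp.single P 2)) (hx2 : P.ord x = -2)
    (hy : y ∈ FunFld.L (Finsupp.single P 3)) (hy3 : P.ord y = -3) :
    Nat.card {σ : K ≃ₐ[k] K // ∀ z : K, P.1 (σ z) = P.1 z} =
      if a = 0 then 6 else if b = 0 then 4 else 2 := by
  have hx0 : x ≠ 0 := by
    rintro rfl
    simp [FunFld.Place.ord] at hx2
  have hy0 : y ≠ 0 := by
    rintro rfl
    simp [FunFld.Place.ord] at hy3
  have hvx : P.1 x = WithZero.exp (2 : ℤ) := by
    rw [Groth.Agent.Lib.LeadFF.val_eq_exp_neg_ord P hx0, hx2]; simp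
  have hvy : P.1 y = WithZero.exp (3 : ℤ) := by
    rw [Groth.Agent.Lib.LeadFF.val_eq_exp_neg_ord P hy0, hy3]; simp
  rw [Groth.Agent.Lib.Helper27EllAut.card_aut h2 h3 hK hgen heq hxy hx hvx hy hvy]
  by_cases ha : a = 0
  · rw [if_pos ha]
    have hb : b ≠ 0 := by
      rintro rfl
      apply hdisc
      rw [ha]; ring
    exact Groth.Agent.Lib.Helper27EllAut.card_U_six h2 h3 ha hb
  · rw [if_neg ha]
    by_cases hb : b = 0
    · rw [if_pos hb]
      exact Groth.Agent.Lib.Helper27EllAut.card_U_four h2 ha hb
    · rw [if_neg hb]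
      exact Groth.Agent.Lib.Helper27EllAut.card_U_two h2 ha hb

end Groth.Agent.S19397
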