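import Groth.Statements.S19403
import Groth.Agent.Lib.Helper25EqZMT
import Groth.Agent.Lib.Helper25OpenImmCover

set_option autoImplicit false
universe u
open TensorProduct
open GLin

namespace Groth.Agent.S19403

open Groth.Agent.Lib.Helper25 Groth.Agent.Lib.Helper25.SubAlg Groth.Agent.Lib.Helper25.EqZMT


/-- The equivariant form of Zariski's Main Theorem. Let k be an algebraically closed field of
characteristic zero, A a finitely generated commutative Hopf algebra over k all of whose
finite-dimensional comodules are semisimple (a reductive group G), R and S finitely generated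
commutative k-algebras with multiplicative A-coactions (G acting on the affine schemes X = Spec R, Y
= Spec S), and S → R an algebra map compatible with the coactions (a G-morphism φ : X → Y) which is
quasi-finite. Then there exist a finitely generated commutative k-algebra B with a multiplicative
A-coaction (an affine G-scheme Z), an algebra map ψ : S → B compatible with the coactions and
finite, and an algebra map i : B → R compatible with the coactions such that Spec R → Spec B is an
open immersion, with i ∘ ψ the given map S → R (φ factors as an equivariant open immersion followed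
by a finite G-morphism). -/
theorem result (k : Type u) [Field k] [IsAlgClosed k] [CharZero k]
    (A : Type u) [CommRing A] [HopfAlgebra k A] [Algebra.FiniteType k A] (hG : HopfRep.IsLinearlyReductive k A)
    (S : Type u) [CommRing S] [Algebra k S] [Algebra.FiniteType k S] [HopfRep.Comod k A S] [GLin.IsCoactAlg k A S]
    (R : Type u) [CommRing R] [Algebra k R] [Algebra.FiniteType k R] [HopfRep.Comod k A R] [GLin.IsCoactAlg k A R]
    [Algebra S R] [IsScalarTower k S R] [Algebra.QuasiFinite S R]
    (hequiv : (∀ s : S, HopfRep.Comod.coact (k := k) (A := A) (algebraMap S R s) =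
      Algebra.TensorProduct.map (IsScalarTower.toAlgHom k S R) (AlgHom.id k A) (HopfRep.Comod.coact (k := k) (A := A) s))) :
    ∃ (B : Type u) (_ : CommRing B) (_ : Algebra k B) (_ : HopfRep.Comod k A B) (_ : GLin.IsCoactAlg k A B),
      Algebra.FiniteType k B ∧
      ∃ (ψ : S →ₐ[k] B) (i : B →ₐ[k] R),
        (∀ s : S, HopfRep.Comod.coact (k := k) (A := A) (ψ s) =
        Algebra.TensorProduct.map ψ (AlgHom.id k A) (HopfRep.Comod.coact (k := k) (A := A) s)) ∧
        (∀ s : B, HopfRep.Comod.coact (k := k) (A := A) (i s) =
        Algebra.TensorProduct.map i (AlgHom.id k A) (HopfRep.Comod.coact (k := k) (A := A) s)) ∧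
        i.comp ψ = IsScalarTower.toAlgHom k S R ∧ ψ.toRingHom.Finite ∧
        AlgebraicGeometry.IsOpenImmersion (AlgebraicGeometry.Spec.map (CommRingCat.ofHom i.toRingHom)) := by
  haveI : IsReduced A := Groth.Agent.Lib.Helper25.CartH.isReduced_of_charZero_hopf (k := k) (A := A)
  obtain ⟨B, t, hB, hFG, hSB, hint, ht, htB, hsat⟩ := exists_stable_subalgebra (k := k) (A := A) hequiv
  letI cB : HopfRep.Comod k A B := subalgComod B hB
  haveI iB : GLin.IsCoactAlg k A B := subalg_isCoactAlg B hB
  let ψ : S →ₐ[k] B := (IsScalarTower.toAlgHom k S R).codRestrict B hSB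
  have hFT : Algebra.FiniteType k B := (Subalgebra.fg_iff_finiteType B).mp hFG
  refine ⟨B, inferInstance, inferInstance, cB, iB, hFT, ψ, B.val, ?_, ?_, ?_, ?_, ?_⟩
  · intro s
    apply inclT_injective (A := A) B
    have h1 := subalg_coact_val B hB (ψ s)
    change _ = inclT (A := A) B (HopfRep.Comod.coact (k := k) (A := A) (ψ s)) at h1
    rw [← h1]
    have h2 : B.val (ψ s) = algebraMap S R s := rfl
    rw [h2, hequiv s]
    generalize HopfRep.Comod.coact (k := k) (A := A) s = z
    induction z using TensorProduct.induction_on with
    | zero => simp
    | add x y hx hy => simp only [map_add, hx, hy]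
    | tmul r a => simp [ψ]
  · intro b
    exact subalg_coact_val B hB b
  · apply AlgHom.ext
    intro s
    rfl
  · apply RingHom.IsIntegral.to_finite
    · intro b
      obtain ⟨p, hpm, hp⟩ := hint b.1 b.2
      refine ⟨p, hpm, ?_⟩
      apply Subtype.val_injective
      have h3 := Polynomial.hom_eval₂ p ψ.toRingHom B.val.toRingHom b
      rw [show (B.val.toRingHom (Polynomial.eval₂ ψ.toRingHom b p) : R) =
        ((Polynomial.eval₂ ψ.toRingHom b p : B) : R) from rfl] at h3
      rw [h3]
      exact hp
    · apply RingHom.FiniteType.of_comp_finiteType (f := algebraMap k S)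
      have : ψ.toRingHom.comp (algebraMap k S) = algebraMap k B := by
        apply RingHom.ext
        intro c
        exact ψ.commutes c
      rw [this]
      exact (RingHom.finiteType_algebraMap).mpr hFT
  · have hi : Function.Injective B.val.toRingHom := Subtype.val_injective
    let tB : Set B := {b | (b : R) ∈ t}
    apply isOpenImmersion_Spec_of_cover B.val.toRingHom hi tB
    · have : B.val.toRingHom '' tB = (t : Set R) := by
        ext r
        constructor
        · rintro ⟨b, hb, rfl⟩
          exact hb
        · intro hr
          exact ⟨⟨r, htB r hr⟩, hr, rfl⟩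
      rw [this]
      exact ht
    · intro r hr x
      obtain ⟨n, hn⟩ := hsat r.1 hr x
      exact ⟨n, ⟨_, hn⟩, rfl⟩

end Groth.Agent.S19403
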