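import Groth.Statements.S19406
import Groth.Agent.Lib.Helper25OrbitFlat

set_option autoImplicit false
universe u
open TensorProduct
open GLin

namespace Groth.Agent.S19406

/-- Let k be an algebraically closed field of characteristic zero, A a finitely generated commutative
Hopf algebra over k which is an integral domain and all of whose finite-dimensional comodules are
semisimple (a connected reductive group G), R a reduced finitely generated commutative k-algebra
with a multiplicative A-coaction (G acting on the affine variety X = Spec R), and χ a group-like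
element of A (a character of G). Then there is a set E of G-invariant functions on X such that, for
every k-point x of X whose orbit is closed, χ − 1 lies in the stabilizer ideal of x (χ is trivial on
the stabilizer of x) if and only if some member of E does not vanish at x: the set of points of X//G
over which the closed orbit has stabilizer on which χ is trivial is open. (The published statement
allows any reductive G; this row assumes G connected, the case the source's argument covers.) -/
theorem result (k : Type u) [Field k] [IsAlgClosed k] [CharZero k]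
    (A : Type u) [CommRing A] [IsDomain A] [HopfAlgebra k A] [Algebra.FiniteType k A] (hG : HopfRep.IsLinearlyReductive k A)
    (R : Type u) [CommRing R] [IsReduced R] [Algebra k R] [Algebra.FiniteType k R] [HopfRep.Comod k A R] [GLin.IsCoactAlg k A R]
    (χ : A) (hχ : IsGroupLikeElem k χ) :
    ∃ E : Set R, E ⊆ GLin.invariants k A R ∧
      ∀ x : R →ₐ[k] k, GLin.IsClosedOrbit k A x →
        (χ - 1 ∈ GLin.stabIdeal k A x ↔ ∃ f ∈ E, x f ≠ 0) := by
  classical
  have hS : IsGroupLikeElem k (HopfAlgebra.antipode k χ) := hχ.antipode
  refine ⟨{f | ∃ F F' : R, HopfRep.Comod.coact (k := k) (A := A) F = F ⊗ₜ[k] χ ∧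
    HopfRep.Comod.coact (k := k) (A := A) F' = F' ⊗ₜ[k] HopfAlgebra.antipode k χ ∧
    f = F * F'}, ?_, ?_⟩
  · rintro f ⟨F, F', hF, hF', rfl⟩
    change HopfRep.Comod.coact (k := k) (A := A) (F * F') = (F * F') ⊗ₜ[k] (1 : A)
    rw [GLin.IsCoactAlg.coact_mul, hF, hF', Algebra.TensorProduct.tmul_mul_tmul,
      hχ.mul_antipode_cancel]
  · intro x hcl
    constructor
    · intro h
      have hS1 : HopfAlgebra.antipode k χ - 1 ∈ GLin.stabIdeal k A x := by
        have e : HopfAlgebra.antipode k χ - 1 = -(HopfAlgebra.antipode k χ * (χ - 1)) := by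
          rw [mul_sub, hχ.antipode_mul_cancel, mul_one]
          ring
        rw [e]
        exact Ideal.neg_mem_iff _ |>.mpr (Ideal.mul_mem_left _ _ h)
      obtain ⟨F, hF, hF1⟩ := Groth.Agent.Lib.Helper25.OrbitFlat.exists_eigen_of_mem_orbitSub hG x hχ
        (Groth.Agent.Lib.Helper25.OrbitFlat.mem_orbitSub_of_sub_one_mem_stabIdeal hcl hχ h)
      obtain ⟨F', hF', hF'1⟩ :=
        Groth.Agent.Lib.Helper25.OrbitFlat.exists_eigen_of_mem_orbitSub hG x hS
        (Groth.Agent.Lib.Helper25.OrbitFlat.mem_orbitSub_of_sub_one_mem_stabIdeal hcl hS hS1)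
      refine ⟨F * F', ⟨F, F', hF, hF', rfl⟩, ?_⟩
      rw [map_mul, hF1, hF'1, mul_one]
      exact one_ne_zero
    · rintro ⟨f, ⟨F, F', hF, hF', rfl⟩, hne⟩
      rw [map_mul] at hne
      have hxF : x F ≠ 0 := left_ne_zero_of_mul hne
      have h1 : GLin.orbitHom k A x F = x F • χ := by
        rw [Groth.Agent.Lib.Helper25.orbitHom_eq_coeffMap,
          Groth.Agent.Lib.Helper25.coeffMap_apply, hF,
          Groth.Agent.Lib.Helper25.lslice_tmul]
        rfl
      have h2 : GLin.orbitHom k A x (F - algebraMap k R (x F)) ∈ GLin.stabIdeal k A x := by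
        apply Ideal.mem_map_of_mem
        rw [RingHom.mem_ker, map_sub, AlgHom.commutes]
        simp
      rw [map_sub, h1, AlgHom.commutes, Algebra.algebraMap_eq_smul_one, ← smul_sub] at h2
      have h3 := Ideal.mul_mem_left (GLin.stabIdeal k A x) (algebraMap k A (x F)⁻¹) h2
      rw [Algebra.algebraMap_eq_smul_one, smul_mul_assoc, one_mul, smul_smul,
        inv_mul_cancel₀ hxF, one_smul] at h3
      exact h3

end Groth.Agent.S19406
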