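import Groth.Statements.S19408
import Groth.Agent.Lib.Helper25StrEtale2
import Groth.Agent.Lib.Helper25StrEtale3

set_option autoImplicit false
universe u
open TensorProduct
open GLin

namespace Groth.Agent.S19408

/-- Let k be an algebraically closed field of characteristic zero, A a finitely generated commutative
Hopf algebra over k all of whose finite-dimensional comodules are semisimple (a reductive group G),
S and R finitely generated commutative k-algebras with multiplicative A-coactions (G acting on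
affine Y = Spec S and X = Spec R), S → R an algebra map compatible with the coactions (a G-morphism
θ : X → Y), S₀ → S and R₀ → R injective k-algebra maps whose images are the subrings of invariants,
and S₀ → R₀ an algebra map with S₀ → R₀ → R equal to S₀ → S → R (θ/G). Suppose R is étale over S, R₀
is étale over S₀, and the canonical map S ⊗_{S₀} R₀ → R is bijective (θ and θ/G étale and X ≅ Y
×_{Y//G} X//G). Let J be an ideal of S which is a subcomodule (Y' = V(J) a closed G-invariant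
subscheme), let S/J and R/JR carry A-coactions for which the quotient maps are compatible with the
coactions (the induced actions on Y' and X' = Y' ×_Y X), and let S₁ → S/J and R₁ → R/JR be injective
k-algebra maps whose images are the subrings of invariants, with S₁ → R₁ an algebra map such that S₁
→ R₁ → R/JR equals S₁ → S/J → R/JR. Then R/JR is étale over S/J, R₁ is étale over S₁, and the
canonical map (S/J) ⊗_{S₁} R₁ → R/JR is bijective (θ' : X' → Y' and θ'/G are étale and X' ≅ Y'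
×_{Y'//G} X'//G). -/
theorem result (k : Type u) [Field k] [IsAlgClosed k] [CharZero k]
    (A : Type u) [CommRing A] [HopfAlgebra k A] [Algebra.FiniteType k A] (hG : HopfRep.IsLinearlyReductive k A)
    (S : Type u) [CommRing S] [Algebra k S] [Algebra.FiniteType k S] [HopfRep.Comod k A S] [GLin.IsCoactAlg k A S]
    (R : Type u) [CommRing R] [Algebra k R] [Algebra.FiniteType k R] [HopfRep.Comod k A R] [GLin.IsCoactAlg k A R]
    [Algebra S R] [IsScalarTower k S R]
    (hequiv : (∀ s : S, HopfRep.Comod.coact (k := k) (A := A) (algebraMap S R s) =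
      Algebra.TensorProduct.map (IsScalarTower.toAlgHom k S R) (AlgHom.id k A) (HopfRep.Comod.coact (k := k) (A := A) s)))
    (S₀ : Type u) [CommRing S₀] [Algebra k S₀] [Algebra S₀ S] [IsScalarTower k S₀ S]
    (hS₀i : Function.Injective (algebraMap S₀ S)) (hS₀ : (IsScalarTower.toAlgHom k S₀ S).range = GLin.invariants k A S)
    (R₀ : Type u) [CommRing R₀] [Algebra k R₀] [Algebra R₀ R] [IsScalarTower k R₀ R]
    (hR₀i : Function.Injective (algebraMap R₀ R)) (hR₀ : (IsScalarTower.toAlgHom k R₀ R).range = GLin.invariants k A R)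
    [Algebra S₀ R₀] [Algebra S₀ R] [IsScalarTower S₀ S R] [IsScalarTower S₀ R₀ R]
    (het : Algebra.Etale S R) (het₀ : Algebra.Etale S₀ R₀)
    (hcart : Function.Bijective (Algebra.TensorProduct.productMap (IsScalarTower.toAlgHom S₀ S R) (IsScalarTower.toAlgHom S₀ R₀ R)))
    (J : Ideal S) (hJ : HopfRep.IsSubcomod (k := k) (A := A) (J.restrictScalars k))
    [HopfRep.Comod k A (S ⧸ J)] [GLin.IsCoactAlg k A (S ⧸ J)]
    (hqS : (∀ s : S, HopfRep.Comod.coact (k := k) (A := A) ((Ideal.Quotient.mkₐ k J) s) =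
        Algebra.TensorProduct.map (Ideal.Quotient.mkₐ k J) (AlgHom.id k A) (HopfRep.Comod.coact (k := k) (A := A) s)))
    [HopfRep.Comod k A (R ⧸ J.map (algebraMap S R))] [GLin.IsCoactAlg k A (R ⧸ J.map (algebraMap S R))]
    (hqR : (∀ s : R, HopfRep.Comod.coact (k := k) (A := A) ((Ideal.Quotient.mkₐ k (J.map (algebraMap S R))) s) =
        Algebra.TensorProduct.map (Ideal.Quotient.mkₐ k (J.map (algebraMap S R))) (AlgHom.id k A) (HopfRep.Comod.coact (k := k) (A := A) s)))
    (S₁ : Type u) [CommRing S₁] [Algebra k S₁] [Algebra S₁ (S ⧸ J)] [IsScalarTower k S₁ (S ⧸ J)]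
    (hS₁i : Function.Injective (algebraMap S₁ (S ⧸ J)))
    (hS₁ : (IsScalarTower.toAlgHom k S₁ (S ⧸ J)).range = GLin.invariants k A (S ⧸ J))
    (R₁ : Type u) [CommRing R₁] [Algebra k R₁] [Algebra R₁ (R ⧸ J.map (algebraMap S R))] [IsScalarTower k R₁ (R ⧸ J.map (algebraMap S R))]
    (hR₁i : Function.Injective (algebraMap R₁ (R ⧸ J.map (algebraMap S R))))
    (hR₁ : (IsScalarTower.toAlgHom k R₁ (R ⧸ J.map (algebraMap S R))).range = GLin.invariants k A (R ⧸ J.map (algebraMap S R)))
    [Algebra S₁ R₁] [Algebra S₁ (R ⧸ J.map (algebraMap S R))]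
    [IsScalarTower S₁ (S ⧸ J) (R ⧸ J.map (algebraMap S R))] [IsScalarTower S₁ R₁ (R ⧸ J.map (algebraMap S R))] :
    Algebra.Etale (S ⧸ J) (R ⧸ J.map (algebraMap S R)) ∧ Algebra.Etale S₁ R₁ ∧
      Function.Bijective (Algebra.TensorProduct.productMap
        (IsScalarTower.toAlgHom S₁ (S ⧸ J) (R ⧸ J.map (algebraMap S R)))
        (IsScalarTower.toAlgHom S₁ R₁ (R ⧸ J.map (algebraMap S R)))) := by
  classical
  haveI := het
  haveI := het₀
  -- the quotient maps as algebra maps
  set qS : S →ₐ[k] S ⧸ J := Ideal.Quotient.mkₐ k J with hqSdef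
  set qR : R →ₐ[k] R ⧸ J.map (algebraMap S R) := Ideal.Quotient.mkₐ k (J.map (algebraMap S R))
    with hqRdef
  have hqSs : Function.Surjective qS := Ideal.Quotient.mkₐ_surjective k J
  have hqRs : Function.Surjective qR := Ideal.Quotient.mkₐ_surjective k _
  -- invariants
  have hinvS : ∀ s₀ : S₀, algebraMap S₀ S s₀ ∈ GLin.invariants k A S := by
    intro s₀; rw [← hS₀]; exact ⟨s₀, rfl⟩
  have hinvR : ∀ r₀ : R₀, algebraMap R₀ R r₀ ∈ GLin.invariants k A R := by
    intro r₀; rw [← hR₀]; exact ⟨r₀, rfl⟩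
  -- the maps `a : S₀ → S₁`, `b : R₀ → R₁`
  obtain ⟨a, ha⟩ := Groth.Agent.Lib.Helper25.StrEtale3.exists_algHom_of_range
    (qS.comp (IsScalarTower.toAlgHom k S₀ S)) (IsScalarTower.toAlgHom k S₁ (S ⧸ J)) hS₁i (by
      intro s₀
      rw [hS₁]
      exact Groth.Agent.Lib.Helper25.StrEtale3.map_mem_invariants qS hqS (hinvS s₀))
  obtain ⟨b, hb⟩ := Groth.Agent.Lib.Helper25.StrEtale3.exists_algHom_of_range
    (qR.comp (IsScalarTower.toAlgHom k R₀ R))
    (IsScalarTower.toAlgHom k R₁ (R ⧸ J.map (algebraMap S R))) hR₁i (by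
      intro r₀
      rw [hR₁]
      exact Groth.Agent.Lib.Helper25.StrEtale3.map_mem_invariants qR hqR (hinvR r₀))
  have hC1 : ∀ s₀, algebraMap S₁ (S ⧸ J) ((a : S₀ →+* S₁) s₀) =
      (Ideal.Quotient.mk J) (algebraMap S₀ S s₀) := fun s₀ => ha s₀
  have hC2 : ∀ r₀, algebraMap R₁ (R ⧸ J.map (algebraMap S R)) ((b : R₀ →+* R₁) r₀) =
      (Ideal.Quotient.mk (J.map (algebraMap S R))) (algebraMap R₀ R r₀) := fun r₀ => hb r₀
  have hsq : ∀ s, (Ideal.Quotient.mk (J.map (algebraMap S R))) (algebraMap S R s) =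
      algebraMap (S ⧸ J) (R ⧸ J.map (algebraMap S R)) ((Ideal.Quotient.mk J) s) := fun s => rfl
  -- surjectivity of `a`, `b`
  have hasurj : Function.Surjective (a : S₀ →+* S₁) := by
    intro s₁
    have h1 : algebraMap S₁ (S ⧸ J) s₁ ∈ GLin.invariants k A (S ⧸ J) := by
      rw [← hS₁]; exact ⟨s₁, rfl⟩
    obtain ⟨s, hs, hss⟩ := Groth.Agent.Lib.Helper25.StrEtale3.exists_invariant_lift hG qS hqS hqSs h1
    rw [← hS₀] at hs
    obtain ⟨s₀, rfl⟩ := hs
    refine ⟨s₀, hS₁i ?_⟩
    rw [hC1]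
    exact hss
  have hbsurj : Function.Surjective (b : R₀ →+* R₁) := by
    intro r₁
    have h1 : algebraMap R₁ (R ⧸ J.map (algebraMap S R)) r₁ ∈
        GLin.invariants k A (R ⧸ J.map (algebraMap S R)) := by
      rw [← hR₁]; exact ⟨r₁, rfl⟩
    obtain ⟨r, hr, hrr⟩ := Groth.Agent.Lib.Helper25.StrEtale3.exists_invariant_lift hG qR hqR hqRs h1
    rw [← hR₀] at hr
    obtain ⟨r₀, rfl⟩ := hr
    refine ⟨r₀, hR₁i ?_⟩
    rw [hC2]
    exact hrr
  -- kernel of `a`
  have hkera : RingHom.ker (a : S₀ →+* S₁) = Ideal.comap (algebraMap S₀ S) J := by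
    ext s₀
    rw [RingHom.mem_ker, Ideal.mem_comap, ← Ideal.Quotient.eq_zero_iff_mem, ← hC1]
    constructor
    · intro h; rw [h, map_zero]
    · intro h
      apply hS₁i
      rw [h, map_zero]
  -- the key property
  have H : ∀ r₀ : R₀, (Ideal.Quotient.mk (J.map (algebraMap S R))) (algebraMap R₀ R r₀) = 0 →
      r₀ ∈ Ideal.map (algebraMap S₀ R₀) (RingHom.ker (a : S₀ →+* S₁)) := by
    intro r₀ h
    rw [hkera]
    rw [Ideal.Quotient.eq_zero_iff_mem] at h
    exact Groth.Agent.Lib.Helper25.StrEtale3.key_H hG hequiv hS₀ hR₀i hR₀ hcart.2 J hJ r₀ h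
  refine ⟨?_, ?_, ?_⟩
  · exact Algebra.Etale.of_equiv (Algebra.TensorProduct.quotIdealMapEquivQuotTensor R J).symm
  · exact Groth.Agent.Lib.Helper25.StrEtale2.etale_of_data (Ideal.Quotient.mk J)
      (Ideal.Quotient.mk (J.map (algebraMap S R))) (a : S₀ →+* S₁) (b : R₀ →+* R₁)
      hsq hC1 hC2 hR₁i hasurj hbsurj H
  · exact Groth.Agent.Lib.Helper25.StrEtale2.bijective_productMap_of_data (Ideal.Quotient.mk J)
      (Ideal.Quotient.mk (J.map (algebraMap S R))) (a : S₀ →+* S₁) (b : R₀ →+* R₁)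
      Ideal.Quotient.mk_surjective Ideal.Quotient.mk_surjective
      (by rw [Ideal.mk_ker, Ideal.mk_ker]) hsq hC1 hC2 hR₁i hbsurj hcart

end Groth.Agent.S19408
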