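import Groth.Statements.S1941
import Mathlib
import Groth.Agent.Lib.Helper2CycBC
import Groth.Agent.S1858
-- import your own Groth.Agent.* helpers here

set_option autoImplicit false
set_option linter.style.haveILetI false
set_option linter.unusedSectionVars false
universe u
open CategoryTheory AlgebraicGeometry
open CategoryTheory.Limits
open Cyc

namespace Groth.Agent.S1941

open Groth.Agent.S1858

section Core

variable {X Y Y' : Scheme.{u}} (f : X ⟶ Y) (g : Y' ⟶ Y)

theorem cond_iff' (δX : X → ℤ) (δY : Y → ℤ) (δY' : Y' → ℤ)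
    (δX' : ↥(pullback f g) → ℤ) (c : ℤ) (hle : ∀ y' : Y', δY' y' ≤ δY (g y') + c)
    (hf : Cyc.DeltaCompat f δX δY)
    (hX' : Cyc.DeltaCompat (pullback.snd f g) δX' δY') (x' : ↥(pullback f g)) :
    (δX' x' = δX (pullback.fst f g x') + c ∧ δX' x' = δY' (pullback.snd f g x')) ↔
    (δY' (pullback.snd f g x') = δY (g (pullback.snd f g x')) + c ∧
      δX (pullback.fst f g x') = δY (f (pullback.fst f g x'))) := by
  obtain ⟨na, hna, hδa⟩ := hf (pullback.fst f g x')
  obtain ⟨nc, hnc, hδc⟩ := hX' x'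
  have h2 := trdeg_snd_le f g x'
  rw [hna, hnc] at h2
  have h2' : nc ≤ na := by exact_mod_cast h2
  have e := snd_eq f g x'
  have h3 := hle (pullback.snd f g x')
  rw [e] at h3 ⊢
  omega

theorem perX' [LocallyOfFiniteType f] (δX : X → ℤ) (δY : Y → ℤ)
    (δY' : Y' → ℤ) (δX' : ↥(pullback f g) → ℤ) (c : ℤ)
    (hle : ∀ y' : Y', δY' y' ≤ δY (g y') + c)
    (hf : Cyc.DeltaCompat f δX δY)
    (hX' : Cyc.DeltaCompat (pullback.snd f g) δX' δY')
    (α : X → ℤ) (α' : ↥(pullback f g) → ℤ)
    (hα' : α' = Cyc.pullFun (pullback.fst f g) δX' δX c α)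
    (y' : Y') (x : X) (hxy : f x = g y') :
    ∑ᶠ x' ∈ {x' | pullback.fst f g x' = x ∧ pullback.snd f g x' = y'},
        α' x' * ((AlgebraicCycle.mapCoeff (pullback.snd f g) δX' δY' x' : ℕ) : ℤ) =
      if δY' y' = δY (g y') + c then
        α x * ((AlgebraicCycle.mapCoeff f δX δY x : ℕ) : ℤ) * ((lenFac g y').toNat : ℤ)
      else 0 := by
  obtain ⟨w, rfl⟩ : ∃ w : g.fiber (f x), g.fiberι (f x) w = y' :=
    ⟨(g.fiberHomeo (f x)).symm ⟨y', hxy.symm⟩, g.fiberι_fiberHomeo_symm _ _⟩
  by_cases hQ : δY' (g.fiberι (f x) w) = δY (g (g.fiberι (f x) w)) + c ∧ δX x = δY (f x)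
  · obtain ⟨hQ1, hQ2⟩ := hQ
    have hfin := finite_of_delta_eq f δX δY hf x hQ2
    rw [if_pos hQ1]
    have hterm : ∀ x' ∈ {x' | pullback.fst f g x' = x ∧
        pullback.snd f g x' = g.fiberι (f x) w},
        α' x' * ((AlgebraicCycle.mapCoeff (pullback.snd f g) δX' δY' x' : ℕ) : ℤ) =
        α x * (((lenFac (pullback.fst f g) x').toNat *
          (pullback.snd f g).residueDegree x' : ℕ) : ℤ) := by
      rintro x' ⟨rfl, h2⟩
      have hP := (cond_iff' f g δX δY δY' δX' c hle hf hX' x').mpr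
        ⟨by rw [h2]; exact hQ1, hQ2⟩
      rw [hα']
      unfold Cyc.pullFun AlgebraicCycle.mapCoeff
      rw [if_pos hP.1, if_pos hP.2]
      push_cast
      ring
    rw [finsum_mem_congr rfl hterm, ← mul_finsum_mem]
    haveI := fibMap_finite f g x hfin
    have hBfin : {x' | pullback.fst f g x' = x ∧
        pullback.snd f g x' = g.fiberι (f x) w}.Finite := by
      rw [← (bijOn_fiberι f g x w).image_eq]
      exact (Scheme.Hom.finite_preimage_singleton (fibMap f g x) w).image _
    rw [← Nat.cast_finsum_mem hBfin, core f g x hfin w]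
    unfold AlgebraicCycle.mapCoeff
    rw [if_pos hQ2]
    push_cast
    ring
  · have hterm : ∀ x' ∈ {x' | pullback.fst f g x' = x ∧
        pullback.snd f g x' = g.fiberι (f x) w},
        α' x' * ((AlgebraicCycle.mapCoeff (pullback.snd f g) δX' δY' x' : ℕ) : ℤ) = 0 := by
      rintro x' ⟨rfl, h2⟩
      have hP : ¬ (δX' x' = δX (pullback.fst f g x') + c ∧
          δX' x' = δY' (pullback.snd f g x')) := by
        intro hP
        apply hQ
        have := (cond_iff' f g δX δY δY' δX' c hle hf hX' x').mp hP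
        rw [h2] at this
        exact this
      rw [hα']
      unfold Cyc.pullFun AlgebraicCycle.mapCoeff
      by_cases h1 : δX' x' = δX (pullback.fst f g x') + c
      · have h2' : ¬ δX' x' = δY' (pullback.snd f g x') := fun h => hP ⟨h1, h⟩
        rw [if_neg h2']
        simp
      · rw [if_neg h1]
        simp
    rw [finsum_mem_congr rfl hterm, finsum_mem_zero]
    split_ifs with hQ1
    · have hQ2 : ¬ δX x = δY (f x) := fun h => hQ ⟨hQ1, h⟩
      unfold AlgebraicCycle.mapCoeff
      rw [if_neg hQ2]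
      simp
    · rfl

end Core


/-- Flat base change commutes with proper pushforward of cycles. In the base-change setting let f : Y →
X be proper and Y' = Y ×_X X' with projections f' to X' and q to Y. Y and Y' carry dimension
functions δ_Y and δ_Y' induced from δ and δ' along f and f' (Cyc.DeltaCompat), and δ_Y' satisfies
the same shift-c condition relative to q as δ' does relative to p. For a k-cycle α on Y, g^*(f_*α) =
f'_*(q^*α) as (k + c)-cycles on X', where q^*α is any cycle on Y' with the base-change coefficients.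
Base-change setting, stated without a fixed base scheme: p : X' → X is flat (not necessarily of
finite type), (X, δ) and (X', δ') carry dimension functions, and δ'(x') = δ(p x') + c whenever x' is
a generic point of an irreducible component of its fibre; g^* : Z_k(X) → Z_{k+c}(X') is the
coefficientwise flat pullback Cyc.pullFun p δ' δ c. A pair (X, δ) with Cyc.IsSetup plays the role of
a scheme locally of finite type over a base with a dimension function (X locally Noetherian with
universally catenary local rings, δ a dimension function). -/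
theorem result (X X' Y : Scheme.{u}) (f : Y ⟶ X) (p : X' ⟶ X) [IsProper f] [Flat p] (δ : X → ℤ) (δ' : X' → ℤ) (δY : Y → ℤ) (δY' : ↥(pullback f p) → ℤ) (hX : Cyc.IsSetup X δ) (hX' : Cyc.IsSetup X' δ') (hY : Cyc.IsSetup Y δY) (hf : Cyc.DeltaCompat f δY δ) (hf' : Cyc.DeltaCompat (pullback.snd f p) δY' δ') (c : ℤ) (hc : ∀ x' : X', (∀ y, p y = p x' → y ⤳ x' → y = x') → δ' x' = δ (p x') + c) (hcY : ∀ y' : ↥(pullback f p), (∀ y, pullback.fst f p y = pullback.fst f p y' → y ⤳ y' → y = y') → δY' y' = δY (pullback.fst f p y') + c) (k : ℤ) (α : AlgebraicCycle Y ℤ) (hα : α ∈ Cyc.Zk Y δY k) (α' : AlgebraicCycle (pullback f p) ℤ) (hα' : ⇑α' = Cyc.pullFun (pullback.fst f p) δY' δY c ⇑α) : Cyc.pullFun p δ' δ c ⇑(AlgebraicCycle.map f δY δ α) = ⇑(AlgebraicCycle.map (pullback.snd f p) δY' δ' α') := by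
  haveI : IsLocallyNoetherian X' := hX'.1
  have hle : ∀ x' : X', δ' x' ≤ δ (p x') + c :=
    Groth.Agent.Lib.Helper2.CycBC.delta_le_of_shift p δ δ' hX'.2.2 c hc
  symm
  funext y'
  have hL : (AlgebraicCycle.map (pullback.snd f p) δY' δ' α') y' =
      ∑ᶠ x' ∈ (pullback.snd f p) ⁻¹' {y'},
        α' x' * ((AlgebraicCycle.mapCoeff (pullback.snd f p) δY' δ' x' : ℕ) : ℤ) := rfl
  have hR : Cyc.pullFun p δ' δ c ⇑(AlgebraicCycle.map f δY δ α) y' =
      if δ' y' = δ (p y') + c then
        (∑ᶠ x ∈ f ⁻¹' {p y'}, α x * ((AlgebraicCycle.mapCoeff f δY δ x : ℕ) : ℤ)) *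
          ((lenFac p y').toNat : ℤ)
      else 0 := rfl
  rw [hL, hR]
  have h3 : (if δ' y' = δ (p y') + c then
        (∑ᶠ x ∈ f ⁻¹' {p y'}, α x * ((AlgebraicCycle.mapCoeff f δY δ x : ℕ) : ℤ)) *
          ((lenFac p y').toNat : ℤ)
      else 0) = ∑ᶠ x ∈ f ⁻¹' {p y'}, (if δ' y' = δ (p y') + c then
        α x * ((AlgebraicCycle.mapCoeff f δY δ x : ℕ) : ℤ) * ((lenFac p y').toNat : ℤ)
      else 0) := by
    split_ifs
    · rw [finsum_mem_mul]
    · rw [finsum_mem_zero]
  have h4 : ∑ᶠ x ∈ f ⁻¹' {p y'}, (if δ' y' = δ (p y') + c then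
        α x * ((AlgebraicCycle.mapCoeff f δY δ x : ℕ) : ℤ) * ((lenFac p y').toNat : ℤ)
      else 0) = ∑ᶠ x ∈ f ⁻¹' {p y'},
        ∑ᶠ x' ∈ {x' | pullback.fst f p x' = x ∧ x' ∈ (pullback.snd f p) ⁻¹' {y'}},
        α' x' * ((AlgebraicCycle.mapCoeff (pullback.snd f p) δY' δ' x' : ℕ) : ℤ) :=
    finsum_mem_congr rfl (fun x hx => (perX' f p δY δ δ' δY' c hle hf hf' ⇑α ⇑α' hα'
      y' x hx).symm)
  rw [h3, h4]
  have hT : ((pullback.snd f p) ⁻¹' {y'} ∩ Function.support (fun x' => α' x' *
      ((AlgebraicCycle.mapCoeff (pullback.snd f p) δY' δ' x' : ℕ) : ℤ))).Finite := by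
    refine (α'.locallyFiniteSupport.finite_inter_support_of_isCompact
      ((pullback.snd f p).isCompact_preimage_singleton y')).subset ?_
    rintro x' ⟨h1, h2⟩
    refine ⟨h1, fun h0 => h2 ?_⟩
    have h0' : α' x' = 0 := h0
    simp [h0']
  exact finsum_fiberwise ((pullback.snd f p) ⁻¹' {y'}) (f ⁻¹' {p y'}) (pullback.fst f p) _ hT
    (fun x' hx' => by
      have hx'' : pullback.snd f p x' = y' := hx'
      change f (pullback.fst f p x') = p y'
      rw [← hx'']
      exact (snd_eq f p x').symm)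

end Groth.Agent.S1941
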