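import Groth.Statements.S19412
import Groth.Agent.Lib.Helper25StrEtale

set_option autoImplicit false
universe u
open TensorProduct
open GLin

namespace Groth.Agent.S19412

/-- Let k be an algebraically closed field of characteristic zero, A a finitely generated commutative
Hopf algebra over k (an algebraic group G), S and R finitely generated commutative k-algebras with
multiplicative A-coactions (G acting on affine Y = Spec S, X = Spec R), S → R an algebra map
compatible with the coactions (a G-morphism φ : X → Y), S₀ → S and R₀ → R injective k-algebra maps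
whose images are the subrings of invariants, and S₀ → R₀ an algebra map with S₀ → R₀ → R equal to S₀
→ S → R (φ/G). Suppose R₀ is étale over S₀ and the canonical map S ⊗_{S₀} R₀ → R is bijective (φ is
strongly étale: φ/G étale and X ≅ Y ×_{Y//G} X//G). Then R is étale over S (φ étale), and for every
k-point x of X: every k-point of G fixing the image point φ(x) fixes x (φ restricted to the orbit of
x is injective), and the orbit of x is closed if and only if the orbit of φ(x) is closed. (The
published item also asserts that φ is surjective; that fails when φ is the inclusion of a proper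
saturated open subset, which is strongly étale, so surjectivity is not asserted here.) -/
theorem result (k : Type u) [Field k] [IsAlgClosed k] [CharZero k]
    (A : Type u) [CommRing A] [HopfAlgebra k A] [Algebra.FiniteType k A]
    (S : Type u) [CommRing S] [Algebra k S] [Algebra.FiniteType k S] [HopfRep.Comod k A S] [GLin.IsCoactAlg k A S]
    (R : Type u) [CommRing R] [Algebra k R] [Algebra.FiniteType k R] [HopfRep.Comod k A R] [GLin.IsCoactAlg k A R]
    [Algebra S R] [IsScalarTower k S R]
    (hequiv : (∀ s : S, HopfRep.Comod.coact (k := k) (A := A) (algebraMap S R s) =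
      Algebra.TensorProduct.map (IsScalarTower.toAlgHom k S R) (AlgHom.id k A) (HopfRep.Comod.coact (k := k) (A := A) s)))
    (S₀ : Type u) [CommRing S₀] [Algebra k S₀] [Algebra S₀ S] [IsScalarTower k S₀ S]
    (hS₀i : Function.Injective (algebraMap S₀ S)) (hS₀ : (IsScalarTower.toAlgHom k S₀ S).range = GLin.invariants k A S)
    (R₀ : Type u) [CommRing R₀] [Algebra k R₀] [Algebra R₀ R] [IsScalarTower k R₀ R]
    (hR₀i : Function.Injective (algebraMap R₀ R)) (hR₀ : (IsScalarTower.toAlgHom k R₀ R).range = GLin.invariants k A R)
    [Algebra S₀ R₀] [Algebra S₀ R] [IsScalarTower S₀ S R] [IsScalarTower S₀ R₀ R]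
    (het₀ : Algebra.Etale S₀ R₀)
    (hcart : Function.Bijective (Algebra.TensorProduct.productMap (IsScalarTower.toAlgHom S₀ S R) (IsScalarTower.toAlgHom S₀ R₀ R))) :
    Algebra.Etale S R ∧
      ∀ x : R →ₐ[k] k,
        (∀ g : A →ₐ[k] k, GLin.actPt k g (x.comp (IsScalarTower.toAlgHom k S R)) = x.comp (IsScalarTower.toAlgHom k S R) →
          GLin.actPt k g x = x) ∧
        (GLin.IsClosedOrbit k A x ↔ GLin.IsClosedOrbit k A (x.comp (IsScalarTower.toAlgHom k S R))) := by
  classical
  -- abbreviations
  set ι : S →ₐ[k] R := IsScalarTower.toAlgHom k S R with hι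
  have hequiv' : ∀ s : S, HopfRep.Comod.coact (k := k) (A := A) (ι s) =
      Algebra.TensorProduct.map ι (AlgHom.id k A) (HopfRep.Comod.coact (k := k) (A := A) s) :=
    fun s => hequiv s
  -- every element of `R` is a sum of products
  have hgen : ∀ r : R, ∃ t : S ⊗[S₀] R₀, Algebra.TensorProduct.productMap
      (IsScalarTower.toAlgHom S₀ S R) (IsScalarTower.toAlgHom S₀ R₀ R) t = r := hcart.2
  have hinv : ∀ r₀ : R₀, algebraMap R₀ R r₀ ∈ GLin.invariants k A R := by
    intro r₀
    rw [← hR₀]
    exact ⟨r₀, rfl⟩
  refine ⟨?_, fun x => ⟨?_, ?_⟩⟩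
  · -- étale
    haveI := het₀
    let f : S ⊗[S₀] R₀ →ₐ[S] R :=
      Algebra.TensorProduct.productLeftAlgHom (Algebra.ofId S R) (IsScalarTower.toAlgHom S₀ R₀ R)
    have hf : Function.Bijective f := by
      have : ⇑f = ⇑(Algebra.TensorProduct.productMap
          (IsScalarTower.toAlgHom S₀ S R) (IsScalarTower.toAlgHom S₀ R₀ R)) := by
        funext t
        induction t using TensorProduct.induction_on with
        | zero => simp
        | tmul a b => rfl
        | add a b ha hb => rw [map_add, map_add, ha, hb]
      rw [this]
      exact hcart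
    exact Algebra.Etale.of_equiv (AlgEquiv.ofBijective f hf)
  · -- stabilizers
    intro g hg
    have hg' : (GLin.actPt k g x).comp ι = x.comp ι := by
      rw [← Groth.Agent.Lib.Helper25.StrEtale.actPt_comp ι hequiv' g x]
      exact hg
    apply AlgHom.ext
    intro r
    obtain ⟨t, rfl⟩ := hgen r
    induction t using TensorProduct.induction_on with
    | zero => simp
    | tmul a b =>
      rw [Algebra.TensorProduct.productMap_apply_tmul, map_mul, map_mul]
      congr 1
      · exact AlgHom.congr_fun hg' a
      · exact Groth.Agent.Lib.Helper25.StrEtale.actPt_of_mem_invariants g x (hinv b)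
    | add a b ha hb => rw [map_add, map_add, map_add, ha, hb]
  · -- closed orbits
    -- the point of `R₀` below `x` and the ideal it generates in `R`
    set I : Ideal R := Ideal.map (algebraMap R₀ R) (RingHom.ker ((x : R →+* k).comp (algebraMap R₀ R)))
      with hI
    have hIker : I ≤ RingHom.ker (GLin.orbitHom k A x).toRingHom := by
      rw [hI, Ideal.map_le_iff_le_comap]
      intro r₀ hr₀
      rw [RingHom.mem_ker, RingHom.comp_apply] at hr₀
      rw [Ideal.mem_comap, RingHom.mem_ker]
      change GLin.orbitHom k A x (algebraMap R₀ R r₀) = 0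
      rw [Groth.Agent.Lib.Helper25.StrEtale.orbitHom_of_mem_invariants x (hinv r₀)]
      change algebraMap k A (x (algebraMap R₀ R r₀)) = 0
      have : x (algebraMap R₀ R r₀) = 0 := hr₀
      rw [this, map_zero]
    -- factor the orbit map through `R ⧸ I`
    let ψ : R ⧸ I →+* A := Ideal.Quotient.lift I (GLin.orbitHom k A x).toRingHom
      (fun a ha => hIker ha)
    have hψ : (GLin.orbitHom k A x).toRingHom = ψ.comp (Ideal.Quotient.mk I) := by
      ext a; rfl
    -- `S → R ⧸ I` is surjective
    have hsurj : Function.Surjective ((Ideal.Quotient.mk I).comp (ι : S →+* R)) := by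
      intro q
      obtain ⟨r, rfl⟩ := Ideal.Quotient.mk_surjective q
      obtain ⟨t, rfl⟩ := hgen r
      induction t using TensorProduct.induction_on with
      | zero => exact ⟨0, by simp⟩
      | tmul a b =>
        refine ⟨x (algebraMap R₀ R b) • a, ?_⟩
        rw [Algebra.TensorProduct.productMap_apply_tmul, RingHom.comp_apply, map_mul]
        have h1 : (Ideal.Quotient.mk I) (algebraMap R₀ R b) =
            (Ideal.Quotient.mk I) (algebraMap k R (x (algebraMap R₀ R b))) := by
          rw [Ideal.Quotient.eq, hI]
          generalize hc : x (algebraMap R₀ R b) = c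
          have : algebraMap k R c = algebraMap R₀ R (algebraMap k R₀ c) :=
            IsScalarTower.algebraMap_apply k R₀ R c
          rw [this, ← map_sub]
          apply Ideal.mem_map_of_mem
          rw [RingHom.mem_ker, RingHom.comp_apply]
          change x (algebraMap R₀ R (b - algebraMap k R₀ c)) = 0
          rw [map_sub, map_sub, ← this, AlgHom.commutes, hc]
          simp
        change (Ideal.Quotient.mk I) (ι (x (algebraMap R₀ R b) • a)) =
          (Ideal.Quotient.mk I) (algebraMap S R a) * (Ideal.Quotient.mk I) (algebraMap R₀ R b)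
        rw [h1, ← map_mul]
        congr 1
        rw [map_smul, Algebra.smul_def, mul_comm]
        rfl
      | add a b ha hb =>
        obtain ⟨a', ha'⟩ := ha
        obtain ⟨b', hb'⟩ := hb
        exact ⟨a' + b', by rw [map_add, ha', hb', map_add, map_add]⟩
    have hemb1 := PrimeSpectrum.isClosedEmbedding_comap_of_surjective _ _
      (Ideal.Quotient.mk_surjective (I := I))
    have hemb2 := PrimeSpectrum.isClosedEmbedding_comap_of_surjective _ _ hsurj
    have hx : Set.range (PrimeSpectrum.comap (GLin.orbitHom k A x).toRingHom) =
        PrimeSpectrum.comap (Ideal.Quotient.mk I) '' Set.range (PrimeSpectrum.comap ψ) := by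
      rw [hψ, ← Set.range_comp]
      rfl
    have hy : Set.range (PrimeSpectrum.comap
        (GLin.orbitHom k A (x.comp (IsScalarTower.toAlgHom k S R))).toRingHom) =
        PrimeSpectrum.comap ((Ideal.Quotient.mk I).comp (ι : S →+* R)) ''
          Set.range (PrimeSpectrum.comap ψ) := by
      rw [Groth.Agent.Lib.Helper25.StrEtale.orbitHom_comp ι hequiv' x, ← Set.range_comp]
      have : ((GLin.orbitHom k A x).comp ι).toRingHom =
          ψ.comp ((Ideal.Quotient.mk I).comp (ι : S →+* R)) := by
        ext a; rfl
      rw [this]
      rfl
    unfold GLin.IsClosedOrbit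
    rw [hx, hy, ← hemb1.isClosed_iff_image_isClosed, ← hemb2.isClosed_iff_image_isClosed]

end Groth.Agent.S19412
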