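import Groth.Statements.S19422
import Groth.Agent.Lib.Helper25Mu

set_option autoImplicit false
universe u
open TensorProduct LaurentPolynomial
open GIT

namespace Groth.Agent.S19422

/-- Over an algebraically closed field k, let the multiplicative group, whose coordinate Hopf algebra is
the Laurent polynomial ring, act diagonally on affine ι-space, ι finite: the coaction on the
polynomial ring is multiplicative and sends the coordinate function X_i to X_i ⊗ T^(r_i) for
integers r_i. Then a vector v is semistable (some invariant homogeneous polynomial of positive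
degree does not vanish at v) if and only if there are indices i and j, possibly equal, with v_i ≠ 0,
v_j ≠ 0 and r_i ≤ 0 ≤ r_j, i.e. the origin lies in the convex hull of the weights of v. (Stated for
the ambient projective space on its affine cone; the published statement is for a point of a closed
invariant subvariety, whose semistability is that of the point in the ambient space.) -/
theorem result (k : Type u) [Field k] [IsAlgClosed k]
    (ι : Type u) [Fintype ι] [HopfRep.Comod k k[T;T⁻¹] (MvPolynomial ι k)] [GLin.IsCoactAlg k k[T;T⁻¹] (MvPolynomial ι k)]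
    (r : ι → ℤ)
    (hr : ∀ i : ι, HopfRep.Comod.coact (k := k) (A := k[T;T⁻¹]) (MvPolynomial.X i : MvPolynomial ι k) =
      (MvPolynomial.X i : MvPolynomial ι k) ⊗ₜ[k] (T (r i) : k[T;T⁻¹]))
    (v : ι → k) :
    GLin.IsSemistableVec k k[T;T⁻¹] v ↔ ∃ i j : ι, v i ≠ 0 ∧ v j ≠ 0 ∧ r i ≤ 0 ∧ 0 ≤ r j := by
  open Groth.Agent.Lib.Helper25 in
  constructor
  · intro hss
    by_contra hc
    push Not at hc
    apply hss
    by_cases h0 : ∃ i, v i ≠ 0 ∧ r i ≤ 0
    · obtain ⟨i0, hi0, hri0⟩ := h0
      apply gm_isNullform_of_neg hr
      intro j hj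
      have := hc i0 j hi0 hj hri0
      omega
    · push Not at h0
      apply gm_isNullform_of_pos hr
      intro i hi
      exact h0 i hi
  · rintro ⟨i, j, hi, hj, hri, hrj⟩
    intro hnull
    obtain ⟨a, b, hab, hw⟩ : ∃ a b : ℕ, 0 < a + b ∧ (a : ℤ) * r i + (b : ℤ) * r j = 0 := by
      by_cases h0 : r i = 0
      · exact ⟨1, 0, by omega, by simp [h0]⟩
      · refine ⟨(r j).toNat, (-r i).toNat, ?_, ?_⟩
        · have : 0 < (-r i).toNat := by omega
          omega
        · rw [Int.toNat_of_nonneg hrj, Int.toNat_of_nonneg (by omega)]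
          ring
    have hF : (MvPolynomial.X i : MvPolynomial ι k) ^ a * MvPolynomial.X j ^ b ∈
        GLin.invariants k k[T;T⁻¹] (MvPolynomial ι k) := by
      rw [GLin.mem_invariants_iff, coact_X_pow_mul_X_pow hr]
      congr 1
      rw [LaurentPolynomial.T_pow, LaurentPolynomial.T_pow, ← LaurentPolynomial.T_add, hw,
        LaurentPolynomial.T_zero]
    have hh : ((MvPolynomial.X i : MvPolynomial ι k) ^ a * MvPolynomial.X j ^ b).IsHomogeneous (a + b) :=
      (MvPolynomial.isHomogeneous_X_pow i a).mul (MvPolynomial.isHomogeneous_X_pow j b)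
    have h1 := hnull _ hF (a + b) hab hh
    simp only [map_mul, map_pow, MvPolynomial.eval_X] at h1
    exact mul_ne_zero (pow_ne_zero a hi) (pow_ne_zero b hj) h1

end Groth.Agent.S19422
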