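import Groth.Statements.S19435
import Mathlib
import Groth.Agent.Lib.Helper27HypSES

set_option autoImplicit false
universe u
open Coherent

namespace Groth.Agent.S19435

open CategoryTheory CategoryTheory.Limits AlgebraicGeometry in
/-- The case d = 0. Let F be a field, k ≥ 1, P = P^1_F and X ⊆ P a hypersurface of degree k: a closed
subscheme (ideal sheaf I) whose ideal sheaf is isomorphic as an O_P-module to O_P(-k), with
coordinate ring A = F[x_0, x_1]/(q) whose degree-m piece has dimension a(m) = C(m+1, 1) - C(m-k+1,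
1) (negative upper entries read as 0); O_X(n) = O_X ⊗ O_P(n) as an O_P-module. Then H^0(P, O_X(n))
is finite-dimensional of dimension a(n) + a(k-2-n), that of an extension of the dual of the
degree-(k-2-n) piece of A by the degree-n piece (the exact sequence itself is not stated here); and
H^p(P, O_X(n)) vanishes for every p ≥ 1. -/
theorem result (F : Type u) [Field F] (k : ℕ)
    (hk : 1 ≤ k) (I : (CohB1.ProjSpace 1 F).IdealSheafData)
    (hI : Nonempty (ClSub.idealMod I ≅ Twist.twistProjSpace 1 F (-(k : ℤ)))) (n : ℤ) :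
    (Module.Finite F (Coh.HH (CohB1.ProjSpace 1 F)
        (CohB1.tensorMod (ClSub.quotMod I) (Twist.twistProjSpace 1 F n)) 0) ∧
      Module.finrank F (Coh.HH (CohB1.ProjSpace 1 F)
        (CohB1.tensorMod (ClSub.quotMod I) (Twist.twistProjSpace 1 F n)) 0) =
        (Nat.choose (n + 1).toNat 1 - Nat.choose (n - (k : ℤ) + 1).toNat 1) +
        (Nat.choose ((k : ℤ) - 2 - n + 1).toNat 1 - Nat.choose ((k : ℤ) - 2 - n - (k : ℤ) + 1).toNat 1)) ∧
    (∀ p : ℕ, 1 ≤ p →
      Subsingleton (Coh.HH (CohB1.ProjSpace 1 F)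
        (CohB1.tensorMod (ClSub.quotMod I) (Twist.twistProjSpace 1 F n)) p)) := by
  open Groth.Agent.Lib.Helper27HypSES Groth.Agent.Lib.Helper27LesDim in
  obtain ⟨e⟩ := hI
  have hS := tS_shortExact F 1 I n
  obtain ⟨⟨f10, r10⟩, ⟨f1N, r1N⟩⟩ := finite_finrank_X₁ F 1 I k e le_rfl n
  obtain ⟨⟨f20, r20⟩, ⟨f2N, r2N⟩⟩ := finite_finrank_X₂ F 1 I le_rfl n
  refine ⟨?_, fun p hp => hyp_vanish F 1 I k e n p (by omega) (by omega)⟩
  obtain ⟨hfin, hrk⟩ := finrank_X₃ F (tS F 1 I n) hS 0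
    (injective_HHlin_f_zero F _ hS) (surjective_f_top F 1 I k e n) f20 f1N
  refine ⟨hfin, ?_⟩
  rw [tS_X₃] at hrk
  have r1N' : Module.finrank F (Coh.HH (CohB1.ProjSpace 1 F) (tS F 1 I n).X₁ (0 + 1)) =
      Nat.choose (-(n - (k : ℤ)) - 1).toNat 1 := r1N
  have r2N' : Module.finrank F (Coh.HH (CohB1.ProjSpace 1 F) (tS F 1 I n).X₂ (0 + 1)) =
      Nat.choose (-n - 1).toNat 1 := r2N
  rw [hrk, r20, r10, r1N', r2N']
  have h1 : (k : ℤ) - 2 - n + 1 = -(n - (k : ℤ)) - 1 := by ring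
  have h2 : (k : ℤ) - 2 - n - (k : ℤ) + 1 = -n - 1 := by ring
  rw [h1, h2]
  push_cast
  rfl

end Groth.Agent.S19435
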