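import Groth.Statements.S19436
import Mathlib.RingTheory.Nakayama
import Mathlib.LinearAlgebra.FiniteDimensional.Lemmas

set_option autoImplicit false
universe u
open CAlg

namespace Groth.Agent.S19436

/-- For a Noetherian local commutative algebra R over a field k, with maximal ideal M, and an ideal I of
R whose quotient R/I is finite-dimensional over k of dimension n, the power M^n lies in I. -/
theorem result (k : Type u) [Field k] (R : Type u) [CommRing R]
    [Algebra k R] [IsNoetherianRing R] [IsLocalRing R] (I : Ideal R) [Module.Finite k (R ⧸ I)] (n : ℕ)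
    (hn : Module.finrank k (R ⧸ I) = n) : IsLocalRing.maximalIdeal R ^ n ≤ I := by
  classical
  set M := IsLocalRing.maximalIdeal R with hM
  let Nj : ℕ → Submodule R (R ⧸ I) := fun j => M ^ j • (⊤ : Submodule R (R ⧸ I))
  have hanti : ∀ j, Nj (j + 1) ≤ Nj j := by
    intro j
    change M ^ (j + 1) • (⊤ : Submodule R (R ⧸ I)) ≤ M ^ j • ⊤
    exact Submodule.smul_mono_left (Ideal.pow_le_pow_right (Nat.le_succ j))
  have hsucc : ∀ j, Nj (j + 1) = M • Nj j := by
    intro j
    change M ^ (j + 1) • (⊤ : Submodule R (R ⧸ I)) = M • (M ^ j • ⊤)
    rw [pow_succ', Submodule.mul_smul]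
  have hnak : ∀ j, Nj j = Nj (j + 1) → Nj j = ⊥ := by
    intro j h
    apply Submodule.eq_bot_of_le_smul_of_le_jacobson_bot M (Nj j) (IsNoetherian.noetherian _)
    · rw [← hsucc, ← h]
    · exact IsLocalRing.maximalIdeal_le_jacobson _
  have key : ∀ j, Nj j = ⊥ ∨ Module.finrank k ((Nj j).restrictScalars k) + j ≤ n := by
    intro j
    induction j with
    | zero =>
      right
      have : Nj 0 = ⊤ := by
        change M ^ 0 • (⊤ : Submodule R (R ⧸ I)) = ⊤
        rw [pow_zero, Ideal.one_eq_top, Submodule.top_smul]
      rw [this, Submodule.restrictScalars_top, finrank_top, hn]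
      omega
    | succ j ih =>
      rcases ih with ih | ih
      · left
        exact le_bot_iff.mp (ih ▸ hanti j)
      · by_cases heq : Nj j = Nj (j + 1)
        · left
          rw [← heq]
          exact hnak j heq
        · right
          have hlt : (Nj (j + 1)).restrictScalars k < (Nj j).restrictScalars k := by
            refine lt_of_le_of_ne (fun x hx => hanti j hx) ?_
            intro h
            apply heq
            apply le_antisymm
            · intro x hx
              have : x ∈ (Nj j).restrictScalars k := hx
              rw [← h] at this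
              exact this
            · exact hanti j
          have := Submodule.finrank_lt_finrank_of_lt hlt
          omega
  have hbot : Nj n = ⊥ := by
    rcases key n with h | h
    · exact h
    · have h0 : Module.finrank k ((Nj n).restrictScalars k) = 0 := by omega
      have h1 : (Nj n).restrictScalars k = ⊥ := Submodule.finrank_eq_zero.mp h0
      rw [eq_bot_iff]
      intro x hx
      have : x ∈ (Nj n).restrictScalars k := hx
      rw [h1] at this
      exact this
  intro x hx
  have h1 : x • (1 : R ⧸ I) ∈ Nj n := Submodule.smul_mem_smul hx Submodule.mem_top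
  rw [hbot, Submodule.mem_bot] at h1
  have h2 : Ideal.Quotient.mk I x = 0 := by
    rw [← h1, Algebra.smul_def, mul_one]
    rfl
  exact Ideal.Quotient.eq_zero_iff_mem.mp h2

end Groth.Agent.S19436
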