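import Groth.Statements.S19438
import Mathlib

set_option autoImplicit false
universe u
open CAlg

namespace Groth.Agent.S19438

/-- First assertion: let A be a Noetherian local commutative algebra over a field k with maximal ideal
M, residue field k (the map from k to A/M is onto) and embedding dimension dim M/M^2 at least 2, and
let I be a proper ideal with A/I finite-dimensional over k. If A/I is generated as a k-algebra by
one element, then some element of I does not lie in M^2; that is, the finite closed subscheme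
defined by I lies on a smooth hypersurface germ (it is curvilinear). (The published statement is for
the local ring of a smooth surface at a closed point; only a Noetherian local algebra with residue
field k and embedding dimension at least 2 is assumed here, which is what the published argument
uses.) -/
theorem result (k : Type u) [Field k]
    (A : Type u) [CommRing A] [Algebra k A] [IsNoetherianRing A] [IsLocalRing A]
    (hres : Function.Surjective (algebraMap k (IsLocalRing.ResidueField A)))
    (hemb : 2 ≤ Module.finrank (IsLocalRing.ResidueField A) (IsLocalRing.CotangentSpace A))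
    (I : Ideal A) (hI : I ≠ ⊤) [Module.Finite k (A ⧸ I)]
    (f : A ⧸ I) (hf : Algebra.adjoin k {f} = ⊤) :
    ∃ g ∈ I, g ∉ IsLocalRing.maximalIdeal A ^ 2 := by
  classical
  by_contra hno
  push Not at hno
  -- I ≤ M²
  set M := IsLocalRing.maximalIdeal A with hM
  set J : Ideal A := M ^ 2 with hJ
  have hIJ : I ≤ J := fun g hg => hno g hg
  have hJM : J ≤ M := Ideal.pow_le_self two_ne_zero
  -- lift f
  obtain ⟨F, rfl⟩ := Ideal.Quotient.mk_surjective f
  obtain ⟨c, hc⟩ := hres (IsLocalRing.residue A F)
  let m : A := F - algebraMap k A c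
  have hmM : m ∈ M := by
    rw [hM, ← IsLocalRing.residue_eq_zero_iff]
    show IsLocalRing.residue A (F - algebraMap k A c) = 0
    rw [map_sub, ← hc]
    have : IsLocalRing.residue A (algebraMap k A c) = algebraMap k (IsLocalRing.ResidueField A) c := rfl
    rw [this, sub_self]
  let mkJ : A →+* A ⧸ J := Ideal.Quotient.mk J
  let μ : A ⧸ J := mkJ m
  have hμ2 : μ * μ = 0 := by
    show mkJ m * mkJ m = 0
    rw [← map_mul]
    apply Ideal.Quotient.eq_zero_iff_mem.mpr
    rw [hJ, pow_two]
    exact Ideal.mul_mem_mul hmM hmM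
  have hmkJk : ∀ r : k, mkJ (algebraMap k A r) = algebraMap k (A ⧸ J) r := fun r => rfl
  -- every element is a + b μ mod J
  have hP : ∀ q : A ⧸ I, ∃ z : A, Ideal.Quotient.mk I z = q ∧
      ∃ a b : k, mkJ z = algebraMap k (A ⧸ J) a + algebraMap k (A ⧸ J) b * μ := by
    intro q
    have hq : q ∈ Algebra.adjoin k {Ideal.Quotient.mk I F} := by rw [hf]; trivial
    induction hq using Algebra.adjoin_induction with
    | mem x hx =>
      rw [Set.mem_singleton_iff] at hx
      subst hx
      refine ⟨F, rfl, c, 1, ?_⟩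
      rw [map_one, one_mul, ← hmkJk, ← map_add]
      show mkJ F = mkJ (algebraMap k A c + (F - algebraMap k A c))
      congr 1
      ring
    | algebraMap r =>
      exact ⟨algebraMap k A r, rfl, r, 0, by rw [map_zero, zero_mul, add_zero, hmkJk]⟩
    | add x y _ _ hx hy =>
      obtain ⟨z1, rfl, a1, b1, h1⟩ := hx
      obtain ⟨z2, rfl, a2, b2, h2⟩ := hy
      refine ⟨z1 + z2, map_add _ _ _, a1 + a2, b1 + b2, ?_⟩
      rw [map_add, h1, h2, map_add, map_add]
      ring
    | mul x y _ _ hx hy =>
      obtain ⟨z1, rfl, a1, b1, h1⟩ := hx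
      obtain ⟨z2, rfl, a2, b2, h2⟩ := hy
      refine ⟨z1 * z2, map_mul _ _ _, a1 * a2, a1 * b2 + a2 * b1, ?_⟩
      rw [map_mul, h1, h2, map_mul, map_add, map_mul, map_mul]
      have : (algebraMap k (A ⧸ J) a1 + algebraMap k (A ⧸ J) b1 * μ) *
          (algebraMap k (A ⧸ J) a2 + algebraMap k (A ⧸ J) b2 * μ) =
          algebraMap k (A ⧸ J) a1 * algebraMap k (A ⧸ J) a2 +
          (algebraMap k (A ⧸ J) a1 * algebraMap k (A ⧸ J) b2 +
            algebraMap k (A ⧸ J) a2 * algebraMap k (A ⧸ J) b1) * μ +
          algebraMap k (A ⧸ J) b1 * algebraMap k (A ⧸ J) b2 * (μ * μ) := by ring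
      rw [this, hμ2, mul_zero, add_zero]
  have hP' : ∀ z : A, ∃ a b : k, mkJ z = algebraMap k (A ⧸ J) a + algebraMap k (A ⧸ J) b * μ := by
    intro z
    obtain ⟨z', hz', a, b, hab⟩ := hP (Ideal.Quotient.mk I z)
    refine ⟨a, b, ?_⟩
    rw [← hab]
    apply Ideal.Quotient.eq.mpr
    exact hIJ (Ideal.Quotient.eq.mp hz'.symm)
  -- for x ∈ M: x ≡ b m mod J
  let ρ : A ⧸ J →+* IsLocalRing.ResidueField A := Ideal.Quotient.factor hJM
  have hρmk : ∀ z : A, ρ (mkJ z) = IsLocalRing.residue A z := fun z => rfl
  have hρk : ∀ r : k, ρ (algebraMap k (A ⧸ J) r) = algebraMap k (IsLocalRing.ResidueField A) r :=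
    fun r => rfl
  have hxM : ∀ x : A, x ∈ M → ∃ b : k, x - algebraMap k A b * m ∈ J := by
    intro x hx
    obtain ⟨a, b, hab⟩ := hP' x
    have h1 := congrArg ρ hab
    rw [hρmk, map_add, map_mul, hρk, hρk, hρmk,
      (IsLocalRing.residue_eq_zero_iff x).mpr hx, (IsLocalRing.residue_eq_zero_iff m).mpr hmM,
      mul_zero, add_zero] at h1
    have ha : a = 0 := by
      apply (algebraMap k (IsLocalRing.ResidueField A)).injective
      rw [map_zero]
      exact h1.symm
    refine ⟨b, ?_⟩
    rw [ha, map_zero, zero_add] at hab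
    apply Ideal.Quotient.eq.mp
    rw [hab, map_mul, hmkJk]
  -- two independent cotangent vectors
  have hfr : 1 < Module.finrank (IsLocalRing.ResidueField A) (IsLocalRing.CotangentSpace A) := hemb
  haveI : Nontrivial (IsLocalRing.CotangentSpace A) := Module.nontrivial_of_finrank_pos (R := IsLocalRing.ResidueField A) (by omega)
  obtain ⟨v, hv⟩ := exists_ne (0 : IsLocalRing.CotangentSpace A)
  obtain ⟨w, hvw⟩ := exists_linearIndependent_pair_of_one_lt_finrank hfr hv
  obtain ⟨⟨x, hx⟩, rfl⟩ := Ideal.toCotangent_surjective _ v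
  obtain ⟨⟨y, hy⟩, rfl⟩ := Ideal.toCotangent_surjective _ w
  obtain ⟨b, hb⟩ := hxM x hx
  obtain ⟨b', hb'⟩ := hxM y hy
  let t : IsLocalRing.CotangentSpace A := Ideal.toCotangent _ ⟨m, hmM⟩
  have hcot : ∀ (z : A) (hz : z ∈ M) (e : k), z - algebraMap k A e * m ∈ J →
      Ideal.toCotangent M ⟨z, hz⟩ = (algebraMap k (IsLocalRing.ResidueField A) e) • t := by
    intro z hz e he
    have h1 : Ideal.toCotangent M ⟨z, hz⟩ =
        Ideal.toCotangent M ⟨algebraMap k A e * m, Ideal.mul_mem_left _ _ hmM⟩ := by
      rw [Ideal.toCotangent_eq]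
      exact he
    rw [h1]
    have h2 : (⟨algebraMap k A e * m, Ideal.mul_mem_left _ _ hmM⟩ : M) =
        (algebraMap k A e) • (⟨m, hmM⟩ : M) := rfl
    rw [h2, map_smul]
    have h3 : (algebraMap k (IsLocalRing.ResidueField A) e) =
        algebraMap A (IsLocalRing.ResidueField A) (algebraMap k A e) := rfl
    rw [h3]
    show (algebraMap k A) e • t = _
    rw [algebraMap_smul (IsLocalRing.ResidueField A) (algebraMap k A e) t]
  rw [LinearIndependent.pair_iff] at hvw
  have hv' := hcot x hx b hb
  have hw' := hcot y hy b' hb'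
  have hrel := hvw (algebraMap k (IsLocalRing.ResidueField A) b')
    (-(algebraMap k (IsLocalRing.ResidueField A) b)) (by
      rw [hv', hw', smul_smul, smul_smul, neg_mul, neg_smul, mul_comm]
      exact add_neg_cancel _)
  have hb0 : algebraMap k (IsLocalRing.ResidueField A) b = 0 := neg_eq_zero.mp hrel.2
  apply hv
  rw [hv', hb0, zero_smul]

end Groth.Agent.S19438
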