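import Groth.Statements.S19439
-- import your own Groth.Agent.* helpers here

set_option autoImplicit false
universe u
open CAlg

namespace Groth.Agent.S19439

section aux
variable {k : Type u} [Field k] {N : ℕ} (I : Ideal (MvPolynomial (Fin N) k))

/-- image of polynomials of total degree at most `j` in the quotient -/
noncomputable def Vsub (j : ℕ) : Submodule k (MvPolynomial (Fin N) k ⧸ I) :=
  Submodule.map (Ideal.Quotient.mkₐ k I).toLinearMap (MvPolynomial.restrictTotalDegree (Fin N) k j)

theorem Vsub_mono {i j : ℕ} (h : i ≤ j) : Vsub I i ≤ Vsub I j := by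
  apply Submodule.map_mono
  intro p hp
  rw [MvPolynomial.mem_restrictTotalDegree] at hp ⊢
  exact hp.trans h

theorem mem_Vsub {j : ℕ} {x : MvPolynomial (Fin N) k ⧸ I} :
    x ∈ Vsub I j ↔ ∃ q : MvPolynomial (Fin N) k, q.totalDegree ≤ j ∧ Ideal.Quotient.mk I q = x := by
  unfold Vsub
  rw [Submodule.mem_map]
  constructor
  · rintro ⟨q, hq, rfl⟩
    exact ⟨q, (MvPolynomial.mem_restrictTotalDegree _ _ _).mp hq, rfl⟩
  · rintro ⟨q, hq, rfl⟩
    exact ⟨q, (MvPolynomial.mem_restrictTotalDegree _ _ _).mpr hq, rfl⟩

theorem Vsub_eq_top_of_eq_succ {j : ℕ} (h : Vsub I j = Vsub I (j + 1)) : Vsub I j = ⊤ := by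
  rw [eq_top_iff]
  intro x hx
  clear hx
  obtain ⟨p, rfl⟩ := Ideal.Quotient.mk_surjective x
  induction p using MvPolynomial.induction_on with
  | C a =>
    rw [mem_Vsub]
    exact ⟨MvPolynomial.C a, by simp, rfl⟩
  | add p q hp hq =>
    rw [map_add]
    exact Submodule.add_mem _ hp hq
  | mul_X p i hp =>
    rw [mem_Vsub] at hp
    obtain ⟨q, hq, hqp⟩ := hp
    rw [h, mem_Vsub]
    refine ⟨q * MvPolynomial.X i, ?_, ?_⟩
    · refine (MvPolynomial.totalDegree_mul _ _).trans ?_
      have : (MvPolynomial.X i : MvPolynomial (Fin N) k).totalDegree = 1 :=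
        MvPolynomial.totalDegree_X i
      omega
    · rw [map_mul, map_mul, hqp]

theorem Vsub_top_or_le [Module.Finite k (MvPolynomial (Fin N) k ⧸ I)] (j : ℕ) :
    Vsub I j = ⊤ ∨ j + 1 ≤ Module.finrank k (Vsub I j) := by
  induction j with
  | zero =>
    by_cases h1 : (Ideal.Quotient.mk I (1 : MvPolynomial (Fin N) k)) = 0
    · left
      rw [eq_top_iff]
      intro x _
      have : x = 0 := by
        have hx : x = x * Ideal.Quotient.mk I (1 : MvPolynomial (Fin N) k) := by
          rw [map_one, mul_one]
        rw [hx, h1, mul_zero]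
      rw [this]
      exact Submodule.zero_mem _
    · right
      have hne : Vsub I 0 ≠ ⊥ := by
        intro hbot
        apply h1
        have : Ideal.Quotient.mk I (1 : MvPolynomial (Fin N) k) ∈ Vsub I 0 := by
          rw [mem_Vsub]
          exact ⟨1, by simp, rfl⟩
        rw [hbot] at this
        exact (Submodule.mem_bot k).mp this
      have : 0 < Module.finrank k (Vsub I 0) := by
        rw [Module.finrank_pos_iff]
        exact (Submodule.nontrivial_iff_ne_bot).mpr hne
      omega
  | succ j ih =>
    rcases ih with ih | ih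
    · left
      exact top_le_iff.mp (ih ▸ Vsub_mono I (Nat.le_succ j))
    · by_cases heq : Vsub I j = Vsub I (j + 1)
      · left
        rw [← heq]
        exact Vsub_eq_top_of_eq_succ I heq
      · right
        have hlt : Vsub I j < Vsub I (j + 1) := lt_of_le_of_ne (Vsub_mono I (Nat.le_succ j)) heq
        have := Submodule.finrank_lt_finrank_of_lt hlt
        omega

end aux

/-- Affine form: for all n and N there is an integer d, that depends only on n and N, such that for
every algebraically closed field k and every ideal I of the polynomial ring in N variables over k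
whose quotient has finite dimension n over k, the polynomials of total degree at most d map onto the
quotient. -/
theorem result (n N : ℕ) :
    ∃ d : ℕ, ∀ (k : Type u) [Field k] [IsAlgClosed k] (I : Ideal (MvPolynomial (Fin N) k))
      [Module.Finite k (MvPolynomial (Fin N) k ⧸ I)],
      Module.finrank k (MvPolynomial (Fin N) k ⧸ I) = n →
      Submodule.map (Ideal.Quotient.mkₐ k I).toLinearMap (MvPolynomial.restrictTotalDegree (Fin N) k d) = ⊤ := by
  refine ⟨n, ?_⟩
  intro k _ _ I _ hn
  rcases Vsub_top_or_le I n with h | h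
  · exact h
  · exfalso
    have := Submodule.finrank_le (Vsub I n)
    omega

end Groth.Agent.S19439
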