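import Groth.Statements.S19443
import Mathlib

set_option autoImplicit false
universe u
open LinAlg

namespace Groth.Agent.S19443

/-- Algebraic form: let G be a finite group with order invertible in the field k, ρ a linear
representation of G on a k-vector space V, and ω a nondegenerate bilinear form on V invariant under
G. Then ω restricted to the fixed subspace V^G is nondegenerate (for a finite group of symplectic
automorphisms, the fixed subspace is a symplectic subspace). -/
theorem result (k : Type u) [Field k]
    (G : Type u) [Group G] [Finite G] (hG : (Nat.card G : k) ≠ 0)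
    (V : Type u) [AddCommGroup V] [Module k V] (ρ : Representation k G V)
    (ω : LinearMap.BilinForm k V) (hω : ω.Nondegenerate)
    (hinv : ∀ (g : G) (v w : V), ω (ρ g v) (ρ g w) = ω v w) :
    (ω.restrict ρ.invariants).Nondegenerate := by
  classical
  haveI : Fintype G := Fintype.ofFinite G
  have hcard : ((Fintype.card G : ℕ) : k) ≠ 0 := by rwa [← Nat.card_eq_fintype_card]
  have havg : ∀ u : V, (∑ g : G, ρ g u) ∈ ρ.invariants := by
    intro u
    rw [Representation.mem_invariants]
    intro h
    rw [map_sum]
    refine Fintype.sum_equiv (Equiv.mulLeft h) _ _ (fun g => ?_)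
    simp [map_mul]
  have hinvL : ∀ (v : V), v ∈ ρ.invariants → ∀ (g : G) (u : V), ω v (ρ g u) = ω v u := by
    intro v hv g u
    have h1 := hinv g v u
    rw [(Representation.mem_invariants ρ v).1 hv g] at h1
    exact h1
  have hinvR : ∀ (v : V), v ∈ ρ.invariants → ∀ (g : G) (u : V), ω (ρ g u) v = ω u v := by
    intro v hv g u
    have h1 := hinv g u v
    rw [(Representation.mem_invariants ρ v).1 hv g] at h1
    exact h1
  refine ⟨?_, ?_⟩
  · rintro ⟨v, hv⟩ hzero
    have hv0 : v = 0 := by
      apply hω.1 v
      intro u
      have h2 : ω v (∑ g : G, ρ g u) = 0 := hzero ⟨_, havg u⟩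
      rw [map_sum] at h2
      simp only [hinvL v hv] at h2
      rw [Finset.sum_const, Finset.card_univ, ← Nat.cast_smul_eq_nsmul k, smul_eq_mul] at h2
      exact (mul_eq_zero.1 h2).resolve_left hcard
    exact Subtype.ext hv0
  · rintro ⟨v, hv⟩ hzero
    have hv0 : v = 0 := by
      apply hω.2 v
      intro u
      have h2 : ω (∑ g : G, ρ g u) v = 0 := hzero ⟨_, havg u⟩
      rw [map_sum, LinearMap.sum_apply] at h2
      simp only [hinvR v hv] at h2
      rw [Finset.sum_const, Finset.card_univ, ← Nat.cast_smul_eq_nsmul k, smul_eq_mul] at h2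
      exact (mul_eq_zero.1 h2).resolve_left hcard
    exact Subtype.ext hv0

end Groth.Agent.S19443
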