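import Groth.Statements.S19447
import Groth.Agent.Lib.Helper25CSTFormalA
import Groth.Agent.Lib.Helper25CSTFormalE
import Groth.Agent.Lib.Helper19PsDim
import Groth.Agent.S16708

set_option autoImplicit false
universe u
open ConstAct

namespace Groth.Agent.S19447

open Groth.Agent.Lib.Helper25.CSTF Groth.Agent.Lib.Helper19 in
/-- the constant coefficient as an algebra map. -/
noncomputable def cc (k : Type u) [Field k] (n : ℕ) : MvPowerSeries (Fin n) k →ₐ[k] k :=
  { (MvPowerSeries.constantCoeff : MvPowerSeries (Fin n) k →+* k) with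
    commutes' := fun c => by
      change MvPowerSeries.constantCoeff (algebraMap k (MvPowerSeries (Fin n) k) c) = c
      rw [MvPowerSeries.algebraMap_apply]
      simp }

theorem cc_apply (k : Type u) [Field k] (n : ℕ) (f : MvPowerSeries (Fin n) k) :
    cc k n f = MvPowerSeries.constantCoeff f := rfl

theorem ker_cc (k : Type u) [Field k] (n : ℕ) :
    RingHom.ker (cc k n) = IsLocalRing.maximalIdeal (MvPowerSeries (Fin n) k) := by
  have hmax : (RingHom.ker (cc k n : MvPowerSeries (Fin n) k →+* k)).IsMaximal :=
    RingHom.ker_isMaximal_of_surjective _ (fun c => ⟨algebraMap k _ c, by simp⟩)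
  exact IsLocalRing.eq_maximalIdeal hmax

open Groth.Agent.Lib.Helper19 in
/-- first order Taylor expansion modulo `m²`. -/
theorem taylor (k : Type u) [Field k] (n : ℕ) (f : MvPowerSeries (Fin n) k) :
    f - MvPowerSeries.C (MvPowerSeries.constantCoeff f) -
      ∑ i, MvPowerSeries.C (MvPowerSeries.coeff (Finsupp.single i 1) f) * MvPowerSeries.X i ∈
      RingHom.ker (cc k n) ^ 2 := by
  have h1 := sub_linear_mem_coeffIdeal_two (σ := Fin n) (⊥ : Ideal k) f
  rw [coeffIdeal_eq_pow] at h1
  have h2 : IsLocalRing.maximalIdeal (MvPowerSeries (Fin n) k) =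
      coeffIdeal (Fin n) (⊥ : Ideal k) 1 := by
    rw [maximalIdeal_eq_coeffIdeal, IsLocalRing.maximalIdeal_eq_bot]
  rw [ker_cc, h2]
  exact h1

/-- the spanning family `1, X_i` of `R / m²`. -/
noncomputable def vfam (k : Type u) [Field k] (n : ℕ) :
    Option (Fin n) → MvPowerSeries (Fin n) k ⧸ RingHom.ker (cc k n) ^ 2 :=
  fun o => o.elim (Ideal.Quotient.mk _ 1) (fun i => Ideal.Quotient.mk _ (MvPowerSeries.X i))

theorem mk_eq_sum (k : Type u) [Field k] (n : ℕ) (f : MvPowerSeries (Fin n) k) :
    (Ideal.Quotient.mk (RingHom.ker (cc k n) ^ 2) f) =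
      MvPowerSeries.constantCoeff f • Ideal.Quotient.mk _ 1 +
        ∑ i, MvPowerSeries.coeff (Finsupp.single i 1) f •
          Ideal.Quotient.mk (RingHom.ker (cc k n) ^ 2) (MvPowerSeries.X i) := by
  have h := taylor k n f
  rw [← Ideal.Quotient.eq_zero_iff_mem, map_sub, map_sub, sub_sub, sub_eq_zero] at h
  rw [h, map_sum]
  congr 1
  · have : MvPowerSeries.C (σ := Fin n) (MvPowerSeries.constantCoeff f) =
        MvPowerSeries.constantCoeff f • (1 : MvPowerSeries (Fin n) k) := by
      rw [MvPowerSeries.smul_eq_C_mul, mul_one]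
    rw [this]
    rfl
  · apply Finset.sum_congr rfl
    intro i _
    rw [← MvPowerSeries.smul_eq_C_mul]
    rfl

instance finite_quot (k : Type u) [Field k] (n : ℕ) :
    Module.Finite k (MvPowerSeries (Fin n) k ⧸ RingHom.ker (cc k n) ^ 2) := by
  classical
  apply Module.Finite.of_surjective (Fintype.linearCombination k (vfam k n))
  intro v
  obtain ⟨f, rfl⟩ := Ideal.Quotient.mk_surjective v
  refine ⟨fun o => o.elim (MvPowerSeries.constantCoeff f)
    (fun i => MvPowerSeries.coeff (Finsupp.single i 1) f), ?_⟩
  rw [Fintype.linearCombination_apply, Fintype.sum_option, mk_eq_sum]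
  rfl

theorem finrank_cotSpace_le (k : Type u) [Field k] (n : ℕ) :
    Module.finrank k ↥(GLin.cotSpace k (MvPowerSeries (Fin n) k) (cc k n)) ≤ n := by
  classical
  have h1 : GLin.cotSpace k (MvPowerSeries (Fin n) k) (cc k n) ≤
      Submodule.span k (Set.range (fun i : Fin n =>
        Ideal.Quotient.mk (RingHom.ker (cc k n) ^ 2) (MvPowerSeries.X i))) := by
    unfold GLin.cotSpace
    rintro _ ⟨f, hf, rfl⟩
    change Ideal.Quotient.mk (RingHom.ker (cc k n) ^ 2) f ∈ _
    rw [mk_eq_sum]
    have hc : MvPowerSeries.constantCoeff f = 0 := RingHom.mem_ker.mp hf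
    rw [hc, zero_smul, zero_add]
    exact Submodule.sum_mem _ (fun i _ => Submodule.smul_mem _ _ (Submodule.subset_span ⟨i, rfl⟩))
  refine (Submodule.finrank_mono h1).trans ?_
  refine (finrank_range_le_card _).trans ?_
  simp

theorem cc_smul (k : Type u) [Field k] (n : ℕ) (G : Type u) [Group G]
    [MulSemiringAction G (MvPowerSeries (Fin n) k)] [SMulCommClass G k (MvPowerSeries (Fin n) k)]
    (g : G) (a : MvPowerSeries (Fin n) k) : cc k n (g • a) = cc k n a := by
  have hmem : ∀ b ∈ RingHom.ker (cc k n), g • b ∈ RingHom.ker (cc k n) := by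
    intro b hb
    rw [ker_cc, IsLocalRing.mem_maximalIdeal, mem_nonunits_iff] at hb ⊢
    intro hu
    apply hb
    have := hu.map (MulSemiringAction.toRingHom G (MvPowerSeries (Fin n) k) g⁻¹)
    rwa [MulSemiringAction.toRingHom_apply, inv_smul_smul] at this
  have h2 : a - algebraMap k _ (cc k n a) ∈ RingHom.ker (cc k n) := by
    rw [RingHom.mem_ker, map_sub, AlgHom.commutes]
    simp
  have h3 := RingHom.mem_ker.mp (hmem _ h2)
  rw [smul_sub, smul_algebraMap, map_sub, AlgHom.commutes, sub_eq_zero] at h3
  rw [h3]
  rfl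

theorem transport {k : Type u} [Field k] {R : Type u} [CommRing R] [Algebra k R]
    {S T : Subalgebra k R} (h : S = T) (hS : Module.Free S R ∧ IsRegularLocalRing S) :
    Module.Free T R ∧ IsRegularLocalRing T := by
  subst h
  exact hS

/-- Let k be an algebraically closed field, A the power series ring in n variables over k with maximal
ideal M, and G a finite group of order invertible in k acting faithfully on A by k-algebra
automorphisms, A being finite over the ring of invariants A^G. Say g is a pseudo-reflection or acts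
trivially on the cotangent space when A modulo M^2 and the elements g·a − a has dimension at least n
over k. If G is generated by such elements, then A is flat over A^G and A^G is a regular local ring:
generation by pseudo-reflections implies the other two conditions of the published criterion (only
this sufficiency half is stated; the converse implication is not part of this statement). -/
theorem result (k : Type u) [Field k]
    [IsAlgClosed k] (n : ℕ) (G : Type u) [Group G] [Finite G] [MulSemiringAction G (MvPowerSeries (Fin n) k)]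
    [SMulCommClass G k (MvPowerSeries (Fin n) k)] [FaithfulSMul G (MvPowerSeries (Fin n) k)]
    (hG : (Nat.card G : k) ≠ 0)
    [Module.Finite (ConstAct.inv k (MvPowerSeries (Fin n) k) G) (MvPowerSeries (Fin n) k)]
    (hgen : Subgroup.closure {g : G | n ≤ Module.finrank k (MvPowerSeries (Fin n) k ⧸
        (Ideal.span {x : MvPowerSeries (Fin n) k | ∃ a, x = g • a - a} ⊔
          IsLocalRing.maximalIdeal (MvPowerSeries (Fin n) k) ^ 2))} = ⊤) :
    Module.Flat (ConstAct.inv k (MvPowerSeries (Fin n) k) G) (MvPowerSeries (Fin n) k) ∧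
      IsRegularLocalRing (ConstAct.inv k (MvPowerSeries (Fin n) k) G) := by
  open Groth.Agent.Lib.Helper25.CSTF Groth.Agent.Lib.Helper25.CSTL in
  classical
  haveI : Fintype G := Fintype.ofFinite G
  letI cR : HopfRep.Comod k (ConstGrp.F k G) (MvPowerSeries (Fin n) k) :=
    ConstAct.comod k (MvPowerSeries (Fin n) k) G
  haveI hco : GLin.IsCoactAlg k (ConstGrp.F k G) (MvPowerSeries (Fin n) k) :=
    ConstAct.isCoactAlg k (MvPowerSeries (Fin n) k) G
  haveI : IsDomain (MvPowerSeries (Fin n) k) :=
    Groth.Agent.Lib.Helper5.isDomain_of_isRegularLocalRing _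
  have hx : ∀ (g : G) (a : MvPowerSeries (Fin n) k), cc k n (g • a) = cc k n a :=
    fun g a => cc_smul k n G g a
  have hfix := isFixedPt_of_invariant (cc k n) hx
  have hlin : HopfRep.IsLinearlyReductive k (ConstGrp.F k G) := by
    apply Groth.Agent.S16708.result
    rwa [← Nat.card_eq_fintype_card]
  have hsub : ∀ (I : Ideal (ConstGrp.F k G)) [I.IsHopfIdeal k],
      HopfRep.IsLinearlyReductive k (ConstGrp.F k G ⧸ I) :=
    fun I _ => isLinearlyReductive_quotient I hG
  have hgen' : Subgroup.closure {g : G |
      Module.finrank k ↥(GLin.cotSpace k (MvPowerSeries (Fin n) k) (cc k n)) ≤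
      Module.finrank k (MvPowerSeries (Fin n) k ⧸
        (moveIdeal g ⊔ RingHom.ker (cc k n) ^ 2))} = ⊤ := by
    rw [eq_top_iff, ← hgen]
    apply Subgroup.closure_mono
    intro g hg
    rw [Set.mem_setOf_eq] at hg ⊢
    rw [← ker_cc k n] at hg
    exact (finrank_cotSpace_le k n).trans hg
  have hps := isGenByPseudoReflAt_of_closure hx hG hgen'
  haveI hfin : Module.Finite ↥(GLin.invariants k (ConstGrp.F k G) (MvPowerSeries (Fin n) k))
      (MvPowerSeries (Fin n) k) := by
    rw [invariants_eq]
    infer_instance
  have hmain := isRegularLocalRing_invariants hlin hsub (cc k n) hfix hps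
  have hmain' := transport invariants_eq hmain
  exact ⟨@Module.Flat.of_free _ _ _ _ _ hmain'.1, hmain'.2⟩

end Groth.Agent.S19447
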