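import Groth.Statements.S19448
import Mathlib

set_option autoImplicit false
universe u
open CAlg

namespace Groth.Agent.S19448

/-- Let k be a field, A a Noetherian local k-algebra with maximal ideal M and residue field k, and G a
finite group with |G| ≠ 0 in k acting on A by k-algebra automorphisms. An element of G which acts
trivially on M/M^2 acts trivially on A; in other words the stabilizer acts faithfully on the
cotangent space whenever it acts faithfully on the local ring. -/
theorem result (k : Type u) [Field k] (A : Type u) [CommRing A]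
    [Algebra k A] [IsLocalRing A] [IsNoetherianRing A]
    (hres : Function.Surjective (algebraMap k (IsLocalRing.ResidueField A)))
    (G : Type u) [Group G] [Finite G] [MulSemiringAction G A] [SMulCommClass G k A]
    (hG : (Nat.card G : k) ≠ 0) (g : G)
    (hg : ∀ a ∈ IsLocalRing.maximalIdeal A, g • a - a ∈ IsLocalRing.maximalIdeal A ^ 2) (a : A) :
    g • a = a := by
  classical
  set M := IsLocalRing.maximalIdeal A with hMdef
  let h : A →+ A := DistribMulAction.toAddMonoidHom A g - AddMonoidHom.id A
  have h_apply : ∀ a, h a = g • a - a := fun a => rfl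
  have hT : ∀ a, g • a = a + h a := by intro a; rw [h_apply]; ring
  have h_mul : ∀ a b, h (a * b) = a * h b + h a * b + h a * h b := by
    intro a b; simp only [h_apply, smul_mul']; ring
  have h_algebraMap : ∀ c : k, h (algebraMap k A c) = 0 := by
    intro c
    rw [h_apply, Algebra.algebraMap_eq_smul_one, smul_comm g c (1 : A), smul_one, sub_self]
  have hdecomp : ∀ a : A, ∃ c : k, a - algebraMap k A c ∈ M := by
    intro a
    obtain ⟨c, hc⟩ := hres (IsLocalRing.residue A a)
    refine ⟨c, ?_⟩
    rw [hMdef, ← IsLocalRing.residue_eq_zero_iff, map_sub, ← hc,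
      IsScalarTower.algebraMap_apply k A (IsLocalRing.ResidueField A),
      IsLocalRing.ResidueField.algebraMap_eq, sub_self]
  have hA2 : ∀ a, h a ∈ M ^ 2 := by
    intro a
    obtain ⟨c, hc⟩ := hdecomp a
    have : h a = h (a - algebraMap k A c) := by
      rw [map_sub, h_algebraMap, sub_zero]
    rw [this, h_apply]
    exact hg _ hc
  have hpow : ∀ j : ℕ, ∀ a ∈ M ^ (j + 1), h a ∈ M ^ (j + 2) := by
    intro j
    induction j with
    | zero =>
      intro a ha
      rw [zero_add, pow_one] at ha
      rw [h_apply]
      exact hg a ha
    | succ j ih =>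
      intro a ha
      rw [pow_succ] at ha
      refine Submodule.mul_induction_on ha ?_ ?_
      · intro x hx y hy
        rw [h_mul]
        have hy2 : h y ∈ M ^ 2 := hA2 y
        have hx2 : h x ∈ M ^ (j + 2) := ih x hx
        refine Ideal.add_mem _ (Ideal.add_mem _ ?_ ?_) ?_
        · have : M ^ (j + 1 + 2) = M ^ (j + 1) * M ^ 2 := by rw [← pow_add]
          rw [this]
          exact Ideal.mul_mem_mul hx hy2
        · have : M ^ (j + 1 + 2) = M ^ (j + 2) * M := by rw [← pow_succ]
          rw [this]
          exact Ideal.mul_mem_mul hx2 hy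
        · have : M ^ (j + 1 + 2) = M ^ (j + 2) * M := by rw [← pow_succ]
          rw [this]
          refine Ideal.mul_mem_mul hx2 ?_
          have := Ideal.pow_le_pow_right (I := M) (show 1 ≤ 2 by norm_num) hy2
          rwa [pow_one] at this
      · intro x y hx hy
        rw [map_add]
        exact Ideal.add_mem _ hx hy
  have key : ∀ j : ℕ, (∀ a, h a ∈ M ^ (j + 1)) → ∀ a, h a ∈ M ^ (j + 2) := by
    intro j hj a
    have hi : ∀ i : ℕ, g ^ i • a - (a + i • h a) ∈ M ^ (j + 2) := by
      intro i
      induction i with
      | zero => simp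
      | succ i ih =>
        set r := g ^ i • a - (a + i • h a) with hr
        have e1 : g ^ i • a = a + i • h a + r := by rw [hr]; ring
        have e2 : g ^ (i + 1) • a - (a + (i + 1) • h a) = r + i • h (h a) + h r := by
          rw [pow_succ', mul_smul, e1, hT (a + i • h a + r), map_add, map_add, map_nsmul,
            add_smul, one_smul]
          ring
        rw [e2]
        refine Ideal.add_mem _ (Ideal.add_mem _ ih ?_) ?_
        · exact Submodule.smul_of_tower_mem _ i (hpow j _ (hj a))
        · have := hpow (j + 1) r ih
          exact Ideal.pow_le_pow_right (by omega) this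
    have hN := hi (Nat.card G)
    rw [pow_card_eq_one', one_smul] at hN
    have hN2 : (Nat.card G) • h a ∈ M ^ (j + 2) := by
      have : (Nat.card G) • h a = -(a - (a + (Nat.card G) • h a)) := by ring
      rw [this]
      exact Ideal.neg_mem_iff _ |>.2 hN
    have e3 : h a = algebraMap k A ((Nat.card G : k)⁻¹) * ((Nat.card G) • h a) := by
      rw [← Nat.cast_smul_eq_nsmul k, ← Algebra.smul_def, smul_smul, inv_mul_cancel₀ hG, one_smul]
    rw [e3]
    exact Ideal.mul_mem_left _ _ hN2
  have hall : ∀ j : ℕ, ∀ a, h a ∈ M ^ (j + 1) := by
    intro j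
    induction j with
    | zero =>
      intro a
      have := Ideal.pow_le_pow_right (I := M) (show 0 + 1 ≤ 2 by norm_num) (hA2 a)
      exact this
    | succ j ih => exact key j ih
  have hzero : h a = 0 := by
    have hbot : h a ∈ (⨅ i : ℕ, M ^ i) := by
      rw [Ideal.mem_iInf]
      intro i
      cases i with
      | zero => simp
      | succ i => exact hall i a
    rw [Ideal.iInf_pow_eq_bot_of_isLocalRing M (Ideal.IsPrime.ne_top'), Ideal.mem_bot] at hbot
    exact hbot
  rw [hT a, hzero, add_zero]

end Groth.Agent.S19448
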