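import Groth.Statements.S19455
import Mathlib
import Groth.Agent.Lib.Helper20DivFrame
import Groth.Agent.Lib.Helper23SecTw10

set_option autoImplicit false
universe u
open CategoryTheory CategoryTheory.Limits AlgebraicGeometry TopologicalSpace Opposite
open Mero

namespace Groth.Agent.S19455

open CategoryTheory CategoryTheory.Limits AlgebraicGeometry TopologicalSpace Opposite
open Mero
open Groth.Agent.Lib.Helper23.SecTw Groth.Agent.Lib.Helper23.GenLocus
  Groth.Agent.Lib.Helper23.Extend Groth.Agent.Lib.Helper6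
  Groth.Agent.Lib.Helper20.DivFrame Groth.Agent.Lib.Helper20.Kmod

set_option linter.style.haveILetI false

theorem germOf_mul {X : Scheme.{u}} {U : X.Opens} (F G : (Γ(kmod X, U))ˣ) (y : U) :
    germOf (F * G) y = germOf F y * germOf G y := by
  unfold germOf
  rw [map_mul, QuotientGroup.mk_mul]

theorem inv_mul_apply {X : Scheme.{u}} {U : X.Opens} (F G : (Γ(kmod X, U))ˣ) (y : U) :
    (↑(F * G)⁻¹ : Γ(kmod X, U)).1 y = (↑F⁻¹ : Γ(kmod X, U)).1 y * (↑G⁻¹ : Γ(kmod X, U)).1 y := by
  rw [mul_inv, Units.val_mul, kmod_mul_apply]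


/-- Let X be an integral scheme and D, E Cartier divisors on X (global sections of the sheaf of units of
K_X modulo units of O_X, written multiplicatively, so that D · E stands for the sum of the two
divisors). Then there is a morphism of O_X-modules from the tensor product O_X(D) ⊗ O_X(E) to O_X(D
· E) which sends each section t ⊗ t' over an open subset U to the product t · t' computed in the
sheaf of meromorphic functions K_X, and this morphism is an isomorphism. (The published statement is
for an irreducible normal variety over an algebraically closed field, where a Cartier divisor is a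
locally principal Weil divisor and O_X(D) is its sheaf of rational functions φ with div φ + D ≥ 0
locally, a subsheaf of the constant sheaf of rational functions equal to O_U · φ⁻¹ wherever D is the
divisor of φ; this row states it for the fractional ideals O_X(D) ⊆ K_X of Cartier divisors on an
arbitrary integral scheme.) -/
theorem result (X : Scheme.{u}) [AlgebraicGeometry.IsIntegral X]
    (D E : Mero.Divisor X) :
    ∃ μ : CohB1.tensorMod (Mero.divMod D) (Mero.divMod E) ⟶ Mero.divMod (D * E),
      (∀ (U : X.Opens) (t : Γ(Mero.divMod D, U)) (t' : Γ(Mero.divMod E, U)),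
        (Mero.divModι (D * E)).app U (μ.app U (SecTwist.tmul (Mero.divMod D) (Mero.divMod E) U t t')) =
          (Mero.divModι D).app U t * (Mero.divModι E).app U t') ∧
      IsIso μ := by
  -- local equations
  have hloc : ∀ x : X, ∃ (W : X.Opens) (_ : x ∈ W) (F G : (Γ(kmod X, W))ˣ),
      (∀ y : W, D.1 y.1 = germOf F y) ∧ (∀ y : W, E.1 y.1 = germOf G y) := by
    intro x
    obtain ⟨U₁, hx₁, F₁, hF₁⟩ := D.2 x
    obtain ⟨U₂, hx₂, G₂, hG₂⟩ := E.2 x
    refine ⟨U₁ ⊓ U₂, ⟨hx₁, hx₂⟩, resU inf_le_left F₁, resU inf_le_right G₂, fun y => ?_, fun y => ?_⟩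
    · rw [germOf_resU]; exact hF₁ ⟨y.1, y.2.1⟩
    · rw [germOf_resU]; exact hG₂ ⟨y.1, y.2.2⟩
  choose W hxW F G hF hG using hloc
  have hcov : ∀ x : X, ∃ i, x ∈ W i := fun x => ⟨x, hxW x⟩
  have hFG : ∀ x (y : W x), (D * E).1 y.1 = germOf (F x * G x) y := by
    intro x y
    rw [germOf_mul, ← hF x y, ← hG x y]
    rfl
  let a : ∀ x, Γ(CohB1.tensorMod (divMod D) (divMod E), W x) := fun x =>
    tm (divMod D) (divMod E) (W x) (invSec D (F x) (hF x)) (invSec E (G x) (hG x))
  let b : ∀ x, Γ(divMod (D * E), W x) := fun x => invSec (D * E) (F x * G x) (hFG x)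
  have ha : ∀ x, IsGen (CohB1.tensorMod (divMod D) (divMod E)) (W x) (a x) := fun x =>
    isGen_tm _ _ _ _ _ (isGen_invSec D (F x) (hF x)) (isGen_invSec E (G x) (hG x))
  have hb : ∀ x, IsGen (divMod (D * E)) (W x) (b x) := fun x => isGen_invSec _ _ _
  -- values of the frame `b`
  have hbval : ∀ x (A : X.Opens) (hA : A ≤ W x) (y : A),
      (res (divMod (D * E)) hA (b x)).1 y =
        (↑(F x)⁻¹ : Γ(kmod X, W x)).1 ⟨y.1, hA y.2⟩ * (↑(G x)⁻¹ : Γ(kmod X, W x)).1 ⟨y.1, hA y.2⟩ := by
    intro x A hA y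
    rw [divMod_res_apply, invSec_apply, inv_mul_apply]
  have htrans : ∀ i j (g : Γ(X, W i ⊓ W j)),
      res (CohB1.tensorMod (divMod D) (divMod E)) inf_le_left (a i) =
        g • res (CohB1.tensorMod (divMod D) (divMod E)) inf_le_right (a j) →
      res (divMod (D * E)) inf_le_left (b i) = g • res (divMod (D * E)) inf_le_right (b j) := by
    intro i j g hg
    obtain ⟨u, hu⟩ := exists_transition' (invSec D (F i) (hF i)) (isGen_invSec D (F j) (hF j))
    obtain ⟨v, hv⟩ := exists_transition' (invSec E (G i) (hG i)) (isGen_invSec E (G j) (hG j))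
    have h1 : res (CohB1.tensorMod (divMod D) (divMod E)) (inf_le_left : W i ⊓ W j ≤ W i) (a i) =
        (u * v) • res (CohB1.tensorMod (divMod D) (divMod E)) (inf_le_right : W i ⊓ W j ≤ W j) (a j) := by
      simp only [a]
      rw [res_tm, res_tm, hu, hv, tm_smul_smul]
    have h2 : g = u * v := by
      apply (ha j (W i ⊓ W j) inf_le_right).1
      change g • res _ inf_le_right (a j) = (u * v) • res _ inf_le_right (a j)
      rw [← hg, h1]
    apply divMod_ext
    intro y
    rw [divMod_smul_apply, hbval, hbval, h2, map_mul]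
    have hu' := congrArg (fun t : Γ(divMod D, W i ⊓ W j) => t.1 y) hu
    have hv' := congrArg (fun t : Γ(divMod E, W i ⊓ W j) => t.1 y) hv
    simp only [divMod_smul_apply, divMod_res_apply, invSec_apply] at hu' hv'
    rw [hu', hv']
    simp only [Algebra.smul_def, map_mul]
    ring
  obtain ⟨Φ, hΦ⟩ := exists_iso_of_frames _ _ W hcov a b ha hb htrans
  refine ⟨Φ.hom, ?_, inferInstance⟩
  intro U t t'
  apply kmod_ext
  intro y
  rw [divModι_apply, kmod_mul_apply, divModι_apply, divModι_apply]
  set x := y.1 with hx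
  have hyA : x ∈ U ⊓ W x := ⟨y.2, hxW x⟩
  have hAU : U ⊓ W x ≤ U := inf_le_left
  have hAW : U ⊓ W x ≤ W x := inf_le_right
  obtain ⟨p, hp⟩ := (isGen_invSec D (F x) (hF x) (U ⊓ W x) hAW).2 (res (divMod D) hAU t)
  obtain ⟨q, hq⟩ := (isGen_invSec E (G x) (hG x) (U ⊓ W x) hAW).2 (res (divMod E) hAU t')
  replace hp : p • res (divMod D) hAW (invSec D (F x) (hF x)) = res (divMod D) hAU t := hp
  replace hq : q • res (divMod E) hAW (invSec E (G x) (hG x)) = res (divMod E) hAU t' := hq
  have h1 : (Φ.hom.app U (tm (divMod D) (divMod E) U t t')).1 y =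
      (res (divMod (D * E)) hAU (Φ.hom.app U (tm (divMod D) (divMod E) U t t'))).1 ⟨x, hyA⟩ := rfl
  have h2 : res (divMod (D * E)) hAU (Φ.hom.app U (tm (divMod D) (divMod E) U t t')) =
      (p * q) • res (divMod (D * E)) hAW (b x) := by
    have e1 := (app_map Φ.hom (homOfLE hAU) (tm (divMod D) (divMod E) U t t')).symm
    change res (divMod (D * E)) hAU _ = Φ.hom.app (U ⊓ W x) (res _ hAU _) at e1
    rw [e1, res_tm, ← hp, ← hq, tm_smul_smul, ← res_tm]
    exact hΦ x (U ⊓ W x) hAW (p * q)
  change (Φ.hom.app U (tm (divMod D) (divMod E) U t t')).1 y = _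
  rw [h1, h2, divMod_smul_apply, hbval]
  have hp' := congrArg (fun t : Γ(divMod D, U ⊓ W x) => t.1 ⟨x, hyA⟩) hp
  have hq' := congrArg (fun t : Γ(divMod E, U ⊓ W x) => t.1 ⟨x, hyA⟩) hq
  simp only [divMod_smul_apply, divMod_res_apply, invSec_apply] at hp' hq'
  have ht : t.1 y = t.1 ⟨x, hAU hyA⟩ := rfl
  have ht' : t'.1 y = t'.1 ⟨x, hAU hyA⟩ := rfl
  rw [ht, ht', ← hp', ← hq']
  simp only [Algebra.smul_def, map_mul]
  ring

end Groth.Agent.S19455
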