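import Groth.Statements.S19456
import Mathlib
import Groth.Agent.Lib.Helper20IntFrame
import Groth.Agent.Lib.Helper20DivFrame

set_option autoImplicit false
universe u
open CategoryTheory CategoryTheory.Limits AlgebraicGeometry TopologicalSpace Opposite
open Mero

namespace Groth.Agent.S19456

open CategoryTheory CategoryTheory.Limits AlgebraicGeometry TopologicalSpace Opposite
open Mero
open Groth.Agent.Lib.Helper23.SecTw Groth.Agent.Lib.Helper23.GenLocus
  Groth.Agent.Lib.Helper23.Extend Groth.Agent.Lib.Helper6 Groth.Agent.Lib.Helper20.ZeroIdeal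
  Groth.Agent.Lib.Helper20.IntFrame Groth.Agent.Lib.Helper20.DivFrame Groth.Agent.Lib.Helper20.Kmod

set_option linter.style.haveILetI false

/-- the transition function between two generators is a unit -/
theorem isUnit_transition {X : Scheme.{u}} {L : X.Modules} {W₁ W₂ : X.Opens} {e₁ : Γ(L, W₁)}
    {e₂ : Γ(L, W₂)} (he₁ : IsGen L W₁ e₁) (he₂ : IsGen L W₂ e₂) (g : Γ(X, W₁ ⊓ W₂))
    (hg : res L inf_le_left e₁ = g • res L inf_le_right e₂) : IsUnit g := by
  obtain ⟨g', hg'⟩ := (he₁ (W₁ ⊓ W₂) inf_le_left).2 (res L inf_le_right e₂)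
  replace hg' : g' • res L (inf_le_left : W₁ ⊓ W₂ ≤ W₁) e₁ = res L inf_le_right e₂ := hg'
  have h1 : (g * g') • res L (inf_le_left : W₁ ⊓ W₂ ≤ W₁) e₁ =
      (1 : Γ(X, W₁ ⊓ W₂)) • res L (inf_le_left : W₁ ⊓ W₂ ≤ W₁) e₁ := by
    rw [mul_smul, hg', ← hg, one_smul]
  exact IsUnit.of_mul_eq_one g' ((he₁ (W₁ ⊓ W₂) inf_le_left).1 h1)

/-- the equation relating the local equations of a section on two frames -/
theorem coef_transition {X : Scheme.{u}} {L : X.Modules} (s : Coh.structureModule X ⟶ L)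
    {W₁ W₂ : X.Opens} {e₁ : Γ(L, W₁)} {e₂ : Γ(L, W₂)} (he₂ : IsGen L W₂ e₂)
    {c₁ : Γ(X, W₁)} {c₂ : Γ(X, W₂)} (hc₁ : sv s W₁ = c₁ • e₁) (hc₂ : sv s W₂ = c₂ • e₂)
    (g : Γ(X, W₁ ⊓ W₂)) (hg : res L inf_le_left e₁ = g • res L inf_le_right e₂) :
    resf inf_le_left c₁ * g = resf inf_le_right c₂ := by
  apply (he₂ (W₁ ⊓ W₂) inf_le_right).1
  change (resf inf_le_left c₁ * g) • res L inf_le_right e₂ =
    resf inf_le_right c₂ • res L inf_le_right e₂
  have h1 : res L (inf_le_left : W₁ ⊓ W₂ ≤ W₁) (sv s W₁) =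
      res L (inf_le_right : W₁ ⊓ W₂ ≤ W₂) (sv s W₂) := by rw [res_sv, res_sv]
  rw [hc₁, hc₂, res_smul, res_smul, hg, ← mul_smul] at h1
  exact h1


/-- With the preceding paragraph: let X be an integral scheme, L an invertible O_X-module and s a
nonzero global section of L, given as a nonzero morphism O_X → L. Then the zero scheme Z(s) of s is
an effective Cartier divisor: there is a divisor D on X (a global section of the sheaf of units of
K_X modulo units of O_X) which, around every point of X, on some affine open neighbourhood, is the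
class of a regular function generating the ideal of Z(s) there; and there is an isomorphism of
O_X-modules L ≅ O_X(D) which carries s to the element 1 of Γ(X, O_X(D)) ⊆ K(X). (The published
statement is for an irreducible variety over an algebraically closed field; this row states it for
an arbitrary integral scheme.) -/
theorem result (X : Scheme.{u}) [AlgebraicGeometry.IsIntegral X]
    (L : X.Modules) (hL : PicF.IsInvertible L) (s : Coh.structureModule X ⟶ L) (hs : s ≠ 0) :
    ∃ D : Mero.Divisor X, Mero.IsDivOfIdeal D (PicF2.zeroScheme L s) ∧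
      ∃ e : L ≅ Mero.divMod D,
        (Mero.divModι D).app ⊤ (e.hom.app ⊤ (SecTwist.val s ⊤)) = 1 := by
  choose W hxW hWaff e c hc hbas hg using fun x => exists_frame L hL s x
  have hWne : ∀ x, ((W x : X.Opens) : Set X).Nonempty := fun x => ⟨x, hxW x⟩
  have hcne : ∀ x, c x ≠ 0 := fun x => coef_ne_zero L hL s hs (hWne x) (hc x)
  have hreg : ∀ x, c x ∈ regSub X (W x) := fun x => mem_regSub_of_ne_zero (hcne x)
  have hcov : ∀ x : X, ∃ i, x ∈ W i := fun x => ⟨x, hxW x⟩
  let F : ∀ x, (Γ(kmod X, W x))ˣ := fun x => regUnit (c x) (hreg x)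
  have hcompat : ∀ i j (y : X) (hi : y ∈ W i) (hj : y ∈ W j),
      germOf (F i) ⟨y, hi⟩ = germOf (F j) ⟨y, hj⟩ := by
    intro i j y hi hj
    rw [germOf_regUnit, germOf_regUnit]
    obtain ⟨g, hg1⟩ := exists_transition' (e i) (hg j)
    have hgu := isUnit_transition (hg i) (hg j) g hg1
    have hg2 := coef_transition s (hg j) (hc i) (hc j) g hg1
    have hy : y ∈ W i ⊓ W j := ⟨hi, hj⟩
    refine mk_unit_eq_of_mul_unit _ _ ((hgu.map (X.presheaf.germ (W i ⊓ W j) y hy).hom).unit) ?_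
    have h3 := congrArg (X.presheaf.germ (W i ⊓ W j) y hy) hg2
    rw [map_mul, TopCat.Presheaf.germ_res_apply, TopCat.Presheaf.germ_res_apply] at h3
    exact h3
  obtain ⟨D, hD⟩ := exists_divisor_of_data W hcov F hcompat
  refine ⟨D, ?_, ?_⟩
  · intro x
    exact ⟨⟨W x, hWaff x⟩, hxW x, c x, hreg x,
      zeroScheme_ideal_eq_span L s hL (hWaff x) (hg x) (hc x),
      fun y => (hD x y).trans (germOf_regUnit _ _ y)⟩
  · obtain ⟨Φ, hΦ⟩ := exists_iso_of_frames L (divMod D) W hcov e
      (fun x => invSec D (F x) (hD x)) hg (fun x => isGen_invSec D (F x) (hD x)) (by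
        intro i j g hg1
        have hg2 := coef_transition s (hg j) (hc i) (hc j) g hg1
        apply divMod_ext
        intro y
        rw [divMod_smul_apply, divMod_res_apply, divMod_res_apply, invSec_apply, invSec_apply]
        have hA := inv_val_mul_val (F i) ⟨y.1, y.2.1⟩
        have hB := inv_val_mul_val (F j) ⟨y.1, y.2.2⟩
        have hBA : ((F j : Γ(kmod X, W j))).1 ⟨y.1, y.2.2⟩ =
            ((F i : Γ(kmod X, W i))).1 ⟨y.1, y.2.1⟩ *
              algebraMap _ _ (X.presheaf.germ (W i ⊓ W j) y.1 y.2 g) := by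
          have h3 := congrArg (X.presheaf.germ (W i ⊓ W j) y.1 y.2) hg2
          rw [map_mul, TopCat.Presheaf.germ_res_apply, TopCat.Presheaf.germ_res_apply] at h3
          change (toK X (W j) (c j)).1 ⟨y.1, y.2.2⟩ = (toK X (W i) (c i)).1 ⟨y.1, y.2.1⟩ * _
          rw [toK_apply, toK_apply, ← Groth.Agent.S10856.algebraMap_eq_mk,
            ← Groth.Agent.S10856.algebraMap_eq_mk, ← map_mul]
          exact congrArg _ h3.symm
        rw [Algebra.smul_def]
        linear_combination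
          ((↑(F i)⁻¹ : Γ(kmod X, W i)).1 ⟨y.1, y.2.1⟩ * (↑(F j)⁻¹ : Γ(kmod X, W j)).1 ⟨y.1, y.2.2⟩) * hBA
          - (↑(F i)⁻¹ : Γ(kmod X, W i)).1 ⟨y.1, y.2.1⟩ * hB
          + algebraMap _ _ (X.presheaf.germ (W i ⊓ W j) y.1 y.2 g) *
            (↑(F j)⁻¹ : Γ(kmod X, W j)).1 ⟨y.1, y.2.2⟩ * hA)
    refine ⟨Φ, ?_⟩
    apply kmod_ext
    intro y
    rw [divModι_apply, kmod_one_apply]
    have h1 : (Φ.hom.app ⊤ (sv s ⊤)).1 y =
        (res (divMod D) (le_top : W y.1 ≤ ⊤) (Φ.hom.app ⊤ (sv s ⊤))).1 ⟨y.1, hxW y.1⟩ := rfl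
    have h2 : res (divMod D) (le_top : W y.1 ≤ ⊤) (Φ.hom.app ⊤ (sv s ⊤)) =
        Φ.hom.app (W y.1) (sv s (W y.1)) := by
      rw [← res_sv s (le_top : W y.1 ≤ ⊤)]
      exact (app_map Φ.hom (homOfLE le_top) (sv s ⊤)).symm
    have h3 : Φ.hom.app (W y.1) (sv s (W y.1)) =
        c y.1 • invSec D (F y.1) (hD y.1) := by
      have := hΦ y.1 (W y.1) le_rfl (c y.1)
      rw [res_self, res_self] at this
      rw [hc y.1]
      exact this
    change (Φ.hom.app ⊤ (sv s ⊤)).1 y = 1
    rw [h1, h2, h3, divMod_smul_apply, invSec_apply, Algebra.smul_def,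
      Groth.Agent.S10856.algebraMap_eq_mk, ← toK_apply]
    exact val_mul_inv_val (F y.1) ⟨y.1, hxW y.1⟩

end Groth.Agent.S19456
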