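import Groth.Statements.S19457
import Mathlib
import Groth.Agent.Lib.Helper20IntFrame

set_option autoImplicit false
universe u
open CategoryTheory CategoryTheory.Limits AlgebraicGeometry TopologicalSpace Opposite
open PicF2

namespace Groth.Agent.S19457

open CategoryTheory CategoryTheory.Limits AlgebraicGeometry TopologicalSpace Opposite
open PicF2
open Groth.Agent.Lib.Helper23.SecTw Groth.Agent.Lib.Helper23.GenLocus
  Groth.Agent.Lib.Helper23.Extend Groth.Agent.Lib.Helper6 Groth.Agent.Lib.Helper20.ZeroIdeal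
  Groth.Agent.Lib.Helper20.IntFrame

set_option linter.style.haveILetI false

theorem zI_le_of_smul {X : Scheme.{u}} (L : X.Modules) (s s' : Coh.structureModule X ⟶ L)
    (h : Γ(X, ⊤)) (hh : sv s' ⊤ = h • sv s ⊤) (U : X.Opens) : zI L s' U ≤ zI L s U := by
  intro a ha
  rw [mem_zI] at ha ⊢
  intro m
  obtain ⟨b, hb⟩ := ha m
  refine ⟨b * resf le_top h, ?_⟩
  rw [hb, ← res_sv s' (le_top : U ≤ ⊤), hh, res_smul, res_sv, mul_smul]


/-- Let X be an integral scheme, L an invertible O_X-module and s, s' two nonzero global sections of L,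
given as nonzero morphisms O_X → L. Then the zero schemes Z(s') and Z(s) are equal (as
quasi-coherent ideal sheaves of O_X, that is, as effective Cartier divisors) if and only if s' = h ·
s for some unit h of the ring of global functions Γ(X, O_X). (The published statement is for an
irreducible variety over an algebraically closed field; this row states it for an arbitrary integral
scheme.) -/
theorem result (X : Scheme.{u}) [AlgebraicGeometry.IsIntegral X]
    (L : X.Modules) (hL : PicF.IsInvertible L) (s s' : Coh.structureModule X ⟶ L) (hs : s ≠ 0) (hs' : s' ≠ 0) :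
    PicF2.zeroScheme L s' = PicF2.zeroScheme L s ↔
      ∃ h : Γ(X, ⊤), IsUnit h ∧ (SecTwist.val s' ⊤ : Γ(L, ⊤)) = h • (SecTwist.val s ⊤ : Γ(L, ⊤)) := by
  constructor
  · intro hZ
    choose W hxW hWaff e c hc hbas hg using fun x => exists_frame L hL s x
    have hWne : ∀ x, ((W x : X.Opens) : Set X).Nonempty := fun x => ⟨x, hxW x⟩
    haveI : ∀ x, Nonempty (W x) := fun x => (hWne x).to_subtype
    -- local equations of `s'`
    let c' : ∀ x, Γ(X, W x) := fun x => coef (hg x) le_rfl (sv s' (W x))
    have hc' : ∀ x, sv s' (W x) = c' x • e x := by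
      intro x
      have := coef_spec (hg x) le_rfl (sv s' (W x))
      rw [res_self] at this
      exact this.symm
    have hcne : ∀ x, c x ≠ 0 := fun x => coef_ne_zero L hL s hs (hWne x) (hc x)
    have hspan : ∀ x, Ideal.span {c x} = Ideal.span {c' x} := by
      intro x
      rw [← zeroScheme_ideal_eq_span L s hL (hWaff x) (hg x) (hc x),
        ← zeroScheme_ideal_eq_span L s' hL (hWaff x) (hg x) (hc' x), hZ]
    have hassoc : ∀ x, ∃ u : (Γ(X, W x))ˣ, c x * u = c' x := fun x =>
      Ideal.span_singleton_eq_span_singleton.mp (hspan x)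
    choose u hu using hassoc
    have hsv : ∀ x, sv s' (W x) = (u x : Γ(X, W x)) • sv s (W x) := by
      intro x
      rw [hc' x, hc x, ← hu x, ← mul_smul, mul_comm]
    -- compatibility
    have hcompat : TopCat.Presheaf.IsCompatible X.presheaf W (fun x => (u x : Γ(X, W x))) := by
      intro x y
      change resf (inf_le_left : W x ⊓ W y ≤ W x) (u x : Γ(X, W x)) =
        resf (inf_le_right : W x ⊓ W y ≤ W y) (u y : Γ(X, W y))
      have hne : ((W x ⊓ W y : X.Opens) : Set X).Nonempty := inf_nonempty (hWne x) (hWne y)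
      haveI : Nonempty (W x ⊓ W y : X.Opens) := hne.to_subtype
      have h1 : resf (inf_le_left : W x ⊓ W y ≤ W x) (u x : Γ(X, W x)) • sv s (W x ⊓ W y) =
          resf (inf_le_right : W x ⊓ W y ≤ W y) (u y : Γ(X, W y)) • sv s (W x ⊓ W y) := by
        have e1 := congrArg (res L (inf_le_left : W x ⊓ W y ≤ W x)) (hsv x)
        have e2 := congrArg (res L (inf_le_right : W x ⊓ W y ≤ W y)) (hsv y)
        rw [res_sv, res_smul, res_sv] at e1 e2
        rw [← e1, ← e2]
      have h2 : sv s (W x ⊓ W y) = resf (inf_le_left : W x ⊓ W y ≤ W x) (c x) •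
          res L (inf_le_left : W x ⊓ W y ≤ W x) (e x) := by
        rw [← res_sv s (inf_le_left : W x ⊓ W y ≤ W x), hc x, res_smul]
      rw [h2, ← mul_smul, ← mul_smul] at h1
      have h3 := (hg x (W x ⊓ W y) inf_le_left).1 h1
      have h4 : resf (inf_le_left : W x ⊓ W y ≤ W x) (c x) ≠ 0 := by
        intro h0
        apply hcne x
        apply resf_injective (inf_le_left : W x ⊓ W y ≤ W x) hne
        rw [h0]
        exact (map_zero _).symm
      exact mul_right_cancel₀ h4 h3
    have hcov : (⊤ : X.Opens) ≤ ⨆ x : X, W x := fun x _ => Opens.mem_iSup.2 ⟨x, hxW x⟩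
    obtain ⟨h0, hh, -⟩ := X.sheaf.existsUnique_gluing' W ⊤ (fun x => homOfLE le_top) hcov _ hcompat
    let h : Γ(X, ⊤) := h0
    have hh' : ∀ x, resf (le_top : W x ≤ ⊤) h = (u x : Γ(X, W x)) := hh
    refine ⟨h, ?_, ?_⟩
    · refine RingedSpace.isUnit_of_isUnit_germ X.toRingedSpace ⊤ h (fun x hx => ?_)
      have h1 : X.presheaf.germ ⊤ x hx h = X.presheaf.germ (W x) x (hxW x) (u x : Γ(X, W x)) := by
        rw [← hh' x]
        exact (TopCat.Presheaf.germ_res_apply X.presheaf (homOfLE le_top) x (hxW x) h).symm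
      rw [h1]
      exact (u x).isUnit.map _
    · change sv s' ⊤ = h • sv s ⊤
      refine (modSheaf L).eq_of_locally_eq' W ⊤ (fun x => homOfLE le_top) hcov _ _ (fun x => ?_)
      change res L le_top (sv s' ⊤) = res L le_top (h • sv s ⊤)
      rw [res_smul, res_sv, res_sv, hh' x, hsv x]
  · rintro ⟨h, hunit, hh⟩
    obtain ⟨v, rfl⟩ := hunit
    have hh1 : sv s' ⊤ = (v : Γ(X, ⊤)) • sv s ⊤ := hh
    have hh2 : sv s ⊤ = (↑v⁻¹ : Γ(X, ⊤)) • sv s' ⊤ := by
      rw [hh1, smul_smul, Units.inv_mul, one_smul]
    have hz : ∀ U : X.Opens, zI L s' U = zI L s U := fun U =>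
      le_antisymm (zI_le_of_smul L s s' _ hh1 U) (zI_le_of_smul L s' s _ hh2 U)
    unfold PicF2.zeroScheme
    congr 1
    funext U
    exact hz U.1

end Groth.Agent.S19457
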