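import Groth.Statements.S19458
import Mathlib
import Groth.Agent.Lib.Helper20IntFrame
import Groth.Agent.Lib.Helper20DivFrame

set_option autoImplicit false
universe u
open CategoryTheory CategoryTheory.Limits AlgebraicGeometry TopologicalSpace Opposite
open Mero

namespace Groth.Agent.S19458

open CategoryTheory CategoryTheory.Limits AlgebraicGeometry TopologicalSpace Opposite
open Mero
open Groth.Agent.Lib.Helper23.SecTw Groth.Agent.Lib.Helper23.GenLocus
  Groth.Agent.Lib.Helper23.Extend Groth.Agent.Lib.Helper6 Groth.Agent.Lib.Helper20.ZeroIdeal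
  Groth.Agent.Lib.Helper20.IntFrame Groth.Agent.Lib.Helper20.DivFrame Groth.Agent.Lib.Helper20.Kmod
  Groth.Agent.Lib.Helper20.Kmod5

set_option linter.style.haveILetI false

theorem eq_one_of_mul_eq_right {G : Type*} [Group G] {a b : G} (h : a * b = b) : a = 1 :=
  mul_eq_right.mp h

theorem one_mul_gen {G : Type*} [Group G] (b : G) : 1 * b = b := one_mul b

theorem germOf_mul {X : Scheme.{u}} {U : X.Opens} (F G : (Γ(kmod X, U))ˣ) (y : U) :
    germOf (F * G) y = germOf F y * germOf G y := by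
  unfold germOf
  rw [map_mul, QuotientGroup.mk_mul]

theorem germOf_eq_one {X : Scheme.{u}} {V : X.Opens} (Q : (Γ(kmod X, V))ˣ) (y : V)
    (w : (X.presheaf.stalk y.1)ˣ)
    (h : (Q : Γ(kmod X, V)).1 y = algebraMap (X.presheaf.stalk y.1) (KStalk X y.1) w) :
    germOf Q y = 1 := by
  unfold germOf
  rw [QuotientGroup.eq_one_iff]
  exact ⟨w, Units.ext h.symm⟩

/-- an effective divisor is locally the class of a regular function. -/
theorem exists_local_equation {X : Scheme.{u}} (D : Divisor X) (x : X) (hD : IsEffectiveAt D x) :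
    ∃ (W : X.Opens) (_ : IsAffineOpen W) (_ : x ∈ W) (c : Γ(X, W)) (hc : c ∈ regSub X W),
      ∀ y : W, D.1 y.1 = germOf (regUnit c hc) y := by
  obtain ⟨U, hxU, F, hF⟩ := D.2 x
  obtain ⟨⟨_, V₀, hxV₀, c₀, hc₀, rfl⟩, ha⟩ := hD
  let V : X.Opens := U ⊓ V₀
  have hxV : x ∈ V := ⟨hxU, hxV₀⟩
  let c₁ : Γ(X, V) := resf (inf_le_right : V ≤ V₀) c₀
  have hc₁ : c₁ ∈ regSub X V := regSub_res _ hc₀
  let F' : (Γ(kmod X, V))ˣ := resU (inf_le_left : V ≤ U) F
  let R : (Γ(kmod X, V))ˣ := regUnit c₁ hc₁
  let Q : (Γ(kmod X, V))ˣ := F' * R⁻¹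
  have hQR : Q * R = F' := by simp [Q]
  -- at `x` the class of `Q` is trivial
  have hQx : germOf Q ⟨x, hxV⟩ = 1 := by
    have h1 : germOf F' ⟨x, hxV⟩ = germOf R ⟨x, hxV⟩ := by
      rw [germOf_resU, ← hF ⟨x, hxU⟩, ha, germOf_regUnit]
      congr 2
      congr 1
      exact (TopCat.Presheaf.germ_res_apply X.presheaf (homOfLE inf_le_right) x hxV c₀).symm
    have h2 : germOf F' ⟨x, hxV⟩ = germOf Q ⟨x, hxV⟩ * germOf R ⟨x, hxV⟩ := by
      rw [← germOf_mul, hQR]
    rw [h1] at h2
    exact eq_one_of_mul_eq_right h2.symm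
  have hQx' := QuotientGroup.eq_one_iff _ |>.mp hQx
  obtain ⟨w, hw⟩ := hQx'
  have hw' : (Q : Γ(kmod X, V)).1 ⟨x, hxV⟩ = algebraMap _ _ (w : X.presheaf.stalk x) :=
    (congrArg Units.val hw).symm
  obtain ⟨W', hxW', hW'V, r, hr⟩ := exists_local_toK (Q : Γ(kmod X, V)) ⟨x, hxV⟩ ⟨w, hw'.symm⟩
  have hrx : IsUnit (X.presheaf.germ W' x hxW' r) := by
    have h1 := hr ⟨x, hxW'⟩
    change (Q : Γ(kmod X, V)).1 ⟨x, hxV⟩ = _ at h1
    rw [hw', ← Groth.Agent.S10856.algebraMap_eq_mk] at h1
    rw [← algebraMap_KStalk_injective x h1]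
    exact w.isUnit
  have hxr : x ∈ X.basicOpen r := (Scheme.mem_basicOpen X r x hxW').2 hrx
  obtain ⟨W, hW, hxW, hWle⟩ := exists_isAffineOpen_mem_and_subset (X := X) (x := x)
    (U := X.basicOpen r) hxr
  have hWW' : W ≤ W' := hWle.trans (X.basicOpen_le r)
  have hWV : W ≤ V := hWW'.trans hW'V
  refine ⟨W, hW, hxW, resf hWV c₁, regSub_res _ hc₁, fun y => ?_⟩
  have hyr : IsUnit (X.presheaf.germ W' y.1 (hWW' y.2) r) :=
    (Scheme.mem_basicOpen X r y.1 (hWW' y.2)).1 (hWle y.2)
  have hQy : germOf Q ⟨y.1, hWV y.2⟩ = 1 := by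
    refine germOf_eq_one Q _ hyr.unit ?_
    have h1 := hr ⟨y.1, hWW' y.2⟩
    rw [Groth.Agent.S10856.algebraMap_eq_mk]
    exact h1
  have h3 : D.1 y.1 = germOf F' ⟨y.1, hWV y.2⟩ := by
    rw [germOf_resU]
    exact hF ⟨y.1, (hWV y.2).1⟩
  rw [h3, ← hQR, germOf_mul, hQy]
  refine (one_mul_gen _).trans ?_
  rw [germOf_regUnit, germOf_regUnit]
  congr 2
  congr 1
  exact (TopCat.Presheaf.germ_res_apply X.presheaf (homOfLE hWV) y.1 y.2 c₁).symm

/-- generators are transported by isomorphisms. -/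
theorem isGen_of_iso {X : Scheme.{u}} {M N : X.Modules} (Φ : M ⟶ N) [IsIso Φ] {W : X.Opens}
    {a : Γ(M, W)} (ha : IsGen M W a) : IsGen N W (Φ.app W a) := by
  intro W' hW'
  have hbij : Function.Bijective (Φ.app W') :=
    (ConcreteCategory.isIso_iff_bijective (Φ.app W')).1 inferInstance
  have key : ∀ r : Γ(X, W'), r • res N hW' (Φ.app W a) = Φ.app W' (r • res M hW' a) := by
    intro r
    rw [Scheme.Modules.Hom.app_smul]
    congr 1
    exact (app_map Φ (homOfLE hW') a).symm
  have h2 : (fun r : Γ(X, W') => r • res N hW' (Φ.app W a)) =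
      Φ.app W' ∘ (fun r => r • res M hW' a) := funext key
  rw [h2]
  exact hbij.comp (ha W' hW')

/-- `DivCond` for the section `1` of an effective divisor. -/
theorem divCond_one {X : Scheme.{u}} (D : Divisor X) (x : X) (hD : IsEffectiveAt D x) :
    DivCond D x 1 := by
  obtain ⟨a, ha⟩ := hD
  intro g hg
  rw [ha] at hg
  obtain ⟨w, hw⟩ := QuotientGroup.eq.mp hg
  have h2 := congrArg Units.val hw
  simp only [Units.val_mul, Units.coe_map] at h2
  rw [one_mul]
  refine ⟨(a : X.presheaf.stalk x) * w, ?_⟩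
  rw [map_mul]
  have h3 : algebraMap (X.presheaf.stalk x) (KStalk X x) (w : X.presheaf.stalk x) =
      (↑((IsLocalization.map_units (KStalk X x) a).unit)⁻¹ : KStalk X x) * g := h2
  rw [h3, ← mul_assoc]
  have h4 : algebraMap (X.presheaf.stalk x) (KStalk X x) a *
      (↑((IsLocalization.map_units (KStalk X x) a).unit)⁻¹ : KStalk X x) = 1 :=
    (IsLocalization.map_units (KStalk X x) a).mul_val_inv
  rw [h4, one_mul]

/-- the global section `1` of `O_X(D)`, `D` effective. -/
noncomputable def oneSec {X : Scheme.{u}} (D : Divisor X) (hD : IsEffective D) : Γ(divMod D, ⊤) :=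
  (⟨(1 : Γ(kmod X, ⊤)).1, ⟨(1 : Γ(kmod X, ⊤)).2, fun y => by
    rw [kmod_one_apply]; exact divCond_one D y.1 (hD y.1)⟩⟩ : Γ(modOf (divLoc X D), ⊤))

theorem oneSec_apply {X : Scheme.{u}} (D : Divisor X) (hD : IsEffective D) (y : (⊤ : X.Opens)) :
    (oneSec D hD).1 y = 1 := kmod_one_apply _ _

theorem res_oneSec {X : Scheme.{u}} (D : Divisor X) (hD : IsEffective D) {W : X.Opens}
    (c : Γ(X, W)) (hc : c ∈ regSub X W) (hDc : ∀ y : W, D.1 y.1 = germOf (regUnit c hc) y) :
    res (divMod D) le_top (oneSec D hD) = c • invSec D (regUnit c hc) hDc := by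
  apply divMod_ext
  intro y
  rw [divMod_res_apply, oneSec_apply, divMod_smul_apply, invSec_apply, Algebra.smul_def,
    Groth.Agent.S10856.algebraMap_eq_mk, ← toK_apply, ← regUnit_val c hc, val_mul_inv_val]

theorem kstalk_one_ne_zero {X : Scheme.{u}} (x : X) : (1 : KStalk X x) ≠ 0 := by
  intro h
  have h1 : algebraMap (X.presheaf.stalk x) (KStalk X x) 1 =
      algebraMap (X.presheaf.stalk x) (KStalk X x) 0 := by rw [map_one, map_zero]; exact h
  exact one_ne_zero (algebraMap_KStalk_injective x h1)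


/-- Let X be an integral scheme, L an invertible O_X-module and D an effective Cartier divisor on X (a
global section of the sheaf of units of K_X modulo units of O_X whose germ at every point is the
class of a germ of a regular function) such that O_X(D) is isomorphic to L. Then there is a nonzero
global section s of L, given as a nonzero morphism O_X → L, whose zero scheme Z(s) is D: around
every point of X, on some affine open neighbourhood, the ideal of Z(s) is generated by a regular
function whose classes are the germs of D there. (The published statement is for an irreducible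
variety over an algebraically closed field; this row states it for an arbitrary integral scheme.) -/
theorem result (X : Scheme.{u}) [AlgebraicGeometry.IsIntegral X]
    (L : X.Modules) (hL : PicF.IsInvertible L) (D : Mero.Divisor X) (hD : Mero.IsEffective D)
    (e : L ≅ Mero.divMod D) :
    ∃ s : Coh.structureModule X ⟶ L, s ≠ 0 ∧ Mero.IsDivOfIdeal D (PicF2.zeroScheme L s) := by
  let σ : Γ(L, ⊤) := e.inv.app ⊤ (oneSec D hD)
  refine ⟨secHom L σ, ?_, ?_⟩
  · intro h0
    have h1 : sv (secHom L σ) ⊤ = 0 := by rw [h0, sv_zero]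
    rw [sv_secHom] at h1
    have h2 : σ = 0 := by
      rw [← res_self L σ]; exact h1
    have hbij : Function.Bijective (e.inv.app (⊤ : X.Opens)) :=
      (ConcreteCategory.isIso_iff_bijective (e.inv.app (⊤ : X.Opens))).1 inferInstance
    have h3 : oneSec D hD = 0 := by
      apply hbij.1
      rw [map_zero]
      exact h2
    obtain ⟨x⟩ : Nonempty X := inferInstance
    have h4 := oneSec_apply D hD ⟨x, trivial⟩
    rw [h3] at h4
    exact kstalk_one_ne_zero x h4.symm
  · intro x
    obtain ⟨W, hW, hxW, c, hc, hDc⟩ := exists_local_equation D x (hD x)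
    have hε : IsGen L W (e.inv.app W (invSec D (regUnit c hc) hDc)) :=
      isGen_of_iso e.inv (isGen_invSec D _ hDc)
    have hsv : sv (secHom L σ) W = c • e.inv.app W (invSec D (regUnit c hc) hDc) := by
      rw [sv_secHom, ← Scheme.Modules.Hom.app_smul, ← res_oneSec D hD c hc hDc]
      exact (app_map e.inv (homOfLE le_top) (oneSec D hD)).symm
    refine ⟨⟨W, hW⟩, hxW, c, hc, zeroScheme_ideal_eq_span L _ hL hW hε hsv, fun y => ?_⟩
    rw [hDc y, germOf_regUnit]

end Groth.Agent.S19458
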