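import Groth.Statements.S19459
import Mathlib
import Groth.Agent.Lib.Helper20ZeroIdeal

set_option autoImplicit false
universe u
open CategoryTheory CategoryTheory.Limits AlgebraicGeometry TopologicalSpace Opposite
open Mero

namespace Groth.Agent.S19459

open CategoryTheory CategoryTheory.Limits AlgebraicGeometry TopologicalSpace Opposite
open Mero
open Groth.Agent.Lib.Helper23.SecTw Groth.Agent.Lib.Helper23.GenLocus
  Groth.Agent.Lib.Helper23.Extend Groth.Agent.Lib.Helper6 Groth.Agent.Lib.Helper20.ZeroIdeal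

set_option linter.style.haveILetI false

/-- restriction of a frame adapted to a section -/
theorem frame_res {X : Scheme.{u}} {L : X.Modules} (s : Coh.structureModule X ⟶ L) {W W' : X.Opens}
    (h : W' ≤ W) {e : Γ(L, W)} {c : Γ(X, W)} (hc : sv s W = c • e) :
    sv s W' = resf h c • res L h e := by
  rw [← res_sv s h, hc, res_smul]

/-- the ideal of an ideal sheaf on a smaller affine open, when principal on the bigger one -/
theorem ideal_eq_span_res {X : Scheme.{u}} (I : X.IdealSheafData) {U V : X.affineOpens} (h : U ≤ V)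
    {f : Γ(X, V.1)} (hf : I.ideal V = Ideal.span {f}) :
    I.ideal U = Ideal.span {resf (show U.1 ≤ V.1 from h) f} := by
  rw [← I.map_ideal h, hf, Ideal.map_span, Set.image_singleton]
  rfl


/-- Let X be an integral scheme, L₁ and L₂ invertible O_X-modules with nonzero global sections s₁ and s₂
(nonzero morphisms O_X → L₁ and O_X → L₂), and let D₁, D₂ be the effective Cartier divisors of the
zero schemes Z(s₁), Z(s₂): divisors on X (global sections of the sheaf of units of K_X modulo units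
of O_X) which around every point, on some affine open neighbourhood, are the class of a regular
function generating the ideal of the zero scheme. Then the divisor D₁ · D₂ (multiplicative notation
for the sum D₁ + D₂) is in the same sense the effective Cartier divisor of the zero scheme of the
global section s₁ ⊗ s₂ of the tensor product L₁ ⊗ L₂; that is, Z(s₁ ⊗ s₂) = Z(s₁) + Z(s₂). (The
published statement is for an irreducible variety over an algebraically closed field; this row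
states it for an arbitrary integral scheme.) -/
theorem result (X : Scheme.{u}) [AlgebraicGeometry.IsIntegral X]
    (L₁ L₂ : X.Modules) (hL₁ : PicF.IsInvertible L₁) (hL₂ : PicF.IsInvertible L₂)
    (s₁ : Coh.structureModule X ⟶ L₁) (s₂ : Coh.structureModule X ⟶ L₂) (hs₁ : s₁ ≠ 0) (hs₂ : s₂ ≠ 0)
    (D₁ D₂ : Mero.Divisor X) (hD₁ : Mero.IsDivOfIdeal D₁ (PicF2.zeroScheme L₁ s₁))
    (hD₂ : Mero.IsDivOfIdeal D₂ (PicF2.zeroScheme L₂ s₂)) :
    Mero.IsDivOfIdeal (D₁ * D₂) (PicF2.zeroScheme (CohB1.tensorMod L₁ L₂) (SecTwist.tmulHom s₁ s₂)) := by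
  intro x
  obtain ⟨U₁, hxU₁, f₁, hf₁, hI₁, hD₁'⟩ := hD₁ x
  obtain ⟨U₂, hxU₂, f₂, hf₂, hI₂, hD₂'⟩ := hD₂ x
  obtain ⟨W₁, hxW₁, -, e₁, c₁, hc₁, -, hg₁⟩ := exists_frame L₁ hL₁ s₁ x
  obtain ⟨W₂, hxW₂, -, e₂, c₂, hc₂, -, hg₂⟩ := exists_frame L₂ hL₂ s₂ x
  obtain ⟨W, hW, hxW, hWle⟩ := exists_isAffineOpen_mem_and_subset (X := X) (x := x)
    (U := U₁.1 ⊓ U₂.1 ⊓ W₁ ⊓ W₂) ⟨⟨⟨hxU₁, hxU₂⟩, hxW₁⟩, hxW₂⟩
  have hWU₁ : W ≤ U₁.1 := fun y hy => (hWle hy).1.1.1
  have hWU₂ : W ≤ U₂.1 := fun y hy => (hWle hy).1.1.2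
  have hWW₁ : W ≤ W₁ := fun y hy => (hWle hy).1.2
  have hWW₂ : W ≤ W₂ := fun y hy => (hWle hy).2
  -- frames on W
  have hg₁' : IsGen L₁ W (res L₁ hWW₁ e₁) := hg₁.mono hWW₁
  have hg₂' : IsGen L₂ W (res L₂ hWW₂ e₂) := hg₂.mono hWW₂
  have hc₁' := frame_res s₁ hWW₁ hc₁
  have hc₂' := frame_res s₂ hWW₂ hc₂
  -- ideals on W
  have hJ₁ := zeroScheme_ideal_eq_span L₁ s₁ hL₁ hW hg₁' hc₁'
  have hJ₂ := zeroScheme_ideal_eq_span L₂ s₂ hL₂ hW hg₂' hc₂'
  have hK₁ := ideal_eq_span_res (PicF2.zeroScheme L₁ s₁) (U := ⟨W, hW⟩) (V := U₁) hWU₁ hI₁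
  have hK₂ := ideal_eq_span_res (PicF2.zeroScheme L₂ s₂) (U := ⟨W, hW⟩) (V := U₂) hWU₂ hI₂
  have hgen : IsGen (CohB1.tensorMod L₁ L₂) W (tm L₁ L₂ W (res L₁ hWW₁ e₁) (res L₂ hWW₂ e₂)) :=
    isGen_tm L₁ L₂ W _ _ hg₁' hg₂'
  have hsv : sv (SecTwist.tmulHom s₁ s₂) W =
      (resf hWW₁ c₁ * resf hWW₂ c₂) • tm L₁ L₂ W (res L₁ hWW₁ e₁) (res L₂ hWW₂ e₂) := by
    rw [sv_tmulHom, hc₁', hc₂', tm_smul_smul]
  have hJ := zeroScheme_ideal_eq_span (CohB1.tensorMod L₁ L₂) (SecTwist.tmulHom s₁ s₂)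
    (isInvertible_tensorMod hL₁ hL₂) hW hgen hsv
  have hf : resf hWU₁ f₁ * resf hWU₂ f₂ ∈ regSub X W :=
    Submonoid.mul_mem _ (regSub_res _ hf₁) (regSub_res _ hf₂)
  refine ⟨⟨W, hW⟩, hxW, resf hWU₁ f₁ * resf hWU₂ f₂, hf, ?_, ?_⟩
  · rw [hJ, ← Ideal.span_singleton_mul_span_singleton, ← Ideal.span_singleton_mul_span_singleton,
      ← hJ₁, ← hJ₂, hK₁, hK₂]
  · intro y
    have h1 := hD₁' ⟨y.1, hWU₁ y.2⟩
    have h2 := hD₂' ⟨y.1, hWU₂ y.2⟩
    change D₁.1 y.1 * D₂.1 y.1 = _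
    rw [h1, h2, ← QuotientGroup.mk_mul]
    congr 1
    apply Units.ext
    simp only [Units.val_mul, IsUnit.unit_spec]
    rw [← map_mul]
    congr 1
    change X.presheaf.germ U₁.1 y.1 _ f₁ * X.presheaf.germ U₂.1 y.1 _ f₂ =
      X.presheaf.germ W y.1 y.2 (resf hWU₁ f₁ * resf hWU₂ f₂)
    rw [map_mul, TopCat.Presheaf.germ_res_apply, TopCat.Presheaf.germ_res_apply]

end Groth.Agent.S19459
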