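import Groth.Statements.S19465
import Mathlib
import Groth.Agent.Lib.Helper10SecFib
-- import your own Groth.Agent.* helpers here

set_option autoImplicit false
universe u
open CategoryTheory CategoryTheory.Limits MonoidalCategory CartesianMonoidalCategory MonObj GrpObj AlgebraicGeometry
open AlgGrp

namespace Groth.Agent.S19465

/-- Let S be a scheme and G an S-group scheme whose structure morphism G → S is locally of finite type.
Then G → S is an isomorphism (G is the trivial group scheme over S) if and only if every fibre G_s →
Spec κ(s), s ∈ S, is an isomorphism. -/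
theorem result (S : Scheme.{u}) (G : Over S)
    [GrpObj G] [LocallyOfFiniteType G.hom] :
    IsIso G.hom ↔ ∀ s : S, IsIso (G.hom.fiberToSpecResidueField s) := by
  constructor
  · intro h s
    have key : ∀ {X : Scheme.{u}} (f : X ⟶ S) [IsIso f], IsIso (f.fiberToSpecResidueField s) := by
      intro X f _
      unfold Scheme.Hom.fiberToSpecResidueField
      exact MorphismProperty.pullback_snd (P := MorphismProperty.isomorphisms Scheme.{u}) _ _
        (MorphismProperty.isomorphisms.infer_property f)
    exact @key _ G.hom h
  · intro h
    let σ : S ⟶ G.left := (η[G] : 𝟙_ (Over S) ⟶ G).left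
    have hσ : σ ≫ G.hom = 𝟙 S := Over.w (η[G] : 𝟙_ (Over S) ⟶ G)
    exact (Groth.Agent.Lib.Helper10.SecFib.isIso_of_section_of_forall_fiber G.hom σ hσ h).2

end Groth.Agent.S19465
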