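import Groth.Statements.S19473
import Mathlib
import Groth.Agent.Lib.Helper8Grp

set_option autoImplicit false
universe u
open CategoryTheory CategoryTheory.Limits MonoidalCategory CartesianMonoidalCategory MonObj GrpObj AlgebraicGeometry
open AlgGrp

namespace Groth.Agent.S19473

open Groth.Agent.Lib.Helper8

theorem isPullback_one_diag {C : Type*} [Category C] [CartesianMonoidalCategory C] (G : C) [GrpObj G] :
    IsPullback η[G] η[G] (lift (toUnit G ≫ η[G]) (𝟙 G)) (lift (𝟙 G) (𝟙 G)) := by
  have hw : η[G] ≫ lift (toUnit G ≫ η[G]) (𝟙 G) = η[G] ≫ lift (𝟙 G) (𝟙 G) := by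
    apply CartesianMonoidalCategory.hom_ext
    · rw [Category.assoc, lift_fst, Category.assoc, lift_fst, Category.comp_id, ← Category.assoc,
        toUnit_unique (η[G] ≫ toUnit G) (𝟙 _), Category.id_comp]
    · rw [Category.assoc, lift_snd, Category.assoc, lift_snd]
  refine ⟨⟨hw⟩, ⟨PullbackCone.IsLimit.mk _ (fun s => toUnit _) ?_ ?_ ?_⟩⟩
  · intro s
    have h1 := congrArg (fun f => f ≫ fst G G) s.condition
    have h2 := congrArg (fun f => f ≫ snd G G) s.condition
    simp only [Category.assoc, lift_fst, lift_snd, Category.comp_id] at h1 h2
    rw [h2, ← h1, ← Category.assoc]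
    congr 1
    exact toUnit_unique _ _
  · intro s
    have h1 := congrArg (fun f => f ≫ fst G G) s.condition
    simp only [Category.assoc, lift_fst, Category.comp_id] at h1
    rw [← h1, ← Category.assoc]
    congr 1
    exact toUnit_unique _ _
  · intro s m _ _
    exact toUnit_unique _ _


/-- Let S be a scheme and G an S-group scheme whose structure morphism G → S is locally of finite type.
Then G → S is unramified — formally unramified, since it is locally of finite type — if and only if
the identity section S → G is an open immersion. (The separated and quasi-separated clauses of the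
published item are separate results.) -/
theorem result (S : Scheme.{u})
    (G : Over S) [GrpObj G] [LocallyOfFiniteType G.hom] :
    FormallyUnramified G.hom ↔ IsOpenImmersion η[G].left := by
  constructor
  · intro h
    have hΔ : IsOpenImmersion (pullback.diagonal G.hom) := inferInstance
    have sq := (isPullback_one_diag G).map (Over.forget S)
    exact MorphismProperty.of_isPullback (P := @IsOpenImmersion) sq.flip hΔ
  · intro h
    have h3 : IsOpenImmersion (G ◁ η[G]).left := by
      rw [Over.whiskerLeft_left]
      exact MorphismProperty.pullbackMap (P := @IsOpenImmersion.{u}) (i₁ := 𝟙 G.left) (i₂ := η[G].left)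
        (inferInstanceAs (IsOpenImmersion (𝟙 G.left))) h (by simp) (by simp)
    have hΔ : IsOpenImmersion (pullback.diagonal G.hom) := by
      rw [← diag_left, diag_eq]
      simp only [Over.comp_left]
      have h1 : IsIso (ρ_ G).inv.left := inferInstanceAs (IsIso ((Over.forget S).map (ρ_ G).inv))
      have h2 : IsIso (shearIso G).hom.left :=
        inferInstanceAs (IsIso ((Over.forget S).map (shearIso G).hom))
      infer_instance
    infer_instance

end Groth.Agent.S19473
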