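import Groth.Statements.S19475
import Mathlib

set_option autoImplicit false
universe u
open CAlg

namespace Groth.Agent.S19475

open IsLocalRing TensorProduct

theorem G {A B C : Type u} [CommRing A] [CommRing B] [CommRing C] [Algebra A B] [Algebra A C]
    (J : Ideal B) [J.IsMaximal]
    (h1 : ∀ c : C, ∃ b : B, (1 : B) ⊗ₜ[A] c - b ⊗ₜ[A] (1 : C) ∈
      J.map (Algebra.TensorProduct.includeLeftRingHom : B →+* B ⊗[A] C))
    (h2 : J.map (Algebra.TensorProduct.includeLeftRingHom : B →+* B ⊗[A] C) ≠ ⊤) :
    (J.map (Algebra.TensorProduct.includeLeftRingHom : B →+* B ⊗[A] C)).IsMaximal := by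
  obtain ⟨I, hI⟩ : ∃ I, I = J.map (Algebra.TensorProduct.includeLeftRingHom : B →+* B ⊗[A] C) :=
    ⟨_, rfl⟩
  rw [← hI] at h1 h2 ⊢
  let ψ : B →+* (B ⊗[A] C) ⧸ I :=
    (Ideal.Quotient.mk I).comp (Algebra.TensorProduct.includeLeftRingHom : B →+* B ⊗[A] C)
  have hψ : Function.Surjective ψ := by
    intro t
    obtain ⟨t, rfl⟩ := Ideal.Quotient.mk_surjective t
    induction t using TensorProduct.induction_on with
    | zero => exact ⟨0, by simp⟩
    | tmul b c =>
      obtain ⟨b', hb'⟩ := h1 c
      refine ⟨b * b', ?_⟩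
      have e : b ⊗ₜ[A] c = (b ⊗ₜ[A] (1 : C)) * ((1 : B) ⊗ₜ[A] c) := by
        rw [Algebra.TensorProduct.tmul_mul_tmul, mul_one, one_mul]
      have e2 : Ideal.Quotient.mk I ((1 : B) ⊗ₜ[A] c) = Ideal.Quotient.mk I (b' ⊗ₜ[A] (1 : C)) :=
        Ideal.Quotient.eq.mpr hb'
      calc ψ (b * b') = Ideal.Quotient.mk I ((b * b') ⊗ₜ[A] (1 : C)) := rfl
        _ = Ideal.Quotient.mk I ((b ⊗ₜ[A] (1 : C)) * (b' ⊗ₜ[A] (1 : C))) := by
          rw [Algebra.TensorProduct.tmul_mul_tmul, mul_one]
        _ = Ideal.Quotient.mk I (b ⊗ₜ[A] (1 : C)) * Ideal.Quotient.mk I ((1 : B) ⊗ₜ[A] c) := by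
          rw [map_mul, e2]
        _ = Ideal.Quotient.mk I (b ⊗ₜ[A] c) := by rw [e, map_mul]
    | add x y hx hy =>
      obtain ⟨a, ha⟩ := hx
      obtain ⟨b, hb⟩ := hy
      exact ⟨a + b, by rw [map_add, ha, hb, map_add]⟩
  have hker : RingHom.ker ψ = J := by
    symm
    apply Ideal.IsMaximal.eq_of_le inferInstance
    · intro h
      apply h2
      rw [Ideal.eq_top_iff_one]
      have h1mem : (1 : B) ∈ RingHom.ker ψ := by rw [h]; trivial
      rw [RingHom.mem_ker, map_one] at h1mem
      have := Ideal.Quotient.eq_zero_iff_mem.mp h1mem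
      exact this
    · intro b hb
      rw [RingHom.mem_ker]
      refine Ideal.Quotient.eq_zero_iff_mem.mpr ?_
      rw [hI]
      exact Ideal.mem_map_of_mem _ hb
  have e := RingHom.quotientKerEquivOfSurjective hψ
  have hfield : IsField (B ⧸ RingHom.ker ψ) := by
    rw [hker]
    exact (Ideal.Quotient.maximal_ideal_iff_isField_quotient J).mp inferInstance
  exact Ideal.Quotient.maximal_of_isField I (e.symm.toMulEquiv.isField hfield)


section H

variable {A R S : Type u} [CommRing A] [CommRing R] [CommRing S] [Algebra A R] [Algebra A S]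
    (p : Ideal A) [p.IsPrime] [IsLocalization.AtPrime R p] [IsLocalRing R] [IsNoetherianRing R]
    [IsLocalRing S]

/-- cancel a unit of the form `algebraMap s ⊗ 1`. -/
theorem unit_cancel {C : Type u} [CommRing C] [Algebra A C] (s : A) (hs : IsUnit (algebraMap A S s))
    (I : Ideal (S ⊗[A] C)) (t : S ⊗[A] C) (h : (algebraMap A S s ⊗ₜ[A] (1 : C)) * t ∈ I) : t ∈ I := by
  obtain ⟨u, hu⟩ := hs
  have : t = ((↑u⁻¹ : S) ⊗ₜ[A] (1 : C)) * ((algebraMap A S s ⊗ₜ[A] (1 : C)) * t) := by
    rw [← mul_assoc, Algebra.TensorProduct.tmul_mul_tmul, ← hu, Units.inv_mul, mul_one]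
    exact (one_mul t).symm
  rw [this]
  exact Ideal.mul_mem_left _ _ h

theorem h1_of (hu : ∀ s ∈ p.primeCompl, IsUnit (algebraMap A S s))
    (hm : ∀ y ∈ p, algebraMap A S y ∈ maximalIdeal S)
    (c : AdicCompletion (maximalIdeal R) R) :
    ∃ b : S, (1 : S) ⊗ₜ[A] c - b ⊗ₜ[A] (1 : AdicCompletion (maximalIdeal R) R) ∈
      (maximalIdeal S).map (Algebra.TensorProduct.includeLeftRingHom :
        S →+* S ⊗[A] AdicCompletion (maximalIdeal R) R) := by
  obtain ⟨I, hI⟩ : ∃ I, I = (maximalIdeal S).map (Algebra.TensorProduct.includeLeftRingHom :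
        S →+* S ⊗[A] AdicCompletion (maximalIdeal R) R) := ⟨_, rfl⟩
  rw [← hI]
  -- step 1 : elements of `m Â`
  have step1 : ∀ z ∈ (maximalIdeal R).map (algebraMap R (AdicCompletion (maximalIdeal R) R)),
      (1 : S) ⊗ₜ[A] z ∈ I := by
    intro z hz
    refine Submodule.span_induction ?_ ?_ ?_ ?_ hz
    · rintro _ ⟨μ, hμ, rfl⟩
      obtain ⟨y, s, rfl⟩ := IsLocalization.exists_mk'_eq p.primeCompl μ
      have hy : y ∈ p := (IsLocalization.AtPrime.mk'_mem_maximal_iff R p y s).mp hμ
      apply unit_cancel (s : A) (hu s s.2) I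
      rw [Algebra.TensorProduct.tmul_mul_tmul, mul_one, one_mul]
      have e1 : algebraMap A S (s : A) ⊗ₜ[A] (algebraMap R (AdicCompletion (maximalIdeal R) R)
          (IsLocalization.mk' R y s)) = algebraMap A S y ⊗ₜ[A] (1 : AdicCompletion (maximalIdeal R) R) := by
        have e0 : (s : A) • (algebraMap R (AdicCompletion (maximalIdeal R) R)
            (IsLocalization.mk' R y s)) = y • (1 : AdicCompletion (maximalIdeal R) R) := by
          rw [Algebra.smul_def, IsScalarTower.algebraMap_apply A R (AdicCompletion (maximalIdeal R) R),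
            ← map_mul, mul_comm, IsLocalization.mk'_spec, ← IsScalarTower.algebraMap_apply,
            Algebra.algebraMap_eq_smul_one]
        rw [Algebra.algebraMap_eq_smul_one (s : A), TensorProduct.smul_tmul, e0,
          ← TensorProduct.smul_tmul, ← Algebra.algebraMap_eq_smul_one]
      rw [e1, hI]
      exact Ideal.mem_map_of_mem _ (hm y hy)
    · rw [TensorProduct.tmul_zero]; exact I.zero_mem
    · intro x y _ _ hx hy
      rw [TensorProduct.tmul_add]; exact I.add_mem hx hy
    · intro a x _ hx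
      have : (1 : S) ⊗ₜ[A] (a • x) = ((1 : S) ⊗ₜ[A] a) * ((1 : S) ⊗ₜ[A] x) := by
        rw [Algebra.TensorProduct.tmul_mul_tmul, one_mul, smul_eq_mul]
      rw [this]
      exact Ideal.mul_mem_left _ _ hx
  -- step 2 : approximate `c` by an element of `R`
  obtain ⟨a, ha⟩ := Ideal.Quotient.mk_surjective (AdicCompletion.evalOneₐ (maximalIdeal R) c)
  have hca : c - algebraMap R (AdicCompletion (maximalIdeal R) R) a ∈
      (maximalIdeal R).map (algebraMap R (AdicCompletion (maximalIdeal R) R)) := by
    rw [← AdicCompletion.ker_evalOneₐ_eq_map _ (maximalIdeal R).fg_of_isNoetherianRing,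
      RingHom.mem_ker]
    change AdicCompletion.evalOneₐ (maximalIdeal R) (c - algebraMap R _ a) = 0
    rw [map_sub, AlgHom.commutes, ← ha, sub_eq_zero]
    rfl
  obtain ⟨x, s, rfl⟩ := IsLocalization.exists_mk'_eq p.primeCompl a
  obtain ⟨u, hu'⟩ := hu s s.2
  refine ⟨algebraMap A S x * ↑u⁻¹, ?_⟩
  have e2 : (1 : S) ⊗ₜ[A] (algebraMap R (AdicCompletion (maximalIdeal R) R)
      (IsLocalization.mk' R x s)) = (algebraMap A S x * ↑u⁻¹) ⊗ₜ[A] (1 : AdicCompletion (maximalIdeal R) R) := by
    have e0 : (s : A) • (algebraMap R (AdicCompletion (maximalIdeal R) R)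
        (IsLocalization.mk' R x s)) = x • (1 : AdicCompletion (maximalIdeal R) R) := by
      rw [Algebra.smul_def, IsScalarTower.algebraMap_apply A R (AdicCompletion (maximalIdeal R) R),
        ← map_mul, mul_comm, IsLocalization.mk'_spec, ← IsScalarTower.algebraMap_apply,
        Algebra.algebraMap_eq_smul_one]
    have e3 : (algebraMap A S (s : A) ⊗ₜ[A] (1 : AdicCompletion (maximalIdeal R) R)) *
        ((1 : S) ⊗ₜ[A] (algebraMap R (AdicCompletion (maximalIdeal R) R)
          (IsLocalization.mk' R x s))) = (algebraMap A S (s : A) ⊗ₜ[A] (1 : AdicCompletion (maximalIdeal R) R)) *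
        ((algebraMap A S x * ↑u⁻¹) ⊗ₜ[A] (1 : AdicCompletion (maximalIdeal R) R)) := by
      rw [Algebra.TensorProduct.tmul_mul_tmul, Algebra.TensorProduct.tmul_mul_tmul, mul_one, one_mul,
        mul_one, Algebra.algebraMap_eq_smul_one (s : A), TensorProduct.smul_tmul, e0,
        ← TensorProduct.smul_tmul, ← Algebra.algebraMap_eq_smul_one, ← Algebra.algebraMap_eq_smul_one,
        ← hu', mul_comm (algebraMap A S x), ← mul_assoc, Units.mul_inv, one_mul]
    have hunit : IsUnit (algebraMap A S (s : A) ⊗ₜ[A] (1 : AdicCompletion (maximalIdeal R) R)) := by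
      rw [← hu']
      exact (u.isUnit).map (Algebra.TensorProduct.includeLeftRingHom :
        S →+* S ⊗[A] AdicCompletion (maximalIdeal R) R)
    exact hunit.mul_left_cancel e3
  have : (1 : S) ⊗ₜ[A] c - (algebraMap A S x * ↑u⁻¹) ⊗ₜ[A] (1 : AdicCompletion (maximalIdeal R) R) =
      (1 : S) ⊗ₜ[A] (c - algebraMap R (AdicCompletion (maximalIdeal R) R)
        (IsLocalization.mk' R x s)) := by
    rw [TensorProduct.tmul_sub, e2]
  rw [this]
  exact step1 _ hca

theorem h2_of (hu : ∀ s ∈ p.primeCompl, IsUnit (algebraMap A S s))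
    (hm : ∀ y ∈ p, algebraMap A S y ∈ maximalIdeal S) :
    (maximalIdeal S).map (Algebra.TensorProduct.includeLeftRingHom :
        S →+* S ⊗[A] AdicCompletion (maximalIdeal R) R) ≠ ⊤ := by
  let φ : R →+* S := IsLocalization.lift (M := p.primeCompl) (g := algebraMap A S)
    (fun s => hu s s.2)
  have hφ : ∀ x, φ (algebraMap A R x) = algebraMap A S x := fun x => IsLocalization.lift_eq _ x
  have hφm : ∀ μ ∈ maximalIdeal R, φ μ ∈ maximalIdeal S := by
    intro μ hμ
    obtain ⟨y, s, rfl⟩ := IsLocalization.exists_mk'_eq p.primeCompl μ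
    have hy : y ∈ p := (IsLocalization.AtPrime.mk'_mem_maximal_iff R p y s).mp hμ
    have h1 : φ (IsLocalization.mk' R y s) * algebraMap A S s = algebraMap A S y := by
      rw [← hφ, ← map_mul, IsLocalization.mk'_spec, hφ]
    obtain ⟨u, hu'⟩ := hu s s.2
    have h2 : φ (IsLocalization.mk' R y s) = algebraMap A S y * ↑u⁻¹ := by
      rw [← h1, ← hu', mul_assoc, Units.mul_inv, mul_one]
    rw [h2]
    exact Ideal.mul_mem_right _ _ (hm y hy)
  let ρ : R ⧸ maximalIdeal R →+* ResidueField S :=
    Ideal.Quotient.lift _ ((residue S).comp φ) (fun a ha => by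
      rw [RingHom.comp_apply]
      exact (residue_eq_zero_iff _).mpr (hφm a ha))
  let g₀ : AdicCompletion (maximalIdeal R) R →+* ResidueField S :=
    ρ.comp (AdicCompletion.evalOneₐ (maximalIdeal R)).toRingHom
  let g : AdicCompletion (maximalIdeal R) R →ₐ[A] ResidueField S :=
    { g₀ with
      commutes' := fun x => by
        change ρ (AdicCompletion.evalOneₐ (maximalIdeal R) (algebraMap A _ x)) = _
        rw [IsScalarTower.algebraMap_apply A R (AdicCompletion (maximalIdeal R) R), AlgHom.commutes]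
        change (residue S) (φ (algebraMap A R x)) = _
        rw [hφ]
        rfl }
  let f : S →ₐ[A] ResidueField S := IsScalarTower.toAlgHom A S (ResidueField S)
  let Φ : S ⊗[A] AdicCompletion (maximalIdeal R) R →ₐ[A] ResidueField S :=
    Algebra.TensorProduct.lift f g (fun _ _ => Commute.all _ _)
  intro htop
  have h1 : (1 : S ⊗[A] AdicCompletion (maximalIdeal R) R) ∈
      (maximalIdeal S).map (Algebra.TensorProduct.includeLeftRingHom :
        S →+* S ⊗[A] AdicCompletion (maximalIdeal R) R) := by rw [htop]; trivial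
  have hle : (maximalIdeal S).map (Algebra.TensorProduct.includeLeftRingHom :
        S →+* S ⊗[A] AdicCompletion (maximalIdeal R) R) ≤ RingHom.ker Φ.toRingHom := by
    rw [Ideal.map_le_iff_le_comap]
    intro b hb
    rw [Ideal.mem_comap, RingHom.mem_ker]
    change Φ (b ⊗ₜ[A] 1) = 0
    rw [Algebra.TensorProduct.lift_tmul, map_one, mul_one]
    exact (residue_eq_zero_iff _).mpr hb
  have := hle h1
  rw [RingHom.mem_ker, map_one] at this
  exact one_ne_zero this

theorem Hmain (hu : ∀ s ∈ p.primeCompl, IsUnit (algebraMap A S s))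
    (hm : ∀ y ∈ p, algebraMap A S y ∈ maximalIdeal S) :
    ((maximalIdeal S).map (Algebra.TensorProduct.includeLeftRingHom :
        S →+* S ⊗[A] AdicCompletion (maximalIdeal R) R)).IsMaximal :=
  G (maximalIdeal S) (h1_of p hu hm) (h2_of p hu hm)

end H


open IsLocalRing in
/-- Let A be a Noetherian ring, B an A-algebra, q a prime ideal of B and p its preimage in A; let A_p
and B_q be the local rings at p and q and Â_p the completion of A_p at its maximal ideal pA_p. Then
the ideal generated by qB_q in B_q ⊗ Â_p is maximal. (The tensor product is formed over A; since A_p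
is a localization of A it agrees with the tensor product over A_p used in the published statement.) -/
theorem result (A B : Type u) [CommRing A] [CommRing B]
    [Algebra A B] [IsNoetherianRing A] (q : Ideal B) [q.IsPrime] :
    ((maximalIdeal (Localization.AtPrime q)).map
      (Algebra.TensorProduct.includeLeftRingHom :
        Localization.AtPrime q →+* TensorProduct A (Localization.AtPrime q)
          (AdicCompletion (maximalIdeal (Localization.AtPrime (q.under A)))
            (Localization.AtPrime (q.under A))))).IsMaximal := by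
  apply Hmain (q.under A)
  · intro s hs
    rw [IsScalarTower.algebraMap_apply A B (Localization.AtPrime q)]
    exact IsLocalization.map_units (Localization.AtPrime q) (⟨algebraMap A B s, hs⟩ : q.primeCompl)
  · intro y hy
    rw [IsScalarTower.algebraMap_apply A B (Localization.AtPrime q)]
    exact (IsLocalization.AtPrime.to_map_mem_maximal_iff (Localization.AtPrime q) q _).mpr hy

end Groth.Agent.S19475
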