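import Groth.Statements.S19479
import Groth.Agent.Lib.Helper25ComodSS

set_option autoImplicit false
universe u v w
open HopfRep

namespace Groth.Agent.S19479

open TensorProduct in
/-- Let K be a field, C a K-coalgebra and V a right C-comodule. The following are equivalent: (i) V is
the internal direct sum of a family of simple subcomodules, i.e. there is an independent family of
subcomodules W_i with sum V, each W_i nonzero and having no subcomodules inside it other than 0 and
W_i; (ii) every subcomodule of V has a complementary subcomodule. A subcomodule is a subspace W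
whose coaction lands in the image of W ⊗ C. (The source states this for left comodules; a left
comodule over C is a right comodule over the co-opposite coalgebra, so the statement is the same.) -/
theorem result {K : Type u} {C : Type v} [Field K]
    [AddCommGroup C] [Module K C] [Coalgebra K C] (V : Type w) [AddCommGroup V] [Module K V] [HopfRep.Comod K C V] :
    (∃ (ι : Type w) (W : ι → Submodule K V), iSupIndep W ∧ iSup W = ⊤ ∧ ∀ i,
        HopfRep.IsSubcomod (k := K) (A := C) (W i) ∧ W i ≠ ⊥ ∧
          ∀ W' : Submodule K V, HopfRep.IsSubcomod (k := K) (A := C) W' → W' ≤ W i → W' = ⊥ ∨ W' = W i) ↔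
      HopfRep.IsSemisimpleComod K C V := by
  open Groth.Agent.Lib.Helper25 in
  letI := dualModule K C V
  open Groth.Agent.Lib.Helper25 in
  constructor
  · rintro ⟨ι, W, -, htop, hW⟩
    rw [isSemisimpleComod_iff]
    refine isSemisimpleModule_of_isSemisimpleModule_submodule'
      (p := fun i : ι => toDualSub (W i) (hW i).1) (fun i => ?_) ?_
    · have hatom : IsAtom (toDualSub (W i) (hW i).1) := by
        rw [isAtom_dual_iff]
        exact ⟨(hW i).2.1, fun W' hW' hle => (hW i).2.2 W' hW' hle⟩
      haveI : IsSimpleModule (DualAlg K C) (toDualSub (W i) (hW i).1) :=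
        isSimpleModule_iff_isAtom.mpr hatom
      infer_instance
    · apply ofDualSub_injective (k := K) (A := C)
      rw [ofDualSub_iSup, ofDualSub_top]
      exact htop
  · intro h
    haveI : IsSemisimpleModule (DualAlg K C) V := isSemisimpleComod_iff.mp h
    obtain ⟨s, hind, hsup, hsimple⟩ :=
      IsSemisimpleModule.exists_sSupIndep_sSup_simples_eq_top (DualAlg K C) V
    refine ⟨s, fun i => ofDualSub i.1, ?_, ?_, fun i => ?_⟩
    · exact iSupIndep_ofDualSub (k := K) (A := C) _ ((sSupIndep_iff _).mp hind)
    · rw [← ofDualSub_iSup, ← sSup_eq_iSup', hsup]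
      rfl
    · have hatom := (isAtom_dual_iff i.1).mp (isSimpleModule_iff_isAtom.mp (hsimple i.1 i.2))
      exact ⟨isSubcomod_ofDualSub i.1, hatom.1, fun W' hW' hle => hatom.2 W' hW' hle⟩

end Groth.Agent.S19479
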