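import Groth.Statements.S19484
import Mathlib
import Groth.Agent.Lib.Helper23SuppSec
import Groth.Agent.Lib.Helper23HLes
import Groth.Agent.S19483
import Groth.Agent.S0182
-- import your own Groth.Agent.* helpers here

set_option autoImplicit false
set_option backward.isDefEq.respectTransparency.types false
universe u
open CategoryTheory CategoryTheory.Limits AlgebraicGeometry
open Curves

namespace Groth.Agent.S19484


open Groth.Agent.Lib.Helper23EtSupp Groth.Agent.Lib.Helper23HLes

theorem isZero_stalk_kernel {X : Scheme.{u}} {F G : EtCoh.Ab X} (φ : F ⟶ G)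
    {Ω : Type u} [Field Ω] [IsSepClosed Ω] (ξ : Spec (CommRingCat.of Ω) ⟶ X)
    (hinj : Function.Injective ((EtCoh.stalk ξ).map φ)) :
    IsZero ((EtCoh.stalk ξ).obj (kernel φ)) := by
  let S : ShortComplex (EtCoh.Ab X) := ShortComplex.mk (kernel.ι φ) φ (kernel.condition φ)
  have h2 := ((Groth.Agent.S0622.result S (kernel.ι φ)).2.1.1 inferInstance) Ω ξ
  rw [AddCommGrpCat.isZero_iff_subsingleton]
  have key : ∀ c : (EtCoh.stalk ξ).obj (kernel φ), c = 0 := by
    intro c
    apply h2
    apply hinj
    rw [map_zero, map_zero]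
    have : (EtCoh.stalk ξ).map (kernel.ι φ) ≫ (EtCoh.stalk ξ).map φ = 0 := by
      rw [← Functor.map_comp, kernel.condition, Functor.map_zero]
    exact ConcreteCategory.congr_hom this c
  exact ⟨fun a b => by rw [key a, key b]⟩

/-- cohomology of sheaves supported on closed points of a curve -/
theorem subsingleton_H_of_stalk {k : Type u} [Field k] [IsSepClosed k] {C : Scheme.{u}}
    (f : C ⟶ Spec (CommRingCat.of k)) [LocallyOfFiniteType f] [QuasiCompact f]
    (hdim : topologicalKrullDim C ≤ 1) (K : EtCoh.Ab C)
    (hgen : ∀ (Ω : Type u) [Field Ω] [IsSepClosed Ω] (ξ : Spec (CommRingCat.of Ω) ⟶ C),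
      (∀ x ∈ Set.range ξ.base, ∀ y : C, y ⤳ x → y = x) → IsZero ((EtCoh.stalk ξ).obj K))
    (q : ℕ) (hq : 0 < q) : Subsingleton (EtCoh.H C K q) :=
  Groth.Agent.Lib.Helper23SuppSec.subsingleton_H_of_supp_closedPoints C f K
    (Groth.Agent.S19483.isClosed_of_mem_supp hdim K hgen) q hq

theorem bijective_coimage_π {X : Scheme.{u}} {F G : EtCoh.Ab X} (φ : F ⟶ G) (n : ℕ)
    (h0 : Subsingleton (EtCoh.H X (kernel φ) n)) (h1 : Subsingleton (EtCoh.H X (kernel φ) (n + 1))) :
    Function.Bijective (Sheaf.H.map (Abelian.coimage.π φ) n) := by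
  let S : ShortComplex (EtCoh.Ab X) :=
    ShortComplex.mk (kernel.ι φ) (cokernel.π (kernel.ι φ)) (cokernel.condition _)
  have hS : S.ShortExact := { exact := ShortComplex.exact_cokernel _ }
  exact ⟨injective_map_g hS n h0, surjective_map_g hS n h1⟩

theorem bijective_image_ι_succ {X : Scheme.{u}} {F G : EtCoh.Ab X} (φ : F ⟶ G) (n : ℕ)
    (h0 : Subsingleton (EtCoh.H X (cokernel φ) n)) (h1 : Subsingleton (EtCoh.H X (cokernel φ) (n + 1))) :
    Function.Bijective (Sheaf.H.map (Abelian.image.ι φ) (n + 1)) := by
  let S : ShortComplex (EtCoh.Ab X) :=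
    ShortComplex.mk (kernel.ι (cokernel.π φ)) (cokernel.π φ) (kernel.condition _)
  have hS : S.ShortExact := { exact := ShortComplex.exact_kernel _ }
  exact ⟨injective_map_f hS n h0, surjective_map_f hS (n + 1) h1⟩

theorem bijective_of_parts {X : Scheme.{u}} {F G : EtCoh.Ab X} (φ : F ⟶ G) (n : ℕ)
    (h1 : Function.Bijective (Sheaf.H.map (Abelian.coimage.π φ) n))
    (h2 : Function.Bijective (Sheaf.H.map (Abelian.image.ι φ) n)) :
    Function.Bijective (Sheaf.H.map φ n) := by
  have hfac : Abelian.coimage.π φ ≫ Abelian.coimageImageComparison φ ≫ Abelian.image.ι φ = φ :=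
    Abelian.coimage_image_factorisation φ
  have h3 : Function.Bijective (Sheaf.H.map (Abelian.coimageImageComparison φ) n) := by
    have : IsIso ((EtCoh.HF X n).map (Abelian.coimageImageComparison φ)) := inferInstance
    exact bijective_of_isIso_HF_map _ n
  have : Sheaf.H.map φ n = (Sheaf.H.map (Abelian.image.ι φ) n).comp
      ((Sheaf.H.map (Abelian.coimageImageComparison φ) n).comp
        (Sheaf.H.map (Abelian.coimage.π φ) n)) := by
    ext x
    conv_lhs => rw [← hfac]
    simp only [AddMonoidHom.comp_apply, Sheaf.H.map_apply, Abelian.Ext.mk₀_comp_mk₀, Abelian.Ext.comp_assoc_of_third_deg_zero, Category.assoc]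
  rw [this]
  exact h2.comp (h3.comp h1)

/-- Let k be a separably closed field and C a curve over k, that is a scheme of finite type over k of
dimension at most one (no connectedness, smoothness, separatedness or properness assumed). Let φ : F
→ G be a morphism of torsion abelian sheaves on the small étale site of C which induces an
isomorphism on stalks at every geometric point of C lying over a generic point of an irreducible
component (a point admitting no proper generalization). Then the induced map H^q(C_ét, F) →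
H^q(C_ét, G) is an isomorphism for all q > 1; if moreover φ is an epimorphism, it is an isomorphism
for q = 1 as well. (The published statement fixes one geometric point over each generic point; the
dimension is taken at most one here.) -/
theorem result
    (k : Type u) [Field k] [IsSepClosed k] (C : Scheme.{u})
    (f : C ⟶ Spec (CommRingCat.of k)) [LocallyOfFiniteType f] [QuasiCompact f]
    (hdim : topologicalKrullDim C ≤ 1) (F G : EtCoh.Ab C) (hF : EtCoh.IsTorsion F) (hG : EtCoh.IsTorsion G)
    (φ : F ⟶ G)
    (hgen : ∀ (Ω : Type u) [Field Ω] [IsSepClosed Ω] (ξ : Spec (CommRingCat.of Ω) ⟶ C),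
      (∀ x ∈ Set.range ξ.base, ∀ y : C, y ⤳ x → y = x) → IsIso ((EtCoh.stalk ξ).map φ)) :
    (∀ q : ℕ, 1 < q → IsIso ((EtCoh.HF C q).map φ)) ∧ (Epi φ → IsIso ((EtCoh.HF C 1).map φ)) := by
  have hK : ∀ q : ℕ, 0 < q → Subsingleton (EtCoh.H C (kernel φ) q) := by
    intro q hq
    apply subsingleton_H_of_stalk f hdim _ _ q hq
    intro Ω _ _ ξ hξ
    have := hgen Ω ξ hξ
    apply isZero_stalk_kernel
    exact ((ConcreteCategory.isIso_iff_bijective _).1 this).1
  have hQ : ∀ q : ℕ, 0 < q → Subsingleton (EtCoh.H C (cokernel φ) q) := by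
    intro q hq
    apply subsingleton_H_of_stalk f hdim _ _ q hq
    intro Ω _ _ ξ hξ
    have := hgen Ω ξ hξ
    rw [← Groth.Agent.S0182.surjective_stalk_iff]
    exact ((ConcreteCategory.isIso_iff_bijective _).1 this).2
  constructor
  · intro q hq
    obtain ⟨n, rfl⟩ : ∃ n, q = n + 1 := ⟨q - 1, by omega⟩
    apply isIso_HF_map_of_bijective
    apply bijective_of_parts
    · exact bijective_coimage_π φ (n + 1) (hK _ (by omega)) (hK _ (by omega))
    · exact bijective_image_ι_succ φ n (hQ _ (by omega)) (hQ _ (by omega))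
  · intro hepi
    apply isIso_HF_map_of_bijective
    apply bijective_of_parts
    · exact bijective_coimage_π φ 1 (hK _ (by omega)) (hK _ (by omega))
    · have hz : IsZero (cokernel φ) := isZero_cokernel_of_epi φ
      exact bijective_image_ι_succ φ 0 (Sheaf.subsingleton_H_of_isZero hz 0) (hQ _ (by omega))

end Groth.Agent.S19484
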