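import Groth.Statements.S19485
import Mathlib
import Groth.Agent.Lib.Helper22Crimp

set_option autoImplicit false
universe u
open Crimp

namespace Groth.Agent.S19485

/-- The criterion for closedness under multiplication on which the description of the stratum rests.
Over R = k⟦t⟧ with k an algebraically closed field of characteristic zero, let S̃ = k⟦x⟧ regarded as
an R-algebra through t ↦ x ^ 3, that is S̃ = R[x] / (x ^ 3 - t). Let m, n be natural numbers with m
not divisible by 3, and let g be a power series with nonzero constant term. Then the R-submodule of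
S̃ spanned by 1 and x ^ m g together with the ideal x ^ n S̃ is closed under multiplication if and
only if n ≤ 2m. (The published proposition goes on to describe the stratum of crimps with these
invariants as irreducible of dimension ⌊(n - m)/3⌋ with a normal form for g; only the closedness
criterion is stated here.) -/
theorem result {k : Type u} [Field k] [IsAlgClosed k] [CharZero k]
    (m n : ℕ) (hm : ¬ 3 ∣ m) (x g : W4c1hurwitzcpt.RootDisk 3 k)
    (hx : W4c1hurwitzcpt.RootDisk.val x = PowerSeries.X) (hg : PowerSeries.order (W4c1hurwitzcpt.RootDisk.val g) = 0)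
    (M : Submodule (PowerSeries k) (W4c1hurwitzcpt.RootDisk 3 k))
    (hM : M = Submodule.span (PowerSeries k) {1, x ^ m * g} ⊔
      (Ideal.span {x ^ n} : Ideal (W4c1hurwitzcpt.RootDisk 3 k)).restrictScalars (PowerSeries k)) :
    (∀ a ∈ M, ∀ b ∈ M, a * b ∈ M) ↔ n ≤ 2 * m := by
  subst hM
  have hJ : ∀ s : W4c1hurwitzcpt.RootDisk 3 k, ∀ j ∈
      (Ideal.span {x ^ n} : Ideal (W4c1hurwitzcpt.RootDisk 3 k)).restrictScalars (PowerSeries k),
      s * j ∈ (Ideal.span {x ^ n} :
        Ideal (W4c1hurwitzcpt.RootDisk 3 k)).restrictScalars (PowerSeries k) := by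
    intro s j hj
    rw [Submodule.restrictScalars_mem] at hj ⊢
    exact Ideal.mul_mem_left _ s hj
  rw [Groth.Agent.Lib.Helper22.crimp_mul_closed_iff _ _ hJ]
  have hval_alg : ∀ a : PowerSeries k,
      W4c1hurwitzcpt.RootDisk.val (algebraMap (PowerSeries k) (W4c1hurwitzcpt.RootDisk 3 k) a) =
        PowerSeries.expand 3 (by norm_num) a := fun a => rfl
  have hU : (W4c1hurwitzcpt.RootDisk.val (x ^ m * g)).order = (m : ℕ∞) := by
    rw [map_mul, map_pow, hx, PowerSeries.order_mul, PowerSeries.order_X_pow, hg, add_zero]
  constructor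
  · intro hmem
    by_contra hlt
    push Not at hlt
    obtain ⟨y, hy, j, hj, hsum⟩ := Submodule.mem_sup.1 hmem
    obtain ⟨a, b, rfl⟩ := Submodule.mem_span_pair.1 hy
    rw [Submodule.restrictScalars_mem] at hj
    obtain ⟨s, rfl⟩ := Ideal.mem_span_singleton'.1 hj
    have h2 := congrArg W4c1hurwitzcpt.RootDisk.val hsum
    simp only [Algebra.smul_def, map_add, map_mul, mul_one, hval_alg, map_pow, hx] at h2
    refine Groth.Agent.Lib.Helper22.crimp_key3 m n hm hlt a b (W4c1hurwitzcpt.RootDisk.val s)
      (W4c1hurwitzcpt.RootDisk.val (x ^ m * g)) hU ?_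
    simp only [map_mul, map_pow, hx]
    rw [← h2]
    ring
  · intro hle
    refine Submodule.mem_sup_right ?_
    rw [Submodule.restrictScalars_mem]
    refine Ideal.mem_span_singleton'.2 ⟨x ^ (2 * m - n) * g * g, ?_⟩
    have : x ^ (2 * m - n) * g * g * x ^ n = x ^ (2 * m - n + n) * g * g := by ring
    rw [this, Nat.sub_add_cancel hle]
    ring

end Groth.Agent.S19485
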