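import Groth.Statements.S19486
import Mathlib
import Groth.Agent.Lib.Helper22Crimp

set_option autoImplicit false
universe u
open Crimp

namespace Groth.Agent.S19486

/-- The emptiness of the stratum rests on the following computation. Over R = k⟦t⟧ with k an
algebraically closed field of characteristic zero, let S̃ = S̃₁ × R where S̃₁ = k⟦x⟧ is regarded as
an R-algebra through t ↦ x ^ 2, that is S̃₁ = R[x] / (x ^ 2 - t), with R embedded diagonally in the
product. Let m be odd, n > 2m, and let g be a power series with nonzero constant term. Then the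
R-submodule of S̃ spanned by 1 = (1, 1) and (x ^ m g, 0) together with the ideal x ^ n S̃₁ × 0 is
not closed under multiplication. (The published item concludes that the corresponding stratum of
crimps is empty; only this computation is stated here, with the ideal read as x ^ n S̃₁ × 0.) -/
theorem result {k : Type u} [Field k] [IsAlgClosed k] [CharZero k]
    (m n : ℕ) (hm : Odd m) (hmn : 2 * m < n) (x g : W4c1hurwitzcpt.RootDisk 2 k)
    (hx : W4c1hurwitzcpt.RootDisk.val x = PowerSeries.X) (hg : PowerSeries.order (W4c1hurwitzcpt.RootDisk.val g) = 0)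
    (M : Submodule (PowerSeries k) (W4c1hurwitzcpt.RootDisk 2 k × PowerSeries k))
    (hM : M = Submodule.span (PowerSeries k) {(1 : W4c1hurwitzcpt.RootDisk 2 k × PowerSeries k), (x ^ m * g, 0)} ⊔
      ((Ideal.span {x ^ n} : Ideal (W4c1hurwitzcpt.RootDisk 2 k)).restrictScalars (PowerSeries k)).prod ⊥) :
    ∃ a ∈ M, ∃ b ∈ M, a * b ∉ M := by
  subst hM
  have hval_alg : ∀ a : PowerSeries k,
      W4c1hurwitzcpt.RootDisk.val (algebraMap (PowerSeries k) (W4c1hurwitzcpt.RootDisk 2 k) a) =
        PowerSeries.expand 2 (by norm_num) a := fun a => rfl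
  have hU : (W4c1hurwitzcpt.RootDisk.val (x ^ m * g)).order = (m : ℕ∞) := by
    rw [map_mul, map_pow, hx, PowerSeries.order_mul, PowerSeries.order_X_pow, hg, add_zero]
  have hu : ((x ^ m * g, 0) : W4c1hurwitzcpt.RootDisk 2 k × PowerSeries k) ∈
      Submodule.span (PowerSeries k)
        {(1 : W4c1hurwitzcpt.RootDisk 2 k × PowerSeries k), (x ^ m * g, 0)} ⊔
      ((Ideal.span {x ^ n} : Ideal (W4c1hurwitzcpt.RootDisk 2 k)).restrictScalars
        (PowerSeries k)).prod ⊥ :=
    Submodule.mem_sup_left (Submodule.subset_span (by simp))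
  refine ⟨_, hu, _, hu, ?_⟩
  intro hmem
  obtain ⟨y, hy, j, hj, hsum⟩ := Submodule.mem_sup.1 hmem
  obtain ⟨a, b, rfl⟩ := Submodule.mem_span_pair.1 hy
  obtain ⟨j1, j2⟩ := j
  rw [Submodule.mem_prod] at hj
  obtain ⟨hj1, hj2⟩ := hj
  simp only at hj1 hj2
  rw [Submodule.restrictScalars_mem] at hj1
  obtain ⟨s, rfl⟩ := Ideal.mem_span_singleton'.1 hj1
  rw [Submodule.mem_bot] at hj2
  subst hj2
  have h1 := congrArg Prod.fst hsum
  have h2 := congrArg Prod.snd hsum
  simp only [Prod.fst_add, Prod.snd_add, Prod.smul_fst, Prod.smul_snd, Prod.fst_one, Prod.snd_one,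
    Prod.fst_mul, Prod.snd_mul, smul_eq_mul, mul_one, mul_zero, add_zero] at h1 h2
  subst h2
  have h3 := congrArg W4c1hurwitzcpt.RootDisk.val h1
  simp only [Algebra.smul_def, map_add, map_mul, mul_one, hval_alg, map_pow, hx, map_zero,
    zero_add] at h3
  refine Groth.Agent.Lib.Helper22.crimp_key2 m n hm hmn b (W4c1hurwitzcpt.RootDisk.val s)
    (W4c1hurwitzcpt.RootDisk.val (x ^ m * g)) hU ?_
  simp only [map_mul, map_pow, hx]
  rw [← h3]
  ring

end Groth.Agent.S19486
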