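import Groth.Statements.S19488

set_option autoImplicit false
universe u
open CategoryTheory CategoryTheory.Limits AlgebraicGeometry
open W4c1frobunstiva

namespace Groth.Agent.S19488

/-- pushforward along a topological embedding is faithful -/
theorem faithful_pushforward {S T : Scheme.{u}} (f : S ⟶ T) (hf : Topology.IsInducing f.base) :
    (Scheme.Modules.pushforward f).Faithful where
  map_injective := by
    intro M N φ ψ h
    apply Scheme.Modules.hom_ext
    intro V
    obtain ⟨t, ht, htV⟩ := hf.isOpen_iff.mp V.2
    obtain rfl : f ⁻¹ᵁ ⟨t, ht⟩ = V := TopologicalSpace.Opens.ext htV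
    have := congrArg (fun χ => Scheme.Modules.Hom.app χ ⟨t, ht⟩) h
    exact this

/-- a right exact functor: kernel comparison of an epi is epi -/
theorem epi_kernelComparison {C D : Type*} [Category C] [Category D] [Abelian C] [Abelian D]
    (F : C ⥤ D) [F.Additive] [PreservesFiniteColimits F] {A B : C} (ψ : A ⟶ B) [Epi ψ] :
    Epi (kernelComparison ψ F) := by
  have hSc : (ShortComplex.kernelSequence ψ).Exact := ShortComplex.kernelSequence_exact ψ
  have he : Epi (ShortComplex.kernelSequence ψ).g := inferInstanceAs (Epi ψ)
  have hex : ((ShortComplex.kernelSequence ψ).map F).Exact :=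
    hSc.map_of_epi_of_preservesCokernel F he inferInstance
  rw [ShortComplex.exact_iff_epi_kernel_lift] at hex
  exact hex


/-- Fix a closed immersion of schemes f : S → T, an O_T-module G, an O_S-module E and an epimorphism ψ :
G → f_*E. Then the morphism ψ′ : f^*G → E that corresponds to ψ under the adjunction between
pullback and pushforward (it is the pullback f^*ψ followed by the counit f^*f_*E → E, an isomorphism
for a closed immersion) is an epimorphism, and the canonical map f^*(ker ψ) → ker(f^*ψ) is an
epimorphism. (The published statement takes G and E locally free, which these two assertions do not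
use.) -/
theorem result
    {S T : Scheme.{u}} (f : S ⟶ T) [IsClosedImmersion f] (G : T.Modules) (E : S.Modules)
    (ψ : G ⟶ (Scheme.Modules.pushforward f).obj E) [Epi ψ] :
    Epi (((Scheme.Modules.pullbackPushforwardAdjunction f).homEquiv G E).symm ψ) ∧
      Epi (kernelComparison ψ (Scheme.Modules.pullback f)) := by
  have hfaith := faithful_pushforward f f.isClosedEmbedding.isInducing
  refine ⟨?_, ?_⟩
  · rw [Adjunction.homEquiv_counit]
    infer_instance
  · have : PreservesFiniteColimits (Scheme.Modules.pullback f) := by
      have := (Scheme.Modules.pullbackPushforwardAdjunction f).leftAdjoint_preservesColimits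
      infer_instance
    exact epi_kernelComparison _ ψ

end Groth.Agent.S19488
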