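import Groth.Statements.S19498
import Groth.Agent.Lib.Helper2CanonEvA
import Groth.Agent.Lib.Helper2GrauertG
import Groth.Agent.Lib.Helper23SecTw6

set_option autoImplicit false
universe u
open CategoryTheory CategoryTheory.Limits AlgebraicGeometry
open Canon

namespace Groth.Agent.S19498

/-- Let S be a locally Noetherian scheme and f : X ⟶ S a locally projective morphism, smooth of relative
dimension n, whose fibres are non-empty and geometrically connected; let ω be an n-th exterior power
of the sheaf of relative differentials of f (the relative canonical sheaf K_{X/S}) and m ≥ 1 an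
integer such that K^{⊗m} is trivial on fibres: for every point s of S the restriction of K^{⊗m} to
the fibre X_s is isomorphic to O_{X_s}. Assume H^1(X_s, O_{X_s}) = 0 for every point s of S. Then
the evaluation map f^* f_* K^{⊗m} ⟶ K^{⊗m}, the counit of the adjunction between pullback and
pushforward of modules, is an isomorphism. (The published statement has f projective and smooth of
possibly varying relative dimension; here f is taken locally projective of constant relative
dimension n.) -/
theorem result
    {X S : Scheme.{u}} [IsLocallyNoetherian S] (f : X ⟶ S)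
    (hproj : RedSub.IsLocallyProjective (Over.mk f))
    (n : ℕ) [SmoothOfRelativeDimension n f] [GeometricallyConnected f]
    (ω : X.Modules) (hω : Canon.IsTopDiff f n ω) (m : ℕ) (hm : 1 ≤ m)
    (htriv : ∀ s : ↥S, Nonempty ((Scheme.Modules.pullback (f.fiberι s)).obj (CohB1.tensorPow ω m) ≅
      Coh.structureModule (f.fiber s)))
    (hH1 : ∀ s : ↥S, Subsingleton (Coh.HH (f.fiber s) (Coh.structureModule (f.fiber s)) 1)) :
    IsIso ((Scheme.Modules.pullbackPushforwardAdjunction f).counit.app (CohB1.tensorPow ω m)) := by
  haveI : IsProper f := Groth.Agent.Lib.Helper2.CanonEvA.isProper_of_isLocallyProjective f hproj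
  haveI : Smooth f := SmoothOfRelativeDimension.smooth n f
  haveI : Flat f := inferInstance
  haveI : LocallyOfFinitePresentation f := inferInstance
  haveI : QuasiSeparated f := inferInstance
  have hinv := Groth.Agent.Lib.Helper23.SecTw.isInvertible_tensorPow
    (Groth.Agent.Lib.Helper2.TopDiffD.isInvertible_of_isTopDiff f n ω hω) m
  exact (Groth.Agent.Lib.Helper2.GrauertG.main_H1 f
    (Groth.Agent.Lib.Helper2.CanonEvA.betti_zero_eq_one f)
    (fun s => Groth.Agent.Lib.Helper2.GrauertG.betti_one_eq_zero f s (hH1 s)) _ hinv htriv).2

end Groth.Agent.S19498
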