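import Groth.Statements.S19502
import Mathlib.Topology.Algebra.InfiniteSum.Real
import Mathlib.Analysis.Normed.Group.InfiniteSum
import Mathlib.Tactic.FieldSimp
import Mathlib.Tactic.Ring
import Mathlib.Tactic.Linarith

set_option autoImplicit false
universe u
open W4c3ghconstell

namespace Groth.Agent.S19502

/-- Let ι index the irreducible representations, θ : ι → ℚ a weight which is negative exactly on the
finite set D₋, h h' : ι → ℕ with h' ≤ h pointwise (the isotypic dimensions of an object and of a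
sub-object) and Σ_i θ_i h_i summable. For a finite set D of indices put S_D = Σ_{i ∉ D} θ_i h_i, d =
#(D ∖ D₋) and θ̃_D = Σ_{i ∈ D} θ_i h'_i + (S_D / d) · Σ_{i ∈ D ∖ D₋} h'_i / h_i, the modified weight
attached to the parameters chosen for D (a quotient by zero is read as zero). Then for finite sets
D₋ ⊆ D ⊆ D̃ contained in the locus θ ≠ 0: (first error term) θ̃_{D̃} − θ̃_D = Σ_{τ ∈ D̃ ∖ D} (θ_τ
h_τ + S_{D̃}/d̃) · (h'_τ/h_τ − (1/d) Σ_{σ ∈ D ∖ D₋} h'_σ/h_σ); (second error term) Σ_i θ_i h'_i −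
θ̃_D = Σ_{τ ∉ D} θ_τ h_τ · (h'_τ/h_τ − (1/d) Σ_{σ ∈ D ∖ D₋} h'_σ/h_σ). -/
theorem result {ι : Type u} [DecidableEq ι]
    (θ : ι → ℚ) (h h' : ι → ℕ) (hle : ∀ i, h' i ≤ h i) (hfin : {i | θ i < 0}.Finite)
    (hsum : Summable (fun i => (θ i : ℝ) * (h i : ℝ))) (D D' : Finset ι)
    (hDm : hfin.toFinset ⊆ D) (hDD' : D ⊆ D') (hsupp : ∀ i ∈ D', θ i ≠ 0) :
    (((∑ i ∈ D', (θ i : ℝ) * (h' i : ℝ)) + ((∑' i, if i ∈ D' then (0 : ℝ) else (θ i : ℝ) * (h i : ℝ)) / ((D' \ hfin.toFinset).card : ℝ)) * (∑ σ ∈ D' \ hfin.toFinset, ((h' σ : ℝ) / (h σ : ℝ)))) - ((∑ i ∈ D, (θ i : ℝ) * (h' i : ℝ)) + ((∑' i, if i ∈ D then (0 : ℝ) else (θ i : ℝ) * (h i : ℝ)) / ((D \ hfin.toFinset).card : ℝ)) * (∑ σ ∈ D \ hfin.toFinset, ((h' σ : ℝ) / (h σ : ℝ)))) =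
      ∑ τ ∈ D' \ D, ((θ τ : ℝ) * (h τ : ℝ) + (∑' i, if i ∈ D' then (0 : ℝ) else (θ i : ℝ) * (h i : ℝ)) / ((D' \ hfin.toFinset).card : ℝ)) *
        (((h' τ : ℝ) / (h τ : ℝ)) - (1 / ((D \ hfin.toFinset).card : ℝ)) * (∑ σ ∈ D \ hfin.toFinset, ((h' σ : ℝ) / (h σ : ℝ))))) ∧
    ((∑' i, (θ i : ℝ) * (h' i : ℝ)) - ((∑ i ∈ D, (θ i : ℝ) * (h' i : ℝ)) + ((∑' i, if i ∈ D then (0 : ℝ) else (θ i : ℝ) * (h i : ℝ)) / ((D \ hfin.toFinset).card : ℝ)) * (∑ σ ∈ D \ hfin.toFinset, ((h' σ : ℝ) / (h σ : ℝ)))) =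
      ∑' τ, if τ ∈ D then (0 : ℝ) else (θ τ : ℝ) * (h τ : ℝ) *
        (((h' τ : ℝ) / (h τ : ℝ)) - (1 / ((D \ hfin.toFinset).card : ℝ)) * (∑ σ ∈ D \ hfin.toFinset, ((h' σ : ℝ) / (h σ : ℝ))))) := by
  classical
  set Dm := hfin.toFinset with hDm_def
  set a : ι → ℝ := fun i => (θ i : ℝ) * (h i : ℝ) with ha
  set r : ι → ℝ := fun i => (h' i : ℝ) / (h i : ℝ) with hr
  have F1 : ∀ i, (θ i : ℝ) * (h' i : ℝ) = a i * r i := by
    intro i
    by_cases hi : h i = 0
    · have : h' i = 0 := Nat.le_zero.mp (hi ▸ hle i)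
      simp [a, r, hi, this]
    · have : (h i : ℝ) ≠ 0 := by exact_mod_cast hi
      simp only [a, r]
      field_simp
  have hg : ∀ E : Finset ι, Summable (fun i => if i ∈ E then (0:ℝ) else a i) := by
    intro E
    have : (fun i => if i ∈ E then (0:ℝ) else a i) = fun i => a i - (if i ∈ E then a i else 0) := by
      funext i; split_ifs <;> simp
    rw [this]
    exact hsum.sub (summable_of_ne_finset_zero (s := E) (fun i hi => by simp [hi]))
  -- decomposition of the index sets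
  have hT : D' \ Dm = (D \ Dm) ∪ (D' \ D) := by
    ext i
    simp only [Finset.mem_sdiff, Finset.mem_union]
    constructor
    · rintro ⟨h1, h2⟩
      by_cases hiD : i ∈ D
      · exact Or.inl ⟨hiD, h2⟩
      · exact Or.inr ⟨h1, hiD⟩
    · rintro (⟨h1, h2⟩ | ⟨h1, h2⟩)
      · exact ⟨hDD' h1, h2⟩
      · exact ⟨h1, fun h3 => h2 (hDm h3)⟩
  have hdisj : Disjoint (D \ Dm) (D' \ D) := by
    rw [Finset.disjoint_left]
    intro i h1 h2
    exact (Finset.mem_sdiff.mp h2).2 (Finset.mem_sdiff.mp h1).1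
  have hR : (∑ σ ∈ D' \ Dm, r σ) = (∑ σ ∈ D \ Dm, r σ) + ∑ τ ∈ D' \ D, r τ := by
    rw [hT, Finset.sum_union hdisj]
  have hd : ((D' \ Dm).card : ℝ) = ((D \ Dm).card : ℝ) + ((D' \ D).card : ℝ) := by
    rw [hT, Finset.card_union_of_disjoint hdisj]
    push_cast; ring
  have hD'sum : (∑ i ∈ D', (θ i : ℝ) * (h' i : ℝ)) =
      (∑ i ∈ D, (θ i : ℝ) * (h' i : ℝ)) + ∑ τ ∈ D' \ D, a τ * r τ := by
    rw [← Finset.sum_sdiff hDD', add_comm]
    congr 1
    exact Finset.sum_congr rfl (fun i _ => F1 i)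
  have F3 : (∑' i, if i ∈ D then (0:ℝ) else a i) =
      (∑' i, if i ∈ D' then (0:ℝ) else a i) + ∑ τ ∈ D' \ D, a τ := by
    have hTs : Summable (fun i => if i ∈ D' \ D then a i else 0) :=
      summable_of_ne_finset_zero (s := D' \ D) (fun i hi => by simp [hi])
    have e1 : (∑ τ ∈ D' \ D, a τ) = ∑' i, (if i ∈ D' \ D then a i else 0) := by
      rw [tsum_eq_sum (s := D' \ D) (fun i hi => by simp [hi])]
      exact Finset.sum_congr rfl (fun i hi => by simp [hi])
    rw [e1, ← (hg D').tsum_add hTs]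
    congr 1
    funext i
    by_cases h1 : i ∈ D
    · have h2 : i ∈ D' := hDD' h1
      simp [h1, h2]
    · by_cases h2 : i ∈ D'
      · simp [h1, h2]
      · simp [h1, h2]
  set S := ∑' i, if i ∈ D then (0:ℝ) else a i with hS
  set S' := ∑' i, if i ∈ D' then (0:ℝ) else a i with hS'
  set R := ∑ σ ∈ D \ Dm, r σ with hRdef
  set d : ℝ := ((D \ Dm).card : ℝ) with hddef
  constructor
  · -- first error term
    rw [hR, hd, hD'sum]
    have hsumT : (∑ τ ∈ D' \ D, (a τ + S' / (d + ((D' \ D).card : ℝ))) * (r τ - 1 / d * R)) =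
        (∑ τ ∈ D' \ D, a τ * r τ) - (1 / d * R) * (∑ τ ∈ D' \ D, a τ)
          + (S' / (d + ((D' \ D).card : ℝ))) * (∑ τ ∈ D' \ D, r τ)
          - ((D' \ D).card : ℝ) * ((S' / (d + ((D' \ D).card : ℝ))) * (1 / d * R)) := by
      have : ∀ τ ∈ D' \ D, (a τ + S' / (d + ((D' \ D).card : ℝ))) * (r τ - 1 / d * R) =
          a τ * r τ - (1 / d * R) * a τ + (S' / (d + ((D' \ D).card : ℝ))) * r τ
            - (S' / (d + ((D' \ D).card : ℝ))) * (1 / d * R) := by
        intro τ _; ring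
      rw [Finset.sum_congr rfl this, Finset.sum_sub_distrib, Finset.sum_add_distrib,
        Finset.sum_sub_distrib, Finset.sum_const, nsmul_eq_mul, ← Finset.mul_sum, ← Finset.mul_sum]
    rw [hsumT]
    have hTa : (∑ τ ∈ D' \ D, a τ) = S - S' := by rw [F3]; ring
    rw [hTa]
    by_cases hd0 : d = 0
    · have hR0 : R = 0 := by
        have : D \ Dm = ∅ := by
          have : (D \ Dm).card = 0 := by
            have h0 : ((D \ Dm).card : ℝ) = 0 := hd0
            exact_mod_cast h0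
          exact Finset.card_eq_zero.mp this
        rw [hRdef, this, Finset.sum_empty]
      rw [hR0, hd0]
      simp only [mul_zero, zero_mul, sub_zero, add_zero, zero_add]
      ring
    · have hd' : d + ((D' \ D).card : ℝ) ≠ 0 := by
        have h1 : (0:ℝ) ≤ ((D' \ D).card : ℝ) := Nat.cast_nonneg _
        have h2 : (0:ℝ) < d := lt_of_le_of_ne (Nat.cast_nonneg _) (Ne.symm hd0)
        linarith
      field_simp
      ring
  · -- second error term
    have habs : Summable (fun i => a i * r i) := by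
      apply Summable.of_norm_bounded (g := fun i => |a i|) hsum.abs
      intro i
      rw [Real.norm_eq_abs, abs_mul]
      have hr1 : |r i| ≤ 1 := by
        simp only [r]
        rw [abs_of_nonneg (by positivity)]
        by_cases hi : h i = 0
        · simp [hi]
        · have hpos : (0:ℝ) < (h i : ℝ) := by exact_mod_cast Nat.pos_of_ne_zero hi
          rw [div_le_one hpos]
          exact_mod_cast hle i
      calc |a i| * |r i| ≤ |a i| * 1 := by
            apply mul_le_mul_of_nonneg_left hr1 (abs_nonneg _)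
        _ = |a i| := mul_one _
    have hgr : Summable (fun i => if i ∈ D then (0:ℝ) else a i * r i) := by
      have : (fun i => if i ∈ D then (0:ℝ) else a i * r i) =
          fun i => a i * r i - (if i ∈ D then a i * r i else 0) := by
        funext i; split_ifs <;> simp
      rw [this]
      exact habs.sub (summable_of_ne_finset_zero (s := D) (fun i hi => by simp [hi]))
    have e1 : (∑' i, (θ i : ℝ) * (h' i : ℝ)) =
        (∑ i ∈ D, (θ i : ℝ) * (h' i : ℝ)) + ∑' i, (if i ∈ D then (0:ℝ) else a i * r i) := by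
      have hDs : Summable (fun i => if i ∈ D then a i * r i else 0) :=
        summable_of_ne_finset_zero (s := D) (fun i hi => by simp [hi])
      have e2 : (∑ i ∈ D, (θ i : ℝ) * (h' i : ℝ)) = ∑' i, (if i ∈ D then a i * r i else 0) := by
        rw [tsum_eq_sum (s := D) (fun i hi => by simp [hi])]
        exact Finset.sum_congr rfl (fun i hi => by simp [hi, F1 i])
      rw [e2, ← hDs.tsum_add hgr]
      congr 1
      funext i
      rw [F1 i]
      split_ifs <;> simp
    have e3 : (∑' τ, if τ ∈ D then (0 : ℝ) else a τ * (r τ - 1 / d * R)) =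
        (∑' i, (if i ∈ D then (0:ℝ) else a i * r i)) - (1 / d * R) * S := by
      rw [hS, ← tsum_mul_left, ← hgr.tsum_sub ((hg D).mul_left _)]
      congr 1
      funext i
      split_ifs <;> ring
    rw [e1, e3]
    ring

end Groth.Agent.S19502
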