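import Groth.Statements.S19658
import Groth.Agent.Lib.Helper3HensSec
import Groth.Agent.Lib.Helper3MulEtale
import Mathlib

set_option autoImplicit false
set_option linter.style.haveILetI false
universe u
open CategoryTheory CategoryTheory.Limits MonoidalCategory CartesianMonoidalCategory AlgebraicGeometry
open Neron

namespace Groth.Agent.S19658

open Groth.Agent.Lib.Helper3.TorsKer Groth.Agent.Lib.Helper3.HensLift MonObj GrpObj

/-- The first display of the lemma, in the generality its argument gives. Let R be a henselian local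
ring with residue field k, G a commutative group scheme over Spec R that is smooth, separated and
quasi-compact, and N a natural number which is a unit in R. Then every k-valued point of G killed by
N lifts to exactly one R-valued point of G killed by N; that is, reduction G(R)[N] → G(k)[N] is a
bijection on N-torsion. (The text applies this to the Néron model of an abelian variety over a
henselian discrete valuation ring, where G(R) = A(K).) -/
theorem result
    (R : Type u) [CommRing R] [HenselianLocalRing R]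
    (G : Over (Spec (CommRingCat.of R))) [GrpObj G] [IsCommMonObj G]
    [Smooth G.hom] [IsSeparated G.hom] [QuasiCompact G.hom]
    (N : ℕ) (hN : IsUnit (N : R))
    (τ : Over.mk (Spec.map (CommRingCat.ofHom (IsLocalRing.residue R))) ⟶ G)
    (hτ : τ ∈ AbDual.torsPts G N (Over.mk (Spec.map (CommRingCat.ofHom (IsLocalRing.residue R))))) :
    ∃! σ : Over.mk (𝟙 (Spec (CommRingCat.of R))) ⟶ G,
      σ ∈ AbDual.torsPts G N (Over.mk (𝟙 (Spec (CommRingCat.of R)))) ∧
        Over.homMk (Spec.map (CommRingCat.ofHom (IsLocalRing.residue R))) (Category.comp_id _) ≫ σ = τ := by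
  -- `[N]` is étale
  have hN' : IsUnit (((N : ℕ) : ℤ) : Γ(Spec (CommRingCat.of R), ⊤)) := by
    have h1 := hN.map (Scheme.ΓSpecIso (CommRingCat.of R)).inv.hom
    rw [map_natCast] at h1
    simpa using h1
  have het : Etale (mulHom G N) := by
    have h2 := Groth.Agent.Lib.Helper3.MulEtale.etale_zpow G (N : ℤ) hN'
    rw [zpow_natCast] at h2
    exact h2
  haveI : Etale (kerπ G N) := by
    haveI := het
    exact inferInstanceAs (Etale (pullback.snd (mulHom G N) (unitSec G)))
  let Tk : Over (Spec (CommRingCat.of R)) :=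
    Over.mk (Spec.map (CommRingCat.ofHom (IsLocalRing.residue R)))
  let TR : Over (Spec (CommRingCat.of R)) := Over.mk (𝟙 (Spec (CommRingCat.of R)))
  let r : Tk ⟶ TR :=
    Over.homMk (Spec.map (CommRingCat.ofHom (IsLocalRing.residue R))) (Category.comp_id _)
  let φ₀ := equivKer G N Tk ⟨τ, hτ⟩
  obtain ⟨σK, hσK1, hσK2⟩ := exists_section (kerπ G N) φ₀.1 φ₀.2
  let σ := (equivKer G N TR).symm ⟨σK, hσK1⟩
  have hext : ∀ {W : Scheme.{u}} (a b : W ⟶ Ker G N), a ≫ kerι G N = b ≫ kerι G N →
      a ≫ kerπ G N = b ≫ kerπ G N → a = b := fun a b h1 h2 => pullback.hom_ext h1 h2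
  have key : ∀ (σ' : {x : TR ⟶ G // x ^ N = 1}),
      r ≫ σ'.1 = τ ↔ cpt R ≫ (equivKer G N TR σ').1 = φ₀.1 := by
    intro σ'
    have e1 : (equivKer G N TR σ').1 ≫ kerι G N = σ'.1.left :=
      pullback.lift_fst _ _ _
    have e2 : (equivKer G N TR σ').1 ≫ kerπ G N = 𝟙 _ :=
      pullback.lift_snd _ _ _
    have e3 : φ₀.1 ≫ kerι G N = τ.left :=
      pullback.lift_fst _ _ _
    have e4 : φ₀.1 ≫ kerπ G N = cpt R :=
      pullback.lift_snd _ _ _
    have e5 : (r ≫ σ'.1).left = cpt R ≫ σ'.1.left := rfl
    constructor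
    · intro h
      apply hext
      · have h3 := congrArg (fun f => f.left) h
        rw [Category.assoc, e1, e3, ← e5]
        exact h3
      · rw [Category.assoc, e2, e4]
        exact Category.comp_id _
    · intro h
      ext
      have h3 := congrArg (fun f => f ≫ kerι G N) h
      simp only [Category.assoc] at h3
      rw [e1, e3] at h3
      rw [e5]
      exact h3
  refine ⟨σ.1, ⟨σ.2, ?_⟩, ?_⟩
  · rw [key σ]
    simp only [σ, Equiv.apply_symm_apply]
    exact hσK2
  · rintro σ' ⟨hσ'1, hσ'2⟩
    have h4 := (key ⟨σ', hσ'1⟩).mp hσ'2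
    have h5 : (equivKer G N TR ⟨σ', hσ'1⟩).1 = σK := by
      refine section_unique (kerπ G N) _ _ (equivKer G N TR ⟨σ', hσ'1⟩).2 hσK1 ?_
      rw [h4, hσK2]
    have h6 : (⟨σ', hσ'1⟩ : {x : TR ⟶ G // x ^ N = 1}) = σ := by
      rw [Equiv.eq_symm_apply]
      exact Subtype.ext h5
    exact congrArg Subtype.val h6

end Groth.Agent.S19658
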