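import Groth.Statements.S19509
import Groth.Agent.S19658
-- import your own Groth.Agent.* helpers here

set_option autoImplicit false
universe u
open CategoryTheory MonoidalCategory CartesianMonoidalCategory MonObj GrpObj AlgebraicGeometry
open Neron

namespace Groth.Agent.S19509

open IsLocalRing

/-- Two `k`-points of `X` with the same image point and the same image in `Y`, where the image in
`Y` has trivial residue field extension, coincide. -/
theorem hom_ext_of_field {k : Type u} [Field k] {X Y : Scheme.{u}} (π : X ⟶ Y)
    (a b : Spec (CommRingCat.of k) ⟶ X) (hab : a ≫ π = b ≫ π)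
    (hpt : a (closedPoint k) = b (closedPoint k))
    (hsurj : Function.Surjective
      (Y.descResidueField (Scheme.stalkClosedPointTo (a ≫ π))).hom) :
    a = b := by
  apply (Scheme.SpecToEquivOfField k X).injective
  rw [Scheme.SpecToEquivOfField_eq_iff]
  refine ⟨hpt, ?_⟩
  simp only [Scheme.SpecToEquivOfField_apply_snd]
  set da := X.descResidueField (Scheme.stalkClosedPointTo a) with hda
  set db := X.descResidueField (Scheme.stalkClosedPointTo b) with hdb
  have h1 : Y.descResidueField (Scheme.stalkClosedPointTo (a ≫ π)) =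
      π.residueFieldMap (a (closedPoint k)) ≫ da :=
    Scheme.descResidueField_stalkClosedPointTo_comp π a
  have h2 : Y.descResidueField (Scheme.stalkClosedPointTo (b ≫ π)) =
      π.residueFieldMap (b (closedPoint k)) ≫ db :=
    Scheme.descResidueField_stalkClosedPointTo_comp π b
  have hinj : Function.Injective da.hom := RingHom.injective _
  have hρ : Function.Surjective (π.residueFieldMap (a (closedPoint k))).hom := by
    intro z
    obtain ⟨w, hw⟩ := hsurj (da.hom z)
    refine ⟨w, hinj ?_⟩
    rw [← hw, h1]
    rfl
  have key : π.residueFieldMap (a (closedPoint k)) ≫ da =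
      π.residueFieldMap (a (closedPoint k)) ≫ (X.residueFieldCongr hpt).hom ≫ db := by
    rw [Scheme.Hom.residueFieldMap_congr'_assoc, ← h1, ← h2]
    obtain ⟨e, he⟩ := Scheme.SpecToEquivOfField_eq_iff.mp
      (congrArg (Scheme.SpecToEquivOfField k Y) hab)
    simp only [Scheme.SpecToEquivOfField_apply_snd] at he
    exact he
  apply CommRingCat.hom_ext
  apply RingHom.ext
  intro z
  obtain ⟨w, rfl⟩ := hρ z
  exact congrArg (fun f => f.hom w) key


theorem surj_desc (R : Type u) [CommRing R] [IsLocalRing R] :
    Function.Surjective ((Spec (CommRingCat.of R)).descResidueField (Scheme.stalkClosedPointTo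
      (Spec.map (CommRingCat.ofHom (residue R))))).hom := by
  intro y
  obtain ⟨r, rfl⟩ := residue_surjective y
  have h1 : (Scheme.ΓSpecIso (CommRingCat.of R)).inv ≫
      (Spec (CommRingCat.of R)).presheaf.germ ⊤ _ trivial ≫
      (Spec (CommRingCat.of R)).residue _ ≫
      (Spec (CommRingCat.of R)).descResidueField (Scheme.stalkClosedPointTo
        (Spec.map (CommRingCat.ofHom (residue R)))) = CommRingCat.ofHom (residue R) := by
    rw [Scheme.residue_descResidueField, Scheme.germ_stalkClosedPointTo_Spec,
      Iso.inv_hom_id_assoc]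
  refine ⟨((Spec (CommRingCat.of R)).residue _).hom
    (((Spec (CommRingCat.of R)).presheaf.germ ⊤ _ trivial).hom
      ((Scheme.ΓSpecIso (CommRingCat.of R)).inv.hom r)), ?_⟩
  exact congrArg (fun f => f.hom r) h1

theorem main (R : Type u) [CommRing R] [IsDomain R]
    [IsDiscreteValuationRing R] [IsAdicComplete (IsLocalRing.maximalIdeal R) R]
    (p : ℕ) [Fact p.Prime] [CharP (IsLocalRing.ResidueField R) p]
    (N : Over (Spec (CommRingCat.of R))) [GrpObj N] [IsCommMonObj N]
    [Smooth N.hom] [IsSeparated N.hom] [QuasiCompact N.hom]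
    (x : 𝟙_ (Over (Spec (CommRingCat.of R))) ⟶ N) (n : ℕ) (hn : 0 < n) (hx : x ^ n = 1)
    (hred : x.left.base (IsLocalRing.closedPoint R) = (η[N]).left.base (IsLocalRing.closedPoint R))
    (hnp : Nat.Coprime n p) : x = 1 := by
  haveI : HenselianLocalRing R :=
    { is_henselian := fun f hf a₀ h₁ h₂ =>
        HenselianRing.is_henselian (I := maximalIdeal R) f hf a₀ h₁ (h₂.map _) }
  have hunit : IsUnit (n : R) := by
    rw [← IsLocalRing.notMem_maximalIdeal, ← IsLocalRing.residue_eq_zero_iff, map_natCast,
      CharP.cast_eq_zero_iff (ResidueField R) p n]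
    intro hdvd
    have h2 : p ∣ Nat.gcd n p := Nat.dvd_gcd hdvd dvd_rfl
    rw [hnp] at h2
    exact (Fact.out : p.Prime).one_lt.ne' (Nat.dvd_one.mp h2)
  let r : Over.mk (Spec.map (CommRingCat.ofHom (IsLocalRing.residue R))) ⟶
      Over.mk (𝟙 (Spec (CommRingCat.of R))) :=
    Over.homMk (Spec.map (CommRingCat.ofHom (IsLocalRing.residue R))) (Category.comp_id _)
  have hτ : r ≫ (1 : Over.mk (𝟙 (Spec (CommRingCat.of R))) ⟶ N) ∈ AbDual.torsPts N n _ := by
    rw [AbDual.mem_torsPts, MonObj.comp_one, one_pow]
  obtain ⟨σ, -, huniq⟩ := Groth.Agent.S19658.result R N n hunit _ hτ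
  have h1 : (1 : Over.mk (𝟙 (Spec (CommRingCat.of R))) ⟶ N) = σ :=
    huniq 1 ⟨by rw [AbDual.mem_torsPts, one_pow], rfl⟩
  have hx' : x = σ := by
    refine huniq x ⟨hx, ?_⟩
    apply Over.OverMorphism.ext
    rw [Over.comp_left, Over.comp_left]
    change Spec.map (CommRingCat.ofHom (IsLocalRing.residue R)) ≫ x.left =
      Spec.map (CommRingCat.ofHom (IsLocalRing.residue R)) ≫
        (1 : Over.mk (𝟙 (Spec (CommRingCat.of R))) ⟶ N).left
    have hc1 : (Spec.map (CommRingCat.ofHom (IsLocalRing.residue R)) ≫ x.left) ≫ N.hom =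
        Spec.map (CommRingCat.ofHom (IsLocalRing.residue R)) := by
      rw [Category.assoc, Over.w x]
      exact Category.comp_id _
    have hc2 : (Spec.map (CommRingCat.ofHom (IsLocalRing.residue R)) ≫
        (1 : Over.mk (𝟙 (Spec (CommRingCat.of R))) ⟶ N).left) ≫ N.hom =
        Spec.map (CommRingCat.ofHom (IsLocalRing.residue R)) := by
      rw [Category.assoc, Over.w]
      exact Category.comp_id _
    refine hom_ext_of_field N.hom _ _ (hc1.trans hc2.symm) ?_ ?_
    · rw [Scheme.Hom.comp_apply, Scheme.Hom.comp_apply]
      have h3 : Spec.map (CommRingCat.ofHom (IsLocalRing.residue R))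
          (closedPoint (ResidueField R)) = closedPoint R :=
        PrimeSpectrum.comap_residue R _
      rw [h3]
      have h4 : (1 : Over.mk (𝟙 (Spec (CommRingCat.of R))) ⟶ N) = η[N] := (MonObj.one_eq_one N).symm
      rw [h4]
      exact hred
    · rw [hc1]
      exact surj_desc R
  rw [hx', ← h1]



/-- Let R be a complete discrete valuation ring whose fraction field K has characteristic zero and whose
residue field k has characteristic p > 0, and let N be a commutative R-group scheme which is a Néron
model of its generic fibre, an abelian variety over K. Then the torsion of order prime to p of N(R)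
= A(K) injects into the special fibre under reduction: a section x with x^n = 1, n ≥ 1 prime to p,
whose value at the closed point of Spec R is the identity point of the special fibre, is the unit
section. -/
theorem result (R : Type u) [CommRing R] [IsDomain R]
    [IsDiscreteValuationRing R] [IsAdicComplete (IsLocalRing.maximalIdeal R) R] (K : Type u) [Field K] [Algebra R K]
    [IsFractionRing R K] [CharZero K] (p : ℕ) [Fact p.Prime] [CharP (IsLocalRing.ResidueField R) p]
    (N : Over (Spec (CommRingCat.of R))) [GrpObj N] [IsCommMonObj N] (hN : SGA7.IsNeron R K N)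
    [IsProper ((SGA7.genFib R K).obj N).hom] [GeometricallyIntegral ((SGA7.genFib R K).obj N).hom]
    (x : 𝟙_ (Over (Spec (CommRingCat.of R))) ⟶ N) (n : ℕ) (hn : 0 < n) (hx : x ^ n = 1)
    (hred : x.left.base (IsLocalRing.closedPoint R) = (η[N]).left.base (IsLocalRing.closedPoint R))
    (hnp : Nat.Coprime n p) : x = 1 := by
  obtain ⟨hsm, hsep, hqc, -⟩ := hN
  exact main R p N x n hn hx hred hnp

end Groth.Agent.S19509
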