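import Groth.Statements.S19511
import Mathlib.AlgebraicGeometry.Morphisms.Proper

set_option autoImplicit false
universe u
open CategoryTheory CategoryTheory.Limits AlgebraicGeometry
open Variety

namespace Groth.Agent.S19511

/-- Let k be a field and f : X → Y a k-morphism between proper k-schemes which is a fibration, i.e. O_Y
→ f_*O_X is an isomorphism (Γ(V, O_Y) → Γ(f⁻¹V, O_X) bijective for every open V ⊆ Y). Then f is
surjective. (The connectedness of the fibres asserted in (i) is quoted from the literature and not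
stated.) -/
theorem result (k : Type u) [Field k] (X Y : Scheme.{u})
    [X.Over (Spec (CommRingCat.of k))] [Y.Over (Spec (CommRingCat.of k))] [IsProper (X ↘ Spec (CommRingCat.of k))] [IsProper (Y ↘ Spec (CommRingCat.of k))]
    (f : X ⟶ Y) (hf : f ≫ (Y ↘ Spec (CommRingCat.of k)) = X ↘ Spec (CommRingCat.of k)) (hfib : ∀ V : Y.Opens, IsIso (f.app V)) :
    Surjective f := by
  have h1 : IsProper (f ≫ (Y ↘ Spec (CommRingCat.of k))) := by rw [hf]; infer_instance
  have hfp : IsProper f := IsProper.of_comp f (Y ↘ Spec (CommRingCat.of k))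
  have hcl : IsClosed (Set.range f) := f.isClosedMap.isClosed_range
  let V : Y.Opens := ⟨(Set.range f)ᶜ, hcl.isOpen_compl⟩
  have hV : f ⁻¹ᵁ V = ⊥ := by
    ext x
    simp [V]
  have hs1 : Subsingleton Γ(X, f ⁻¹ᵁ V) := by rw [hV]; infer_instance
  have hiso : IsIso (f.app V) := hfib V
  have hs2 : Subsingleton Γ(Y, V) := by
    have hinj : Function.Injective (f.app V).hom :=
      (ConcreteCategory.bijective_of_isIso (f.app V)).injective
    exact hinj.subsingleton
  have hVbot : V = ⊥ := by
    rw [← Y.basicOpen_of_isUnit (f := (1 : Γ(Y, V))) isUnit_one,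
      Subsingleton.elim (1 : Γ(Y, V)) 0, Y.basicOpen_zero]
  refine ⟨fun y => ?_⟩
  by_contra hy
  have : y ∈ V := hy
  rw [hVbot] at this
  exact this

end Groth.Agent.S19511
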