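import Groth.Statements.S19514
import Mathlib

set_option autoImplicit false
universe u
open CategoryTheory CategoryTheory.Limits AlgebraicGeometry
open Variety

namespace Groth.Agent.S19514
open CategoryTheory CategoryTheory.Limits AlgebraicGeometry

theorem isSTD_of_app_injective {X Y : Scheme.{u}} (f : X ⟶ Y) [QuasiCompact f]
    (h : ∀ V : Y.Opens, IsAffineOpen V → Function.Injective (f.app V)) :
    IsSchemeTheoreticallyDominant f := by
  rw [isSchemeTheoreticallyDominant_iff]
  ext U : 2
  rw [Scheme.Hom.ker_apply, Scheme.IdealSheafData.ideal_bot, Pi.bot_apply]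
  exact (RingHom.injective_iff_ker_eq_bot _).1 (h U.1 U.2)

theorem irreducibleSpace_of_isDominant {W Z : Scheme.{u}} (g : W ⟶ Z) [IsDominant g]
    [IrreducibleSpace W] : IrreducibleSpace Z := by
  have h1 : IsIrreducible (Set.univ : Set W) := IrreducibleSpace.isIrreducible_univ W
  have h2 : IsIrreducible (Set.range g) := by
    rw [← Set.image_univ]
    exact h1.image _ g.continuous.continuousOn
  have h3 := h2.closure
  rw [g.denseRange.closure_eq] at h3
  haveI : Nonempty Z := h3.1.to_subtype.map Subtype.val
  exact (irreducibleSpace_def Z).2 h3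


/-- Let k be a field and f : X → Y a k-morphism between proper k-schemes which is a fibration, i.e. O_Y
→ f_*O_X is an isomorphism (Γ(V, O_Y) → Γ(f⁻¹V, O_X) bijective for every open V ⊆ Y). If X is
geometrically integral over k, then so is Y. (The assertion of (iii) for geometric normality is not
stated here.) -/
theorem result (k : Type u) [Field k] (X Y : Scheme.{u})
    [X.Over (Spec (CommRingCat.of k))] [Y.Over (Spec (CommRingCat.of k))] [IsProper (X ↘ Spec (CommRingCat.of k))] [IsProper (Y ↘ Spec (CommRingCat.of k))]
    (f : X ⟶ Y) (hf : f ≫ (Y ↘ Spec (CommRingCat.of k)) = X ↘ Spec (CommRingCat.of k)) (hfib : ∀ V : Y.Opens, IsIso (f.app V))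
    [GeometricallyIntegral (X ↘ Spec (CommRingCat.of k))] : GeometricallyIntegral (Y ↘ Spec (CommRingCat.of k)) := by
  haveI : IsProper f := by
    have : IsProper (f ≫ (Y ↘ Spec (CommRingCat.of k))) := by rw [hf]; infer_instance
    exact IsProper.of_comp f (Y ↘ Spec (CommRingCat.of k))
  haveI : IsSchemeTheoreticallyDominant f := isSTD_of_app_injective f fun V _ => by
    haveI := hfib V
    exact (ConcreteCategory.bijective_of_isIso (f.app V)).1
  constructor
  intro K _ y Z fst snd H
  set sX := X ↘ Spec (CommRingCat.of k) with hsX
  set sY := Y ↘ Spec (CommRingCat.of k) with hsY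
  haveI : IsIntegral (pullback sX y) :=
    GeometricallyIntegral.geometrically_isIntegral (f := sX) y _ _ (.of_hasPullback _ _)
  let g : pullback sX y ⟶ Z := H.lift (pullback.fst sX y ≫ f) (pullback.snd sX y)
    (by rw [Category.assoc, hf, pullback.condition])
  have hg1 : g ≫ fst = pullback.fst sX y ≫ f := H.lift_fst _ _ _
  have hg2 : g ≫ snd = pullback.snd sX y := H.lift_snd _ _ _
  have HL : IsPullback (pullback.fst sX y) g f fst := by
    refine (IsPullback.of_right ?_ hg1 H.flip).flip
    rw [hg2, hf]
    exact (IsPullback.of_hasPullback _ _).flip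
  haveI : Flat y := by
    rw [← Spec.map_preimage y, Flat.SpecMap_iff]
    letI : Algebra k K := (Spec.preimage y).hom.toAlgebra
    show (algebraMap k K).Flat
    rw [RingHom.flat_algebraMap_iff]
    infer_instance
  haveI : Flat fst := MorphismProperty.of_isPullback H.flip inferInstance
  haveI : IsSchemeTheoreticallyDominant g := IsSchemeTheoreticallyDominant.of_isPullback HL
  haveI : QuasiCompact g := MorphismProperty.of_isPullback HL inferInstance
  haveI : IsReduced Z := IsSchemeTheoreticallyDominant.isReduced g
  haveI : IrreducibleSpace Z := irreducibleSpace_of_isDominant g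
  exact isIntegral_of_irreducibleSpace_of_isReduced Z

end Groth.Agent.S19514
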