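import Groth.Statements.S19522
import Groth.Agent.Lib.Helper25PolyCoact

set_option autoImplicit false
universe u
open TensorProduct
open GLin

namespace Groth.Agent.S19522

/-- Let k be a field, A a commutative k-bialgebra coacting multiplicatively on a commutative k-algebra
R, and χ ∈ A a group-like element with an inverse χ' (χχ' = 1). Suppose the polynomial ring R[t]
carries a multiplicative coaction which restricts to the given one on constants and sends t to t ⊗
χ'. Then g ∈ R[t] is coinvariant if and only if, for every r, its r-th coefficient has coaction g_r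
↦ g_r ⊗ χ^r; that is, the ring of invariants of R[t] is the sum over r ≥ 0 of the weight-χ^r
semi-invariants of R times t^r. (The published statement is phrased for an affine variety with an
action of a linear algebraic group over an algebraically closed field of characteristic zero and
identifies the invariants of X × A¹ with the graded ring of invariant sections of the powers of the
linearised trivial bundle; this is its coordinate-ring content, valid over any field.) -/
theorem result (k : Type u) [Field k]
    (A : Type u) [CommRing A] [Bialgebra k A]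
    (R : Type u) [CommRing R] [Algebra k R] [HopfRep.Comod k A R] [GLin.IsCoactAlg k A R]
    [HopfRep.Comod k A (Polynomial R)] [GLin.IsCoactAlg k A (Polynomial R)]
    (χ χ' : A) (hχ : CoalgebraStruct.comul (R := k) (A := A) χ = χ ⊗ₜ[k] χ)
    (hχε : CoalgebraStruct.counit (R := k) (A := A) χ = 1) (hχχ' : χ * χ' = 1)
    (hC : ∀ r : R, HopfRep.Comod.coact (k := k) (A := A) (Polynomial.C r) =
      Algebra.TensorProduct.map (Polynomial.CAlgHom : R →ₐ[k] Polynomial R) (AlgHom.id k A)
        (HopfRep.Comod.coact (k := k) (A := A) r))
    (hX : HopfRep.Comod.coact (k := k) (A := A) (Polynomial.X : Polynomial R) = Polynomial.X ⊗ₜ[k] χ')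
    (g : Polynomial R) :
    g ∈ GLin.invariants k A (Polynomial R) ↔
      ∀ r : ℕ, g.coeff r ∈ HopfRep.eigenspace k A R (χ ^ r) := by
  open Groth.Agent.Lib.Helper25 in
  constructor
  · intro hg r
    have h1 : HopfRep.Comod.coact (k := k) (A := A) g = g ⊗ₜ[k] (1 : A) := hg
    have h2 := coeffT_coact hC hX g r
    rw [h1, coeffT_tmul] at h2
    show HopfRep.Comod.coact (k := k) (A := A) (g.coeff r) = g.coeff r ⊗ₜ[k] (χ ^ r)
    have h3 := congrArg (· * ((1 : R) ⊗ₜ[k] (χ ^ r))) h2
    simp only [mul_assoc, Algebra.TensorProduct.tmul_mul_tmul, one_mul, mul_one] at h3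
    rw [← mul_pow, mul_comm χ' χ, hχχ', one_pow, ← Algebra.TensorProduct.one_def, mul_one] at h3
    exact h3.symm
  · intro h
    rw [GLin.mem_invariants_iff]
    conv_lhs => rw [g.as_sum_support_C_mul_X_pow]
    rw [map_sum]
    conv_rhs => rw [g.as_sum_support_C_mul_X_pow, TensorProduct.sum_tmul]
    apply Finset.sum_congr rfl
    intro r _
    have hr : HopfRep.Comod.coact (k := k) (A := A) (g.coeff r) = g.coeff r ⊗ₜ[k] (χ ^ r) := h r
    rw [coact_C_mul_X_pow hC hX, hr, Algebra.TensorProduct.map_tmul,
      Algebra.TensorProduct.tmul_mul_tmul, AlgHom.id_apply, ← mul_pow, hχχ', one_pow]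
    rfl

end Groth.Agent.S19522
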