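import Groth.Statements.S19523
import Mathlib
import Groth.Agent.Lib.Helper11HomSm
import Groth.Agent.Lib.Helper11RedCl

set_option autoImplicit false
universe u
open CategoryTheory MonoidalCategory CartesianMonoidalCategory MonObj GrpObj AlgebraicGeometry
open AlgGrp

namespace Groth.Agent.S19523

open Groth.Agent.Lib.Helper11HomSm Groth.Agent.Lib.Helper11RedCl Groth.Agent.Lib.Helper11Orbit Limits

theorem exists_lift_closedImmersion {T O U : Scheme.{u}} [IsReduced T] (f : T ⟶ U) (j : O ⟶ U)
    [IsClosedImmersion j] (h : Set.range f ⊆ Set.range j) : ∃ l : T ⟶ O, l ≫ j = f := by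
  have hker : j.ker ≤ f.ker := by
    rw [ker_eq_of_isReduced f, ← Scheme.IdealSheafData.le_support_iff_le_vanishingIdeal,
      ← SetLike.coe_subset_coe, Scheme.Hom.support_ker]
    exact closure_mono h
  exact ⟨IsClosedImmersion.lift j f hker, IsClosedImmersion.lift_fac j f hker⟩

theorem exists_lift_immersion {T O X : Scheme.{u}} [IsReduced T] (f : T ⟶ X) (i : O ⟶ X)
    [IsImmersion i] (h : Set.range f ⊆ Set.range i) : ∃ l : T ⟶ O, l ≫ i = f := by
  have h1 : Set.range f ⊆ Set.range i.coborderRange.ι := by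
    refine h.trans ?_
    rintro _ ⟨o, rfl⟩
    refine ⟨i.liftCoborder o, ?_⟩
    rw [← Scheme.Hom.comp_apply, i.liftCoborder_ι]
  obtain ⟨f', hf'⟩ : ∃ f' : T ⟶ i.coborderRange, f' ≫ i.coborderRange.ι = f :=
    ⟨IsOpenImmersion.lift i.coborderRange.ι f h1, IsOpenImmersion.lift_fac _ _ _⟩
  have h2 : Set.range f' ⊆ Set.range i.liftCoborder := by
    rintro _ ⟨t, rfl⟩
    obtain ⟨o, ho⟩ := h ⟨t, rfl⟩
    refine ⟨o, ?_⟩
    apply i.coborderRange.ι.isOpenEmbedding.injective
    rw [← Scheme.Hom.comp_apply, ← Scheme.Hom.comp_apply, i.liftCoborder_ι, hf']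
    exact ho
  obtain ⟨l, hl⟩ := exists_lift_closedImmersion f' i.liftCoborder h2
  exact ⟨l, by rw [← i.liftCoborder_ι, reassoc_of% hl, hf']⟩


/-- Let k be a field, G a smooth k-group scheme of finite type acting on a k-scheme X of finite type,
and x a rational point of X. The orbit of x, the image of the orbit map G → X, is locally closed
(not restated here); if i : O → X is an immersion from a reduced scheme whose image is exactly the
orbit — the orbit with its reduced induced structure — then O is smooth over k. -/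
theorem result (k : Type u) [Field k]
    (G X : Over (Spec (CommRingCat.of k))) [GrpObj G] [Smooth G.hom] [QuasiCompact G.hom]
    [LocallyOfFiniteType X.hom] [QuasiCompact X.hom] (a : AlgGrp.Action G X)
    (x : 𝟙_ (Over (Spec (CommRingCat.of k))) ⟶ X)
    (O : Scheme.{u}) (i : O ⟶ X.left) [IsImmersion i] [IsReduced O]
    (hO : Set.range i.base = Set.range (a.orbitMap x).left.base) : Smooth (i ≫ X.hom) := by
  have hredG : IsReduced G.left :=
    Groth.Agent.Lib.Helper6.SmGeom.isReduced_of_smooth_over_field k G.left G.hom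
  have hgrG : GeometricallyReduced G.hom := by
    have : Smooth (𝟙 G.left ≫ G.hom) := by rw [Category.id_comp]; infer_instance
    exact geometricallyReduced_of_dominant (𝟙 G.left) G.hom
  obtain ⟨p, hp⟩ := exists_lift_immersion (a.orbitMap x).left i hO.ge
  -- `O` as an object over `k`
  obtain ⟨O', hO'⟩ : ∃ O' : Over (Spec (CommRingCat.of k)), O' = Over.mk (i ≫ X.hom) := ⟨_, rfl⟩
  obtain ⟨i', hi'⟩ : ∃ i' : Over.mk (i ≫ X.hom) ⟶ X, i'.left = i := ⟨Over.homMk i rfl, rfl⟩
  obtain ⟨p', hp'⟩ : ∃ p' : G ⟶ Over.mk (i ≫ X.hom), p'.left = p :=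
    ⟨Over.homMk p (by
      change p ≫ i ≫ X.hom = G.hom
      rw [reassoc_of% hp, Over.w]), rfl⟩
  have hpi : p' ≫ i' = a.orbitMap x := by
    ext1
    rw [Over.comp_left, hp', hi', hp]
  have hmono : Mono i' := by
    have : Mono i'.left := by rw [hi']; infer_instance
    exact Over.mono_of_mono_left i'
  have hsurj : Surjective p := by
    constructor
    intro o
    have : i o ∈ Set.range (a.orbitMap x).left.base := hO.le ⟨o, rfl⟩
    obtain ⟨g, hg⟩ := this
    refine ⟨g, ?_⟩
    apply i.isEmbedding.injective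
    rw [← Scheme.Hom.comp_apply, hp]
    exact hg
  have hlft : LocallyOfFiniteType (Over.mk (i ≫ X.hom)).hom := by
    change LocallyOfFiniteType (i ≫ X.hom)
    infer_instance
  have hlftG : LocallyOfFiniteType G.hom := inferInstance
  have hn : IsLocallyNoetherian O :=
    LocallyOfFiniteType.isLocallyNoetherian (Over.mk (i ≫ X.hom)).hom
  have hc : CompactSpace ↥G.left := QuasiCompact.compactSpace_of_compactSpace G.hom
  have hqs : QuasiSeparatedSpace ↥O := inferInstance
  have hqc : QuasiCompact p := inferInstance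
  have hdom : IsSchemeTheoreticallyDominant p := IsSchemeTheoreticallyDominant.of_isDominant p
  have hsm : Smooth (p ≫ (Over.mk (i ≫ X.hom)).hom) := by
    change Smooth (p ≫ i ≫ X.hom)
    rw [reassoc_of% hp, Over.w]; infer_instance
  have hgr : GeometricallyReduced (Over.mk (i ≫ X.hom)).hom :=
    geometricallyReduced_of_dominant p _
  -- the action restricts to `O`
  have hflatG : Flat G.hom := inferInstance
  have hredP : IsReduced (G ⊗ Over.mk (i ≫ X.hom)).left := by
    change IsReduced (pullback G.hom (i ≫ X.hom))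
    infer_instance
  have hsurjW : Surjective (G ◁ p').left := by
    rw [Over.whiskerLeft_left]
    have h2 : Surjective p'.left := by rw [hp']; exact hsurj
    exact MorphismProperty.pullbackMap (P := @Surjective) (inferInstance : Surjective (𝟙 G.left))
      h2 (by simp) (by
        have := Over.w p'
        simp only [Over.mk_hom] at this
        simp [this])
  have hrange : Set.range ((G ◁ i') ≫ a.act).left ⊆ Set.range i := by
    rintro _ ⟨z, rfl⟩
    obtain ⟨w, rfl⟩ := (G ◁ p').left.surjective z
    rw [← Scheme.Hom.comp_apply, ← Over.comp_left, ← Category.assoc, ← whiskerLeft_comp, hpi,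
      whiskerLeft_orbitMap_act, Over.comp_left, Scheme.Hom.comp_apply]
    exact hO.ge ⟨_, rfl⟩
  obtain ⟨b, hb⟩ := exists_lift_immersion ((G ◁ i') ≫ a.act).left i hrange
  obtain ⟨b', hb'⟩ : ∃ b' : G ⊗ Over.mk (i ≫ X.hom) ⟶ Over.mk (i ≫ X.hom), b'.left = b :=
    ⟨Over.homMk b (by
      change b ≫ i ≫ X.hom = _
      rw [reassoc_of% hb, Over.w]), rfl⟩
  have hbi : b' ≫ i' = (G ◁ i') ≫ a.act := by
    ext1
    rw [Over.comp_left, hb', hi', hb]
  have hone : (η[G] ▷ Over.mk (i ≫ X.hom)) ≫ b' = (λ_ (Over.mk (i ≫ X.hom))).hom := by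
    rw [← cancel_mono i', Category.assoc, hbi, ← whisker_exchange_assoc, a.one_act,
      leftUnitor_naturality]
  have hmul : (μ[G] ▷ Over.mk (i ≫ X.hom)) ≫ b' =
      (α_ G G (Over.mk (i ≫ X.hom))).hom ≫ (G ◁ b') ≫ b' := by
    rw [← cancel_mono i']
    simp only [Category.assoc]
    rw [hbi, ← whisker_exchange_assoc, a.mul_act, ← whiskerLeft_comp_assoc, hbi,
      whiskerLeft_comp_assoc, ← associator_naturality_right_assoc]
  obtain ⟨aO, haO⟩ : ∃ aO : AlgGrp.Action G (Over.mk (i ≫ X.hom)), aO.act = b' :=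
    ⟨⟨b', hone, hmul⟩, rfl⟩
  have horb : aO.orbitMap (η[G] ≫ p') = p' := by
    rw [← cancel_mono i', hpi]
    unfold AlgGrp.Action.orbitMap
    rw [haO, Category.assoc, hbi]
    have hηx : η[G] ≫ a.orbitMap x = x := by
      unfold AlgGrp.Action.orbitMap
      rw [← Category.assoc, comp_lift, Category.comp_id, ← Category.assoc, comp_toUnit]
      have h1 : toUnit (𝟙_ (Over (Spec (CommRingCat.of k)))) = 𝟙 _ := Subsingleton.elim _ _
      rw [h1, Category.id_comp, MonObj.one_eq_one]
      exact Groth.Agent.Lib.Helper12.act_one a x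
    have e : lift (𝟙 G) (toUnit G ≫ η[G] ≫ p') ≫ (G ◁ i') = lift (𝟙 G) (toUnit G ≫ x) := by
      apply CartesianMonoidalCategory.hom_ext
      · rw [Category.assoc, whiskerLeft_fst, lift_fst, lift_fst]
      · rw [Category.assoc, whiskerLeft_snd, ← Category.assoc, lift_snd, lift_snd, Category.assoc,
          Category.assoc, hpi, hηx]
    rw [← Category.assoc, e]
  have hsurj' : Surjective (aO.orbitMap (η[G] ≫ p')).left := by
    rw [horb, hp']; exact hsurj
  exact smooth_of_surjective_orbitMap k aO (η[G] ≫ p')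

end Groth.Agent.S19523
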