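import Groth.Statements.S19533
import Groth.Agent.Lib.Helper3AbFibreC
import Groth.Agent.Lib.Helper6SmGeom
import Groth.Agent.Lib.Helper25IdCompGeom
import Mathlib

set_option autoImplicit false
set_option linter.style.haveILetI false
universe u
open CategoryTheory CategoryTheory.Limits MonoidalCategory CartesianMonoidalCategory MonObj GrpObj AlgebraicGeometry
open AbVar

namespace Groth.Agent.S19533

open Groth.Agent.Lib.Helper3.AbFibre in

/-- Let k be an algebraically closed field, A an abelian variety over k (a k-group scheme whose
structure morphism is proper, smooth and geometrically connected) with unit point e, Y a scheme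
separated over k and f : A → Y a morphism over k. Write F₀ for the connected component of e in the
fibre f⁻¹(f(e)). Then the k-rational points of F₀ are stable under the group law: if k-points x and
y of A lie in F₀ then so do the product point x·y and the inverse point x⁻¹. (The published
statement is for Y a k-variety and concludes that F₀ with its reduced structure is an abelian
subvariety, together with the translation formula F_a = a + F₀; this row records the closure of
F₀(k) under multiplication and inversion, for Y merely separated over k.) -/
theorem result (k : Type u) [Field k] [IsAlgClosed k]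
    (A : Over (Spec (CommRingCat.of k))) [GrpObj A] [IsProper A.hom] [Smooth A.hom] [GeometricallyConnected A.hom]
    {Y : Scheme.{u}} (q : Y ⟶ Spec (CommRingCat.of k)) [IsSeparated q] (f : A.left ⟶ Y) (hf : f ≫ q = A.hom)
    (x y : 𝟙_ (Over (Spec (CommRingCat.of k))) ⟶ A)
    (hx : x.left (IsLocalRing.closedPoint k) ∈
      connectedComponentIn (f ⁻¹' {f (η[A].left (IsLocalRing.closedPoint k))}) (η[A].left (IsLocalRing.closedPoint k)))
    (hy : y.left (IsLocalRing.closedPoint k) ∈
      connectedComponentIn (f ⁻¹' {f (η[A].left (IsLocalRing.closedPoint k))}) (η[A].left (IsLocalRing.closedPoint k))) :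
    (lift x y ≫ μ[A]).left (IsLocalRing.closedPoint k) ∈
        connectedComponentIn (f ⁻¹' {f (η[A].left (IsLocalRing.closedPoint k))}) (η[A].left (IsLocalRing.closedPoint k)) ∧
      (x ≫ ι[A]).left (IsLocalRing.closedPoint k) ∈
        connectedComponentIn (f ⁻¹' {f (η[A].left (IsLocalRing.closedPoint k))}) (η[A].left (IsLocalRing.closedPoint k)) := by
  haveI : GeometricallyReduced A.hom := by
    constructor
    intro K _ y Z fst snd h
    haveI : Smooth snd := MorphismProperty.of_isPullback h inferInstance
    exact Groth.Agent.Lib.Helper6.SmGeom.isReduced_of_smooth_over_field K Z snd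
  haveI : ConnectedSpace A.left :=
    GeometricallyConnected.connectedSpace_of_subsingleton (f := A.hom)
  haveI : IrreducibleSpace A.left :=
    Groth.Agent.Lib.Helper25.IdComp.irreducibleSpace_of_connectedSpace A
  haveI : GeometricallyIrreducible A.hom := by
    have h := Groth.Agent.Lib.Helper25.IdComp.geometricallyIrreducible_component_through_unit
      (G := A) A.left (𝟙 _)
      (by
        rw [show Set.range ⇑(𝟙 A.left : A.left ⟶ A.left) = Set.univ from by
          ext x; simp]
        rw [irreducibleComponents_eq_singleton]
        rfl)
      (by simp)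
    simpa using h
  haveI : GeometricallyIntegral A.hom :=
    GeometricallyIntegral.of_geometricallyReduced_of_geometricallyIrreducible A.hom
  set e₀ := η[A].left (IsLocalRing.closedPoint k) with he₀
  set F₀ := connectedComponentIn (f ⁻¹' {f e₀}) e₀ with hF₀
  -- translation by `x` preserves `F₀`
  have hfx : f (x.left (IsLocalRing.closedPoint k)) = f e₀ :=
    connectedComponentIn_subset (f ⁻¹' {f e₀}) e₀ hx
  have himg : (T A x).left '' F₀ = F₀ := by
    rw [hF₀, he₀, image_T_eq A q f hf x, ← he₀, hfx]
    exact (connectedComponentIn_eq hx).symm
  constructor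
  · have h1 : lift x y ≫ μ[A] = y ≫ T A x := by
      rw [point_comp_T]; rfl
    rw [h1, ← himg]
    exact ⟨_, hy, rfl⟩
  · have h2 : e₀ ∈ (T A x).left '' F₀ := by
      rw [himg]
      exact mem_connectedComponentIn (F := f ⁻¹' {f e₀}) (Set.mem_singleton _)
    obtain ⟨z, hz, hze⟩ := h2
    have h3 : (x ≫ ι[A]).left (IsLocalRing.closedPoint k) = z := by
      have h4 : (T A x).left ≫ (T A x⁻¹).left = 𝟙 _ := by
        rw [← Over.comp_left, T_comp_inv]; rfl
      have h5 := congr($(h4) z)
      rw [Scheme.Hom.comp_apply, hze] at h5
      have h6 : η[A] ≫ T A x⁻¹ = x ≫ ι[A] := by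
        rw [MonObj.one_eq_one, point_comp_T, _root_.mul_one]; rfl
      have h7 := congr($(h6).left (IsLocalRing.closedPoint k))
      rw [← h7]
      exact h5
    rw [h3]
    exact hz

end Groth.Agent.S19533
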