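import Groth.Statements.S19540
import Mathlib
-- import your own Groth.Agent.* helpers here

set_option autoImplicit false
set_option linter.style.haveILetI false
set_option linter.unusedSectionVars false
open CategoryTheory CategoryTheory.Limits Opposite
universe w v u
open CohSite

namespace Groth.Agent.S19540

section
variable {C : Type u} [Category.{v} C] (J : GrothendieckTopology C)

instance hasSheafCompose_forget : J.HasSheafCompose (forget AddCommGrpCat.{w}) where
  isSheaf P hP := by
    rw [isSheaf_iff_isSheaf_of_type]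
    exact Presieve.isSheaf_iso J (Functor.isoWhiskerLeft P AddCommGrpCat.coyonedaObjIsoForget.{w})
      (hP (AddCommGrpCat.of (ULift.{w} ℤ)))

variable [HasSheafify J AddCommGrpCat.{w}]

lemma injective_of_mono {F G : Sheaf J AddCommGrpCat.{w}} (f : F ⟶ G) [Mono f] (V : C) :
    Function.Injective (f.hom.app (op V)).hom := by
  haveI : Mono f.hom := (sheafToPresheaf _ _).map_mono f
  haveI : Mono (f.hom.app (op V)) := inferInstance
  exact (AddCommGrpCat.mono_iff_injective _).1 inferInstance

lemma nat_apply {A B : Sheaf J AddCommGrpCat.{w}} (φ : A ⟶ B) {V V' : C} (h : V' ⟶ V)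
    (y : A.obj.obj (op V)) :
    (φ.hom.app (op V')).hom ((A.obj.map h.op).hom y) = (B.obj.map h.op).hom ((φ.hom.app (op V)).hom y) :=
  ConcreteCategory.congr_hom (φ.hom.naturality h.op) y

/-- sections of the kernel -/
lemma exists_kernel_section (S : ShortComplex (Sheaf J AddCommGrpCat.{w})) (V : C)
    (a : S.X₂.obj.obj (op V)) (ha : (S.g.hom.app (op V)).hom a = 0) :
    ∃ b : (kernel S.g).obj.obj (op V), ((kernel.ι S.g).hom.app (op V)).hom b = a := by
  let T : ShortComplex (Sheaf J AddCommGrpCat.{w}) := ShortComplex.mk (kernel.ι S.g) S.g (kernel.condition _)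
  have hT : T.Exact := ShortComplex.exact_kernel S.g
  have h := hT.map_of_mono_of_preservesKernel
    (sheafToPresheaf J AddCommGrpCat.{w} ⋙ (evaluation _ _).obj (op V))
    (inferInstanceAs (Mono (kernel.ι S.g))) inferInstance
  exact (ShortComplex.ab_exact_iff _).1 h a ha

theorem result' [J.WEqualsLocallyBijective AddCommGrpCat.{w}]
    (B : C → Prop)
    (hB : ∀ U : C, B U → ∀ (P Q : Sheaf J (Type w)) (ψ : P ⟶ Q), Epi ψ → Function.Surjective (ψ.hom.app (op U)))
    (hcov : ∀ V : C, ∃ S : Sieve V, S ∈ J V ∧ ∀ ⦃W : C⦄ (f : W ⟶ V), S.arrows f →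
      ∃ (U : C) (g : W ⟶ U) (h : U ⟶ V), B U ∧ g ≫ h = f)
    (S : ShortComplex (Sheaf J AddCommGrpCat.{w})) :
    S.Exact ↔ ∀ U : C, B U →
      (S.map (sheafToPresheaf J AddCommGrpCat.{w} ⋙ (evaluation Cᵒᵖ AddCommGrpCat.{w}).obj (op U))).Exact := by
  obtain ⟨k, hk⟩ : ∃ k : S.X₁ ⟶ kernel S.g, k = kernel.lift S.g S.f S.zero := ⟨_, rfl⟩
  have hkι : k ≫ kernel.ι S.g = S.f := by rw [hk]; exact kernel.lift_ι _ _ _
  have hkι' : ∀ (V : C) (x : S.X₁.obj.obj (op V)),
      ((kernel.ι S.g).hom.app (op V)).hom ((k.hom.app (op V)).hom x) = (S.f.hom.app (op V)).hom x := by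
    intro V x
    rw [← hkι]
    rfl
  rw [S.exact_iff_epi_kernel_lift, ← hk]
  constructor
  · intro hepi U hU
    rw [ShortComplex.ab_exact_iff]
    intro a ha
    obtain ⟨b, hb⟩ := exists_kernel_section J S U a ha
    have h1 : Sheaf.IsLocallySurjective k := (Sheaf.isLocallySurjective_iff_epi' AddCommGrpCat.{w} k).2 hepi
    have h2 : Epi ((sheafCompose J (forget AddCommGrpCat.{w})).map k) := inferInstance
    obtain ⟨x, hx⟩ : ∃ x : S.X₁.obj.obj (op U), (k.hom.app (op U)).hom x = b := hB U hU _ _ _ h2 b
    refine ⟨x, ?_⟩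
    exact (hkι' U x).symm.trans ((congrArg _ hx).trans hb)
  · intro h
    haveI : Sheaf.IsLocallySurjective k := by
      refine ⟨fun {V} y => ?_⟩
      obtain ⟨T, hT, hfac⟩ := hcov V
      refine J.superset_covering ?_ hT
      intro W f hf
      obtain ⟨U, g, h', hU, rfl⟩ := hfac f hf
      have hex := h U hU
      rw [ShortComplex.ab_exact_iff] at hex
      obtain ⟨x, hx⟩ : ∃ x : S.X₁.obj.obj (op U), (S.f.hom.app (op U)).hom x =
          ((kernel.ι S.g).hom.app (op U)).hom (((kernel S.g).obj.map h'.op).hom y) :=
        hex (((kernel.ι S.g).hom.app (op U)).hom (((kernel S.g).obj.map h'.op).hom y)) (by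
          have h0 : kernel.ι S.g ≫ S.g = 0 := kernel.condition _
          exact congrArg (fun m => (m.hom.app (op U)).hom (((kernel S.g).obj.map h'.op).hom y)) h0)
      have hkx : (k.hom.app (op U)).hom x = ((kernel S.g).obj.map h'.op).hom y := by
        apply injective_of_mono J (kernel.ι S.g) U
        exact (hkι' U x).trans hx
      refine ⟨(S.X₁.obj.map g.op).hom x, ?_⟩
      change (k.hom.app (op W)).hom _ = ((kernel S.g).obj.map (g ≫ h').op).hom y
      refine (nat_apply J k g x).trans ?_
      rw [hkx, op_comp, Functor.map_comp]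
      rfl
    infer_instance


end


/-- Let (C, J) be a site and B a class of objects of C, each weakly contractible (every epimorphism of
sheaves of sets, valued in a fixed universe, is surjective on sections over it), such that every
object V of C has a covering sieve all of whose arrows factor through some object of B. Then a
three-term complex F ⟶ G ⟶ H of abelian sheaves on (C, J) is exact if and only if for every U in B
the sequence of section groups F(U) ⟶ G(U) ⟶ H(U) is exact. (The published statement is for sheaves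
of modules over a sheaf of rings O; this row is the case of the constant sheaf of rings ℤ, i.e.
abelian sheaves, to which exactness questions for O-modules reduce. The universe set-up assumes that
abelian sheafification exists and inverts exactly the locally bijective maps, as on any small site.) -/
theorem result
    {C : Type u} [Category.{v} C] (J : GrothendieckTopology C) [HasSheafify J AddCommGrpCat.{w}]
    [J.WEqualsLocallyBijective AddCommGrpCat.{w}]
    (B : C → Prop)
    (hB : ∀ U : C, B U → ∀ (P Q : Sheaf J (Type w)) (ψ : P ⟶ Q), Epi ψ → Function.Surjective (ψ.hom.app (op U)))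
    (hcov : ∀ V : C, ∃ S : Sieve V, S ∈ J V ∧ ∀ ⦃W : C⦄ (f : W ⟶ V), S.arrows f →
      ∃ (U : C) (g : W ⟶ U) (h : U ⟶ V), B U ∧ g ≫ h = f)
    (S : ShortComplex (Sheaf J AddCommGrpCat.{w})) :
    S.Exact ↔ ∀ U : C, B U →
      (S.map (sheafToPresheaf J AddCommGrpCat.{w} ⋙ (evaluation Cᵒᵖ AddCommGrpCat.{w}).obj (op U))).Exact := by
  exact result' J B hB hcov S

end Groth.Agent.S19540
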