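import Groth.Statements.S19544
import Groth.Agent.Lib.Helper25EESplit

set_option autoImplicit false
universe u
open CAlg

namespace Groth.Agent.S19544

/-- Let R be a Noetherian ring of Krull dimension d and P a finitely generated projective R-module of
constant rank n at every prime of R, with n > d. Then P is isomorphic to P₀ ⊕ R^(n-d) for some
module P₀; concretely, P has complementary submodules P₀ and Q with Q free of rank n - d. -/
theorem result (R : Type u) [CommRing R]
    [IsNoetherianRing R] (d n : ℕ) (hdim : ringKrullDim R = d)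
    (P : Type u) [AddCommGroup P] [Module R P] [Module.Finite R P] [Module.Projective R P]
    (hrk : ∀ p : PrimeSpectrum R, Module.rankAtStalk (R := R) P p = n) (hnd : d < n) :
    ∃ (P₀ Q : Submodule R P), IsCompl P₀ Q ∧ Nonempty (Q ≃ₗ[R] (Fin (n - d) → R)) := by
  classical
  haveI : Nontrivial R := by
    by_contra hnt
    rw [not_nontrivial_iff_subsingleton] at hnt
    have := ringKrullDim_eq_bot_of_subsingleton (R := R)
    rw [this] at hdim
    exact absurd hdim (by simp)
  have hdim' : ringKrullDim R ≤ d := hdim.le
  obtain ⟨P₀, _, _, ⟨e⟩⟩ := Groth.Agent.Lib.Helper25.EE.exists_equiv_prod_free d hdim' (n - d) P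
    (fun 𝔭 => by rw [hrk 𝔭]; omega)
  refine ⟨LinearMap.range (e.symm.toLinearMap ∘ₗ LinearMap.inl R P₀ (Fin (n - d) → R)),
    LinearMap.range (e.symm.toLinearMap ∘ₗ LinearMap.inr R P₀ (Fin (n - d) → R)), ?_, ?_⟩
  · rw [LinearMap.range_comp, LinearMap.range_comp]
    exact (Submodule.orderIsoMapComap e.symm).isCompl LinearMap.isCompl_range_inl_inr
  · refine ⟨(LinearEquiv.ofInjective _ ?_).symm⟩
    exact e.symm.injective.comp LinearMap.inr_injective

end Groth.Agent.S19544
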