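import Groth.Statements.S19556
import Mathlib.AlgebraicGeometry.Morphisms.Separated
import Mathlib.AlgebraicGeometry.Morphisms.Finite
import Mathlib.AlgebraicGeometry.Morphisms.Immersion
import Mathlib.AlgebraicGeometry.Morphisms.UniversallyClosed

set_option autoImplicit false
universe u
open CategoryTheory AlgebraicGeometry
open Mor

namespace Groth.Agent.S19556

/-- Let S be a scheme, p : X → S and q : Y → S schemes over S, and π : X → Y a finite surjective
morphism over S (π ≫ q = p). If X is separated over S then Y is separated over S. (The published
statement is about the quotient map X → X/G of a scheme by an action of a finite group scheme,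
assumed to exist and then finite and surjective; this row keeps of it only a finite surjective
S-morphism π, which is all the argument uses.) -/
theorem result {S X Y : Scheme.{u}} (p : X ⟶ S) (q : Y ⟶ S)
    (π : X ⟶ Y) (hπ : π ≫ q = p) [IsFinite π] [Surjective π] [IsSeparated p] :
    IsSeparated q := by
  have e₁ : p = π ≫ q := hπ.symm
  have hPP : UniversallyClosed (Limits.pullback.map p p q q π π (𝟙 S)
      ((Category.comp_id _).trans e₁) ((Category.comp_id _).trans e₁)) :=
    MorphismProperty.pullbackMap (P := @UniversallyClosed) (inferInstance : UniversallyClosed π)
      (inferInstance : UniversallyClosed π) e₁ e₁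
  set PP := Limits.pullback.map p p q q π π (𝟙 S)
      ((Category.comp_id _).trans e₁) ((Category.comp_id _).trans e₁) with hPPdef
  have hcomm : Limits.pullback.diagonal p ≫ PP = π ≫ Limits.pullback.diagonal q := by
    apply Limits.pullback.hom_ext
    · simp only [PP, Category.assoc, Limits.pullback.lift_fst, Limits.pullback.diagonal_fst,
        Category.comp_id]
      rw [Limits.pullback.diagonal_fst_assoc]
    · simp only [PP, Category.assoc, Limits.pullback.lift_snd, Limits.pullback.diagonal_snd,
        Category.comp_id]
      rw [Limits.pullback.diagonal_snd_assoc]
  have hrange : Set.range (Limits.pullback.diagonal q) =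
      PP '' Set.range (Limits.pullback.diagonal p) := by
    have h1 : Set.range (π ≫ Limits.pullback.diagonal q) = Set.range (Limits.pullback.diagonal q) := by
      rw [Scheme.Hom.comp_base, TopCat.coe_comp, Set.range_comp,
        Set.range_eq_univ.mpr (Surjective.surj (f := π)), Set.image_univ]
    rw [← h1, ← hcomm, Scheme.Hom.comp_base, TopCat.coe_comp, Set.range_comp]
  have hclosed : IsClosed (Set.range (Limits.pullback.diagonal q)) := by
    rw [hrange]
    exact PP.isClosedMap _ (Limits.pullback.diagonal p).isClosedEmbedding.isClosed_range
  exact ⟨IsClosedImmersion.of_isPreimmersion _ hclosed⟩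

end Groth.Agent.S19556
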