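import Groth.Statements.S19561
import Mathlib.LinearAlgebra.Dimension.Finite
import Mathlib.LinearAlgebra.FiniteDimensional.Basic
import Mathlib.Tactic.Linarith

set_option autoImplicit false
universe u
open W4c1limliniiii

namespace Groth.Agent.S19561

open Polynomial in
/-- Let k be an algebraically closed field and F, G polynomials over k with deg G < deg F which span a
base-point-free pencil V of degree deg F (a two-dimensional space of polynomials of degree at most
deg F with no common zero in k), encoding the self-map F/G of the projective line. Then the
ramification index of the map at the point at infinity, namely the largest value of deg F − deg s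
over the non-zero members s of V (orders of vanishing at infinity of the corresponding binary forms
of degree deg F), is deg F − deg G. -/
theorem result
    (k : Type u) [Field k] [IsAlgClosed k] (F G : k[X]) (hlt : G.natDegree < F.natDegree)
    (hV : W4c1limliniiii.IsPencil F.natDegree (Submodule.span k {F, G})) :
    W4c1limliniiii.HasRamIdxInf F.natDegree (Submodule.span k {F, G}) (F.natDegree - G.natDegree) := by
  classical
  obtain ⟨_, hrank, _, _⟩ := hV
  have hG : G ≠ 0 := by
    intro hG0
    have hFmem : F ∈ Submodule.span k ({F, G} : Set k[X]) :=
      Submodule.subset_span (Set.mem_insert _ _)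
    have : Module.finrank k (Submodule.span k ({F, G} : Set k[X])) ≤ 1 := by
      apply finrank_le_one (⟨F, hFmem⟩ : Submodule.span k ({F, G} : Set k[X]))
      rintro ⟨w, hw⟩
      obtain ⟨a, b, rfl⟩ := Submodule.mem_span_pair.mp hw
      refine ⟨a, ?_⟩
      apply Subtype.ext
      simp [hG0]
    omega
  have hF : F ≠ 0 := by
    intro h0
    rw [h0] at hlt
    simp at hlt
  refine ⟨⟨G, Submodule.subset_span (Set.mem_insert_of_mem _ (Set.mem_singleton _)), hG, ?_⟩, ?_⟩
  · omega
  · intro s hs hs0
    obtain ⟨a, b, rfl⟩ := Submodule.mem_span_pair.mp hs
    suffices G.natDegree ≤ (a • F + b • G).natDegree by omega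
    by_cases ha : a = 0
    · subst ha
      have hb : b ≠ 0 := by
        rintro rfl
        simp at hs0
      rw [zero_smul, zero_add, Polynomial.natDegree_smul _ hb]
    · have h1 : (b • G).natDegree < (a • F).natDegree := by
        rw [Polynomial.natDegree_smul _ ha]
        exact lt_of_le_of_lt (Polynomial.natDegree_smul_le b G) hlt
      rw [Polynomial.natDegree_add_eq_left_of_natDegree_lt h1, Polynomial.natDegree_smul _ ha]
      exact hlt.le

end Groth.Agent.S19561
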