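import Groth.Statements.S19568
-- import your own Groth.Agent.* helpers here
import Groth.Agent.Lib.Helper26PairHzMore

set_option autoImplicit false
universe u
open Hensel

namespace Groth.Agent.S19568

open Groth.Agent.Lib.Helper26.PairHz Groth.Agent.Lib.Helper18ColimSys

/-- Let A be a ring, I an ideal of A and B an A-algebra which is a henselization of the pair (A, I).
Consider étale A-algebras A' for which the induced map A/I → A'/IA' is bijective. Then: (a) every
such A' admits exactly one A-algebra map to B; (b) every element of B is the image of an element of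
some such A' under an A-algebra map A' → B; (c) if an A-algebra map A' → B from such an algebra
sends an element s to 0, then there are another such algebra A'' and an A-algebra map A' → A''
sending s to 0. (All algebras are taken in the universe of A. Together with the filteredness of the
category of these algebras, (a), (b) and (c) express that B, with the maps of (a), is their
colimit.) -/
theorem result (A : Type u) [CommRing A] (I : Ideal A)
    (B : Type u) [CommRing B] [Algebra A B] (hB : Hens2.IsPairHenselization A I B) :
    (∀ (A' : Type u) [CommRing A'] [Algebra A A'] [Algebra.Etale A A'],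
        Function.Bijective (Ideal.quotientMap (I.map (algebraMap A A')) (algebraMap A A') Ideal.le_comap_map) →
          Nonempty (Unique (A' →ₐ[A] B))) ∧
    (∀ x : B, ∃ (A' : Type u) (_ : CommRing A') (_ : Algebra A A') (_ : Algebra.Etale A A'),
        Function.Bijective (Ideal.quotientMap (I.map (algebraMap A A')) (algebraMap A A') Ideal.le_comap_map) ∧
          ∃ (φ : A' →ₐ[A] B) (s : A'), φ s = x) ∧
    (∀ (A' : Type u) [CommRing A'] [Algebra A A'] [Algebra.Etale A A'],
        Function.Bijective (Ideal.quotientMap (I.map (algebraMap A A')) (algebraMap A A') Ideal.le_comap_map) →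
          ∀ (φ : A' →ₐ[A] B) (s : A'), φ s = 0 →
            ∃ (A'' : Type u) (_ : CommRing A'') (_ : Algebra A A'') (_ : Algebra.Etale A A''),
              Function.Bijective (Ideal.quotientMap (I.map (algebraMap A A'')) (algebraMap A A'') Ideal.le_comap_map) ∧
                ∃ ψ : A' →ₐ[A] A'', ψ s = 0) := by
  obtain ⟨ρ, hS⟩ := exists_sys_of_isPairHenselization hB
  refine ⟨?_, ?_, ?_⟩
  · intro A' _ _ _ hq
    have hN : IsNbhd I A' := IsNbhd.of_quotientMap_bijective hq
    obtain ⟨φ, -⟩ := exists_algHom_of_nbhd hB hN
    exact ⟨⟨⟨φ⟩, fun ψ => algHom_ext_of_isPairHenselization hB hN ψ φ⟩⟩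
  · intro x
    obtain ⟨i, c, hc⟩ := hS.surj x
    exact ⟨i.C, inferInstance, inferInstance, inferInstance, i.isNbhd.quotientMap_bijective,
      ρ i, c, hc⟩
  · intro A' _ _ _ hq φ s hs
    have hN : IsNbhd I A' := IsNbhd.of_quotientMap_bijective hq
    obtain ⟨i, ⟨e⟩⟩ := exists_idx hN
    have h1 : (ρ i).comp e.toAlgHom = φ := algHom_ext_of_isPairHenselization hB hN _ _
    have h2 : ρ i (e s) = 0 := by
      have := congrArg (fun k : A' →ₐ[A] B => k s) h1
      simp only [AlgHom.coe_comp, Function.comp_apply] at this
      rw [← hs, ← this]
      rfl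
    obtain ⟨j, ψ', -, hψ'⟩ := hS.ker i (e s) h2
    exact ⟨j.C, inferInstance, inferInstance, inferInstance, j.isNbhd.quotientMap_bijective,
      ψ'.comp e.toAlgHom, hψ'⟩

end Groth.Agent.S19568
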