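import Groth.Statements.S1957
import Groth.Agent.Lib.Helper20EtUnitLoc

set_option autoImplicit false
universe u
open Polynomial
open EtAlg

namespace Groth.Agent.S1957

/-- Let A be a ring, I an ideal and f a monic polynomial over A. Suppose the image of f in (A/I)[x]
factors as g h where the leading coefficient of g is a unit and g, h generate the unit ideal. Then
there is an etale A-algebra A' such that A/I -> A'/IA' is bijective, together with a factorization f
= g' h' in A'[x] whose reduction modulo IA' is the image of the given one. -/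
theorem result (A : Type u) [CommRing A] (I : Ideal A) (f : A[X]) (hf : f.Monic)
    (g h : (A ⧸ I)[X]) (hgh : f.map (Ideal.Quotient.mk I) = g * h) (hlead : IsUnit g.leadingCoeff)
    (hcop : IsCoprime g h) :
    ∃ (A' : Type u) (_ : CommRing A') (_ : Algebra A A') (_ : Algebra.Etale A A'),
      Function.Bijective (Ideal.quotientMap (I.map (algebraMap A A')) (algebraMap A A') Ideal.le_comap_map) ∧
      ∃ g' h' : A'[X], f.map (algebraMap A A') = g' * h' ∧
        g'.map (Ideal.Quotient.mk (I.map (algebraMap A A'))) =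
          g.map (Ideal.quotientMap (I.map (algebraMap A A')) (algebraMap A A') Ideal.le_comap_map) ∧
        h'.map (Ideal.Quotient.mk (I.map (algebraMap A A'))) =
          h.map (Ideal.quotientMap (I.map (algebraMap A A')) (algebraMap A A') Ideal.le_comap_map) := by
  classical
  -- normalize to monic factors
  set cu : (A ⧸ I)ˣ := hlead.unit with hcu
  have hcu' : (cu : A ⧸ I) = g.leadingCoeff := rfl
  set g₁ : (A ⧸ I)[X] := C (↑cu⁻¹ : A ⧸ I) * g with hg₁
  set h₁ : (A ⧸ I)[X] := C (cu : A ⧸ I) * h with hh₁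
  have hg₁m : g₁.Monic := monic_C_mul_of_mul_leadingCoeff_eq_one (by rw [← hcu']; simp)
  have hprod : g₁ * h₁ = g * h := by
    rw [hg₁, hh₁]
    calc C (↑cu⁻¹ : A ⧸ I) * g * (C (cu : A ⧸ I) * h)
        = C ((↑cu⁻¹ : A ⧸ I) * cu) * (g * h) := by rw [C_mul]; ring
      _ = g * h := by simp
  have hfg₁h₁ : f.map (Ideal.Quotient.mk I) = g₁ * h₁ := by rw [hprod, hgh]
  have hh₁m : h₁.Monic := hg₁m.of_mul_monic_left (by rw [← hfg₁h₁]; exact hf.map _)
  have hcop₁ : IsCoprime g₁ h₁ := by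
    rw [hg₁, hh₁]
    have u1 : IsUnit (C (↑cu⁻¹ : A ⧸ I)) := (Units.isUnit _).map C
    have u2 : IsUnit (C (cu : A ⧸ I)) := (Units.isUnit _).map C
    rw [isCoprime_mul_unit_left_left u1, isCoprime_mul_unit_left_right u2]
    exact hcop
  obtain ⟨A₁, _, _, hét₁, hbij₁, g₁', h₁', -, -, hfgh, -, hg₁'map, hh₁'map⟩ :=
    Groth.Agent.Lib.Helper20.EtSection.exists_etale_lift_factorization I f hf g₁ h₁ hg₁m hh₁m
      hcop₁ hfg₁h₁
  set J₁ : Ideal A₁ := I.map (algebraMap A A₁) with hJ₁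
  set φ₁ : A ⧸ I →+* A₁ ⧸ J₁ := algebraMap (A ⧸ I) (A₁ ⧸ J₁) with hφ₁
  -- lift the unit
  obtain ⟨c₁, hc₁⟩ := Ideal.Quotient.mk_surjective (φ₁ cu)
  have hc₁u : IsUnit (Ideal.Quotient.mk J₁ c₁) := by rw [hc₁]; exact (Units.isUnit cu).map φ₁
  have hbij₂ := Groth.Agent.Lib.Helper20.EtUnitLoc.bijective_quotientMap_away J₁ c₁ hc₁u
  have hét : Algebra.Etale A (Localization.Away c₁) := Algebra.Etale.comp A A₁ _
  refine ⟨Localization.Away c₁, inferInstance, inferInstance, hét,
    Groth.Agent.Lib.Helper20.EtUnitLoc.bijective_quotientMap_comp I hbij₁ hbij₂, ?_⟩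
  set A' := Localization.Away c₁ with hA'
  set J' : Ideal A' := I.map (algebraMap A A') with hJ'
  set Φ : A ⧸ I →+* A' ⧸ J' := Ideal.quotientMap J' (algebraMap A A') Ideal.le_comap_map with hΦ
  have hJ₁J' : J₁ ≤ J'.comap (algebraMap A₁ A') := by
    rw [hJ₁, Ideal.map_le_iff_le_comap]
    intro a ha
    rw [Ideal.mem_comap, Ideal.mem_comap, ← IsScalarTower.algebraMap_apply]
    exact Ideal.mem_map_of_mem _ ha
  set Ψ : A₁ ⧸ J₁ →+* A' ⧸ J' := Ideal.quotientMap J' (algebraMap A₁ A') hJ₁J' with hΨ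
  have hF1 : (Ideal.Quotient.mk J').comp (algebraMap A₁ A') = Ψ.comp (Ideal.Quotient.mk J₁) := by
    ext a; simp [Ψ]
  have hF2 : Ψ.comp φ₁ = Φ := by
    apply Ideal.Quotient.ringHom_ext
    ext a
    simp only [RingHom.comp_apply, hφ₁, Ψ, Φ, Ideal.quotientMap_mk]
    rw [Ideal.Quotient.algebraMap_quotient_map_quotient, Ideal.quotientMap_mk,
      ← IsScalarTower.algebraMap_apply]
  set γu : A'ˣ := (IsLocalization.Away.algebraMap_isUnit (S := A') c₁).unit with hγu
  have hγ : (γu : A') = algebraMap A₁ A' c₁ := rfl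
  have hmkγ : Ideal.Quotient.mk J' (γu : A') = Φ cu := by
    rw [hγ, ← hF2, RingHom.comp_apply, ← hc₁]
    simp [Ψ]
  have hmkγinv : Ideal.Quotient.mk J' ((γu⁻¹ : A'ˣ) : A') = Φ ((cu⁻¹ : (A ⧸ I)ˣ) : A ⧸ I) := by
    have h1 : Units.map (Ideal.Quotient.mk J').toMonoidHom γu = Units.map Φ.toMonoidHom cu :=
      Units.ext hmkγ
    have h2 := congrArg (fun w : (A' ⧸ J')ˣ => ((w⁻¹ : (A' ⧸ J')ˣ) : A' ⧸ J')) h1
    simpa using h2
  refine ⟨C (γu : A') * g₁'.map (algebraMap A₁ A'),
    C ((γu⁻¹ : A'ˣ) : A') * h₁'.map (algebraMap A₁ A'), ?_, ?_, ?_⟩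
  · calc f.map (algebraMap A A')
        = (f.map (algebraMap A A₁)).map (algebraMap A₁ A') := by
          rw [Polynomial.map_map, ← IsScalarTower.algebraMap_eq]
      _ = g₁'.map (algebraMap A₁ A') * h₁'.map (algebraMap A₁ A') := by
          rw [hfgh, Polynomial.map_mul]
      _ = C ((γu : A') * ((γu⁻¹ : A'ˣ) : A')) *
          (g₁'.map (algebraMap A₁ A') * h₁'.map (algebraMap A₁ A')) := by simp
      _ = _ := by rw [C_mul]; ring
  · rw [Polynomial.map_mul, Polynomial.map_C, hmkγ, Polynomial.map_map, hF1, ← Polynomial.map_map,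
      hg₁'map, Polynomial.map_map]
    change C (Φ cu) * Polynomial.map (Ψ.comp φ₁) g₁ = _
    rw [hF2, hg₁, Polynomial.map_mul, Polynomial.map_C, ← mul_assoc, ← C_mul, ← map_mul]
    simp
  · rw [Polynomial.map_mul, Polynomial.map_C, hmkγinv, Polynomial.map_map, hF1,
      ← Polynomial.map_map, hh₁'map, Polynomial.map_map]
    change C (Φ _) * Polynomial.map (Ψ.comp φ₁) h₁ = _
    rw [hF2, hh₁, Polynomial.map_mul, Polynomial.map_C, ← mul_assoc, ← C_mul, ← map_mul]
    simp

end Groth.Agent.S1957
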