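import Groth.Statements.S19574
import Mathlib.RingTheory.Flat.Basic
import Mathlib.RingTheory.Flat.Tensor
import Mathlib.LinearAlgebra.TensorProduct.RightExactness
import Mathlib.Algebra.Homology.ShortComplex.ModuleCat
import Mathlib.Algebra.Category.ModuleCat.Monoidal.Basic

set_option autoImplicit false
universe u
open CategoryTheory MonoidalCategory
open Lie3Mod

namespace Groth.Agent.S19574

open TensorProduct

section ALC

variable {R : Type u} [CommRing R] {B F W : Type u} [AddCommGroup B] [AddCommGroup F]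
  [AddCommGroup W] [Module R B] [Module R F] [Module R W] (i : B →ₗ[R] F) (π : F →ₗ[R] W)

/-- flatness of the cokernel from injectivity on all cyclic modules
(copied from helper3's Lib/Helper3FlatCxArt to avoid its import chain) -/
theorem flat_of_rTensor_injective_quot [Module.Flat R F] (hπ : Function.Surjective π)
    (hex : Function.Exact i π)
    (hQ : ∀ I : Ideal R, Function.Injective (i.rTensor (R ⧸ I))) : Module.Flat R W := by
  rw [Module.Flat.iff_lTensor_injective']
  intro I
  rw [injective_iff_map_eq_zero]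
  intro x hx
  obtain ⟨y, rfl⟩ := LinearMap.rTensor_surjective I hπ x
  set z := (I.subtype.lTensor F) y with hz
  have hz0 : (π.rTensor R) z = 0 := by
    rw [hz, ← LinearMap.comp_apply, LinearMap.rTensor_comp_lTensor,
      ← LinearMap.lTensor_comp_rTensor, LinearMap.comp_apply, hx]
  obtain ⟨b, hb⟩ := (rTensor_exact R hex hπ z).mp hz0
  let mk : R →ₗ[R] R ⧸ I := I.mkQ
  have hmk : mk ∘ₗ I.subtype = 0 := by
    ext r
    exact (Submodule.Quotient.mk_eq_zero I).mpr r.2
  have hc : (mk.lTensor B) b = 0 := by
    apply hQ I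
    rw [map_zero, ← LinearMap.comp_apply, LinearMap.rTensor_comp_lTensor,
      ← LinearMap.lTensor_comp_rTensor, LinearMap.comp_apply, hb, hz, ← LinearMap.comp_apply,
      ← LinearMap.lTensor_comp, hmk, LinearMap.lTensor_zero, LinearMap.zero_apply]
  obtain ⟨b', rfl⟩ := (lTensor_exact B (LinearMap.exact_subtype_mkQ I)
    (Submodule.mkQ_surjective I) b).mp hc
  have hFI : Function.Injective (I.subtype.lTensor F) :=
    Module.Flat.lTensor_preserves_injective_linearMap _ (Submodule.subtype_injective I)
  have hy : y = (i.rTensor I) b' := by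
    apply hFI
    rw [← hz, ← hb, ← LinearMap.comp_apply, ← LinearMap.comp_apply,
      LinearMap.rTensor_comp_lTensor, LinearMap.lTensor_comp_rTensor]
  have hπi : π ∘ₗ i = 0 := by
    ext t
    exact (hex (i t)).mpr ⟨t, rfl⟩
  rw [hy, ← LinearMap.comp_apply, ← LinearMap.rTensor_comp, hπi, LinearMap.rTensor_zero,
    LinearMap.zero_apply]

end ALC
open CategoryTheory MonoidalCategory in
theorem main (R : Type u) [CommRing R] (K : ChainComplex (ModuleCat.{u} R) ℕ)
    (hflat1 : Module.Flat R (K.X 1)) (hK : K.Acyclic)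
    (hbc : ∀ I : Ideal R,
      (((tensorLeft (ModuleCat.of R (R ⧸ I))).mapHomologicalComplex (ComplexShape.down ℕ)).obj
        K).Acyclic) :
    Module.Flat R (K.X 0) := by
  -- surjectivity of d10
  have h0 : Function.Surjective (K.d 1 0).hom := by
    have hex := (HomologicalComplex.exactAt_iff' K 1 0 0 (by simp) (by simp)).mp (hK 0)
    rw [ShortComplex.moduleCat_exact_iff] at hex
    intro x
    have hd : K.d 0 0 = 0 := K.shape 0 0 (by simp)
    obtain ⟨y, hy⟩ := hex x (by
      show (K.d 0 0).hom x = 0
      rw [hd]; rfl)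
    exact ⟨y, hy⟩
  -- exactness at 1
  have h1 : Function.Exact (K.d 2 1).hom (K.d 1 0).hom := by
    have hex := (HomologicalComplex.exactAt_iff' K 2 1 0 (by simp) (by simp)).mp (hK 1)
    rw [ShortComplex.moduleCat_exact_iff] at hex
    intro y
    constructor
    · intro hy
      exact hex y hy
    · rintro ⟨x, rfl⟩
      have := K.d_comp_d 2 1 0
      exact congr($(this).hom x)
  set Z : Submodule R (K.X 1) := LinearMap.range (K.d 2 1).hom with hZ
  have hex : Function.Exact Z.subtype (K.d 1 0).hom := by
    intro y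
    rw [h1 y]
    constructor
    · rintro ⟨x, rfl⟩
      exact ⟨⟨(K.d 2 1).hom x, ⟨x, rfl⟩⟩, rfl⟩
    · rintro ⟨⟨z, x, rfl⟩, rfl⟩
      exact ⟨x, rfl⟩
  refine flat_of_rTensor_injective_quot Z.subtype (K.d 1 0).hom h0 hex ?_
  intro I
  rw [← LinearMap.lTensor_inj_iff_rTensor_inj]
  -- exactness of the tensored complex at 2
  have h2 : ∀ y : (R ⧸ I) ⊗[R] (K.X 2), ((K.d 2 1).hom.lTensor (R ⧸ I)) y = 0 →
      ∃ w : (R ⧸ I) ⊗[R] (K.X 3), ((K.d 3 2).hom.lTensor (R ⧸ I)) w = y := by
    have hex2 := (HomologicalComplex.exactAt_iff' _ 3 2 1 (by simp) (by simp)).mp (hbc I 2)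
    rw [ShortComplex.moduleCat_exact_iff] at hex2
    intro y hy
    exact hex2 y hy
  set q : K.X 2 →ₗ[R] Z := (K.d 2 1).hom.rangeRestrict with hq
  have hqs : Function.Surjective q := LinearMap.surjective_rangeRestrict _
  have hiq : Z.subtype ∘ₗ q = (K.d 2 1).hom := LinearMap.subtype_comp_codRestrict _ _ _
  have hq0 : q ∘ₗ (K.d 3 2).hom = 0 := by
    apply LinearMap.ext
    intro x
    apply Subtype.ext
    have := K.d_comp_d 3 2 1
    exact congr($(this).hom x)
  rw [injective_iff_map_eq_zero]
  intro x hx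
  obtain ⟨y, rfl⟩ := LinearMap.lTensor_surjective (R ⧸ I) hqs x
  have hy : ((K.d 2 1).hom.lTensor (R ⧸ I)) y = 0 := by
    rw [← hiq, LinearMap.lTensor_comp, LinearMap.comp_apply, hx]
  obtain ⟨w, rfl⟩ := h2 y hy
  rw [← LinearMap.comp_apply, ← LinearMap.lTensor_comp, hq0, LinearMap.lTensor_zero,
    LinearMap.zero_apply]

/-- Let R be a commutative ring and d ≥ 1. Let K be a chain complex of R-modules concentrated in degrees
0, …, d + 1, written … → 0 → P_{d+1} → P_d → … → P_1 → M with M = K_0, which is exact (so 0 →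
P_{d+1} → … → P_1 → M → 0 is an exact sequence), such that P_1, …, P_d are flat R-modules and such
that for every ideal I of R the complex obtained by applying (R/I) ⊗_R − termwise is again exact.
Then M is a flat R-module. (No flatness is assumed for P_{d+1}. The published lemma adds that for R
Noetherian it suffices to test prime ideals I; that refinement is not part of this statement.) -/
theorem result (R : Type u) [CommRing R]
    (d : ℕ) (hd : 1 ≤ d) (K : ChainComplex (ModuleCat.{u} R) ℕ)
    (hzero : ∀ i : ℕ, d + 1 < i → Limits.IsZero (K.X i))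
    (hflat : ∀ i : ℕ, 1 ≤ i → i ≤ d → Module.Flat R (K.X i))
    (hK : K.Acyclic)
    (hbc : ∀ I : Ideal R,
      (((tensorLeft (ModuleCat.of R (R ⧸ I))).mapHomologicalComplex (ComplexShape.down ℕ)).obj K).Acyclic) :
    Module.Flat R (K.X 0) := by
  exact main R K (hflat 1 le_rfl hd) hK hbc

end Groth.Agent.S19574
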