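import Groth.Statements.S19576
import Groth.Agent.Lib.Helper20EtaPtLoc

set_option autoImplicit false
universe u
open EtaPt

namespace Groth.Agent.S19576

theorem eq_top_of_pow_mem {A : Type*} [CommRing A] (I : Ideal A) (s : Finset A)
    (hspan : Ideal.span (s : Set A) = ⊤) (h : ∀ f ∈ s, ∃ n : ℕ, f ^ n ∈ I) : I = ⊤ := by
  by_contra hne
  obtain ⟨m, hm, hIm⟩ := Ideal.exists_le_maximal I hne
  have h1 : Ideal.span (s : Set A) ≤ m := by
    rw [Ideal.span_le]
    intro f hf
    obtain ⟨n, hn⟩ := h f hf
    exact hm.isPrime.mem_of_pow_mem n (hIm hn)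
  rw [hspan] at h1
  exact hm.ne_top (top_le_iff.mp h1)


/-- Let η be the field-endofunctor datum of the pointwise construction, A a commutative ring with
finitely many minimal prime ideals and φ : A → B a ring map inducing a surjection on prime spectra.
If finitely many elements f_1, …, f_n of A generate the unit ideal and, for each i, the canonical
map A_{f_i} → (B_{f_i}/A_{f_i})_η attached to the localized map A_{f_i} → B_{φ(f_i)} is bijective,
then the canonical map A → (B/A)_η is bijective. -/
theorem result (η : EtaPt.FieldEndo.{u}) {A B : Type u} [CommRing A] [CommRing B]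
    (hA : (minimalPrimes A).Finite) (φ : A →+* B) (hs : Function.Surjective (PrimeSpectrum.comap φ))
    (s : Finset A) (hspan : Ideal.span (s : Set A) = ⊤)
    (h : ∀ f ∈ s, Function.Bijective (η.qRel (Localization.awayMap φ f))) :
    Function.Bijective (η.qRel φ) := by
  constructor
  · intro a a' haa'
    have h0 : φ (a - a') = 0 := by
      rw [map_sub, sub_eq_zero]
      exact congrArg Subtype.val haa'
    have hI : (Ideal.span {a - a'}).annihilator = ⊤ := by
      apply eq_top_of_pow_mem _ s hspan
      intro f hf
      have h1 : η.qRel (Localization.awayMap φ f) (algebraMap A (Localization.Away f) (a - a')) =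
          η.qRel (Localization.awayMap φ f) 0 := by
        apply Subtype.ext
        show Localization.awayMap φ f (algebraMap A (Localization.Away f) (a - a')) =
          Localization.awayMap φ f 0
        have := RingHom.congr_fun (Groth.Agent.Lib.Helper20.EtaPt.awayMap_comp φ f) (a - a')
        rw [RingHom.comp_apply, RingHom.comp_apply, h0, map_zero] at this
        rw [this, map_zero]
      have h2 := (h f hf).1 h1
      rw [IsLocalization.map_eq_zero_iff (Submonoid.powers f)] at h2
      obtain ⟨⟨_, n, rfl⟩, hn⟩ := h2
      refine ⟨n, ?_⟩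
      rw [Submodule.mem_annihilator_span_singleton, smul_eq_mul]
      exact hn
    have h1 : (1 : A) ∈ (Ideal.span {a - a'}).annihilator := hI ▸ Submodule.mem_top
    rw [Submodule.mem_annihilator_span_singleton, smul_eq_mul, one_mul] at h1
    exact sub_eq_zero.mp h1
  · rintro ⟨b, hb⟩
    let I : Ideal A :=
      { carrier := {r | ∃ c : A, φ r * b = φ c}
        add_mem' := by
          rintro r r' ⟨c, hc⟩ ⟨c', hc'⟩
          exact ⟨c + c', by rw [map_add, add_mul, hc, hc', map_add]⟩
        zero_mem' := ⟨0, by rw [map_zero, zero_mul]⟩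
        smul_mem' := by
          rintro r' r ⟨c, hc⟩
          exact ⟨r' * c, by rw [smul_eq_mul, map_mul, mul_assoc, hc, map_mul]⟩ }
    have hI : I = ⊤ := by
      apply eq_top_of_pow_mem _ s hspan
      intro f hf
      have hmem : algebraMap B (Localization.Away (φ f)) b ∈
          η.rel (Localization.awayMap φ f) :=
        Groth.Agent.Lib.Helper20.EtaPt.rel_map_away_le η φ f (Subring.mem_map.mpr ⟨b, hb, rfl⟩)
      obtain ⟨α, hα⟩ := (h f hf).2 ⟨_, hmem⟩
      have hα' : Localization.awayMap φ f α = algebraMap B (Localization.Away (φ f)) b :=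
        congrArg Subtype.val hα
      obtain ⟨⟨a, ⟨_, n, rfl⟩⟩, han⟩ := IsLocalization.surj (Submonoid.powers f) α
      have han' : α * algebraMap A (Localization.Away f) (f ^ n) =
          algebraMap A (Localization.Away f) a := han
      have h1 := congrArg (Localization.awayMap φ f) han'
      have hc := fun z => RingHom.congr_fun (Groth.Agent.Lib.Helper20.EtaPt.awayMap_comp φ f) z
      simp only [RingHom.comp_apply] at hc
      rw [map_mul, hc, hc, hα', ← map_mul] at h1
      obtain ⟨⟨_, m, rfl⟩, hm⟩ := (IsLocalization.eq_iff_exists (Submonoid.powers (φ f)) _).mp h1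
      refine ⟨m + n, f ^ m * a, ?_⟩
      have hm' : φ f ^ m * (b * φ (f ^ n)) = φ f ^ m * φ a := hm
      show φ (f ^ (m + n)) * b = φ (f ^ m * a)
      rw [map_mul, map_pow, map_pow, ← hm', map_pow, pow_add]
      ring
    have h1 : (1 : A) ∈ I := hI ▸ Submodule.mem_top
    obtain ⟨c, hc⟩ := h1
    refine ⟨c, Subtype.ext ?_⟩
    rw [map_one, one_mul] at hc
    exact hc.symm

end Groth.Agent.S19576
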