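import Groth.Statements.S19578
import Groth.Agent.Lib.Helper20EtaPtRel

set_option autoImplicit false
universe u
open EtaPt

namespace Groth.Agent.S19578

/-- Let f : A → B be a homomorphism of commutative rings, each with only finitely many minimal primes,
and suppose the induced map M_η(f) : M_η(A) → M_η(B) is an isomorphism. Then Spec f is a bijection
between the prime ideals of B and of A, and for every prime q of B, with p = f⁻¹(q), there is a ring
map φ : k(q) → F(k(p)) whose composite with the residue field map k(p) → k(q) equals η_{k(p)}. Here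
η is the field-endofunctor datum of the pointwise construction, M_η(A) ⊆ ∏_p F(k(p)) the subring
attached to A with q_A : A → M_η(A), and M_η(f) : M_η(A) → M_η(B) the ring map induced by N_η(f),
pinned here as the ring map g compatible with N_η(f) under the two subring inclusions. -/
theorem result (η : EtaPt.FieldEndo.{u}) {A B : Type u} [CommRing A] [CommRing B]
    (hA : (minimalPrimes A).Finite) (hB : (minimalPrimes B).Finite) (f : A →+* B)
    (g : η.M A →+* η.M B) (hg : ∀ x : η.M A, ((g x : η.M B) : η.N B) = η.Nmap f (x : η.N A))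
    (hbij : Function.Bijective g) :
    Function.Bijective (PrimeSpectrum.comap f) ∧
      ∀ Q : PrimeSpectrum B,
        ∃ φ : Q.asIdeal.ResidueField →+* η.obj (PrimeSpectrum.comap f Q).asIdeal.ResidueField,
          φ.comp (Ideal.ResidueField.map (PrimeSpectrum.comap f Q).asIdeal Q.asIdeal f rfl) =
            η.eta (PrimeSpectrum.comap f Q).asIdeal.ResidueField := by
  have hcomm : g.comp (η.q A) = (η.q B).comp f := by
    refine RingHom.ext fun a => Subtype.ext ?_
    show ((g (η.q A a) : η.M B) : η.N B) = η.t B (f a)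
    rw [hg]
    exact η.Nmap_t_apply f a
  have hbA := Groth.Agent.Lib.Helper20.EtaPt.comap_q_bijective η hA
  have hbB := Groth.Agent.Lib.Helper20.EtaPt.comap_q_bijective η hB
  have hc : ∀ Q' : PrimeSpectrum (η.M B), PrimeSpectrum.comap (η.q A) (PrimeSpectrum.comap g Q') =
      PrimeSpectrum.comap f (PrimeSpectrum.comap (η.q B) Q') := by
    intro Q'
    rw [← PrimeSpectrum.comap_comp_apply, ← PrimeSpectrum.comap_comp_apply, hcomm]
  let e : η.M A ≃+* η.M B := RingEquiv.ofBijective g hbij
  have hge : ∀ x, g (e.symm x) = x := fun x => e.apply_symm_apply x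
  have heg : ∀ x, e.symm (g x) = x := fun x => e.symm_apply_apply x
  have hgb : Function.Bijective (PrimeSpectrum.comap g) := by
    rw [Function.bijective_iff_has_inverse]
    refine ⟨PrimeSpectrum.comap (e.symm : η.M B →+* η.M A), fun Q => ?_, fun P => ?_⟩
    · rw [← PrimeSpectrum.comap_comp_apply]
      have : g.comp (e.symm : η.M B →+* η.M A) = RingHom.id _ := RingHom.ext hge
      rw [this, PrimeSpectrum.comap_id]
    · rw [← PrimeSpectrum.comap_comp_apply]
      have : (e.symm : η.M B →+* η.M A).comp g = RingHom.id _ := RingHom.ext heg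
      rw [this, PrimeSpectrum.comap_id]
  refine ⟨⟨?_, ?_⟩, ?_⟩
  · intro Q₁ Q₂ h12
    obtain ⟨Q₁', rfl⟩ := hbB.2 Q₁
    obtain ⟨Q₂', rfl⟩ := hbB.2 Q₂
    rw [← hc, ← hc] at h12
    rw [hgb.1 (hbA.1 h12)]
  · intro P
    obtain ⟨P', rfl⟩ := hbA.2 P
    obtain ⟨Q', rfl⟩ := hgb.2 P'
    exact ⟨PrimeSpectrum.comap (η.q B) Q', (hc Q').symm⟩
  · intro Q
    let P : PrimeSpectrum A := PrimeSpectrum.comap f Q
    let ψ : B →+* η.obj P.asIdeal.ResidueField :=
      ((Groth.Agent.Lib.Helper20.EtaPt.ev η P).comp (e.symm : η.M B →+* η.M A)).comp (η.q B)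
    have hψ : ∀ b : B, ψ b = 0 ↔ b ∈ Q.asIdeal := by
      intro b
      have h1 : η.Nmap f ((e.symm (η.q B b) : η.M A) : η.N A) = η.t B b := by
        rw [← hg, hge]
        rfl
      have h2 := congrFun h1 Q
      rw [Groth.Agent.Lib.Helper20.EtaPt.Nmap_apply, Groth.Agent.Lib.Helper20.EtaPt.t_apply] at h2
      show ((e.symm (η.q B b) : η.M A) : η.N A) P = 0 ↔ b ∈ Q.asIdeal
      rw [← Ideal.algebraMap_residueField_eq_zero,
        ← map_eq_zero (η.eta Q.asIdeal.ResidueField), ← h2, map_eq_zero]
    have hψf : ∀ a : A, ψ (f a) = η.eta _ (algebraMap A P.asIdeal.ResidueField a) := by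
      intro a
      show Groth.Agent.Lib.Helper20.EtaPt.ev η P (e.symm (η.q B (f a))) = _
      have : η.q B (f a) = g (η.q A a) := (RingHom.congr_fun hcomm a).symm
      rw [this, heg]
      rfl
    have hle : Q.asIdeal ≤ RingHom.ker ψ := fun b hb => (hψ b).mpr hb
    have hu : Q.asIdeal.primeCompl ≤ (IsUnit.submonoid _).comap ψ := by
      intro b hb
      change IsUnit (ψ b)
      rw [isUnit_iff_ne_zero]
      intro h0
      exact hb ((hψ b).mp h0)
    refine ⟨Ideal.ResidueField.lift Q.asIdeal ψ hle hu, ?_⟩
    apply Ideal.ResidueField.ringHom_ext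
    refine RingHom.ext fun a => ?_
    simp only [RingHom.comp_apply]
    rw [Ideal.ResidueField.map_algebraMap, Ideal.ResidueField.lift_algebraMap]
    exact hψf a

end Groth.Agent.S19578
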