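import Groth.Statements.S1959
import Mathlib

set_option autoImplicit false
universe u
open Polynomial
open EtAlg

namespace Groth.Agent.S1959

/-- Let I be an ideal of a ring A, A -> B an integral ring map and b an element of B whose image in B/IB
is idempotent. Then there are d ≥ 1 and a monic polynomial f over A with f(b) = 0 whose reduction
modulo I is x^d (x - 1)^d. -/
theorem result (A B : Type u) [CommRing A] [CommRing B] [Algebra A B]
    [Algebra.IsIntegral A B] (I : Ideal A) (b : B)
    (hb : IsIdempotentElem (Ideal.Quotient.mk (I.map (algebraMap A B)) b)) :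
    ∃ (f : A[X]) (d : ℕ), f.Monic ∧ 1 ≤ d ∧ aeval b f = 0 ∧
      f.map (Ideal.Quotient.mk I) = X ^ d * (X - 1) ^ d := by
  classical
  rcases subsingleton_or_nontrivial A with hA | hA
  · have hB : Subsingleton B := by
      have : (1 : B) = 0 := by
        rw [← map_one (algebraMap A B), Subsingleton.elim (1 : A) 0, map_zero]
      exact subsingleton_of_zero_eq_one this.symm
    have : Subsingleton (A ⧸ I) := Ideal.Quotient.mk_surjective.subsingleton
    refine ⟨1, 1, monic_one, le_rfl, Subsingleton.elim _ _, Subsingleton.elim _ _⟩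
  -- z = b^2 - b lies in I B
  have hz : b * b - b ∈ I.map (algebraMap A B) := by
    rw [← Ideal.Quotient.eq_zero_iff_mem, map_sub, map_mul, sub_eq_zero]
    exact hb
  obtain ⟨p, hp, hpz, hpI⟩ := Polynomial.exists_monic_aeval_eq_zero_forall_mem_of_mem_map hz
  set q : A[X] := X ^ 2 - X with hq
  have hqm : q.Monic := monic_X_pow_sub (lt_of_le_of_lt degree_X_le (by norm_num))
  have hqd : q.natDegree = 2 := by
    rw [hq, natDegree_sub_eq_left_of_natDegree_lt (by rw [natDegree_X_pow, natDegree_X]; norm_num),
      natDegree_X_pow]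
  have hqb : aeval b q = b * b - b := by
    simp [hq, pow_two]
  have hpmap : p.map (Ideal.Quotient.mk I) = X ^ p.natDegree := by
    ext i
    rw [coeff_map, coeff_X_pow]
    split_ifs with h
    · rw [h, hp.coeff_natDegree, map_one]
    · exact Ideal.Quotient.eq_zero_iff_mem.mpr (hpI i h)
  have hqmap : q.map (Ideal.Quotient.mk I) = X * (X - 1) := by
    simp [hq]
    ring
  refine ⟨q * p.comp q, p.natDegree + 1, hqm.mul (hp.comp hqm (by rw [hqd]; norm_num)),
    Nat.le_add_left _ _, ?_, ?_⟩
  · rw [map_mul, aeval_comp, hqb, hpz, mul_zero]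
  · rw [Polynomial.map_mul, map_comp, hpmap, hqmap, pow_comp, X_comp, mul_pow]
    ring

end Groth.Agent.S1959
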