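import Groth.Statements.S19590
import Mathlib.LinearAlgebra.Matrix.GeneralLinearGroup.Defs
import Mathlib.Data.ZMod.Basic
import Mathlib.Tactic.Abel
import Mathlib.Tactic.Ring
import Mathlib.Tactic.Linarith
import Mathlib.GroupTheory.OrderOfElement

set_option autoImplicit false
open BddFin

namespace Groth.Agent.S19590

section General

variable {R R' : Type*} [Ring R] [Ring R'] (φ : R →+* R')

/-- powers of `1 + c • X` -/
lemma pow_one_add_smul (h3 : ∀ z : R', (3 : ℤ) • z = 0) (a : ℕ) (X : R) (t : ℕ) :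
    ∃ Y : R, (1 + ((3 : ℤ) ^ (a + 1)) • X) ^ t = 1 + ((3 : ℤ) ^ (a + 1)) • Y ∧
      φ Y = (t : ℤ) • φ X := by
  induction t with
  | zero => exact ⟨0, by simp, by simp⟩
  | succ t ih =>
    obtain ⟨Y, hY, hφY⟩ := ih
    refine ⟨X + Y + ((3 : ℤ) ^ (a + 1)) • (Y * X), ?_, ?_⟩
    · rw [pow_succ, hY]
      simp only [mul_add, add_mul, mul_one, one_mul, smul_mul_assoc, mul_smul_comm, smul_add, smul_smul]
      abel
    · rw [map_add, map_add, map_zsmul, hφY]
      have : ((3 : ℤ) ^ (a + 1)) • φ (Y * X) = 0 := by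
        rw [pow_succ, mul_comm, mul_smul, h3]
      rw [this, add_zero]
      push_cast
      rw [add_smul, one_smul, add_comm]

/-- the cube of `1 + c • X` -/
lemma cube_one_add_smul (h3 : ∀ z : R', (3 : ℤ) • z = 0) (a : ℕ) (X : R) :
    ∃ Y : R, (1 + ((3 : ℤ) ^ (a + 1)) • X) ^ 3 = 1 + ((3 : ℤ) ^ (a + 2)) • Y ∧ φ Y = φ X := by
  refine ⟨X + ((3 : ℤ) ^ (a + 1)) • (X * X) + ((3 : ℤ) ^ (2 * a + 1)) • (X * X * X), ?_, ?_⟩
  · have e1 : (1 + ((3 : ℤ) ^ (a + 1)) • X) ^ 3 =
        1 + (3 * (3 : ℤ) ^ (a + 1)) • X + (3 * ((3 : ℤ) ^ (a + 1)) ^ 2) • (X * X)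
          + (((3 : ℤ) ^ (a + 1)) ^ 3) • (X * X * X) := by
      rw [pow_succ, pow_succ, pow_one]
      simp only [mul_add, add_mul, mul_one, one_mul, smul_mul_assoc, mul_smul_comm, smul_add,
        smul_smul, mul_assoc]
      have h1 : ((3 : ℤ) * 3 ^ (a + 1)) • X = (3 : ℤ) ^ (a + 1) • X + (3 : ℤ) ^ (a + 1) • X +
          (3 : ℤ) ^ (a + 1) • X := by
        rw [← add_smul, ← add_smul]; congr 1; ring
      have h2 : ((3 : ℤ) * (3 ^ (a + 1)) ^ 2) • (X * X) =
          ((3 : ℤ) ^ (a + 1) * 3 ^ (a + 1)) • (X * X) + ((3 : ℤ) ^ (a + 1) * 3 ^ (a + 1)) • (X * X) +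
            ((3 : ℤ) ^ (a + 1) * 3 ^ (a + 1)) • (X * X) := by
        rw [← add_smul, ← add_smul]; congr 1; ring
      have h3' : (((3 : ℤ) ^ (a + 1)) ^ 3) • (X * (X * X)) =
          ((3 : ℤ) ^ (a + 1) * (3 ^ (a + 1) * 3 ^ (a + 1))) • (X * (X * X)) := by
        congr 1; ring
      rw [h1, h2, h3']
      abel
    rw [e1]
    simp only [smul_add, smul_smul]
    have c1 : (3 : ℤ) * 3 ^ (a + 1) = 3 ^ (a + 2) := by ring
    have c2 : (3 : ℤ) * (3 ^ (a + 1)) ^ 2 = 3 ^ (a + 2) * 3 ^ (a + 1) := by ring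
    have c3 : ((3 : ℤ) ^ (a + 1)) ^ 3 = 3 ^ (a + 2) * 3 ^ (2 * a + 1) := by ring
    rw [c1, c2, c3]
    abel
  · rw [map_add, map_add, map_zsmul, map_zsmul]
    have h1 : ((3 : ℤ) ^ (a + 1)) • φ (X * X) = 0 := by
      rw [pow_succ, mul_comm, mul_smul, h3]
    have h2 : ((3 : ℤ) ^ (2 * a + 1)) • φ (X * X * X) = 0 := by
      rw [pow_succ, mul_comm, mul_smul, h3]
    rw [h1, h2, add_zero, add_zero]

/-- the key lemma -/
lemma key (h3 : ∀ z : R', (3 : ℤ) • z = 0)
    (htf : ∀ (c : ℤ) (Y : R), c ≠ 0 → c • Y = 0 → Y = 0) :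
    ∀ (m : ℕ), 0 < m → ∀ (a : ℕ) (X : R), (1 + ((3 : ℤ) ^ (a + 1)) • X) ^ m = 1 → φ X = 0 := by
  intro m
  induction m using Nat.strong_induction_on with
  | _ m ih =>
    intro hm a X hX
    by_cases hdiv : 3 ∣ m
    · obtain ⟨m', rfl⟩ := hdiv
      have hm' : 0 < m' := by omega
      obtain ⟨Y, hY, hφY⟩ := cube_one_add_smul φ h3 a X
      rw [pow_mul, hY] at hX
      have := ih m' (by omega) hm' (a + 1) Y hX
      rw [← hφY]; exact this
    · obtain ⟨Y, hY, hφY⟩ := pow_one_add_smul φ h3 a X m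
      rw [hY] at hX
      have hY0 : Y = 0 := by
        apply htf ((3 : ℤ) ^ (a + 1)) Y (by positivity)
        have := congrArg (fun z => z - 1) hX
        simpa using this
      rw [hY0, map_zero] at hφY
      -- m • φ X = 0 and 3 • φ X = 0 with gcd = 1
      have hcop : Nat.Coprime m 3 := by
        rw [Nat.coprime_comm]
        exact (Nat.Prime.coprime_iff_not_dvd Nat.prime_three).mpr hdiv
      have hgcd : IsCoprime (m : ℤ) (3 : ℤ) := by
        have := Nat.isCoprime_iff_coprime.mpr hcop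
        simpa using this
      obtain ⟨u, v, huv⟩ := hgcd
      have : φ X = (u * (m : ℤ) + v * 3) • φ X := by rw [huv, one_smul]
      rw [this, add_smul, mul_smul, mul_smul, ← hφY, h3, smul_zero, smul_zero, add_zero]

end General

section Mat

variable {n : ℕ}

lemma three_smul_zmod (z : Matrix (Fin n) (Fin n) (ZMod 3)) : (3 : ℤ) • z = 0 := by
  ext i j
  simp only [Matrix.smul_apply, Matrix.zero_apply, zsmul_eq_mul]
  have : ((3 : ℤ) : ZMod 3) = 0 := by decide
  rw [this, zero_mul]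

lemma tf_int (c : ℤ) (Y : Matrix (Fin n) (Fin n) ℤ) (hc : c ≠ 0) (h : c • Y = 0) : Y = 0 := by
  ext i j
  have := congrFun (congrFun h i) j
  simp only [Matrix.smul_apply, Matrix.zero_apply, smul_eq_mul] at this
  rcases mul_eq_zero.mp this with h1 | h1
  · exact absurd h1 hc
  · exact h1

lemma exists_three_smul (Z : Matrix (Fin n) (Fin n) ℤ)
    (hZ : (Int.castRingHom (ZMod 3)).mapMatrix Z = 0) :
    ∃ Z' : Matrix (Fin n) (Fin n) ℤ, Z = (3 : ℤ) • Z' := by
  refine ⟨Matrix.of fun i j => Z i j / 3, ?_⟩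
  ext i j
  have h1 := congrFun (congrFun hZ i) j
  simp only [RingHom.mapMatrix_apply, Matrix.map_apply, Int.coe_castRingHom, Matrix.zero_apply] at h1
  have h2 : (3 : ℤ) ∣ Z i j := by
    have := (ZMod.intCast_zmod_eq_zero_iff_dvd (Z i j) 3).mp h1
    simpa using this
  simp only [Matrix.smul_apply, Matrix.of_apply, smul_eq_mul]
  rw [Int.mul_ediv_cancel' h2]

lemma mat_eq_one (M : Matrix (Fin n) (Fin n) ℤ) (m : ℕ) (hm : 0 < m) (hM : M ^ m = 1)
    (hmod : (Int.castRingHom (ZMod 3)).mapMatrix M = 1) : M = 1 := by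
  -- all powers of 3 divide M - 1
  have hall : ∀ a : ℕ, ∃ X : Matrix (Fin n) (Fin n) ℤ, M = 1 + ((3 : ℤ) ^ (a + 1)) • X := by
    intro a
    induction a with
    | zero =>
      obtain ⟨X, hX⟩ := exists_three_smul (M - 1) (by rw [map_sub, hmod, map_one, sub_self])
      refine ⟨X, ?_⟩
      rw [zero_add, pow_one, ← hX]; abel
    | succ a ih =>
      obtain ⟨X, hX⟩ := ih
      have hφX : (Int.castRingHom (ZMod 3)).mapMatrix X = 0 := by
        apply key (Int.castRingHom (ZMod 3)).mapMatrix three_smul_zmod tf_int m hm a X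
        rw [← hX]; exact hM
      obtain ⟨X', hX'⟩ := exists_three_smul X hφX
      refine ⟨X', ?_⟩
      rw [hX, hX', smul_smul]
      congr 2
  ext i j
  -- the entry of M - 1 is divisible by every power of 3
  have hdvd : ∀ a : ℕ, ((3 : ℤ) ^ (a + 1)) ∣ (M - 1) i j := by
    intro a
    obtain ⟨X, hX⟩ := hall a
    refine ⟨X i j, ?_⟩
    have : M - 1 = ((3 : ℤ) ^ (a + 1)) • X := by rw [hX]; abel
    rw [this]
    simp
  have hz : (M - 1) i j = 0 := by
    apply Int.eq_zero_of_abs_lt_dvd (hdvd ((M - 1) i j).natAbs)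
    have h1 : ((M - 1) i j).natAbs < 3 ^ (((M - 1) i j).natAbs + 1) := by
      calc ((M - 1) i j).natAbs < ((M - 1) i j).natAbs + 1 := Nat.lt_succ_self _
        _ < 3 ^ (((M - 1) i j).natAbs + 1) := Nat.lt_pow_self (by norm_num)
    rw [Int.abs_eq_natAbs]
    exact_mod_cast h1
  have : M i j - (1 : Matrix (Fin n) (Fin n) ℤ) i j = 0 := by
    simpa using hz
  linarith

end Mat

/-- For every n, the orders of the finite subgroups of GL_n(ℤ) are bounded: there is B such that every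
finite subgroup of GL_n(ℤ) has at most B elements. -/
theorem result (n : ℕ) :
    ∃ B : ℕ, ∀ H : Subgroup (Matrix.GeneralLinearGroup (Fin n) ℤ), Finite H → Nat.card H ≤ B := by
  classical
  refine ⟨Nat.card (Matrix.GeneralLinearGroup (Fin n) (ZMod 3)), ?_⟩
  intro H hH
  let ρ : Matrix.GeneralLinearGroup (Fin n) ℤ →* Matrix.GeneralLinearGroup (Fin n) (ZMod 3) :=
    Matrix.GeneralLinearGroup.map (Int.castRingHom (ZMod 3))
  have hinj : Function.Injective (fun h : H => ρ h.1) := by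
    have hker : ∀ g : H, ρ g.1 = 1 → g = 1 := by
      intro g hg
      have hord : g ^ (Nat.card H) = 1 := pow_card_eq_one'
      have hpos : 0 < Nat.card H := Nat.card_pos
      have hM : (g.1 : Matrix (Fin n) (Fin n) ℤ) ^ (Nat.card H) = 1 := by
        have h2 : (g.1 : Matrix.GeneralLinearGroup (Fin n) ℤ) ^ (Nat.card H) = 1 := by
          rw [← Subgroup.coe_pow, hord]; rfl
        have h3 := congrArg Units.val h2
        rw [Units.val_pow_eq_pow_val] at h3
        exact h3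
      have hmod : (Int.castRingHom (ZMod 3)).mapMatrix (g.1 : Matrix (Fin n) (Fin n) ℤ) = 1 := by
        have := congrArg (fun x : Matrix.GeneralLinearGroup (Fin n) (ZMod 3) => (x : Matrix (Fin n) (Fin n) (ZMod 3))) hg
        simpa [ρ, Matrix.GeneralLinearGroup.map] using this
      have h1 := mat_eq_one (g.1 : Matrix (Fin n) (Fin n) ℤ) (Nat.card H) hpos hM hmod
      apply Subtype.ext
      apply Units.ext
      exact h1
    intro g₁ g₂ h12
    have : ρ (g₁⁻¹ * g₂).1 = 1 := by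
      simp only [Subgroup.coe_mul, Subgroup.coe_inv, map_mul, map_inv]
      rw [show ρ g₁.1 = ρ g₂.1 from h12, inv_mul_cancel]
    have := hker _ this
    exact inv_mul_eq_one.mp this
  exact Nat.card_le_card_of_injective _ hinj

end Groth.Agent.S19590
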