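import Groth.Statements.S19591
import Mathlib
-- import your own Groth.Agent.* helpers here

set_option autoImplicit false
universe u v
open BddFin

namespace Groth.Agent.S19591

/-- Let K be a perfect field of characteristic 2, V a finite-dimensional K-vector space with dim V > 2
and q a quadratic form on V whose polar bilinear form is non-degenerate. Then q represents zero
non-trivially. (Non-degeneracy of the polar form, which is alternating in characteristic 2, forces
dim V to be even, as the published lemma notes.) -/
theorem result
    (K : Type u) [Field K] [CharP K 2] [PerfectField K]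
    (V : Type v) [AddCommGroup V] [Module K V] [FiniteDimensional K V]
    (hV : 2 < Module.finrank K V) (q : QuadraticForm K V)
    (hq : (QuadraticMap.polarBilin q).Nondegenerate) :
    ∃ v : V, v ≠ 0 ∧ q v = 0 := by
  classical
  haveI : Nontrivial V := Module.nontrivial_of_finrank_pos (R := K) (by omega)
  obtain ⟨x, hx⟩ := exists_ne (0 : V)
  by_cases hqx : q x = 0
  · exact ⟨x, hx, hqx⟩
  -- the functional `polar q x`
  let φ : V →ₗ[K] K := QuadraticMap.polarBilin q x
  have hφ : ∀ y, φ y = QuadraticMap.polar q x y := fun y => rfl
  have hker : 2 ≤ Module.finrank K (LinearMap.ker φ) := by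
    have h1 := LinearMap.finrank_range_add_finrank_ker φ
    have h2 : Module.finrank K (LinearMap.range φ) ≤ 1 := by
      calc Module.finrank K (LinearMap.range φ) ≤ Module.finrank K K := Submodule.finrank_le _
        _ = 1 := Module.finrank_self K
    omega
  have hnotle : ¬ LinearMap.ker φ ≤ Submodule.span K {x} := by
    intro hle
    have h1 := Submodule.finrank_mono hle
    have h2 : Module.finrank K (Submodule.span K {x}) ≤ 1 := by
      rw [finrank_span_singleton hx]
    omega
  obtain ⟨y, hyker, hyx⟩ := Set.not_subset.mp hnotle
  have hpol : QuadraticMap.polar q x y = 0 := by rw [← hφ]; exact hyker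
  set α : K := (frobeniusEquiv K 2).symm (q y) with hα
  set β : K := (frobeniusEquiv K 2).symm (q x) with hβ
  have hα2 : α * α = q y := by
    rw [← pow_two]; exact frobeniusEquiv_symm_pow_p K 2 (q y)
  have hβ2 : β * β = q x := by
    rw [← pow_two]; exact frobeniusEquiv_symm_pow_p K 2 (q x)
  have hβ0 : β ≠ 0 := by
    intro h0
    rw [h0, mul_zero] at hβ2
    exact hqx hβ2.symm
  refine ⟨α • x + β • y, ?_, ?_⟩
  · intro hv
    apply hyx
    have : y = (-(β⁻¹ * α)) • x := by
      have h1 : β • y = -(α • x) := eq_neg_of_add_eq_zero_right hv
      calc y = β⁻¹ • (β • y) := by rw [smul_smul, inv_mul_cancel₀ hβ0, one_smul]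
        _ = (-(β⁻¹ * α)) • x := by rw [h1, smul_neg, smul_smul, neg_smul]
    rw [this]
    exact Submodule.smul_mem _ _ (Submodule.mem_span_singleton_self x)
  · have h2 : (2 : K) = 0 := CharTwo.two_eq_zero
    have hexp : q (α • x + β • y) = q (α • x) + q (β • y) + QuadraticMap.polar q (α • x) (β • y) := by
      unfold QuadraticMap.polar; ring
    rw [hexp, QuadraticMap.map_smul, QuadraticMap.map_smul, QuadraticMap.polar_smul_left,
      QuadraticMap.polar_smul_right, hpol, smul_eq_mul, smul_eq_mul, smul_eq_mul, smul_eq_mul,
      hα2, hβ2, mul_zero, mul_zero, add_zero, mul_comm (q x) (q y), ← two_mul, h2, zero_mul]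

end Groth.Agent.S19591
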