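import Groth.Statements.S19593
import Mathlib
import Groth.Agent.Lib.Helper11Avoid
import Groth.Agent.Lib.Helper18PE
import Groth.Agent.Lib.LeadPicFF4
import Groth.Agent.Lib.Helper6DefAmple
import Groth.Agent.Lib.Helper23GG
import Groth.Agent.S10869

set_option autoImplicit false
universe u
open CategoryTheory AlgebraicGeometry
open PicF

namespace Groth.Agent.S19593


/-- Let k be an infinite field, Y a scheme proper over k with a relatively very ample O_Y-module A (the
pullback of O(1) along an immersion of Y into the Proj of a symmetric algebra over k), and y_1, …,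
y_m finitely many points of Y. Then some global section of A generates A at every y_i. (The
published statement takes Y projective over k and A a very ample line bundle; here Y is proper over
k and A very ample relative to Y → Spec k, which makes Y projective.) -/
theorem result
    (k : Type u) [Field k] [Infinite k] (Y : Scheme.{u}) (f : Y ⟶ Spec (CommRingCat.of k)) [IsProper f]
    (A : Y.Modules) (hA : RelProj.IsRelVeryAmple f A)
    (ι : Type) [Finite ι] (y : ι → ↥Y) :
    ∃ s : Coh.structureModule Y ⟶ A, ∀ i : ι, y i ∈ CohB1.genLocus A s := by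
  obtain ⟨E, hE, 𝒮, j, hj, P, p, chart, hP, O1, lam, hO1, i, hi, hip, ⟨e⟩⟩ := hA
  haveI : E.IsQuasicoherent := hE
  have hO1inv : PicF.IsInvertible O1 :=
    Groth.Agent.Helper18PE.isInvertible_relTwist 𝒮 p chart
      (Groth.Agent.Helper18VAmp.isGenDegOne_of_isGrSymAlg E hE 𝒮 j hj) 1 O1 lam hO1
  have hAinv : PicF.IsInvertible A :=
    Groth.Agent.Lib.Helper23.AmpleIso.isInvertible_of_iso e.symm
      (Groth.Agent.Lib.Helper23.PB.isInvertible_pullback i O1 hO1inv)
  have hggE : Curv2.IsGloballyGenerated E := Groth.Agent.S10869.gg_of_isAffine E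
  have hggpE := Groth.Agent.Lib.LeadPicFF.isGloballyGenerated_pullback p E hggE
  haveI := Groth.Agent.Helper18PE.epi_acan E hE 𝒮 j hj p chart hP O1 lam hO1
  have hggO1 : Curv2.IsGloballyGenerated O1 :=
    Groth.Agent.Lib.Helper6.DefAmple.gg_of_epi (Groth.Agent.Helper18PE.acan E 𝒮 j hj p chart hP O1 lam hO1) hggpE
  have hggiO1 := Groth.Agent.Lib.LeadPicFF.isGloballyGenerated_pullback i O1 hggO1
  have hggA : Curv2.IsGloballyGenerated A :=
    Groth.Agent.Lib.Helper6.DefAmple.gg_of_iso e.symm hggiO1
  exact Groth.Agent.Lib.Helper11.Avoid.exists_hom_of_finite (Coh.toGlobal f) A hAinv y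
    (fun a => Groth.Agent.Lib.Helper23.GG.exists_section_mem_genLocus A hAinv hggA (y a))

end Groth.Agent.S19593
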