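import Groth.Statements.S19595
import Mathlib
import Groth.Agent.Lib.Helper16PSFix
-- import your own Groth.Agent.* helpers here

set_option autoImplicit false
set_option linter.style.haveILetI false
set_option linter.unusedSectionVars false
universe u
open ArLef

namespace Groth.Agent.S19595
open Groth.Agent.Lib.Helper16PSFix


/-- In the case of a smooth point lying on the divisorial part of the fixed locus with multiplicity i
strictly between 0 and j, let B be a discrete valuation ring with uniformizer π and residue field k,
B[[t]] the complete local ring of a semi-stable arithmetic surface over B at a point x where the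
closed fibre is smooth, and σ a ring automorphism of B[[t]] with σ(π) = π + γ π^j (γ a unit of B, j
≥ 1) and σ(b) - b ∈ π^j B[[t]] for all b ∈ B (σ lies over an automorphism τ of B with v(τ(π) - π) =
j). Suppose σ(t) - t = π^i f with 0 < i < j and π not dividing f, so that the fixed-point ideal I of
σ is (π^j, π^i f) and its divisorial part near x is the closed fibre with multiplicity i. Then the
residual fixed-point scheme, with ideal (I : π^i), has length (j - i) m at x, where m is the length
of k[[t]]/(f mod π) (the order at x of the derivation induced by σ on the closed fibre). -/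
theorem result (B : Type u) [CommRing B] [IsDomain B] [IsDiscreteValuationRing B] (π : B) (hπ : Irreducible π)
    (j i : ℕ) (hi : 0 < i) (hij : i < j) (γ : B) (hγ : IsUnit γ)
    (σ : PowerSeries B ≃+* PowerSeries B)
    (hσB : ∀ b : B, σ (algebraMap B (PowerSeries B) b) - algebraMap B (PowerSeries B) b ∈
      Ideal.span ({algebraMap B (PowerSeries B) (π ^ j)} : Set (PowerSeries B)))
    (hσπ : σ (algebraMap B (PowerSeries B) π) = algebraMap B (PowerSeries B) (π + γ * π ^ j))
    (f : PowerSeries B) (hf : σ PowerSeries.X - PowerSeries.X = algebraMap B (PowerSeries B) (π ^ i) * f)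
    (hfπ : ¬ (algebraMap B (PowerSeries B) π ∣ f)) :
    Module.length (PowerSeries B) (PowerSeries B ⧸ (ArLef.fixIdeal σ).colon ({algebraMap B (PowerSeries B) (π ^ i)} : Set (PowerSeries B))) =
      ((j - i : ℕ) : ℕ∞) * Module.length (PowerSeries (IsLocalRing.ResidueField B)) (PowerSeries (IsLocalRing.ResidueField B) ⧸
        Ideal.span ({PowerSeries.map (IsLocalRing.residue B) f} : Set (PowerSeries (IsLocalRing.ResidueField B)))) := by
  have hC : ∀ b : B, algebraMap B (PowerSeries B) b = PowerSeries.C b := fun b => rfl
  simp only [hC] at hσB hσπ hf hfπ ⊢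
  rw [map_pow] at hf
  set p : PowerSeries B := PowerSeries.C π with hp
  have hI : ArLef.fixIdeal σ = Ideal.span {p ^ j} ⊔ Ideal.span {p ^ i * f} := by
    apply le_antisymm
    · unfold ArLef.fixIdeal
      rw [Ideal.span_le]
      rintro _ ⟨r, rfl⟩
      refine sub_mem_of_gens σ _ ?_ ?_ r
      · intro b
        have := hσB b
        rw [map_pow, Ideal.mem_span_singleton'] at this
        obtain ⟨c, hc⟩ := this
        rw [← hc]
        exact Ideal.mem_sup_left (Ideal.mul_mem_left _ _ (Ideal.mem_span_singleton_self _))
      · rw [hf]; exact Ideal.mem_sup_right (Ideal.mem_span_singleton_self _)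
    · refine sup_le ?_ ?_
      · rw [Ideal.span_le, Set.singleton_subset_iff]
        obtain ⟨Gu, hGu⟩ := hγ.map (PowerSeries.C : B →+* PowerSeries B)
        have h1 : p ^ j =
            ((Gu⁻¹ : (PowerSeries B)ˣ) : PowerSeries B) * (σ p - p) := by
          rw [hσπ, map_add, map_mul, map_pow, ← hGu]
          have : PowerSeries.C π + (Gu : PowerSeries B) * PowerSeries.C π ^ j - p =
              (Gu : PowerSeries B) * p ^ j := by rw [hp]; ring
          rw [this, ← mul_assoc, Units.inv_mul, one_mul]
        rw [SetLike.mem_coe, h1]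
        exact Ideal.mul_mem_left _ _ (Ideal.subset_span ⟨_, rfl⟩)
      · rw [Ideal.span_le, Set.singleton_subset_iff, ← hf]
        exact Ideal.subset_span ⟨_, rfl⟩
  have hp0 : p ^ i ≠ 0 := pow_ne_zero _ (C_pi_ne_zero π hπ)
  have hcolon : (ArLef.fixIdeal σ).colon ({algebraMap B (PowerSeries B) (π ^ i)} : Set (PowerSeries B)) =
      Ideal.span {p ^ (j - i)} ⊔ Ideal.span {f} := by
    ext r
    rw [Submodule.mem_colon_singleton, hI, hC, map_pow, smul_eq_mul]
    constructor
    · intro h
      obtain ⟨y, hy, z, hz, hyz⟩ := Submodule.mem_sup.mp h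
      obtain ⟨c, rfl⟩ := Ideal.mem_span_singleton'.mp hy
      obtain ⟨d, rfl⟩ := Ideal.mem_span_singleton'.mp hz
      have hji : p ^ j = p ^ (j - i) * p ^ i := by rw [← pow_add]; congr 1; omega
      have : p ^ i * (c * p ^ (j - i) + d * f - r) = 0 := by
        rw [hji] at hyz; linear_combination hyz
      rcases mul_eq_zero.mp this with h1 | h1
      · exact absurd h1 hp0
      · rw [← sub_eq_zero.mp h1]
        exact add_mem (Ideal.mem_sup_left (Ideal.mul_mem_left _ _ (Ideal.mem_span_singleton_self _)))
          (Ideal.mem_sup_right (Ideal.mul_mem_left _ _ (Ideal.mem_span_singleton_self _)))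
    · intro h
      obtain ⟨y, hy, z, hz, rfl⟩ := Submodule.mem_sup.mp h
      obtain ⟨c, rfl⟩ := Ideal.mem_span_singleton'.mp hy
      obtain ⟨d, rfl⟩ := Ideal.mem_span_singleton'.mp hz
      have hji : p ^ j = p ^ (j - i) * p ^ i := by rw [← pow_add]; congr 1; omega
      have : (c * p ^ (j - i) + d * f) * p ^ i = c * p ^ j + d * (p ^ i * f) := by
        rw [hji]; ring
      rw [this]
      exact add_mem (Ideal.mem_sup_left (Ideal.mul_mem_left _ _ (Ideal.mem_span_singleton_self _)))
        (Ideal.mem_sup_right (Ideal.mul_mem_left _ _ (Ideal.mem_span_singleton_self _)))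
  rw [hcolon]
  exact length_pow_pi π hπ f hfπ (j - i)

end Groth.Agent.S19595
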