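import Groth.Statements.S19596
import Mathlib
import Groth.Agent.Lib.Helper16NodeFix5
import Groth.Agent.Lib.Helper16NodeLen3
-- import your own Groth.Agent.* helpers here

set_option autoImplicit false
set_option linter.style.haveILetI false
set_option linter.unusedSectionVars false
universe u
open ArLef ArLef.NodeAlg

namespace Groth.Agent.S19596
open Groth.Agent.Lib.Helper16NodeFix Groth.Agent.Lib.Helper16NodeLen

theorem pow_reg {A : Type u} [CommRing A] (x : A) (hx : ∀ y, x * y = 0 → y = 0) (n : ℕ) :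
    ∀ y, x ^ n * y = 0 → y = 0 := by
  induction n with
  | zero => intro y hy; simpa using hy
  | succ n ih =>
    intro y hy
    apply ih
    apply hx
    rw [← mul_assoc, ← pow_succ']
    exact hy


/-- In the cases where σ fixes the two branches through the point, these lie on different components,
and the second branch lies in the divisorial part of the fixed locus with multiplicity i₂ strictly
between 0 and j while the first has multiplicity i₁ ≤ i₂, let B be a discrete valuation ring with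
uniformizer π, N = B[[t, e]]/(te - π) the complete local ring of a semi-stable arithmetic surface
over B at a singular point x of the closed fibre, and σ a ring automorphism of N with σ(π) = π + γ
π^j (γ a unit of B, j ≥ 1) and σ(c) - c ∈ π^j N for all c ∈ B. Suppose σ(t) = α t and σ(e) = β e
with units α, β, and α - 1 = t^{i₁} e^{i₂} a, β - 1 = t^{i₁} e^{i₂} b with i₁ ≤ i₂, 0 < i₂ < j, e
not dividing a and t not dividing b. Then, I being the fixed-point ideal of σ, whose divisorial part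
near x is t^{i₁} e^{i₂}, the residual fixed-point scheme with ideal (I : t^{i₁} e^{i₂}) has length 1
+ (j - i₁)·Leng N/(t, b) + (j - i₂)·Leng N/(e, a) at x; here Leng N/(t, b) + i₂ + 1 and Leng N/(e,
a) + i₁ + 1 are the orders at x of the derivations σ induces on the two components (the fixed-point
multiplicities when the component is outside the divisorial part). -/
theorem result (B : Type u) [CommRing B] [IsDomain B] [IsDiscreteValuationRing B] (π : B) (hπ : Irreducible π)
    (j i₁ i₂ : ℕ) (h12 : i₁ ≤ i₂) (h2 : 0 < i₂) (h2j : i₂ < j) (γ : B) (hγ : IsUnit γ)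
    (σ : ArLef.NodeAlg B π ≃+* ArLef.NodeAlg B π)
    (hσB : ∀ c : B, σ (algebraMap B (ArLef.NodeAlg B π) c) - algebraMap B (ArLef.NodeAlg B π) c ∈
      Ideal.span ({algebraMap B (ArLef.NodeAlg B π) (π ^ j)} : Set (ArLef.NodeAlg B π)))
    (hσπ : σ (algebraMap B (ArLef.NodeAlg B π) π) = algebraMap B (ArLef.NodeAlg B π) (π + γ * π ^ j))
    (α β : (ArLef.NodeAlg B π)ˣ) (ht : σ (ArLef.NodeAlg.t π) = (α : ArLef.NodeAlg B π) * ArLef.NodeAlg.t π) (he : σ (ArLef.NodeAlg.e π) = (β : ArLef.NodeAlg B π) * ArLef.NodeAlg.e π)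
    (a b : ArLef.NodeAlg B π) (ha : (α : ArLef.NodeAlg B π) - 1 = ArLef.NodeAlg.t π ^ i₁ * ArLef.NodeAlg.e π ^ i₂ * a) (hb : (β : ArLef.NodeAlg B π) - 1 = ArLef.NodeAlg.t π ^ i₁ * ArLef.NodeAlg.e π ^ i₂ * b)
    (hea : ¬ (ArLef.NodeAlg.e π ∣ a)) (htb : ¬ (ArLef.NodeAlg.t π ∣ b)) :
    Module.length (ArLef.NodeAlg B π) (ArLef.NodeAlg B π ⧸ (ArLef.fixIdeal σ).colon ({ArLef.NodeAlg.t π ^ i₁ * ArLef.NodeAlg.e π ^ i₂} : Set (ArLef.NodeAlg B π))) =
      1 + ((j - i₁ : ℕ) : ℕ∞) * Module.length (ArLef.NodeAlg B π) (ArLef.NodeAlg B π ⧸ Ideal.span ({ArLef.NodeAlg.t π, b} : Set (ArLef.NodeAlg B π))) +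
        ((j - i₂ : ℕ) : ℕ∞) * Module.length (ArLef.NodeAlg B π) (ArLef.NodeAlg B π ⧸ Ideal.span ({ArLef.NodeAlg.e π, a} : Set (ArLef.NodeAlg B π))) := by
  have hp : Prime π := hπ.prime
  haveI hmax : (Ideal.span ({π} : Set B)).IsMaximal :=
    PrincipalIdealRing.isMaximal_of_irreducible hπ
  set T := ArLef.NodeAlg.t π with hT
  set E := ArLef.NodeAlg.e π with hE
  set P : ArLef.NodeAlg B π := algebraMap B (ArLef.NodeAlg B π) π with hP
  set G : ArLef.NodeAlg B π := algebraMap B (ArLef.NodeAlg B π) γ with hG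
  have hte : T * E = P := Groth.Agent.Lib.Helper22.nodeAlg_t_mul_e π
  have hGu : IsUnit G := hγ.map _
  have hTr := t_regular π hπ.ne_zero
  have hEr := e_regular π hπ.ne_zero
  obtain ⟨j', rfl⟩ : ∃ j', j = j' + 1 := ⟨j - 1, by omega⟩
  obtain ⟨p, hpj⟩ : ∃ p, j' = i₁ + p := ⟨j' - i₁, by omega⟩
  obtain ⟨q, hqj⟩ : ∃ q, j' = i₂ + q := ⟨j' - i₂, by omega⟩
  set D : ArLef.NodeAlg B π := T ^ i₁ * E ^ i₂ with hD
  have hDr : ∀ y, D * y = 0 → y = 0 := by
    intro y hy
    apply pow_reg E hEr i₂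
    apply pow_reg T hTr i₁
    rw [← mul_assoc]; exact hy
  have hσP : σ P = P + G * P ^ (j' + 1) := by
    rw [hσπ, map_add, map_mul, map_pow]
  have hab : (α : ArLef.NodeAlg B π) * β = 1 + G * P ^ j' := by
    have h1 : σ (T * E) = P + G * P ^ (j' + 1) := by rw [hte, hσP]
    rw [map_mul, ht, he] at h1
    have h2 : P * ((α : ArLef.NodeAlg B π) * β - (1 + G * P ^ j')) = 0 := by
      rw [← hte] at h1 ⊢
      linear_combination h1
    exact sub_eq_zero.mp (Groth.Agent.Lib.Helper22.nodeAlg_pi_regular π hπ.ne_zero _ h2)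
  have hα : (α : ArLef.NodeAlg B π) = 1 + D * a := by linear_combination ha
  have hβ : (β : ArLef.NodeAlg B π) = 1 + D * b := by linear_combination hb
  have hPj' : P ^ j' = D * (T ^ p * E ^ q) := by
    rw [← hte, mul_pow, hD]
    nth_rewrite 1 [hpj]
    rw [hqj, pow_add, pow_add]; ring
  have hPj : (T * E) ^ (j' + 1) = D * (T ^ (p + 1) * E ^ (q + 1)) := by
    rw [pow_succ, hte, hPj', ← hte]; ring
  have rel : a + b + D * a * b = G * (T ^ p * E ^ q) := by
    have : D * (a + b + D * a * b - G * (T ^ p * E ^ q)) = 0 := by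
      rw [hα, hβ, hPj'] at hab
      linear_combination hab
    exact sub_eq_zero.mp (hDr _ this)
  have hgt : σ T - T = D * (a * T) := by rw [ht, hα]; ring
  have hge : σ E - E = D * (b * E) := by rw [he, hβ]; ring
  have hmt : (σ : ArLef.NodeAlg B π →+* ArLef.NodeAlg B π) T ∈ mI π := by
    rw [RingEquiv.coe_toRingHom, ht]; exact Ideal.mul_mem_left _ _ (t_mem_mI π)
  have hme : (σ : ArLef.NodeAlg B π →+* ArLef.NodeAlg B π) E ∈ mI π := by
    rw [RingEquiv.coe_toRingHom, he]; exact Ideal.mul_mem_left _ _ (e_mem_mI π)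
  have hI : ArLef.fixIdeal σ = Ideal.span {D * (a * T), D * (b * E), (T * E) ^ (j' + 1)} := by
    apply le_antisymm
    · unfold ArLef.fixIdeal
      rw [Ideal.span_le]
      rintro _ ⟨r, rfl⟩
      refine sub_mem_of_gens' (σ : ArLef.NodeAlg B π →+* ArLef.NodeAlg B π) hmt hme _ ?_ ?_ ?_ r
      · intro c
        have := hσB c
        rw [map_pow, Ideal.mem_span_singleton'] at this
        obtain ⟨d, hd⟩ := this
        rw [RingEquiv.coe_toRingHom, ← hd, hte]
        exact Ideal.mul_mem_left _ _ (Ideal.subset_span (by right; right; rfl))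
      · rw [RingEquiv.coe_toRingHom, hgt]; exact Ideal.subset_span (by simp)
      · rw [RingEquiv.coe_toRingHom, hge]; exact Ideal.subset_span (by simp)
    · rw [Ideal.span_le]
      intro x hx
      simp only [Set.mem_insert_iff, Set.mem_singleton_iff] at hx
      rcases hx with rfl | rfl | rfl
      · rw [← hgt]; exact Ideal.subset_span ⟨_, rfl⟩
      · rw [← hge]; exact Ideal.subset_span ⟨_, rfl⟩
      · obtain ⟨Gu, hGu'⟩ := hGu
        have : (T * E) ^ (j' + 1) = (Gu⁻¹ : (ArLef.NodeAlg B π)ˣ) * (σ P - P) := by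
          rw [hσP, ← hGu', hte]
          have : P + (Gu : ArLef.NodeAlg B π) * P ^ (j' + 1) - P =
              (Gu : ArLef.NodeAlg B π) * P ^ (j' + 1) := by ring
          rw [this, ← mul_assoc, Units.inv_mul, one_mul]
        rw [this]
        exact Ideal.mul_mem_left _ _ (Ideal.subset_span ⟨_, rfl⟩)
  have hcolon : (ArLef.fixIdeal σ).colon ({D} : Set (ArLef.NodeAlg B π)) =
      Ideal.span {a * T, b * E, T ^ (p + 1) * E ^ (q + 1)} := by
    ext r
    rw [Submodule.mem_colon_singleton, hI, smul_eq_mul, mem_span_triple, mem_span_triple]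
    constructor
    · rintro ⟨x₁, x₂, x₃, h⟩
      refine ⟨x₁, x₂, x₃, ?_⟩
      have : D * (x₁ * (a * T) + x₂ * (b * E) + x₃ * (T ^ (p + 1) * E ^ (q + 1)) - r) = 0 := by
        rw [hPj] at h; linear_combination h
      exact sub_eq_zero.mp (hDr _ this)
    · rintro ⟨x₁, x₂, x₃, rfl⟩
      exact ⟨x₁, x₂, x₃, by rw [hPj]; ring⟩
  have hm : Module.length (ArLef.NodeAlg B π) (ArLef.NodeAlg B π ⧸ Ideal.span ({T, E} : Set _)) = 1 :=
    length_quot_mI π
  have key := length_main2 T E a b G (β : ArLef.NodeAlg B π) (α : ArLef.NodeAlg B π) p q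
    (t_prime π hp) (e_prime π hp) hTr hEr (not_t_dvd_e π hπ.not_isUnit)
    β.isUnit α.isUnit
    (by rw [hβ]; linear_combination rel) (by rw [hα]; linear_combination rel) htb hea hm
  rw [hcolon, key]
  have e1 : j' + 1 - i₁ = p + 1 := by omega
  have e2 : j' + 1 - i₂ = q + 1 := by omega
  rw [e1, e2]

end Groth.Agent.S19596
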