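import Groth.Statements.S19603
import Groth.Agent.Lib.Helper25Graded
import Groth.Agent.Lib.Helper25Coeff
import Groth.Agent.S19602

set_option autoImplicit false
universe u
open GIT

namespace Groth.Agent.S19603


theorem eval_zero_of_isHomogeneous_pos {k : Type*} [CommRing k] {ι : Type*}
    {F : MvPolynomial ι k} {d : ℕ} (h : F.IsHomogeneous d) (hd : 0 < d) :
    MvPolynomial.eval (fun _ => (0 : k)) F = 0 := by
  rw [MvPolynomial.eval_zero', MvPolynomial.constantCoeff_eq]
  apply h.coeff_eq_zero
  simp only [map_zero]
  omega



/-- For the whole projective space U = P(V), let k be an algebraically closed field of arbitrary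
characteristic and G = Spec A a linearly reductive affine algebraic group acting linearly on affine
ι-space, and let v be a vector. Then some invariant homogeneous polynomial of positive degree is
non-zero at v (the point of v is semistable) if and only if the origin is not in the closure of the
orbit of v. -/
theorem result (k : Type u) [Field k] [IsAlgClosed k]
    (A : Type u) [CommRing A] [HopfAlgebra k A] [Algebra.FiniteType k A] (hG : HopfRep.IsLinearlyReductive k A)
    (ι : Type u) [Fintype ι] [HopfRep.Comod k A (MvPolynomial ι k)] [GLin.IsCoactAlg k A (MvPolynomial ι k)]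
    (hlin : GLin.IsLinear k A ι) (v : ι → k) :
    GLin.IsSemistableVec k A v ↔
      ¬ GLin.InOrbitClosure k A (GLin.vecPt k ι v) (GLin.vecPt k ι (fun _ => (0 : k))) := by
  open Groth.Agent.Lib.Helper25 in
  classical
  have horb : ∀ (x : MvPolynomial ι k →ₐ[k] k) (f : MvPolynomial ι k),
      GLin.orbitHom k A x f = coeffMap (A := A) x.toLinearMap f := by
    intro x f
    change (Algebra.TensorProduct.lid k A) ((Algebra.TensorProduct.map x (AlgHom.id k A))
      (HopfRep.Comod.coact (k := k) (A := A) f)) = lslice x.toLinearMap _
    generalize HopfRep.Comod.coact (k := k) (A := A) f = y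
    induction y using TensorProduct.induction_on with
    | zero => simp
    | add a b ha hb => simp only [map_add, ha, hb]
    | tmul r a => simp
  have hinv : ∀ (x : MvPolynomial ι k →ₐ[k] k) (f : MvPolynomial ι k),
      f ∈ GLin.invariants k A (MvPolynomial ι k) →
      GLin.orbitHom k A x f = algebraMap k A (x f) := by
    intro x f hf
    have hf' : HopfRep.Comod.coact (k := k) (A := A) f = f ⊗ₜ[k] (1 : A) := hf
    rw [horb, coeffMap_apply, hf', lslice_tmul, Algebra.algebraMap_eq_smul_one]
    rfl
  unfold GLin.IsSemistableVec
  rw [not_iff_not]
  constructor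
  · -- nullform ⇒ origin in the orbit closure
    intro hnull
    have heq : (GLin.vecPt k ι v).comp (GLin.invariants k A (MvPolynomial ι k)).val =
        (GLin.vecPt k ι (fun _ => (0 : k))).comp (GLin.invariants k A (MvPolynomial ι k)).val := by
      apply AlgHom.ext
      rintro ⟨F, hF⟩
      change MvPolynomial.aeval v F = MvPolynomial.aeval (fun _ => (0 : k)) F
      have key : ∀ w : ι → k, (∀ d, 0 < d → MvPolynomial.eval w (MvPolynomial.homogeneousComponent d F) = 0) →
          MvPolynomial.aeval w F = MvPolynomial.coeff 0 F := by
        intro w hw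
        conv_lhs => rw [← MvPolynomial.sum_homogeneousComponent F]
        rw [map_sum, Finset.sum_eq_single 0]
        · rw [MvPolynomial.homogeneousComponent_zero]
          simp
        · intro d _ hd
          rw [MvPolynomial.aeval_eq_eval]
          exact hw d (Nat.pos_of_ne_zero hd)
        · intro h0
          exact absurd (Finset.mem_range.mpr (Nat.succ_pos _)) h0
      rw [key v, key (fun _ => 0)]
      · intro d hd
        exact eval_zero_of_isHomogeneous_pos (MvPolynomial.homogeneousComponent_isHomogeneous d F) hd
      · intro d hd
        exact hnull _ (homogeneousComponent_mem_invariants hlin d hF) d hd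
          (MvPolynomial.homogeneousComponent_isHomogeneous d F)
    obtain ⟨z, hz1, hz2⟩ := (Groth.Agent.S19602.result k A hG (MvPolynomial ι k) _ _).mp heq
    have hz0 : z = GLin.vecPt k ι (fun _ => (0 : k)) := by
      apply MvPolynomial.algHom_ext
      intro i
      have hXi : (MvPolynomial.X i : MvPolynomial ι k) ∈
          RingHom.ker (GLin.orbitHom k A (GLin.vecPt k ι (fun _ => (0 : k)))) := by
        rw [RingHom.mem_ker, horb, coeffMap_apply]
        obtain ⟨m, hm⟩ := hlin i
        rw [hm, map_sum]
        apply Finset.sum_eq_zero
        intro j _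
        rw [lslice_tmul]
        simp
      have := hz2 hXi
      rw [RingHom.mem_ker] at this
      rw [this]
      simp
    rw [← hz0]
    exact hz1
  · -- origin in the orbit closure ⇒ nullform
    intro hcl F hF d hd hFd
    have h1 : F - algebraMap k (MvPolynomial ι k) (GLin.vecPt k ι v F) ∈
        RingHom.ker (GLin.orbitHom k A (GLin.vecPt k ι v)) := by
      rw [RingHom.mem_ker, map_sub, hinv _ F hF, AlgHom.commutes, sub_self]
    have h2 := hcl h1
    rw [RingHom.mem_ker, map_sub, AlgHom.commutes, sub_eq_zero] at h2
    have h3 : GLin.vecPt k ι (fun _ => (0 : k)) F = 0 := by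
      change MvPolynomial.aeval (fun _ => (0 : k)) F = 0
      rw [MvPolynomial.aeval_eq_eval]
      exact eval_zero_of_isHomogeneous_pos hFd hd
    rw [h3] at h2
    have h4 : GLin.vecPt k ι v F = MvPolynomial.eval v F := by
      change MvPolynomial.aeval v F = _
      rw [MvPolynomial.aeval_eq_eval]
    rw [← h4]
    exact h2.symm

end Groth.Agent.S19603
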