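import Groth.Statements.S19606
import Mathlib
import Groth.Agent.Lib.Helper20ZClos2
import Groth.Agent.Lib.Helper21ExtCartier2
import Groth.Agent.Lib.Helper20IdealModSec
-- import your own Groth.Agent.* helpers here

set_option autoImplicit false
universe u
open CategoryTheory CategoryTheory.Limits AlgebraicGeometry
open ClSub

namespace Groth.Agent.S19606


open Groth.Agent.Lib.Helper20.IdealModSec Groth.Agent.Lib.Helper21.ExtCartier

variable {X : Scheme.{u}}

theorem comp_app_apply {A B C : X.Modules} (f : A ⟶ B) (g : B ⟶ C) (V : X.Opens) (a : Γ(A, V)) :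
    (f ≫ g).app V a = g.app V (f.app V a) := rfl

theorem biprod_ext_app {A B : X.Modules} (V : X.Opens) (b b' : Γ((A ⊞ B : X.Modules), V))
    (h1 : (biprod.fst : A ⊞ B ⟶ A).app V b = (biprod.fst : A ⊞ B ⟶ A).app V b')
    (h2 : (biprod.snd : A ⊞ B ⟶ B).app V b = (biprod.snd : A ⊞ B ⟶ B).app V b') : b = b' := by
  have ht : (biprod.fst ≫ biprod.inl + biprod.snd ≫ biprod.inr : A ⊞ B ⟶ A ⊞ B) = 𝟙 _ := biprod.total
  have key : ∀ c : Γ((A ⊞ B : X.Modules), V), c =
      (biprod.inl : A ⟶ A ⊞ B).app V ((biprod.fst : A ⊞ B ⟶ A).app V c) +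
        (biprod.inr : B ⟶ A ⊞ B).app V ((biprod.snd : A ⊞ B ⟶ B).app V c) := by
    intro c
    have := congrArg (fun φ : A ⊞ B ⟶ A ⊞ B => φ.app V c) ht
    exact this.symm
  rw [key b, key b', h1, h2]

theorem biprod_total_app {A B : X.Modules} (V : X.Opens) (c : Γ((A ⊞ B : X.Modules), V)) :
    c = (biprod.inl : A ⟶ A ⊞ B).app V ((biprod.fst : A ⊞ B ⟶ A).app V c) +
        (biprod.inr : B ⟶ A ⊞ B).app V ((biprod.snd : A ⊞ B ⟶ B).app V c) := by
  have ht : (biprod.fst ≫ biprod.inl + biprod.snd ≫ biprod.inr : A ⊞ B ⟶ A ⊞ B) = 𝟙 _ := biprod.total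
  have := congrArg (fun φ : A ⊞ B ⟶ A ⊞ B => φ.app V c) ht
  exact this.symm

/-- the map `O_X(V) → (O_X/I)(V)` as an additive map on ring elements -/
noncomputable def tm (I : X.IdealSheafData) (V : X.Opens) : Γ(X, V) →+ Γ(ClSub.quotMod I, V) :=
  (I.subschemeι.app V).hom.toAddMonoidHom

theorem tm_eq (I : X.IdealSheafData) (V : X.Opens) (a : Γ(Coh.structureModule X, V)) :
    (ClSub.toSubscheme I).app V a = tm I V (show Γ(X, V) from a) := rfl

theorem tm_eq_zero_iff (I : X.IdealSheafData) (V : X.affineOpens) (a : Γ(X, V.1)) :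
    tm I V.1 a = 0 ↔ a ∈ I.ideal V := by
  rw [← I.ker_subschemeι_app V, RingHom.mem_ker]
  rfl

theorem tm_surjective (I : X.IdealSheafData) (V : X.affineOpens) :
    Function.Surjective (tm I V.1) :=
  I.subschemeι_app_surjective V

/-- Let X be a scheme and I₁, I₂ quasi-coherent ideal sheaves with I₁ ⊓ I₂ = 0, cutting out closed
subschemes X₁, X₂ and X₁ ∩ X₂ (ideal I₁ + I₂). Then 0 → O_X → O_X/I₁ ⊕ O_X/I₂ → O_X/(I₁ + I₂) → 0 is
an exact sequence of O_X-modules, the maps being the two restrictions and the difference of the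
restrictions q₁, q₂ (the module maps compatible with the quotient maps from O_X). The published
statement is for a locally free sheaf E on a reduced scheme with two irreducible components X₁, X₂
(whose ideals meet in zero); this row is the case E = O_X for any two ideals with zero intersection,
which is what the local argument uses. -/
theorem result (X : Scheme.{u}) (I₁ I₂ : X.IdealSheafData)
    (h : I₁ ⊓ I₂ = ⊥)
    (q₁ : ClSub.quotMod I₁ ⟶ ClSub.quotMod (I₁ ⊔ I₂)) (q₂ : ClSub.quotMod I₂ ⟶ ClSub.quotMod (I₁ ⊔ I₂))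
    (hq₁ : ClSub.toSubscheme I₁ ≫ q₁ = ClSub.toSubscheme (I₁ ⊔ I₂))
    (hq₂ : ClSub.toSubscheme I₂ ≫ q₂ = ClSub.toSubscheme (I₁ ⊔ I₂)) :
    Epi (biprod.desc q₁ (-q₂)) ∧
      ∃ w : biprod.lift (ClSub.toSubscheme I₁) (ClSub.toSubscheme I₂) ≫ biprod.desc q₁ (-q₂) = 0,
        Nonempty (IsLimit (KernelFork.ofι (biprod.lift (ClSub.toSubscheme I₁) (ClSub.toSubscheme I₂)) w)) := by
  set t₁ := ClSub.toSubscheme I₁ with ht₁
  set t₂ := ClSub.toSubscheme I₂ with ht₂
  set t₁₂ := ClSub.toSubscheme (I₁ ⊔ I₂) with ht₁₂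
  have hepi1 : Epi q₁ := by
    haveI : Epi (t₁ ≫ q₁) := by rw [hq₁]; infer_instance
    exact epi_of_epi t₁ q₁
  have hE : Epi (biprod.desc q₁ (-q₂)) := by
    haveI : Epi (biprod.inl ≫ biprod.desc q₁ (-q₂)) := by rw [biprod.inl_desc]; exact hepi1
    exact epi_of_epi biprod.inl _
  have w : biprod.lift t₁ t₂ ≫ biprod.desc q₁ (-q₂) = 0 := by
    rw [biprod.lift_desc, hq₁, Preadditive.comp_neg, hq₂, add_neg_cancel]
  refine ⟨hE, w, ?_⟩
  -- the comparison morphism to the kernel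
  let d := biprod.desc q₁ (-q₂)
  let κ : Coh.structureModule X ⟶ kernel d := kernel.lift d (biprod.lift t₁ t₂) w
  have hκ : κ ≫ kernel.ι d = biprod.lift t₁ t₂ := kernel.lift_ι _ _ _
  have hiso : IsIso κ := by
    refine Groth.Agent.Lib.Helper20.ZClosLib.isIso_of_bijective_on_affines κ (fun V hV => ?_)
    let Va : X.affineOpens := ⟨V, hV⟩
    constructor
    · rw [injective_iff_map_eq_zero]
      intro a ha
      have h0 : (biprod.lift t₁ t₂).app V a = 0 := by
        rw [← hκ, comp_app_apply, ha, map_zero]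
      have h1 : t₁.app V a = 0 := by
        have := congrArg ((biprod.fst : ClSub.quotMod I₁ ⊞ ClSub.quotMod I₂ ⟶ _).app V) h0
        rw [← comp_app_apply, biprod.lift_fst, map_zero] at this
        exact this
      have h2 : t₂.app V a = 0 := by
        have := congrArg ((biprod.snd : ClSub.quotMod I₁ ⊞ ClSub.quotMod I₂ ⟶ _).app V) h0
        rw [← comp_app_apply, biprod.lift_snd, map_zero] at this
        exact this
      rw [tm_eq] at h1 h2
      have ha1 : (show Γ(X, V) from a) ∈ I₁.ideal Va := (tm_eq_zero_iff I₁ Va _).1 h1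
      have ha2 : (show Γ(X, V) from a) ∈ I₂.ideal Va := (tm_eq_zero_iff I₂ Va _).1 h2
      have ha3 : (show Γ(X, V) from a) ∈ (I₁ ⊓ I₂).ideal Va := ⟨ha1, ha2⟩
      rw [h] at ha3
      exact ha3
    · intro k
      set b := (kernel.ι d).app V k with hb
      have hdb : d.app V b = 0 := by
        have h0 : kernel.ι d ≫ d = 0 := kernel.condition d
        have := congrArg (fun φ : kernel d ⟶ _ => φ.app V k) h0
        exact this
      set b₁ := (biprod.fst : ClSub.quotMod I₁ ⊞ ClSub.quotMod I₂ ⟶ _).app V b with hb₁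
      set b₂ := (biprod.snd : ClSub.quotMod I₁ ⊞ ClSub.quotMod I₂ ⟶ _).app V b with hb₂
      obtain ⟨r₁, hr₁⟩ := tm_surjective I₁ Va b₁
      obtain ⟨r₂, hr₂⟩ := tm_surjective I₂ Va b₂
      have e1 : d.app V ((biprod.inl : _ ⟶ ClSub.quotMod I₁ ⊞ ClSub.quotMod I₂).app V b₁) = q₁.app V b₁ := by
        rw [← comp_app_apply]
        simp only [d, biprod.inl_desc]
      have e2 : d.app V ((biprod.inr : _ ⟶ ClSub.quotMod I₁ ⊞ ClSub.quotMod I₂).app V b₂) = - q₂.app V b₂ := by
        rw [← comp_app_apply]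
        simp only [d, biprod.inr_desc]
        rfl
      have hd2 : q₁.app V b₁ = q₂.app V b₂ := by
        have h3 := hdb
        rw [biprod_total_app V b, map_add, e1, e2] at h3
        exact add_neg_eq_zero.1 h3
      have hq₁' : ∀ r : Γ(X, V), q₁.app V (tm I₁ V r) = tm (I₁ ⊔ I₂) V r := fun r =>
        congrArg (fun φ : Coh.structureModule X ⟶ _ => φ.app V r) hq₁
      have hq₂' : ∀ r : Γ(X, V), q₂.app V (tm I₂ V r) = tm (I₁ ⊔ I₂) V r := fun r =>
        congrArg (fun φ : Coh.structureModule X ⟶ _ => φ.app V r) hq₂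
      rw [← hr₁, ← hr₂, hq₁', hq₂'] at hd2
      have hsub : tm (I₁ ⊔ I₂) V (r₁ - r₂) = 0 := by rw [map_sub, hd2, sub_self]
      have hmem : r₁ - r₂ ∈ (I₁ ⊔ I₂).ideal Va := (tm_eq_zero_iff (I₁ ⊔ I₂) Va _).1 hsub
      rw [Scheme.IdealSheafData.ideal_sup] at hmem
      obtain ⟨c₁, hc₁, c₂, hc₂, hc⟩ := Submodule.mem_sup.1 hmem
      have hc₁' : tm I₁ V c₁ = 0 := (tm_eq_zero_iff I₁ Va c₁).2 hc₁
      have hc₂' : tm I₂ V c₂ = 0 := (tm_eq_zero_iff I₂ Va c₂).2 hc₂
      have ha_eq : r₁ - c₁ = r₂ + c₂ := by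
        rw [sub_eq_iff_eq_add, add_assoc, add_comm c₂ c₁, hc]
        abel
      refine ⟨(show Γ(Coh.structureModule X, V) from r₁ - c₁), ?_⟩
      apply Groth.Agent.Lib.Helper20.StalkExact.injective_app_of_mono (kernel.ι d) V
      rw [← comp_app_apply, hκ]
      apply biprod_ext_app V
      · rw [← comp_app_apply, biprod.lift_fst]
        change tm I₁ V (r₁ - c₁) = _
        rw [map_sub, hc₁', sub_zero, hr₁]
      · rw [← comp_app_apply, biprod.lift_snd]
        change tm I₂ V (r₁ - c₁) = _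
        rw [ha_eq, map_add, hc₂', add_zero, hr₂]
  refine ⟨IsLimit.ofIsoLimit (kernelIsKernel d) (Fork.ext (asIso κ).symm ?_)⟩
  change inv κ ≫ biprod.lift t₁ t₂ = kernel.ι d
  rw [← hκ, IsIso.inv_hom_id_assoc]

end Groth.Agent.S19606
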