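import Groth.Statements.S19609
import Mathlib
-- import your own Groth.Agent.* helpers here

set_option autoImplicit false
universe u
open CartMod

namespace Groth.Agent.S19609

/-- Let p be a prime and u : A → B a ring homomorphism between commutative rings which are complete and
separated for the p-adic topology and have no p-torsion (flat over the p-adic base). If u induces a
bijection A/pA → B/pB (injectivity: u a ∈ pB forces a ∈ pA; surjectivity: every b ∈ B is congruent
to some u a modulo pB), then u is bijective. (The published statement is for a morphism of flat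
p-adic formal schemes over the Witt vectors of a perfect field: if its special fibre is an
isomorphism, so is the morphism; this row is its affine, ring-level case.) -/
theorem result (p : ℕ) [Fact p.Prime]
    {A B : Type u} [CommRing A] [CommRing B]
    [IsAdicComplete (Ideal.span {(p : A)}) A] [IsAdicComplete (Ideal.span {(p : B)}) B]
    (hA : IsSMulRegular A (p : A)) (hB : IsSMulRegular B (p : B)) (u : A →+* B)
    (hinj : ∀ a : A, u a ∈ Ideal.span {(p : B)} → a ∈ Ideal.span {(p : A)})
    (hsurj : ∀ b : B, ∃ a : A, b - u a ∈ Ideal.span {(p : B)}) :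
    Function.Bijective u := by
  -- membership in `(p)^n • ⊤`
  have memA : ∀ (n : ℕ) (x : A), x ∈ (Ideal.span {(p : A)} ^ n • ⊤ : Submodule A A) ↔
      ∃ c, x = (p : A) ^ n * c := by
    intro n x
    rw [smul_eq_mul, Ideal.mul_top, Ideal.span_singleton_pow, Ideal.mem_span_singleton]
    exact Iff.rfl
  have memB : ∀ (n : ℕ) (x : B), x ∈ (Ideal.span {(p : B)} ^ n • ⊤ : Submodule B B) ↔
      ∃ c, x = (p : B) ^ n * c := by
    intro n x
    rw [smul_eq_mul, Ideal.mul_top, Ideal.span_singleton_pow, Ideal.mem_span_singleton]
    exact Iff.rfl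
  have hup : u (p : A) = (p : B) := map_natCast u p
  constructor
  · -- injectivity
    rw [injective_iff_map_eq_zero]
    have key : ∀ (n : ℕ) (a : A), u a = 0 → ∃ c, a = (p : A) ^ n * c := by
      intro n
      induction n with
      | zero => intro a _; exact ⟨a, by rw [pow_zero, one_mul]⟩
      | succ n ih =>
        intro a ha
        have h1 : a ∈ Ideal.span {(p : A)} := hinj a (by rw [ha]; exact Ideal.zero_mem _)
        obtain ⟨a', rfl⟩ := Ideal.mem_span_singleton.mp h1
        have h2 : (p : B) • u a' = (p : B) • (0 : B) := by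
          rw [smul_zero, smul_eq_mul, ← hup, ← map_mul, ha]
        have h3 : u a' = 0 := hB h2
        obtain ⟨c, hc⟩ := ih a' h3
        exact ⟨c, by rw [hc, pow_succ]; ring⟩
    intro a ha
    apply IsHausdorff.haus' (I := Ideal.span {(p : A)}) a
    intro n
    rw [SModEq.sub_mem, sub_zero, memA]
    exact key n a ha
  · -- surjectivity
    intro b
    choose g hg using hsurj
    have hg' : ∀ b : B, ∃ c, b - u (g b) = (p : B) * c := fun b =>
      Ideal.mem_span_singleton.mp (hg b)
    choose h hh using hg'
    let bs : ℕ → B := fun n => Nat.rec b (fun _ x => h x) n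
    have bs_succ : ∀ n, bs (n + 1) = h (bs n) := fun n => rfl
    let s : ℕ → A := fun n => ∑ i ∈ Finset.range n, (p : A) ^ i * g (bs i)
    have hs_succ : ∀ n, s (n + 1) = s n + (p : A) ^ n * g (bs n) := fun n =>
      Finset.sum_range_succ _ n
    have hrem : ∀ n, b - u (s n) = (p : B) ^ n * bs n := by
      intro n
      induction n with
      | zero =>
        change b - u (∑ i ∈ Finset.range 0, _) = _
        rw [Finset.range_zero, Finset.sum_empty, map_zero, sub_zero, pow_zero, one_mul]
        rfl
      | succ n ih =>
        rw [hs_succ, map_add, map_mul, map_pow, hup, bs_succ]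
        have := hh (bs n)
        have e1 : b - (u (s n) + (p : B) ^ n * u (g (bs n))) =
            (b - u (s n)) - (p : B) ^ n * u (g (bs n)) := by ring
        rw [e1, ih, ← mul_sub, this, pow_succ]; ring
    have hcauchy : ∀ {m n : ℕ}, m ≤ n →
        s m ≡ s n [SMOD (Ideal.span {(p : A)} ^ m • ⊤ : Submodule A A)] := by
      intro m n hmn
      rw [SModEq.sub_mem, memA]
      induction n, hmn using Nat.le_induction with
      | base => exact ⟨0, by rw [sub_self, mul_zero]⟩
      | succ n hmn ih =>
        obtain ⟨c, hc⟩ := ih
        obtain ⟨k, rfl⟩ := Nat.exists_eq_add_of_le hmn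
        refine ⟨c - (p : A) ^ k * g (bs (m + k)), ?_⟩
        rw [hs_succ, mul_sub, ← hc, pow_add]; ring
    obtain ⟨a, ha⟩ := IsPrecomplete.prec' (I := Ideal.span {(p : A)}) s hcauchy
    refine ⟨a, ?_⟩
    rw [← sub_eq_zero]
    apply IsHausdorff.haus' (I := Ideal.span {(p : B)}) (u a - b)
    intro n
    rw [SModEq.sub_mem, sub_zero, memB]
    have h1 := ha n
    rw [SModEq.sub_mem, memA] at h1
    obtain ⟨c, hc⟩ := h1
    refine ⟨-(u c) - bs n, ?_⟩
    have e2 : u a - b = -(u (s n - a)) - (b - u (s n)) := by rw [map_sub]; ring
    rw [e2, hc, hrem, map_mul, map_pow, hup]; ring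

end Groth.Agent.S19609
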