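import Groth.Statements.S1961
import Mathlib
import Groth.Agent.Lib.Helper2Hensel

set_option autoImplicit false
universe u
open EtAlg

namespace Groth.Agent.S1961

/-- A henselization S of a local ring R (characterized by its universal property) is formally étale over
R. -/
theorem result (R S : Type u) [CommRing R] [IsLocalRing R] [CommRing S] [IsLocalRing S]
    [Algebra R S] [IsLocalHom (algebraMap R S)] [Hensel.IsHenselization R S] : Algebra.FormallyEtale R S := by
  have hS : HenselianLocalRing S := Hensel.IsHenselization.henselian (R := R) (S := S)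
  refine Groth.Agent.Lib.Helper2.formallyEtale_of_universal R S ?_ ?_
  · intro T _ _ f hf g₁ g₂ h₁ h₂
    obtain ⟨g, -, hguniq⟩ := Hensel.IsHenselization.universal (R := R) (S := S) T f hf
    rw [hguniq g₁ h₁, hguniq g₂ h₂]
  · intro T _ _ f hf
    obtain ⟨g, hg, -⟩ := Hensel.IsHenselization.universal (R := R) (S := S) T f hf
    exact ⟨g, hg⟩

end Groth.Agent.S1961
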