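import Groth.Statements.S19620
import Groth.Agent.Lib.Helper17MV10
-- import your own Groth.Agent.* helpers here

set_option autoImplicit false
universe u
open CategoryTheory CategoryTheory.Limits AlgebraicGeometry
attribute [local instance] HasDerivedCategory.standard
open DCoh

namespace Groth.Agent.S19620

/-- Let f : X → Y be a proper morphism of schemes, with Rf_* the total right derived functor of f_* on
the unbounded derived categories of modules (assumed to exist), let Z ⊆ X be a closed subset and E
an object of D(O_X) whose cohomology sheaves are all supported in Z (every stalk at a point outside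
Z is trivial). Then the cohomology sheaves of Rf_*E are supported in the closed subset f(Z) of Y.
(The published statement, made in a setting where all schemes are separated and of finite type over
a regular base, takes f proper and perfect and concludes that Rf_* carries perfect complexes acyclic
outside Z to perfect complexes acyclic outside f(Z); the perfectness of Rf_*E is a separate result,
and the support inclusion, which is what the published proof establishes, holds for every proper f
and every E and is stated in that generality.) -/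
theorem result {X Y : Scheme.{u}} (f : X ⟶ Y) [IsProper f]
    [DCoh.HasRpush f] (Z : Set ↥X) (hZ : IsClosed Z) (E : DCoh.D X)
    (hE : ∀ i : ℤ, CohB1.support (DCoh.HD E i) ⊆ Z) (i : ℤ) :
    CohB1.support (DCoh.HD ((DCoh.Rpush f).obj E) i) ⊆ f.base '' Z := by
  classical
  haveI := Groth.Agent.Lib.Helper17.MV.isGrothendieckAbelian X
  obtain ⟨J, hJK, hJinj, ⟨e⟩⟩ := Groth.Agent.Lib.Helper17.MV.exists_model E
  haveI := hJK
  have e' : (DCoh.Rpush f).obj E ≅ (DerivedCategory.Q : _ ⥤ DCoh.D Y).obj
      (((Scheme.Modules.pushforward f).mapHomologicalComplex (ComplexShape.up ℤ)).obj J) :=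
    (DCoh.Rpush f).mapIso e ≪≫
      Groth.Agent.Lib.Helper17.MV.isoOfKInj (Scheme.Modules.pushforward f) J
  have eM := Groth.Agent.Lib.Helper17.MV.homologyIso _ e' i
  refine (Groth.Agent.Lib.Helper17.MV.support_subset_of_iso eM.symm).trans ?_
  have hfZ : IsClosed (f.base '' Z) := f.isClosedMap _ hZ
  let V : Y.Opens := Groth.Agent.Lib.Helper17.MV.complOpen _ hfZ
  -- the homology sheaves of `J` are supported in `Z`
  have hsupp : ∀ n, CohB1.support (J.homology n) ⊆ Z := fun n =>
    (Groth.Agent.Lib.Helper17.MV.support_subset_of_iso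
      (Groth.Agent.Lib.Helper17.MV.homologyIso J e n)).trans (hE n)
  have hdisj : Disjoint ((f ⁻¹ᵁ V : X.Opens) : Set X) Z := by
    rw [Set.disjoint_left]
    intro x hx hxZ
    exact hx ⟨x, hxZ, rfl⟩
  -- `J` restricted to `f⁻¹ V` is acyclic and K-injective
  have hacyc : (((Scheme.Modules.restrictFunctor (f ⁻¹ᵁ V).ι).mapHomologicalComplex
      (ComplexShape.up ℤ)).obj J).Acyclic :=
    Groth.Agent.Lib.Helper17.MV.acyclic_map_of_isZero _ J (fun n =>
      Groth.Agent.Lib.Helper17.MV.isZero_restrict_of_support _ _ Z (hsupp n) hdisj)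
  haveI := Groth.Agent.Lib.Helper1.RpushRes.isKInjective_restrict (f ⁻¹ᵁ V) J
  have hz := Groth.Agent.Lib.Helper17.MV.isZero_Q_map_of_acyclic_of_isKInjective
    (B := (V : Scheme.{u}).Modules)
    (Scheme.Modules.pushforward (f ∣_ V))
    (((Scheme.Modules.restrictFunctor (f ⁻¹ᵁ V).ι).mapHomologicalComplex
      (ComplexShape.up ℤ)).obj J) hacyc
  -- hence its homology vanishes
  have hz2 : IsZero ((((Scheme.Modules.pushforward (f ∣_ V)).mapHomologicalComplex
      (ComplexShape.up ℤ)).obj (((Scheme.Modules.restrictFunctor (f ⁻¹ᵁ V).ι).mapHomologicalComplex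
      (ComplexShape.up ℤ)).obj J)).homology i) :=
    IsZero.of_iso ((DerivedCategory.homologyFunctor _ i).map_isZero hz)
      ((DerivedCategory.homologyFunctorFactors _ i).app _).symm
  -- transport along `pushRestrictIso`
  have eC : ((Scheme.Modules.restrictFunctor V.ι).mapHomologicalComplex (ComplexShape.up ℤ)).obj
      (((Scheme.Modules.pushforward f).mapHomologicalComplex (ComplexShape.up ℤ)).obj J) ≅
      ((Scheme.Modules.pushforward (f ∣_ V)).mapHomologicalComplex
      (ComplexShape.up ℤ)).obj (((Scheme.Modules.restrictFunctor (f ⁻¹ᵁ V).ι).mapHomologicalComplex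
      (ComplexShape.up ℤ)).obj J) :=
    (NatIso.mapHomologicalComplex (Groth.Agent.Lib.Helper1.RpushRes.pushRestrictIso f V)
      (ComplexShape.up ℤ)).app J
  have hz3 : IsZero ((Scheme.Modules.restrictFunctor V.ι).obj
      ((((Scheme.Modules.pushforward f).mapHomologicalComplex (ComplexShape.up ℤ)).obj J).homology i)) := by
    refine IsZero.of_iso hz2 (?_ ≪≫ (HomologicalComplex.homologyFunctor _ _ i).mapIso eC)
    exact (((((Scheme.Modules.pushforward f).mapHomologicalComplex
      (ComplexShape.up ℤ)).obj J).sc i).mapHomologyIso (Scheme.Modules.restrictFunctor V.ι)).symm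
  intro y hy
  by_contra hyZ
  apply hy
  have e2 := (Scheme.Modules.restrictStalkNatIso V.ι (⟨y, hyZ⟩ : V)).app
    ((((Scheme.Modules.pushforward f).mapHomologicalComplex (ComplexShape.up ℤ)).obj J).homology i)
  have hs : Subsingleton (((Scheme.Modules.restrictFunctor V.ι).obj
      ((((Scheme.Modules.pushforward f).mapHomologicalComplex (ComplexShape.up ℤ)).obj J).homology i)).presheaf.stalk
        (⟨y, hyZ⟩ : V)) := by
    have h0 := (TopCat.Presheaf.stalkFunctor AddCommGrpCat.{u} (⟨y, hyZ⟩ : V)).map_isZero
      ((Scheme.Modules.toPresheaf _).map_isZero hz3)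
    exact AddCommGrpCat.subsingleton_of_isZero h0
  exact @Equiv.subsingleton _ _ e2.symm.addCommGroupIsoToAddEquiv.toEquiv hs

end Groth.Agent.S19620
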