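import Groth.Statements.S19624
import Mathlib
import Groth.Agent.Lib.Helper5DetLength

set_option autoImplicit false
universe u v
open IntTh

namespace Groth.Agent.S19624

open Groth.Agent.Lib.Helper5.DetLength

theorem length_self_eq_top (B : Type u) [CommRing B] [IsDomain B] [IsDiscreteValuationRing B] :
    Module.length B B = ⊤ := by
  rw [← Ring.ord_zero, Ring.ord_eq_addVal, IsDiscreteValuationRing.addVal_zero]

theorem coLen_eq_top_of_det_eq_zero {B : Type u} [CommRing B] [IsDomain B]
    [IsDiscreteValuationRing B] {m : ℕ} (Y : Matrix (Fin m) (Fin m) B) (hY : Y.det = 0) :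
    coLen (Matrix.mulVecLin Y) = ⊤ := by
  classical
  obtain ⟨w, hw0, hw⟩ := Matrix.exists_vecMul_eq_zero_iff.mpr hY
  obtain ⟨g, hg⟩ : ∃ g : (Fin m → B) →ₗ[B] B, ∀ v, g v = w ⬝ᵥ v :=
    ⟨⟨⟨fun v => w ⬝ᵥ v, dotProduct_add w⟩, fun c v => by simp [dotProduct_smul]⟩, fun v => rfl⟩
  have hle : LinearMap.range (Matrix.mulVecLin Y) ≤ LinearMap.ker g := by
    rintro _ ⟨v, rfl⟩
    rw [LinearMap.mem_ker, hg, Matrix.mulVecLin_apply, Matrix.dotProduct_mulVec, hw,
      zero_dotProduct]
  obtain ⟨c, hc⟩ : ∃ c, w c ≠ 0 := by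
    by_contra h
    push_neg at h
    exact hw0 (funext h)
  obtain ⟨gb, hgb⟩ : ∃ gb : ((Fin m → B) ⧸ LinearMap.range (Matrix.mulVecLin Y)) →ₗ[B] B,
      gb = (LinearMap.range (Matrix.mulVecLin Y)).liftQ g hle := ⟨_, rfl⟩
  have hmem : w c ∈ LinearMap.range gb := by
    refine ⟨Submodule.Quotient.mk (Pi.single c 1), ?_⟩
    rw [hgb, Submodule.liftQ_apply, hg, dotProduct_single_one]
  have h1 : Module.length B (LinearMap.range gb) ≤ coLen (Matrix.mulVecLin Y) :=
    Module.length_le_of_surjective gb.rangeRestrict gb.surjective_rangeRestrict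
  have h2 : Module.length B B ≤ Module.length B (LinearMap.range gb) := by
    refine Module.length_le_of_injective
      (LinearMap.toSpanSingleton B (LinearMap.range gb) ⟨w c, hmem⟩) ?_
    rw [injective_iff_map_eq_zero]
    intro t ht
    rw [LinearMap.toSpanSingleton_apply] at ht
    have ht' : t * w c = 0 := congrArg Subtype.val ht
    rcases mul_eq_zero.mp ht' with h | h
    · exact h
    · exact absurd h hc
  rw [length_self_eq_top] at h2
  exact top_le_iff.mp (h2.trans h1)

theorem addVal_prod {B : Type u} [CommRing B] [IsDomain B] [IsDiscreteValuationRing B]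
    {κ : Type*} (s : Finset κ) (f : κ → B) :
    IsDiscreteValuationRing.addVal B (∏ i ∈ s, f i) =
      ∑ i ∈ s, IsDiscreteValuationRing.addVal B (f i) := by
  classical
  induction s using Finset.induction_on with
  | empty => simp
  | insert a s ha ih =>
    rw [Finset.prod_insert ha, Finset.sum_insert ha, IsDiscreteValuationRing.addVal_mul, ih]

/-- Let B be a discrete valuation ring with its normalised additive valuation v (so v(0) = ∞) and ω a
ring automorphism of B. For each i in a finite index set let M_i and N_i be free B-modules with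
chosen bases indexed by one and the same finite type, and χ_i : M_i → N_i an additive map which is
ω-semilinear, χ_i(b·x) = ω(b)·χ_i(x); write A_i for the matrix of χ_i in the chosen bases. Then the
length over B of the cokernel of the direct sum χ = ⊕_i χ_i : ⊕_i M_i → ⊕_i N_i (the quotient of ⊕_i
N_i by the submodule generated by the image of χ) equals v(∏_i det A_i); in particular both sides
are infinite exactly when some det A_i is zero. -/
theorem result {B : Type u} [CommRing B] [IsDomain B]
    [IsDiscreteValuationRing B] (ω : B ≃+* B) {n : ℕ} (r : Fin n → ℕ)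
    (M N : Fin n → Type v) [∀ i, AddCommGroup (M i)] [∀ i, Module B (M i)]
    [∀ i, AddCommGroup (N i)] [∀ i, Module B (N i)]
    (bM : ∀ i, Module.Basis (Fin (r i)) B (M i)) (bN : ∀ i, Module.Basis (Fin (r i)) B (N i))
    (χ : ∀ i, M i →+ N i) (hχ : ∀ i (b : B) (x : M i), χ i (b • x) = ω b • χ i x) :
    Module.length B ((∀ i, N i) ⧸ Submodule.span B (Set.range (fun (x : ∀ i, M i) (i : Fin n) => χ i (x i)))) =
      IsDiscreteValuationRing.addVal B (∏ i, Matrix.det
        (Matrix.of fun (a c : Fin (r i)) => (bN i).repr (χ i (bM i c)) a)) := by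
  classical
  obtain ⟨A, hA⟩ : ∃ A : ∀ i, Matrix (Fin (r i)) (Fin (r i)) B,
      A = fun i => Matrix.of fun (a c : Fin (r i)) => (bN i).repr (χ i (bM i c)) a := ⟨_, rfl⟩
  have hgoal : (∏ i, Matrix.det (Matrix.of fun (a c : Fin (r i)) =>
      (bN i).repr (χ i (bM i c)) a)) = ∏ i, (A i).det := by rw [hA]
  rw [hgoal]
  obtain ⟨P, hP⟩ : ∃ P : ∀ i, Submodule B (N i),
      P = fun i => Submodule.span B (Set.range (χ i)) := ⟨_, rfl⟩
  have hspan : Submodule.span B (Set.range (fun (x : ∀ i, M i) (i : Fin n) => χ i (x i))) =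
      Submodule.pi Set.univ P := by
    apply le_antisymm
    · rw [Submodule.span_le]
      rintro _ ⟨x, rfl⟩ i _
      rw [hP]
      exact Submodule.subset_span ⟨x i, rfl⟩
    · intro y hy
      have hy' : ∀ i, y i ∈ P i := fun i => hy i (Set.mem_univ i)
      have hsum : y = ∑ i, Pi.single i (y i) := (Finset.univ_sum_single y).symm
      rw [hsum]
      refine Submodule.sum_mem _ fun i _ => ?_
      have hmap : (P i).map (LinearMap.single B N i) ≤
          Submodule.span B (Set.range (fun (x : ∀ i, M i) (i : Fin n) => χ i (x i))) := by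
        rw [hP, Submodule.map_span, Submodule.span_le]
        rintro _ ⟨_, ⟨m, rfl⟩, rfl⟩
        refine Submodule.subset_span ⟨Pi.single i m, ?_⟩
        funext j
        by_cases hj : j = i
        · subst hj
          simp
        · simp [Pi.single_eq_of_ne hj]
      exact hmap ⟨y i, hy' i, rfl⟩
  rw [hspan, (Submodule.quotientPi P).length_eq, Module.length_pi_of_fintype, addVal_prod]
  refine Finset.sum_congr rfl fun i _ => ?_
  have hPi : P i = Submodule.span B (Set.range (fun c => χ i (bM i c))) := by
    rw [hP]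
    apply le_antisymm
    · rw [Submodule.span_le]
      rintro _ ⟨m, rfl⟩
      rw [← (bM i).sum_repr m, map_sum]
      refine Submodule.sum_mem _ fun c _ => ?_
      rw [hχ]
      exact Submodule.smul_mem _ _ (Submodule.subset_span ⟨c, rfl⟩)
    · apply Submodule.span_mono
      rintro _ ⟨c, rfl⟩
      exact ⟨_, rfl⟩
  have hmapP : (P i).map ((bN i).equivFun : N i →ₗ[B] (Fin (r i) → B)) =
      LinearMap.range (Matrix.mulVecLin (A i)) := by
    rw [hPi, Submodule.map_span, Matrix.range_mulVecLin]
    congr 1
    ext v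
    constructor
    · rintro ⟨_, ⟨c, rfl⟩, rfl⟩
      refine ⟨c, ?_⟩
      rw [hA]
      rfl
    · rintro ⟨c, rfl⟩
      refine ⟨_, ⟨c, rfl⟩, ?_⟩
      rw [hA]
      rfl
  have hlen : Module.length B (N i ⧸ P i) = coLen (Matrix.mulVecLin (A i)) := by
    unfold coLen
    exact (Submodule.Quotient.equiv _ _ (bN i).equivFun hmapP).length_eq
  rw [hlen]
  by_cases hd : (A i).det = 0
  · rw [hd, IsDiscreteValuationRing.addVal_zero]
    exact coLen_eq_top_of_det_eq_zero _ hd
  · have hfin : ∀ b : B, b ≠ 0 → Ring.ord B b ≠ ⊤ := fun b hb => by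
      rw [Ring.ord_eq_addVal]
      exact fun h => hb (IsDiscreteValuationRing.addVal_eq_top_iff.mp h)
    have hg := good_of_det_ne_zero hfin (A i) hd
    unfold Good at hg
    rw [hg, Ring.ord_eq_addVal]

end Groth.Agent.S19624
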