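import Groth.Statements.S19626
import Mathlib
import Groth.Agent.Lib.Helper23DimShiftVan
import Groth.Agent.Lib.Helper9EtMVCompare
import Groth.Agent.Lib.Helper9JContAll
import Groth.Agent.S0101
-- import your own Groth.Agent.* helpers here

set_option autoImplicit false
set_option backward.isDefEq.respectTransparency.types false
universe u
open CategoryTheory CategoryTheory.Limits AlgebraicGeometry Opposite
open EtCore

namespace Groth.Agent.S19626


open CategoryTheory.Abelian

open Groth.Agent.Lib.Helper9.EtPull Groth.Agent.Lib.Helper9.EtMV Groth.Agent.Lib.Helper23DimShiftVan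

section

variable {X : Scheme.{u}}

theorem ZhMap_id (P : X.Etale) : ZhMap (𝟙 P) = 𝟙 (Zh P) := by
  apply (zhEquiv P _).injective
  have := zhEquiv_map (𝟙 P) (Zh P) (𝟙 _)
  rw [Category.comp_id] at this
  rw [this]
  simp

theorem ZhMap_comp {P Q R : X.Etale} (r : P ⟶ Q) (s : Q ⟶ R) : ZhMap (r ≫ s) = ZhMap r ≫ ZhMap s := by
  apply (zhEquiv P _).injective
  have h1 := zhEquiv_map (r ≫ s) (Zh R) (𝟙 _)
  rw [Category.comp_id] at h1
  rw [h1, zhEquiv_map, ← Category.comp_id (ZhMap s), zhEquiv_map]
  simp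

/-- the tautological isomorphism -/
noncomputable def objIso (W : X.Etale) : obj W.hom ≅ W :=
  MorphismProperty.Over.isoMk (Iso.refl _) rfl

theorem subsingleton_ext_iff (W : X.Etale) (F : EtCoh.Ab X) (q : ℕ) :
    Subsingleton (Ext.{u + 1} (Zh W) F q) ↔
      Subsingleton (EtCoh.H W.left ((EtCoh.pull W.hom).obj F) q) := by
  haveI : EtShriek.JCont W.hom := Groth.Agent.Lib.Helper9.JContAll.jCont W.hom
  haveI : PreservesFiniteLimits (EtCoh.pull W.hom) := Groth.Agent.S0101.result W.hom
  have e1 := Phi W.hom F q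
  let a : Zh (obj W.hom) ⟶ Zh W := ZhMap (objIso W).hom
  let b : Zh W ⟶ Zh (obj W.hom) := ZhMap (objIso W).inv
  have hab : a ≫ b = 𝟙 _ := by rw [← ZhMap_comp, Iso.hom_inv_id, ZhMap_id]
  have hba : b ≫ a = 𝟙 _ := by rw [← ZhMap_comp, Iso.inv_hom_id, ZhMap_id]
  have e2 : Ext.{u + 1} (Zh W) F q ≃ Ext.{u + 1} (Zh (obj W.hom)) F q :=
    { toFun := fun x => (Ext.mk₀ a).comp x (zero_add q)
      invFun := fun x => (Ext.mk₀ b).comp x (zero_add q)
      left_inv := fun x => by
        dsimp only
        rw [← Ext.comp_assoc_of_second_deg_zero, Ext.mk₀_comp_mk₀, hba, Ext.mk₀_id_comp]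
      right_inv := fun x => by
        dsimp only
        rw [← Ext.comp_assoc_of_second_deg_zero, Ext.mk₀_comp_mk₀, hab, Ext.mk₀_id_comp] }
  exact (e2.trans e1.toEquiv).subsingleton_congr

end

/-- Let f : X → Y be a morphism of schemes and F an abelian sheaf on the small étale site of X which is
flasque in the sense of étale cohomology: H^q(W, F|_W) = 0 for every étale X-scheme W and every q >
0, where F|_W is the pullback of F along the structure morphism of W. Then the direct image f_*F is
flasque on Y in the same sense: H^q(W', (f_*F)|_{W'}) = 0 for every étale Y-scheme W' and every q >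
0. -/
theorem result {X Y : Scheme.{u}} (f : X ⟶ Y)
    (F : EtCoh.Ab X)
    (hF : ∀ (W : X.Etale) (q : ℕ), 0 < q → Subsingleton (EtCoh.H W.left ((EtCoh.pull W.hom).obj F) q))
    (W' : Y.Etale) (q : ℕ) (hq : 0 < q) :
    Subsingleton (EtCoh.H W'.left ((EtCoh.pull W'.hom).obj ((EtCoh.push f).obj F)) q) := by
  rw [← subsingleton_ext_iff]
  haveI : PreservesFiniteLimits (EtCoh.pull f) := Groth.Agent.S0101.result f
  refine subsingleton_ext_map (EtCoh.push f) (fun W : X.Etale => Zh W) (fun W' : Y.Etale => Zh W')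
    (fun W' => (EtCoh.bc f).obj W')
    (fun W' G => (zhEquiv W' ((EtCoh.push f).obj G)).trans (zhEquiv ((EtCoh.bc f).obj W') G).symm)
    ?_ ?_ ?_ q hq F ?_ W'
  · intro W' G G' φ g
    apply (zhEquiv _ _).injective
    rw [zhEquiv_comp]
    simp only [Equiv.trans_apply]
    rw [zhEquiv_comp]
    erw [Equiv.apply_symm_apply, Equiv.apply_symm_apply]
    rfl
  · intro I hI
    exact (EtCoh.pullPushAdj f).map_injective I hI
  · intro G G' g hg
    haveI : ∀ V, Epi (g.hom.app V) := by
      intro V
      rw [AddCommGrpCat.epi_iff_surjective]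
      intro s
      obtain ⟨φ, hφ⟩ := hg V.unop ((zhEquiv V.unop G').symm s)
      refine ⟨zhEquiv V.unop G φ, ?_⟩
      rw [← zhEquiv_comp, hφ, Equiv.apply_symm_apply]
    haveI : Epi g.hom := NatTrans.epi_of_epi_app _
    exact Sheaf.Hom.epi_of_presheaf_epi (f := g)
  · intro W q hq
    rw [subsingleton_ext_iff]
    exact hF W q hq

end Groth.Agent.S19626
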