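import Groth.Statements.S19629
import Groth.Agent.Lib.Helper19CechHyp

set_option autoImplicit false
universe u
open DeRham

namespace Groth.Agent.S19629

open exteriorPower in
/-- In the chart case reached in its proof, let k be a field of characteristic zero and A a smooth
k-algebra carrying functions t_1, …, t_d whose differentials form a basis of Ω_{A/k} (a global
system of étale coordinates on X = Spec A), and let D_1, …, D_n be the coordinate hyperplanes
t_{e(1)} = 0, …, t_{e(n)} = 0 for an injection e, so that D = D_1 ∪ ⋯ ∪ D_n is a simple normal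
crossings divisor. For I ⊆ {1, …, n} write A_I = A/(t_{e(i)} : i ∈ I) for the coordinate ring of D_I
= ⋂_{i ∈ I} D_i, and let ψ_{I,J} (I ⊆ J) be the maps of de Rham complexes induced by the surjections
A_I → A_J. Then whenever s + 1 + m = d, the Čech differential ∏_{|I| = s} Ω^m_{A_I/k} → ∏_{|J| =
s+1} Ω^m_{A_J/k}, (ω_I) ↦ (Σ_{j ∈ J} ± ψ_{J∖j,J}(ω_{J∖j}))_J with the usual alternating signs, is
surjective; for s = 0 this is the surjectivity of Ω^{d-1}(X) → ⊕_i Ω^{d-1}(D_i). (The source states
the surjectivity for a smooth affine variety X of dimension d with a simple normal crossings divisor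
and reduces to this chart case étale-locally; here A_∅ is A/0 rather than A.) -/
theorem result
    (k : Type u) [Field k] [CharZero k] (A : Type u) [CommRing A] [Algebra k A] [Algebra.Smooth k A]
    (d n : ℕ) (t : Fin d → A) (e : Fin n ↪ Fin d)
    (b : Module.Basis (Fin d) A (Ω[A⁄k])) (hb : ∀ i, b i = KaehlerDifferential.D k A (t i))
    (ψ : ∀ (I J : Finset (Fin n)) (p : ℕ), ↥(⋀[(A ⧸ (⨆ i ∈ I, Ideal.span {t (e i)} : Ideal A))]^p (Ω[(A ⧸ (⨆ i ∈ I, Ideal.span {t (e i)} : Ideal A))⁄k])) →+ ↥(⋀[(A ⧸ (⨆ i ∈ J, Ideal.span {t (e i)} : Ideal A))]^p (Ω[(A ⧸ (⨆ i ∈ J, Ideal.span {t (e i)} : Ideal A))⁄k])))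
    (hψ : ∀ (I J : Finset (Fin n)) (h : I ⊆ J),
      DeRham.IsCxMap (KaehlerDifferential.D k (A ⧸ (⨆ i ∈ I, Ideal.span {t (e i)} : Ideal A))) (KaehlerDifferential.D k (A ⧸ (⨆ i ∈ J, Ideal.span {t (e i)} : Ideal A)))
        (Ideal.Quotient.factor (biSup_mono h)) (ψ I J))
    (s m : ℕ) (hs : s + 1 + m = d)
    (g : ∀ J : Finset (Fin n), ↥(⋀[(A ⧸ (⨆ i ∈ J, Ideal.span {t (e i)} : Ideal A))]^m (Ω[(A ⧸ (⨆ i ∈ J, Ideal.span {t (e i)} : Ideal A))⁄k]))) :
    ∃ ω : ∀ I : Finset (Fin n), ↥(⋀[(A ⧸ (⨆ i ∈ I, Ideal.span {t (e i)} : Ideal A))]^m (Ω[(A ⧸ (⨆ i ∈ I, Ideal.span {t (e i)} : Ideal A))⁄k])),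
      ∀ J : Finset (Fin n), J.card = s + 1 →
        (∑ j ∈ J.attach,
          ((-1 : ℤ) ^ (J.filter (fun i => i < j.1)).card) •
            ψ (J.erase j.1) J m (ω (J.erase j.1))) = g J := by
  classical
  have hd : 0 < d := by omega
  -- choose coefficients
  have hex : ∀ J : Finset (Fin n), ∃ a : A, J.card = s + 1 →
      g J = gen (KaehlerDifferential.D k (A ⧸ Groth.Agent.Lib.Helper19.CechHyp.QI t e J)) m
        (Ideal.Quotient.mk _ a)
        (fun l => Ideal.Quotient.mk (Groth.Agent.Lib.Helper19.CechHyp.QI t e J)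
          (t (Groth.Agent.Lib.Helper19.CechHyp.sig e m hd J l))) := by
    intro J
    by_cases hJ : J.card = s + 1
    · obtain ⟨a, ha⟩ := Groth.Agent.Lib.Helper19.CechHyp.exists_gen t e b hb hs hd J hJ (g J)
      exact ⟨a, fun _ => ha⟩
    · exact ⟨0, fun h => absurd h hJ⟩
  choose a ha using hex
  refine ⟨fun I => ∑ j' ∈ Finset.univ.filter (fun j' : Fin n => j' ∉ I ∧ ∀ i ∈ I, j' < i),
    gen (KaehlerDifferential.D k (A ⧸ Groth.Agent.Lib.Helper19.CechHyp.QI t e I)) m
      (Ideal.Quotient.mk _ (a (insert j' I)))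
      (fun l => Ideal.Quotient.mk (Groth.Agent.Lib.Helper19.CechHyp.QI t e I)
        (t (Groth.Agent.Lib.Helper19.CechHyp.sig e m hd (insert j' I) l))), ?_⟩
  intro J hJ
  have hne : J.Nonempty := by
    rw [← Finset.card_pos]; omega
  -- evaluate each ψ term
  have key : ∀ j ∈ J, ψ (J.erase j) J m
      (∑ j' ∈ Finset.univ.filter (fun j' : Fin n => j' ∉ J.erase j ∧ ∀ i ∈ J.erase j, j' < i),
        gen (KaehlerDifferential.D k (A ⧸ Groth.Agent.Lib.Helper19.CechHyp.QI t e (J.erase j))) m
          (Ideal.Quotient.mk _ (a (insert j' (J.erase j))))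
          (fun l => Ideal.Quotient.mk (Groth.Agent.Lib.Helper19.CechHyp.QI t e (J.erase j))
            (t (Groth.Agent.Lib.Helper19.CechHyp.sig e m hd (insert j' (J.erase j)) l))))
      = if (∀ i ∈ J.erase j, j < i) then g J else 0 := by
    intro j hj
    rw [map_sum]
    have hterm : ∀ j' ∈ Finset.univ.filter
        (fun j' : Fin n => j' ∉ J.erase j ∧ ∀ i ∈ J.erase j, j' < i),
        ψ (J.erase j) J m
          (gen (KaehlerDifferential.D k (A ⧸ Groth.Agent.Lib.Helper19.CechHyp.QI t e (J.erase j))) m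
          (Ideal.Quotient.mk _ (a (insert j' (J.erase j))))
          (fun l => Ideal.Quotient.mk (Groth.Agent.Lib.Helper19.CechHyp.QI t e (J.erase j))
            (t (Groth.Agent.Lib.Helper19.CechHyp.sig e m hd (insert j' (J.erase j)) l))))
        = if j' = j then g J else 0 := by
      intro j' hj'
      rw [Finset.mem_filter] at hj'
      rw [hψ (J.erase j) J (Finset.erase_subset _ _)]
      simp only [Ideal.Quotient.factor_mk]
      by_cases hjj : j' = j
      · rw [if_pos hjj]
        subst hjj
        rw [Finset.insert_erase hj]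
        exact (ha J hJ).symm
      · rw [if_neg hjj]
        have hcard : (insert j' (J.erase j)).card = s + 1 := by
          rw [Finset.card_insert_of_notMem hj'.2.1, Finset.card_erase_of_mem hj, hJ]
          omega
        have hjn : j ∉ insert j' (J.erase j) := by
          rw [Finset.mem_insert]
          rintro (h | h)
          · exact hjj h.symm
          · exact Finset.notMem_erase _ _ h
        have hjn' : e j ∉ (insert j' (J.erase j)).image e := by
          intro h
          obtain ⟨x, hx, hxe⟩ := Finset.mem_image.1 h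
          exact hjn (e.injective hxe ▸ hx)
        exact Groth.Agent.Lib.Helper19.CechHyp.gen_eq_zero t e J hj _
          (Groth.Agent.Lib.Helper19.CechHyp.mem_range_sig e hs hd _ hcard _ hjn') _
    rw [Finset.sum_congr rfl hterm, Finset.sum_ite_eq']
    simp only [Finset.mem_filter, Finset.mem_univ, true_and, Finset.notMem_erase,
      not_false_eq_true]
  have key' : ∀ j : {x // x ∈ J},
      ((-1 : ℤ) ^ (J.filter (fun i => i < j.1)).card) •
        ψ (J.erase j.1) J m
          (∑ j' ∈ Finset.univ.filter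
              (fun j' : Fin n => j' ∉ J.erase j.1 ∧ ∀ i ∈ J.erase j.1, j' < i),
            gen (KaehlerDifferential.D k
                (A ⧸ Groth.Agent.Lib.Helper19.CechHyp.QI t e (J.erase j.1))) m
              (Ideal.Quotient.mk _ (a (insert j' (J.erase j.1))))
              (fun l => Ideal.Quotient.mk (Groth.Agent.Lib.Helper19.CechHyp.QI t e (J.erase j.1))
                (t (Groth.Agent.Lib.Helper19.CechHyp.sig e m hd (insert j' (J.erase j.1)) l))))
      = if j.1 = J.min' hne then g J else 0 := by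
    intro j
    rw [key j.1 j.2]
    by_cases hmin : j.1 = J.min' hne
    · rw [if_pos hmin]
      have h1 : ∀ i ∈ J.erase j.1, j.1 < i := by
        intro i hi
        rw [Finset.mem_erase] at hi
        rw [hmin]
        exact lt_of_le_of_ne (Finset.min'_le J i hi.2) (fun h => hi.1 (by rw [hmin, h]))
      have h2 : J.filter (fun i => i < j.1) = ∅ := by
        rw [Finset.filter_eq_empty_iff]
        intro i hi
        rw [hmin, not_lt]
        exact Finset.min'_le J i hi
      rw [if_pos h1, h2, Finset.card_empty, pow_zero, one_smul]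
    · rw [if_neg hmin]
      have h1 : ¬ ∀ i ∈ J.erase j.1, j.1 < i := by
        intro h
        have h3 : J.min' hne ∈ J.erase j.1 :=
          Finset.mem_erase.2 ⟨fun h => hmin h.symm, Finset.min'_mem J hne⟩
        exact absurd (h _ h3) (not_lt.2 (Finset.min'_le J j.1 j.2))
      rw [if_neg h1, smul_zero]
  rw [Finset.sum_congr rfl (fun j _ => key' j)]
  rw [Finset.sum_eq_single ⟨J.min' hne, Finset.min'_mem J hne⟩]
  · rw [if_pos rfl]
  · intro j _ hj
    rw [if_neg (fun h => hj (Subtype.ext h))]
  · intro h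
    exact absurd (Finset.mem_attach _ _) h

end Groth.Agent.S19629
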