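import Groth.Statements.S1963
import Groth.Agent.Lib.Helper14WEField
import Groth.Agent.Lib.Helper3ValEt
import Groth.Agent.Lib.Helper3ValEt2
import Groth.Agent.Lib.Helper3ValEt3
import Mathlib

set_option autoImplicit false
universe u
open EtAlg

namespace Groth.Agent.S1963

open Groth.Agent.Lib.Helper3.ValEt

set_option linter.style.haveILetI false
set_option maxHeartbeats 1600000

/-- Let A be a valuation ring, B an etale A-algebra and m a prime of B lying over the maximal ideal of
A. Then the localization B_m is a valuation ring, the map A -> B_m is injective and local, and the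
extension is weakly unramified: every nonzero element of B_m is a unit multiple of the image of an
element of A. -/
theorem result (A B : Type u) [CommRing A] [IsDomain A] [ValuationRing A]
    [CommRing B] [Algebra A B] [Algebra.Etale A B] (m : Ideal B) [m.IsPrime]
    (hm : m.comap (algebraMap A B) = IsLocalRing.maximalIdeal A) :
    IsDomain (Localization.AtPrime m) ∧ (∀ _ : IsDomain (Localization.AtPrime m), ValuationRing (Localization.AtPrime m)) ∧
    Function.Injective (algebraMap A (Localization.AtPrime m)) ∧ IsLocalHom (algebraMap A (Localization.AtPrime m)) ∧
    ∀ b : Localization.AtPrime m, b ≠ 0 → ∃ (a : A) (u : (Localization.AtPrime m)ˣ),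
      b = u * algebraMap A (Localization.AtPrime m) a := by
  haveI : Algebra.WeaklyEtale A B := inferInstance
  haveI : Algebra.WeaklyEtale B (Localization.AtPrime m) :=
    Groth.Agent.Lib.Helper14.WEField.weaklyEtale_of_isLocalization m.primeCompl _
  haveI : Algebra.WeaklyEtale A (Localization.AtPrime m) :=
    Algebra.WeaklyEtale.trans A B (Localization.AtPrime m)
  haveI hdom : IsDomain (Localization.AtPrime m) := isDomain_of_local A _
  haveI hval : ValuationRing (Localization.AtPrime m) := valuationRing_of_local A _
  haveI : Algebra.QuasiFinite A B := inferInstance
  haveI : Algebra.QuasiFinite A (Localization.AtPrime m) := inferInstance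
  refine ⟨hdom, fun _ => hval, algebraMap_injective_of_flat A _, ?_, ?_⟩
  · constructor
    intro a ha
    rw [IsScalarTower.algebraMap_apply A B (Localization.AtPrime m),
      IsLocalization.AtPrime.isUnit_to_map_iff (Localization.AtPrime m) m] at ha
    have h1 : a ∉ IsLocalRing.maximalIdeal A := by
      rw [← hm]
      exact ha
    rwa [IsLocalRing.mem_maximalIdeal, mem_nonunits_iff, not_not] at h1
  · intro b hb
    exact weaklyUnramified A _ (fun y => isAlgebraic_of_quasiFinite A _ y) b hb

end Groth.Agent.S1963
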