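import Groth.Statements.S19630
import Groth.Agent.S15296

set_option autoImplicit false
universe u
open DeRham

namespace Groth.Agent.S19630

open exteriorPower in
/-- In the affine case, at ring level, let k ⊆ K be a finite extension of fields of characteristic zero
and B a smooth K-algebra, so that Y = Spec B is a smooth affine variety over K which may also be
regarded over k. Let ψ be the map of de Rham complexes from Ω•_{B/k} to Ω•_{B/K} induced by the
identity of B. Then ψ is bijective in every degree: the de Rham complex of Y over k and over K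
coincide, and hence the natural map H^i_dR(Y/k) → H^i_dR(Y/K) is an isomorphism. (The source states
the isomorphism on de Rham cohomology for any smooth variety Y over K, through the equality of the
two de Rham complexes; this row is that equality for affine Y.) -/
theorem result
    (k K : Type u) [Field k] [Field K] [CharZero k] [Algebra k K] [Module.Finite k K]
    (B : Type u) [CommRing B] [Algebra K B] [Algebra k B] [IsScalarTower k K B] [Algebra.Smooth K B]
    (ψ : ∀ p : ℕ, ↥(⋀[B]^p (Ω[B⁄k])) →+ ↥(⋀[B]^p (Ω[B⁄K])))
    (hψ : DeRham.IsCxMap (KaehlerDifferential.D k B) (KaehlerDifferential.D K B) (RingHom.id B) ψ)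
    (p : ℕ) :
    Function.Bijective (ψ p) := by
  classical
  haveI : Algebra.IsSeparable k K := inferInstance
  haveI : Algebra.FormallyUnramified k K := Algebra.FormallyUnramified.of_isSeparable k K
  haveI : Subsingleton (Ω[K⁄k]) := inferInstance
  -- the comparison map on differentials is bijective
  have hbij : Function.Bijective (KaehlerDifferential.map k K B B) := by
    refine ⟨?_, KaehlerDifferential.map_surjective k K B⟩
    rw [← LinearMap.ker_eq_bot, ← KaehlerDifferential.range_mapBaseChange, LinearMap.range_eq_bot]
    apply LinearMap.ext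
    intro x
    have : x = 0 := Subsingleton.elim _ _
    rw [this, map_zero, LinearMap.zero_apply]
  let e : Ω[B⁄k] ≃ₗ[B] Ω[B⁄K] := LinearEquiv.ofBijective (KaehlerDifferential.map k K B B) hbij
  have hψe : ∀ ω, ψ p ω = exteriorPower.map p (e : Ω[B⁄k] →ₗ[B] Ω[B⁄K]) ω := by
    apply Groth.Agent.S15296.Aux.gen_induction p
    · rw [map_zero, map_zero]
    · intro x y hx hy
      rw [map_add, map_add, hx, hy]
    · intro c b
      rw [hψ p c b]
      simp only [DeRham.gen, map_smul, exteriorPower.map_apply_ιMulti, RingHom.id_apply]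
      congr 2
      funext i
      simp [e]
  have hfun : (ψ p : _ → _) = exteriorPower.map p (e : Ω[B⁄k] →ₗ[B] Ω[B⁄K]) := funext hψe
  rw [hfun]
  have h1 : (exteriorPower.map p (e.symm : Ω[B⁄K] →ₗ[B] Ω[B⁄k])) ∘ₗ
      (exteriorPower.map p (e : Ω[B⁄k] →ₗ[B] Ω[B⁄K])) = LinearMap.id := by
    rw [← exteriorPower.map_comp, LinearEquiv.symm_comp, exteriorPower.map_id]
  have h2 : (exteriorPower.map p (e : Ω[B⁄k] →ₗ[B] Ω[B⁄K])) ∘ₗ
      (exteriorPower.map p (e.symm : Ω[B⁄K] →ₗ[B] Ω[B⁄k])) = LinearMap.id := by
    rw [← exteriorPower.map_comp, LinearEquiv.comp_symm, exteriorPower.map_id]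
  refine ⟨Function.LeftInverse.injective (g := exteriorPower.map p
      (e.symm : Ω[B⁄K] →ₗ[B] Ω[B⁄k])) (fun x => ?_),
    Function.RightInverse.surjective (g := exteriorPower.map p
      (e.symm : Ω[B⁄K] →ₗ[B] Ω[B⁄k])) (fun x => ?_)⟩
  · exact LinearMap.congr_fun h1 x
  · exact LinearMap.congr_fun h2 x

end Groth.Agent.S19630
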