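import Groth.Statements.S19632
-- import your own Groth.Agent.* helpers here

set_option autoImplicit false
universe u
open DeRham

namespace Groth.Agent.S19632

open LaurentPolynomial in
/-- The Euler operator `t d/dt` as a `k`-linear map. -/
noncomputable def euler (k : Type u) [Field k] : LaurentPolynomial k →ₗ[k] LaurentPolynomial k :=
  (AddMonoidAlgebra.coeffLinearEquiv k).symm.toLinearMap ∘ₗ
    (Finsupp.lsum k (fun n : ℤ => (n : k) • Finsupp.lsingle (R := k) (M := k) n)) ∘ₗ
    (AddMonoidAlgebra.coeffLinearEquiv k).toLinearMap

theorem euler_single (k : Type u) [Field k] (n : ℤ) (r : k) :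
    euler k (AddMonoidAlgebra.single n r) = AddMonoidAlgebra.single n ((n : k) * r) := by
  apply AddMonoidAlgebra.coeff_injective
  show (Finsupp.lsum k (fun n : ℤ => (n : k) • Finsupp.lsingle (R := k) (M := k) n))
    (Finsupp.single n r) = Finsupp.single n ((n : k) * r)
  rw [Finsupp.lsum_single, LinearMap.smul_apply, Finsupp.lsingle_apply, Finsupp.smul_single,
    smul_eq_mul]

theorem euler_coeff (k : Type u) [Field k] (f : LaurentPolynomial k) (n : ℤ) :
    (euler k f).coeff n = (n : k) * f.coeff n := by
  induction f using AddMonoidAlgebra.induction_linear with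
  | zero => simp
  | add f g hf hg => rw [map_add, AddMonoidAlgebra.coeff_add, Finsupp.add_apply, hf, hg,
      AddMonoidAlgebra.coeff_add, Finsupp.add_apply, mul_add]
  | single m r =>
    rw [euler_single, AddMonoidAlgebra.coeff_single, AddMonoidAlgebra.coeff_single]
    by_cases h : m = n
    · subst h; simp
    · simp [Finsupp.single_eq_of_ne, Ne.symm h]

theorem euler_leibniz (k : Type u) [Field k] (f g : LaurentPolynomial k) :
    euler k (f * g) = f • euler k g + g • euler k f := by
  induction f using AddMonoidAlgebra.induction_linear with
  | zero => simp
  | add f₁ f₂ h₁ h₂ =>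
    rw [add_mul, map_add, h₁, h₂, map_add, add_smul, smul_add]; abel
  | single m r =>
    induction g using AddMonoidAlgebra.induction_linear with
    | zero => simp
    | add g₁ g₂ h₁ h₂ =>
      rw [mul_add, map_add, h₁, h₂, map_add, add_smul, smul_add]; abel
    | single n s =>
      rw [AddMonoidAlgebra.single_mul_single, euler_single, euler_single, euler_single,
        smul_eq_mul, smul_eq_mul, AddMonoidAlgebra.single_mul_single,
        AddMonoidAlgebra.single_mul_single, add_comm n m, ← AddMonoidAlgebra.single_add]
      congr 1
      push_cast
      ring

/-- The Euler derivation. -/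
noncomputable def eulerDer (k : Type u) [Field k] :
    Derivation k (LaurentPolynomial k) (LaurentPolynomial k) :=
  Derivation.mk' (euler k) (euler_leibniz k)

/-- Let k be a field of characteristic zero and G_m = Spec k[t, t⁻¹] the multiplicative group. The
kernel of the differential d : k[t, t⁻¹] → Ω¹ of the de Rham complex of G_m consists of the
constants: for a Laurent polynomial f, df = 0 if and only if f lies in the image of k. Equivalently
H^0_dR(G_m/k) = k. (Characteristic zero is used: in characteristic p the element t^p is closed.) -/
theorem result (k : Type u) [Field k] [CharZero k]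
    (f : LaurentPolynomial k) :
    KaehlerDifferential.D k (LaurentPolynomial k) f = 0 ↔ f ∈ Set.range (algebraMap k (LaurentPolynomial k)) := by
  constructor
  · intro h
    have hE : euler k f = 0 := by
      have : (eulerDer k).liftKaehlerDifferential (KaehlerDifferential.D k _ f) = eulerDer k f :=
        Derivation.liftKaehlerDifferential_comp_D _ _
      rw [h, map_zero] at this
      exact this.symm
    refine ⟨f.coeff 0, ?_⟩
    rw [← LaurentPolynomial.C_eq_algebraMap]
    apply AddMonoidAlgebra.coeff_injective
    ext n
    have hn := euler_coeff k f n
    rw [hE] at hn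
    rw [LaurentPolynomial.C_apply]
    split_ifs with h0
    · rw [h0]
    · have : (n : k) ≠ 0 := by exact_mod_cast h0
      have h2 : (n : k) * f.coeff n = 0 := by rw [← hn]; rfl
      exact ((mul_eq_zero.mp h2).resolve_left this).symm
  · rintro ⟨r, rfl⟩
    exact Derivation.map_algebraMap _ r

end Groth.Agent.S19632
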