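import Groth.Statements.S19634
import Mathlib

set_option autoImplicit false
universe u
open DeRham

namespace Groth.Agent.S19634

open MvPolynomial
noncomputable section

variable (k : Type u) [Field k]

abbrev Rr := MvPolynomial (Fin 2) k
abbrev Ii : Ideal (Rr k) := Ideal.span {(X 0 * X 1 : MvPolynomial (Fin 2) k)}

/-- Euler operator `X_i ∂_i`. -/
noncomputable def θ (i : Fin 2) : Rr k →ₗ[k] Rr k :=
  (LinearMap.mulLeft k (X i : Rr k)) ∘ₗ (pderiv i : Derivation k (Rr k) (Rr k)).toLinearMap

lemma θ_apply (i : Fin 2) (f : Rr k) : θ k i f = X i * pderiv i f := rfl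

lemma θ_mul (i : Fin 2) (f g : Rr k) : θ k i (f * g) = f * θ k i g + g * θ k i f := by
  simp only [θ_apply, Derivation.leibniz, smul_eq_mul]
  ring

lemma θ_gen (i : Fin 2) : θ k i (X 0 * X 1) = X 0 * X 1 := by
  fin_cases i
  · simp [θ_apply, Derivation.leibniz, pderiv_X]
  · simp [θ_apply, Derivation.leibniz, pderiv_X]
    ring

lemma θ_mem (i : Fin 2) (f : Rr k) (hf : f ∈ Ii k) : θ k i f ∈ Ii k := by
  obtain ⟨h, rfl⟩ := Ideal.mem_span_singleton'.1 hf
  rw [θ_mul, θ_gen]
  exact Ideal.add_mem _ (Ideal.mul_mem_left _ _ (Ideal.mem_span_singleton_self _))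
    (Ideal.mul_mem_right _ _ (Ideal.mem_span_singleton_self _))

lemma coeff_θ (i : Fin 2) (f : Rr k) (m : Fin 2 →₀ ℕ) :
    coeff m (θ k i f) = coeff m f * (m i : k) := by
  induction f using MvPolynomial.induction_on' with
  | monomial s a =>
    rw [θ_apply, pderiv_monomial]
    by_cases hs : s i = 0
    · simp only [hs, Nat.cast_zero, mul_zero, monomial_zero, coeff_zero]
      rw [coeff_monomial]
      split_ifs with h
      · subst h; simp [hs]
      · simp
    · have : (X i : Rr k) * monomial (s - Finsupp.single i 1) (a * (s i : k)) =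
          monomial s (a * (s i : k)) := by
        have hs' : Finsupp.single i 1 + (s - Finsupp.single i 1) = s := by
          ext j
          by_cases hj : j = i
          · subst hj
            simp only [Finsupp.coe_add, Finsupp.coe_tsub, Pi.add_apply, Pi.sub_apply,
              Finsupp.single_eq_same]
            omega
          · simp [Finsupp.single_apply, Ne.symm hj]
        rw [X, monomial_mul, one_mul, hs']
      rw [this, coeff_monomial, coeff_monomial]
      split_ifs with h
      · subst h; rfl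
      · simp
  | add p q hp hq =>
    rw [map_add, coeff_add, coeff_add, hp, hq, add_mul]


abbrev Aa := Rr k ⧸ Ii k

def δlin (i : Fin 2) : Aa k →ₗ[k] Aa k :=
  (((Ii k).restrictScalars k).liftQ
    (((Ideal.Quotient.mkₐ k (Ii k)).toLinearMap) ∘ₗ θ k i) (by
      intro f hf
      rw [LinearMap.mem_ker, LinearMap.comp_apply]
      exact Ideal.Quotient.eq_zero_iff_mem.2 (θ_mem k i f hf))) ∘ₗ
    (Submodule.Quotient.restrictScalarsEquiv k (Ii k)).symm.toLinearMap

lemma δlin_mk (i : Fin 2) (f : Rr k) :
    δlin k i (Ideal.Quotient.mk (Ii k) f) = Ideal.Quotient.mk (Ii k) (θ k i f) := by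
  have h : (Submodule.Quotient.restrictScalarsEquiv k (Ii k)).symm (Ideal.Quotient.mk (Ii k) f) =
      Submodule.Quotient.mk f := Submodule.Quotient.restrictScalarsEquiv_symm_mk k (Ii k) f
  unfold δlin
  rw [LinearMap.comp_apply, LinearEquiv.coe_coe, h, Submodule.liftQ_apply]
  rfl

def δ (i : Fin 2) : Derivation k (Aa k) (Aa k) where
  toLinearMap := δlin k i
  map_one_eq_zero' := by
    show δlin k i (Ideal.Quotient.mk (Ii k) 1) = 0
    rw [δlin_mk, θ_apply]
    simp
  leibniz' := by
    intro a b
    obtain ⟨f, rfl⟩ := Ideal.Quotient.mk_surjective a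
    obtain ⟨g, rfl⟩ := Ideal.Quotient.mk_surjective b
    rw [← map_mul, δlin_mk, δlin_mk, δlin_mk, θ_mul, map_add, map_mul, map_mul]
    rfl

lemma δ_mk (i : Fin 2) (f : Rr k) :
    δ k i (Ideal.Quotient.mk (Ii k) f) = Ideal.Quotient.mk (Ii k) (θ k i f) := δlin_mk k i f

lemma gen_eq : (X 0 * X 1 : Rr k) = monomial (Finsupp.single 0 1 + Finsupp.single 1 1) 1 := by
  rw [X, X, monomial_mul, one_mul]

lemma mem_Ii_iff (g : Rr k) : g ∈ Ii k ↔ ∀ m ∈ g.support, 1 ≤ m 0 ∧ 1 ≤ m 1 := by
  have h := mem_ideal_span_monomial_image (x := g)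
    (s := {(Finsupp.single 0 1 + Finsupp.single 1 1 : Fin 2 →₀ ℕ)})
  rw [Set.image_singleton, ← gen_eq] at h
  rw [h]
  refine forall₂_congr fun m _ => ?_
  simp only [Set.mem_singleton_iff, exists_eq_left]
  constructor
  · intro hle
    have h0 := hle 0
    have h1 := hle 1
    simp at h0 h1
    exact ⟨h0, h1⟩
  · rintro ⟨h0, h1⟩ j
    fin_cases j
    · simpa using h0
    · simpa using h1


end

/-- Let k be a field of characteristic zero and A = k[X, Y]/(XY), the coordinate ring of two affine
lines crossing in a point. In the naive de Rham complex A → Ω¹_{A/k} the kernel of d consists of the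
constants: dP = 0 if and only if P is in the image of k. -/
theorem result (k : Type u) [Field k] [CharZero k]
    (P : MvPolynomial (Fin 2) k ⧸ Ideal.span {(MvPolynomial.X 0 * MvPolynomial.X 1 : MvPolynomial (Fin 2) k)}) :
    KaehlerDifferential.D k (MvPolynomial (Fin 2) k ⧸ Ideal.span {(MvPolynomial.X 0 * MvPolynomial.X 1 : MvPolynomial (Fin 2) k)}) P = 0 ↔
      P ∈ Set.range (algebraMap k (MvPolynomial (Fin 2) k ⧸ Ideal.span {(MvPolynomial.X 0 * MvPolynomial.X 1 : MvPolynomial (Fin 2) k)})) := by
  constructor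
  · intro hP
    obtain ⟨f, rfl⟩ := Ideal.Quotient.mk_surjective P
    have hδ : ∀ i, θ k i f ∈ Ii k := by
      intro i
      have h1 := (δ k i).liftKaehlerDifferential_comp_D (Ideal.Quotient.mk (Ii k) f)
      rw [hP, map_zero, δ_mk] at h1
      exact Ideal.Quotient.eq_zero_iff_mem.1 h1.symm
    have hsupp : ∀ m ∈ f.support, m ≠ 0 → 1 ≤ m 0 ∧ 1 ≤ m 1 := by
      intro m hm hm0
      have hcf : coeff m f ≠ 0 := mem_support_iff.1 hm
      have key : ∀ i, m i ≠ 0 → 1 ≤ m 0 ∧ 1 ≤ m 1 := by
        intro i hi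
        apply (mem_Ii_iff k _).1 (hδ i) m
        rw [mem_support_iff, coeff_θ]
        exact mul_ne_zero hcf (by exact_mod_cast hi)
      by_cases h0 : m 0 = 0
      · have h1 : m 1 ≠ 0 := by
          intro h1
          apply hm0
          ext j
          fin_cases j
          · simpa using h0
          · simpa using h1
        exact key 1 h1
      · exact key 0 h0
    refine ⟨coeff 0 f, ?_⟩
    have hc : algebraMap k (Rr k ⧸ Ii k) (coeff 0 f) =
        Ideal.Quotient.mk (Ii k) (C (coeff 0 f)) := rfl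
    show algebraMap k (Rr k ⧸ Ii k) (coeff 0 f) = Ideal.Quotient.mk (Ii k) f
    rw [hc, ← sub_eq_zero, ← map_sub, Ideal.Quotient.eq_zero_iff_mem, mem_Ii_iff]
    intro m hm
    rw [mem_support_iff, coeff_sub] at hm
    have hm0 : m ≠ 0 := by
      rintro rfl
      apply hm
      rw [coeff_C, if_pos rfl, sub_self]
    have hmf : m ∈ f.support := by
      rw [mem_support_iff]
      intro h
      apply hm
      rw [coeff_C, if_neg (Ne.symm hm0), h, sub_zero]
    exact hsupp m hmf hm0
  · rintro ⟨c, rfl⟩
    exact Derivation.map_algebraMap _ c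

end Groth.Agent.S19634
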