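import Groth.Statements.S19635
import Mathlib
import Groth.Agent.S19634

set_option autoImplicit false
universe u
open DeRham

namespace Groth.Agent.S19635

open MvPolynomial Groth.Agent.S19634
noncomputable section

variable (k : Type u) [Field k]

lemma const_of_θ_mem [CharZero k] (f : Rr k) (hδ : ∀ i, θ k i f ∈ Ii k) :
    Ideal.Quotient.mk (Ii k) f ∈ Set.range (algebraMap k (Rr k ⧸ Ii k)) := by
  have hsupp : ∀ m ∈ f.support, m ≠ 0 → 1 ≤ m 0 ∧ 1 ≤ m 1 := by
    intro m hm hm0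
    have hcf : coeff m f ≠ 0 := mem_support_iff.1 hm
    have key : ∀ i, m i ≠ 0 → 1 ≤ m 0 ∧ 1 ≤ m 1 := by
      intro i hi
      apply (mem_Ii_iff k _).1 (hδ i) m
      rw [mem_support_iff, coeff_θ]
      exact mul_ne_zero hcf (by exact_mod_cast hi)
    by_cases h0 : m 0 = 0
    · have h1 : m 1 ≠ 0 := by
        intro h1
        apply hm0
        ext j
        fin_cases j
        · simpa using h0
        · simpa using h1
      exact key 1 h1
    · exact key 0 h0
  refine ⟨coeff 0 f, ?_⟩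
  have hc : algebraMap k (Rr k ⧸ Ii k) (coeff 0 f) =
      Ideal.Quotient.mk (Ii k) (C (coeff 0 f)) := rfl
  rw [hc, ← sub_eq_zero, ← map_sub, Ideal.Quotient.eq_zero_iff_mem, mem_Ii_iff]
  intro m hm
  rw [mem_support_iff, coeff_sub] at hm
  have hm0 : m ≠ 0 := by
    rintro rfl
    apply hm
    rw [coeff_C, if_pos rfl, sub_self]
  have hmf : m ∈ f.support := by
    rw [mem_support_iff]
    intro h
    apply hm
    rw [coeff_C, if_neg (Ne.symm hm0), h, sub_zero]
  exact hsupp m hmf hm0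

abbrev xx : Aa k := Ideal.Quotient.mk (Ii k) (X 0)
abbrev yy : Aa k := Ideal.Quotient.mk (Ii k) (X 1)
abbrev Jj : Ideal (Aa k) := Ideal.span {xx k - yy k}

/-- `∂₁ - ∂₀` -/
def ρ : Rr k →ₗ[k] Rr k :=
  (pderiv 1 : Derivation k (Rr k) (Rr k)).toLinearMap - (pderiv 0 : Derivation k (Rr k) (Rr k)).toLinearMap

lemma ρ_apply (f : Rr k) : ρ k f = pderiv 1 f - pderiv 0 f := rfl

lemma ρ_mul (f g : Rr k) : ρ k (f * g) = f * ρ k g + g * ρ k f := by
  simp only [ρ_apply, Derivation.leibniz, smul_eq_mul]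
  ring

lemma ρ_gen : ρ k (X 0 * X 1) = X 0 - X 1 := by
  simp [ρ_apply, Derivation.leibniz, pderiv_X]

def mkIJ : Rr k →ₗ[k] (Aa k ⧸ Jj k) :=
  ((Ideal.Quotient.mkₐ k (Jj k)).toLinearMap) ∘ₗ ((Ideal.Quotient.mkₐ k (Ii k)).toLinearMap)

lemma mkIJ_apply (f : Rr k) : mkIJ k f = Ideal.Quotient.mk (Jj k) (Ideal.Quotient.mk (Ii k) f) := rfl

lemma ρ_mem (f : Rr k) (hf : f ∈ Ii k) : mkIJ k (ρ k f) = 0 := by
  obtain ⟨h, rfl⟩ := Ideal.mem_span_singleton'.1 hf
  rw [ρ_mul, ρ_gen, mkIJ_apply, map_add, map_add, map_mul, map_mul]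
  have h1 : Ideal.Quotient.mk (Ii k) (X 0 * X 1 * ρ k h) = 0 :=
    Ideal.Quotient.eq_zero_iff_mem.2 (Ideal.mul_mem_right _ _ (Ideal.mem_span_singleton_self _))
  have h2 : Ideal.Quotient.mk (Jj k) (Ideal.Quotient.mk (Ii k) (X 0 - X 1)) = 0 := by
    rw [map_sub]
    exact Ideal.Quotient.eq_zero_iff_mem.2 (Ideal.mem_span_singleton_self _)
  rw [h1, h2, map_zero]
  simp only [add_zero]
  exact mul_zero (M₀ := Aa k ⧸ Jj k) _

def ηlin : Aa k →ₗ[k] (Aa k ⧸ Jj k) :=
  (((Ii k).restrictScalars k).liftQ (mkIJ k ∘ₗ ρ k) (by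
      intro f hf
      rw [LinearMap.mem_ker, LinearMap.comp_apply]
      exact ρ_mem k f hf)) ∘ₗ
    (Submodule.Quotient.restrictScalarsEquiv k (Ii k)).symm.toLinearMap

lemma ηlin_mk (f : Rr k) :
    ηlin k (Ideal.Quotient.mk (Ii k) f) = mkIJ k (ρ k f) := by
  have h : (Submodule.Quotient.restrictScalarsEquiv k (Ii k)).symm (Ideal.Quotient.mk (Ii k) f) =
      Submodule.Quotient.mk f := Submodule.Quotient.restrictScalarsEquiv_symm_mk k (Ii k) f
  unfold ηlin
  rw [LinearMap.comp_apply, LinearEquiv.coe_coe, h, Submodule.liftQ_apply]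
  rfl

def η : Derivation k (Aa k) (Aa k ⧸ Jj k) where
  toLinearMap := ηlin k
  map_one_eq_zero' := by
    show ηlin k (Ideal.Quotient.mk (Ii k) 1) = 0
    rw [ηlin_mk, ρ_apply]
    simp
  leibniz' := by
    intro a b
    obtain ⟨f, rfl⟩ := Ideal.Quotient.mk_surjective a
    obtain ⟨g, rfl⟩ := Ideal.Quotient.mk_surjective b
    rw [← map_mul, ηlin_mk, ηlin_mk, ηlin_mk, ρ_mul, map_add, mkIJ_apply, mkIJ_apply, mkIJ_apply,
      mkIJ_apply, map_mul, map_mul, map_mul, map_mul]
    rfl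

lemma η_mk (f : Rr k) : η k (Ideal.Quotient.mk (Ii k) f) = mkIJ k (ρ k f) := ηlin_mk k f


lemma xx_notMem : xx k ∉ Jj k := by
  intro hx
  obtain ⟨c, hc⟩ := Ideal.mem_span_singleton'.1 hx
  obtain ⟨u, rfl⟩ := Ideal.Quotient.mk_surjective c
  have h1 : u * (X 0 - X 1) - X 0 ∈ Ii k := by
    rw [← Ideal.Quotient.eq_zero_iff_mem, map_sub, map_mul, map_sub, sub_eq_zero]
    exact hc
  obtain ⟨w, hw⟩ := Ideal.mem_span_singleton'.1 h1
  let ev : Rr k →ₐ[k] Polynomial k := aeval (fun _ => Polynomial.X)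
  have h2 := congrArg ev hw
  simp only [map_mul, map_sub, ev, aeval_X, sub_self, mul_zero, zero_sub] at h2
  have h3 := congrArg (fun p => Polynomial.coeff p 1) h2
  simp only [Polynomial.coeff_neg, Polynomial.coeff_X_one] at h3
  rw [← pow_two, mul_comm, Polynomial.coeff_X_pow_mul'] at h3
  simp at h3


end

/-- Let k be a field of characteristic zero and A = k[X, Y]/(XY), the coordinate ring of two affine
lines crossing in a point. The differential d : A → Ω¹_{A/k} of the naive de Rham complex is not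
surjective, so the naive H^1 of this singular curve does not vanish although one expects trivial
cohomology; this is the example motivating the h-topology definition. -/
theorem result (k : Type u) [Field k] [CharZero k] :
    ¬ Function.Surjective (KaehlerDifferential.D k (MvPolynomial (Fin 2) k ⧸ Ideal.span {(MvPolynomial.X 0 * MvPolynomial.X 1 : MvPolynomial (Fin 2) k)})) := by
  intro hsurj
  obtain ⟨P, hP⟩ := hsurj (xx k • KaehlerDifferential.D k (Aa k) (yy k))
  obtain ⟨f, rfl⟩ := Ideal.Quotient.mk_surjective P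
  have hδ : ∀ i, θ k i f ∈ Ii k := by
    intro i
    have h1 := (δ k i).liftKaehlerDifferential_comp_D (Ideal.Quotient.mk (Ii k) f)
    rw [hP, map_smul, Derivation.liftKaehlerDifferential_comp_D, δ_mk, δ_mk] at h1
    rw [← Ideal.Quotient.eq_zero_iff_mem, ← h1, smul_eq_mul, ← map_mul,
      Ideal.Quotient.eq_zero_iff_mem, θ_apply]
    fin_cases i
    · simp [pderiv_X]
    · simp only [Fin.mk_one, Fin.isValue, pderiv_X_self, mul_one]
      exact Ideal.mem_span_singleton_self _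
  obtain ⟨c, hc⟩ := const_of_θ_mem k f hδ
  rw [← hc, Derivation.map_algebraMap] at hP
  have h2 := congrArg (η k).liftKaehlerDifferential hP
  rw [map_zero, map_smul, Derivation.liftKaehlerDifferential_comp_D, η_mk, ρ_apply] at h2
  simp only [pderiv_X_self, Fin.isValue, pderiv_X, ne_eq, one_ne_zero, not_false_eq_true,
    Pi.single_eq_of_ne, sub_zero] at h2
  apply xx_notMem k
  rw [← Ideal.Quotient.eq_zero_iff_mem]
  rw [mkIJ_apply, map_one, map_one] at h2
  rw [h2]
  have h3 : xx k • (1 : Aa k ⧸ Jj k) = Ideal.Quotient.mk (Jj k) (xx k • (1 : Aa k)) := rfl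
  rw [h3, smul_eq_mul, mul_one]

end Groth.Agent.S19635
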