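import Groth.Statements.S1965
import Mathlib
import Groth.Agent.Lib.Helper14Newton

set_option autoImplicit false
universe u
open Polynomial
open EtAlg

namespace Groth.Agent.S1965

/-- Let A be a complete Noetherian local domain of Krull dimension 1 with maximal ideal m, P a
polynomial over A and α a root of P which is not a root of the derivative P'. Then for every c there
is an n such that for every polynomial Q all of whose coefficients lie in m^n, the polynomial P + Q
has a root β with β - α in m^c. -/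
theorem result (A : Type u) [CommRing A] [IsDomain A] [IsLocalRing A] [IsNoetherianRing A]
    [IsAdicComplete (IsLocalRing.maximalIdeal A) A] (hdim : ringKrullDim A = 1) (P : A[X]) (α : A)
    (hα : P.eval α = 0) (hα' : (derivative P).eval α ≠ 0) (c : ℕ) :
    ∃ n : ℕ, ∀ Q : A[X], (∀ i, Q.coeff i ∈ IsLocalRing.maximalIdeal A ^ n) →
      ∃ β : A, (P + Q).eval β = 0 ∧ β - α ∈ IsLocalRing.maximalIdeal A ^ c := by
  classical
  set m := IsLocalRing.maximalIdeal A with hm
  set d := (derivative P).eval α with hd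
  haveI : Ring.KrullDimLE 1 A := Ring.krullDimLE_iff.mpr hdim.le
  have hrad : m ≤ (Ideal.span {d}).radical := by
    rw [Ideal.radical_eq_sInf]
    apply le_sInf
    rintro p ⟨hdp, hp⟩
    have hpne : p ≠ ⊥ := by
      intro h
      rw [h] at hdp
      have := hdp (Ideal.subset_span (Set.mem_singleton d))
      exact hα' (by simpa using this)
    have hpmax : p.IsMaximal := Ideal.IsPrime.isMaximal_of_ne_bot hp hpne
    rw [IsLocalRing.eq_maximalIdeal hpmax]
  obtain ⟨k, hk⟩ := Ideal.exists_pow_le_of_le_radical_of_fg hrad (IsNoetherian.noetherian m)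
  refine ⟨2 * k + c + 1, ?_⟩
  intro Q hQ
  have hQα : Q.eval α ∈ m ^ (2 * k + c + 1) := by
    rw [Polynomial.eval_eq_sum_range]
    exact Ideal.sum_mem _ fun i _ => Ideal.mul_mem_right _ _ (hQ i)
  have hQ'α : (derivative Q).eval α ∈ m ^ (2 * k + c + 1) := by
    rw [Polynomial.eval_eq_sum_range]
    refine Ideal.sum_mem _ fun i _ => Ideal.mul_mem_right _ _ ?_
    rw [Polynomial.coeff_derivative]
    exact Ideal.mul_mem_right _ _ (hQ (i + 1))
  have h1 : m ^ (2 * k + c + 1) ≤ Ideal.span {d} * m ^ (k + c + 1) := by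
    have h0 : 2 * k + c + 1 = k + (k + c + 1) := by omega
    rw [h0, pow_add]
    exact Ideal.mul_mono_left hk
  have h2 : m ^ (2 * k + c + 1) ≤ Ideal.span {d ^ 2} * m ^ (c + 1) := by
    have h0 : 2 * k + c + 1 = k + k + (c + 1) := by omega
    rw [h0, pow_add, pow_add, pow_two, ← Ideal.span_singleton_mul_span_singleton]
    exact Ideal.mul_mono_left (Ideal.mul_mono hk hk)
  obtain ⟨t, ht, hdt⟩ := Ideal.mem_span_singleton_mul.mp (h1 hQ'α)
  obtain ⟨s₀, hs₀, hds₀⟩ := Ideal.mem_span_singleton_mul.mp (h2 hQα)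
  have htm : t ∈ m := Ideal.pow_le_self (by omega) ht
  have hunit : IsUnit (1 + t) := by
    by_contra hnu
    have h3 : 1 + t ∈ m := by
      rw [hm, IsLocalRing.mem_maximalIdeal, mem_nonunits_iff]
      exact hnu
    have h4 : (1 : A) ∈ m := by
      have h5 : (1 : A) = (1 + t) - t := by ring
      rw [h5]
      exact Ideal.sub_mem _ h3 htm
    exact (Ideal.ne_top_iff_one m).mp (IsLocalRing.maximalIdeal.isMaximal A).ne_top h4
  obtain ⟨u, hu⟩ := hunit
  have huu : (u : A) * ((u⁻¹ : Aˣ) : A) = 1 := Units.mul_inv u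
  have hFα : (P + Q).eval α = d ^ 2 * s₀ := by
    rw [eval_add, hα, zero_add, hds₀]
  have hF'α : (derivative (P + Q)).eval α = d * (u : A) := by
    rw [derivative_add, eval_add, ← hd, ← hdt, hu]
    ring
  have hF : (P + Q).eval α = ((derivative (P + Q)).eval α) ^ 2 *
      (s₀ * (((u⁻¹ : Aˣ) : A) * ((u⁻¹ : Aˣ) : A))) := by
    rw [hFα, hF'α]
    calc d ^ 2 * s₀ = d ^ 2 * s₀ * (((u : A) * ((u⁻¹ : Aˣ) : A)) * ((u : A) * ((u⁻¹ : Aˣ) : A))) := by
          rw [huu]; ring
      _ = (d * (u : A)) ^ 2 * (s₀ * (((u⁻¹ : Aˣ) : A) * ((u⁻¹ : Aˣ) : A))) := by ring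
  obtain ⟨β, hβ, hβα⟩ := Groth.Agent.Lib.Helper14.Newton.exists_root_of_eval_eq_sq_mul m (P + Q) α
    (c + 1) (by omega) _ (Ideal.mul_mem_right _ _ hs₀) hF
  exact ⟨β, hβ, Ideal.pow_le_pow_right (Nat.le_succ c) hβα⟩

end Groth.Agent.S1965
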