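import Groth.Statements.S19651
-- import your own Groth.Agent.* helpers here
import Mathlib

set_option autoImplicit false
universe u v
open AbVar

namespace Groth.Agent.S19651

section Helpers
open Polynomial

variable {k : Type u} [Field k] {V : Type v} [AddCommGroup V] [Module k V]

theorem inv_pow (B : LinearMap.BilinForm k V) (M : V →ₗ[k] V)
    (hM : ∀ x y : V, B (M x) (M y) = B x y) (i : ℕ) (x y : V) :
    B ((M ^ i) x) ((M ^ i) y) = B x y := by
  induction i generalizing x y with
  | zero => simp
  | succ i ih => rw [pow_succ, Module.End.mul_apply, Module.End.mul_apply, ih, hM]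

/-- Adjoint identity: `B(P(M) x, M^N y) = B(x, P.reverse(M) y)` with `N = natDegree P`. -/
theorem adjoint_reverse (B : LinearMap.BilinForm k V) (M : V →ₗ[k] V)
    (hM : ∀ x y : V, B (M x) (M y) = B x y) (P : k[X]) (x y : V) :
    B (aeval M P x) ((M ^ P.natDegree) y) = B x (aeval M P.reverse y) := by
  have hlt : P.reverse.natDegree < P.natDegree + 1 :=
    Nat.lt_succ_of_le (reverse_natDegree_le P)
  rw [aeval_eq_sum_range, aeval_eq_sum_range' hlt]
  simp only [LinearMap.sum_apply, LinearMap.smul_apply, map_sum, map_smul]
  rw [← Finset.sum_range_reflect]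
  apply Finset.sum_congr rfl
  intro i hi
  rw [Finset.mem_range] at hi
  have hi' : P.natDegree + 1 - 1 - i ≤ P.natDegree := by omega
  rw [coeff_reverse, revAt_le (by omega : i ≤ P.natDegree)]
  have h1 : P.natDegree + 1 - 1 - i = P.natDegree - i := by omega
  rw [h1]
  congr 1
  have h2 : M ^ P.natDegree = M ^ (P.natDegree - i) * M ^ i := by
    rw [← pow_add]; congr 1; omega
  rw [h2, Module.End.mul_apply, inv_pow B M hM]

theorem reverse_pow' (P : k[X]) (n : ℕ) : (P ^ n).reverse = P.reverse ^ n := by
  induction n with
  | zero => rw [pow_zero, pow_zero, ← C_1, reverse_C]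
  | succ n ih => rw [pow_succ, pow_succ, reverse_mul_of_domain, ih]

end Helpers

open Polynomial in
/-- Stated for an arbitrary invariant bilinear form, as the argument there allows. Let k be a field, V a
k-vector space with a bilinear form B and M a linear automorphism of V with B(Mx, My) = B(x, y) for
all x, y. If Q₁ and Q₂ are polynomials such that the reciprocal polynomial of Q₁ (its coefficient
list reversed) is coprime to Q₂, then every vector killed by a power of Q₁(M) is B-orthogonal to
every vector killed by a power of Q₂(M). With Q₁ = Q₂ = Q this says that the generalized kernel of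
Q(M) is totally isotropic whenever Q is coprime to its reciprocal polynomial, which for an
irreducible Q means that Q is not self-reciprocal. (The published statement takes M symplectic and
Q₁, Q₂ irreducible factors of the characteristic polynomial, with Q not self-reciprocal in the first
clause; its second clause asks Q₁ and Q₂ to be distinct and not reciprocal, which holds as proved
when this is read as saying that Q₂ is not the reciprocal of Q₁, but fails if it only means that
neither is self-reciprocal, as the diagonal matrix with entries 2 and 1/2 preserving the standard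
alternating form on k² shows; the coprimality of the reciprocal of Q₁ with Q₂, which is what the
published proof uses, is imposed here and covers both clauses.) -/
theorem result
    {k : Type u} [Field k] {V : Type v} [AddCommGroup V] [Module k V]
    (B : LinearMap.BilinForm k V) (M : V ≃ₗ[k] V)
    (hM : ∀ x y : V, B (M x) (M y) = B x y)
    (Q₁ Q₂ : k[X]) (h : IsCoprime Q₁.reverse Q₂)
    (x y : V)
    (hx : ∃ n : ℕ, (Polynomial.aeval (M : V →ₗ[k] V) Q₁ ^ n) x = 0)
    (hy : ∃ n : ℕ, (Polynomial.aeval (M : V →ₗ[k] V) Q₂ ^ n) y = 0) :
    B x y = 0 := by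
  obtain ⟨n, hn⟩ := hx
  obtain ⟨m, hm⟩ := hy
  have hcop : IsCoprime ((Q₁ ^ n).reverse) (Q₂ ^ m) := by
    rw [reverse_pow']
    exact h.pow
  obtain ⟨a, b, hab⟩ := hcop
  have hy' : y = Polynomial.aeval (M : V →ₗ[k] V) (Q₁ ^ n).reverse
      (Polynomial.aeval (M : V →ₗ[k] V) a y) := by
    have h1 : Polynomial.aeval (M : V →ₗ[k] V) ((Q₁ ^ n).reverse * a + b * Q₂ ^ m) y = y := by
      rw [mul_comm (Q₁ ^ n).reverse a, hab, map_one, Module.End.one_apply]
    rw [map_add, map_mul, map_mul, LinearMap.add_apply, Module.End.mul_apply,
      Module.End.mul_apply, map_pow, hm, map_zero, add_zero] at h1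
    exact h1.symm
  rw [hy', ← adjoint_reverse B (M : V →ₗ[k] V) hM, map_pow, hn]
  simp

end Groth.Agent.S19651
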