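import Groth.Statements.S19652
-- import your own Groth.Agent.* helpers here
import Groth.Agent.S19651
import Mathlib

set_option autoImplicit false
universe u v
open AbVar

namespace Groth.Agent.S19652

open Polynomial in
/-- Stated for an arbitrary invariant nondegenerate bilinear form, as the argument there allows. Let k
be a field, V a finite-dimensional k-vector space with a nondegenerate bilinear form B and M a
linear automorphism of V with B(Mx, My) = B(x, y) for all x, y. If Q is a polynomial associated to
its own reciprocal polynomial (its coefficient list reversed), then B restricted to the generalized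
kernel of Q(M), the union of the kernels of the powers Q(M)^n, is nondegenerate. (The published
statement takes M symplectic and Q a self-reciprocal divisor of the characteristic polynomial;
divisibility plays no role and is not assumed.) -/
theorem result
    {k : Type u} [Field k] {V : Type v} [AddCommGroup V] [Module k V] [FiniteDimensional k V]
    (B : LinearMap.BilinForm k V) (hB : B.Nondegenerate) (M : V ≃ₗ[k] V)
    (hM : ∀ x y : V, B (M x) (M y) = B x y)
    (Q : k[X]) (hQ : Associated Q Q.reverse) :
    (B.restrict (⨆ n : ℕ, LinearMap.ker (Polynomial.aeval (M : V →ₗ[k] V) Q ^ n))).Nondegenerate := by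
  apply LinearMap.BilinForm.Nondegenerate.ofSeparatingLeft
  set f : V →ₗ[k] V := Polynomial.aeval (M : V →ₗ[k] V) Q with hf
  intro w hw
  obtain ⟨w, hwW⟩ := w
  have hwW' : ∃ n, w ∈ LinearMap.ker (f ^ n) := by
    have hmono : Monotone (fun n => LinearMap.ker (f ^ n)) := by
      intro a b hab v hv
      rw [LinearMap.mem_ker] at hv ⊢
      obtain ⟨c, rfl⟩ := Nat.exists_eq_add_of_le hab
      rw [add_comm, pow_add, Module.End.mul_apply, hv, map_zero]
    exact (Submodule.mem_iSup_of_chain ⟨_, hmono⟩ w).mp hwW
  obtain ⟨n, hn⟩ := hwW'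
  rw [LinearMap.mem_ker] at hn
  -- w is orthogonal to range (f^n)
  have horth : ∀ z : V, B w ((f ^ n) z) = 0 := by
    intro z
    obtain ⟨c, hc⟩ := hQ
    -- Q^n * c^n = (Q^n).reverse
    have hrev : (Q ^ n).reverse = Q ^ n * ((c : k[X]) ^ n) := by
      rw [Groth.Agent.S19651.reverse_pow', ← hc, mul_pow]
    have h1 := Groth.Agent.S19651.adjoint_reverse B (M : V →ₗ[k] V) hM (Q ^ n) w
      (Polynomial.aeval (M : V →ₗ[k] V) ((↑(c⁻¹) : k[X]) ^ n) z)
    rw [map_pow, hn] at h1
    simp only [map_zero, LinearMap.zero_apply] at h1
    rw [h1, hrev, ← Module.End.mul_apply, ← map_mul, mul_assoc, ← mul_pow, Units.mul_inv, one_pow,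
      mul_one, map_pow]
  have hcompl := LinearMap.isCompl_iSup_ker_pow_iInf_range_pow f
  have hall : ∀ v : V, B w v = 0 := by
    intro v
    obtain ⟨v1, v2, hv1, hv2, rfl⟩ := Submodule.codisjoint_iff_exists_add_eq.mp hcompl.codisjoint v
    rw [map_add]
    have h1 : B w v1 = 0 := by
      have := hw ⟨v1, hv1⟩
      simpa using this
    have h2 : B w v2 = 0 := by
      have hv2' := (Submodule.mem_iInf _).mp hv2 n
      obtain ⟨z, rfl⟩ := hv2'
      exact horth z
    rw [h1, h2, add_zero]
  have hw0 : w = 0 := hB.1 w hall
  exact Subtype.ext hw0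

end Groth.Agent.S19652
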