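import Groth.Statements.S19653
import Groth.Agent.Lib.Helper9ProperHensFlat
import Groth.Agent.Lib.Helper9GeomConnSpec

set_option autoImplicit false
universe u
open AlgebraicGeometry CategoryTheory CategoryTheory.Limits
open EGA43

namespace Groth.Agent.S19653

/-- Let R be a discrete valuation ring and f : X → Spec R a flat, separated morphism of finite type
whose closed fibre is nonempty and proper over the residue field and whose generic fibre is
geometrically connected. Then f is proper, and its closed fibre is geometrically connected too. (The
published statement does not require the closed fibre to be nonempty; the affine line over the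
fraction field, viewed over R, has empty closed fibre and satisfies the other hypotheses without
being proper, and the published proof uses a point of the closed fibre, so nonemptiness is assumed
here.) -/
theorem result
    (R : Type u) [CommRing R] [IsDomain R] [IsDiscreteValuationRing R]
    (X : Scheme.{u}) (f : X ⟶ Spec (CommRingCat.of R))
    [Flat f] [IsSeparated f] [LocallyOfFiniteType f] [QuasiCompact f]
    [IsProper (f.fiberToSpecResidueField (IsLocalRing.closedPoint R))]
    [Nonempty ↥(f.fiber (IsLocalRing.closedPoint R))]
    [GeometricallyConnected (f.fiberToSpecResidueField (genericPoint ↥(Spec (CommRingCat.of R))))] :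
    IsProper f ∧ GeometricallyConnected (f.fiberToSpecResidueField (IsLocalRing.closedPoint R)) := by
  haveI : IsLocallyNoetherian (Spec (CommRingCat.of R)) := inferInstance
  have hmax : ∀ η : ↥(Spec (CommRingCat.of R)), (∀ η' : ↥(Spec (CommRingCat.of R)), η' ⤳ η → η' = η) →
      η = genericPoint ↥(Spec (CommRingCat.of R)) := fun η hη =>
    (hη _ (genericPoint_specializes η)).symm
  have hprop : IsProper f := by
    obtain ⟨U, hU, hUp⟩ := Groth.Agent.Lib.Helper9.ProperHens.exists_isProper_restrict_of_flat f
      (fun η hη _ => by rw [hmax η hη]; infer_instance)
      (IsLocalRing.closedPoint R) inferInstance inferInstance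
    have hUtop : U = ⊤ := (IsLocalRing.closedPoint_mem_iff (R := R) (U := U)).mp hU
    subst hUtop
    exact IsZariskiLocalAtTarget.of_forall_exists_morphismRestrict (P := @IsProper)
      (fun x => ⟨⊤, trivial, hUp⟩)
  refine ⟨hprop, ?_⟩
  haveI := hprop
  obtain ⟨x₀⟩ := (inferInstance : Nonempty ↥(f.fiber (IsLocalRing.closedPoint R)))
  have hx₀ : f (f.fiberι _ x₀) = IsLocalRing.closedPoint R :=
    (f.range_fiberι (IsLocalRing.closedPoint R)).le ⟨x₀, rfl⟩
  have hspec : genericPoint ↥(Spec (CommRingCat.of R)) ⤳
      (IsLocalRing.closedPoint R : ↥(Spec (CommRingCat.of R))) := genericPoint_specializes _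
  have hgc : GeometricallyConnected
      (f.fiberToSpecResidueField (genericPoint ↥(Spec (CommRingCat.of R)))) := inferInstance
  exact Groth.Agent.Lib.Helper9.GeomConnSpec.geometricallyConnected_fiber_of_specializes f
    hspec hgc _ hx₀

end Groth.Agent.S19653
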