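import Groth.Statements.S19659
import Groth.Agent.Lib.Helper3Isog
import Mathlib

set_option autoImplicit false
universe u
open CategoryTheory CategoryTheory.Limits MonoidalCategory CartesianMonoidalCategory MonObj GrpObj AlgebraicGeometry
open AbSch

namespace Groth.Agent.S19659

open Groth.Agent.Lib.Helper3.Isog Groth.Agent.Lib.Helper3.GrpFlat Groth.Agent.Lib.Helper3.GrpHomQF
open scoped Obj

/-- Let S be a scheme, A and B abelian schemes over S (proper smooth S-group schemes with geometrically
connected fibres) and f : A → B a homomorphism. Then f is flat exactly when it is surjective. -/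
theorem result
    {S : Scheme.{u}} (A B : Over S) [GrpObj A] [IsProper A.hom] [Smooth A.hom] [GeometricallyConnected A.hom]
    [GrpObj B] [IsProper B.hom] [Smooth B.hom] [GeometricallyConnected B.hom]
    (f : A ⟶ B) [IsMonHom f] :
    Flat f.left ↔ Surjective f.left := by
  haveI : GeometricallyReduced B.hom := geometricallyReduced_of_smooth B.hom
  have hw : f.left ≫ B.hom = A.hom := Over.w f
  haveI : LocallyOfFinitePresentation f.left :=
    Groth.Agent.Lib.Helper6.locallyOfFinitePresentation_of_comp (g := B.hom) inferInstance
      (by rw [hw]; infer_instance)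
  constructor
  · intro hfl
    constructor
    intro y
    let s := B.hom y
    let t := S.fromSpecResidueField s
    let Gs : Over (Spec (CommRingCat.of (S.residueField s))) := (Over.pullback t).obj A
    let Hs : Over (Spec (CommRingCat.of (S.residueField s))) := (Over.pullback t).obj B
    let fs : Gs ⟶ Hs := (Over.pullback t).map f
    haveI : IsMonHom fs := inferInstanceAs (IsMonHom ((Over.pullback t).map f))
    have hpb : IsPullback (pullback.fst A.hom t) fs.left f.left (pullback.fst B.hom t) :=
      isPullback_overPullback_map A B f t
    haveI : Flat fs.left := MorphismProperty.of_isPullback (P := @Flat) hpb inferInstance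
    haveI : LocallyOfFinitePresentation fs.left :=
      MorphismProperty.of_isPullback (P := @LocallyOfFinitePresentation) hpb inferInstance
    haveI : ConnectedSpace Hs.left := inferInstanceAs (ConnectedSpace (B.hom.fiber s))
    haveI hsurj : Surjective fs.left := surjective_of_flat_of_connected Gs Hs fs
    have hy : y ∈ Set.range (B.hom.fiberι s) := by
      rw [Scheme.Hom.range_fiberι]
      rfl
    obtain ⟨y', hy'⟩ := hy
    obtain ⟨w, hw'⟩ := hsurj.surj y'
    refine ⟨pullback.fst A.hom t w, ?_⟩
    rw [← Scheme.Hom.comp_apply, hpb.w, Scheme.Hom.comp_apply, hw']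
    exact hy'
  · intro hs
    exact (flat_of_surjective_hom A B f).1

end Groth.Agent.S19659
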