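import Groth.Statements.S1966
import Mathlib
import Groth.Agent.Lib.Helper2HenselRad
import Groth.Agent.Lib.Helper2HenselQuot

set_option autoImplicit false
universe u
open EtAlg

namespace Groth.Agent.S1966

section Dev
open Polynomial Groth.Agent.Lib.Helper2
theorem root_unique {B : Type*} [CommRing B] (f : B[X]) (a₀ a b : B)
    (hu : IsUnit (f.derivative.eval a₀))
    (ha : f.eval a = 0) (hb : f.eval b = 0) (ha0 : IsNilpotent (a - a₀))
    (hb0 : IsNilpotent (b - a₀)) : a = b := by
  obtain ⟨z, hz⟩ := f.derivative.evalSubFactor a a₀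
  have hua : IsUnit (f.derivative.eval a) := by
    have : f.derivative.eval a = z * (a - a₀) + f.derivative.eval a₀ := by rw [← hz]; ring
    rw [this]
    exact (Commute.isNilpotent_mul_left (Commute.all _ _) ha0).isUnit_add_right_of_commute hu
      (Commute.all _ _)
  obtain ⟨c, hc⟩ := f.binomExpansion a (b - a)
  have hnil : IsNilpotent (b - a) := by
    have : b - a = (b - a₀) - (a - a₀) := by ring
    rw [this]
    exact (Commute.all _ _).isNilpotent_sub hb0 ha0
  have h1 : (b - a) * (c * (b - a) + f.derivative.eval a) = 0 := by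
    have h := hc
    rw [add_sub_cancel, hb, ha] at h
    linear_combination -h
  have hunit : IsUnit (c * (b - a) + f.derivative.eval a) :=
    (Commute.isNilpotent_mul_left (Commute.all _ _) hnil).isUnit_add_right_of_commute hua
      (Commute.all _ _)
  have h2 := (hunit.mul_left_eq_zero).mp h1
  exact (sub_eq_zero.mp h2).symm

theorem eval_map_hom {X Y : Type*} [CommRing X] [CommRing Y] (h : X →+* Y) (g : X[X]) (x : X) :
    (g.map h).eval (h x) = h (g.eval x) := by
  rw [eval_map, eval₂_hom]

section Tower
variable (A : Type u) [CommRing A] (As : ℕ → Type u) [∀ k, CommRing (As k)]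
    (t : ∀ k, As (k + 1) →+* As k)
    (hnil : ∀ k (x : As (k + 1)), t k x = 0 → IsNilpotent x)
    (p : ∀ k, A →+* As k) (hp : ∀ k, (t k).comp (p (k + 1)) = p k)

include hp in
theorem down (d : ℕ) : ∀ (j : ℕ) (x : A), p (j + d) x = 0 → p j x = 0 := by
  induction d with
  | zero => intro j x h; exact h
  | succ d ih =>
    intro j x h
    apply ih j x
    have : p (j + d) x = t (j + d) (p (j + d + 1) x) := by rw [← RingHom.comp_apply, hp]
    rw [this]
    have h' : p (j + d + 1) x = 0 := h
    rw [h', map_zero]

include hp hnil in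
theorem up (d : ℕ) : ∀ (k : ℕ) (x : A), p k x = 0 → IsNilpotent (p (k + d) x) := by
  induction d with
  | zero => intro k x h; rw [Nat.add_zero, h]; exact IsNilpotent.zero
  | succ d ih =>
    intro k x h
    obtain ⟨n, hn⟩ := ih k x h
    have h1 : t (k + d) ((p (k + d + 1) x) ^ n) = 0 := by
      rw [map_pow, ← RingHom.comp_apply, hp, hn]
    have h2 := hnil (k + d) _ h1
    obtain ⟨m, hm⟩ := h2
    exact ⟨n * m, by rw [pow_mul]; exact hm⟩

include hp hnil in
theorem nil_of_ker (j k : ℕ) (x : A) (h : p k x = 0) : IsNilpotent (p j x) := by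
  rcases le_total j k with hjk | hjk
  · obtain ⟨d, rfl⟩ := Nat.exists_eq_add_of_le hjk
    rw [down A As t p hp d j x h]
    exact IsNilpotent.zero
  · obtain ⟨d, rfl⟩ := Nat.exists_eq_add_of_le hjk
    exact up A As t hnil p hp d k x h

include hp hnil in
theorem main
    (hinj : ∀ a b : A, (∀ k, p k a = p k b) → a = b)
    (hsurj : ∀ x : ∀ k, As k, (∀ k, t k (x (k + 1)) = x k) → ∃ a : A, ∀ k, p k a = x k) (k : ℕ) :
    HenselianRing A (RingHom.ker (p k)) := by
  have hnilj : ∀ j x, p k x = 0 → IsNilpotent (p j x) := fun j x h =>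
    nil_of_ker A As t hnil p hp j k x h
  refine ⟨?_, ?_⟩
  · intro x hx
    rw [Ideal.mem_jacobson_bot]
    intro y
    have hz : p k (x * y) = 0 := by rw [map_mul, (RingHom.mem_ker).mp hx, zero_mul]
    have hunit : ∀ j, IsUnit (p j (x * y + 1)) := fun j => by
      rw [map_add, map_one]; exact (hnilj j _ hz).isUnit_add_one
    choose u hu using hunit
    have hcompat : ∀ j, t j ((↑(u (j + 1))⁻¹ : As (j + 1))) = ((u j)⁻¹ : (As j)ˣ) := by
      intro j
      have h1 : t j ((u (j + 1) : As (j + 1))) = u j := by
        rw [hu, hu, ← RingHom.comp_apply, hp]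
      have h2 : t j ((↑(u (j + 1))⁻¹ : As (j + 1))) * (u j : As j) = 1 := by
        rw [← h1, ← map_mul, Units.inv_mul, map_one]
      exact (Units.eq_inv_of_mul_eq_one_left (by rw [mul_comm]; exact h2))
    obtain ⟨v, hv⟩ := hsurj (fun j => ((u j)⁻¹ : (As j)ˣ)) hcompat
    have : (x * y + 1) * v = 1 := hinj _ _ (fun j => by
      rw [map_mul, hv, ← hu j, map_one, Units.mul_inv])
    exact IsUnit.of_mul_eq_one _ this
  · intro f hf a₀ h₁ h₂
    have hN : ∀ j, Ideal.map (p j) (RingHom.ker (p k)) ≤ nilradical (As j) := by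
      intro j
      rw [Ideal.map_le_iff_le_comap]
      intro x hx
      rw [Ideal.mem_comap, mem_nilradical]
      exact hnilj j x hx
    have hH : ∀ j, HenselianRing (As j) (Ideal.map (p j) (RingHom.ker (p k))) := fun j =>
      henselianRing_of_le_radical ⊥ _ (henselianRing_bot _) bot_le (hN j)
    obtain ⟨b, hb⟩ := h₂.exists_right_inv
    obtain ⟨b', rfl⟩ := Ideal.Quotient.mk_surjective b
    have hb' : p k (f.derivative.eval a₀ * b' - 1) = 0 := by
      rw [← RingHom.mem_ker, ← Ideal.Quotient.eq_zero_iff_mem, map_sub, map_mul, hb, map_one,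
        sub_self]
    have hder : ∀ j, IsUnit ((f.map (p j)).derivative.eval (p j a₀)) := by
      intro j
      rw [derivative_map, eval_map_hom]
      have h1 := hnilj j _ hb'
      rw [map_sub, map_mul, map_one] at h1
      have h2 : IsUnit (p j (f.derivative.eval a₀) * p j b') := by
        have := h1.isUnit_add_one
        rwa [sub_add_cancel] at this
      exact isUnit_of_mul_isUnit_left h2
    have hroot : ∀ j, ∃ a : As j, (f.map (p j)).IsRoot a ∧
        a - p j a₀ ∈ Ideal.map (p j) (RingHom.ker (p k)) := fun j =>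
      (hH j).is_henselian (f.map (p j)) (hf.map _) (p j a₀)
        (by rw [eval_map_hom]; exact Ideal.mem_map_of_mem _ h₁) ((hder j).map _)
    choose r hr1 hr2 using hroot
    have hcompat : ∀ j, t j (r (j + 1)) = r j := by
      intro j
      apply root_unique (f.map (p j)) (p j a₀) _ _ (hder j)
      · have : f.map (p j) = (f.map (p (j + 1))).map (t j) := by rw [Polynomial.map_map, hp]
        rw [this, eval_map_hom, (hr1 (j + 1)), map_zero]
      · exact hr1 j
      · have : t j (r (j + 1)) - p j a₀ = t j (r (j + 1) - p (j + 1) a₀) := by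
          rw [map_sub, ← RingHom.comp_apply, hp]
        rw [this]
        exact (mem_nilradical.mp (hN (j + 1) (hr2 (j + 1)))).map (t j)
      · exact mem_nilradical.mp (hN j (hr2 j))
    obtain ⟨a, ha⟩ := hsurj r hcompat
    refine ⟨a, ?_, ?_⟩
    · apply hinj
      intro j
      rw [map_zero, ← eval_map_hom, ha]
      exact hr1 j
    · rw [RingHom.mem_ker, map_sub, ha]
      have h3 := hr2 k
      have hbot : Ideal.map (p k) (RingHom.ker (p k)) = ⊥ := by
        rw [eq_bot_iff, Ideal.map_le_iff_le_comap]
        intro x hx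
        exact hx
      rw [hbot] at h3
      exact h3

end Tower
end Dev

/-- Towers indexed by the natural numbers: let (A_k) be rings with surjective transition maps A_{k+1} ->
A_k whose kernels consist of nilpotent elements, and let A be a ring with compatible projections p_k
: A -> A_k identifying A with the set of compatible sequences (p is jointly injective and every
compatible sequence comes from an element of A). Then for every k the pair (A, ker p_k) is
henselian. -/
theorem result (A : Type u) [CommRing A] (As : ℕ → Type u) [∀ k, CommRing (As k)]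
    (t : ∀ k, As (k + 1) →+* As k) (ht : ∀ k, Function.Surjective (t k))
    (hnil : ∀ k (x : As (k + 1)), t k x = 0 → IsNilpotent x)
    (p : ∀ k, A →+* As k) (hp : ∀ k, (t k).comp (p (k + 1)) = p k)
    (hinj : ∀ a b : A, (∀ k, p k a = p k b) → a = b)
    (hsurj : ∀ x : ∀ k, As k, (∀ k, t k (x (k + 1)) = x k) → ∃ a : A, ∀ k, p k a = x k) (k : ℕ) :
    HenselianRing A (RingHom.ker (p k)) := by
  exact main A As t hnil p hp hinj hsurj k

end Groth.Agent.S1966
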