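import Groth.Statements.S19660
-- import your own Groth.Agent.* helpers here
import Mathlib

set_option autoImplicit false
universe u v
open AbVar

namespace Groth.Agent.S19660

section Helpers
open Polynomial

variable {k : Type u} [Field k] {V : Type v} [AddCommGroup V] [Module k V]

theorem adjoint_sub_pow (B : LinearMap.BilinForm k V) (q : k) (M : Module.End k V)
    (hM : ∀ x y : V, B (M x) (M y) = q * B x y) (a : k) (n : ℕ) (x y : V) :
    B (((M - a • (1 : Module.End k V)) ^ n) x) ((M ^ n) y) =
      B x (((q • (1 : Module.End k V) - a • M) ^ n) y) := by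
  induction n generalizing x y with
  | zero => simp
  | succ n ih =>
    have hcomm : Commute M ((q • (1 : Module.End k V) - a • M) ^ n) := by
      apply Commute.pow_right
      apply Commute.sub_right
      · exact (Commute.one_right M).smul_right q
      · exact (Commute.refl M).smul_right a
    have hc : ((q • (1 : Module.End k V) - a • M) ^ n) (M y) =
        M (((q • (1 : Module.End k V) - a • M) ^ n) y) := by
      rw [← Module.End.mul_apply, ← Module.End.mul_apply, hcomm.eq]
    rw [pow_succ, pow_succ, Module.End.mul_apply, Module.End.mul_apply, ih, hc, pow_succ',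
      Module.End.mul_apply]
    simp only [LinearMap.sub_apply, LinearMap.smul_apply, Module.End.one_apply, map_sub,
      map_smul, LinearMap.sub_apply, LinearMap.smul_apply, hM]
    simp [smul_eq_mul]

/-- Orthogonality: if `(M - a)^n x = 0` and `q - a M = c (M - b)` with `c ≠ 0` then
`x ⊥ range (M - b)^n`. -/
theorem orth_right (B : LinearMap.BilinForm k V) (q : k) (M : Module.End k V)
    (hM : ∀ x y : V, B (M x) (M y) = q * B x y) (a b c : k) (hc : c ≠ 0)
    (hab : q • (1 : Module.End k V) - a • M = c • (M - b • (1 : Module.End k V)))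
    (n : ℕ) (x : V) (hx : ((M - a • (1 : Module.End k V)) ^ n) x = 0) (z : V) :
    B x (((M - b • (1 : Module.End k V)) ^ n) z) = 0 := by
  have h := adjoint_sub_pow B q M hM a n x z
  rw [hx, hab, _root_.smul_pow, LinearMap.smul_apply, map_smul] at h
  simp only [map_zero, LinearMap.zero_apply, smul_eq_mul] at h
  exact (mul_eq_zero.mp h.symm).resolve_left (pow_ne_zero n hc)

theorem exists_decomp [FiniteDimensional k V] (f : Module.End k V) (v : V) :
    ∃ v1 v2 : V, (∃ n, (f ^ n) v1 = 0) ∧ (∀ n, ∃ z, (f ^ n) z = v2) ∧ v1 + v2 = v := by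
  have hcompl := LinearMap.isCompl_iSup_ker_pow_iInf_range_pow f
  obtain ⟨v1, v2, hv1, hv2, rfl⟩ :=
    Submodule.codisjoint_iff_exists_add_eq.mp hcompl.codisjoint v
  refine ⟨v1, v2, ?_, ?_, rfl⟩
  · have hmono : Monotone (fun n => LinearMap.ker (f ^ n)) := by
      intro a b hab v hv
      rw [LinearMap.mem_ker] at hv ⊢
      obtain ⟨c, rfl⟩ := Nat.exists_eq_add_of_le hab
      rw [add_comm, pow_add, Module.End.mul_apply, hv, map_zero]
    obtain ⟨n, hn⟩ := (Submodule.mem_iSup_of_chain ⟨_, hmono⟩ v1).mp hv1
    exact ⟨n, hn⟩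
  · intro n
    exact (Submodule.mem_iInf _).mp hv2 n

/-- If `(M - a)^n x = 0` and `a ≠ b` then `x ∈ range (M - b)^m`. -/
theorem mem_range_of_coprime (M : Module.End k V) (a b : k) (hab : a ≠ b) (n m : ℕ) (x : V)
    (hx : ((M - a • (1 : Module.End k V)) ^ n) x = 0) :
    ∃ z, ((M - b • (1 : Module.End k V)) ^ m) z = x := by
  have hcop : IsCoprime ((X - C a : k[X]) ^ n) ((X - C b : k[X]) ^ m) :=
    (isCoprime_X_sub_C_of_isUnit_sub (sub_ne_zero.mpr hab).isUnit).pow
  obtain ⟨u, w, huw⟩ := hcop
  have hev : ∀ c : k, aeval M (X - C c : k[X]) = M - c • (1 : Module.End k V) := by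
    intro c
    rw [map_sub, aeval_X, aeval_C, Algebra.algebraMap_eq_smul_one]
  have h1 : aeval M (u * (X - C a) ^ n + (X - C b) ^ m * w) x = x := by
    rw [mul_comm ((X - C b) ^ m) w, huw, map_one, Module.End.one_apply]
  rw [map_add, map_mul, map_mul, map_pow, map_pow, hev, hev, LinearMap.add_apply,
    Module.End.mul_apply, Module.End.mul_apply, hx, map_zero, zero_add] at h1
  exact ⟨_, h1⟩

end Helpers

/-- The text applies this to the Frobenius acting on the points of prime order of a principally
polarised abelian variety over a finite field with q elements and to their Weil pairing. Let k be a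
field, V a finite-dimensional k-vector space with a nondegenerate bilinear form B, q a nonzero
element of k and M a linear automorphism of V with B(Mx, My) = q·B(x, y) for all x, y. Write V₁ and
V_q for the generalized eigenspaces of M at 1 and at q. Then every vector of V₁ that is B-orthogonal
to all of V_q is zero, every vector of V_q that is B-orthogonal (on the right) to all of V₁ is zero,
and when q ≠ 1 the form B vanishes identically on V₁ × V₁ and on V_q × V_q. (The text asserts this
as the evident adaptation, to a form scaled by q, of the orthogonality and nondegeneracy facts for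
generalized kernels of an automorphism preserving a form; the abstract statement is recorded here,
the application to the Weil pairing needing that pairing's formalism.) -/
theorem result
    {k : Type u} [Field k] {V : Type v} [AddCommGroup V] [Module k V] [FiniteDimensional k V]
    (B : LinearMap.BilinForm k V) (hB : B.Nondegenerate) (q : k) (hq : q ≠ 0)
    (M : V ≃ₗ[k] V) (hM : ∀ x y : V, B (M x) (M y) = q * B x y) :
    (∀ x ∈ Module.End.maxGenEigenspace (M : Module.End k V) 1,
        (∀ y ∈ Module.End.maxGenEigenspace (M : Module.End k V) q, B x y = 0) → x = 0) ∧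
      (∀ y ∈ Module.End.maxGenEigenspace (M : Module.End k V) q,
        (∀ x ∈ Module.End.maxGenEigenspace (M : Module.End k V) 1, B x y = 0) → y = 0) ∧
      (q ≠ 1 → ∀ x ∈ Module.End.maxGenEigenspace (M : Module.End k V) 1,
        ∀ x' ∈ Module.End.maxGenEigenspace (M : Module.End k V) 1, B x x' = 0) ∧
      (q ≠ 1 → ∀ y ∈ Module.End.maxGenEigenspace (M : Module.End k V) q,
        ∀ y' ∈ Module.End.maxGenEigenspace (M : Module.End k V) q, B y y' = 0) := by
  set M' : Module.End k V := (M : Module.End k V) with hM'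
  have hMf : ∀ x y : V, B.flip (M' x) (M' y) = q * B.flip x y := by
    intro x y
    simp only [LinearMap.BilinForm.flip_apply]
    exact hM y x
  have hM1 : ∀ x y : V, B (M' x) (M' y) = q * B x y := hM
  -- q - 1·M = (-1)(M - q)
  have e1 : q • (1 : Module.End k V) - (1 : k) • M' = (-1 : k) • (M' - q • (1 : Module.End k V)) := by
    rw [one_smul, neg_one_smul, neg_sub]
  -- q - q·M = (-q)(M - 1)
  have e2 : q • (1 : Module.End k V) - q • M' = (-q) • (M' - (1 : k) • (1 : Module.End k V)) := by
    rw [one_smul, neg_smul, smul_sub, neg_sub]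
  have hm1 : (-1 : k) ≠ 0 := by simp
  have hmq : (-q : k) ≠ 0 := neg_ne_zero.mpr hq
  -- right-orthogonality for V_1
  have R1 : ∀ (n : ℕ) (x : V), ((M' - (1 : k) • (1 : Module.End k V)) ^ n) x = 0 → ∀ z,
      B x (((M' - q • (1 : Module.End k V)) ^ n) z) = 0 := fun n x hx z =>
    orth_right B q M' hM1 1 q (-1) hm1 e1 n x hx z
  -- left-orthogonality for V_q
  have Rq : ∀ (n : ℕ) (y : V), ((M' - q • (1 : Module.End k V)) ^ n) y = 0 → ∀ z,
      B (((M' - (1 : k) • (1 : Module.End k V)) ^ n) z) y = 0 := fun n y hy z => by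
    have := orth_right B.flip q M' hMf q 1 (-q) hmq e2 n y hy z
    simpa only [LinearMap.BilinForm.flip_apply] using this
  refine ⟨?_, ?_, ?_, ?_⟩
  · intro x hx hxy
    rw [Module.End.mem_maxGenEigenspace] at hx
    obtain ⟨n, hn⟩ := hx
    apply hB.1 x
    intro v
    obtain ⟨v1, v2, ⟨n1, hv1⟩, hv2, rfl⟩ := exists_decomp (M' - q • (1 : Module.End k V)) v
    rw [map_add, hxy v1 ((Module.End.mem_maxGenEigenspace _ _ _).mpr ⟨n1, hv1⟩), zero_add]
    obtain ⟨z, rfl⟩ := hv2 n
    exact R1 n x hn z
  · intro y hy hxy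
    rw [Module.End.mem_maxGenEigenspace] at hy
    obtain ⟨n, hn⟩ := hy
    apply hB.2 y
    intro v
    obtain ⟨v1, v2, ⟨n1, hv1⟩, hv2, rfl⟩ := exists_decomp (M' - (1 : k) • (1 : Module.End k V)) v
    rw [map_add, LinearMap.add_apply,
      hxy v1 ((Module.End.mem_maxGenEigenspace _ _ _).mpr ⟨n1, hv1⟩), zero_add]
    obtain ⟨z, rfl⟩ := hv2 n
    exact Rq n y hn z
  · intro hq1 x hx x' hx'
    rw [Module.End.mem_maxGenEigenspace] at hx hx'
    obtain ⟨n, hn⟩ := hx
    obtain ⟨n', hn'⟩ := hx'
    obtain ⟨z, rfl⟩ := mem_range_of_coprime M' 1 q (Ne.symm hq1) n' n x' hn'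
    exact R1 n x hn z
  · intro hq1 y hy y' hy'
    rw [Module.End.mem_maxGenEigenspace] at hy hy'
    obtain ⟨n, hn⟩ := hy
    obtain ⟨n', hn'⟩ := hy'
    obtain ⟨z, rfl⟩ := mem_range_of_coprime M' q 1 hq1 n n' y hn
    exact Rq n' y' hn' z

end Groth.Agent.S19660
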