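import Groth.Statements.S1968
import Mathlib

set_option autoImplicit false
universe u
open EtAlg

namespace Groth.Agent.S1968

section Dev
open TensorProduct
variable {J : Type u} (A : J → Type u) [∀ j, CommRing (A j)] [∀ j, IsDomain (A j)]

theorem mem_nzd_pi_iff (x : ∀ j, A j) : x ∈ nonZeroDivisors (∀ j, A j) ↔ ∀ j, x j ≠ 0 := by
  classical
  constructor
  · intro hx j hj
    have h1 : (Pi.single j (1 : A j) : ∀ j, A j) * x = 0 := by
      funext k
      by_cases hk : k = j
      · subst hk; simp [hj]
      · simp [Pi.single_eq_of_ne hk]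
    have h2 := (mem_nonZeroDivisors_iff_right.mp hx) _ h1
    have := congr_fun h2 j
    simp at this
  · intro hx
    rw [mem_nonZeroDivisors_iff_right]
    intro z hz
    funext j
    have := congr_fun hz j
    simp only [Pi.mul_apply, Pi.zero_apply] at this
    rcases mul_eq_zero.mp this with h | h
    · exact h
    · exact absurd h (hx j)

theorem pi_nzd : Submonoid.pi Set.univ (fun j => nonZeroDivisors (A j)) =
    nonZeroDivisors (∀ j, A j) := by
  ext x
  rw [mem_nzd_pi_iff, Submonoid.mem_pi]
  constructor
  · intro h j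
    exact nonZeroDivisors.ne_zero (h j (Set.mem_univ j))
  · intro h j _
    exact mem_nonZeroDivisors_of_ne_zero (h j)

theorem part2 (K : J → Type u) [∀ j, Field (K j)] [∀ j, Algebra (A j) (K j)]
    [∀ j, IsFractionRing (A j) (K j)] :
    IsLocalization (nonZeroDivisors (∀ j, A j)) (∀ j, K j) := by
  rw [← pi_nzd]
  infer_instance

variable [∀ j, ValuationRing (A j)]

theorem bezout_pi : IsBezout (∀ j, A j) := by
  classical
  rw [IsBezout.iff_span_pair_isPrincipal]
  intro x y
  -- choose c with y j = c j * x j when x j ∣ y j, else x j = c j * y j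
  have hdvd : ∀ j, x j ∣ y j ∨ y j ∣ x j := fun j => ValuationRing.dvd_total _ _
  let e : ∀ j, A j := fun j => if x j ∣ y j then 1 else 0
  let g : ∀ j, A j := fun j => if x j ∣ y j then x j else y j
  have hgx : ∀ j, g j ∣ x j := fun j => by
    by_cases h : x j ∣ y j
    · simp only [g, if_pos h]; exact dvd_refl _
    · simp only [g, if_neg h]; exact (hdvd j).resolve_left h
  have hgy : ∀ j, g j ∣ y j := fun j => by
    by_cases h : x j ∣ y j
    · simp only [g, if_pos h]; exact h
    · simp only [g, if_neg h]; exact dvd_refl _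
  choose cx hcx using hgx
  choose cy hcy using hgy
  refine ⟨⟨g, ?_⟩⟩
  apply le_antisymm
  · rw [Ideal.span_le]
    intro z hz
    rcases hz with rfl | rfl
    · rw [Ideal.submodule_span_eq, SetLike.mem_coe, Ideal.mem_span_singleton']
      exact ⟨cx, by funext j; simp [hcx j, mul_comm]⟩
    · rw [Ideal.submodule_span_eq, SetLike.mem_coe, Ideal.mem_span_singleton']
      exact ⟨cy, by funext j; simp [hcy j, mul_comm]⟩
  · rw [Ideal.submodule_span_eq, Ideal.span_le, Set.singleton_subset_iff]
    have : g = e * x + (1 - e) * y := by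
      funext j
      by_cases h : x j ∣ y j
      · simp [g, e, if_pos h]
      · simp [g, e, if_neg h]
    rw [this]
    exact Ideal.add_mem _ (Ideal.mul_mem_left _ _ (Ideal.subset_span (by simp)))
      (Ideal.mul_mem_left _ _ (Ideal.subset_span (by simp)))

theorem part1 (I : Ideal (∀ j, A j)) : Module.Flat (∀ j, A j) I := by
  classical
  rw [Module.Flat.iff_lift_lsmul_comp_subtype_injective]
  intro L hL
  have := bezout_pi A
  obtain ⟨⟨a, ha⟩⟩ := IsBezout.isPrincipal_of_FG L hL
  have haL : a ∈ L := by rw [ha]; exact Submodule.mem_span_singleton_self a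
  let e : ∀ j, A j := fun j => if a j = 0 then 0 else 1
  have hea : e * a = a := by
    funext j
    by_cases h : a j = 0
    · simp [e, h]
    · simp [e, if_neg h]
  have hrep : ∀ t : L ⊗[∀ j, A j] I, ∃ m : I, t = (⟨a, haL⟩ : L) ⊗ₜ[∀ j, A j] m := by
    intro t
    induction t using TensorProduct.induction_on with
    | zero => exact ⟨0, by simp⟩
    | tmul x m =>
      have hx : (x : ∀ j, A j) ∈ Submodule.span (∀ j, A j) {a} := by rw [← ha]; exact x.2
      obtain ⟨r, hr⟩ := Submodule.mem_span_singleton.mp hx
      refine ⟨r • m, ?_⟩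
      have : x = r • (⟨a, haL⟩ : L) := Subtype.ext hr.symm
      rw [this, TensorProduct.smul_tmul]
    | add x y hx hy =>
      obtain ⟨m, rfl⟩ := hx
      obtain ⟨m', rfl⟩ := hy
      exact ⟨m + m', by rw [TensorProduct.tmul_add]⟩
  rw [injective_iff_map_eq_zero]
  intro t ht
  obtain ⟨m, rfl⟩ := hrep t
  rw [TensorProduct.lift.tmul] at ht
  simp only [LinearMap.coe_comp, Function.comp_apply, Submodule.coe_subtype, LinearMap.lsmul_apply] at ht
  -- ht : a • m = 0
  have hem : e • m = 0 := by
    apply Subtype.ext
    funext j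
    have h1 := congr_fun (congr_arg Subtype.val ht) j
    simp only [Submodule.coe_smul, smul_eq_mul, Pi.mul_apply, Submodule.coe_zero, Pi.zero_apply] at h1 ⊢
    by_cases h : a j = 0
    · simp [e, h]
    · rcases mul_eq_zero.mp h1 with h' | h'
      · exact absurd h' h
      · simp [h']
  have : (⟨a, haL⟩ : L) = e • (⟨a, haL⟩ : L) := Subtype.ext hea.symm
  rw [this, TensorProduct.smul_tmul, hem, TensorProduct.tmul_zero]
end Dev

/-- Let (A_j) be a family of valuation rings with fraction fields K_j. Then every ideal of the product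
ring Π A_j is a flat Π A_j-module (that is, Π A_j has weak dimension at most 1), and Π K_j is the
localization of Π A_j at its non-zero-divisors. -/
theorem result {J : Type u} (A : J → Type u) [∀ j, CommRing (A j)] [∀ j, IsDomain (A j)]
    [∀ j, ValuationRing (A j)] (K : J → Type u) [∀ j, Field (K j)] [∀ j, Algebra (A j) (K j)]
    [∀ j, IsFractionRing (A j) (K j)] :
    (∀ I : Ideal (∀ j, A j), Module.Flat (∀ j, A j) I) ∧
      IsLocalization (nonZeroDivisors (∀ j, A j)) (∀ j, K j) := by
  exact ⟨fun I => part1 A I, part2 A K⟩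

end Groth.Agent.S1968
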