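import Groth.Statements.S1969
import Mathlib
-- import your own Groth.Agent.* helpers here

set_option autoImplicit false
set_option linter.style.haveILetI false
set_option linter.unusedSectionVars false
universe u
open EtAlg

namespace Groth.Agent.S1969

open IsLocalRing

/-- In a local ring, a flat two-generated ideal has comparable generators. -/
theorem dvd_or_dvd_of_flat {B : Type*} [CommRing B] [IsLocalRing B] (α β : B)
    (hflat : Module.Flat B (Ideal.span {α, β} : Ideal B)) : α ∣ β ∨ β ∣ α := by
  have hα : α ∈ (Ideal.span {α, β} : Ideal B) := Ideal.subset_span (by simp)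
  have hβ : β ∈ (Ideal.span {α, β} : Ideal B) := Ideal.subset_span (by simp)
  let x : Fin 2 → (Ideal.span {α, β} : Ideal B) := ![⟨α, hα⟩, ⟨β, hβ⟩]
  let c : Fin 2 → B := ![β, -α]
  have hrel : ∑ i, c i • x i = 0 := by
    rw [Fin.sum_univ_two]
    apply Subtype.ext
    simp only [c, x, Matrix.cons_val_zero, Matrix.cons_val_one, Submodule.coe_add,
      Submodule.coe_smul, smul_eq_mul, Submodule.coe_zero]
    ring
  obtain ⟨k, a, y, hxy, hca⟩ := Module.Flat.isTrivialRelation_of_sum_smul_eq_zero hrel
  have hca' : ∀ j, β * a 0 j = α * a 1 j := by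
    intro j
    have h := hca j
    rw [Fin.sum_univ_two] at h
    simp only [c, Matrix.cons_val_zero, Matrix.cons_val_one] at h
    linear_combination h
  by_cases h : ∃ j, IsUnit (a 0 j) ∨ IsUnit (a 1 j)
  · obtain ⟨j, hj | hj⟩ := h
    · left
      obtain ⟨u, hu⟩ := hj
      refine ⟨a 1 j * ↑u⁻¹, ?_⟩
      have h1 := hca' j
      rw [← hu] at h1
      calc β = β * ↑u * ↑u⁻¹ := by rw [mul_assoc, Units.mul_inv, mul_one]
        _ = α * (a 1 j * ↑u⁻¹) := by rw [h1]; ring
    · right
      obtain ⟨u, hu⟩ := hj
      refine ⟨a 0 j * ↑u⁻¹, ?_⟩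
      have h1 := hca' j
      rw [← hu] at h1
      calc α = α * ↑u * ↑u⁻¹ := by rw [mul_assoc, Units.mul_inv, mul_one]
        _ = β * (a 0 j * ↑u⁻¹) := by rw [← h1]; ring
  · push Not at h
    have hmem : ∀ i, ((x i : (Ideal.span {α, β} : Ideal B)) : B) ∈
        (maximalIdeal B) • (Ideal.span {α, β} : Ideal B) := by
      intro i
      rw [hxy i, Submodule.coe_sum]
      refine Submodule.sum_mem _ fun j _ => ?_
      rw [Submodule.coe_smul]
      apply Submodule.smul_mem_smul _ (y j).2
      rw [mem_maximalIdeal, mem_nonunits_iff]
      fin_cases i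
      · exact (h j).1
      · exact (h j).2
    have hJ : (Ideal.span {α, β} : Ideal B) = ⊥ := by
      apply Submodule.eq_bot_of_le_smul_of_le_jacobson_bot (maximalIdeal B) _
        (Submodule.fg_span (Set.toFinite _)) ?_ (maximalIdeal_le_jacobson _)
      rw [Ideal.span_le]
      intro z hz
      rcases hz with rfl | rfl
      · exact hmem 0
      · exact hmem 1
    rw [hJ] at hα hβ
    left
    rw [(Submodule.mem_bot B).mp hβ]
    exact dvd_zero _

/-- In a local ring, a flat principal ideal is generated by zero or a non-zero-divisor. -/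
theorem eq_zero_or_eq_zero_of_flat {B : Type*} [CommRing B] [IsLocalRing B] (α β : B)
    (hflat : Module.Flat B (Ideal.span {α} : Ideal B)) (hαβ : α * β = 0) : α = 0 ∨ β = 0 := by
  have hα : α ∈ (Ideal.span {α} : Ideal B) := Ideal.subset_span (by simp)
  let x : Fin 1 → (Ideal.span {α} : Ideal B) := ![⟨α, hα⟩]
  let c : Fin 1 → B := ![β]
  have hrel : ∑ i, c i • x i = 0 := by
    rw [Fin.sum_univ_one]
    apply Subtype.ext
    simp only [c, x, Matrix.cons_val_zero, Submodule.coe_smul, smul_eq_mul, Submodule.coe_zero]
    rw [mul_comm]; exact hαβ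
  obtain ⟨k, a, y, hxy, hca⟩ := Module.Flat.isTrivialRelation_of_sum_smul_eq_zero hrel
  have hca' : ∀ j, β * a 0 j = 0 := by
    intro j
    have h := hca j
    rw [Fin.sum_univ_one] at h
    exact h
  by_cases h : ∃ j, IsUnit (a 0 j)
  · obtain ⟨j, hj⟩ := h
    right
    obtain ⟨u, hu⟩ := hj
    have h1 := hca' j
    rw [← hu] at h1
    calc β = β * ↑u * ↑u⁻¹ := by rw [mul_assoc, Units.mul_inv, mul_one]
      _ = 0 := by rw [h1, zero_mul]
  · push Not at h
    have hmem : α ∈ (maximalIdeal B) • (Ideal.span {α} : Ideal B) := by
      have h2 : (((∑ j, a 0 j • y j : (Ideal.span {α} : Ideal B))) : B) ∈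
          (maximalIdeal B) • (Ideal.span {α} : Ideal B) := by
        rw [Submodule.coe_sum]
        refine Submodule.sum_mem _ fun j _ => ?_
        rw [Submodule.coe_smul]
        apply Submodule.smul_mem_smul _ (y j).2
        rw [mem_maximalIdeal, mem_nonunits_iff]
        exact h j
      have h3 : α = (((∑ j, a 0 j • y j : (Ideal.span {α} : Ideal B))) : B) :=
        congrArg Subtype.val (hxy 0)
      rwa [← h3] at h2
    have hJ : (Ideal.span {α} : Ideal B) = ⊥ := by
      apply Submodule.eq_bot_of_le_smul_of_le_jacobson_bot (maximalIdeal B) _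
        (Submodule.fg_span (Set.toFinite _)) ?_ (maximalIdeal_le_jacobson _)
      rw [Ideal.span_le]
      intro z hz
      rw [Set.mem_singleton_iff] at hz
      rw [hz]
      exact hmem
    rw [hJ] at hα
    left
    exact (Submodule.mem_bot B).mp hα

theorem flat_map_of_flat (A : Type u) [CommRing A] (P : Ideal A) [P.IsPrime] (I : Ideal A)
    [Module.Flat A I] :
    Module.Flat (Localization.AtPrime P) (Ideal.map (algebraMap A (Localization.AtPrime P)) I) := by
  haveI : IsLocalizedModule P.primeCompl (Algebra.linearMap A (Localization.AtPrime P)) :=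
    inferInstance
  have h1 : Module.Flat (Localization.AtPrime P) (Submodule.localized' (Localization.AtPrime P)
      P.primeCompl (Algebra.linearMap A (Localization.AtPrime P)) I) :=
    Module.Flat.of_isLocalizedModule (Localization.AtPrime P) P.primeCompl
      (Submodule.toLocalized' (Localization.AtPrime P)
      P.primeCompl (Algebra.linearMap A (Localization.AtPrime P)) I)
  have h2 : Submodule.localized' (Localization.AtPrime P)
      P.primeCompl (Algebra.linearMap A (Localization.AtPrime P)) I =
      Ideal.map (algebraMap A (Localization.AtPrime P)) I := by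
    rw [Submodule.localized'_eq_span]
    rfl
  exact h2 ▸ h1


/-- For a commutative ring A these are equivalent — all ideals are flat A-modules; all finitely
generated ideals are flat; flatness passes to submodules of flat modules; each localization at a
prime is a valuation ring (in particular a domain). Condition (1), weak dimension at most one, is
not stated. -/
theorem result (A : Type u) [CommRing A] :
    List.TFAE [∀ I : Ideal A, Module.Flat A I,
      ∀ I : Ideal A, I.FG → Module.Flat A I,
      ∀ (M : Type u) [AddCommGroup M] [Module A M], Module.Flat A M → ∀ N : Submodule A M, Module.Flat A N,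
      ∀ (p : Ideal A) [p.IsPrime], ∃ _ : IsDomain (Localization.AtPrime p), ValuationRing (Localization.AtPrime p)] := by
  tfae_have 1 → 2 := fun h I _ => h I
  tfae_have 2 → 4 := by
    intro h P _
    have hdvd : ∀ x y : Localization.AtPrime P, x ∣ y ∨ y ∣ x := by
      intro x y
      obtain ⟨⟨a, s⟩, hx⟩ := IsLocalization.surj P.primeCompl x
      obtain ⟨⟨b, t⟩, hy⟩ := IsLocalization.surj P.primeCompl y
      have hs : IsUnit (algebraMap A (Localization.AtPrime P) s) :=
        IsLocalization.map_units _ s
      have ht : IsUnit (algebraMap A (Localization.AtPrime P) t) :=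
        IsLocalization.map_units _ t
      haveI : Module.Flat A (Ideal.span {a, b} : Ideal A) :=
        h _ (Submodule.fg_span (Set.toFinite _))
      have hfl := flat_map_of_flat A P (Ideal.span {a, b})
      rw [Ideal.map_span, Set.image_pair] at hfl
      simp only at hx hy
      rcases dvd_or_dvd_of_flat _ _ hfl with h1 | h1
      · left
        rw [← hx, ← hy] at h1
        exact (ht.dvd_mul_right).mp ((Dvd.intro _ rfl).trans h1)
      · right
        rw [← hx, ← hy] at h1
        exact (hs.dvd_mul_right).mp ((Dvd.intro _ rfl).trans h1)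
    haveI : NoZeroDivisors (Localization.AtPrime P) := by
      refine ⟨fun {x y} hxy => ?_⟩
      obtain ⟨⟨a, s⟩, hx⟩ := IsLocalization.surj P.primeCompl x
      obtain ⟨⟨b, t⟩, hy⟩ := IsLocalization.surj P.primeCompl y
      have hs : IsUnit (algebraMap A (Localization.AtPrime P) s) :=
        IsLocalization.map_units _ s
      have ht : IsUnit (algebraMap A (Localization.AtPrime P) t) :=
        IsLocalization.map_units _ t
      haveI : Module.Flat A (Ideal.span {a} : Ideal A) :=
        h _ (Submodule.fg_span (Set.toFinite _))
      have hfl := flat_map_of_flat A P (Ideal.span {a})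
      rw [Ideal.map_span, Set.image_singleton] at hfl
      simp only at hx hy
      have hab : algebraMap A (Localization.AtPrime P) a * algebraMap A (Localization.AtPrime P) b
          = 0 := by
        rw [← hx, ← hy]
        calc x * (algebraMap A (Localization.AtPrime P)) s *
              (y * (algebraMap A (Localization.AtPrime P)) t)
            = (x * y) * ((algebraMap A (Localization.AtPrime P)) s *
              (algebraMap A (Localization.AtPrime P)) t) := by ring
          _ = 0 := by rw [hxy, zero_mul]
      rcases eq_zero_or_eq_zero_of_flat _ _ hfl hab with h1 | h1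
      · left
        rw [← hx] at h1
        exact hs.mul_left_eq_zero.mp h1
      · right
        rw [← hy] at h1
        exact ht.mul_left_eq_zero.mp h1
    have hdom : IsDomain (Localization.AtPrime P) := NoZeroDivisors.to_isDomain _
    refine ⟨hdom, ?_⟩
    rw [ValuationRing.iff_dvd_total]
    exact ⟨hdvd⟩
  tfae_have 4 → 3 := by
    intro h M _ _ hM N
    apply Module.flat_of_localized_maximal
    intro P hP
    obtain ⟨hdom, hval⟩ := h P
    rw [← Module.flat_iff_of_isLocalization (Localization.AtPrime P) P.primeCompl]
    rw [Module.Flat.flat_iff_torsion_eq_bot_of_isBezout]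
    have hMt : Submodule.torsion (Localization.AtPrime P) (LocalizedModule P.primeCompl M) = ⊥ :=
      Module.Flat.torsion_eq_bot
    rw [Submodule.eq_bot_iff]
    intro n hn
    rw [Submodule.mem_torsion_iff] at hn
    obtain ⟨b, hb⟩ := hn
    have hinj : Function.Injective (LocalizedModule.map P.primeCompl N.subtype) :=
      fun x y hxy => IsLocalizedModule.map_injective P.primeCompl
        (LocalizedModule.mkLinearMap P.primeCompl N) (LocalizedModule.mkLinearMap P.primeCompl M)
        N.subtype Subtype.val_injective hxy
    have h1 : LocalizedModule.map P.primeCompl N.subtype n ∈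
        Submodule.torsion (Localization.AtPrime P) (LocalizedModule P.primeCompl M) :=
      (Submodule.mem_torsion_iff _).mpr
        ⟨b, by rw [Submonoid.smul_def, ← map_smul, ← Submonoid.smul_def, hb, map_zero]⟩
    rw [hMt, Submodule.mem_bot] at h1
    exact hinj (h1.trans (map_zero _).symm)
  tfae_have 3 → 1 := by
    intro h I
    exact h A Module.Flat.self I
  tfae_finish

end Groth.Agent.S1969
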