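import Groth.Statements.S1970
import Groth.Agent.Lib.Helper14WEField

set_option autoImplicit false
universe u
open EtAlg

namespace Groth.Agent.S1970

/-- Over a field K, every K-subalgebra and every quotient K-algebra of a weakly etale K-algebra is again
weakly etale over K. -/
theorem result (K : Type u) [Field K] (B : Type u) [CommRing B] [Algebra K B]
    [Algebra.WeaklyEtale K B] :
    (∀ S : Subalgebra K B, Algebra.WeaklyEtale K S) ∧ ∀ I : Ideal B, Algebra.WeaklyEtale K (B ⧸ I) := by
  have h := Groth.Agent.Lib.Helper14.WEField.exists_separable_aeval_eq_zero K B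
  refine ⟨fun S => ?_, fun I => ?_⟩
  · exact (Groth.Agent.Lib.Helper14.WEField.IsSepAlg.of_injective h S.val
      Subtype.val_injective).weaklyEtale
  · exact (Groth.Agent.Lib.Helper14.WEField.IsSepAlg.of_surjective h (Ideal.Quotient.mkₐ K I)
      Ideal.Quotient.mk_surjective).weaklyEtale

end Groth.Agent.S1970
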