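import Groth.Statements.S19702
import Mathlib

set_option autoImplicit false
universe u
open CategoryTheory MonoidalCategory CartesianMonoidalCategory MonObj GrpObj AlgebraicGeometry CategoryTheory.Limits
open AlgGrp

namespace Groth.Agent.S19702

open TensorProduct in
/-- in a pushout square of commutative rings over a field, with nontrivial second leg -/
theorem bijective_iff_of_isPushout {R A B P : CommRingCat.{u}} {a : R ⟶ A} {b : R ⟶ B}
    {c : A ⟶ P} {d : B ⟶ P} (H : IsPushout a b c d) (hR : IsField R) [Nontrivial B] :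
    Function.Bijective a.hom ↔ Function.Bijective d.hom := by
  letI := hR.toField
  algebraize [a.hom, b.hom]
  have H' : IsPushout (CommRingCat.ofHom (algebraMap R B)) (CommRingCat.ofHom (algebraMap R A))
      d c := H.flip
  let e := (CommRingCat.isPushout_tensorProduct R B A).isoIsPushout _ _ H'
  have he : CommRingCat.ofHom (S := B ⊗[R] A) Algebra.TensorProduct.includeLeftRingHom ≫ e.hom
      = d := IsPushout.inl_isoIsPushout_hom _ _ _ _
  have h1 : Function.Bijective d.hom ↔ Function.Bijective
      (Algebra.TensorProduct.includeLeftRingHom : B →+* B ⊗[R] A) := by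
    rw [← he]
    simp only [CommRingCat.hom_comp, CommRingCat.hom_ofHom, RingHom.coe_comp]
    exact Function.Bijective.of_comp_iff' (ConcreteCategory.bijective_of_isIso e.hom) _
  rw [h1]
  have h2 : (Algebra.TensorProduct.includeLeftRingHom : B →+* B ⊗[R] A) =
      ((Algebra.linearMap R A).lTensor B) ∘ (TensorProduct.rid R B).symm := by
    funext x
    simp [Algebra.TensorProduct.includeLeftRingHom]
  rw [h2]
  rw [Function.Bijective.of_comp_iff _ (TensorProduct.rid R B).symm.bijective,
    Module.FaithfullyFlat.lTensor_bijective_iff_bijective]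
  rfl

/-- Let k be a field, K a field extension of k and G a k-group scheme of finite type. Then G is
anti-affine, i.e. O(G) = k, if and only if the base change G_K is anti-affine, i.e. O(G_K) = K. -/
theorem result (k : Type u) [Field k] (K : Type u) [Field K] [Algebra k K]
    (G : Over (Spec (CommRingCat.of k))) [GrpObj G] [LocallyOfFiniteType G.hom] [QuasiCompact G.hom] :
    Function.Bijective ((Scheme.ΓSpecIso (CommRingCat.of k)).inv ≫ G.hom.appTop).hom ↔
      Function.Bijective ((Scheme.ΓSpecIso (CommRingCat.of K)).inv ≫ (Red.bc (Spec.map (CommRingCat.ofHom (algebraMap k K))) G).hom.appTop).hom := by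
  set f : Spec (CommRingCat.of K) ⟶ Spec (CommRingCat.of k) :=
    Spec.map (CommRingCat.ofHom (algebraMap k K)) with hf
  have H : IsPullback (pullback.fst G.hom f) (pullback.snd G.hom f) G.hom f :=
    IsPullback.of_hasPullback G.hom f
  haveI : Flat f := by
    rw [hf, Flat.SpecMap_iff]
    simp only [CommRingCat.hom_ofHom]
    rw [RingHom.flat_algebraMap_iff]
    infer_instance
  haveI : IsLocallyNoetherian G.left := LocallyOfFiniteType.isLocallyNoetherian G.hom
  haveI : CompactSpace G.left := (quasiCompact_iff_compactSpace G.hom).mp inferInstance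
  have hUST : (⊤ : (Spec (CommRingCat.of K)).Opens) ≤ f ⁻¹ᵁ ⊤ := le_top
  have hUSX : (⊤ : G.left.Opens) ≤ G.hom ⁻¹ᵁ ⊤ := le_top
  have hUY : (⊤ : (pullback G.hom f).Opens) =
      pullback.fst G.hom f ⁻¹ᵁ ⊤ ⊓ pullback.snd G.hom f ⁻¹ᵁ ⊤ := by simp
  haveI := isIso_pushoutSection_of_isQuasiSeparated_of_flat_right H hUST hUSX hUY
    (isAffineOpen_top _) (isAffineOpen_top _) isCompact_univ isQuasiSeparated_univ
  have hpo := (isIso_pushoutSection_iff H hUST hUSX hUY).mp inferInstance
  have e1 : G.hom.appLE ⊤ ⊤ hUSX = G.hom.appTop := (Scheme.Hom.app_eq_appLE G.hom).symm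
  have e2 : (pullback.snd G.hom f).appLE ⊤ ⊤ le_top = (pullback.snd G.hom f).appTop :=
    (Scheme.Hom.app_eq_appLE _).symm
  rw [e1, e2] at hpo
  haveI : Nontrivial Γ(Spec (CommRingCat.of K), ⊤) :=
    (Scheme.ΓSpecIso (CommRingCat.of K)).commRingCatIsoToRingEquiv.nontrivial
  have hfield : IsField Γ(Spec (CommRingCat.of k), ⊤) :=
    (Scheme.ΓSpecIso (CommRingCat.of k)).commRingCatIsoToRingEquiv.toMulEquiv.isField
      (Field.toIsField k)
  have key := bijective_iff_of_isPushout hpo hfield
  simp only [CommRingCat.hom_comp, RingHom.coe_comp]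
  rw [Function.Bijective.of_comp_iff _
      (ConcreteCategory.bijective_of_isIso (Scheme.ΓSpecIso (CommRingCat.of k)).inv),
    Function.Bijective.of_comp_iff _
      (ConcreteCategory.bijective_of_isIso (Scheme.ΓSpecIso (CommRingCat.of K)).inv)]
  exact key

end Groth.Agent.S19702
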