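import Groth.Statements.S19703
import Mathlib
import Groth.Agent.Lib.Helper11RigidAntiF
import Groth.Agent.Lib.Helper11SchImage

set_option autoImplicit false
universe u
open CategoryTheory MonoidalCategory CartesianMonoidalCategory MonObj GrpObj AlgebraicGeometry CategoryTheory.Limits
open AlgGrp

namespace Groth.Agent.S19703

open Groth.Agent.Lib.Helper11SchImage Limits

lemma bij_of_comp {A B C : CommRingCat.{u}} (α : A ⟶ B) (β : B ⟶ C)
    (hβ : Function.Injective β.hom) (hαβ : Function.Bijective (α ≫ β).hom) :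
    Function.Bijective α.hom := by
  refine ⟨?_, ?_⟩
  · intro x y hxy
    apply hαβ.1
    rw [CommRingCat.comp_apply, CommRingCat.comp_apply, hxy]
  · intro y
    obtain ⟨c, hc⟩ := hαβ.2 (β.hom y)
    refine ⟨c, hβ ?_⟩
    rw [← hc, CommRingCat.comp_apply]


/-- Let k be a field, G an anti-affine algebraic group over k (smooth, of finite type, with O(G) = k), H
a connected k-group scheme of finite type and j : M → H its largest anti-affine closed subgroup
scheme H_ant (O(M) = k and every anti-affine closed subgroup scheme of H factors through M). Then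
every morphism of k-schemes f : G → H with f(e_G) = e_H factors through H_ant. -/
theorem result (k : Type u) [Field k]
    (G H : Over (Spec (CommRingCat.of k))) [GrpObj G] [Smooth G.hom] [QuasiCompact G.hom]
    (hG : Function.Bijective ((Scheme.ΓSpecIso (CommRingCat.of k)).inv ≫ G.hom.appTop).hom)
    [GrpObj H] [LocallyOfFiniteType H.hom] [QuasiCompact H.hom] [ConnectedSpace ↥H.left]
    (M : Over (Spec (CommRingCat.of k))) [GrpObj M] [LocallyOfFiniteType M.hom] [QuasiCompact M.hom] (j : M ⟶ H) [IsMonHom j] [IsClosedImmersion j.left]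
    (hM : Function.Bijective ((Scheme.ΓSpecIso (CommRingCat.of k)).inv ≫ M.hom.appTop).hom)
    (hMmax : ∀ (M₁ : Over (Spec (CommRingCat.of k))) [GrpObj M₁] [LocallyOfFiniteType M₁.hom] [QuasiCompact M₁.hom] (j₁ : M₁ ⟶ H) [IsMonHom j₁] [IsClosedImmersion j₁.left],
      Function.Bijective ((Scheme.ΓSpecIso (CommRingCat.of k)).inv ≫ M₁.hom.appTop).hom → ∃ g : M₁ ⟶ M, g ≫ j = j₁)
    (f : G ⟶ H) (hf : η[G] ≫ f = η[H]) :
    ∃ g : G ⟶ M, g ≫ j = f := by
  have hGlft : LocallyOfFiniteType G.hom := inferInstance
  have hfmon : IsMonHom f := Groth.Agent.Lib.Helper11RigidAntiF.isMonHom_of_pointed G H hG f hf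
  have hc : CompactSpace ↥G.left := QuasiCompact.compactSpace_of_compactSpace G.hom
  have hn : IsLocallyNoetherian H.left := LocallyOfFiniteType.isLocallyNoetherian H.hom
  have hqs : QuasiSeparatedSpace ↥H.left := inferInstance
  have hqc : QuasiCompact f.left := inferInstance
  obtain ⟨i, hi⟩ : ∃ i : Over.mk (f.left.imageι ≫ H.hom) ⟶ H, i = Over.homMk f.left.imageι rfl :=
    ⟨_, rfl⟩
  obtain ⟨f', hf'⟩ : ∃ f' : G ⟶ Over.mk (f.left.imageι ≫ H.hom),
      f' = Over.homMk f.left.toImage (by
        change f.left.toImage ≫ f.left.imageι ≫ H.hom = G.hom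
        rw [Scheme.Hom.toImage_imageι_assoc, Over.w f]) := ⟨_, rfl⟩
  have hgi : f' ≫ i = f := by
    ext1
    rw [hf', hi]
    exact f.left.toImage_imageι
  have hil : i.left = f.left.imageι := by rw [hi]; rfl
  have hcl : IsClosedImmersion i.left := by
    rw [hil]
    exact inferInstanceAs (IsClosedImmersion f.left.imageι)
  have hdom : IsSchemeTheoreticallyDominant f'.left := by
    rw [hf']
    exact inferInstanceAs (IsSchemeTheoreticallyDominant f.left.toImage)
  have hqc' : QuasiCompact f'.left := by
    rw [hf']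
    exact inferInstanceAs (QuasiCompact f.left.toImage)
  obtain ⟨inst, h1, h2, h3⟩ := exists_grpObj_image k G H _ f i f' hgi
  have hlft : LocallyOfFiniteType (Over.mk (f.left.imageι ≫ H.hom)).hom := by
    change LocallyOfFiniteType (f.left.imageι ≫ H.hom)
    infer_instance
  have hqcK : QuasiCompact (Over.mk (f.left.imageι ≫ H.hom)).hom := by
    change QuasiCompact (f.left.imageι ≫ H.hom)
    infer_instance
  -- the image is anti-affine
  have hinj : Function.Injective f'.left.appTop.hom := by
    have := Scheme.Hom.app_injective f'.left ⊤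
    exact this
  have hK : Function.Bijective ((Scheme.ΓSpecIso (CommRingCat.of k)).inv ≫
      (Over.mk (f.left.imageι ≫ H.hom)).hom.appTop).hom := by
    have hcomp : ((Scheme.ΓSpecIso (CommRingCat.of k)).inv ≫
        (Over.mk (f.left.imageι ≫ H.hom)).hom.appTop) ≫ f'.left.appTop =
        (Scheme.ΓSpecIso (CommRingCat.of k)).inv ≫ G.hom.appTop := by
      rw [Category.assoc, ← Scheme.Hom.comp_appTop, Over.w f']
    refine bij_of_comp _ f'.left.appTop hinj ?_
    rw [hcomp]
    exact hG
  obtain ⟨g', hg'⟩ := @hMmax (Over.mk (f.left.imageι ≫ H.hom)) inst hlft hqcK i h1 hcl hK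
  exact ⟨f' ≫ g', by rw [Category.assoc, hg', hgi]⟩

end Groth.Agent.S19703
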