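import Groth.Statements.S1971
import Groth.Agent.Lib.Helper2HenselRad

set_option autoImplicit false
universe u
open EtAlg

namespace Groth.Agent.S1971

open Groth.Agent.Lib.Helper2 in
theorem one_dir (A : Type u) [CommRing A] (I J : Ideal A) (h : I.radical = J.radical)
    (B : Type u) [CommRing B] [Algebra A B] (hB : Hens2.IsPairHenselization A I B) :
    Hens2.IsPairHenselization A J B := by
  obtain ⟨hH, huniv⟩ := hB
  have hmap : ∀ {C : Type u} [CommRing C] (f : A →+* C), (I.map f).radical = (J.map f).radical := by
    intro C _ f
    have key : ∀ I J : Ideal A, I.radical = J.radical → I.map f ≤ (J.map f).radical := by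
      intro I J h
      have h1 : I ≤ J.radical := h ▸ Ideal.le_radical
      exact (Ideal.map_mono h1).trans (Ideal.map_radical_le f)
    apply le_antisymm
    · exact Ideal.radical_le_radical_iff.mpr (key I J h)
    · exact Ideal.radical_le_radical_iff.mpr (key J I h.symm)
  refine ⟨henselianRing_of_radical_eq _ _ hH (hmap (algebraMap A B)), ?_⟩
  intro C _ J₁ f hJ₁ hfJ
  have h1 : HenselianRing C J₁.radical :=
    henselianRing_of_le_radical J₁ J₁.radical hJ₁ Ideal.le_radical (le_refl _)
  have h2 : I.map f ≤ J₁.radical := by
    calc I.map f ≤ (I.map f).radical := Ideal.le_radical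
      _ = (J.map f).radical := hmap f
      _ ≤ J₁.radical := Ideal.radical_mono hfJ
  exact huniv C J₁.radical f h1 h2

/-- Let A be a ring with ideals I and J having the same zero locus in Spec A. Then an A-algebra is a
henselization of the pair (A, I) if and only if it is a henselization of the pair (A, J). -/
theorem result (A : Type u) [CommRing A] (I J : Ideal A)
    (h : PrimeSpectrum.zeroLocus (I : Set A) = PrimeSpectrum.zeroLocus (J : Set A)) (B : Type u) [CommRing B] [Algebra A B] :
    Hens2.IsPairHenselization A I B ↔ Hens2.IsPairHenselization A J B := by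
  have hrad : I.radical = J.radical := by
    rw [← PrimeSpectrum.vanishingIdeal_zeroLocus_eq_radical, ← PrimeSpectrum.vanishingIdeal_zeroLocus_eq_radical, h]
  exact ⟨one_dir A I J hrad B, one_dir A J I hrad.symm B⟩

end Groth.Agent.S1971
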