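import Groth.Statements.S19710
import Mathlib
import Groth.Agent.Lib.Helper27LinSer8

set_option autoImplicit false
open FunFld

namespace Groth.Agent.S19710

/-- Let `k` be an algebraically closed field of characteristic zero. A `g^r_d` on a function field `K/k`
of one variable is a divisor `D` of degree `d` with a subspace `V ⊆ L(D)` of dimension `r + 1`;
`V(-nP) = V ∩ L(D - nP)`, and the `i`-th vanishing order `m_i(V, P)` (`m_0 < ⋯ < m_r`) equals `m`
exactly when `dim V(-mP) = r + 1 - i` and `dim V(-(m+1)P) = r - i`. Let `K_Y` have genus `0` and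
carry a `g^r_d` `(D_Y, V_Y)` with at least a cusp at a place `Q_Y` (`dim V_Y(-2Q_Y) ≥ r`); let
`(D_Z, V_Z)` be a `g^r_d` on a second function field `K_Z`, compatible with `(D_Y, V_Y)` at a node
formed by a place `P ≠ Q_Y` of `K_Y` and a place `Q` of `K_Z` (`dim V_Y(-nP) + dim V_Z(-(d+1-n)Q) =
r + 1` for `0 ≤ n ≤ d + 1`), and let `P'` be a place of `K_Y` different from `P` and from `Q_Y`.
Then `m_i(V_Y, P') < m_i(V_Z, Q)` for all but at most one index: the set of `i ≤ r` for which the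
`i`-th vanishing order of `V_Y` at `P'` equals the `i`-th vanishing order of `V_Z` at `Q` has at
most one element. (In the source `Q_Y` is the point where the rational component `Y` meets a chain
of curves ending in a curve of positive genus, which forces the cusp condition assumed here; the
source works over the complex numbers.) -/
theorem result
    (k : Type*) [Field k] [IsAlgClosed k] [CharZero k]
    (KY : Type*) [Field KY] [Algebra k KY] (hKY : FunFld.IsFunctionField k KY) (hg0 : FunFld.genus k KY = 0)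
    (KZ : Type*) [Field KZ] [Algebra k KZ] (hKZ : FunFld.IsFunctionField k KZ)
    (d r : ℕ) (DY : FunFld.Divisor k KY) (hDY : DY.deg = d) (DZ : FunFld.Divisor k KZ) (hDZ : DZ.deg = d)
    (VY : Submodule k KY) (hVY : VY ≤ FunFld.L DY) (hVYr : Module.finrank k ↥VY = r + 1)
    (VZ : Submodule k KZ) (hVZ : VZ ≤ FunFld.L DZ) (hVZr : Module.finrank k ↥VZ = r + 1)
    (QY : FunFld.Place k KY) (hcusp : r ≤ Module.finrank k ↥(VY ⊓ FunFld.L (DY - Finsupp.single QY ((2 : ℤ)))))
    (P : FunFld.Place k KY) (hP : P ≠ QY) (Q : FunFld.Place k KZ)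
    (hcomp : ∀ n : ℕ, n ≤ d + 1 →
      Module.finrank k ↥(VY ⊓ FunFld.L (DY - Finsupp.single P ((n : ℤ)))) + Module.finrank k ↥(VZ ⊓ FunFld.L (DZ - Finsupp.single Q ((d : ℤ) + 1 - n))) = r + 1)
    (P' : FunFld.Place k KY) (hP'P : P' ≠ P) (hP'Q : P' ≠ QY) :
    {i : ℕ | i ≤ r ∧ ∃ m : ℕ,
        Module.finrank k ↥(VY ⊓ FunFld.L (DY - Finsupp.single P' ((m : ℤ)))) = r + 1 - i ∧
        Module.finrank k ↥(VY ⊓ FunFld.L (DY - Finsupp.single P' ((m : ℤ) + 1))) = r - i ∧
        Module.finrank k ↥(VZ ⊓ FunFld.L (DZ - Finsupp.single Q ((m : ℤ)))) = r + 1 - i ∧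
        Module.finrank k ↥(VZ ⊓ FunFld.L (DZ - Finsupp.single Q ((m : ℤ) + 1))) = r - i}.Subsingleton := by
  have hPd := Groth.Agent.Lib.LeadFF.deg_eq_one_of_algClosed hKY P
  have hP'd := Groth.Agent.Lib.LeadFF.deg_eq_one_of_algClosed hKY P'
  -- a section supported at `P'` and `P` for each coincidence of vanishing orders
  have key : ∀ (i m : ℕ), i ≤ r →
      Groth.Agent.Lib.Helper27LinSer.fdim VY DY P' (m : ℤ) = r + 1 - i →
      Groth.Agent.Lib.Helper27LinSer.fdim VZ DZ Q ((m : ℤ) + 1) = r - i →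
      ∃ s : KY, s ≠ 0 ∧ s ∈ VY ∧
        s ∈ FunFld.L (DY - Finsupp.single P' (m : ℤ) - Finsupp.single P (((d - m : ℕ)) : ℤ)) ∧
        FunFld.div k s + DY = Finsupp.single P' (m : ℤ) + Finsupp.single P (((d - m : ℕ)) : ℤ) := by
    intro i m hir h1 h4
    have hmd : m ≤ d := by
      by_contra hlt
      have h0 := Groth.Agent.Lib.Helper27LinSer.fdim_eq_zero hKY VY DY P' hP'd (n := (m : ℤ))
        (by rw [hDY]; omega)
      omega
    have hc : Groth.Agent.Lib.Helper27LinSer.fdim VY DY P (((d - m : ℕ)) : ℤ) +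
        Groth.Agent.Lib.Helper27LinSer.fdim VZ DZ Q ((d : ℤ) + 1 - ((d - m : ℕ) : ℤ)) = r + 1 :=
      hcomp (d - m) (by omega)
    have e : (d : ℤ) + 1 - ((d - m : ℕ) : ℤ) = (m : ℤ) + 1 := by omega
    rw [e] at hc
    obtain ⟨s, hs0, hsV, hsL⟩ := Groth.Agent.Lib.Helper27LinSer.exists_section hKY hVY hP'P m (d - m)
      (by rw [hVYr]; omega)
    refine ⟨s, hs0, hsV, hsL, ?_⟩
    have hdiv := Groth.Agent.Lib.Helper27LinSer.div_of_section hKY (E := DY - Finsupp.single P' (m : ℤ) -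
      Finsupp.single P (((d - m : ℕ)) : ℤ)) (by
        rw [Groth.Agent.Lib.LeadFF.deg_sub, Groth.Agent.Lib.LeadFF.deg_sub,
          Groth.Agent.Lib.LeadFF.deg_single, Groth.Agent.Lib.LeadFF.deg_single, hPd, hP'd, hDY]
        push_cast
        omega) hs0 hsL
    rw [hdiv]
    abel
  -- comparison of the orders at `P'`
  have half : ∀ (m m' : ℕ) (s s' : KY), s' ≠ 0 → s' ∈ VY →
      s ∈ FunFld.L (DY - Finsupp.single P' (m : ℤ) - Finsupp.single P (((d - m : ℕ)) : ℤ)) →
      FunFld.div k s' + DY = Finsupp.single P' (m' : ℤ) + Finsupp.single P (((d - m' : ℕ)) : ℤ) →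
      (∃ c : k, s' = c • s) → m ≤ m' := by
    intro m m' s s' hs'0 hs'V hsL hdiv' ⟨c, hc⟩
    have h1 : s' ∈ FunFld.L (DY - Finsupp.single P' (m : ℤ)) := by
      rw [hc]
      refine Submodule.smul_mem _ c (Groth.Agent.Lib.LeadFF.L_mono ?_ hsL)
      intro R
      rw [Finsupp.sub_apply, Finsupp.sub_apply]
      have : (0 : ℤ) ≤ (Finsupp.single P (((d - m : ℕ)) : ℤ) : FunFld.Divisor k KY) R := by
        by_cases hR : R = P
        · subst hR
          rw [Groth.Agent.Lib.LeadFF.single_apply_self]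
          exact Int.natCast_nonneg _
        · rw [Groth.Agent.Lib.LeadFF.single_apply_ne hR]
      omega
    have h2 := (Groth.Agent.Lib.Helper27LinSer.mem_L_sub_single_iff hKY hs'0 (hVY hs'V) P' (m : ℤ)).mp h1
    rw [hdiv', Finsupp.add_apply, Groth.Agent.Lib.LeadFF.single_apply_self,
      Groth.Agent.Lib.LeadFF.single_apply_ne hP'P, add_zero] at h2
    exact_mod_cast h2
  have supp : ∀ (m : ℕ) (s : KY),
      FunFld.div k s + DY = Finsupp.single P' (m : ℤ) + Finsupp.single P (((d - m : ℕ)) : ℤ) →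
      ∀ R : FunFld.Place k KY, R ≠ P' → R ≠ P → (FunFld.div k s + DY) R = 0 := by
    intro m s h R hR1 hR2
    rw [h, Finsupp.add_apply, Groth.Agent.Lib.LeadFF.single_apply_ne hR1,
      Groth.Agent.Lib.LeadFF.single_apply_ne hR2, add_zero]
  intro i hi i' hi'
  obtain ⟨hir, m, h1, h2, h3, h4⟩ := hi
  obtain ⟨hir', m', h1', h2', h3', h4'⟩ := hi'
  obtain ⟨s, hs0, hsV, hsL, hsdiv⟩ := key i m hir h1 h4
  obtain ⟨s', hs'0, hs'V, hs'L, hs'div⟩ := key i' m' hir' h1' h4'
  have hu1 := Groth.Agent.Lib.Helper27LinSer.unique_member_of_cusp hKY hg0 hDY hVY hVYr QY hcusp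
    P' P hP'Q hP s s' hsV hs'V hs0 hs'0 (supp m s hsdiv) (supp m' s' hs'div)
  have hu2 := Groth.Agent.Lib.Helper27LinSer.unique_member_of_cusp hKY hg0 hDY hVY hVYr QY hcusp
    P' P hP'Q hP s' s hs'V hsV hs'0 hs0 (supp m' s' hs'div) (supp m s hsdiv)
  have hle1 := half m m' s s' hs'0 hs'V hsL hs'div hu1
  have hle2 := half m' m s' s hs0 hsV hs'L hsdiv hu2
  have hmm : m = m' := le_antisymm hle1 hle2
  subst hmm
  have h1a : Groth.Agent.Lib.Helper27LinSer.fdim VY DY P' (m : ℤ) = r + 1 - i := h1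
  have h1b : Groth.Agent.Lib.Helper27LinSer.fdim VY DY P' (m : ℤ) = r + 1 - i' := h1'
  omega

end Groth.Agent.S19710
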