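import Groth.Statements.S19711
import Mathlib

set_option autoImplicit false
universe u
open CategoryTheory
open Coh

namespace Groth.Agent.S19711

theorem lemmaL {A : Type*} [CommRing A] (S : Submonoid A) {N' N : Type*} [AddCommGroup N']
    [Module A N'] [AddCommGroup N] [Module A N] (j : N' →ₗ[A] N) (hj : Function.Injective j)
    [Module.Projective (Localization S) (LocalizedModule S (N ⧸ LinearMap.range j))]
    (I : Ideal A) (x : N') (hx : j x ∈ I • (⊤ : Submodule A N)) :
    ∃ t ∈ S, t • x ∈ I • (⊤ : Submodule A N') := by
  set Lj := LocalizedModule.map S j with hLj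
  set Lπ := LocalizedModule.map S (LinearMap.range j).mkQ with hLπ
  have hex : Function.Exact Lj Lπ :=
    LocalizedModule.map_exact S j _ (LinearMap.exact_map_mkQ_range j)
  have hsurj : Function.Surjective Lπ :=
    LocalizedModule.map_surjective S _ (Submodule.mkQ_surjective _)
  have hinj : Function.Injective Lj := LocalizedModule.map_injective S _ hj
  obtain ⟨σ, hσ⟩ := Module.projective_lifting_property Lπ LinearMap.id hsurj
  set ρ : LocalizedModule S N →ₗ[Localization S] LocalizedModule S N :=
    LinearMap.id - σ ∘ₗ Lπ with hρ
  have hρ1 : ∀ z, ∃ y, Lj y = ρ z := by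
    intro z
    have : Lπ (ρ z) = 0 := by
      have h1 : Lπ (σ (Lπ z)) = Lπ z := LinearMap.congr_fun hσ (Lπ z)
      simp only [hρ, LinearMap.sub_apply, LinearMap.id_apply, LinearMap.comp_apply, map_sub, h1,
        sub_self]
    exact (hex _).mp this
  have hρ2 : ∀ w, ρ (Lj w) = Lj w := by
    intro w
    have : Lπ (Lj w) = 0 := hex.apply_apply_eq_zero w
    simp only [hρ, LinearMap.sub_apply, LinearMap.id_apply, LinearMap.comp_apply, this, map_zero,
      sub_zero]
  -- step: ρ maps I • ⊤ into Lj (I • ⊤)
  have key : ∀ z ∈ (I • (⊤ : Submodule A (LocalizedModule S N))),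
      ∃ w ∈ (I • (⊤ : Submodule A (LocalizedModule S N'))), Lj w = ρ z := by
    intro z hz
    refine Submodule.smul_induction_on hz ?_ ?_
    · intro a ha y _
      obtain ⟨y', hy'⟩ := hρ1 y
      refine ⟨a • y', Submodule.smul_mem_smul ha trivial, ?_⟩
      rw [← algebraMap_smul (Localization S) a y', ← algebraMap_smul (Localization S) a y,
        map_smul, map_smul, hy']
    · rintro z1 z2 ⟨w1, hw1, e1⟩ ⟨w2, hw2, e2⟩
      exact ⟨w1 + w2, Submodule.add_mem _ hw1 hw2, by rw [map_add, map_add, e1, e2]⟩
  -- mk (j x) ∈ I • ⊤
  have h1 : LocalizedModule.mkLinearMap S N (j x)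
      ∈ (I • (⊤ : Submodule A (LocalizedModule S N))) := by
    have := Submodule.localized₀_smul S (LocalizedModule.mkLinearMap S N) (⊤ : Submodule A N) I
    rw [Submodule.localized₀_top] at this
    rw [← this]
    exact Submodule.map_le_localized₀ S _ _ ⟨j x, hx, rfl⟩
  have h2 : LocalizedModule.mkLinearMap S N (j x)
      = Lj (LocalizedModule.mkLinearMap S N' x) := by
    simp only [hLj, LocalizedModule.map, LocalizedModule.mkLinearMap_apply]
    exact (IsLocalizedModule.map_LocalizedModules S j x 1).symm
  obtain ⟨w, hw, hwe⟩ := key _ h1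
  rw [h2, hρ2] at hwe
  have hw' : w = LocalizedModule.mkLinearMap S N' x := hinj hwe
  rw [hw'] at hw
  have := Submodule.localized₀_smul S (LocalizedModule.mkLinearMap S N') (⊤ : Submodule A N') I
  rw [Submodule.localized₀_top] at this
  rw [← this, Submodule.mem_localized₀] at hw
  obtain ⟨m, hm, s, hms⟩ := hw
  rw [IsLocalizedModule.mk'_eq_iff] at hms
  -- hms : mkLinearMap m = s • mkLinearMap x
  have h3 : LocalizedModule.mkLinearMap S N' m
      = LocalizedModule.mkLinearMap S N' ((s : A) • x) := by
    rw [hms, Submonoid.smul_def, map_smul]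
  obtain ⟨c, hc⟩ := (IsLocalizedModule.eq_iff_exists S (LocalizedModule.mkLinearMap S N')).mp h3
  refine ⟨c * s, S.mul_mem c.2 s.2, ?_⟩
  have : ((c : A) * (s : A)) • x = (c : A) • m := by
    rw [mul_smul]
    have := hc.symm
    simpa [Submonoid.smul_def] using this
  rw [this]
  exact Submodule.smul_mem _ _ hm


/-- Let A be a Noetherian integral domain and F an A-linear additive functor from A-modules to A-modules
with F(A) a finitely generated A-module. Call such a functor generically injective when there is a
dense open subset U of Spec A such that for every point u of U whose residue field κ(u) is a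
finitely generated A-algebra the comparison map F(A) ⊗_A κ(u) → F(κ(u)) is injective; since F is
A-linear this injectivity says: every m in F(A) whose image under F(A → κ(u)) vanishes satisfies s·m
∈ u·F(A) for some s outside u. If F is generically injective then so is every A-linear additive
subfunctor K ⊆ F (a natural transformation K → F with injective components). (The published
statement is over a reduced Noetherian affine scheme, for additive functors on quasi-coherent
sheaves with values in abelian groups and the induced A-action, assumes F weakly bounded (F(A/p)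
finitely generated for every prime ideal p) and also records that K is again weakly bounded; only
the finite generation of F(A), which its argument uses, is assumed here, and the integral case with
A-linear functors stated here is the one its argument by generic flatness treats.) -/
theorem result {A : Type u} [CommRing A] [IsNoetherianRing A] [IsDomain A]
    (F K : ModuleCat.{u} A ⥤ ModuleCat.{u} A) [F.Additive] [F.Linear A] [K.Additive] [K.Linear A]
    (ι : K ⟶ F) (hι : ∀ X : ModuleCat.{u} A, Function.Injective (ι.app X).hom)
    (hfin : Module.Finite A (F.obj (ModuleCat.of A A)))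
    (hGI : ∃ U : Set (PrimeSpectrum A), IsOpen U ∧ Dense U ∧ ∀ u ∈ U, Algebra.FiniteType A u.asIdeal.ResidueField →
        ∀ m : F.obj (ModuleCat.of A A),
          (F.map (ModuleCat.ofHom (Algebra.linearMap A u.asIdeal.ResidueField))).hom m = 0 →
            ∃ s ∉ u.asIdeal, s • m ∈ u.asIdeal • (⊤ : Submodule A (F.obj (ModuleCat.of A A)))) :
    ∃ U : Set (PrimeSpectrum A), IsOpen U ∧ Dense U ∧ ∀ u ∈ U, Algebra.FiniteType A u.asIdeal.ResidueField →
        ∀ m : K.obj (ModuleCat.of A A),
          (K.map (ModuleCat.ofHom (Algebra.linearMap A u.asIdeal.ResidueField))).hom m = 0 →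
            ∃ s ∉ u.asIdeal, s • m ∈ u.asIdeal • (⊤ : Submodule A (K.obj (ModuleCat.of A A))) := by
  obtain ⟨U, hUo, hUd, hU⟩ := hGI
  set j : K.obj (ModuleCat.of A A) →ₗ[A] F.obj (ModuleCat.of A A) := (ι.app _).hom with hjdef
  have hj : Function.Injective j := hι _
  -- generic freeness of the quotient
  have : Module.FinitePresentation A (F.obj (ModuleCat.of A A) ⧸ LinearMap.range j) :=
    Module.finitePresentation_of_finite A _
  obtain ⟨r, hr, hfree, -⟩ := Module.FinitePresentation.exists_free_localizedModule_powers
    (nonZeroDivisors A)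
    (LocalizedModule.mkLinearMap (nonZeroDivisors A) (F.obj (ModuleCat.of A A) ⧸ LinearMap.range j))
    (FractionRing A)
  have hr0 : r ≠ 0 := nonZeroDivisors.ne_zero hr
  refine ⟨U ∩ (PrimeSpectrum.basicOpen r : Set (PrimeSpectrum A)), hUo.inter
    (PrimeSpectrum.basicOpen r).2, ?_, ?_⟩
  · apply hUd.inter_of_isOpen_left _ hUo
    apply (PrimeSpectrum.basicOpen r).2.dense
    refine ⟨⟨⊥, Ideal.bot_prime⟩, ?_⟩
    change r ∉ (⊥ : Ideal A)
    simpa using hr0
  · rintro u ⟨huU, hur⟩ hft m hm
    have hur' : r ∉ u.asIdeal := hur
    -- naturality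
    have hnat := ι.naturality (ModuleCat.ofHom (Algebra.linearMap A u.asIdeal.ResidueField))
    have h1 : (F.map (ModuleCat.ofHom (Algebra.linearMap A u.asIdeal.ResidueField))).hom (j m) = 0 := by
      have := LinearMap.congr_fun (congrArg ModuleCat.Hom.hom hnat) m
      simp only [ModuleCat.hom_comp, LinearMap.comp_apply] at this
      rw [hjdef, ← this, hm, map_zero]
    obtain ⟨s, hs, hsm⟩ := hU u huU hft (j m) h1
    have : Module.Projective (Localization (Submonoid.powers r))
        (LocalizedModule (Submonoid.powers r) (F.obj (ModuleCat.of A A) ⧸ LinearMap.range j)) := by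
      have := hfree
      infer_instance
    obtain ⟨t, ht, htm⟩ := lemmaL (Submonoid.powers r) j hj u.asIdeal (s • m)
      (by rw [map_smul]; exact hsm)
    obtain ⟨e, rfl⟩ := ht
    refine ⟨r ^ e * s, ?_, ?_⟩
    · intro hmem
      rcases u.2.mem_or_mem hmem with h | h
      · exact hur' (u.2.mem_of_pow_mem _ h)
      · exact hs h
    · rw [mul_smul]; exact htm

end Groth.Agent.S19711
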