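import Groth.Statements.S1974
import Groth.Agent.Lib.Helper14WEField

set_option autoImplicit false
universe u
open EtAlg

namespace Groth.Agent.S1974

open TensorProduct Polynomial Groth.Agent.Lib.Helper14.WEField in
theorem isSeparable_residueField (A B : Type u) [CommRing A] [CommRing B] [Algebra A B]
    [Algebra.WeaklyEtale A B] (p : Ideal A) [p.IsPrime] (q : Ideal B) [q.IsPrime] [q.LiesOver p]
    [Algebra (Localization.AtPrime p) (Localization.AtPrime q)] [Localization.AtPrime.IsLiesOverAlgebra p q] :
    Algebra.IsSeparable p.ResidueField q.ResidueField := by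
  let C := p.ResidueField ⊗[A] B
  have hC : IsSepAlg p.ResidueField C := exists_separable_aeval_eq_zero p.ResidueField C
  let ψ : C →ₐ[p.ResidueField] q.ResidueField :=
    Algebra.TensorProduct.lift (Algebra.ofId p.ResidueField q.ResidueField)
      (IsScalarTower.toAlgHom A B q.ResidueField) (fun _ _ => Commute.all _ _)
  have hB : ∀ b : B, algebraMap B q.ResidueField b ∈ separableClosure p.ResidueField q.ResidueField := by
    intro b
    obtain ⟨f, hf, hfb⟩ := hC ((1 : p.ResidueField) ⊗ₜ[A] b)
    have h1 : ψ ((1 : p.ResidueField) ⊗ₜ[A] b) = algebraMap B q.ResidueField b := by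
      change Algebra.TensorProduct.lift (Algebra.ofId p.ResidueField q.ResidueField)
        (IsScalarTower.toAlgHom A B q.ResidueField) (fun _ _ => Commute.all _ _)
        ((1 : p.ResidueField) ⊗ₜ[A] b) = _
      rw [Algebra.TensorProduct.lift_tmul, map_one, one_mul]
      rfl
    have h2 : aeval (algebraMap B q.ResidueField b) f = 0 := by
      rw [← h1, Polynomial.aeval_algHom_apply, hfb, map_zero]
    rw [mem_separableClosure_iff]
    exact hf.of_dvd (minpoly.dvd _ _ h2)
  rw [← separableClosure.eq_top_iff, eq_top_iff]
  intro z _
  obtain ⟨x, y, hy, rfl⟩ := IsFractionRing.div_surjective (A := B ⧸ q) z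
  obtain ⟨a, rfl⟩ := Ideal.Quotient.mk_surjective x
  obtain ⟨s, rfl⟩ := Ideal.Quotient.mk_surjective y
  have e1 : ∀ a : B, algebraMap (B ⧸ q) q.ResidueField (Ideal.Quotient.mk q a) =
      algebraMap B q.ResidueField a := fun a => by
    rw [← Ideal.Quotient.algebraMap_eq, ← IsScalarTower.algebraMap_apply]
  rw [e1, e1]
  exact div_mem (hB a) (hB s)


/-- Let A -> B be weakly etale and q a prime of B lying over the prime p of A. Then the residue field of
q is a separable algebraic extension of the residue field of p. -/
theorem result (A B : Type u) [CommRing A] [CommRing B] [Algebra A B]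
    [Algebra.WeaklyEtale A B] (p : Ideal A) [p.IsPrime] (q : Ideal B) [q.IsPrime] [q.LiesOver p]
    [Algebra (Localization.AtPrime p) (Localization.AtPrime q)] [Localization.AtPrime.IsLiesOverAlgebra p q] :
    Algebra.IsSeparable p.ResidueField q.ResidueField := by
  exact isSeparable_residueField A B p q

end Groth.Agent.S1974
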