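import Groth.Statements.S19748
import Mathlib

set_option autoImplicit false
universe u
open scoped TensorProduct
open GrSegre

namespace Groth.Agent.S19748

theorem mem_of_smul_mem {R M σA : Type*} [CommRing R] [AddCommGroup M] [Module R M]
    [SetLike σA R] (𝒜 : ℤ → σA) (ℳ : ℤ → AddSubgroup M) [DirectSum.Decomposition ℳ]
    [SetLike.GradedSMul 𝒜 ℳ] (D : ℤ) (F : R) (hF : F ∈ 𝒜 D)
    (hinj : Function.Injective (fun x : M => F • x)) (n : ℤ) (x : M) (hx : F • x ∈ ℳ n) :
    x ∈ ℳ (n - D) := by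
  classical
  let proj : ℤ → M →+ M := fun m => (AddSubgroup.subtype (ℳ m)).comp
    ((DFinsupp.evalAddMonoidHom m).comp (DirectSum.decomposeAddEquiv ℳ).toAddMonoidHom)
  have hproj : ∀ m z, proj m z = ((DirectSum.decompose ℳ z m : ℳ m) : M) := fun _ _ => rfl
  have hsm : ∀ i : ℤ, F • ((DirectSum.decompose ℳ x i : ℳ i) : M) ∈ ℳ (D + i) := by
    intro i
    have := SetLike.GradedSMul.smul_mem (A := 𝒜) (B := ℳ) hF (DirectSum.decompose ℳ x i).2
    simpa using this
  have hcomp : ∀ j : ℤ, j ≠ n - D → ((DirectSum.decompose ℳ x j : ℳ j) : M) = 0 := by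
    intro j hj
    apply hinj
    simp only [smul_zero]
    have h1 : F • x = ∑ i ∈ (DirectSum.decompose ℳ x).support,
        F • ((DirectSum.decompose ℳ x i : ℳ i) : M) := by
      conv_lhs => rw [← DirectSum.sum_support_decompose ℳ x]
      rw [Finset.smul_sum]
    have h2 : proj (D + j) (F • x) = F • ((DirectSum.decompose ℳ x j : ℳ j) : M) := by
      rw [h1, map_sum, Finset.sum_eq_single j]
      · rw [hproj, DirectSum.decompose_of_mem_same ℳ (hsm j)]
      · intro i _ hij
        rw [hproj, DirectSum.decompose_of_mem_ne ℳ (hsm i) (by omega)]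
      · intro hjs
        have : (DirectSum.decompose ℳ x j : ℳ j) = 0 := by
          simpa using hjs
        rw [this]
        simp
    rw [← h2, hproj, DirectSum.decompose_of_mem_ne ℳ hx (by omega)]
  rw [← DirectSum.sum_support_decompose ℳ x]
  refine AddSubgroup.sum_mem _ (fun i _ => ?_)
  by_cases hi : i = n - D
  · rw [hi]; exact (DirectSum.decompose ℳ x (n - D)).2
  · rw [hcomp i hi]; exact AddSubgroup.zero_mem _

theorem pow_smul_bijective {R M : Type*} [CommRing R] [AddCommGroup M] [Module R M] (f : R)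
    (h : Function.Bijective (fun x : M => f • x)) (n : ℕ) :
    Function.Bijective (fun x : M => f ^ n • x) := by
  induction n with
  | zero =>
    have : (fun x : M => f ^ 0 • x) = id := by funext x; simp
    rw [this]; exact Function.bijective_id
  | succ n ih =>
    have : (fun x : M => f ^ (n + 1) • x) = (fun x : M => f • x) ∘ (fun x : M => f ^ n • x) := by
      funext x
      simp [pow_succ', mul_smul]
    rw [this]
    exact h.comp ih

/-- Let R and S be graded rings defined over a field k with Segre product T = R # S, M a graded R-module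
and N a graded S-module. Suppose that multiplication by some homogeneous element f ∈ R_d of positive
degree d is bijective on M and multiplication by some homogeneous g ∈ S_e of positive degree e is
bijective on N. Then multiplication by some homogeneous element of T of positive degree is bijective
on M # N. Here a graded ring defined over k is a commutative k-algebra of finite type, graded in
nonnegative degrees by k-subspaces with degree-zero part k·1; the Segre product T = R # S = ⊕_n R_n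
⊗_k S_n is presented abstractly as a graded k-algebra T with an injective k-algebra homomorphism ψ :
T → R ⊗_k S carrying T_n onto the k-span of the elementary tensors a ⊗ b with a ∈ R_n, b ∈ S_n; the
Segre product M # N = ⊕_n M_n ⊗_k N_n of a graded R-module M and a graded S-module N is presented
abstractly as a graded T-module P with an injective k-linear map φ : P → M ⊗_k N carrying P_n onto
the k-span of the tensors x ⊗ y with x ∈ M_n, y ∈ N_n and turning the action of t ∈ T into that of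
ψ(t) (acting factorwise on M ⊗_k N). -/
theorem result (k : Type u) [Field k] (R : Type u) [CommRing R] [Algebra k R] (𝒜 : ℤ → Submodule k R) [GradedAlgebra 𝒜] (hposR : ∀ n : ℤ, n < 0 → 𝒜 n = ⊥) (h0R : 𝒜 0 = Submodule.span k {(1 : R)}) [Algebra.FiniteType k R] (S : Type u) [CommRing S] [Algebra k S] (ℬ : ℤ → Submodule k S) [GradedAlgebra ℬ] (hposS : ∀ n : ℤ, n < 0 → ℬ n = ⊥) (h0S : ℬ 0 = Submodule.span k {(1 : S)}) [Algebra.FiniteType k S] (T : Type u) [CommRing T] [Algebra k T] (𝒯 : ℤ → Submodule k T) [GradedAlgebra 𝒯] (ψ : T →ₐ[k] TensorProduct k R S) (hT : GrSeg.IsSegreRing 𝒜 ℬ 𝒯 ψ) (M : Type u) [AddCommGroup M] [Module R M] [Module k M] [IsScalarTower k R M] (ℳ : ℤ → AddSubgroup M) [DirectSum.Decomposition ℳ] [SetLike.GradedSMul 𝒜 ℳ] (N : Type u) [AddCommGroup N] [Module S N] [Module k N] [IsScalarTower k S N] (𝒩 : ℤ → AddSubgroup N) [DirectSum.Decomposition 𝒩] [SetLike.GradedSMul ℬ 𝒩] (P : Type u) [AddCommGroup P] [Module T P] [Module k P] [IsScalarTower k T P] (𝒬 : ℤ → AddSubgroup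 P) [DirectSum.Decomposition 𝒬] (φ : P →ₗ[k] TensorProduct k M N) (hP : GrSeg.IsSegreMod ψ ℳ 𝒩 𝒬 φ) (d : ℕ) (hd : 0 < d) (f : R) (hf : f ∈ 𝒜 (d : ℤ)) (hfM : Function.Bijective (fun x : M => f • x)) (e : ℕ) (he : 0 < e) (g : S) (hg : g ∈ ℬ (e : ℤ)) (hgN : Function.Bijective (fun y : N => g • y)) : ∃ (c : ℤ) (t : T), 0 < c ∧ t ∈ 𝒯 c ∧ Function.Bijective (fun p : P => t • p) := by
  classical
  obtain ⟨hψinj, hψpiece⟩ := hT
  set F : R := f ^ e with hF
  set G : S := g ^ d with hG
  set c : ℤ := ((d * e : ℕ) : ℤ) with hc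
  have hFmem : F ∈ 𝒜 c := by
    have h1 := SetLike.pow_mem_graded e hf
    have h2 : e • (d : ℤ) = c := by rw [hc]; push_cast; ring
    rw [h2] at h1
    exact h1
  have hGmem : G ∈ ℬ c := by
    have h1 := SetLike.pow_mem_graded d hg
    have h2 : d • (e : ℤ) = c := by rw [hc]; push_cast; ring
    rw [h2] at h1
    exact h1
  have hFbij : Function.Bijective (fun x : M => F • x) := pow_smul_bijective f hfM e
  have hGbij : Function.Bijective (fun y : N => G • y) := pow_smul_bijective g hgN d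
  have hFG : F ⊗ₜ[k] G ∈ GrSeg.segrePiece k 𝒜 ℬ c :=
    Submodule.subset_span ⟨F, hFmem, G, hGmem, rfl⟩
  rw [← hψpiece] at hFG
  obtain ⟨t, ht, htψ⟩ := hFG
  have hcpos : 0 < c := by
    rw [hc]; exact_mod_cast Nat.mul_pos hd he
  refine ⟨c, t, hcpos, ht, ?_⟩
  let Θ : M ⊗[k] N →ₗ[k] M ⊗[k] N := GrSeg.act k R S M N (F ⊗ₜ[k] G)
  have hΘ : ∀ (m : M) (n : N), Θ (m ⊗ₜ[k] n) = (F • m) ⊗ₜ[k] (G • n) :=
    fun m n => GrSeg.act_tmul F G m n
  have hφt : ∀ p : P, φ (t • p) = Θ (φ p) := by
    intro p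
    rw [hP.map_smul]
    have : ψ t = F ⊗ₜ[k] G := htψ
    rw [this]
  have hΘinj : Function.Injective Θ := by
    let eM : M ≃ₗ[k] M := LinearEquiv.ofBijective (Algebra.lsmul k k M F) hFbij
    let eN : N ≃ₗ[k] N := LinearEquiv.ofBijective (Algebra.lsmul k k N G) hGbij
    have hΘe : Θ = (TensorProduct.congr eM eN).toLinearMap := by
      apply TensorProduct.ext'
      intro m n
      rw [hΘ]
      rfl
    rw [hΘe]
    exact (TensorProduct.congr eM eN).injective
  have hpiece : ∀ n : ℤ, GrSeg.segrePiece k ℳ 𝒩 n ≤ LinearMap.range (Θ.comp φ) := by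
    intro n
    rw [GrSeg.segrePiece, Submodule.span_le]
    rintro z ⟨a, ha, b, hb, rfl⟩
    obtain ⟨x, hx⟩ := hFbij.2 a
    obtain ⟨y, hy⟩ := hGbij.2 b
    simp only at hx hy
    have hxm : x ∈ ℳ (n - c) := mem_of_smul_mem 𝒜 ℳ c F hFmem hFbij.1 n x (by rw [hx]; exact ha)
    have hyn : y ∈ 𝒩 (n - c) := mem_of_smul_mem ℬ 𝒩 c G hGmem hGbij.1 n y (by rw [hy]; exact hb)
    have hxy : x ⊗ₜ[k] y ∈ (GrSeg.segrePiece k ℳ 𝒩 (n - c) : Set (M ⊗[k] N)) :=
      Submodule.subset_span ⟨x, hxm, y, hyn, rfl⟩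
    rw [← hP.image_piece] at hxy
    obtain ⟨q, _, hq⟩ := hxy
    refine ⟨q, ?_⟩
    rw [LinearMap.comp_apply, hq, hΘ, hx, hy]
  have hsurj : ∀ p : P, ∃ q : P, Θ (φ q) = φ p := by
    intro p
    have hp : φ p ∈ LinearMap.range (Θ.comp φ) := by
      rw [← DirectSum.sum_support_decompose 𝒬 p, map_sum]
      refine Submodule.sum_mem _ (fun i _ => hpiece i ?_)
      have h1 : φ ((DirectSum.decompose 𝒬 p i : 𝒬 i) : P) ∈ φ '' (𝒬 i : Set P) :=
        ⟨_, (DirectSum.decompose 𝒬 p i).2, rfl⟩
      rw [hP.image_piece] at h1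
      exact h1
    obtain ⟨q, hq⟩ := hp
    exact ⟨q, hq⟩
  constructor
  · intro p p' h
    apply hP.injective
    apply hΘinj
    rw [← hφt, ← hφt]
    exact congrArg φ h
  · intro p
    obtain ⟨q, hq⟩ := hsurj p
    exact ⟨q, hP.injective (by rw [hφt, hq])⟩

end Groth.Agent.S19748
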