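import Groth.Statements.S19786
import Groth.Agent.Lib.Helper3HMNumB
import Mathlib

set_option autoImplicit false
set_option linter.style.haveILetI false
universe u
open CategoryTheory MonoidalCategory CartesianMonoidalCategory MonObj AlgebraicGeometry Opposite
open GIT

namespace Groth.Agent.S19786

open Groth.Agent.Lib.Helper3.HMNumB in
/-- one direction, for any pair of conjugate one-parameter subgroups. -/
theorem isMu_translate (k : Type u) [Field k]
    (G X : Over (Spec (CommRingCat.of k))) [GrpObj G]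
    (a : AlgGrp.Action G X) (B : GLinSh.LinBun G a) (x : 𝟙_ (Over (Spec (CommRingCat.of k))) ⟶ X)
    (l : Red.Gm (Spec (CommRingCat.of k)) ⟶ G) [IsMonHom l] (g₀ : 𝟙_ (Over (Spec (CommRingCat.of k))) ⟶ G)
    (l' : Red.Gm (Spec (CommRingCat.of k)) ⟶ G) [IsMonHom l'] (hl' : l' = (toUnit _ ≫ g₀)⁻¹ * l * (toUnit _ ≫ g₀))
    (m : ℤ) (h : HMNum.IsMu B l' x m) : HMNum.IsMu B l (lift g₀ x ≫ a.act) m := by
  obtain ⟨y, hy, hw⟩ := h
  let s₀ : ↥(𝟙_ (Over (Spec (CommRingCat.of k)))).left := (⊥ : PrimeSpectrum k)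
  have hS : ∀ s : ↥(𝟙_ (Over (Spec (CommRingCat.of k)))).left, s = s₀ :=
    fun s => Subsingleton.elim (α := PrimeSpectrum k) _ _
  exact ⟨lift g₀ y ≫ a.act, isLimitPt_translate a l l' g₀ hl' x y hy,
    hasFibreWt_translate a B.π B.atlas.chart B.lift B.lift_π B.lift_linear B.atlas.cover s₀ hS
      l l' g₀ hl' y (-m) hw⟩

/-- the iff, without finiteness hypotheses. -/
theorem isMu_translate' (k : Type u) [Field k]
    (G X : Over (Spec (CommRingCat.of k))) [GrpObj G]
    (a : AlgGrp.Action G X) (B : GLinSh.LinBun G a) (x : 𝟙_ (Over (Spec (CommRingCat.of k))) ⟶ X)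
    (l : Red.Gm (Spec (CommRingCat.of k)) ⟶ G) [IsMonHom l] (g₀ : 𝟙_ (Over (Spec (CommRingCat.of k))) ⟶ G)
    (l' : Red.Gm (Spec (CommRingCat.of k)) ⟶ G) [IsMonHom l'] (hl' : l' = (toUnit _ ≫ g₀)⁻¹ * l * (toUnit _ ≫ g₀))
    (m : ℤ) : HMNum.IsMu B l (lift g₀ x ≫ a.act) m ↔ HMNum.IsMu B l' x m := by
  constructor
  · intro h
    have hl : l = (toUnit _ ≫ g₀⁻¹)⁻¹ * l' * (toUnit _ ≫ g₀⁻¹) := by
      rw [hl', GrpObj.comp_inv]
      group
    have h2 := isMu_translate k G X a B (lift g₀ x ≫ a.act) l' g₀⁻¹ l hl m h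
    have e : lift g₀⁻¹ (lift g₀ x ≫ a.act) ≫ a.act = x := by
      change Groth.Agent.Lib.Helper3.Orbit.smul a g₀⁻¹ (Groth.Agent.Lib.Helper3.Orbit.smul a g₀ x) = x
      rw [← Groth.Agent.Lib.Helper3.Orbit.mul_smul, _root_.inv_mul_cancel,
        Groth.Agent.Lib.Helper3.Orbit.one_smul]
    rwa [e] at h2
  · exact isMu_translate k G X a B x l g₀ l' hl' m

/-- Let k be an algebraically closed field, G an algebraic group over k (a smooth group scheme of finite
type over k) acting by σ on a scheme X proper over k, L a G-linearised line bundle on X in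
total-space form, x a k-point of X, λ : 𝔾_m → G a one-parameter subgroup and α a k-point of G; let
λ' be the conjugate one-parameter subgroup u ↦ α⁻¹·λ(u)·α. Then μ^L(σ(α, x), λ) = μ^L(x, λ'): the
numerical function (the limit of the orbit as u → 0 exists and 𝔾_m acts on the fibre of L over it
with exponent m) takes the same values at the translated point α·x with λ and at x with λ'. -/
theorem result (k : Type u) [Field k] [IsAlgClosed k]
    (G X : Over (Spec (CommRingCat.of k))) [GrpObj G] [Smooth G.hom] [QuasiCompact G.hom] [IsProper X.hom]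
    (a : AlgGrp.Action G X) (B : GLinSh.LinBun G a) (x : 𝟙_ (Over (Spec (CommRingCat.of k))) ⟶ X)
    (l : Red.Gm (Spec (CommRingCat.of k)) ⟶ G) [IsMonHom l] (g₀ : 𝟙_ (Over (Spec (CommRingCat.of k))) ⟶ G)
    (l' : Red.Gm (Spec (CommRingCat.of k)) ⟶ G) [IsMonHom l'] (hl' : l' = (toUnit _ ≫ g₀)⁻¹ * l * (toUnit _ ≫ g₀))
    (m : ℤ) : HMNum.IsMu B l (lift g₀ x ≫ a.act) m ↔ HMNum.IsMu B l' x m := by
  exact isMu_translate' k G X a B x l g₀ l' hl' m

end Groth.Agent.S19786
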