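import Groth.Statements.S19785
import Groth.Agent.Lib.Helper3HMNumC
import Groth.Agent.S19786
import Mathlib

set_option autoImplicit false
set_option linter.style.haveILetI false
universe u
open CategoryTheory MonoidalCategory CartesianMonoidalCategory MonObj AlgebraicGeometry Opposite
open GIT

namespace Groth.Agent.S19785

open Groth.Agent.Lib.Helper3.HMNumB Groth.Agent.Lib.Helper3.HMNumC in
/-- `mu(x, l) = m` implies `mu(g₀ x, l) = m` for `g₀` in the parabolic subgroup of `l`. -/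
theorem isMu_parabolic (k : Type u) [Field k]
    (G X : Over (Spec (CommRingCat.of k))) [GrpObj G] [IsSeparated G.hom]
    (a : AlgGrp.Action G X) (B : GLinSh.LinBun G a) (x : 𝟙_ (Over (Spec (CommRingCat.of k))) ⟶ X)
    (l : Red.Gm (Spec (CommRingCat.of k)) ⟶ G) [IsMonHom l] (g₀ : 𝟙_ (Over (Spec (CommRingCat.of k))) ⟶ G)
    (f : HMNum.A1 (Spec (CommRingCat.of k)) ⟶ G)
    (hf : HMNum.incl (Spec (CommRingCat.of k)) ≫ f = l * (toUnit _ ≫ g₀) * l⁻¹)
    (m : ℤ) (h : HMNum.IsMu B l x m) : HMNum.IsMu B l (lift g₀ x ≫ a.act) m := by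
  obtain ⟨y, hy, hw⟩ := h
  let s₀ : ↥(𝟙_ (Over (Spec (CommRingCat.of k)))).left := (⊥ : PrimeSpectrum k)
  have hS : ∀ s : ↥(𝟙_ (Over (Spec (CommRingCat.of k)))).left, s = s₀ :=
    fun s => Subsingleton.elim (α := PrimeSpectrum k) _ _
  exact ⟨lift (HMNum.origin _ ≫ f) y ≫ a.act, isLimitPt_parabolic a l g₀ f hf x y hy,
    hasFibreWt_translate a B.π B.atlas.chart B.lift B.lift_π B.lift_linear B.atlas.cover s₀ hS
      l l (HMNum.origin _ ≫ f) (origin_extension_comm l g₀ f hf) y (-m) hw⟩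

/-- Let k be an algebraically closed field, G a connected reductive algebraic group over k acting by σ
on a scheme X proper over k, L a G-linearised line bundle on X in total-space form, x a k-point of X
and λ : 𝔾_m → G a one-parameter subgroup. Let γ be a k-point of G lying in the parabolic subgroup
P(λ), i.e. such that the morphism u ↦ λ(u)·γ·λ(u)⁻¹ from 𝔾_m to G extends to the affine line
(λ(u)γλ(u)⁻¹ has a limit in G as u → 0), and let λ' be the conjugate one-parameter subgroup u ↦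
γ⁻¹·λ(u)·γ. Then μ^L(x, λ) = μ^L(x, λ'): the numerical function (the limit of λ(u)·x as u → 0 exists
and 𝔾_m acts on the fibre of L over it with exponent m) takes the same values at (x, λ) and at (x,
λ'). (The published statement is for any reductive G; this row takes G connected.) -/
theorem result (k : Type u) [Field k] [IsAlgClosed k]
    (G X : Over (Spec (CommRingCat.of k))) [GrpObj G] (hG : Red.IsReductive G) [IsProper X.hom]
    (a : AlgGrp.Action G X) (B : GLinSh.LinBun G a) (x : 𝟙_ (Over (Spec (CommRingCat.of k))) ⟶ X)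
    (l : Red.Gm (Spec (CommRingCat.of k)) ⟶ G) [IsMonHom l] (g₀ : 𝟙_ (Over (Spec (CommRingCat.of k))) ⟶ G)
    (hg₀ : ∃ f : HMNum.A1 (Spec (CommRingCat.of k)) ⟶ G, HMNum.incl (Spec (CommRingCat.of k)) ≫ f = l * (toUnit _ ≫ g₀) * l⁻¹)
    (l' : Red.Gm (Spec (CommRingCat.of k)) ⟶ G) [IsMonHom l'] (hl' : l' = (toUnit _ ≫ g₀)⁻¹ * l * (toUnit _ ≫ g₀))
    (m : ℤ) : HMNum.IsMu B l x m ↔ HMNum.IsMu B l' x m := by
  haveI : IsAffineHom G.hom := hG.1
  haveI : IsSeparated G.hom := inferInstance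
  obtain ⟨f, hf⟩ := hg₀
  have htr := Groth.Agent.S19786.isMu_translate' k G X a B x l g₀ l' hl' m
  constructor
  · intro h
    exact htr.mp (isMu_parabolic k G X a B x l g₀ f hf m h)
  · intro h
    have h1 := htr.mpr h
    have hf' : HMNum.incl (Spec (CommRingCat.of k)) ≫ f⁻¹ = l * (toUnit _ ≫ g₀⁻¹) * l⁻¹ := by
      rw [GrpObj.comp_inv, hf, GrpObj.comp_inv]
      group
    have h2 := isMu_parabolic k G X a B (lift g₀ x ≫ a.act) l g₀⁻¹ f⁻¹ hf' m h1
    have e : lift g₀⁻¹ (lift g₀ x ≫ a.act) ≫ a.act = x := by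
      change Groth.Agent.Lib.Helper3.Orbit.smul a g₀⁻¹ (Groth.Agent.Lib.Helper3.Orbit.smul a g₀ x) = x
      rw [← Groth.Agent.Lib.Helper3.Orbit.mul_smul, _root_.inv_mul_cancel,
        Groth.Agent.Lib.Helper3.Orbit.one_smul]
    rwa [e] at h2

end Groth.Agent.S19785
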