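import Groth.Statements.S19791
import Groth.Agent.S19786
import Mathlib

set_option autoImplicit false
set_option linter.style.haveILetI false
universe u
open CategoryTheory MonoidalCategory CartesianMonoidalCategory MonObj AlgebraicGeometry Opposite
open GIT

namespace Groth.Agent.S19791

/-- conjugating a homomorphism by a constant point gives a homomorphism. -/
theorem isMonHom_conj {C : Type*} [Category C] [CartesianMonoidalCategory C] {A G : C} [MonObj A] [GrpObj G]
    (l : A ⟶ G) [IsMonHom l] (c₀ : 𝟙_ C ⟶ G) :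
    IsMonHom ((toUnit A ≫ c₀) * l * (toUnit A ≫ c₀)⁻¹) where
  one_hom := by
    rw [MonObj.comp_mul, MonObj.comp_mul, GrpObj.comp_inv, IsMonHom.one_hom (f := l),
      show (η[G] : 𝟙_ C ⟶ G) = 1 from MonObj.one_eq_one G, _root_.mul_one, _root_.mul_inv_cancel]
  mul_hom := by
    have e1 : μ[A] ≫ toUnit A = toUnit (A ⊗ A) := toUnit_unique _ _
    have e2 : fst A A ≫ toUnit A = toUnit (A ⊗ A) := toUnit_unique _ _
    have e3 : snd A A ≫ toUnit A = toUnit (A ⊗ A) := toUnit_unique _ _
    have hL : μ[A] ≫ ((toUnit A ≫ c₀) * l * (toUnit A ≫ c₀)⁻¹) =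
        (toUnit (A ⊗ A) ≫ c₀) * ((fst A A ≫ l) * (snd A A ≫ l)) * (toUnit (A ⊗ A) ≫ c₀)⁻¹ := by
      rw [MonObj.comp_mul, MonObj.comp_mul, GrpObj.comp_inv, ← Category.assoc, e1,
        IsMonHom.mul_hom (f := l), MonObj.mul_eq_mul G, MonObj.comp_mul, tensorHom_fst, tensorHom_snd]
    have hf : fst A A ≫ ((toUnit A ≫ c₀) * l * (toUnit A ≫ c₀)⁻¹) =
        (toUnit (A ⊗ A) ≫ c₀) * (fst A A ≫ l) * (toUnit (A ⊗ A) ≫ c₀)⁻¹ := by
      rw [MonObj.comp_mul, MonObj.comp_mul, GrpObj.comp_inv, ← Category.assoc, e2]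
    have hs : snd A A ≫ ((toUnit A ≫ c₀) * l * (toUnit A ≫ c₀)⁻¹) =
        (toUnit (A ⊗ A) ≫ c₀) * (snd A A ≫ l) * (toUnit (A ⊗ A) ≫ c₀)⁻¹ := by
      rw [MonObj.comp_mul, MonObj.comp_mul, GrpObj.comp_inv, ← Category.assoc, e3]
    rw [hL, MonObj.mul_eq_mul G, MonObj.comp_mul, tensorHom_fst, tensorHom_snd, hf, hs]
    group

/-- Let k be an algebraically closed field, G a connected reductive algebraic group over k acting by σ
on a scheme X proper over k, L an ample G-linearised line bundle on X in total-space form, and ‖·‖ a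
real-valued function on the one-parameter subgroups of G invariant under conjugation by k-points of
G (‖γ·λ·γ⁻¹‖ = ‖λ‖; nothing else is assumed of ‖·‖). For a k-point x of X consider the set of real
numbers μ^L(x, λ)/‖λ‖, where λ runs over the non-trivial one-parameter subgroups of G and μ^L(x, λ)
= m means that the limit of λ(u)·x as u → 0 exists and 𝔾_m acts on the fibre of L over it with
exponent m; its infimum is the number M^L(x). Then for every k-point g of G the sets attached to g·x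
and to x coincide, so that M^L(g·x) = M^L(x). (The published statement is for any reductive G, not
necessarily connected, acting on a projective variety; this row takes G connected and X any scheme
proper over k.) -/
theorem result (k : Type u) [Field k] [IsAlgClosed k]
    (G X : Over (Spec (CommRingCat.of k))) [GrpObj G] (hG : Red.IsReductive G) [IsProper X.hom]
    (a : AlgGrp.Action G X) (B : GLinSh.LinBun G a) (hB : HMNum.AmpleCover B)
    (nrm : (Red.Gm (Spec (CommRingCat.of k)) ⟶ G) → ℝ)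
    (hnrm : ∀ (l : Red.Gm (Spec (CommRingCat.of k)) ⟶ G) [IsMonHom l] (g : 𝟙_ (Over (Spec (CommRingCat.of k))) ⟶ G),
      nrm ((toUnit _ ≫ g) * l * (toUnit _ ≫ g)⁻¹) = nrm l)
    (x : 𝟙_ (Over (Spec (CommRingCat.of k))) ⟶ X) (g : 𝟙_ (Over (Spec (CommRingCat.of k))) ⟶ G) (q : ℝ) :
    (∃ (l : Red.Gm (Spec (CommRingCat.of k)) ⟶ G) (_ : IsMonHom l) (m : ℤ),
        l ≠ 1 ∧ HMNum.IsMu B l (lift g x ≫ a.act) m ∧ q = (m : ℝ) / nrm l) ↔
      ∃ (l : Red.Gm (Spec (CommRingCat.of k)) ⟶ G) (_ : IsMonHom l) (m : ℤ),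
        l ≠ 1 ∧ HMNum.IsMu B l x m ∧ q = (m : ℝ) / nrm l := by
  constructor
  · rintro ⟨l, hl, m, hne, hmu, hq⟩
    set c := toUnit (Red.Gm (Spec (CommRingCat.of k))) ≫ g with hc
    have hmon : IsMonHom (c⁻¹ * l * c) := by
      have := isMonHom_conj l g⁻¹
      rwa [← GrpObj.comp_inv, inv_inv] at this
    refine ⟨c⁻¹ * l * c, hmon, m, ?_, ?_, ?_⟩
    · intro h1
      apply hne
      have : l = c * (c⁻¹ * l * c) * c⁻¹ := by group
      rw [this, h1]
      group
    · exact (Groth.Agent.S19786.isMu_translate' k G X a B x l g (c⁻¹ * l * c) rfl m).mp hmu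
    · have h2 := hnrm (c⁻¹ * l * c) g
      have : c * (c⁻¹ * l * c) * c⁻¹ = l := by group
      rw [this] at h2
      rw [← h2]
      exact hq
  · rintro ⟨l, hl, m, hne, hmu, hq⟩
    set c := toUnit (Red.Gm (Spec (CommRingCat.of k))) ≫ g with hc
    have hmon : IsMonHom (c * l * c⁻¹) := isMonHom_conj l g
    refine ⟨c * l * c⁻¹, hmon, m, ?_, ?_, ?_⟩
    · intro h1
      apply hne
      have : l = c⁻¹ * (c * l * c⁻¹) * c := by group
      rw [this, h1]
      group
    · have e : l = c⁻¹ * (c * l * c⁻¹) * c := by group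
      exact (Groth.Agent.S19786.isMu_translate' k G X a B x (c * l * c⁻¹) g l e m).mpr hmu
    · rw [hnrm l g]
      exact hq

end Groth.Agent.S19791
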