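import Groth.Statements.S19799
import Mathlib

set_option autoImplicit false
universe u v w
open scoped TensorProduct
open CAlg

namespace Groth.Agent.S19799

theorem pi_isReduced {ι : Type*} {B' : Type*} [CommRing B'] [IsReduced B'] : IsReduced (ι → B') := by
  constructor
  rintro f ⟨n, hn⟩
  funext i
  have : (f i) ^ n = 0 := by
    have := congrFun hn i
    simpa using this
  exact IsReduced.eq_zero _ ⟨n, this⟩

theorem isReduced_tensor (k : Type u) [Field k] [IsAlgClosed k] (A' : Type v) [CommRing A']
    [Algebra k A'] [Module.Finite k A'] [IsReduced A'] (B' : Type w) [CommRing B'] [Algebra k B']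
    [IsReduced B'] : IsReduced (A' ⊗[k] B') := by
  classical
  haveI : IsArtinianRing A' := IsArtinianRing.of_finite k A'
  haveI : Fintype (MaximalSpectrum A') := Fintype.ofFinite _
  let e1 : A' ≃ₐ[A'] ∀ I : MaximalSpectrum A', A' ⧸ I.asIdeal := IsArtinianRing.equivPi A'
  have hbij : ∀ I : MaximalSpectrum A',
      Function.Bijective (algebraMap k (A' ⧸ I.asIdeal)) := by
    intro I
    letI := Ideal.Quotient.field I.asIdeal
    exact IsAlgClosed.algebraMap_bijective_of_isIntegral (k := k) (K := A' ⧸ I.asIdeal)
  let eI : ∀ I : MaximalSpectrum A', (A' ⧸ I.asIdeal) ≃ₐ[k] k := fun I =>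
    (AlgEquiv.ofBijective (Algebra.ofId k (A' ⧸ I.asIdeal)) (hbij I)).symm
  let e : A' ≃ₐ[k] (MaximalSpectrum A' → k) :=
    (e1.restrictScalars k).trans (AlgEquiv.piCongrRight eI)
  let g : A' ⊗[k] B' ≃ₐ[k] (MaximalSpectrum A' → B') :=
    (Algebra.TensorProduct.comm k A' B').trans
      ((Algebra.TensorProduct.congr AlgEquiv.refl e).trans
        (Algebra.TensorProduct.piScalarRight k k B' (MaximalSpectrum A')))
  haveI : IsReduced (MaximalSpectrum A' → B') := pi_isReduced
  exact isReduced_of_injective g g.injective

/-- Let k be an algebraically closed field and A, B commutative k-algebras, each finite-dimensional as a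
k-vector space. Then reduction commutes with tensor products: the kernel of the canonical surjection
A ⊗_k B ⟶ (A/nilradical A) ⊗_k (B/nilradical B) equals the nilradical of A ⊗_k B, so that this
surjection induces an isomorphism (A ⊗_k B)_red ≅ A_red ⊗_k B_red and in particular A_red ⊗_k B_red
is reduced. -/
theorem result (k : Type u) [Field k]
    [IsAlgClosed k] (A : Type v) [CommRing A] [Algebra k A] [Module.Finite k A]
    (B : Type w) [CommRing B] [Algebra k B] [Module.Finite k B] :
    RingHom.ker (Algebra.TensorProduct.map (Ideal.Quotient.mkₐ k (nilradical A))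
      (Ideal.Quotient.mkₐ k (nilradical B))).toRingHom = nilradical (A ⊗[k] B) := by
  classical
  have hredA : IsReduced (A ⧸ nilradical A) :=
    (Ideal.isRadical_iff_quotient_reduced (nilradical A)).1 (Ideal.radical_isRadical _)
  have hredB : IsReduced (B ⧸ nilradical B) :=
    (Ideal.isRadical_iff_quotient_reduced (nilradical B)).1 (Ideal.radical_isRadical _)
  have hred : IsReduced ((A ⧸ nilradical A) ⊗[k] (B ⧸ nilradical B)) :=
    isReduced_tensor k (A ⧸ nilradical A) (B ⧸ nilradical B)
  apply le_antisymm
  · have hker := Algebra.TensorProduct.map_ker (Ideal.Quotient.mkₐ k (nilradical A))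
      (Ideal.Quotient.mkₐ k (nilradical B)) (Ideal.Quotient.mkₐ_surjective k _)
      (Ideal.Quotient.mkₐ_surjective k _)
    have : RingHom.ker (Algebra.TensorProduct.map (Ideal.Quotient.mkₐ k (nilradical A))
      (Ideal.Quotient.mkₐ k (nilradical B))).toRingHom = RingHom.ker (Algebra.TensorProduct.map
        (Ideal.Quotient.mkₐ k (nilradical A)) (Ideal.Quotient.mkₐ k (nilradical B))) := rfl
    rw [this, hker]
    refine sup_le ?_ ?_
    · rw [Ideal.map_le_iff_le_comap]
      intro x hx
      rw [Ideal.mem_comap, mem_nilradical]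
      have hx' : x ∈ nilradical A := Ideal.Quotient.eq_zero_iff_mem.1 hx
      exact (mem_nilradical.1 hx').map _
    · rw [Ideal.map_le_iff_le_comap]
      intro x hx
      rw [Ideal.mem_comap, mem_nilradical]
      have hx' : x ∈ nilradical B := Ideal.Quotient.eq_zero_iff_mem.1 hx
      exact (mem_nilradical.1 hx').map _
  · intro x hx
    rw [RingHom.mem_ker]
    exact IsReduced.eq_zero _ ((mem_nilradical.1 hx).map _)

end Groth.Agent.S19799
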