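import Groth.Statements.S19804
import Mathlib

set_option autoImplicit false
open scoped TensorProduct
universe u v w
open Brauer

namespace Groth.Agent.S19804

/-- Let R be a commutative ring with Spec R connected, A an Azumaya R-algebra and e an idempotent
element of A. If for some nonzero commutative R-algebra R' the element 1 ⊗ e of R' ⊗_R A is 0, then
e = 0; and if 1 ⊗ e = 1 in R' ⊗_R A, then e = 1. (The published statement is for an Azumaya algebra
over a connected scheme S and base change to an arbitrary nonempty S-scheme T; this row takes S and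
T affine.) -/
theorem result {R : Type u} [CommRing R]
    [ConnectedSpace (PrimeSpectrum R)] {A : Type v} [Ring A] [Algebra R A] [IsAzumaya R A]
    (e : A) (he : IsIdempotentElem e) (R' : Type w) [CommRing R'] [Nontrivial R'] [Algebra R R'] :
    ((1 : R') ⊗ₜ[R] e = (0 : R' ⊗[R] A) → e = 0) ∧ ((1 : R') ⊗ₜ[R] e = (1 : R' ⊗[R] A) → e = 1) := by
  classical
  have main : ∀ (f : A), IsIdempotentElem f → (1 : R') ⊗ₜ[R] f = (0 : R' ⊗[R] A) → f = 0 := by
    intro f hf h0
    let ρ : A →ₗ[R] A := LinearMap.mulRight R f
    let M : Submodule R A := LinearMap.range ρ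
    let s : A →ₗ[R] M := ρ.rangeRestrict
    have hsi : s ∘ₗ M.subtype = LinearMap.id := by
      ext ⟨m, a, rfl⟩
      simp only [LinearMap.comp_apply, Submodule.subtype_apply, LinearMap.id_apply, s, ρ,
        LinearMap.codRestrict_apply, LinearMap.rangeRestrict, LinearMap.mulRight_apply]
      rw [mul_assoc, hf.eq]
    haveI : Module.Projective R M := Module.Projective.of_split M.subtype s hsi
    haveI : Module.Finite R M := Module.Finite.of_surjective s ρ.surjective_rangeRestrict
    haveI : Module.FinitePresentation R M := Module.finitePresentation_of_projective R M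
    haveI : Subsingleton (R' ⊗[R] M) := by
      have hinj : Function.Injective (LinearMap.lTensor R' M.subtype) := by
        apply Function.LeftInverse.injective (g := LinearMap.lTensor R' s)
        intro z
        rw [← LinearMap.comp_apply, ← LinearMap.lTensor_comp, hsi, LinearMap.lTensor_id,
          LinearMap.id_apply]
      refine ⟨fun z z' => ?_⟩
      have hz : ∀ z : R' ⊗[R] M, z = 0 := by
        intro z
        apply hinj
        rw [map_zero]
        induction z using TensorProduct.induction_on with
        | zero => simp
        | add z z' hz hz' => rw [map_add, hz, hz', add_zero]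
        | tmul r m =>
          obtain ⟨m, a, rfl⟩ := m
          rw [LinearMap.lTensor_tmul]
          show r ⊗ₜ[R] (a * f) = 0
          have : r ⊗ₜ[R] (a * f) = (r ⊗ₜ[R] a) * ((1 : R') ⊗ₜ[R] f) := by
            rw [Algebra.TensorProduct.tmul_mul_tmul, mul_one]
          rw [this, h0, mul_zero]
      rw [hz z, hz z']
    obtain ⟨p⟩ : Nonempty (PrimeSpectrum R') := inferInstance
    have h1 : Module.rankAtStalk (R' ⊗[R] M) p = 0 := by
      rw [Module.rankAtStalk_eq_zero_of_subsingleton]
      rfl
    rw [Module.rankAtStalk_baseChange] at h1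
    have h2 : Module.rankAtStalk (R := R) M = 0 := by
      funext q
      rw [Pi.zero_apply, ← h1]
      exact (Module.isLocallyConstant_rankAtStalk (R := R) (M := M)).apply_eq_of_preconnectedSpace _ _
    haveI := Module.rankAtStalk_eq_zero_iff_subsingleton.mp h2
    have h3 : (⟨f, 1, by simp [ρ]⟩ : M) = 0 := Subsingleton.elim _ _
    exact congrArg Subtype.val h3
  refine ⟨main e he, fun h1 => ?_⟩
  have h2 := main (1 - e) he.one_sub (by
    rw [TensorProduct.tmul_sub, h1]
    show ((1 : R') ⊗ₜ[R] (1 : A)) - 1 = 0
    rw [sub_eq_zero]
    rfl)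
  exact (sub_eq_zero.mp h2).symm

end Groth.Agent.S19804
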