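import Groth.Statements.S1985
import Mathlib
import Groth.Agent.Lib.Helper28NagataDVR
import Groth.Agent.Lib.Helper19ComplDVR
import Groth.Agent.Lib.Helper19ComplFlatMap
import Groth.Agent.Lib.Helper7NagFF
-- import your own Groth.Agent.* helpers here

set_option autoImplicit false
universe u
open EtAlg

namespace Groth.Agent.S1985

/-- Let A -> B be an extension of discrete valuation rings whose extension of fraction fields L/K is
separable. If B is a Nagata ring then so is A. -/
theorem result (A B K L : Type u) [CommRing A] [IsDomain A] [IsDiscreteValuationRing A]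
    [CommRing B] [IsDomain B] [IsDiscreteValuationRing B] [Algebra A B] [IsLocalHom (algebraMap A B)]
    (hinj : Function.Injective (algebraMap A B))
    [Field K] [Field L] [Algebra A K] [IsFractionRing A K] [Algebra B L] [IsFractionRing B L]
    [Algebra K L] [Algebra A L] [IsScalarTower A K L] [IsScalarTower A B L] [Algebra.IsSeparable K L] (hB : CAlg.IsNagata B) :
    CAlg.IsNagata A := by
  have hdimA : ringKrullDim A = 1 := IsDiscreteValuationRing.ringKrullDim_eq_one A
  obtain ⟨hdomA, hdvrA⟩ :=
    (Groth.Agent.Lib.Helper19.isDiscreteValuationRing_iff_adicCompletion A).mp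
      ⟨inferInstance, inferInstance⟩
  obtain ⟨hdomB, hdvrB⟩ :=
    (Groth.Agent.Lib.Helper19.isDiscreteValuationRing_iff_adicCompletion B).mp
      ⟨inferInstance, inferInstance⟩
  have hle : (IsLocalRing.maximalIdeal A).map (algebraMap A B) ≤ IsLocalRing.maximalIdeal B :=
    ((IsLocalRing.local_hom_TFAE (algebraMap A B)).out 0 2).mp ‹IsLocalHom (algebraMap A B)›
  let φ : EGA4.Cpl A →+* EGA4.Cpl B := FSch.complMap _ _ (algebraMap A B) hle
  have hφ : ∀ a : A, φ (algebraMap A (EGA4.Cpl A) a) = algebraMap B (EGA4.Cpl B) (algebraMap A B a) := by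
    intro a
    apply AdicCompletion.ext_evalₐ
    intro n
    rw [Groth.Agent.Lib.Helper19.evalₐ_complMap, AdicCompletion.algebraMap_apply,
      AdicCompletion.evalₐ_of, AdicCompletion.algebraMap_apply, AdicCompletion.evalₐ_of,
      Ideal.quotientMap_mk]
    rfl
  have hBinj : Function.Injective (algebraMap B (EGA4.Cpl B)) := by
    have : IsHausdorff (IsLocalRing.maximalIdeal B) B := inferInstance
    intro x y hxy
    rw [AdicCompletion.algebraMap_apply, AdicCompletion.algebraMap_apply] at hxy
    exact AdicCompletion.of_injective (IsLocalRing.maximalIdeal B) B hxy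
  have hφinj : Function.Injective φ := by
    rw [injective_iff_map_eq_zero]
    have hker : (RingHom.ker φ).IsPrime := RingHom.ker_isPrime φ
    have hdimA' : ringKrullDim (EGA4.Cpl A) = 1 :=
      IsDiscreteValuationRing.ringKrullDim_eq_one (EGA4.Cpl A)
    rcases Groth.Agent.Lib.Helper7.Dim1N2.eq_bot_or_eq_maximalIdeal (EGA4.Cpl A) hdimA'
      (RingHom.ker φ) with h0 | h0
    · intro x hx
      have : x ∈ RingHom.ker φ := hx
      rw [h0] at this
      exact this
    · exfalso
      obtain ⟨a, ha, ha0⟩ : ∃ a ∈ IsLocalRing.maximalIdeal A, a ≠ 0 := by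
        by_contra hcon
        push Not at hcon
        apply IsDiscreteValuationRing.not_a_field A
        rw [eq_bot_iff]
        intro x hx
        exact hcon x hx
      have h1 : algebraMap A (EGA4.Cpl A) a ∈ IsLocalRing.maximalIdeal (EGA4.Cpl A) := by
        rw [AdicCompletion.maximalIdeal_eq_map]
        exact Ideal.mem_map_of_mem _ ha
      rw [← h0, RingHom.mem_ker, hφ] at h1
      rw [map_eq_zero_iff _ hBinj, map_eq_zero_iff _ hinj] at h1
      exact ha0 h1
  let F := FractionRing (EGA4.Cpl B)
  let _ : Algebra (EGA4.Cpl A) F := ((algebraMap (EGA4.Cpl B) F).comp φ).toAlgebra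
  have hAF : ∀ a : A, algebraMap A F a =
      algebraMap (EGA4.Cpl B) F (algebraMap B (EGA4.Cpl B) (algebraMap A B a)) := by
    intro a
    rw [IsScalarTower.algebraMap_apply A (EGA4.Cpl B) F]
    rfl
  have : IsScalarTower A (EGA4.Cpl A) F := IsScalarTower.of_algebraMap_eq (fun a => by
    change algebraMap A F a = algebraMap (EGA4.Cpl B) F (φ (algebraMap A (EGA4.Cpl A) a))
    rw [hφ, hAF])
  have hBF : Function.Injective (algebraMap B F) := by
    rw [IsScalarTower.algebraMap_eq B (EGA4.Cpl B) F]
    exact (IsFractionRing.injective (EGA4.Cpl B) F).comp hBinj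
  let _ : Algebra L F := (IsFractionRing.lift hBF).toAlgebra
  have : IsScalarTower B L F := IsScalarTower.of_algebraMap_eq
    (fun b => (IsFractionRing.lift_algebraMap hBF b).symm)
  let _ : Algebra K F := ((algebraMap L F).comp (algebraMap K L)).toAlgebra
  have : IsScalarTower K L F := IsScalarTower.of_algebraMap_eq (fun _ => rfl)
  have : IsScalarTower A K F := IsScalarTower.of_algebraMap_eq (fun a => by
    change algebraMap A F a = algebraMap L F (algebraMap K L (algebraMap A K a))
    rw [← IsScalarTower.algebraMap_apply A K L, IsScalarTower.algebraMap_apply A B L,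
      ← IsScalarTower.algebraMap_apply B L F, hAF,
      ← IsScalarTower.algebraMap_apply B (EGA4.Cpl B) F])
  have hFFB := Groth.Agent.Lib.Helper7.NagFF.hasGeomReducedFormalFibres_of_isNagata B hB ⊥
  have hLF : Algebra.IsGeometricallyReduced L F :=
    Groth.Agent.Lib.Helper28.AlgClosedCpl.isGeometricallyReduced_fractionField_cpl B L F hFFB
  have hKF : Algebra.IsGeometricallyReduced K F :=
    Groth.Agent.Lib.Helper28.NagataDVR.isGeometricallyReduced_of_isSeparable K L F hLF
  exact Groth.Agent.Lib.Helper28.NagataDVR.isNagata_of_cpl_embeds A K F hdimA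
    ((IsFractionRing.injective (EGA4.Cpl B) F).comp hφinj) hKF

end Groth.Agent.S1985
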