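import Groth.Statements.S19856
-- import your own Groth.Agent.* helpers here
import Mathlib

set_option autoImplicit false
universe u v
open CAlg

namespace Groth.Agent.S19856

section Helpers
open IsLocalRing

variable {O : Type u} [CommRing O] [IsDomain O] [IsDiscreteValuationRing O]
  {G : Type v} [Group G] [MulSemiringAction G O]

/-- the factor `u` with `g • π = u * π` -/
theorem exists_factor (htriv : ∀ (g : G) (a : O), g • a - a ∈ maximalIdeal O)
    {π : O} (hπ : Irreducible π) (g : G) : ∃ u : O, g • π = u * π := by
  have h := htriv g π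
  rw [hπ.maximalIdeal_eq, Ideal.mem_span_singleton'] at h
  obtain ⟨c, hc⟩ := h
  exact ⟨c + 1, by linear_combination (-1 : O) * hc⟩

/-- `g` shifts the `π`-adic filtration when `u ≡ 1`. -/
theorem shift (htriv : ∀ (g : G) (a : O), g • a - a ∈ maximalIdeal O)
    {π : O} (hπ : Irreducible π) (g : G) (u : O) (hu : g • π = u * π)
    (hu1 : u - 1 ∈ maximalIdeal O) (j : ℕ) (y : O) :
    ∃ z : O, g • (π ^ j * y) - π ^ j * y = π ^ (j + 1) * z := by
  have h1 : u ^ j * (g • y) - y ∈ maximalIdeal O := by
    have e : u ^ j * (g • y) - y = u ^ j * (g • y - y) + (u ^ j - 1) * y := by ring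
    rw [e]
    refine Ideal.add_mem _ (Ideal.mul_mem_left _ _ (htriv g y)) (Ideal.mul_mem_right _ _ ?_)
    have : u ^ j - 1 = (u - 1) * ∑ i ∈ Finset.range j, u ^ i := by
      rw [mul_comm, ← geom_sum_mul]
    rw [this]
    exact Ideal.mul_mem_right _ _ hu1
  rw [hπ.maximalIdeal_eq, Ideal.mem_span_singleton'] at h1
  obtain ⟨z, hz⟩ := h1
  refine ⟨z, ?_⟩
  rw [smul_mul', smul_pow', hu, mul_pow, pow_succ]
  linear_combination (π ^ j) * hz.symm

theorem aux
    (O : Type u) [CommRing O] [IsDomain O] [IsDiscreteValuationRing O]
    (G : Type v) [Group G] [Finite G] [MulSemiringAction G O] [FaithfulSMul G O]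
    (htriv : ∀ (g : G) (a : O), g • a - a ∈ IsLocalRing.maximalIdeal O)
    (hcard : ((Nat.card G : ℕ) : IsLocalRing.ResidueField O) ≠ 0) :
    IsCyclic G := by
  obtain ⟨π, hπ⟩ := IsDiscreteValuationRing.exists_irreducible O
  have hπ0 : π ≠ 0 := hπ.ne_zero
  choose u hu using exists_factor htriv hπ (G := G)
  have hu_one : u 1 = 1 := by
    have := hu 1
    rw [one_smul] at this
    apply mul_right_cancel₀ hπ0
    rw [one_mul]; exact this.symm
  have hu_mul : ∀ g h, u (g * h) = (g • u h) * u g := by
    intro g h
    apply mul_right_cancel₀ hπ0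
    rw [← hu (g * h), mul_smul, hu h, smul_mul', hu g]; ring
  let f : G →* ResidueField O :=
    { toFun := fun g => residue O (u g)
      map_one' := by simp [hu_one]
      map_mul' := fun g h => by
        rw [hu_mul, map_mul, mul_comm]
        congr 1
        rw [← sub_eq_zero, ← map_sub, residue_eq_zero_iff]
        exact htriv g (u h) }
  apply isCyclic_of_injective_ringHom f
  rw [injective_iff_map_eq_one]
  intro g hg
  have hu1 : u g - 1 ∈ maximalIdeal O := by
    rw [← residue_eq_zero_iff, map_sub, map_one, sub_eq_zero]; exact hg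
  by_contra hne
  have hex : ∃ a : O, g • a ≠ a := by
    by_contra hcon
    push Not at hcon
    exact hne (FaithfulSMul.eq_of_smul_eq_smul (M := G) (α := O)
      (fun a => by rw [hcon a, one_smul]))
  obtain ⟨a, ha⟩ := hex
  set δ := g • a - a with hδ
  have hδ0 : δ ≠ 0 := sub_ne_zero.mpr ha
  obtain ⟨i, w, hw⟩ := IsDiscreteValuationRing.eq_unit_mul_pow_irreducible hδ0 hπ
  let φ : O →+* O := MulSemiringAction.toRingHom G O g
  have hφ : ∀ x, φ x = g • x := fun x => rfl
  obtain ⟨z1, hz1⟩ := shift htriv hπ g (u g) (hu g) hu1 i (w : O)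
  have hφδ : φ δ = δ + π ^ (i + 1) * z1 := by
    rw [hφ, hw, mul_comm (w : O)]
    linear_combination hz1
  have key : ∀ k : ℕ, ∃ z : O, g ^ k • a - a - k * δ = π ^ (i + 1) * z := by
    intro k
    induction k with
    | zero => exact ⟨0, by simp⟩
    | succ k ih =>
      obtain ⟨z, hz⟩ := ih
      obtain ⟨z2, hz2⟩ := shift htriv hπ g (u g) (hu g) hu1 (i + 1) z
      have hgk : g ^ k • a = a + k * δ + π ^ (i + 1) * z := by linear_combination hz
      have hφa : φ a = a + δ := by rw [hφ, hδ]; ring
      have hφz : φ (π ^ (i + 1) * z) = π ^ (i + 1) * z + π ^ (i + 1 + 1) * z2 := by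
        rw [hφ]; linear_combination hz2
      refine ⟨z1 * k + z + π * z2, ?_⟩
      rw [pow_succ', mul_smul, hgk, ← hφ, map_add, map_add, map_mul, map_natCast, hφa, hφδ, hφz]
      push_cast
      ring
  obtain ⟨z, hz⟩ := key (Nat.card G)
  rw [pow_card_eq_one', one_smul, sub_self, zero_sub, hw] at hz
  have h2 : ((Nat.card G : ℕ) : O) * w = - (π * z) := by
    apply mul_right_cancel₀ (pow_ne_zero i hπ0)
    linear_combination (-1 : O) * hz
  have h3 : ((Nat.card G : ℕ) : O) ∈ maximalIdeal O := by
    rw [hπ.maximalIdeal_eq, Ideal.mem_span_singleton']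
    refine ⟨-(z * ((w⁻¹ : Oˣ) : O)), ?_⟩
    have hw' : (w : O) * ((w⁻¹ : Oˣ) : O) = 1 := Units.mul_inv w
    linear_combination (-((w⁻¹ : Oˣ) : O)) * h2 + ((Nat.card G : ℕ) : O) * hw'
  apply hcard
  rw [← map_natCast (residue O), residue_eq_zero_iff]
  exact h3

end Helpers

/-- Ring-level form: let O be a discrete valuation ring and G a finite group acting faithfully on O by
ring automorphisms, such that every element of G acts trivially on the residue field of O (that is,
g • a - a lies in the maximal ideal for all a) and such that the order of G is nonzero in the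
residue field of O. Then G is cyclic. (The source states this for a finite group of order invertible
in an algebraically closed field k acting faithfully on a smooth connected k-variety and the
subgroup of elements fixing pointwise a codimension-one irreducible component of the ramification
locus, applied to the local ring at the generic point of that component; it is stated here for an
arbitrary discrete valuation ring with a faithful action. The source also shows that this subgroup
is nontrivial; that geometric part is not stated.) -/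
theorem result
    (O : Type u) [CommRing O] [IsDomain O] [IsDiscreteValuationRing O]
    (G : Type v) [Group G] [Finite G] [MulSemiringAction G O] [FaithfulSMul G O]
    (htriv : ∀ (g : G) (a : O), g • a - a ∈ IsLocalRing.maximalIdeal O)
    (hcard : ((Nat.card G : ℕ) : IsLocalRing.ResidueField O) ≠ 0) :
    IsCyclic G := by
  exact aux O G htriv hcard

end Groth.Agent.S19856
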