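import Groth.Statements.S19858
import Mathlib
import Groth.Agent.Lib.Helper28GeomFibre4
-- import your own Groth.Agent.* helpers here

set_option autoImplicit false
universe u
open EGA4

namespace Groth.Agent.S19858
open Groth.Agent.Lib.Helper28 IsLocalRing TensorProduct

/-- Let A → B → C be homomorphisms of Noetherian rings such that C is faithfully flat over B and the
composite A → C is a normal homomorphism (flat, with geometrically normal fibres). Then A → B is a
normal homomorphism. (In the source C is the adic completion of A along an ideal and A → C is
assumed normal; only the faithful flatness of B → C and the normality of A → C enter, so C is an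
arbitrary Noetherian ring here.) -/
theorem result (A B C : Type u)
    [CommRing A] [CommRing B] [CommRing C] [IsNoetherianRing A] [IsNoetherianRing B] [IsNoetherianRing C]
    [Algebra A B] [Algebra B C] [Algebra A C] [IsScalarTower A B C] [Module.FaithfullyFlat B C]
    (hAC : EGA4.IsNormalHom A C) : EGA4.IsNormalHom A B := by
  have hflat := hAC.1
  refine ⟨flat_of_faithfullyFlat_of_flat_comp A B C, fun p _ => ?_⟩
  intro k' _ _ hfin
  have : IsNoetherianRing (p.Fiber B) := isNoetherianRing_fiber p
  have : IsNoetherianRing (p.Fiber C) := isNoetherianRing_fiber p
  exact tensor_fiber_descent_of_property A B C p k' (fun R _ => EGA4.IsNormalRing R)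
    (fun R S _ _ e h => isNormalRing_of_ringEquiv e h)
    (fun R' T _ _ _ _ _ _ h => isNormalRing_of_faithfullyFlat (A := R') (B := T) h)
    (hAC.2 p k' hfin)

end Groth.Agent.S19858
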