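import Groth.Statements.S19867
import Groth.Agent.Lib.Helper14DetProj

set_option autoImplicit false
universe u
open scoped TensorProduct
open ZeroCyc

namespace Groth.Agent.S19867

/-- Affine form of the inhomogeneous determinant law. Let A be a commutative ring, B a commutative
A-algebra and M a B-module which as an A-module is finitely generated projective, of possibly
non-constant rank. Then there is exactly one multiplicative polynomial law N : B → A over A such
that for every local commutative A-algebra S and every x ∈ S ⊗_A B the value N(x) ∈ S is the
determinant of x acting on the free S-module S ⊗_A M. (N is in general not homogeneous; when M has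
constant rank d it is the homogeneous determinant law of degree d. The members over arbitrary test
algebras are determined by those over local ones.) -/
theorem result {A B M : Type u} [CommRing A] [CommRing B] [Algebra A B]
    [AddCommGroup M] [Module A M] [Module B M] [IsScalarTower A B M] [Module.Finite A M] [Module.Projective A M] :
    ∃! N : B →ₚₗ[A] A, PolLaw.IsMult N ∧ ∀ (S : Type u) [CommRing S] [IsLocalRing S] [Algebra A S] (x : S ⊗[A] B),
      N.toFun' S x = PolLaw.detAct M S x ⊗ₜ[A] (1 : A) := by
  obtain ⟨D⟩ := Groth.Agent.Lib.Helper14.DetProj.exists_summand (A := A) (M := M)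
  refine ⟨Groth.Agent.Lib.Helper14.DetProj.N (B := B) D,
    ⟨Groth.Agent.Lib.Helper14.DetProj.N_mult D,
      fun S _ _ _ x => Groth.Agent.Lib.Helper14.DetProj.N_apply_local D S x⟩, ?_⟩
  rintro N' ⟨-, hN'⟩
  apply Groth.Agent.Lib.Helper14.DetProj.ext_of_local
  intro S _ _ _ x
  rw [hN' S x, Groth.Agent.Lib.Helper14.DetProj.N_apply_local D S x]

end Groth.Agent.S19867
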