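import Groth.Statements.S19868
import Mathlib
import Groth.Agent.Lib.Helper11Dual3
import Groth.Agent.Lib.Helper11JacobsonF

set_option autoImplicit false
universe u v
open PLie

namespace Groth.Agent.S19868

open DualNumber Groth.Agent.Lib.Helper11Dual3 Groth.Agent.Lib.Helper11Jacobson

section Facts

variable {K : Type u} [Field K] {a b c d e f g h i : K}
  {L : Type v} [LieRing L] [LieAlgebra (DualNumber K) L]
  {bs : Module.Basis (Fin 3) (DualNumber K) L}
  (hxy : ⁅bs 0, bs 1⁆ = V bs (a • ε : DualNumber K) (b • ε) (c • ε))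
  (hxz : ⁅bs 0, bs 2⁆ = V bs (d • ε : DualNumber K) (e • ε) (f • ε))
  (hyz : ⁅bs 1, bs 2⁆ = V bs (1 + g • ε : DualNumber K) (h • ε) (i • ε))

include hxy hxz hyz

theorem jac : b + f = 0 := by
  have br := bracket_V bs hxy hxz hyz
  have h1 := leibniz_lie (bs 0) (bs 1) (bs 2)
  rw [hxy, hxz, hyz] at h1
  rw [b0 bs, b1 bs, b2 bs] at h1
  simp only [br, V_add] at h1
  obtain ⟨h0, -, -⟩ := V_inj bs h1
  have h2 := congrArg TrivSqZeroExt.snd h0
  simp at h2
  linear_combination -h2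

/-- bracket of a general vector with a general vector, in coordinates -/
theorem brV (α β γ α' β' γ' : DualNumber K) :
    ⁅V bs α β γ, V bs α' β' γ'⁆ =
      V bs ((α * β' - β * α') * a • ε + (α * γ' - γ * α') * d • ε + (β * γ' - γ * β') * (1 + g • ε))
        ((α * β' - β * α') * b • ε + (α * γ' - γ * α') * e • ε + (β * γ' - γ * β') * h • ε)
        ((α * β' - β * α') * c • ε + (α * γ' - γ * α') * f • ε + (β * γ' - γ * β') * i • ε) :=
  bracket_V bs hxy hxz hyz α β γ α' β' γ'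

/-- `ad x` on a general vector -/
theorem adx (α β γ : DualNumber K) :
    ⁅bs 0, V bs α β γ⁆ = V bs (β * a • ε + γ * d • ε) (β * b • ε + γ * e • ε) (β * c • ε + γ * f • ε) := by
  nth_rewrite 1 [b0 bs]
  rw [brV hxy hxz hyz]
  apply V_congr <;> ring

theorem ady (α β γ : DualNumber K) :
    ⁅bs 1, V bs α β γ⁆ = V bs (-α * a • ε + γ * (1 + g • ε)) (-α * b • ε + γ * h • ε)
      (-α * c • ε + γ * i • ε) := by
  nth_rewrite 1 [b1 bs]
  rw [brV hxy hxz hyz]
  apply V_congr <;> ring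

theorem adz (α β γ : DualNumber K) :
    ⁅bs 2, V bs α β γ⁆ = V bs (-α * d • ε - β * (1 + g • ε)) (-α * e • ε - β * h • ε)
      (-α * f • ε - β * i • ε) := by
  nth_rewrite 1 [b2 bs]
  rw [brV hxy hxz hyz]
  apply V_congr <;> ring

theorem adx2 (α β γ : DualNumber K) : ⁅bs 0, ⁅bs 0, V bs α β γ⁆⁆ = 0 := by
  rw [adx hxy hxz hyz, adx hxy hxz hyz, ← V_zero bs]
  apply V_congr <;> ext <;> simp

theorem ady2 (α β γ : DualNumber K) : ⁅bs 1, ⁅bs 1, V bs α β γ⁆⁆ =
    V bs (-α * c • ε + γ * (i - a) • ε) (- γ * b • ε) (-γ * c • ε) := by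
  rw [ady hxy hxz hyz, ady hxy hxz hyz]
  apply V_congr <;> ext <;> simp <;> ring

theorem ady3 (α β γ : DualNumber K) : ⁅bs 1, ⁅bs 1, ⁅bs 1, V bs α β γ⁆⁆⁆ =
    V bs (-γ * c • ε) 0 0 := by
  rw [ady2 hxy hxz hyz, ady hxy hxz hyz]
  apply V_congr <;> ext <;> simp

theorem ady4 (α β γ : DualNumber K) : ⁅bs 1, ⁅bs 1, ⁅bs 1, ⁅bs 1, V bs α β γ⁆⁆⁆⁆ = 0 := by
  rw [ady3 hxy hxz hyz, ady hxy hxz hyz, ← V_zero bs]
  apply V_congr <;> ext <;> simp

theorem adz2 (α β γ : DualNumber K) : ⁅bs 2, ⁅bs 2, V bs α β γ⁆⁆ =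
    V bs (α * e • ε + β * (d + h) • ε) (β * e • ε) (β * f • ε) := by
  rw [adz hxy hxz hyz, adz hxy hxz hyz]
  apply V_congr <;> ext <;> simp <;> ring

theorem adz3 (α β γ : DualNumber K) : ⁅bs 2, ⁅bs 2, ⁅bs 2, V bs α β γ⁆⁆⁆ =
    V bs (-β * e • ε) 0 0 := by
  rw [adz2 hxy hxz hyz, adz hxy hxz hyz]
  apply V_congr <;> ext <;> simp

theorem adz4 (α β γ : DualNumber K) : ⁅bs 2, ⁅bs 2, ⁅bs 2, ⁅bs 2, V bs α β γ⁆⁆⁆⁆ = 0 := by
  rw [adz3 hxy hxz hyz, adz hxy hxz hyz, ← V_zero bs]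
  apply V_congr <;> ext <;> simp

theorem adx_sq : LieAlgebra.ad (DualNumber K) L (bs 0) ^ 2 = 0 := by
  ext v
  rw [eq_V bs v, pow_two, Module.End.mul_apply, LieAlgebra.ad_apply, LieAlgebra.ad_apply,
    adx2 hxy hxz hyz]
  rfl

theorem ady_pow4 : LieAlgebra.ad (DualNumber K) L (bs 1) ^ 4 = 0 := by
  ext v
  rw [eq_V bs v]
  simp only [ad_pow_succ_apply, ad_pow_zero_apply]
  rw [ady4 hxy hxz hyz]
  rfl

theorem adz_pow4 : LieAlgebra.ad (DualNumber K) L (bs 2) ^ 4 = 0 := by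
  ext v
  rw [eq_V bs v]
  simp only [ad_pow_succ_apply, ad_pow_zero_apply]
  rw [adz4 hxy hxz hyz]
  rfl

theorem inner_y (p : ℕ) (hp : p.Prime) (hc : p = 2 → b = 0 ∧ c = 0 ∧ e = 0) :
    ∃ w : L, LieAlgebra.ad (DualNumber K) L (bs 1) ^ p = LieAlgebra.ad (DualNumber K) L w := by
  by_cases h2 : p = 2
  · obtain ⟨hb, hc', -⟩ := hc h2
    subst h2
    refine ⟨V bs 0 ((i - a) • ε) 0, ?_⟩
    ext v
    rw [eq_V bs v]
    simp only [ad_pow_succ_apply, ad_pow_zero_apply]
    rw [ady2 hxy hxz hyz, LieAlgebra.ad_apply, brV hxy hxz hyz]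
    subst hb hc'
    apply V_congr <;> ext <;> simp
  by_cases h3 : p = 3
  · subst h3
    refine ⟨V bs 0 (-c • ε) 0, ?_⟩
    ext v
    rw [eq_V bs v]
    simp only [ad_pow_succ_apply, ad_pow_zero_apply]
    rw [ady3 hxy hxz hyz, LieAlgebra.ad_apply, brV hxy hxz hyz]
    apply V_congr <;> ext <;> simp
  · refine ⟨0, ?_⟩
    have h4 : 4 ≤ p := by
      have := hp.two_le
      omega
    rw [ad_pow_eq_zero_of_le (bs 1) h4 (ady_pow4 hxy hxz hyz), map_zero]

theorem inner_z (p : ℕ) (hp : p.Prime) (hc : p = 2 → b = 0 ∧ c = 0 ∧ e = 0) :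
    ∃ w : L, LieAlgebra.ad (DualNumber K) L (bs 2) ^ p = LieAlgebra.ad (DualNumber K) L w := by
  by_cases h2 : p = 2
  · obtain ⟨hb, -, he⟩ := hc h2
    have hf : f = 0 := by
      have := jac hxy hxz hyz
      rw [hb, zero_add] at this
      exact this
    subst h2
    refine ⟨V bs 0 0 (-(d + h) • ε), ?_⟩
    ext v
    rw [eq_V bs v]
    simp only [ad_pow_succ_apply, ad_pow_zero_apply]
    rw [adz2 hxy hxz hyz, LieAlgebra.ad_apply, brV hxy hxz hyz]
    subst hb he hf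
    apply V_congr <;> ext <;> simp <;> ring
  by_cases h3 : p = 3
  · subst h3
    refine ⟨V bs 0 0 (e • ε), ?_⟩
    ext v
    rw [eq_V bs v]
    simp only [ad_pow_succ_apply, ad_pow_zero_apply]
    rw [adz3 hxy hxz hyz, LieAlgebra.ad_apply, brV hxy hxz hyz]
    apply V_congr <;> ext <;> simp
  · refine ⟨0, ?_⟩
    have h4 : 4 ≤ p := by
      have := hp.two_le
      omega
    rw [ad_pow_eq_zero_of_le (bs 2) h4 (adz_pow4 hxy hxz hyz), map_zero]

theorem inner_x (p : ℕ) (hp : p.Prime) :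
    ∃ w : L, LieAlgebra.ad (DualNumber K) L (bs 0) ^ p = LieAlgebra.ad (DualNumber K) L w := by
  refine ⟨0, ?_⟩
  rw [ad_pow_eq_zero_of_le (bs 0) hp.two_le (adx_sq hxy hxz hyz), map_zero]

/-- necessity for `p = 2`, from `ad y` -/
theorem nec_y (w : L)
    (hw : LieAlgebra.ad (DualNumber K) L (bs 1) ^ 2 = LieAlgebra.ad (DualNumber K) L w) :
    b = 0 ∧ c = 0 := by
  have key : ∀ v : L, ⁅bs 1, ⁅bs 1, v⁆⁆ = ⁅w, v⁆ := by
    intro v
    have := LinearMap.congr_fun hw v
    simpa only [ad_pow_succ_apply, ad_pow_zero_apply, LieAlgebra.ad_apply] using this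
  rw [eq_V bs w] at key
  set α := bs.repr w 0
  set β := bs.repr w 1
  set γ := bs.repr w 2
  have k0 := key (V bs 1 0 0)
  have k1 := key (V bs 0 1 0)
  have k2 := key (V bs 0 0 1)
  rw [ady2 hxy hxz hyz, brV hxy hxz hyz] at k0 k1 k2
  obtain ⟨k00, k01, k02⟩ := V_inj bs k0
  obtain ⟨k10, k11, k12⟩ := V_inj bs k1
  obtain ⟨k20, k21, k22⟩ := V_inj bs k2
  have e1 := congrArg TrivSqZeroExt.snd k00
  have e2 := congrArg TrivSqZeroExt.fst k20
  have e3 := congrArg TrivSqZeroExt.snd k21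
  have e4 := congrArg TrivSqZeroExt.snd k22
  have e5 := congrArg TrivSqZeroExt.fst k10
  have e6 := congrArg TrivSqZeroExt.snd k11
  simp at e1 e2 e3 e4 e5 e6
  have hc : c = 0 := by linear_combination (-1) * e1 + (-a) * e2 + d * e5
  have hb2 : b ^ 2 = 0 := by
    linear_combination (-b) * e3 + e * e6 + (b * h) * e2 + (-e * h) * e5
  exact ⟨by simpa using hb2, hc⟩

/-- necessity for `p = 2`, from `ad z` -/
theorem nec_z (w : L)
    (hw : LieAlgebra.ad (DualNumber K) L (bs 2) ^ 2 = LieAlgebra.ad (DualNumber K) L w) :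
    e = 0 := by
  have key : ∀ v : L, ⁅bs 2, ⁅bs 2, v⁆⁆ = ⁅w, v⁆ := by
    intro v
    have := LinearMap.congr_fun hw v
    simpa only [ad_pow_succ_apply, ad_pow_zero_apply, LieAlgebra.ad_apply] using this
  rw [eq_V bs w] at key
  set α := bs.repr w 0
  set β := bs.repr w 1
  set γ := bs.repr w 2
  have k0 := key (V bs 1 0 0)
  have k1 := key (V bs 0 1 0)
  have k2 := key (V bs 0 0 1)
  rw [adz2 hxy hxz hyz, brV hxy hxz hyz] at k0 k1 k2
  obtain ⟨k00, k01, k02⟩ := V_inj bs k0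
  obtain ⟨k10, k11, k12⟩ := V_inj bs k1
  obtain ⟨k20, k21, k22⟩ := V_inj bs k2
  have e1 := congrArg TrivSqZeroExt.snd k00
  have e2 := congrArg TrivSqZeroExt.fst k20
  have e5 := congrArg TrivSqZeroExt.fst k10
  simp at e1 e2 e5
  linear_combination e1 + a * e2 + (-d) * e5

end Facts

open DualNumber in

open DualNumber in
/-- Let K be a field of prime characteristic p, K[ε] the ring of dual numbers (taken with its
characteristic-p structure) and a, …, i ∈ K. Let L be a Lie algebra over K[ε], free as a module with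
basis x = bs 0, y = bs 1, z = bs 2 and brackets [x,y] = aε x + bε y + cε z, [x,z] = dε x + eε y + fε
z, [y,z] = (1 + gε) x + hε y + iε z, a first-order deformation of the Heisenberg algebra (the Jacobi
identity forces b + f = 0). Then L carries a p-mapping over K[ε] if and only if b = c = e = 0 when p
= 2; for odd p there is no condition. (The published statement is about the singularity of the point
h_3 in the restrictable locus of the rank-one-centre stratum of the moduli scheme of based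
three-dimensional Lie algebras over the prime field; this row states the restrictability criterion
for the first-order deformations of h_3 asserted in its proof, over any field of characteristic p in
place of the prime field.) -/
theorem result (K : Type u) [Field K] (p : ℕ) [Fact p.Prime] [CharP K p]
    [CharP (DualNumber K) p] (a b c d e f g h i : K)
    (L : Type v) [LieRing L] [LieAlgebra (DualNumber K) L] (bs : Module.Basis (Fin 3) (DualNumber K) L)
    (hxy : ⁅bs 0, bs 1⁆ = (a • ε : DualNumber K) • bs 0 + (b • ε : DualNumber K) • bs 1 + (c • ε : DualNumber K) • bs 2)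
    (hxz : ⁅bs 0, bs 2⁆ = (d • ε : DualNumber K) • bs 0 + (e • ε : DualNumber K) • bs 1 + (f • ε : DualNumber K) • bs 2)
    (hyz : ⁅bs 1, bs 2⁆ = (1 + g • ε : DualNumber K) • bs 0 + (h • ε : DualNumber K) • bs 1 + (i • ε : DualNumber K) • bs 2) :
    Nonempty (PLie.PMap (DualNumber K) p L) ↔ (p = 2 → b = 0 ∧ c = 0 ∧ e = 0) := by
  have hp : p.Prime := Fact.out
  have hxy' : ⁅bs 0, bs 1⁆ = V bs (a • ε : DualNumber K) (b • ε) (c • ε) := hxy
  have hxz' : ⁅bs 0, bs 2⁆ = V bs (d • ε : DualNumber K) (e • ε) (f • ε) := hxz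
  have hyz' : ⁅bs 1, bs 2⁆ = V bs (1 + g • ε : DualNumber K) (h • ε) (i • ε) := hyz
  constructor
  · rintro ⟨φ⟩ h2
    subst h2
    obtain ⟨hb, hc⟩ := nec_y hxy' hxz' hyz' (φ (bs 1)) (φ.ad_map (bs 1)).symm
    exact ⟨hb, hc, nec_z hxy' hxz' hyz' (φ (bs 2)) (φ.ad_map (bs 2)).symm⟩
  · intro hc
    obtain ⟨w0, hw0⟩ := inner_x hxy' hxz' hyz' p hp
    obtain ⟨w1, hw1⟩ := inner_y hxy' hxz' hyz' p hp hc
    obtain ⟨w2, hw2⟩ := inner_z hxy' hxz' hyz' p hp hc
    obtain ⟨φ, -⟩ := exists_pmap (DualNumber K) p L bs ![w0, w1, w2] (by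
      intro j
      fin_cases j
      · exact hw0
      · exact hw1
      · exact hw2)
    exact ⟨φ⟩

end Groth.Agent.S19868
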