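import Groth.Statements.S1987
import Mathlib
-- import your own Groth.Agent.* helpers here

set_option autoImplicit false
universe u
open Polynomial
open EtAlg

namespace Groth.Agent.S1987.Aux

set_option autoImplicit false

namespace ER


open Polynomial IsLocalRing

section abs

variable {A : Type u} [CommRing A] [IsDomain A] [IsDiscreteValuationRing A] {π : A}
  {n : ℕ} {B : Type u} [CommRing B] [IsDomain B] [Algebra A B] [Module.Finite A B]

theorem unif_mem_of_isMaximal (hπ : Irreducible π) (hn : 0 < n) (ϖ : B)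
    (hϖ : ϖ ^ n = algebraMap A B π) (Q : Ideal B) [Q.IsMaximal] :
    ϖ ∈ Q ∧ Q.comap (algebraMap A B) = maximalIdeal A := by
  haveI : Algebra.IsIntegral A B := Algebra.IsIntegral.of_finite A B
  have h1 : (Q.comap (algebraMap A B)).IsMaximal := Ideal.isMaximal_comap_of_isIntegral_of_isMaximal Q
  have h2 : Q.comap (algebraMap A B) = maximalIdeal A := IsLocalRing.eq_maximalIdeal h1
  refine ⟨?_, h2⟩
  have h3 : π ∈ Q.comap (algebraMap A B) := by
    rw [h2, hπ.maximalIdeal_eq]; exact Ideal.mem_span_singleton_self π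
  have h4 : ϖ ^ n ∈ Q := by rw [hϖ]; exact h3
  exact (Ideal.IsMaximal.isPrime inferInstance).mem_of_pow_mem n h4

theorem maximal_eq (hπ : Irreducible π) (hn : 0 < n) (ϖ : B)
    (hϖ : ϖ ^ n = algebraMap A B π)
    (hdec : ∀ x : B, ∃ (a : A) (y : B), x = algebraMap A B a + ϖ * y)
    (Q : Ideal B) [Q.IsMaximal] : Q = Ideal.span {ϖ} := by
  obtain ⟨h1, h2⟩ := unif_mem_of_isMaximal hπ hn ϖ hϖ Q
  apply le_antisymm
  · intro x hx
    obtain ⟨a, y, rfl⟩ := hdec x
    have ha : algebraMap A B a ∈ Q := by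
      have : ϖ * y ∈ Q := Q.mul_mem_right _ h1
      exact (Ideal.add_mem_iff_left Q this).mp hx
    have ha' : a ∈ maximalIdeal A := by rw [← h2]; exact ha
    rw [hπ.maximalIdeal_eq, Ideal.mem_span_singleton] at ha'
    obtain ⟨b, rfl⟩ := ha'
    refine Ideal.add_mem _ ?_ (Ideal.mul_mem_right _ _ (Ideal.mem_span_singleton_self ϖ))
    rw [map_mul, ← hϖ]
    obtain ⟨k, rfl⟩ : ∃ k, n = k + 1 := ⟨n - 1, by omega⟩
    rw [pow_succ', mul_assoc]
    exact Ideal.mul_mem_right _ _ (Ideal.mem_span_singleton_self ϖ)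
  · rw [Ideal.span_singleton_le_iff_mem]; exact h1

theorem isLocalRing (hπ : Irreducible π) (hn : 0 < n) (ϖ : B)
    (hϖ : ϖ ^ n = algebraMap A B π)
    (hdec : ∀ x : B, ∃ (a : A) (y : B), x = algebraMap A B a + ϖ * y) : IsLocalRing B := by
  obtain ⟨Q, hQ⟩ := Ideal.exists_maximal B
  refine IsLocalRing.of_unique_max_ideal ⟨Q, hQ, fun Q' hQ' => ?_⟩
  rw [@maximal_eq _ _ _ _ _ _ _ _ _ _ _ hπ hn ϖ hϖ hdec Q' hQ',
    @maximal_eq _ _ _ _ _ _ _ _ _ _ _ hπ hn ϖ hϖ hdec Q hQ]

theorem maximalIdeal_eq [IsLocalRing B] (hπ : Irreducible π) (hn : 0 < n) (ϖ : B)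
    (hϖ : ϖ ^ n = algebraMap A B π)
    (hdec : ∀ x : B, ∃ (a : A) (y : B), x = algebraMap A B a + ϖ * y) :
    maximalIdeal B = Ideal.span {ϖ} :=
  maximal_eq hπ hn ϖ hϖ hdec (maximalIdeal B)

theorem isDVR (hinj : Function.Injective (algebraMap A B)) (hπ : Irreducible π) (hn : 0 < n) (ϖ : B)
    (hϖ : ϖ ^ n = algebraMap A B π)
    (hdec : ∀ x : B, ∃ (a : A) (y : B), x = algebraMap A B a + ϖ * y) :
    IsDiscreteValuationRing B := by
  haveI := isLocalRing hπ hn ϖ hϖ hdec
  haveI : IsNoetherianRing B := IsNoetherianRing.of_finite A B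
  have hmax := maximalIdeal_eq hπ hn ϖ hϖ hdec
  have hϖ0 : ϖ ≠ 0 := by
    intro h
    rw [h, zero_pow hn.ne'] at hϖ
    exact hπ.ne_zero (hinj (by rw [← hϖ, map_zero]))
  have hnf : ¬ IsField B := by
    rw [IsLocalRing.isField_iff_maximalIdeal_eq, hmax, Ideal.span_singleton_eq_bot]
    exact hϖ0
  have hpr : (maximalIdeal B).IsPrincipal := ⟨⟨ϖ, hmax⟩⟩
  exact ((IsDiscreteValuationRing.TFAE B hnf).out 0 4).mpr hpr

end abs

section ram

variable {A : Type u} [CommRing A] [IsDomain A] [IsDiscreteValuationRing A] {π : A}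
  {n : ℕ} {B : Type u} [CommRing B] [IsDomain B] [IsDiscreteValuationRing B] [Algebra A B]
  {K : Type u} [Field K] [Algebra B K] [IsFractionRing B K]

/-- the valuation subring of `K` given by `B` -/
def V0 (B : Type u) [CommRing B] [IsDomain B] [IsDiscreteValuationRing B]
    (K : Type u) [Field K] [Algebra B K] [IsFractionRing B K] : ValuationSubring K :=
  { (algebraMap B K).range with
    mem_or_inv_mem' := fun x => by
      rcases ValuationRing.isInteger_or_isInteger B x with ⟨b, hb⟩ | ⟨b, hb⟩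
      · exact Or.inl ⟨b, hb⟩
      · exact Or.inr ⟨b, hb⟩ }

theorem mem_V0 (x : K) : x ∈ V0 B K ↔ ∃ b : B, algebraMap B K b = x := Iff.rfl

theorem ram (hπ : Irreducible π) (hn : 0 < n) (ϖ : B)
    (hϖ : ϖ ^ n = algebraMap A B π)
    (hgen : ∀ x : B, ∃ p : A[X], x = aeval ϖ p)
    (hdec : ∀ x : B, ∃ (a : A) (y : B), x = algebraMap A B a + ϖ * y)
    (hmax : maximalIdeal B = Ideal.span {ϖ}) :
    EtRam.IsTotallyRamified A ((algebraMap B K).comp (algebraMap A B)) := by
  set g : A →+* K := (algebraMap B K).comp (algebraMap A B) with hg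
  have hιinj : Function.Injective (algebraMap B K) := IsFractionRing.injective B K
  have hϖm : ϖ ∈ maximalIdeal B := by rw [hmax]; exact Ideal.mem_span_singleton_self ϖ
  -- key facts for a dominating valuation subring
  have key : ∀ V : ValuationSubring K, EtRam.Dominates A g V →
      (∀ x : B, algebraMap B K x ∈ V) ∧
        ∀ x : B, x ∈ maximalIdeal B → V.valuation (algebraMap B K x) < 1 := by
    intro V hV
    have hv : V.valuation (algebraMap B K ϖ) < 1 := by
      by_contra hcon
      rw [not_lt] at hcon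
      have h1 : V.valuation (g π) < 1 := hV.2 π (by
        rw [hπ.maximalIdeal_eq]; exact Ideal.mem_span_singleton_self π)
      have h2 : V.valuation (g π) = V.valuation (algebraMap B K ϖ) ^ n := by
        rw [← map_pow, ← map_pow, hϖ]; rfl
      rw [h2] at h1
      exact absurd (one_le_pow₀ hcon) (not_le.mpr h1)
    have hϖV : algebraMap B K ϖ ∈ V := (V.valuation_le_one_iff _).mp hv.le
    have hmem : ∀ x : B, algebraMap B K x ∈ V := by
      intro x
      obtain ⟨p, rfl⟩ := hgen x
      induction p using Polynomial.induction_on with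
      | C a => rw [aeval_C]; exact hV.1 a
      | add p q hp hq => rw [map_add, map_add]; exact V.add_mem _ _ hp hq
      | monomial k a ih =>
        rw [pow_succ, ← mul_assoc, map_mul, aeval_X, map_mul]
        exact V.mul_mem _ _ ih hϖV
    refine ⟨hmem, fun x hx => ?_⟩
    rw [hmax, Ideal.mem_span_singleton] at hx
    obtain ⟨y, rfl⟩ := hx
    rw [map_mul, map_mul]
    calc V.valuation (algebraMap B K ϖ) * V.valuation (algebraMap B K y)
        ≤ V.valuation (algebraMap B K ϖ) * 1 :=
          mul_le_mul' le_rfl ((V.valuation_le_one_iff _).mpr (hmem y))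
      _ = V.valuation (algebraMap B K ϖ) := mul_one _
      _ < 1 := hv
  -- V0 dominates
  have hV0m : ∀ x : B, x ∈ maximalIdeal B → (V0 B K).valuation (algebraMap B K x) < 1 := by
    intro x hx
    rw [← ValuationSubring.mem_nonunits_iff, ValuationSubring.mem_nonunits_iff_or]
    by_cases h0 : algebraMap B K x = 0
    · exact Or.inl h0
    · refine Or.inr ?_
      rintro ⟨y, hy⟩
      have h1 : algebraMap B K (x * y) = algebraMap B K 1 := by
        rw [map_mul, hy, map_one, mul_inv_cancel₀ h0]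
      have h2 : x * y = 1 := hιinj h1
      exact (IsLocalRing.mem_maximalIdeal x).mp hx (IsUnit.of_mul_eq_one y h2)
  have hofm : ∀ a : A, a ∈ maximalIdeal A → algebraMap A B a ∈ maximalIdeal B := by
    intro a ha
    rw [hπ.maximalIdeal_eq, Ideal.mem_span_singleton] at ha
    obtain ⟨b, rfl⟩ := ha
    rw [map_mul, ← hϖ]
    obtain ⟨k, rfl⟩ : ∃ k, n = k + 1 := ⟨n - 1, by omega⟩
    rw [pow_succ', mul_assoc]
    exact Ideal.mul_mem_right _ _ hϖm
  have hdom0 : EtRam.Dominates A g (V0 B K) :=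
    ⟨fun a => ⟨algebraMap A B a, rfl⟩, fun a ha => hV0m _ (hofm a ha)⟩
  -- uniqueness
  have hle : ∀ V : ValuationSubring K, EtRam.Dominates A g V → ∀ x : K, x ∈ V → x ∈ V0 B K := by
    intro V hV x hx
    rcases ValuationRing.isInteger_or_isInteger B x with ⟨b, hb⟩ | ⟨b, hb⟩
    · exact ⟨b, hb⟩
    · by_cases hbu : IsUnit b
      · obtain ⟨u, rfl⟩ := hbu
        refine ⟨((u⁻¹ : Bˣ) : B), ?_⟩
        have h1 : algebraMap B K ((u⁻¹ : Bˣ) : B) * algebraMap B K (u : B) = 1 := by
          rw [← map_mul, Units.inv_mul, map_one]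
        have hb' : algebraMap B K (u : B) = x⁻¹ := hb
        rw [hb'] at h1
        by_cases hx0 : x = 0
        · rw [hx0, inv_zero, mul_zero] at h1; exact absurd h1 zero_ne_one
        · field_simp at h1
          exact h1
      · have hbm : b ∈ maximalIdeal B := (IsLocalRing.mem_maximalIdeal b).mpr hbu
        have h1 := (key V hV).2 b hbm
        have hb' : algebraMap B K b = x⁻¹ := hb
        rw [hb'] at h1
        by_cases hx0 : x = 0
        · exact ⟨0, by rw [map_zero, hx0]⟩
        · exfalso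
          have h2 : V.valuation x ≤ 1 := (V.valuation_le_one_iff _).mpr hx
          have h3 : V.valuation x * V.valuation x⁻¹ = 1 := by
            rw [← map_mul, mul_inv_cancel₀ hx0, map_one]
          have h4 : V.valuation x * V.valuation x⁻¹ < 1 := by
            calc V.valuation x * V.valuation x⁻¹ ≤ 1 * V.valuation x⁻¹ :=
                  mul_le_mul' h2 le_rfl
              _ = V.valuation x⁻¹ := one_mul _
              _ < 1 := h1
          rw [h3] at h4
          exact lt_irrefl _ h4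
  have huniq : ∀ V : ValuationSubring K, EtRam.Dominates A g V → V = V0 B K := by
    intro V hV
    apply le_antisymm
    · intro x hx; exact hle V hV x hx
    · rintro x ⟨b, rfl⟩; exact (key V hV).1 b
  refine ⟨⟨V0 B K, hdom0⟩, fun V V' hV hV' => (huniq V hV).trans (huniq V' hV').symm, ?_⟩
  intro V hV r
  obtain ⟨⟨x, hx⟩, rfl⟩ := Ideal.Quotient.mk_surjective r
  obtain ⟨y, rfl⟩ := hle V hV x hx
  obtain ⟨a, z, rfl⟩ := hdec y
  refine ⟨a, ?_⟩
  apply Ideal.Quotient.eq.mpr
  rw [ValuationSubring.valuation_lt_one_iff]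
  have h1 : ((RingHom.codRestrict g V hV.1 a - ⟨algebraMap B K (algebraMap A B a + ϖ * z), hx⟩ : V) : K) =
      - algebraMap B K (ϖ * z) := by
    show g a - algebraMap B K (algebraMap A B a + ϖ * z) = _
    rw [map_add, hg]
    simp
  rw [h1, Valuation.map_neg]
  exact (key V hV).2 _ (Ideal.mul_mem_right _ _ hϖm)

end ram

end ER

namespace ER

open Polynomial IsLocalRing

theorem main (A : Type u) [CommRing A] [IsDomain A] [IsDiscreteValuationRing A] (π : A)
    (hπ : Irreducible π) (n : ℕ) (hn : 2 ≤ n) :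
    Irreducible (X ^ n - C π : A[X]) ∧
    ∃ (_ : IsDomain (AdjoinRoot (X ^ n - C π : A[X]))) (_ : IsDiscreteValuationRing (AdjoinRoot (X ^ n - C π : A[X]))),
      IsIntegrallyClosed (AdjoinRoot (X ^ n - C π : A[X])) ∧
      (IsLocalRing.maximalIdeal A).map (algebraMap A (AdjoinRoot (X ^ n - C π : A[X]))) = IsLocalRing.maximalIdeal (AdjoinRoot (X ^ n - C π : A[X])) ^ n ∧
      ∀ (K₁ : Type u) [Field K₁] [Algebra (AdjoinRoot (X ^ n - C π : A[X])) K₁] [IsFractionRing (AdjoinRoot (X ^ n - C π : A[X])) K₁],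
        EtRam.IsTotallyRamified A ((algebraMap (AdjoinRoot (X ^ n - C π : A[X])) K₁).comp (algebraMap A (AdjoinRoot (X ^ n - C π : A[X])))) := by
  have hn0 : 0 < n := by omega
  have hmonic : (X ^ n - C π : A[X]).Monic := monic_X_pow_sub_C π hn0.ne'
  have hdeg : (X ^ n - C π : A[X]).degree = n := degree_X_pow_sub_C hn0 π
  have hπp : Prime π := hπ.prime
  have hprime : (Ideal.span {π}).IsPrime := (Ideal.span_singleton_prime hπ.ne_zero).mpr hπp
  have hirr : Irreducible (X ^ n - C π : A[X]) := by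
    apply irreducible_of_eisenstein_criterion hprime
    · rw [hmonic.leadingCoeff]
      exact (Ideal.ne_top_iff_one _).mp hprime.ne_top
    · intro k hk
      rw [hdeg] at hk
      have hk' : k < n := by exact_mod_cast hk
      rw [coeff_sub, coeff_X_pow, if_neg hk'.ne, coeff_C, zero_sub]
      split_ifs
      · exact (Ideal.neg_mem_iff _).mpr (Ideal.mem_span_singleton_self π)
      · rw [neg_zero]; exact Ideal.zero_mem _
    · rw [hdeg]; exact_mod_cast hn0
    · rw [coeff_sub, coeff_X_pow, if_neg hn0.ne, coeff_C, if_pos rfl, zero_sub, Ideal.span_singleton_pow,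
        Ideal.neg_mem_iff, Ideal.mem_span_singleton]
      rintro ⟨c, hc⟩
      have h1 : π * (1 - π * c) = 0 := by linear_combination hc
      rcases mul_eq_zero.mp h1 with h | h
      · exact hπ.ne_zero h
      · exact hπ.not_isUnit (IsUnit.of_mul_eq_one c (by linear_combination -h))
    · exact hmonic.isPrimitive
  refine ⟨hirr, ?_⟩
  have hprimef : Prime (X ^ n - C π : A[X]) := hirr.prime
  haveI hdom : IsDomain (AdjoinRoot (X ^ n - C π : A[X])) := AdjoinRoot.isDomain_of_prime hprimef
  haveI hfin : Module.Finite A (AdjoinRoot (X ^ n - C π : A[X])) := hmonic.finite_adjoinRoot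
  have hinj : Function.Injective (algebraMap A (AdjoinRoot (X ^ n - C π : A[X]))) := by
    rw [AdjoinRoot.algebraMap_eq]
    apply AdjoinRoot.of.injective_of_degree_ne_zero
    rw [hdeg]; exact_mod_cast hn0.ne'
  set ϖ : AdjoinRoot (X ^ n - C π : A[X]) := AdjoinRoot.root _ with hϖdef
  have hϖ : ϖ ^ n = algebraMap A (AdjoinRoot (X ^ n - C π : A[X])) π := by
    have := AdjoinRoot.eval₂_root (X ^ n - C π : A[X])
    rw [eval₂_sub, eval₂_X_pow, eval₂_C, sub_eq_zero] at this
    rw [AdjoinRoot.algebraMap_eq]; exact this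
  have hgen : ∀ x : AdjoinRoot (X ^ n - C π : A[X]), ∃ p : A[X], x = aeval ϖ p := by
    intro x
    obtain ⟨p, rfl⟩ := AdjoinRoot.mk_surjective x
    exact ⟨p, (AdjoinRoot.aeval_eq p).symm⟩
  have hdec : ∀ x : AdjoinRoot (X ^ n - C π : A[X]),
      ∃ (a : A) (y : AdjoinRoot (X ^ n - C π : A[X])), x = algebraMap A _ a + ϖ * y := by
    intro x
    obtain ⟨p, rfl⟩ := hgen x
    refine ⟨p.coeff 0, aeval ϖ p.divX, ?_⟩
    conv_lhs => rw [← divX_mul_X_add p]
    rw [map_add, map_mul, aeval_X, aeval_C, add_comm, mul_comm]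
  haveI hdvr : IsDiscreteValuationRing (AdjoinRoot (X ^ n - C π : A[X])) :=
    isDVR hinj hπ hn0 ϖ hϖ hdec
  have hmax := maximalIdeal_eq hπ hn0 ϖ hϖ hdec
  refine ⟨hdom, hdvr, inferInstance, ?_, ?_⟩
  · rw [hπ.maximalIdeal_eq, Ideal.map_span, Set.image_singleton, hmax, Ideal.span_singleton_pow, hϖ]
  · intro K₁ _ _ _
    exact ram hπ hn0 ϖ hϖ hgen hdec hmax

end ER

end Groth.Agent.S1987.Aux

namespace Groth.Agent.S1987

/-- Let A be a discrete valuation ring with uniformizer π and n ≥ 2, and let A' = A[x]/(x^n - π). Then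
x^n - π is irreducible over A, A' is an integrally closed discrete valuation ring (so it is the
integral closure of A in its fraction field K₁ = K(π^{1/n}), of degree n over K), the maximal ideal
of A generates the n-th power of the maximal ideal of A' (ramification index n), and K₁ is totally
ramified with respect to A. -/
theorem result (A : Type u) [CommRing A] [IsDomain A] [IsDiscreteValuationRing A] (π : A)
    (hπ : Irreducible π) (n : ℕ) (hn : 2 ≤ n) :
    Irreducible (X ^ n - C π : A[X]) ∧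
    ∃ (_ : IsDomain (AdjoinRoot (X ^ n - C π : A[X]))) (_ : IsDiscreteValuationRing (AdjoinRoot (X ^ n - C π : A[X]))),
      IsIntegrallyClosed (AdjoinRoot (X ^ n - C π : A[X])) ∧
      (IsLocalRing.maximalIdeal A).map (algebraMap A (AdjoinRoot (X ^ n - C π : A[X]))) = IsLocalRing.maximalIdeal (AdjoinRoot (X ^ n - C π : A[X])) ^ n ∧
      ∀ (K₁ : Type u) [Field K₁] [Algebra (AdjoinRoot (X ^ n - C π : A[X])) K₁] [IsFractionRing (AdjoinRoot (X ^ n - C π : A[X])) K₁],
        EtRam.IsTotallyRamified A ((algebraMap (AdjoinRoot (X ^ n - C π : A[X])) K₁).comp (algebraMap A (AdjoinRoot (X ^ n - C π : A[X])))) := by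
  exact Aux.ER.main A π hπ n hn

end Groth.Agent.S1987
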