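import Groth.Statements.S1988
import Mathlib
import Groth.Agent.Lib.Helper14EtSol

set_option autoImplicit false
universe u
open EtAlg

namespace Groth.Agent.S1988

/-- Let A -> B -> C be extensions of discrete valuation rings (local injective maps) with fraction
fields K ⊂ L ⊂ M₀ and K₁/K a finite extension. (The solution predicates mention only B, C and the
fields: in them the bottom ring is recovered as B ∩ K, which the hypotheses on A force to be A.) If
K₁ is a weak solution (resp. a solution) for A -> C then it is a weak solution (resp. a solution)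
for A -> B. -/
theorem result (A B C K L M₀ K₁ : Type u) [CommRing A] [IsDomain A] [IsDiscreteValuationRing A]
    [CommRing B] [IsDomain B] [IsDiscreteValuationRing B] [Algebra A B] [IsLocalHom (algebraMap A B)]
    (hinjA : Function.Injective (algebraMap A B))
    [CommRing C] [IsDomain C] [IsDiscreteValuationRing C] [Algebra B C] [IsLocalHom (algebraMap B C)]
    (hinj : Function.Injective (algebraMap B C))
    [Field K] [Field L] [Field M₀] [Field K₁] [Algebra K L] [Algebra K M₀] [Algebra L M₀] [IsScalarTower K L M₀]
    [Algebra K K₁] [FiniteDimensional K K₁] [Algebra A K] [IsFractionRing A K]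
    [Algebra B L] [IsFractionRing B L] [Algebra A L] [IsScalarTower A K L] [IsScalarTower A B L]
    [Algebra C M₀] [IsFractionRing C M₀] [Algebra B M₀]
    [IsScalarTower B C M₀] [IsScalarTower B L M₀] :
    (EtRam.IsWeakSolution C K M₀ K₁ → EtRam.IsWeakSolution B K L K₁) ∧
    (EtRam.IsSolution C K M₀ K₁ → EtRam.IsSolution B K L K₁) := by
  constructor
  · refine Groth.Agent.Lib.Helper14EtSol.forallLocalExt_descend B C K L M₀ K₁ hinj _ ?_
    intro M M' _ _ f j W' h
    exact Groth.Agent.Lib.Helper14EtSol.weaklyUnramified_of_comap f j W' h
  · refine Groth.Agent.Lib.Helper14EtSol.forallLocalExt_descend B C K L M₀ K₁ hinj _ ?_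
    intro M M' _ _ f j W' h
    exact ⟨Groth.Agent.Lib.Helper14EtSol.weaklyUnramified_of_comap f j W' h.1,
      Groth.Agent.Lib.Helper14EtSol.geometricallyReduced_of_comap f j W' h.2⟩

end Groth.Agent.S1988
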