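import Groth.Statements.S19889
-- import your own Groth.Agent.* helpers here
import Mathlib
import Groth.Agent.Lib.Helper26KPts

set_option autoImplicit false
universe u
open CategoryTheory CategoryTheory.Limits MonoidalCategory CartesianMonoidalCategory MonObj GrpObj AlgebraicGeometry
open GrpSch

namespace Groth.Agent.S19889

set_option linter.style.haveILetI false

open Groth.Agent.Lib.Helper26.KPts Groth.Agent.Lib.Helper25.IdComp

/-- Let k be an algebraically closed field, G a commutative group scheme locally of finite type over k,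
and i : G⁰ → G its identity component (a homomorphism that is an open immersion onto the connected
component of the unit point). Then the natural map from the torsion subgroup of G(k) to the torsion
subgroup of G(k)/G⁰(k) is surjective: if g is a k-point of G and gⁿ lies in G⁰(k) for some n ≥ 1,
then there is a k-point t of G of finite order such that t⁻¹ g lies in G⁰(k). -/
theorem result (k : Type u) [Field k] [IsAlgClosed k]
    {G G0 : Over (Spec (CommRingCat.of k))} [GrpObj G] [IsCommMonObj G] [GrpObj G0]
    [LocallyOfFiniteType G.hom] (i : G0 ⟶ G) [IsMonHom i] (hi : AutSch.IsIdComp i)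
    (g : 𝟙_ (Over (Spec (CommRingCat.of k))) ⟶ G) (n : ℕ) (hn : 0 < n)
    (hg : g ^ n ∈ AutSch.ptsRange i) :
    ∃ t : 𝟙_ (Over (Spec (CommRingCat.of k))) ⟶ G, IsOfFinOrder t ∧ t⁻¹ * g ∈ AutSch.ptsRange i := by
  obtain ⟨-, hopen, hrange⟩ := (AutSch.isIdComp_iff_of_field i).1 hi
  haveI : IsOpenImmersion i.left := hopen
  haveI : LocallyOfFiniteType G0.hom := by
    rw [← Over.w i]; infer_instance
  haveI : Mono i.left := inferInstance
  haveI : Mono i := Over.mono_of_mono_left i
  haveI : IsCommMonObj G0 := ⟨by
    rw [← cancel_mono i, Category.assoc, IsMonHom.mul_hom,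
      ← BraidedCategory.braiding_naturality_assoc, IsCommMonObj.mul_comm]⟩
  have hconn : _root_.IsPreconnected (Set.univ : Set G0.left) := by
    have hind : Topology.IsInducing i.left := i.left.isOpenEmbedding.isInducing
    have h2 : _root_.IsPreconnected (Set.range i.left) := by
      have : Set.range i.left = connectedComponent (AutSch.unitPt G) := hrange
      rw [this]; exact isPreconnected_connectedComponent
    rw [← hind.isPreconnected_image, Set.image_univ]; exact h2
  haveI : PreconnectedSpace G0.left := ⟨hconn⟩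
  haveI : Nonempty G0.left := ⟨ePt G0⟩
  haveI : ConnectedSpace G0.left := { toNonempty := ⟨ePt G0⟩ }
  haveI : IrreducibleSpace G0.left := irreducibleSpace_of_connectedSpace G0
  haveI : CompactSpace G0.left := ⟨by
    have := isCompact_connectedComponent_ePt G0
    rwa [PreconnectedSpace.connectedComponent_eq_univ] at this⟩
  obtain ⟨h0, hh0⟩ := hg
  have hh0' : h0 ≫ i = g ^ n := hh0
  obtain ⟨m, hm⟩ := exists_pow_range_eq G0 n
  obtain ⟨e, he⟩ := hm h0
  have hpow : ∀ (x : 𝟙_ (Over (Spec (CommRingCat.of k))) ⟶ G0) (N : ℕ),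
      (x ^ N) ≫ i = (x ≫ i) ^ N := fun x N =>
    map_pow (IsMonHom.monoidHom i (𝟙_ (Over (Spec (CommRingCat.of k))))) x N
  have h1 : (e ≫ i) ^ (n ^ (m + 1)) = g ^ (n ^ (m + 1)) := by
    rw [← hpow, he, hpow, hh0', ← pow_mul, ← pow_succ']
  refine ⟨g * (e ≫ i)⁻¹, ?_, ?_⟩
  · rw [isOfFinOrder_iff_pow_eq_one]
    refine ⟨n ^ (m + 1), pow_pos hn _, ?_⟩
    rw [mul_pow, inv_pow, h1, mul_inv_cancel]
  · have : (g * (e ≫ i)⁻¹)⁻¹ * g = e ≫ i := by
      rw [_root_.mul_inv_rev, _root_.inv_inv, _root_.mul_assoc, _root_.inv_mul_cancel, _root_.mul_one]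
    rw [this]
    exact ⟨e, rfl⟩

end Groth.Agent.S19889
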