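import Groth.Statements.S1989
import Mathlib
import Groth.Agent.Lib.Helper14EtRam

set_option linter.style.haveILetI false

set_option autoImplicit false
universe u
open EtAlg

namespace Groth.Agent.S1989

/-- Let K be the fraction field of a discrete valuation ring A, and K ⊂ L ⊂ M finite separable
extensions. If M is tamely ramified, respectively unramified, with respect to A, then so is L. -/
theorem result (A K : Type u) [CommRing A] [IsDomain A] [IsDiscreteValuationRing A] [Field K] [Algebra A K] [IsFractionRing A K] (L M : Type u) [Field L] [Field M]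
    [Algebra K L] [Algebra K M] [Algebra L M] [IsScalarTower K L M] [FiniteDimensional K M] [Algebra.IsSeparable K M] :
    (EtRam.IsTamelyRamified A ((algebraMap K M).comp (algebraMap A K)) →
      EtRam.IsTamelyRamified A ((algebraMap K L).comp (algebraMap A K))) ∧
    (EtRam.IsUnramifiedExt A ((algebraMap K M).comp (algebraMap A K)) →
      EtRam.IsUnramifiedExt A ((algebraMap K L).comp (algebraMap A K))) := by
  classical
  haveI : FiniteDimensional K L := FiniteDimensional.left K L M
  haveI : Algebra.IsSeparable K L := Algebra.isSeparable_tower_bot_of_isSeparable K L M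
  have hgLM : ∀ a : A, algebraMap L M (((algebraMap K L).comp (algebraMap A K)) a) =
      ((algebraMap K M).comp (algebraMap A K)) a := fun a => by
    simp only [RingHom.comp_apply]
    rw [← IsScalarTower.algebraMap_apply K L M]
  have key : ∀ (V : ValuationSubring L)
      (hV : EtRam.Dominates A ((algebraMap K L).comp (algebraMap A K)) V),
      ∃ (W : ValuationSubring M) (hW : EtRam.Dominates A ((algebraMap K M).comp (algebraMap A K)) W)
        (hVW : ∀ x : V, ((algebraMap L M).comp V.subtype) x ∈ W),
        IsLocalHom (RingHom.codRestrict ((algebraMap L M).comp V.subtype) W hVW) := by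
    intro V hV
    obtain ⟨h1, h2⟩ := (Groth.Agent.Lib.Helper14EtRam.dominates_iff _ V).mp hV
    obtain ⟨W, hW1, hW2⟩ :=
      IsLocalRing.exists_factor_valuationRing ((algebraMap L M).comp V.subtype)
    have hW0 : ∀ a : A, ((algebraMap K M).comp (algebraMap A K)) a ∈ W := fun a => by
      rw [← hgLM]
      exact hW1 ⟨_, h1 a⟩
    refine ⟨W, ?_, hW1, hW2⟩
    rw [Groth.Agent.Lib.Helper14EtRam.dominates_iff]
    refine ⟨hW0, ?_⟩
    have hcomp : RingHom.codRestrict ((algebraMap K M).comp (algebraMap A K)) W hW0 =
        (RingHom.codRestrict ((algebraMap L M).comp V.subtype) W hW1).comp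
          (RingHom.codRestrict ((algebraMap K L).comp (algebraMap A K)) V h1) := by
      ext a
      exact (hgLM a).symm
    rw [hcomp]
    haveI h3 : IsLocalHom (RingHom.codRestrict ((algebraMap L M).comp V.subtype) W hW1) := hW2
    haveI h4 : IsLocalHom (RingHom.codRestrict ((algebraMap K L).comp (algebraMap A K)) V h1) := h2
    exact RingHom.isLocalHom_comp _ _
  have hinjL : Function.Injective ((algebraMap K L).comp (algebraMap A K)) :=
    (algebraMap K L).injective.comp (IsFractionRing.injective A K)
  constructor
  · intro hM V hV
    obtain ⟨W, hW, hVW, hloc⟩ := key V hV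
    intro hlocAV
    letI iAV : Algebra A V :=
      (RingHom.codRestrict ((algebraMap K L).comp (algebraMap A K)) V hV.1).toAlgebra
    letI iVW : Algebra V W :=
      (RingHom.codRestrict ((algebraMap L M).comp V.subtype) W hVW).toAlgebra
    letI iAW : Algebra A W :=
      (RingHom.codRestrict ((algebraMap K M).comp (algebraMap A K)) W hW.1).toAlgebra
    haveI : IsScalarTower A V W := IsScalarTower.of_algebraMap_eq' (by
      ext a
      exact (hgLM a).symm)
    haveI : IsLocalHom (algebraMap V W) := hloc
    haveI : IsLocalHom (algebraMap A W) := by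
      rw [IsScalarTower.algebraMap_eq A V W]
      exact RingHom.isLocalHom_comp _ _
    haveI : IsDiscreteValuationRing V :=
      Groth.Agent.Lib.Helper14EtRam.isDiscreteValuationRing_of_dominates V hV
    haveI : IsDiscreteValuationRing W :=
      Groth.Agent.Lib.Helper14EtRam.isDiscreteValuationRing_of_dominates W hW
    have hAV : Function.Injective (algebraMap A V) := fun a b hab =>
      hinjL (congrArg Subtype.val hab)
    have hVW' : Function.Injective (algebraMap V W) := fun a b hab =>
      Subtype.ext ((algebraMap L M).injective (congrArg Subtype.val hab))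
    obtain ⟨hsep, hp⟩ := hM W hW
    refine ⟨Groth.Agent.Lib.Helper14EtRam.separable_bot (W := W), fun p hpp hchar hdvd => ?_⟩
    refine hp p hpp hchar ?_
    rw [Groth.Agent.Lib.Helper14EtRam.ramificationIdx'_tower hAV hVW']
    exact Dvd.dvd.mul_right hdvd _
  · intro hM V hV
    obtain ⟨W, hW, hVW, hloc⟩ := key V hV
    intro hlocAV
    letI iAV : Algebra A V :=
      (RingHom.codRestrict ((algebraMap K L).comp (algebraMap A K)) V hV.1).toAlgebra
    letI iVW : Algebra V W :=
      (RingHom.codRestrict ((algebraMap L M).comp V.subtype) W hVW).toAlgebra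
    letI iAW : Algebra A W :=
      (RingHom.codRestrict ((algebraMap K M).comp (algebraMap A K)) W hW.1).toAlgebra
    haveI : IsScalarTower A V W := IsScalarTower.of_algebraMap_eq' (by
      ext a
      exact (hgLM a).symm)
    haveI : IsLocalHom (algebraMap V W) := hloc
    haveI : IsLocalHom (algebraMap A W) := by
      rw [IsScalarTower.algebraMap_eq A V W]
      exact RingHom.isLocalHom_comp _ _
    haveI : IsDiscreteValuationRing V :=
      Groth.Agent.Lib.Helper14EtRam.isDiscreteValuationRing_of_dominates V hV
    haveI : IsDiscreteValuationRing W :=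
      Groth.Agent.Lib.Helper14EtRam.isDiscreteValuationRing_of_dominates W hW
    have hAV : Function.Injective (algebraMap A V) := fun a b hab =>
      hinjL (congrArg Subtype.val hab)
    have hVW' : Function.Injective (algebraMap V W) := fun a b hab =>
      Subtype.ext ((algebraMap L M).injective (congrArg Subtype.val hab))
    obtain ⟨hun, hsep⟩ := hM W hW
    exact ⟨Groth.Agent.Lib.Helper14EtRam.weaklyUnramified_bot hAV hVW' hun,
      Groth.Agent.Lib.Helper14EtRam.separable_bot (W := W)⟩

end Groth.Agent.S1989
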