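import Groth.Statements.S19890
import Mathlib

set_option autoImplicit false
universe u
open CAlg

namespace Groth.Agent.S19890

open IsLocalRing

/-- In a Noetherian integrally closed domain, a nonzero prime of height `≤ 1` is a colon ideal `(t : s)`. -/
theorem exists_colon (R : Type u) [CommRing R] [IsDomain R] [IsNoetherianRing R]
    [IsIntegrallyClosed R] (p : Ideal R) [hpp : p.IsPrime] (hp0 : p ≠ ⊥) (hht : p.height ≤ 1) :
    ∃ t ∈ p, ∃ s, s ∉ p ∧ ∀ x, x ∈ p ↔ t ∣ s * x := by
  classical
  let Rp := Localization.AtPrime p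
  have hle : p.primeCompl ≤ nonZeroDivisors R := by
    intro x hx
    exact mem_nonZeroDivisors_of_ne_zero (fun h => hx (h ▸ p.zero_mem))
  haveI : IsDomain Rp := IsLocalization.isDomain_localization hle
  haveI : IsIntegrallyClosed Rp := isIntegrallyClosed_of_isLocalization Rp p.primeCompl hle
  -- every nonzero prime of Rp is the maximal ideal
  have hprime : ∀ Q : Ideal Rp, Q ≠ ⊥ → Q.IsPrime → Q = maximalIdeal Rp := by
    intro Q hQ0 hQ
    set q := Q.comap (algebraMap R Rp) with hq
    haveI : q.IsPrime := Ideal.comap_isPrime _ _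
    have hqp : q ≤ p := by
      have := (IsLocalization.AtPrime.orderIsoOfPrime Rp p ⟨Q, hQ⟩).2.2
      exact this
    have hq0 : q ≠ ⊥ := by
      intro h
      apply hQ0
      rw [← IsLocalization.map_comap p.primeCompl Rp Q]
      change Ideal.map (algebraMap R Rp) q = ⊥
      rw [h, Ideal.map_bot]
    have hqeq : q = p := by
      by_contra hne
      have hlt : q < p := lt_of_le_of_ne hqp hne
      haveI : p.FiniteHeight := by
        rw [Ideal.finiteHeight_iff_lt]
        right
        exact lt_of_le_of_lt hht (by simp)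
      have h1 := Ideal.height_strict_mono_of_isPrime_of_isPrime hlt
      have h2 : q.height = 0 := by
        have : q.height < 1 := lt_of_lt_of_le h1 hht
        exact Order.lt_one_iff.mp this
      exact hq0 (Ideal.height_eq_zero_iff_eq_bot.mp h2)
    rw [← IsLocalization.map_comap p.primeCompl Rp Q]
    change Ideal.map (algebraMap R Rp) q = _
    rw [hqeq]
    exact Localization.AtPrime.map_eq_maximalIdeal
  have hprinc : (maximalIdeal Rp).IsPrincipal := by
    have h34 := (tfae_of_isNoetherianRing_of_isLocalRing_of_isDomain Rp).out 3 4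
    exact h34.mp ⟨(inferInstance : IsIntegrallyClosed Rp), hprime⟩
  obtain ⟨g, hg⟩ := hprinc.principal
  obtain ⟨t, u, hgtu⟩ := IsLocalization.exists_mk'_eq p.primeCompl g
  have hu : IsUnit (algebraMap R Rp u) := IsLocalization.map_units Rp u
  have hspan : maximalIdeal Rp = Ideal.span {algebraMap R Rp t} := by
    rw [hg, ← hgtu]
    change Ideal.span _ = Ideal.span _
    rw [Ideal.span_singleton_eq_span_singleton]
    refine ⟨hu.unit, ?_⟩
    rw [IsUnit.unit_spec, IsLocalization.mk'_spec]
  have htp : t ∈ p := by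
    rw [← IsLocalization.AtPrime.to_map_mem_maximal_iff Rp p, hspan]
    exact Ideal.mem_span_singleton_self _
  have hinj : Function.Injective (algebraMap R Rp) := IsLocalization.injective Rp hle
  -- each element of p is divisible by t after multiplying by some v ∉ p
  have hx : ∀ x ∈ p, ∃ v, v ∉ p ∧ t ∣ v * x := by
    intro x hxp
    have h1 : algebraMap R Rp x ∈ maximalIdeal Rp :=
      (IsLocalization.AtPrime.to_map_mem_maximal_iff Rp p x).mpr hxp
    rw [hspan, Ideal.mem_span_singleton] at h1
    obtain ⟨y, hy⟩ := h1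
    obtain ⟨c, v, hcv⟩ := IsLocalization.exists_mk'_eq p.primeCompl y
    refine ⟨v, v.2, c, ?_⟩
    apply hinj
    rw [map_mul, map_mul, hy, ← hcv, mul_comm (algebraMap R Rp v), mul_assoc,
      IsLocalization.mk'_spec]
  obtain ⟨S, hS⟩ := (isNoetherianRing_iff_ideal_fg R).mp inferInstance p
  choose! v hv using hx
  have hSp : ∀ x ∈ S, x ∈ p := fun x hx => hS ▸ Ideal.subset_span hx
  refine ⟨t, htp, ∏ x ∈ S, v x, ?_, ?_⟩
  · intro h
    obtain ⟨x, hxS, hvx⟩ := (Ideal.IsPrime.prod_mem_iff).mp h
    exact (hv x (hSp x hxS)).1 hvx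
  · intro x
    constructor
    · intro hxp
      rw [← hS] at hxp
      refine Submodule.span_induction (p := fun x _ => t ∣ (∏ x ∈ S, v x) * x) ?_ ?_ ?_ ?_ hxp
      · intro y hyS
        obtain ⟨c, hc⟩ := (hv y (hSp y hyS)).2
        rw [← Finset.mul_prod_erase S v hyS, mul_right_comm, hc]
        exact ⟨c * ∏ x ∈ S.erase y, v x, by ring⟩
      · simp
      · intro a b _ _ ha hb
        rw [mul_add]; exact dvd_add ha hb
      · intro r a _ ha
        rw [smul_eq_mul, mul_left_comm]; exact Dvd.dvd.mul_left ha r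
    · rintro ⟨c, hc⟩
      have h1 : (∏ x ∈ S, v x) * x ∈ p := by rw [hc]; exact p.mul_mem_right _ htp
      rcases hpp.mem_or_mem h1 with h2 | h2
      · obtain ⟨y, hyS, hvy⟩ := (Ideal.IsPrime.prod_mem_iff).mp h2
        exact absurd hvy (hv y (hSp y hyS)).1
      · exact h2

/-- Colon ideals commute with flat base change (the form needed here). -/
theorem mem_map_iff_dvd {R R' : Type u} [CommRing R] [CommRing R'] [Algebra R R'] [Module.Flat R R']
    (p : Ideal R) (t s : R) (h : ∀ x, x ∈ p ↔ t ∣ s * x) (y : R') :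
    y ∈ p.map (algebraMap R R') ↔ algebraMap R R' t ∣ algebraMap R R' s * y := by
  constructor
  · intro hy
    refine Submodule.span_induction
      (p := fun y _ => algebraMap R R' t ∣ algebraMap R R' s * y) ?_ ?_ ?_ ?_ hy
    · rintro _ ⟨x, hx, rfl⟩
      obtain ⟨c, hc⟩ := (h x).mp hx
      exact ⟨algebraMap R R' c, by rw [← map_mul, ← map_mul, hc]⟩
    · simp
    · intro a b _ _ ha hb
      rw [mul_add]; exact dvd_add ha hb
    · intro r a _ ha
      rw [smul_eq_mul, mul_left_comm]; exact Dvd.dvd.mul_left ha r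
  · rintro ⟨z, hz⟩
    have hrel : ∑ i : Fin 2, (![s, -t] i) • (![y, z] i) = 0 := by
      simp only [Fin.sum_univ_two, Matrix.cons_val_zero, Matrix.cons_val_one,
        Algebra.smul_def, map_neg]
      rw [hz]; ring
    obtain ⟨k, a, w, hxw, hfa⟩ := Module.Flat.isTrivialRelation_of_sum_smul_eq_zero
      (R := R) (M := R') (f := ![s, -t]) (x := ![y, z]) hrel
    have hy : y = ∑ j, a 0 j • w j := by simpa using hxw 0
    rw [hy]
    refine Ideal.sum_mem _ (fun j _ => ?_)
    rw [Algebra.smul_def]
    refine Ideal.mul_mem_right _ _ (Ideal.mem_map_of_mem _ ?_)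
    rw [h]
    have := hfa j
    simp only [Fin.sum_univ_two, Matrix.cons_val_zero, Matrix.cons_val_one] at this
    exact ⟨a 1 j, by linear_combination this⟩

/-- In a UFD, a colon ideal `(t : s)` with `t ≠ 0` is principal. -/
theorem exists_span_eq_of_dvd {R' : Type u} [CommRing R'] [IsDomain R'] [UniqueFactorizationMonoid R']
    (I : Ideal R') (t s : R') (ht : t ≠ 0) (h : ∀ y, y ∈ I ↔ t ∣ s * y) :
    ∃ c, I = Ideal.span {c} := by
  obtain ⟨t₁, s₁, d, hrel, hdt, hds⟩ := UniqueFactorizationMonoid.exists_reduced_factors t ht s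
  have hd : d ≠ 0 := by rintro rfl; exact ht (by rw [← hdt, zero_mul])
  refine ⟨t₁, ?_⟩
  ext y
  rw [h, Ideal.mem_span_singleton, ← hdt, ← hds, mul_assoc, mul_dvd_mul_iff_left hd]
  constructor
  · intro hy
    exact hrel.dvd_of_dvd_mul_left hy
  · intro hy
    exact Dvd.dvd.mul_left hy s₁

/-- Descent of principality along a faithfully flat map to a local domain. -/
theorem exists_span_eq_of_map {R R' : Type u} [CommRing R] [CommRing R'] [IsDomain R']
    [IsLocalRing R'] [IsNoetherianRing R] [Algebra R R'] [Module.FaithfullyFlat R R']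
    (p : Ideal R) (c : R') (hc : p.map (algebraMap R R') = Ideal.span {c}) :
    ∃ x, p = Ideal.span {x} := by
  classical
  by_cases hc0 : c = 0
  · refine ⟨0, ?_⟩
    rw [← Ideal.comap_map_eq_self_of_faithfullyFlat (B := R') p, hc, hc0]
    simp only [Set.singleton_zero, Ideal.span_zero]
    rw [← Ideal.comap_map_eq_self_of_faithfullyFlat (B := R') (⊥ : Ideal R), Ideal.map_bot]
  obtain ⟨S, hS⟩ := (isNoetherianRing_iff_ideal_fg R).mp inferInstance p
  -- c is a combination of the generators
  have hcmem : c ∈ Ideal.span ((S.image (algebraMap R R') : Finset R') : Set R') := by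
    rw [Finset.coe_image, ← Ideal.map_span, hS, hc]
    exact Ideal.mem_span_singleton_self c
  obtain ⟨f, hf⟩ := Submodule.mem_span_finset'.mp hcmem
  have hmem : ∀ a ∈ S.image (algebraMap R R'), ∃ r, a = c * r := by
    intro a ha
    obtain ⟨x, hxS, rfl⟩ := Finset.mem_image.mp ha
    have : algebraMap R R' x ∈ p.map (algebraMap R R') :=
      Ideal.mem_map_of_mem _ (hS ▸ Ideal.subset_span hxS)
    rw [hc, Ideal.mem_span_singleton] at this
    exact this
  choose! r hr using hmem
  have hsum : ∑ a : (S.image (algebraMap R R') : Finset R'), f a * r a = 1 := by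
    have h1 : c * ∑ a : (S.image (algebraMap R R') : Finset R'), f a * r a = c * 1 := by
      rw [mul_one, Finset.mul_sum]
      conv_rhs => rw [← hf]
      refine Finset.sum_congr rfl (fun a _ => ?_)
      rw [smul_eq_mul]
      conv_rhs => rw [hr a a.2]
      ring
    exact mul_left_cancel₀ hc0 h1
  have hex : ∃ a : (S.image (algebraMap R R') : Finset R'), IsUnit (r a) := by
    by_contra hno
    push_neg at hno
    have : (1 : R') ∈ IsLocalRing.maximalIdeal R' := by
      rw [← hsum]
      refine Ideal.sum_mem _ (fun a _ => Ideal.mul_mem_left _ _ ?_)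
      exact (IsLocalRing.mem_maximalIdeal _).mpr (hno a)
    exact (Ideal.ne_top_iff_one _).mp (IsLocalRing.maximalIdeal.isMaximal R').ne_top this
  obtain ⟨⟨a, ha⟩, hua⟩ := hex
  obtain ⟨x, hxS, rfl⟩ := Finset.mem_image.mp ha
  refine ⟨x, ?_⟩
  have hmap : p.map (algebraMap R R') = (Ideal.span {x}).map (algebraMap R R') := by
    rw [hc, Ideal.map_span, Set.image_singleton, Ideal.span_singleton_eq_span_singleton]
    refine ⟨hua.unit, ?_⟩
    rw [IsUnit.unit_spec]
    exact (hr _ ha).symm
  rw [← Ideal.comap_map_eq_self_of_faithfullyFlat (B := R') p, hmap,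
    Ideal.comap_map_eq_self_of_faithfullyFlat]




/-- Let R → R' be a faithfully flat ring map between Noetherian integrally closed local domains. Then
unique factorization descends along this map: when R' is a UFD, so is R. (The first assertion of the
lemma, descent of principality for an ideal whose extension to R' is principal, is a separate
statement.) -/
theorem result
    (R R' : Type u) [CommRing R] [CommRing R'] [IsDomain R] [IsDomain R']
    [IsNoetherianRing R] [IsNoetherianRing R'] [IsLocalRing R] [IsLocalRing R']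
    [IsIntegrallyClosed R] [IsIntegrallyClosed R']
    [Algebra R R'] [Module.FaithfullyFlat R R'] [UniqueFactorizationMonoid R'] :
    UniqueFactorizationMonoid R := by
  rw [UniqueFactorizationMonoid.iff_exists_prime_mem_of_isPrime]
  intro P hP0 hPprime
  obtain ⟨a, haP, ha0⟩ := Submodule.exists_mem_ne_zero_of_ne_bot hP0
  obtain ⟨p, hpmin, hpP⟩ := Ideal.exists_minimalPrimes_le
    (show Ideal.span {a} ≤ P from (Ideal.span_singleton_le_iff_mem P).mpr haP)
  haveI hpp : p.IsPrime := hpmin.1.1
  have hap : a ∈ p := hpmin.1.2 (Ideal.mem_span_singleton_self a)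
  have hp0 : p ≠ ⊥ := fun h => ha0 (by rw [h] at hap; exact hap)
  have hht : p.height ≤ 1 := Ideal.height_le_one_of_isPrincipal_of_mem_minimalPrimes _ p hpmin
  obtain ⟨t, htp, s, hsp, hts⟩ := exists_colon R p hp0 hht
  have hs0 : s ≠ 0 := fun h => hsp (h ▸ p.zero_mem)
  have ht0 : t ≠ 0 := by
    rintro rfl
    apply hp0
    rw [eq_bot_iff]
    intro x hx
    have := (hts x).mp hx
    rw [zero_dvd_iff] at this
    exact (mul_eq_zero.mp this).resolve_left hs0
  have hinj : Function.Injective (algebraMap R R') := FaithfulSMul.algebraMap_injective R R'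
  obtain ⟨c, hc⟩ := exists_span_eq_of_dvd (p.map (algebraMap R R')) (algebraMap R R' t)
    (algebraMap R R' s) ((map_ne_zero_iff _ hinj).mpr ht0) (mem_map_iff_dvd p t s hts)
  obtain ⟨π, hπ⟩ := exists_span_eq_of_map p c hc
  have hπ0 : π ≠ 0 := by
    rintro rfl
    apply hp0
    rw [hπ]
    simp
  refine ⟨π, hpP (hπ ▸ Ideal.mem_span_singleton_self π), ?_⟩
  rw [← Ideal.span_singleton_prime hπ0, ← hπ]
  exact hpp

end Groth.Agent.S19890
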