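import Groth.Statements.S19895
import Mathlib
import Groth.Agent.Lib.Helper11VerlindeSchur

set_option autoImplicit false
open Complex
open VerlindeComb

namespace Groth.Agent.S19895
open Groth.Agent.Verl


/-- Fix integers r ≥ 2 and k ≥ 1, and two partitions λ, λ' with k ≥ λ_1 ≥ ⋯ ≥ λ_{r-1} ≥ λ_r = 0 and k ≥
λ'_1 ≥ ⋯ ≥ λ'_{r-1} ≥ λ'_r = 0 such that λ is not equivalent to the dual partition λ'* = (k − λ'_r,
…, k − λ'_1), two integer vectors being equivalent when their difference is a constant vector (a, …,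
a). For an integer vector v with r + k > v_1 > ⋯ > v_{r-1} > v_r = 0 put z(v)_j = exp(2πi v_j / (r +
k)), let S_μ(v) = det(z(v)_j^{μ_i + r − i}) / det(z(v)_j^{r − i}) be the Schur value and P(v) =
∏_{i<j} (2 sin(π (v_i − v_j)/(r + k)))². Then the sum over all such v of exp(−2πi (|λ| + |λ'|) (v_1
+ ⋯ + v_r) / (r (r + k))) · S_λ(v) · S_{λ'}(v) · P(v) vanishes; that is, the genus-zero Verlinde
number of rank r, degree 0 and level k with two parabolic points of types λ, λ' is zero. (Only the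
vanishing case is stated; the complementary case, where the number equals 1, is not part of this
statement. The source allows r = 1, where the non-equivalence hypothesis cannot hold.) Indices are
0-based below: lam i stands for λ_{i+1}. -/
theorem result (r k : ℕ) (hr : 2 ≤ r)
    (hk : 1 ≤ k) (lam lam' : Fin r → ℕ) (hlam : Antitone lam) (hlamk : ∀ i, lam i ≤ k)
    (hlam0 : ∀ i : Fin r, (i : ℕ) = r - 1 → lam i = 0)
    (hlam' : Antitone lam') (hlam'k : ∀ i, lam' i ≤ k) (hlam'0 : ∀ i : Fin r, (i : ℕ) = r - 1 → lam' i = 0)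
    (hne : ¬ ∃ a : ℤ, ∀ i, (lam i : ℤ) - ((k - lam' (Fin.rev i) : ℕ) : ℤ) = a)
    (z : (Fin r → ℕ) → Fin r → ℂ)
    (hz : ∀ v j, z v j = Complex.exp (2 * Real.pi * Complex.I * (v j : ℂ) / ((r : ℂ) + k)))
    (S : (Fin r → ℕ) → (Fin r → ℕ) → ℂ)
    (hS : ∀ μ v, S μ v = (Matrix.of fun i j : Fin r => z v j ^ (μ i + (r - 1 - (i : ℕ)))).det /
        (Matrix.of fun i j : Fin r => z v j ^ (r - 1 - (i : ℕ))).det)
    (P : (Fin r → ℕ) → ℝ)
    (hP : ∀ v, P v = ∏ p ∈ (Finset.univ : Finset (Fin r × Fin r)).filter (fun p => p.1 < p.2),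
        ((2 : ℝ) * Real.sin (Real.pi * ((v p.1 : ℝ) - (v p.2 : ℝ)) / ((r : ℝ) + k))) ^ 2) :
    (∑ v ∈ (Finset.univ : Finset (Fin r → Fin (r + k))).filter
        (fun v : Fin r → Fin (r + k) => StrictAnti v ∧ ∀ i : Fin r, (i : ℕ) = r - 1 → (v i : ℕ) = 0),
      Complex.exp (-(2 * Real.pi * Complex.I * (((∑ i, lam i) + (∑ i, lam' i) : ℕ) : ℂ) *
          ((∑ j, (v j : ℕ) : ℕ) : ℂ) / ((r : ℂ) * ((r : ℂ) + k)))) *
        S lam (fun j => (v j : ℕ)) * S lam' (fun j => (v j : ℕ)) * (P (fun j => (v j : ℕ)) : ℂ)) = 0 := by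
  classical
  have hN : r + k ≠ 0 := by omega
  have hr0 : r ≠ 0 := by omega
  -- the two strictly decreasing exponent vectors
  set n : Fin r → ℤ := fun i => ((lam i : ℕ) : ℤ) + delta r i with hn_def
  set n'' : Fin r → ℤ := fun i => ((lam' i : ℕ) : ℤ) + delta r i with hn''_def
  set n' : Fin r → ℤ := fun i => (((r + k : ℕ) : ℤ) - 1) - n'' (Fin.rev i) with hn'_def
  have hdiff : ∀ i, n i - n' i = (lam i : ℤ) + (lam' (Fin.rev i) : ℤ) - k := by
    intro i
    have h1 := delta_add_rev i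
    simp only [hn_def, hn'_def, hn''_def]
    push_cast
    omega
  have hn : StrictAnti n := by
    intro i j hij
    have h1 := hlam hij.le
    have h2 : delta r j < delta r i := by
      unfold delta
      have := i.2
      have := j.2
      rw [Fin.lt_def] at hij
      omega
    simp only [hn_def]
    omega
  have hn' : StrictAnti n' := by
    intro i j hij
    have h0 : Fin.rev j ≤ Fin.rev i := Fin.rev_le_rev.mpr hij.le
    have h1 := hlam' h0
    have h2 : delta r (Fin.rev i) < delta r (Fin.rev j) := by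
      unfold delta
      have := i.2
      have := j.2
      rw [Fin.lt_def] at hij
      simp only [Fin.val_rev]
      omega
    simp only [hn'_def, hn''_def]
    omega
  have hnr : ∀ i, 0 ≤ n i ∧ n i < ((r + k : ℕ) : ℤ) := by
    intro i
    have h1 := hlamk i
    have h2 : 0 ≤ delta r i ∧ delta r i ≤ (r : ℤ) - 1 := by
      unfold delta
      have := i.2
      omega
    simp only [hn_def]
    push_cast
    omega
  have hn'r : ∀ i, 0 ≤ n' i ∧ n' i < ((r + k : ℕ) : ℤ) := by
    intro i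
    have h1 := hlam'k (Fin.rev i)
    have h2 : 0 ≤ delta r (Fin.rev i) ∧ delta r (Fin.rev i) ≤ (r : ℤ) - 1 := by
      unfold delta
      have := (Fin.rev i).2
      omega
    simp only [hn'_def, hn''_def]
    push_cast
    omega
  have hne' : ¬ ∃ a : ℤ, ∀ i, n i - n' i = a := by
    rintro ⟨a, ha⟩
    apply hne
    refine ⟨a, fun i => ?_⟩
    have h1 := ha i
    rw [hdiff i] at h1
    have h2 := hlam'k (Fin.rev i)
    omega
  have hD : ∑ i, n i - ∑ i, n' i
      = (((∑ i, lam i) + (∑ i, lam' i) : ℕ) : ℤ) - (r : ℤ) * k := by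
    rw [← Finset.sum_sub_distrib]
    rw [Finset.sum_congr rfl (fun i _ => hdiff i)]
    rw [Finset.sum_sub_distrib, Finset.sum_add_distrib]
    have h1 : ∑ i : Fin r, ((lam' (Fin.rev i) : ℕ) : ℤ) = ∑ i : Fin r, ((lam' i : ℕ) : ℤ) :=
      Equiv.sum_comp (Fin.revPerm : Equiv.Perm (Fin r)) (fun i => ((lam' i : ℕ) : ℤ))
    rw [h1]
    simp only [Finset.sum_const, Finset.card_univ, Fintype.card_fin, nsmul_eq_mul]
    push_cast
    ring
  have hsummand : ∀ v ∈ (Finset.univ : Finset (Fin r → Fin (r + k))).filter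
      (fun v : Fin r → Fin (r + k) => StrictAnti v ∧ ∀ i : Fin r, (i : ℕ) = r - 1 → (v i : ℕ) = 0),
      Complex.exp (-(2 * Real.pi * Complex.I * (((∑ i, lam i) + (∑ i, lam' i) : ℕ) : ℂ) *
          ((∑ j, (v j : ℕ) : ℕ) : ℂ) / ((r : ℂ) * ((r : ℂ) + k)))) *
        S lam (fun j => (v j : ℕ)) * S lam' (fun j => (v j : ℕ)) * (P (fun j => (v j : ℕ)) : ℂ)
      = Fz (r + k) n n' (∑ i, n i - ∑ i, n' i) (tupZ v) := by
    intro v hv
    rw [Finset.mem_filter] at hv
    obtain ⟨-, hvsa, -⟩ := hv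
    set x : Fin r → ℤ := tupZ v with hx_def
    have hzx : ∀ j, z (fun j => (v j : ℕ)) j = ez (r + k) (x j) := by
      intro j
      rw [hz, exp_eq_ez]
      rfl
    have hxinj : ∀ i j, ((r + k : ℕ) : ℤ) ∣ x i - x j → i = j := by
      intro i j h
      apply strictAnti_inj_mod (N := r + k) (fun j => (v j : ℕ)) _ (fun i => (v i).2) i j h
      intro a b hab
      exact hvsa hab
    have hsumx : (((∑ j, (v j : ℕ) : ℕ)) : ℤ) = ∑ j, x j := by
      push_cast
      rfl
    rw [hS, hS, schur_num_eq (r + k) _ x hzx, schur_num_eq (r + k) _ x hzx,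
      schur_den_eq (r + k) _ x hzx, hP, Psin_eq r k (fun j => (v j : ℕ)), exp_neg_eq_ez]
    change _ * (Adet (r + k) n x / _) * (Adet (r + k) n'' x / _) * ((Psin (r + k) x : ℝ) : ℂ) = _
    unfold Fz
    set A := Adet (r + k) n x
    set A'' := Adet (r + k) n'' x
    set ad := Adet (r + k) (delta r) x with had
    set s : ℂ := ((Equiv.Perm.sign (Fin.revPerm : Equiv.Perm (Fin r)) : ℤ) : ℂ) with hs_def
    have hss : s * s = 1 := permSign_mul_self _
    have hsc : (starRingEnd ℂ) s = s := permSign_conj _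
    have had0 : ad ≠ 0 := Adet_delta_ne_zero (r + k) hN x hxinj
    have h1 : (starRingEnd ℂ) ad = s * (ez (r + k) (-((r : ℤ) - 1) * ∑ j, x j) * ad) :=
      Adet_delta_conj (r + k) x
    have h2 : ad * (starRingEnd ℂ) ad = ((Psin (r + k) x : ℝ) : ℂ) := Adet_delta_normSq (r + k) x
    have h3 : (starRingEnd ℂ) (Adet (r + k) n' x)
        = s * (ez (r + k) (-(((r + k : ℕ) : ℤ) - 1) * ∑ j, x j) * A'') := by
      rw [hn'_def, Adet_dual, map_mul, map_mul, hsc, ez_conj, Complex.conj_conj]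
      congr 3
      ring
    have hE : ez (r * (r + k)) (-((((∑ i, lam i) + (∑ i, lam' i) : ℕ) : ℤ) * ((∑ j, (v j : ℕ) : ℕ) : ℤ)))
          * ez (r + k) (-((r : ℤ) - 1) * ∑ j, x j)
        = ez (r * (r + k)) (-(∑ i, n i - ∑ i, n' i) * ∑ j, x j)
          * ez (r + k) (-(((r + k : ℕ) : ℤ) - 1) * ∑ j, x j) := by
      rw [← ez_mul_left r (r + k) hr0 (-((r : ℤ) - 1) * ∑ j, x j),
        ← ez_mul_left r (r + k) hr0 (-(((r + k : ℕ) : ℤ) - 1) * ∑ j, x j), ← ez_add, ← ez_add]
      congr 1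
      rw [hD, hsumx]
      push_cast
      ring
    calc _ = (A * A'' * s) * (ez (r * (r + k)) (-((((∑ i, lam i) + (∑ i, lam' i) : ℕ) : ℤ) * ((∑ j, (v j : ℕ) : ℕ) : ℤ)))
          * ez (r + k) (-((r : ℤ) - 1) * ∑ j, x j)) := by
            rw [← h2, h1]
            field_simp
      _ = (A * A'' * s) * (ez (r * (r + k)) (-(∑ i, n i - ∑ i, n' i) * ∑ j, x j)
          * ez (r + k) (-(((r + k : ℕ) : ℤ) - 1) * ∑ j, x j)) := by rw [hE]
      _ = _ := by
            rw [h3]
            ring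
  rw [Finset.sum_congr rfl hsummand]
  exact core_vanish (r + k) hN n n' hn hn' hnr hn'r hne'

end Groth.Agent.S19895
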