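import Groth.Statements.S1990
import Mathlib
import Groth.Agent.Lib.Helper14EtRam

set_option linter.style.haveILetI false

set_option autoImplicit false
universe u
open EtAlg

namespace Groth.Agent.S1990

/-- Let K be the fraction field of a discrete valuation ring A, and K ⊂ L ⊂ M finite separable
extensions. If L/K is tamely ramified (resp. unramified) with respect to A and M/L is tamely
ramified (resp. unramified) with respect to every valuation subring of L dominating A, then M/K is
tamely ramified (resp. unramified) with respect to A. -/
theorem result (A K : Type u) [CommRing A] [IsDomain A] [IsDiscreteValuationRing A] [Field K] [Algebra A K] [IsFractionRing A K] (L M : Type u) [Field L] [Field M]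
    [Algebra K L] [Algebra K M] [Algebra L M] [IsScalarTower K L M] [FiniteDimensional K M] [Algebra.IsSeparable K M] :
    (EtRam.IsTamelyRamified A ((algebraMap K L).comp (algebraMap A K)) →
      (∀ (V : ValuationSubring L), EtRam.Dominates A ((algebraMap K L).comp (algebraMap A K)) V →
        EtRam.IsTamelyRamified V ((algebraMap L M).comp V.subtype)) →
      EtRam.IsTamelyRamified A ((algebraMap K M).comp (algebraMap A K))) ∧
    (EtRam.IsUnramifiedExt A ((algebraMap K L).comp (algebraMap A K)) →
      (∀ (V : ValuationSubring L), EtRam.Dominates A ((algebraMap K L).comp (algebraMap A K)) V →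
        EtRam.IsUnramifiedExt V ((algebraMap L M).comp V.subtype)) →
      EtRam.IsUnramifiedExt A ((algebraMap K M).comp (algebraMap A K))) := by
  classical
  haveI : FiniteDimensional K L := FiniteDimensional.left K L M
  haveI : Algebra.IsSeparable K L := Algebra.isSeparable_tower_bot_of_isSeparable K L M
  have hgLM : ∀ a : A, algebraMap L M (((algebraMap K L).comp (algebraMap A K)) a) =
      ((algebraMap K M).comp (algebraMap A K)) a := fun a => by
    simp only [RingHom.comp_apply]
    rw [← IsScalarTower.algebraMap_apply K L M]
  have hinjL : Function.Injective ((algebraMap K L).comp (algebraMap A K)) :=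
    (algebraMap K L).injective.comp (IsFractionRing.injective A K)
  have key : ∀ (W : ValuationSubring M)
      (hW : EtRam.Dominates A ((algebraMap K M).comp (algebraMap A K)) W),
      ∃ (V : ValuationSubring L) (hV : EtRam.Dominates A ((algebraMap K L).comp (algebraMap A K)) V),
        EtRam.Dominates V ((algebraMap L M).comp V.subtype) W := by
    intro W hW
    obtain ⟨h1, h2⟩ := (Groth.Agent.Lib.Helper14EtRam.dominates_iff _ W).mp hW
    refine ⟨W.comap (algebraMap L M), ?_, ?_⟩
    · rw [Groth.Agent.Lib.Helper14EtRam.dominates_iff]
      have h0 : ∀ a : A, ((algebraMap K L).comp (algebraMap A K)) a ∈ W.comap (algebraMap L M) :=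
        fun a => by
          rw [ValuationSubring.mem_comap, hgLM]
          exact h1 a
      refine ⟨h0, ?_⟩
      have hcomp : RingHom.codRestrict ((algebraMap K M).comp (algebraMap A K)) W h1 =
          (EtRam.inclOfComap W (algebraMap L M)).comp
            (RingHom.codRestrict ((algebraMap K L).comp (algebraMap A K))
              (W.comap (algebraMap L M)) h0) := by
        ext a
        exact (hgLM a).symm
      rw [hcomp] at h2
      exact isLocalHom_of_comp _ (EtRam.inclOfComap W (algebraMap L M))
    · rw [Groth.Agent.Lib.Helper14EtRam.dominates_iff]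
      refine ⟨fun x => x.2, ?_⟩
      exact EtRam.isLocalHom_inclOfComap W (algebraMap L M)
  constructor
  · intro hL hML W hW
    obtain ⟨V, hV, hVW⟩ := key W hW
    intro hlocAW
    letI iAV : Algebra A V :=
      (RingHom.codRestrict ((algebraMap K L).comp (algebraMap A K)) V hV.1).toAlgebra
    letI iVW : Algebra V W :=
      (RingHom.codRestrict ((algebraMap L M).comp V.subtype) W hVW.1).toAlgebra
    letI iAW : Algebra A W :=
      (RingHom.codRestrict ((algebraMap K M).comp (algebraMap A K)) W hW.1).toAlgebra
    haveI : IsScalarTower A V W := IsScalarTower.of_algebraMap_eq' (by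
      ext a
      exact (hgLM a).symm)
    haveI hlocAV : IsLocalHom (algebraMap A V) := by
      obtain ⟨h1, h2⟩ := (Groth.Agent.Lib.Helper14EtRam.dominates_iff _ V).mp hV
      exact h2
    haveI hlocVW : IsLocalHom (algebraMap V W) := by
      obtain ⟨h1, h2⟩ := (Groth.Agent.Lib.Helper14EtRam.dominates_iff _ W).mp hVW
      exact h2
    haveI : IsDiscreteValuationRing V :=
      Groth.Agent.Lib.Helper14EtRam.isDiscreteValuationRing_of_dominates V hV
    haveI : IsDiscreteValuationRing W :=
      Groth.Agent.Lib.Helper14EtRam.isDiscreteValuationRing_of_dominates W hW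
    have hAV : Function.Injective (algebraMap A V) := fun a b hab =>
      hinjL (congrArg Subtype.val hab)
    have hVW' : Function.Injective (algebraMap V W) := fun a b hab =>
      Subtype.ext ((algebraMap L M).injective (congrArg Subtype.val hab))
    obtain ⟨hsep1, hp1⟩ := hL V hV
    obtain ⟨hsep2, hp2⟩ := hML V hV W hVW
    refine ⟨Groth.Agent.Lib.Helper14EtRam.separable_trans (V := V), fun p hpp hchar hdvd => ?_⟩
    rw [Groth.Agent.Lib.Helper14EtRam.ramificationIdx'_tower hAV hVW'] at hdvd
    rcases (Nat.Prime.dvd_mul hpp).mp hdvd with h | h
    · exact hp1 p hpp hchar h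
    · haveI : CharP (IsLocalRing.ResidueField V) p :=
        charP_of_injective_algebraMap
          (algebraMap (IsLocalRing.ResidueField A) (IsLocalRing.ResidueField V)).injective p
      exact hp2 p hpp inferInstance h
  · intro hL hML W hW
    obtain ⟨V, hV, hVW⟩ := key W hW
    intro hlocAW
    letI iAV : Algebra A V :=
      (RingHom.codRestrict ((algebraMap K L).comp (algebraMap A K)) V hV.1).toAlgebra
    letI iVW : Algebra V W :=
      (RingHom.codRestrict ((algebraMap L M).comp V.subtype) W hVW.1).toAlgebra
    letI iAW : Algebra A W :=
      (RingHom.codRestrict ((algebraMap K M).comp (algebraMap A K)) W hW.1).toAlgebra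
    haveI : IsScalarTower A V W := IsScalarTower.of_algebraMap_eq' (by
      ext a
      exact (hgLM a).symm)
    haveI hlocAV : IsLocalHom (algebraMap A V) := by
      obtain ⟨h1, h2⟩ := (Groth.Agent.Lib.Helper14EtRam.dominates_iff _ V).mp hV
      exact h2
    haveI hlocVW : IsLocalHom (algebraMap V W) := by
      obtain ⟨h1, h2⟩ := (Groth.Agent.Lib.Helper14EtRam.dominates_iff _ W).mp hVW
      exact h2
    haveI : IsDiscreteValuationRing V :=
      Groth.Agent.Lib.Helper14EtRam.isDiscreteValuationRing_of_dominates V hV
    haveI : IsDiscreteValuationRing W :=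
      Groth.Agent.Lib.Helper14EtRam.isDiscreteValuationRing_of_dominates W hW
    have hAV : Function.Injective (algebraMap A V) := fun a b hab =>
      hinjL (congrArg Subtype.val hab)
    have hVW' : Function.Injective (algebraMap V W) := fun a b hab =>
      Subtype.ext ((algebraMap L M).injective (congrArg Subtype.val hab))
    obtain ⟨hun1, hsep1⟩ := hL V hV
    obtain ⟨hun2, hsep2⟩ := hML V hV W hVW
    exact ⟨Groth.Agent.Lib.Helper14EtRam.weaklyUnramified_trans hun1 hun2,
      Groth.Agent.Lib.Helper14EtRam.separable_trans (V := V)⟩

end Groth.Agent.S1990
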