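import Groth.Statements.S19912
-- import your own Groth.Agent.* helpers here
import Groth.Agent.Lib.Helper5RLR

set_option autoImplicit false
universe u
open CategoryTheory CategoryTheory.Limits AlgebraicGeometry
open Models

namespace Groth.Agent.S19912

theorem comp_eq (R : Type u) [CommRing R]
    (YR : Over (Spec (CommRingCat.of R)))
    (V : Type u) [CommRing V] [IsLocalRing V] [Algebra R V]
    (σ : Spec (CommRingCat.of V) ⟶ YR.left)
    (hσ : σ ≫ YR.hom = Spec.map (CommRingCat.ofHom (algebraMap R V))) (r : R) :
    (Scheme.stalkClosedPointTo (R := CommRingCat.of V) σ).hom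
      (Models.stalkHom R YR (σ.base (IsLocalRing.closedPoint V)) r) = algebraMap R V r := by
  have h1 := Scheme.germ_stalkClosedPointTo (R := CommRingCat.of V) σ ⊤ trivial
  have h2 : (Scheme.ΓSpecIso (CommRingCat.of R)).inv ≫ YR.hom.appTop ≫
      YR.left.presheaf.germ ⊤ (σ.base (IsLocalRing.closedPoint V)) trivial ≫
      Scheme.stalkClosedPointTo (R := CommRingCat.of V) σ =
      CommRingCat.ofHom (algebraMap R V) := by
    rw [h1]
    have h3 : YR.hom.appTop ≫ σ.app ⊤ = (Spec.map (CommRingCat.ofHom (algebraMap R V))).appTop := by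
      rw [← hσ]
      rfl
    rw [← Category.assoc YR.hom.appTop, h3]
    simp only [Iso.trans_hom, Functor.mapIso_hom, Iso.op_hom, eqToIso.hom, eqToHom_op]
    rw [Iso.inv_comp_eq]
    have h4 := Scheme.ΓSpecIso_naturality (CommRingCat.ofHom (algebraMap R V))
    rw [← h4]
    congr 1
  have := congrArg (fun f => f.hom r) h2
  exact this

/-- Let R be a discrete valuation ring with fraction field K and YR a scheme over Spec R. Let V be a
discrete valuation ring which is an R-algebra in such a way that the maximal ideal of R generates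
the maximal ideal of V (ramification index one), and let σ : Spec V -> YR be a morphism over Spec R
sending the closed point of Spec V to y. If the local ring of YR at y is regular, then the local
ring at y of the special fibre of YR, namely O_{YR,y}/𝔪_R O_{YR,y}, is regular. (The published
statement takes YR a normal projective flat model of a smooth projective geometrically connected
curve Y over K and phrases the hypothesis through a point Q of Y rational over an extension L of K
unramified over K with y in the closure of Q: by the valuative criterion such a point yields a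
morphism as above from the spectrum of the localization of the integral closure of R in L at a
maximal ideal over y, which is the form used here.) -/
theorem result
    (R : Type u) [CommRing R] [IsDomain R] [IsDiscreteValuationRing R]
    (YR : Over (Spec (CommRingCat.of R)))
    (V : Type u) [CommRing V] [IsDomain V] [IsDiscreteValuationRing V] [Algebra R V]
    (hV : Ideal.map (algebraMap R V) (IsLocalRing.maximalIdeal R) = IsLocalRing.maximalIdeal V)
    (σ : Spec (CommRingCat.of V) ⟶ YR.left)
    (hσ : σ ≫ YR.hom = Spec.map (CommRingCat.ofHom (algebraMap R V)))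
    (y : YR.left) (hy : σ.base (IsLocalRing.closedPoint V) = y)
    (hreg : IsRegularLocalRing (YR.left.presheaf.stalk y)) :
    IsRegularLocalRing (YR.left.presheaf.stalk y ⧸
      Ideal.map (Models.stalkHom R YR y) (IsLocalRing.maximalIdeal R)) := by
  subst hy
  set O := YR.left.presheaf.stalk (σ.base (IsLocalRing.closedPoint V)) with hO
  let ψ : O →+* V := (Scheme.stalkClosedPointTo (R := CommRingCat.of V) σ).hom
  haveI hloc : IsLocalHom ψ := Scheme.isLocalHom_stalkClosedPointTo' σ
  have hcomp : ∀ r : R, ψ (Models.stalkHom R YR _ r) = algebraMap R V r := comp_eq R YR V σ hσ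
  obtain ⟨ϖ, hϖ⟩ := IsDiscreteValuationRing.exists_irreducible R
  have hmR : IsLocalRing.maximalIdeal R = Ideal.span {ϖ} := hϖ.maximalIdeal_eq
  set t : O := Models.stalkHom R YR _ ϖ with ht
  have hmap : Ideal.map (Models.stalkHom R YR (σ.base (IsLocalRing.closedPoint V)))
      (IsLocalRing.maximalIdeal R) = Ideal.span {t} := by
    rw [hmR, Ideal.map_span, Set.image_singleton]
  set ϖ' : V := algebraMap R V ϖ with hϖ'
  have hmV : IsLocalRing.maximalIdeal V = Ideal.span {ϖ'} := by
    rw [← hV, hmR, Ideal.map_span, Set.image_singleton]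
  have hψt : ψ t = ϖ' := hcomp ϖ
  have hϖ'mem : ϖ' ∈ IsLocalRing.maximalIdeal V := by
    rw [hmV]; exact Ideal.mem_span_singleton_self _
  have hϖ'ne : ϖ' ≠ 0 := by
    intro h0
    apply IsDiscreteValuationRing.not_a_field V
    rw [hmV, h0, Ideal.span_singleton_eq_bot]
  have htmem : t ∈ IsLocalRing.maximalIdeal O := by
    rw [IsLocalRing.mem_maximalIdeal, mem_nonunits_iff]
    intro hu
    have : IsUnit (ψ t) := hu.map ψ
    rw [hψt] at this
    exact (IsLocalRing.mem_maximalIdeal _).mp hϖ'mem this
  have hmapm : Ideal.map ψ (IsLocalRing.maximalIdeal O) ≤ IsLocalRing.maximalIdeal V := by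
    rw [Ideal.map_le_iff_le_comap]
    intro a ha
    rw [Ideal.mem_comap, IsLocalRing.mem_maximalIdeal, mem_nonunits_iff]
    intro hu
    exact (IsLocalRing.mem_maximalIdeal _).mp ha (isUnit_of_map_unit ψ a hu)
  have htsq : t ∉ IsLocalRing.maximalIdeal O ^ 2 := by
    intro h
    have h1 : ψ t ∈ Ideal.map ψ (IsLocalRing.maximalIdeal O ^ 2) := Ideal.mem_map_of_mem ψ h
    rw [Ideal.map_pow] at h1
    have h2 : ψ t ∈ IsLocalRing.maximalIdeal V ^ 2 := Ideal.pow_right_mono hmapm 2 h1
    rw [hψt, hmV, Ideal.span_singleton_pow, Ideal.mem_span_singleton] at h2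
    obtain ⟨a, ha⟩ := h2
    have h3 : ϖ' * (1 - ϖ' * a) = 0 := by
      rw [mul_sub, mul_one, ← mul_assoc, ← pow_two, ← ha, sub_self]
    rcases mul_eq_zero.mp h3 with h4 | h4
    · exact hϖ'ne h4
    · have h5 : IsUnit (1 - ϖ' * a) := by
        have hm : ϖ' * a ∈ IsLocalRing.maximalIdeal V := Ideal.mul_mem_right _ _ hϖ'mem
        have := IsLocalRing.isUnit_one_sub_self_of_mem_nonunits _ hm
        exact this
      rw [h4] at h5
      exact not_isUnit_zero h5
  rw [hmap]
  haveI : IsLocalRing O := hreg.toIsLocalRing
  haveI : IsNoetherianRing O := inferInstance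
  haveI : Nontrivial (O ⧸ Ideal.span ({t} : Set O)) := by
    rw [Ideal.Quotient.nontrivial_iff]
    intro htop
    have : t ∈ IsLocalRing.maximalIdeal O := htmem
    have h1 : (1 : O) ∈ Ideal.span ({t} : Set O) := by rw [htop]; trivial
    rw [Ideal.mem_span_singleton] at h1
    exact (IsLocalRing.mem_maximalIdeal _).mp htmem (isUnit_of_dvd_one h1)
  haveI : IsLocalRing (O ⧸ Ideal.span ({t} : Set O)) :=
    IsLocalRing.of_surjective' (Ideal.Quotient.mk _) Ideal.Quotient.mk_surjective
  exact (Groth.Agent.Lib.Helper5.isRegularLocalRing_quotient_span_singleton htmem htsq).1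

end Groth.Agent.S19912
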