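import Groth.Statements.S1992
import Mathlib

set_option autoImplicit false
universe u
open Polynomial
open EtAlg

namespace Groth.Agent.S1992

open Polynomial IsLocalRing in
/-- Key: over `L = A_p` every monic polynomial becomes, after scaling roots by a unit `s`, a product
of linear factors. -/
theorem key (A : Type u) [CommRing A]
    (hA : ∀ f : A[X], f.Monic → ∃ s : Multiset A, f = (s.map fun a => X - C a).prod)
    (p : Ideal A) [p.IsPrime] (f : (Localization.AtPrime p)[X]) (hf : f.Monic) :
    ∃ (s : Localization.AtPrime p) (t : Multiset (Localization.AtPrime p)), IsUnit s ∧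
      t.card = f.natDegree ∧
      ∀ x : Localization.AtPrime p, s ^ f.natDegree * f.eval x = (t.map fun c => s * x - c).prod := by
  classical
  have hntA : Nontrivial A := by
    by_contra h
    rw [not_nontrivial_iff_subsingleton] at h
    exact (‹p.IsPrime›).ne_top (Subsingleton.elim _ _)
  set L := Localization.AtPrime p
  obtain ⟨b, hb⟩ := IsLocalization.exist_integer_multiples_of_finset p.primeCompl
    ((Finset.range (f.natDegree + 1)).image f.coeff)
  set s : L := algebraMap A L b with hs
  have hsu : IsUnit s := IsLocalization.map_units L b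
  set F : L[X] := scaleRoots f s with hF
  have hFm : F.Monic := (monic_scaleRoots_iff s).mpr hf
  have hFl : F ∈ lifts (algebraMap A L) := by
    rw [lifts_iff_coeff_lifts]
    intro i
    rw [hF, coeff_scaleRoots]
    rcases lt_trichotomy i f.natDegree with hi | hi | hi
    · obtain ⟨a, ha⟩ := hb (f.coeff i) (Finset.mem_image_of_mem _ (Finset.mem_range.mpr (by omega)))
      refine ⟨a * b ^ (f.natDegree - i - 1), ?_⟩
      rw [map_mul, map_pow, ha, Algebra.smul_def]
      have : f.natDegree - i = (f.natDegree - i - 1) + 1 := by omega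
      rw [this, pow_succ]
      simp only [Nat.add_sub_cancel]
      rw [← hs]; ring
    · refine ⟨1, ?_⟩
      rw [hi, Nat.sub_self, pow_zero, mul_one, map_one]
      exact hf.coeff_natDegree.symm
    · refine ⟨0, ?_⟩
      rw [coeff_eq_zero_of_natDegree_lt hi, zero_mul, map_zero]
  obtain ⟨G, hG, hGdeg, hGm⟩ := lifts_and_natDegree_eq_and_monic hFl hFm
  obtain ⟨t, ht⟩ := hA G hGm
  refine ⟨s, t.map (algebraMap A L), hsu, ?_, ?_⟩
  · rw [Multiset.card_map]
    have h1 : G.natDegree = t.card := by
      rw [ht, natDegree_multiset_prod_of_monic]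
      · simp
      · intro g hg
        obtain ⟨a, -, rfl⟩ := Multiset.mem_map.mp hg
        exact monic_X_sub_C a
    rw [← h1, hGdeg, hF, natDegree_scaleRoots]
  · intro x
    have h1 : F.eval (s * x) = s ^ f.natDegree * f.eval x := by
      have := scaleRoots_eval₂_mul (p := f) (RingHom.id L) x s
      exact this
    rw [← h1, ← hG, ht, Polynomial.map_multiset_prod, eval_multiset_prod]
    simp [Multiset.map_map]

/-- Let A be an absolutely integrally closed ring, i.e. every monic polynomial over A is a product of
linear factors X - a. Then for every prime p of A the localization A_p is a strictly henselian local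
ring (henselian with separably closed residue field). -/
theorem result (A : Type u) [CommRing A]
    (hA : ∀ f : A[X], f.Monic → ∃ s : Multiset A, f = (s.map fun a => X - C a).prod)
    (p : Ideal A) [p.IsPrime] :
    EtCoh.IsStrictlyHenselianLocalRing (Localization.AtPrime p) := by
  classical
  set L := Localization.AtPrime p
  have hH : HenselianLocalRing L := by
    refine { (inferInstance : IsLocalRing L) with is_henselian := ?_ }
    intro f hf a₀ h₁ _
    obtain ⟨s, t, hsu, -, hst⟩ := key A hA p f hf
    have h2 : (t.map fun c => s * a₀ - c).prod ∈ IsLocalRing.maximalIdeal L := by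
      rw [← hst]; exact Ideal.mul_mem_left _ _ h₁
    obtain ⟨y, hy, hym⟩ :=
      ((IsLocalRing.maximalIdeal.isMaximal L).isPrime.multiset_prod_mem_iff_exists_mem _).mp h2
    obtain ⟨c, hc, rfl⟩ := Multiset.mem_map.mp hy
    obtain ⟨u, rfl⟩ := hsu
    refine ⟨↑u⁻¹ * c, ?_, ?_⟩
    · have h3 := hst (↑u⁻¹ * c)
      have h4 : (t.map fun c' => (u : L) * (↑u⁻¹ * c) - c').prod = 0 := by
        apply Multiset.prod_eq_zero
        rw [Multiset.mem_map]
        exact ⟨c, hc, by rw [← mul_assoc, Units.mul_inv, one_mul, sub_self]⟩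
      rw [h4] at h3
      have h5 : IsUnit ((u : L) ^ f.natDegree) := (u.isUnit).pow _
      exact (h5.mul_right_eq_zero).mp h3
    · have : ↑u⁻¹ * c - a₀ = -(↑u⁻¹ * ((u : L) * a₀ - c)) := by
        rw [mul_sub, ← mul_assoc, Units.inv_mul, one_mul]; ring
      rw [this]
      exact (Ideal.neg_mem_iff _).mpr (Ideal.mul_mem_left _ _ hym)
  refine ⟨hH, ?_⟩
  apply IsSepClosed.of_exists_root
  intro q hqm hqi _
  have hsurj : Function.Surjective (IsLocalRing.residue L) := IsLocalRing.residue_surjective
  have hql : q ∈ Polynomial.lifts (IsLocalRing.residue L) := Polynomial.mem_lifts_of_surjective hsurj q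
  obtain ⟨f, hfq, hfdeg, hfm⟩ := Polynomial.lifts_and_natDegree_eq_and_monic hql hqm
  obtain ⟨s, t, hsu, htc, hst⟩ := key A hA p f hfm
  have hdeg : 0 < f.natDegree := by
    rw [hfdeg]; exact Polynomial.natDegree_pos_iff_degree_pos.mpr (Polynomial.degree_pos_of_irreducible hqi)
  have hne : t ≠ 0 := by
    intro h0; rw [h0, Multiset.card_zero] at htc; omega
  obtain ⟨c, hc⟩ := Multiset.exists_mem_of_ne_zero hne
  obtain ⟨u, rfl⟩ := hsu
  have h3 := hst (↑u⁻¹ * c)
  have h4 : (t.map fun c' => (u : L) * (↑u⁻¹ * c) - c').prod = 0 := by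
    apply Multiset.prod_eq_zero
    rw [Multiset.mem_map]
    exact ⟨c, hc, by rw [← mul_assoc, Units.mul_inv, one_mul, sub_self]⟩
  rw [h4] at h3
  have h5 : IsUnit ((u : L) ^ f.natDegree) := (u.isUnit).pow _
  have h6 : f.eval (↑u⁻¹ * c) = 0 := (h5.mul_right_eq_zero).mp h3
  refine ⟨IsLocalRing.residue L (↑u⁻¹ * c), ?_⟩
  rw [← hfq, Polynomial.eval_map, Polynomial.eval₂_at_apply, h6, map_zero]

end Groth.Agent.S1992
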