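import Groth.Statements.S1993
import Groth.Agent.Lib.Helper2HenselPair
import Groth.Agent.S0507

set_option autoImplicit false
universe u
open EtAlg

namespace Groth.Agent.S1993

open Groth.Agent.Lib.Helper2 IsLocalRing in
theorem forward (A B : Type u) [CommRing A] [IsLocalRing A] [CommRing B]
    [IsLocalRing B] [Algebra A B] [IsLocalHom (algebraMap A B)]
    (h : Hensel.IsHenselization A B) :
    Hens2.IsPairHenselization A (IsLocalRing.maximalIdeal A) B := by
  have hB : HenselianLocalRing B := h.henselian
  have hmax : Ideal.map (algebraMap A B) (maximalIdeal A) = maximalIdeal B :=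
    Groth.Agent.S0507.result A B
  refine ⟨?_, ?_⟩
  · rw [hmax]; infer_instance
  · intro C _ J f hJ hfJ
    by_cases hC : Subsingleton C
    · let g : B →+* C :=
        { toFun := fun _ => 0
          map_one' := Subsingleton.elim _ _
          map_mul' := fun _ _ => Subsingleton.elim _ _
          map_zero' := rfl
          map_add' := fun _ _ => Subsingleton.elim _ _ }
      refine ⟨g, RingHom.ext fun _ => Subsingleton.elim _ _, fun g' _ => RingHom.ext fun _ => Subsingleton.elim _ _⟩
    · have hnt : Nontrivial C := not_subsingleton_iff_nontrivial.mp hC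
      let T := pairSubring f J
      have hT : HenselianLocalRing T := henselianLocalRing_pairSubring f J hfJ
      let fT : A →+* T := f.codRestrict T (map_mem_pairSubring f J)
      have hfT : T.subtype.comp fT = f := by ext a; rfl
      have hunit : ∀ t : T, IsUnit t → (t : C) ∉ J := by
        intro t hu htJ
        obtain ⟨v, hv⟩ := hu.exists_right_inv
        have h1 : (1 : C) ∈ J := by
          have : (t : C) * (v : C) = 1 := congrArg Subtype.val hv
          rw [← this]; exact J.mul_mem_right _ htJ
        have h2 : J = ⊤ := (Ideal.eq_top_iff_one J).mpr h1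
        have h3 : Ideal.jacobson (⊥ : Ideal C) = ⊤ := top_le_iff.mp (h2 ▸ hJ.jac)
        exact bot_ne_top (Ideal.jacobson_eq_top_iff.mp h3)
      have hfTloc : IsLocalHom fT := by
        constructor
        intro a ha
        by_contra hna
        have ham : a ∈ maximalIdeal A := by rwa [mem_maximalIdeal, mem_nonunits_iff]
        exact hunit _ ha (hfJ (Ideal.mem_map_of_mem f ham))
      obtain ⟨g, hg, hguniq⟩ := h.universal T fT hfTloc
      refine ⟨T.subtype.comp g, ?_, ?_⟩
      · show (T.subtype.comp g).comp (algebraMap A B) = f
        rw [RingHom.comp_assoc, hg, hfT]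
      · intro g' hg'
        have hg'mem : ∀ b : B, g' b ∈ T := by
          intro b
          obtain ⟨a, ha⟩ := henselization_exists_sub_mem A B b
          refine ⟨a, ?_⟩
          have h1 : g' b - f a = g' (b - algebraMap A B a) := by
            rw [map_sub]
            congr 1
            exact (RingHom.congr_fun hg' a).symm
          rw [h1]
          have h2 : g' (b - algebraMap A B a) ∈
              Ideal.map g' (Ideal.map (algebraMap A B) (maximalIdeal A)) :=
            Ideal.mem_map_of_mem g' ha
          rw [Ideal.map_map, hg'] at h2
          exact hfJ h2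
        let g'' : B →+* T := g'.codRestrict T hg'mem
        have h3 : g'' = g := by
          apply hguniq
          ext a
          show g' (algebraMap A B a) = f a
          exact RingHom.congr_fun hg' a
        rw [← h3]
        ext b
        rfl

open Groth.Agent.Lib.Helper2 IsLocalRing in
theorem backward (A B : Type u) [CommRing A] [IsLocalRing A] [CommRing B]
    [IsLocalRing B] [Algebra A B] [IsLocalHom (algebraMap A B)]
    (h : Hens2.IsPairHenselization A (IsLocalRing.maximalIdeal A) B) :
    Hensel.IsHenselization A B := by
  obtain ⟨hH, huniv⟩ := h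
  set I : Ideal B := Ideal.map (algebraMap A B) (maximalIdeal A) with hI
  have hIle : I ≤ maximalIdeal B := IsLocalRing.map_maximalIdeal_le (algebraMap A B)
  let T := pairSubring (algebraMap A B) I
  have hTH : HenselianRing T (I.comap T.subtype) :=
    henselianRing_subring I T (ideal_le_pairSubring _ I)
  let fT : A →+* T := (algebraMap A B).codRestrict T (map_mem_pairSubring _ I)
  have hfT : T.subtype.comp fT = algebraMap A B := by ext a; rfl
  have hfTI : Ideal.map fT (maximalIdeal A) ≤ I.comap T.subtype := by
    rw [Ideal.map_le_iff_le_comap]
    intro a ha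
    show algebraMap A B a ∈ I
    exact Ideal.mem_map_of_mem _ ha
  obtain ⟨g, hg, -⟩ := huniv T (I.comap T.subtype) fT hTH hfTI
  obtain ⟨g₀, -, hg₀⟩ := huniv B I (algebraMap A B) hH (le_refl _)
  have hid : T.subtype.comp g = RingHom.id B := by
    have e1 : (T.subtype.comp g).comp (algebraMap A B) = algebraMap A B := by
      rw [RingHom.comp_assoc, hg, hfT]
    rw [hg₀ _ e1, hg₀ (RingHom.id B) (RingHom.id_comp _)]
  have hall : ∀ b : B, ∃ a : A, b - algebraMap A B a ∈ I := by
    intro b
    have : b = T.subtype (g b) := (RingHom.congr_fun hid b).symm
    rw [this]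
    exact (g b).2
  have hmax : I = maximalIdeal B := by
    apply le_antisymm hIle
    intro b hb
    obtain ⟨a, ha⟩ := hall b
    have h1 : algebraMap A B a ∈ maximalIdeal B := by
      have := (maximalIdeal B).sub_mem hb (hIle ha)
      simpa using this
    have h2 : a ∈ maximalIdeal A := by
      rw [mem_maximalIdeal, mem_nonunits_iff] at h1 ⊢
      exact fun hu => h1 (hu.map _)
    have h3 : algebraMap A B a ∈ I := Ideal.mem_map_of_mem _ h2
    have := I.add_mem ha h3
    simpa using this
  have hBH : HenselianLocalRing B := by
    refine { (inferInstance : IsLocalRing B) with is_henselian := ?_ }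
    intro f hf a₀ h₁ h₂
    rw [← hmax] at h₁ ⊢
    exact hH.is_henselian f hf a₀ h₁ (h₂.map _)
  refine ⟨hBH, ?_⟩
  intro T' _ _ f hf
  exact huniv T' (maximalIdeal T') f inferInstance (IsLocalRing.map_maximalIdeal_le f)

/-- Let A be a local ring with maximal ideal m and B a local A-algebra with local structure map. Then B
is a henselization of the pair (A, m) if and only if B is a henselization of the local ring A (both
in the sense of the universal properties). -/
theorem result (A B : Type u) [CommRing A] [IsLocalRing A] [CommRing B]
    [IsLocalRing B] [Algebra A B] [IsLocalHom (algebraMap A B)] :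
    Hens2.IsPairHenselization A (IsLocalRing.maximalIdeal A) B ↔ Hensel.IsHenselization A B := by
  exact ⟨backward A B, forward A B⟩

end Groth.Agent.S1993
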