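import Groth.Statements.S1994
-- import your own Groth.Agent.* helpers here
import Groth.Agent.Lib.Helper26HzNoeth

set_option autoImplicit false
universe u
open EtAlg

namespace Groth.Agent.S1994

section Helpers

open Groth.Agent.Lib.Helper26.PairHz

variable {A : Type u} [CommRing A] {I : Ideal A} {B : Type u} [CommRing B] [Algebra A B]

theorem smul_top_eq (n : ℕ) (b : B) :
    b ∈ (I ^ n • ⊤ : Submodule A B) ↔ b ∈ (I ^ n).map (algebraMap A B) := by
  rw [Ideal.smul_top_eq_map]
  rfl

theorem smul_top_eq_self (n : ℕ) (a : A) : a ∈ (I ^ n • ⊤ : Submodule A A) ↔ a ∈ I ^ n := by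
  rw [smul_eq_mul, Ideal.mul_top]

/-- The reduction of `A → B` modulo `I^n` is bijective. -/
theorem reduce_bijective (hB : Hens2.IsPairHenselization A I B) (n : ℕ) :
    Function.Bijective ((Algebra.linearMap A B).reduceModIdeal (I ^ n)) := by
  have hq := quotientMap_pow_bijective hB n
  constructor
  · rw [injective_iff_map_eq_zero]
    intro x hx
    obtain ⟨a, rfl⟩ := Submodule.Quotient.mk_surjective _ x
    rw [LinearMap.reduceModIdeal_apply, Submodule.Quotient.mk_eq_zero, smul_top_eq] at hx
    rw [Submodule.Quotient.mk_eq_zero, smul_top_eq_self]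
    have h1 : Ideal.quotientMap ((I ^ n).map (algebraMap A B)) (algebraMap A B)
        Ideal.le_comap_map (Ideal.Quotient.mk _ a) = 0 := by
      rw [Ideal.quotientMap_mk]
      exact Ideal.Quotient.eq_zero_iff_mem.mpr hx
    have h2 := hq.1 (h1.trans (map_zero _).symm)
    exact Ideal.Quotient.eq_zero_iff_mem.mp h2
  · intro y
    obtain ⟨b, rfl⟩ := Submodule.Quotient.mk_surjective _ y
    obtain ⟨z, hz⟩ := hq.2 (Ideal.Quotient.mk _ b)
    obtain ⟨a, rfl⟩ := Ideal.Quotient.mk_surjective z
    rw [Ideal.quotientMap_mk, Ideal.Quotient.eq] at hz
    refine ⟨Submodule.Quotient.mk a, ?_⟩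
    rw [LinearMap.reduceModIdeal_apply, Submodule.Quotient.eq, smul_top_eq]
    exact hz

theorem completion_bijective (hB : Hens2.IsPairHenselization A I B) :
    Function.Bijective (AdicCompletion.map I (Algebra.linearMap A B) :
      AdicCompletion I A → AdicCompletion I B) := by
  constructor
  · rw [injective_iff_map_eq_zero]
    intro x hx
    apply AdicCompletion.ext
    intro n
    have h1 : (AdicCompletion.map I (Algebra.linearMap A B) x).val n = 0 := by
      rw [hx]; rfl
    rw [AdicCompletion.map_val_apply] at h1
    have := (reduce_bijective hB n).1 (h1.trans (map_zero _).symm)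
    rw [this]
    rfl
  · intro y
    choose x hx using fun n => (reduce_bijective hB n).2 (y.val n)
    have hcompat : ∀ {m n : ℕ} (hmn : m ≤ n),
        AdicCompletion.transitionMap I A hmn (x n) = x m := by
      intro m n hmn
      apply (reduce_bijective hB m).1
      have h1 := LinearMap.congr_fun
        (AdicCompletion.transitionMap_comp_reduceModIdeal I (Algebra.linearMap A B) hmn) (x n)
      simp only [LinearMap.comp_apply] at h1
      have h2 : (Algebra.linearMap A B).reduceModIdeal (I ^ m)
          (AdicCompletion.transitionMap I A hmn (x n)) =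
          AdicCompletion.transitionMap I B hmn
            ((Algebra.linearMap A B).reduceModIdeal (I ^ n) (x n)) := h1.symm
      rw [h2, hx n, hx m]
      exact y.2 hmn
    let x' : AdicCompletion I A := ⟨fun n => x n, hcompat⟩
    refine ⟨x', ?_⟩
    apply AdicCompletion.ext
    intro n
    rw [AdicCompletion.map_val_apply]
    exact hx n

end Helpers

/-- Let (A, I) be a pair with A Noetherian and B a henselization of the pair. Then B is Noetherian and
flat over A, and the induced map of adic completions, from the I-adic completion of A to the IB-adic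
completion of B, is bijective. -/
theorem result (A : Type u) [CommRing A] [IsNoetherianRing A] (I : Ideal A)
    (B : Type u) [CommRing B] [Algebra A B] (hB : Hens2.IsPairHenselization A I B) :
    IsNoetherianRing B ∧ Module.Flat A B ∧
      Function.Bijective (AdicCompletion.map I (Algebra.linearMap A B) :
        AdicCompletion I A → AdicCompletion I B) := by
  exact ⟨Groth.Agent.Lib.Helper26.HzNoeth.isNoetherianRing_of_isPairHenselization hB,
    Groth.Agent.Lib.Helper26.PairHz.flat_of_isPairHenselization hB, completion_bijective hB⟩

end Groth.Agent.S1994
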