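import Groth.Statements.S1995
-- import your own Groth.Agent.* helpers here
import Groth.Agent.Lib.Helper26PairHzUnique
import Groth.Agent.Lib.Helper26HenselIdem

set_option autoImplicit false
universe u
open EtAlg

namespace Groth.Agent.S1995

section Helpers

open Groth.Agent.Lib.Helper26.HenselIdem Groth.Agent.Lib.Helper26.PairHz

variable {A : Type u} [CommRing A]

/-- CRT elements. -/
theorem exists_crt {n : ℕ} (I : Fin n → Ideal A) (hI : Pairwise fun i j => I i ⊔ I j = ⊤) :
    ∃ a : Fin n → A, (∀ i, 1 - a i ∈ I i) ∧ (∀ i j, j ≠ i → a i ∈ I j) := by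
  classical
  have hI' : Pairwise (Function.onFun IsCoprime I) := fun i j hij => Ideal.isCoprime_iff_sup_eq.mpr (hI hij)
  have key : ∀ i, ∃ r : A, ∀ j, (Ideal.Quotient.mk (I j) r) = (Pi.single i 1 : ∀ j, A ⧸ I j) j :=
    fun i => Ideal.pi_quotient_surjective hI' _
  choose a ha using key
  refine ⟨a, fun i => ?_, fun i j hji => ?_⟩
  · have := ha i i
    rw [Pi.single_eq_same] at this
    rw [← Ideal.Quotient.eq_zero_iff_mem, map_sub, map_one, this, sub_self]
  · have := ha i j
    rw [Pi.single_eq_of_ne hji] at this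
    exact Ideal.Quotient.eq_zero_iff_mem.mp this

/-- Lifting an idempotent modulo a henselian ideal. -/
theorem exists_idem_lift {B : Type u} [CommRing B] (K : Ideal B) [HenselianRing B K] (b : B)
    (hb : b * b - b ∈ K) : ∃ e : B, IsIdempotentElem e ∧ e - b ∈ K := by
  haveI : Algebra.IsIntegral B B := Algebra.isIntegral_of_surjective Function.surjective_id
  have hK : Ideal.map (algebraMap B B) K = K := by
    rw [Algebra.algebraMap_self, Ideal.map_id]
  have h1 : IsIdempotentElem (Ideal.Quotient.mk (Ideal.map (algebraMap B B) K) b) := by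
    change _ * _ = _
    rw [← map_mul, Ideal.Quotient.eq, hK]
    exact hb
  obtain ⟨e, he, hee⟩ := idem_surjOn B K B h1
  refine ⟨e, he, ?_⟩
  rw [Ideal.Quotient.eq, hK] at hee
  exact hee

/-- The decomposition: complete orthogonal idempotents lifting the CRT elements. -/
theorem exists_coi {n : ℕ} (I : Fin n → Ideal A) (a : Fin n → A) (ha1 : ∀ i, 1 - a i ∈ I i)
    (ha2 : ∀ i j, j ≠ i → a i ∈ I j)
    {B : Type u} [CommRing B] [Algebra A B]
    [hB : HenselianRing B ((⨅ i, I i).map (algebraMap A B))] :
    ∃ e : Fin n → B, CompleteOrthogonalIdempotents e ∧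
      ∀ i, e i - algebraMap A B (a i) ∈ (⨅ i, I i).map (algebraMap A B) := by
  classical
  set J : Ideal A := ⨅ i, I i with hJ
  set K : Ideal B := J.map (algebraMap A B) with hK
  have hmem : ∀ x : A, (∀ k, x ∈ I k) → algebraMap A B x ∈ K := fun x hx =>
    Ideal.mem_map_of_mem _ (Ideal.mem_iInf.mpr hx)
  have h1 : ∀ i, ∃ e : B, IsIdempotentElem e ∧ e - algebraMap A B (a i) ∈ K := by
    intro i
    apply exists_idem_lift K
    have : algebraMap A B (a i) * algebraMap A B (a i) - algebraMap A B (a i)
        = algebraMap A B (-(a i * (1 - a i))) := by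
      simp only [map_neg, map_mul, map_sub, map_one]; ring
    rw [this]
    apply hmem
    intro k
    by_cases hk : k = i
    · subst hk
      exact (I k).neg_mem ((I k).mul_mem_left _ (ha1 k))
    · exact (I k).neg_mem ((I k).mul_mem_right _ (ha2 i k hk))
  choose e he1 he2 using h1
  have hjac : K ≤ Ideal.jacobson ⊥ := hB.jac
  have hortho : ∀ i j, i ≠ j → e i * e j = 0 := by
    intro i j hij
    have hid : IsIdempotentElem (e i * e j) := (he1 i).mul (he1 j)
    apply idem_eq_of_sub_mem_jacobson K hjac hid IsIdempotentElem.zero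
    rw [sub_zero]
    have : e i * e j = (e i - algebraMap A B (a i)) * e j
        + algebraMap A B (a i) * (e j - algebraMap A B (a j))
        + algebraMap A B (a i * a j) := by
      rw [map_mul]; ring
    rw [this]
    refine K.add_mem (K.add_mem (K.mul_mem_right _ (he2 i)) (K.mul_mem_left _ (he2 j))) ?_
    apply hmem
    intro k
    by_cases hk : k = i
    · subst hk
      exact (I k).mul_mem_left _ (ha2 j k hij)
    · exact (I k).mul_mem_right _ (ha2 i k hk)
  have hO : OrthogonalIdempotents e := ⟨he1, fun i j hij => hortho i j hij⟩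
  have hsum : ∑ i, e i = 1 := by
    have hid : IsIdempotentElem (∑ i, e i) := hO.isIdempotentElem_sum
    apply idem_eq_of_sub_mem_jacobson K hjac hid IsIdempotentElem.one
    have : ∑ i, e i - 1 = ∑ i, (e i - algebraMap A B (a i))
        + algebraMap A B (∑ i, a i - 1) := by
      rw [Finset.sum_sub_distrib, map_sub, map_sum, map_one]; ring
    rw [this]
    refine K.add_mem (K.sum_mem (fun i _ => he2 i)) ?_
    apply hmem
    intro k
    have : ∑ i, a i - 1 = -(1 - a k) + ∑ i ∈ Finset.univ.erase k, a i := by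
      rw [← Finset.add_sum_erase Finset.univ a (Finset.mem_univ k)]; ring
    rw [this]
    refine (I k).add_mem ((I k).neg_mem (ha1 k)) ((I k).sum_mem ?_)
    intro i hi
    exact ha2 i k (Finset.ne_of_mem_erase hi).symm
  exact ⟨e, ⟨hO, hsum⟩, he2⟩

/-- The `i`-th factor of a henselization of `(A, ⨅ I)` is a henselization of `(A, I i)`. -/
theorem isPairHenselization_factor {n : ℕ} (I : Fin n → Ideal A) (a : Fin n → A)
    (ha1 : ∀ i, 1 - a i ∈ I i) (ha2 : ∀ i j, j ≠ i → a i ∈ I j)
    {B : Type u} [CommRing B] [Algebra A B]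
    (hB : Hens2.IsPairHenselization A (⨅ i, I i) B) (e : Fin n → B)
    (he : ∀ i, IsIdempotentElem (e i))
    (hea : ∀ i, e i - algebraMap A B (a i) ∈ (⨅ i, I i).map (algebraMap A B)) (i : Fin n) :
    Hens2.IsPairHenselization A (I i) (B ⧸ Ideal.span {1 - e i}) := by
  classical
  set J : Ideal A := ⨅ i, I i with hJ
  set K : Ideal B := J.map (algebraMap A B) with hK
  set D := B ⧸ Ideal.span {1 - e i} with hD
  haveI : HenselianRing B K := hB.1
  haveI : Algebra.IsIntegral B D := Algebra.isIntegral_of_surjective Ideal.Quotient.mk_surjective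
  have hq : HenselianRing D (K.map (algebraMap B D)) := Groth.Agent.S0526.result B K D
  have hmk1 : (Ideal.Quotient.mk (Ideal.span {1 - e i}) (e i) : D) = 1 := by
    have : (Ideal.Quotient.mk (Ideal.span {1 - e i}) (1 - e i) : D) = 0 :=
      Ideal.Quotient.eq_zero_iff_mem.mpr (Ideal.mem_span_singleton_self _)
    rw [map_sub, map_one, sub_eq_zero] at this
    exact this.symm
  have hideal : (I i).map (algebraMap A D) = K.map (algebraMap B D) := by
    apply le_antisymm
    · rw [Ideal.map_le_iff_le_comap]
      intro x hx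
      rw [Ideal.mem_comap, IsScalarTower.algebraMap_apply A B D]
      have h1 : algebraMap B D (algebraMap A B x) = algebraMap B D (algebraMap A B x * e i) := by
        rw [map_mul]
        change _ = _ * Ideal.Quotient.mk _ (e i)
        rw [hmk1, mul_one]
      rw [h1]
      apply Ideal.mem_map_of_mem
      have : algebraMap A B x * e i = algebraMap A B x * (e i - algebraMap A B (a i))
          + algebraMap A B (x * a i) := by
        rw [map_mul]; ring
      rw [this]
      refine K.add_mem (K.mul_mem_left _ (hea i)) (Ideal.mem_map_of_mem _ ?_)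
      rw [hJ, Ideal.mem_iInf]
      intro k
      by_cases hk : k = i
      · subst hk
        exact (I k).mul_mem_right _ hx
      · exact (I k).mul_mem_left _ (ha2 i k hk)
    · rw [hK, Ideal.map_map, ← IsScalarTower.algebraMap_eq]
      exact Ideal.map_mono (iInf_le I i)
  refine ⟨hideal ▸ hq, ?_⟩
  intro C _ L f hC hfL
  have hJL : J.map f ≤ L := (Ideal.map_mono (iInf_le I i)).trans hfL
  obtain ⟨g, hg, hguniq⟩ := hB.2 C L f hC hJL
  have hgK : ∀ b ∈ K, g b ∈ L := by
    intro b hb
    have h1 : g b ∈ K.map g := Ideal.mem_map_of_mem _ hb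
    rw [hK, Ideal.map_map, hg] at h1
    exact hJL h1
  have hge : g (e i) = 1 := by
    apply idem_eq_of_sub_mem_jacobson L hC.jac ((he i).map g) IsIdempotentElem.one
    have : g (e i) - 1 = g (e i - algebraMap A B (a i)) - f (1 - a i) := by
      rw [map_sub, map_sub, map_one, ← hg]; simp
    rw [this]
    refine L.sub_mem (hgK _ (hea i)) (hfL (Ideal.mem_map_of_mem _ (ha1 i)))
  have hker : ∀ b ∈ Ideal.span {1 - e i}, g b = 0 := by
    intro b hb
    obtain ⟨c, rfl⟩ := Ideal.mem_span_singleton'.mp hb
    rw [map_mul, map_sub, map_one, hge, sub_self, mul_zero]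
  refine ⟨Ideal.Quotient.lift _ g hker, ?_, ?_⟩
  · refine RingHom.ext (fun x => ?_)
    rw [RingHom.comp_apply, IsScalarTower.algebraMap_apply A B D]
    change Ideal.Quotient.lift _ g hker (Ideal.Quotient.mk _ _) = _
    rw [Ideal.Quotient.lift_mk, ← hg]; rfl
  · intro g' hg'
    have h1 : g'.comp (Ideal.Quotient.mk (Ideal.span {1 - e i})) = g := by
      apply hguniq
      rw [RingHom.comp_assoc, ← hg']
      congr 1
    refine Ideal.Quotient.ringHom_ext (RingHom.ext (fun b => ?_))
    rw [RingHom.comp_apply, RingHom.comp_apply, Ideal.Quotient.lift_mk, ← h1]; rfl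

end Helpers

/-- Let I_1, …, I_n be pairwise comaximal ideals of a ring A, B a henselization of the pair (A, I_1 ∩ …
∩ I_n) and B_i a henselization of (A, I_i) for each i. Then B is isomorphic as an A-algebra to the
product of the B_i (any such isomorphism is the natural comparison map, by the universal property). -/
theorem result (A : Type u) [CommRing A] {n : ℕ} (I : Fin n → Ideal A)
    (hI : Pairwise fun i j => I i ⊔ I j = ⊤) (B : Type u) [CommRing B] [Algebra A B]
    (hB : Hens2.IsPairHenselization A (⨅ i, I i) B) (Bi : Fin n → Type u) [∀ i, CommRing (Bi i)] [∀ i, Algebra A (Bi i)]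
    (hBi : ∀ i, Hens2.IsPairHenselization A (I i) (Bi i)) :
    Nonempty (B ≃ₐ[A] ∀ i, Bi i) := by
  obtain ⟨a, ha1, ha2⟩ := exists_crt I hI
  haveI : HenselianRing B ((⨅ i, I i).map (algebraMap A B)) := hB.1
  obtain ⟨e, he, hea⟩ := exists_coi I a ha1 ha2 (B := B)
  have hfac := fun i => isPairHenselization_factor I a ha1 ha2 hB e he.1.idem hea i
  have hiso : ∀ i, Nonempty ((B ⧸ Ideal.span {1 - e i}) ≃ₐ[A] Bi i) := fun i =>
    Groth.Agent.Lib.Helper26.PairHz.nonempty_algEquiv (hfac i) (hBi i)
  let ψ : B →ₐ[A] ∀ i, B ⧸ Ideal.span {1 - e i} :=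
    AlgHom.pi (fun i => Ideal.Quotient.mkₐ A (Ideal.span {1 - e i}))
  have hψ : Function.Bijective ψ := he.bijective_pi
  exact ⟨(AlgEquiv.ofBijective ψ hψ).trans (AlgEquiv.piCongrRight (fun i => (hiso i).some))⟩

end Groth.Agent.S1995
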