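import Groth.Statements.S19962
import Groth.Agent.Lib.Helper28BE6
-- import your own Groth.Agent.* helpers here

set_option autoImplicit false
universe u
open CAlg

namespace Groth.Agent.S19962

open Groth.Agent.Lib.Helper28 Groth.Agent.Lib.Helper28.BE

/-- From the hypotheses in the published form to the localizable form. -/
theorem behyp_of {R : Type u} [CommRing R]
    (e : ℕ) (n : ℕ → ℕ) (A : (i : ℕ) → Matrix (Fin (n i)) (Fin (n (i + 1))) R)
    (hA : ∀ i, i + 2 ≤ e → A i * A (i + 1) = 0)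
    (hrank : ∀ j, 1 ≤ j → j ≤ e →
      (CAlgX.matrixRank (A (j - 1)) : ℤ) = ∑ t ∈ Finset.Icc j e, (-1 : ℤ) ^ (t - j) * (n t : ℤ))
    (hdet : ∀ j, 1 ≤ j → j ≤ e →
      CAlgX.detIdeal (A (j - 1)) = ⊤ ∨
        ∃ rs : List R, rs.length = j ∧ (∀ r ∈ rs, r ∈ CAlgX.detIdeal (A (j - 1))) ∧
          RingTheory.Sequence.IsRegular R rs) : BEHyp R e n A := by
  refine ⟨hA, fun k hk => ?_, fun k hk => ?_⟩
  · have h1 : (CAlgX.matrixRank (A k) : ℤ) = altSum e n (k + 1) := hrank (k + 1) (by omega) (by omega)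
    have h2 : (rk e A (k + 1) : ℤ) = altSum e n (k + 2) := by
      by_cases hk' : k + 1 < e
      · rw [rk_of_lt A hk']
        exact hrank (k + 2) (by omega) (by omega)
      · rw [rk_of_not_lt A hk', altSum_of_lt e n (by omega)]
        rfl
    have h3 := altSum_add_succ e n (j := k + 1) (by omega)
    have : ((CAlgX.matrixRank (A k) + rk e A (k + 1) : ℕ) : ℤ) = (n (k + 1) : ℤ) := by
      push_cast
      rw [h1, h2]
      exact h3
    exact_mod_cast this
  · have h1 : CAlgX.detIdeal (A k) = ⊤ ∨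
        ∃ rs : List R, rs.length = k + 1 ∧ (∀ r ∈ rs, r ∈ CAlgX.detIdeal (A k)) ∧
          RingTheory.Sequence.IsRegular R rs := hdet (k + 1) (by omega) (by omega)
    rcases h1 with htop | ⟨rs, hlen, hmem, hreg⟩
    · rw [htop, idealDepth_eq_top_of_smul_top_eq_top ⊤ R (by simp)]
      exact le_top
    · have h2 := length_le_idealDepth hreg.toIsWeaklyRegular hmem
      rw [hlen] at h2
      exact h2

/-- Let R be a Noetherian commutative ring, not assumed local, and 0 → R^(n_e) → ⋯ → R^(n_1) → R^(n_0) a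
complex of finite free modules with 1 ≤ e, the map R^(n_(i+1)) → R^(n_i) being given by the matrix A
i. Suppose that for every 1 ≤ j ≤ e the matrix of R^(n_j) → R^(n_(j-1)) has rank n_j - n_(j+1) + ⋯ ±
n_e, the rank of a matrix being the largest size of a nonzero minor, and that its ideal of minors of
that size is either the unit ideal or contains an R-regular sequence of length j. Then the complex
is exact at R^(n_e), …, R^(n_1). -/
theorem result {R : Type u} [CommRing R] [IsNoetherianRing R]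
    (e : ℕ) (he : 1 ≤ e) (n : ℕ → ℕ) (A : (i : ℕ) → Matrix (Fin (n i)) (Fin (n (i + 1))) R)
    (hA : ∀ i, i + 2 ≤ e → A i * A (i + 1) = 0)
    (hrank : ∀ j, 1 ≤ j → j ≤ e →
      (CAlgX.matrixRank (A (j - 1)) : ℤ) = ∑ t ∈ Finset.Icc j e, (-1 : ℤ) ^ (t - j) * (n t : ℤ))
    (hdet : ∀ j, 1 ≤ j → j ≤ e →
      CAlgX.detIdeal (A (j - 1)) = ⊤ ∨
        ∃ rs : List R, rs.length = j ∧ (∀ r ∈ rs, r ∈ CAlgX.detIdeal (A (j - 1))) ∧
          RingTheory.Sequence.IsRegular R rs) :
    LinearMap.ker (A (e - 1)).mulVecLin = ⊥ ∧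
      ∀ i, i + 2 ≤ e → LinearMap.ker (A i).mulVecLin = LinearMap.range (A (i + 1)).mulVecLin := by
  apply exact_of_forall_ker_eq_Bsub he A
  exact global_exact (behyp_of e n A hA hrank hdet)

end Groth.Agent.S19962
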