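import Groth.Statements.S19967
import Mathlib

set_option autoImplicit false
universe u
open CategoryTheory CategoryTheory.Limits AlgebraicGeometry
open FlatMor

namespace Groth.Agent.S19967

lemma quasiCompact_fromSpecStalk (S : Scheme.{u}) [QuasiSeparatedSpace S] (x : S) :
    QuasiCompact (S.fromSpecStalk x) := by
  have h1 : QuasiSeparated (terminal.from S) :=
    (quasiSeparated_iff_quasiSeparatedSpace (terminal.from S)).mpr inferInstance
  have h2 : QuasiCompact (S.fromSpecStalk x ≫ terminal.from S) :=
    (quasiCompact_iff_compactSpace _).mpr inferInstance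
  exact QuasiCompact.of_comp (S.fromSpecStalk x) (terminal.from S)


/-- Let f : S' → S be a flat morphism of locally Noetherian schemes, i : C → S and i' : C' → S' closed
immersions with C and C' integral, and g : C' → C with g ≫ i = i' ≫ f. Let φ : C' → C ×_S S' be the
induced morphism and η ∈ S the image of the generic point of C. If φ becomes an isomorphism after
base change along the canonical morphism Spec O_{S,η} → S (that is, after pulling back to (C ×_S S')
×_S Spec O_{S,η}), then φ is an isomorphism. (In the source S and S' are excellent surfaces over an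
algebraically closed field, C and C' regular curves not inside the singular loci, and the
isomorphism over Spec O_{S,η} is part of the definition of a morphism of surface-curve pairs; those
extra hypotheses play no part.) -/
theorem result
    {S S' C C' : Scheme.{u}} [IsLocallyNoetherian S] [IsLocallyNoetherian S']
    (f : S' ⟶ S) [Flat f] (i : C ⟶ S) [IsClosedImmersion i] [IsIntegral C]
    (i' : C' ⟶ S') [IsClosedImmersion i'] [IsIntegral C']
    (g : C' ⟶ C) (hsq : g ≫ i = i' ≫ f)
    (hgen : IsIso (pullback.snd (pullback.lift g i' hsq)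
      (pullback.fst (pullback.fst i f ≫ i) (S.fromSpecStalk (i.base (genericPoint C)))))) :
    IsIso (pullback.lift g i' hsq) := by
  obtain ⟨φ, hφ⟩ : ∃ φ, φ = pullback.lift g i' hsq := ⟨_, rfl⟩
  rw [← hφ] at hgen ⊢
  have hφcl : IsClosedImmersion φ := by
    have : IsClosedImmersion (φ ≫ pullback.snd i f) := by
      rw [hφ, pullback.lift_snd]; infer_instance
    exact IsClosedImmersion.of_comp φ (pullback.snd i f)
  obtain ⟨η, hη⟩ : ∃ η, η = i.base (genericPoint C) := ⟨_, rfl⟩
  rw [← hη] at hgen
  have hqc : QuasiCompact (S.fromSpecStalk η) := quasiCompact_fromSpecStalk S η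
  -- the generic point of `C` is in the range of `C_η → C`
  have hcdom : IsDominant (pullback.fst i (S.fromSpecStalk η)) := by
    constructor
    obtain ⟨z, hz, -⟩ := Scheme.Pullback.exists_preimage_pullback (f := i) (g := S.fromSpecStalk η)
      (genericPoint C) (IsLocalRing.closedPoint _)
      (by rw [Scheme.fromSpecStalk_closedPoint, hη])
    have hd : Dense ({genericPoint C} : Set C) := by
      rw [dense_iff_closure_eq]
      exact (genericPoint_spec C).def
    refine hd.mono ?_
    rintro _ rfl
    exact ⟨z, hz⟩
  have hc : IsSchemeTheoreticallyDominant (pullback.fst i (S.fromSpecStalk η)) :=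
    IsSchemeTheoreticallyDominant.of_isDominant _
  have hsq' : IsPullback
      (pullback.map (pullback.fst i f ≫ i) (S.fromSpecStalk η) i (S.fromSpecStalk η)
        (pullback.fst i f) (𝟙 _) (𝟙 _) (by simp) (by simp))
      (pullback.fst (pullback.fst i f ≫ i) (S.fromSpecStalk η))
      (pullback.fst i (S.fromSpecStalk η)) (pullback.fst i f) := by
    refine IsPullback.of_right (h₁₂ := pullback.snd i (S.fromSpecStalk η))
      (v₁₃ := S.fromSpecStalk η) (h₂₂ := i) ?_ ?_ (IsPullback.of_hasPullback i _).flip
    · have h1 : pullback.map (pullback.fst i f ≫ i) (S.fromSpecStalk η) i (S.fromSpecStalk η)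
          (pullback.fst i f) (𝟙 _) (𝟙 _) (by simp) (by simp) ≫ pullback.snd i (S.fromSpecStalk η) =
          pullback.snd (pullback.fst i f ≫ i) (S.fromSpecStalk η) :=
        (pullback.lift_snd _ _ _).trans (Category.comp_id _)
      rw [h1]
      exact (IsPullback.of_hasPullback (pullback.fst i f ≫ i) (S.fromSpecStalk η)).flip
    · exact pullback.lift_fst _ _ _
  have hq : IsSchemeTheoreticallyDominant
      (pullback.fst (pullback.fst i f ≫ i) (S.fromSpecStalk η)) :=
    IsSchemeTheoreticallyDominant.of_isPullback hsq'
  obtain ⟨q, hqdef⟩ : ∃ q, q = pullback.fst (pullback.fst i f ≫ i) (S.fromSpecStalk η) := ⟨_, rfl⟩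
  rw [← hqdef] at hgen hq
  have hfac : (inv (pullback.snd φ q) ≫ pullback.fst φ q) ≫ φ = q := by
    have hcond := pullback.condition (f := φ) (g := q)
    rw [Category.assoc, hcond, IsIso.inv_hom_id_assoc]
  have hker : φ.ker = ⊥ := by
    have h1 : ((inv (pullback.snd φ q) ≫ pullback.fst φ q) ≫ φ).ker = ⊥ := by
      rw [hfac]; exact q.ker_eq_bot
    rw [Scheme.Hom.ker_comp] at h1
    rw [← le_bot_iff, ← h1, ← Scheme.IdealSheafData.map_bot]
    exact Scheme.IdealSheafData.map_mono _ bot_le
  exact IsClosedImmersion.isIso_iff_ker_eq_bot.mpr hker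

end Groth.Agent.S19967
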