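import Groth.Statements.S1997
import Mathlib

set_option autoImplicit false
universe u
open CategoryTheory
open EtAlg

namespace Groth.Agent.S1997

open TensorProduct

/-- Over a ring all of whose ideals are flat, submodules of flat modules are flat. -/
theorem flat_submodule {A : Type u} [CommRing A] (hA : ∀ I : Ideal A, Module.Flat A I)
    {N : Type u} [AddCommGroup N] [Module A N] [Module.Flat A N] (N' : Submodule A N) :
    Module.Flat A N' := by
  rw [Module.Flat.iff_rTensor_injective']
  intro I
  have := hA I
  have h1 : Function.Injective (LinearMap.lTensor I N'.subtype) :=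
    Module.Flat.lTensor_preserves_injective_linearMap _ N'.injective_subtype
  have h2 : Function.Injective (LinearMap.rTensor N I.subtype) :=
    Module.Flat.rTensor_preserves_injective_linearMap _ I.injective_subtype
  have hcomm : (LinearMap.lTensor A N'.subtype) ∘ₗ (LinearMap.rTensor N' I.subtype) =
      (LinearMap.rTensor N I.subtype) ∘ₗ (LinearMap.lTensor I N'.subtype) := by
    ext i n
    simp
  have h3 : Function.Injective ((LinearMap.lTensor A N'.subtype) ∘ₗ (LinearMap.rTensor N' I.subtype)) := by
    rw [hcomm, LinearMap.coe_comp]
    exact h2.comp h1
  rw [LinearMap.coe_comp] at h3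
  exact Function.Injective.of_comp h3

/-- Let A be a ring all of whose ideals are flat (weak dimension at most one) and A -> B a flat,
injective ring map which is an epimorphism in the category of commutative rings. Then A is
integrally closed in B. -/
theorem result (A B : Type u) [CommRing A] [CommRing B] [Algebra A B]
    (hA : ∀ I : Ideal A, Module.Flat A I) [Module.Flat A B] (hinj : Function.Injective (algebraMap A B))
    (hepi : Epi (CommRingCat.ofHom (algebraMap A B))) : IsIntegrallyClosedIn A B := by
  have hepi' : Algebra.IsEpi A B := CommRingCat.epi_iff_epi.mp hepi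
  rw [isIntegrallyClosedIn_iff]
  refine ⟨hinj, ?_⟩
  intro x hx
  -- the finite subalgebra generated by x
  let A' : Subalgebra A B := Algebra.adjoin A {x}
  have hfin : Module.Finite A A' :=
    Module.Finite.iff_fg.mpr hx.fg_adjoin_singleton
  have hflat : Module.Flat A A' := flat_submodule hA (Subalgebra.toSubmodule A')
  -- the comparison map A' ⊗ A' → B ⊗ B is injective
  have hinj1 : Function.Injective (LinearMap.lTensor A' A'.val.toLinearMap) :=
    Module.Flat.lTensor_preserves_injective_linearMap _ Subtype.val_injective
  have hinj2 : Function.Injective (LinearMap.rTensor B A'.val.toLinearMap) :=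
    Module.Flat.rTensor_preserves_injective_linearMap _ Subtype.val_injective
  have hmap : Function.Injective (TensorProduct.map A'.val.toLinearMap A'.val.toLinearMap) := by
    have : TensorProduct.map A'.val.toLinearMap A'.val.toLinearMap =
        (LinearMap.rTensor B A'.val.toLinearMap) ∘ₗ (LinearMap.lTensor A' A'.val.toLinearMap) := by
      ext a b
      simp
    rw [this, LinearMap.coe_comp]
    exact hinj2.comp hinj1
  have hepiA' : Algebra.IsEpi A A' := by
    rw [Algebra.isEpi_iff_forall_one_tmul_eq]
    intro a
    apply hmap
    rw [TensorProduct.map_tmul, TensorProduct.map_tmul]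
    exact (Algebra.isEpi_iff_forall_one_tmul_eq A B).mp hepi' a
  have hsurj : Function.Surjective (algebraMap A A') :=
    Algebra.isEpi_iff_surjective_algebraMap_of_finite.mp hepiA'
  obtain ⟨y, hy⟩ := hsurj ⟨x, Algebra.self_mem_adjoin_singleton A x⟩
  exact ⟨y, congrArg Subtype.val hy⟩

end Groth.Agent.S1997
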