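import Groth.Statements.S19974
import Mathlib.Tactic

set_option autoImplicit false
universe u v w x
open scoped BigOperators
open DefMod

namespace Groth.Agent.S19974

section
variable {K : Type u} [Field K] {O : Type v} [CommRing O] [Algebra K O] (δ : Derivation K O O)
  {D : Type w} [Ring D] [Algebra K D] (ι : O →ₐ[K] D) (d : D)
  {B : Type x} [Ring B] [Algebra K B] (ρ : D →ₐ[K] B)

/-- The total linear map `c ↦ ∑ ι (c i) * d ^ i`. -/
noncomputable def T : (ℕ →₀ O) →ₗ[K] D :=
  Finsupp.lsum K (fun i => (LinearMap.mulRight K (d ^ i)).comp ι.toLinearMap)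

theorem T_apply (c : ℕ →₀ O) : T ι d c = c.sum (fun i f => ι f * d ^ i) := by
  rw [T, Finsupp.lsum_apply]
  rfl

theorem T_single (i : ℕ) (f : O) : T ι d (Finsupp.single i f) = ι f * d ^ i := by
  rw [T, Finsupp.lsum_single]
  rfl

theorem T_bijective
    (hbasis : Function.Bijective (fun c : ℕ →₀ O => c.sum (fun i f => ι f * d ^ i))) :
    Function.Bijective (T ι d) := by
  have : (T ι d : (ℕ →₀ O) → D) = fun c : ℕ →₀ O => c.sum (fun i f => ι f * d ^ i) := by
    funext c
    exact T_apply ι d c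
  rw [this]
  exact hbasis

theorem induction_D
    (hbasis : Function.Bijective (fun c : ℕ →₀ O => c.sum (fun i f => ι f * d ^ i)))
    (p : D → Prop) (h0 : p 0) (hadd : ∀ a b, p a → p b → p (a + b))
    (hm : ∀ i f, p (ι f * d ^ i)) : ∀ P, p P := by
  intro P
  obtain ⟨c, rfl⟩ := (T_bijective ι d hbasis).2 P
  induction c using Finsupp.induction_linear with
  | zero => simpa using h0
  | add a b ha hb =>
    rw [map_add]
    exact hadd _ _ ha hb
  | single i f =>
    rw [T_single]
    exact hm i f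

/-- The value of the derivation on `d ^ i`. -/
noncomputable def sigma (v : B) : ℕ → B
  | 0 => 0
  | (i + 1) => v * ρ d ^ i + ρ d * sigma v i

/-- The derivation on coordinates. -/
noncomputable def S0 (r : O →ₗ[K] B) (v : B) : (ℕ →₀ O) →ₗ[K] B :=
  Finsupp.lsum K (fun i => (LinearMap.mulRight K (ρ d ^ i)).comp r +
    (LinearMap.mulRight K (sigma d ρ v i)).comp (ρ.toLinearMap.comp ι.toLinearMap))

theorem S0_single (r : O →ₗ[K] B) (v : B) (i : ℕ) (f : O) :
    S0 ι d ρ r v (Finsupp.single i f) = r f * ρ d ^ i + ρ (ι f) * sigma d ρ v i := by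
  rw [S0, Finsupp.lsum_single]
  rfl

/-- The derivation. -/
noncomputable def sder
    (hbasis : Function.Bijective (fun c : ℕ →₀ O => c.sum (fun i f => ι f * d ^ i)))
    (r : O →ₗ[K] B) (v : B) : D →ₗ[K] B :=
  (S0 ι d ρ r v).comp (LinearEquiv.ofBijective (T ι d) (T_bijective ι d hbasis)).symm.toLinearMap

theorem sder_basis
    (hbasis : Function.Bijective (fun c : ℕ →₀ O => c.sum (fun i f => ι f * d ^ i)))
    (r : O →ₗ[K] B) (v : B) (i : ℕ) (f : O) :
    sder ι d ρ hbasis r v (ι f * d ^ i) = r f * ρ d ^ i + ρ (ι f) * sigma d ρ v i := by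
  have h1 : (LinearEquiv.ofBijective (T ι d) (T_bijective ι d hbasis)).symm (ι f * d ^ i)
      = Finsupp.single i f := by
    rw [LinearEquiv.symm_apply_eq]
    exact (T_single ι d i f).symm
  rw [sder, LinearMap.comp_apply]
  change S0 ι d ρ r v ((LinearEquiv.ofBijective (T ι d) (T_bijective ι d hbasis)).symm
    (ι f * d ^ i)) = _
  rw [h1, S0_single]

variable (hd : ∀ f : O, d * ι f = ι f * d + ι (δ f))
  (hbasis : Function.Bijective (fun c : ℕ →₀ O => c.sum (fun i f => ι f * d ^ i)))
  (r : O →ₗ[K] B) (v : B)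
  (hr : ∀ f g : O, r (f * g) = r f * ρ (ι g) + ρ (ι f) * r g)
  (hid : ∀ f : O, (r f * ρ d - ρ d * r f) + (ρ (ι f) * v - v * ρ (ι f)) + r (δ f) = 0)

include hr in
theorem r_one : r 1 = 0 := by
  have h := hr 1 1
  simp only [mul_one, map_one, one_mul] at h
  have h2 : r 1 + 0 = r 1 + r 1 := by rw [add_zero]; exact h
  exact (add_left_cancel h2).symm

theorem sder_iota (f : O) : sder ι d ρ hbasis r v (ι f) = r f := by
  have h := sder_basis ι d ρ hbasis r v 0 f
  simpa [sigma] using h

include hr in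
theorem sder_d : sder ι d ρ hbasis r v d = v := by
  have h := sder_basis ι d ρ hbasis r v 1 1
  simpa [sigma, r_one ι ρ r hr] using h

include hr in
theorem sder_one : sder ι d ρ hbasis r v 1 = 0 := by
  have h := sder_basis ι d ρ hbasis r v 0 1
  simpa [sigma, r_one ι ρ r hr] using h

include hr in
theorem leib_iota (f : O) (Q : D) :
    sder ι d ρ hbasis r v (ι f * Q) =
      sder ι d ρ hbasis r v (ι f) * ρ Q + ρ (ι f) * sder ι d ρ hbasis r v Q := by
  refine induction_D ι d hbasis (fun Q => sder ι d ρ hbasis r v (ι f * Q) =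
      sder ι d ρ hbasis r v (ι f) * ρ Q + ρ (ι f) * sder ι d ρ hbasis r v Q) ?_ ?_ ?_ Q
  · simp
  · intro a b ha hb
    rw [mul_add, map_add, ha, hb, map_add, map_add]
    noncomm_ring
  · intro i g
    rw [← mul_assoc, ← map_mul, sder_basis, sder_basis, sder_iota ι d ρ hbasis r v, hr,
      map_mul, map_mul, map_mul, map_pow]
    noncomm_ring

include hd hr hid in
theorem leib_d (Q : D) :
    sder ι d ρ hbasis r v (d * Q) =
      sder ι d ρ hbasis r v d * ρ Q + ρ d * sder ι d ρ hbasis r v Q := by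
  refine induction_D ι d hbasis (fun Q => sder ι d ρ hbasis r v (d * Q) =
      sder ι d ρ hbasis r v d * ρ Q + ρ d * sder ι d ρ hbasis r v Q) ?_ ?_ ?_ Q
  · simp
  · intro a b ha hb
    rw [mul_add, map_add, ha, hb, map_add, map_add]
    noncomm_ring
  · intro i g
    have e1 : d * (ι g * d ^ i) = ι g * d ^ (i + 1) + ι (δ g) * d ^ i := by
      rw [← mul_assoc, hd, add_mul, mul_assoc, ← pow_succ']
    have h1 : ρ d * ρ (ι g) = ρ (ι g) * ρ d + ρ (ι (δ g)) := by
      rw [← map_mul, hd, map_add, map_mul]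
    have h2 := hid g
    rw [e1, map_add, sder_basis, sder_basis, sder_basis, sder_d ι d ρ hbasis r v hr,
      map_mul, map_pow]
    simp only [sigma]
    rw [pow_succ']
    have key : (r g * (ρ d * ρ d ^ i) + ρ (ι g) * (v * ρ d ^ i + ρ d * sigma d ρ v i) +
        (r (δ g) * ρ d ^ i + ρ (ι (δ g)) * sigma d ρ v i)) -
        (v * (ρ (ι g) * ρ d ^ i) + ρ d * (r g * ρ d ^ i + ρ (ι g) * sigma d ρ v i)) =
        ((r g * ρ d - ρ d * r g) + (ρ (ι g) * v - v * ρ (ι g)) + r (δ g)) * ρ d ^ i
          - (ρ d * ρ (ι g) - (ρ (ι g) * ρ d + ρ (ι (δ g)))) * sigma d ρ v i := by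
      noncomm_ring
    rw [h2, h1] at key
    simp only [sub_self, zero_mul] at key
    exact sub_eq_zero.mp key

theorem leib_mul (s : D →ₗ[K] B) (P₁ P₂ : D)
    (h1 : ∀ Q, s (P₁ * Q) = s P₁ * ρ Q + ρ P₁ * s Q)
    (h2 : ∀ Q, s (P₂ * Q) = s P₂ * ρ Q + ρ P₂ * s Q) (Q : D) :
    s (P₁ * P₂ * Q) = s (P₁ * P₂) * ρ Q + ρ (P₁ * P₂) * s Q := by
  rw [mul_assoc, h1, h2, h1, map_mul, map_mul]
  noncomm_ring

include hd hr hid in
theorem leib_pow (i : ℕ) (Q : D) :
    sder ι d ρ hbasis r v (d ^ i * Q) =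
      sder ι d ρ hbasis r v (d ^ i) * ρ Q + ρ (d ^ i) * sder ι d ρ hbasis r v Q := by
  induction i generalizing Q with
  | zero =>
    simp [sder_one ι d ρ hbasis r v hr]
  | succ i ih =>
    rw [pow_succ']
    exact leib_mul ρ _ d (d ^ i) (leib_d δ ι d ρ hd hbasis r v hr hid) ih Q

include hd hr hid in
theorem leib (P Q : D) :
    sder ι d ρ hbasis r v (P * Q) =
      sder ι d ρ hbasis r v P * ρ Q + ρ P * sder ι d ρ hbasis r v Q := by
  revert Q
  refine induction_D ι d hbasis (fun P => ∀ Q, sder ι d ρ hbasis r v (P * Q) =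
      sder ι d ρ hbasis r v P * ρ Q + ρ P * sder ι d ρ hbasis r v Q) ?_ ?_ ?_ P
  · intro Q; simp
  · intro a b ha hb Q
    rw [add_mul, map_add, ha, hb, map_add, map_add]
    noncomm_ring
  · intro i f Q
    exact leib_mul ρ _ (ι f) (d ^ i) (leib_iota ι d ρ hbasis r v hr f)
      (leib_pow δ ι d ρ hd hbasis r v hr hid i) Q

theorem unique_der (s : D →ₗ[K] B)
    (hs : ∀ P Q : D, s (P * Q) = s P * ρ Q + ρ P * s Q) :
    ∀ i, s (d ^ i) = sigma d ρ (s d) i := by
  have hs1 : s 1 = 0 := by
    have h := hs 1 1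
    simp only [mul_one, map_one, one_mul] at h
    have h2 : s 1 + 0 = s 1 + s 1 := by rw [add_zero]; exact h
    exact (add_left_cancel h2).symm
  intro i
  induction i with
  | zero => simpa [sigma] using hs1
  | succ i ih =>
    rw [pow_succ', hs, ih, map_pow]
    rfl

end

/-- Let K be a field of characteristic 0, O a commutative K-algebra with a K-linear derivation δ, and D
the ring of differential operators O[∂], presented abstractly as a K-algebra D with an algebra map ι
: O → D and an element ∂ of D such that ∂ ι(f) = ι(f) ∂ + ι(δ f) for every f in O and such that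
every element of D is in a unique way a finite sum of terms ι(f_i) ∂^i. Let E be a left D-module,
given as a K-vector space with a K-algebra map ρ : D → End_K(E), which is finite free as an
O-module. A K-derivation of D with values in the D-bimodule End_K(E) is a K-linear map s with s(PQ)
= s(P) ρ(Q) + ρ(P) s(Q); a K-derivation of O with values in End_K(E) is a K-linear map r with r(fg)
= r(f) ρ(ι g) + ρ(ι f) r(g). Then: (a) for every K-derivation s of D into End_K(E), the pair (r, v)
= (s ∘ ι, s(∂)) satisfies the identity [r(f), ρ(∂)] + [ρ(ι f), v] + r(δ f) = 0 for all f in O; (b)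
conversely, for every K-derivation r of O into End_K(E) and every v in End_K(E) satisfying that
identity for all f, there is exactly one K-derivation s of D into End_K(E) with s ∘ ι = r and s(∂) =
v. In other words s ↦ (s ∘ ι, s(∂)) maps the K-derivations of D injectively onto the pairs
satisfying the identity. -/
theorem result
    (K : Type u) [Field K] [CharZero K]
    (O : Type v) [CommRing O] [Algebra K O] (δ : Derivation K O O)
    (D : Type w) [Ring D] [Algebra K D] (ι : O →ₐ[K] D) (d : D)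
    (hd : ∀ f : O, d * ι f = ι f * d + ι (δ f))
    (hbasis : Function.Bijective (fun c : ℕ →₀ O => c.sum (fun i f => ι f * d ^ i)))
    (E : Type x) [AddCommGroup E] [Module K E] (ρ : D →ₐ[K] Module.End K E)
    (hE : ∃ (n : ℕ) (b : Fin n → E), Function.Bijective (fun c : Fin n → O => ∑ i, ρ (ι (c i)) (b i))) :
    (∀ s : D →ₗ[K] Module.End K E, (∀ P Q : D, s (P * Q) = s P * ρ Q + ρ P * s Q) →
      ∀ f : O, (s (ι f) * ρ d - ρ d * s (ι f)) + (ρ (ι f) * s d - s d * ρ (ι f)) + s (ι (δ f)) = 0) ∧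
    ∀ (r : O →ₗ[K] Module.End K E) (v : Module.End K E),
      (∀ f g : O, r (f * g) = r f * ρ (ι g) + ρ (ι f) * r g) →
      (∀ f : O, (r f * ρ d - ρ d * r f) + (ρ (ι f) * v - v * ρ (ι f)) + r (δ f) = 0) →
      ∃! s : D →ₗ[K] Module.End K E,
        (∀ P Q : D, s (P * Q) = s P * ρ Q + ρ P * s Q) ∧ s ∘ₗ ι.toLinearMap = r ∧ s d = v := by
  refine ⟨?_, ?_⟩
  · intro s hs f
    have h := congrArg s (hd f)
    rw [hs, map_add, hs] at h
    have h' := sub_eq_zero.mpr h
    rw [← neg_eq_zero, ← h']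
    abel
  · intro r v hr hid
    refine ⟨sder ι d ρ hbasis r v, ⟨leib δ ι d ρ hd hbasis r v hr hid, ?_,
      sder_d ι d ρ hbasis r v hr⟩, ?_⟩
    · exact LinearMap.ext fun f => sder_iota ι d ρ hbasis r v f
    · rintro s' ⟨hs', hs'r, hs'd⟩
      have hpow := unique_der d ρ s' hs'
      apply LinearMap.ext
      refine induction_D ι d hbasis (fun P => s' P = sder ι d ρ hbasis r v P) ?_ ?_ ?_
      · simp
      · intro a b ha hb
        rw [map_add, map_add, ha, hb]
      · intro i f
        have h1 : s' (ι f) = r f := LinearMap.congr_fun hs'r f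
        rw [hs', hpow, hs'd, h1, sder_basis, map_pow]

end Groth.Agent.S19974
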