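import Groth.Statements.S19994
import Mathlib
import Groth.Agent.Lib.Helper16WildFlat
import Groth.Agent.Lib.Helper16WildInv
import Groth.Agent.Lib.Helper16WildEt
import Groth.Agent.Lib.Helper19InvPrincipalC
import Groth.Agent.Lib.Helper28RegLoc
-- import your own Groth.Agent.* helpers here

set_option autoImplicit false
set_option linter.style.haveILetI false
set_option linter.unusedSectionVars false
universe u v w
open WildQuot

namespace Groth.Agent.S19994

open IsLocalRing Groth.Agent.Lib.Helper16.WildFlat Groth.Agent.Lib.Helper16.WildInv
  Groth.Agent.Lib.Helper16.WildEt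


/-- Let `A` be a complete regular local ring of Krull dimension at least `2` and prime characteristic
`p`, with maximal ideal `m`; let `k` be a field with a ring map `k → A` whose composite with `A →
A/m` is onto; let `G` be a group of order `p` acting on `A` by ring automorphisms fixing the image
of `k` and ramified precisely at the origin (for every prime `P ≠ m`, the inertia subgroup of `P`,
i.e. the elements of `G` fixing every element modulo `P`, is trivial). Then the singular locus of
`Spec A^G` is contained in the closed point: for every non-maximal prime ideal `P` of the invariant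
ring `A^G`, the localization `(A^G)_P` is a regular local ring. (The published statement also
asserts that the punctured spectrum of `A` is a `G`-torsor over the punctured spectrum of `A^G`;
this row omits that clause. Together with the non-regularity of `A^G` itself, the singular locus is
exactly the closed point.) -/
theorem result
    (p : ℕ) [Fact p.Prime] (A : Type u) [CommRing A] [IsRegularLocalRing A] [CharP A p]
    [IsAdicComplete (IsLocalRing.maximalIdeal A) A] (hdim : 2 ≤ ringKrullDim A)
    (k : Type v) [Field k] [Algebra k A]
    (hk : Function.Surjective (IsLocalRing.residue A ∘ algebraMap k A))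
    (G : Type w) [Group G] [Finite G] [MulSemiringAction G A] (hcard : Nat.card G = p)
    (hGk : ∀ (σ : G) (c : k), σ • algebraMap k A c = algebraMap k A c)
    (hram : ∀ P : Ideal A, P.IsPrime → P ≠ IsLocalRing.maximalIdeal A → P.inertia G = ⊥)
    (P : Ideal (FixedPoints.subring A G)) [P.IsPrime] (hP : ¬ P.IsMaximal) :
    IsRegularLocalRing (Localization.AtPrime P) := by
  classical
  cases nonempty_fintype G
  haveI hNA : IsNoetherianRing A := inferInstance
  haveI hfin : Module.Finite (FixedPoints.subring A G) A := finite_fixed hk hGk
  have hinj : Function.Injective (algebraMap (FixedPoints.subring A G) A) :=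
    Subtype.val_injective
  haveI hNB : IsNoetherianRing (FixedPoints.subring A G) :=
    Groth.Agent.Lib.Helper19.InvPrincipal.isNoetherianRing_of_finite_injective hinj
  haveI hint : Algebra.IsIntegral (FixedPoints.subring A G) A := Algebra.IsIntegral.of_finite _ _
  haveI hlocB : IsLocalRing (FixedPoints.subring A G) := isLocalRing_fixed
  have hram' : ∀ Q : Ideal A, Q.IsPrime → Q ≠ maximalIdeal A →
      ∀ σ : G, (∀ a : A, σ • a - a ∈ Q) → σ = 1 := by
    intro Q hQ hQm σ hσ
    have hmem : σ ∈ Q.inertia G := fun x => hσ x
    rw [hram Q hQ hQm] at hmem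
    exact Subgroup.mem_bot.mp hmem
  -- a prime of `A` over `P`
  obtain ⟨𝔭, -, h𝔭, h𝔭P⟩ := Ideal.exists_ideal_over_prime_of_isIntegral P (⊥ : Ideal A) (by
    rw [← RingHom.ker_eq_comap_bot, (RingHom.injective_iff_ker_eq_bot _).mp hinj]
    exact bot_le)
  haveI := h𝔭
  haveI : 𝔭.LiesOver P := ⟨h𝔭P.symm⟩
  -- an element of the maximal ideal outside `P`
  have hPlt : P < maximalIdeal (FixedPoints.subring A G) := by
    refine lt_of_le_of_ne (IsLocalRing.le_maximalIdeal (Ideal.IsPrime.ne_top inferInstance)) ?_
    intro h
    exact hP (h ▸ IsLocalRing.maximalIdeal.isMaximal _)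
  obtain ⟨s₀, hs₀m, hs₀P⟩ := SetLike.exists_of_lt hPlt
  have hs₀A : (s₀ : A) ∈ maximalIdeal A := by
    rw [IsLocalRing.mem_maximalIdeal, mem_nonunits_iff, ← isUnit_fixed_iff]
    exact hs₀m
  have hrad : ∀ σ : G, σ ≠ 1 →
      (s₀ : A) ∈ (Ideal.span (Set.range fun a : A => σ • a - a)).radical := by
    intro σ hσ
    rw [Ideal.radical_eq_sInf, Ideal.mem_sInf]
    rintro Q ⟨hQle, hQ⟩
    have hQm : Q = maximalIdeal A := by
      by_contra hne
      exact hσ (hram' Q hQ hne σ fun a => hQle (Ideal.subset_span ⟨a, rfl⟩))
    rw [hQm]
    exact hs₀A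
  obtain ⟨t, htP, c, hc⟩ := exists_dual_families P s₀ hs₀P hrad
  letI := Localization.AtPrime.algebraOfLiesOver P 𝔭
  haveI hflat : Module.Flat (Localization.AtPrime P) (Localization.AtPrime 𝔭) :=
    flat_localization P 𝔭 t htP c hc
  haveI : IsRegularLocalRing (Localization.AtPrime 𝔭) :=
    Groth.Agent.Lib.Helper28.isRegularLocalRing_localization_of_isRegularLocalRing A 𝔭
  haveI : IsNoetherianRing (Localization.AtPrime P) :=
    IsLocalization.isNoetherianRing P.primeCompl _ inferInstance
  haveI : IsLocalHom (algebraMap (Localization.AtPrime P) (Localization.AtPrime 𝔭)) :=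
    Localization.isLocalHom_localRingHom P 𝔭 (algebraMap (FixedPoints.subring A G) A)
      Ideal.LiesOver.over
  exact Groth.Agent.Lib.Helper28.isRegularLocalRing_of_flat_of_isLocalHom
    (Localization.AtPrime P) (Localization.AtPrime 𝔭)

end Groth.Agent.S19994
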