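import Groth.Statements.S2001
-- import your own Groth.Agent.* helpers here

set_option autoImplicit false
universe u
open TensorProduct
open EtAlg

namespace Groth.Agent.S2001

/-- Let (R -> R', f) be a glueing pair and M, N R-modules glueable for it. Given an R'-linear map φ' :
R' ⊗_R M -> R' ⊗_R N and an R-linear map φ₁ : M_f -> N_f which induce the same map into (R' ⊗_R N)_f
on elements of M, there is a unique R-linear map ψ : M -> N whose base change to R' is φ' and whose
localization is φ₁. -/
theorem result (R R' : Type u) [CommRing R] [CommRing R'] [Algebra R R'] (f : R)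
    (hRR : EtGlue.IsGlueingPair R R' f) (M N : Type u) [AddCommGroup M] [Module R M] [AddCommGroup N] [Module R N]
    (hM : EtGlue.IsGlueable R R' f M) (hN : EtGlue.IsGlueable R R' f N)
    (φ' : R' ⊗[R] M →ₗ[R'] R' ⊗[R] N)
    (φ₁ : LocalizedModule (Submonoid.powers f) M →ₗ[R] LocalizedModule (Submonoid.powers f) N)
    (hc : ∀ m : M, EtGlue.locOfTensor R R' f N (φ' ((1 : R') ⊗ₜ[R] m)) =
      EtGlue.tensorOfLoc R R' f N (φ₁ (LocalizedModule.mkLinearMap (Submonoid.powers f) M m))) :
    ∃! ψ : M →ₗ[R] N, ψ.baseChange R' = φ' ∧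
      IsLocalizedModule.map (Submonoid.powers f) (LocalizedModule.mkLinearMap (Submonoid.powers f) M)
        (LocalizedModule.mkLinearMap (Submonoid.powers f) N) ψ = φ₁ := by
  classical
  obtain ⟨hNinj, hNmid⟩ := hN
  have hex : ∀ m : M, ∃ n : N, (1 : R') ⊗ₜ[R] n = φ' ((1 : R') ⊗ₜ[R] m) ∧
      LocalizedModule.mkLinearMap (Submonoid.powers f) N n =
        φ₁ (LocalizedModule.mkLinearMap (Submonoid.powers f) M m) := fun m => hNmid _ _ (hc m)
  choose ψ hψ1 hψ2 using hex
  have huniq : ∀ (m : M) (n : N), (1 : R') ⊗ₜ[R] n = φ' ((1 : R') ⊗ₜ[R] m) →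
      LocalizedModule.mkLinearMap (Submonoid.powers f) N n =
        φ₁ (LocalizedModule.mkLinearMap (Submonoid.powers f) M m) → n = ψ m := by
    intro m n h1 h2
    apply hNinj
    simp only [h1, h2, hψ1, hψ2]
  let ψl : M →ₗ[R] N :=
    { toFun := ψ
      map_add' := by
        intro a b
        symm
        apply huniq
        · rw [TensorProduct.tmul_add, TensorProduct.tmul_add, map_add, hψ1, hψ1]
        · rw [map_add, map_add, map_add, hψ2, hψ2]
      map_smul' := by
        intro r a
        symm
        apply huniq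
        · rw [RingHom.id_apply, TensorProduct.tmul_smul, TensorProduct.tmul_smul,
            ← algebraMap_smul R' r ((1 : R') ⊗ₜ[R] a), map_smul, hψ1, algebraMap_smul]
        · rw [RingHom.id_apply, map_smul, map_smul, map_smul, hψ2] }
  have hψl : ∀ m, ψl m = ψ m := fun m => rfl
  refine ⟨ψl, ⟨?_, ?_⟩, ?_⟩
  · apply TensorProduct.AlgebraTensorModule.ext
    intro a m
    rw [LinearMap.baseChange_tmul, hψl]
    have : a ⊗ₜ[R] m = a • ((1 : R') ⊗ₜ[R] m) := by
      rw [TensorProduct.smul_tmul', smul_eq_mul, mul_one]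
    rw [this, map_smul, ← hψ1, TensorProduct.smul_tmul', smul_eq_mul, mul_one]
  · apply IsLocalizedModule.ext (Submonoid.powers f)
      (LocalizedModule.mkLinearMap (Submonoid.powers f) M)
      (IsLocalizedModule.map_units (LocalizedModule.mkLinearMap (Submonoid.powers f) N))
    ext m
    simp only [LinearMap.coe_comp, Function.comp_apply]
    rw [IsLocalizedModule.map_apply, hψl, hψ2]
  · rintro ψ' ⟨h1, h2⟩
    ext m
    rw [hψl]
    apply huniq
    · rw [← h1, LinearMap.baseChange_tmul]
    · rw [← h2, IsLocalizedModule.map_apply]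

end Groth.Agent.S2001
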