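import Groth.Statements.S20016
import Mathlib

set_option autoImplicit false
universe u
open CategoryTheory AlgebraicGeometry TopologicalSpace Opposite
open ModPair

namespace Groth.Agent.S20016
open CategoryTheory AlgebraicGeometry TopologicalSpace Opposite TensorProduct

/-- Ring-level: integral closedness in a localization away from `f` passes to étale algebras. -/
theorem alg_lemma {R S Rf Sf : Type u} [CommRing R] [CommRing S] [CommRing Rf] [CommRing Sf]
    [Algebra R S] [Algebra.Etale R S] [Algebra R Rf] [Algebra S Sf] (f : R)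
    [IsLocalization.Away f Rf] [IsLocalization.Away (algebraMap R S f) Sf]
    (h : ∀ a : Rf, IsIntegral R a → a ∈ Set.range (algebraMap R Rf)) (b : Sf) (hb : IsIntegral S b) :
    b ∈ Set.range (algebraMap S Sf) := by
  have : IsLocalization.Away (algebraMap R S f) (S ⊗[R] Rf) := inferInstance
  let e : (S ⊗[R] Rf) ≃ₐ[S] Sf :=
    IsLocalization.algEquiv (Submonoid.powers (algebraMap R S f)) _ _
  have hb' : IsIntegral S (e.symm b) := hb.map e.symm.toAlgHom
  have hsm : Algebra.Smooth R S := inferInstance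
  obtain ⟨z, hz⟩ := (TensorProduct.toIntegralClosure_bijective_of_smooth (R := R) (S := S)
    (B := Rf)).2 ⟨e.symm b, hb'⟩
  have key : ∀ z : S ⊗[R] integralClosure R Rf,
      ((TensorProduct.toIntegralClosure R S Rf z : integralClosure S (S ⊗[R] Rf)) : S ⊗[R] Rf) ∈
        Set.range (algebraMap S (S ⊗[R] Rf)) := by
    intro z
    induction z using TensorProduct.induction_on with
    | zero => exact ⟨0, by simp⟩
    | tmul s a =>
      obtain ⟨r, hr⟩ := h a.1 a.2
      refine ⟨s * algebraMap R S r, ?_⟩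
      simp only [TensorProduct.toIntegralClosure, AlgHom.coe_codRestrict,
        Algebra.TensorProduct.map_tmul, AlgHom.coe_id, id_eq, Subalgebra.coe_val,
        Algebra.TensorProduct.algebraMap_apply, Algebra.algebraMap_self, RingHom.id_apply]
      rw [← hr, Algebra.algebraMap_eq_smul_one (A := Rf) r, TensorProduct.tmul_smul, TensorProduct.smul_tmul',
        Algebra.smul_def, mul_comm]
    | add x y hx hy =>
      obtain ⟨a, ha⟩ := hx
      obtain ⟨b, hb⟩ := hy
      exact ⟨a + b, by rw [map_add, map_add, Subalgebra.coe_add, ha, hb]⟩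
  obtain ⟨s, hs⟩ := key z
  refine ⟨s, ?_⟩
  rw [hz] at hs
  have : e (algebraMap S (S ⊗[R] Rf) s) = b := by
    rw [hs]; exact e.apply_symm_apply b
  rw [← this, AlgEquiv.commutes]

section
variable {Y : Scheme.{u}}

/-- restriction -/
noncomputable abbrev rs {A B : Y.Opens} (h : A ≤ B) : Γ(Y, B) →+* Γ(Y, A) :=
  (Y.presheaf.map (homOfLE h).op).hom

theorem rs_rs {A B C : Y.Opens} (h1 : A ≤ B) (h2 : B ≤ C) (a : Γ(Y, C)) :
    rs h1 (rs h2 a) = rs (h1.trans h2) a := by
  simp only [rs]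
  rw [← CommRingCat.comp_apply, ← Functor.map_comp]
  rfl

theorem isIntegralElem_rs {A B A' B' : Y.Opens} (hAB : A ≤ B) (hA'B' : A' ≤ B') (hA : A' ≤ A)
    (hB : B' ≤ B) (t : Γ(Y, A)) (ht : (rs hAB).IsIntegralElem t) :
    (rs hA'B').IsIntegralElem (rs hA t) := by
  obtain ⟨p, hp, hpt⟩ := ht
  refine ⟨p.map (rs hB), hp.map _, ?_⟩
  rw [Polynomial.eval₂_map]
  have hcomp : (rs hA'B').comp (rs hB) = (rs hA).comp (rs hAB) := by
    ext a; simp only [RingHom.comp_apply]; rw [rs_rs, rs_rs]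
  rw [hcomp, ← Polynomial.hom_eval₂, hpt, map_zero]

/-- `Γ(W)` is integrally closed in `Γ(W ⊓ O)`. -/
def IC (O W : Y.Opens) : Prop :=
  ∀ t : Γ(Y, W ⊓ O), (rs (inf_le_left : W ⊓ O ≤ W)).IsIntegralElem t →
    t ∈ Set.range (rs (inf_le_left : W ⊓ O ≤ W))

theorem ic_of_eq {W O' : Y.Opens} (hO' : O' ≤ W) (O : Y.Opens) (h : W ⊓ O = O')
    (H : ∀ t : Γ(Y, O'), (rs hO').IsIntegralElem t → t ∈ Set.range (rs hO')) : IC O W := by
  subst h; exact H

theorem ic_to_eq {W O' : Y.Opens} (hO' : O' ≤ W) (O : Y.Opens) (h : W ⊓ O = O') (H : IC O W) :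
    ∀ t : Γ(Y, O'), (rs hO').IsIntegralElem t → t ∈ Set.range (rs hO') := by
  subst h; exact H

theorem inj_of_eq {W O' : Y.Opens} (hO' : O' ≤ W) (O : Y.Opens) (h : W ⊓ O = O')
    (H : Function.Injective (rs hO')) : Function.Injective (rs (inf_le_left : W ⊓ O ≤ W)) := by
  subst h; exact H

end

theorem inter_interior_eq {X : Scheme.{u}} (IX : X.IdealSheafData) (U : X.affineOpens)
    (f : Γ(X, U.1)) (hI : IX.ideal U = Ideal.span {f}) :
    U.1 ⊓ ModPair.interior IX = X.basicOpen f := by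
  ext x
  simp only [Opens.coe_inf, Set.mem_inter_iff, SetLike.mem_coe]
  constructor
  · rintro ⟨hxU, hx⟩
    by_contra hxf
    apply hx
    change x ∈ IX.support
    rw [Scheme.IdealSheafData.mem_support_iff_of_mem hxU, hI, Scheme.zeroLocus_span,
      Scheme.zeroLocus_singleton]
    exact hxf
  · intro hxf
    have hxU : x ∈ U.1 := X.basicOpen_le f hxf
    refine ⟨hxU, ?_⟩
    intro hx
    change x ∈ IX.support at hx
    rw [Scheme.IdealSheafData.mem_support_iff_of_mem hxU, hI, Scheme.zeroLocus_span,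
      Scheme.zeroLocus_singleton] at hx
    exact hx hxf

theorem good {X Y : Scheme.{u}} (g : Y ⟶ X) [Etale g] (IX : X.IdealSheafData)
    (hint : ∀ U ∈ X.affineOpens, IC (ModPair.interior IX) U)
    (U : X.affineOpens) (f : Γ(X, U.1)) (hf : f ∈ nonZeroDivisors Γ(X, U.1))
    (hI : IX.ideal U = Ideal.span {f})
    (W : Y.Opens) (hW : IsAffineOpen W) (e : W ≤ g ⁻¹ᵁ U.1) :
    Function.Injective (rs (inf_le_left : W ⊓ g ⁻¹ᵁ ModPair.interior IX ≤ W)) ∧
      IC (g ⁻¹ᵁ ModPair.interior IX) W := by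
  have h1 := inter_interior_eq IX U f hI
  have h2 : W ⊓ g ⁻¹ᵁ ModPair.interior IX = Y.basicOpen (g.appLE U.1 W e f) := by
    rw [Scheme.basicOpen_appLE, ← h1, Scheme.Hom.preimage_inf, ← inf_assoc,
      inf_eq_left.mpr e]
  have het : (g.appLE U.1 W e).hom.Etale :=
    HasRingHomProperty.appLE (P := @Etale) g inferInstance U ⟨W, hW⟩ e
  algebraize [(g.appLE U.1 W e).hom]
  have hlocX := U.2.isLocalization_basicOpen f
  have hlocY := hW.isLocalization_basicOpen (g.appLE U.1 W e f)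
  have hnzd : g.appLE U.1 W e f ∈ nonZeroDivisors Γ(Y, W) := by
    have hreg := Module.Flat.isSMulRegular_of_nonZeroDivisors (M := Γ(Y, W)) hf
    rw [mem_nonZeroDivisors_iff_right]
    intro z hz
    apply hreg
    simp only [smul_zero]
    rw [Algebra.smul_def, mul_comm]
    exact hz
  constructor
  · apply inj_of_eq (Y.basicOpen_le _) _ h2
    exact IsLocalization.injective _ (M := Submonoid.powers (g.appLE U.1 W e f))
      (Submonoid.powers_le.mpr hnzd)
  · apply ic_of_eq (Y.basicOpen_le _) _ h2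
    intro t ht
    exact alg_lemma (R := Γ(X, U.1)) (S := Γ(Y, W)) (Rf := Γ(X, X.basicOpen f)) f
      (ic_to_eq (X.basicOpen_le f) _ h1 (hint U.1 U.2)) t ht

theorem exists_good {X Y : Scheme.{u}} (g : Y ⟶ X) [Etale g] (IX : X.IdealSheafData)
    (hX : BlowUp.IsEffCartierIdeal IX)
    (hint : ∀ U ∈ X.affineOpens, IC (ModPair.interior IX) U) (y : Y) (N : Y.Opens) (hy : y ∈ N) :
    ∃ W : Y.Opens, y ∈ W ∧ W ≤ N ∧
      Function.Injective (rs (inf_le_left : W ⊓ g ⁻¹ᵁ ModPair.interior IX ≤ W)) ∧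
      IC (g ⁻¹ᵁ ModPair.interior IX) W := by
  obtain ⟨U, hxU, f, hf, hI⟩ := hX (g.base y)
  have hy' : y ∈ (g ⁻¹ᵁ U.1 ⊓ N : Y.Opens) := ⟨hxU, hy⟩
  obtain ⟨_, ⟨W, hW, rfl⟩, hyW, hWN⟩ :=
    Y.isBasis_affineOpens.exists_subset_of_mem_open hy' (g ⁻¹ᵁ U.1 ⊓ N).isOpen
  have hW1 : W ≤ g ⁻¹ᵁ U.1 := fun z hz => (hWN hz).1
  have hW2 : W ≤ N := fun z hz => (hWN hz).2
  exact ⟨W, hyW, hW2, good g IX hint U f hf hI W hW hW1⟩

theorem inj_all {X Y : Scheme.{u}} (g : Y ⟶ X) [Etale g] (IX : X.IdealSheafData)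
    (hX : BlowUp.IsEffCartierIdeal IX)
    (hint : ∀ U ∈ X.affineOpens, IC (ModPair.interior IX) U) (O : Y.Opens) :
    Function.Injective (rs (inf_le_left : O ⊓ g ⁻¹ᵁ ModPair.interior IX ≤ O)) := by
  intro a b hab
  have hloc : ∀ y : O, ∃ W : Y.Opens, y.1 ∈ W ∧ W ≤ O ∧
      Function.Injective (rs (inf_le_left : W ⊓ g ⁻¹ᵁ ModPair.interior IX ≤ W)) ∧
      IC (g ⁻¹ᵁ ModPair.interior IX) W := fun y => exists_good g IX hX hint y.1 O y.2
  choose W hyW hWO hinj _ using hloc
  have hcover : O ≤ iSup W := by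
    intro x hx
    simp only [Opens.mem_iSup]
    exact ⟨⟨x, hx⟩, hyW ⟨x, hx⟩⟩
  apply Y.sheaf.eq_of_locally_eq' W O (fun y => homOfLE (hWO y)) hcover
  intro y
  change rs (hWO y) a = rs (hWO y) b
  apply hinj y
  rw [rs_rs, rs_rs]
  have h3 : W y ⊓ g ⁻¹ᵁ ModPair.interior IX ≤ O ⊓ g ⁻¹ᵁ ModPair.interior IX :=
    inf_le_inf_right _ (hWO y)
  rw [← rs_rs h3 inf_le_left a, ← rs_rs h3 inf_le_left b, hab]

theorem main {Y : Scheme.{u}} (Yo : Y.Opens)
    (hgood : ∀ (y : Y) (N : Y.Opens), y ∈ N → ∃ W : Y.Opens, y ∈ W ∧ W ≤ N ∧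
      Function.Injective (rs (inf_le_left : W ⊓ Yo ≤ W)) ∧ IC Yo W)
    (hinjall : ∀ O : Y.Opens, Function.Injective (rs (inf_le_left : O ⊓ Yo ≤ O)))
    (V : Y.Opens) : IC Yo V := by
  intro t ht
  have hloc : ∀ y : V, ∃ W : Y.Opens, y.1 ∈ W ∧ W ≤ V ∧
      Function.Injective (rs (inf_le_left : W ⊓ Yo ≤ W)) ∧
      IC Yo W := fun y => hgood y.1 V y.2
  choose W hyW hWV hinj hic using hloc
  have hWV' : ∀ y, W y ⊓ Yo ≤ V ⊓ Yo := fun y => inf_le_inf_right _ (hWV y)
  have hs : ∀ y, ∃ s : Γ(Y, W y), rs (inf_le_left : W y ⊓ Yo ≤ W y) s = rs (hWV' y) t := fun y =>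
    hic y _ (isIntegralElem_rs inf_le_left inf_le_left (hWV' y) (hWV y) t ht)
  choose s hs using hs
  have hcover : V ≤ iSup W := by
    intro x hx
    simp only [Opens.mem_iSup]
    exact ⟨⟨x, hx⟩, hyW ⟨x, hx⟩⟩
  have hcompat : TopCat.Presheaf.IsCompatible Y.sheaf.obj W s := by
    intro y y'
    change rs (inf_le_left : W y ⊓ W y' ≤ W y) (s y) = rs (inf_le_right : W y ⊓ W y' ≤ W y') (s y')
    apply hinjall (W y ⊓ W y')
    rw [rs_rs, rs_rs]
    have e1 : W y ⊓ W y' ⊓ Yo ≤ W y ⊓ Yo := inf_le_inf_right _ inf_le_left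
    have e2 : W y ⊓ W y' ⊓ Yo ≤ W y' ⊓ Yo := inf_le_inf_right _ inf_le_right
    rw [← rs_rs e1 inf_le_left (s y), ← rs_rs e2 inf_le_left (s y'), hs, hs, rs_rs, rs_rs]
  obtain ⟨gl, gl_spec, -⟩ :=
    Y.sheaf.existsUnique_gluing' W V (fun y => homOfLE (hWV y)) hcover s hcompat
  refine ⟨gl, ?_⟩
  have hcover' : V ⊓ Yo ≤ iSup (fun y => W y ⊓ Yo) := by
    rintro x ⟨hx, hx'⟩
    simp only [Opens.mem_iSup]
    exact ⟨⟨x, hx⟩, hyW ⟨x, hx⟩, hx'⟩
  apply Y.sheaf.eq_of_locally_eq' (fun y => W y ⊓ Yo) (V ⊓ Yo) (fun y => homOfLE (hWV' y)) hcover'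
  intro y
  change rs (hWV' y) (rs inf_le_left gl) = rs (hWV' y) t
  rw [← hs, rs_rs]
  have : rs (hWV y) gl = s y := gl_spec y
  rw [← this, rs_rs]


/-- Let (X, I_X) be a modulus pair — a scheme X with the quasi-coherent ideal sheaf I_X of an effective
Cartier divisor — with interior X° (the open complement of the support of I_X), and suppose O_X is
integrally closed in O_{X°}: for every affine open U of X, every section of O_X over U ∩ X° which is
integral over Γ(U, O_X) along the restriction map is the restriction of a section over U. Let g : Y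
⟶ X be an étale morphism and Y° = g⁻¹(X°). Then O_Y is integrally closed in O_{Y°}: for every affine
open V of Y, every section of O_Y over V ∩ Y° which is integral over Γ(V, O_Y) along the restriction
map is the restriction of a section over V. (The text does not spell out the phrase integrally
closed for sheaves; it is rendered here affine-locally through restriction maps.) -/
theorem result {X Y : Scheme.{u}}
    (IX : X.IdealSheafData) (hX : BlowUp.IsEffCartierIdeal IX)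
    (hint : ∀ U ∈ X.affineOpens, ∀ s : Γ(X, U ⊓ ModPair.interior IX),
      (X.presheaf.map (homOfLE (inf_le_left : U ⊓ ModPair.interior IX ≤ U)).op).hom.IsIntegralElem s →
        s ∈ Set.range (X.presheaf.map (homOfLE (inf_le_left : U ⊓ ModPair.interior IX ≤ U)).op).hom)
    (g : Y ⟶ X) [Etale g] :
    ∀ V ∈ Y.affineOpens, ∀ t : Γ(Y, V ⊓ g ⁻¹ᵁ ModPair.interior IX),
      (Y.presheaf.map (homOfLE (inf_le_left : V ⊓ g ⁻¹ᵁ ModPair.interior IX ≤ V)).op).hom.IsIntegralElem t →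
        t ∈ Set.range (Y.presheaf.map (homOfLE (inf_le_left : V ⊓ g ⁻¹ᵁ ModPair.interior IX ≤ V)).op).hom := by
  intro V _
  exact main (g ⁻¹ᵁ ModPair.interior IX) (exists_good g IX hX hint) (inj_all g IX hX hint) V

end Groth.Agent.S20016
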