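import Groth.Statements.S20018
import Mathlib.Tactic
-- import your own Groth.Agent.* helpers here

set_option autoImplicit false
open CAlg

namespace Groth.Agent.S20018

section helpers
open PowerSeries
variable {R : Type*} [CommRing R]

/-- partial product -/
noncomputable def P (α : ℕ → R) (N : ℕ) : PowerSeries R :=
  ∏ i ∈ Finset.range N, (1 - PowerSeries.C (α i) * PowerSeries.X ^ (i + 1) : PowerSeries R)

theorem P_succ (α : ℕ → R) (N : ℕ) :
    P α (N + 1) = P α N * (1 - PowerSeries.C (α N) * PowerSeries.X ^ (N + 1)) := by
  unfold P; rw [Finset.prod_range_succ]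

theorem P_congr {α β : ℕ → R} {N : ℕ} (h : ∀ i < N, α i = β i) : P α N = P β N := by
  unfold P
  apply Finset.prod_congr rfl
  intro i hi
  rw [h i (Finset.mem_range.mp hi)]

theorem coeff_P_succ_of_le (α : ℕ → R) (N j : ℕ) (hj : j ≤ N) :
    coeff j (P α (N + 1)) = coeff j (P α N) := by
  have e : P α N * (1 - PowerSeries.C (α N) * PowerSeries.X ^ (N + 1)) =
      P α N - PowerSeries.C (α N) * (PowerSeries.X ^ (N + 1) * P α N) := by ring
  rw [P_succ, e, map_sub, PowerSeries.coeff_C_mul, PowerSeries.coeff_X_pow_mul',
    if_neg (by omega), mul_zero, sub_zero]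

theorem constantCoeff_P (α : ℕ → R) (N : ℕ) : coeff 0 (P α N) = 1 := by
  induction N with
  | zero => simp [P]
  | succ N ih => rw [coeff_P_succ_of_le α N 0 (Nat.zero_le _), ih]

theorem coeff_P_succ_self (α : ℕ → R) (N : ℕ) :
    coeff (N + 1) (P α (N + 1)) = coeff (N + 1) (P α N) - α N := by
  have e : P α N * (1 - PowerSeries.C (α N) * PowerSeries.X ^ (N + 1)) =
      P α N - PowerSeries.C (α N) * (PowerSeries.X ^ (N + 1) * P α N) := by ring
  rw [P_succ, e, map_sub, PowerSeries.coeff_C_mul,
    PowerSeries.coeff_X_pow_mul', if_pos le_rfl, Nat.sub_self, constantCoeff_P, mul_one]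

theorem trunc_eq_iff (n : ℕ) (f g : PowerSeries R) :
    PowerSeries.trunc n f = PowerSeries.trunc n g ↔ ∀ j < n, coeff j f = coeff j g := by
  constructor
  · intro h j hj
    have := congrArg (fun q => Polynomial.coeff q j) h
    simpa [PowerSeries.coeff_trunc, hj] using this
  · intro h
    ext j
    rw [PowerSeries.coeff_trunc, PowerSeries.coeff_trunc]
    split_ifs with hj
    · exact h j hj
    · rfl

/-- the recursively defined partial products -/
noncomputable def Q (x : PowerSeries R) : ℕ → PowerSeries R
  | 0 => 1
  | (N + 1) => Q x N * (1 - PowerSeries.C (coeff (N + 1) (Q x N) - coeff (N + 1) x) *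
      PowerSeries.X ^ (N + 1))

noncomputable def al (x : PowerSeries R) (N : ℕ) : R := coeff (N + 1) (Q x N) - coeff (N + 1) x

theorem P_al (x : PowerSeries R) (N : ℕ) : P (al x) N = Q x N := by
  induction N with
  | zero => simp [P, Q]
  | succ N ih => rw [P_succ, ih]; rfl

theorem coeff_P_al (x : PowerSeries R) (hx : coeff 0 x = 1) (N : ℕ) :
    ∀ j ≤ N, coeff j x = coeff j (P (al x) N) := by
  induction N with
  | zero =>
    intro j hj
    obtain rfl : j = 0 := by omega
    rw [constantCoeff_P, hx]
  | succ N ih =>
    intro j hj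
    rcases Nat.lt_or_ge j (N + 1) with h | h
    · rw [coeff_P_succ_of_le _ _ _ (by omega)]
      exact ih j (by omega)
    · obtain rfl : j = N + 1 := by omega
      rw [coeff_P_succ_self, P_al]
      unfold al
      ring

end helpers

open PowerSeries in
/-- Product expansion of big Witt vectors: let R be a commutative ring and x ∈ 1 + tR[[t]] a formal
power series with constant term 1. Then x can be written uniquely as an infinite product ∏_{i ≥ 1}
(1 - α_i t^i) with α_i ∈ R. The infinite product is expressed through its truncations: there is a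
unique sequence α : ℕ → R (α i standing for the coefficient attached to t^{i+1}) such that for every
N the series x and the finite product ∏_{i=0}^{N} (1 - α_i t^{i+1}) agree modulo t^{N+2}. -/
theorem result
    (R : Type*) [CommRing R] (x : PowerSeries R) (hx : PowerSeries.constantCoeff x = 1) :
    ∃! α : ℕ → R, ∀ N : ℕ,
      PowerSeries.trunc (N + 2) x =
        PowerSeries.trunc (N + 2) (∏ i ∈ Finset.range (N + 1),
          (1 - PowerSeries.C (α i) * PowerSeries.X ^ (i + 1) : PowerSeries R)) := by
  have hx0 : PowerSeries.coeff 0 x = 1 := by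
    rw [PowerSeries.coeff_zero_eq_constantCoeff_apply]; exact hx
  refine ⟨al x, ?_, ?_⟩
  · intro N
    show PowerSeries.trunc (N + 2) x = PowerSeries.trunc (N + 2) (P (al x) (N + 1))
    rw [trunc_eq_iff]
    intro j hj
    exact coeff_P_al x hx0 (N + 1) j (by omega)
  · intro β hβ
    have hβ' : ∀ N, ∀ j < N + 2, PowerSeries.coeff j x = PowerSeries.coeff j (P β (N + 1)) := by
      intro N
      have := hβ N
      rw [trunc_eq_iff] at this
      exact this
    funext N
    induction N using Nat.strong_induction_on with
    | _ N ih =>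
      have h1 := hβ' N (N + 1) (by omega)
      have h2 := coeff_P_al x hx0 (N + 1) (N + 1) le_rfl
      rw [coeff_P_succ_self] at h1 h2
      rw [P_congr (fun i hi => ih i hi)] at h1
      have : β N = al x N := by
        have h3 : PowerSeries.coeff (N + 1) (P (al x) N) - β N =
            PowerSeries.coeff (N + 1) (P (al x) N) - al x N := by rw [← h1, ← h2]
        exact sub_right_injective h3
      exact this

end Groth.Agent.S20018
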