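import Groth.Statements.S20021
import Groth.Agent.Lib.Helper25CFStableLocus

set_option autoImplicit false
universe u
open GIT

namespace Groth.Agent.S20021

open Groth.Agent.Lib.Helper25


/-- Let k be an algebraically closed field of arbitrary characteristic, A a reduced commutative Hopf
algebra of finite type over k all of whose finite-dimensional comodules are semisimple (a linearly
reductive affine algebraic group G = Spec A, an affine variety), and R a reduced commutative
k-algebra of finite type carrying an A-comodule structure whose coaction is an algebra map (an
action of G on the affine variety X = Spec R, which may be reducible). Call a k-point x of X stable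
when the image of its orbit morphism Spec A → Spec R is closed and A modulo the stabiliser ideal of
x is a finite k-module (closed orbit and zero-dimensional stabiliser). Then there is a set S of
invariant elements of R such that x is stable if and only if some member of S does not vanish at x;
in particular the stable locus is a union of basic open sets X_f with f invariant, hence open. (The
further assertion that the quotient map restricted to the stable locus is a geometric quotient onto
an open subset of Spec R^G is not part of this row. No hypothesis on the characteristic of k.) -/
theorem result (k : Type u) [Field k]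
    [IsAlgClosed k] (A : Type u) [CommRing A] [HopfAlgebra k A] [Algebra.FiniteType k A] [IsReduced A]
    (hG : HopfRep.IsLinearlyReductive k A)
    (R : Type u) [CommRing R] [IsReduced R] [Algebra k R] [Algebra.FiniteType k R]
    [HopfRep.Comod k A R] [GLin.IsCoactAlg k A R] :
    ∃ S : Set R, S ⊆ (GLin.invariants k A R : Set R) ∧
      ∀ x : R →ₐ[k] k, GLin.IsStablePt k A x ↔ ∃ f ∈ S, x f ≠ 0 := by
  obtain ⟨S, hS, h⟩ := CF.StableLocus.exists_stable_set (k := k) (A := A) (R := R) hG
  refine ⟨S, fun f hf => (mem_fixedPts_iff_mem_invariants f).mp (hS hf), fun x => ?_⟩
  rw [← h x]
  unfold GLin.IsStablePt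
  constructor
  · rintro ⟨hcl, hfs⟩
    refine ⟨fun z hz => exists_actPt_eq_of_isClosedOrbit hcl (fun f hf => hz f hf), ?_⟩
    haveI : Module.Finite k (A ⧸ GLin.stabIdeal k A x) := hfs
    haveI : Finite (A ⧸ GLin.stabIdeal k A x →ₐ[k] k) := Finite.algHom k _ k
    exact (CF.StabOpen.finite_points_iff x).mp inferInstance
  · rintro ⟨hcl, hfin⟩
    refine ⟨CF.FinOrb.isClosedOrbit_of_forall x hcl, ?_⟩
    haveI : Finite (A ⧸ GLin.stabIdeal k A x →ₐ[k] k) := (CF.StabOpen.finite_points_iff x).mpr hfin
    exact CF.StabDim.finite_of_finite_points

end Groth.Agent.S20021
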