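import Groth.Statements.S20022
import Mathlib

set_option autoImplicit false
universe u
open GrLC

namespace Groth.Agent.S20022

open DirectSum

section
variable {R : Type u} [CommRing R] (𝒜 : ℤ → AddSubgroup R) [GradedRing 𝒜]
  {M : Type u} [AddCommGroup M] [Module R M] (ℳ : ℤ → AddSubgroup M)
  [DirectSum.Decomposition ℳ] [SetLike.GradedSMul 𝒜 ℳ]

/-- projection formula -/
lemma comp_smul (e : ℤ) (m : M) (hm : m ∈ ℳ e) (a : R) (i : ℤ) :
    (decompose ℳ (a • m) (i + e) : M) = (decompose 𝒜 a i : R) • m := by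
  induction a using DirectSum.Decomposition.inductionOn 𝒜 with
  | zero => simp
  | @homogeneous j a =>
    have hmem : (a : R) • m ∈ ℳ (j + e) := SetLike.GradedSMul.smul_mem a.2 hm
    by_cases hji : j = i
    · subst hji
      rw [decompose_of_mem_same ℳ hmem, decompose_of_mem_same 𝒜 a.2]
    · rw [decompose_of_mem_ne ℳ hmem (by intro h; exact hji (add_right_cancel h)),
        decompose_of_mem_ne 𝒜 a.2 hji, zero_smul]
  | add a b ha hb =>
    rw [add_smul, decompose_add, decompose_add, DirectSum.add_apply, DirectSum.add_apply,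
      AddSubgroup.coe_add, AddSubgroup.coe_add, ha, hb, add_smul]

include 𝒜 in
/-- the span of homogeneous elements is closed under taking components -/
lemma span_comp (S : Set M) (hS : ∀ x ∈ S, SetLike.IsHomogeneousElem ℳ x) (x : M)
    (hx : x ∈ Submodule.span R S) (n : ℤ) : (decompose ℳ x n : M) ∈ Submodule.span R S := by
  induction hx using Submodule.closure_induction with
  | zero => simp
  | add x y _ _ hx hy =>
    rw [decompose_add, DirectSum.add_apply, AddSubgroup.coe_add]
    exact Submodule.add_mem _ hx hy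
  | smul_mem r x hxS =>
    obtain ⟨e, he⟩ := hS x hxS
    have : n = (n - e) + e := by ring
    rw [this, comp_smul 𝒜 ℳ e x he]
    exact Submodule.smul_mem _ _ (Submodule.subset_span hxS)

end


/-- Let R be a commutative ℤ-graded ring whose degree-zero subring R_0 is a field k and which is the
Laurent polynomial ring k[T, T⁻¹] on a homogeneous invertible element T of positive degree d, in the
following intrinsic sense: T is a unit lying in R_d, and every nonzero homogeneous element of degree
n equals a·T^j for some a ∈ R_0 and some integer j with j·d = n (so R_n = 0 unless d divides n, and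
R_{jd} = k·T^j). Then every graded R-module M is free in the graded sense: M has an R-basis
consisting of homogeneous elements. (The other case of condition (2), R = k concentrated in degree
zero, is not included.) -/
theorem result (R : Type u) [CommRing R]
    (𝒜 : ℤ → AddSubgroup R) [GradedRing 𝒜] (h0 : IsField (GrLC.deg0 𝒜))
    (d : ℤ) (hd : 0 < d) (T : Rˣ) (hT : (T : R) ∈ 𝒜 d)
    (hA : ∀ (n : ℤ) (x : R), x ∈ 𝒜 n → x ≠ 0 →
      ∃ j : ℤ, ∃ a ∈ 𝒜 0, j * d = n ∧ x = a * ((T ^ j : Rˣ) : R))
    (M : Type u) [AddCommGroup M] [Module R M] (ℳ : ℤ → AddSubgroup M)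
    [DirectSum.Decomposition ℳ] [SetLike.GradedSMul 𝒜 ℳ] :
    ∃ (κ : Type u) (b : Module.Basis κ R M), ∀ i : κ, SetLike.IsHomogeneousElem ℳ (b i) := by
  classical
  -- nonzero homogeneous elements are units
  have hunit : ∀ (n : ℤ) (x : R), x ∈ 𝒜 n → x ≠ 0 → IsUnit x := by
    intro n x hx hx0
    obtain ⟨j, a, ha, -, rfl⟩ := hA n x hx hx0
    have ha0 : a ≠ 0 := by
      rintro rfl
      exact hx0 (zero_mul _)
    have ha0' : (⟨a, ha⟩ : GrLC.deg0 𝒜) ≠ 0 := by
      intro h
      exact ha0 (congrArg Subtype.val h)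
    obtain ⟨b, hb⟩ := h0.mul_inv_cancel ha0'
    have hab : a * (b : R) = 1 := congrArg Subtype.val hb
    exact (IsUnit.of_mul_eq_one _ hab).mul (Units.isUnit _)
  obtain ⟨s, hs, hmax⟩ := exists_maximal_linearIndepOn R
    (fun m : {m : M // SetLike.IsHomogeneousElem ℳ m} => (m : M))
  set S : Set M := (fun m : {m : M // SetLike.IsHomogeneousElem ℳ m} => (m : M)) '' s with hSdef
  have hShom : ∀ x ∈ S, SetLike.IsHomogeneousElem ℳ x := by
    rintro _ ⟨m, -, rfl⟩
    exact m.2
  -- every homogeneous element lies in the span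
  have hhom : ∀ m : M, SetLike.IsHomogeneousElem ℳ m → m ∈ Submodule.span R S := by
    intro m hm
    by_cases hms : (⟨m, hm⟩ : {m : M // SetLike.IsHomogeneousElem ℳ m}) ∈ s
    · exact Submodule.subset_span ⟨⟨m, hm⟩, hms, rfl⟩
    · obtain ⟨a, ha0, ha⟩ := hmax _ hms
      change a • m ∈ Submodule.span R S at ha
      obtain ⟨e, he⟩ := hm
      have hex : ∃ i, (decompose 𝒜 a i : R) ≠ 0 := by
        by_contra hcon
        push Not at hcon
        apply ha0
        rw [← DirectSum.sum_support_decompose 𝒜 a]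
        exact Finset.sum_eq_zero fun i _ => hcon i
      obtain ⟨i, hi⟩ := hex
      have h1 := span_comp 𝒜 ℳ S hShom (a • m) ha (i + e)
      rw [comp_smul 𝒜 ℳ e m he] at h1
      obtain ⟨u, hu⟩ := hunit i _ (decompose 𝒜 a i).2 hi
      have : m = (↑u⁻¹ : R) • ((decompose 𝒜 a i : R) • m) := by
        rw [← hu, smul_smul, Units.inv_mul, one_smul]
      rw [this]
      exact Submodule.smul_mem _ _ h1
  have htop : ⊤ ≤ Submodule.span R S := by
    intro x _
    rw [← DirectSum.sum_support_decompose ℳ x]
    exact Submodule.sum_mem _ fun i _ => hhom _ ⟨i, (decompose ℳ x i).2⟩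
  have hrange : Set.range (fun x : s => ((x : {m : M // SetLike.IsHomogeneousElem ℳ m}) : M)) = S := by
    ext y
    constructor
    · rintro ⟨x, rfl⟩
      exact ⟨x.1, x.2, rfl⟩
    · rintro ⟨m, hm, rfl⟩
      exact ⟨⟨m, hm⟩, rfl⟩
  refine ⟨↥s, Module.Basis.mk (v := fun x : s => ((x : {m : M // SetLike.IsHomogeneousElem ℳ m}) : M))
    hs (by rw [hrange]; exact htop), fun i => ?_⟩
  rw [Module.Basis.mk_apply]
  exact i.1.2

end Groth.Agent.S20022
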