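import Groth.Statements.S20027
import Groth.Agent.Lib.Helper8VerPoly
import Groth.Agent.Lib.Helper8VerPresent
import Groth.Agent.Lib.Helper8GrField
import Groth.Agent.S18655

set_option autoImplicit false
universe u
open GrLC

namespace Groth.Agent.S20027

/-- Let k be a field, s ≥ 1, d ≥ 1, and R = k[X_1, …, X_s] graded with every variable in degree 1.
Present the Veronese subring R^(d) = ⊕_j R_{jd} as a commutative ring R' with an injective ring
homomorphism φ : R' → R whose image is the set of polynomials whose homogeneous components in all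
degrees not divisible by d are zero, and let m' be the maximal ideal of R' that is the preimage of
the ideal of polynomials with zero constant term (the irrelevant ideal of R^(d)). Let n be the least
integer such that n ≥ s and d divides n. Then the type of R^(d), namely the Bass number μ_s(m', R')
= dim over the residue field of Ext^s over the local ring R'_{m'} from its residue field to R'_{m'}
(here s = dim R'), equals the binomial coefficient (n − 1 choose s − 1). -/
theorem result (k : Type u) [Field k] (s d : ℕ) (hs : 1 ≤ s)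
    (hd : 1 ≤ d) (R' : Type u) [CommRing R'] (φ : R' →+* MvPolynomial (Fin s) k)
    (hφ : Function.Injective φ)
    (hrange : ∀ p : MvPolynomial (Fin s) k, p ∈ φ.range ↔
      ∀ j : ℕ, ¬ d ∣ j → MvPolynomial.homogeneousComponent j p = 0)
    (m' : Ideal R') [m'.IsMaximal]
    (hm' : m' = Ideal.comap φ (RingHom.ker (MvPolynomial.constantCoeff : MvPolynomial (Fin s) k →+* k)))
    (n : ℕ) (hsn : s ≤ n) (hdn : d ∣ n) (hmin : ∀ n' : ℕ, s ≤ n' → d ∣ n' → n ≤ n') :
    GrLC.bassNum m' R' s = (Nat.choose (n - 1) (s - 1) : ℕ∞) := by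
  classical
  open Groth.Agent.Lib.Helper8.VerPoly Groth.Agent.Lib.Helper8.VerGor in
  have hdz : (0 : ℤ) < d := by exact_mod_cast hd
  -- the range condition in terms of the decomposition
  have hrange' : ∀ x : MvPolynomial (Fin s) k, x ∈ φ.range ↔
      ∀ g : ℤ, ¬ ((d : ℕ) : ℤ) ∣ g → ((DirectSum.decompose (stdA k s) x) g :
        MvPolynomial (Fin s) k) = 0 := by
    intro x
    rw [hrange]
    constructor
    · intro h g hg
      rcases lt_or_ge g 0 with hneg | hnn
      · exact decompose_neg k s x g hneg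
      · obtain ⟨j, rfl⟩ := Int.eq_ofNat_of_zero_le hnn
        rw [decompose_natCast]
        exact h j (fun hdj => hg (Int.natCast_dvd_natCast.mpr hdj))
    · intro h j hj
      rw [← decompose_natCast]
      exact h (j : ℤ) (fun hdj => hj (Int.natCast_dvd_natCast.mp hdj))
  obtain ⟨𝒜', hgr, hdeg⟩ := Groth.Agent.Lib.Helper8.VerPresent.exists_gradedRing (stdA k s) d hd φ hφ
    hrange'
  have hm0 : GrLC.IsStarLocal (stdA k s) (irr (stdA k s)) :=
    isStarLocal_of_span (stdA k s) (hpos k s) (h0 k s) (irr (stdA k s)) rfl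
  obtain ⟨I⟩ := Groth.Agent.S13215.result (MvPolynomial (Fin s) k) (stdA k s)
    (MvPolynomial (Fin s) k) (stdA k s)
  have ha := endDeg_eq k s (irr (stdA k s)) hm0 rfl I
  -- the Veronese data
  let D : Groth.Agent.Lib.Helper8.Veronese.VerData (stdA k s) 𝒜' := ⟨φ, d, hd, fun j a ha => by
    rw [← hdeg j]
    exact ⟨a, ha, rfl⟩⟩
  have hsurj : ∀ j : ℤ, ∀ x ∈ stdA k s (j * D.q), ∃ a ∈ 𝒜' j, D.φ a = x := by
    intro j x hx
    have hx' : x ∈ (𝒜' j).map (φ : R' →+ MvPolynomial (Fin s) k) := by rw [hdeg j]; exact hx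
    obtain ⟨a, ha, hax⟩ := hx'
    exact ⟨a, ha, hax⟩
  have hφD : Function.Injective D.φ := hφ
  have hNoeth' : IsNoetherianRing R' :=
    Groth.Agent.Lib.Helper8.Veronese.isNoetherianRing_of_veronese D hφD hsurj
  have hpos' := hpos_veronese D hφD (hpos k s)
  have h0' := isField_deg0_veronese D hφD hsurj (h0 k s)
  have hm1 : GrLC.IsStarLocal 𝒜' (irr 𝒜') := isStarLocal_of_span 𝒜' hpos' h0' (irr 𝒜') rfl
  have hmax : (irr 𝒜').toIdeal.IsMaximal :=
    Groth.Agent.Lib.Helper8.GrField.isMaximal 𝒜' hpos' h0' (irr 𝒜') hm1 rfl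
  have hle : (irr 𝒜').toIdeal ≤ m' := by
    rw [irr_toIdeal]
    apply Ideal.span_le.mpr
    intro x hx
    obtain ⟨j, hj, hxj⟩ := Set.mem_iUnion₂.mp hx
    have hj0 : (0 : ℤ) < j := hj
    have h1 : φ x ∈ stdA k s (j * d) := by
      rw [← hdeg j]
      exact ⟨x, hxj, rfl⟩
    rw [hm']
    show MvPolynomial.constantCoeff (φ x) = 0
    by_contra hne
    have h2 := ((mem_stdA k s _ _).mp h1) (d := 0) hne
    rw [map_zero] at h2
    have : (0 : ℤ) < j * d := mul_pos hj0 hdz
    omega
  have heq : m' = (irr 𝒜').toIdeal :=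
    (hmax.eq_of_le (Ideal.IsMaximal.ne_top inferInstance) hle).symm
  subst heq
  have hρq : ((n : ℤ) - s) < d := by
    by_contra hcon
    rw [not_lt] at hcon
    have h1 : s ≤ n - d := by omega
    have h2 : d ∣ n - d := Nat.dvd_sub hdn (dvd_refl d)
    have := hmin (n - d) h1 h2
    omega
  have hρa : ((d : ℕ) : ℤ) ∣ (-(s : ℤ)) - ((n : ℤ) - s) := by
    have : (-(s : ℤ)) - ((n : ℤ) - s) = -(n : ℤ) := by ring
    rw [this, dvd_neg]
    exact Int.natCast_dvd_natCast.mpr hdn
  have hmain := Groth.Agent.S18655.result (MvPolynomial (Fin s) k) (stdA k s) (hpos k s) (h0 k s)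
    (irr (stdA k s)) hm0 rfl (hstd k s) s (hdim k s) I (-(s : ℤ)) ha d hd R' 𝒜' φ hφ hdeg
    (irr 𝒜') rfl ((n : ℤ) - s) (by omega) hρq hρa
  rw [hmain]
  congr 1
  have hns : ((n : ℤ) - s) = ((n - s : ℕ) : ℤ) := by omega
  rw [hns, finrank_piece k s (n - s)]
  have h1 : s + (n - s) - 1 = n - 1 := by omega
  rw [h1]
  exact Nat.choose_symm_of_eq_add (by omega)

end Groth.Agent.S20027
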