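import Groth.Statements.S2007
import Mathlib
import Groth.Agent.S2009

set_option autoImplicit false
universe u
open TensorProduct
open EtAlg

namespace Groth.Agent.S2007

variable (R S : Type u) [CommRing R] [CommRing S] [Algebra R S] (I : Ideal R)

theorem mu_injective (hsurj : Function.Surjective
      (Ideal.quotientMap (I.map (algebraMap R S)) (algebraMap R S) Ideal.le_comap_map))
    (X : Type u) [AddCommGroup X] [Module R X] [Module S X] [IsScalarTower R S X]
    (hX : ∀ x : X, ∃ n : ℕ, ∀ a ∈ I ^ n, a • x = 0) :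
    Function.Injective (LinearMap.liftBaseChange S (LinearMap.id : X →ₗ[R] X)) := by
  intro w w' h
  obtain ⟨x, rfl⟩ := Groth.Agent.S2009.surj_mk R S I hsurj X hX w
  obtain ⟨x', rfl⟩ := Groth.Agent.S2009.surj_mk R S I hsurj X hX w'
  simp only [TensorProduct.mk_apply, LinearMap.liftBaseChange_tmul, LinearMap.id_coe, id_eq,
    one_smul] at h
  rw [h]

section core

variable [Module.Flat R S]
variable (N : Type u) [AddCommGroup N] [Module R N] (M' : Type u) [AddCommGroup M'] [Module S M']
  [Module R M'] [IsScalarTower R S M'] (φ : M' →ₗ[S] S ⊗[R] N)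

/-- the fibre product -/
def Fmap : (M' × N) →ₗ[R] S ⊗[R] N :=
  (φ.restrictScalars R).comp (LinearMap.fst R M' N) -
    (TensorProduct.mk R S N 1).comp (LinearMap.snd R M' N)

abbrev Fib : Submodule R (M' × N) := LinearMap.ker (Fmap R S N M' φ)

theorem mem_Fib (p : M' × N) : p ∈ Fib R S N M' φ ↔ φ p.1 = 1 ⊗ₜ[R] p.2 := by
  simp [Fib, Fmap, sub_eq_zero]

def psi : Fib R S N M' φ →ₗ[R] N := (LinearMap.snd R M' N).comp (Submodule.subtype _)

def ell : Fib R S N M' φ →ₗ[R] M' := (LinearMap.fst R M' N).comp (Submodule.subtype _)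

def e0 : S ⊗[R] (Fib R S N M' φ) →ₗ[S] M' := (ell R S N M' φ).liftBaseChange S

theorem comm : φ ∘ₗ (e0 R S N M' φ) = (psi R S N M' φ).baseChange S := by
  apply TensorProduct.AlgebraTensorModule.ext
  intro s m
  simp only [LinearMap.comp_apply, e0, LinearMap.liftBaseChange_tmul, map_smul,
    LinearMap.baseChange_tmul]
  have hm := (mem_Fib R S N M' φ m.1).mp m.2
  simp only [ell, psi, LinearMap.comp_apply, Submodule.subtype_apply, LinearMap.fst_apply,
    LinearMap.snd_apply]
  rw [hm, TensorProduct.smul_tmul', smul_eq_mul, mul_one]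

abbrev Q := (S ⊗[R] N) ⧸ LinearMap.range φ

def pi : N →ₗ[R] Q R S N M' φ :=
  ((LinearMap.range φ).mkQ.restrictScalars R).comp (TensorProduct.mk R S N 1)

theorem exact_psi_pi : Function.Exact (psi R S N M' φ) (pi R S N M' φ) := by
  intro n
  simp only [pi, LinearMap.comp_apply, LinearMap.restrictScalars_apply, Submodule.mkQ_apply,
    Submodule.Quotient.mk_eq_zero, LinearMap.mem_range, TensorProduct.mk_apply, Set.mem_range]
  constructor
  · rintro ⟨m', hm'⟩
    exact ⟨⟨(m', n), (mem_Fib R S N M' φ _).mpr hm'⟩, rfl⟩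
  · rintro ⟨p, rfl⟩
    exact ⟨p.1.1, (mem_Fib R S N M' φ p.1).mp p.2⟩

def ii : ↥(LinearMap.ker φ) →ₗ[R] Fib R S N M' φ :=
  LinearMap.codRestrict _ ((LinearMap.inl R M' N).comp ((LinearMap.ker φ).subtype.restrictScalars R))
    (fun k => by
      rw [mem_Fib]
      simp only [LinearMap.comp_apply, LinearMap.restrictScalars_apply, Submodule.subtype_apply,
        LinearMap.inl_apply, TensorProduct.tmul_zero]
      exact k.2)

theorem exact_ii_psi : Function.Exact (ii R S N M' φ) (psi R S N M' φ) := by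
  intro p
  constructor
  · intro hp
    have hp2 : p.1.2 = 0 := hp
    have hmem := (mem_Fib R S N M' φ p.1).mp p.2
    rw [hp2, TensorProduct.tmul_zero] at hmem
    refine ⟨⟨p.1.1, hmem⟩, ?_⟩
    apply Subtype.ext
    refine Prod.ext rfl ?_
    exact hp2.symm
  · rintro ⟨k, rfl⟩
    rfl


theorem e0_surjective (hq : Function.Bijective
      (Ideal.quotientMap (I.map (algebraMap R S)) (algebraMap R S) Ideal.le_comap_map))
    (hker : ∀ x : M', φ x = 0 → ∃ n : ℕ, ∀ a ∈ I ^ n, a • x = 0)
    (hcoker : ∀ y : S ⊗[R] N, ∃ n : ℕ, ∀ a ∈ I ^ n, a • y ∈ LinearMap.range φ) :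
    Function.Surjective (e0 R S N M' φ) := by
  intro m'
  -- torsion of Q
  have hQ : ∀ x : Q R S N M' φ, ∃ n : ℕ, ∀ a ∈ I ^ n, a • x = 0 := by
    intro x
    obtain ⟨y, rfl⟩ := Submodule.Quotient.mk_surjective _ x
    obtain ⟨n, hn⟩ := hcoker y
    refine ⟨n, fun a ha => ?_⟩
    rw [← Submodule.Quotient.mk_smul, Submodule.Quotient.mk_eq_zero]
    exact hn a ha
  have hmu := mu_injective R S I hq.2 (Q R S N M' φ) hQ
  have hex := Module.Flat.lTensor_exact S (exact_psi_pi R S N M' φ)
  -- μ_Q ∘ lTensor π = mkQ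
  have hcomp : ∀ t : S ⊗[R] N, (LinearMap.liftBaseChange S (LinearMap.id : Q R S N M' φ →ₗ[R] Q R S N M' φ))
      ((pi R S N M' φ).lTensor S t) = Submodule.Quotient.mk t := by
    intro t
    induction t using TensorProduct.induction_on with
    | zero => simp
    | tmul s n =>
      simp only [LinearMap.lTensor_tmul, LinearMap.liftBaseChange_tmul, LinearMap.id_coe, id_eq, pi,
        LinearMap.comp_apply, LinearMap.restrictScalars_apply, Submodule.mkQ_apply,
        TensorProduct.mk_apply]
      rw [← Submodule.Quotient.mk_smul, TensorProduct.smul_tmul', smul_eq_mul, mul_one]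
    | add x y hx hy => simp only [map_add, hx, hy, Submodule.Quotient.mk_add]
  have h1 : (pi R S N M' φ).lTensor S (φ m') = 0 := by
    apply hmu
    rw [hcomp, map_zero, Submodule.Quotient.mk_eq_zero]
    exact ⟨m', rfl⟩
  obtain ⟨z, hz⟩ := (hex (φ m')).mp h1
  -- φ (e0 z) = φ m'
  have h2 : φ (e0 R S N M' φ z) = φ m' := by
    have := LinearMap.congr_fun (comm R S N M' φ) z
    rw [LinearMap.comp_apply] at this
    rw [this, ← hz]
    rfl
  have hk : m' - e0 R S N M' φ z ∈ LinearMap.ker φ := by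
    rw [LinearMap.mem_ker, map_sub, h2, sub_self]
  refine ⟨z + (1 : S) ⊗ₜ[R] (ii R S N M' φ ⟨_, hk⟩), ?_⟩
  rw [map_add]
  have : e0 R S N M' φ ((1 : S) ⊗ₜ[R] (ii R S N M' φ ⟨_, hk⟩)) = m' - e0 R S N M' φ z := by
    simp only [e0, LinearMap.liftBaseChange_tmul, one_smul]
    rfl
  rw [this]
  abel

theorem e0_injective (hq : Function.Bijective
      (Ideal.quotientMap (I.map (algebraMap R S)) (algebraMap R S) Ideal.le_comap_map))
    (hker : ∀ x : M', φ x = 0 → ∃ n : ℕ, ∀ a ∈ I ^ n, a • x = 0) :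
    Function.Injective (e0 R S N M' φ) := by
  rw [injective_iff_map_eq_zero]
  intro z hz
  have hK : ∀ x : ↥(LinearMap.ker φ), ∃ n : ℕ, ∀ a ∈ I ^ n, a • x = 0 := by
    intro x
    obtain ⟨n, hn⟩ := hker x.1 x.2
    exact ⟨n, fun a ha => Subtype.ext (hn a ha)⟩
  have hmu := mu_injective R S I hq.2 ↥(LinearMap.ker φ) hK
  have hex := Module.Flat.lTensor_exact S (exact_ii_psi R S N M' φ)
  have h1 : (psi R S N M' φ).lTensor S z = 0 := by
    have := LinearMap.congr_fun (comm R S N M' φ) z
    rw [LinearMap.comp_apply, hz, map_zero] at this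
    change (LinearMap.baseChange S (psi R S N M' φ)) z = 0
    exact this.symm
  obtain ⟨w, rfl⟩ := (hex z).mp h1
  -- e0 ∘ lTensor ii = subtype ∘ μ_K
  have hcomp : ∀ w : S ⊗[R] ↥(LinearMap.ker φ), e0 R S N M' φ ((ii R S N M' φ).lTensor S w) =
      ((LinearMap.liftBaseChange S (LinearMap.id : ↥(LinearMap.ker φ) →ₗ[R] ↥(LinearMap.ker φ))) w : M') := by
    intro w
    induction w using TensorProduct.induction_on with
    | zero => simp
    | tmul s k =>
      simp only [LinearMap.lTensor_tmul, e0, LinearMap.liftBaseChange_tmul, LinearMap.id_coe, id_eq]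
      rfl
    | add x y hx hy => simp only [map_add, hx, hy, Submodule.coe_add]
  rw [hcomp] at hz
  have : (LinearMap.liftBaseChange S (LinearMap.id : ↥(LinearMap.ker φ) →ₗ[R] ↥(LinearMap.ker φ))) w = 0 :=
    Subtype.ext hz
  rw [hmu (this.trans (map_zero _).symm), map_zero]

end core

/-- Let R -> S be a flat ring map and I a finitely generated ideal of R such that R/I -> S/IS is
bijective. Let N be an R-module, M' an S-module and φ : M' -> S ⊗_R N an S-linear map whose kernel
and cokernel are I-power torsion (every element of the kernel, resp. of the target modulo the image,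
is killed by some power of I). Then there are an R-module M, an R-linear map ψ : M -> N and an
S-isomorphism S ⊗_R M ≅ M' identifying φ with the base change of ψ. -/
theorem result (R S : Type u) [CommRing R] [CommRing S] [Algebra R S] [Module.Flat R S] (I : Ideal R)
    (hI : I.FG) (hq : Function.Bijective (Ideal.quotientMap (I.map (algebraMap R S)) (algebraMap R S) Ideal.le_comap_map))
    (N : Type u) [AddCommGroup N] [Module R N] (M' : Type u) [AddCommGroup M'] [Module S M'] (φ : M' →ₗ[S] S ⊗[R] N)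
    (hker : ∀ x : M', φ x = 0 → ∃ n : ℕ, ∀ a ∈ I ^ n, algebraMap R S a • x = 0)
    (hcoker : ∀ y : S ⊗[R] N, ∃ n : ℕ, ∀ a ∈ I ^ n, algebraMap R S a • y ∈ LinearMap.range φ) :
    ∃ (M : Type u) (_ : AddCommGroup M) (_ : Module R M) (ψ : M →ₗ[R] N) (e : S ⊗[R] M ≃ₗ[S] M'),
      φ ∘ₗ e.toLinearMap = ψ.baseChange S := by
  letI : Module R M' := Module.compHom M' (algebraMap R S)
  haveI : IsScalarTower R S M' := IsScalarTower.of_algebraMap_smul fun r m => rfl
  have hker' : ∀ x : M', φ x = 0 → ∃ n : ℕ, ∀ a ∈ I ^ n, a • x = 0 := by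
    intro x hx
    obtain ⟨n, hn⟩ := hker x hx
    exact ⟨n, fun a ha => by rw [← algebraMap_smul S a x]; exact hn a ha⟩
  have hcoker' : ∀ y : S ⊗[R] N, ∃ n : ℕ, ∀ a ∈ I ^ n, a • y ∈ LinearMap.range φ := by
    intro y
    obtain ⟨n, hn⟩ := hcoker y
    exact ⟨n, fun a ha => by rw [← algebraMap_smul S a y]; exact hn a ha⟩
  have hbij : Function.Bijective (e0 R S N M' φ) :=
    ⟨e0_injective R S I N M' φ hq hker', e0_surjective R S I N M' φ hq hker' hcoker'⟩
  refine ⟨Fib R S N M' φ, inferInstance, inferInstance, psi R S N M' φ,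
    LinearEquiv.ofBijective (e0 R S N M' φ) hbij, ?_⟩
  rw [← comm R S N M' φ]
  rfl

end Groth.Agent.S2007
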