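import Groth.Statements.S3432
import Mathlib
import Groth.Agent.Lib.Helper10PunctJacSch
-- import your own Groth.Agent.* helpers here

set_option autoImplicit false
open CategoryTheory AlgebraicGeometry
universe u
open EGA43

namespace Groth.Agent.S3432

/-- Let X be a locally Noetherian scheme and Y a closed subset of X such that every nonempty closed
subset of X meets Y. Then the open subscheme X ∖ Y (equivalently, the subspace X ∖ Y) is a Jacobson
space. -/
theorem result (X : Scheme.{u}) [IsLocallyNoetherian X] (Y : Set X)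
    (hY : IsClosed Y) (hmeet : ∀ Z : Set X, IsClosed Z → Z.Nonempty → (Z ∩ Y).Nonempty) :
    JacobsonSpace ↥(Yᶜ) := by
  classical
  have hUopen : IsOpen (Yᶜ : Set X) := hY.isOpen_compl
  rw [jacobsonSpace_iff_locallyClosed]
  intro Z hZne hZlc
  -- image of Z in X
  have hemb : Topology.IsOpenEmbedding (Subtype.val : ↥(Yᶜ : Set X) → X) :=
    hUopen.isOpenEmbedding_subtypeVal
  have hWlc : IsLocallyClosed (Subtype.val '' Z : Set X) :=
    hZlc.image hemb.isInducing hemb.isOpen_range.isLocallyClosed
  have hWne : (Subtype.val '' Z : Set X).Nonempty := hZne.image _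
  obtain ⟨z, ⟨z0, hz0Z, rfl⟩, hzcl⟩ :=
    Groth.Agent.Lib.Helper10.PunctJac.exists_closure_inter_subset_singleton X hWlc hWne
  have hlc : IsLocallyClosed ({z0.1} : Set X) := by
    have : ({z0.1} : Set X) = closure {z0.1} ∩ (Subtype.val '' Z) := by
      apply Set.Subset.antisymm
      · rintro _ rfl; exact ⟨subset_closure rfl, z0, hz0Z, rfl⟩
      · exact hzcl
    rw [this]; exact isClosed_closure.isLocallyClosed.inter hWlc
  refine ⟨z0, hz0Z, ?_⟩
  rw [mem_closedPoints_iff, Groth.Agent.Lib.Helper10.PunctJac.isClosed_singleton_subtype_iff]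
  intro w hwU hsp
  by_contra hne
  have hwcl : IsClosed ({w} : Set X) :=
    Groth.Agent.Lib.Helper10.PunctJac.isClosed_singleton_of_specializes_of_isLocallyClosed_scheme
      X hlc hsp hne
  obtain ⟨w', hw'1, hw'2⟩ := hmeet {w} hwcl (Set.singleton_nonempty w)
  rw [Set.mem_singleton_iff] at hw'1
  subst hw'1
  exact hwU hw'2

end Groth.Agent.S3432
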