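import Groth.Statements.S9832
import Mathlib
import Groth.Agent.S3432
-- import your own Groth.Agent.* helpers here

set_option autoImplicit false
universe u
open Props

namespace Groth.Agent.S9832

/-- For a Noetherian ring R and an ideal I inside the Jacobson radical of R, the complement of V(I) in
Spec R is a Jacobson topological space. -/
theorem result (R : Type u) [CommRing R] [IsNoetherianRing R]
    (I : Ideal R) (hI : I ≤ (⊥ : Ideal R).jacobson) :
    JacobsonSpace ↥((PrimeSpectrum.zeroLocus (I : Set R))ᶜ) := by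
  haveI : IsNoetherianRing (CommRingCat.of R) := ‹IsNoetherianRing R›
  have key := Groth.Agent.S3432.result (AlgebraicGeometry.Spec (CommRingCat.of R))
    (PrimeSpectrum.zeroLocus (I : Set R)) (PrimeSpectrum.isClosed_zeroLocus _) ?_
  · exact key
  · intro Z hZ hZne
    obtain ⟨J, rfl⟩ := (PrimeSpectrum.isClosed_iff_zeroLocus_ideal Z).mp hZ
    obtain ⟨x, hx⟩ := hZne
    obtain ⟨m, hm, hxm⟩ := Ideal.exists_le_maximal x.asIdeal x.isPrime.ne_top
    refine ⟨⟨m, hm.isPrime⟩, ?_, ?_⟩
    · exact fun a ha => hxm (hx ha)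
    · intro a ha
      have : a ∈ (⊥ : Ideal R).jacobson := hI ha
      rw [Ideal.jacobson, Ideal.mem_sInf] at this
      exact this ⟨bot_le, hm⟩

end Groth.Agent.S9832
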