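import Groth.Statements.S2012
import Mathlib

set_option autoImplicit false
universe u
open EtAlg

namespace Groth.Agent.S2012

/-- Let A be a ring and I an ideal contained in its Jacobson radical. Let B be an A-algebra which is
flat, integral and of finite presentation over A and such that A/I -> B/IB is bijective. Then A -> B
is bijective. -/
theorem result (A B : Type u) [CommRing A] [CommRing B] [Algebra A B]
    (I : Ideal A) (hI : I ≤ (⊥ : Ideal A).jacobson) [Module.Flat A B] [Algebra.IsIntegral A B] [Algebra.FinitePresentation A B]
    (hq : Function.Bijective (Ideal.quotientMap (I.map (algebraMap A B)) (algebraMap A B) Ideal.le_comap_map)) :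
    Function.Bijective (algebraMap A B) := by
  have hfin : Module.Finite A B := Algebra.IsIntegral.finite
  have hfp : Module.FinitePresentation A B := Module.FinitePresentation.of_finite_of_finitePresentation A B
  have hproj : Module.Projective A B := Module.Flat.projective_of_finitePresentation
  let φ : A →ₗ[A] B := Algebra.linearMap A B
  -- surjectivity
  have hsurj : Function.Surjective (algebraMap A B) := by
    have htop : (⊤ : Submodule A B) ≤ LinearMap.range φ := by
      apply Submodule.le_of_le_smul_of_le_jacobson_bot (I := I) Module.Finite.fg_top hI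
      intro b _
      obtain ⟨x, hx⟩ := hq.2 (Ideal.Quotient.mk _ b)
      obtain ⟨a, rfl⟩ := Ideal.Quotient.mk_surjective x
      rw [Ideal.quotientMap_mk] at hx
      have h1 : b - algebraMap A B a ∈ I.map (algebraMap A B) := Ideal.Quotient.eq.mp hx.symm
      have h2 : b - algebraMap A B a ∈ I • (⊤ : Submodule A B) := by
        rw [Ideal.smul_top_eq_map]; exact h1
      have h3 : b = algebraMap A B a + (b - algebraMap A B a) := by ring
      rw [h3]
      exact Submodule.add_mem_sup ⟨a, rfl⟩ h2
    intro b
    obtain ⟨a, ha⟩ := htop (Submodule.mem_top (x := b))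
    exact ⟨a, ha⟩
  refine ⟨?_, hsurj⟩
  -- injectivity
  obtain ⟨σ, hσ⟩ := Module.projective_lifting_property φ LinearMap.id hsurj
  let π : A →ₗ[A] A := LinearMap.id - σ ∘ₗ φ
  let K : Submodule A A := LinearMap.ker φ
  have hπK : ∀ x, π x ∈ K := by
    intro x
    show φ (π x) = 0
    have : φ (σ (φ x)) = φ x := LinearMap.congr_fun hσ (φ x)
    simp only [π, LinearMap.sub_apply, LinearMap.id_apply, LinearMap.comp_apply, map_sub, this,
      sub_self]
  have hπid : ∀ x ∈ K, π x = x := by
    intro x hx
    have : φ x = 0 := hx
    simp only [π, LinearMap.sub_apply, LinearMap.id_apply, LinearMap.comp_apply, this, map_zero,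
      sub_zero]
  have hKfg : K.FG := by
    have : K = LinearMap.range π := by
      apply le_antisymm
      · intro x hx; exact ⟨x, hπid x hx⟩
      · rintro _ ⟨x, rfl⟩; exact hπK x
    rw [this, LinearMap.range_eq_map]
    exact Submodule.FG.map _ Module.Finite.fg_top
  have hKI : K ≤ I • K := by
    intro x hx
    have hx0 : algebraMap A B x = 0 := hx
    have hxI : x ∈ I := by
      have h1 : Ideal.quotientMap (I.map (algebraMap A B)) (algebraMap A B) Ideal.le_comap_map
          (Ideal.Quotient.mk I x) = Ideal.quotientMap (I.map (algebraMap A B)) (algebraMap A B)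
          Ideal.le_comap_map 0 := by
        rw [Ideal.quotientMap_mk, hx0, map_zero, map_zero]
      exact Ideal.Quotient.eq_zero_iff_mem.mp (hq.1 h1)
    have h2 : x = x • π 1 := by
      rw [← map_smul, smul_eq_mul, mul_one, hπid x hx]
    rw [h2]
    exact Submodule.smul_mem_smul hxI (hπK 1)
  have hK0 : K = ⊥ := Submodule.eq_bot_of_le_smul_of_le_jacobson_bot I K hKfg hKI hI
  rw [injective_iff_map_eq_zero]
  intro x hx
  have : x ∈ K := hx
  rw [hK0] at this
  exact this

end Groth.Agent.S2012
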