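import Groth.Statements.S2013
import Groth.Agent.Lib.Helper28RedQuot2
import Groth.Agent.Lib.Helper28Equidim
-- import your own Groth.Agent.* helpers here

set_option autoImplicit false
universe u
open EtAlg

namespace Groth.Agent.S2013

/-- Let R be a catenary Noetherian local normal domain and J a nonzero radical ideal of R. Then J
contains a nonzero element f such that R/fR is reduced. (The source does not say 'nonzero ideal' but
its conclusion requires it.) -/
theorem result (R : Type u) [CommRing R] [IsDomain R] [IsNoetherianRing R]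
    [IsLocalRing R] [IsIntegrallyClosed R] (hc : CAlg.IsCatenary R) (J : Ideal R) (hJ : J.IsRadical) (hJ0 : J ≠ ⊥) :
    ∃ f ∈ J, f ≠ 0 ∧ IsReduced (R ⧸ Ideal.span {f}) := by
  classical
  by_cases hJtop : J = ⊤
  · refine ⟨1, by rw [hJtop]; exact Submodule.mem_top, one_ne_zero, ?_⟩
    have htop : Ideal.span {(1 : R)} = ⊤ := Ideal.span_singleton_one
    have hsub : Subsingleton (R ⧸ Ideal.span {(1 : R)}) :=
      Ideal.Quotient.subsingleton_iff.mpr htop
    exact ⟨fun x _ => Subsingleton.elim x 0⟩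
  have hJm : J ≤ IsLocalRing.maximalIdeal R := IsLocalRing.le_maximalIdeal hJtop
  obtain ⟨d, hd⟩ := Groth.Agent.Lib.Helper5.exists_nat_ringKrullDim_eq R
  have hm0 : IsLocalRing.maximalIdeal R ≠ ⊥ := fun h0 => hJ0 (le_bot_iff.mp (h0 ▸ hJm))
  by_cases h2 : 2 ≤ d
  · -- the main case
    have hequi : EGA4.IsEquidim R := by
      intro p hp
      rw [IsDomain.minimalPrimes_eq_singleton_bot, Set.mem_singleton_iff] at hp
      rw [hp]
      exact ringKrullDim_eq_of_ringEquiv (RingEquiv.quotientBot R)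
    have hQd : ∀ Q : PrimeSpectrum R, Q.asIdeal.height = 1 →
        ringKrullDim (R ⧸ Q.asIdeal) = ((d - 1 : ℕ) : WithBot ℕ∞) := by
      intro Q hQ
      have hQp := Q.isPrime
      have h1 := Groth.Agent.Lib.Helper28.height_add_ringKrullDim_quotient_eq_of_isEquidim
        hequi hc Q.asIdeal
      have hloc : IsLocalRing (R ⧸ Q.asIdeal) :=
        IsLocalRing.of_surjective' (Ideal.Quotient.mk _) Ideal.Quotient.mk_surjective
      obtain ⟨n, hn⟩ := Groth.Agent.Lib.Helper5.exists_nat_ringKrullDim_eq (R ⧸ Q.asIdeal)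
      rw [hQ, hn, hd] at h1
      have h1' : 1 + n = d := by exact_mod_cast h1
      rw [hn]
      have : n = d - 1 := by omega
      rw [this]
    exact Groth.Agent.Lib.Helper28.RedQuot.exists_reduced_quotient d hQd hd h2 J hJ hJ0 hJtop
  · -- dimension ≤ 1
    have hK1 : Ring.KrullDimLE 1 R := by
      rw [Ring.krullDimLE_iff, hd]
      have : d ≤ 1 := by omega
      exact_mod_cast this
    -- J = 𝔪
    have hJeq : J = IsLocalRing.maximalIdeal R := by
      apply le_antisymm hJm
      rw [← hJ.radical, Ideal.radical_eq_sInf]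
      apply le_sInf
      rintro P ⟨hJP, hPp⟩
      have hP0 : P ≠ ⊥ := fun h0 => hJ0 (le_bot_iff.mp (h0 ▸ hJP))
      have hPmax : P.IsMaximal := hPp.isMaximal_of_ne_bot hP0
      rw [IsLocalRing.eq_maximalIdeal hPmax]
    obtain ⟨f, hfm, hf2⟩ :=
      Groth.Agent.Lib.Helper28.RedQuot.exists_mem_not_mem_symSq (IsLocalRing.maximalIdeal R) hm0
    have hf0 : f ≠ 0 := by
      rintro rfl
      exact hf2 (zero_mem _)
    refine ⟨f, by rw [hJeq]; exact hfm, hf0,
      Groth.Agent.Lib.Helper28.RedQuot.isReduced_quotient_of_forall_not_mem_symSq f hf0 ?_⟩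
    intro Q hQp hht hfQ
    have hQ0 : Q ≠ ⊥ := by
      intro h0
      rw [h0, Ideal.mem_bot] at hfQ
      exact hf0 hfQ
    have hQmax : Q.IsMaximal := hQp.isMaximal_of_ne_bot hQ0
    have hQm : Q = IsLocalRing.maximalIdeal R := IsLocalRing.eq_maximalIdeal hQmax
    subst hQm
    exact hf2

end Groth.Agent.S2013
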