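import Groth.Statements.S2014
import Groth.Agent.Lib.Helper5ParamOneK
import Groth.Agent.Lib.Helper5IntegralMod

set_option autoImplicit false
universe u
open EtAlg

namespace Groth.Agent.S2014

/-- Let R be a Noetherian local ring of Krull dimension 1 and x an element of the maximal ideal
contained in no minimal prime of R. Then the number of minimal prime ideals of R is at most the
length of R/xR as an R-module. -/
theorem result (R : Type u) [CommRing R] [IsNoetherianRing R] [IsLocalRing R]
    (hdim : ringKrullDim R = 1) (x : R) (hx : x ∈ IsLocalRing.maximalIdeal R) (hmin : ∀ p ∈ minimalPrimes R, x ∉ p) :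
    (Set.ncard (minimalPrimes R) : ℕ∞) ≤ Module.length R (R ⧸ Ideal.span {x}) := by
  classical
  have hJm : Ideal.span {x} ⊔ (⊥ : Ideal R) ≤ IsLocalRing.maximalIdeal R := by
    rw [sup_bot_eq]
    exact (Ideal.span_singleton_le_iff_mem _).2 hx
  have hdimeq : Module.supportDim R (R ⧸ (⊥ : Ideal R)) = ringKrullDim R := by
    rw [Module.supportDim_quotient_eq_ringKrullDim]
    exact ringKrullDim_eq_of_ringEquiv (RingEquiv.quotientBot R)
  have hK0 : 0 < Module.supportDim R (R ⧸ (⊥ : Ideal R)) := by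
    rw [hdimeq, hdim]
    exact zero_lt_one
  have hK1 : Module.supportDim R (R ⧸ (⊥ : Ideal R)) ≤ ((1 : ℕ) : WithBot ℕ∞) := by
    rw [hdimeq, hdim]
    exact le_of_eq Nat.cast_one.symm
  -- primes containing `x` are maximal
  have hmaxP : ∀ P : Ideal R, P.IsPrime → Ideal.span {x} ⊔ (⊥ : Ideal R) ≤ P →
      P = IsLocalRing.maximalIdeal R := by
    intro P hP hle
    by_contra hne
    have hxP : x ∈ P := hle (Ideal.mem_sup_left (Ideal.mem_span_singleton_self x))
    haveI := hP
    obtain ⟨p, hp, hpP⟩ := Ideal.exists_minimalPrimes_le (bot_le : (⊥ : Ideal R) ≤ P)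
    have hpne : p ≠ P := by
      rintro rfl
      exact hmin p hp hxP
    have h1 : (⟨p, hp.1.1⟩ : PrimeSpectrum R) < ⟨P, hP⟩ := by
      rw [← PrimeSpectrum.asIdeal_lt_asIdeal]
      exact lt_of_le_of_ne hpP hpne
    have h2 : (⟨P, hP⟩ : PrimeSpectrum R) < IsLocalRing.closedPoint R := by
      rw [← PrimeSpectrum.asIdeal_lt_asIdeal]
      exact lt_of_le_of_ne (IsLocalRing.le_maximalIdeal hP.ne_top) hne
    have h3 := Order.coheight_add_one_le h1
    have h4 := Order.coheight_add_one_le h2
    have h5 : ((Order.coheight (⟨p, hp.1.1⟩ : PrimeSpectrum R) : ℕ∞) : WithBot ℕ∞) ≤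
        ringKrullDim R := Order.coheight_le_krullDim _
    rw [hdim] at h5
    have h6 : Order.coheight (⟨p, hp.1.1⟩ : PrimeSpectrum R) ≤ ((1 : ℕ) : ℕ∞) := by
      exact_mod_cast h5
    have h7 : ((1 : ℕ) : ℕ∞) + 1 ≤ ((1 : ℕ) : ℕ∞) := by
      refine le_trans ?_ h6
      refine le_trans ?_ h3
      refine add_le_add ?_ le_rfl
      refine le_trans ?_ h4
      rw [Nat.cast_one]
      exact le_add_self
    exact Groth.Agent.Lib.Helper5.IntegralMod.nat_succ_not_le 1 h7
  have hrad : IsLocalRing.maximalIdeal R ≤ (Ideal.span {x} ⊔ (⊥ : Ideal R)).radical := by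
    rw [Ideal.radical_eq_sInf]
    refine le_sInf (fun P hP => ?_)
    rw [hmaxP P hP.2 hP.1]
  have hI' := Ideal.exists_pow_le_of_le_radical_of_fg hrad (IsNoetherian.noetherian _)
  have hmain := (Groth.Agent.Lib.Helper5.ParamOneK.main x ⊥ R hx bot_le hJm hI' hK0 hK1).1
  have hlen : Module.length R (R ⧸ Ideal.span {x}) =
      Module.length R (R ⧸ (Ideal.span {x} • (⊤ : Submodule R R))) := by
    have h1 := Groth.Agent.Lib.Helper5.Reduction.length_quot_pow R (Ideal.span {x}) 1
    rw [pow_one] at h1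
    exact h1
  rw [hlen]
  refine le_trans ?_ hmain
  haveI : Fintype (⊥ : Ideal R).minimalPrimes :=
    (Ideal.finite_minimalPrimes_of_isNoetherianRing R _).fintype
  rw [finsum_eq_sum_of_fintype]
  have hcard : (Set.ncard (minimalPrimes R) : ℕ∞) =
      ∑ _p : (⊥ : Ideal R).minimalPrimes, (1 : ℕ∞) := by
    rw [Finset.sum_const, nsmul_eq_mul, mul_one, Finset.card_univ]
    have h1 : Set.ncard (minimalPrimes R) = Fintype.card (⊥ : Ideal R).minimalPrimes := by
      rw [← Nat.card_eq_fintype_card]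
      rfl
    rw [h1]
  rw [hcard]
  refine Finset.sum_le_sum (fun p _ => ?_)
  rw [Order.one_le_iff_ne_zero, Ne, Module.length_eq_zero_iff, not_subsingleton_iff_nontrivial]
  haveI : p.1.IsPrime := p.2.1.1
  have hsupp : (⟨p.1, p.2.1.1⟩ : PrimeSpectrum R) ∈ Module.support R R := by
    rw [Module.mem_support_iff_of_finite, Module.annihilator_eq_bot.2 inferInstance]
    exact bot_le
  exact Module.mem_support_iff.1 hsupp

end Groth.Agent.S2014
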