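import Groth.Statements.S2015
import Mathlib

set_option autoImplicit false
universe u
open EtAlg

namespace Groth.Agent.S2015

section Dev
variable {R : Type u} [CommRing R]

theorem exists_dvd_all (h : ∀ a b : R, a ∣ b ∨ b ∣ a) (s : Finset R) (hs : s.Nonempty) :
    ∃ d ∈ s, ∀ x ∈ s, d ∣ x := by
  induction hs using Finset.Nonempty.cons_induction with
  | singleton a =>
    exact ⟨a, Finset.mem_singleton_self a, fun x hx => by rw [Finset.mem_singleton.mp hx]⟩
  | cons a s ha hs ih =>
    obtain ⟨d, hd, hdall⟩ := ih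
    rcases h a d with h1 | h1
    · refine ⟨a, Finset.mem_cons_self a s, fun x hx => ?_⟩
      rcases Finset.mem_cons.mp hx with rfl | hx
      · exact dvd_rfl
      · exact h1.trans (hdall x hx)
    · refine ⟨d, Finset.mem_cons.mpr (Or.inr hd), fun x hx => ?_⟩
      rcases Finset.mem_cons.mp hx with rfl | hx
      · exact h1
      · exact hdall x hx

/-- quotient of a product by a product of submodules -/
noncomputable def quotProd {M N : Type*} [AddCommGroup M] [Module R M] [AddCommGroup N] [Module R N]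
    (p : Submodule R M) (q : Submodule R N) :
    ((M × N) ⧸ p.prod q) ≃ₗ[R] (M ⧸ p) × (N ⧸ q) :=
  (Submodule.quotEquivOfEq _ _ (by
    rw [LinearMap.ker_prodMap, Submodule.ker_mkQ, Submodule.ker_mkQ])).trans
    (LinearMap.quotKerEquivOfSurjective (p.mkQ.prodMap q.mkQ) (by
      rintro ⟨a, b⟩
      obtain ⟨a, rfl⟩ := p.mkQ_surjective a
      obtain ⟨b, rfl⟩ := q.mkQ_surjective b
      exact ⟨(a, b), rfl⟩))

/-- change of coordinates splitting off the line spanned by `u` (with `u i₀ = 1`). -/
noncomputable def splitEquiv {n : ℕ} (i₀ : Fin (n + 1)) (u : Fin (n + 1) → R) (hu : u i₀ = 1) :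
    (Fin (n + 1) → R) ≃ₗ[R] R × (Fin n → R) where
  toFun x := (x i₀, fun k => x (i₀.succAbove k) - x i₀ * u (i₀.succAbove k))
  map_add' x y := by
    ext k <;> simp <;> ring
  map_smul' c x := by
    ext k <;> simp <;> ring
  invFun ay := fun i => ay.1 * u i + Fin.insertNth (α := fun _ => R) i₀ (0 : R) ay.2 i
  left_inv x := by
    funext i
    refine Fin.succAboveCases i₀ ?_ ?_ i
    · simp [hu]
    · intro k; simp
  right_inv ay := by
    obtain ⟨a, y⟩ := ay
    ext k
    · simp [hu]
    · simp [hu]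


theorem main (h : ∀ a b : R, a ∣ b ∨ b ∣ a) (n : ℕ) :
    ∀ (m : ℕ) (v : Fin (m + 1) → Fin n → R),
      ∃ f : Fin n → R, Nonempty
        (((Fin n → R) ⧸ Submodule.span R (Set.range v)) ≃ₗ[R]
          ((i : Fin n) → R ⧸ Ideal.span {f i})) := by
  induction n with
  | zero =>
    intro m v
    refine ⟨fun _ => 0, ⟨?_⟩⟩
    haveI : Subsingleton ((Fin 0 → R) ⧸ Submodule.span R (Set.range v)) :=
      (Submodule.Quotient.mk_surjective _).subsingleton
    exact LinearEquiv.ofSubsingleton _ _
  | succ n ih =>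
    intro m v
    classical
    -- the set of entries
    let S : Finset R := Finset.image (fun p : Fin (m + 1) × Fin (n + 1) => v p.1 p.2) Finset.univ
    have hS : S.Nonempty := ⟨v 0 0, Finset.mem_image.mpr ⟨(0, 0), Finset.mem_univ _, rfl⟩⟩
    obtain ⟨d, hdS, hdall⟩ := exists_dvd_all h S hS
    obtain ⟨⟨j₀, i₀⟩, -, hd⟩ := Finset.mem_image.mp hdS
    have hdv : ∀ j i, d ∣ v j i := fun j i =>
      hdall _ (Finset.mem_image.mpr ⟨(j, i), Finset.mem_univ _, rfl⟩)
    choose q hq using hdv
    let q' : Fin (m + 1) → Fin (n + 1) → R := fun j i =>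
      if j = j₀ ∧ i = i₀ then 1 else q j i
    have hq' : ∀ j i, v j i = d * q' j i := by
      intro j i
      by_cases hji : j = j₀ ∧ i = i₀
      · simp only [q', if_pos hji, mul_one]
        rw [hji.1, hji.2]; exact hd
      · simp only [q', if_neg hji]; exact hq j i
    have hq'1 : q' j₀ i₀ = 1 := by simp [q']
    let u : Fin (n + 1) → R := q' j₀
    let c : Fin (m + 1) → R := fun j => q' j i₀
    let w : Fin (m + 1) → Fin n → R := fun j k =>
      v j (i₀.succAbove k) - c j * v j₀ (i₀.succAbove k)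
    let e := splitEquiv i₀ u hq'1
    set K := Submodule.span R (Set.range v) with hK
    have hev : ∀ j, e (v j) = (d * c j, w j) := by
      intro j
      refine Prod.ext ?_ ?_
      · exact hq' j i₀
      · funext k
        show v j (i₀.succAbove k) - v j i₀ * u (i₀.succAbove k) = _
        simp only [w]
        rw [hq' j i₀, hq' j₀ (i₀.succAbove k)]
        ring
    have hc0 : c j₀ = 1 := hq'1
    have hw0 : w j₀ = 0 := by
      funext k; simp [w, hc0]
    have hKe : K.map (e : (Fin (n + 1) → R) →ₗ[R] R × (Fin n → R)) =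
        Submodule.prod (Ideal.span {d} : Submodule R R) (Submodule.span R (Set.range w)) := by
      apply le_antisymm
      · rw [Submodule.map_le_iff_le_comap, hK, Submodule.span_le]
        rintro _ ⟨j, rfl⟩
        show e (v j) ∈ Submodule.prod (Ideal.span {d} : Submodule R R) (Submodule.span R (Set.range w))
        rw [hev j]
        exact ⟨Ideal.mul_mem_right _ _ (Ideal.subset_span rfl),
          Submodule.subset_span ⟨j, rfl⟩⟩
      · rintro ⟨a, y⟩ ⟨ha, hy⟩
        have h1 : ((a, 0) : R × (Fin n → R)) ∈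
            K.map (e : (Fin (n + 1) → R) →ₗ[R] R × (Fin n → R)) := by
          obtain ⟨r, rfl⟩ := Ideal.mem_span_singleton'.mp ha
          refine ⟨r • v j₀, K.smul_mem r (Submodule.subset_span ⟨j₀, rfl⟩), ?_⟩
          show e (r • v j₀) = _
          rw [map_smul, hev j₀, hw0, hc0]
          simp
        have h2 : ((0, y) : R × (Fin n → R)) ∈
            K.map (e : (Fin (n + 1) → R) →ₗ[R] R × (Fin n → R)) := by
          have : Submodule.span R (Set.range w) ≤
              (K.map (e : (Fin (n + 1) → R) →ₗ[R] R × (Fin n → R))).comap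
                (LinearMap.inr R R (Fin n → R)) := by
            rw [Submodule.span_le]
            rintro _ ⟨j, rfl⟩
            show ((0, w j) : R × (Fin n → R)) ∈
              K.map (e : (Fin (n + 1) → R) →ₗ[R] R × (Fin n → R))
            refine ⟨v j - c j • v j₀, K.sub_mem (Submodule.subset_span ⟨j, rfl⟩)
              (K.smul_mem _ (Submodule.subset_span ⟨j₀, rfl⟩)), ?_⟩
            show e (v j - c j • v j₀) = _
            rw [map_sub, map_smul, hev j, hev j₀, hw0, hc0]
            simp [mul_comm]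
          exact this hy
        have : ((a, y) : R × (Fin n → R)) = (a, 0) + (0, y) := by simp
        rw [this]
        exact Submodule.add_mem _ h1 h2
    obtain ⟨f, ⟨φ⟩⟩ := ih m w
    refine ⟨Fin.cons d f, ⟨?_⟩⟩
    let e1 : ((Fin (n + 1) → R) ⧸ K) ≃ₗ[R]
        ((R × (Fin n → R)) ⧸ K.map (e : (Fin (n + 1) → R) →ₗ[R] R × (Fin n → R))) :=
      Submodule.Quotient.equiv K _ e rfl
    let e2 : ((R × (Fin n → R)) ⧸ K.map (e : (Fin (n + 1) → R) →ₗ[R] R × (Fin n → R))) ≃ₗ[R]
        ((R × (Fin n → R)) ⧸
          Submodule.prod (Ideal.span {d} : Submodule R R) (Submodule.span R (Set.range w))) :=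
      Submodule.quotEquivOfEq _ _ hKe
    let e3 := quotProd (Ideal.span {d} : Submodule R R) (Submodule.span R (Set.range w))
    let e4 : ((R ⧸ (Ideal.span {d} : Submodule R R)) ×
          ((Fin n → R) ⧸ Submodule.span R (Set.range w))) ≃ₗ[R]
        ((R ⧸ (Ideal.span {d} : Ideal R)) × ((i : Fin n) → R ⧸ Ideal.span {f i})) :=
      LinearEquiv.prodCongr (LinearEquiv.refl R _) φ
    let e5 : ((R ⧸ (Ideal.span {d} : Ideal R)) × ((i : Fin n) → R ⧸ Ideal.span {f i})) ≃ₗ[R]
        ((i : Fin (n + 1)) → R ⧸ Ideal.span {(Fin.cons d f : Fin (n + 1) → R) i}) :=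
      Fin.consLinearEquiv R
        (fun i : Fin (n + 1) => R ⧸ Ideal.span {(Fin.cons d f : Fin (n + 1) → R) i})
    exact e1.trans (e2.trans (e3.trans (e4.trans e5)))

theorem final (h : ∀ a b : R, a ∣ b ∨ b ∣ a)
    (M : Type u) [AddCommGroup M] [Module R M] [Module.FinitePresentation R M] :
    ∃ (n : ℕ) (f : Fin n → R), Nonempty (M ≃ₗ[R] ((i : Fin n) → R ⧸ Ideal.span {f i})) := by
  obtain ⟨n, K, e, hK⟩ := Module.FinitePresentation.exists_fin R M
  obtain ⟨m, s, hs⟩ := Submodule.fg_iff_exists_fin_generating_family.mp hK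
  obtain ⟨f, ⟨φ⟩⟩ := main h n m (Fin.cons 0 s)
  have hspan : Submodule.span R (Set.range (Fin.cons 0 s : Fin (m + 1) → Fin n → R)) = K := by
    rw [Fin.range_cons, Submodule.span_insert_zero, hs]
  exact ⟨n, f, ⟨e.trans ((Submodule.quotEquivOfEq _ _ hspan.symm).trans φ)⟩⟩


end Dev

/-- Let R be a nonzero ring such that for all a, b in R either a divides b or b divides a. Then each
finitely presented R-module decomposes as a direct sum of finitely many cyclic modules R/fR. -/
theorem result (R : Type u) [CommRing R] [Nontrivial R] (h : ∀ a b : R, a ∣ b ∨ b ∣ a)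
    (M : Type u) [AddCommGroup M] [Module R M] [Module.FinitePresentation R M] :
    ∃ (n : ℕ) (f : Fin n → R), Nonempty (M ≃ₗ[R] ((i : Fin n) → R ⧸ Ideal.span {f i})) := by
  exact final h M

end Groth.Agent.S2015
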