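import Groth.Statements.S2017
-- import your own Groth.Agent.* helpers here

set_option autoImplicit false
universe u
open EtAlg

namespace Groth.Agent.S2017

/-- Let R be a Noetherian ring, A, B, C R-algebras of finite type, f : A -> B a surjective R-algebra map
and g : C -> B an R-algebra map making B a finite C-module. Then the fibre product A ×_B C (the
equalizer of f ∘ pr₁ and g ∘ pr₂ in A × C) is an R-algebra of finite type. -/
theorem result (R A B C : Type u) [CommRing R] [IsNoetherianRing R] [CommRing A] [CommRing B]
    [CommRing C] [Algebra R A] [Algebra R B] [Algebra R C] [Algebra.FiniteType R A] [Algebra.FiniteType R B]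
    [Algebra.FiniteType R C] (f : A →ₐ[R] B) (hf : Function.Surjective f) (g : C →ₐ[R] B)
    (hg : (g.toRingHom).Finite) :
    Algebra.FiniteType R ↥(AlgHom.equalizer (f.comp (AlgHom.fst R A C)) (g.comp (AlgHom.snd R A C))) := by
  classical
  set P := AlgHom.equalizer (f.comp (AlgHom.fst R A C)) (g.comp (AlgHom.snd R A C)) with hP
  have hmemP : ∀ x : A × C, x ∈ P ↔ f x.1 = g x.2 := fun x => by
    simp [hP, AlgHom.mem_equalizer]
  -- finiteness of `B` over `C`
  letI : Algebra C B := g.toRingHom.toAlgebra
  have hfin : Module.Finite C B := hg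
  obtain ⟨S, hS⟩ := hfin.fg_top
  have hsmul : ∀ (c : C) (b : B), c • b = g c * b := fun c b => rfl
  -- lifts of the generators
  choose lift hlift using hf
  let T : Set (A × C) := (fun b => (lift b, (0 : C))) '' (S : Set B) ∪ {((1 : A), (0 : C)), ((0 : A), (1 : C))}
  have hTfin : T.Finite := (S.finite_toSet.image _).union (by simp)
  let N : Submodule P (A × C) := Submodule.span P T
  have hker : ∀ a : A, f a = 0 → ((a, 0) : A × C) ∈ N := by
    intro a ha
    have hmem : ((a, 0) : A × C) ∈ P := by rw [hmemP]; simp [ha]
    have h10 : (((1 : A), (0 : C)) : A × C) ∈ N := Submodule.subset_span (by simp [T])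
    have := N.smul_mem ⟨_, hmem⟩ h10
    convert this using 1
    ext <;> simp [Subalgebra.smul_def]
  have hA : ∀ b : B, b ∈ Submodule.span C (S : Set B) → ∀ a : A, f a = b → ((a, 0) : A × C) ∈ N := by
    intro b hb
    induction hb using Submodule.span_induction with
    | mem b hbS =>
      intro a ha
      have h1 : ((lift b, 0) : A × C) ∈ N := Submodule.subset_span (by
        left; exact ⟨b, hbS, rfl⟩)
      have h2 := hker (a - lift b) (by rw [map_sub, ha, hlift, sub_self])
      have := N.add_mem h1 h2
      convert this using 1
      ext <;> simp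
    | zero => exact fun a ha => hker a ha
    | add b1 b2 _ _ ih1 ih2 =>
      intro a ha
      have h1 := ih1 (lift b1) (hlift b1)
      have h2 := ih2 (a - lift b1) (by rw [map_sub, ha, hlift]; ring)
      have := N.add_mem h1 h2
      convert this using 1
      ext <;> simp
    | smul c b _ ih =>
      intro a ha
      have h1 := ih (lift b) (hlift b)
      have hmem : ((lift (g c), c) : A × C) ∈ P := by rw [hmemP]; simp [hlift]
      have h2 := N.smul_mem ⟨_, hmem⟩ h1
      have h3 := hker (a - lift (g c) * lift b) (by
        rw [map_sub, ha, map_mul, hlift, hlift, hsmul, sub_self])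
      have := N.add_mem h2 h3
      convert this using 1
      ext <;> simp [Subalgebra.smul_def]
  have hC : ∀ c : C, ((0, c) : A × C) ∈ N := by
    intro c
    have hmem : ((lift (g c), c) : A × C) ∈ P := by rw [hmemP]; simp [hlift]
    have h01 : (((0 : A), (1 : C)) : A × C) ∈ N := Submodule.subset_span (by simp [T])
    have := N.smul_mem ⟨_, hmem⟩ h01
    convert this using 1
    ext <;> simp [Subalgebra.smul_def]
  have hN : N = ⊤ := by
    rw [eq_top_iff]
    rintro ⟨a, c⟩ -
    have h1 := hA (f a) (by rw [hS]; trivial) a rfl
    have h2 := hC c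
    have := N.add_mem h1 h2
    convert this using 1
    ext <;> simp
  have hfg : (⊤ : Submodule P (A × C)).FG := by
    rw [← hN]
    exact Submodule.fg_span hTfin
  have hAC : (⊤ : Subalgebra R (A × C)).FG := (inferInstance : Algebra.FiniteType R (A × C)).out
  have := fg_of_fg_of_fg R P (A × C) hAC hfg Subtype.val_injective
  exact ⟨this⟩

end Groth.Agent.S2017
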