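import Groth.Statements.S2018
-- import your own Groth.Agent.* helpers here

set_option autoImplicit false
universe u
open EtAlg

namespace Groth.Agent.S2018

open Polynomial in
/-- Let g : A' -> A be a surjective ring map and f : B -> A an integral ring map. Then the projection
from the fibre product B ×_A A' (the equalizer of f ∘ pr₁ and g ∘ pr₂ in B × A') to A' is integral. -/
theorem result (A A' B : Type u) [CommRing A] [CommRing A'] [CommRing B] (g : A' →+* A)
    (hg : Function.Surjective g) (f : B →+* A) (hf : f.IsIntegral) :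
    ((RingHom.snd B A').comp ((f.comp (RingHom.fst B A')).eqLocus (g.comp (RingHom.snd B A'))).subtype).IsIntegral := by
  intro a'
  obtain ⟨p, hpm, hp⟩ := hf (g a')
  have hs : ∀ b : B, ∃ x : (f.comp (RingHom.fst B A')).eqLocus (g.comp (RingHom.snd B A')),
      x.1.1 = b := by
    intro b
    obtain ⟨a'', ha''⟩ := hg (f b)
    exact ⟨⟨(b, a''), by simp [RingHom.eqLocus, ha'']⟩, rfl⟩
  choose s hs using hs
  have hmem : ∀ x : (f.comp (RingHom.fst B A')).eqLocus (g.comp (RingHom.snd B A')),
      g x.1.2 = f x.1.1 := fun x => by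
    have := x.2
    simpa [RingHom.eqLocus] using this.symm
  set π := (RingHom.snd B A').comp
    ((f.comp (RingHom.fst B A')).eqLocus (g.comp (RingHom.snd B A'))).subtype with hπ
  have hπs : ∀ b : B, g (π (s b)) = f b := fun b => by
    have := hmem (s b)
    rw [hs b] at this
    simpa [hπ] using this
  set n := p.natDegree with hn
  set r : (↥((f.comp (RingHom.fst B A')).eqLocus (g.comp (RingHom.snd B A'))))[X] :=
    ∑ i ∈ Finset.range n, C (s (p.coeff i)) * X ^ i with hr
  have hrdeg : r.degree < n := by
    rw [hr]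
    refine lt_of_le_of_lt (Polynomial.degree_sum_le _ _) ?_
    refine (Finset.sup_lt_iff (WithBot.bot_lt_coe n)).mpr ?_
    intro i hi
    refine lt_of_le_of_lt (Polynomial.degree_C_mul_X_pow_le _ _) ?_
    exact WithBot.coe_lt_coe.mpr (Finset.mem_range.mp hi)
  set q0 := X ^ n + r with hq0
  have hq0m : q0.Monic := Polynomial.monic_X_pow_add hrdeg
  set c := eval₂ π a' q0 with hc
  have hgc : g c = 0 := by
    rw [hc, Polynomial.hom_eval₂, hq0, hr]
    rw [Polynomial.eval₂_add, Polynomial.eval₂_finsetSum]
    simp only [eval₂_X_pow, eval₂_mul, eval₂_C, RingHom.comp_apply]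
    simp only [hπs]
    conv_rhs => rw [← hp]
    conv_rhs => rw [hpm.as_sum]
    rw [Polynomial.eval₂_add, Polynomial.eval₂_finsetSum]
    simp only [eval₂_X_pow, eval₂_mul, eval₂_C, hn]
  have hmem0 : ((0 : B), a' * c) ∈ (f.comp (RingHom.fst B A')).eqLocus (g.comp (RingHom.snd B A')) := by
    simp [RingHom.eqLocus, hgc]
  rcases subsingleton_or_nontrivial
      (↥((f.comp (RingHom.fst B A')).eqLocus (g.comp (RingHom.snd B A')))) with hsub | hnt
  · have h10 : (1 : A') = 0 := by
      have h := Subsingleton.elim
        (1 : ↥((f.comp (RingHom.fst B A')).eqLocus (g.comp (RingHom.snd B A')))) 0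
      have h2 := congrArg π h
      simpa using h2
    have : Subsingleton A' := subsingleton_of_zero_eq_one h10.symm
    exact ⟨1, monic_one, Subsingleton.elim _ _⟩
  refine ⟨X * q0 - C ⟨(0, a' * c), hmem0⟩, ?_, ?_⟩
  · refine Polynomial.Monic.sub_of_left (monic_X.mul hq0m) ?_
    refine lt_of_le_of_lt Polynomial.degree_C_le ?_
    rw [(monic_X.mul hq0m).degree_pos]
    intro h
    have h1 := congrArg Polynomial.natDegree h
    rw [Polynomial.natDegree_mul' (by simp [hq0m.leadingCoeff])] at h1
    simp at h1
  · rw [Polynomial.eval₂_sub, Polynomial.eval₂_mul, Polynomial.eval₂_X, Polynomial.eval₂_C, ← hc]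
    simp [hπ]

end Groth.Agent.S2018
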