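import Groth.Statements.S2029
import Mathlib
import Groth.Agent.S2025
import Groth.Agent.Lib.Helper7Deloc

set_option autoImplicit false
set_option linter.style.haveILetI false
universe u
open Smoothing

namespace Groth.Agent.S2029

open MvPolynomial


open Groth.Agent.Lib.Helper7.Deloc
open TensorProduct

theorem core {R A Λ Rₛ B' : Type u} [CommRing R] [CommRing A] [Algebra R A]
    [Algebra.FinitePresentation R A] [CommRing Λ] [Algebra R Λ] (φ : A →ₐ[R] Λ) (S : Submonoid R)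
    [CommRing Rₛ] [Algebra R Rₛ] [IsLocalization S Rₛ] [CommRing B'] [Algebra Rₛ B']
    [Algebra.IsStandardSmooth Rₛ B'] (g : Rₛ ⊗[R] A →ₐ[Rₛ] B') (h : B' →ₐ[Rₛ] Rₛ ⊗[R] Λ)
    (hgh : h.comp g = Algebra.TensorProduct.map (AlgHom.id Rₛ Rₛ) φ) :
    ∃ (B : Type u) (_ : CommRing B) (_ : Algebra R B) (α : A →ₐ[R] B) (β : B →ₐ[R] Λ),
      β.comp α = φ ∧ ∃ s ∈ S, Smoothing.IsElementaryStandard R B (algebraMap R B s) := by
  classical
  obtain ⟨ι₀, σ₀, _, _, ⟨P⟩⟩ := Algebra.IsStandardSmooth.out (R := Rₛ) (S := B')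
  letI : Fintype ι₀ := Fintype.ofFinite ι₀
  letI : Fintype σ₀ := Fintype.ofFinite σ₀
  obtain ⟨p, ψ, hψ, hfg⟩ := Algebra.FinitePresentation.out (R := R) (A := A)
  obtain ⟨t, G', hG'⟩ := Submodule.fg_iff_exists_fin_generating_family.mp hfg
  let a : Fin p → A := fun k => ψ (X k)
  let b : Fin p → B' := fun k => g (1 ⊗ₜ a k)
  -- the weights
  have hw : ∀ i : ι₀, ∃ (s : R) (l : Λ), s ∈ S ∧
      algebraMap R Rₛ s • h (P.val i) = (1 : Rₛ) ⊗ₜ[R] l := by
    intro i
    obtain ⟨⟨l, s⟩, hls⟩ := IsLocalizedModule.surj S (TensorProduct.mk R Rₛ Λ 1) (h (P.val i))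
    refine ⟨s.1, l, s.2, ?_⟩
    rw [algebraMap_smul]
    exact hls
  choose wS lam hwS hwl using hw
  let w : ι₀ → Rₛˣ := fun i => (IsLocalization.map_units Rₛ (⟨wS i, hwS i⟩ : S)).unit
  have hwval : ∀ i, (w i : Rₛ) = algebraMap R Rₛ (wS i) := fun i => rfl
  obtain ⟨f, hf0, H3, H4'⟩ := Lside P b w
  set π' : MvPolynomial (ι₀ ⊕ Fin p) Rₛ →ₐ[Rₛ] B' :=
    aeval (Sum.elim (fun i => (w i : Rₛ) • P.val i) b) with hπ'
  let ev : MvPolynomial (ι₀ ⊕ Fin p) R →ₐ[R] Λ := aeval (Sum.elim lam (fun k => φ (a k)))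
  let G : Fin t → MvPolynomial (ι₀ ⊕ Fin p) R := fun l => rename Sum.inr (G' l)
  -- compatibility of evaluations
  have hcompat : ∀ F : MvPolynomial (ι₀ ⊕ Fin p) R,
      h (π' (MvPolynomial.map (algebraMap R Rₛ) F)) = (1 : Rₛ) ⊗ₜ[R] ev F := by
    have : (h.toRingHom.comp π'.toRingHom).comp (MvPolynomial.map (algebraMap R Rₛ)) =
        (Algebra.TensorProduct.includeRight : Λ →ₐ[R] Rₛ ⊗[R] Λ).toRingHom.comp ev.toRingHom := by
      apply MvPolynomial.ringHom_ext
      · intro r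
        simp only [RingHom.comp_apply, map_C, AlgHom.toRingHom_eq_coe, RingHom.coe_coe,
          Algebra.TensorProduct.includeRight_apply]
        rw [← algebraMap_eq, ← algebraMap_eq, AlgHom.commutes, AlgHom.commutes, AlgHom.commutes,
          Algebra.TensorProduct.algebraMap_apply, Algebra.algebraMap_self, RingHom.id_apply,
          Algebra.algebraMap_eq_smul_one r, Algebra.algebraMap_eq_smul_one r, TensorProduct.smul_tmul]
      · rintro (i | k)
        · simp only [RingHom.comp_apply, map_X, AlgHom.toRingHom_eq_coe, RingHom.coe_coe,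
            Algebra.TensorProduct.includeRight_apply, hπ', aeval_X, Sum.elim_inl, ev]
          rw [map_smul, hwval, hwl]
        · simp only [RingHom.comp_apply, map_X, AlgHom.toRingHom_eq_coe, RingHom.coe_coe,
            Algebra.TensorProduct.includeRight_apply, hπ', aeval_X, Sum.elim_inr, ev, b]
          have := congr($hgh (1 ⊗ₜ a k))
          simp only [AlgHom.comp_apply, Algebra.TensorProduct.map_tmul, AlgHom.id_apply] at this
          exact this
    intro F
    exact congr($this F)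
  have hevf : ∀ (j : σ₀ ⊕ Fin p) (F : MvPolynomial (ι₀ ⊕ Fin p) R) (s : R), s ∈ S →
      MvPolynomial.map (algebraMap R Rₛ) F = C (algebraMap R Rₛ s) * f j → ∃ s' ∈ S, s' • ev F = 0 := by
    intro j F s _ hF
    have h1 : (1 : Rₛ) ⊗ₜ[R] ev F = 0 := by
      rw [← hcompat, hF, map_mul, hf0, mul_zero, map_zero]
    obtain ⟨s', hs'⟩ := (IsLocalizedModule.eq_zero_iff S (TensorProduct.mk R Rₛ Λ 1)).mp h1
    exact ⟨s'.1, s'.2, hs'⟩
  -- relations among the generators of `A`
  have hbψ : ∀ q : MvPolynomial (Fin p) R,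
      aeval b (MvPolynomial.map (algebraMap R Rₛ) q) = g (1 ⊗ₜ ψ q) := by
    have : ((aeval b : MvPolynomial (Fin p) Rₛ →ₐ[Rₛ] B').toRingHom.comp
        (MvPolynomial.map (algebraMap R Rₛ))) =
        (g.toRingHom.comp (Algebra.TensorProduct.includeRight : A →ₐ[R] Rₛ ⊗[R] A).toRingHom).comp
          ψ.toRingHom := by
      apply MvPolynomial.ringHom_ext
      · intro r
        simp only [RingHom.comp_apply, map_C, AlgHom.toRingHom_eq_coe, RingHom.coe_coe,
          Algebra.TensorProduct.includeRight_apply]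
        rw [← algebraMap_eq, ← algebraMap_eq, AlgHom.commutes, AlgHom.commutes]
        have e : (1 : Rₛ) ⊗ₜ[R] (algebraMap R A r) =
            algebraMap Rₛ (Rₛ ⊗[R] A) (algebraMap R Rₛ r) := by
          rw [Algebra.TensorProduct.algebraMap_apply, Algebra.algebraMap_self, RingHom.id_apply,
            Algebra.algebraMap_eq_smul_one, Algebra.algebraMap_eq_smul_one (A := Rₛ),
            TensorProduct.smul_tmul]
        rw [e, AlgHom.commutes]
      · intro k
        simp only [RingHom.comp_apply, map_X, AlgHom.toRingHom_eq_coe, RingHom.coe_coe,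
          Algebra.TensorProduct.includeRight_apply, aeval_X, b, a]
    intro q
    exact congr($this q)
  have hkerψ : ∀ q : MvPolynomial (Fin p) R, ψ q = 0 → q ∈ Ideal.span (Set.range G') := by
    intro q hq
    have : q ∈ RingHom.ker ψ.toRingHom := hq
    rw [← hG'] at this
    exact this
  have hG'ker : ∀ l, ψ (G' l) = 0 := by
    intro l
    have : G' l ∈ RingHom.ker ψ.toRingHom := by
      rw [← hG']
      exact Submodule.subset_span ⟨l, rfl⟩
    exact this
  have H4 : ∀ l, MvPolynomial.map (algebraMap R Rₛ) (G l) ∈ Ideal.span (Set.range f) := by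
    intro l
    have : MvPolynomial.map (algebraMap R Rₛ) (G l) =
        rename Sum.inr (MvPolynomial.map (algebraMap R Rₛ) (G' l)) := by
      simp only [G, MvPolynomial.map_rename]
    rw [this]
    apply H4'
    rw [hbψ, hG'ker, TensorProduct.tmul_zero, map_zero]
  obtain ⟨F, s, hs, hevF, hES⟩ := main_Q S f ⟨Sum.map P.map id, by
    rintro (x | x) (y | y) hxy
    · simp only [Sum.map_inl, Sum.inl.injEq] at hxy
      rw [P.map_inj hxy]
    · simp at hxy
    · simp at hxy
    · simp only [Sum.map_inr, id_eq, Sum.inr.injEq] at hxy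
      rw [hxy]⟩ G ev hevf H3 H4
  set I := Ideal.span (Set.range (Sum.elim F G)) with hI
  have hevψ : ∀ q : MvPolynomial (Fin p) R, ev (rename Sum.inr q) = φ (ψ q) := by
    have : ev.comp (rename Sum.inr : MvPolynomial (Fin p) R →ₐ[R] _) = φ.comp ψ := by
      apply MvPolynomial.algHom_ext
      intro k
      simp [ev, a]
    intro q
    exact congr($this q)
  have hevI : ∀ x ∈ I, ev x = 0 := by
    intro x hx
    have : I ≤ RingHom.ker ev.toRingHom := by
      rw [hI, Ideal.span_le]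
      rintro _ ⟨(j | l), rfl⟩
      · exact hevF j
      · change ev (rename Sum.inr (G' l)) = 0
        rw [hevψ, hG'ker, map_zero]
    exact this hx
  let β : (MvPolynomial (ι₀ ⊕ Fin p) R ⧸ I) →ₐ[R] Λ := Ideal.Quotient.liftₐ I ev hevI
  let mkB : MvPolynomial (ι₀ ⊕ Fin p) R →ₐ[R] (MvPolynomial (ι₀ ⊕ Fin p) R ⧸ I) :=
    Ideal.Quotient.mkₐ R I
  have hα0 : ∀ q : MvPolynomial (Fin p) R, q ∈ RingHom.ker ψ.toRingHom →
      (mkB.comp (rename Sum.inr : MvPolynomial (Fin p) R →ₐ[R] _)) q = 0 := by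
    intro q hq
    have hq' := hkerψ q hq
    change Ideal.Quotient.mk I (rename Sum.inr q) = 0
    rw [Ideal.Quotient.eq_zero_iff_mem]
    have h1 := Ideal.mem_map_of_mem
      ((rename Sum.inr : MvPolynomial (Fin p) R →ₐ[R] MvPolynomial (ι₀ ⊕ Fin p) R) :
        MvPolynomial (Fin p) R →+* MvPolynomial (ι₀ ⊕ Fin p) R) hq'
    rw [Ideal.map_span] at h1
    refine Ideal.span_mono ?_ h1
    rintro _ ⟨_, ⟨l, rfl⟩, rfl⟩
    exact ⟨Sum.inr l, rfl⟩
  let e := Ideal.quotientKerAlgEquivOfSurjective hψ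
  let α : A →ₐ[R] (MvPolynomial (ι₀ ⊕ Fin p) R ⧸ I) :=
    (Ideal.Quotient.liftₐ (RingHom.ker ψ.toRingHom)
      (mkB.comp (rename Sum.inr : MvPolynomial (Fin p) R →ₐ[R] _)) hα0).comp e.symm.toAlgHom
  have hαψ : ∀ q, α (ψ q) = mkB (rename Sum.inr q) := by
    intro q
    have : e.symm (ψ q) = Ideal.Quotient.mk _ q := by
      rw [AlgEquiv.symm_apply_eq]
      rfl
    change (Ideal.Quotient.liftₐ (RingHom.ker ψ.toRingHom) _ hα0) (e.symm (ψ q)) = _
    rw [this]
    rfl
  refine ⟨MvPolynomial (ι₀ ⊕ Fin p) R ⧸ I, inferInstance, inferInstance, α, β, ?_, s, hs, hES⟩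
  ext x
  obtain ⟨q, rfl⟩ := hψ x
  rw [AlgHom.comp_apply, hαψ]
  change ev (rename Sum.inr q) = _
  rw [hevψ]


open TensorProduct in
/-- Let `R → A → Λ` with `A` finitely presented over `R`, `S ⊆ R` a multiplicative subset and `R_S` the
localization. If `R_S ⊗ A → R_S ⊗ Λ` factors through a smooth `R_S`-algebra, then `A → Λ` factors
through an `R`-algebra `B` in which some element of `S` is elementary standard over `R`. -/
theorem result {R A Λ Rₛ B' : Type u} [CommRing R] [CommRing A] [Algebra R A]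
    [Algebra.FinitePresentation R A] [CommRing Λ] [Algebra R Λ] (φ : A →ₐ[R] Λ) (S : Submonoid R)
    [CommRing Rₛ] [Algebra R Rₛ] [IsLocalization S Rₛ] [CommRing B'] [Algebra Rₛ B']
    [Algebra.Smooth Rₛ B'] (g : Rₛ ⊗[R] A →ₐ[Rₛ] B') (h : B' →ₐ[Rₛ] Rₛ ⊗[R] Λ)
    (hgh : h.comp g = Algebra.TensorProduct.map (AlgHom.id Rₛ Rₛ) φ) :
    ∃ (B : Type u) (_ : CommRing B) (_ : Algebra R B) (α : A →ₐ[R] B) (β : B →ₐ[R] Λ),
      β.comp α = φ ∧ ∃ s ∈ S, Smoothing.IsElementaryStandard R B (algebraMap R B s) := by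
  obtain ⟨B'', _, _, _, _, -, ⟨r⟩, hstd⟩ := Groth.Agent.S2025.result (R := Rₛ) (A := B')
  haveI := hstd
  let g2 : Rₛ ⊗[R] A →ₐ[Rₛ] B'' := (IsScalarTower.toAlgHom Rₛ B' B'').comp g
  let h2 : B'' →ₐ[Rₛ] Rₛ ⊗[R] Λ := h.comp (r.restrictScalars Rₛ)
  have h2g2 : h2.comp g2 = Algebra.TensorProduct.map (AlgHom.id Rₛ Rₛ) φ := by
    rw [← hgh]
    ext x
    simp only [AlgHom.comp_apply, g2, h2, IsScalarTower.coe_toAlgHom', AlgHom.restrictScalars_apply,
      AlgHom.commutes, Algebra.algebraMap_self, RingHom.id_apply]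
  exact core φ S g2 h2 h2g2

end Groth.Agent.S2029
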