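import Groth.Statements.S2032
import Mathlib.LinearAlgebra.Matrix.Charpoly.LinearMap

set_option autoImplicit false
universe u
open Smoothing

namespace Groth.Agent.S2032

theorem away_of_surjective_of_kills {C A T : Type*} [CommRing C] [CommRing A] [CommRing T]
    [Algebra C A] [Algebra A T] [Algebra C T] [IsScalarTower C A T]
    (hsurj : Function.Surjective (algebraMap C A)) (a : A) [IsLocalization.Away a T] (x : C)
    (h1 : a ∣ algebraMap C A x) (h2 : ∃ N : ℕ, algebraMap C A x ∣ a ^ N)
    (h3 : ∀ k : C, algebraMap C A k = 0 → x * k = 0) :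
    IsLocalization.Away x T := by
  obtain ⟨u, hu⟩ := h1
  refine IsLocalization.Away.mk x ?_ ?_ ?_
  · rw [IsScalarTower.algebraMap_apply C A T]
    exact (IsLocalization.Away.algebraMap_isUnit_iff a).mpr h2
  · intro s
    obtain ⟨k, r, hr⟩ := IsLocalization.Away.surj a s
    obtain ⟨r', hr'⟩ := hsurj (u ^ k * r)
    refine ⟨k, r', ?_⟩
    rw [IsScalarTower.algebraMap_apply C A T, IsScalarTower.algebraMap_apply C A T, hr', hu,
      map_mul, map_mul, map_pow, ← hr]
    ring
  · intro r1 r2 h
    rw [IsScalarTower.algebraMap_apply C A T, IsScalarTower.algebraMap_apply C A T] at h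
    obtain ⟨k, hk⟩ := IsLocalization.Away.exists_of_eq a h
    refine ⟨k + 1, ?_⟩
    have h0 : algebraMap C A (x ^ k * r1 - x ^ k * r2) = 0 := by
      rw [map_sub, map_mul, map_mul, map_pow, hu, mul_pow]
      linear_combination (u ^ k) * hk
    have := h3 _ h0
    rw [mul_sub, sub_eq_zero] at this
    rw [pow_succ', mul_assoc, mul_assoc]
    exact this

theorem isStandardSmooth_of_quotient_localization {R : Type u} [CommRing R] {n c : ℕ} (hcn : c ≤ n)
    (v : Fin c → MvPolynomial (Fin n) R)
    {T : Type u} [CommRing T] [Algebra R T]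
    [Algebra (MvPolynomial (Fin n) R ⧸ Ideal.span (Set.range v)) T]
    [IsScalarTower R (MvPolynomial (Fin n) R ⧸ Ideal.span (Set.range v)) T]
    (x : MvPolynomial (Fin n) R ⧸ Ideal.span (Set.range v)) [IsLocalization.Away x T]
    (hΔ : IsUnit (algebraMap (MvPolynomial (Fin n) R ⧸ Ideal.span (Set.range v)) T
      (Ideal.Quotient.mk _ (Matrix.det (Matrix.of fun j k : Fin c =>
        MvPolynomial.pderiv (Fin.castLE hcn k) (v j)))))) :
    Algebra.IsStandardSmooth R T := by
  classical
  let Q : Algebra.PreSubmersivePresentation R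
      (MvPolynomial (Fin n) R ⧸ Ideal.span (Set.range v)) (Fin n) (Fin c) :=
    Algebra.PreSubmersivePresentation.naive (v := v) (Fin.castLE hcn) (Fin.castLE_injective hcn)
  have hQ : Q.jacobian = Ideal.Quotient.mk _ (Matrix.det (Matrix.of fun j k : Fin c =>
        MvPolynomial.pderiv (Fin.castLE hcn k) (v j))) := by
    rw [Algebra.PreSubmersivePresentation.jacobian_eq_jacobiMatrix_det]
    rw [← Matrix.det_transpose]
    have : Q.jacobiMatrix.transpose = (Matrix.of fun j k : Fin c =>
        MvPolynomial.pderiv (Fin.castLE hcn k) (v j)) := by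
      ext i j
      simp [Q, Algebra.PreSubmersivePresentation.jacobiMatrix_naive]
    rw [this]
    rfl
  let P : Algebra.SubmersivePresentation R T _ _ :=
    { toPreSubmersivePresentation := .comp (.localizationAway T x) Q
      jacobian_isUnit := by
        rw [Algebra.PreSubmersivePresentation.comp_jacobian_eq_jacobian_smul_jacobian,
          Algebra.smul_def, IsUnit.mul_iff]
        refine ⟨hQ ▸ hΔ, ?_⟩
        rw [Algebra.PreSubmersivePresentation.localizationAway_jacobian]
        exact IsLocalization.Away.algebraMap_isUnit x }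
  exact P.isStandardSmooth

theorem exists_kill {C : Type*} [CommRing C] (J : Ideal C) (hJ : J.FG) (b : C)
    (hb : ∀ y ∈ J, b * y ∈ J * J) :
    ∃ (h : C) (d : ℕ), h - b ^ d ∈ J ∧ ∀ y ∈ J, h * y = 0 := by
  have : Module.Finite C J := Module.Finite.iff_fg.mpr hJ
  let f : Module.End C J := algebraMap C (Module.End C J) b
  have hrange : LinearMap.range f ≤ J • (⊤ : Submodule C J) := by
    rintro _ ⟨y, rfl⟩
    rw [Submodule.mem_smul_top_iff]
    simpa [f] using hb y y.2
  obtain ⟨p, hpm, -, hcoeff, hp⟩ :=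
    LinearMap.exists_monic_and_natDegree_eq_and_coeff_mem_pow_and_aeval_eq_zero C f J hrange
  refine ⟨p.eval b, p.natDegree, ?_, ?_⟩
  · rw [Polynomial.eval_eq_sum_range, Finset.sum_range_succ, hpm.coeff_natDegree, one_mul,
      add_sub_cancel_right]
    refine J.sum_mem fun i hi => J.mul_mem_right _ (Ideal.pow_le_self ?_ (hcoeff i))
    have := Finset.mem_range.mp hi
    omega
  · intro y hy
    have h1 : Polynomial.aeval f p = algebraMap C (Module.End C J) (p.eval b) := by
      rw [Polynomial.aeval_algebraMap_apply]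
      simp
    rw [h1] at hp
    have h2 := congrArg (fun g : Module.End C J => (g ⟨y, hy⟩ : C)) hp
    simpa using h2

/-- For a finitely presented `R`-algebra `A` and `a ∈ A`, if `a` is elementary standard then `A_a` is
standard smooth over `R`. (Part (f), the converse for large powers of `a`, is not stated: as
published it fails, for example for the nodal cubic `A = {g ∈ ℚ[u] : g(0) = g(1)}` and `a =
u(u-1)`.) -/
theorem result {R A : Type u} [CommRing R] [CommRing A]
    [Algebra R A] [Algebra.FinitePresentation R A] (a : A)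
    (ha : Smoothing.IsElementaryStandard R A a) : Algebra.IsStandardSmooth R (Localization.Away a) := by
  obtain ⟨P, ⟨a', ha'⟩, hkill⟩ := ha
  set v : Fin P.c → MvPolynomial (Fin P.n) R := fun j => P.rel (Fin.castLE P.hcm j) with hv
  set Ic : Ideal (MvPolynomial (Fin P.n) R) := Ideal.span (Set.range v) with hIc
  set I : Ideal (MvPolynomial (Fin P.n) R) := Ideal.span (Set.range P.rel) with hI
  have hIcI : Ic ≤ I := Ideal.span_mono (by rintro _ ⟨j, rfl⟩; exact ⟨_, rfl⟩)
  have hker : ∀ q : MvPolynomial (Fin P.n) R, P.hom q = 0 ↔ q ∈ I := fun q => by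
    rw [hI, ← P.ker_eq]; rfl
  let ψ : (MvPolynomial (Fin P.n) R ⧸ Ic) →ₐ[R] A :=
    Ideal.Quotient.liftₐ Ic P.hom (fun x hx => (hker x).mpr (hIcI hx))
  have hψmk : ∀ q, ψ (Ideal.Quotient.mk Ic q) = P.hom q := fun q => rfl
  have hψsurj : Function.Surjective ψ := fun y => by
    obtain ⟨q, rfl⟩ := P.surj y
    exact ⟨Ideal.Quotient.mk Ic q, hψmk q⟩
  set J : Ideal (MvPolynomial (Fin P.n) R ⧸ Ic) := I.map (Ideal.Quotient.mk Ic) with hJ
  have hψker : ∀ k, ψ k = 0 → k ∈ J := by
    intro k hk
    obtain ⟨q, rfl⟩ := Ideal.Quotient.mk_surjective k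
    rw [hψmk] at hk
    exact Ideal.mem_map_of_mem _ ((hker q).mp hk)
  have hJψ : ∀ k ∈ J, ψ k = 0 := by
    intro k hk
    have : J ≤ RingHom.ker ψ.toRingHom := by
      rw [hJ, Ideal.map_le_iff_le_comap]
      intro q hq
      exact (hker q).mpr hq
    exact this hk
  obtain ⟨ã, hã⟩ := P.surj a
  have hJfg : J.FG := by
    rw [hJ, hI, Ideal.map_span]
    exact Submodule.fg_span ((Set.finite_range _).image _)
  have hmem : ∀ j : Fin P.m, ã * P.rel j ∈ Ic ⊔ I ^ 2 := by
    intro j
    by_cases hj : (j : ℕ) < P.c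
    · refine Ideal.mem_sup_left (Ideal.mul_mem_left _ _ (Ideal.subset_span ⟨⟨j, hj⟩, ?_⟩))
      simp [hv]
    · have := hkill ã hã j (not_lt.mp hj)
      have hle : Ideal.span (P.rel '' {j' : Fin P.m | (j' : ℕ) < P.c}) ⊔ I ^ 2 ≤ Ic ⊔ I ^ 2 := by
        refine sup_le_sup_right (Ideal.span_mono ?_) _
        rintro _ ⟨j', hj', rfl⟩
        exact ⟨⟨j', hj'⟩, by simp [hv]⟩
      exact hle this
  have hb : ∀ y ∈ J, Ideal.Quotient.mk Ic ã * y ∈ J * J := by
    intro y hy
    rw [hJ, hI, Ideal.map_span] at hy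
    induction hy using Submodule.span_induction with
    | mem y hy =>
      obtain ⟨_, ⟨j, rfl⟩, rfl⟩ := hy
      have := Ideal.mem_map_of_mem (Ideal.Quotient.mk Ic) (hmem j)
      rw [Ideal.map_sup, Ideal.map_pow, Ideal.map_quotient_self, bot_sup_eq, pow_two, map_mul]
        at this
      exact this
    | zero => simp
    | add y z _ _ hy hz => rw [mul_add]; exact Ideal.add_mem _ hy hz
    | smul r y _ hy =>
      rw [smul_eq_mul, mul_left_comm]
      exact Ideal.mul_mem_left _ _ hy
  obtain ⟨h, d, hhd, hhkill⟩ := exists_kill J hJfg (Ideal.Quotient.mk Ic ã) hb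
  have hψh : ψ h = a ^ d := by
    have := hJψ _ hhd
    rw [map_sub, map_pow, hψmk, hã, sub_eq_zero] at this
    exact this
  set Δ : MvPolynomial (Fin P.n) R := Matrix.det (Matrix.of fun j k : Fin P.c =>
        MvPolynomial.pderiv (Fin.castLE P.hcn k) (v j)) with hΔ
  have haΔ : a = a' * P.hom Δ := ha'
  set x : MvPolynomial (Fin P.n) R ⧸ Ic :=
    Ideal.Quotient.mk Ic Δ * h * Ideal.Quotient.mk Ic ã with hx
  have hψx : ψ x = P.hom Δ * a ^ d * a := by
    rw [hx, map_mul, map_mul, hψmk, hψmk, hψh, hã]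
  let _ : Algebra (MvPolynomial (Fin P.n) R ⧸ Ic) A := ψ.toRingHom.toAlgebra
  have : IsScalarTower R (MvPolynomial (Fin P.n) R ⧸ Ic) A :=
    IsScalarTower.of_algebraMap_eq (fun r => (ψ.commutes r).symm)
  have : IsLocalization.Away x (Localization.Away a) := by
    refine away_of_surjective_of_kills hψsurj a x ?_ ?_ ?_
    · exact ⟨P.hom Δ * a ^ d, by change ψ x = _; rw [hψx]; ring⟩
    · refine ⟨d + 2, a', ?_⟩
      change _ = ψ x * _
      rw [hψx]
      rw [pow_succ, pow_succ]
      nth_rewrite 2 [haΔ]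
      ring
    · intro k hk
      have := hhkill k (hψker k hk)
      rw [hx]
      linear_combination (Ideal.Quotient.mk Ic Δ * Ideal.Quotient.mk Ic ã) * this
  refine isStandardSmooth_of_quotient_localization P.hcn v x ?_
  rw [IsScalarTower.algebraMap_apply (MvPolynomial (Fin P.n) R ⧸ Ic) A (Localization.Away a)]
  change IsUnit (algebraMap A (Localization.Away a) (ψ (Ideal.Quotient.mk Ic Δ)))
  rw [hψmk]
  exact IsLocalization.Away.isUnit_of_dvd a ⟨a', by rw [haΔ]; ring⟩

end Groth.Agent.S2032
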