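import Groth.Statements.S2042
import Groth.Agent.Lib.Helper20EtSection

set_option autoImplicit false
universe u
open CAlg

namespace Groth.Agent.S2042

open Polynomial in
/-- Let `I ⊆ A` be an ideal and `f ∈ A[X]` monic whose image in `(A/I)[X]` factors as a product of two
monic polynomials generating the unit ideal. Then over some étale `A`-algebra `A'` with `A/I →
A'/IA'` bijective, `f` factors as a product of two monic polynomials lifting the given factors. -/
theorem result {A : Type u} [CommRing A] (I : Ideal A) (f : A[X])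
    (hf : f.Monic) (g h : (A ⧸ I)[X]) (hg : g.Monic) (hh : h.Monic) (hcop : IsCoprime g h)
    (hfgh : f.map (Ideal.Quotient.mk I) = g * h) :
    ∃ (A' : Type u) (_ : CommRing A') (_ : Algebra A A'), Algebra.Etale A A' ∧
      Function.Bijective (algebraMap (A ⧸ I) (A' ⧸ I.map (algebraMap A A'))) ∧
      ∃ g' h' : A'[X], g'.Monic ∧ h'.Monic ∧ f.map (algebraMap A A') = g' * h' ∧
        g'.map (Ideal.Quotient.mk (I.map (algebraMap A A'))) =
          g.map (algebraMap (A ⧸ I) (A' ⧸ I.map (algebraMap A A'))) ∧
        h'.map (Ideal.Quotient.mk (I.map (algebraMap A A'))) =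
          h.map (algebraMap (A ⧸ I) (A' ⧸ I.map (algebraMap A A'))) := by
  classical
  rcases subsingleton_or_nontrivial (A ⧸ I) with hsub | hnt
  · -- trivial case `I = ⊤`
    have hItop : I = ⊤ := Ideal.Quotient.subsingleton_iff.mp hsub
    have hsub' : Subsingleton (A ⧸ I.map (algebraMap A A)) := by
      rw [Ideal.Quotient.subsingleton_iff, hItop, Ideal.map_top]
    refine ⟨A, inferInstance, inferInstance, inferInstance, ⟨fun x y _ => Subsingleton.elim x y,
      fun z => ⟨0, Subsingleton.elim _ _⟩⟩, f, 1, ?_, monic_one, by simp, Subsingleton.elim _ _,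
      Subsingleton.elim _ _⟩
    simpa using hf
  · -- main case
    set n := f.natDegree with hn'
    set m := g.natDegree with hm
    set k := h.natDegree with hk
    have hn : n = m + k := by
      have h1 : (f.map (Ideal.Quotient.mk I)).natDegree = n := hf.natDegree_map _
      rw [← h1, hfgh, hg.natDegree_mul hh]
    let p : Polynomial.MonicDegreeEq A n := .mk f hf rfl
    let q₁ : Polynomial.MonicDegreeEq (A ⧸ I) m := .mk g hg rfl
    let q₂ : Polynomial.MonicDegreeEq (A ⧸ I) k := .mk h hh rfl
    let 𝓡' := Polynomial.UniversalCoprimeFactorizationRing m k hn p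
    let σ : 𝓡' →ₐ[A] A ⧸ I :=
      (Polynomial.UniversalCoprimeFactorizationRing.homEquiv (A ⧸ I) m k hn p).symm
        ⟨(q₁, q₂), hfgh.symm, hcop⟩
    have hσ : Polynomial.UniversalCoprimeFactorizationRing.homEquiv (A ⧸ I) m k hn p σ =
        ⟨(q₁, q₂), hfgh.symm, hcop⟩ := Equiv.apply_symm_apply _ _
    have hσ1 : (Polynomial.UniversalCoprimeFactorizationRing.factor₁ m k hn p).1.map
        σ.toRingHom = g := by
      rw [← Groth.Agent.Lib.Helper20.EtSection.homEquiv_fst, hσ]
      rfl
    have hσ2 : (Polynomial.UniversalCoprimeFactorizationRing.factor₂ m k hn p).1.map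
        σ.toRingHom = h := by
      rw [← Groth.Agent.Lib.Helper20.EtSection.homEquiv_snd, hσ]
      rfl
    obtain ⟨b, -, hbij, hcompat⟩ :=
      Groth.Agent.Lib.Helper20.EtSection.exists_localization I σ
    have hcomp : (Ideal.Quotient.mk (I.map (algebraMap A (Localization.Away b)))).comp
        (algebraMap 𝓡' (Localization.Away b)) =
        (algebraMap (A ⧸ I) (Localization.Away b ⧸ I.map (algebraMap A (Localization.Away b)))).comp
          σ.toRingHom := by
      ext x
      exact (hcompat x).symm
    have : Algebra.Etale A (Localization.Away b) := Algebra.Etale.comp A 𝓡' _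
    refine ⟨Localization.Away b, inferInstance, inferInstance, inferInstance, hbij,
      (Polynomial.UniversalCoprimeFactorizationRing.factor₁ m k hn p).1.map (algebraMap 𝓡' _),
      (Polynomial.UniversalCoprimeFactorizationRing.factor₂ m k hn p).1.map (algebraMap 𝓡' _),
      (Polynomial.MonicDegreeEq.monic _).map _, (Polynomial.MonicDegreeEq.monic _).map _, ?_, ?_, ?_⟩
    · rw [← Polynomial.map_mul,
        Polynomial.UniversalCoprimeFactorizationRing.factor₁_mul_factor₂,
        Polynomial.MonicDegreeEq.map_coe, Polynomial.map_map, ← IsScalarTower.algebraMap_eq]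
      rfl
    · rw [Polynomial.map_map, hcomp, ← Polynomial.map_map, hσ1]
    · rw [Polynomial.map_map, hcomp, ← Polynomial.map_map, hσ2]

end Groth.Agent.S2042
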