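import Groth.Statements.S2043
-- import your own Groth.Agent.* helpers here
import Groth.Agent.Lib.Helper26SmoothLift
import Groth.Agent.Lib.Helper26PairHzUnique

set_option autoImplicit false
universe u
open CAlg

namespace Groth.Agent.S2043

open Groth.Agent.Lib.Helper26.PairHz Groth.Agent.Lib.Helper18ColimSys

/-- A map from a finitely presented algebra to a "colimit" factors through a stage. -/
theorem exists_factor {R : Type u} [CommRing R] {ι : Type u} {G : ι → Type u} [∀ i, CommRing (G i)]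
    [∀ i, Algebra R (G i)] {A : Type u} [CommRing A] [Algebra R A] {g : ∀ i, G i →ₐ[R] A}
    (hS : Sys R G A g) (B : Type u) [CommRing B] [Algebra R B] [Algebra.FinitePresentation R B]
    (τ : B →ₐ[R] A) : ∃ j, ∃ τ' : B →ₐ[R] G j, (g j).comp τ' = τ := by
  classical
  obtain ⟨n, f, hf, hker⟩ := Algebra.FinitePresentation.out (R := R) (A := B)
  obtain ⟨s, hs⟩ := hker
  obtain ⟨i₀⟩ := hS.nonempty
  obtain ⟨j, -, -, x, hx⟩ := hS.lift_fun i₀ (fun k : Fin n => τ (f (MvPolynomial.X k)))
  let φ₀ : MvPolynomial (Fin n) R →ₐ[R] G j := MvPolynomial.aeval x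
  have h1 : (g j).comp φ₀ = τ.comp f := by
    apply MvPolynomial.algHom_ext
    intro k
    simp only [AlgHom.comp_apply, φ₀, MvPolynomial.aeval_X]
    exact hx k
  obtain ⟨j', φ, hφ, hk⟩ := hS.kill j (s.image φ₀) (by
    intro y hy
    obtain ⟨p, hp, rfl⟩ := Finset.mem_image.mp hy
    have : g j (φ₀ p) = τ (f p) := congrArg (fun h : MvPolynomial (Fin n) R →ₐ[R] A => h p) h1
    rw [this]
    have hp' : p ∈ RingHom.ker f := hs ▸ Ideal.subset_span hp
    rw [RingHom.mem_ker.mp hp', map_zero])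
  have hvan : ∀ p ∈ RingHom.ker (f : MvPolynomial (Fin n) R →+* B), (φ.comp φ₀) p = 0 := by
    intro p hp
    have : RingHom.ker (f : MvPolynomial (Fin n) R →+* B) ≤
        RingHom.ker ((φ.comp φ₀).toRingHom) := by
      change RingHom.ker f.toRingHom ≤ _
      rw [← hs, Ideal.span_le]
      intro p hp
      exact hk _ (Finset.mem_image_of_mem _ hp)
    exact this hp
  let e := Ideal.quotientKerAlgEquivOfSurjective hf
  let τ' : B →ₐ[R] G j' :=
    (Ideal.Quotient.liftₐ (RingHom.ker (f : MvPolynomial (Fin n) R →+* B)) (φ.comp φ₀) hvan).comp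
      e.symm.toAlgHom
  refine ⟨j', τ', ?_⟩
  apply AlgHom.ext
  intro b
  obtain ⟨p, rfl⟩ := hf b
  have e1 : e.symm (f p) = Ideal.Quotient.mk _ p := by
    rw [AlgEquiv.symm_apply_eq]
    rfl
  change g j' (Ideal.Quotient.liftₐ _ (φ.comp φ₀) hvan (e.symm (f p))) = _
  rw [e1]
  change g j' (φ (φ₀ p)) = _
  rw [← AlgHom.comp_apply, hφ]
  exact congrArg (fun h : MvPolynomial (Fin n) R →ₐ[R] A => h p) h1

theorem quotientMap_bijective_Hz {A : Type u} [CommRing A] (I : Ideal A) :
    Function.Bijective (Ideal.quotientMap (I.map (algebraMap A (Hz A I))) (algebraMap A (Hz A I))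
      Ideal.le_comap_map) := by
  have key : ∀ J : Ideal A, I ^ 1 = J →
      Function.Bijective (Ideal.quotientMap (J.map (algebraMap A (Hz A I))) (algebraMap A (Hz A I))
        Ideal.le_comap_map) := by
    rintro J rfl
    exact quotientMap_pow_bijective isPairHenselization_Hz 1
  exact key I (pow_one I)

/-- Let `I ⊆ A` be an ideal, `B` a smooth `A`-algebra and `B → A/I` an `A`-algebra map. Then there is an
étale `A`-algebra `A'` with `A/I → A'/IA'` bijective and an `A`-algebra map `B → A'` lifting the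
given map. -/
theorem result {A B : Type u} [CommRing A] [CommRing B] [Algebra A B]
    [Algebra.Smooth A B] (I : Ideal A) (σ : B →ₐ[A] A ⧸ I) :
    ∃ (A' : Type u) (_ : CommRing A') (_ : Algebra A A'), Algebra.Etale A A' ∧
      Function.Bijective (algebraMap (A ⧸ I) (A' ⧸ I.map (algebraMap A A'))) ∧
      ∃ τ : B →ₐ[A] A', ∀ b : B,
        Ideal.Quotient.mk (I.map (algebraMap A A')) (τ b) =
          algebraMap (A ⧸ I) (A' ⧸ I.map (algebraMap A A')) (σ b) := by
  have hH : HenselianRing (Hz A I) (I.map (algebraMap A (Hz A I))) := henselianRing_Hz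
  have hq := quotientMap_bijective_Hz I
  let q : A ⧸ I →ₐ[A] Hz A I ⧸ I.map (algebraMap A (Hz A I)) :=
    Ideal.quotientMapₐ (I.map (algebraMap A (Hz A I))) (Algebra.ofId A (Hz A I)) Ideal.le_comap_map
  have hqmk : ∀ a : A, q (Ideal.Quotient.mk I a) = Ideal.Quotient.mk _ (algebraMap A (Hz A I) a) :=
    fun a => rfl
  have hqinj : Function.Injective q := hq.1
  obtain ⟨τ, hτ⟩ := Groth.Agent.Lib.Helper26.SmoothLift.exists_lift_of_smooth
    (I.map (algebraMap A (Hz A I))) (q.comp σ)
  obtain ⟨j, τj, hτj⟩ := exists_factor (sys (A := A) (I := I)) B τ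
  have hN : IsNbhd I j.C := j.isNbhd
  have : Algebra.Etale A j.C := hN.etale
  refine ⟨j.C, inferInstance, inferInstance, inferInstance, hN.bijective, τj, fun b => ?_⟩
  let r : j.C ⧸ I.map (algebraMap A j.C) →+* Hz A I ⧸ I.map (algebraMap A (Hz A I)) :=
    Ideal.quotientMap _ (ofC j : j.C →+* Hz A I) (by
      rw [← Ideal.map_le_iff_le_comap, Ideal.map_map]
      apply le_of_eq
      congr 1
      ext a
      exact (ofC j).commutes a)
  have hr : ∀ z : A ⧸ I, r (algebraMap (A ⧸ I) (j.C ⧸ I.map (algebraMap A j.C)) z) = q z := by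
    intro z
    obtain ⟨a, rfl⟩ := Ideal.Quotient.mk_surjective z
    rw [hqmk, Ideal.Quotient.algebraMap_quotient_map_quotient, Ideal.quotientMap_mk]
    congr 1
    exact (ofC j).commutes a
  have hrinj : Function.Injective r := by
    intro x y hxy
    obtain ⟨x', rfl⟩ := hN.bijective.2 x
    obtain ⟨y', rfl⟩ := hN.bijective.2 y
    rw [hr, hr] at hxy
    rw [hqinj hxy]
  apply hrinj
  rw [hr, Ideal.quotientMap_mk]
  have e1 : (ofC j : j.C →+* Hz A I) (τj b) = τ b :=
    congrArg (fun h : B →ₐ[A] Hz A I => h b) hτj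
  rw [e1, hτ]
  rfl

end Groth.Agent.S2043
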