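import Groth.Statements.S2048
import Groth.Agent.Lib.Helper7DerFT
import Groth.Agent.Lib.Helper19Normalization2
import Groth.Agent.Lib.Helper19CohenRingLift
import Groth.Agent.Lib.Helper28ComplNagata

set_option autoImplicit false
set_option linter.style.haveILetI false
universe u
open CAlg

namespace Groth.Agent.S2048

/-- Let `p` be a prime and `B` a domain of characteristic `p`, finitely generated as an algebra over
some complete Noetherian local ring. If `f ∈ B` has no `p`-th root in the fraction field of `B`,
then some derivation `D : B → B` has `D(f) ≠ 0`. -/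
theorem result {R B : Type u} [CommRing R] [IsLocalRing R]
    [IsNoetherianRing R] [IsAdicComplete (IsLocalRing.maximalIdeal R) R] [CommRing B] [IsDomain B]
    [Algebra R B] [Algebra.FiniteType R B] (p : ℕ) [Fact p.Prime] [CharP B p] (f : B)
    (hf : ∀ x : FractionRing B, x ^ p ≠ algebraMap B (FractionRing B) f) :
    ∃ D : Derivation ℤ B B, D f ≠ 0 := by
  classical
  have hp : p.Prime := Fact.out
  -- replace `R` by its image in `B`
  have hprime : (RingHom.ker (algebraMap R B)).IsPrime := RingHom.ker_isPrime _
  haveI : Nontrivial (R ⧸ RingHom.ker (algebraMap R B)) :=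
    Ideal.Quotient.nontrivial_iff.2 hprime.ne_top
  haveI : IsLocalRing (R ⧸ RingHom.ker (algebraMap R B)) :=
    IsLocalRing.of_surjective' (Ideal.Quotient.mk _) Ideal.Quotient.mk_surjective
  haveI : IsDomain (R ⧸ RingHom.ker (algebraMap R B)) := Ideal.Quotient.isDomain _
  haveI : IsAdicComplete (IsLocalRing.maximalIdeal (R ⧸ RingHom.ker (algebraMap R B)))
      (R ⧸ RingHom.ker (algebraMap R B)) :=
    Groth.Agent.Lib.Helper28.isAdicComplete_quotient_local _
  have hκinj : Function.Injective (RingHom.kerLift (algebraMap R B)) :=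
    RingHom.kerLift_injective _
  obtain ⟨Λ, instΛ, n, f₀, hΛ, hf₀inj, hf₀fin, -⟩ :=
    Groth.Agent.Lib.Helper19.Normalization.exists_finite_injective_mvPowerSeries_of_complete_local_domain
      (R ⧸ RingHom.ker (algebraMap R B))
  -- the composite `Λ[[T]] → B`
  set ψ : MvPowerSeries (Fin n) Λ →+* B := (RingHom.kerLift (algebraMap R B)).comp f₀ with hψ
  have hψinj : Function.Injective ψ := hκinj.comp hf₀inj
  have hCinj : Function.Injective (ψ.comp (MvPowerSeries.C : Λ →+* MvPowerSeries (Fin n) Λ)) :=
    hψinj.comp MvPowerSeries.C_injective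
  haveI hcharΛ : CharP Λ p := RingHom.charP _ hCinj p
  -- `Λ` is a field
  have hfield : IsField Λ := by
    rcases hΛ with h | h
    · exact h
    · exfalso
      obtain ⟨hdom, hdvr, -⟩ := id h
      haveI := hdom
      haveI := hdvr
      haveI := Groth.Agent.Lib.Helper19.FlatLift.charZero_of_isCohenRing h
      exact hp.ne_zero (Nat.cast_injective (R := Λ) (by rw [CharP.cast_eq_zero Λ p, Nat.cast_zero]))
  letI : Field Λ := hfield.toField
  -- algebra structures
  letI algR'B : Algebra (R ⧸ RingHom.ker (algebraMap R B)) B :=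
    (RingHom.kerLift (algebraMap R B)).toAlgebra
  haveI : IsScalarTower R (R ⧸ RingHom.ker (algebraMap R B)) B :=
    IsScalarTower.of_algebraMap_eq fun _ => rfl
  haveI : Algebra.FiniteType (R ⧸ RingHom.ker (algebraMap R B)) B :=
    Algebra.FiniteType.of_restrictScalars_finiteType R _ B
  letI algR₀R' : Algebra (MvPowerSeries (Fin n) Λ) (R ⧸ RingHom.ker (algebraMap R B)) :=
    f₀.toAlgebra
  haveI : Module.Finite (MvPowerSeries (Fin n) Λ) (R ⧸ RingHom.ker (algebraMap R B)) := hf₀fin
  letI algR₀B : Algebra (MvPowerSeries (Fin n) Λ) B := ψ.toAlgebra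
  haveI : IsScalarTower (MvPowerSeries (Fin n) Λ) (R ⧸ RingHom.ker (algebraMap R B)) B :=
    IsScalarTower.of_algebraMap_eq fun _ => rfl
  haveI : Algebra.FiniteType (MvPowerSeries (Fin n) Λ) B :=
    Algebra.FiniteType.trans (R := MvPowerSeries (Fin n) Λ) (S := R ⧸ RingHom.ker (algebraMap R B))
      (A := B) inferInstance inferInstance
  exact Groth.Agent.Lib.Helper7.DerFT.exists_derivation_of_finiteType p n B hψinj
    (FractionRing B) f hf


end Groth.Agent.S2048
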