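import Groth.Statements.S2053
import Groth.Agent.Lib.Helper19CohenPresC

set_option autoImplicit false
universe u
open CAlg

namespace Groth.Agent.S2053

/-- Consider a local homomorphism `A → B` between complete Noetherian local rings. Then there are power
series rings `R`, `S` in finitely many variables over coefficient rings which are both fields (when
the residue characteristic of `A` is zero) or both Cohen rings (when it is positive), surjections `R
→ A`, `S → B` and a ring map `R → S` making the square commute, such that `R → S` is flat and `S/𝔪_R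
S` is a regular ring. (The published statement also arranges that a regular system of parameters
maps into one; that is not asserted here.) -/
theorem result {A B : Type u} [CommRing A] [CommRing B]
    [IsLocalRing A] [IsLocalRing B] [IsNoetherianRing A] [IsNoetherianRing B]
    [IsAdicComplete (IsLocalRing.maximalIdeal A) A] [IsAdicComplete (IsLocalRing.maximalIdeal B) B]
    [Algebra A B] [IsLocalHom (algebraMap A B)] :
    ∃ (Λ Λ' : Type u) (_ : CommRing Λ) (_ : CommRing Λ') (_ : IsLocalRing Λ) (n m : ℕ)
      (ρ : MvPowerSeries (Fin n) Λ →+* A) (σ : MvPowerSeries (Fin m) Λ' →+* B)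
      (τ : MvPowerSeries (Fin n) Λ →+* MvPowerSeries (Fin m) Λ'),
      ((CharZero (IsLocalRing.ResidueField A) ∧ IsField Λ ∧ IsField Λ') ∨
        (¬ CharZero (IsLocalRing.ResidueField A) ∧ CAlg.IsCohenRing Λ ∧ CAlg.IsCohenRing Λ')) ∧
        Function.Surjective ρ ∧ Function.Surjective σ ∧ σ.comp τ = (algebraMap A B).comp ρ ∧
        τ.Flat ∧ IsRegularRing (MvPowerSeries (Fin m) Λ' ⧸
          (IsLocalRing.maximalIdeal (MvPowerSeries (Fin n) Λ)).map τ) := by
  classical
  obtain ⟨Λ, Λ', i1, j1, i2, j2, n, r, ρ, σ, ψ, hΛE, hΛ'E, hψloc, hρloc, hρ, hσ, hcomm, hflat⟩ :=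
    Groth.Agent.Lib.Helper19.CohenPres.exists_iterated_presentation (A := A) (B := B)
  obtain ⟨E⟩ := Groth.Agent.Lib.Helper19.CohenPres.nonempty_iterate_equiv Λ' r n
  haveI := hψloc
  have hχ := Groth.Agent.Lib.Helper19.CohenPres.map_maximalIdeal_eq_map_C hΛE hΛ'E r ψ
  have hreg := Groth.Agent.Lib.Helper19.CohenPres.isRegularRing_quotient hΛE hΛ'E r n ψ
  refine ⟨Λ, Λ', i1, j1, i2, n, r + n, ρ,
    σ.comp (E.symm : MvPowerSeries (Fin (r + n)) Λ' →+* _),
    (E : _ →+* MvPowerSeries (Fin (r + n)) Λ').comp (MvPowerSeries.map (σ := Fin n) ψ),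
    ?_, hρ, ?_, ?_, ?_, ?_⟩
  · -- the two cases
    rcases hΛE with ⟨hf, hc0⟩ | hc
    · left
      have hm : IsLocalRing.maximalIdeal Λ = ⊥ := IsLocalRing.isField_iff_maximalIdeal_eq.1 hf
      refine ⟨?_, hf, ?_⟩
      · let f : Λ →+* IsLocalRing.ResidueField A :=
          (IsLocalRing.residue A).comp (ρ.comp (MvPowerSeries.C (σ := Fin n) (R := Λ)))
        have hinj : Function.Injective f := by
          rw [injective_iff_map_eq_zero]
          intro x hx
          by_contra hx0
          obtain ⟨y, hy⟩ := hf.mul_inv_cancel hx0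
          have : f (x * y) = 0 := by rw [map_mul, hx, zero_mul]
          rw [hy, map_one] at this
          exact one_ne_zero this
        exact charZero_of_injective_ringHom hinj
      · rw [IsLocalRing.isField_iff_maximalIdeal_eq]
        rw [hm, Ideal.map_bot] at hχ
        exact (Ideal.map_eq_bot_iff_of_injective
          (MvPowerSeries.C_injective (σ := Fin r) (R := Λ'))).1 hχ.symm
    · right
      obtain ⟨hdomp, hdvr, hcompl, p, hp, hmax⟩ := id hc
      have hpm : ((p : ℕ) : Λ) ∈ IsLocalRing.maximalIdeal Λ := by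
        rw [hmax]; exact Ideal.subset_span rfl
      refine ⟨?_, hc, ?_⟩
      · intro hch
        have h1 := hρloc _ hpm
        rw [map_natCast, map_natCast, ← IsLocalRing.residue_eq_zero_iff, map_natCast] at h1
        exact hp.ne_zero (by exact_mod_cast h1)
      · rcases hΛ'E with ⟨hf', hc0'⟩ | hc'
        · exfalso
          have hm' : IsLocalRing.maximalIdeal Λ' = ⊥ :=
            IsLocalRing.isField_iff_maximalIdeal_eq.1 hf'
          have h1 : ψ ((p : ℕ) : Λ) ∈ (IsLocalRing.maximalIdeal Λ).map ψ :=
            Ideal.mem_map_of_mem _ hpm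
          rw [hχ, hm', Ideal.map_bot, Ideal.mem_bot, map_natCast] at h1
          have h2 := congrArg (MvPowerSeries.constantCoeff (σ := Fin r) (R := Λ')) h1
          rw [map_natCast, map_zero] at h2
          exact hp.ne_zero (by exact_mod_cast h2)
        · exact hc'
  · exact hσ.comp E.symm.surjective
  · rw [← hcomm]
    ext x : 1
    simp
  · exact RingHom.Flat.comp hflat (RingHom.Flat.of_bijective E.bijective)
  · have hJ : (IsLocalRing.maximalIdeal (MvPowerSeries (Fin n) Λ)).map
        ((E : _ →+* MvPowerSeries (Fin (r + n)) Λ').comp (MvPowerSeries.map (σ := Fin n) ψ)) =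
        ((IsLocalRing.maximalIdeal (MvPowerSeries (Fin n) Λ)).map
          (MvPowerSeries.map (σ := Fin n) ψ)).map (E : _ →+* MvPowerSeries (Fin (r + n)) Λ') :=
      (Ideal.map_map _ _).symm
    exact IsRegularRing.of_ringEquiv (Ideal.quotientEquiv _ _ E hJ)

end Groth.Agent.S2053
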