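import Groth.Statements.S2054
import Mathlib
import Groth.Agent.Lib.Helper28Reflexive2
import Groth.Agent.Lib.Helper28DepthSk
import Groth.Agent.Lib.Helper28Normal
import Groth.Agent.Lib.Helper28WeakKrull3
-- import your own Groth.Agent.* helpers here

set_option autoImplicit false
universe u
open CAlg

namespace Groth.Agent.S2054

open Groth.Agent.Lib.Helper28

section
variable {R M : Type u} [CommRing R] [IsDomain R] [IsNoetherianRing R]
    [IsIntegrallyClosed R] [AddCommGroup M] [Module R M] [Module.Finite R M]

theorem hasSk_two_self : LocCoh.HasSk 2 R R := by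
  have h : ∀ (p : Ideal R) [p.IsPrime], IsDomain (Localization.AtPrime p) ∧
      IsIntegrallyClosed (Localization.AtPrime p) := by
    intro p _
    have hle : p.primeCompl ≤ nonZeroDivisors R := p.primeCompl_le_nonZeroDivisors
    exact ⟨IsLocalization.isDomain_localization hle,
      isIntegrallyClosed_of_isLocalization (Localization.AtPrime p) p.primeCompl hle⟩
  exact ((forall_isIntegrallyClosed_localization_iff_hasRk_one_and_hasSk_two R).mp h).2

theorem noZeroSMulDivisors_of_isReflexive [Module.IsReflexive R M] : NoZeroSMulDivisors R M := by
  refine ⟨fun {c x} h => ?_⟩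
  by_contra hcon
  push Not at hcon
  obtain ⟨hc, hx⟩ := hcon
  apply hx
  apply (Module.evalEquiv R M).injective
  rw [map_zero]
  ext φ
  have h1 : φ (c • x) = 0 := by rw [h, map_zero]
  rw [map_smul, smul_eq_mul] at h1
  rcases mul_eq_zero.mp h1 with h2 | h2
  · exact absurd h2 hc
  · simpa using h2

end

section
variable {R M : Type u} [CommRing R] [IsDomain R] [AddCommGroup M] [Module R M]

theorem noZeroSMulDivisors_localizedModule (p : Ideal R) [p.IsPrime] [NoZeroSMulDivisors R M] :
    NoZeroSMulDivisors (Localization.AtPrime p) (LocalizedModule p.primeCompl M) := by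
  refine ⟨fun {c x} h => ?_⟩
  obtain ⟨a, s, rfl⟩ := IsLocalization.exists_mk'_eq p.primeCompl c
  induction x using LocalizedModule.induction_on with
  | h m t =>
    rw [← Localization.mk_eq_mk', LocalizedModule.mk_smul_mk, ← LocalizedModule.zero_mk 1,
      LocalizedModule.mk_eq] at h
    obtain ⟨u, hu⟩ := h
    rw [smul_zero, smul_zero, one_smul, Submonoid.smul_def, smul_smul] at hu
    rcases smul_eq_zero.mp hu with h1 | h1
    · left
      have hu0 : (u : R) ≠ 0 := fun h0 => u.2 (h0 ▸ p.zero_mem)
      have ha : a = 0 := by
        rcases mul_eq_zero.mp h1 with h2 | h2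
        · exact absurd h2 hu0
        · exact h2
      rw [ha, IsLocalization.mk'_zero]
    · right
      rw [h1, LocalizedModule.zero_mk]

end

section
variable {R M : Type u} [CommRing R] [IsDomain R] [IsNoetherianRing R]
    [IsIntegrallyClosed R] [AddCommGroup M] [Module R M] [Module.Finite R M]

theorem isPrincipalIdealRing_localization_of_height_le_one (p : Ideal R) [p.IsPrime]
    (hp : p.height ≤ 1) : IsPrincipalIdealRing (Localization.AtPrime p) := by
  rcases (show p.height = 0 ∨ p.height = 1 by
    rcases lt_or_eq_of_le hp with h | h
    · left; exact Order.lt_one_iff.mp h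
    · right; exact h) with h0 | h1
  · have hpbot : p = ⊥ := by
      have hmin : p ∈ minimalPrimes R := Ideal.height_eq_zero_iff.mp h0 
      have : (⊥ : Ideal R) ∈ minimalPrimes R := by
        rw [IsDomain.minimalPrimes_eq_singleton_bot]; rfl
      rw [IsDomain.minimalPrimes_eq_singleton_bot] at hmin
      exact hmin
    have hf : IsField (Localization.AtPrime p) := by
      rw [IsLocalRing.isField_iff_maximalIdeal_eq, ← Localization.AtPrime.map_eq_maximalIdeal]
      have : p.map (algebraMap R (Localization.AtPrime p)) =
          (⊥ : Ideal R).map (algebraMap R (Localization.AtPrime p)) := by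
        congr 1
      rw [this, Ideal.map_bot]
    let := hf.toField
    infer_instance
  · have := WeakKrull.isDiscreteValuationRing_localization_of_height_one R p h1
    infer_instance

end

section
variable {R M : Type u} [CommRing R] [IsDomain R] [AddCommGroup M] [Module R M]
  [Module.Finite R M]

theorem supportDim_eq_ringKrullDim_of_noZeroSMulDivisors [NoZeroSMulDivisors R M] [Nontrivial M] :
    Module.supportDim R M = ringKrullDim R := by
  rw [Module.supportDim_eq_ringKrullDim_quotient_annihilator]
  have hann : Module.annihilator R M = ⊥ := by
    rw [eq_bot_iff]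
    intro a ha
    rw [Ideal.mem_bot]
    obtain ⟨x, hx⟩ := exists_ne (0 : M)
    have := Module.mem_annihilator.mp ha x
    rcases smul_eq_zero.mp this with h | h
    · exact h
    · exact absurd h hx
  rw [hann]
  exact ringKrullDim_eq_of_ringEquiv (RingEquiv.quotientBot R)

end


/-- Let `R` be a Noetherian normal domain and `M` a finite `R`-module. Then `M` is reflexive (the map to
its double dual is bijective) if and only if `M` is torsion free and satisfies Serre's condition
`(S_2)`. -/
theorem result {R M : Type u} [CommRing R] [IsDomain R] [IsNoetherianRing R]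
    [IsIntegrallyClosed R] [AddCommGroup M] [Module R M] [Module.Finite R M] :
    Module.IsReflexive R M ↔ NoZeroSMulDivisors R M ∧ LocCoh.HasSk 2 R M := by
  constructor
  · intro h
    exact ⟨noZeroSMulDivisors_of_isReflexive, hasSk_two_of_isReflexive M hasSk_two_self⟩
  · rintro ⟨htf, hS2⟩
    rw [isReflexive_iff_forall_localization_or_depth_ge_two]
    intro p _
    have htfp := noZeroSMulDivisors_localizedModule (M := M) p
    have hdomp : IsDomain (Localization.AtPrime p) :=
      IsLocalization.isDomain_localization p.primeCompl_le_nonZeroDivisors
    by_cases hht : p.height ≤ 1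
    · left
      have := isPrincipalIdealRing_localization_of_height_le_one p hht
      have hfree : Module.Free (Localization.AtPrime p) (LocalizedModule p.primeCompl M) :=
        Module.free_of_finite_type_torsion_free'
      infer_instance
    · by_cases hsub : Subsingleton (LocalizedModule p.primeCompl M)
      · left
        exact isReflexive_of_subsingleton _ _
      · right
        rw [not_subsingleton_iff_nontrivial] at hsub
        have h1 := hS2 p
        rw [supportDim_eq_ringKrullDim_of_noZeroSMulDivisors,
          IsLocalization.AtPrime.ringKrullDim_eq_height p (Localization.AtPrime p)] at h1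
        have h2 : (2 : ℕ∞) ≤ p.height := by
          rw [not_le] at hht
          exact Order.add_one_le_of_lt hht
        have e2 : ((2 : ℕ) : WithBot ℕ∞) = (((2 : ℕ∞)) : WithBot ℕ∞) := rfl
        have h3 : ((2 : ℕ) : WithBot ℕ∞) ≤ ((p.height : ℕ∞) : WithBot ℕ∞) := by
          rw [e2, WithBot.coe_le_coe]
          exact h2
        rw [min_eq_left h3, e2, WithBot.coe_le_coe] at h1
        exact h1

end Groth.Agent.S2054
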