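import Groth.Statements.S2059
import Mathlib
-- import your own Groth.Agent.* helpers here

set_option autoImplicit false
universe u
open CAlg

namespace Groth.Agent.S2059.Aux
set_option autoImplicit false
namespace JacCard
open Cardinal

variable {k : Type u} [Field k]

lemma isAlgebraic_of_field {L : Type u} [Field L] [Algebra k L] (s : Set L)
    (hs : Algebra.adjoin k s = ⊤) (hcard : #s < #k) : Algebra.IsAlgebraic k L := by
  by_cases hfin : s.Finite
  · have : Algebra.FiniteType k L := ⟨⟨hfin.toFinset, by simpa using hs⟩⟩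
    have : Module.Finite k L := finite_of_finite_type_of_isJacobsonRing k L
    exact Algebra.IsAlgebraic.of_finite k L
  · have hinf : ℵ₀ ≤ #s := Cardinal.infinite_iff.mp (Set.infinite_coe_iff.mpr hfin)
    by_contra hna
    rw [Algebra.isAlgebraic_def] at hna
    push Not at hna
    obtain ⟨x, hx⟩ := hna
    have h1 : #k ≤ Module.rank k L := by
      have := (Transcendental.linearIndependent_sub_inv (F := k) (E := L) hx).cardinal_lift_le_rank
      simpa using this
    have h2 : Module.rank k L ≤ #s := by
      let φ : MvPolynomial s k →ₐ[k] L := MvPolynomial.aeval (fun i : s => (i : L))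
      have hφ : Function.Surjective φ := by
        rw [← AlgHom.range_eq_top, ← Algebra.adjoin_range_eq_range_aeval, Subtype.range_coe]
        exact hs
      have := LinearMap.rank_le_of_surjective φ.toLinearMap hφ
      have hne : Nonempty s := by
        by_contra h
        rw [not_nonempty_iff] at h
        exact hfin (Set.toFinite s)
      rw [MvPolynomial.rank_eq, mk_finsupp_nat, max_eq_left hinf] at this
      exact this
    exact absurd (h1.trans h2) (not_le.mpr hcard)

lemma isAlgebraic_quotient {S : Type u} [CommRing S] [Algebra k S] (s : Set S)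
    (hs : Algebra.adjoin k s = ⊤) (hcard : #s < #k) (m : Ideal S) [hm : m.IsMaximal] :
    Algebra.IsAlgebraic k (S ⧸ m) := by
  let _ : Field (S ⧸ m) := Ideal.Quotient.field m
  refine isAlgebraic_of_field (Ideal.Quotient.mkₐ k m '' s) ?_ (lt_of_le_of_lt mk_image_le hcard)
  rw [← AlgHom.map_adjoin, hs, Algebra.map_top, AlgHom.range_eq_top]
  exact Ideal.Quotient.mkₐ_surjective k m

theorem main {S : Type u} [CommRing S] [Algebra k S]
    (s : Set S) (hs : Algebra.adjoin k s = ⊤) (hcard : #s < #k) :
    (∀ (m : Ideal S) [m.IsMaximal], Algebra.IsAlgebraic k (S ⧸ m)) ∧ IsJacobsonRing S := by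
  classical
  refine ⟨fun m _ => isAlgebraic_quotient s hs hcard m, ?_⟩
  by_cases hfin : s.Finite
  · have : Algebra.FiniteType k S := ⟨⟨hfin.toFinset, by simpa using hs⟩⟩
    exact isJacobsonRing_of_finiteType (A := k) (B := S)
  have hinf : ℵ₀ ≤ #s := Cardinal.infinite_iff.mp (Set.infinite_coe_iff.mpr hfin)
  rw [isJacobsonRing_iff_prime_eq]
  intro P hP
  refine le_antisymm ?_ Ideal.le_jacobson
  intro f hf
  by_contra hfP
  let D := S ⧸ P
  let fb : D := Ideal.Quotient.mk P f
  have hfb : fb ≠ 0 := fun h => hfP (Ideal.Quotient.eq_zero_iff_mem.mp h)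
  let Df := Localization.Away fb
  have : IsDomain Df := IsLocalization.isDomain_localization
    (powers_le_nonZeroDivisors_of_noZeroDivisors hfb)
  obtain ⟨n, hn⟩ := Ideal.exists_maximal Df
  let g : S →ₐ[k] Df := (IsScalarTower.toAlgHom k D Df).comp (Ideal.Quotient.mkₐ k P)
  let inv : Df := IsLocalization.Away.invSelf fb
  let T : Set Df := g '' s ∪ {inv}
  have hTcard : #T < #k := by
    refine lt_of_le_of_lt (mk_union_le _ _) ?_
    refine lt_of_le_of_lt (add_le_add mk_image_le (le_of_eq (mk_singleton _))) ?_
    rwa [Cardinal.add_one_eq hinf]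
  have hT : Algebra.adjoin k T = ⊤ := by
    rw [eq_top_iff]
    rintro z -
    have hrange : ∀ x : S, g x ∈ Algebra.adjoin k T := by
      intro x
      have hx : x ∈ Algebra.adjoin k s := by rw [hs]; trivial
      have : g x ∈ (Algebra.adjoin k s).map g := ⟨x, hx, rfl⟩
      rw [AlgHom.map_adjoin] at this
      exact Algebra.adjoin_mono Set.subset_union_left this
    have hinv : inv ∈ Algebra.adjoin k T := Algebra.subset_adjoin (Or.inr rfl)
    obtain ⟨d, t, rfl⟩ := IsLocalization.exists_mk'_eq (Submonoid.powers fb) z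
    obtain ⟨e, he⟩ := t.2
    obtain ⟨x, rfl⟩ := Ideal.Quotient.mk_surjective d
    have : IsLocalization.mk' Df (Ideal.Quotient.mk P x) t = g x * inv ^ e := by
      rw [IsLocalization.mk'_eq_iff_eq_mul, mul_assoc, ← he]
      have h1 : inv * algebraMap D Df fb = 1 := by
        rw [mul_comm]; exact IsLocalization.Away.mul_invSelf fb
      rw [map_pow, ← mul_pow, h1, one_pow, mul_one]
      rfl
    rw [this]
    exact Subalgebra.mul_mem _ (hrange x) (Subalgebra.pow_mem _ hinv e)
  have := isAlgebraic_quotient T hT hTcard n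
  let M' : Ideal D := n.comap (algebraMap D Df)
  have hM'p : M'.IsPrime := Ideal.comap_isPrime _ _
  let ι : D ⧸ M' →ₐ[k] Df ⧸ n :=
    Ideal.quotientMapₐ n (IsScalarTower.toAlgHom k D Df) le_rfl
  have hι : Function.Injective ι := Ideal.quotientMap_injective
  have : Algebra.IsAlgebraic k (D ⧸ M') := Algebra.IsAlgebraic.of_injective ι hι
  have : Algebra.IsIntegral k (D ⧸ M') := Algebra.IsAlgebraic.isIntegral
  have hfield : IsField (D ⧸ M') := isField_of_isIntegral_of_isField' (Field.toIsField k)
  have hM'max : M'.IsMaximal := Ideal.Quotient.maximal_of_isField _ hfield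
  have hfbM' : fb ∉ M' := by
    intro h
    have hu : IsUnit (algebraMap D Df fb) := IsLocalization.Away.algebraMap_isUnit fb
    exact hn.ne_top (Ideal.eq_top_of_isUnit_mem _ h hu)
  let M : Ideal S := M'.comap (Ideal.Quotient.mk P)
  have hMmax : M.IsMaximal := Ideal.comap_isMaximal_of_surjective _ Ideal.Quotient.mk_surjective
  have hPM : P ≤ M := by
    intro x hx
    change Ideal.Quotient.mk P x ∈ M'
    rw [Ideal.Quotient.eq_zero_iff_mem.mpr hx]
    exact Ideal.zero_mem _
  have : f ∈ M := by
    rw [Ideal.jacobson, Ideal.mem_sInf] at hf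
    exact hf ⟨hPM, hMmax⟩
  exact hfbM' this

end JacCard

end Groth.Agent.S2059.Aux

namespace Groth.Agent.S2059

/-- Let `k` be a field and `S` a `k`-algebra generated by a set of cardinality smaller than that of `k`.
Then for every maximal ideal `𝔪` of `S` the residue field `S/𝔪` is algebraic over `k`, and `S` is a
Jacobson ring. -/
theorem result {k S : Type u} [Field k] [CommRing S] [Algebra k S]
    (s : Set S) (hs : Algebra.adjoin k s = ⊤) (hcard : Cardinal.mk s < Cardinal.mk k) :
    (∀ (m : Ideal S) [m.IsMaximal], Algebra.IsAlgebraic k (S ⧸ m)) ∧ IsJacobsonRing S := by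
  exact Aux.JacCard.main s hs hcard

end Groth.Agent.S2059
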