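import Groth.Statements.S2061
import Mathlib
import Groth.Agent.Lib.Helper28SerreConv
import Groth.Agent.Lib.Helper5RLR3
-- import your own Groth.Agent.* helpers here

set_option autoImplicit false
universe u
open CategoryTheory
open CAlg

namespace Groth.Agent.S2061
open Groth.Agent.Lib.Helper28 CategoryTheory IsLocalRing

/-- For a Noetherian local ring `R` write `𝔪` for its maximal ideal and `κ` for its residue field. The
projective dimension of `κ` as an `R`-module is at least the `κ`-dimension of `𝔪/𝔪²`: if `κ` has
projective dimension less than `d` then `dim_κ 𝔪/𝔪² < d`. -/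
theorem result {R : Type u} [CommRing R] [IsLocalRing R]
    [IsNoetherianRing R] (d : ℕ)
    (hd : HasProjectiveDimensionLT (ModuleCat.of R (IsLocalRing.ResidueField R)) d) :
    Module.finrank (IsLocalRing.ResidueField R) (IsLocalRing.CotangentSpace R) < d := by
  have hreg : IsRegularLocalRing R :=
    isRegularLocalRing_of_hasProjectiveDimensionLT_residueField R d hd
  obtain ⟨rs, hlen, hrs, hR⟩ := Groth.Agent.Lib.Helper5.exists_isRegular_ofList_eq_maximalIdeal (R := R)
  have h1 := ModuleCat.projectiveDimension_quotient_eq_length.{u} rs hR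
  have hfin := (IsRegularLocalRing.iff_finrank_cotangentSpace R).mp hreg
  rw [hlen] at hfin
  have hfin' : Module.finrank (ResidueField R) (CotangentSpace R) = rs.length := by
    exact_mod_cast hfin
  rw [hfin']
  let e : Shrink.{u} (R ⧸ Ideal.ofList rs) ≃ₗ[R] ResidueField R :=
    (Shrink.linearEquiv R (R ⧸ Ideal.ofList rs)).trans
      (Submodule.quotEquivOfEq _ _ hrs)
  rw [projectiveDimension_eq_of_iso e.toModuleIso] at h1
  have h2 := (projectiveDimension_lt_iff (X := ModuleCat.of R (ResidueField R)) (n := d)).mpr hd
  rw [h1] at h2
  exact_mod_cast h2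

end Groth.Agent.S2061
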