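import Groth.Statements.S2064
import Groth.Agent.Lib.Helper28Depth

set_option autoImplicit false
universe u
open CategoryTheory
open CAlg

namespace Groth.Agent.S2064

open Groth.Agent.Lib.Helper28

section Helpers

variable {R : Type u} [CommRing R] [IsNoetherianRing R] (I : Ideal R)

/-- depth of the range of a map. -/
theorem depth_range {X Y : Type u} [AddCommGroup X] [Module R X] [Module.Finite R X]
    [AddCommGroup Y] [Module R Y] [Module.Finite R Y] (φ : X →ₗ[R] Y) :
    min (LocCoh.idealDepth I X) (LocCoh.idealDepth I (LinearMap.ker φ) - 1) ≤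
      LocCoh.idealDepth I (LinearMap.range φ) :=
  min_idealDepth_le_right I (LinearMap.ker φ).subtype φ.rangeRestrict
    (Submodule.injective_subtype _) φ.surjective_rangeRestrict (by
      intro x
      constructor
      · intro hx
        have hx' : φ x = 0 := congrArg Subtype.val hx
        exact ⟨⟨x, hx'⟩, rfl⟩
      · rintro ⟨⟨y, hy⟩, rfl⟩
        exact Subtype.ext hy)

/-- depth of a quotient. -/
theorem depth_quot {Z : Type u} [AddCommGroup Z] [Module R Z] [Module.Finite R Z]
    (B : Submodule R Z) :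
    min (LocCoh.idealDepth I Z) (LocCoh.idealDepth I B - 1) ≤ LocCoh.idealDepth I (Z ⧸ B) :=
  min_idealDepth_le_right I B.subtype B.mkQ (Submodule.injective_subtype _)
    B.mkQ_surjective (LinearMap.exact_subtype_mkQ B)

theorem enat_le_sub_one {n : ℕ} {a : ℕ∞} (h : ((n + 1 : ℕ) : ℕ∞) ≤ a) : (n : ℕ∞) ≤ a - 1 := by
  induction a using ENat.recTopCoe with
  | top => simp
  | coe k =>
    have h' : n + 1 ≤ k := by exact_mod_cast h
    have h2 : ((k : ℕ∞) - 1) = ((k - 1 : ℕ) : ℕ∞) := by
      rw [ENat.natCast_sub]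
      rfl
    rw [h2]
    exact_mod_cast (by omega : n ≤ k - 1)

end Helpers

/-- Let `R` be a Noetherian local ring and `0 → M_e → M_{e-1} → … → M_0` a complex of finite `R`-modules
with `depth(M_j) ≥ j`. If `i > 0` is the largest index at which the complex is not exact, then the
homology at `M_i` has depth at least one. -/
theorem result {R : Type u} [CommRing R] [IsLocalRing R] [IsNoetherianRing R]
    (C : ChainComplex (ModuleCat.{u} R) ℕ) (e : ℕ) (hzero : ∀ j, e < j → Limits.IsZero (C.X j))
    (hfin : ∀ j, Module.Finite R (C.X j)) (hdepth : ∀ j, j ≤ e → (j : ℕ∞) ≤ LocCoh.depth R (C.X j))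
    (i : ℕ) (hi : 0 < i) (hnot : ¬ C.ExactAt i) (habove : ∀ j, i < j → C.ExactAt j) :
    1 ≤ LocCoh.depth R (C.homology i) := by
  by_cases hie : i ≤ e
  swap
  · exact absurd (ShortComplex.exact_of_isZero_X₂ _ (hzero i (by omega))) hnot
  obtain ⟨i', rfl⟩ : ∃ i', i = i' + 1 := ⟨i - 1, by omega⟩
  set m := IsLocalRing.maximalIdeal R with hm
  show 1 ≤ LocCoh.idealDepth m (C.homology (i' + 1))
  have hfinX : ∀ j, Module.Finite R (C.X j) := hfin
  -- depth of the terms
  have hX : ∀ j : ℕ, ((j : ℕ) : ℕ∞) ≤ LocCoh.idealDepth m (C.X j) := by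
    intro j
    by_cases hj : j ≤ e
    · exact hdepth j hj
    · have : Subsingleton (C.X j) := ModuleCat.subsingleton_of_isZero (hzero j (by omega))
      rw [idealDepth_eq_top_of_subsingleton]
      exact le_top
  -- exactness as equality of submodules
  have hex : ∀ j, i' < j → LinearMap.range (C.d (j + 2) (j + 1)).hom =
      LinearMap.ker (C.d (j + 1) j).hom := by
    intro j hj
    have h1 := (C.exactAt_iff' (j + 2) (j + 1) j (by simp) (by simp)).mp (habove (j + 1) (by omega))
    exact (ShortComplex.moduleCat_exact_iff_range_eq_ker _).mp h1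
  -- depth of the cycles above `i`
  have claim : ∀ n j, i' < j → e ≤ j + n →
      ((j + 2 : ℕ) : ℕ∞) ≤ LocCoh.idealDepth m (LinearMap.ker (C.d (j + 1) j).hom) := by
    intro n
    induction n with
    | zero =>
      intro j hj hje
      have : Subsingleton (C.X (j + 1)) :=
        ModuleCat.subsingleton_of_isZero (hzero (j + 1) (by omega))
      rw [idealDepth_eq_top_of_subsingleton]
      exact le_top
    | succ n ih =>
      intro j hj hje
      have h1 := ih (j + 1) (by omega) (by omega)
      have h2 := depth_range m (C.d (j + 2) (j + 1)).hom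
      have h3 : ((j + 2 : ℕ) : ℕ∞) ≤ min (LocCoh.idealDepth m (C.X (j + 2)))
          (LocCoh.idealDepth m (LinearMap.ker (C.d (j + 2) (j + 1)).hom) - 1) :=
        le_min (hX (j + 2)) (enat_le_sub_one h1)
      rw [← idealDepth_congr (LinearEquiv.ofEq _ _ (hex j hj)) m]
      exact h3.trans h2
  -- the main step
  set S := C.sc' (i' + 2) (i' + 1) i' with hS
  have hfin2 : Module.Finite R S.X₂ := hfinX (i' + 1)
  have hfin1 : Module.Finite R S.X₁ := hfinX (i' + 2)
  have hZ : 1 ≤ LocCoh.idealDepth m (LinearMap.ker S.g.hom) := by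
    refine one_le_idealDepth_of_injective m (LinearMap.ker S.g.hom).subtype
      (Submodule.injective_subtype _) ?_
    have := hX (i' + 1)
    refine le_trans ?_ this
    exact_mod_cast Nat.le_add_left 1 i'
  have hB : 2 ≤ LocCoh.idealDepth m (LinearMap.range S.moduleCatToCycles) := by
    have h2 := depth_range m S.moduleCatToCycles
    have hker : LinearMap.ker S.moduleCatToCycles = LinearMap.ker (C.d (i' + 2) (i' + 1)).hom :=
      LinearMap.ker_codRestrict _ _ _
    have h1 : ((i' + 3 : ℕ) : ℕ∞) ≤
        LocCoh.idealDepth m (LinearMap.ker (C.d (i' + 2) (i' + 1)).hom) :=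
      claim e (i' + 1) (by omega) (by omega)
    have h1' : ((i' + 2 + 1 : ℕ) : ℕ∞) ≤
        LocCoh.idealDepth m (LinearMap.ker S.moduleCatToCycles) :=
      h1.trans (le_of_eq (idealDepth_congr (LinearEquiv.ofEq _ _ hker) m).symm)
    have h3 : ((i' + 2 : ℕ) : ℕ∞) ≤ min (LocCoh.idealDepth m S.X₁)
        (LocCoh.idealDepth m (LinearMap.ker S.moduleCatToCycles) - 1) :=
      le_min (hX (i' + 2)) (enat_le_sub_one h1')
    refine le_trans ?_ (h3.trans h2)
    exact_mod_cast Nat.le_add_left 2 i'
  have hQ := depth_quot m (LinearMap.range S.moduleCatToCycles)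
  have h4 : (1 : ℕ∞) ≤ min (LocCoh.idealDepth m (LinearMap.ker S.g.hom))
      (LocCoh.idealDepth m (LinearMap.range S.moduleCatToCycles) - 1) := by
    refine le_min hZ ?_
    have : ((1 : ℕ) : ℕ∞) ≤ LocCoh.idealDepth m (LinearMap.range S.moduleCatToCycles) - 1 :=
      enat_le_sub_one (by exact_mod_cast hB)
    exact_mod_cast this
  have e1 : C.homology (i' + 1) ≅ S.moduleCatLeftHomologyData.H :=
    C.homologyIsoSc' (i' + 2) (i' + 1) i' (by simp) (by simp) ≪≫ S.moduleCatHomologyIso
  rw [idealDepth_congr e1.toLinearEquiv m]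
  exact h4.trans hQ

end Groth.Agent.S2064
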