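import Groth.Statements.S2065
import Groth.Agent.Lib.Helper28BE11
-- import your own Groth.Agent.* helpers here

set_option autoImplicit false
universe u
open CAlg

namespace Groth.Agent.S2065

open Groth.Agent.Lib.Helper28 Groth.Agent.Lib.Helper28.BE

/-- From the hypotheses in the published form to the localizable form. -/
theorem behyp_of {R : Type u} [CommRing R]
    (e : ℕ) (n : ℕ → ℕ) (A : (i : ℕ) → Matrix (Fin (n i)) (Fin (n (i + 1))) R)
    (hA : ∀ i, i + 2 ≤ e → A i * A (i + 1) = 0)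
    (hrank : ∀ j, 1 ≤ j → j ≤ e →
      (CAlgX.matrixRank (A (j - 1)) : ℤ) = ∑ t ∈ Finset.Icc j e, (-1 : ℤ) ^ (t - j) * (n t : ℤ))
    (hdet : ∀ j, 1 ≤ j → j ≤ e →
      CAlgX.detIdeal (A (j - 1)) = ⊤ ∨
        ∃ rs : List R, rs.length = j ∧ (∀ r ∈ rs, r ∈ CAlgX.detIdeal (A (j - 1))) ∧
          RingTheory.Sequence.IsRegular R rs) : BEHyp R e n A := by
  refine ⟨hA, fun k hk => ?_, fun k hk => ?_⟩
  · have h1 : (CAlgX.matrixRank (A k) : ℤ) = altSum e n (k + 1) := hrank (k + 1) (by omega) (by omega)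
    have h2 : (rk e A (k + 1) : ℤ) = altSum e n (k + 2) := by
      by_cases hk' : k + 1 < e
      · rw [rk_of_lt A hk']
        exact hrank (k + 2) (by omega) (by omega)
      · rw [rk_of_not_lt A hk', altSum_of_lt e n (by omega)]
        rfl
    have h3 := altSum_add_succ e n (j := k + 1) (by omega)
    have : ((CAlgX.matrixRank (A k) + rk e A (k + 1) : ℕ) : ℤ) = (n (k + 1) : ℤ) := by
      push_cast
      rw [h1, h2]
      exact h3
    exact_mod_cast this
  · have h1 : CAlgX.detIdeal (A k) = ⊤ ∨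
        ∃ rs : List R, rs.length = k + 1 ∧ (∀ r ∈ rs, r ∈ CAlgX.detIdeal (A k)) ∧
          RingTheory.Sequence.IsRegular R rs := hdet (k + 1) (by omega) (by omega)
    rcases h1 with htop | ⟨rs, hlen, hmem, hreg⟩
    · rw [htop, idealDepth_eq_top_of_smul_top_eq_top ⊤ R (by simp)]
      exact le_top
    · have h2 := length_le_idealDepth hreg.toIsWeaklyRegular hmem
      rw [hlen] at h2
      exact h2

/-- The necessity direction at level `k`. -/
theorem necessity {R : Type u} [CommRing R] [IsLocalRing R] [IsNoetherianRing R]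
    (e : ℕ) (n : ℕ → ℕ) (A : (i : ℕ) → Matrix (Fin (n i)) (Fin (n (i + 1))) R)
    (hA : ∀ i, i + 2 ≤ e → A i * A (i + 1) = 0)
    (hex : ∀ k, k < e → LinearMap.ker (A k).mulVecLin = Bsub e A (k + 1)) (k : ℕ) (hk : k < e) :
    (CAlgX.matrixRank (A k) : ℤ) = altSum e n (k + 1) ∧
      (CAlgX.detIdeal (A k) = ⊤ ∨
        ∃ rs : List R, rs.length = k + 1 ∧ (∀ r ∈ rs, r ∈ CAlgX.detIdeal (A k)) ∧
          RingTheory.Sequence.IsRegular R rs) := by
  obtain ⟨r, hr, h1, h2⟩ := rank_of_exact e n A hA hex k hk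
  have hrank : CAlgX.matrixRank (A k) = r := matrixRank_eq_of (A k) h1 h2
  have hdetI : CAlgX.detIdeal (A k) = CAlgX.minorIdeal (A k) r := by
    unfold CAlgX.detIdeal
    rw [hrank]
  refine ⟨by rw [hrank, hr], ?_⟩
  have hgrade := grade_of_exact e n A hA hex k hk r hr
  rw [← hdetI] at hgrade
  by_cases htop : CAlgX.detIdeal (A k) = ⊤
  · exact Or.inl htop
  · right
    have hne : CAlgX.detIdeal (A k) • (⊤ : Submodule R R) ≠ ⊤ := by
      rw [smul_eq_mul, Ideal.mul_top]
      exact htop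
    exact (natCast_le_idealDepth_iff hne (k + 1)).mp hgrade

/-- Let `R` be a Noetherian local ring and `0 → R^{n_e} → … → R^{n_1} → R^{n_0}` a complex of finite
free modules, the map `R^{n_{i+1}} → R^{n_i}` being given by the matrix `A i`. The complex is exact
at `R^{n_e}, …, R^{n_1}` if and only if for each `1 ≤ j ≤ e` the matrix of `R^{n_j} → R^{n_{j-1}}`
has rank `n_j - n_{j+1} + … ± n_e` and its ideal of minors of that size is the unit ideal or
contains a regular sequence of length `j`. -/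
theorem result {R : Type u} [CommRing R] [IsLocalRing R] [IsNoetherianRing R]
    (e : ℕ) (he : 1 ≤ e) (n : ℕ → ℕ) (A : (i : ℕ) → Matrix (Fin (n i)) (Fin (n (i + 1))) R)
    (hA : ∀ i, i + 2 ≤ e → A i * A (i + 1) = 0) :
    (LinearMap.ker (A (e - 1)).mulVecLin = ⊥ ∧
        ∀ i, i + 2 ≤ e → LinearMap.ker (A i).mulVecLin = LinearMap.range (A (i + 1)).mulVecLin) ↔
      ∀ j, 1 ≤ j → j ≤ e →
        (CAlgX.matrixRank (A (j - 1)) : ℤ) = ∑ t ∈ Finset.Icc j e, (-1 : ℤ) ^ (t - j) * (n t : ℤ) ∧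
          (CAlgX.detIdeal (A (j - 1)) = ⊤ ∨
            ∃ rs : List R, rs.length = j ∧ (∀ r ∈ rs, r ∈ CAlgX.detIdeal (A (j - 1))) ∧
              RingTheory.Sequence.IsRegular R rs) := by
  constructor
  · intro h j hj1 hje
    have hex := forall_ker_eq_Bsub_of_exact he A h
    obtain ⟨k, rfl⟩ : ∃ k, j = k + 1 := ⟨j - 1, by omega⟩
    exact necessity e n A hA hex k (by omega)
  · intro h
    apply exact_of_forall_ker_eq_Bsub he A
    exact global_exact (behyp_of e n A hA (fun j h1 h2 => (h j h1 h2).1)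
      (fun j h1 h2 => (h j h1 h2).2))

end Groth.Agent.S2065
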