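import Groth.Statements.S2069
import Mathlib

set_option autoImplicit false
universe u
open CAlg

namespace Groth.Agent.S2069

open TensorProduct

section L1
variable {R S N : Type u} [CommRing R] [CommRing S] [Algebra R S] [AddCommGroup N] [Module S N]
  [Module R N] [IsScalarTower R S N]

noncomputable def quotEquiv (p : Ideal R) :
    (N ⧸ p.map (algebraMap R S) • (⊤ : Submodule S N)) ≃ₗ[S] N ⊗[R] (R ⧸ p) :=
  (tensorQuotEquivQuotSMul N (p.map (algebraMap R S))).symm ≪≫ₗ
    (TensorProduct.congr (LinearEquiv.refl S N) (p.qoutMapEquivTensorQout S)) ≪≫ₗ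
    AlgebraTensorModule.cancelBaseChange R S S N (R ⧸ p)

end L1

theorem mem_range_lTensor_ker {R N X : Type u} [CommRing R] [AddCommGroup N] [Module R N]
    [Module.Flat R N] [AddCommGroup X] [Module R X] {n : ℕ} (a : Fin n → R) (w : N ⊗[R] X)
    (hw : ∀ i, a i • w = 0) :
    w ∈ LinearMap.range (LinearMap.lTensor N (LinearMap.ker (LinearMap.pi
      (fun i => a i • (LinearMap.id : X →ₗ[R] X)))).subtype) := by
  obtain ⟨g, hg⟩ : ∃ g : X →ₗ[R] (Fin n → X), g = LinearMap.pi
      (fun i => a i • (LinearMap.id : X →ₗ[R] X)) := ⟨_, rfl⟩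
  rw [← hg]
  have hex : Function.Exact (LinearMap.ker g).subtype g := LinearMap.exact_subtype_ker_map g
  have hex' := Module.Flat.lTensor_exact N hex
  refine (hex' w).mp ?_
  have key : ∀ (w : N ⊗[R] X) (i : Fin n),
      TensorProduct.piRight R R N (fun _ : Fin n => X) (LinearMap.lTensor N g w) i = a i • w := by
    intro w i
    induction w using TensorProduct.induction_on with
    | zero => simp
    | tmul x y =>
      rw [LinearMap.lTensor_tmul, TensorProduct.piRight_apply, TensorProduct.piRightHom_tmul, hg]
      simp [TensorProduct.tmul_smul]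
    | add x y hx hy => rw [map_add, map_add, Pi.add_apply, hx, hy, smul_add]
  apply (TensorProduct.piRight R R N (fun _ : Fin n => X)).injective
  rw [map_zero]
  funext i
  rw [key, hw]
  rfl


theorem assPrimes_tensor_subset (R S N : Type u) [CommRing R] [IsNoetherianRing R] [CommRing S]
    [Algebra R S] [AddCommGroup N] [Module S N] [Module R N] [IsScalarTower R S N] [Module.Flat R N]
    (X : Type u) [AddCommGroup X] [Module R X] [hX : Module.Finite R X] :
    ∀ q ∈ associatedPrimes S (N ⊗[R] X), ∃ p' : PrimeSpectrum R,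
      Module.annihilator R X ≤ p'.asIdeal ∧
        q ∈ associatedPrimes S (N ⊗[R] (R ⧸ p'.asIdeal)) := by
  induction hX using IsNoetherianRing.induction_on_isQuotientEquivQuotientPrime R with
  | subsingleton X =>
    intro q hq
    have : Subsingleton (N ⊗[R] X) := inferInstance
    rw [associatedPrimes.eq_empty_of_subsingleton] at hq
    exact absurd hq (Set.notMem_empty q)
  | quotient X p' e =>
    intro q hq
    refine ⟨p', ?_, ?_⟩
    · intro r hr
      rw [Module.mem_annihilator] at hr
      have h1 := hr (e.symm 1)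
      rw [← map_smul, LinearEquiv.map_eq_zero_iff] at h1
      have : (Ideal.Quotient.mk p'.asIdeal r) = 0 := by
        rw [← h1, Algebra.smul_def, mul_one]; rfl
      exact Ideal.Quotient.eq_zero_iff_mem.mp this
    · have e' : N ⊗[R] X ≃ₗ[S] N ⊗[R] (R ⧸ p'.asIdeal) :=
        AlgebraTensorModule.congr (LinearEquiv.refl S N) e
      rw [← LinearEquiv.AssociatedPrimes.eq e']
      exact hq
  | exact X1 X2 X3 f g hf hg hfg h1 h3 =>
    intro q hq
    have hinj : Function.Injective (AlgebraTensorModule.lTensor S N f) := by
      rw [AlgebraTensorModule.coe_lTensor]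
      exact Module.Flat.lTensor_preserves_injective_linearMap f hf
    have hex : Function.Exact (AlgebraTensorModule.lTensor S N f)
        (AlgebraTensorModule.lTensor S N g) := by
      rw [AlgebraTensorModule.coe_lTensor, AlgebraTensorModule.coe_lTensor]
      exact lTensor_exact N hfg hg
    rcases associatedPrimes.subset_union_of_exact hinj hex hq with h | h
    · obtain ⟨p', hp', hq'⟩ := h1 q h
      refine ⟨p', le_trans ?_ hp', hq'⟩
      intro r hr
      rw [Module.mem_annihilator] at hr ⊢
      intro x
      apply hf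
      rw [map_smul, hr, map_zero]
    · obtain ⟨p', hp', hq'⟩ := h3 q h
      refine ⟨p', le_trans ?_ hp', hq'⟩
      intro r hr
      rw [Module.mem_annihilator] at hr ⊢
      intro x
      obtain ⟨y, rfl⟩ := hg x
      rw [← map_smul, hr, map_zero]


theorem smul_eq_zero_of_annihilator {R N X : Type u} [CommRing R] [AddCommGroup N] [Module R N]
    [AddCommGroup X] [Module R X] (r : R) (hr : ∀ x : X, r • x = 0) (w : N ⊗[R] X) : r • w = 0 := by
  induction w using TensorProduct.induction_on with
  | zero => simp
  | tmul x y => rw [← TensorProduct.tmul_smul, hr, TensorProduct.tmul_zero]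
  | add x y hx hy => rw [smul_add, hx, hy, add_zero]


open TensorProduct in
/-- Let `R → S` be a ring map, `M` an `R`-module and `N` an `S`-module flat over `R`. Then a prime of
`S` is associated to `N ⊗_R M` if and only if it is associated to `N/𝔭N` for some prime `𝔭` of `R`
associated to `M`. -/
theorem result {R S M N : Type u} [CommRing R] [IsNoetherianRing R] [CommRing S]
    [Algebra R S] [AddCommGroup M] [Module R M] [AddCommGroup N] [Module S N] [Module R N]
    [IsScalarTower R S N] [Module.Flat R N] :
    associatedPrimes S (N ⊗[R] M) =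
      ⋃ p ∈ associatedPrimes R M, associatedPrimes S (N ⧸ p.map (algebraMap R S) • (⊤ : Submodule S N)) := by
  apply Set.Subset.antisymm
  · intro q hq
    obtain ⟨hqp, z, hz⟩ := hq
    obtain ⟨p, hpdef⟩ : ∃ p : Ideal R, p = q.comap (algebraMap R S) := ⟨_, rfl⟩
    have hpp : p.IsPrime := hpdef ▸ Ideal.comap_isPrime _ _
    obtain ⟨J, hJdef⟩ : ∃ J : Ideal R, J =
      ((⊥ : Submodule S (N ⊗[R] M)).colon {z}).comap (algebraMap R S) := ⟨_, rfl⟩
    have hJ : ∀ r : R, r ∈ J ↔ r • z = 0 := by
      intro r
      rw [hJdef, Ideal.mem_comap, Submodule.mem_colon_singleton, Submodule.mem_bot, algebraMap_smul]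
    have hpJ : p = J.radical := by
      rw [hpdef, hJdef, hz, Ideal.comap_radical]
    obtain ⟨K, hK⟩ := Ideal.exists_pow_le_of_le_radical_of_fg (le_of_eq hpJ)
      (IsNoetherian.noetherian p)
    obtain ⟨n, a, ha⟩ := Submodule.fg_iff_exists_fin_generating_family.mp
      (IsNoetherian.noetherian (p ^ K))
    have haz : ∀ i, a i • z = 0 := fun i =>
      (hJ _).mp (hK (ha ▸ Submodule.subset_span ⟨i, rfl⟩))
    obtain ⟨X, hXdef⟩ : ∃ X : Submodule R M, X = LinearMap.ker (LinearMap.pi
      (fun i => a i • (LinearMap.id : M →ₗ[R] M))) := ⟨_, rfl⟩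
    have hmem : z ∈ LinearMap.range (LinearMap.lTensor N X.subtype) := by
      rw [hXdef]; exact mem_range_lTensor_ker a z haz
    obtain ⟨w₀, hw₀⟩ := hmem
    have hXkill : ∀ b ∈ p ^ K, ∀ x : X, b • (x : M) = 0 := by
      intro b hb x
      rw [← ha] at hb
      induction hb using Submodule.span_induction with
      | mem b hb =>
        obtain ⟨i, rfl⟩ := hb
        have hx : (x : M) ∈ LinearMap.ker (LinearMap.pi
            (fun i => a i • (LinearMap.id : M →ₗ[R] M))) := hXdef ▸ x.2
        rw [LinearMap.mem_ker] at hx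
        have := congrFun hx i
        simpa using this
      | zero => simp
      | add b c _ _ hb hc => rw [add_smul, hb, hc, add_zero]
      | smul r b _ hb => rw [smul_eq_mul, mul_smul, hb, smul_zero]
    obtain ⟨X', hX'fin, hX'⟩ := TensorProduct.exists_finite_submodule_right_of_setFinite
      ({w₀} : Set (N ⊗[R] X)) (Set.finite_singleton w₀)
    obtain ⟨w₁, hw₁⟩ := hX' (Set.mem_singleton w₀)
    obtain ⟨ι, hιdef⟩ : ∃ ι : X' →ₗ[R] M, ι = X.subtype ∘ₗ X'.subtype := ⟨_, rfl⟩
    have hιinj : Function.Injective ι := by
      rw [hιdef]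
      exact (Submodule.injective_subtype X).comp (Submodule.injective_subtype X')
    have hFinj : Function.Injective (AlgebraTensorModule.lTensor S N ι) := by
      rw [AlgebraTensorModule.coe_lTensor]
      exact Module.Flat.lTensor_preserves_injective_linearMap ι hιinj
    have hFw : AlgebraTensorModule.lTensor S N ι w₁ = z := by
      change LinearMap.lTensor N ι w₁ = z
      rw [hιdef, LinearMap.lTensor_comp, LinearMap.comp_apply, hw₁, hw₀]
    have hcolon : (⊥ : Submodule S (N ⊗[R] X')).colon {w₁} =
        (⊥ : Submodule S (N ⊗[R] M)).colon {z} := by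
      ext s
      rw [Submodule.mem_colon_singleton, Submodule.mem_colon_singleton, Submodule.mem_bot,
        Submodule.mem_bot, ← hFw, ← map_smul]
      exact (map_eq_zero_iff _ hFinj).symm
    have hqX' : q ∈ associatedPrimes S (N ⊗[R] X') := ⟨hqp, w₁, by rw [hcolon]; exact hz⟩
    obtain ⟨p', hp'ann, hqp'⟩ := assPrimes_tensor_subset R S N X' q hqX'
    have hKann : p ^ K ≤ Module.annihilator R X' := by
      intro b hb
      rw [Module.mem_annihilator]
      intro x
      apply Subtype.ext
      apply Subtype.ext
      exact hXkill b hb x.1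
    have hpp' : p ≤ p'.asIdeal :=
      Ideal.IsPrime.le_of_pow_le (hP := p'.isPrime) (hKann.trans hp'ann)
    have hp'p : p'.asIdeal ≤ p := by
      obtain ⟨_, w', hw'⟩ := hqp'
      intro r hr
      rw [hpdef, Ideal.mem_comap, hw']
      apply Ideal.le_radical
      rw [Submodule.mem_colon_singleton, Submodule.mem_bot, algebraMap_smul]
      refine smul_eq_zero_of_annihilator r ?_ w'
      intro x
      obtain ⟨x, rfl⟩ := Ideal.Quotient.mk_surjective x
      rw [Algebra.smul_def]
      change Ideal.Quotient.mk _ r * _ = 0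
      rw [Ideal.Quotient.eq_zero_iff_mem.mpr hr, zero_mul]
    have hpeq : p'.asIdeal = p := le_antisymm hp'p hpp'
    rw [hpeq] at hqp'
    have hannp : Module.annihilator R X' ≤ p := by
      intro r hr
      rw [Module.mem_annihilator] at hr
      have h0 : r • w₁ = 0 := smul_eq_zero_of_annihilator r hr w₁
      have : algebraMap R S r ∈ q := by
        rw [hz, ← hcolon]
        apply Ideal.le_radical
        rw [Submodule.mem_colon_singleton, Submodule.mem_bot, algebraMap_smul]
        exact h0
      rw [hpdef]
      exact this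
    have hpmin : p ∈ (Module.annihilator R X').minimalPrimes := by
      refine ⟨⟨hpp, hannp⟩, ?_⟩
      rintro p'' ⟨hp''prime, hp''le⟩ _
      exact Ideal.IsPrime.le_of_pow_le (hP := hp''prime) (hKann.trans hp''le)
    have hpX' : p ∈ associatedPrimes R X' :=
      Module.associatedPrimes.minimalPrimes_annihilator_subset_associatedPrimes R X' hpmin
    have hpM : p ∈ associatedPrimes R M := associatedPrimes.subset_of_injective hιinj hpX'
    simp only [Set.mem_iUnion]
    refine ⟨p, hpM, ?_⟩
    rw [LinearEquiv.AssociatedPrimes.eq (quotEquiv (S := S) (N := N) p)]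
    exact hqp'
  · intro q hq
    simp only [Set.mem_iUnion] at hq
    obtain ⟨p, hp, hq⟩ := hq
    obtain ⟨hpp, j, hj⟩ := (isAssociatedPrime_iff_exists_injective_linearMap p M).mp hp
    have hinj : Function.Injective (AlgebraTensorModule.lTensor S N j) := by
      rw [AlgebraTensorModule.coe_lTensor]
      exact Module.Flat.lTensor_preserves_injective_linearMap j hj
    rw [LinearEquiv.AssociatedPrimes.eq (quotEquiv (S := S) (N := N) p)] at hq
    exact associatedPrimes.subset_of_injective hinj hq

end Groth.Agent.S2069
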