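import Groth.Statements.S2071
import Mathlib

set_option autoImplicit false
universe u
open CAlg

namespace Groth.Agent.S2071

open Polynomial

/-- roots of unity are algebraic over the prime field -/
theorem isAlg_of_pow_eq_one {Ω : Type u} [Field Ω] (z : Ω) (n : ℕ) (hn : 0 < n) (h : z ^ n = 1) :
    IsAlgebraic (⊥ : Subfield Ω) z := by
  apply IsAlgebraic.of_pow hn
  rw [h]
  exact isAlgebraic_one

theorem C1 {Ω : Type u} [Field Ω] (α β : Ω) (hne : α ≠ β) (h0 : α ≠ 0) (h1 : α + 1 ≠ 0)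
    (n m : ℕ) (hn : 0 < n) (hm : 0 < m) (hβn : β ^ n = α ^ n) (hβm : (β + 1) ^ m = (α + 1) ^ m) :
    IsAlgebraic (⊥ : Subfield Ω) α := by
  have hζ : IsAlgebraic (⊥ : Subfield Ω) (β / α) :=
    isAlg_of_pow_eq_one _ n hn (by rw [div_pow, hβn, div_self (pow_ne_zero _ h0)])
  have hμ : IsAlgebraic (⊥ : Subfield Ω) ((β + 1) / (α + 1)) :=
    isAlg_of_pow_eq_one _ m hm (by rw [div_pow, hβm, div_self (pow_ne_zero _ h1)])
  have hμζ : (β + 1) / (α + 1) - β / α ≠ 0 := by
    intro h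
    apply hne
    have h' : (β + 1) / (α + 1) = β / α := sub_eq_zero.mp h
    rw [div_eq_div_iff h1 h0] at h'
    have : α = β := by linear_combination h'
    exact this
  have hα : α = (1 - (β + 1) / (α + 1)) / ((β + 1) / (α + 1) - β / α) := by
    rw [eq_div_iff hμζ]
    field_simp
    ring
  rw [hα, div_eq_mul_inv]
  exact ((isAlgebraic_one.sub hμ).mul (hμ.sub hζ).inv)


open IntermediateField in
theorem C2 {Ω : Type u} [Field Ω] [CharZero Ω] (α β : Ω) (hne : α ≠ β)
    (hα : IsIntegral ℚ α) (hβ : IsIntegral ℚ β)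
    (h : ∀ m : ℕ, α + m ≠ 0 ∧ ∃ n : ℕ, 0 < n ∧ (β + m) ^ n = (α + m) ^ n) : False := by
  have hfd : FiniteDimensional ℚ ℚ⟮α, β⟯ := finiteDimensional_adjoin_pair hα hβ
  have hnf : NumberField ℚ⟮α, β⟯ := ⟨⟩
  have hαmem : α ∈ ℚ⟮α, β⟯ := subset_adjoin ℚ _ (by simp)
  have hβmem : β ∈ ℚ⟮α, β⟯ := subset_adjoin ℚ _ (by simp)
  obtain ⟨αL, hαL⟩ : ∃ αL : ℚ⟮α, β⟯, (αL : Ω) = α := ⟨⟨α, hαmem⟩, rfl⟩
  obtain ⟨βL, hβL⟩ : ∃ βL : ℚ⟮α, β⟯, (βL : Ω) = β := ⟨⟨β, hβmem⟩, rfl⟩
  have hden : ∀ m : ℕ, αL + (m : ℚ⟮α, β⟯) ≠ 0 := by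
    intro m h0
    apply (h m).1
    have := congrArg (fun x : ℚ⟮α, β⟯ => (x : Ω)) h0
    simpa [hαL] using this
  have hz : ∀ m : ℕ, ∃ n : ℕ, 0 < n ∧ ((βL + (m : ℚ⟮α, β⟯)) / (αL + (m : ℚ⟮α, β⟯))) ^ n = 1 := by
    intro m
    obtain ⟨n, hn, hpow⟩ := (h m).2
    refine ⟨n, hn, ?_⟩
    have : (βL + (m : ℚ⟮α, β⟯)) ^ n = (αL + (m : ℚ⟮α, β⟯)) ^ n := by
      apply Subtype.ext
      push_cast
      rw [hαL, hβL]
      exact hpow
    rw [div_pow, this, div_self (pow_ne_zero _ (hden m))]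
  have hfin := NumberField.Embeddings.finite_of_norm_le ℚ⟮α, β⟯ ℂ 1
  have hmem : ∀ m : ℕ, ((βL + (m : ℚ⟮α, β⟯)) / (αL + (m : ℚ⟮α, β⟯))) ∈
      {x : ℚ⟮α, β⟯ | IsIntegral ℤ x ∧ ∀ φ : ℚ⟮α, β⟯ →+* ℂ, ‖φ x‖ ≤ 1} := by
    intro m
    obtain ⟨n, hn, hpow⟩ := hz m
    refine ⟨IsIntegral.of_pow hn (hpow ▸ isIntegral_one), fun φ => ?_⟩
    have : ‖φ ((βL + (m : ℚ⟮α, β⟯)) / (αL + (m : ℚ⟮α, β⟯)))‖ ^ n = 1 := by
      rw [← norm_pow, ← map_pow, hpow, map_one, norm_one]
    exact le_of_eq ((pow_eq_one_iff_of_nonneg (norm_nonneg _) hn.ne').mp this)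
  have : Finite {x : ℚ⟮α, β⟯ | IsIntegral ℤ x ∧ ∀ φ : ℚ⟮α, β⟯ →+* ℂ, ‖φ x‖ ≤ 1} := hfin.to_subtype
  obtain ⟨m, m', hmm', heq⟩ := Finite.exists_ne_map_eq_of_infinite
    (fun m : ℕ => (⟨_, hmem m⟩ : {x : ℚ⟮α, β⟯ | IsIntegral ℤ x ∧ ∀ φ : ℚ⟮α, β⟯ →+* ℂ, ‖φ x‖ ≤ 1}))
  have heq' : (βL + (m : ℚ⟮α, β⟯)) / (αL + (m : ℚ⟮α, β⟯)) =
      (βL + (m' : ℚ⟮α, β⟯)) / (αL + (m' : ℚ⟮α, β⟯)) := congrArg Subtype.val heq
  rw [div_eq_div_iff (hden m) (hden m')] at heq'
  have hcast : ((m : ℚ⟮α, β⟯)) - (m' : ℚ⟮α, β⟯) ≠ 0 := by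
    rw [sub_ne_zero]
    exact fun h => hmm' (Nat.cast_injective h)
  have hαβ : αL = βL := by
    have : (αL - βL) * ((m : ℚ⟮α, β⟯) - (m' : ℚ⟮α, β⟯)) = 0 := by linear_combination heq'
    rcases mul_eq_zero.mp this with h | h
    · exact sub_eq_zero.mp h
    · exact absurd h hcast
  apply hne
  calc α = (αL : Ω) := hαL.symm
    _ = (βL : Ω) := congrArg Subtype.val hαβ
    _ = β := hβL


theorem C3 {K Ω : Type u} [Field K] [Field Ω] (ι : K →+* Ω) (z : K)
    (h : IsAlgebraic (⊥ : Subfield Ω) (ι z)) : IsAlgebraic (⊥ : Subfield K) z := by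
  have hmem : ∀ x : (⊥ : Subfield K), ι x ∈ (⊥ : Subfield Ω) := by
    intro x
    rw [← Subfield.map_bot ι]
    exact Subfield.mem_map.mpr ⟨x, x.2, rfl⟩
  let f : (⊥ : Subfield K) →+* (⊥ : Subfield Ω) :=
    RingHom.codRestrict (ι.comp (⊥ : Subfield K).subtype) (⊥ : Subfield Ω) hmem
  have hf : Function.Surjective f := by
    rintro ⟨y, hy⟩
    rw [← Subfield.map_bot ι] at hy
    obtain ⟨x, hx, rfl⟩ := Subfield.mem_map.mp hy
    exact ⟨⟨x, hx⟩, rfl⟩
  exact IsAlgebraic.of_ringHom_of_comp_eq f ι h hf ι.injective (RingHom.ext fun x => rfl)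


theorem C4 {Ω : Type u} [Field Ω] [CharZero Ω] (x : Ω)
    (h : IsAlgebraic (⊥ : Subfield Ω) x) : IsIntegral ℚ x := by
  have hmem : ∀ q : ℚ, algebraMap ℚ Ω q ∈ (⊥ : Subfield Ω) := by
    intro q
    rw [Subfield.bot_eq_of_charZero]
    exact ⟨q, rfl⟩
  let f : ℚ →+* (⊥ : Subfield Ω) := RingHom.codRestrict (algebraMap ℚ Ω) (⊥ : Subfield Ω) hmem
  have hf : Function.Surjective f := by
    rintro ⟨y, hy⟩
    rw [Subfield.bot_eq_of_charZero] at hy
    obtain ⟨q, rfl⟩ := hy
    exact ⟨q, rfl⟩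
  have : IsAlgebraic ℚ x :=
    IsAlgebraic.of_ringHom_of_comp_eq f (RingHom.id Ω) h hf Function.injective_id
      (RingHom.ext fun q => rfl)
  exact this.isIntegral

/-- existence of a nontrivial conjugate of a separable non-rational element -/
theorem F1 {k k' : Type u} [Field k] [Field k'] [Algebra k k'] [Algebra.IsIntegral k k']
    (a : k') (hsep : IsSeparable k a) (ha : a ∉ (algebraMap k k').range) :
    ∃ σ : k' →ₐ[k] AlgebraicClosure k', σ a ≠ algebraMap k' (AlgebraicClosure k') a := by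
  have hint : IsIntegral k a := Algebra.IsIntegral.isIntegral a
  have hdeg : 1 < (minpoly k a).natDegree := by
    have h0 : 0 < (minpoly k a).natDegree := minpoly.natDegree_pos hint
    have h1 : (minpoly k a).natDegree ≠ 1 := fun h => ha (minpoly.natDegree_eq_one_iff.mp h)
    omega
  have hsplit : ((minpoly k a).map (algebraMap k (AlgebraicClosure k'))).Splits :=
    IsAlgClosed.splits _
  have hcard := Polynomial.card_rootSet_eq_natDegree (K := AlgebraicClosure k') hsep hsplit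
  have hroot : algebraMap k' (AlgebraicClosure k') a ∈ (minpoly k a).rootSet (AlgebraicClosure k') := by
    rw [Polynomial.mem_rootSet]
    refine ⟨minpoly.ne_zero hint, ?_⟩
    rw [Polynomial.aeval_algebraMap_apply, minpoly.aeval, map_zero]
  obtain ⟨⟨b, hb⟩, hbne⟩ := Fintype.exists_ne_of_one_lt_card (hcard ▸ hdeg)
    (⟨_, hroot⟩ : (minpoly k a).rootSet (AlgebraicClosure k'))
  have hb' : aeval b (minpoly k a) = 0 := (Polynomial.mem_rootSet.mp hb).2
  obtain ⟨σ, hσ⟩ := IntermediateField.exists_algHom_of_splits_of_aeval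
    (F := k) (E := k') (K := AlgebraicClosure k')
    (fun s => ⟨Algebra.IsIntegral.isIntegral s, IsAlgClosed.splits _⟩) hb'
  refine ⟨σ, ?_⟩
  rw [hσ]
  intro h
  exact hbne (Subtype.ext h)


theorem forward_sep {k k' : Type u} [Field k] [Field k'] [Algebra k k']
    (H : ∀ x : k', ∃ n : ℕ, 0 < n ∧ x ^ n ∈ Set.range (algebraMap k k'))
    (a : k') (hsep : IsSeparable k a) (ha : a ∉ (algebraMap k k').range) :
    ∃ p : ℕ, p.Prime ∧ CharP k' p ∧ Algebra.IsAlgebraic (⊥ : Subfield k') k' := by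
  have halgk : ∀ x : k', IsIntegral k x := by
    intro x
    obtain ⟨n, hn, c, hc⟩ := H x
    exact IsIntegral.of_pow hn (hc ▸ isIntegral_algebraMap)
  have : Algebra.IsIntegral k k' := ⟨halgk⟩
  obtain ⟨σ, hσ⟩ := F1 a hsep ha
  let ι : k' →ₐ[k] AlgebraicClosure k' := IsScalarTower.toAlgHom k k' (AlgebraicClosure k')
  have hι : ∀ z, ι z = algebraMap k' (AlgebraicClosure k') z := fun z => rfl
  have key : ∀ z : k', ∃ n : ℕ, 0 < n ∧ σ z ^ n = ι z ^ n := by
    intro z
    obtain ⟨n, hn, c, hc⟩ := H z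
    refine ⟨n, hn, ?_⟩
    rw [← map_pow, ← map_pow, ← hc, AlgHom.commutes, AlgHom.commutes]
  have G1 : ∀ z : k', σ z ≠ ι z → IsAlgebraic (⊥ : Subfield (AlgebraicClosure k')) (ι z) := by
    intro z hz
    obtain ⟨n, hn, h1⟩ := key z
    obtain ⟨m, hm, h2⟩ := key (z + 1)
    rw [map_add, map_add, map_one, map_one] at h2
    refine C1 (ι z) (σ z) (Ne.symm hz) ?_ ?_ n m hn hm h1 h2
    · intro h0
      have : z = 0 := by
        apply ι.toRingHom.injective
        rw [map_zero]; exact h0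
      apply hz
      rw [this, map_zero, map_zero]
    · intro h0
      have : z = -1 := by
        apply ι.toRingHom.injective
        rw [map_neg, map_one]
        exact eq_neg_of_add_eq_zero_left h0
      apply hz
      rw [this, map_neg, map_neg, map_one, map_one]
  have hσa : σ a ≠ ι a := hσ
  have G2 : ∀ c : k, IsAlgebraic (⊥ : Subfield (AlgebraicClosure k'))
      (algebraMap k (AlgebraicClosure k') c) := by
    intro c
    have h1 := G1 a hσa
    have h2 : σ (a + algebraMap k k' c) ≠ ι (a + algebraMap k k' c) := by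
      rw [map_add, map_add, AlgHom.commutes, AlgHom.commutes]
      intro h
      exact hσa (add_right_cancel h)
    have h3 := G1 _ h2
    have : algebraMap k (AlgebraicClosure k') c = ι (a + algebraMap k k' c) - ι a := by
      rw [map_add, AlgHom.commutes]; ring
    rw [this]
    exact h3.sub h1
  have G3 : ∀ z : k', IsAlgebraic (⊥ : Subfield (AlgebraicClosure k')) (ι z) := by
    intro z
    obtain ⟨n, hn, c, hc⟩ := H z
    apply IsAlgebraic.of_pow hn
    rw [← map_pow, ← hc, AlgHom.commutes]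
    exact G2 c
  have G4 : Algebra.IsAlgebraic (⊥ : Subfield k') k' :=
    ⟨fun z => C3 ι.toRingHom z (G3 z)⟩
  obtain ⟨p, hp⟩ := CharP.exists k'
  rcases CharP.char_is_prime_or_zero k' p with hpp | rfl
  · exact ⟨p, hpp, hp, G4⟩
  · exfalso
    have : CharZero k' := CharP.charP_to_charZero k'
    have : CharZero (AlgebraicClosure k') :=
      charZero_of_injective_algebraMap (algebraMap k' (AlgebraicClosure k')).injective
    have hβalg : IsAlgebraic (⊥ : Subfield (AlgebraicClosure k')) (σ a) := by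
      obtain ⟨n, hn, h1⟩ := key a
      apply IsAlgebraic.of_pow hn
      rw [h1]
      exact (G3 a).pow n
    refine C2 (ι a) (σ a) (Ne.symm hσa) (C4 _ (G3 a)) (C4 _ hβalg) (fun m => ⟨?_, ?_⟩)
    · intro h0
      apply ha
      have : a = -(m : k') := by
        apply ι.toRingHom.injective
        rw [map_neg, map_natCast]
        exact eq_neg_of_add_eq_zero_left h0
      rw [this]
      exact ⟨-(m : k), by simp⟩
    · obtain ⟨n, hn, h1⟩ := key (a + m)
      rw [map_add, map_add, map_natCast, map_natCast] at h1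
      exact ⟨n, hn, h1⟩

theorem forward {k k' : Type u} [Field k] [Field k'] [Algebra k k']
    (H : ∀ x : k', ∃ n : ℕ, 0 < n ∧ x ^ n ∈ Set.range (algebraMap k k')) :
    Function.Surjective (algebraMap k k') ∨
        ∃ p : ℕ, p.Prime ∧ CharP k' p ∧
          (IsPurelyInseparable k k' ∨ Algebra.IsAlgebraic (⊥ : Subfield k') k') := by
  by_cases hs : Function.Surjective (algebraMap k k')
  · exact Or.inl hs
  right
  have halgk : ∀ x : k', IsIntegral k x := by
    intro x
    obtain ⟨n, hn, c, hc⟩ := H x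
    exact IsIntegral.of_pow hn (hc ▸ isIntegral_algebraMap)
  by_cases hA : ∀ x : k', IsSeparable k x → x ∈ (algebraMap k k').range
  · have hpi : IsPurelyInseparable k k' :=
      (isPurelyInseparable_iff).mpr fun x => ⟨halgk x, hA x⟩
    obtain ⟨q, hq⟩ := ExpChar.exists k
    cases hq with
    | zero =>
      exfalso
      apply hs
      intro x
      have : IsSeparable k x := (minpoly.irreducible (halgk x)).separable
      exact hA x this
    | prime hp =>
      have : CharP k' q := charP_of_injective_algebraMap (algebraMap k k').injective q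
      exact ⟨q, hp, this, Or.inl hpi⟩
  · push Not at hA
    obtain ⟨a, hsep, ha⟩ := hA
    obtain ⟨p, hp, hchar, halg⟩ := forward_sep H a hsep ha
    exact ⟨p, hp, hchar, Or.inr halg⟩


theorem backward_alg {k' : Type u} [Field k'] (p : ℕ) (hp : p.Prime) [CharP k' p]
    [Algebra.IsAlgebraic (⊥ : Subfield k') k'] (x : k') (hx : x ≠ 0) :
    ∃ n : ℕ, 0 < n ∧ x ^ n = 1 := by
  haveI : Fact p.Prime := ⟨hp⟩
  letI : Algebra (ZMod p) k' := ZMod.algebra k' p
  have hfinP : Finite (⊥ : Subfield k') := by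
    have hset : ((⊥ : Subfield k') : Set k').Finite := by
      rw [Subfield.bot_eq_of_zMod_algebra p, RingHom.coe_fieldRange]
      exact Set.finite_range _
    exact hset.to_subtype
  have hint : IsIntegral (⊥ : Subfield k') x := (Algebra.IsAlgebraic.isAlgebraic x).isIntegral
  haveI : FiniteDimensional (⊥ : Subfield k') (IntermediateField.adjoin (⊥ : Subfield k') {x}) :=
    IntermediateField.adjoin.finiteDimensional hint
  haveI : Finite (IntermediateField.adjoin (⊥ : Subfield k') {x}) :=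
    Module.finite_of_finite (⊥ : Subfield k')
  have hxmem : x ∈ IntermediateField.adjoin (⊥ : Subfield k') {x} :=
    IntermediateField.mem_adjoin_simple_self _ x
  have hx' : (⟨x, hxmem⟩ : IntermediateField.adjoin (⊥ : Subfield k') {x}) ≠ 0 := by
    intro h
    exact hx (congrArg Subtype.val h)
  obtain ⟨n, hn, hpow⟩ := (isOfFinOrder_of_finite (Units.mk0 _ hx')).exists_pow_eq_one
  refine ⟨n, hn, ?_⟩
  have := congrArg (fun u : (IntermediateField.adjoin (⊥ : Subfield k') {x})ˣ =>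
    ((u : IntermediateField.adjoin (⊥ : Subfield k') {x}) : k')) hpow
  simpa using this


/-- For a field extension `k'/k`, every element of `k'` has a positive power in `k` if and only if
either `k' = k`, or the characteristic is a prime `p` and either `k'/k` is purely inseparable or
`k'` is algebraic over its prime field. -/
theorem result {k k' : Type u} [Field k] [Field k'] [Algebra k k'] :
    (∀ x : k', ∃ n : ℕ, 0 < n ∧ x ^ n ∈ Set.range (algebraMap k k')) ↔
      Function.Surjective (algebraMap k k') ∨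
        ∃ p : ℕ, p.Prime ∧ CharP k' p ∧
          (IsPurelyInseparable k k' ∨ Algebra.IsAlgebraic (⊥ : Subfield k') k') := by
  constructor
  · exact forward
  · rintro (hs | ⟨p, hp, hchar, hpi | halg⟩) x
    · obtain ⟨y, rfl⟩ := hs x
      exact ⟨1, one_pos, y, by simp⟩
    · haveI : CharP k p := (RingHom.charP_iff (algebraMap k k') (algebraMap k k').injective p).mpr hchar
      haveI : ExpChar k p := ExpChar.prime hp
      obtain ⟨n, hn⟩ := IsPurelyInseparable.pow_mem k p x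
      exact ⟨p ^ n, pow_pos hp.pos n, hn⟩
    · by_cases hx : x = 0
      · exact ⟨1, one_pos, 0, by simp [hx]⟩
      · obtain ⟨n, hn, hpow⟩ := backward_alg p hp x hx
        exact ⟨n, hn, 1, by simp [hpow]⟩

end Groth.Agent.S2071
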