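import Groth.Statements.S2073
import Mathlib

set_option autoImplicit false
universe u
open CAlg

namespace Groth.Agent.S2073

open TensorProduct

/-- abstract descent of integrality with denominators -/
theorem exists_isIntegral_smul {A A' S T : Type*} [CommRing A] [CommRing A'] [CommRing S] [CommRing T]
    (M : Submonoid A) [Algebra A A'] [IsLocalization M A'] [Algebra A S] [Algebra S T] [Algebra A' T]
    [Algebra A T] [IsScalarTower A A' T] [IsScalarTower A S T]
    [IsLocalization (Algebra.algebraMapSubmonoid S M) T] (x : S)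
    (hx : IsIntegral A' (algebraMap S T x)) : ∃ m ∈ M, IsIntegral A (m • x) := by
  obtain ⟨m₁, h₁⟩ := IsIntegral.exists_multiple_integral_of_isLocalization M (algebraMap S T x) hx
  have e : m₁ • algebraMap S T x = algebraMap S T ((m₁ : A) • x) := by
    rw [Submonoid.smul_def, Algebra.smul_def, Algebra.smul_def, map_mul,
      ← IsScalarTower.algebraMap_apply]
  rw [e] at h₁
  obtain ⟨m₂, hm₂, h₂⟩ := IsLocalization.exists_isIntegral_smul_of_isIntegral_map (Sₘ := T) M h₁
  exact ⟨m₂ * m₁, M.mul_mem hm₂ m₁.2, by rwa [mul_smul]⟩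

section
variable {R S : Type u} [CommRing R] [IsDomain R] [CommRing S] [Algebra R S]

attribute [local instance] Algebra.TensorProduct.rightAlgebra
attribute [local instance] MvPolynomial.algebraMvPolynomial

theorem nontrivial_T (hinj : Function.Injective (algebraMap R S)) :
    Nontrivial (FractionRing R ⊗[R] S) := by
  have h0 : (0 : S) ∉ Algebra.algebraMapSubmonoid S (nonZeroDivisors R) := by
    rintro ⟨r, hr, h⟩
    have : r = 0 := hinj (by simpa using h)
    exact nonZeroDivisors.ne_zero hr this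
  refine ⟨⟨1, 0, fun h => ?_⟩⟩
  obtain ⟨m, hm⟩ := (IsLocalization.map_eq_zero_iff (Algebra.algebraMapSubmonoid S (nonZeroDivisors R))
    (FractionRing R ⊗[R] S) (1 : S)).mp (by rw [map_one]; exact h)
  have hm2 := m.2
  rw [← mul_one (m : S), hm] at hm2
  exact h0 hm2

theorem lemmaB {d : ℕ} (φ : MvPolynomial (Fin d) R →ₐ[R] S)
    (g' : MvPolynomial (Fin d) (FractionRing R) →ₐ[FractionRing R] (FractionRing R ⊗[R] S))
    (hc : ∀ p, algebraMap S (FractionRing R ⊗[R] S) (φ p) =
      g' (MvPolynomial.map (algebraMap R (FractionRing R)) p))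
    (x : S) (hx : g'.toRingHom.IsIntegralElem (algebraMap S (FractionRing R ⊗[R] S) x)) :
    ∃ c ∈ nonZeroDivisors R, φ.toRingHom.IsIntegralElem (c • x) := by
  let i1 : Algebra (MvPolynomial (Fin d) R) S := φ.toRingHom.toAlgebra
  let i2 : Algebra (MvPolynomial (Fin d) (FractionRing R)) (FractionRing R ⊗[R] S) :=
    g'.toRingHom.toAlgebra
  let i3 : Algebra (MvPolynomial (Fin d) R) (FractionRing R ⊗[R] S) :=
    ((algebraMap S (FractionRing R ⊗[R] S)).comp φ.toRingHom).toAlgebra
  have t1 : IsScalarTower (MvPolynomial (Fin d) R) S (FractionRing R ⊗[R] S) :=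
    IsScalarTower.of_algebraMap_eq' rfl
  have t2 : IsScalarTower (MvPolynomial (Fin d) R) (MvPolynomial (Fin d) (FractionRing R))
      (FractionRing R ⊗[R] S) :=
    IsScalarTower.of_algebraMap_eq' (RingHom.ext fun p => hc p)
  have hM : Algebra.algebraMapSubmonoid S ((nonZeroDivisors R).map (MvPolynomial.C (σ := Fin d))) =
      Algebra.algebraMapSubmonoid S (nonZeroDivisors R) := by
    ext s
    simp only [Algebra.algebraMapSubmonoid, Submonoid.mem_map]
    constructor
    · rintro ⟨_, ⟨r, hr, rfl⟩, rfl⟩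
      exact ⟨r, hr, by
        change _ = φ (MvPolynomial.C r)
        rw [← MvPolynomial.algebraMap_eq, φ.commutes]⟩
    · rintro ⟨r, hr, rfl⟩
      exact ⟨_, ⟨r, hr, rfl⟩, by
        change φ (MvPolynomial.C r) = _
        rw [← MvPolynomial.algebraMap_eq, φ.commutes]⟩
  have l1 : IsLocalization (Algebra.algebraMapSubmonoid S
      ((nonZeroDivisors R).map (MvPolynomial.C (σ := Fin d)))) (FractionRing R ⊗[R] S) := by
    rw [hM]; infer_instance
  have hx' : IsIntegral (MvPolynomial (Fin d) (FractionRing R))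
      (algebraMap S (FractionRing R ⊗[R] S) x) := hx
  obtain ⟨m, ⟨c, hc0, rfl⟩, hm⟩ := exists_isIntegral_smul (A' := MvPolynomial (Fin d) (FractionRing R))
    (T := FractionRing R ⊗[R] S) ((nonZeroDivisors R).map (MvPolynomial.C (σ := Fin d))) x hx'
  refine ⟨c, hc0, ?_⟩
  have e : (MvPolynomial.C c : MvPolynomial (Fin d) R) • x = c • x := by
    rw [Algebra.smul_def, Algebra.smul_def]
    change φ (MvPolynomial.C c) * x = _
    rw [← MvPolynomial.algebraMap_eq, φ.commutes]
  rw [← e]
  exact hm

theorem rescale_comp {K : Type*} [Field K] {d : ℕ} (a b : Fin d → K) (hab : ∀ i, a i * b i = 1)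
    (p : MvPolynomial (Fin d) K) :
    (MvPolynomial.aeval (R := K) (fun i => MvPolynomial.C (a i) * MvPolynomial.X i) :
      MvPolynomial (Fin d) K →ₐ[K] MvPolynomial (Fin d) K)
      ((MvPolynomial.aeval (R := K) (fun i => MvPolynomial.C (b i) * MvPolynomial.X i) :
      MvPolynomial (Fin d) K →ₐ[K] MvPolynomial (Fin d) K) p) = p := by
  have : ((MvPolynomial.aeval (R := K) (fun i => MvPolynomial.C (a i) * MvPolynomial.X i) :
      MvPolynomial (Fin d) K →ₐ[K] MvPolynomial (Fin d) K).comp
      (MvPolynomial.aeval (R := K) (fun i => MvPolynomial.C (b i) * MvPolynomial.X i) :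
      MvPolynomial (Fin d) K →ₐ[K] MvPolynomial (Fin d) K)) = AlgHom.id K _ := by
    apply MvPolynomial.algHom_ext
    intro i
    simp only [AlgHom.comp_apply, MvPolynomial.aeval_X, map_mul, MvPolynomial.aeval_C,
      AlgHom.id_apply, MvPolynomial.algebraMap_eq]
    rw [← mul_assoc, ← MvPolynomial.C_mul, mul_comm (b i), hab i, MvPolynomial.C_1, one_mul]
  exact congrArg (fun h => h p) this

theorem rescale_bijective {K : Type*} [Field K] {d : ℕ} (c : Fin d → K) (hc : ∀ i, c i ≠ 0) :
    Function.Bijective (MvPolynomial.aeval (R := K) (fun i => MvPolynomial.C (c i) * MvPolynomial.X i) :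
      MvPolynomial (Fin d) K →ₐ[K] MvPolynomial (Fin d) K) := by
  rw [Function.bijective_iff_has_inverse]
  refine ⟨(MvPolynomial.aeval (R := K) (fun i => MvPolynomial.C (c i)⁻¹ * MvPolynomial.X i) :
      MvPolynomial (Fin d) K →ₐ[K] MvPolynomial (Fin d) K), ?_, ?_⟩
  · intro p
    exact rescale_comp _ _ (fun i => inv_mul_cancel₀ (hc i)) p
  · intro p
    exact rescale_comp _ _ (fun i => mul_inv_cancel₀ (hc i)) p

theorem main (hinj : Function.Injective (algebraMap R S)) [Algebra.FiniteType R S] :
    ∃ (d : ℕ) (y : Fin d → S) (S' : Subalgebra R S), AlgebraicIndependent R y ∧ (∀ i, y i ∈ S') ∧ S'.FG ∧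
      (∀ s ∈ S', IsIntegral (Algebra.adjoin R (Set.range y)) s) ∧
      ∃ f : R, f ≠ 0 ∧ ∀ s : S, ∃ n : ℕ, (f ^ n) • s ∈ S' := by
  classical
  haveI : Nontrivial (FractionRing R ⊗[R] S) := nontrivial_T hinj
  obtain ⟨d, g, hginj, hgint⟩ := exists_integral_inj_algHom_of_fg (FractionRing R) (FractionRing R ⊗[R] S)
  -- step A
  have hA : ∀ i : Fin d, ∃ (r : R) (s : S), r ∈ nonZeroDivisors R ∧
      algebraMap S (FractionRing R ⊗[R] S) s =
        algebraMap R (FractionRing R ⊗[R] S) r * g (MvPolynomial.X i) := by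
    intro i
    obtain ⟨⟨s, m⟩, hm⟩ := IsLocalization.surj (Algebra.algebraMapSubmonoid S (nonZeroDivisors R))
      (g (MvPolynomial.X i))
    obtain ⟨r, hr, hrm⟩ := m.2
    refine ⟨r, s, hr, ?_⟩
    rw [← hm, mul_comm]
    congr 1
    rw [← hrm, ← IsScalarTower.algebraMap_apply]
  choose r y hr hy using hA
  have hr0 : ∀ i, algebraMap R (FractionRing R) (r i) ≠ 0 := fun i =>
    (map_ne_zero_iff _ (IsFractionRing.injective R (FractionRing R))).mpr (nonZeroDivisors.ne_zero (hr i))
  obtain ⟨ρ, hρ⟩ : ∃ ρ : MvPolynomial (Fin d) (FractionRing R) →ₐ[FractionRing R]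
      MvPolynomial (Fin d) (FractionRing R), ρ = MvPolynomial.aeval
        (fun i => MvPolynomial.C (algebraMap R (FractionRing R) (r i)) * MvPolynomial.X i) := ⟨_, rfl⟩
  have hρb : Function.Bijective ρ := hρ ▸ rescale_bijective _ hr0
  obtain ⟨g', hg'⟩ : ∃ g' : MvPolynomial (Fin d) (FractionRing R) →ₐ[FractionRing R]
      (FractionRing R ⊗[R] S), g' = g.comp ρ := ⟨_, rfl⟩
  have hg'X : ∀ i, g' (MvPolynomial.X i) = algebraMap S (FractionRing R ⊗[R] S) (y i) := by
    intro i
    rw [hg', hρ, AlgHom.comp_apply, MvPolynomial.aeval_X, map_mul, hy,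
      ← MvPolynomial.algebraMap_eq, g.commutes, ← IsScalarTower.algebraMap_apply]
  have hg'inj : Function.Injective g' := by
    rw [hg']; exact hginj.comp hρb.1
  have hg'int : g'.toRingHom.IsIntegral := by
    have : g'.toRingHom = g.toRingHom.comp ρ.toRingHom := by rw [hg']; rfl
    rw [this]
    exact RingHom.IsIntegral.trans _ _ (RingHom.isIntegral_of_surjective _ hρb.2) hgint
  obtain ⟨φ, hφ⟩ : ∃ φ : MvPolynomial (Fin d) R →ₐ[R] S, φ = MvPolynomial.aeval y := ⟨_, rfl⟩
  have hcompat : ∀ p, algebraMap S (FractionRing R ⊗[R] S) (φ p) =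
      g' (MvPolynomial.map (algebraMap R (FractionRing R)) p) := by
    intro p
    have : (algebraMap S (FractionRing R ⊗[R] S)).comp φ.toRingHom =
        g'.toRingHom.comp (MvPolynomial.map (algebraMap R (FractionRing R))) := by
      apply MvPolynomial.ringHom_ext
      · intro a
        simp only [RingHom.comp_apply, AlgHom.toRingHom_eq_coe, RingHom.coe_coe, MvPolynomial.map_C]
        rw [← MvPolynomial.algebraMap_eq, ← MvPolynomial.algebraMap_eq, φ.commutes, g'.commutes,
          ← IsScalarTower.algebraMap_apply, ← IsScalarTower.algebraMap_apply]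
      · intro i
        simp only [RingHom.comp_apply, AlgHom.toRingHom_eq_coe, RingHom.coe_coe, MvPolynomial.map_X]
        rw [hg'X, hφ, MvPolynomial.aeval_X]
    exact congrArg (fun h => h p) this
  have hindep : AlgebraicIndependent R y := by
    rw [algebraicIndependent_iff_injective_aeval, ← hφ]
    intro p q hpq
    have := congrArg (algebraMap S (FractionRing R ⊗[R] S)) hpq
    rw [hcompat, hcompat] at this
    exact MvPolynomial.map_injective _ (IsFractionRing.injective R (FractionRing R)) (hg'inj this)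
  have hB : ∀ x : S, ∃ c ∈ nonZeroDivisors R, φ.toRingHom.IsIntegralElem (c • x) :=
    fun x => lemmaB φ g' hcompat x (hg'int _)
  choose t ht0 ht using hB
  obtain ⟨G, hG⟩ := (Algebra.FiniteType.out : (⊤ : Subalgebra R S).FG)
  obtain ⟨W, hW⟩ : ∃ W : Finset S, W = Finset.univ.image y ∪ G.image (fun x => t x • x) := ⟨_, rfl⟩
  have hyW : ∀ i, y i ∈ Algebra.adjoin R (W : Set S) := fun i =>
    Algebra.subset_adjoin (by rw [hW]; simp)
  have htW : ∀ x ∈ G, t x • x ∈ Algebra.adjoin R (W : Set S) := fun x hx =>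
    Algebra.subset_adjoin (by
      rw [hW]
      simp only [Finset.coe_union, Finset.coe_image, Set.mem_union, Set.mem_image, Finset.mem_coe]
      exact Or.inr ⟨x, hx, rfl⟩)
  -- integrality transfer
  have hyB : ∀ i, y i ∈ Algebra.adjoin R (Set.range y) := fun i => Algebra.subset_adjoin ⟨i, rfl⟩
  have htrans : ∀ s : S, φ.toRingHom.IsIntegralElem s →
      IsIntegral (Algebra.adjoin R (Set.range y)) s := by
    intro s ⟨q, hqm, hq⟩
    let φ' : MvPolynomial (Fin d) R →ₐ[R] (Algebra.adjoin R (Set.range y)) :=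
      MvPolynomial.aeval (fun i => (⟨y i, hyB i⟩ : Algebra.adjoin R (Set.range y)))
    have hφ' : (algebraMap (Algebra.adjoin R (Set.range y)) S).comp φ'.toRingHom = φ.toRingHom := by
      apply MvPolynomial.ringHom_ext
      · intro a
        simp only [RingHom.comp_apply, AlgHom.toRingHom_eq_coe, RingHom.coe_coe]
        rw [← MvPolynomial.algebraMap_eq, φ.commutes, φ'.commutes, ← IsScalarTower.algebraMap_apply]
      · intro i
        simp only [RingHom.comp_apply, AlgHom.toRingHom_eq_coe, RingHom.coe_coe]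
        rw [hφ, MvPolynomial.aeval_X, MvPolynomial.aeval_X]
        rfl
    refine ⟨q.map φ'.toRingHom, hqm.map _, ?_⟩
    rw [Polynomial.eval₂_map, hφ']
    exact hq
  refine ⟨d, y, Algebra.adjoin R (W : Set S), hindep, hyW, ⟨W, rfl⟩, ?_, ∏ x ∈ G, t x, ?_, ?_⟩
  · intro s hs
    induction hs using Algebra.adjoin_induction with
    | mem x hx =>
      rw [hW] at hx
      simp only [Finset.coe_union, Finset.coe_image, Set.mem_union, Set.mem_image, Finset.mem_coe,
        Finset.mem_univ, true_and] at hx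
      rcases hx with ⟨i, rfl⟩ | ⟨x, _, rfl⟩
      · exact htrans _ ⟨Polynomial.X - Polynomial.C (MvPolynomial.X i),
          Polynomial.monic_X_sub_C _, by simp [hφ]⟩
      · exact htrans _ (ht x)
    | algebraMap a =>
      rw [IsScalarTower.algebraMap_apply R (Algebra.adjoin R (Set.range y)) S]
      exact isIntegral_algebraMap
    | add a b _ _ ha hb => exact ha.add hb
    | mul a b _ _ ha hb => exact ha.mul hb
  · exact Finset.prod_ne_zero_iff.mpr fun x _ => nonZeroDivisors.ne_zero (ht0 x)
  · intro s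
    have hs : s ∈ Algebra.adjoin R (G : Set S) := by rw [hG]; trivial
    induction hs using Algebra.adjoin_induction with
    | mem x hx =>
      refine ⟨1, ?_⟩
      rw [pow_one, ← Finset.mul_prod_erase G t hx, mul_comm, mul_smul]
      exact Subalgebra.smul_mem _ (htW x hx) _
    | algebraMap a => exact ⟨0, by rw [pow_zero, one_smul]; exact Subalgebra.algebraMap_mem _ a⟩
    | add a b _ _ ha hb =>
      obtain ⟨n₁, h₁⟩ := ha
      obtain ⟨n₂, h₂⟩ := hb
      refine ⟨n₁ + n₂, ?_⟩
      rw [smul_add]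
      refine Subalgebra.add_mem _ ?_ ?_
      · rw [pow_add, mul_comm, mul_smul]; exact Subalgebra.smul_mem _ h₁ _
      · rw [pow_add, mul_smul]; exact Subalgebra.smul_mem _ h₂ _
    | mul a b _ _ ha hb =>
      obtain ⟨n₁, h₁⟩ := ha
      obtain ⟨n₂, h₂⟩ := hb
      refine ⟨n₁ + n₂, ?_⟩
      rw [pow_add, ← smul_mul_smul_comm]
      exact Subalgebra.mul_mem _ h₁ h₂

end



/-- Let `R` be a domain and `R → S` an injective ring map of finite type. Then there are elements `y_1,
…, y_d` of `S` algebraically independent over `R`, a finitely generated `R`-subalgebra `S'` of `S`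
containing them and integral over `R[y_1, …, y_d]`, and a nonzero `f ∈ R` such that every element of
`S` lands in `S'` after multiplication by a power of `f`. -/
theorem result {R S : Type u} [CommRing R] [IsDomain R] [CommRing S] [Algebra R S]
    [Algebra.FiniteType R S] (hinj : Function.Injective (algebraMap R S)) :
    ∃ (d : ℕ) (y : Fin d → S) (S' : Subalgebra R S), AlgebraicIndependent R y ∧ (∀ i, y i ∈ S') ∧ S'.FG ∧
      (∀ s ∈ S', IsIntegral (Algebra.adjoin R (Set.range y)) s) ∧
      ∃ f : R, f ≠ 0 ∧ ∀ s : S, ∃ n : ℕ, (f ^ n) • s ∈ S' := by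
  exact main hinj

end Groth.Agent.S2073
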