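import Groth.Statements.S2076
-- import your own Groth.Agent.* helpers here
import Mathlib

set_option autoImplicit false
universe u
open CategoryTheory AlgebraicGeometry
open Lim

namespace Groth.Agent.S2076

open CategoryTheory.Limits

/-- The affine case. -/
theorem exists_isClosedImmersion_of_affine {J : Type u} [SmallCategory J] [IsCofiltered J]
    (D' : J ⥤ Scheme.{u}) (c' : Cone D') (hc' : IsLimit c') [∀ j, IsAffine (D'.obj j)]
    {Y' S' : Scheme.{u}} [IsAffine S'] (h' : Y' ⟶ c'.pt) (hh' : IsClosedImmersion h') (σ : c'.pt ⟶ S')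
    (hlft : LocallyOfFiniteType (h' ≫ σ)) (hσ : ∀ j, ∃ σj : D'.obj j ⟶ S', c'.π.app j ≫ σj = σ) :
    ∃ j, IsClosedImmersion (h' ≫ c'.π.app j) := by
  classical
  have : IsAffine c'.pt := Scheme.isAffine_of_isLimit _ hc'
  obtain ⟨hY', hsurj⟩ := IsClosedImmersion.isAffine_surjective_of_isAffine h'
  have hft : (h' ≫ σ).appTop.hom.FiniteType :=
    (HasRingHomProperty.iff_of_isAffine (P := @LocallyOfFiniteType)).mp inferInstance
  let ρ : Γ(S', ⊤) →+* Γ(Y', ⊤) := (h' ≫ σ).appTop.hom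
  letI : Algebra Γ(S', ⊤) Γ(Y', ⊤) := ρ.toAlgebra
  obtain ⟨s, hs⟩ : ∃ s : Finset Γ(Y', ⊤), Algebra.adjoin Γ(S', ⊤) (s : Set Γ(Y', ⊤)) = ⊤ := hft.out
  -- each generator comes from a stage
  have hgen : ∀ b : Γ(Y', ⊤), ∃ (j : J) (t : Γ(D'.obj j, ⊤)), (h' ≫ c'.π.app j).appTop t = b := by
    intro b
    obtain ⟨a, rfl⟩ := hsurj b
    obtain ⟨j, t, rfl⟩ := exists_appTop_π_eq_of_isAffine_of_isLimit D' c' hc' a
    exact ⟨j, t, by rw [Scheme.Hom.comp_appTop]; rfl⟩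
  choose jb tb htb using hgen
  obtain ⟨j, hj⟩ := IsCofiltered.inf_objs_exists (s.image jb)
  refine ⟨j, ?_⟩
  apply IsClosedImmersion.of_surjective_of_isAffine
  let φ : Γ(D'.obj j, ⊤) →+* Γ(Y', ⊤) := (h' ≫ c'.π.app j).appTop.hom
  obtain ⟨σj, hσj⟩ := hσ j
  have hρ : ∀ r : Γ(S', ⊤), ρ r = φ (σj.appTop r) := by
    intro r
    have : h' ≫ σ = (h' ≫ c'.π.app j) ≫ σj := by rw [Category.assoc, hσj]
    change (h' ≫ σ).appTop r = _
    rw [this, Scheme.Hom.comp_appTop]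
    rfl
  let Sub : Subalgebra Γ(S', ⊤) Γ(Y', ⊤) :=
    { φ.range with
      algebraMap_mem' := fun r => ⟨σj.appTop r, (hρ r).symm⟩ }
  have hsub : (s : Set Γ(Y', ⊤)) ⊆ Sub := by
    intro b hb
    obtain ⟨u⟩ := hj (Finset.mem_image_of_mem jb hb)
    refine ⟨(D'.map u).appTop (tb b), ?_⟩
    have h1 : h' ≫ c'.π.app (jb b) = (h' ≫ c'.π.app j) ≫ D'.map u := by
      rw [Category.assoc, c'.w]
    have h2 := htb b
    rw [h1, Scheme.Hom.comp_appTop] at h2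
    exact h2
  have htop : Sub = ⊤ := by
    rw [eq_top_iff, ← hs]
    exact Algebra.adjoin_le hsub
  intro b
  have hb : b ∈ Sub := by rw [htop]; trivial
  obtain ⟨t, ht⟩ := hb
  exact ⟨t, ht⟩

theorem resLE_congr_hom {X Y : Scheme.{u}} {f g : X ⟶ Y} (hfg : f = g) (U : Y.Opens) (V : X.Opens)
    (e : V ≤ f ⁻¹ᵁ U) : f.resLE U V e = g.resLE U V (hfg ▸ e) := by
  subst hfg; rfl

set_option maxHeartbeats 1600000 in
theorem aux {I : Type u} [SmallCategory I] [IsCofiltered I] (S : Scheme.{u})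
    (D₀ : I ⥤ Scheme.{u}) (s : ∀ i, D₀.obj i ⟶ S)
    (hDs : ∀ {i j : I} (f : i ⟶ j), D₀.map f ≫ s j = s i)
    (c₀ : Cone D₀) (hc₀ : IsLimit c₀)
    [∀ {i j : I} (f : i ⟶ j), IsAffineHom (D₀.map f)] [∀ i, CompactSpace (D₀.obj i)]
    (p : c₀.pt ⟶ S) (hπs : ∀ i, c₀.π.app i ≫ s i = p)
    {Y : Scheme.{u}} (h : Y ⟶ c₀.pt) [IsClosedImmersion h] [LocallyOfFiniteType (h ≫ p)] :
    ∃ i : I, IsClosedImmersion (h ≫ c₀.π.app i) := by
  classical
  obtain ⟨i₀⟩ := IsCofiltered.nonempty (C := I)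
  have hπD : ∀ {i j : I} (f : i ⟶ j), c₀.π.app i ≫ D₀.map f = c₀.π.app j := fun f => c₀.w f
  -- local data on `X_{i₀}`
  have hloc : ∀ x : ↥(D₀.obj i₀), ∃ (U : (D₀.obj i₀).Opens) (V : S.Opens), IsAffineOpen U ∧
      IsAffineOpen V ∧ x ∈ U ∧ U ≤ (s i₀) ⁻¹ᵁ V := by
    intro x
    obtain ⟨_, ⟨V, hV : IsAffineOpen V, rfl⟩, hxV, -⟩ :=
      S.isBasis_affineOpens.exists_subset_of_mem_open
        (Set.mem_univ ((s i₀).base x)) isOpen_univ
    obtain ⟨_, ⟨U, hU : IsAffineOpen U, rfl⟩, hxU, hUV⟩ :=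
      (D₀.obj i₀).isBasis_affineOpens.exists_subset_of_mem_open
        (show x ∈ (((s i₀) ⁻¹ᵁ V : (D₀.obj i₀).Opens) : Set ↥(D₀.obj i₀)) from hxV)
        ((s i₀) ⁻¹ᵁ V).isOpen
    exact ⟨U, V, hU, hV, hxU, hUV⟩
  choose U V hU hV hxU hUV using hloc
  obtain ⟨t, ht⟩ := isCompact_univ.elim_finite_subcover
    (fun x => ((U x : (D₀.obj i₀).Opens) : Set ↥(D₀.obj i₀)))
    (fun x => (U x).isOpen) (fun x _ => Set.mem_iUnion.mpr ⟨x, hxU x⟩)
  -- the opens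
  let W : ↥(D₀.obj i₀) → c₀.pt.Opens := fun x => c₀.π.app i₀ ⁻¹ᵁ U x
  let Wj : ∀ (j : Over i₀), ↥(D₀.obj i₀) → (D₀.obj j.left).Opens :=
    fun j x => D₀.map j.hom ⁻¹ᵁ U x
  have hWj : ∀ (j : Over i₀) x, W x ≤ c₀.π.app j.left ⁻¹ᵁ Wj j x := by
    intro j x
    change W x ≤ c₀.π.app j.left ⁻¹ᵁ (D₀.map j.hom ⁻¹ᵁ U x)
    rw [← Scheme.Hom.comp_preimage, hπD j.hom]
  have hYW : ∀ (j : Over i₀) x, h ⁻¹ᵁ W x ≤ (h ≫ c₀.π.app j.left) ⁻¹ᵁ Wj j x := by
    intro j x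
    rw [Scheme.Hom.comp_preimage]
    exact Scheme.Hom.preimage_mono _ (hWj j x)
  -- for each `x`, the set of good stages
  have key : ∀ x : ↥(D₀.obj i₀), ∃ j : Over i₀, ∀ (j' : Over i₀) (_ : j' ⟶ j),
      IsClosedImmersion ((h ≫ c₀.π.app j'.left).resLE (Wj j' x) (h ⁻¹ᵁ W x) (hYW j' x)) := by
    intro x
    have hA : ∀ j : Over i₀, IsAffine ((opensDiagram D₀ i₀ (U x)).obj j) :=
      fun j => (hU x).preimage (D₀.map j.hom)
    have hVA : IsAffine (V x : Scheme.{u}) := hV x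
    have e0 : W x ≤ p ⁻¹ᵁ V x := by
      rw [← hπs i₀, Scheme.Hom.comp_preimage]
      exact Scheme.Hom.preimage_mono _ (hUV x)
    let σ : (W x : Scheme.{u}) ⟶ (V x : Scheme.{u}) := p.resLE (V x) (W x) e0
    have hci : IsClosedImmersion (h ∣_ W x) := inferInstance
    have hft : LocallyOfFiniteType ((h ∣_ W x) ≫ σ) := by
      rw [← Scheme.Hom.resLE_eq_morphismRestrict, Scheme.Hom.resLE_comp_resLE]
      infer_instance
    have hσ : ∀ j : Over i₀, ∃ σj : (opensDiagram D₀ i₀ (U x)).obj j ⟶ (V x : Scheme.{u}),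
        (opensCone D₀ c₀ i₀ (U x)).π.app j ≫ σj = σ := by
      intro j
      have ej : Wj j x ≤ (s j.left) ⁻¹ᵁ V x := by
        change D₀.map j.hom ⁻¹ᵁ U x ≤ _
        rw [← hDs j.hom, Scheme.Hom.comp_preimage]
        exact Scheme.Hom.preimage_mono _ (hUV x)
      refine ⟨(s j.left).resLE (V x) (Wj j x) ej, ?_⟩
      exact (Scheme.Hom.resLE_comp_resLE (f := c₀.π.app j.left) (U := Wj j x) (V := W x)
        (e := hWj j x) (s j.left) ej).trans (resLE_congr_hom (hπs j.left) _ _ _)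
    obtain ⟨j, hj⟩ := exists_isClosedImmersion_of_affine (opensDiagram D₀ i₀ (U x))
      (opensCone D₀ c₀ i₀ (U x)) (isLimitOpensCone D₀ c₀ hc₀ i₀ (U x))
      (h ∣_ W x) hci σ hft hσ
    refine ⟨j, fun j' u => ?_⟩
    have hw : ((h ∣_ W x) ≫ (opensCone D₀ c₀ i₀ (U x)).π.app j') ≫
        (opensDiagram D₀ i₀ (U x)).map u =
        (h ∣_ W x) ≫ (opensCone D₀ c₀ i₀ (U x)).π.app j :=
      (Category.assoc _ _ _).trans
        (congrArg (fun q => (h ∣_ W x) ≫ q) ((opensCone D₀ c₀ i₀ (U x)).w u))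
    have hsep : IsSeparated ((opensDiagram D₀ i₀ (U x)).map u) := inferInstance
    have h1 : IsClosedImmersion ((h ∣_ W x) ≫ (opensCone D₀ c₀ i₀ (U x)).π.app j') :=
      MorphismProperty.of_postcomp (W := @IsClosedImmersion) (W' := @IsSeparated) _
        ((opensDiagram D₀ i₀ (U x)).map u) hsep (hw ▸ hj)
    have h2 : (h ∣_ W x) ≫ (opensCone D₀ c₀ i₀ (U x)).π.app j' =
        (h ≫ c₀.π.app j'.left).resLE (Wj j' x) (h ⁻¹ᵁ W x) (hYW j' x) := by
      rw [← Scheme.Hom.resLE_eq_morphismRestrict]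
      exact Scheme.Hom.resLE_comp_resLE (f := h) (U := W x) (V := h ⁻¹ᵁ W x) (e := le_rfl)
        (c₀.π.app j'.left) (hWj j' x)
    rw [← h2]
    exact h1
  choose jx hjx using key
  obtain ⟨j, hj⟩ := IsCofiltered.inf_objs_exists (t.image jx)
  refine ⟨j.left, ?_⟩
  have hcover : ⨆ x : t, Wj j x.1 = ⊤ := by
    rw [eq_top_iff]
    intro z _
    have hz0 : (D₀.map j.hom).base z ∈ ⋃ x ∈ t, ((U x : (D₀.obj i₀).Opens) : Set ↥(D₀.obj i₀)) :=
      ht (Set.mem_univ _)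
    obtain ⟨x, hxt, hz⟩ := Set.mem_iUnion₂.mp hz0
    exact TopologicalSpace.Opens.mem_iSup.mpr ⟨⟨x, hxt⟩, hz⟩
  apply IsZariskiLocalAtTarget.of_iSup_eq_top (P := @IsClosedImmersion)
    (fun x : t => Wj j x.1) hcover
  rintro ⟨x, hxt⟩
  obtain ⟨u⟩ := hj (Finset.mem_image_of_mem jx hxt)
  have h3 := hjx x j u
  rw [← Scheme.Hom.resLE_eq_morphismRestrict]
  have heq : (h ≫ c₀.π.app j.left) ⁻¹ᵁ Wj j x = h ⁻¹ᵁ W x := by
    rw [Scheme.Hom.comp_preimage]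
    congr 1
    change c₀.π.app j.left ⁻¹ᵁ (D₀.map j.hom ⁻¹ᵁ U x) = _
    rw [← Scheme.Hom.comp_preimage, hπD j.hom]
  exact (Scheme.Hom.resLE_congr (h ≫ c₀.π.app j.left) (hYW j x) rfl heq.symm
    @IsClosedImmersion).mp h3

attribute [local instance] IsCofiltered.isConnected

/-- Let `X = lim X_i` be a cofiltered limit of quasi-compact schemes over `S` with affine transition
morphisms and `h : Y → X` a closed immersion with `Y → S` locally of finite type. Then `Y → X_i` is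
a closed immersion for some `i`. -/
theorem result {I : Type u} [SmallCategory I] [IsCofiltered I] (S : Scheme.{u})
    (D : I ⥤ Over S) (c : Limits.Cone D) (hc : Limits.IsLimit c)
    [∀ (i j : I) (f : i ⟶ j), IsAffineHom (D.map f).left] [∀ i, CompactSpace (D.obj i).left]
    {Y : Scheme.{u}} (h : Y ⟶ c.pt.left) [IsClosedImmersion h] [LocallyOfFiniteType (h ≫ c.pt.hom)] :
    ∃ i : I, IsClosedImmersion (h ≫ (c.π.app i).left) := by
  have haff : ∀ {i j : I} (f : i ⟶ j), IsAffineHom ((D ⋙ Over.forget S).map f) := fun {i j} f =>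
    inferInstanceAs (IsAffineHom (D.map f).left)
  have hcomp : ∀ i, CompactSpace ↥((D ⋙ Over.forget S).obj i) := fun i =>
    inferInstanceAs (CompactSpace (D.obj i).left)
  let h' : Y ⟶ ((Over.forget S).mapCone c).pt := h
  have h1 : IsClosedImmersion h' := ‹IsClosedImmersion h›
  have h2 : LocallyOfFiniteType (h' ≫ c.pt.hom) := ‹LocallyOfFiniteType (h ≫ c.pt.hom)›
  exact aux S (D ⋙ Over.forget S) (fun i => (D.obj i).hom) (fun f => Over.w (D.map f))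
    ((Over.forget S).mapCone c) (isLimitOfPreserves (Over.forget S) hc) c.pt.hom
    (fun i => Over.w (c.π.app i)) h'

end Groth.Agent.S2076
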