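import Groth.Statements.S2077
import Mathlib
import Groth.Agent.Lib.Helper22NA12

set_option autoImplicit false
universe u
open CategoryTheory AlgebraicGeometry
open Lim

namespace Groth.Agent.S2077

open Groth.Agent.Lib.Helper22 Opposite

/-- Let `f : X → S` be locally of finite type with `X` quasi-compact and quasi-separated. Then there are
a morphism `f' : X' → S` of finite presentation (locally of finite presentation, quasi-compact,
quasi-separated) and an immersion `X → X'` over `S`. -/
theorem result {X S : Scheme.{u}} (f : X ⟶ S) [LocallyOfFiniteType f]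
    [CompactSpace X] [QuasiSeparatedSpace X] :
    ∃ (X' : Scheme.{u}) (f' : X' ⟶ S) (j : X ⟶ X'), LocallyOfFinitePresentation f' ∧ QuasiCompact f' ∧
      QuasiSeparated f' ∧ IsImmersion j ∧ j ≫ f' = f := by
  obtain ⟨A, pA, DA, cA, hcA, eA, hA⟩ := NA10.exists_goodSys X
  have := hA.dir
  have := hA.ne
  have : ∀ {x y : Aᵒᵖ} (a : x ⟶ y), IsAffineHom (DA.map a) := hA.aff
  have := hA.cpt
  have hlft := hA.lft
  have : ∀ x, QuasiSeparatedSpace (DA.obj x) := fun x => NA4.quasiSeparatedSpace_of_lft _
  obtain ⟨x, hx⟩ := NA12.exists_isImmersion hcA (eA.hom ≫ f)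
    (fun x => specULiftZIsTerminal.from (DA.obj x)) (specULiftZIsTerminal.from S)
    (fun x => specULiftZIsTerminal.hom_ext _ _)
  have := NA10.lfp_of_lft (DA.obj x)
  refine ⟨_, Limits.pullback.snd (specULiftZIsTerminal.from (DA.obj x))
    (specULiftZIsTerminal.from S), eA.inv ≫ NA12.jmap (specULiftZIsTerminal.from (DA.obj x))
      (specULiftZIsTerminal.from S) (cA.π.app x) (eA.hom ≫ f)
      (specULiftZIsTerminal.hom_ext _ _), inferInstance, inferInstance,
    inferInstance, inferInstance, ?_⟩
  rw [Category.assoc, NA12.jmap, Limits.pullback.lift_snd, Iso.inv_hom_id_assoc]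

end Groth.Agent.S2077
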