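import Groth.Statements.S2078
import Mathlib
import Groth.Agent.S2077

set_option autoImplicit false
universe u
open CategoryTheory AlgebraicGeometry
open Lim

namespace Groth.Agent.S2078

/-- a compact subset of a scheme is contained in a quasi-compact open -/
theorem exists_compact_open_of_range {X S : Scheme.{u}} (f : X ⟶ S) [CompactSpace X] :
    ∃ U : S.Opens, IsCompact (U : Set S) ∧ Set.range f ⊆ U := by
  have h : ∀ x : X, ∃ W : S.Opens, IsAffineOpen W ∧ f x ∈ W := fun x => by
    obtain ⟨_, ⟨W, hW, rfl⟩, hx, -⟩ := S.isBasis_affineOpens.exists_subset_of_mem_open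
      (Set.mem_univ (f x)) isOpen_univ
    exact ⟨W, hW, hx⟩
  choose W hW hxW using h
  obtain ⟨t, ht⟩ := isCompact_univ.elim_finite_subcover (fun x : X => ((f ⁻¹ᵁ W x : X.Opens) : Set X))
    (fun x => (f ⁻¹ᵁ W x).isOpen) (fun x _ => Set.mem_iUnion.mpr ⟨x, hxW x⟩)
  refine ⟨⨆ x ∈ t, W x, ?_, ?_⟩
  · have : ((⨆ x ∈ t, W x : S.Opens) : Set S) = ⋃ x ∈ t, (W x : Set S) := by
      simp
    rw [this]
    exact t.isCompact_biUnion fun x _ => (hW x).isCompact
  · rintro _ ⟨x, rfl⟩
    obtain ⟨y, hy⟩ := Set.mem_iUnion.mp (ht (Set.mem_univ x))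
    obtain ⟨hyt, hxy⟩ := Set.mem_iUnion.mp hy
    exact TopologicalSpace.Opens.mem_iSup.mpr ⟨y, TopologicalSpace.Opens.mem_iSup.mpr ⟨hyt, hxy⟩⟩

/-- Let `f : X → S` be locally of finite type with `X` quasi-compact and quasi-separated and `S`
quasi-separated. Then there are a morphism `f' : X' → S` of finite presentation and a closed
immersion `X → X'` over `S`. -/
theorem result {X S : Scheme.{u}} (f : X ⟶ S) [LocallyOfFiniteType f]
    [CompactSpace X] [QuasiSeparatedSpace X] [QuasiSeparatedSpace S] :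
    ∃ (X' : Scheme.{u}) (f' : X' ⟶ S) (j : X ⟶ X'), LocallyOfFinitePresentation f' ∧ QuasiCompact f' ∧
      QuasiSeparated f' ∧ IsClosedImmersion j ∧ j ≫ f' = f := by
  obtain ⟨X', f', j, h1, h2, h3, h4, h5⟩ := Groth.Agent.S2077.result f
  have : QuasiSeparatedSpace X' := quasiSeparatedSpace_of_quasiSeparated f'
  obtain ⟨U₀, hU₀, hrange⟩ := exists_compact_open_of_range j.liftCoborder
  have hrange' : Set.range j.liftCoborder ⊆ Set.range U₀.ι := by
    rw [Scheme.Opens.range_ι]; exact hrange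
  let j'' : X ⟶ U₀.toScheme := IsOpenImmersion.lift U₀.ι j.liftCoborder hrange'
  have hj'' : j'' ≫ U₀.ι = j.liftCoborder := IsOpenImmersion.lift_fac _ _ _
  have : IsClosedImmersion j'' := by
    have : IsClosedImmersion (j'' ≫ U₀.ι) := by rw [hj'']; infer_instance
    exact IsClosedImmersion.of_comp j'' U₀.ι
  have : CompactSpace U₀.toScheme := isCompact_iff_compactSpace.mp hU₀
  refine ⟨U₀.toScheme, (U₀.ι ≫ j.coborderRange.ι) ≫ f', j'', inferInstance, inferInstance,
    inferInstance, inferInstance, ?_⟩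
  rw [← Category.assoc, ← Category.assoc, hj'', Scheme.Hom.liftCoborder_ι, h5]

end Groth.Agent.S2078
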