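import Groth.Statements.S2080
import Groth.Agent.Lib.Helper4GenFinite2

set_option autoImplicit false
set_option linter.style.haveILetI false
universe u
open CategoryTheory AlgebraicGeometry
open Mor

namespace Groth.Agent.S2080

/-- Let `f : X → Y` be locally of finite type, quasi-compact and quasi-separated, and `η` a generic
point of an irreducible component of `Y`. Then `f⁻¹{η}` is finite if and only if there is an affine
open `V ∋ η` such that `f⁻¹(V) → V` is finite. -/
theorem result {X Y : Scheme.{u}} (f : X ⟶ Y) [LocallyOfFiniteType f]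
    [QuasiCompact f] [QuasiSeparated f] (η : Y) (hη : closure {η} ∈ irreducibleComponents (Y : Type u)) :
    (f.base ⁻¹' {η}).Finite ↔ ∃ V : Y.Opens, IsAffineOpen V ∧ η ∈ V ∧ IsFinite (f ∣_ V) := by
  open Groth.Agent.Lib.Helper4.GenFinite in
  constructor
  · intro hF
    classical
    -- the fibre is discrete
    have hdisc := isDiscrete_preimage_singleton_of_finite f η hF
    rw [isDiscrete_iff_forall_mem_exists_isOpen] at hdisc
    -- an affine neighbourhood of `η`
    obtain ⟨_, ⟨V₀, hV₀, rfl⟩, hηV₀, -⟩ :=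
      Y.isBasis_affineOpens.exists_subset_of_mem_open (Set.mem_univ η) isOpen_univ
    haveI : Finite ↥(f.base ⁻¹' {η}) := hF.to_subtype
    -- affine neighbourhoods of the fibre points
    have h1 : ∀ x : ↥(f.base ⁻¹' {η}), ∃ U : X.Opens, IsAffineOpen U ∧ x.1 ∈ U ∧ U ≤ f ⁻¹ᵁ V₀ ∧
        (U : Set X) ∩ f.base ⁻¹' {η} = {x.1} := by
      intro x
      obtain ⟨O, hO, hOx⟩ := hdisc x.1 x.2
      have hxO : x.1 ∈ O := by
        have : x.1 ∈ O ∩ f.base ⁻¹' {η} := by rw [hOx]; rfl
        exact this.1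
      have hxV : x.1 ∈ f ⁻¹ᵁ V₀ := by
        change f.base x.1 ∈ V₀
        rw [x.2]; exact hηV₀
      obtain ⟨_, ⟨U, hU, rfl⟩, hxU, hUO⟩ :=
        X.isBasis_affineOpens.exists_subset_of_mem_open
          (show x.1 ∈ O ∩ (f ⁻¹ᵁ V₀ : Set X) from ⟨hxO, hxV⟩) (hO.inter (f ⁻¹ᵁ V₀).2)
      refine ⟨U, hU, hxU, fun y hy => (hUO hy).2, ?_⟩
      apply Set.Subset.antisymm
      · intro y hy
        have : y ∈ O ∩ f.base ⁻¹' {η} := ⟨(hUO hy.1).1, hy.2⟩
        rw [hOx] at this
        exact this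
      · intro y hy
        rw [Set.mem_singleton_iff] at hy
        subst hy
        exact ⟨hxU, x.2⟩
    choose U hU hxU hUV hUF using h1
    have hQS : IsQuasiSeparated (f ⁻¹ᵁ V₀ : Set X) :=
      f.isQuasiSeparated_preimage hV₀.isQuasiSeparated
    obtain ⟨r, hηr, hfin⟩ := exists_isFinite_morphismRestrict_basicOpen f hV₀ η hηV₀ hη U hU hUV
      (fun x => by rw [hUF]; exact Set.finite_singleton _)
      (fun x hx => by
        rw [SetLike.mem_coe, TopologicalSpace.Opens.mem_iSup]
        exact ⟨⟨x, hx⟩, hxU ⟨x, hx⟩⟩)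
      (fun x x' hxx' => by
        apply exists_basicOpen_preimage_disjoint f hV₀ η hηV₀ hη (U x ⊓ U x')
        · exact hQS (U x) (U x') (hUV x) (U x).2 (hU x).isCompact (hUV x') (U x').2
            (hU x').isCompact
        · exact inf_le_left.trans (hUV x)
        · intro w hw hwη
          have h2 : w ∈ (U x : Set X) ∩ f.base ⁻¹' {η} := ⟨hw.1, hwη⟩
          have h3 : w ∈ (U x' : Set X) ∩ f.base ⁻¹' {η} := ⟨hw.2, hwη⟩
          rw [hUF, Set.mem_singleton_iff] at h2 h3
          exact hxx' (Subtype.ext (h2.symm.trans h3)))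
    exact ⟨Y.basicOpen r, hV₀.basicOpen r, hηr, hfin⟩
  · rintro ⟨V, hV, hηV, hfin⟩
    have h1 : ((f ∣_ V).base ⁻¹' {⟨η, hηV⟩}).Finite := (f ∣_ V).finite_preimage_singleton _
    refine (h1.image (fun x => x.1)).subset ?_
    intro x hx
    have hxV : x ∈ f ⁻¹ᵁ V := by
      change f.base x ∈ V
      rw [hx]; exact hηV
    let x' : (f ⁻¹ᵁ V).toScheme := ⟨x, hxV⟩
    refine ⟨x', ?_, rfl⟩
    apply Subtype.ext
    have := morphismRestrict_base_coe f V x'
    exact this.trans hx

end Groth.Agent.S2080
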