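import Groth.Statements.S2081
import Groth.Agent.Lib.Helper4GenFinite3

set_option autoImplicit false
set_option linter.style.haveILetI false
universe u
open CategoryTheory AlgebraicGeometry
open Mor

namespace Groth.Agent.S2081

/-- Let `f : X → Y` be locally of finite type and quasi-compact. Suppose `X` and `Y` have finitely many
irreducible components and that a point of `X` is a generic point of an irreducible component
exactly when its image is one in `Y`. Then `f⁻¹(V) → V` is finite for some dense open `V ⊆ Y`. -/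
theorem result {X Y : Scheme.{u}} (f : X ⟶ Y) [LocallyOfFiniteType f]
    [QuasiCompact f] (hX : (irreducibleComponents (X : Type u)).Finite) (hY : (irreducibleComponents (Y : Type u)).Finite)
    (hgen : ∀ x : X, closure {x} ∈ irreducibleComponents (X : Type u) ↔
      closure {f.base x} ∈ irreducibleComponents (Y : Type u)) :
    ∃ V : Y.Opens, Dense (V : Set Y) ∧ IsFinite (f ∣_ V) := by
  open Groth.Agent.Lib.Helper4.GenFinite in
  classical
  -- generic points of irreducible components of `X` are finitely many
  have hMaxX : {x : X | closure {x} ∈ irreducibleComponents (X : Type u)}.Finite := by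
    apply Set.Finite.of_finite_image (f := fun x : X => closure ({x} : Set X))
    · exact hX.subset (by rintro _ ⟨x, hx, rfl⟩; exact hx)
    · intro x _ y _ h
      exact (inseparable_iff_closure_eq.mpr h).eq
  have key : ∀ η : Y, closure {η} ∈ irreducibleComponents (Y : Type u) →
      ∃ V : Y.Opens, η ∈ V ∧ IsFinite (f ∣_ V) := by
    intro η hη
    have hFmax : ∀ x : X, f.base x = η → closure {x} ∈ irreducibleComponents (X : Type u) :=
      fun x hx => (hgen x).mpr (by rw [hx]; exact hη)
    have hF : (f.base ⁻¹' {η}).Finite := hMaxX.subset (fun x hx => hFmax x hx)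
    obtain ⟨_, ⟨V₀, hV₀, rfl⟩, hηV₀, -⟩ :=
      Y.isBasis_affineOpens.exists_subset_of_mem_open (Set.mem_univ η) isOpen_univ
    haveI : Finite ↥(f.base ⁻¹' {η}) := hF.to_subtype
    have h1 : ∀ x : ↥(f.base ⁻¹' {η}), ∃ U : X.Opens, IsAffineOpen U ∧ x.1 ∈ U ∧ U ≤ f ⁻¹ᵁ V₀ ∧
        (∀ y ∈ U, x.1 ⤳ y) ∧
        (∀ Z ∈ irreducibleComponents (X : Type u), Z ≠ closure {x.1} →
          Disjoint (U : Set X) Z) := by
      intro x
      have hxmax := hFmax x.1 x.2
      let Oth : Set X := ⋃₀ (irreducibleComponents (X : Type u) \ {closure {x.1}})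
      have hOth : IsClosed Oth := by
        change IsClosed (⋃₀ (irreducibleComponents (X : Type u) \ {closure {x.1}}))
        rw [Set.sUnion_eq_biUnion]
        exact (hX.subset Set.sdiff_subset).isClosed_biUnion
          (fun Z hZ => isClosed_of_mem_irreducibleComponents Z hZ.1)
      have hxOth : x.1 ∉ Oth := by
        rintro ⟨Z, ⟨hZ, hZne⟩, hxZ⟩
        apply hZne
        have h2 : closure {x.1} ⊆ Z :=
          closure_minimal (Set.singleton_subset_iff.mpr hxZ)
            (isClosed_of_mem_irreducibleComponents Z hZ)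
        exact Set.Subset.antisymm (hxmax.2 hZ.1 h2) h2
      have hxV : x.1 ∈ f ⁻¹ᵁ V₀ := by
        change f.base x.1 ∈ V₀
        rw [x.2]; exact hηV₀
      obtain ⟨_, ⟨U, hU, rfl⟩, hxU, hUO⟩ :=
        X.isBasis_affineOpens.exists_subset_of_mem_open
          (show x.1 ∈ Othᶜ ∩ (f ⁻¹ᵁ V₀ : Set X) from ⟨hxOth, hxV⟩)
          (hOth.isOpen_compl.inter (f ⁻¹ᵁ V₀).2)
      refine ⟨U, hU, hxU, fun y hy => (hUO hy).2, ?_, ?_⟩
      · intro y hy
        by_cases h3 : irreducibleComponent y = closure {x.1}
        · rw [specializes_iff_mem_closure, ← h3]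
          exact mem_irreducibleComponent
        · exact ((hUO hy).1 ⟨irreducibleComponent y,
            ⟨irreducibleComponent_mem_irreducibleComponents y, h3⟩, mem_irreducibleComponent⟩).elim
      · intro Z hZ hZne
        rw [Set.disjoint_left]
        intro y hy hyZ
        exact (hUO hy).1 ⟨Z, ⟨hZ, hZne⟩, hyZ⟩
    choose U hU hxU hUV hUspec hUdisj using h1
    have hUF : ∀ x : ↥(f.base ⁻¹' {η}), (U x : Set X) ∩ f.base ⁻¹' {η} = {x.1} := by
      intro x
      apply Set.Subset.antisymm
      · rintro y ⟨hyU, hy⟩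
        exact (eq_of_specializes_of_mem_irreducibleComponents (hFmax y hy) (hUspec x y hyU)).symm
      · intro y hy
        rw [Set.mem_singleton_iff] at hy
        subst hy
        exact ⟨hxU x, x.2⟩
    obtain ⟨r, hηr, hfin⟩ := exists_isFinite_morphismRestrict_basicOpen f hV₀ η hηV₀ hη U hU hUV
      (fun x => by rw [hUF]; exact Set.finite_singleton _)
      (fun x hx => by
        rw [SetLike.mem_coe, TopologicalSpace.Opens.mem_iSup]
        exact ⟨⟨x, hx⟩, hxU ⟨x, hx⟩⟩)
      (fun x x' hxx' => by
        refine ⟨1, by rw [Scheme.basicOpen_of_isUnit _ isUnit_one]; exact hηV₀, ?_⟩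
        rw [eq_bot_iff]
        rintro w ⟨⟨hw, hw'⟩, -⟩
        have h4 : closure {x'.1} ≠ closure {x.1} := by
          intro h
          exact hxx' (Subtype.ext (inseparable_iff_closure_eq.mpr h).eq.symm)
        have h5 := hUdisj x (closure {x'.1}) (hFmax x'.1 x'.2) h4
        rw [Set.disjoint_left] at h5
        exact (h5 hw (specializes_iff_mem_closure.mp (hUspec x' w hw'))).elim)
    exact ⟨Y.basicOpen r, hηr, hfin⟩
  choose! V hV hVfin using key
  let ιY := {η : Y // closure {η} ∈ irreducibleComponents (Y : Type u)}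
  refine ⟨⨆ η : ιY, V η.1, ?_, ?_⟩
  · rw [dense_iff_inter_open]
    rintro O hO ⟨y, hy⟩
    obtain ⟨η, hη⟩ := Groth.Agent.Lib.Helper14.exists_closure_eq_of_mem_irreducibleComponents
      (irreducibleComponent_mem_irreducibleComponents y)
    have hηy : η ⤳ y := by
      rw [specializes_iff_mem_closure, hη]
      exact mem_irreducibleComponent
    have hηmax : closure {η} ∈ irreducibleComponents (Y : Type u) := by
      rw [hη]; exact irreducibleComponent_mem_irreducibleComponents y
    refine ⟨η, hηy.mem_open hO hy, ?_⟩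
    rw [SetLike.mem_coe, TopologicalSpace.Opens.mem_iSup]
    exact ⟨⟨η, hηmax⟩, hV η hηmax⟩
  · exact isFinite_morphismRestrict_iSup f _ (fun η : ιY => hVfin η.1 η.2)

end Groth.Agent.S2081
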