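import Groth.Statements.S2086
import Groth.Agent.Lib.Helper28FibreTrans
-- import your own Groth.Agent.* helpers here

set_option autoImplicit false
universe u
open CAlg

namespace Groth.Agent.S2086
open Groth.Agent.Lib.Helper28

/-- Let `R → S` be a flat map of Noetherian rings such that `R` and all fibre rings `S ⊗ κ(𝔭)` satisfy
Serre's condition `(S_k)`. Then `S` satisfies `(S_k)`. -/
theorem result {R S : Type u} [CommRing R] [CommRing S] [IsNoetherianRing R] [IsNoetherianRing S]
    [Algebra R S] [Module.Flat R S] (k : ℕ) (hR : LocCoh.HasSk k R R)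
    (hfib : ∀ (p : Ideal R) [p.IsPrime], LocCoh.HasSk k (p.Fiber S) (p.Fiber S)) :
    LocCoh.HasSk k S S := by
  rw [forall_hasSk_fiber_iff] at hfib
  rw [hasSk_self_iff] at hR ⊢
  intro Q hQ
  have i1 : IsLocalRing (EGA4.FibLocRing R S Q) := isLocalRing_fibLocRing (A := R) Q
  have h1 := hfib Q
  rw [snLocalRing_iff] at h1
  have h2 := hR (Q.comap (algebraMap R S))
  rw [withBot_min_natCast_le_iff] at h2 ⊢
  rw [height_eq_height_fibLocRing_add (A := R) Q, depth_localization_eq_add_fibLocRing (A := R) Q]
  refine le_trans (min_natCast_add_le k _ _) ?_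
  rw [add_comm]
  exact add_le_add h2 h1

end Groth.Agent.S2086
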