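import Groth.Statements.S2087
import Mathlib
import Groth.Agent.Lib.Helper1TorJ
-- import your own Groth.Agent.* helpers here

set_option autoImplicit false
universe u
open CategoryTheory
attribute [local instance] HasDerivedCategory.standard
open CAlg

namespace Groth.Agent.S2087

open Groth.Agent.Lib.Helper1.Restrict Groth.Agent.Lib.Helper1.PC
open Groth.Agent.Lib.Helper1.Extend Groth.Agent.Lib.Helper1.Tor
open DerivedCategory

/-- `m`-pseudo-coherence of a complex of `R`-modules may be checked after base change to each `R_{f_i}`
for finitely many `f_i` generating the unit ideal (the base change is taken termwise on a chosen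
complex, which is the derived base change since `R → R_{f_i}` is flat). -/
theorem result {R : Type u} [CommRing R] {r : ℕ} (f : Fin r → R)
    (hf : Ideal.span (Set.range f) = ⊤) (K : DRing.Cx R) (m : ℤ)
    (hK : ∀ i, DRing.IsPseudoCoherent (Localization.Away (f i)) m
      (DRing.toD (((ModuleCat.extendScalars (algebraMap R (Localization.Away (f i)))).mapHomologicalComplex
        (ComplexShape.up ℤ)).obj K))) :
    DRing.IsPseudoCoherent R m (DRing.toD K) := by
  refine (descFam_away f hf).isPC _ m (fun i => ?_)
  exact isPC_of_iso (mapQIso (ext R (Localization.Away (f i))) K).symm (hK i)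

end Groth.Agent.S2087
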