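import Groth.Statements.S2088
import Mathlib
import Groth.Agent.Lib.Helper16FlatExtA
import Groth.Agent.Lib.Helper16FlatExtB
-- import your own Groth.Agent.* helpers here

set_option autoImplicit false
set_option linter.style.haveILetI false
set_option linter.unusedSectionVars false
universe u
open CAlg

namespace Groth.Agent.S2088

open IsLocalRing MvPolynomial Groth.Agent.Lib.Helper16.FlatExt

/-- Stage 1: the purely transcendental part. -/
theorem stage1 (R K : Type u) [CommRing R] [IsLocalRing R] [Field K]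
    [Algebra (ResidueField R) K] [Algebra R K] [IsScalarTower R (ResidueField R) K] :
    ∃ (A₁ : Type u) (_ : CommRing A₁) (_ : IsLocalRing A₁) (_ : Algebra R A₁) (_ : Algebra A₁ K)
      (_ : IsScalarTower R A₁ K),
      Module.Flat R A₁ ∧ (maximalIdeal R).map (algebraMap R A₁) = maximalIdeal A₁ ∧
      RingHom.ker (algebraMap A₁ K) = maximalIdeal A₁ ∧ Algebra.IsIntegral A₁ K := by
  haveI : FaithfulSMul (ResidueField R) K :=
    (faithfulSMul_iff_algebraMap_injective _ _).mpr (algebraMap (ResidueField R) K).injective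
  obtain ⟨ι, x, hx⟩ := exists_isTranscendenceBasis' (ResidueField R) K
  let ev₁ : MvPolynomial ι R →ₐ[R] K := aeval x
  let 𝔭 : Ideal (MvPolynomial ι R) := RingHom.ker ev₁.toRingHom
  haveI h𝔭 : 𝔭.IsPrime := RingHom.ker_isPrime ev₁.toRingHom
  -- 𝔭 = 𝔪[X]
  have h𝔭eq : 𝔭 = Ideal.map C (maximalIdeal R) := by
    have h1 : ∀ p : MvPolynomial ι R, ev₁ p =
        (aeval x : MvPolynomial ι (ResidueField R) →ₐ[ResidueField R] K)
          (map (algebraMap R (ResidueField R)) p) := by
      intro p
      exact (aeval_map_algebraMap (ResidueField R) x p).symm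
    ext p
    rw [← IsLocalRing.ker_residue, ← MvPolynomial.ker_map]
    show ev₁ p = 0 ↔ map (residue R) p = 0
    rw [h1]
    constructor
    · intro h
      exact hx.1 (h.trans (map_zero _).symm)
    · intro h
      show (aeval x) (map (residue R) p) = 0
      rw [h, map_zero]
  let A₁ := Localization.AtPrime 𝔭
  have hunit : ∀ y : 𝔭.primeCompl, IsUnit (ev₁.toRingHom y) := by
    intro y
    have : ev₁.toRingHom y ≠ 0 := fun h => y.2 h
    exact this.isUnit
  let ψ : A₁ →+* K := IsLocalization.lift (M := 𝔭.primeCompl) (g := ev₁.toRingHom) hunit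
  letI algK : Algebra A₁ K := ψ.toAlgebra
  have hψ : ∀ p : MvPolynomial ι R, ψ (algebraMap _ A₁ p) = ev₁ p := fun p =>
    IsLocalization.lift_eq hunit p
  have htower : IsScalarTower R A₁ K := by
    apply IsScalarTower.of_algebraMap_eq
    intro r
    show algebraMap R K r = ψ (algebraMap R A₁ r)
    rw [IsScalarTower.algebraMap_apply R (MvPolynomial ι R) A₁, hψ]
    simp [ev₁]
  have hker : RingHom.ker (algebraMap A₁ K) = maximalIdeal A₁ := by
    apply le_antisymm
    · apply IsLocalRing.le_maximalIdeal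
      exact RingHom.ker_ne_top _
    · rw [← Localization.AtPrime.map_eq_maximalIdeal, Ideal.map_le_iff_le_comap]
      intro p hp
      rw [Ideal.mem_comap, RingHom.mem_ker]
      show ψ (algebraMap _ A₁ p) = 0
      rw [hψ]
      exact hp
  have hmax : (maximalIdeal R).map (algebraMap R A₁) = maximalIdeal A₁ := by
    have e1 : Ideal.map (algebraMap (MvPolynomial ι R) A₁) 𝔭 =
        Ideal.map (algebraMap (MvPolynomial ι R) A₁) (Ideal.map C (maximalIdeal R)) :=
      congrArg (Ideal.map (algebraMap (MvPolynomial ι R) A₁)) h𝔭eq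
    rw [← Localization.AtPrime.map_eq_maximalIdeal, e1, Ideal.map_map]
    congr 1
  have hflat : Module.Flat R A₁ := by
    haveI : Module.Flat (MvPolynomial ι R) A₁ := IsLocalization.flat A₁ 𝔭.primeCompl
    exact Module.Flat.trans R (MvPolynomial ι R) A₁
  -- range facts
  have hrange_inv : ∀ c : K, c ∈ Set.range (algebraMap A₁ K) → c ≠ 0 →
      c⁻¹ ∈ Set.range (algebraMap A₁ K) := by
    rintro c ⟨u, rfl⟩ h0
    have hu : u ∉ maximalIdeal A₁ := by
      rw [← hker, RingHom.mem_ker]; exact h0
    have hu' : IsUnit u := by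
      by_contra h
      exact hu ((IsLocalRing.mem_maximalIdeal u).mpr h)
    obtain ⟨v, rfl⟩ := hu'
    refine ⟨((v⁻¹ : A₁ˣ) : A₁), ?_⟩
    rw [eq_comm, inv_eq_iff_eq_inv, ← map_units_inv]
    simp
  have hadj : ∀ b ∈ Algebra.adjoin (ResidueField R) (Set.range x),
      b ∈ Set.range (algebraMap A₁ K) := by
    intro b hb
    induction hb using Algebra.adjoin_induction with
    | mem y hy =>
      obtain ⟨i, rfl⟩ := hy
      exact ⟨algebraMap (MvPolynomial ι R) A₁ (X i), by
        show ψ (algebraMap (MvPolynomial ι R) A₁ (X i)) = x i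
        rw [hψ]; simp [ev₁]⟩
    | algebraMap c =>
      obtain ⟨r, rfl⟩ := residue_surjective c
      refine ⟨algebraMap R A₁ r, ?_⟩
      rw [← IsScalarTower.algebraMap_apply R A₁ K]
      exact IsScalarTower.algebraMap_apply R (ResidueField R) K r
    | add y z _ _ hy hz =>
      obtain ⟨u, rfl⟩ := hy
      obtain ⟨v, rfl⟩ := hz
      exact ⟨u + v, map_add _ _ _⟩
    | mul y z _ _ hy hz =>
      obtain ⟨u, rfl⟩ := hy
      obtain ⟨v, rfl⟩ := hz
      exact ⟨u * v, map_mul _ _ _⟩
  have hint : Algebra.IsIntegral A₁ K := by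
    constructor
    intro y
    have halg := hx.isAlgebraic
    obtain ⟨q, hq0, hqy⟩ := (halg.isAlgebraic y)
    set q' : Polynomial K := q.map (algebraMap _ K) with hq'
    have hq'0 : q' ≠ 0 := by
      rw [hq', Polynomial.map_ne_zero_iff (Subtype.val_injective)]
      exact hq0
    have hq'y : q'.eval y = 0 := by
      rw [hq', Polynomial.eval_map, ← Polynomial.aeval_def]; exact hqy
    have hcoef : ∀ n, q'.coeff n ∈ Set.range (algebraMap A₁ K) := by
      intro n
      rw [hq', Polynomial.coeff_map]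
      exact hadj _ (q.coeff n).2
    have hc0 : q'.leadingCoeff ≠ 0 := Polynomial.leadingCoeff_ne_zero.mpr hq'0
    set p := Polynomial.C (q'.leadingCoeff)⁻¹ * q' with hp
    have hpm : p.Monic := by
      rw [hp, Polynomial.Monic, Polynomial.leadingCoeff_mul, Polynomial.leadingCoeff_C]
      exact inv_mul_cancel₀ hc0
    have hplift : p ∈ Polynomial.lifts (algebraMap A₁ K) := by
      rw [Polynomial.lifts_iff_coeff_lifts]
      intro n
      rw [hp, Polynomial.coeff_C_mul]
      obtain ⟨u, hu⟩ := hrange_inv _ (hcoef _) hc0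
      obtain ⟨v, hv⟩ := hcoef n
      exact ⟨u * v, by rw [map_mul, hu, hv]; rfl⟩
    obtain ⟨g, hg1, _, hg3⟩ := Polynomial.lifts_and_degree_eq_and_monic hplift hpm
    refine ⟨g, hg3, ?_⟩
    rw [← Polynomial.eval_map, hg1, hp, Polynomial.eval_mul, hq'y, mul_zero]
  exact ⟨A₁, inferInstance, inferInstance, inferInstance, algK, htower, hflat, hmax, hker, hint⟩


/-- Let `(R, 𝔪, k)` be a local ring and `K/k` a field extension. Then there is a flat local homomorphism
of local rings `R → R'` with `𝔪R' = 𝔪_{R'}` whose residue field is isomorphic to `K` over `k`. -/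
theorem result {R K : Type u} [CommRing R] [IsLocalRing R] [Field K]
    [Algebra (IsLocalRing.ResidueField R) K] :
    ∃ (R' : Type u) (_ : CommRing R') (_ : IsLocalRing R') (_ : Algebra R R') (_ : IsLocalHom (algebraMap R R')),
      Module.Flat R R' ∧ (IsLocalRing.maximalIdeal R).map (algebraMap R R') = IsLocalRing.maximalIdeal R' ∧
      Nonempty (IsLocalRing.ResidueField R' ≃ₐ[IsLocalRing.ResidueField R] K) := by
  letI algRK : Algebra R K := ((algebraMap (ResidueField R) K).comp (residue R)).toAlgebra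
  haveI : IsScalarTower R (ResidueField R) K := IsScalarTower.of_algebraMap_eq (fun r => rfl)
  obtain ⟨A₁, _, _, _, _, _, hflat₁, hmax₁, hker₁, hint₁⟩ := stage1 R K
  obtain ⟨A', _, _, φ, hflat', hsurj, hkerφ, hint'⟩ :=
    exists_flat_integral_extension A₁ K (maximalIdeal A₁) hker₁
  letI algRA' : Algebra R A' := ((algebraMap A₁ A').comp (algebraMap R A₁)).toAlgebra
  haveI : IsScalarTower R A₁ A' := IsScalarTower.of_algebraMap_eq (fun r => rfl)
  have hmaxA' : (Ideal.map (algebraMap A₁ A') (maximalIdeal A₁)).IsMaximal := by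
    rw [← hkerφ]; exact RingHom.ker_isMaximal_of_surjective φ.toRingHom hsurj
  have hlocal : IsLocalRing A' := by
    apply IsLocalRing.of_unique_max_ideal
    refine ⟨_, hmaxA', ?_⟩
    intro N hN
    have hNc : (N.comap (algebraMap A₁ A')).IsMaximal :=
      Ideal.isMaximal_comap_of_isIntegral_of_isMaximal N
    have h1 : N.comap (algebraMap A₁ A') = maximalIdeal A₁ := IsLocalRing.eq_maximalIdeal hNc
    have h2 : Ideal.map (algebraMap A₁ A') (maximalIdeal A₁) ≤ N := by
      rw [← h1]; exact Ideal.map_comap_le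
    exact (hmaxA'.eq_of_le hN.ne_top h2).symm
  have hmaxeq : Ideal.map (algebraMap A₁ A') (maximalIdeal A₁) = maximalIdeal A' :=
    IsLocalRing.eq_maximalIdeal hmaxA'
  have hmR : (maximalIdeal R).map (algebraMap R A') = maximalIdeal A' := by
    rw [← hmaxeq, ← hmax₁, Ideal.map_map]
    rfl
  have hloc : IsLocalHom (algebraMap R A') := by
    constructor
    intro r hr
    by_contra hnu
    have h1 : r ∈ maximalIdeal R := (IsLocalRing.mem_maximalIdeal r).mpr hnu
    have h2 : algebraMap R A' r ∈ maximalIdeal A' := by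
      rw [← hmR]; exact Ideal.mem_map_of_mem _ h1
    exact (IsLocalRing.mem_maximalIdeal _).mp h2 hr
  have hflat : Module.Flat R A' := Module.Flat.trans R A₁ A'
  refine ⟨A', inferInstance, hlocal, algRA', hloc, hflat, hmR, ?_⟩
  have hkerφ' : RingHom.ker φ.toRingHom = maximalIdeal A' := by rw [hkerφ, hmaxeq]
  let e : (A' ⧸ maximalIdeal A') ≃+* K :=
    (Ideal.quotEquivOfEq hkerφ'.symm).trans (RingHom.quotientKerEquivOfSurjective hsurj)
  have he : ∀ a : A', e (Ideal.Quotient.mk _ a) = φ a := fun a => rfl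
  refine ⟨AlgEquiv.ofRingEquiv (f := (e : ResidueField A' ≃+* K)) ?_⟩
  intro c
  obtain ⟨r, rfl⟩ := residue_surjective c
  have h1 : algebraMap (ResidueField R) (ResidueField A') (residue R r) =
      residue A' (algebraMap R A' r) := rfl
  rw [h1]
  show e (Ideal.Quotient.mk _ (algebraMap R A' r)) = _
  rw [he]
  show φ (algebraMap A₁ A' (algebraMap R A₁ r)) = _
  rw [φ.commutes, ← IsScalarTower.algebraMap_apply R A₁ K]
  rfl

end Groth.Agent.S2088
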