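import Groth.Statements.S2096
import Groth.Agent.Lib.Helper3IndEtField
import Groth.Agent.S0733
import Mathlib

set_option autoImplicit false
universe u
open CAlg

namespace Groth.Agent.S2096

open scoped TensorProduct
open Groth.Agent.Lib.Helper3.IndEt

/-- Let `B` be a Noetherian ind-étale `A`-algebra (a filtered colimit of étale algebras) and `𝔭` a prime
of `A`. Then only finitely many primes of `B` lie over `𝔭`, the fibre ring `B ⊗ κ(𝔭)` is reduced of
dimension zero, and each residue field extension `κ(𝔮)/κ(𝔭)` is separable algebraic. -/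
theorem result {A B : Type u} [CommRing A] [CommRing B] [Algebra A B] (hB : EtPBC.IsIndEtale A B)
    [IsNoetherianRing B] (p : Ideal A) [p.IsPrime] :
    {q : PrimeSpectrum B | q.asIdeal.LiesOver p}.Finite ∧ IsReduced (p.Fiber B) ∧ ringKrullDim (p.Fiber B) ≤ 0 ∧
      ∀ (q : Ideal B) [q.IsPrime] [q.LiesOver p],
        @Algebra.IsSeparable p.ResidueField q.ResidueField _ _
          (Ideal.ResidueField.mapₐ p q (Algebra.ofId A B) (q.over_def p)).toRingHom.toAlgebra := by
  classical
  have hF : EtPBC.IsIndEtale p.ResidueField (p.ResidueField ⊗[A] B) :=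
    Groth.Agent.S0733.result A B p.ResidueField hB
  have H : Obj.Factor p.ResidueField (p.Fiber B) := factor_of_isIndEtale hF
  have hred : IsReduced (p.Fiber B) := isReduced_of_factor_field H
  haveI hint : Algebra.IsIntegral p.ResidueField (p.Fiber B) := isIntegral_of_factor_field H
  haveI hdim : Ring.KrullDimLE 0 (p.Fiber B) := by
    rw [Ring.krullDimLE_zero_iff]
    intro P hP
    haveI : (P.comap (algebraMap p.ResidueField (p.Fiber B))).IsMaximal := by
      haveI : (P.comap (algebraMap p.ResidueField (p.Fiber B))).IsPrime := Ideal.comap_isPrime _ _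
      rw [Ideal.eq_bot_of_prime (P.comap (algebraMap p.ResidueField (p.Fiber B)))]
      exact Ideal.bot_isMaximal
    exact Ideal.isMaximal_of_isIntegral_of_isMaximal_comap (R := p.ResidueField) P this
  haveI hnoeth : IsNoetherianRing (p.Fiber B) := by
    letI : Algebra B (p.Fiber B) := Algebra.TensorProduct.rightAlgebra
    haveI : IsNoetherianRing (Localization (Algebra.algebraMapSubmonoid B p.primeCompl)) :=
      IsLocalization.isNoetherianRing (Algebra.algebraMapSubmonoid B p.primeCompl) _ inferInstance
    exact isNoetherianRing_of_ringEquiv _ (Ideal.Fiber.algEquivQuotient (S := B) p).symm.toRingEquiv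
  haveI hart : IsArtinianRing (p.Fiber B) := isArtinianRing_iff_krullDimLE_zero.mpr hdim
  haveI hfin : Finite (PrimeSpectrum (p.Fiber B)) := inferInstance
  haveI hfin2 : Finite (p.primesOver B) :=
    Finite.of_equiv _ (PrimeSpectrum.primesOverOrderIsoFiber A B p).symm.toEquiv
  refine ⟨?_, hred, Ring.krullDimLE_iff.mp hdim, ?_⟩
  · rw [← Set.finite_coe_iff]
    refine Finite.of_injective
      (fun q : {q : PrimeSpectrum B | q.asIdeal.LiesOver p} =>
        (⟨q.1.asIdeal, q.1.2, q.2⟩ : p.primesOver B)) ?_
    intro q1 q2 h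
    have := congr_arg Subtype.val h
    exact Subtype.ext (PrimeSpectrum.ext this)
  · intro q _ _
    letI : Algebra p.ResidueField q.ResidueField :=
      (Ideal.ResidueField.mapₐ p q (Algebra.ofId A B) (q.over_def p)).toRingHom.toAlgebra
    haveI : IsScalarTower A p.ResidueField q.ResidueField :=
      IsScalarTower.of_algebraMap_eq' (Ideal.ResidueField.mapₐ p q (Algebra.ofId A B) (q.over_def p)).comp_algebraMap.symm
    let θ : p.Fiber B →ₐ[p.ResidueField] q.ResidueField :=
      Algebra.TensorProduct.lift (Algebra.ofId _ _) (IsScalarTower.toAlgHom A B q.ResidueField)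
        (fun _ _ => Commute.all _ _)
    have hθ : ∀ b : B, θ (1 ⊗ₜ b) = algebraMap B q.ResidueField b := fun b => by
      simp [θ]
    show Algebra.IsSeparable p.ResidueField q.ResidueField
    refine ⟨fun y => ?_⟩
    obtain ⟨a, s, hs, rfl⟩ := IsFractionRing.div_surjective (A := B ⧸ q) y
    obtain ⟨a, rfl⟩ := Ideal.Quotient.mk_surjective a
    obtain ⟨s, rfl⟩ := Ideal.Quotient.mk_surjective s
    rw [Ideal.algebraMap_quotient_residueField_mk, Ideal.algebraMap_quotient_residueField_mk,
      ← hθ, ← hθ]
    have h1 := isSeparable_of_factor_field H θ (1 ⊗ₜ a)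
    have h2 := isSeparable_of_factor_field H θ (1 ⊗ₜ s)
    rw [← mem_separableClosure_iff] at h1 h2 ⊢
    exact div_mem h1 h2

end Groth.Agent.S2096
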