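import Groth.Statements.S2097
import Mathlib.RingTheory.Noetherian.Nilpotent

set_option autoImplicit false
universe u
open CAlg

namespace Groth.Agent.S2097

/-- Let `R → S` be smooth, `A` an `R`-algebra and `I ⊆ A` an ideal all of whose elements are nilpotent.
Every `R`-algebra map `S → A/I` lifts to an `R`-algebra map `S → A`. -/
theorem result {R S A : Type u} [CommRing R] [CommRing S] [Algebra R S] [Algebra.Smooth R S]
    [CommRing A] [Algebra R A] (I : Ideal A) (hI : ∀ x ∈ I, IsNilpotent x) (g : S →ₐ[R] A ⧸ I) :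
    ∃ f : S →ₐ[R] A, (Ideal.Quotient.mkₐ R I).comp f = g := by
  obtain ⟨n, π, hπ, hker⟩ := (inferInstance : Algebra.FinitePresentation R S).out
  have hmk : Function.Surjective (Ideal.Quotient.mk I) := Ideal.Quotient.mk_surjective
  choose a ha using fun i : Fin n => hmk (g (π (MvPolynomial.X i)))
  let φ : MvPolynomial (Fin n) R →ₐ[R] A := MvPolynomial.aeval a
  have hφ : (Ideal.Quotient.mkₐ R I).comp φ = g.comp π := by
    apply MvPolynomial.algHom_ext
    intro i
    simp [φ, ha]
  have hφ' : ∀ q, Ideal.Quotient.mk I (φ q) = g (π q) := fun q => AlgHom.congr_fun hφ q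
  set I' : Ideal A := (RingHom.ker π).map φ with hI'
  have hI'I : I' ≤ I := by
    rw [hI', Ideal.map_le_iff_le_comap]
    intro q hq
    rw [Ideal.mem_comap, ← Ideal.Quotient.eq_zero_iff_mem, hφ', (RingHom.mem_ker).mp hq, map_zero]
  have hI'fg : I'.FG := by
    rw [hI']
    exact Ideal.FG.map hker _
  have hI'nil : IsNilpotent I' :=
    (Ideal.FG.isNilpotent_iff_le_nilradical hI'fg).mpr
      (fun x hx => mem_nilradical.mpr (hI x (hI'I hx)))
  let e := Ideal.quotientKerAlgEquivOfSurjective hπ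
  let g0 : (MvPolynomial (Fin n) R ⧸ RingHom.ker π) →ₐ[R] A ⧸ I' :=
    Ideal.Quotient.liftₐ _ ((Ideal.Quotient.mkₐ R I').comp φ) (fun q hq => by
      simp only [AlgHom.comp_apply, Ideal.Quotient.mkₐ_eq_mk]
      exact Ideal.Quotient.eq_zero_iff_mem.mpr (Ideal.mem_map_of_mem _ hq))
  let g' : S →ₐ[R] A ⧸ I' := g0.comp e.symm.toAlgHom
  have hg' : ∀ q, g' (π q) = Ideal.Quotient.mk I' (φ q) := by
    intro q
    have : e.symm (π q) = Ideal.Quotient.mk _ q := by
      rw [AlgEquiv.symm_apply_eq]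
      rfl
    change g0 (e.symm (π q)) = _
    rw [this]
    rfl
  refine ⟨Algebra.FormallySmooth.lift I' hI'nil g', ?_⟩
  apply AlgHom.ext
  intro s
  obtain ⟨q, rfl⟩ := hπ s
  have h1 : Ideal.Quotient.mk I' (Algebra.FormallySmooth.lift I' hI'nil g' (π q)) =
      Ideal.Quotient.mk I' (φ q) := by
    rw [Algebra.FormallySmooth.mk_lift, hg']
  have h2 := hI'I (Ideal.Quotient.eq.mp h1)
  rw [← hφ']
  exact Ideal.Quotient.eq.mpr h2

end Groth.Agent.S2097
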