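import Groth.Statements.S7153
import Mathlib

set_option autoImplicit false
universe u
open CAlg

namespace Groth.Agent.S7153

section Helpers

/-- Artin–Rees in inclusion form -/
lemma artinRees {A : Type*} [CommRing A] [IsNoetherianRing A] (I : Ideal A) {L : Type*}
    [AddCommGroup L] [Module A L] [Module.Finite A L] (N : Submodule A L) :
    ∃ k : ℕ, ∀ n : ℕ, I ^ (n + k) • (⊤ : Submodule A L) ⊓ N ≤ I ^ n • N := by
  obtain ⟨k, hk⟩ := Ideal.exists_pow_inf_eq_pow_smul I N
  refine ⟨k, fun n => ?_⟩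
  rw [hk (n + k) (Nat.le_add_left k n), Nat.add_sub_cancel]
  exact Submodule.smul_mono le_rfl inf_le_right

end Helpers

/-- Let A be a Noetherian ring, I an ideal and K → L → M a complex of finite A-modules with maps α, β
and homology H = Ker β / Im α; for n ≥ 0 let H_n be the homology of the induced complex K/IⁿK →
L/IⁿL → M/IⁿM, which is β⁻¹(IⁿM)/(Im α + IⁿL). Then there is c > 0 such that for every n: (i) the
image of H_(n+c) → H_n is contained in, hence equal to, the image of H → H_n; (ii) the kernel and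
the cokernel of H/IⁿH → H_n are annihilated by I^c. Everything is phrased with representatives in L. -/
theorem result (A : Type u) [CommRing A] [IsNoetherianRing A] (I : Ideal A)
    (K L M : Type u) [AddCommGroup K] [Module A K] [Module.Finite A K] [AddCommGroup L] [Module A L]
    [Module.Finite A L] [AddCommGroup M] [Module A M] [Module.Finite A M]
    (α : K →ₗ[A] L) (β : L →ₗ[A] M) (hαβ : β ∘ₗ α = 0) :
    ∃ c : ℕ, 0 < c ∧ ∀ n : ℕ,
      (∀ y ∈ (I ^ (n + c) • ⊤ : Submodule A M).comap β,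
        ∃ z ∈ LinearMap.ker β, y - z ∈ LinearMap.range α ⊔ (I ^ n • ⊤ : Submodule A L)) ∧
      (∀ z ∈ LinearMap.ker β, z ∈ LinearMap.range α ⊔ (I ^ n • ⊤ : Submodule A L) →
        ∀ a ∈ I ^ c, a • z ∈ LinearMap.range α ⊔ I ^ n • LinearMap.ker β) ∧
      (∀ y ∈ (I ^ n • ⊤ : Submodule A M).comap β, ∀ a ∈ I ^ c,
        ∃ z ∈ LinearMap.ker β, a • y - z ∈ LinearMap.range α ⊔ (I ^ n • ⊤ : Submodule A L)) := by
  obtain ⟨c₁, hc₁⟩ := artinRees I (LinearMap.range β)
  obtain ⟨c₂, hc₂⟩ := artinRees I (LinearMap.ker β)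
  have key : ∀ n : ℕ, ∀ y ∈ (I ^ (n + (c₁ + c₂ + 1)) • ⊤ : Submodule A M).comap β,
      ∃ z ∈ LinearMap.ker β, y - z ∈ LinearMap.range α ⊔ (I ^ n • ⊤ : Submodule A L) := by
    intro n y hy
    rw [Submodule.mem_comap] at hy
    have h1 : β y ∈ I ^ ((n + c₂ + 1) + c₁) • (⊤ : Submodule A M) ⊓ LinearMap.range β := by
      refine ⟨?_, ⟨y, rfl⟩⟩
      have : n + c₂ + 1 + c₁ = n + (c₁ + c₂ + 1) := by ring
      rw [this]
      exact hy
    have h2 := hc₁ _ h1
    rw [← Submodule.map_top, ← Submodule.map_smul''] at h2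
    obtain ⟨y', hy', hyy'⟩ := h2
    refine ⟨y - y', ?_, ?_⟩
    · rw [LinearMap.mem_ker, map_sub, hyy', sub_self]
    · rw [sub_sub_cancel]
      apply Submodule.mem_sup_right
      exact Submodule.smul_mono_left (Ideal.pow_le_pow_right (by omega)) hy'
  refine ⟨c₁ + c₂ + 1, by omega, fun n => ⟨key n, ?_, ?_⟩⟩
  · intro z hz hzs a ha
    obtain ⟨b, hb, l, hl, rfl⟩ := Submodule.mem_sup.1 hzs
    have hlker : l ∈ LinearMap.ker β := by
      obtain ⟨k, rfl⟩ := hb
      have h0 : β (α k) = 0 := LinearMap.congr_fun hαβ k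
      rw [LinearMap.mem_ker, map_add, h0, zero_add] at hz
      exact hz
    rw [smul_add]
    refine Submodule.add_mem_sup (Submodule.smul_mem _ a hb) ?_
    by_cases hn : c₂ ≤ n
    · have h1 : l ∈ I ^ ((n - c₂) + c₂) • (⊤ : Submodule A L) ⊓ LinearMap.ker β := by
        rw [Nat.sub_add_cancel hn]
        exact ⟨hl, hlker⟩
      have h2 := hc₂ _ h1
      have ha' : a ∈ I ^ c₂ := Ideal.pow_le_pow_right (by omega) ha
      have h3 := Submodule.smul_mem_smul ha' h2
      rw [← mul_smul, ← pow_add, Nat.add_sub_cancel' hn] at h3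
      exact h3
    · have ha' : a ∈ I ^ n := Ideal.pow_le_pow_right (by omega) ha
      exact Submodule.smul_mem_smul ha' hlker
  · intro y hy a ha
    apply key n (a • y)
    rw [Submodule.mem_comap] at hy ⊢
    rw [map_smul, add_comm, pow_add, mul_smul]
    exact Submodule.smul_mem_smul ha hy

end Groth.Agent.S7153
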