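import Groth.Statements.S2098
import Groth.Agent.S7153
import Mathlib

set_option autoImplicit false
universe u
open CAlg

namespace Groth.Agent.S2098

section Helpers

variable {R : Type u} [CommRing R] {N : Type u} [AddCommGroup N] [Module R N]

/-- elements of `J • Hom(F, N)` have values in `J N` -/
lemma apply_mem_of_mem_smul_top {F : Type*} [AddCommGroup F] [Module R F] (J : Ideal R)
    (w : F →ₗ[R] N) (hw : w ∈ J • (⊤ : Submodule R (F →ₗ[R] N))) (x : F) :
    w x ∈ J • (⊤ : Submodule R N) := by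
  have hle : J • (⊤ : Submodule R (F →ₗ[R] N)) ≤
      Submodule.comap (LinearMap.applyₗ x) (J • (⊤ : Submodule R N)) := by
    rw [Submodule.smul_le]
    intro r hr φ _
    rw [Submodule.mem_comap, map_smul]
    exact Submodule.smul_mem_smul hr trivial
  exact hle hw

/-- a vector with components in `J N` lies in `J • N^a` -/
lemma pi_mem_smul_top {a : ℕ} (J : Ideal R) (v : Fin a → N)
    (hv : ∀ i, v i ∈ J • (⊤ : Submodule R N)) : v ∈ J • (⊤ : Submodule R (Fin a → N)) := by
  have h1 : v = ∑ i, LinearMap.single R (fun _ : Fin a => N) i (v i) := by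
    ext j
    simp [Finset.sum_apply, Pi.single_apply]
  rw [h1]
  apply Submodule.sum_mem
  intro i _
  have h2 : Submodule.map (LinearMap.single R (fun _ : Fin a => N) i) (J • (⊤ : Submodule R N)) ≤
      J • (⊤ : Submodule R (Fin a → N)) := by
    rw [Submodule.map_smul'']
    exact Submodule.smul_mono le_rfl le_top
  exact h2 ⟨v i, hv i, rfl⟩

/-- a map out of `R^a` with values in `J N` lies in `J • Hom(R^a, N)` -/
lemma mem_smul_top_of_apply_mem {a : ℕ} (J : Ideal R) (φ : (Fin a → R) →ₗ[R] N)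
    (hφ : ∀ x, φ x ∈ J • (⊤ : Submodule R N)) :
    φ ∈ J • (⊤ : Submodule R ((Fin a → R) →ₗ[R] N)) := by
  let e := LinearEquiv.piRing R N (Fin a) R
  have h1 : e φ ∈ J • (⊤ : Submodule R (Fin a → N)) :=
    pi_mem_smul_top J _ (fun i => hφ _)
  have h2 : Submodule.map e.symm.toLinearMap (J • (⊤ : Submodule R (Fin a → N))) ≤
      J • (⊤ : Submodule R ((Fin a → R) →ₗ[R] N)) := by
    rw [Submodule.map_smul'']
    exact Submodule.smul_mono le_rfl le_top
  have h3 := h2 ⟨e φ, h1, rfl⟩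
  simpa using h3

end Helpers

/-- Let `R` be Noetherian, `I` an ideal inside the Jacobson radical and `u : N → M` a map of finite
`R`-modules. If for arbitrarily large `n` the induced map `N/IⁿN → M/IⁿM` has a left inverse, then
`u` has a left inverse. -/
theorem result {R M N : Type u} [CommRing R] [IsNoetherianRing R] (I : Ideal R)
    (hI : I ≤ (⊥ : Ideal R).jacobson) [AddCommGroup M] [Module R M] [Module.Finite R M] [AddCommGroup N] [Module R N]
    [Module.Finite R N] (u : N →ₗ[R] M)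
    (h : ∀ n₀ : ℕ, ∃ n, n₀ ≤ n ∧ ∃ s : (M ⧸ (I ^ n) • (⊤ : Submodule R M)) →ₗ[R] (N ⧸ (I ^ n) • (⊤ : Submodule R N)),
      ∀ x : N, s (Submodule.Quotient.mk (u x)) = Submodule.Quotient.mk x) :
    ∃ s : M →ₗ[R] N, s.comp u = LinearMap.id := by
  classical
  -- presentation of `M`
  obtain ⟨b, p, hp⟩ := Module.Finite.exists_fin' R M
  haveI : Module.Finite R (LinearMap.ker p) := Module.IsNoetherian.finite R _
  obtain ⟨a, q₀, hq₀⟩ := Module.Finite.exists_fin' R (LinearMap.ker p)
  let q : (Fin a → R) →ₗ[R] (Fin b → R) := (LinearMap.ker p).subtype ∘ₗ q₀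
  have hpq : ∀ w, p (q w) = 0 := fun w => (q₀ w).2
  have hex : ∀ x, p x = 0 → ∃ w, q w = x := by
    intro x hx
    obtain ⟨w, hw⟩ := hq₀ ⟨x, hx⟩
    exact ⟨w, congrArg Subtype.val hw⟩
  let α : (M →ₗ[R] N) →ₗ[R] ((Fin b → R) →ₗ[R] N) := LinearMap.lcomp R N p
  let β : ((Fin b → R) →ₗ[R] N) →ₗ[R] ((Fin a → R) →ₗ[R] N) := LinearMap.lcomp R N q
  have hαβ : β ∘ₗ α = 0 := by
    ext φ w
    show φ (p (q (Pi.single w 1))) = 0
    rw [hpq, map_zero]
  have hker : ∀ y, β y = 0 → ∃ φ, α φ = y := by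
    intro y hy
    have hle : LinearMap.ker p ≤ LinearMap.ker y := by
      intro x hx
      obtain ⟨w, rfl⟩ := hex x hx
      exact LinearMap.congr_fun hy w
    refine ⟨((LinearMap.ker p).liftQ y hle) ∘ₗ (p.quotKerEquivOfSurjective hp).symm.toLinearMap, ?_⟩
    ext x
    simp [α, LinearMap.quotKerEquivOfSurjective_symm_apply]
  haveI : Module.Finite R (M →ₗ[R] N) := Module.IsNoetherian.finite R _
  haveI : Module.Finite R ((Fin b → R) →ₗ[R] N) := Module.IsNoetherian.finite R _
  haveI : Module.Finite R ((Fin a → R) →ₗ[R] N) := Module.IsNoetherian.finite R _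
  obtain ⟨c, hc0, hc⟩ := Groth.Agent.S7153.result R I _ _ _ α β hαβ
  obtain ⟨n, hn, s, hs⟩ := h (c + 1)
  obtain ⟨n', rfl⟩ : ∃ n', n = n' + c := ⟨n - c, by omega⟩
  have hn' : 1 ≤ n' := by omega
  -- lift the splitting to `y : R^b → N`
  obtain ⟨y, hy⟩ := Module.projective_lifting_property
    ((I ^ (n' + c) • (⊤ : Submodule R N)).mkQ)
    (s ∘ₗ (I ^ (n' + c) • (⊤ : Submodule R M)).mkQ ∘ₗ p) (Submodule.mkQ_surjective _)
  have hy' : ∀ x, Submodule.Quotient.mk (p := I ^ (n' + c) • (⊤ : Submodule R N)) (y x) =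
      s (Submodule.Quotient.mk (p x)) := fun x => LinearMap.congr_fun hy x
  have hβy : y ∈ (I ^ (n' + c) • ⊤ : Submodule R ((Fin a → R) →ₗ[R] N)).comap β := by
    rw [Submodule.mem_comap]
    apply mem_smul_top_of_apply_mem
    intro w
    show y (q w) ∈ _
    rw [← Submodule.Quotient.mk_eq_zero, hy', hpq]
    simp
  obtain ⟨z, hz, hyz⟩ := (hc n').1 y hβy
  obtain ⟨φ, rfl⟩ := hker z hz
  obtain ⟨t, ⟨φ₁, rfl⟩, w, hw, htw⟩ := Submodule.mem_sup.1 hyz
  -- `φ' = φ + φ₁` approximates `y`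
  let φ' : M →ₗ[R] N := φ + φ₁
  have hφ' : ∀ x, y x - φ' (p x) ∈ I ^ n' • (⊤ : Submodule R N) := by
    intro x
    have h1 : y x - φ' (p x) = w x := by
      have := LinearMap.congr_fun htw x
      simp only [LinearMap.add_apply, LinearMap.sub_apply, α, LinearMap.lcomp_apply] at this
      simp only [φ', LinearMap.add_apply]
      have h0 : w x = y x - φ (p x) - φ₁ (p x) := by rw [← this]; abel
      rw [h0]; abel
    rw [h1]
    exact apply_mem_of_mem_smul_top _ w hw x
  -- `ψ = φ' ∘ u` is congruent to the identity mod `I N`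
  let ψ : N →ₗ[R] N := φ' ∘ₗ u
  have hψ : ∀ x, ψ x - x ∈ I • (⊤ : Submodule R N) := by
    intro x
    obtain ⟨v, hv⟩ := hp (u x)
    have h1 : y v - x ∈ I ^ (n' + c) • (⊤ : Submodule R N) := by
      rw [← Submodule.Quotient.mk_eq_zero, Submodule.Quotient.mk_sub, hy', hv, hs, sub_self]
    have h2 : ψ x - x = (y v - x) - (y v - φ' (p v)) := by
      show φ' (u x) - x = _
      rw [hv]; abel
    rw [h2]
    have hle1 : I ^ (n' + c) • (⊤ : Submodule R N) ≤ I • ⊤ :=
      Submodule.smul_mono_left (Ideal.pow_le_self (by omega))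
    have hle2 : I ^ n' • (⊤ : Submodule R N) ≤ I • ⊤ :=
      Submodule.smul_mono_left (Ideal.pow_le_self (by omega))
    exact Submodule.sub_mem _ (hle1 h1) (hle2 (hφ' v))
  have hψsurj : Function.Surjective ψ := by
    rw [← LinearMap.range_eq_top, eq_top_iff]
    apply Submodule.le_of_le_smul_of_le_jacobson_bot Module.Finite.fg_top hI
    intro x _
    have : x = ψ x + (x - ψ x) := by abel
    rw [this]
    refine Submodule.add_mem_sup ⟨x, rfl⟩ ?_
    rw [← neg_sub]
    exact Submodule.neg_mem _ (hψ x)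
  have hψinj : Function.Injective ψ :=
    OrzechProperty.injective_of_surjective_endomorphism ψ hψsurj
  let e : N ≃ₗ[R] N := LinearEquiv.ofBijective ψ ⟨hψinj, hψsurj⟩
  refine ⟨e.symm.toLinearMap ∘ₗ φ', ?_⟩
  ext x
  show e.symm (φ' (u x)) = x
  exact e.symm_apply_apply x

end Groth.Agent.S2098
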