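import Groth.Statements.S2101
import Mathlib
-- import your own Groth.Agent.* helpers here

set_option autoImplicit false
universe u
open CAlg

namespace Groth.Agent.S2101

open RingTheory.Sequence

section W
variable {A : Type u} [CommRing A] {r : ℕ} (u : Fin r → A)

theorem ofList_take_ofFn (k : ℕ) :
    Ideal.ofList ((List.ofFn u).take k) = Ideal.span (u '' {i | (i : ℕ) < k}) := by
  unfold Ideal.ofList
  congr 1
  ext x
  simp only [Set.mem_setOf_eq, Set.mem_image]
  rw [List.mem_take_iff_getElem]
  constructor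
  · rintro ⟨j, hj, rfl⟩
    rw [List.length_ofFn] at hj
    refine ⟨⟨j, (lt_min_iff.mp hj).2⟩, (lt_min_iff.mp hj).1, ?_⟩
    rw [List.getElem_ofFn]
  · rintro ⟨i, hi, rfl⟩
    refine ⟨i, ?_, ?_⟩
    · rw [List.length_ofFn]
      exact lt_min hi i.2
    · rw [List.getElem_ofFn]

theorem weaklyRegular_ofFn_iff :
    IsWeaklyRegular A (List.ofFn u) ↔ ∀ (k : Fin r) (a : A),
      u k * a ∈ Ideal.span (u '' {i | i < k}) → a ∈ Ideal.span (u '' {i | i < k}) := by
  rw [isWeaklyRegular_iff]
  constructor
  · intro h k a ha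
    have hk : (k : ℕ) < (List.ofFn u).length := by rw [List.length_ofFn]; exact k.2
    have := (isSMulRegular_quotient_iff_mem_of_smul_mem _ _).mp (h k hk) a
    rw [ofList_take_ofFn, smul_eq_mul, Ideal.mul_top, List.getElem_ofFn, smul_eq_mul] at this
    exact this ha
  · intro h i hi
    have hi' : i < r := by rwa [List.length_ofFn] at hi
    rw [isSMulRegular_quotient_iff_mem_of_smul_mem]
    intro a ha
    rw [ofList_take_ofFn, smul_eq_mul, Ideal.mul_top] at ha ⊢
    rw [List.getElem_ofFn, smul_eq_mul] at ha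
    exact h ⟨i, hi'⟩ a ha

end W

section Mon
open MvPolynomial
variable {R : Type u} [CommRing R] {r : ℕ} (f : Fin r → R)

/-- the coefficient ideal attached to an exponent `α` and a set `K` of indices. -/
def cI (K : Set (Fin r)) (α : Fin r →₀ ℕ) : Ideal R :=
  Ideal.span (f '' {i | i ∈ K ∧ α i ≠ 0})

theorem cI_mono (K : Set (Fin r)) {α β : Fin r →₀ ℕ} (h : α ≤ β) : cI f K α ≤ cI f K β := by
  apply Ideal.span_mono
  apply Set.image_mono
  rintro i ⟨hi, hα⟩
  refine ⟨hi, ?_⟩
  have := h i
  omega

/-- membership in the monomial ideal `(f_i x_i : i ∈ K)`. -/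
theorem mem_span_mul_X_iff (K : Set (Fin r)) (h : MvPolynomial (Fin r) R) :
    h ∈ Ideal.span ((fun i => C (f i) * X i) '' K) ↔ ∀ α, coeff α h ∈ cI f K α := by
  constructor
  · intro hh
    refine Submodule.span_induction ?_ ?_ ?_ ?_ hh
    · rintro _ ⟨i, hi, rfl⟩ α
      rw [coeff_C_mul, coeff_X']
      split_ifs with hα
      · rw [mul_one]
        apply Ideal.subset_span
        refine ⟨i, ⟨hi, ?_⟩, rfl⟩
        rw [← hα]
        simp
      · rw [mul_zero]
        exact Ideal.zero_mem _
    · intro α
      rw [coeff_zero]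
      exact Ideal.zero_mem _
    · intro x y _ _ hx hy α
      rw [coeff_add]
      exact Ideal.add_mem _ (hx α) (hy α)
    · intro a x _ hx α
      rw [smul_eq_mul, coeff_mul]
      apply Ideal.sum_mem
      rintro ⟨β, γ⟩ hβγ
      have hβγ' : β + γ = α := Finset.HasAntidiagonal.mem_antidiagonal.mp hβγ
      apply Ideal.mul_mem_left
      apply cI_mono f K _ (hx γ)
      rw [← hβγ']
      exact le_add_self
  · intro hh
    rw [h.as_sum]
    apply Ideal.sum_mem
    intro α _
    have hα := hh α
    -- generalize the coefficient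
    generalize coeff α h = c at hα
    unfold cI at hα
    refine Submodule.span_induction ?_ ?_ ?_ ?_ hα
    · rintro _ ⟨i, ⟨hi, hαi⟩, rfl⟩
      have hexp : (α - Finsupp.single i 1) + Finsupp.single i 1 = α := by
        ext j
        by_cases hj : j = i
        · subst hj
          simp only [Finsupp.coe_add, Finsupp.coe_tsub, Pi.add_apply, Pi.sub_apply,
            Finsupp.single_eq_same]
          omega
        · simp [Finsupp.single_eq_of_ne hj]
      have : monomial α (f i) = monomial (α - Finsupp.single i 1) 1 * (C (f i) * X i) := by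
        rw [C_mul_X_eq_monomial, monomial_mul, one_mul, hexp]
      rw [this]
      exact Ideal.mul_mem_left _ _ (Ideal.subset_span ⟨i, hi, rfl⟩)
    · rw [map_zero]
      exact Ideal.zero_mem _
    · intro x y _ _ hx hy
      rw [map_add]
      exact Ideal.add_mem _ hx hy
    · intro a x _ hx
      rw [smul_eq_mul, ← C_mul_monomial]
      exact Ideal.mul_mem_left _ _ hx

end Mon

section Star
open MvPolynomial
variable {R : Type u} [CommRing R] {r : ℕ} (f : Fin r → R)

/-- `f j` is a nonzerodivisor modulo `(f i : i ∈ T)`. -/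
def NZD (T : Set (Fin r)) (j : Fin r) : Prop :=
  ∀ a, f j * a ∈ Ideal.span (f '' T) → a ∈ Ideal.span (f '' T)

theorem cI_add_single (k : Fin r) (β : Fin r →₀ ℕ) :
    cI f {i | i < k} (β + Finsupp.single k 1) = cI f {i | i < k} β := by
  unfold cI
  congr 2
  ext i
  simp only [Set.mem_setOf_eq, Finsupp.coe_add, Pi.add_apply]
  constructor
  · rintro ⟨hi, h⟩
    refine ⟨hi, ?_⟩
    rw [Finsupp.single_eq_of_ne (ne_of_lt hi), add_zero] at h
    exact h
  · rintro ⟨hi, h⟩
    refine ⟨hi, ?_⟩
    rw [Finsupp.single_eq_of_ne (ne_of_lt hi), add_zero]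
    exact h

theorem weaklyRegular_mul_X_iff :
    IsWeaklyRegular (MvPolynomial (Fin r) R) (List.ofFn fun i => C (f i) * X i) ↔
      ∀ (k : Fin r) (T : Set (Fin r)), T ⊆ {i | i < k} → NZD f T k := by
  classical
  rw [weaklyRegular_ofFn_iff]
  constructor
  · intro H k T hT a ha
    obtain ⟨β, hβ⟩ : ∃ β : Fin r →₀ ℕ, ∀ i, β i = if i ∈ T then 1 else 0 :=
      ⟨Finsupp.equivFunOnFinite.symm (fun i => if i ∈ T then 1 else 0), fun i => rfl⟩
    have hTβ : {i | i ∈ {i | i < k} ∧ β i ≠ 0} = T := by
      ext i
      simp only [Set.mem_setOf_eq, hβ]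
      constructor
      · rintro ⟨_, h⟩
        by_contra hi
        rw [if_neg hi] at h
        exact h rfl
      · intro hi
        refine ⟨hT hi, ?_⟩
        rw [if_pos hi]
        exact one_ne_zero
    have hcI : cI f {i | i < k} β = Ideal.span (f '' T) := by
      unfold cI
      rw [hTβ]
    have hprod : C (f k) * X k * monomial β a = monomial (β + Finsupp.single k 1) (f k * a) := by
      rw [C_mul_X_eq_monomial, monomial_mul, add_comm]
    have h1 : C (f k) * X k * monomial β a ∈
        Ideal.span ((fun i => C (f i) * X i) '' {i | i < k}) := by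
      rw [mem_span_mul_X_iff, hprod]
      intro α
      rw [coeff_monomial]
      split_ifs with hα
      · rw [← hα, cI_add_single, hcI]
        exact ha
      · exact Ideal.zero_mem _
    have h2 := H k _ h1
    rw [mem_span_mul_X_iff] at h2
    have h3 := h2 β
    rw [coeff_monomial, if_pos rfl, hcI] at h3
    exact h3
  · intro H k h hh
    rw [mem_span_mul_X_iff] at hh ⊢
    intro β
    have h1 := hh (β + Finsupp.single k 1)
    rw [mul_assoc, coeff_C_mul, add_comm β, coeff_X_mul, add_comm, cI_add_single] at h1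
    exact H k {i | i ∈ {i | i < k} ∧ β i ≠ 0} (fun i hi => hi.1) _ h1

end Star

section Swap
variable {R : Type u} [CommRing R]

theorem swap_nzd (S : Set R) (x y : R)
    (h1 : ∀ a, x * a ∈ Ideal.span S → a ∈ Ideal.span S)
    (h2 : ∀ b, y * b ∈ Ideal.span (insert x S) → b ∈ Ideal.span (insert x S)) :
    ∀ a, x * a ∈ Ideal.span (insert y S) → a ∈ Ideal.span (insert y S) := by
  intro a ha
  obtain ⟨c, u, hu, hxa⟩ := Ideal.mem_span_insert.mp ha
  have hyc : y * c ∈ Ideal.span (insert x S) := by
    rw [Ideal.mem_span_insert]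
    exact ⟨a, -u, Ideal.neg_mem_iff _ |>.mpr hu, by linear_combination -hxa⟩
  obtain ⟨d, u', hu', hc⟩ := Ideal.mem_span_insert.mp (h2 c hyc)
  have h3 : x * (a - d * y) ∈ Ideal.span S := by
    have : x * (a - d * y) = y * u' + u := by
      rw [hc] at hxa
      linear_combination hxa
    rw [this]
    exact Ideal.add_mem _ (Ideal.mul_mem_left _ _ hu') hu
  have h4 := h1 _ h3
  rw [Ideal.mem_span_insert]
  exact ⟨d, a - d * y, h4, by ring⟩

variable {r : ℕ} (f : Fin r → R)

theorem nzd_of_star (H : ∀ (k : Fin r) (T : Set (Fin r)), T ⊆ {i | i < k} → NZD f T k) :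
    ∀ (T : Finset (Fin r)) (j : Fin r), j ∉ T → NZD f (↑T : Set (Fin r)) j := by
  intro T
  induction T using Finset.strongInduction with
  | H T IH =>
    intro j hj
    by_cases hlt : ∀ i ∈ T, i < j
    · exact H j _ (fun i hi => hlt i hi)
    · push_neg at hlt
      obtain ⟨i, hiT, hij⟩ := hlt
      have hne : T.Nonempty := ⟨i, hiT⟩
      have hji : j < i := lt_of_le_of_ne hij (fun h => hj (h ▸ hiT))
      have hjk : j < T.max' hne := lt_of_lt_of_le hji (T.le_max' i hiT)
      have hkT : T.max' hne ∈ T := T.max'_mem hne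
      have hsub : T.erase (T.max' hne) ⊂ T := Finset.erase_ssubset hkT
      have hj' : j ∉ T.erase (T.max' hne) := fun h => hj (Finset.mem_of_mem_erase h)
      have hIH := IH _ hsub j hj'
      have hTeq : (↑T : Set (Fin r)) = insert (T.max' hne) (↑(T.erase (T.max' hne)) : Set (Fin r)) := by
        rw [← Finset.coe_insert, Finset.insert_erase hkT]
      have hstar := H (T.max' hne) (insert j (↑(T.erase (T.max' hne)) : Set (Fin r))) (by
        intro i hi
        rcases hi with rfl | hi
        · exact hjk
        · have hi' : i ∈ T.erase (T.max' hne) := hi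
          exact lt_of_le_of_ne (T.le_max' i (Finset.mem_of_mem_erase hi'))
            (Finset.ne_of_mem_erase hi'))
      unfold NZD at hIH hstar ⊢
      rw [hTeq, Set.image_insert_eq]
      rw [Set.image_insert_eq] at hstar
      exact swap_nzd _ _ _ hIH hstar

end Swap

section Perm
variable {R : Type u} [CommRing R] {r : ℕ} (f : Fin r → R)

theorem ofList_ofFn' {A : Type u} [CommRing A] (u : Fin r → A) :
    Ideal.ofList (List.ofFn u) = Ideal.span (Set.range u) := by
  unfold Ideal.ofList
  congr 1
  ext x
  simp [List.mem_ofFn]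

/-- a permutation listing `T` first and then `k`. -/
theorem exists_perm (T : Finset (Fin r)) (k : Fin r) (hk : k ∉ T) :
    ∃ (σ : Equiv.Perm (Fin r)) (n : Fin r), σ n = k ∧ σ '' {i | i < n} = (↑T : Set (Fin r)) := by
  classical
  have hcard : T.card < r := by
    have h1 : T.card < (Finset.univ : Finset (Fin r)).card :=
      Finset.card_lt_card ⟨Finset.subset_univ _, fun h => hk (h (Finset.mem_univ k))⟩
    simpa using h1
  obtain ⟨n, hn_def⟩ : ∃ n : Fin r, (n : ℕ) = T.card := ⟨⟨T.card, hcard⟩, rfl⟩
  obtain ⟨σ₁, hσ₁⟩ := Equiv.Perm.exists_map_finset_eq (Finset.Iio n) T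
    (by rw [Fin.card_Iio, hn_def])
  have hmem : ∀ i, i < n → σ₁ i ∈ T := by
    intro i hi
    rw [← hσ₁]
    exact Finset.mem_map_of_mem _ (Finset.mem_Iio.mpr hi)
  have hn : σ₁ n ∉ T := by
    intro h
    rw [← hσ₁, Finset.mem_map] at h
    obtain ⟨i, hi, hi'⟩ := h
    have := σ₁.injective hi'
    rw [this] at hi
    exact (lt_irrefl _ (Finset.mem_Iio.mp hi))
  have hfix : ∀ i, i < n → Equiv.swap (σ₁ n) k (σ₁ i) = σ₁ i := by
    intro i hi
    have hi' := hmem i hi
    apply Equiv.swap_apply_of_ne_of_ne
    · intro h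
      rw [h] at hi'
      exact hn hi'
    · intro h
      rw [h] at hi'
      exact hk hi'
  refine ⟨σ₁.trans (Equiv.swap (σ₁ n) k), n, ?_, ?_⟩
  · rw [Equiv.trans_apply, Equiv.swap_apply_left]
  · ext x
    constructor
    · rintro ⟨i, hi, rfl⟩
      rw [Equiv.trans_apply, hfix i hi]
      exact hmem i hi
    · intro hx
      have hx' : x ∈ T := hx
      rw [← hσ₁, Finset.mem_map] at hx'
      obtain ⟨i, hi, rfl⟩ := hx'
      refine ⟨i, Finset.mem_Iio.mp hi, ?_⟩
      rw [Equiv.trans_apply]
      exact hfix i (Finset.mem_Iio.mp hi)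

end Perm


/-- For elements `f_1, …, f_r` generating a proper ideal, all reorderings are regular sequences in `R`
if and only if the products `f_i x_i` form a regular sequence in `R[x_1, …, x_r]`. -/
theorem result {R : Type u} [CommRing R] {r : ℕ} (f : Fin r → R)
    (hf : Ideal.span (Set.range f) ≠ ⊤) :
    (∀ σ : Equiv.Perm (Fin r), RingTheory.Sequence.IsRegular R (List.ofFn (f ∘ σ))) ↔
      RingTheory.Sequence.IsRegular (MvPolynomial (Fin r) R)
        (List.ofFn fun i => MvPolynomial.C (f i) * MvPolynomial.X i) := by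
  classical
  constructor
  · intro H
    refine ⟨?_, ?_⟩
    · rw [weaklyRegular_mul_X_iff]
      intro k T hT a ha
      have hkT : k ∉ T.toFinset := by
        intro h
        exact lt_irrefl k (hT (Set.mem_toFinset.mp h))
      obtain ⟨σ, n, hσn, hσT⟩ := exists_perm T.toFinset k hkT
      have hw := (H σ).toIsWeaklyRegular
      rw [weaklyRegular_ofFn_iff] at hw
      have himg : (f ∘ σ) '' {i | i < n} = f '' T := by
        rw [Set.image_comp, hσT, Set.coe_toFinset]
      have := hw n a
      rw [himg, Function.comp_apply, hσn] at this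
      exact this ha
    · intro htop
      have h1 : (1 : MvPolynomial (Fin r) R) ∈
          (Ideal.ofList (List.ofFn fun i => MvPolynomial.C (f i) * MvPolynomial.X i) • ⊤ :
            Submodule (MvPolynomial (Fin r) R) (MvPolynomial (Fin r) R)) := by
        rw [← htop]
        trivial
      rw [smul_eq_mul, Ideal.mul_top, ofList_ofFn', ← Set.image_univ, mem_span_mul_X_iff] at h1
      have h2 := h1 0
      rw [MvPolynomial.coeff_one, if_pos rfl] at h2
      have h3 : cI f Set.univ (0 : Fin r →₀ ℕ) = ⊥ := by
        unfold cI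
        simp
      rw [h3, Ideal.mem_bot] at h2
      apply hf
      rw [Ideal.eq_top_iff_one, h2]
      exact Ideal.zero_mem _
  · intro H σ
    have star := (weaklyRegular_mul_X_iff f).mp H.toIsWeaklyRegular
    have ss := nzd_of_star f star
    refine ⟨?_, ?_⟩
    · rw [weaklyRegular_ofFn_iff]
      intro k a ha
      have hk : σ k ∉ (Finset.univ.filter (fun i => i < k)).image σ := by
        intro h
        rw [Finset.mem_image] at h
        obtain ⟨i, hi, hi'⟩ := h
        rw [σ.injective hi'] at hi
        exact lt_irrefl k (Finset.mem_filter.mp hi).2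
      have himg : (f ∘ σ) '' {i | i < k} =
          f '' (↑((Finset.univ.filter (fun i => i < k)).image σ) : Set (Fin r)) := by
        rw [Set.image_comp]
        congr 1
        ext x
        simp
      rw [himg] at ha ⊢
      exact ss _ (σ k) hk a ha
    · intro htop
      apply hf
      rw [smul_eq_mul, Ideal.mul_top, ofList_ofFn'] at htop
      have hr : Set.range (f ∘ σ) = Set.range f := by
        rw [Set.range_comp, Equiv.range_eq_univ, Set.image_univ]
      rw [hr] at htop
      exact htop.symm

end Groth.Agent.S2101
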