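import Groth.Statements.S2102
import Groth.Agent.Lib.Helper4NormIso

set_option autoImplicit false
set_option linter.style.haveILetI false
universe u
open CategoryTheory AlgebraicGeometry
open Mor

namespace Groth.Agent.S2102

/-- The ring of global sections of an integral normal scheme is an integrally closed domain. -/
theorem result (X : Scheme.{u}) [IsIntegral X] (hX : Pi1.IsNormalScheme X) :
    IsIntegrallyClosed (Γ(X, ⊤) : Type u) := by
  haveI hne : Nonempty (⊤ : X.Opens) := ⟨⟨Classical.arbitrary X, trivial⟩⟩
  have hinj : Function.Injective (algebraMap Γ(X, ⊤) X.functionField) :=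
    X.germToFunctionField_injective ⊤
  haveI : FaithfulSMul Γ(X, ⊤) X.functionField :=
    (faithfulSMul_iff_algebraMap_injective _ _).mpr hinj
  haveI : IsIntegrallyClosedIn Γ(X, ⊤) X.functionField := by
    rw [isIntegrallyClosedIn_iff]
    refine ⟨hinj, fun {x} hx => ?_⟩
    -- local sections over the nonempty affine opens
    have hloc : ∀ W : X.Opens, IsAffineOpen W → ∀ hW : Nonempty W,
        ∃ s : Γ(X, W), (X.germToFunctionField W).hom s = x := by
      intro W hWa hW
      haveI : IsDomain Γ(X, W) := IsIntegral.component_integral W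
      haveI := Groth.Agent.Lib.Helper4.NormIso.isIntegrallyClosed_sections hX W hWa
      haveI := functionField_isFractionRing_of_isAffineOpen X W hWa
      have hx' : IsIntegral Γ(X, W) x := by
        letI : Algebra Γ(X, ⊤) Γ(X, W) := (X.presheaf.map (homOfLE le_top).op).hom.toAlgebra
        haveI : IsScalarTower Γ(X, ⊤) Γ(X, W) X.functionField :=
          IsScalarTower.of_algebraMap_eq' (by
            simp only [RingHom.algebraMap_toAlgebra]
            rw [← CommRingCat.hom_comp, X.presheaf.germ_res])
        exact hx.tower_top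
      exact (IsIntegrallyClosed.isIntegral_iff (R := Γ(X, W)) (K := X.functionField)).mp hx'
    -- glue
    let ι := {W : X.affineOpens // Nonempty W.1}
    let U : ι → X.Opens := fun W => W.1.1
    choose! sf hsf using fun W : ι => hloc W.1.1 W.1.2 W.2
    have hcompat : TopCat.Presheaf.IsCompatible X.presheaf U sf := by
      intro i j
      by_cases hij : Nonempty (U i ⊓ U j : X.Opens)
      · apply X.germToFunctionField_injective (U i ⊓ U j)
        haveI := i.2
        haveI := j.2
        have h1 : (X.germToFunctionField (U i ⊓ U j)).hom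
            ((X.presheaf.map (TopologicalSpace.Opens.infLELeft (U i) (U j)).op).hom (sf i)) =
            (X.germToFunctionField (U i)).hom (sf i) := by
          rw [← CommRingCat.comp_apply, X.presheaf.germ_res]
        have h2 : (X.germToFunctionField (U i ⊓ U j)).hom
            ((X.presheaf.map (TopologicalSpace.Opens.infLERight (U i) (U j)).op).hom (sf j)) =
            (X.germToFunctionField (U j)).hom (sf j) := by
          rw [← CommRingCat.comp_apply, X.presheaf.germ_res]
        exact h1.trans ((hsf i).trans ((hsf j).symm.trans h2.symm))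
      · have h0 : U i ⊓ U j = ⊥ := by
          ext y
          simp only [TopologicalSpace.Opens.coe_bot, Set.mem_empty_iff_false, iff_false]
          exact fun hy => hij ⟨⟨y, hy⟩⟩
        haveI : Subsingleton Γ(X, U i ⊓ U j) := by
          rw [h0]; infer_instance
        exact Subsingleton.elim _ _
    have hcover : (⊤ : X.Opens) ≤ iSup U := by
      intro y _
      obtain ⟨_, ⟨W, hW, rfl⟩, hyW, -⟩ := X.isBasis_affineOpens.exists_subset_of_mem_open
        (Set.mem_univ y) isOpen_univ
      exact TopologicalSpace.Opens.mem_iSup.mpr ⟨⟨⟨W, hW⟩, ⟨⟨y, hyW⟩⟩⟩, hyW⟩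
    obtain ⟨s, hs, -⟩ := X.sheaf.existsUnique_gluing' U ⊤ (fun i => homOfLE le_top) hcover sf hcompat
    refine ⟨s, ?_⟩
    obtain ⟨_, ⟨W, hW, rfl⟩, hyW, -⟩ := X.isBasis_affineOpens.exists_subset_of_mem_open
      (Set.mem_univ (Classical.arbitrary X)) isOpen_univ
    let i : ι := ⟨⟨W, hW⟩, ⟨⟨_, hyW⟩⟩⟩
    haveI := i.2
    have h3 := hs i
    have h4 : (X.germToFunctionField W).hom
        ((X.presheaf.map (homOfLE le_top : W ⟶ ⊤).op).hom s) =
        (X.germToFunctionField ⊤).hom s :=
      X.presheaf.germ_res_apply (homOfLE le_top) _ _ s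
    exact h4.symm.trans ((congrArg (X.germToFunctionField W).hom h3).trans (hsf i))
  exact IsIntegrallyClosed.of_isIntegrallyClosedIn _ X.functionField

end Groth.Agent.S2102
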