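import Groth.Statements.S2106
import Groth.Agent.Lib.Helper3EFPTowerC
import Mathlib

set_option autoImplicit false
set_option linter.style.haveILetI false
universe u
open CAlg

namespace Groth.Agent.S2106

/-- Let `R → S → S'` be local homomorphisms of local rings with `S` and `S'` essentially of finite
presentation over `R`, and `M` a nonzero finitely presented `S'`-module which is flat over `R` and
such that `M/𝔪_R M` is flat over `S/𝔪_R S`. Then `S` is flat over `R` and `M` is flat over `S`. -/
theorem result {R S S' M : Type u} [CommRing R] [CommRing S] [CommRing S']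
    [IsLocalRing R] [IsLocalRing S] [IsLocalRing S'] [Algebra R S] [Algebra S S'] [Algebra R S'] [IsScalarTower R S S']
    [IsLocalHom (algebraMap R S)] [IsLocalHom (algebraMap S S')]
    (hS : CAlgX.IsEssFinitePresentation R S) (hS' : CAlgX.IsEssFinitePresentation R S')
    [AddCommGroup M] [Module S' M] [Module S M] [Module R M] [IsScalarTower S S' M] [IsScalarTower R S' M]
    [IsScalarTower R S M] [Module.FinitePresentation S' M] [Nontrivial M] [Module.Flat R M]
    (hfib : Module.Flat (S ⧸ (IsLocalRing.maximalIdeal R).map (algebraMap R S))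
      (M ⧸ (IsLocalRing.maximalIdeal R).map (algebraMap R S) • (⊤ : Submodule S M))) :
    Module.Flat R S ∧ Module.Flat S M := by
  obtain ⟨S₀, _, _, _, _, T, hfp, hloc⟩ := hS
  obtain ⟨S₁, _, _, _, _, T', hfp', hloc'⟩ := hS'
  let φ : S₀ →ₐ[R] S' := (IsScalarTower.toAlgHom R S S').comp (IsScalarTower.toAlgHom R S₀ S)
  obtain ⟨C, _, _, _, _, _, TC, hfpC, hlocC, hcomp⟩ :=
    Groth.Agent.Lib.Helper3.EFPTowerB.exists_fp_factor T' φ
  have hcomp' : (algebraMap C S').comp (algebraMap S₀ C) =
      (algebraMap S S').comp (algebraMap S₀ S) := by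
    rw [hcomp]
    rfl
  haveI : Module.Flat S M :=
    Groth.Agent.Lib.Helper3.EFPTowerC.flat_of_flat_fibre_ess_aux (R := R) (S₀ := S₀) (C := C)
      (S := S) (S' := S') (M := M) T TC hcomp' hfib
  haveI : Module.Finite S' M := inferInstance
  haveI : Module.FaithfullyFlat S M :=
    Groth.Agent.Lib.Helper3.FibModH.faithfullyFlat_of_flat_of_local (S := S) (S' := S') (N := M)
  exact ⟨Groth.Agent.Lib.Helper3.FibModH.flat_of_faithfullyFlat_module (R := R) (S := S) (N := M),
    inferInstance⟩

end Groth.Agent.S2106
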