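import Groth.Statements.S2111
import Mathlib
import Groth.Agent.Lib.Helper22AssHeightOne

set_option autoImplicit false
universe u
open CAlg

namespace Groth.Agent.S2111

/-- Let `R` be a Noetherian normal domain with fraction field `K`. An element of `K` which lies in `R_𝔭`
for every prime `𝔭` of height one lies in `R`. -/
theorem result {R : Type u} [CommRing R] [IsDomain R] [IsNoetherianRing R]
    [IsIntegrallyClosed R] (x : FractionRing R)
    (hx : ∀ (p : Ideal R) [p.IsPrime], p.height = 1 →
      x ∈ Set.range (algebraMap (Localization.AtPrime p) (FractionRing R))) :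
    x ∈ Set.range (algebraMap R (FractionRing R)) := by
  classical
  by_contra hcon
  obtain ⟨n, d, hd, rfl⟩ := IsFractionRing.div_surjective (A := R) x
  have hd0 : d ≠ 0 := nonZeroDivisors.ne_zero hd
  have hdK : algebraMap R (FractionRing R) d ≠ 0 := by
    rw [Ne, map_eq_zero_iff _ (IsFractionRing.injective R (FractionRing R))]; exact hd0
  -- n ∉ (d)
  have hnd : Ideal.Quotient.mk (Ideal.span {d}) n ≠ 0 := by
    intro h
    rw [Ideal.Quotient.eq_zero_iff_mem, Ideal.mem_span_singleton] at h
    obtain ⟨r, rfl⟩ := h
    apply hcon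
    refine ⟨r, ?_⟩
    rw [map_mul, mul_div_cancel_left₀ _ hdK]
  obtain ⟨P, hP, hle⟩ := exists_le_isAssociatedPrime_of_isNoetherianRing R
    (Ideal.Quotient.mk (Ideal.span {d}) n) hnd
  haveI : P.IsPrime := hP.isPrime
  have hht : P.height = 1 :=
    Groth.Agent.Lib.Helper22.AssHeightOne.height_eq_one_of_mem_associatedPrimes d hd0 P hP
  obtain ⟨y, hy⟩ := hx P hht
  obtain ⟨⟨c, s⟩, hcs⟩ := IsLocalization.surj P.primeCompl y
  have h1 : algebraMap R (FractionRing R) n / algebraMap R (FractionRing R) d *
      algebraMap R (FractionRing R) s = algebraMap R (FractionRing R) c := by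
    rw [← hy, IsScalarTower.algebraMap_apply R (Localization.AtPrime P) (FractionRing R) s,
      IsScalarTower.algebraMap_apply R (Localization.AtPrime P) (FractionRing R) c, ← map_mul]
    exact congrArg _ hcs
  have h2 : n * s = c * d := by
    apply IsFractionRing.injective R (FractionRing R)
    rw [map_mul, map_mul]
    rw [div_mul_eq_mul_div, div_eq_iff hdK] at h1
    exact h1
  have hsP : (s : R) ∈ P := by
    apply hle
    rw [Submodule.mem_colon_singleton, Submodule.mem_bot]
    change Ideal.Quotient.mk _ ((s : R) * n) = 0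
    rw [Ideal.Quotient.eq_zero_iff_mem, Ideal.mem_span_singleton]
    exact ⟨c, by rw [mul_comm, h2, mul_comm]⟩
  exact s.2 hsP

end Groth.Agent.S2111
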