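import Groth.Statements.S2112
import Groth.Agent.Lib.Helper14GeomIrr

set_option autoImplicit false
universe u
open CAlg

namespace Groth.Agent.S2112
open Groth.Agent.Lib.Helper14.GeomIrr

open TensorProduct in
/-- Let `k` be a separably closed field and `R`, `S` two `k`-algebras each having exactly one minimal
prime ideal. Then `R ⊗_k S` has exactly one minimal prime ideal. -/
theorem result {k R S : Type u} [Field k] [IsSepClosed k] [CommRing R] [CommRing S]
    [Algebra k R] [Algebra k S] (hR : CAlgX.HasUniqueMinimalPrime R) (hS : CAlgX.HasUniqueMinimalPrime S) :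
    CAlgX.HasUniqueMinimalPrime (R ⊗[k] S) := by
  have hS' : (nilradical S).IsPrime := exists_unique_minimalPrimes_iff.mp hS
  have hbij := bijOn_comap_minimalPrimes (k := k) (R := R) (S := S)
    (fun k' _ _ => isPrime_nilradical_tensor_of_isSepClosed (k := k) hS' k')
  obtain ⟨p, hp, hpu⟩ := hR
  obtain ⟨q, hq, hqp⟩ := hbij.surjOn hp
  refine ⟨q, hq, fun q' hq' => ?_⟩
  apply hbij.injOn hq' hq
  rw [hqp]; exact hpu _ (hbij.mapsTo hq')

end Groth.Agent.S2112
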