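import Groth.Statements.S3431
import Mathlib
import Groth.Agent.Lib.Helper10PunctJac
-- import your own Groth.Agent.* helpers here

set_option autoImplicit false
universe u
open EGA43

namespace Groth.Agent.S3431

/-- Let A be a Noetherian ring. Then A is a Jacobson ring if and only if there is no prime ideal p of A
such that A/p is semi-local (finitely many maximal ideals) of Krull dimension 1. -/
theorem result (A : Type u) [CommRing A] [IsNoetherianRing A] :
    IsJacobsonRing A ↔
      ∀ (p : Ideal A) [p.IsPrime], ¬ (Finite (MaximalSpectrum (A ⧸ p)) ∧ ringKrullDim (A ⧸ p) = 1) := by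
  classical
  constructor
  · intro hJ p hp ⟨hfin, hdim⟩
    -- B = A ⧸ p is a Jacobson domain with finitely many maximal ideals
    have hJB : IsJacobsonRing (A ⧸ p) := inferInstance
    have hbot : (⊥ : Ideal (A ⧸ p)).jacobson = ⊥ :=
      (isJacobsonRing_iff_prime_eq.mp hJB) ⊥ Ideal.isPrime_bot
    haveI : Fintype (MaximalSpectrum (A ⧸ p)) := Fintype.ofFinite _
    have hle : (Finset.univ : Finset (MaximalSpectrum (A ⧸ p))).inf (fun m => m.asIdeal) ≤ ⊥ := by
      rw [← hbot, Ideal.jacobson]
      refine le_sInf ?_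
      rintro J ⟨-, hJmax⟩
      exact Finset.inf_le (f := fun m : MaximalSpectrum (A ⧸ p) => m.asIdeal)
        (Finset.mem_univ (⟨J, hJmax⟩ : MaximalSpectrum (A ⧸ p)))
    rw [Ideal.IsPrime.inf_le' Ideal.isPrime_bot] at hle
    obtain ⟨m, -, hm⟩ := hle
    have hm0 : m.asIdeal = ⊥ := le_bot_iff.mp hm
    have hfield : IsField (A ⧸ p) := by
      rw [Ring.isField_iff_maximal_bot]
      exact hm0 ▸ m.isMaximal
    rw [ringKrullDim_eq_zero_of_isField hfield] at hdim
    exact zero_ne_one hdim
  · intro H
    rw [isJacobsonRing_iff_prime_eq]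
    by_contra hcon
    push Not at hcon
    let T : Set (Ideal A) := {P | P.IsPrime ∧ P.jacobson ≠ P}
    have hT : T.Nonempty := by
      obtain ⟨P, hP, hPJ⟩ := hcon
      exact ⟨P, hP, hPJ⟩
    obtain ⟨P, ⟨hPprime, hPJ⟩, hPmax⟩ :=
      (wellFounded_gt : WellFounded ((· > ·) : Ideal A → Ideal A → Prop)).has_min T hT
    haveI := hPprime
    -- element of the jacobson radical outside P
    have hlt : ¬ P.jacobson ≤ P := fun hle => hPJ (le_antisymm hle Ideal.le_jacobson)
    obtain ⟨a, haJ, haP⟩ := Set.not_subset.mp hlt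
    have hf : (Ideal.Quotient.mk P a) ≠ 0 := by
      rw [Ne, Ideal.Quotient.eq_zero_iff_mem]; exact haP
    have hall : ∀ q : Ideal (A ⧸ P), q.IsPrime → q ≠ ⊥ → Ideal.Quotient.mk P a ∈ q := by
      intro q hq hq0
      have hQprime : (q.comap (Ideal.Quotient.mk P)).IsPrime := Ideal.comap_isPrime _ q
      have hPQ : P ≤ q.comap (Ideal.Quotient.mk P) := by
        intro x hx
        rw [Ideal.mem_comap, Ideal.Quotient.eq_zero_iff_mem.mpr hx]
        exact q.zero_mem
      have hne : q.comap (Ideal.Quotient.mk P) ≠ P := by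
        intro heq
        apply hq0
        rw [← Ideal.map_comap_of_surjective _ Ideal.Quotient.mk_surjective q, heq,
          Ideal.map_quotient_self]
      have hgt : q.comap (Ideal.Quotient.mk P) > P := lt_of_le_of_ne hPQ (Ne.symm hne)
      have hQJ : (q.comap (Ideal.Quotient.mk P)).jacobson = q.comap (Ideal.Quotient.mk P) := by
        by_contra hne'
        exact hPmax _ ⟨hQprime, hne'⟩ hgt
      have : a ∈ (q.comap (Ideal.Quotient.mk P)).jacobson := Ideal.jacobson_mono hPQ haJ
      rw [hQJ] at this
      exact this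
    refine H P ⟨?_, ?_⟩
    · -- finitely many maximal ideals
      have hfin := Groth.Agent.Lib.Helper10.PunctJac.finite_primes_of_forall_mem hf hall
      haveI : Finite {q : Ideal (A ⧸ P) | q.IsPrime} := hfin
      exact Finite.of_injective
        (fun m : MaximalSpectrum (A ⧸ P) => (⟨m.asIdeal, m.isMaximal.isPrime⟩ :
          {q : Ideal (A ⧸ P) | q.IsPrime}))
        (fun m m' h => by
          have := congrArg Subtype.val h
          exact MaximalSpectrum.ext this)
    · apply le_antisymm
      · exact Groth.Agent.Lib.Helper10.PunctJac.ringKrullDim_le_one_of_forall_mem hf hall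
      · -- not a field
        have hPnotmax : ¬ P.IsMaximal := fun hmax =>
          hPJ (Ideal.jacobson_eq_self_of_isMaximal (I := P))
        obtain ⟨M, hM, hPM⟩ := Ideal.exists_le_maximal P hPprime.ne_top
        have hPM' : P ≠ M := fun h => hPnotmax (h ▸ hM)
        have hker : RingHom.ker (Ideal.Quotient.mk P) ≤ M := by
          rw [Ideal.mk_ker]; exact hPM
        haveI hMprime : (M.map (Ideal.Quotient.mk P)).IsPrime :=
          Ideal.map_isPrime_of_surjective Ideal.Quotient.mk_surjective hker
        have hM0 : M.map (Ideal.Quotient.mk P) ≠ ⊥ := by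
          intro h0
          rw [Ideal.map_eq_bot_iff_le_ker, Ideal.mk_ker] at h0
          exact hPM' (le_antisymm hPM h0)
        have h1 : (1 : ℕ∞) ≤ (M.map (Ideal.Quotient.mk P)).height := by
          rw [ENat.one_le_iff_ne_zero]
          intro h0
          exact hM0 (Ideal.height_eq_zero_iff_eq_bot.mp h0)
        calc (1 : WithBot ℕ∞) ≤ ((M.map (Ideal.Quotient.mk P)).height : WithBot ℕ∞) := by
              exact_mod_cast h1
          _ ≤ ringKrullDim (A ⧸ P) := Ideal.height_le_ringKrullDim_of_isPrime

end Groth.Agent.S3431
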