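import Groth.Statements.S2113
import Mathlib
import Groth.Agent.S3431
-- import your own Groth.Agent.* helpers here

set_option autoImplicit false
universe u
open CAlg

namespace Groth.Agent.S2113

/-- A Noetherian ring in which each prime is maximal or else lies below infinitely many primes is a
Jacobson ring. -/
theorem result {R : Type u} [CommRing R] [IsNoetherianRing R]
    (h : ∀ (p : Ideal R) [p.IsPrime], p.IsMaximal ∨ {q : PrimeSpectrum R | p ≤ q.asIdeal}.Infinite) :
    IsJacobsonRing R := by
  classical
  rw [Groth.Agent.S3431.result R]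
  intro p hp ⟨hfin, hdim⟩
  have hK : Ring.KrullDimLE 1 (R ⧸ p) := by
    rw [Ring.krullDimLE_iff, hdim]; rfl
  -- the set of primes above p is finite
  have hSfin : {q : PrimeSpectrum R | p ≤ q.asIdeal}.Finite := by
    have hfinrange : (Set.range (fun m : MaximalSpectrum (R ⧸ p) =>
        (⟨m.asIdeal.comap (Ideal.Quotient.mk p), Ideal.comap_isPrime _ _⟩ :
          PrimeSpectrum R))).Finite := Set.finite_range _
    refine (hfinrange.insert ⟨p, hp⟩).subset ?_
    intro q hq
    by_cases hqp : q.asIdeal = p
    · exact Or.inl (PrimeSpectrum.ext hqp)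
    · right
      have hker : RingHom.ker (Ideal.Quotient.mk p) ≤ q.asIdeal := by
        rw [Ideal.mk_ker]; exact hq
      have hqprime : (q.asIdeal.map (Ideal.Quotient.mk p)).IsPrime :=
        Ideal.map_isPrime_of_surjective Ideal.Quotient.mk_surjective hker
      have hq0 : q.asIdeal.map (Ideal.Quotient.mk p) ≠ ⊥ := by
        intro h0
        rw [Ideal.map_eq_bot_iff_le_ker, Ideal.mk_ker] at h0
        exact hqp (le_antisymm h0 hq)
      have hmax : (q.asIdeal.map (Ideal.Quotient.mk p)).IsMaximal :=
        Ideal.IsPrime.isMaximal_of_ne_bot hqprime hq0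
      refine ⟨⟨_, hmax⟩, ?_⟩
      apply PrimeSpectrum.ext
      show (q.asIdeal.map (Ideal.Quotient.mk p)).comap (Ideal.Quotient.mk p) = q.asIdeal
      rw [Ideal.comap_map_of_surjective _ Ideal.Quotient.mk_surjective,
        ← RingHom.ker_eq_comap_bot]
      exact sup_eq_left.mpr hker
  rcases h p with hmax | hinf
  · have hfield : IsField (R ⧸ p) := (Ideal.Quotient.maximal_ideal_iff_isField_quotient p).mp hmax
    rw [ringKrullDim_eq_zero_of_isField hfield] at hdim
    exact zero_ne_one hdim
  · exact hinf hSfin

end Groth.Agent.S2113
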