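import Groth.Statements.S2116
import Groth.Agent.Lib.Helper6RegSm2

set_option autoImplicit false
universe u
open CAlg

namespace Groth.Agent.S2116

/-- Let `k` be algebraically closed, `S` of finite type over `k` and `𝔪` a maximal ideal of `S`. Then
the local ring `S_𝔪` is regular if and only if `S` is smooth over `k` at `𝔪`. -/
theorem result {k S : Type u} [Field k] [IsAlgClosed k] [CommRing S] [Algebra k S]
    [Algebra.FiniteType k S] (m : Ideal S) [m.IsMaximal] :
    IsRegularLocalRing (Localization.AtPrime m) ↔ Algebra.IsSmoothAt k m := by
  haveI : Algebra.EssFiniteType k m.ResidueField := Algebra.EssFiniteType.comp k S m.ResidueField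
  haveI : Algebra.FormallySmooth k m.ResidueField := inferInstance
  exact (Groth.Agent.Lib.Helper6.RegSm.isSmoothAt_iff_isRegularLocalRing k S m).symm

end Groth.Agent.S2116
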