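import Groth.Statements.S2119
import Mathlib

set_option autoImplicit false
universe u
open CAlg

namespace Groth.Agent.S2119

section Dev
variable {A : Type u} [CommRing A] [IsDomain A] (P : Set A) (hP : ∀ p ∈ P, Prime p)

include hP in
theorem ne_zero_of_mem {s : A} (hs : s ∈ Submonoid.closure P) : s ≠ 0 := by
  induction hs using Submonoid.closure_induction with
  | mem x hx => exact (hP x hx).ne_zero
  | one => exact one_ne_zero
  | mul x y _ _ hx hy => exact mul_ne_zero hx hy

include hP in
/-- cancel: if no `p ∈ P` divides `a` and `s ∈ ⟨P⟩` divides `a x`, then `s ∣ x`. -/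
theorem dvd_of_dvd_mul {a : A} (ha : ∀ p ∈ P, ¬ p ∣ a) {s : A} (hs : s ∈ Submonoid.closure P) :
    ∀ x : A, s ∣ a * x → s ∣ x := by
  induction hs using Submonoid.closure_induction with
  | mem p hp =>
    intro x hx
    rcases (hP p hp).dvd_or_dvd hx with h | h
    · exact absurd h (ha p hp)
    · exact h
  | one => intro x _; exact one_dvd x
  | mul s1 s2 hs1 _ ih1 ih2 =>
    intro x hx
    obtain ⟨x1, rfl⟩ := ih1 x ((dvd_mul_right s1 s2).trans hx)
    have h0 : s1 ≠ 0 := ne_zero_of_mem P hP hs1
    have : s2 ∣ a * x1 := by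
      have h' : s1 * s2 ∣ s1 * (a * x1) := by
        rw [show s1 * (a * x1) = a * (s1 * x1) by ring]; exact hx
      exact (mul_dvd_mul_iff_left h0).mp h'
    exact mul_dvd_mul_left s1 (ih2 x1 this)

include hP in
/-- splitting: `s ∈ ⟨P⟩`, `s ∣ b c` ⇒ `s = s1 s2` with `s1 ∣ b`, `s2 ∣ c`. -/
theorem split_of_dvd_mul {s : A} (hs : s ∈ Submonoid.closure P) :
    ∀ b c : A, s ∣ b * c → ∃ s1 ∈ Submonoid.closure P, ∃ s2 ∈ Submonoid.closure P,
      s = s1 * s2 ∧ s1 ∣ b ∧ s2 ∣ c := by
  induction hs using Submonoid.closure_induction with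
  | mem p hp =>
    intro b c h
    rcases (hP p hp).dvd_or_dvd h with h | h
    · exact ⟨p, Submonoid.subset_closure hp, 1, one_mem _, (mul_one p).symm, h, one_dvd c⟩
    · exact ⟨1, one_mem _, p, Submonoid.subset_closure hp, (one_mul p).symm, one_dvd b, h⟩
  | one =>
    intro b c _
    exact ⟨1, one_mem _, 1, one_mem _, (mul_one 1).symm, one_dvd b, one_dvd c⟩
  | mul s' s'' hs' _ ih1 ih2 =>
    intro b c h
    obtain ⟨s1', hs1', s2', hs2', rfl, ⟨b1, rfl⟩, ⟨c1, rfl⟩⟩ :=
      ih1 b c ((dvd_mul_right s' s'').trans h)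
    have h0 : s1' * s2' ≠ 0 := ne_zero_of_mem P hP hs'
    have : s'' ∣ b1 * c1 := by
      have h' : (s1' * s2') * s'' ∣ (s1' * s2') * (b1 * c1) := by
        rw [show (s1' * s2') * (b1 * c1) = s1' * b1 * (s2' * c1) by ring]; exact h
      exact (mul_dvd_mul_iff_left h0).mp h'
    obtain ⟨s1'', hs1'', s2'', hs2'', rfl, hb1, hc1⟩ := ih2 b1 c1 this
    exact ⟨s1' * s1'', mul_mem hs1' hs1'', s2' * s2'', mul_mem hs2' hs2'', by ring,
      mul_dvd_mul_left s1' hb1, mul_dvd_mul_left s2' hc1⟩

local notation "S" => Submonoid.closure P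
local notation "L" => Localization (Submonoid.closure P)

include hP in
theorem le_nzd : Submonoid.closure P ≤ nonZeroDivisors A := fun s hs =>
  mem_nonZeroDivisors_of_ne_zero (ne_zero_of_mem P hP hs)

include hP in
theorem inj : Function.Injective (algebraMap A L) :=
  IsLocalization.injective L (le_nzd P hP)

theorem isUnit_mk'_one (s : Submonoid.closure P) : IsUnit (IsLocalization.mk' L (1 : A) s) :=
  IsUnit.of_mul_eq_one _ (by rw [IsLocalization.mk'_spec, map_one])

include hP in
/-- key: irreducible `a` not divisible by any `p ∈ P` is prime, if `L` is a UFD. -/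
theorem prime_of_irreducible [IsDomain L] (hL : UniqueFactorizationMonoid L) {a : A}
    (ha : Irreducible a) (hna : ∀ p ∈ P, ¬ p ∣ a) : Prime a := by
  have hinj := inj P hP
  -- a/1 is irreducible in L
  have hirr : Irreducible (algebraMap A L a) := by
    constructor
    · intro hu
      obtain ⟨v, hv⟩ := hu.exists_right_inv
      obtain ⟨y, t, rfl⟩ := IsLocalization.exists_mk'_eq S v
      rw [IsLocalization.mul_mk'_eq_mk'_of_mul, IsLocalization.mk'_eq_iff_eq_mul, one_mul] at hv
      have hv' : a * y = t := hinj hv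
      obtain ⟨y', rfl⟩ := dvd_of_dvd_mul P hP hna t.2 y ⟨1, by rw [mul_one, hv']⟩
      have h0 : (t : A) ≠ 0 := ne_zero_of_mem P hP t.2
      have : a * y' = 1 := by
        apply mul_left_cancel₀ h0
        rw [show (t : A) * (a * y') = a * (↑t * y') by ring, hv', mul_one]
      exact ha.not_isUnit (IsUnit.of_mul_eq_one _ this)
    · intro u v huv
      obtain ⟨b, s, rfl⟩ := IsLocalization.exists_mk'_eq S u
      obtain ⟨c, t, rfl⟩ := IsLocalization.exists_mk'_eq S v
      rw [← IsLocalization.mk'_mul, eq_comm, IsLocalization.mk'_eq_iff_eq_mul, ← map_mul] at huv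
      have h1 : b * c = a * ((s * t : S) : A) := hinj huv
      obtain ⟨s1, hs1, s2, hs2, hst, ⟨b', rfl⟩, ⟨c', rfl⟩⟩ :=
        split_of_dvd_mul P hP (s * t).2 b c ⟨a, by rw [h1]; ring⟩
      have h0 : ((s * t : S) : A) ≠ 0 := ne_zero_of_mem P hP (s * t).2
      have h2 : a = b' * c' := by
        apply mul_left_cancel₀ h0
        rw [mul_comm _ a, ← h1, hst]; ring
      have hu1 : IsUnit (algebraMap A L s1) := IsLocalization.map_units L ⟨s1, hs1⟩
      have hu2 : IsUnit (algebraMap A L s2) := IsLocalization.map_units L ⟨s2, hs2⟩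
      rcases ha.isUnit_or_isUnit h2 with hb' | hc'
      · left
        rw [IsLocalization.mk'_eq_mul_mk'_one, map_mul]
        exact (hu1.mul (hb'.map _)).mul (isUnit_mk'_one P _)
      · right
        rw [IsLocalization.mk'_eq_mul_mk'_one, map_mul]
        exact (hu2.mul (hc'.map _)).mul (isUnit_mk'_one P _)
  have hprime : Prime (algebraMap A L a) := UniqueFactorizationMonoid.irreducible_iff_prime.mp hirr
  refine ⟨ha.ne_zero, ha.not_isUnit, ?_⟩
  -- divisibility descends
  have key : ∀ b : A, algebraMap A L a ∣ algebraMap A L b → a ∣ b := by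
    rintro b ⟨v, hv⟩
    obtain ⟨x, s, rfl⟩ := IsLocalization.exists_mk'_eq S v
    rw [IsLocalization.mul_mk'_eq_mk'_of_mul, eq_comm, IsLocalization.mk'_eq_iff_eq_mul,
      ← map_mul] at hv
    have hv' : a * x = b * s := hinj hv
    obtain ⟨x', rfl⟩ := dvd_of_dvd_mul P hP hna s.2 x ⟨b, by rw [hv']; ring⟩
    have h0 : (s : A) ≠ 0 := ne_zero_of_mem P hP s.2
    refine ⟨x', ?_⟩
    apply mul_left_cancel₀ h0
    rw [mul_comm _ b, ← hv']; ring
  intro b c hbc
  have : algebraMap A L a ∣ algebraMap A L b * algebraMap A L c := by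
    rw [← map_mul]; exact map_dvd _ hbc
  rcases hprime.dvd_or_dvd this with h | h
  · exact Or.inl (key b h)
  · exact Or.inr (key c h)


include hP in
theorem main [IsDomain L] (hL : UniqueFactorizationMonoid L)
    (hfac : ∀ a : A, a ≠ 0 → ¬ IsUnit a → ∃ f : Multiset A, (∀ b ∈ f, Irreducible b) ∧ Associated f.prod a) :
    UniqueFactorizationMonoid A := by
  have hirr : ∀ a : A, Irreducible a → Prime a := by
    intro a ha
    by_cases h : ∃ p ∈ P, p ∣ a
    · obtain ⟨p, hp, hpa⟩ := h
      have hp' := hP p hp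
      have : Associated p a := hp'.irreducible.associated_of_dvd ha hpa
      exact this.prime hp'
    · simp only [not_exists, not_and] at h
      exact prime_of_irreducible P hP hL ha h
  apply UniqueFactorizationMonoid.of_exists_prime_factors
  intro a ha0
  by_cases hu : IsUnit a
  · exact ⟨0, by simp, by rw [Multiset.prod_zero]; exact (associated_one_iff_isUnit.mpr hu).symm⟩
  · obtain ⟨f, hf, hfa⟩ := hfac a ha0 hu
    exact ⟨f, fun b hb => hirr b (hf b hb), hfa⟩


end Dev

/-- Nagata's criterion for factoriality, final assertion: let `A` be a domain in which every nonzero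
nonunit factors into irreducibles, and `S` the multiplicative subset generated by a set of prime
elements. If the localization `S⁻¹A` is a unique factorization domain, then so is `A`. -/
theorem result {A : Type u} [CommRing A] [IsDomain A]
    (hfac : ∀ a : A, a ≠ 0 → ¬ IsUnit a → ∃ f : Multiset A, (∀ b ∈ f, Irreducible b) ∧ Associated f.prod a) (P : Set A)
    (hP : ∀ p ∈ P, Prime p) [IsDomain (Localization (Submonoid.closure P))]
    (hS : UniqueFactorizationMonoid (Localization (Submonoid.closure P))) : UniqueFactorizationMonoid A := by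
  exact main P hP hS hfac

end Groth.Agent.S2119
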