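import Groth.Statements.S2120
import Mathlib.AlgebraicGeometry.Morphisms.Immersion

set_option autoImplicit false
universe u
open CategoryTheory AlgebraicGeometry
open Mor

namespace Groth.Agent.S2120


open Limits in
lemma isSeparated_of_comp_of_surjective_of_universallyClosed {X Y S : Scheme.{u}} (f : X ⟶ Y)
    (g : Y ⟶ S) [Surjective f] [UniversallyClosed f] [IsSeparated (f ≫ g)] : IsSeparated g := by
  let p := f ≫ g
  let m : pullback p p ⟶ pullback g g :=
    pullback.map p p g g f f (𝟙 S) ((Category.comp_id _).trans rfl) ((Category.comp_id _).trans rfl)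
  have hm : UniversallyClosed m :=
    MorphismProperty.pullbackMap (P := @UniversallyClosed) (f := p) (g := p) (f' := g) (g' := g)
      (i₁ := f) (i₂ := f) inferInstance inferInstance rfl rfl
  have hcomm : pullback.diagonal p ≫ m = f ≫ pullback.diagonal g := by
    apply pullback.hom_ext
    · rw [Category.assoc, Category.assoc]
      erw [pullback.lift_fst]
      rw [pullback.diagonal_fst, pullback.diagonal_fst_assoc, Category.comp_id]
    · rw [Category.assoc, Category.assoc]
      erw [pullback.lift_snd]
      rw [pullback.diagonal_snd, pullback.diagonal_snd_assoc, Category.comp_id]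
  have hrange : Set.range (pullback.diagonal g) = m '' Set.range (pullback.diagonal p) := by
    ext z
    constructor
    · rintro ⟨y, rfl⟩
      obtain ⟨x, rfl⟩ := f.surjective y
      refine ⟨pullback.diagonal p x, ⟨x, rfl⟩, ?_⟩
      rw [← Scheme.Hom.comp_apply, hcomm, Scheme.Hom.comp_apply]
    · rintro ⟨_, ⟨x, rfl⟩, rfl⟩
      refine ⟨f x, ?_⟩
      rw [← Scheme.Hom.comp_apply, ← hcomm, Scheme.Hom.comp_apply]
  have hclosed : IsClosed (Set.range (pullback.diagonal g)) := by
    rw [hrange]
    exact m.isClosedMap _ (pullback.diagonal p).isClosedEmbedding.isClosed_range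
  exact ⟨IsClosedImmersion.of_isPreimmersion _ hclosed⟩



/-- Let `f : X → Y` be surjective and universally closed. If `X` is quasi-separated then so is `Y`; if
`X` is separated then so is `Y`. -/
theorem result {X Y : Scheme.{u}} (f : X ⟶ Y) [Surjective f] [UniversallyClosed f] :
    (QuasiSeparatedSpace X → QuasiSeparatedSpace Y) ∧ (X.IsSeparated → Y.IsSeparated) := by
  constructor
  · intro hX
    refine ⟨fun U V hU hUc hV hVc ↦ ?_⟩
    have h1 : IsCompact (f ⁻¹' U) := QuasiCompact.isCompact_preimage (f := f) U hU hUc
    have h2 : IsCompact (f ⁻¹' V) := QuasiCompact.isCompact_preimage (f := f) V hV hVc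
    have h3 : IsCompact (f ⁻¹' U ∩ f ⁻¹' V) :=
      hX.inter_isCompact _ _ (hU.preimage f.continuous) h1 (hV.preimage f.continuous) h2
    have : U ∩ V = f '' (f ⁻¹' U ∩ f ⁻¹' V) := by
      rw [← Set.preimage_inter, Set.image_preimage_eq _ f.surjective]
    rw [this]
    exact h3.image f.continuous
  · intro hX
    have : Limits.terminal.from X = f ≫ Limits.terminal.from Y := Limits.terminal.hom_ext _ _
    have h : IsSeparated (f ≫ Limits.terminal.from Y) := by rw [← this]; infer_instance
    exact ⟨isSeparated_of_comp_of_surjective_of_universallyClosed f (Limits.terminal.from Y)⟩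

end Groth.Agent.S2120
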