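import Groth.Statements.S2123
import Mathlib

set_option autoImplicit false
universe u
open CategoryTheory AlgebraicGeometry
open Mor

namespace Groth.Agent.S2123




/-- Let `X` be an integral separated scheme and `x, y` points such that the closure of `x` is not
contained in the closure of `y`. Then, inside the function field of `X`, the local ring at `x` is
not contained in the local ring at `y`. -/
theorem result (X : Scheme.{u}) [IsIntegral X] [X.IsSeparated] (x y : X)
    (h : ¬ closure ({x} : Set X) ⊆ closure {y}) :
    ¬ Set.range (X.presheaf.stalkSpecializes (genericPoint_specializes x)) ⊆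
        Set.range (X.presheaf.stalkSpecializes (genericPoint_specializes y)) := by
  intro hsub
  apply h
  suffices hyx : y ⤳ x by
    exact closure_minimal (Set.singleton_subset_iff.mpr hyx.mem_closure) isClosed_closure
  set sx := X.presheaf.stalkSpecializes (genericPoint_specializes x) with hsx
  set sy := X.presheaf.stalkSpecializes (genericPoint_specializes y) with hsy
  have hinj : Function.Injective sy :=
    IsFractionRing.injective (X.presheaf.stalk y) X.functionField
  have hφ : ∀ a : X.presheaf.stalk x, ∃ b : X.presheaf.stalk y, sy b = sx a :=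
    fun a => hsub ⟨a, rfl⟩
  choose φ hφ using hφ
  let φr : X.presheaf.stalk x →+* X.presheaf.stalk y :=
    { toFun := φ
      map_one' := hinj (by rw [hφ, map_one, map_one])
      map_mul' := fun a b => hinj (by rw [hφ, map_mul, map_mul, hφ, hφ])
      map_zero' := hinj (by rw [hφ, map_zero, map_zero])
      map_add' := fun a b => hinj (by rw [hφ, map_add, map_add, hφ, hφ]) }
  let φc : X.presheaf.stalk x ⟶ X.presheaf.stalk y := CommRingCat.ofHom φr
  have hcomp : φc ≫ sy = sx := by
    ext a; exact hφ a
  let a : Spec (X.presheaf.stalk y) ⟶ X := Spec.map φc ≫ X.fromSpecStalk x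
  let j : Spec (X.presheaf.stalk (genericPoint X)) ⟶ Spec (X.presheaf.stalk y) := Spec.map sy
  have hj : IsDominant j := by
    refine ⟨?_⟩
    change DenseRange (PrimeSpectrum.comap sy.hom)
    rw [PrimeSpectrum.denseRange_comap_iff_ker_le_nilRadical,
      (RingHom.injective_iff_ker_eq_bot _).mp hinj]
    exact bot_le
  have hab : a = X.fromSpecStalk y := by
    apply ext_of_isDominant (ι := j)
    rw [Scheme.SpecMap_stalkSpecializes_fromSpecStalk]
    have e : Spec.map sy ≫ Spec.map φc = Spec.map sx := by rw [← Spec.map_comp, hcomp]
    change Spec.map sy ≫ Spec.map φc ≫ X.fromSpecStalk x = _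
    rw [← Category.assoc, e, Scheme.SpecMap_stalkSpecializes_fromSpecStalk]
  have h1 : X.fromSpecStalk y (IsLocalRing.closedPoint _) = y := Scheme.fromSpecStalk_closedPoint
  have h2 : a (IsLocalRing.closedPoint _) ⤳ x := by
    have : a (IsLocalRing.closedPoint _) ∈ Set.range (X.fromSpecStalk x) := ⟨_, rfl⟩
    rwa [Scheme.range_fromSpecStalk] at this
  rw [hab, h1] at h2
  exact h2

end Groth.Agent.S2123
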