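import Groth.Statements.S2126
import Mathlib
import Groth.Agent.Lib.Helper23SecTw7
-- import your own Groth.Agent.* helpers here

set_option autoImplicit false
universe u
open CategoryTheory AlgebraicGeometry
open Mor

namespace Groth.Agent.S2126


open TopologicalSpace Opposite
open Groth.Agent.Lib.Helper23.SecTw Groth.Agent.Lib.Helper23.GenLocus Groth.Agent.Lib.Helper6

/-- Let `X` be a quasi-compact scheme and `L` an invertible `O_X`-module. Then `L` is ample if and only
if the opens `X_s`, for `s` a global section of some positive tensor power of `L`, form a basis for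
the topology of `X`. -/
theorem result {X : Scheme.{u}} [CompactSpace X] (L : X.Modules) (hL : PicF.IsInvertible L) :
    CohB1.IsAmple L ↔
      TopologicalSpace.Opens.IsBasis
        {U : X.Opens | ∃ (n : ℕ) (s : Coh.structureModule X ⟶ CohB1.tensorPow L (n + 1)), U = CohB1.genLocus _ s} := by
  constructor
  · intro hamp
    rw [Opens.isBasis_iff_nbhd]
    intro U x hxU
    obtain ⟨n, σ, hxσ, hσU, -⟩ := exists_genLocus_nhd_of_isAmple L hamp U x hxU
    exact ⟨_, ⟨n, σ, rfl⟩, hxσ, hσU⟩
  · intro hB
    rw [Opens.isBasis_iff_nbhd] at hB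
    refine ⟨hL, inferInstance, fun x => ?_⟩
    obtain ⟨V, hV, hxV, -⟩ := exists_isAffineOpen_mem_and_subset (x := x) (U := (⊤ : X.Opens)) trivial
    obtain ⟨U', ⟨n, s, rfl⟩, hxU', hU'V⟩ := hB (U := V) hxV
    refine ⟨n, s, hxU', ?_⟩
    have := isAffineOpen_inf_genLocus _ (isInvertible_tensorPow hL (n + 1)) s V hV
    rwa [inf_eq_right.2 hU'V] at this

end Groth.Agent.S2126
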