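import Groth.Statements.S2129
import Groth.Agent.Lib.Helper3SmPrime2
import Groth.Agent.Lib.Helper3ShBC
import Mathlib

set_option autoImplicit false
universe u
open CAlg

namespace Groth.Agent.S2129

set_option linter.style.haveILetI false
set_option maxHeartbeats 1600000

open TensorProduct IsLocalRing Groth.Agent.Lib.Helper3 in

/-- Let `R → S` be a smooth ring map, `𝔮` a prime of `S` over `𝔭`, and `A = R_𝔭 → B = S_𝔮` the induced
local homomorphism. Then strict henselizations of `A` and `B` have the same number of minimal prime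
ideals (the same number of geometric branches, counted in ℕ∞, infinite counting as ∞). -/
theorem result {R S Ash Bsh : Type u} [CommRing R] [CommRing S] [Algebra R S]
    [Algebra.Smooth R S] (q : Ideal S) [q.IsPrime] (p : Ideal R) [p.IsPrime] [q.LiesOver p]
    [CommRing Ash] [IsLocalRing Ash] [Algebra (Localization.AtPrime p) Ash]
    [IsLocalHom (algebraMap (Localization.AtPrime p) Ash)] [Hensel.IsStrictHenselization (Localization.AtPrime p) Ash]
    [CommRing Bsh] [IsLocalRing Bsh] [Algebra (Localization.AtPrime q) Bsh]
    [IsLocalHom (algebraMap (Localization.AtPrime q) Bsh)] [Hensel.IsStrictHenselization (Localization.AtPrime q) Bsh] :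
    (minimalPrimes Ash).encard = (minimalPrimes Bsh).encard := by
  letI : Algebra R Ash := ((algebraMap (Localization.AtPrime p) Ash).comp
    (algebraMap R (Localization.AtPrime p))).toAlgebra
  haveI : IsScalarTower R (Localization.AtPrime p) Ash :=
    IsScalarTower.of_algebraMap_eq (fun _ => rfl)
  obtain ⟨q'', hq''p, c, hsh, hq''m, hs, hr⟩ := ShBC.exists_sh_baseChange R S q p Ash Bsh
  letI := c.toAlgebra
  obtain ⟨hloc, hSh⟩ := hsh
  haveI := hloc
  haveI := hSh
  haveI hA : Hensel.IsStrictHenselization (Localization.AtPrime p) Ash := inferInstance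
  haveI : HenselianLocalRing Ash := hA.henselian
  haveI : IsSepClosed (ResidueField Ash) := hA.isSepClosure.sep_closed
  haveI : Module.Flat Ash (Localization.AtPrime q'') :=
    Module.Flat.trans Ash (Ash ⊗[R] S) (Localization.AtPrime q'')
  letI : Algebra Ash Bsh := ((algebraMap (Localization.AtPrime q'') Bsh).comp
    (algebraMap Ash (Localization.AtPrime q''))).toAlgebra
  haveI : IsScalarTower Ash (Localization.AtPrime q'') Bsh :=
    IsScalarTower.of_algebraMap_eq (fun _ => rfl)
  haveI : Module.FaithfullyFlat (Localization.AtPrime q'') Bsh :=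
    HzP.sh_faithfullyFlat (Localization.AtPrime q'') Bsh
  haveI : Module.Flat Ash Bsh := Module.Flat.trans Ash (Localization.AtPrime q'') Bsh
  haveI hl1 : IsLocalHom (algebraMap Ash (Localization.AtPrime q'')) := by
    apply ((local_hom_TFAE (algebraMap Ash (Localization.AtPrime q''))).out 0 2 rfl rfl).mpr
    rw [IsScalarTower.algebraMap_eq Ash (Ash ⊗[R] S) (Localization.AtPrime q''), ← Ideal.map_map]
    refine (Ideal.map_mono hq''m).trans ?_
    rw [Localization.AtPrime.map_eq_maximalIdeal]
  haveI : IsLocalHom (algebraMap Ash Bsh) :=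
    RingHom.isLocalHom_comp (algebraMap (Localization.AtPrime q'') Bsh)
      (algebraMap Ash (Localization.AtPrime q''))
  haveI : Module.FaithfullyFlat Ash Bsh := Module.FaithfullyFlat.of_flat_of_isLocalHom
  apply SmGU.encard_minimalPrimes_eq_of_isPrime_map Ash Bsh
  intro q₀ hq₀
  haveI : q₀.IsPrime := hq₀.1.1
  have key := SmGU.isPrime_map_sh_of_smooth Ash (Ash ⊗[R] S) Bsh q'' hq''m q₀
  rw [Ideal.map_map, Ideal.map_map] at key
  exact key

end Groth.Agent.S2129
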