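import Groth.Statements.S2130
import Groth.Agent.Lib.Helper3PiBrC
import Groth.Agent.Lib.Helper3PiBrD
import Groth.Agent.Lib.Helper3HzTensor
import Groth.Agent.Lib.Helper3SmPrime2
import Mathlib

set_option autoImplicit false
universe u
open CAlg

namespace Groth.Agent.S2130

set_option linter.style.haveILetI false
set_option maxHeartbeats 3200000

open TensorProduct IsLocalRing Groth.Agent.Lib.Helper3 in

/-- Let `R → S` be smooth, `𝔮` a prime of `S` over `𝔭` with `κ(𝔮)/κ(𝔭)` purely inseparable, and `A = R_𝔭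
→ B = S_𝔮`. Then henselizations of `A` and `B` have the same number of minimal prime ideals (the
same number of branches). -/
theorem result {R S Ah Bh : Type u} [CommRing R] [CommRing S]
    [Algebra R S] [Algebra.Smooth R S] (q : Ideal S) [q.IsPrime] (p : Ideal R) [p.IsPrime] [q.LiesOver p]
    (hpi : @IsPurelyInseparable p.ResidueField q.ResidueField _ _
      (Ideal.ResidueField.mapₐ p q (Algebra.ofId R S) (q.over_def p)).toRingHom.toAlgebra)
    [CommRing Ah] [IsLocalRing Ah] [Algebra (Localization.AtPrime p) Ah]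
    [IsLocalHom (algebraMap (Localization.AtPrime p) Ah)] [Hensel.IsHenselization (Localization.AtPrime p) Ah]
    [CommRing Bh] [IsLocalRing Bh] [Algebra (Localization.AtPrime q) Bh]
    [IsLocalHom (algebraMap (Localization.AtPrime q) Bh)] [Hensel.IsHenselization (Localization.AtPrime q) Bh] :
    (minimalPrimes Ah).encard = (minimalPrimes Bh).encard := by
  obtain ⟨p₀, hp₀, hp₀p, hpi₀⟩ := PiBr.exists_of_isPurelyInseparable q p hpi
  haveI hAh : HenselianLocalRing Ah :=
    Hensel.IsHenselization.henselian (R := Localization.AtPrime p)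
  haveI hBh : HenselianLocalRing Bh :=
    Hensel.IsHenselization.henselian (R := Localization.AtPrime q)
  -- algebra structures
  letI := Localization.AtPrime.algebraOfLiesOver p q
  haveI : IsLocalHom (algebraMap (Localization.AtPrime p) (Localization.AtPrime q)) :=
    Localization.isLocalHom_localRingHom p q (algebraMap R S) Ideal.LiesOver.over
  letI : Algebra (Localization.AtPrime p) Bh :=
    ((algebraMap (Localization.AtPrime q) Bh).comp
      (algebraMap (Localization.AtPrime p) (Localization.AtPrime q))).toAlgebra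
  haveI : IsScalarTower (Localization.AtPrime p) (Localization.AtPrime q) Bh :=
    IsScalarTower.of_algebraMap_eq (fun _ => rfl)
  haveI : IsLocalHom (algebraMap (Localization.AtPrime p) Bh) :=
    RingHom.isLocalHom_comp (algebraMap (Localization.AtPrime q) Bh)
      (algebraMap (Localization.AtPrime p) (Localization.AtPrime q))
  obtain ⟨g₀, hg₀, -⟩ := Hensel.IsHenselization.universal (R := Localization.AtPrime p)
    (S := Ah) Bh (algebraMap (Localization.AtPrime p) Bh) inferInstance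
  letI : Algebra Ah Bh := g₀.toAlgebra
  haveI : IsScalarTower (Localization.AtPrime p) Ah Bh :=
    IsScalarTower.of_algebraMap_eq (fun x => (RingHom.congr_fun hg₀ x).symm)
  letI : Algebra R Ah :=
    ((algebraMap (Localization.AtPrime p) Ah).comp (algebraMap R (Localization.AtPrime p))).toAlgebra
  haveI : IsScalarTower R (Localization.AtPrime p) Ah := IsScalarTower.of_algebraMap_eq (fun _ => rfl)
  letI : Algebra S Bh :=
    ((algebraMap (Localization.AtPrime q) Bh).comp (algebraMap S (Localization.AtPrime q))).toAlgebra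
  haveI : IsScalarTower S (Localization.AtPrime q) Bh := IsScalarTower.of_algebraMap_eq (fun _ => rfl)
  letI : Algebra R Bh := ((algebraMap S Bh).comp (algebraMap R S)).toAlgebra
  haveI : IsScalarTower R S Bh := IsScalarTower.of_algebraMap_eq (fun _ => rfl)
  haveI : IsScalarTower R Ah Bh := by
    refine IsScalarTower.of_algebraMap_eq (fun r => ?_)
    show algebraMap (Localization.AtPrime q) Bh (algebraMap S (Localization.AtPrime q)
      (algebraMap R S r)) = algebraMap Ah Bh (algebraMap (Localization.AtPrime p) Ah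
        (algebraMap R (Localization.AtPrime p) r))
    rw [← IsScalarTower.algebraMap_apply R S (Localization.AtPrime q),
      IsScalarTower.algebraMap_apply R (Localization.AtPrime p) (Localization.AtPrime q),
      ← IsScalarTower.algebraMap_apply (Localization.AtPrime p) (Localization.AtPrime q) Bh,
      IsScalarTower.algebraMap_apply (Localization.AtPrime p) Ah Bh]
  haveI : IsLocalHom (algebraMap Ah Bh) := HzTensor.isLocalHom_algebraMap R p Ah S q Bh
  -- the prime `Q`
  haveI hQl : (HzTensor.Q R S Ah Bh).LiesOver (maximalIdeal Ah) := by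
    constructor
    ext a
    rw [Ideal.under_def, Ideal.mem_comap, HzTensor.Q, Ideal.mem_comap]
    have : HzTensor.phi R S Ah Bh (algebraMap Ah (Ah ⊗[R] S) a) = algebraMap Ah Bh a := by
      simp [HzTensor.phi]
    rw [this, mem_maximalIdeal, mem_maximalIdeal, mem_nonunits_iff, mem_nonunits_iff, not_iff_not]
    exact ⟨fun h => h.map _, fun h => isUnit_of_map_unit (algebraMap Ah Bh) a h⟩
  have hQq : q = (HzTensor.Q R S Ah Bh).comap
      (Algebra.TensorProduct.includeRight : S →ₐ[R] Ah ⊗[R] S).toRingHom := by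
    rw [← HzTensor.comap_maximalIdeal S q Bh]
    ext s
    rw [Ideal.mem_comap, Ideal.mem_comap, HzTensor.Q, Ideal.mem_comap]
    have : HzTensor.phi R S Ah Bh ((Algebra.TensorProduct.includeRight :
        S →ₐ[R] Ah ⊗[R] S).toRingHom s) = algebraMap S Bh s := by
      simp [HzTensor.phi]
    rw [this]
  have hQm : (maximalIdeal Ah).map (algebraMap Ah (Ah ⊗[R] S)) ≤ HzTensor.Q R S Ah Bh := by
    rw [Ideal.map_le_iff_le_comap, ← Ideal.under_def, ← hQl.over]
  -- `Bh` is a henselization of the local ring at `Q`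
  have huniv := HzTensor.universal (R := R) (S := S) (Ah := Ah) (Bh := Bh)
    (fun T _ _ u v hu h => HzTensor.UA_of_hz R p Ah T u v hu h)
    (fun T _ _ w hw => HzTensor.UB_of_hz S q Bh T w hw)
  letI : Algebra (Localization.AtPrime (HzTensor.Q R S Ah Bh)) Bh :=
    (HzTensor.phiL R S Ah Bh).toAlgebra
  haveI : IsLocalHom (algebraMap (Localization.AtPrime (HzTensor.Q R S Ah Bh)) Bh) :=
    HzTensor.isLocalHom_phiL
  haveI : Hensel.IsHenselization (Localization.AtPrime (HzTensor.Q R S Ah Bh)) Bh :=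
    { henselian := hBh
      universal := fun T _ _ f hf => huniv T f hf }
  -- flatness
  haveI : Module.Flat Ah (Localization.AtPrime (HzTensor.Q R S Ah Bh)) :=
    Module.Flat.trans Ah (Ah ⊗[R] S) (Localization.AtPrime (HzTensor.Q R S Ah Bh))
  haveI : Module.FaithfullyFlat (Localization.AtPrime (HzTensor.Q R S Ah Bh)) Bh :=
    HzP.hz_faithfullyFlat (Localization.AtPrime (HzTensor.Q R S Ah Bh)) Bh
  haveI : IsScalarTower Ah (Localization.AtPrime (HzTensor.Q R S Ah Bh)) Bh := by
    refine IsScalarTower.of_algebraMap_eq (fun a => ?_)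
    show algebraMap Ah Bh a = HzTensor.phiL R S Ah Bh (algebraMap Ah _ a)
    rw [IsScalarTower.algebraMap_apply Ah (Ah ⊗[R] S)
      (Localization.AtPrime (HzTensor.Q R S Ah Bh)), HzTensor.phiL_algebraMap]
    simp [HzTensor.phi]
  haveI : Module.Flat Ah Bh :=
    Module.Flat.trans Ah (Localization.AtPrime (HzTensor.Q R S Ah Bh)) Bh
  haveI : Module.FaithfullyFlat Ah Bh := Module.FaithfullyFlat.of_flat_of_isLocalHom
  -- the purely inseparable data on `Ah ⊗ S`
  have hunitR : ∀ b : R, b ∉ p → IsUnit (algebraMap R Ah b) := by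
    intro b hb
    rw [IsScalarTower.algebraMap_apply R (Localization.AtPrime p) Ah]
    exact (IsLocalization.map_units (Localization.AtPrime p) (⟨b, hb⟩ : p.primeCompl)).map _
  have hpQ : p₀ = 1 ∨ (p₀ : Ah ⊗[R] S) ∈ HzTensor.Q R S Ah Bh := by
    rcases hp₀p with h | h
    · exact Or.inl h
    · right
      have e : (p₀ : Ah ⊗[R] S) = algebraMap Ah (Ah ⊗[R] S) (algebraMap R Ah (p₀ : R)) := by
        rw [map_natCast, map_natCast]
      rw [e]
      apply hQm
      apply Ideal.mem_map_of_mem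
      rw [← HzTensor.comap_maximalIdeal R p Ah] at h
      exact h
  have hpiS : ∀ s : S, ∃ (n : ℕ) (δ : Ah),
      ((1 : Ah) ⊗ₜ[R] s) ^ p₀ ^ n - δ ⊗ₜ[R] (1 : S) ∈ HzTensor.Q R S Ah Bh := by
    intro s
    obtain ⟨n, a, b, hb, hab⟩ := hpi₀ s
    obtain ⟨u, hu⟩ := hunitR b hb
    refine ⟨n, ↑u⁻¹ * algebraMap R Ah a, ?_⟩
    have h1 : (1 : Ah) ⊗ₜ[R] (algebraMap R S b * s ^ p₀ ^ n - algebraMap R S a) ∈
        HzTensor.Q R S Ah Bh := by
      have : (algebraMap R S b * s ^ p₀ ^ n - algebraMap R S a) ∈ (HzTensor.Q R S Ah Bh).comap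
          (Algebra.TensorProduct.includeRight : S →ₐ[R] Ah ⊗[R] S).toRingHom := by
        rw [← hQq]; exact hab
      exact this
    have e1 : (↑u⁻¹ : Ah) ⊗ₜ[R] (algebraMap R S b * s ^ p₀ ^ n) =
        (1 : Ah) ⊗ₜ[R] (s ^ p₀ ^ n) := by
      rw [← Algebra.smul_def b (s ^ p₀ ^ n), TensorProduct.tmul_smul, TensorProduct.smul_tmul',
        Algebra.smul_def b (↑u⁻¹ : Ah), ← hu, Units.mul_inv]
    have e2 : (↑u⁻¹ : Ah) ⊗ₜ[R] (algebraMap R S a) =
        (↑u⁻¹ * algebraMap R Ah a) ⊗ₜ[R] (1 : S) := by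
      calc (↑u⁻¹ : Ah) ⊗ₜ[R] (algebraMap R S a) = (↑u⁻¹ : Ah) ⊗ₜ[R] (a • (1 : S)) := by
            rw [← Algebra.algebraMap_eq_smul_one]
        _ = a • ((↑u⁻¹ : Ah) ⊗ₜ[R] (1 : S)) := TensorProduct.tmul_smul _ _ _
        _ = (a • (↑u⁻¹ : Ah)) ⊗ₜ[R] (1 : S) := TensorProduct.smul_tmul' _ _ _
        _ = (↑u⁻¹ * algebraMap R Ah a) ⊗ₜ[R] (1 : S) := by rw [Algebra.smul_def, mul_comm]
    have h2 : ((1 : Ah) ⊗ₜ[R] s) ^ p₀ ^ n - (↑u⁻¹ * algebraMap R Ah a) ⊗ₜ[R] (1 : S) =
        ((↑u⁻¹ : Ah) ⊗ₜ[R] (1 : S)) *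
          ((1 : Ah) ⊗ₜ[R] (algebraMap R S b * s ^ p₀ ^ n - algebraMap R S a)) := by
      rw [TensorProduct.tmul_sub, mul_sub, Algebra.TensorProduct.tmul_mul_tmul,
        Algebra.TensorProduct.tmul_mul_tmul, mul_one, one_mul, one_mul, e1, e2,
        Algebra.TensorProduct.tmul_pow, one_pow]
    rw [h2]
    exact Ideal.mul_mem_left _ _ h1
  have hpiT : ∀ x : Ah ⊗[R] S, ∃ (n : ℕ) (r : Ah),
      x ^ p₀ ^ n - algebraMap Ah (Ah ⊗[R] S) r ∈ HzTensor.Q R S Ah Bh := by
    intro x
    obtain ⟨n, δ, h⟩ := PiBr.exists_pow_sub_tmul_mem' p₀ hp₀ (HzTensor.Q R S Ah Bh) hpQ hpiS x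
    exact ⟨n, δ, h⟩
  apply SmGU.encard_minimalPrimes_eq_of_isPrime_map Ah Bh
  intro q₀ hq₀
  haveI : q₀.IsPrime := hq₀.1.1
  have key := PiBr.isPrime_map_hz_of_smooth Ah (Ah ⊗[R] S) Bh (HzTensor.Q R S Ah Bh) hQm p₀ hp₀
    hpQ hpiT q₀
  rw [Ideal.map_map, Ideal.map_map] at key
  have e : ((algebraMap (Localization.AtPrime (HzTensor.Q R S Ah Bh)) Bh).comp
      (algebraMap (Ah ⊗[R] S) (Localization.AtPrime (HzTensor.Q R S Ah Bh)))).comp
      (algebraMap Ah (Ah ⊗[R] S)) = algebraMap Ah Bh := by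
    rw [RingHom.comp_assoc, ← IsScalarTower.algebraMap_eq Ah (Ah ⊗[R] S)
      (Localization.AtPrime (HzTensor.Q R S Ah Bh)),
      ← IsScalarTower.algebraMap_eq Ah (Localization.AtPrime (HzTensor.Q R S Ah Bh)) Bh]
  rw [e] at key
  exact key

end Groth.Agent.S2130
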