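import Groth.Statements.S2131
import Mathlib

set_option autoImplicit false
universe u
open CAlg

namespace Groth.Agent.S2131

section Helpers

variable {R M N : Type u} [CommRing R] [AddCommGroup M] [Module R M] [AddCommGroup N] [Module R N]

theorem bijective_map_of_powers (φ : M →ₗ[R] N) (g : R) (q : Ideal R) [q.IsPrime] (hg : g ∉ q)
    (h : Function.Bijective (LocalizedModule.map (Submonoid.powers g) φ)) :
    Function.Bijective (LocalizedModule.map q.primeCompl φ) := by
  have hpow : ∀ n : ℕ, g ^ n ∈ q.primeCompl := fun n => q.primeCompl.pow_mem hg n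
  constructor
  · rw [injective_iff_map_eq_zero]
    intro x hx
    induction x using LocalizedModule.induction_on with
    | h m s =>
      rw [LocalizedModule.map_mk, ← LocalizedModule.zero_mk s, LocalizedModule.mk_eq] at hx
      obtain ⟨t, ht⟩ := hx
      simp only [smul_zero] at ht
      -- t • s • φ m = 0
      have h0 : φ ((t : R) • (s : R) • m) = 0 := by
        rw [map_smul, map_smul]
        exact ht
      have h1 : LocalizedModule.map (Submonoid.powers g) φ
          (LocalizedModule.mk ((t : R) • (s : R) • m) 1) = 0 := by
        rw [LocalizedModule.map_mk, h0, LocalizedModule.zero_mk]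
      have h2 := h.1 (h1.trans (map_zero _).symm)
      rw [← LocalizedModule.zero_mk (1 : Submonoid.powers g), LocalizedModule.mk_eq] at h2
      obtain ⟨⟨_, n, rfl⟩, hu⟩ := h2
      simp only [smul_zero, one_smul] at hu
      rw [← LocalizedModule.zero_mk s, LocalizedModule.mk_eq]
      refine ⟨⟨g ^ n, hpow n⟩ * t, ?_⟩
      simp only [smul_zero]
      show (g ^ n * (t : R)) • (s : R) • m = 0
      rw [mul_smul]
      exact hu
  · intro y
    induction y using LocalizedModule.induction_on with
    | h n s =>
      obtain ⟨x, hx⟩ := h.2 (LocalizedModule.mk n 1)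
      induction x using LocalizedModule.induction_on with
      | h m u =>
        obtain ⟨_, a, rfl⟩ := u
        rw [LocalizedModule.map_mk, LocalizedModule.mk_eq] at hx
        obtain ⟨⟨_, b, rfl⟩, hb⟩ := hx
        simp only [one_smul] at hb
        -- g^b • φ m = g^b • g^a • n
        refine ⟨LocalizedModule.mk ((g ^ b) • m) (⟨g ^ b, hpow b⟩ * ⟨g ^ a, hpow a⟩ * s), ?_⟩
        rw [LocalizedModule.map_mk, LocalizedModule.mk_eq]
        refine ⟨1, ?_⟩
        simp only [one_smul, map_smul]
        show (s : R) • (g ^ b) • φ m = ((g ^ b * g ^ a) * (s : R)) • n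
        have hb' : (g ^ b) • φ m = (g ^ b) • (g ^ a) • n := hb
        rw [hb', smul_smul, smul_smul]
        congr 1
        ring

end Helpers

/-- For an `R`-linear map from a finite module to a finitely presented module, the primes at which its
localization is bijective form an open subset of `Spec R`. -/
theorem result {R M N : Type u} [CommRing R] [AddCommGroup M] [Module R M] [Module.Finite R M]
    [AddCommGroup N] [Module R N] [Module.FinitePresentation R N] (φ : M →ₗ[R] N) :
    IsOpen {p : PrimeSpectrum R | Function.Bijective (LocalizedModule.map p.asIdeal.primeCompl φ)} := by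
  rw [isOpen_iff_forall_mem_open]
  intro p hp
  obtain ⟨g, hg, hbij⟩ := Module.FinitePresentation.exists_notMem_bijective φ p.asIdeal
    (LocalizedModule.mkLinearMap p.asIdeal.primeCompl M)
    (LocalizedModule.mkLinearMap p.asIdeal.primeCompl N) hp
  refine ⟨PrimeSpectrum.basicOpen g, ?_, (PrimeSpectrum.basicOpen g).2, hg⟩
  intro q hq
  exact bijective_map_of_powers φ g q.asIdeal hq hbij

end Groth.Agent.S2131
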