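import Groth.Statements.S2133
import Mathlib

set_option autoImplicit false
universe u
open CAlg

namespace Groth.Agent.S2133


/-- Let `R → R'` be an injective ring map of finite type and `g ∈ R` a nonzerodivisor on `R'` such that
every element of `R'` lands in `R` after multiplication by a power of `g` (so `R_g = R'_g`). Then
for every derivation `D` of `R` there is `N` such that `g^N D` extends to a derivation of `R'`. -/
theorem result {R R' : Type u} [CommRing R] [CommRing R'] [Algebra R R'] [Algebra.FiniteType R R']
    (hinj : Function.Injective (algebraMap R R')) (g : R) (hg : IsSMulRegular R' (algebraMap R R' g))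
    (hloc : ∀ x : R', ∃ n : ℕ, (algebraMap R R' g) ^ n * x ∈ Set.range (algebraMap R R')) (D : Derivation ℤ R R) :
    ∃ (N : ℕ) (D' : Derivation ℤ R' R'), ∀ r : R, D' (algebraMap R R' r) = algebraMap R R' (g ^ N * D r) := by
  classical
  set g' : R' := algebraMap R R' g with hg'
  let L := Localization.Away g'
  have hg'nzd : g' ∈ nonZeroDivisors R' := by
    rw [mem_nonZeroDivisors_iff_right]
    intro x hx
    apply hg
    show g' • x = g' • 0
    rw [smul_eq_mul, smul_zero, mul_comm, hx]
  have hιinj : Function.Injective (algebraMap R' L) := by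
    apply IsLocalization.injective L (M := Submonoid.powers g')
    exact Submonoid.powers_le.2 hg'nzd
  have hRL : ∀ r : R, algebraMap R L r = algebraMap R' L (algebraMap R R' r) :=
    fun r => IsScalarTower.algebraMap_apply R R' L r
  have hgu : IsUnit (algebraMap R L g) := by
    rw [hRL]
    exact IsLocalization.Away.algebraMap_isUnit g'
  haveI : IsLocalization.Away g L := by
    apply IsLocalization.Away.mk g hgu
    · intro s
      obtain ⟨m, y, hy⟩ := IsLocalization.Away.surj g' s
      obtain ⟨n, r, hr⟩ := hloc y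
      refine ⟨m + n, r, ?_⟩
      rw [hRL, hRL, pow_add, ← mul_assoc, hy, ← map_pow, ← map_mul, hr, mul_comm]
    · intro a b hab
      rw [hRL, hRL] at hab
      exact ⟨0, by rw [hinj (hιinj hab)]⟩
  -- the ring hom r ↦ r + ε D r
  let φ : R →+* TrivSqZeroExt L L :=
    { toFun := fun r => TrivSqZeroExt.inl (algebraMap R L r) + TrivSqZeroExt.inr (algebraMap R L (D r))
      map_one' := by
        rw [Derivation.map_one_eq_zero, map_zero, map_one, TrivSqZeroExt.inr_zero, add_zero,
          TrivSqZeroExt.inl_one]
      map_zero' := by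
        rw [map_zero, map_zero, map_zero, TrivSqZeroExt.inr_zero, add_zero, TrivSqZeroExt.inl_zero]
      map_add' := by
        intro a b
        rw [map_add, map_add, map_add, TrivSqZeroExt.inl_add, TrivSqZeroExt.inr_add]
        abel
      map_mul' := by
        intro a b
        apply TrivSqZeroExt.ext
        · simp only [TrivSqZeroExt.fst_add, TrivSqZeroExt.fst_inl, TrivSqZeroExt.fst_inr,
            TrivSqZeroExt.fst_mul, map_mul]
          ring
        · simp only [Derivation.leibniz, TrivSqZeroExt.snd_add, TrivSqZeroExt.snd_inl,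
            TrivSqZeroExt.snd_inr, zero_add, TrivSqZeroExt.snd_mul, TrivSqZeroExt.fst_add,
            TrivSqZeroExt.fst_inl, TrivSqZeroExt.fst_inr, add_zero, smul_eq_mul, map_add, map_mul,
            MulOpposite.smul_eq_mul_unop, MulOpposite.unop_op]
          ring }
  have hφfst : ∀ r, (φ r).fst = algebraMap R L r := by
    intro r
    show (TrivSqZeroExt.inl (algebraMap R L r) + TrivSqZeroExt.inr (algebraMap R L (D r)) :
      TrivSqZeroExt L L).fst = _
    simp
  have hφsnd : ∀ r, (φ r).snd = algebraMap R L (D r) := by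
    intro r
    show (TrivSqZeroExt.inl (algebraMap R L r) + TrivSqZeroExt.inr (algebraMap R L (D r)) :
      TrivSqZeroExt L L).snd = _
    simp
  have hφg : IsUnit (φ g) := by
    rw [TrivSqZeroExt.isUnit_iff_isUnit_fst, hφfst]
    exact hgu
  let Φ : L →+* TrivSqZeroExt L L := IsLocalization.Away.lift g hφg
  have hΦ : ∀ r, Φ (algebraMap R L r) = φ r := fun r => IsLocalization.Away.lift_eq g hφg r
  have hΦfst : ∀ x : L, (Φ x).fst = x := by
    have : ((TrivSqZeroExt.fstHom L L L : TrivSqZeroExt L L →ₐ[L] L) : TrivSqZeroExt L L →+* L).comp Φ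
        = RingHom.id L := by
      apply IsLocalization.ringHom_ext (Submonoid.powers g)
      ext r
      simp only [RingHom.comp_apply, RingHom.id_apply]
      rw [hΦ]
      exact hφfst r
    intro x
    have := congrArg (fun f => f x) this
    exact this
  let δ : L → L := fun x => (Φ x).snd
  have hδadd : ∀ x y, δ (x + y) = δ x + δ y := by
    intro x y
    show (Φ (x + y)).snd = _
    rw [map_add, TrivSqZeroExt.snd_add]
  have hδmul : ∀ x y, δ (x * y) = x * δ y + y * δ x := by
    intro x y
    show (Φ (x * y)).snd = _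
    rw [map_mul, TrivSqZeroExt.snd_mul, hΦfst, hΦfst]
    simp only [smul_eq_mul, MulOpposite.smul_eq_mul_unop, MulOpposite.unop_op]
    ring
  have hδR : ∀ r : R, δ (algebraMap R L r) = algebraMap R L (D r) := by
    intro r
    show (Φ (algebraMap R L r)).snd = _
    rw [hΦ, hφsnd]
  have hδone : δ 1 = 0 := by
    have := hδR 1
    rwa [map_one, Derivation.map_one_eq_zero, map_zero] at this
  -- for each y there's n with g^n δ y in range
  have hgen : ∀ y : R', ∃ n : ℕ, ∀ M, n ≤ M →
      algebraMap R L g ^ M * δ (algebraMap R' L y) ∈ Set.range (algebraMap R' L) := by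
    intro y
    obtain ⟨n, r, hr⟩ := hloc y
    refine ⟨n, ?_⟩
    intro M hM
    have h1 : algebraMap R L (g ^ n) * algebraMap R' L y = algebraMap R L r := by
      rw [hRL, hRL, ← map_mul, map_pow, ← hr]
    have h2 := congrArg δ h1
    rw [hδmul, hδR, hδR] at h2
    have h3 : algebraMap R L g ^ n * δ (algebraMap R' L y) =
        algebraMap R' L (algebraMap R R' (D r) - y * algebraMap R R' (D (g ^ n))) := by
      rw [map_sub, map_mul, ← hRL, ← hRL, ← h2, ← map_pow]
      ring
    obtain ⟨k, rfl⟩ := Nat.exists_eq_add_of_le hM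
    rw [pow_add, mul_comm (_ ^ n), mul_assoc, h3, hRL, ← map_pow, ← map_mul]
    exact ⟨_, rfl⟩
  obtain ⟨s, hs⟩ := (Algebra.FiniteType.out : (⊤ : Subalgebra R R').FG)
  choose nf hnf using hgen
  let N := s.sup nf
  -- the subalgebra
  let A : Subalgebra R R' :=
    { carrier := {y | algebraMap R L g ^ N * δ (algebraMap R' L y) ∈ Set.range (algebraMap R' L)}
      mul_mem' := by
        rintro a b ⟨za, hza⟩ ⟨zb, hzb⟩
        refine ⟨a * zb + b * za, ?_⟩
        rw [map_add, map_mul, map_mul, hza, hzb, map_mul, hδmul]
        ring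
      add_mem' := by
        rintro a b ⟨za, hza⟩ ⟨zb, hzb⟩
        refine ⟨za + zb, ?_⟩
        rw [map_add, hza, hzb, map_add, hδadd]
        ring
      algebraMap_mem' := by
        intro r
        refine ⟨algebraMap R R' (g ^ N * D r), ?_⟩
        show _ = algebraMap R L g ^ N * δ (algebraMap R' L (algebraMap R R' r))
        rw [← hRL, ← hRL, hδR, map_mul, map_pow] }
  have hA : A = ⊤ := by
    rw [eq_top_iff, ← hs]
    apply Algebra.adjoin_le
    intro x hx
    exact hnf x N (Finset.le_sup (f := nf) hx)
  have hall : ∀ y : R', ∃ z : R', algebraMap R' L z = algebraMap R L g ^ N * δ (algebraMap R' L y) := by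
    intro y
    have : y ∈ A := by rw [hA]; trivial
    exact this
  choose D0 hD0 using hall
  have hD0add : ∀ a b, D0 (a + b) = D0 a + D0 b := by
    intro a b
    apply hιinj
    rw [map_add (algebraMap R' L) (D0 a) (D0 b), hD0, hD0, hD0, map_add, hδadd]
    ring
  have hD0mul : ∀ a b, D0 (a * b) = a * D0 b + b * D0 a := by
    intro a b
    apply hιinj
    rw [hD0, map_add (algebraMap R' L) (a * D0 b), map_mul (algebraMap R' L) a (D0 b),
      map_mul (algebraMap R' L) b (D0 a), hD0, hD0, map_mul, hδmul]
    ring
  let D0hom : R' →+ R' := AddMonoidHom.mk' D0 hD0add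
  refine ⟨N, Derivation.mk' D0hom.toIntLinearMap ?_, ?_⟩
  · intro a b
    show D0 (a * b) = a • D0 b + b • D0 a
    rw [hD0mul, smul_eq_mul, smul_eq_mul]
  · intro r
    show D0 (algebraMap R R' r) = _
    apply hιinj
    rw [hD0, ← hRL, ← hRL, hδR, map_mul, map_pow]

end Groth.Agent.S2133
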