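import Groth.Statements.S2134
import Mathlib

set_option autoImplicit false
universe u
open CAlg

namespace Groth.Agent.S2134

section
variable {K : Type u} [Field K]

/-- prepend a zero coordinate -/
def jmap (n : ℕ) : (Fin n → K) →ₗ[K] (Fin (n + 1) → K) where
  toFun x := Fin.cons 0 x
  map_add' x y := by
    funext i
    refine Fin.cases ?_ (fun i => ?_) i <;> simp
  map_smul' c x := by
    funext i
    refine Fin.cases ?_ (fun i => ?_) i <;> simp

lemma jmap_zero (n : ℕ) (x : Fin n → K) : jmap n x 0 = 0 := rfl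

lemma jmap_succ (n : ℕ) (x : Fin n → K) (i : Fin n) : jmap n x i.succ = x i := rfl

lemma eq_jmap_tail (n : ℕ) (v : Fin (n + 1) → K) (h0 : v 0 = 0) :
    v = jmap n (Fin.tail v) := by
  funext i
  refine Fin.cases ?_ (fun i => ?_) i
  · rw [jmap_zero, h0]
  · rw [jmap_succ]; rfl

end

theorem aux {k K : Type u} [Field k] [Field K] [Algebra k K] {ι : Type u} [Nonempty ι]
    (F : ι → IntermediateField k K) (hdir : ∀ a b : ι, ∃ c, F c ≤ F a ⊓ F b) (hinf : ⨅ a, F a = ⊥)
    (n : ℕ) (V : Submodule K (Fin n → K))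
    (h : ∀ a, ∃ v ∈ V, v ≠ 0 ∧ ∀ i, v i ∈ F a) :
    ∃ v ∈ V, v ≠ 0 ∧ ∀ i, v i ∈ Set.range (algebraMap k K) := by
  induction n with
  | zero =>
    exfalso
    obtain ⟨a⟩ := ‹Nonempty ι›
    obtain ⟨v, _, hv, _⟩ := h a
    exact hv (Subsingleton.elim _ _)
  | succ n ih =>
    let V' : Submodule K (Fin n → K) := V.comap (jmap n)
    by_cases hA : ∀ a, ∃ v ∈ V', v ≠ 0 ∧ ∀ i, v i ∈ F a
    · obtain ⟨v', hv'V, hv'0, hv'k⟩ := ih V' hA
      refine ⟨jmap n v', hv'V, ?_, ?_⟩
      · intro h0
        apply hv'0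
        funext i
        have := congrFun h0 i.succ
        rwa [jmap_succ] at this
      · intro i
        refine Fin.cases ?_ (fun i => ?_) i
        · rw [jmap_zero]; exact ⟨0, map_zero _⟩
        · rw [jmap_succ]; exact hv'k i
    · push Not at hA
      obtain ⟨α₀, hα₀⟩ := hA
      -- key: a K_α₀-rational vector in V with zeroth coordinate 0 vanishes
      have key : ∀ v ∈ V, (∀ i, v i ∈ F α₀) → v 0 = 0 → v = 0 := by
        intro v hvV hvF hv0
        have hv := eq_jmap_tail n v hv0
        have h1 : Fin.tail v ∈ V' := by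
          show jmap n (Fin.tail v) ∈ V
          rw [← hv]; exact hvV
        by_contra hne
        have h2 : Fin.tail v ≠ 0 := by
          intro h3
          apply hne
          rw [hv, h3, map_zero]
        obtain ⟨i, hi⟩ := hα₀ (Fin.tail v) h1 h2
        exact hi (hvF i.succ)
      -- normalized vectors
      have norm : ∀ c, F c ≤ F α₀ → ∃ u ∈ V, u 0 = 1 ∧ ∀ i, u i ∈ F c := by
        intro c hc
        obtain ⟨v, hvV, hv0, hvF⟩ := h c
        have hv00 : v 0 ≠ 0 := by
          intro h0
          exact hv0 (key v hvV (fun i => hc (hvF i)) h0)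
        refine ⟨(v 0)⁻¹ • v, V.smul_mem _ hvV, ?_, ?_⟩
        · rw [Pi.smul_apply, smul_eq_mul, inv_mul_cancel₀ hv00]
        · intro i
          rw [Pi.smul_apply, smul_eq_mul]
          exact (F c).mul_mem ((F c).inv_mem (hvF 0)) (hvF i)
      obtain ⟨u, huV, hu0, huF⟩ := norm α₀ le_rfl
      refine ⟨u, huV, ?_, ?_⟩
      · intro h0
        rw [h0] at hu0
        exact zero_ne_one hu0
      · intro i
        rw [← IntermediateField.mem_bot, ← hinf]
        have : u i ∈ ((⨅ a, F a : IntermediateField k K) : Set K) := by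
          rw [IntermediateField.coe_iInf]
          rw [Set.mem_iInter]
          intro γ
          obtain ⟨c, hc⟩ := hdir α₀ γ
          obtain ⟨u', hu'V, hu'0, hu'F⟩ := norm c (hc.trans inf_le_left)
          have hsub : u - u' = 0 := by
            apply key _ (V.sub_mem huV hu'V)
            · intro i
              rw [Pi.sub_apply]
              exact (F α₀).sub_mem (huF i) ((hc.trans inf_le_left) (hu'F i))
            · rw [Pi.sub_apply, hu0, hu'0, sub_self]
          have : u = u' := sub_eq_zero.1 hsub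
          rw [this]
          exact (hc.trans inf_le_right) (hu'F i)
        exact this


/-- Let `K/k` be a field extension and `(K_α)` a nonempty family of intermediate fields, directed
downwards, with intersection `k`. For a `K`-subspace `V` of `K^n` (`n ≥ 1`), `V` contains a nonzero
vector with all coordinates in `k` if and only if for every `α` it contains a nonzero vector with
all coordinates in `K_α`. -/
theorem result {k K : Type u} [Field k] [Field K] [Algebra k K] {ι : Type u} [Nonempty ι]
    (F : ι → IntermediateField k K) (hdir : ∀ a b : ι, ∃ c, F c ≤ F a ⊓ F b) (hinf : ⨅ a, F a = ⊥) (n : ℕ) (hn : 1 ≤ n)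
    (V : Submodule K (Fin n → K)) :
    (∃ v ∈ V, v ≠ 0 ∧ ∀ i, v i ∈ Set.range (algebraMap k K)) ↔
      ∀ a, ∃ v ∈ V, v ≠ 0 ∧ ∀ i, v i ∈ F a := by
  constructor
  · rintro ⟨v, hvV, hv0, hvk⟩ a
    refine ⟨v, hvV, hv0, ?_⟩
    intro i
    obtain ⟨c, hc⟩ := hvk i
    rw [← hc]
    exact (F a).algebraMap_mem c
  · exact aux F hdir hinf n V

end Groth.Agent.S2134
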