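import Groth.Statements.S2138
import Groth.Agent.Lib.Helper28Symbolic
-- import your own Groth.Agent.* helpers here

set_option autoImplicit false
universe u
open CAlg

namespace Groth.Agent.S2138
open Groth.Agent.Lib.Helper28

/-- Let `R → S` be flat and `𝔭` a prime of `R` whose extension `𝔮 = 𝔭S` is prime. Then for every `n` the
extension to `S` of the symbolic power `𝔭^{(n)}` (the contraction of `𝔭ⁿR_𝔭`) equals the symbolic
power `𝔮^{(n)}`. -/
theorem result {R S : Type u} [CommRing R] [CommRing S] [Algebra R S] [Module.Flat R S]
    (p : Ideal R) [p.IsPrime] [(p.map (algebraMap R S)).IsPrime] (n : ℕ) :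
    (((p ^ n).map (algebraMap R (Localization.AtPrime p))).comap (algebraMap R (Localization.AtPrime p))).map
        (algebraMap R S) =
      (((p.map (algebraMap R S)) ^ n).map (algebraMap S (Localization.AtPrime (p.map (algebraMap R S))))).comap
        (algebraMap S (Localization.AtPrime (p.map (algebraMap R S)))) := by
  have hqp : (p.map (algebraMap R S)).IsPrime := inferInstance
  apply le_antisymm
  · rw [Ideal.map_le_iff_le_comap]
    intro x hx
    rw [mem_comap_map_localization_iff] at hx
    obtain ⟨s, hs, hsx⟩ := hx
    rw [Ideal.mem_comap, mem_comap_map_localization_iff]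
    refine ⟨algebraMap R S s, fun h => hs (mem_of_algebraMap_mem_map_of_flat p hqp.ne_top s h), ?_⟩
    rw [← map_mul, ← Ideal.map_pow]
    exact Ideal.mem_map_of_mem _ hsx
  · intro y hy
    rw [mem_comap_map_localization_iff] at hy
    obtain ⟨t, ht, hty⟩ := hy
    rw [← Ideal.map_pow] at hty
    have hty' : t * y ∈ (p ^ n) • (⊤ : Submodule R S) := by
      rw [Ideal.smul_top_eq_map, Submodule.restrictScalars_mem]
      exact hty
    obtain ⟨s, hs, hsy⟩ := exists_notMem_smul_mem_pow_smul_top p n t y ht hty'
    have h2 := mem_colon_smul_top_of_flat (p ^ n) s y hsy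
    have hcolon : (Submodule.colon (p ^ n) {s} : Ideal R) ≤
        ((p ^ n).map (algebraMap R (Localization.AtPrime p))).comap
          (algebraMap R (Localization.AtPrime p)) := by
      intro r hr
      rw [Submodule.mem_colon_singleton, smul_eq_mul] at hr
      rw [mem_comap_map_localization_iff]
      exact ⟨s, hs, by rwa [mul_comm]⟩
    have h3 := Submodule.smul_mono_left (N := (⊤ : Submodule R S)) hcolon h2
    rw [Ideal.smul_top_eq_map, Submodule.restrictScalars_mem] at h3
    exact h3

end Groth.Agent.S2138
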