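import Groth.Statements.S2140
import Mathlib
import Groth.Agent.S2073

set_option autoImplicit false
universe u
open CAlg

namespace Groth.Agent.S2140

/-- generic freeness ⇒ finite presentation after localizing -/
theorem finitePresentation_of_free_submodule {P S Sh ι : Type*} [CommRing P] [CommRing S] [CommRing Sh]
    [Algebra P S] [Algebra S Sh] [Algebra P Sh] [IsScalarTower P S Sh] [Finite ι]
    (h : P) [IsLocalization.Away (algebraMap P S h) Sh]
    (F : Submodule P S) (b : Module.Basis ι P F) (hF : ∀ s : S, ∃ n : ℕ, h ^ n • s ∈ F) :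
    Algebra.FinitePresentation P Sh := by
  have hu : IsUnit (algebraMap P Sh h) := by
    rw [IsScalarTower.algebraMap_apply P S Sh]
    exact IsLocalization.Away.algebraMap_isUnit _
  let _ : Algebra (Localization.Away h) Sh := (IsLocalization.Away.lift h hu).toAlgebra
  have t1 : IsScalarTower P (Localization.Away h) Sh :=
    IsScalarTower.of_algebraMap_eq' (by
      ext p
      exact (IsLocalization.Away.lift_eq h hu p).symm)
  have hloc : IsLocalizedModule (Submonoid.powers h) (IsScalarTower.toAlgHom P S Sh).toLinearMap := by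
    rw [isLocalizedModule_iff_isLocalization, Algebra.algebraMapSubmonoid_powers]
    infer_instance
  let ψ : F →ₗ[P] Sh := (IsScalarTower.toAlgHom P S Sh).toLinearMap ∘ₗ F.subtype
  have hψ : IsLocalizedModule (Submonoid.powers h) ψ := by
    refine ⟨hloc.map_units, ?_, ?_⟩
    · intro y
      obtain ⟨⟨s, ⟨_, k, rfl⟩⟩, hs⟩ := hloc.surj y
      obtain ⟨n, hn⟩ := hF s
      refine ⟨⟨⟨h ^ n • s, hn⟩, ⟨h ^ (n + k), n + k, rfl⟩⟩, ?_⟩
      change (h ^ (n + k)) • y = (IsScalarTower.toAlgHom P S Sh).toLinearMap (h ^ n • s)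
      rw [map_smul, ← hs, pow_add, mul_smul]
      rfl
    · intro x₁ x₂ hx
      obtain ⟨c, hc⟩ := hloc.exists_of_eq hx
      exact ⟨c, Subtype.ext hc⟩
  let b' := b.ofIsLocalizedModule (Localization.Away h) (Submonoid.powers h) ψ
  have : Module.Free (Localization.Away h) Sh := Module.Free.of_basis b'
  have : Module.Finite (Localization.Away h) Sh := Module.Finite.of_basis b'
  have : Module.FinitePresentation (Localization.Away h) Sh :=
    Module.finitePresentation_of_projective _ _
  have : Algebra.FinitePresentation (Localization.Away h) Sh := inferInstance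
  exact Algebra.FinitePresentation.trans P (Localization.Away h) Sh

theorem isIntegralElem_of_adjoin {R S : Type*} [CommRing R] [CommRing S] [Algebra R S] {d : ℕ}
    (y : Fin d → S) (x : S) (hx : IsIntegral (Algebra.adjoin R (Set.range y)) x) :
    (MvPolynomial.aeval (R := R) y).toRingHom.IsIntegralElem x := by
  rcases subsingleton_or_nontrivial S with hS | hS
  · exact ⟨1, Polynomial.monic_one, Subsingleton.elim _ _⟩
  have hyB : ∀ i, y i ∈ Algebra.adjoin R (Set.range y) := fun i => Algebra.subset_adjoin ⟨i, rfl⟩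
  let g₁ : MvPolynomial (Fin d) R →ₐ[R] (Algebra.adjoin R (Set.range y)) :=
    MvPolynomial.aeval (fun i => (⟨y i, hyB i⟩ : Algebra.adjoin R (Set.range y)))
  have hcomp : ∀ p, ((g₁ p : Algebra.adjoin R (Set.range y)) : S) = MvPolynomial.aeval y p := by
    intro p
    have : ((Algebra.adjoin R (Set.range y)).val.comp g₁) = MvPolynomial.aeval y := by
      apply MvPolynomial.algHom_ext
      intro i
      simp [g₁]
    exact congrArg (fun h => h p) this
  have hsurj : Function.Surjective g₁.toRingHom := by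
    intro a
    have ha : (a : S) ∈ (MvPolynomial.aeval (R := R) y).range := by
      rw [← Algebra.adjoin_range_eq_range_aeval]; exact a.2
    obtain ⟨p, hp⟩ := ha
    exact ⟨p, Subtype.ext ((hcomp p).trans hp)⟩
  obtain ⟨q, hqm, hq⟩ := hx
  have hl : q ∈ Polynomial.lifts g₁.toRingHom :=
    (Polynomial.mem_lifts _).mpr (Polynomial.map_surjective _ hsurj q)
  obtain ⟨q', hq'map, -, hq'm⟩ := Polynomial.lifts_and_degree_eq_and_monic hl hqm
  refine ⟨q', hq'm, ?_⟩
  have e : (MvPolynomial.aeval (R := R) y).toRingHom =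
      (algebraMap (Algebra.adjoin R (Set.range y)) S).comp g₁.toRingHom := by
    ext p
    · simp
    · simp [g₁]
  rw [e, ← Polynomial.eval₂_map, hq'map]
  exact hq


/-- Let `R → S` be an injective ring map of finite type between domains. Then there are nonzero `f ∈ R`
and `g ∈ S` such that `S_{fg}` is a finitely presented `R_f`-algebra. -/
theorem result {R S : Type u} [CommRing R] [IsDomain R] [CommRing S] [IsDomain S]
    [Algebra R S] [Algebra.FiniteType R S] (hinj : Function.Injective (algebraMap R S)) :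
    ∃ (f : R) (g : S), f ≠ 0 ∧ g ≠ 0 ∧
      ∀ (Rf Sfg : Type u) [CommRing Rf] [CommRing Sfg] [Algebra R Rf] [IsLocalization.Away f Rf]
        [Algebra S Sfg] [IsLocalization.Away (algebraMap R S f * g) Sfg] [Algebra Rf Sfg] [Algebra R Sfg]
        [IsScalarTower R S Sfg] [IsScalarTower R Rf Sfg], Algebra.FinitePresentation Rf Sfg := by
  classical
  obtain ⟨d, y, S', hindep, hyS', hfg, hint, f, hf0, hf⟩ := Groth.Agent.S2073.result hinj
  obtain ⟨φ, hφ⟩ : ∃ φ : MvPolynomial (Fin d) R →ₐ[R] S, φ = MvPolynomial.aeval y := ⟨_, rfl⟩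
  have hφinj : Function.Injective φ := by
    rw [hφ]; exact (algebraicIndependent_iff_injective_aeval).mp hindep
  letI iPS : Algebra (MvPolynomial (Fin d) R) S := φ.toRingHom.toAlgebra
  have hsmul : ∀ (p : MvPolynomial (Fin d) R) (s : S), p • s = φ p * s := fun p s => rfl
  have tRPS : IsScalarTower R (MvPolynomial (Fin d) R) S :=
    IsScalarTower.of_algebraMap_eq' (RingHom.ext fun r => (φ.commutes r).symm)
  obtain ⟨W, hW⟩ := hfg
  have hWint : ∀ w ∈ (W : Set S), IsIntegral (MvPolynomial (Fin d) R) w := by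
    intro w hw
    have hw' : w ∈ S' := hW ▸ Algebra.subset_adjoin hw
    have := isIntegralElem_of_adjoin (R := R) y w (hint w hw')
    rw [← hφ] at this
    exact this
  have hNfg : (Algebra.adjoin (MvPolynomial (Fin d) R) (W : Set S)).toSubmodule.FG :=
    fg_adjoin_of_finite W.finite_toSet hWint
  have hS'N : ∀ s ∈ S', s ∈ (Algebra.adjoin (MvPolynomial (Fin d) R) (W : Set S)).toSubmodule := by
    intro s hs
    rw [← hW] at hs
    have : Algebra.adjoin R (W : Set S) ≤
        (Algebra.adjoin (MvPolynomial (Fin d) R) (W : Set S)).restrictScalars R :=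
      Algebra.adjoin_le (fun w hw => Algebra.subset_adjoin hw)
    exact this hs
  obtain ⟨Gm, hGm⟩ := hNfg
  obtain ⟨I, hIli, hImax⟩ := exists_maximal_linearIndepOn (MvPolynomial (Fin d) R)
    (fun m : Gm => (m : S))
  obtain ⟨F, hFdef⟩ : ∃ F : Submodule (MvPolynomial (Fin d) R) S,
    F = Submodule.span (MvPolynomial (Fin d) R) (Set.range (fun x : I => ((x : Gm) : S))) := ⟨_, rfl⟩
  have hIli' : LinearIndependent (MvPolynomial (Fin d) R) (fun x : I => ((x : Gm) : S)) := hIli
  have b : Module.Basis I (MvPolynomial (Fin d) R) F := hFdef ▸ Module.Basis.span hIli'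
  have ha : ∀ i : Gm, ∃ a : MvPolynomial (Fin d) R, a ≠ 0 ∧ a • (i : S) ∈ F := by
    intro i
    by_cases hi : i ∈ I
    · exact ⟨1, one_ne_zero, by
        rw [one_smul, hFdef]; exact Submodule.subset_span ⟨⟨i, hi⟩, rfl⟩⟩
    · obtain ⟨a, ha0, ha⟩ := hImax i hi
      refine ⟨a, ha0, ?_⟩
      rw [Set.image_eq_range] at ha
      rw [hFdef]
      exact ha
  choose a ha0 haF using ha
  obtain ⟨g₀, hg₀def⟩ : ∃ g₀ : MvPolynomial (Fin d) R, g₀ = ∏ i, a i := ⟨_, rfl⟩
  have hg₀ : g₀ ≠ 0 := by
    rw [hg₀def]; exact Finset.prod_ne_zero_iff.mpr fun i _ => ha0 i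
  have hg₀F : ∀ n ∈ (Algebra.adjoin (MvPolynomial (Fin d) R) (W : Set S)).toSubmodule, g₀ • n ∈ F := by
    intro n hn
    rw [← hGm] at hn
    have hle : Submodule.span (MvPolynomial (Fin d) R) (Gm : Set S) ≤
        F.comap (LinearMap.lsmul (MvPolynomial (Fin d) R) S g₀) := by
      rw [Submodule.span_le]
      intro m hm
      change g₀ • m ∈ F
      have := haF ⟨m, hm⟩
      rw [hg₀def, ← Finset.mul_prod_erase Finset.univ a (Finset.mem_univ ⟨m, hm⟩), mul_comm, mul_smul]
      exact F.smul_mem _ this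
    exact hle hn
  obtain ⟨h, hhdef⟩ : ∃ h : MvPolynomial (Fin d) R, h = MvPolynomial.C f * g₀ := ⟨_, rfl⟩
  have hφC : ∀ r : R, φ (MvPolynomial.C r) = algebraMap R S r := fun r => by
    rw [← MvPolynomial.algebraMap_eq, φ.commutes]
  have hF : ∀ s : S, ∃ n : ℕ, h ^ n • s ∈ F := by
    intro s
    obtain ⟨n, hn⟩ := hf s
    have h2 : g₀ • (f ^ n • s) ∈ F := hg₀F _ (hS'N _ hn)
    refine ⟨n + 1, ?_⟩
    have : h ^ (n + 1) • s = (MvPolynomial.C f * g₀ ^ n) • (g₀ • (f ^ n • s)) := by
      rw [hsmul, hsmul, hsmul, hhdef, Algebra.smul_def]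
      simp only [map_mul, map_pow, hφC]
      ring
    rw [this]
    exact F.smul_mem _ h2
  refine ⟨f, φ g₀, hf0, fun h0 => hg₀ (hφinj (by rw [h0, map_zero])), ?_⟩
  intro Rf Sfg _ _ _ _ _ _ _ _ _ _
  letI iPSfg : Algebra (MvPolynomial (Fin d) R) Sfg :=
    ((algebraMap S Sfg).comp φ.toRingHom).toAlgebra
  have t2 : IsScalarTower (MvPolynomial (Fin d) R) S Sfg := IsScalarTower.of_algebraMap_eq' rfl
  have hloc : IsLocalization.Away (algebraMap (MvPolynomial (Fin d) R) S h) Sfg := by
    have : algebraMap (MvPolynomial (Fin d) R) S h = algebraMap R S f * φ g₀ := by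
      change φ h = _
      rw [hhdef, map_mul, hφC]
    rw [this]; infer_instance
  have fp1 : Algebra.FinitePresentation (MvPolynomial (Fin d) R) Sfg :=
    finitePresentation_of_free_submodule h F b hF
  have t3 : IsScalarTower R (MvPolynomial (Fin d) R) Sfg :=
    IsScalarTower.of_algebraMap_eq' (RingHom.ext fun r => by
      change _ = algebraMap S Sfg (φ (algebraMap R _ r))
      rw [φ.commutes, ← IsScalarTower.algebraMap_apply])
  have fp2 : Algebra.FinitePresentation R Sfg :=
    Algebra.FinitePresentation.trans R (MvPolynomial (Fin d) R) Sfg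
  have fpRf : Algebra.FinitePresentation R Rf := IsLocalization.Away.finitePresentation f
  exact Algebra.FinitePresentation.of_restrict_scalars_finitePresentation R Rf Sfg

end Groth.Agent.S2140
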