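import Groth.Statements.S2143
import Groth.Agent.Lib.Helper14LocalDim

set_option autoImplicit false
universe u
open CAlg

namespace Groth.Agent.S2143

/-- (1) = (3): let `S` be of finite type over a field `k` and `𝔭` a prime of `S`. The local dimension of
`Spec S` at `𝔭` is the infimum of `dim S_𝔪` over the maximal ideals `𝔪 ⊇ 𝔭`. -/
theorem result {k S : Type u} [Field k] [CommRing S] [Algebra k S] [Algebra.FiniteType k S]
    (p : Ideal S) [p.IsPrime] :
    FlatMor.localDim (PrimeSpectrum S) ⟨p, inferInstance⟩ =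
      ⨅ m : {m : Ideal S // m.IsMaximal ∧ p ≤ m}, ringKrullDim (Localization.AtPrime (hp := m.2.1.isPrime') m.1) := by
  obtain ⟨n, e, hn, he, -, he'⟩ := Groth.Agent.Lib.Helper14.LocalDim.exists_dims (k := k) p
  have hp := Groth.Agent.Lib.Helper14.LocalDim.localDim_eq (k := k) p n e hn he he'
  apply le_antisymm
  · refine le_iInf fun m => ?_
    obtain ⟨m, hm, hpm⟩ := m
    haveI := hm
    haveI : m.IsPrime := hm.isPrime
    obtain ⟨n', e', hn', he1, -, he1'⟩ := Groth.Agent.Lib.Helper14.LocalDim.exists_dims (k := k) m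
    have hm' := Groth.Agent.Lib.Helper14.LocalDim.localDim_eq (k := k) m n' e' hn' he1 he1'
    have hfield : ringKrullDim (S ⧸ m) = 0 :=
      ringKrullDim_eq_zero_of_isField ((Ideal.Quotient.maximal_ideal_iff_isField_quotient m).mp hm)
    rw [hfield] at he1
    have he0 : e' = 0 := by exact_mod_cast he1.symm
    subst he0
    show _ ≤ ringKrullDim (Localization.AtPrime m)
    rw [IsLocalization.AtPrime.ringKrullDim_eq_height m (Localization.AtPrime m), hn']
    have h1 : FlatMor.localDim (PrimeSpectrum S) ⟨p, inferInstance⟩ ≤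
        FlatMor.localDim (PrimeSpectrum S) ⟨m, inferInstance⟩ := by
      rw [Groth.Agent.Lib.Helper7.TopDim.le_localDim_iff]
      intro U hU
      refine Groth.Agent.Lib.Helper7.TopDim.localDim_le _ U ?_
      have hspec : (⟨p, inferInstance⟩ : PrimeSpectrum S) ⤳ ⟨m, inferInstance⟩ :=
        (PrimeSpectrum.le_iff_specializes _ _).mp hpm
      exact hspec.mem_open U.isOpen hU
    refine h1.trans ?_
    rw [hm']
    simp
  · obtain ⟨f, hfp, hf⟩ := Groth.Agent.Lib.Helper14.LocalDim.exists_notMem_forall_minimalPrimes (k := k) p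
    obtain ⟨m, hm, hpm, hfm⟩ := Groth.Agent.Lib.Helper14.LocalDim.exists_isMaximal_notMem (k := k) p f hfp
    haveI : m.IsPrime := hm.isPrime
    refine (iInf_le _ (⟨m, hm, hpm⟩ : {m : Ideal S // m.IsMaximal ∧ p ≤ m})).trans ?_
    show ringKrullDim (Localization.AtPrime m) ≤ _
    rw [IsLocalization.AtPrime.ringKrullDim_eq_height m (Localization.AtPrime m), hp]
    have := Groth.Agent.Lib.Helper14.LocalDim.height_le_of_notMem (k := k) p n e hn he f hf m hfm
    exact_mod_cast this

end Groth.Agent.S2143
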