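import Groth.Statements.S2145
import Mathlib
import Groth.Agent.Lib.Helper22SpreadIso

set_option autoImplicit false
universe u
open CAlg
open Groth.Agent.Lib.Helper22

namespace Groth.Agent.S2145

/-- Let `S`, `S'` be finitely presented `R`-algebras and `𝔮 ⊆ S`, `𝔮' ⊆ S'` primes with `S_𝔮 ≅ S'_{𝔮'}`
as `R`-algebras. Then `S_g ≅ S'_{g'}` as `R`-algebras for some `g ∉ 𝔮`, `g' ∉ 𝔮'`. -/
theorem result {R S S' : Type u} [CommRing R] [CommRing S] [CommRing S'] [Algebra R S]
    [Algebra R S'] [Algebra.FinitePresentation R S] [Algebra.FinitePresentation R S'] (q : Ideal S) [q.IsPrime]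
    (q' : Ideal S') [q'.IsPrime] (e : Localization.AtPrime q ≃ₐ[R] Localization.AtPrime q') :
    ∃ (g : S) (g' : S'), g ∉ q ∧ g' ∉ q' ∧ Nonempty (Localization.Away g ≃ₐ[R] Localization.Away g') := by
  classical
  let L := Localization.AtPrime q'
  let ψ₁ : S →ₐ[R] L := e.toAlgHom.comp (IsScalarTower.toAlgHom R S (Localization.AtPrime q))
  obtain ⟨g', hg', φ, hφ⟩ := SpreadIso.exists_lift_away (R := R) (S := S) (T := S') (L := L)
    q'.primeCompl ψ₁
  let B := Localization.Away g'
  have hg'unit : IsUnit (algebraMap S' L g') := IsLocalization.map_units L ⟨g', hg'⟩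
  let χ : B →ₐ[S'] L := IsLocalization.Away.liftAlgHom (f := Algebra.ofId S' L) g' hg'unit
  let algSB : Algebra S B := φ.toRingHom.toAlgebra
  have towRSB : IsScalarTower R S B := IsScalarTower.of_algebraMap_eq (fun r => (φ.commutes r).symm)
  let algSL : Algebra S L := ψ₁.toRingHom.toAlgebra
  have towRSL : IsScalarTower R S L :=
    IsScalarTower.of_algebraMap_eq (fun r => (ψ₁.commutes r).symm)
  let algBL : Algebra B L := χ.toRingHom.toAlgebra
  have towS'BL : IsScalarTower S' B L :=
    IsScalarTower.of_algebraMap_eq (fun s => (χ.commutes s).symm)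
  have towSBL : IsScalarTower S B L := IsScalarTower.of_algebraMap_eq (fun s => (hφ χ s).symm)
  have fpS'B : Algebra.FinitePresentation S' B := IsLocalization.Away.finitePresentation g'
  have fpRB : Algebra.FinitePresentation R B := Algebra.FinitePresentation.trans R S' B
  have fpSB : Algebra.FinitePresentation S B :=
    Algebra.FinitePresentation.of_restrict_scalars_finitePresentation R S B
  have locq : IsLocalization.AtPrime L q := by
    let eS : Localization.AtPrime q ≃ₐ[S] L :=
      { e.toRingEquiv with commutes' := fun s => rfl }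
    exact IsLocalization.isLocalization_of_algEquiv q.primeCompl eS
  have locM : IsLocalization (q'.primeCompl.map (algebraMap S' B)) L :=
    IsLocalization.isLocalization_of_submonoid_le B L (Submonoid.powers g') q'.primeCompl
      (Submonoid.powers_le.mpr hg')
  obtain ⟨a, haq, b, hbunit, hloc⟩ := SpreadIso.exists_away_isLocalization (A := S) (B := B)
    (L := L) q (q'.primeCompl.map (algebraMap S' B))
  obtain ⟨n, b', hb'⟩ := IsLocalization.Away.surj g' b
  have hg'B : IsUnit (algebraMap S' B g') := IsLocalization.Away.algebraMap_isUnit g'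
  have hb'q : b' ∈ q'.primeCompl := by
    rw [← IsLocalization.AtPrime.isUnit_to_map_iff L q' b', IsScalarTower.algebraMap_apply S' B L,
      ← hb', map_mul, map_pow]
    exact hbunit.mul ((hg'B.map (algebraMap B L)).pow n)
  have hassoc : Associated (algebraMap S' B b') b := by
    refine Associated.symm ⟨(hg'B.pow n).unit, ?_⟩
    rw [IsUnit.unit_spec, hb']
  have hloc' : IsLocalization.Away (g' * b') (Localization.Away b) :=
    IsLocalization.Away.mul_of_associated (S := B) g' b' b hassoc
  refine ⟨a, g' * b', haq, fun h => (Ideal.IsPrime.mem_or_mem ‹_› h).elim hg' hb'q, ⟨?_⟩⟩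
  have towRS : IsScalarTower R S (Localization.Away b) := by
    refine IsScalarTower.of_algebraMap_eq (R := R) (S := S) (A := Localization.Away b)
      (fun r => ?_)
    rw [IsScalarTower.algebraMap_apply R B (Localization.Away b),
      IsScalarTower.algebraMap_apply S B (Localization.Away b),
      ← IsScalarTower.algebraMap_apply R S B]
  have towRS' : IsScalarTower R S' (Localization.Away b) := by
    refine IsScalarTower.of_algebraMap_eq (R := R) (S := S') (A := Localization.Away b)
      (fun r => ?_)
    rw [IsScalarTower.algebraMap_apply R B (Localization.Away b),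
      IsScalarTower.algebraMap_apply S' B (Localization.Away b),
      ← IsScalarTower.algebraMap_apply R S' B]
  let e₁ : Localization.Away a ≃ₐ[S] Localization.Away b :=
    IsLocalization.algEquiv (Submonoid.powers a) _ _
  let e₂ : Localization.Away (g' * b') ≃ₐ[S'] Localization.Away b :=
    IsLocalization.algEquiv (Submonoid.powers (g' * b')) _ _
  exact (e₁.restrictScalars R).trans (e₂.restrictScalars R).symm

end Groth.Agent.S2145
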