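import Groth.Statements.S2146
import Mathlib
import Groth.Agent.Lib.Helper22SpreadIso

set_option autoImplicit false
universe u
open CAlg
open Groth.Agent.Lib.Helper22

namespace Groth.Agent.S2146

/-- Let `S` be a finitely presented `R`-algebra and `𝔮` a prime of `S` over `𝔭` such that the induced
map `R_𝔭 → S_𝔮` is bijective. Then for some `f ∉ 𝔭` there is an `R_f`-algebra `C` with `S_f ≅ R_f ×
C` as `R_f`-algebras. -/
theorem result {R S : Type u} [CommRing R] [CommRing S] [Algebra R S]
    [Algebra.FinitePresentation R S] (q : Ideal S) [q.IsPrime] (p : Ideal R) [p.IsPrime] [q.LiesOver p]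
    (h : Function.Bijective (Localization.localRingHom p q (algebraMap R S) (q.over_def p))) :
    ∃ f : R, f ∉ p ∧ ∀ (Rf Sf : Type u) [CommRing Rf] [CommRing Sf] [Algebra R Rf] [IsLocalization.Away f Rf]
      [Algebra S Sf] [IsLocalization.Away (algebraMap R S f) Sf] [Algebra Rf Sf] [Algebra R Sf] [IsScalarTower R S Sf]
      [IsScalarTower R Rf Sf],
      ∃ (C : Type u) (_ : CommRing C) (_ : Algebra Rf C), Nonempty (Sf ≃ₐ[Rf] (Rf × C)) := by
  classical
  -- `S_q` is the localization of `R` at `p`
  let L := Localization.AtPrime q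
  have locL : IsLocalization.AtPrime L p := by
    let e0 : Localization.AtPrime p ≃+* L := RingEquiv.ofBijective _ h
    let eR : Localization.AtPrime p ≃ₐ[R] L :=
      { e0 with
        commutes' := fun r => by
          show Localization.localRingHom p q (algebraMap R S) (q.over_def p)
            (algebraMap R (Localization.AtPrime p) r) = algebraMap R L r
          rw [Localization.localRingHom_to_map, IsScalarTower.algebraMap_apply R S L] }
    exact IsLocalization.isLocalization_of_algEquiv p.primeCompl eR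
  obtain ⟨a, hap, b, hbunit, hloc⟩ := SpreadIso.exists_away_isLocalization (A := R) (B := S)
    (L := L) p q.primeCompl
  refine ⟨a, hap, ?_⟩
  intro Rf Sf _ _ _ _ _ _ _ _ _ _
  let T := Localization.Away b
  -- the retraction `σ : Sf → Rf`
  have haT : IsUnit (algebraMap S T (algebraMap R S a)) := by
    rw [← IsScalarTower.algebraMap_apply R S T]
    exact IsLocalization.Away.algebraMap_isUnit a
  let τ : Sf →+* T := IsLocalization.Away.lift (algebraMap R S a) haT
  have hτ : ∀ s : S, τ (algebraMap S Sf s) = algebraMap S T s := fun s =>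
    IsLocalization.Away.lift_eq _ haT s
  let ρ : T ≃ₐ[R] Rf := IsLocalization.algEquiv (Submonoid.powers a) T Rf
  let σ₀ : Sf →+* Rf := (ρ : T →+* Rf).comp τ
  have hσR : ∀ r : R, σ₀ (algebraMap R Sf r) = algebraMap R Rf r := by
    intro r
    show ρ (τ (algebraMap R Sf r)) = _
    rw [IsScalarTower.algebraMap_apply R S Sf, hτ, ← IsScalarTower.algebraMap_apply R S T,
      ρ.commutes]
  have hσRf : ∀ x : Rf, σ₀ (algebraMap Rf Sf x) = x := by
    have : (σ₀.comp (algebraMap Rf Sf)) = RingHom.id Rf := by
      apply IsLocalization.ringHom_ext (Submonoid.powers a)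
      ext r
      simp only [RingHom.coe_comp, Function.comp_apply, RingHom.id_apply]
      rw [← IsScalarTower.algebraMap_apply R Rf Sf, hσR]
    exact fun x => RingHom.congr_fun this x
  let σ : Sf →ₐ[Rf] Rf := { σ₀ with commutes' := hσRf }
  have hσsurj : Function.Surjective σ := fun x => ⟨algebraMap Rf Sf x, hσRf x⟩
  -- finite presentation
  have fpSSf : Algebra.FinitePresentation S Sf :=
    IsLocalization.Away.finitePresentation (algebraMap R S a)
  have fpRSf : Algebra.FinitePresentation R Sf := Algebra.FinitePresentation.trans R S Sf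
  have fpRRf : Algebra.FinitePresentation R Rf := IsLocalization.Away.finitePresentation a
  have fpRfSf : Algebra.FinitePresentation Rf Sf :=
    Algebra.FinitePresentation.of_restrict_scalars_finitePresentation R Rf Sf
  have hJfg : (RingHom.ker σ.toRingHom).FG :=
    Algebra.FinitePresentation.ker_fG_of_surjective σ hσsurj
  set J : Ideal Sf := RingHom.ker σ.toRingHom with hJ
  have hmemJ : ∀ x, x ∈ J ↔ σ x = 0 := fun x => Iff.rfl
  -- `J` is idempotent
  let b' : Sf := algebraMap S Sf b
  have hb'unit : IsUnit (σ b') := by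
    show IsUnit (ρ (τ (algebraMap S Sf b)))
    rw [hτ]
    exact (IsLocalization.Away.algebraMap_isUnit b).map ρ
  obtain ⟨c, hc⟩ := hσsurj (hb'unit.unit⁻¹ : Rfˣ)
  have hbc : σ (b' * c) = 1 := by
    rw [map_mul, hc]
    exact hb'unit.mul_val_inv
  have hkill : ∀ x ∈ J, ∃ j : ℕ, b' ^ j * x = 0 := by
    intro x hx
    have hτx : τ x = 0 := by
      have : ρ (τ x) = 0 := hx
      exact (map_eq_zero_iff ρ ρ.injective).mp this
    obtain ⟨k, s, hs⟩ := IsLocalization.Away.surj (algebraMap R S a) x
    have h1 := congrArg τ hs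
    rw [map_mul, hτx, zero_mul, hτ] at h1
    obtain ⟨j, hj⟩ := IsLocalization.Away.exists_of_eq b (h1.symm.trans (map_zero _).symm)
    rw [mul_zero] at hj
    refine ⟨j, ?_⟩
    have hunit : IsUnit (algebraMap S Sf (algebraMap R S a) ^ k) :=
      (IsLocalization.Away.algebraMap_isUnit (algebraMap R S a)).pow k
    apply hunit.mul_right_cancel
    rw [zero_mul, mul_assoc, hs, ← map_pow, ← map_mul, hj, map_zero]
  have hJidem : IsIdempotentElem J := by
    apply le_antisymm
    · exact Ideal.mul_le_right
    · intro x hx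
      obtain ⟨j, hj⟩ := hkill x hx
      have hu : 1 - (b' * c) ^ j ∈ J := by
        rw [hmemJ, map_sub, map_one, map_pow, hbc, one_pow, sub_self]
      have : x = x * (1 - (b' * c) ^ j) := by
        have : x * (b' * c) ^ j = 0 := by
          rw [mul_pow, ← mul_assoc, mul_comm x, hj, zero_mul]
        rw [mul_sub, mul_one, this, sub_zero]
      rw [this]
      exact Ideal.mul_mem_mul hx hu
  obtain ⟨e, he, hJe⟩ := (Ideal.isIdempotentElem_iff_of_fg J hJfg).mp hJidem
  have heJ : e ∈ J := hJe ▸ Ideal.mem_span_singleton_self e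
  have hσe : σ e = 0 := heJ
  -- the decomposition
  let C := Sf ⧸ Ideal.span {1 - e}
  refine ⟨C, inferInstance, inferInstance, ⟨?_⟩⟩
  let Φ : Sf →ₐ[Rf] (Rf × C) := AlgHom.prod σ (Ideal.Quotient.mkₐ Rf (Ideal.span {1 - e}))
  refine AlgEquiv.ofBijective Φ ⟨?_, ?_⟩
  · rw [injective_iff_map_eq_zero]
    intro x hx
    have h1 : σ x = 0 := congrArg Prod.fst hx
    have h2 : (Ideal.Quotient.mk (Ideal.span {1 - e})) x = 0 := congrArg Prod.snd hx
    have hxJ : x ∈ Ideal.span {e} := by
      have hx' : x ∈ J := h1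
      rw [hJe] at hx'
      exact hx'
    obtain ⟨y, rfl⟩ := Ideal.mem_span_singleton'.mp hxJ
    rw [Ideal.Quotient.eq_zero_iff_mem] at h2
    obtain ⟨z, hz⟩ := Ideal.mem_span_singleton'.mp h2
    have : y * e = e * (y * e) := by
      rw [mul_comm y e, ← mul_assoc, he.eq]
    rw [this, ← hz]
    have : e * (1 - e) = 0 := by rw [mul_sub, mul_one, he.eq, sub_self]
    rw [mul_comm z, ← mul_assoc, this, zero_mul]
  · rintro ⟨r, z⟩
    obtain ⟨z, rfl⟩ := Ideal.Quotient.mk_surjective z
    refine ⟨(1 - e) * algebraMap Rf Sf r + e * z, ?_⟩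
    apply Prod.ext
    · show σ ((1 - e) * algebraMap Rf Sf r + e * z) = r
      rw [map_add, map_mul, map_mul, map_sub, map_one, hσe, sub_zero, one_mul, zero_mul, add_zero]
      exact hσRf r
    · show Ideal.Quotient.mk (Ideal.span {1 - e}) ((1 - e) * algebraMap Rf Sf r + e * z) =
        Ideal.Quotient.mk (Ideal.span {1 - e}) z
      rw [Ideal.Quotient.eq]
      apply Ideal.mem_span_singleton'.mpr
      exact ⟨algebraMap Rf Sf r - z, by ring⟩

end Groth.Agent.S2146
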