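import Groth.Statements.S2147
import Mathlib
import Groth.Agent.Lib.Helper22LimSep
import Groth.Agent.Lib.Helper22NA4
import Groth.Agent.Lib.Helper22NA15
import Groth.Agent.Lib.Helper22UP7
import Groth.Agent.Lib.Helper22ImgLim
import Groth.Agent.S0590
import Groth.Agent.S0591

set_option autoImplicit false
universe u
open CategoryTheory AlgebraicGeometry
open Lim

namespace Groth.Agent.S2147

open CategoryTheory.Limits TopologicalSpace
open Groth.Agent.Lib.Helper22 Groth.Agent.Lib.Helper22.LimBC Groth.Agent.Lib.Helper22.LimSep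

section bc

variable {I : Type u} [SmallCategory I] (D : I ⥤ Scheme.{u}) (i : I) {Xi : Scheme.{u}}
  (xi : Xi ⟶ D.obj i)

lemma isPullback_map_dSnd {j k : Over i} (w : j ⟶ k) :
    IsPullback ((bcDiagram D i xi).map w) (dSnd D i xi j) (dSnd D i xi k) (D.map w.left) := by
  have s : IsPullback ((bcDiagram D i xi).map w ≫ dFst D i xi k) (dSnd D i xi j) xi
      (D.map w.left ≫ D.map k.hom) := by
    rw [map_dFst, ← D.map_comp, Over.w]
    exact isPullback_d D i xi j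
  exact IsPullback.of_right s (map_dSnd D i xi w) (isPullback_d D i xi k)

end bc

set_option backward.isDefEq.respectTransparency.types false in
/-- step A: a separated finitely presented model of an ambient scheme over a stage -/
theorem exists_model {X S : Scheme.{u}} (f : X ⟶ S) [IsProper f] [CompactSpace S]
    [QuasiSeparatedSpace S] :
    ∃ (I₀ : Type u) (_ : SmallCategory I₀) (_ : IsCofiltered I₀) (D₀ : I₀ ⥤ Scheme.{u})
      (c₀ : Cone D₀) (_ : IsLimit c₀) (eS : c₀.pt ≅ S),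
      (∀ (i j : I₀) (a : i ⟶ j), IsAffineHom (D₀.map a)) ∧
      (∀ i, CompactSpace (D₀.obj i) ∧
        LocallyOfFiniteType (Limits.IsTerminal.from specULiftZIsTerminal (D₀.obj i))) ∧
      ∃ (i₁ : I₀) (P₁ P : Scheme.{u}) (p₁ : P₁ ⟶ D₀.obj i₁) (p : P ⟶ c₀.pt) (q₁ : P ⟶ P₁)
        (ι : X ⟶ P), IsSeparated p₁ ∧ LocallyOfFinitePresentation p₁ ∧ QuasiCompact p₁ ∧
          IsPullback q₁ p p₁ (c₀.π.app i₁) ∧ IsClosedImmersion ι ∧ ι ≫ p = f ≫ eS.inv := by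
  obtain ⟨I₀, _, _, _, D₀, c₀, hc₀, haff₀, hft₀, ⟨eS⟩⟩ := Groth.Agent.S0590.result S
  have hA : ∀ {i j : I₀ᵒᵖ} (a : i ⟶ j), IsAffineHom (D₀.map a) := fun a => haff₀ _ _ a
  have hA' : ∀ (i j : I₀ᵒᵖ) (a : i ⟶ j), IsAffineHom (D₀.map a) := haff₀
  have hC : ∀ i, CompactSpace (D₀.obj i) := fun i => (hft₀ i).1
  have hQ : ∀ i, QuasiSeparatedSpace (D₀.obj i) := fun i => by
    have := (hft₀ i).2
    have := NA4.isLocallyNoetherian_of_lft (D₀.obj i)
    infer_instance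
  have : CompactSpace c₀.pt := Scheme.compactSpace_of_isLimit D₀ c₀ hc₀
  have : QuasiSeparatedSpace c₀.pt := quasiSeparatedSpace_of_quasiSeparated eS.hom
  obtain ⟨P, p, ι, hsep, hfp, hqc, hι, hιp⟩ :=
    NA15.exists_separated_fp_closedImmersion (f ≫ eS.inv)
  obtain ⟨i, Pi, pi, g', h1, h2, h3, hpb⟩ := Groth.Agent.S0591.result D₀ c₀ hc₀ P p
  -- separatedness
  have hY : IsPullback (c₀.π.app i) (𝟙 c₀.pt) (𝟙 (D₀.obj i)) (c₀.π.app i) :=
    IsPullback.id_vert (c₀.π.app i)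
  have hCi : CompactSpace Pi := QuasiCompact.compactSpace_of_compactSpace pi
  have hqc' : QuasiCompact (pullback.fst pi pi) :=
    MorphismProperty.pullback_fst (P := @QuasiCompact) pi pi h2
  have hcp : CompactSpace ↥(pullback pi pi) :=
    QuasiCompact.compactSpace_of_compactSpace (pullback.fst pi pi)
  have hdq : QuasiCompact (pullback.diagonal pi) := inferInstance
  obtain ⟨k, hk⟩ := exists_isSeparated_bcMor D₀ c₀ hc₀ i pi (𝟙 _) hY hpb
  refine ⟨I₀ᵒᵖ, inferInstance, inferInstance, D₀, c₀, hc₀, eS, haff₀, hft₀, k.left,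
    (bcDiagram D₀ i (pi ≫ 𝟙 _)).obj k, P, dSnd D₀ i (pi ≫ 𝟙 _) k, p ≫ 𝟙 _,
    bcπ i (hpb.paste_vert hY) k, ι, ?_, ?_, ?_, isPullback_bcπ i (hpb.paste_vert hY) k, hι, ?_⟩
  · rw [← bcMor_snd D₀ i pi (𝟙 _) k]
    have : IsIso (dSnd D₀ i (𝟙 (D₀.obj i)) k) :=
      inferInstanceAs (IsIso (pullback.snd (𝟙 (D₀.obj i)) (D₀.map k.hom)))
    infer_instance
  · exact MorphismProperty.pullback_snd (P := @LocallyOfFinitePresentation) _ _ inferInstance
  · exact MorphismProperty.pullback_snd (P := @QuasiCompact) _ _ inferInstance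
  · rw [Category.comp_id, hιp]

section stepB

variable {I₀ : Type u} [SmallCategory I₀] [IsCofiltered I₀] (D₀ : I₀ ⥤ Scheme.{u}) (c₀ : Cone D₀)
  (hc₀ : IsLimit c₀) [∀ (i j : I₀) (a : i ⟶ j), IsAffineHom (D₀.map a)]
  [∀ i, CompactSpace (D₀.obj i)] [∀ i, QuasiSeparatedSpace (D₀.obj i)]
  (i₁ : I₀) {P₁ P X : Scheme.{u}} (p₁ : P₁ ⟶ D₀.obj i₁) (p : P ⟶ c₀.pt) (q₁ : P ⟶ P₁)
  (ι : X ⟶ P) [IsSeparated p₁] [LocallyOfFinitePresentation p₁] [QuasiCompact p₁]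
  (hP : IsPullback q₁ p p₁ (c₀.π.app i₁)) [IsClosedImmersion ι]

/-- the image system of `X` in the base changes of the model -/
noncomputable abbrev EE : Over i₁ ⥤ Scheme.{u} := ImgLim.E (bcDiagram D₀ i₁ p₁) (bcCone i₁ hP) ι

/-- the structure maps of the image system -/
noncomputable def φφ : EE D₀ c₀ i₁ p₁ p q₁ ι hP ⟶ Over.forget i₁ ⋙ D₀ :=
  ImgLim.ε (bcDiagram D₀ i₁ p₁) (bcCone i₁ hP) ι ≫ bcDiagramι D₀ i₁ p₁

theorem φφ_app (j : Over i₁) : (φφ D₀ c₀ i₁ p₁ p q₁ ι hP).app j =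
    (ImgLim.ε (bcDiagram D₀ i₁ p₁) (bcCone i₁ hP) ι).app j ≫ dSnd D₀ i₁ p₁ j := rfl

theorem τ_φφ (j : Over i₁) :
    ImgLim.τ (bcDiagram D₀ i₁ p₁) (bcCone i₁ hP) ι j ≫ (φφ D₀ c₀ i₁ p₁ p q₁ ι hP).app j =
      (ι ≫ p) ≫ c₀.π.app j.left := by
  rw [φφ_app]
  have h := ImgLim.τ_ε (bcDiagram D₀ i₁ p₁) (bcCone i₁ hP) ι j
  refine ((Category.assoc _ _ _).symm.trans (congrArg (· ≫ dSnd D₀ i₁ p₁ j) h)).trans ?_
  change (ι ≫ bcπ i₁ hP j) ≫ dSnd D₀ i₁ p₁ j = _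
  rw [Category.assoc, bcπ_snd, Category.assoc]

include hc₀ in
set_option backward.isDefEq.respectTransparency.types false in
theorem exists_uc [UniversallyClosed (ι ≫ p)] :
    ∃ k₁ : Over i₁, UniversallyClosed ((φφ D₀ c₀ i₁ p₁ p q₁ ι hP).app k₁) := by
  have hA : ∀ {i j : I₀} (a : i ⟶ j), IsAffineHom (D₀.map a) := fun a => inferInstance
  have : CompactSpace P₁ := QuasiCompact.compactSpace_of_compactSpace p₁
  have : QuasiSeparatedSpace P₁ := quasiSeparatedSpace_of_quasiSeparated p₁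
  have hcP : IsLimit (bcCone i₁ hP) := isLimitBcCone i₁ hP hc₀
  have hι' : @IsClosedImmersion X (bcCone i₁ hP).pt ι := ‹IsClosedImmersion ι›
  have hεcl : ∀ j, IsClosedImmersion ((ImgLim.ε (bcDiagram D₀ i₁ p₁) (bcCone i₁ hP) ι).app j) :=
    fun j => ImgLim.isClosedImmersion_ε_app _ _ _ j
  have hXl : IsLimit (ImgLim.cE (bcDiagram D₀ i₁ p₁) (bcCone i₁ hP) ι) :=
    ImgLim.isLimitCE (bcDiagram D₀ i₁ p₁) (bcCone i₁ hP) hcP ι
  have hSl : IsLimit (c₀.whisker (Over.forget i₁)) :=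
    (Functor.Initial.isLimitWhiskerEquiv (Over.forget i₁) c₀).symm hc₀
  let t : Over.forget i₁ ⋙ D₀ ⟶ (Functor.const (Over i₁)).obj (D₀.obj i₁) :=
    { app := fun j => D₀.map j.hom
      naturality := fun j k w => by
        change D₀.map w.left ≫ D₀.map k.hom = D₀.map j.hom ≫ 𝟙 _
        rw [Category.comp_id, ← D₀.map_comp, Over.w] }
  let e : EE D₀ c₀ i₁ p₁ p q₁ ι hP ⟶ (Functor.const (Over i₁)).obj P₁ :=
    { app := fun j => (ImgLim.ε (bcDiagram D₀ i₁ p₁) (bcCone i₁ hP) ι).app j ≫ dFst D₀ i₁ p₁ j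
      naturality := fun j k w => by
        change (ImgLim.E (bcDiagram D₀ i₁ p₁) (bcCone i₁ hP) ι).map w ≫
          (ImgLim.ε (bcDiagram D₀ i₁ p₁) (bcCone i₁ hP) ι).app k ≫ dFst D₀ i₁ p₁ k =
          ((ImgLim.ε (bcDiagram D₀ i₁ p₁) (bcCone i₁ hP) ι).app j ≫ dFst D₀ i₁ p₁ j) ≫ 𝟙 _
        rw [Category.comp_id, ImgLim.E_map_ε_assoc, map_dFst] }
  have he : ∀ j, e.app j ≫ p₁ = (φφ D₀ c₀ i₁ p₁ p q₁ ι hP).app j ≫ t.app j := fun j => by
    change ((ImgLim.ε (bcDiagram D₀ i₁ p₁) (bcCone i₁ hP) ι).app j ≫ dFst D₀ i₁ p₁ j) ≫ p₁ =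
      ((ImgLim.ε (bcDiagram D₀ i₁ p₁) (bcCone i₁ hP) ι).app j ≫ dSnd D₀ i₁ p₁ j) ≫ D₀.map j.hom
    rw [Category.assoc, Category.assoc, d_condition]
  have : ∀ j, IsAffineHom (t.app j) := fun j => inferInstanceAs (IsAffineHom (D₀.map j.hom))
  have hcl : ∀ j, IsClosedImmersion (pullback.lift (e.app j)
      ((φφ D₀ c₀ i₁ p₁ p q₁ ι hP).app j) (he j)) := fun j => by
    have h1 : pullback.lift (e.app j) ((φφ D₀ c₀ i₁ p₁ p q₁ ι hP).app j) (he j) =
        (ImgLim.ε (bcDiagram D₀ i₁ p₁) (bcCone i₁ hP) ι).app j := by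
      apply pullback.hom_ext
      · rw [pullback.lift_fst]; rfl
      · rw [pullback.lift_snd]; rfl
    rw [h1]
    exact hεcl j
  let f' : (ImgLim.cE (bcDiagram D₀ i₁ p₁) (bcCone i₁ hP) ι).pt ⟶
      (c₀.whisker (Over.forget i₁)).pt := ι ≫ p
  have : UniversallyClosed f' := inferInstanceAs (UniversallyClosed (ι ≫ p))
  exact UP.exists_universallyClosed (φφ D₀ c₀ i₁ p₁ p q₁ ι hP) hXl hSl f'
    (fun j => (τ_φφ D₀ c₀ i₁ p₁ p q₁ ι hP j).symm) t p₁ e he hcl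

set_option backward.isDefEq.respectTransparency.types false in
theorem isProper_of_uc (k₁ : Over i₁)
    (hk : UniversallyClosed ((φφ D₀ c₀ i₁ p₁ p q₁ ι hP).app k₁)) (m : Over i₁) (w : m ⟶ k₁) :
    IsProper ((φφ D₀ c₀ i₁ p₁ p q₁ ι hP).app m) := by
  have hεcl : ∀ j, IsClosedImmersion ((ImgLim.ε (bcDiagram D₀ i₁ p₁) (bcCone i₁ hP) ι).app j) :=
    fun j => ImgLim.isClosedImmersion_ε_app _ _ _ j
  rw [φφ_app] at hk ⊢
  have hsep : IsSeparated (dSnd D₀ i₁ p₁ m) :=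
    MorphismProperty.pullback_snd (P := @IsSeparated) _ _ inferInstance
  have hlfp : LocallyOfFinitePresentation (dSnd D₀ i₁ p₁ m) :=
    MorphismProperty.pullback_snd (P := @LocallyOfFinitePresentation) _ _ inferInstance
  have sq1 := IsPullback.of_hasPullback
    ((ImgLim.ε (bcDiagram D₀ i₁ p₁) (bcCone i₁ hP) ι).app k₁) ((bcDiagram D₀ i₁ p₁).map w)
  have sq := sq1.paste_vert (isPullback_map_dSnd D₀ i₁ p₁ w)
  have huc1 : UniversallyClosed
      (pullback.snd ((ImgLim.ε (bcDiagram D₀ i₁ p₁) (bcCone i₁ hP) ι).app k₁)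
        ((bcDiagram D₀ i₁ p₁).map w) ≫ dSnd D₀ i₁ p₁ m) :=
    MorphismProperty.of_isPullback (P := @UniversallyClosed) sq hk
  let l := pullback.lift ((ImgLim.E (bcDiagram D₀ i₁ p₁) (bcCone i₁ hP) ι).map w)
    ((ImgLim.ε (bcDiagram D₀ i₁ p₁) (bcCone i₁ hP) ι).app m)
    (ImgLim.E_map_ε (bcDiagram D₀ i₁ p₁) (bcCone i₁ hP) ι w)
  have hl : l ≫ pullback.snd ((ImgLim.ε (bcDiagram D₀ i₁ p₁) (bcCone i₁ hP) ι).app k₁)
      ((bcDiagram D₀ i₁ p₁).map w) = (ImgLim.ε (bcDiagram D₀ i₁ p₁) (bcCone i₁ hP) ι).app m :=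
    pullback.lift_snd _ _ _
  have h1 : IsClosedImmersion (pullback.snd
      ((ImgLim.ε (bcDiagram D₀ i₁ p₁) (bcCone i₁ hP) ι).app k₁) ((bcDiagram D₀ i₁ p₁).map w)) :=
    MorphismProperty.pullback_snd (P := @IsClosedImmersion) _ _ (hεcl k₁)
  have h2 : IsClosedImmersion l := by
    have : IsClosedImmersion (l ≫ pullback.snd
        ((ImgLim.ε (bcDiagram D₀ i₁ p₁) (bcCone i₁ hP) ι).app k₁)
        ((bcDiagram D₀ i₁ p₁).map w)) := by
      rw [hl]; exact hεcl m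
    exact IsClosedImmersion.of_comp l (pullback.snd
        ((ImgLim.ε (bcDiagram D₀ i₁ p₁) (bcCone i₁ hP) ι).app k₁)
        ((bcDiagram D₀ i₁ p₁).map w))
  have huc : UniversallyClosed ((ImgLim.ε (bcDiagram D₀ i₁ p₁) (bcCone i₁ hP) ι).app m ≫
      dSnd D₀ i₁ p₁ m) := by
    rw [← hl, Category.assoc]; infer_instance
  have := hεcl m
  have h3 : IsSeparated ((ImgLim.ε (bcDiagram D₀ i₁ p₁) (bcCone i₁ hP) ι).app m ≫
      dSnd D₀ i₁ p₁ m) := inferInstance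
  have h4 : LocallyOfFiniteType ((ImgLim.ε (bcDiagram D₀ i₁ p₁) (bcCone i₁ hP) ι).app m ≫
      dSnd D₀ i₁ p₁ m) := inferInstance
  exact { toIsSeparated := h3, toUniversallyClosed := huc, toLocallyOfFiniteType := h4 }

end stepB

set_option backward.isDefEq.respectTransparency.types false in

/-- Let `f : X → S` be proper with `S` quasi-compact and quasi-separated. Then `f` is a limit of proper
morphisms `f_i : X_i → S_i` with `S_i` of finite type over `ℤ`: there are cofiltered diagrams of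
schemes `X_i`, `S_i` with affine transition morphisms, a natural transformation with proper
components, and limit cones identified with `X` and `S` compatibly with `f`. -/
theorem result {X S : Scheme.{u}} (f : X ⟶ S) [IsProper f] [CompactSpace S]
    [QuasiSeparatedSpace S] :
    ∃ (I : Type u) (_ : SmallCategory I) (_ : IsCofiltered I) (DX DS : I ⥤ Scheme.{u}) (φ : DX ⟶ DS)
      (cX : Limits.Cone DX) (cS : Limits.Cone DS) (_ : Limits.IsLimit cX) (_ : Limits.IsLimit cS)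
      (eX : cX.pt ≅ X) (eS : cS.pt ≅ S),
      (∀ (i j : I) (a : i ⟶ j), IsAffineHom (DX.map a) ∧ IsAffineHom (DS.map a)) ∧
      (∀ i, IsProper (φ.app i) ∧ CompactSpace (DS.obj i) ∧
        LocallyOfFiniteType (Limits.IsTerminal.from specULiftZIsTerminal (DS.obj i))) ∧
      (∀ i, cX.π.app i ≫ φ.app i = eX.hom ≫ f ≫ eS.inv ≫ cS.π.app i) := by
  obtain ⟨I₀, _, _, D₀, c₀, hc₀, eS, haff₀, hft₀, i₁, P₁, P, p₁, p, q₁, ι, hsep, hfp, hqc, hP, hι,
    hιp⟩ := exists_model f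
  have hA' : ∀ (i j : I₀) (a : i ⟶ j), IsAffineHom (D₀.map a) := haff₀
  have hA : ∀ {i j : I₀} (a : i ⟶ j), IsAffineHom (D₀.map a) := fun a => haff₀ _ _ a
  have hC : ∀ i, CompactSpace (D₀.obj i) := fun i => (hft₀ i).1
  have hQ : ∀ i, QuasiSeparatedSpace (D₀.obj i) := fun i => by
    have := (hft₀ i).2
    have := NA4.isLocallyNoetherian_of_lft (D₀.obj i)
    infer_instance
  have : UniversallyClosed (ι ≫ p) := by rw [hιp]; infer_instance
  obtain ⟨k₁, hk₁⟩ := exists_uc D₀ c₀ hc₀ i₁ p₁ p q₁ ι hP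
  have : CompactSpace P₁ := QuasiCompact.compactSpace_of_compactSpace p₁
  have : QuasiSeparatedSpace P₁ := quasiSeparatedSpace_of_quasiSeparated p₁
  have hι' : @IsClosedImmersion X (bcCone i₁ hP).pt ι := hι
  have hcP : IsLimit (bcCone i₁ hP) := isLimitBcCone i₁ hP hc₀
  have hXl : IsLimit (ImgLim.cE (bcDiagram D₀ i₁ p₁) (bcCone i₁ hP) ι) :=
    ImgLim.isLimitCE (bcDiagram D₀ i₁ p₁) (bcCone i₁ hP) hcP ι
  have hSl : IsLimit (c₀.whisker (Over.forget i₁)) :=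
    (Functor.Initial.isLimitWhiskerEquiv (Over.forget i₁) c₀).symm hc₀
  let G : Over k₁ ⥤ Over i₁ := Over.forget k₁
  refine ⟨Over k₁, inferInstance, inferInstance, G ⋙ EE D₀ c₀ i₁ p₁ p q₁ ι hP,
    G ⋙ Over.forget i₁ ⋙ D₀, Functor.whiskerLeft G (φφ D₀ c₀ i₁ p₁ p q₁ ι hP),
    (ImgLim.cE (bcDiagram D₀ i₁ p₁) (bcCone i₁ hP) ι).whisker G,
    (c₀.whisker (Over.forget i₁)).whisker G,
    (Functor.Initial.isLimitWhiskerEquiv G _).symm hXl,
    (Functor.Initial.isLimitWhiskerEquiv G _).symm hSl, Iso.refl X, eS, ?_, ?_, ?_⟩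
  · intro i j a
    refine ⟨?_, ?_⟩
    · change IsAffineHom ((ImgLim.E (bcDiagram D₀ i₁ p₁) (bcCone i₁ hP) ι).map (G.map a))
      exact ImgLim.isAffineHom_E_map (bcDiagram D₀ i₁ p₁) (bcCone i₁ hP) ι (G.map a)
    · change IsAffineHom (D₀.map ((Over.forget i₁).map (G.map a)))
      exact haff₀ _ _ _
  · intro i
    exact ⟨isProper_of_uc D₀ c₀ i₁ p₁ p q₁ ι hP k₁ hk₁ i.left i.hom, (hft₀ _).1, (hft₀ _).2⟩
  · intro i
    change ImgLim.τ (bcDiagram D₀ i₁ p₁) (bcCone i₁ hP) ι i.left ≫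
      (φφ D₀ c₀ i₁ p₁ p q₁ ι hP).app i.left = 𝟙 X ≫ f ≫ eS.inv ≫ c₀.π.app i.left.left
    rw [τ_φφ, hιp, Category.id_comp, Category.assoc]

end Groth.Agent.S2147
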