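import Groth.Statements.S2149
import Mathlib

set_option autoImplicit false
universe u
open CAlg
open TensorProduct

namespace Groth.Agent.S2149

/-- Let `R → S` be a ring map and `u : M → M'` a map of `S`-modules. Then `u`, viewed as an `R`-linear
map, is universally injective exactly when, for every maximal ideal `𝔪` of `S`, the localized map
`M_𝔪 → M'_𝔪` is also universally injective as an `R`-linear map. -/
theorem result {R S M M' : Type u} [CommRing R] [CommRing S] [Algebra R S]
    [AddCommGroup M] [Module S M] [Module R M] [IsScalarTower R S M] [AddCommGroup M'] [Module S M'] [Module R M']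
    [IsScalarTower R S M'] (u : M →ₗ[S] M') :
    CAlgX.UniversallyInjective R (u.restrictScalars R) ↔
      ∀ (m : Ideal S) [m.IsMaximal],
        CAlgX.UniversallyInjective R ((LocalizedModule.map m.primeCompl u).restrictScalars R) := by
  classical
  have key : ∀ (P : Ideal S) [P.IsMaximal] (Q : Type u) [AddCommGroup Q] [Module R Q],
      IsLocalizedModule.map P.primeCompl
        (AlgebraTensorModule.rTensor R Q (LocalizedModule.mkLinearMap P.primeCompl M))
        (AlgebraTensorModule.rTensor R Q (LocalizedModule.mkLinearMap P.primeCompl M'))
        (AlgebraTensorModule.rTensor R Q u) =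
      AlgebraTensorModule.rTensor R Q
        ((LocalizedModule.map P.primeCompl u).restrictScalars S) := by
    intro P _ Q _ _
    apply IsLocalizedModule.linearMap_ext P.primeCompl
      (AlgebraTensorModule.rTensor R Q (LocalizedModule.mkLinearMap P.primeCompl M))
      (AlgebraTensorModule.rTensor R Q (LocalizedModule.mkLinearMap P.primeCompl M'))
    rw [IsLocalizedModule.map_comp]
    ext x q
    simp [LocalizedModule.map_mk]
  constructor
  · intro h P _ Q _ _
    have h1 : Function.Injective (AlgebraTensorModule.rTensor R Q u) := h Q
    have h2 := IsLocalizedModule.map_injective P.primeCompl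
      (AlgebraTensorModule.rTensor R Q (LocalizedModule.mkLinearMap P.primeCompl M))
      (AlgebraTensorModule.rTensor R Q (LocalizedModule.mkLinearMap P.primeCompl M'))
      (AlgebraTensorModule.rTensor R Q u) h1
    rw [key P Q] at h2
    exact h2
  · intro h Q _ _
    show Function.Injective (AlgebraTensorModule.rTensor R Q u)
    apply injective_of_isLocalized_maximal
      (fun (P : Ideal S) [P.IsMaximal] => (LocalizedModule P.primeCompl M) ⊗[R] Q)
      (fun (P : Ideal S) [P.IsMaximal] =>
        AlgebraTensorModule.rTensor R Q (LocalizedModule.mkLinearMap P.primeCompl M))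
      (fun (P : Ideal S) [P.IsMaximal] => (LocalizedModule P.primeCompl M') ⊗[R] Q)
      (fun (P : Ideal S) [P.IsMaximal] =>
        AlgebraTensorModule.rTensor R Q (LocalizedModule.mkLinearMap P.primeCompl M'))
    intro P _
    rw [key P Q]
    exact h P Q

end Groth.Agent.S2149
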