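import Groth.Statements.S2154
-- import your own Groth.Agent.* helpers here
import Mathlib
import Groth.Agent.Lib.Helper26LimDescend
import Groth.Agent.S9200

set_option autoImplicit false
universe u
open CategoryTheory AlgebraicGeometry
open Lim

namespace Groth.Agent.S2154

open Limits Groth.Agent.Lib.Helper26.LimDescend

/-- Ring-level core: `A₁` generated over `R` by a finite set `G`, `A` finite over `A₁`, images of
`G` in `A` integral over `R`: then `A` is finite over `R`. -/
theorem finite_of_integral_generators {R A₁ A : Type*} [CommRing R] [CommRing A₁] [CommRing A]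
    (ρ₁ : R →+* A₁) (φ : A₁ →+* A) (G : Finset A₁)
    (hG : Subring.closure (Set.range ρ₁ ∪ (G : Set A₁)) = ⊤) (hφ : φ.Finite)
    (hint : ∀ x ∈ G, (φ.comp ρ₁).IsIntegralElem (φ x)) : (φ.comp ρ₁).Finite := by
  classical
  algebraize [ρ₁, φ, φ.comp ρ₁]
  have hadj : Algebra.adjoin R (G : Set A₁) = ⊤ := by
    apply Subalgebra.toSubring_injective
    rw [Algebra.adjoin_eq_ring_closure]
    exact hG
  let ψ : A₁ →ₐ[R] A := IsScalarTower.toAlgHom R A₁ A
  have hrange : ψ.range = Algebra.adjoin R (ψ '' (G : Set A₁)) := by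
    rw [← AlgHom.map_adjoin, hadj, Algebra.map_top]
  have hfgB : (ψ.range).toSubmodule.FG := by
    rw [hrange]
    refine fg_adjoin_of_finite (G.finite_toSet.image ψ) ?_
    rintro _ ⟨x, hx, rfl⟩
    exact hint x hx
  have : Module.Finite R ψ.range := Module.Finite.iff_fg.mpr hfgB
  let _ : Algebra A₁ ψ.range := ψ.rangeRestrict.toRingHom.toAlgebra
  have : IsScalarTower A₁ ψ.range A := IsScalarTower.of_algebraMap_eq' rfl
  have : Module.Finite ψ.range A := Module.Finite.of_restrictScalars_finite A₁ ψ.range A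
  show Module.Finite R A
  exact Module.Finite.trans ψ.range A

theorem integralElem_map {R A B : Type*} [CommRing R] [CommRing A] [CommRing B] (f : R →+* A)
    (g : A →+* B) {x : A} (h : f.IsIntegralElem x) : (g.comp f).IsIntegralElem (g x) := by
  obtain ⟨p, hp, hx⟩ := h
  exact ⟨p, hp, by rw [← Polynomial.hom_eval₂, hx, map_zero]⟩

set_option backward.isDefEq.respectTransparency.types false in
theorem isIntegral_appTop {X Y : Scheme.{u}} (f : X ⟶ Y) [IsAffine Y] [IsIntegralHom f] :
    f.appTop.hom.IsIntegral :=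
  ((HasAffineProperty.iff_of_isAffine (P := @IsIntegralHom)).mp inferInstance).2

set_option backward.isDefEq.respectTransparency.types false in
theorem isFinite_of_appTop {X Y : Scheme.{u}} (f : X ⟶ Y) [IsAffine X] [IsAffine Y]
    (h : f.appTop.hom.Finite) : IsFinite f :=
  (HasAffineProperty.iff_of_isAffine (P := @IsFinite)).mpr ⟨inferInstance, h⟩

/-- Affine case. -/
theorem exists_isFinite_of_affine {J : Type u} [SmallCategory J] [IsCofiltered J]
    (E : J ⥤ Scheme.{u}) [∀ j, IsAffine (E.obj j)]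
    (hE : ∀ {j k : J} (a : j ⟶ k), IsFinite (E.map a))
    {W : Scheme.{u}} [IsAffine W] (s : E ⟶ (Functor.const J).obj W) (cE : Cone E)
    (hcE : IsLimit cE) (j₁ : J) [LocallyOfFiniteType (s.app j₁)]
    [IsIntegralHom (cE.π.app j₁ ≫ s.app j₁)] :
    ∃ j : Over j₁, IsFinite (s.app j.left) := by
  classical
  have hWa : ∀ j, IsAffine (((Functor.const J).obj W).obj j) := fun _ => ‹IsAffine W›
  have : IsAffine cE.pt := Scheme.isAffine_of_isLimit _ hcE
  have hlim : (r (cE.π.app j₁ ≫ s.app j₁)).IsIntegral := isIntegral_appTop _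
  have hnat : ∀ {j k : J} (a : j ⟶ k), E.map a ≫ s.app k = s.app j := fun a => by
    have := s.naturality a
    simp only [Functor.const_obj_obj, Functor.const_obj_map, Category.comp_id] at this
    exact this
  have hft : (r (s.app j₁)).FiniteType :=
    (HasRingHomProperty.iff_of_isAffine (P := @LocallyOfFiniteType)).mp inferInstance
  let _ : Algebra Γ(W, ⊤) Γ(E.obj j₁, ⊤) := (r (s.app j₁)).toAlgebra
  obtain ⟨G₁, hG₁⟩ : ∃ s : Finset Γ(E.obj j₁, ⊤),
      Algebra.adjoin Γ(W, ⊤) (s : Set Γ(E.obj j₁, ⊤)) = ⊤ := hft.out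
  have hG₁' : Subring.closure (Set.range (r (s.app j₁)) ∪ (G₁ : Set Γ(E.obj j₁, ⊤))) = ⊤ := by
    have := congrArg Subalgebra.toSubring hG₁
    rw [Algebra.adjoin_eq_ring_closure] at this
    exact this
  have key : ∀ β : Γ(E.obj j₁, ⊤), ∃ j : Over j₁,
      (r (s.app j.left)).IsIntegralElem (r (E.map j.hom) β) := by
    intro β
    obtain ⟨p, hp, hx⟩ := hlim (r (cE.π.app j₁) β)
    rw [r_comp, ← Polynomial.hom_eval₂] at hx
    obtain ⟨j, e, he⟩ := exists_appTop_map_eq_zero_of_isAffine_of_isLimit E cE hcE j₁ _ hx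
    refine ⟨Over.mk e, p, hp, ?_⟩
    show Polynomial.eval₂ (r (s.app j)) (r (E.map e) β) p = 0
    rw [← hnat e, r_comp, ← Polynomial.hom_eval₂]
    exact he
  choose jβ hjβ using key
  obtain ⟨j, hj⟩ := IsCofiltered.inf_objs_exists (G₁.image jβ)
  refine ⟨j, ?_⟩
  have hfin : IsFinite (E.map j.hom) := hE j.hom
  have hφ : (r (E.map j.hom)).Finite := Scheme.Hom.finite_appTop (E.map j.hom)
  have hcomp : (r (E.map j.hom)).comp (r (s.app j₁)) = r (s.app j.left) := by
    rw [← r_comp, hnat]
  have := finite_of_integral_generators (r (s.app j₁)) (r (E.map j.hom)) G₁ hG₁' hφ (by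
    intro x hx
    obtain ⟨u⟩ := hj (Finset.mem_image_of_mem jβ hx)
    rw [hcomp]
    have h1 := integralElem_map _ (r (E.map u.left)) (hjβ x)
    rw [← r_comp, hnat, ← r_comp_apply, ← E.map_comp, Over.w u] at h1
    exact h1)
  rw [hcomp] at this
  exact isFinite_of_appTop _ this

set_option backward.isDefEq.respectTransparency.types false in
theorem isLocal_isFinite : IsZariskiLocalAtTarget @IsFinite.{u} := inferInstance

set_option backward.isDefEq.respectTransparency.types false in
theorem isLocal_isIntegralHom : IsZariskiLocalAtTarget @IsIntegralHom.{u} := inferInstance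

set_option backward.isDefEq.respectTransparency.types false in
theorem isStable_isFinite : MorphismProperty.IsStableUnderBaseChange @IsFinite.{u} := inferInstance

set_option backward.defeqAttrib.useBackward true in
set_option backward.isDefEq.respectTransparency false in
/-- Core of the proof, at an index `i₁` where the structure map is affine. -/
theorem exists_of_isAffineHom {I : Type u} [SmallCategory I] [IsCofiltered I]
    (S : Scheme.{u}) [CompactSpace S]
    (D : I ⥤ Scheme.{u}) (t : D ⟶ (Functor.const I).obj S) (c : Limits.Cone D)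
    (hc : Limits.IsLimit c) [∀ {i j : I} (f : i ⟶ j), IsFinite (D.map f)]
    [∀ i, LocallyOfFiniteType (t.app i)] (i₁ : I) [IsAffineHom (t.app i₁)]
    [IsIntegralHom (c.π.app i₁ ≫ t.app i₁)] :
    ∃ k : Over i₁, IsFinite (t.app k.left) := by
  classical
  have := isLocal_isFinite.{u}
  have := isLocal_isIntegralHom.{u}
  have := isStable_isFinite.{u}
  have hloc : ∀ y : S, ∃ V : S.Opens, IsAffineOpen V ∧ y ∈ V := by
    intro y
    obtain ⟨_, ⟨V, hV : IsAffineOpen V, rfl⟩, hyV, -⟩ :=
      S.isBasis_affineOpens.exists_subset_of_mem_open (Set.mem_univ y) isOpen_univ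
    exact ⟨V, hV, hyV⟩
  choose V hV hyV using hloc
  obtain ⟨ts, hts⟩ := isCompact_univ.elim_finite_subcover
    (fun y => ((V y : S.Opens) : Set S))
    (fun y => (V y).isOpen) (fun y _ => Set.mem_iUnion.mpr ⟨y, hyV y⟩)
  have hnat : ∀ k : Over i₁, t.app k.left = D.map k.hom ≫ t.app i₁ := fun k => by
    have := t.naturality k.hom
    simp only [Functor.const_obj_obj, Functor.const_obj_map, Category.comp_id] at this
    exact this.symm
  -- the restricted morphisms
  have hres : ∀ (y : S) (k : Over i₁), (t.app k.left) ∣_ V y =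
      (Scheme.isoOfEq _ (by rw [hnat k, Scheme.Hom.comp_preimage])).hom ≫
        ((D.map k.hom) ∣_ (t.app i₁ ⁻¹ᵁ V y)) ≫ ((t.app i₁) ∣_ V y) := by
    intro y k
    rw [← cancel_mono (V y).ι]
    simp only [Category.assoc, morphismRestrict_ι, morphismRestrict_ι_assoc,
      Scheme.isoOfEq_hom_ι_assoc]
    rw [hnat k]
  have key : ∀ y : S, ∃ k₀ : Over i₁, ∀ (k : Over i₁) (_ : k ⟶ k₀),
      IsFinite (((D.map k.hom) ∣_ (t.app i₁ ⁻¹ᵁ V y)) ≫ ((t.app i₁) ∣_ V y)) := by
    intro y
    have hUa : IsAffineOpen (t.app i₁ ⁻¹ᵁ V y) := (hV y).preimage (t.app i₁)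
    have hEa : ∀ j, IsAffine ((opensDiagram D i₁ (t.app i₁ ⁻¹ᵁ V y)).obj j) :=
      fun j => hUa.preimage (D.map j.hom)
    have hWa : IsAffine ((V y : S.Opens) : Scheme.{u}) := hV y
    let s : opensDiagram D i₁ (t.app i₁ ⁻¹ᵁ V y) ⟶
        (Functor.const (Over i₁)).obj ((V y : S.Opens) : Scheme.{u}) :=
      { app := fun j => ((D.map j.hom) ∣_ (t.app i₁ ⁻¹ᵁ V y)) ≫ ((t.app i₁) ∣_ V y)
        naturality := fun j k a => by
          rw [← cancel_mono (V y).ι]
          simp only [Functor.const_obj_obj, Functor.const_obj_map, Category.comp_id,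
            Category.assoc, morphismRestrict_ι, morphismRestrict_ι_assoc, opensDiagram_map,
            Scheme.Hom.resLE_comp_ι_assoc]
          rw [← Category.assoc (D.map a.left), ← D.map_comp, Over.w a] }
    have hE : ∀ {j k : Over i₁} (a : j ⟶ k),
        IsFinite ((opensDiagram D i₁ (t.app i₁ ⁻¹ᵁ V y)).map a) := by
      intro j k a
      have sq : IsPullback ((opensDiagram D i₁ (t.app i₁ ⁻¹ᵁ V y)).map a)
          (D.map j.hom ⁻¹ᵁ t.app i₁ ⁻¹ᵁ V y).ι (D.map k.hom ⁻¹ᵁ t.app i₁ ⁻¹ᵁ V y).ι
          (D.map a.left) :=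
        IsOpenImmersion.isPullback _ _ _ _ (by simp) (by
          simp only [Scheme.Opens.opensRange_ι]
          rw [← Scheme.Hom.comp_preimage, ← D.map_comp, Over.w a])
      exact MorphismProperty.of_isPullback (P := @IsFinite) sq.flip inferInstance
    have hlft : LocallyOfFiniteType (s.app (Over.mk (𝟙 i₁))) := by
      show LocallyOfFiniteType (((D.map (𝟙 i₁)) ∣_ (t.app i₁ ⁻¹ᵁ V y)) ≫ ((t.app i₁) ∣_ V y))
      infer_instance
    have hcl : IsIntegralHom ((opensCone D c i₁ (t.app i₁ ⁻¹ᵁ V y)).π.app (Over.mk (𝟙 i₁)) ≫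
        s.app (Over.mk (𝟙 i₁))) := by
      have h1 : IsIntegralHom ((c.π.app i₁ ≫ t.app i₁) ∣_ V y) :=
        IsZariskiLocalAtTarget.restrict (P := @IsIntegralHom)
          (inferInstance : IsIntegralHom (c.π.app i₁ ≫ t.app i₁)) _
      have e : (opensCone D c i₁ (t.app i₁ ⁻¹ᵁ V y)).π.app (Over.mk (𝟙 i₁)) ≫
          s.app (Over.mk (𝟙 i₁)) = (Scheme.isoOfEq _ (by
            rw [Scheme.Hom.comp_preimage])).hom ≫ ((c.π.app i₁ ≫ t.app i₁) ∣_ V y) := by
        rw [← cancel_mono (V y).ι]
        simp [s]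
      rw [e]
      infer_instance
    obtain ⟨j, hj⟩ := exists_isFinite_of_affine
      (opensDiagram D i₁ (t.app i₁ ⁻¹ᵁ V y)) hE s (opensCone D c i₁ (t.app i₁ ⁻¹ᵁ V y))
      (isLimitOpensCone D c hc i₁ (t.app i₁ ⁻¹ᵁ V y)) (Over.mk (𝟙 i₁))
    refine ⟨j.left, fun k u => ?_⟩
    have hEu := hE u
    have : s.app k = (opensDiagram D i₁ (t.app i₁ ⁻¹ᵁ V y)).map u ≫ s.app j.left := by
      have := s.naturality u
      simp only [Functor.const_obj_obj, Functor.const_obj_map, Category.comp_id] at this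
      exact this.symm
    show IsFinite (s.app k)
    rw [this]
    infer_instance
  choose k₀ hk₀ using key
  obtain ⟨k, hk⟩ := IsCofiltered.inf_objs_exists (ts.image k₀)
  refine ⟨k, ?_⟩
  have hcover : ⨆ y : ts, V y.1 = ⊤ := by
    rw [eq_top_iff]
    intro z _
    obtain ⟨y, hyt, hz⟩ := Set.mem_iUnion₂.mp (hts (Set.mem_univ z))
    exact TopologicalSpace.Opens.mem_iSup.mpr ⟨⟨y, hyt⟩, hz⟩
  apply IsZariskiLocalAtTarget.of_iSup_eq_top (P := @IsFinite)
    (fun y : ts => V y.1) hcover
  rintro ⟨y, hyt⟩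
  obtain ⟨u⟩ := hk (Finset.mem_image_of_mem k₀ hyt)
  have := hk₀ y k u
  show IsFinite ((t.app k.left) ∣_ V y)
  rw [hres y k]
  infer_instance

/-- Let `S` be quasi-compact and quasi-separated and `X = lim X_i` a cofiltered limit of quasi-compact
quasi-separated `S`-schemes locally of finite type over `S`, with finite transition morphisms. If `X
→ S` is integral then `X_i → S` is finite for all `i` beyond some index. -/
theorem result {I : Type u} [SmallCategory I] [IsCofiltered I] (S : Scheme.{u}) [CompactSpace S]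
    [QuasiSeparatedSpace S] (D : I ⥤ Over S) (c : Limits.Cone D) (hc : Limits.IsLimit c)
    [∀ (i j : I) (f : i ⟶ j), IsFinite (D.map f).left] [∀ i, CompactSpace (D.obj i).left]
    [∀ i, QuasiSeparatedSpace (D.obj i).left] [∀ i, LocallyOfFiniteType (D.obj i).hom] [IsIntegralHom c.pt.hom] :
    ∃ i₀ : I, ∀ (i : I) (_ : i ⟶ i₀), IsFinite (D.obj i).hom := by
  have hI : IsIntegralHom c.pt.hom := inferInstance
  have : IsConnected I := IsCofiltered.isConnected I
  have hc' : IsLimit ((Over.forget S).mapCone c) := isLimitOfPreserves (Over.forget S) hc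
  let t : D ⋙ Over.forget S ⟶ (Functor.const I).obj S :=
    { app := fun i => (D.obj i).hom
      naturality := fun i j f => by
        show (D.map f).left ≫ (D.obj j).hom = (D.obj i).hom ≫ 𝟙 _
        rw [Category.comp_id, Over.w] }
  have i1 : ∀ {i j : I} (f : i ⟶ j), IsFinite ((D ⋙ Over.forget S).map f) := fun f => by
    show IsFinite (D.map f).left
    infer_instance
  have i1' : ∀ (i j : I) (f : i ⟶ j), IsAffineHom ((D ⋙ Over.forget S).map f) := fun _ _ f => by
    show IsAffineHom (D.map f).left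
    infer_instance
  have i2 : ∀ i, CompactSpace ((D ⋙ Over.forget S).obj i) := fun i => by
    show CompactSpace (D.obj i).left
    infer_instance
  have i3 : ∀ i, QuasiSeparatedSpace ((D ⋙ Over.forget S).obj i) := fun i => by
    show QuasiSeparatedSpace (D.obj i).left
    infer_instance
  have i4 : ∀ i, LocallyOfFiniteType (t.app i) := fun i => by
    show LocallyOfFiniteType (D.obj i).hom
    infer_instance
  have hint : ∀ i, IsIntegralHom (((Over.forget S).mapCone c).π.app i ≫ t.app i) := fun i => by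
    have : ((Over.forget S).mapCone c).π.app i ≫ t.app i = c.pt.hom := by
      show (c.π.app i).left ≫ (D.obj i).hom = c.pt.hom
      exact Over.w (c.π.app i)
    rw [this]
    exact hI
  obtain ⟨i₀⟩ := IsCofiltered.nonempty (C := I)
  have haff : IsAffineHom (((Over.forget S).mapCone c).π.app i₀ ≫ t.app i₀) := by
    have := hint i₀
    infer_instance
  obtain ⟨i₁, hi₁⟩ := Groth.Agent.S9200.result S (D ⋙ Over.forget S) t
    ((Over.forget S).mapCone c) hc' i₀
  have : IsAffineHom (t.app i₁) := hi₁ i₁ (𝟙 _)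
  have := hint i₁
  obtain ⟨k, hk⟩ := exists_of_isAffineHom S (D ⋙ Over.forget S) t ((Over.forget S).mapCone c) hc' i₁
  refine ⟨k.left, fun i b => ?_⟩
  have e : (D.obj i).hom = (D.map b).left ≫ (D.obj k.left).hom := (Over.w (D.map b)).symm
  rw [e]
  have : IsFinite (D.obj k.left).hom := hk
  infer_instance

end Groth.Agent.S2154
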