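import Groth.Statements.S2156
import Groth.Agent.Lib.Helper20SmoothFiberSch

set_option autoImplicit false
universe u
open CategoryTheory AlgebraicGeometry
open Mor

namespace Groth.Agent.S2156

/-- Let `f : X → S` be locally of finite presentation and `x ∈ X` with image `s`. Then `f` is smooth at
`x` if and only if `O_{S,s} → O_{X,x}` is flat and the fibre `X_s → Spec κ(s)` is smooth at the
point corresponding to `x`. -/
theorem result {X S : Scheme.{u}} (f : X ⟶ S) [LocallyOfFinitePresentation f] (x : X)
    [LocallyOfFinitePresentation (f.fiberToSpecResidueField (f.base x))] :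
    x ∈ f.smoothLocus ↔
      (f.stalkMap x).hom.Flat ∧ f.asFiber x ∈ (f.fiberToSpecResidueField (f.base x)).smoothLocus := by
  open Groth.Agent.Lib.Helper20.FlatDesc Groth.Agent.Lib.Helper20.EtLocal CategoryTheory.Limits in
  constructor
  · intro H
    obtain ⟨U, hxU, hU⟩ := exists_smooth_nbhd f x H
    refine ⟨flat_stalkMap_of_nbhd f x U hxU, ?_⟩
    have hE : Smooth (((f.fiberι (f.base x)) ⁻¹ᵁ U).ι ≫ f.fiberToSpecResidueField (f.base x)) :=
      MorphismProperty.of_isPullback (P := @Smooth)
        ((isPullback_morphismRestrict (f.fiberι (f.base x)) U).paste_vert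
          (IsPullback.of_hasPullback f (S.fromSpecResidueField (f.base x)))) hU
    have hmem : f.asFiber x ∈ (f.fiberι (f.base x)) ⁻¹ᵁ U := by
      change f.fiberι _ (f.asFiber x) ∈ U
      rw [f.fiberι_asFiber]; exact hxU
    exact formallySmooth_stalkMap_of_nbhd _ (f.asFiber x) _ hmem
  · rintro ⟨hflat, H⟩
    have key : ∀ y : X, y = x → ((f.stalkMap y).hom.Flat → (f.stalkMap y).hom.FormallySmooth) →
        (f.stalkMap x).hom.FormallySmooth := by
      rintro y rfl h
      exact h hflat
    refine key (f.fiberι _ (f.asFiber x)) (f.fiberι_asFiber x) fun hfl => ?_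
    exact formallySmooth_stalkMap_of_flat_of_field_fibre f (S.residueField (f.base x))
      (Field.toIsField _) (S.fromSpecResidueField (f.base x)) (f.asFiber x) H hfl

end Groth.Agent.S2156
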