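import Groth.Statements.S2155
import Groth.Agent.Lib.Helper20SmoothFiberSch
import Groth.Agent.S2156

set_option autoImplicit false
universe u
open CategoryTheory AlgebraicGeometry
open Mor

namespace Groth.Agent.S2155

/-- Consider a cartesian square with `f : X → S` locally of finite presentation, base change `g : S' →
S`, and `f' : X' → S'`, `g' : X' → X` the projections. If `f` is flat, or if `g` is flat, then the
open set of points where `f'` is smooth is the preimage under `g'` of the open set of points where
`f` is smooth. -/
theorem result {X S X' S' : Scheme.{u}} (f : X ⟶ S) (g : S' ⟶ S) (f' : X' ⟶ S') (g' : X' ⟶ X)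
    (h : IsPullback g' f' f g) [LocallyOfFinitePresentation f] [LocallyOfFinitePresentation f'] (hflat : Flat f ∨ Flat g) :
    f'.smoothLocus = g' ⁻¹ᵁ f.smoothLocus := by
  open Groth.Agent.Lib.Helper20.FlatDesc Groth.Agent.Lib.Helper20.EtLocal CategoryTheory.Limits in
  have hQ := RingHom.FormallySmooth.respectsIso
  ext x'
  change (f'.stalkMap x').hom.FormallySmooth ↔ (f.stalkMap (g'.base x')).hom.FormallySmooth
  constructor
  · intro H
    rcases hflat with hf | hg
    · -- `f` flat: go through the fibre
      have hlfp : LocallyOfFinitePresentation (f'.fiberToSpecResidueField (f'.base x')) :=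
        MorphismProperty.pullback_snd _ _ inferInstance
      have hfib := ((Groth.Agent.S2156.result f' x').mp H).2
      let r := S'.fromSpecResidueField (f'.base x')
      have hsq : IsPullback (pullback.fst f' r ≫ g') (pullback.snd f' r) f (r ≫ g) :=
        (IsPullback.of_hasPullback f' r).paste_horiz h
      let θ := hsq.isoPullback
      have hθ1 : θ.hom ≫ pullback.fst f (r ≫ g) = pullback.fst f' r ≫ g' := hsq.isoPullback_hom_fst
      have hθ2 : θ.hom ≫ pullback.snd f (r ≫ g) = pullback.snd f' r := hsq.isoPullback_hom_snd
      have H1 : ((pullback.snd f' r).stalkMap (f'.asFiber x')).hom.FormallySmooth := hfib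
      have H2 := (stalkMap_congr_iff (Q := RingHom.FormallySmooth) hθ2.symm (f'.asFiber x')).mp H1
      have H3 := (stalkMap_comp_iff_left hQ θ.hom (pullback.snd f (r ≫ g)) (f'.asFiber x')).mp H2
      have hx : pullback.fst f (r ≫ g) (θ.hom (f'.asFiber x')) = g'.base x' := by
        rw [← Scheme.Hom.comp_apply, hθ1, Scheme.Hom.comp_apply]
        congr 1
        exact f'.fiberι_asFiber x'
      have key : ∀ y : X, y = g'.base x' → (f.stalkMap y).hom.FormallySmooth →
          (f.stalkMap (g'.base x')).hom.FormallySmooth := by
        rintro y rfl h; exact h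
      refine key _ hx ?_
      exact formallySmooth_stalkMap_of_flat_of_field_fibre f (S'.residueField (f'.base x'))
        (Field.toIsField _) (r ≫ g) (θ.hom (f'.asFiber x')) H3 (Flat.stalkMap f _)
    · -- `g` flat: flat descent
      let θ := h.isoPullback
      have hθ1 : θ.hom ≫ pullback.fst f g = g' := h.isoPullback_hom_fst
      have hθ2 : θ.hom ≫ pullback.snd f g = f' := h.isoPullback_hom_snd
      have H2 := (stalkMap_congr_iff (Q := RingHom.FormallySmooth) hθ2.symm x').mp H
      have H3 := (stalkMap_comp_iff_left hQ θ.hom (pullback.snd f g) x').mp H2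
      have hx : pullback.fst f g (θ.hom x') = g'.base x' := by
        rw [← Scheme.Hom.comp_apply, hθ1]
      have key : ∀ y : X, y = g'.base x' → (f.stalkMap y).hom.FormallySmooth →
          (f.stalkMap (g'.base x')).hom.FormallySmooth := by
        rintro y rfl h; exact h
      refine key _ hx ?_
      exact formallySmooth_stalkMap_of_flat_baseChange f g (θ.hom x') H3
  · intro H
    obtain ⟨U, hxU, hU⟩ := exists_smooth_nbhd f (g'.base x') H
    have hE : Smooth ((g' ⁻¹ᵁ U).ι ≫ f') :=
      MorphismProperty.of_isPullback (P := @Smooth)
        ((isPullback_morphismRestrict g' U).paste_vert h) hU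
    exact formallySmooth_stalkMap_of_nbhd f' x' (g' ⁻¹ᵁ U) hxU

end Groth.Agent.S2155
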