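import Groth.Statements.S2159
import Mathlib

set_option autoImplicit false
universe u
open CAlg

namespace Groth.Agent.S2159

/-- Given surjections `p₁ : P₁ → M` and `p₂ : P₂ → M` from projective modules, with kernels `K` and `L`,
there is an isomorphism `K ⊕ P₂ ≅ L ⊕ P₁`. -/
theorem result {R M P₁ P₂ : Type u} [CommRing R] [AddCommGroup M] [Module R M] [AddCommGroup P₁] [Module R P₁]
    [Module.Projective R P₁] [AddCommGroup P₂] [Module R P₂] [Module.Projective R P₂] (p₁ : P₁ →ₗ[R] M) (p₂ : P₂ →ₗ[R] M)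
    (h₁ : Function.Surjective p₁) (h₂ : Function.Surjective p₂) :
    Nonempty ((LinearMap.ker p₁ × P₂) ≃ₗ[R] (LinearMap.ker p₂ × P₁)) := by
  obtain ⟨s₂, hs₂⟩ := Module.projective_lifting_property p₁ p₂ h₁
  obtain ⟨s₁, hs₁⟩ := Module.projective_lifting_property p₂ p₁ h₂
  have e₂ : ∀ b, p₁ (s₂ b) = p₂ b := fun b => LinearMap.congr_fun hs₂ b
  have e₁ : ∀ a, p₂ (s₁ a) = p₁ a := fun a => LinearMap.congr_fun hs₁ a
  -- forward map
  let fL : (LinearMap.ker p₁ × P₂) →ₗ[R] P₂ :=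
    LinearMap.snd R _ _ - s₁ ∘ₗ ((LinearMap.ker p₁).subtype ∘ₗ LinearMap.fst R _ _ + s₂ ∘ₗ LinearMap.snd R _ _)
  let fA : (LinearMap.ker p₁ × P₂) →ₗ[R] P₁ :=
    (LinearMap.ker p₁).subtype ∘ₗ LinearMap.fst R _ _ + s₂ ∘ₗ LinearMap.snd R _ _
  have hfL : ∀ x, fL x ∈ LinearMap.ker p₂ := by
    rintro ⟨⟨k, hk⟩, b⟩
    have hk' : p₁ k = 0 := hk
    simp [fL, e₁, e₂, hk']
  let gK : (LinearMap.ker p₂ × P₁) →ₗ[R] P₁ :=
    LinearMap.snd R _ _ - s₂ ∘ₗ ((LinearMap.ker p₂).subtype ∘ₗ LinearMap.fst R _ _ + s₁ ∘ₗ LinearMap.snd R _ _)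
  let gB : (LinearMap.ker p₂ × P₁) →ₗ[R] P₂ :=
    (LinearMap.ker p₂).subtype ∘ₗ LinearMap.fst R _ _ + s₁ ∘ₗ LinearMap.snd R _ _
  have hgK : ∀ x, gK x ∈ LinearMap.ker p₁ := by
    rintro ⟨⟨l, hl⟩, a⟩
    have hl' : p₂ l = 0 := hl
    simp [gK, e₁, e₂, hl']
  let F : (LinearMap.ker p₁ × P₂) →ₗ[R] (LinearMap.ker p₂ × P₁) :=
    LinearMap.prod (fL.codRestrict _ hfL) fA
  let G : (LinearMap.ker p₂ × P₁) →ₗ[R] (LinearMap.ker p₁ × P₂) :=
    LinearMap.prod (gK.codRestrict _ hgK) gB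
  have hFG : F ∘ₗ G = LinearMap.id := by
    apply LinearMap.ext
    rintro ⟨⟨l, hl⟩, a⟩
    apply Prod.ext
    · apply Subtype.ext
      simp [F, G, fL, fA, gK, gB]
    · simp [F, G, fL, fA, gK, gB]
  have hGF : G ∘ₗ F = LinearMap.id := by
    apply LinearMap.ext
    rintro ⟨⟨k, hk⟩, b⟩
    apply Prod.ext
    · apply Subtype.ext
      simp [F, G, fL, fA, gK, gB]
    · simp [F, G, fL, fA, gK, gB]
  exact ⟨LinearEquiv.ofLinearMap F G hFG hGF⟩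

end Groth.Agent.S2159
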