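import Groth.Statements.S2160
import Mathlib
-- import your own Groth.Agent.* helpers here

set_option autoImplicit false
universe u
open CAlg

namespace Groth.Agent.S2160

/-- Let `R` be a Noetherian local domain of Krull dimension at least `2`. Then every nonempty open
subset of `Spec R` is infinite. -/
theorem result {R : Type u} [CommRing R] [IsDomain R] [IsLocalRing R] [IsNoetherianRing R]
    (hdim : 2 ≤ ringKrullDim R) (U : Set (PrimeSpectrum R)) (hU : IsOpen U) (hne : U.Nonempty) : U.Infinite := by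
  classical
  intro hUfin
  obtain ⟨y, hyU⟩ := hne
  obtain ⟨_, ⟨f, rfl⟩, hyf, hfU⟩ :=
    PrimeSpectrum.isTopologicalBasis_basic_opens.exists_subset_of_mem_open hyU hU
  have hf0 : f ≠ 0 := by
    rintro rfl
    have : (0 : R) ∉ y.asIdeal := hyf
    exact this y.asIdeal.zero_mem
  have hDfin : ((PrimeSpectrum.basicOpen f : Set (PrimeSpectrum R))).Finite := hUfin.subset hfU
  have hmmax : (IsLocalRing.maximalIdeal R).IsMaximal := IsLocalRing.maximalIdeal.isMaximal R
  have hm : (2 : ℕ∞) ≤ (IsLocalRing.maximalIdeal R).height := by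
    rw [← IsLocalRing.maximalIdeal_height_eq_ringKrullDim] at hdim
    have h2 : ((2 : ℕ∞) : WithBot ℕ∞) ≤ ((IsLocalRing.maximalIdeal R).height : WithBot ℕ∞) := hdim
    exact WithBot.coe_le_coe.mp h2
  have hminfin := Ideal.finite_minimalPrimes_of_isNoetherianRing R (Ideal.span {f})
  let F₁ : Finset (Ideal R) :=
    ((hDfin.toFinset.image PrimeSpectrum.asIdeal).filter (· ≠ IsLocalRing.maximalIdeal R)) ∪
      hminfin.toFinset
  have hF₁prime : ∀ Q ∈ F₁, Q.IsPrime := by
    intro Q hQ
    rcases Finset.mem_union.mp hQ with h | h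
    · obtain ⟨hQ1, -⟩ := Finset.mem_filter.mp h
      obtain ⟨q, -, rfl⟩ := Finset.mem_image.mp hQ1
      exact q.isPrime
    · exact (hminfin.mem_toFinset.mp h).isPrime
  have hF₁ne : ∀ Q ∈ F₁, Q ≠ IsLocalRing.maximalIdeal R := by
    intro Q hQ
    rcases Finset.mem_union.mp hQ with h | h
    · exact (Finset.mem_filter.mp h).2
    · intro heq
      have h1 := Ideal.height_le_one_of_isPrincipal_of_mem_minimalPrimes _ Q
        (hminfin.mem_toFinset.mp h)
      rw [heq] at h1
      exact absurd (hm.trans h1) (by decide)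
  have hnsub : ¬ (((IsLocalRing.maximalIdeal R : Ideal R) : Set R) ⊆
      ⋃ Q ∈ (F₁ : Set (Ideal R)), (Q : Set R)) := by
    intro hsub
    obtain ⟨Q, hQ, hmQ⟩ := (Ideal.subset_union_prime (R := R) (f := fun Q : Ideal R => Q)
      (IsLocalRing.maximalIdeal R) (IsLocalRing.maximalIdeal R)
      (fun Q hQ _ _ => hF₁prime Q hQ)).mp hsub
    have := hF₁prime Q hQ
    exact hF₁ne Q hQ (hmmax.eq_of_le this.ne_top hmQ).symm
  rw [Set.not_subset] at hnsub
  obtain ⟨x, hxm, hxn⟩ := hnsub
  have hxn' : ∀ Q ∈ F₁, x ∉ Q := by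
    intro Q hQ hxQ
    apply hxn
    simp only [Set.mem_iUnion]
    exact ⟨Q, hQ, hxQ⟩
  have hxm' : Ideal.span {x} ≤ IsLocalRing.maximalIdeal R :=
    (Ideal.span_singleton_le_iff_mem _).mpr hxm
  haveI := hmmax.isPrime
  obtain ⟨T, hT, hTm⟩ := Ideal.exists_minimalPrimes_le hxm'
  haveI hTprime : T.IsPrime := hT.isPrime
  have hTh : T.height ≤ 1 := Ideal.height_le_one_of_isPrincipal_of_mem_minimalPrimes _ T hT
  have hxT : x ∈ T := hT.1.2 (Ideal.mem_span_singleton_self x)
  have hTne : T ≠ IsLocalRing.maximalIdeal R := by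
    rintro rfl
    exact absurd (hm.trans hTh) (by decide)
  have hTnF : T ∉ F₁ := fun h => hxn' T h hxT
  have hfT : f ∈ T := by
    by_contra hfT
    apply hTnF
    apply Finset.mem_union_left
    rw [Finset.mem_filter]
    refine ⟨?_, hTne⟩
    rw [Finset.mem_image]
    refine ⟨⟨T, hTprime⟩, ?_, rfl⟩
    rw [hDfin.mem_toFinset]
    exact hfT
  have hfT' : Ideal.span {f} ≤ T := (Ideal.span_singleton_le_iff_mem _).mpr hfT
  obtain ⟨P, hP, hPT⟩ := Ideal.exists_minimalPrimes_le hfT'
  haveI := hP.isPrime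
  have hPne : P ≠ ⊥ := by
    intro hbot
    have : f ∈ P := hP.1.2 (Ideal.mem_span_singleton_self f)
    rw [hbot, Ideal.mem_bot] at this
    exact hf0 this
  rcases eq_or_lt_of_le hPT with heq | hlt
  · apply hTnF
    apply Finset.mem_union_right
    rw [hminfin.mem_toFinset, ← heq]
    exact hP
  · have h1 := Ideal.height_add_one_le_of_lt_of_isPrime hlt
    have h2 : 1 ≤ P.height := by
      rw [Order.one_le_iff_pos, pos_iff_ne_zero]
      intro h0
      exact hPne (Ideal.height_eq_zero_iff_eq_bot.mp h0)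
    have h3 : (1 : ℕ∞) + 1 ≤ 1 := (add_le_add_left h2 1).trans (h1.trans hTh)
    exact absurd h3 (by decide)

end Groth.Agent.S2160
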