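import Groth.Statements.S2163
import Mathlib
import Groth.Agent.Lib.Helper27Chase

set_option autoImplicit false
universe u
open CAlg

namespace Groth.Agent.S2163

/-- A ring `R` is coherent — every finitely generated ideal is a finitely presented module — if and only
if for every index set `A` (in the same universe) the product module `R^A` is flat. -/
theorem result {R : Type u} [CommRing R] :
    (∀ I : Ideal R, I.FG → Module.FinitePresentation R I) ↔ ∀ (A : Type u), Module.Flat R (A → R) := by
  exact Groth.Agent.Lib.Helper27Chase.main

end Groth.Agent.S2163
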