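import Groth.Statements.S2170
import Mathlib.Tactic

set_option autoImplicit false
open Finset
open Models

namespace Groth.Agent.S2170

/-- The key identity, with the row sums `r i = (A m)_i` not assumed to vanish. -/
theorem quadForm_identity {n : ℕ} (A : Matrix (Fin n) (Fin n) ℝ) (m : Fin n → ℝ) (hsymm : A.IsSymm)
    (hm : ∀ i, m i ≠ 0) (x : Fin n → ℝ) :
    ∑ i, ∑ j, A i j * x i * x j =
      ∑ i, (x i ^ 2 / m i) * (∑ j, A i j * m j) -
      (1/2) * ∑ i, ∑ j, A i j * m i * m j * (x i / m i - x j / m j) ^ 2 := by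
  have e : ∀ i j, A i j * m i * m j * (x i / m i - x j / m j) ^ 2 =
      (x i ^ 2 / m i) * (A i j * m j) - 2 * (A i j * x i * x j) + (x j ^ 2 / m j) * (A i j * m i) := by
    intro i j
    have hi := hm i
    have hj := hm j
    field_simp
    ring
  have s1 : ∑ i, ∑ j, (x i ^ 2 / m i) * (A i j * m j) = ∑ i, (x i ^ 2 / m i) * (∑ j, A i j * m j) := by
    refine Finset.sum_congr rfl fun i _ => ?_
    rw [← Finset.mul_sum]
  have s3 : ∑ i, ∑ j, (x j ^ 2 / m j) * (A i j * m i) = ∑ i, (x i ^ 2 / m i) * (∑ j, A i j * m j) := by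
    rw [Finset.sum_comm]
    refine Finset.sum_congr rfl fun j _ => ?_
    rw [← Finset.mul_sum]
    congr 1
    refine Finset.sum_congr rfl fun i _ => ?_
    rw [hsymm.apply]
  have hsum : ∑ i, ∑ j, A i j * m i * m j * (x i / m i - x j / m j) ^ 2 =
      ∑ i, ∑ j, (x i ^ 2 / m i) * (A i j * m j) - 2 * ∑ i, ∑ j, A i j * x i * x j +
        ∑ i, ∑ j, (x j ^ 2 / m j) * (A i j * m i) := by
    simp only [e, Finset.sum_add_distrib, Finset.sum_sub_distrib, Finset.mul_sum]
  rw [hsum, s1, s3]
  ring

/-- Let A be a symmetric real n × n matrix with non-negative off-diagonal entries and m a vector with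
positive entries such that for every i, ∑_{j ≠ i} A_{ij} m_j ≤ −A_{ii} m_i. Then the kernel of A is
the span of the vectors equal to m on an index set I and zero off I, for those I such that A_{ij} =
0 whenever i ∈ I and j ∉ I and such that equality holds in the above inequality for every i ∈ I. The
published statement omits the symmetry of A (without which it fails) and applies it only to
symmetric matrices; stated here with A symmetric. -/
theorem result {n : ℕ} (A : Matrix (Fin n) (Fin n) ℝ) (m : Fin n → ℝ)
    (hsymm : A.IsSymm) (hA : ∀ i j, i ≠ j → 0 ≤ A i j) (hm : ∀ i, 0 < m i)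
    (hle : ∀ i, ∑ j ∈ univ.erase i, A i j * m j ≤ -(A i i * m i)) :
    LinearMap.ker (Matrix.mulVecLin A) = Submodule.span ℝ
      {x : Fin n → ℝ | ∃ I : Finset (Fin n), (∀ i ∈ I, ∀ j ∉ I, A i j = 0) ∧
        (∀ i ∈ I, ∑ j ∈ univ.erase i, A i j * m j = -(A i i * m i)) ∧
        x = fun i => if i ∈ I then m i else 0} := by
  classical
  have hm' : ∀ i, m i ≠ 0 := fun i => (hm i).ne'
  -- row sums
  have hr : ∀ i, ∑ j, A i j * m j = A i i * m i + ∑ j ∈ univ.erase i, A i j * m j := fun i =>
    (Finset.add_sum_erase univ (fun j => A i j * m j) (mem_univ i)).symm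
  have hr0 : ∀ i, ∑ j, A i j * m j ≤ 0 := fun i => by rw [hr]; linarith [hle i]
  apply le_antisymm
  · -- kernel inside the span
    intro x hx
    have hAx : A.mulVec x = 0 := by simpa using hx
    have hq : ∑ i, ∑ j, A i j * x i * x j = 0 := by
      have : ∀ i, ∑ j, A i j * x i * x j = x i * (A.mulVec x) i := by
        intro i
        simp only [Matrix.mulVec, dotProduct, Finset.mul_sum]
        refine Finset.sum_congr rfl fun j _ => by ring
      simp only [this, hAx, Pi.zero_apply, mul_zero, Finset.sum_const_zero]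
    rw [quadForm_identity A m hsymm hm' x] at hq
    have h1 : ∀ i ∈ (univ : Finset (Fin n)), (x i ^ 2 / m i) * (∑ j, A i j * m j) ≤ 0 := by
      intro i _
      have : 0 ≤ x i ^ 2 / m i := div_nonneg (sq_nonneg _) (hm i).le
      exact mul_nonpos_of_nonneg_of_nonpos this (hr0 i)
    have h2in : ∀ i j, 0 ≤ A i j * m i * m j * (x i / m i - x j / m j) ^ 2 := by
      intro i j
      by_cases hij : i = j
      · subst hij; simp
      · have := hA i j hij
        have := hm i
        have := hm j
        positivity
    have h2 : ∀ i ∈ (univ : Finset (Fin n)),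
        0 ≤ ∑ j, A i j * m i * m j * (x i / m i - x j / m j) ^ 2 :=
      fun i _ => Finset.sum_nonneg fun j _ => h2in i j
    have hS1 : ∑ i, (x i ^ 2 / m i) * (∑ j, A i j * m j) ≤ 0 := Finset.sum_nonpos h1
    have hS2 : 0 ≤ ∑ i, ∑ j, A i j * m i * m j * (x i / m i - x j / m j) ^ 2 := Finset.sum_nonneg h2
    have hS1' : ∑ i, (x i ^ 2 / m i) * (∑ j, A i j * m j) = 0 := by linarith
    have hS2' : ∑ i, ∑ j, A i j * m i * m j * (x i / m i - x j / m j) ^ 2 = 0 := by linarith
    have hterm1 : ∀ i, (x i ^ 2 / m i) * (∑ j, A i j * m j) = 0 := fun i =>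
      (Finset.sum_eq_zero_iff_of_nonpos h1).mp hS1' i (mem_univ i)
    have hterm2 : ∀ i j, A i j * m i * m j * (x i / m i - x j / m j) ^ 2 = 0 := fun i j =>
      (Finset.sum_eq_zero_iff_of_nonneg (fun j _ => h2in i j)).mp
        ((Finset.sum_eq_zero_iff_of_nonneg h2).mp hS2' i (mem_univ i)) j (mem_univ j)
    have hedge : ∀ i j, A i j ≠ 0 → x i / m i = x j / m j := by
      intro i j hne
      have h := hterm2 i j
      have hne' : A i j * m i * m j ≠ 0 := mul_ne_zero (mul_ne_zero hne (hm' i)) (hm' j)
      have h3 := (mul_eq_zero.mp h).resolve_left hne'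
      exact sub_eq_zero.mp ((pow_eq_zero_iff (two_ne_zero)).mp h3)
    have hrow : ∀ i, x i ≠ 0 → ∑ j, A i j * m j = 0 := by
      intro i hxi
      have h := hterm1 i
      have : x i ^ 2 / m i ≠ 0 := div_ne_zero (pow_ne_zero 2 hxi) (hm' i)
      exact (mul_eq_zero.mp h).resolve_left this
    -- decomposition along the level sets of `t = x / m`
    let t : Fin n → ℝ := fun i => x i / m i
    let I : ℝ → Finset (Fin n) := fun q => univ.filter fun i => t i = q
    have hxt : ∀ i, x i = t i * m i := fun i => by
      simp only [t]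
      rw [div_mul_cancel₀ _ (hm' i)]
    have hdecomp : x = ∑ q ∈ (univ.image t).erase 0, q • (fun i => if i ∈ I q then m i else 0) := by
      funext i
      rw [Finset.sum_apply]
      simp only [Pi.smul_apply, smul_eq_mul, I, mem_filter, mem_univ, true_and]
      by_cases hti : t i = 0
      · rw [hxt i, hti, zero_mul]
        symm
        refine Finset.sum_eq_zero fun q hq => ?_
        have hq0 : q ≠ 0 := (Finset.mem_erase.mp hq).1
        rw [if_neg (fun h => hq0 h.symm), mul_zero]
      · have hmem : t i ∈ (univ.image t).erase 0 :=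
          Finset.mem_erase.mpr ⟨hti, Finset.mem_image_of_mem t (mem_univ i)⟩
        rw [Finset.sum_eq_single_of_mem (t i) hmem]
        · rw [if_pos rfl, ← hxt i]
        · intro q _ hq
          rw [if_neg (fun h => hq h.symm), mul_zero]
    rw [hdecomp]
    refine Submodule.sum_mem _ fun q hq => Submodule.smul_mem _ _ (Submodule.subset_span ?_)
    have hq0 : q ≠ 0 := (Finset.mem_erase.mp hq).1
    refine ⟨I q, ?_, ?_, rfl⟩
    · intro i hi j hj
      simp only [I, mem_filter, mem_univ, true_and] at hi hj
      by_contra hne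
      exact hj ((hedge i j hne).symm.trans hi)
    · intro i hi
      simp only [I, mem_filter, mem_univ, true_and] at hi
      have hxi : x i ≠ 0 := by
        rw [hxt i, hi]
        exact mul_ne_zero hq0 (hm' i)
      have := hrow i hxi
      rw [hr] at this
      linarith
  · -- the span inside the kernel
    rw [Submodule.span_le]
    rintro x ⟨I, hcl, heq, rfl⟩
    simp only [SetLike.mem_coe, LinearMap.mem_ker, Matrix.mulVecLin_apply]
    funext i
    simp only [Matrix.mulVec, dotProduct, Pi.zero_apply]
    by_cases hi : i ∈ I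
    · have : ∀ j ∈ (univ : Finset (Fin n)), A i j * (if j ∈ I then m j else 0) = A i j * m j := by
        intro j _
        by_cases hj : j ∈ I
        · rw [if_pos hj]
        · rw [if_neg hj, hcl i hi j hj, zero_mul, zero_mul]
      rw [Finset.sum_congr rfl this, hr, heq i hi]
      ring
    · refine Finset.sum_eq_zero fun j _ => ?_
      by_cases hj : j ∈ I
      · rw [if_pos hj, ← hsymm.apply, hcl j hj i hi, zero_mul]
      · rw [if_neg hj, mul_zero]

end Groth.Agent.S2170
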