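import Groth.Statements.S2171
import Groth.Agent.Lib.Helper11QuadForm

set_option autoImplicit false
open Finset
open Models

namespace Groth.Agent.S2171

/-- Let A be a symmetric real n by n matrix with non-negative off-diagonal entries, m a vector with
positive entries such that A m = 0, and assume no proper non-empty index set I has A i j = 0 for all
i in I and j outside I. Then x^t A x is at most 0 for every real vector x, with equality exactly
when x is a real multiple of m. -/
theorem result {n : ℕ} (A : Matrix (Fin n) (Fin n) ℝ)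
    (m : Fin n → ℝ) (hsymm : A.IsSymm) (hA : ∀ i j, i ≠ j → 0 ≤ A i j) (hm : ∀ i, 0 < m i)
    (hAm : A.mulVec m = 0)
    (hconn : ∀ I : Finset (Fin n), I.Nonempty → I ≠ univ → ∃ i ∈ I, ∃ j ∉ I, A i j ≠ 0)
    (x : Fin n → ℝ) :
    dotProduct x (A.mulVec x) ≤ 0 ∧ (dotProduct x (A.mulVec x) = 0 ↔ ∃ q : ℝ, x = q • m) := by
  have hq : dotProduct x (A.mulVec x) = ∑ i, ∑ j, A i j * x i * x j := by
    simp only [dotProduct, Matrix.mulVec, Finset.mul_sum]
    refine Finset.sum_congr rfl fun i _ => Finset.sum_congr rfl fun j _ => ?_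
    ring
  rw [hq]
  refine ⟨Groth.Agent.Lib.Helper11.quadForm_nonpos A m hsymm hA hm hAm x, ?_, ?_⟩
  · intro h0
    have key := Groth.Agent.Lib.Helper11.quadForm_eq_zero_imp A m hsymm hA hm hAm hconn x h0
    rcases Nat.eq_zero_or_pos n with hn | hn
    · subst hn
      exact ⟨0, funext fun i => i.elim0⟩
    · refine ⟨x ⟨0, hn⟩ / m ⟨0, hn⟩, funext fun i => ?_⟩
      have := key i ⟨0, hn⟩
      simp only [Pi.smul_apply, smul_eq_mul]
      rw [← this]
      have := (hm i).ne'
      field_simp
  · rintro ⟨q, rfl⟩
    have hrow : ∀ i, ∑ j, A i j * m j = 0 := by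
      intro i
      have := congrFun hAm i
      simpa [Matrix.mulVec, dotProduct] using this
    refine Finset.sum_eq_zero fun i _ => ?_
    have : ∑ j, A i j * (q • m) i * (q • m) j = (q * m i * q) * ∑ j, A i j * m j := by
      rw [Finset.mul_sum]
      refine Finset.sum_congr rfl fun j _ => ?_
      simp only [Pi.smul_apply, smul_eq_mul]
      ring
    rw [this, hrow, mul_zero]

end Groth.Agent.S2171
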