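import Groth.Statements.S2172
import Mathlib

set_option autoImplicit false
open Finset
open Models

namespace Groth.Agent.S2172

section Aux
open scoped Matrix
variable {F : Type*} [Field F] {n : ℕ}

/-- the incidence matrix of a set of ordered pairs -/
def incMat (Epos : Finset (Fin n × Fin n)) : Matrix Epos (Fin n) F :=
  fun p k => (if k = p.1.1 then 1 else 0) - (if k = p.1.2 then 1 else 0)

theorem incMat_mulVec (Epos : Finset (Fin n × Fin n)) (y : Fin n → F) (p : Epos) :
    (incMat (F := F) Epos).mulVec y p = y p.1.1 - y p.1.2 := by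
  simp [Matrix.mulVec, dotProduct, incMat, sub_mul, Finset.sum_sub_distrib]

theorem finrank_ker_transpose_le (Epos : Finset (Fin n × Fin n))
    (hconn : ∀ y : Fin n → F, (∀ p ∈ Epos, y p.1 = y p.2) → ∀ i j, y i = y j) :
    Module.finrank F (LinearMap.ker (incMat (F := F) Epos)ᵀ.mulVecLin) + n ≤ Epos.card + 1 := by
  have h1 := LinearMap.finrank_range_add_finrank_ker ((incMat (F := F) Epos)ᵀ.mulVecLin)
  have h2 := LinearMap.finrank_range_add_finrank_ker ((incMat (F := F) Epos).mulVecLin)
  rw [Module.finrank_pi, Fintype.card_coe] at h1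
  rw [Module.finrank_pi, Fintype.card_fin] at h2
  have h3 : Module.finrank F (LinearMap.range (incMat (F := F) Epos)ᵀ.mulVecLin) =
      Module.finrank F (LinearMap.range (incMat (F := F) Epos).mulVecLin) := by
    change (incMat (F := F) Epos)ᵀ.rank = (incMat (F := F) Epos).rank
    exact Matrix.rank_transpose _
  have h4 : Module.finrank F (LinearMap.ker (incMat (F := F) Epos).mulVecLin) ≤ 1 := by
    have hle : LinearMap.ker (incMat (F := F) Epos).mulVecLin ≤
        Submodule.span F {(fun _ => 1 : Fin n → F)} := by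
      intro y hy
      rw [LinearMap.mem_ker, Matrix.mulVecLin_apply] at hy
      have hy' : ∀ p ∈ Epos, y p.1 = y p.2 := by
        intro p hp
        have := congrFun hy ⟨p, hp⟩
        rw [incMat_mulVec] at this
        exact sub_eq_zero.1 this
      have hc := hconn y hy'
      rcases isEmpty_or_nonempty (Fin n) with he | ⟨⟨i₀⟩⟩
      · have : y = 0 := Subsingleton.elim _ _
        rw [this]
        exact Submodule.zero_mem _
      · rw [Submodule.mem_span_singleton]
        refine ⟨y i₀, ?_⟩
        ext i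
        simp [hc i i₀]
    calc Module.finrank F (LinearMap.ker (incMat (F := F) Epos).mulVecLin)
        ≤ Module.finrank F (Submodule.span F {(fun _ => 1 : Fin n → F)}) :=
          Submodule.finrank_mono hle
      _ ≤ 1 := by
          have := finrank_span_le_card (R := F) ({(fun _ => 1 : Fin n → F)} : Set (Fin n → F))
          simpa using this
  omega

theorem sum_lt_pairs {M : Type*} [AddCommGroup M] (g : Fin n → Fin n → M)
    (hg : ∀ i j, g j i = - g i j) (hgd : ∀ i, g i i = 0) (k : Fin n) :
    (∑ i, ∑ j, if i < j then ((if k = i then g i j else 0) - (if k = j then g i j else 0)) else 0) =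
      ∑ j, g k j := by
  have h1 : ∀ i j, (if i < j then ((if k = i then g i j else 0) - (if k = j then g i j else 0))
      else 0) = (if k = i then (if k < j then g k j else 0) else 0) +
        (if k = j then (if i < k then g k i else 0) else 0) := by
    intro i j
    by_cases hij : i < j
    · by_cases hki : k = i
      · subst hki
        have hkj : k ≠ j := ne_of_lt hij
        simp [hij, hkj]
      · by_cases hkj : k = j
        · subst hkj
          simp [hij, hki, hg i k]
        · simp [hij, hki, hkj]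
    · by_cases hki : k = i
      · subst hki
        by_cases hkj : k = j
        · subst hkj
          simp
        · simp [hij, hkj]
      · by_cases hkj : k = j
        · subst hkj
          simp [hij, hki]
        · simp [hij, hki, hkj]
  simp_rw [h1, Finset.sum_add_distrib]
  have e1 : (∑ i, ∑ j, if k = i then (if k < j then g k j else 0) else 0) =
      ∑ j, if k < j then g k j else 0 := by
    rw [Finset.sum_comm]
    refine Finset.sum_congr rfl fun j _ => ?_
    rw [Finset.sum_ite_eq]
    simp
  have e2 : (∑ i, ∑ j, if k = j then (if i < k then g k i else 0) else 0) =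
      ∑ i, if i < k then g k i else 0 := by
    refine Finset.sum_congr rfl fun i _ => ?_
    rw [Finset.sum_ite_eq]
    simp
  rw [e1, e2, ← Finset.sum_add_distrib]
  refine Finset.sum_congr rfl fun j _ => ?_
  rcases lt_trichotomy k j with h | h | h
  · simp [h, not_lt_of_gt h]
  · subst h
    simp [hgd]
  · simp [h, not_lt_of_gt h]

theorem transpose_mulVec_eq (Epos : Finset (Fin n × Fin n)) (hE : ∀ p ∈ Epos, p.1 < p.2)
    (g : Fin n → Fin n → F) (hg : ∀ i j, g j i = - g i j) (hgd : ∀ i, g i i = 0)
    (hg0 : ∀ i j, i < j → (i, j) ∉ Epos → g i j = 0) (k : Fin n) :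
    ((incMat (F := F) Epos)ᵀ.mulVec (fun p : Epos => g p.1.1 p.1.2)) k = ∑ j, g k j := by
  rw [← sum_lt_pairs g hg hgd k]
  have h1 : ((incMat (F := F) Epos)ᵀ.mulVec (fun p : Epos => g p.1.1 p.1.2)) k =
      ∑ p : Epos, ((if k = p.1.1 then g p.1.1 p.1.2 else 0) -
        (if k = p.1.2 then g p.1.1 p.1.2 else 0)) := by
    simp only [Matrix.mulVec, dotProduct, Matrix.transpose_apply, incMat]
    refine Finset.sum_congr rfl fun p _ => ?_
    split_ifs <;> simp
  rw [h1, Finset.sum_coe_sort Epos (fun q => (if k = q.1 then g q.1 q.2 else 0) -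
    (if k = q.2 then g q.1 q.2 else 0)), ← Fintype.sum_prod_type']
  have h2 : ∀ q : Fin n × Fin n, (if q.1 < q.2 then
      ((if k = q.1 then g q.1 q.2 else 0) - (if k = q.2 then g q.1 q.2 else 0)) else 0) =
      if q ∈ Epos then ((if k = q.1 then g q.1 q.2 else 0) -
        (if k = q.2 then g q.1 q.2 else 0)) else 0 := by
    intro q
    by_cases hq : q ∈ Epos
    · simp [hq, hE q hq]
    · by_cases hlt : q.1 < q.2
      · have := hg0 q.1 q.2 hlt hq
        simp [hq, hlt, this]
      · simp [hq, hlt]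
  simp_rw [h2]
  rw [Finset.sum_ite_mem, Finset.univ_inter]

end Aux


/-- Let A be a symmetric integer n by n matrix with non-negative off-diagonal entries killing an integer
vector m with positive entries, such that no proper non-empty index set is orthogonal to its
complement. Write e for the number of index pairs i < j where A i j > 0, and let l be a prime
dividing none of the nonzero entries of A and none of the m i. Then the l-torsion subgroup of the
cokernel of A on Z^n has at most l^(1 - n + e) elements, i.e. F_l-dimension at most 1 - n + e (the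
exponent is written with truncated subtraction; e + 1 is never smaller than n here). -/
theorem result {n : ℕ} (A : Matrix (Fin n) (Fin n) ℤ)
    (m : Fin n → ℤ) (hsymm : A.IsSymm) (hA : ∀ i j, i ≠ j → 0 ≤ A i j) (hm : ∀ i, 0 < m i)
    (hAm : A.mulVec m = 0)
    (hconn : ∀ I : Finset (Fin n), I.Nonempty → I ≠ univ → ∃ i ∈ I, ∃ j ∉ I, A i j ≠ 0)
    (ℓ : ℕ) (hℓ : ℓ.Prime) (hℓA : ∀ i j, A i j ≠ 0 → ¬ ((ℓ : ℤ) ∣ A i j))
    (hℓm : ∀ i, ¬ ((ℓ : ℤ) ∣ m i)) :
    Nat.card (Submodule.torsionBy ℤ ((Fin n → ℤ) ⧸ LinearMap.range (Matrix.mulVecLin A)) (ℓ : ℤ))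
      ≤ ℓ ^ ((univ.filter fun p : Fin n × Fin n => p.1 < p.2 ∧ 0 < A p.1 p.2).card + 1 - n) := by
  classical
  haveI : Fact ℓ.Prime := ⟨hℓ⟩
  obtain ⟨Epos, hEpos⟩ : ∃ Epos : Finset (Fin n × Fin n),
      Epos = univ.filter fun p : Fin n × Fin n => p.1 < p.2 ∧ 0 < A p.1 p.2 := ⟨_, rfl⟩
  rw [← hEpos]
  have hmem : ∀ p : Fin n × Fin n, p ∈ Epos ↔ p.1 < p.2 ∧ 0 < A p.1 p.2 := by
    intro p
    rw [hEpos]
    simp
  have hmF : ∀ i, (m i : ZMod ℓ) ≠ 0 := fun i h =>
    hℓm i ((ZMod.intCast_zmod_eq_zero_iff_dvd _ _).1 h)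
  have hAF : ∀ i j, A i j ≠ 0 → (A i j : ZMod ℓ) ≠ 0 := fun i j h h' =>
    hℓA i j h ((ZMod.intCast_zmod_eq_zero_iff_dvd _ _).1 h')
  have hAsymm : ∀ i j, A i j = A j i := fun i j => hsymm.apply j i
  -- connectivity in terms of functions
  have hconnF : ∀ y : Fin n → ZMod ℓ, (∀ p ∈ Epos, y p.1 = y p.2) → ∀ i j, y i = y j := by
    intro y hy
    have hadj : ∀ i j, i ≠ j → A i j ≠ 0 → y i = y j := by
      intro i j hij ha
      have hpos : 0 < A i j := lt_of_le_of_ne (hA i j hij) (Ne.symm ha)
      rcases lt_or_gt_of_ne hij with h | h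
      · exact hy (i, j) ((hmem _).2 ⟨h, hpos⟩)
      · have hpos' : 0 < A j i := by rw [← hAsymm i j]; exact hpos
        exact (hy (j, i) ((hmem _).2 ⟨h, hpos'⟩)).symm
    intro i j
    by_contra hne
    have hI1 : (univ.filter fun k => y k = y i).Nonempty := ⟨i, by simp⟩
    have hI2 : (univ.filter fun k => y k = y i) ≠ univ := by
      intro h
      have : j ∈ (univ.filter fun k => y k = y i) := by rw [h]; exact mem_univ j
      simp only [mem_filter, mem_univ, true_and] at this
      exact hne this.symm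
    obtain ⟨a, ha, b, hb, hab⟩ := hconn _ hI1 hI2
    simp only [mem_filter, mem_univ, true_and] at ha hb
    have hne' : a ≠ b := fun h => hb (h ▸ ha)
    exact hb ((hadj a b hne' hab).symm.trans ha)
  have hdim := finrank_ker_transpose_le (F := ZMod ℓ) Epos hconnF
  have hcardK : Nat.card (LinearMap.ker (incMat (F := ZMod ℓ) Epos).transpose.mulVecLin) =
      ℓ ^ Module.finrank (ZMod ℓ) (LinearMap.ker (incMat (F := ZMod ℓ) Epos).transpose.mulVecLin) := by
    rw [Nat.card_eq_fintype_card, Module.card_eq_pow_finrank (K := ZMod ℓ), ZMod.card]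
  -- the data attached to a torsion class
  have hex : ∀ t : Submodule.torsionBy ℤ
      ((Fin n → ℤ) ⧸ LinearMap.range (Matrix.mulVecLin A)) (ℓ : ℤ),
      ∃ (z x : Fin n → ℤ), Submodule.Quotient.mk x = t.1 ∧ A.mulVec z = (ℓ : ℤ) • x := by
    intro t
    obtain ⟨x, hx⟩ := Submodule.Quotient.mk_surjective _ t.1
    have ht : (ℓ : ℤ) • t.1 = 0 := (Submodule.mem_torsionBy_iff _ _).1 t.2
    rw [← hx, ← Submodule.Quotient.mk_smul, Submodule.Quotient.mk_eq_zero] at ht
    obtain ⟨z, hz⟩ := ht
    exact ⟨z, x, hx, hz⟩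
  choose z x hx hz using hex
  -- the function g attached to t
  let yb : (Submodule.torsionBy ℤ ((Fin n → ℤ) ⧸ LinearMap.range (Matrix.mulVecLin A)) (ℓ : ℤ)) →
      Fin n → ZMod ℓ := fun t k => (z t k : ZMod ℓ) * (m k : ZMod ℓ)⁻¹
  let g : (Submodule.torsionBy ℤ ((Fin n → ℤ) ⧸ LinearMap.range (Matrix.mulVecLin A)) (ℓ : ℤ)) →
      Fin n → Fin n → ZMod ℓ := fun t i j =>
    (A i j : ZMod ℓ) * (m i : ZMod ℓ) * (m j : ZMod ℓ) * (yb t i - yb t j)
  have hg : ∀ t i j, g t j i = - g t i j := by
    intro t i j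
    simp only [g]
    rw [hAsymm j i]
    ring
  have hgd : ∀ t i, g t i i = 0 := by
    intro t i
    simp [g]
  have hg0 : ∀ t i j, i < j → (i, j) ∉ Epos → g t i j = 0 := by
    intro t i j hij hp
    have h0 : A i j = 0 := by
      by_contra h
      exact hp ((hmem _).2 ⟨hij, lt_of_le_of_ne (hA i j (ne_of_lt hij)) (Ne.symm h)⟩)
    simp [g, h0]
  have hsum : ∀ t k, ∑ j, g t k j = 0 := by
    intro t k
    have h1 : ∑ j, (A k j : ZMod ℓ) * (m j : ZMod ℓ) = 0 := by
      have := congrFun hAm k
      simp only [Matrix.mulVec, dotProduct, Pi.zero_apply] at this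
      have h2 := congrArg (Int.cast : ℤ → ZMod ℓ) this
      push_cast at h2
      exact h2
    have h2 : ∑ j, (A k j : ZMod ℓ) * (z t j : ZMod ℓ) = 0 := by
      have := congrFun (hz t) k
      simp only [Matrix.mulVec, dotProduct, Pi.smul_apply, smul_eq_mul] at this
      have h2 := congrArg (Int.cast : ℤ → ZMod ℓ) this
      push_cast at h2
      rw [h2]
      simp
    have h3 : ∀ j, g t k j = (m k : ZMod ℓ) * yb t k * ((A k j : ZMod ℓ) * (m j : ZMod ℓ)) -
        (m k : ZMod ℓ) * ((A k j : ZMod ℓ) * (z t j : ZMod ℓ)) := by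
      intro j
      simp only [g, yb]
      have hmk := hmF k
      have hmj := hmF j
      field_simp
    simp_rw [h3]
    rw [Finset.sum_sub_distrib, ← Finset.mul_sum, ← Finset.mul_sum, h1, h2]
    simp
  -- the injection
  have hmemK : ∀ t, (fun p : Epos => g t p.1.1 p.1.2) ∈
      LinearMap.ker (incMat (F := ZMod ℓ) Epos).transpose.mulVecLin := by
    intro t
    rw [LinearMap.mem_ker, Matrix.mulVecLin_apply]
    ext k
    rw [transpose_mulVec_eq Epos (fun p hp => ((hmem p).1 hp).1) (g t) (hg t) (hgd t) (hg0 t) k,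
      hsum t k]
    rfl
  let φ : (Submodule.torsionBy ℤ ((Fin n → ℤ) ⧸ LinearMap.range (Matrix.mulVecLin A)) (ℓ : ℤ)) →
      LinearMap.ker (incMat (F := ZMod ℓ) Epos).transpose.mulVecLin := fun t => ⟨_, hmemK t⟩
  have hφ : Function.Injective φ := by
    intro t t' htt'
    have h1 : ∀ p : Epos, g t p.1.1 p.1.2 = g t' p.1.1 p.1.2 := fun p =>
      congrFun (congrArg Subtype.val htt') p
    -- the differences agree on edges
    have h2 : ∀ p ∈ Epos, (yb t - yb t') p.1 = (yb t - yb t') p.2 := by
      intro p hp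
      have := h1 ⟨p, hp⟩
      simp only [g] at this
      have hc : (A p.1 p.2 : ZMod ℓ) * (m p.1 : ZMod ℓ) * (m p.2 : ZMod ℓ) ≠ 0 :=
        mul_ne_zero (mul_ne_zero (hAF _ _ (ne_of_gt ((hmem p).1 hp).2)) (hmF _)) (hmF _)
      have := mul_left_cancel₀ hc this
      simp only [Pi.sub_apply]
      linear_combination this
    have h3 := hconnF _ h2
    -- constant difference
    rcases isEmpty_or_nonempty (Fin n) with he | ⟨⟨i₀⟩⟩
    · apply Subtype.ext
      rw [← hx t, ← hx t']
      congr 1
      exact Subsingleton.elim _ _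
    obtain ⟨s, hs⟩ := ZMod.intCast_surjective ((yb t - yb t') i₀)
    have h4 : ∀ k, ((z t k - z t' k - s * m k : ℤ) : ZMod ℓ) = 0 := by
      intro k
      have := h3 k i₀
      rw [← hs] at this
      simp only [Pi.sub_apply, yb] at this
      push_cast
      have hmk := hmF k
      field_simp at this
      linear_combination this
    have h5 : ∀ k, ∃ w : ℤ, z t k - z t' k - s * m k = (ℓ : ℤ) * w := fun k =>
      (ZMod.intCast_zmod_eq_zero_iff_dvd _ _).1 (h4 k)
    choose w hw using h5
    have h6 : x t - x t' = A.mulVec w := by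
      have hℓ0 : (ℓ : ℤ) ≠ 0 := by exact_mod_cast hℓ.ne_zero
      have e1 : (ℓ : ℤ) • (x t - x t') = A.mulVec (z t - z t') := by
        rw [smul_sub, ← hz t, ← hz t', Matrix.mulVec_sub]
      have e2 : z t - z t' = s • m + (ℓ : ℤ) • w := by
        ext k
        have := hw k
        simp only [Pi.sub_apply, Pi.add_apply, Pi.smul_apply, smul_eq_mul]
        linarith
      rw [e2, Matrix.mulVec_add, Matrix.mulVec_smul, Matrix.mulVec_smul, hAm, smul_zero,
        zero_add] at e1
      ext k
      have := congrFun e1 k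
      simp only [Pi.smul_apply, smul_eq_mul] at this
      exact mul_left_cancel₀ hℓ0 this
    apply Subtype.ext
    rw [← hx t, ← hx t', ← sub_eq_zero, ← Submodule.Quotient.mk_sub, Submodule.Quotient.mk_eq_zero,
      h6]
    exact ⟨w, rfl⟩
  calc Nat.card _ ≤ Nat.card (LinearMap.ker (incMat (F := ZMod ℓ) Epos).transpose.mulVecLin) :=
        Nat.card_le_card_of_injective φ hφ
    _ = ℓ ^ Module.finrank (ZMod ℓ)
        (LinearMap.ker (incMat (F := ZMod ℓ) Epos).transpose.mulVecLin) := hcardK
    _ ≤ ℓ ^ (Epos.card + 1 - n) := Nat.pow_le_pow_right hℓ.pos (by omega)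

end Groth.Agent.S2172
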