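import Groth.Statements.S2178
import Mathlib

set_option autoImplicit false
open Finset
open Models Models.NumericalType

namespace Groth.Agent.S2178

/-- Zariski's lemma: a vector killed by `a` is proportional to `m`. -/
theorem zariski {n : ℕ} (T : NumericalType n) (x : Fin n → ℤ) (hx : T.a.mulVec x = 0) :
    ∀ i j, x i * T.m j = x j * T.m i := by
  classical
  -- work over ℚ
  obtain ⟨y, hy⟩ : ∃ y : Fin n → ℚ, y = fun i => (x i : ℚ) / (T.m i : ℚ) := ⟨_, rfl⟩
  have hm0 : ∀ i, (T.m i : ℚ) ≠ 0 := fun i => by exact_mod_cast (T.m_pos i).ne'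
  have hmpos : ∀ i, (0 : ℚ) < (T.m i : ℚ) := fun i => by exact_mod_cast T.m_pos i
  have hxy : ∀ i, (x i : ℚ) = (T.m i : ℚ) * y i := fun i => by
    rw [hy]
    have := hm0 i
    field_simp
  have hAm : ∀ i, ∑ j, (T.a i j : ℚ) * (T.m j : ℚ) = 0 := by
    intro i
    have := congrFun T.mulVec_m i
    simp only [Matrix.mulVec, dotProduct, Pi.zero_apply] at this
    exact_mod_cast this
  have hAx : ∀ i, ∑ j, (T.a i j : ℚ) * (x j : ℚ) = 0 := by
    intro i
    have := congrFun hx i
    simp only [Matrix.mulVec, dotProduct, Pi.zero_apply] at this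
    exact_mod_cast this
  have hsym : ∀ i j, (T.a i j : ℚ) = (T.a j i : ℚ) := fun i j => by
    have := T.symm.apply i j
    exact_mod_cast this.symm
  have key : ∑ i, ∑ j, (T.a i j : ℚ) * (T.m i : ℚ) * (T.m j : ℚ) * (y i - y j) ^ 2 = 0 := by
    have e : ∀ i j, (T.a i j : ℚ) * (T.m i : ℚ) * (T.m j : ℚ) * (y i - y j) ^ 2
        = (T.m i : ℚ) * y i ^ 2 * ((T.a i j : ℚ) * (T.m j : ℚ))
          - 2 * ((x i : ℚ) * ((T.a i j : ℚ) * (x j : ℚ)))
          + (T.m j : ℚ) * y j ^ 2 * ((T.a j i : ℚ) * (T.m i : ℚ)) := by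
      intro i j
      rw [hxy i, hxy j, hsym j i]
      ring
    simp only [e, Finset.sum_add_distrib, Finset.sum_sub_distrib, ← Finset.mul_sum, hAm, hAx,
      mul_zero, sub_zero, zero_add]
    rw [Finset.sum_comm]
    simp only [← Finset.mul_sum, hAm, mul_zero, Finset.sum_const_zero]
  have hnonneg : ∀ i j, 0 ≤ (T.a i j : ℚ) * (T.m i : ℚ) * (T.m j : ℚ) * (y i - y j) ^ 2 := by
    intro i j
    by_cases hij : i = j
    · subst hij
      simp
    · have : (0 : ℚ) ≤ (T.a i j : ℚ) := by exact_mod_cast T.offDiag_nonneg i j hij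
      have h1 := (hmpos i).le
      have h2 := (hmpos j).le
      positivity
  have hterm : ∀ i j, (T.a i j : ℚ) * (T.m i : ℚ) * (T.m j : ℚ) * (y i - y j) ^ 2 = 0 := by
    intro i j
    have h1 := (Finset.sum_eq_zero_iff_of_nonneg
      (fun i _ => Finset.sum_nonneg fun j _ => hnonneg i j)).mp key i (Finset.mem_univ _)
    exact (Finset.sum_eq_zero_iff_of_nonneg (fun j _ => hnonneg i j)).mp h1 j (Finset.mem_univ _)
  have hadj : ∀ i j, T.a i j ≠ 0 → y i = y j := by
    intro i j hij
    have h := hterm i j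
    have ha : (T.a i j : ℚ) ≠ 0 := by exact_mod_cast hij
    have h3 : (y i - y j) ^ 2 = 0 := by
      rcases mul_eq_zero.mp h with h | h
      · rcases mul_eq_zero.mp h with h | h
        · rcases mul_eq_zero.mp h with h | h
          · exact absurd h ha
          · exact absurd h (hm0 i)
        · exact absurd h (hm0 j)
      · exact h
    have := pow_eq_zero_iff (two_ne_zero) |>.mp h3
    linarith
  -- connectivity
  have hconst : ∀ i j, y i = y j := by
    intro i₀ j₀
    by_contra hne
    obtain ⟨I, hI⟩ : ∃ I : Finset (Fin n), I = Finset.univ.filter (fun i => y i = y i₀) := ⟨_, rfl⟩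
    have hI1 : I.Nonempty := ⟨i₀, by rw [hI]; simp⟩
    have hI2 : I ≠ Finset.univ := by
      intro h
      have : j₀ ∈ I := h ▸ Finset.mem_univ _
      rw [hI, Finset.mem_filter] at this
      exact hne this.2.symm
    obtain ⟨i, hi, j, hj, hij⟩ := T.connected I hI1 hI2
    rw [hI, Finset.mem_filter] at hi hj
    exact hj ⟨Finset.mem_univ _, (hadj i j hij).symm.trans hi.2⟩
  intro i j
  have h := hconst i j
  rw [hy] at h
  simp only at h
  rw [div_eq_div_iff (hm0 i) (hm0 j)] at h
  exact_mod_cast h

theorem ker_eq {n : ℕ} (T : NumericalType n) :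
    LinearMap.ker (Matrix.mulVecLin T.picMatrix) = LinearMap.ker (Matrix.mulVecLin T.a) := by
  ext x
  simp only [LinearMap.mem_ker, Matrix.mulVecLin_apply]
  have hrow : ∀ i, T.w i * (T.picMatrix.mulVec x) i = (T.a.mulVec x) i := by
    intro i
    simp only [Matrix.mulVec, dotProduct, Finset.mul_sum]
    refine Finset.sum_congr rfl fun j _ => ?_
    rw [← mul_assoc]
    congr 1
    exact Int.mul_ediv_cancel' (T.w_dvd i j)
  constructor
  · intro h
    funext i
    rw [← hrow, h]
    simp
  · intro h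
    funext i
    have := hrow i
    rw [h, Pi.zero_apply] at this
    rcases mul_eq_zero.mp this with h0 | h0
    · exact absurd h0 (T.w_pos i).ne'
    · exact h0

theorem finrank_ker {n : ℕ} (T : NumericalType n) :
    Module.finrank ℤ (LinearMap.ker (Matrix.mulVecLin T.a)) = 1 := by
  obtain ⟨i₀, hi₀⟩ : ∃ i₀ : Fin n, i₀ = ⟨0, T.pos⟩ := ⟨_, rfl⟩
  apply le_antisymm
  · -- injects into ℤ via the i₀-th coordinate
    obtain ⟨e, he⟩ : ∃ e : LinearMap.ker (Matrix.mulVecLin T.a) →ₗ[ℤ] ℤ,
        e = (LinearMap.proj i₀).comp (LinearMap.ker (Matrix.mulVecLin T.a)).subtype := ⟨_, rfl⟩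
    have hinj : Function.Injective e := by
      rw [← LinearMap.ker_eq_bot, LinearMap.ker_eq_bot']
      rintro ⟨x, hx⟩ h0
      rw [he] at h0
      have hx0 : x i₀ = 0 := h0
      have hx' : T.a.mulVec x = 0 := by
        rw [LinearMap.mem_ker, Matrix.mulVecLin_apply] at hx
        exact hx
      apply Subtype.ext
      funext j
      have := zariski T x hx' j i₀
      rw [hx0, zero_mul] at this
      rcases mul_eq_zero.mp this with h | h
      · exact h
      · exact absurd h (T.m_pos i₀).ne'
    have := LinearMap.finrank_le_finrank_of_injective hinj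
    rwa [Module.finrank_self] at this
  · -- contains `m`
    have hm : T.m ∈ LinearMap.ker (Matrix.mulVecLin T.a) := by
      rw [LinearMap.mem_ker, Matrix.mulVecLin_apply]
      exact T.mulVec_m
    obtain ⟨g, hg⟩ : ∃ g : ℤ →ₗ[ℤ] LinearMap.ker (Matrix.mulVecLin T.a),
        g = LinearMap.toSpanSingleton ℤ _ ⟨T.m, hm⟩ := ⟨_, rfl⟩
    have hinj : Function.Injective g := by
      rw [← LinearMap.ker_eq_bot, LinearMap.ker_eq_bot']
      intro c hc
      rw [hg, LinearMap.toSpanSingleton_apply] at hc
      have h1 : c * T.m i₀ = 0 := by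
        have := congrArg (fun z : LinearMap.ker (Matrix.mulVecLin T.a) => (z : Fin n → ℤ) i₀) hc
        simpa using this
      rcases mul_eq_zero.mp h1 with h | h
      · exact h
      · exact absurd h (T.m_pos i₀).ne'
    have := LinearMap.finrank_le_finrank_of_injective hinj
    rwa [Module.finrank_self] at this


/-- The Picard group of a numerical type (the cokernel of the matrix (a i j / w i) acting on Z^n) has
free rank one: its rank as a Z-module is 1. -/
theorem result {n : ℕ} (T : Models.NumericalType n) : Module.finrank ℤ T.Pic = 1 := by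
  have h1 := Submodule.finrank_quotient_add_finrank
    (LinearMap.range (Matrix.mulVecLin T.picMatrix))
  have h2 := Submodule.finrank_quotient_add_finrank
    (LinearMap.ker (Matrix.mulVecLin T.picMatrix))
  rw [(Matrix.mulVecLin T.picMatrix).quotKerEquivRange.finrank_eq, ker_eq, finrank_ker] at h2
  rw [Module.finrank_pi, Fintype.card_fin] at h1 h2
  change Module.finrank ℤ ((Fin n → ℤ) ⧸ LinearMap.range (Matrix.mulVecLin T.picMatrix)) = 1
  omega

end Groth.Agent.S2178
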