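import Groth.Statements.S2179
import Groth.Agent.Lib.Helper11Genus

set_option autoImplicit false
open Finset
open Models Models.NumericalType

namespace Groth.Agent.S2179

open Groth.Agent.Lib.Helper11

/-- For a numerical type T, the map Z^n -> Z^n multiplying the i-th coordinate by w i induces a
well-defined injective homomorphism from Pic(T), the cokernel of (a i j / w i), to the cokernel of
the matrix a. -/
theorem result {n : ℕ} (T : Models.NumericalType n) :
    ∃ f : T.Pic →+ T.CokerA, Function.Injective f ∧
      ∀ x : Fin n → ℤ, f (Submodule.Quotient.mk x) = Submodule.Quotient.mk (fun i => T.w i * x i) := by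
  let D : (Fin n → ℤ) →ₗ[ℤ] (Fin n → ℤ) :=
    { toFun := fun x i => T.w i * x i
      map_add' := fun x y => by funext i; simp [mul_add]
      map_smul' := fun c x => by funext i; simp; ring }
  have hD : ∀ x i, D x i = T.w i * x i := fun x i => rfl
  have hDK : ∀ y, D (T.picMatrix.mulVec y) = T.a.mulVec y := by
    intro y
    funext i
    rw [hD]
    simp only [Matrix.mulVec, dotProduct, Finset.mul_sum]
    refine Finset.sum_congr rfl fun j _ => ?_
    rw [← mul_assoc]
    congr 1
    exact Int.mul_ediv_cancel' (T.w_dvd i j)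
  have hle : LinearMap.range (Matrix.mulVecLin T.picMatrix) ≤
      (LinearMap.range (Matrix.mulVecLin T.a)).comap D := by
    rintro _ ⟨y, rfl⟩
    refine ⟨y, ?_⟩
    simp only [Matrix.mulVecLin_apply]
    exact (hDK y).symm
  refine ⟨(Submodule.mapQ _ _ D hle).toAddMonoidHom, ?_, fun x => rfl⟩
  rw [injective_iff_map_eq_zero]
  intro y hy
  obtain ⟨x, rfl⟩ := Submodule.Quotient.mk_surjective _ y
  have h1 : D x ∈ LinearMap.range (Matrix.mulVecLin T.a) :=
    (Submodule.Quotient.mk_eq_zero _).mp hy
  obtain ⟨z, hz⟩ := h1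
  refine (Submodule.Quotient.mk_eq_zero _).mpr ⟨z, ?_⟩
  simp only [Matrix.mulVecLin_apply] at hz ⊢
  funext i
  have h2 := congrFun (hDK z) i
  rw [hz, hD, hD] at h2
  exact mul_left_cancel₀ (T.w_pos i).ne' h2

end Groth.Agent.S2179
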