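import Groth.Statements.S2182
import Groth.Agent.Lib.Helper11Genus

set_option autoImplicit false
open Finset
open Models Models.NumericalType

namespace Groth.Agent.S2182

open Groth.Agent.Lib.Helper11

/-- In a numerical type, whenever a i j > 0 one has m i * a i j at most m j * |a j j| and m i * w i at
most m j * |a j j|. -/
theorem result {n : ℕ} (T : Models.NumericalType n) (i j : Fin n) (hij : 0 < T.a i j) :
    T.m i * T.a i j ≤ T.m j * |T.a j j| ∧ T.m i * T.w i ≤ T.m j * |T.a j j| := by
  have hij' : i ≠ j := by
    rintro rfl
    rcases Nat.lt_or_ge 1 n with hn | hn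
    · have := diag_neg T hn i
      linarith
    · -- a single index: the row relation forces a i i = 0
      have h := row_sum T i
      have hn1 : n = 1 := by have := T.pos; omega
      subst hn1
      rw [Fin.sum_univ_one] at h
      have e : i = 0 := Subsingleton.elim _ _
      rw [e] at hij
      have := T.m_pos 0
      rcases mul_eq_zero.mp h with h' | h'
      · rw [e] at h'; linarith
      · linarith
  have hrow := row_sum T j
  rw [← Finset.add_sum_erase univ (fun l => T.a j l * T.m l) (Finset.mem_univ j)] at hrow
  have hi_mem : i ∈ (Finset.univ : Finset (Fin n)).erase j := Finset.mem_erase.mpr ⟨hij', Finset.mem_univ _⟩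
  have hge : T.a j i * T.m i ≤ ∑ l ∈ (Finset.univ : Finset (Fin n)).erase j, T.a j l * T.m l := by
    refine Finset.single_le_sum (f := fun l => T.a j l * T.m l) (fun l hl => ?_) hi_mem
    exact mul_nonneg (T.offDiag_nonneg j l (Finset.ne_of_mem_erase hl).symm) (T.m_pos l).le
  have hsymm := a_symm T i j
  have hmi := T.m_pos i
  have hmj := T.m_pos j
  have hwi := T.w_pos i
  have hajj : T.a j j * T.m j ≤ 0 := by
    have : 0 ≤ T.a j i * T.m i := by rw [← hsymm]; positivity
    linarith
  have habs : T.m j * |T.a j j| = -(T.a j j * T.m j) := by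
    have hnp : T.a j j ≤ 0 := by
      by_contra hcon
      push Not at hcon
      have := mul_pos hcon hmj
      linarith
    rw [abs_of_nonpos hnp]; ring
  have h1 : T.m i * T.a i j ≤ T.m j * |T.a j j| := by
    rw [habs, hsymm]
    linarith
  refine ⟨h1, ?_⟩
  have hdvd := T.w_dvd i j
  have hwle : T.w i ≤ T.a i j := Int.le_of_dvd hij hdvd
  calc T.m i * T.w i ≤ T.m i * T.a i j := by
        exact mul_le_mul_of_nonneg_left hwle hmi.le
    _ ≤ T.m j * |T.a j j| := h1

end Groth.Agent.S2182
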