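import Groth.Statements.S2183
import Groth.Agent.Lib.Helper11Genus

set_option autoImplicit false
open Finset
open Models Models.NumericalType

namespace Groth.Agent.S2183

open Groth.Agent.Lib.Helper11

open Classical in
/-- Let T be a minimal numerical type with n > 1 indices and genus g at least 2, and let J be the set of
indices which are not (-2)-indices. Then J has at most 2g - 2 elements, and for j in J one has g j <
g, m j * |a j j| at most 6g - 6, and m i * a i j at most 6g - 6 for every index i. -/
theorem result {n : ℕ} (T : Models.NumericalType n) (hmin : T.IsMinimal) (hn : 1 < n) (hg : 2 ≤ T.genus) :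
    ((univ.filter fun j => ¬T.IsMinusTwo j).card : ℤ) ≤ 2 * T.genus - 2 ∧
      ∀ j, ¬T.IsMinusTwo j →
        T.g j < T.genus ∧ T.m j * |T.a j j| ≤ 6 * T.genus - 6 ∧
          ∀ i, T.m i * T.a i j ≤ 6 * T.genus - 6 := by
  have hsum := two_genus T
  have hc0 : ∀ i, 0 ≤ T.m i * (2 * T.w i * (T.g i - 1) - T.a i i) :=
    fun i => contribution_nonneg T hn hmin i
  have hc1 : ∀ j, ¬T.IsMinusTwo j → 1 ≤ T.m j * (2 * T.w j * (T.g j - 1) - T.a j j) := by
    intro j hj
    have h0 := hc0 j
    have hne : T.m j * (2 * T.w j * (T.g j - 1) - T.a j j) ≠ 0 := fun h =>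
      hj (isMinusTwo_of_contribution_zero T hn j h)
    omega
  have hle : ∀ j, T.m j * (2 * T.w j * (T.g j - 1) - T.a j j) ≤ 2 * T.genus - 2 := by
    intro j
    rw [hsum]
    exact Finset.single_le_sum (f := fun i => T.m i * (2 * T.w i * (T.g i - 1) - T.a i i))
      (fun i _ => hc0 i) (Finset.mem_univ j)
  constructor
  · rw [hsum]
    calc ((univ.filter fun j => ¬T.IsMinusTwo j).card : ℤ)
        = ∑ j ∈ univ.filter (fun j => ¬T.IsMinusTwo j), (1 : ℤ) := by simp
      _ ≤ ∑ j ∈ univ.filter (fun j => ¬T.IsMinusTwo j),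
            T.m j * (2 * T.w j * (T.g j - 1) - T.a j j) :=
          Finset.sum_le_sum fun j hj => hc1 j (Finset.mem_filter.mp hj).2
      _ ≤ ∑ i, T.m i * (2 * T.w i * (T.g i - 1) - T.a i i) :=
          Finset.sum_le_sum_of_subset_of_nonneg (Finset.subset_univ _) fun i _ _ => hc0 i
  · intro j hj
    obtain ⟨k, hk, hka⟩ := diag_eq T hn j
    have hm := T.m_pos j
    have hw := T.w_pos j
    have hg := T.g_nonneg j
    have hcj := hle j
    have hmw : 1 ≤ T.m j * T.w j := mul_pos hm hw
    have hce : T.m j * (2 * T.w j * (T.g j - 1) - T.a j j) =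
        (T.m j * T.w j) * (2 * T.g j - 2 + k) := by rw [hka]; ring
    rw [hce] at hcj
    have hpos : 1 ≤ (T.m j * T.w j) * (2 * T.g j - 2 + k) := by rw [← hce]; exact hc1 j hj
    have hfac : 1 ≤ 2 * T.g j - 2 + k := by
      by_contra hcon
      have : 2 * T.g j - 2 + k ≤ 0 := by omega
      have := mul_nonpos_of_nonneg_of_nonpos (by omega : 0 ≤ T.m j * T.w j) this
      omega
    have hk3 : T.g j = 0 → 3 ≤ k := by
      intro h0
      by_contra hcon
      have hk12 : k = 1 ∨ k = 2 := by omega
      rcases hk12 with rfl | rfl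
      · exact hmin j ⟨h0, by rw [hka]; ring⟩
      · exact hj ⟨h0, by rw [hka]; ring⟩
    have habs : |T.a j j| = k * T.w j := by
      rw [hka, abs_neg, abs_of_nonneg (by positivity)]
    have hbound : T.m j * |T.a j j| ≤ 6 * T.genus - 6 := by
      rw [habs]
      have h3 : T.m j * (k * T.w j) ≤ 3 * ((T.m j * T.w j) * (2 * T.g j - 2 + k)) := by
        have : k ≤ 3 * (2 * T.g j - 2 + k) := by
          rcases (hg).eq_or_lt with h0 | h0
          · have := hk3 h0.symm; omega
          · omega
        calc T.m j * (k * T.w j) = (T.m j * T.w j) * k := by ring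
          _ ≤ (T.m j * T.w j) * (3 * (2 * T.g j - 2 + k)) :=
              mul_le_mul_of_nonneg_left this (by omega)
          _ = 3 * ((T.m j * T.w j) * (2 * T.g j - 2 + k)) := by ring
      omega
    refine ⟨?_, hbound, ?_⟩
    · -- g j < genus
      have : 2 * T.g j - 2 + k ≤ (T.m j * T.w j) * (2 * T.g j - 2 + k) :=
        le_mul_of_one_le_left (by omega) hmw
      omega
    · intro i
      by_cases hij : i = j
      · subst hij
        have := diag_neg T hn i
        have : T.m i * T.a i i < 0 := mul_neg_of_pos_of_neg hm this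
        omega
      · have hrow := row_sum T j
        rw [← Finset.add_sum_erase univ (fun i => T.a j i * T.m i) (mem_univ j)] at hrow
        have hterm : T.a j i * T.m i ≤ ∑ x ∈ univ.erase j, T.a j x * T.m x :=
          Finset.single_le_sum (f := fun x => T.a j x * T.m x)
            (fun x hx => mul_nonneg (T.offDiag_nonneg j x (Finset.ne_of_mem_erase hx).symm)
              (T.m_pos x).le) (Finset.mem_erase.mpr ⟨hij, mem_univ i⟩)
        have hneg : T.a j j * T.m j = -(T.m j * |T.a j j|) := by
          rw [habs, hka]; ring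
        rw [a_symm T i j]
        nlinarith

end Groth.Agent.S2183
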