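import Groth.Statements.S2187
import Groth.Agent.Lib.LeadCA1
import Groth.Agent.Lib.Helper13Vasc1
import Groth.Agent.Lib.Helper21PdLoc
-- import your own Groth.Agent.* helpers here

set_option autoImplicit false
universe u
open CategoryTheory
open LCI

namespace Groth.Agent.S2187

/-- Let R be a Noetherian local ring and I an ideal of finite projective dimension as an R-module. If F
is a direct summand of the conormal module I/I^2 which is isomorphic to R/I, then there is a
nonzerodivisor x in I whose class in I/I^2 generates F. -/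
theorem result {R : Type u} [CommRing R]
    [IsNoetherianRing R] [IsLocalRing R] (I : Ideal R) (n : ℕ)
    (hpd : HasProjectiveDimensionLT (ModuleCat.of R I) n)
    (F G : Submodule (R ⧸ I) I.Cotangent) (hFG : IsCompl F G) (e : F ≃ₗ[R ⧸ I] (R ⧸ I)) :
    ∃ (x : R) (hx : x ∈ I), x ∈ nonZeroDivisors R ∧
      Submodule.span (R ⧸ I) {I.toCotangent ⟨x, hx⟩} = F := by
  classical
  by_cases hItop : I = ⊤
  · subst hItop
    have hsubC : Subsingleton (⊤ : Ideal R).Cotangent := by
      have : Subsingleton (R ⧸ (⊤ : Ideal R)) := Ideal.Quotient.subsingleton_iff.mpr rfl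
      exact Module.subsingleton (R ⧸ (⊤ : Ideal R)) _
    refine ⟨1, Submodule.mem_top, one_mem _, ?_⟩
    have : Subsingleton (Submodule (R ⧸ (⊤ : Ideal R)) (⊤ : Ideal R).Cotangent) :=
      (Submodule.subsingleton_iff _).mpr hsubC
    exact Subsingleton.elim _ _
  · have h10 : (0 : R ⧸ I) ≠ 1 := Ideal.Quotient.zero_ne_one_iff.mpr hItop
    -- the generator of `F`
    obtain ⟨f₀, hf₀⟩ : ∃ f₀ : F, f₀ = e.symm 1 := ⟨_, rfl⟩
    have hIbot : I ≠ ⊥ := by
      intro h0
      subst h0
      have hs : Subsingleton (⊥ : Ideal R).Cotangent := by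
        have : Subsingleton (⊥ : Ideal R) := inferInstance
        exact Function.Surjective.subsingleton (Ideal.toCotangent_surjective _)
      have : (e.symm 1 : F) = e.symm 0 := Subsingleton.elim _ _
      exact h10 (e.symm.injective this).symm
    obtain ⟨⟨x₀, hx₀⟩, hx₀e⟩ := Ideal.toCotangent_surjective I (f₀ : I.Cotangent)
    -- a regular element in `I`
    have hn1 : HasProjectiveDimensionLT (ModuleCat.of R ↥I) (n + 1) :=
      hasProjectiveDimensionLT_of_ge _ n (n + 1) (Nat.le_succ n)
    have hpdq : HasProjectiveDimensionLT (ModuleCat.of R (R ⧸ I)) (n + 1 + 1) :=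
      (Groth.Agent.Lib.Helper21.PdLoc.pdLT_succ_iff_of_ses I.subtype
        (Submodule.mkQ I) (Submodule.injective_subtype _)
        (Submodule.mkQ_surjective _) (LinearMap.exact_subtype_mkQ _) n).mpr hn1
    obtain ⟨y, hyI, hyreg⟩ :=
      Groth.Agent.Helper13Vasc.exists_isSMulRegular_mem I hIbot (n + 1) hpdq
    have hfin : (associatedPrimes R R).Finite := associatedPrimes.finite R R
    have hJ : ∀ p ∈ hfin.toFinset, ¬ I ^ 2 ≤ p := by
      intro p hp hle
      rw [Set.Finite.mem_toFinset] at hp
      have hpp : p.IsPrime := hp.isPrime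
      have hIp : I ≤ p := hpp.le_of_pow_le hle
      have : y ∈ ⋃ p ∈ associatedPrimes R R, (p : Set R) :=
        Set.mem_biUnion hp (hIp hyI)
      rw [biUnion_associatedPrimes_eq_compl_regular] at this
      exact this hyreg
    obtain ⟨z, hzJ, hz⟩ := Groth.Agent.Lib.LeadCA.exists_add_notMem hfin.toFinset
      (fun p hp => ((Set.Finite.mem_toFinset _).1 hp).isPrime) (I ^ 2) hJ x₀
    have hzI : z ∈ I := Ideal.pow_le_self two_ne_zero hzJ
    have hxI : x₀ + z ∈ I := I.add_mem hx₀ hzI
    have hreg : IsSMulRegular R (x₀ + z) := by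
      by_contra hnr
      have : x₀ + z ∈ ⋃ p ∈ associatedPrimes R R, (p : Set R) := by
        rw [biUnion_associatedPrimes_eq_compl_regular]
        exact hnr
      obtain ⟨p, hp, hxp⟩ := Set.mem_iUnion₂.mp this
      exact hz p ((Set.Finite.mem_toFinset _).2 hp) hxp
    refine ⟨x₀ + z, hxI, ?_, ?_⟩
    · rw [mem_nonZeroDivisors_iff_right]
      intro a ha
      apply hreg
      simp only [smul_eq_mul, mul_zero]
      rw [mul_comm]; exact ha
    · have hcl : I.toCotangent ⟨x₀ + z, hxI⟩ = (f₀ : I.Cotangent) := by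
        rw [← hx₀e, Ideal.toCotangent_eq]
        simpa using hzJ
      rw [hcl]
      apply le_antisymm
      · rw [Submodule.span_singleton_le_iff_mem]
        exact f₀.2
      · intro f hf
        rw [Submodule.mem_span_singleton]
        refine ⟨e ⟨f, hf⟩, ?_⟩
        have h1 : (e ⟨f, hf⟩) • f₀ = (⟨f, hf⟩ : F) := by
          rw [hf₀, ← map_smul, smul_eq_mul, mul_one, LinearEquiv.symm_apply_apply]
        exact congrArg Subtype.val h1

end Groth.Agent.S2187
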