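import Groth.Statements.S2188
import Groth.Agent.Lib.Helper13Vasc5
-- import your own Groth.Agent.* helpers here

set_option autoImplicit false
universe u
open CategoryTheory
open LCI

namespace Groth.Agent.S2188

/-- Let R be a Noetherian local ring and I an ideal of finite projective dimension as an R-module. If F
is a direct summand of I/I^2 which is free of rank r over R/I, then there is a regular sequence x_1,
..., x_r of R inside I whose classes in I/I^2 generate F. -/
theorem result {R : Type u} [CommRing R]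
    [IsNoetherianRing R] [IsLocalRing R] (I : Ideal R) (hI : I ≠ ⊤) (n : ℕ)
    (hpd : HasProjectiveDimensionLT (ModuleCat.of R I) n)
    (F G : Submodule (R ⧸ I) I.Cotangent) (hFG : IsCompl F G) (r : ℕ)
    (e : F ≃ₗ[R ⧸ I] (Fin r → R ⧸ I)) :
    ∃ (x : Fin r → R) (hx : ∀ i, x i ∈ I), RingTheory.Sequence.IsRegular R (List.ofFn x) ∧
      Submodule.span (R ⧸ I) (Set.range fun i => I.toCotangent ⟨x i, hx i⟩) = F := by
  classical
  open Groth.Agent.Helper13Vasc in
  -- the basis of `F`
  let b : Module.Basis (Fin r) (R ⧸ I) F := Module.Basis.ofEquivFun e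
  -- lifts of the basis
  have hlift : ∀ i, ∃ xi : R, ∃ hxi : xi ∈ I, I.toCotangent ⟨xi, hxi⟩ = (b i : I.Cotangent) := by
    intro i
    obtain ⟨⟨xi, hxi⟩, h⟩ := Ideal.toCotangent_surjective I (b i : I.Cotangent)
    exact ⟨xi, hxi, h⟩
  choose x hxI hxb using hlift
  -- the ideal `K`
  obtain ⟨K, hKdef⟩ : ∃ K : Ideal R, K =
      Submodule.map (Submodule.subtype I) (Submodule.comap I.toCotangent (G.restrictScalars R)) :=
    ⟨_, rfl⟩
  have hKmem : ∀ z : R, z ∈ K ↔ ∃ hz : z ∈ I, I.toCotangent ⟨z, hz⟩ ∈ G := by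
    intro z
    rw [hKdef, Submodule.mem_map]
    constructor
    · rintro ⟨⟨y, hy⟩, hyG, rfl⟩
      exact ⟨hy, hyG⟩
    · rintro ⟨hz, hzG⟩
      exact ⟨⟨z, hz⟩, hzG, rfl⟩
  -- the class of a linear combination
  have hclass : ∀ (a : Fin r → R) (hmem : ∑ i, a i * x i ∈ I),
      I.toCotangent ⟨∑ i, a i * x i, hmem⟩ =
        ((∑ i, Ideal.Quotient.mk I (a i) • b i : F) : I.Cotangent) := by
    intro a hmem
    have h1 : (⟨∑ i, a i * x i, hmem⟩ : I) = ∑ i, a i • (⟨x i, hxI i⟩ : I) := by
      apply Subtype.ext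
      rw [Submodule.coe_sum]
      simp
    rw [h1, map_sum, Submodule.coe_sum]
    refine Finset.sum_congr rfl fun i _ => ?_
    rw [map_smul, hxb, Submodule.coe_smul]
    rfl
  have hsum_mem : ∀ a : Fin r → R, ∑ i, a i * x i ∈ I := fun a =>
    I.sum_mem fun i _ => I.mul_mem_left _ (hxI i)
  have hind : Groth.Agent.Helper13Vasc.IndepMod I K x := by
    refine ⟨hxI, ?_, ?_, ?_, ?_⟩
    · intro z hz
      rw [hKmem]
      refine ⟨Ideal.pow_le_self two_ne_zero hz, ?_⟩
      have : I.toCotangent ⟨z, Ideal.pow_le_self two_ne_zero hz⟩ = 0 := by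
        rw [Ideal.toCotangent_eq_zero]
        exact hz
      rw [this]
      exact G.zero_mem
    · intro z hz
      exact ((hKmem z).1 hz).1
    · apply le_antisymm
      · refine sup_le (Ideal.span_le.2 ?_) (fun z hz => ((hKmem z).1 hz).1)
        rintro _ ⟨i, rfl⟩
        exact hxI i
      · intro z hz
        have hc : I.toCotangent ⟨z, hz⟩ ∈ F ⊔ G := by
          rw [hFG.sup_eq_top]
          exact Submodule.mem_top
        obtain ⟨f, hf, g, hg, hfg⟩ := Submodule.mem_sup.1 hc
        -- coefficients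
        have hsurj : ∀ i, ∃ ai : R, Ideal.Quotient.mk I ai = b.equivFun ⟨f, hf⟩ i :=
          fun i => Ideal.Quotient.mk_surjective _
        choose a ha using hsurj
        have hf' : I.toCotangent ⟨∑ i, a i * x i, hsum_mem a⟩ = f := by
          rw [hclass]
          have : (∑ i, Ideal.Quotient.mk I (a i) • b i : F) = ⟨f, hf⟩ := by
            simp only [ha]
            exact b.sum_equivFun ⟨f, hf⟩
          rw [this]
        have hzdiff : z - ∑ i, a i * x i ∈ K := by
          rw [hKmem]
          refine ⟨I.sub_mem hz (hsum_mem a), ?_⟩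
          have : (⟨z - ∑ i, a i * x i, I.sub_mem hz (hsum_mem a)⟩ : I) =
              ⟨z, hz⟩ - ⟨∑ i, a i * x i, hsum_mem a⟩ := rfl
          rw [this, map_sub, hf', ← hfg, add_sub_cancel_left]
          exact hg
        have : z = ∑ i, a i * x i + (z - ∑ i, a i * x i) := by ring
        rw [this]
        refine Ideal.add_mem _ (Ideal.mem_sup_left ?_) (Ideal.mem_sup_right hzdiff)
        exact Ideal.sum_mem _ fun i _ => Ideal.mul_mem_left _ _ (Ideal.subset_span ⟨i, rfl⟩)
    · intro a ha i
      obtain ⟨hz, hzG⟩ := (hKmem _).1 ha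
      rw [hclass a hz] at hzG
      have hzero : (∑ i, Ideal.Quotient.mk I (a i) • b i : F) = 0 := by
        have hF : ((∑ i, Ideal.Quotient.mk I (a i) • b i : F) : I.Cotangent) ∈ F := Subtype.property _
        have := (Submodule.disjoint_def.1 hFG.disjoint) _ hF hzG
        exact Subtype.ext this
      have := (Fintype.linearIndependent_iff.1 b.linearIndependent) _ hzero i
      exact Ideal.Quotient.eq_zero_iff_mem.1 this
  obtain ⟨y, hy1, hy2⟩ := Groth.Agent.Helper13Vasc.exists_regular_of_indepMod r R I K x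
    (IsLocalRing.le_maximalIdeal hI) hind ⟨n, hpd⟩
  have hyI : ∀ i, y i ∈ I := fun i => by
    have : y i = x i + (y i - x i) := by ring
    rw [this]
    exact I.add_mem (hxI i) (Ideal.pow_le_self two_ne_zero (hy1 i))
  refine ⟨y, hyI, ⟨hy2, ?_⟩, ?_⟩
  · intro htop
    have h1 : Ideal.ofList (List.ofFn y) • (⊤ : Submodule R R) ≤ I := by
      rw [smul_eq_mul, Ideal.mul_top, Ideal.ofList, Ideal.span_le]
      intro w hw
      obtain ⟨i, rfl⟩ := (List.mem_ofFn' y w).1 hw
      exact hyI i
    rw [← htop] at h1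
    exact hI (top_le_iff.1 h1)
  · have hcl : (fun i => I.toCotangent ⟨y i, hyI i⟩) = fun i => (b i : I.Cotangent) := by
      funext i
      rw [← hxb i, Ideal.toCotangent_eq]
      exact hy1 i
    rw [hcl]
    have : (Set.range fun i => (b i : I.Cotangent)) = F.subtype '' Set.range b := by
      rw [← Set.range_comp]
      rfl
    rw [this, ← Submodule.map_span, b.span_eq, Submodule.map_subtype_top]

end Groth.Agent.S2188
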