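import Groth.Statements.S2190
import Groth.Agent.Lib.Helper11Genus

set_option autoImplicit false
open Finset
open Models Models.NumericalType

namespace Groth.Agent.S2190

open Groth.Agent.Lib.Helper11

/-- A minimal numerical type of genus zero has a single index, with m = 1, a = 0, w = 1 and g = 0. -/
theorem result {n : ℕ} (T : Models.NumericalType n) (hmin : T.IsMinimal) (hg : T.genus = 0) :
    n = 1 ∧ ∀ i, T.m i = 1 ∧ T.a i i = 0 ∧ T.w i = 1 ∧ T.g i = 0 := by
  have hpos := T.pos
  have hn1 : n = 1 := by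
    by_contra hne
    have hn : 1 < n := by omega
    have := one_le_genus_of_isMinimal T hmin hn
    omega
  subst hn1
  refine ⟨rfl, ?_⟩
  intro i
  have e : i = 0 := Subsingleton.elim _ _
  subst e
  have hrow := row_sum T 0
  rw [Fin.sum_univ_one] at hrow
  have hm := T.m_pos 0
  have hw := T.w_pos 0
  have hgn := T.g_nonneg 0
  have ha : T.a 0 0 = 0 := by
    rcases mul_eq_zero.mp hrow with h | h
    · exact h
    · omega
  unfold NumericalType.genus at hg
  rw [Fin.sum_univ_one, Fin.sum_univ_one, ha, mul_zero] at hg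
  norm_num at hg
  have hprod : T.m 0 * T.w 0 * (1 - T.g 0) = 1 := by linarith
  have hmw : 1 ≤ T.m 0 * T.w 0 := by nlinarith
  have hg0 : T.g 0 = 0 := by
    by_contra hne
    have : 1 ≤ T.g 0 := by omega
    have : T.m 0 * T.w 0 * (1 - T.g 0) ≤ 0 := by
      apply mul_nonpos_of_nonneg_of_nonpos <;> linarith
    linarith
  rw [hg0] at hprod
  have hmw1 : T.m 0 * T.w 0 = 1 := by linarith
  have hm1 : T.m 0 = 1 := by nlinarith
  have hw1 : T.w 0 = 1 := by rw [hm1] at hmw1; linarith
  exact ⟨hm1, ha, hw1, hg0⟩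

end Groth.Agent.S2190
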