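import Groth.Statements.S2194
import Mathlib
import Groth.Agent.Lib.Helper16DPTens
-- import your own Groth.Agent.* helpers here

set_option autoImplicit false
set_option linter.style.haveILetI false
set_option linter.unusedSectionVars false
universe u
open DPow

namespace Groth.Agent.S2194

open Groth.Agent.Lib.Helper16DPPoly Groth.Agent.Lib.Helper16DPMap Groth.Agent.Lib.Helper16DPPres
open Groth.Agent.Lib.Helper16DPPres2 Groth.Agent.Lib.Helper16DPUniv Groth.Agent.Lib.Helper16DPTens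
open TensorProduct


/-- Let (A, I) be a ring with a divided power structure on I, B an A-algebra and J an ideal of B
containing I B. Then there is a divided power ring (D, J') with a ring map B -> D carrying J into J'
whose composite with A -> B is a homomorphism of divided power rings, universal for such data: for
every divided power ring (C, K) with a divided power homomorphism A -> C and every A-algebra map B
-> C carrying J into K there is exactly one divided power homomorphism D -> C compatible with the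
maps from B. -/
theorem result {A B : Type u} [CommRing A] [CommRing B] [Algebra A B] {I : Ideal A}
    (γ : DividedPowers I) (J : Ideal B) (hIJ : I.map (algebraMap A B) ≤ J) :
    ∃ (D : Type u) (_ : CommRing D) (_ : Algebra B D) (JD : Ideal D) (γD : DividedPowers JD),
      J.map (algebraMap B D) ≤ JD ∧
      γ.IsDPMorphism γD ((algebraMap B D).comp (algebraMap A B)) ∧
      ∀ (C : Type u) [CommRing C] [Algebra A C] (K : Ideal C) (δ : DividedPowers K),
        γ.IsDPMorphism δ (algebraMap A C) →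
        ∀ ψ : B →ₐ[A] C, J.map ψ ≤ K →
          ∃! χ : D →+* C, χ.comp (algebraMap B D) = ψ ∧ γD.IsDPMorphism δ χ := by
  classical
  let σ := ↥J
  let P := B ⊗[ℤ] DPZ σ
  let x : σ → ℕ → P := xT B σ
  have hx0 : ∀ i, x i 0 = 1 := xT0 B σ
  have hxmul : ∀ i n m, x i n * x i m = ((n + m).choose n : P) * x i (n + m) := xTmul B σ
  let b : Module.Basis (σ →₀ ℕ) B P := bT B σ
  have hb : ∀ e : σ →₀ ℕ, b e = e.prod (fun i k => x i k) := hbT B σ
  obtain ⟨δp, hδp⟩ := exists_dp x hx0 hxmul b hb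
  let jI : ∀ a ∈ I, σ := fun a ha => ⟨algebraMap A B a, hIJ (Ideal.mem_map_of_mem _ ha)⟩
  let G : Set P := {y | ∃ j : σ, y = x j 1 - algebraMap B P j.1} ∪
    {y | ∃ (a : A) (ha : a ∈ I) (n : ℕ),
      y = x (jI a ha) n - algebraMap B P (algebraMap A B (γ.dpow n a))}
  let 𝔍 : Ideal P := sInf {K | G ⊆ K ∧ δp.IsSubDPIdeal (K ⊓ Pplus x)}
  have hG : G ⊆ 𝔍 := fun y hy => Ideal.mem_sInf.mpr (fun {K} hK => hK.1 hy)
  have h𝔍 : δp.IsSubDPIdeal (𝔍 ⊓ Pplus x) :=
    ⟨inf_le_right, fun n hn y hy =>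
      ⟨Ideal.mem_sInf.mpr (fun {K} hK =>
        (hK.2.dpow_mem n hn ⟨Ideal.mem_sInf.mp hy.1 hK, hy.2⟩).1), δp.dpow_mem hn hy.2⟩⟩
  let D := P ⧸ 𝔍
  let mk : P →+* D := Ideal.Quotient.mk 𝔍
  let γD := DividedPowers.Quotient.dividedPowers δp h𝔍
  have hγD : δp.IsDPMorphism γD mk := DividedPowers.Quotient.isDPMorphism δp h𝔍
  have hmk1 : ∀ j : σ, mk (x j 1) = algebraMap B D j.1 := fun j => by
    have : mk (x j 1) = mk (algebraMap B P j.1) := Ideal.Quotient.eq.mpr (hG (Or.inl ⟨j, rfl⟩))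
    rw [this]; exact Ideal.Quotient.mk_algebraMap B 𝔍 _
  have hmk2 : ∀ a (ha : a ∈ I) n,
      mk (x (jI a ha) n) = algebraMap B D (algebraMap A B (γ.dpow n a)) := fun a ha n => by
    have : mk (x (jI a ha) n) = mk (algebraMap B P (algebraMap A B (γ.dpow n a))) :=
      Ideal.Quotient.eq.mpr (hG (Or.inr ⟨a, ha, n, rfl⟩))
    rw [this]; exact Ideal.Quotient.mk_algebraMap B 𝔍 _
  refine ⟨D, inferInstance, inferInstance, (Pplus x).map mk, γD, ?_, ?_, ?_⟩
  · rw [Ideal.map_le_iff_le_comap]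
    intro j hj
    rw [Ideal.mem_comap, ← hmk1 ⟨j, hj⟩]
    exact Ideal.mem_map_of_mem _ (x_mem x _ le_rfl)
  · refine ⟨?_, fun {n} a ha => ?_⟩
    · rw [Ideal.map_le_iff_le_comap]
      intro a ha
      rw [Ideal.mem_comap, RingHom.comp_apply]
      have := hmk1 (jI a ha)
      rw [← this]
      exact Ideal.mem_map_of_mem _ (x_mem x _ le_rfl)
    · rw [RingHom.comp_apply, RingHom.comp_apply]
      have := hmk1 (jI a ha)
      rw [← this, hγD.2 _ (x_mem x _ le_rfl), hδp, hmk2 a ha n]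
  · intro C _ _ K δ hδ ψ hψ
    letI : Algebra B C := ψ.toRingHom.toAlgebra
    have hψK : ∀ j : σ, ψ j.1 ∈ K := fun j => hψ (Ideal.mem_map_of_mem _ j.2)
    let Φ : P →ₐ[B] C := φ x hx0 hxmul b hb (fun j n => δ.dpow n (ψ j.1))
      (fun j => δ.dpow_zero (hψK j)) (fun j _ _ => δ.mul_dpow (hψK j))
    have hΦx : ∀ j n, Φ (x j n) = δ.dpow n (ψ j.1) := fun j n => φ_x x hx0 hxmul b hb _ _ _ j n
    have hΦB : ∀ β : B, Φ (algebraMap B P β) = ψ β := fun β => Φ.commutes β
    have hΦdp : δp.IsDPMorphism δ Φ.toRingHom :=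
      isDPMorphism_φ_plus x hx0 hxmul b hb δp hδp δ (fun j => ψ j.1) hψK
    have hker : 𝔍 ≤ RingHom.ker Φ.toRingHom := by
      refine sInf_le ⟨?_, DividedPowers.isSubDPIdeal_ker δp δ hΦdp⟩
      rintro y (⟨j, rfl⟩ | ⟨a, ha, n, rfl⟩)
      · rw [SetLike.mem_coe, RingHom.mem_ker]
        show Φ (x j 1 - algebraMap B P j.1) = 0
        rw [map_sub, hΦx, hΦB, δ.dpow_one (hψK j), sub_self]
      · rw [SetLike.mem_coe, RingHom.mem_ker]
        show Φ (x (jI a ha) n - algebraMap B P (algebraMap A B (γ.dpow n a))) = 0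
        rw [map_sub, hΦx, hΦB, sub_eq_zero]
        show δ.dpow n (ψ (algebraMap A B a)) = ψ (algebraMap A B (γ.dpow n a))
        rw [ψ.commutes, ψ.commutes, hδ.2 a ha]
    let χ : D →+* C := Ideal.Quotient.lift 𝔍 Φ.toRingHom (fun y hy => hker hy)
    have hχ : ∀ y, χ (mk y) = Φ y := fun y => Ideal.Quotient.lift_mk _ _ _
    refine ⟨χ, ⟨?_, ?_⟩, ?_⟩
    · ext β
      show χ (mk (algebraMap B P β)) = ψ β
      exact (hχ _).trans (hΦB β)
    · refine DividedPowers.IsDPMorphism.of_comp δp γD δ mk χ rfl hγD ?_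
      have : χ.comp mk = Φ.toRingHom := RingHom.ext hχ
      rw [this]; exact hΦdp
    · rintro χ' ⟨h1, h2⟩
      have h1' : ∀ β : B, χ' (mk (algebraMap B P β)) = ψ β := fun β => RingHom.congr_fun h1 β
      let Φ' : P →ₐ[B] C :=
        { toRingHom := χ'.comp mk
          commutes' := fun β => h1' β }
      have hΦ' : Φ' = Φ := by
        refine φ_unique x b hb Φ' Φ (fun j n => ?_)
        rw [hΦx]
        show χ' (mk (x j n)) = _
        rw [← hδp j n, ← hγD.2 _ (x_mem x _ le_rfl), ← h2.2 _ (Ideal.mem_map_of_mem _ (x_mem x _ le_rfl)),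
          hmk1]
        congr 1
        exact h1' j.1
      refine Ideal.Quotient.ringHom_ext (RingHom.ext fun y => ?_)
      show χ' (mk y) = χ (mk y)
      rw [hχ, ← hΦ']
      rfl

end Groth.Agent.S2194
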