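import Groth.Statements.S2203
import Mathlib

set_option autoImplicit false
universe u
open CategoryTheory
open QCohCat

namespace Groth.Agent.S2203

section Helpers

variable (A : Type u) [CommRing A]

/-- scalar multiplication as a natural endomorphism of the identity functor -/
noncomputable def smulNat (a : A) : End (𝟭 (ModuleCat.{u} A)) where
  app M := ModuleCat.ofHom (a • (LinearMap.id : M →ₗ[A] M))
  naturality M N f := by
    ext m
    simp

/-- evaluation of a natural endomorphism of the identity at `1 ∈ A` -/
noncomputable def ev (α : End (𝟭 (ModuleCat.{u} A))) : A :=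
  (α.app (ModuleCat.of A A)).hom (1 : A)

lemma app_apply (α : End (𝟭 (ModuleCat.{u} A))) (M : ModuleCat.{u} A) (m : M) :
    (α.app M).hom m = ev A α • m := by
  let f : ModuleCat.of A A ⟶ M := ModuleCat.ofHom (LinearMap.toSpanSingleton A M m)
  have h := α.naturality f
  have h2 := congrArg (fun g => g.hom (1 : A)) h
  simp only [Functor.id_obj, Functor.id_map, ModuleCat.hom_comp, LinearMap.coe_comp,
    Function.comp_apply] at h2
  have e1 : f.hom (1 : A) = m := by simp [f]
  rw [e1] at h2
  rw [h2]
  simp [f, ev]

lemma ev_smulNat (a : A) : ev A (smulNat A a) = a := by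
  simp [ev, smulNat]

lemma smulNat_ev (α : End (𝟭 (ModuleCat.{u} A))) : smulNat A (ev A α) = α := by
  apply NatTrans.ext
  funext M
  ext m
  rw [app_apply A α M m]
  simp [smulNat]

/-- `A` is the centre of its module category. -/
noncomputable def centerEquiv : A ≃* End (𝟭 (ModuleCat.{u} A)) where
  toFun := smulNat A
  invFun := ev A
  left_inv := ev_smulNat A
  right_inv := smulNat_ev A
  map_mul' a b := by
    apply NatTrans.ext
    funext M
    ext m
    rw [End.mul_def, NatTrans.comp_app]
    simp [smulNat, mul_smul, smul_comm a b]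

end Helpers

/-- Ring-isomorphism part of the statement: let A and B be commutative rings whose categories of modules
are equivalent. Then A and B are isomorphic as rings. (The source moreover describes the equivalence
as base change followed by tensoring with an invertible module.) -/
theorem result (A B : Type u) [CommRing A] [CommRing B]
    (F : ModuleCat.{u} A ≌ ModuleCat.{u} B) : Nonempty (A ≃+* B) := by
  -- the induced equivalence of endofunctor categories
  let Φ : (ModuleCat.{u} A ⥤ ModuleCat.{u} A) ≌ (ModuleCat.{u} B ⥤ ModuleCat.{u} B) :=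
    (F.congrLeft (E := ModuleCat.{u} A)).trans (F.congrRight (E := ModuleCat.{u} B))
  let iso : Φ.functor.obj (𝟭 (ModuleCat.{u} A)) ≅ 𝟭 (ModuleCat.{u} B) :=
    NatIso.ofComponents (fun N => F.counitIso.app N) (by
      intro X Y f
      simp [Φ])
  let T : End (𝟭 (ModuleCat.{u} A)) ≃* End (𝟭 (ModuleCat.{u} B)) :=
    (Φ.fullyFaithfulFunctor.mulEquivEnd (𝟭 (ModuleCat.{u} A))).trans (Iso.conj iso)
  let E : A ≃* B := ((centerEquiv A).trans T).trans (centerEquiv B).symm
  have : F.functor.Additive := Functor.additive_of_preserves_binary_products F.functor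
  have hE : ∀ a : A, E a = (F.counitIso.hom.app (ModuleCat.of B B)).hom
      ((F.functor.map (ModuleCat.ofHom (a • (LinearMap.id :
        (F.inverse.obj (ModuleCat.of B B)) →ₗ[A] _)))).hom
        ((F.counitIso.inv.app (ModuleCat.of B B)).hom (1 : B))) := by
    intro a
    have hΦ : ∀ (α : End (𝟭 (ModuleCat.{u} A))) (N : ModuleCat.{u} B),
        (Φ.functor.map α).app N = F.functor.map (α.app (F.inverse.obj N)) := fun _ _ => rfl
    simp only [E, T, centerEquiv, ev, Iso.conj_apply, iso, MulEquiv.trans_apply,
      MulEquiv.symm_mk, MulEquiv.coe_mk, Equiv.coe_fn_mk, Equiv.coe_fn_symm_mk,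
      Functor.FullyFaithful.mulEquivEnd_apply, NatTrans.comp_app, NatIso.ofComponents_hom_app,
      NatIso.ofComponents_inv_app, hΦ, ModuleCat.hom_comp, LinearMap.coe_comp,
      Function.comp_apply, Iso.app_hom, Iso.app_inv]
    rfl
  refine ⟨{ E with map_add' := ?_ }⟩
  intro a a'
  show E (a + a') = E a + E a'
  rw [hE, hE, hE, add_smul, ModuleCat.ofHom_add, Functor.map_add]
  simp

end Groth.Agent.S2203
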