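import Groth.Statements.S2207
import Mathlib

set_option autoImplicit false
universe u v
open DPow

namespace Groth.Agent.S2207

open Finset

/-- Existence in case (2): let I = (x) be a principal ideal of A with a divided power structure and B
any A-algebra. Then there is a divided power structure on I B for which A -> B is a homomorphism of
divided power rings. -/
theorem result {A : Type u} {B : Type v} [CommRing A] [CommRing B] [Algebra A B]
    (x : A) (γ : DividedPowers (Ideal.span {x})) :
    ∃ δ : DividedPowers ((Ideal.span {x}).map (algebraMap A B)), γ.IsDPMorphism δ (algebraMap A B) := by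
  classical
  set φ := algebraMap A B with hφ
  have hxI : x ∈ Ideal.span {x} := Ideal.subset_span rfl
  have hIB : (Ideal.span {x}).map φ = Ideal.span {φ x} := by
    rw [Ideal.map_span, Set.image_singleton]
  have hmem : ∀ y : B, y ∈ (Ideal.span {x}).map φ ↔ ∃ b, b * φ x = y := by
    intro y
    rw [hIB, Ideal.mem_span_singleton']
  let g : ℕ → B := fun n => φ (γ.dpow n x)
  have hg0 : g 0 = 1 := by simp only [g, γ.dpow_zero hxI, map_one]
  have hg1 : g 1 = φ x := by simp only [g, γ.dpow_one hxI]
  have hgmul : ∀ m n, g m * g n = ((m + n).choose m : B) * g (m + n) := by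
    intro m n
    simp only [g]
    rw [← map_mul, γ.mul_dpow hxI, map_mul, map_natCast]
  have hgmem : ∀ n, n ≠ 0 → g n ∈ (Ideal.span {x}).map φ := fun n hn =>
    Ideal.mem_map_of_mem φ (γ.dpow_mem hn hxI)
  -- coefficients a_n
  have hcoef : ∀ n, n ≠ 0 → ∃ c : A, c * x = γ.dpow n x := fun n hn =>
    Ideal.mem_span_singleton'.mp (γ.dpow_mem hn hxI)
  have hgcomp : ∀ m n (c : A), c * x = γ.dpow n x → n ≠ 0 →
      φ c ^ m * g m = (Nat.uniformBell m n : B) * g (m * n) := by
    intro m n c hc hn
    simp only [g]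
    rw [← map_pow, ← map_mul, ← γ.dpow_mul hxI, hc, γ.dpow_comp hn hxI, map_mul, map_natCast]
  -- the dpow function
  let dp : ℕ → B → B := fun n y =>
    if h : y ∈ (Ideal.span {x}).map φ then g n * (Classical.choose ((hmem y).mp h)) ^ n else 0
  have hdp : ∀ n (b : B), dp n (b * φ x) = g n * b ^ n := by
    intro n b
    have h : b * φ x ∈ (Ideal.span {x}).map φ := (hmem _).mpr ⟨b, rfl⟩
    simp only [dp, dif_pos h]
    set b₀ := Classical.choose ((hmem (b * φ x)).mp h) with hb₀
    have hb₀' : b₀ * φ x = b * φ x := Classical.choose_spec ((hmem (b * φ x)).mp h)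
    by_cases hn : n = 0
    · rw [hn, pow_zero, pow_zero]
    · obtain ⟨c, hc⟩ := hcoef n hn
      obtain ⟨q, hq⟩ := (Commute.all b₀ b).sub_dvd_pow_sub_pow n
      rw [← sub_eq_zero, ← mul_sub, hq]
      have : g n = φ c * φ x := by simp only [g]; rw [← hc, map_mul]
      rw [this]
      have h0 : φ x * (b₀ - b) = 0 := by rw [mul_sub, mul_comm, hb₀', mul_comm]; exact sub_self _
      calc φ c * φ x * ((b₀ - b) * q) = φ c * (φ x * (b₀ - b)) * q := by ring
        _ = 0 := by rw [h0, mul_zero, zero_mul]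
  refine ⟨{
    dpow := dp
    dpow_null := fun {n y} hy => dif_neg hy
    dpow_zero := fun {y} hy => by
      obtain ⟨b, rfl⟩ := (hmem y).mp hy
      rw [hdp, hg0, pow_zero, mul_one]
    dpow_one := fun {y} hy => by
      obtain ⟨b, rfl⟩ := (hmem y).mp hy
      rw [hdp, hg1, pow_one, mul_comm]
    dpow_mem := fun {n y} hn hy => by
      obtain ⟨b, rfl⟩ := (hmem y).mp hy
      rw [hdp]
      exact Ideal.mul_mem_right _ _ (hgmem n hn)
    dpow_add := fun {n y y'} hy hy' => by
      obtain ⟨b, rfl⟩ := (hmem y).mp hy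
      obtain ⟨b', rfl⟩ := (hmem y').mp hy'
      rw [← add_mul, hdp, (Commute.all b b').add_pow', Finset.mul_sum]
      refine Finset.sum_congr rfl fun k hk => ?_
      rw [hdp, hdp]
      have hk' : k.1 + k.2 = n := Finset.HasAntidiagonal.mem_antidiagonal.mp hk
      calc g n * (n.choose k.1 • (b ^ k.1 * b' ^ k.2))
          = ((n.choose k.1 : B) * g n) * (b ^ k.1 * b' ^ k.2) := by
            rw [nsmul_eq_mul]; ring
        _ = (g k.1 * g k.2) * (b ^ k.1 * b' ^ k.2) := by rw [hgmul, hk']
        _ = _ := by ring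
    dpow_mul := fun {n c y} hy => by
      obtain ⟨b, rfl⟩ := (hmem y).mp hy
      rw [← mul_assoc, hdp, hdp, mul_pow]
      ring
    mul_dpow := fun {m n y} hy => by
      obtain ⟨b, rfl⟩ := (hmem y).mp hy
      rw [hdp, hdp, hdp]
      calc g m * b ^ m * (g n * b ^ n) = (g m * g n) * b ^ (m + n) := by rw [pow_add]; ring
        _ = _ := by rw [hgmul]; ring
    dpow_comp := fun {m n y} hn hy => by
      obtain ⟨b, rfl⟩ := (hmem y).mp hy
      obtain ⟨c, hc⟩ := hcoef n hn
      rw [hdp, hdp]
      have h1 : g n * b ^ n = (φ c * b ^ n) * φ x := by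
        simp only [g]; rw [← hc, map_mul]; ring
      rw [h1, hdp, mul_pow, ← pow_mul]
      calc g m * (φ c ^ m * b ^ (n * m)) = (φ c ^ m * g m) * b ^ (n * m) := by ring
        _ = _ := by rw [hgcomp m n c hc hn, mul_comm n m]; ring }, ?_⟩
  refine ⟨le_rfl, ?_⟩
  intro n a ha
  obtain ⟨c, rfl⟩ := Ideal.mem_span_singleton'.mp ha
  show dp n (φ (c * x)) = φ (γ.dpow n (c * x))
  rw [map_mul, hdp, γ.dpow_mul hxI, map_mul, map_pow]
  ring

end Groth.Agent.S2207
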