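import Groth.Statements.S2211
import Mathlib

set_option autoImplicit false
universe u
open DPow

namespace Groth.Agent.S2211

/-- First part: let p be a prime and A a ring in which every integer prime to p is invertible, I an
ideal of A. Two divided power structures on I coincide exactly when their p-th divided power maps
agree on I. -/
theorem result {A : Type u} [CommRing A] (p : ℕ) (hp : p.Prime)
    (hA : ∀ n : ℕ, ¬ p ∣ n → IsUnit (n : A)) {I : Ideal A} (γ γ' : DividedPowers I) :
    γ = γ' ↔ ∀ x ∈ I, γ.dpow p x = γ'.dpow p x := by
  have not_dvd_uniformBell : ∀ m : ℕ, ¬ p ∣ Nat.uniformBell m p := by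
    intro m
    have := Fact.mk hp
    have h1 : Nat.uniformBell m p ≡ 1 [MOD p] := by
      rw [Nat.uniformBell_eq]
      have : ∀ i ∈ Finset.range m, Nat.choose (i * p + p - 1) (p - 1) ≡ 1 [MOD p] := by
        intro i _
        have hL := Choose.choose_modEq_choose_mod_mul_choose_div_nat (p := p)
          (n := i * p + p - 1) (k := p - 1)
        have hp1 : 1 ≤ p := hp.one_lt.le
        have e1 : (i * p + p - 1) % p = p - 1 := by
          have : i * p + p - 1 = (p - 1) + p * i := by
            rw [Nat.add_sub_assoc hp1, add_comm, mul_comm]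
          rw [this, Nat.add_mul_mod_self_left, Nat.mod_eq_of_lt (by omega)]
        have e2 : (p - 1) % p = p - 1 := Nat.mod_eq_of_lt (by omega)
        have e3 : (p - 1) / p = 0 := Nat.div_eq_of_lt (by omega)
        rw [e1, e2, e3] at hL
        simpa using hL
      calc ∏ i ∈ Finset.range m, Nat.choose (i * p + p - 1) (p - 1)
          ≡ ∏ i ∈ Finset.range m, 1 [MOD p] := by
            apply Nat.ModEq.prod
            exact this
        _ = 1 := by simp
    intro hdvd
    have h0 : Nat.uniformBell m p ≡ 0 [MOD p] := (Nat.modEq_zero_iff_dvd).mpr hdvd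
    have := h0.symm.trans h1
    rw [Nat.ModEq, Nat.zero_mod, Nat.mod_eq_of_lt hp.one_lt] at this
    exact absurd this (by norm_num)
  constructor
  · rintro rfl x _; rfl
  · intro h
    apply DividedPowers.ext
    intro n
    induction n using Nat.strong_induction_on with
    | _ n ih =>
      intro x hx
      rcases Nat.eq_zero_or_pos n with rfl | hn
      · rw [γ.dpow_zero hx, γ'.dpow_zero hx]
      by_cases hpn : p ∣ n
      · obtain ⟨m, rfl⟩ := hpn
        have hm : m < p * m := by
          have : 0 < m := Nat.pos_of_mul_pos_left hn |> fun h => by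
            rcases Nat.eq_zero_or_pos m with rfl | h'
            · simp at hn
            · exact h'
          nlinarith [hp.two_le]
        have hy : γ.dpow p x ∈ I := γ.dpow_mem hp.ne_zero hx
        have e1 := γ.dpow_comp (m := m) hp.ne_zero hx
        have e2 := γ'.dpow_comp (m := m) hp.ne_zero hx
        rw [← h x hx, ← ih m hm hy, e1] at e2
        have hu : IsUnit ((Nat.uniformBell m p : ℕ) : A) := hA _ (not_dvd_uniformBell m)
        rw [mul_comm p m]
        exact hu.mul_left_cancel e2
      · have e1 := γ.mul_dpow (m := 1) (n := n - 1) hx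
        have e2 := γ'.mul_dpow (m := 1) (n := n - 1) hx
        rw [γ.dpow_one hx] at e1
        rw [γ'.dpow_one hx, ← ih (n - 1) (by omega) hx, e1] at e2
        have hn1 : 1 + (n - 1) = n := by omega
        rw [hn1, Nat.choose_one_right] at e2
        exact (hA n hpn).mul_left_cancel e2

end Groth.Agent.S2211
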