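import Groth.Statements.S2229
import Mathlib
import Groth.Agent.S2216
import Groth.Agent.S2221
-- import your own Groth.Agent.* helpers here

set_option autoImplicit false
set_option linter.style.haveILetI false
set_option linter.unusedSectionVars false
universe u
open Disc

namespace Groth.Agent.S2229

open TensorProduct

variable {A B : Type u} [CommRing A] [CommRing B] [Algebra A B] {ι : Type} [Fintype ι]
  [DecidableEq ι]

/-- `toLinearMap` as an additive hom -/
def tlm : Disc.Omega A B →+ (B →ₗ[A] A) where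
  toFun := Disc.Omega.toLinearMap
  map_zero' := rfl
  map_add' _ _ := rfl

lemma tlm_apply (w : Disc.Omega A B) : tlm w = w.toLinearMap := rfl

lemma algebraMap_smul_apply (a : A) (w : Disc.Omega A B) (x : B) :
    (algebraMap A B a • w).toLinearMap x = a * w.toLinearMap x := by
  rw [Disc.Omega.smul_toLinearMap_apply, ← Algebra.smul_def, map_smul, smul_eq_mul]

/-- the dual basis element as element of Omega -/
noncomputable def dualEl (b : Module.Basis ι A B) (j : ι) : Disc.Omega A B := ⟨b.coord j⟩

lemma omega_expand (b : Module.Basis ι A B) (w : Disc.Omega A B) :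
    w = ∑ j, algebraMap A B (w.toLinearMap (b j)) • dualEl b j := by
  apply Disc.Omega.ext
  apply b.ext
  intro k
  rw [← tlm_apply (∑ j, _), map_sum, LinearMap.sum_apply]
  simp only [tlm_apply, algebraMap_smul_apply]
  rw [Finset.sum_eq_single k]
  · simp [dualEl]
  · intro j _ hjk
    simp [dualEl, hjk.symm]
  · intro h; exact absurd (Finset.mem_univ k) h

noncomputable def psiMat (b : Module.Basis ι A B) (ψ : Disc.Omega A B →ₗ[B] B) : Matrix ι ι A :=
  fun i j => b.repr (ψ (dualEl b j)) i

lemma repr_psi (b : Module.Basis ι A B) (ψ : Disc.Omega A B →ₗ[B] B) (w : Disc.Omega A B) (i : ι) :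
    b.repr (ψ w) i = ∑ j, psiMat b ψ i j * w.toLinearMap (b j) := by
  conv_lhs => rw [omega_expand b w]
  rw [map_sum, map_sum, Finsupp.coe_finsetSum, Finset.sum_apply]
  refine Finset.sum_congr rfl (fun j _ => ?_)
  rw [map_smul, smul_eq_mul, ← Algebra.smul_def, map_smul, Finsupp.smul_apply, smul_eq_mul, mul_comm]
  rfl


/-- the trace element -/
noncomputable def tau : Disc.Omega A B := ⟨Algebra.trace A B⟩

lemma leftMul_eq (b : Module.Basis ι A B) (ψ : Disc.Omega A B →ₗ[B] B) :
    Algebra.leftMulMatrix b (ψ tau) = psiMat b ψ * Algebra.traceMatrix A b := by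
  ext i k
  rw [Algebra.leftMulMatrix_eq_repr_mul, Matrix.mul_apply]
  have h1 : ψ tau * b k = ψ (b k • tau) := by
    rw [map_smul, smul_eq_mul, mul_comm]
  rw [h1, repr_psi]
  refine Finset.sum_congr rfl (fun j _ => ?_)
  rw [Disc.Omega.smul_toLinearMap_apply, Algebra.traceMatrix_apply, Algebra.traceForm_apply,
    mul_comm (b j) (b k)]
  rfl

lemma norm_eq (b : Module.Basis ι A B) (ψ : Disc.Omega A B →ₗ[B] B) :
    Algebra.norm A (ψ tau) = (psiMat b ψ).det * Algebra.discr A b := by
  rw [Algebra.norm_eq_matrix_det b, leftMul_eq, Matrix.det_mul, Algebra.discr_def]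

lemma psi_tau_mem [Module.Invertible B (Disc.Omega A B)] (ψ : Disc.Omega A B →ₗ[B] B) :
    ψ tau ∈ Disc.differentSet A B := by
  intro φ
  refine ⟨ψ ⟨φ⟩, fun x => ?_⟩
  have h := Groth.Agent.S2221.inv_symm (R := B) (M := Disc.Omega A B) ψ tau ⟨φ⟩
  have h2 := congrArg (fun w : Disc.Omega A B => w.toLinearMap x) h
  simp only [Disc.Omega.smul_toLinearMap_apply] at h2
  exact h2

lemma repr_mem_of_mem_map (b : Module.Basis ι A B) (p : Ideal A) (x : B)
    (hx : x ∈ p.map (algebraMap A B)) (i : ι) : b.repr x i ∈ p := by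
  revert i
  refine Submodule.span_induction (p := fun x _ => ∀ i, b.repr x i ∈ p) ?_ ?_ ?_ ?_ hx
  · rintro _ ⟨a, ha, rfl⟩ i
    rw [Algebra.algebraMap_eq_smul_one, map_smul, Finsupp.smul_apply, smul_eq_mul]
    exact p.mul_mem_right _ ha
  · intro i; simp
  · intro x y _ _ hx hy i
    rw [map_add, Finsupp.add_apply]
    exact p.add_mem (hx i) (hy i)
  · intro β x _ hx i
    have h1 : β • x = ∑ j, b.repr x j • (β * b j) := by
      conv_lhs => rw [← b.sum_repr x]
      rw [Finset.smul_sum]
      refine Finset.sum_congr rfl (fun j _ => ?_)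
      rw [smul_eq_mul, mul_smul_comm]
    rw [h1, map_sum, Finsupp.coe_finsetSum, Finset.sum_apply]
    refine p.sum_mem (fun j _ => ?_)
    rw [map_smul, Finsupp.smul_apply, smul_eq_mul]
    exact p.mul_mem_right _ (hx j)


lemma exists_psi [Module.Invertible B (Disc.Omega A B)] (b : Module.Basis ι A B) (p : Ideal A)
    [hp : p.IsMaximal] : ∃ ψ : Disc.Omega A B →ₗ[B] B, (psiMat b ψ).det ∉ p := by
  set I : Ideal B := p.map (algebraMap A B) with hI
  haveI : Module.Finite A B := Module.Finite.of_basis b
  haveI : Module.Finite A (B ⧸ I) :=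
    Module.Finite.of_surjective (Ideal.Quotient.mkₐ A I).toLinearMap
      (Ideal.Quotient.mkₐ_surjective A I)
  haveI : Module.Finite (A ⧸ p) (B ⧸ I) := Module.Finite.of_restrictScalars_finite A (A ⧸ p) (B ⧸ I)
  letI : Field (A ⧸ p) := Ideal.Quotient.field p
  haveI : IsArtinianRing (B ⧸ I) := IsArtinianRing.of_finite (A ⧸ p) (B ⧸ I)
  haveI hfree : Module.Free (B ⧸ I) ((B ⧸ I) ⊗[B] Disc.Omega A B) := inferInstance
  obtain ⟨ε⟩ := Module.Invertible.free_iff_linearEquiv.1 hfree
  let g : Disc.Omega A B →ₗ[B] (B ⧸ I) :=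
    (ε.toLinearMap.restrictScalars B) ∘ₗ (TensorProduct.mk B (B ⧸ I) (Disc.Omega A B) 1)
  have hg : Function.Surjective g := by
    have h1 : Function.Surjective (TensorProduct.mk B (B ⧸ I) (Disc.Omega A B) 1) :=
      TensorProduct.mk_surjective B (Disc.Omega A B) (B ⧸ I) Ideal.Quotient.mk_surjective
    exact ε.surjective.comp h1
  obtain ⟨ψ, hψ⟩ := Module.projective_lifting_property (Ideal.Quotient.mkₐ B I).toLinearMap g
    (Ideal.Quotient.mkₐ_surjective B I)
  refine ⟨ψ, ?_⟩
  have hw : ∀ i, ∃ w : Disc.Omega A B, b i - ψ w ∈ I := by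
    intro i
    obtain ⟨w, hw⟩ := hg (Ideal.Quotient.mk I (b i))
    refine ⟨w, ?_⟩
    rw [← Ideal.Quotient.eq]
    rw [← hw, ← hψ]
    rfl
  choose w hw using hw
  let W : Matrix ι ι A := fun j i => (w i).toLinearMap (b j)
  have hmem : ∀ l i, ((1 : Matrix ι ι A) - psiMat b ψ * W) l i ∈ p := by
    intro l i
    have h1 := repr_mem_of_mem_map b p _ (hw i) l
    rw [map_sub, Finsupp.sub_apply, repr_psi, Module.Basis.repr_self, Finsupp.single_apply] at h1
    rw [Matrix.sub_apply, Matrix.mul_apply, Matrix.one_apply]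
    convert h1 using 2
    simp only [eq_comm]
  intro hdet
  have h2 : (Ideal.Quotient.mk p).mapMatrix (psiMat b ψ * W) = 1 := by
    ext l i
    have := hmem l i
    rw [← Ideal.Quotient.eq_zero_iff_mem, Matrix.sub_apply, map_sub, sub_eq_zero] at this
    rw [RingHom.mapMatrix_apply, Matrix.map_apply, ← this, Matrix.one_apply, Matrix.one_apply]
    split_ifs <;> simp
  have h3 := congrArg Matrix.det h2
  rw [← RingHom.map_det, Matrix.det_mul, map_mul, Matrix.det_one,
    Ideal.Quotient.eq_zero_iff_mem.2 hdet, zero_mul] at h3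
  exact zero_ne_one h3



/-- Part (2), special case: affine with B finite free over the Noetherian ring A (basis b) and omega =
Hom_A(B, A) an invertible B-module. Then the ideal of A generated by the norms of all elements of
the different of B over A equals the ideal generated by the discriminant of the basis b (the norm of
the ramification locus is the discriminant). -/
theorem result {A B : Type u} [CommRing A] [CommRing B]
    [Algebra A B] [IsNoetherianRing A] {ι : Type} [Fintype ι] [DecidableEq ι]
    (b : Module.Basis ι A B) [Module.Invertible B (Disc.Omega A B)] :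
    Ideal.span (Algebra.norm A '' Disc.differentSet A B) = Ideal.span {Algebra.discr A b} := by
  apply le_antisymm
  · rw [Ideal.span_le]
    rintro _ ⟨x, hx, rfl⟩
    exact Groth.Agent.S2216.result b x hx
  · rw [Ideal.span_le, Set.singleton_subset_iff]
    set J := Ideal.span (Algebra.norm A '' Disc.differentSet A B) with hJ
    by_contra hd
    have hK : J.colon {Algebra.discr A b} ≠ ⊤ := by
      intro h
      have h1 : (1 : A) ∈ J.colon {Algebra.discr A b} := by rw [h]; trivial
      rw [Submodule.mem_colon_singleton] at h1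
      exact hd (by simpa using h1)
    obtain ⟨M, hM, hKM⟩ := Ideal.exists_le_maximal _ hK
    obtain ⟨ψ, hψ⟩ := exists_psi b M
    apply hψ
    apply hKM
    rw [Submodule.mem_colon_singleton, smul_eq_mul, ← norm_eq]
    exact Ideal.subset_span ⟨_, psi_tau_mem ψ, rfl⟩

end Groth.Agent.S2229
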