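import Groth.Statements.S2237
import Groth.Agent.Lib.Helper13SyntD
-- import your own Groth.Agent.* helpers here

set_option autoImplicit false
set_option linter.style.haveILetI false
universe u
attribute [local instance] HasDerivedCategory.standard
open LCI

namespace Groth.Agent.S2237

/-- Implication (2) to (5), affine form: let A -> B be flat, quasi-finite and a local complete
intersection homomorphism (finite type with a Koszul-regular presentation). Then for every prime q
of B there are g in B outside q, a natural number n and polynomials f_1, ..., f_n in A[x_1, ...,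
x_n] such that B_g is isomorphic as an A-algebra to A[x_1, ..., x_n]/(f_1, ..., f_n). -/
theorem result {A B : Type u} [CommRing A]
    [CommRing B] [Algebra A B] [Module.Flat A B] [Algebra.QuasiFinite A B] (hlci : LCI.IsLCI A B)
    (q : Ideal B) [q.IsPrime] :
    ∃ g : B, g ∉ q ∧ ∃ (n : ℕ) (f : Fin n → MvPolynomial (Fin n) A),
      Nonempty (Localization.Away g ≃ₐ[A]
        (MvPolynomial (Fin n) A ⧸ Ideal.span (Set.range f))) := by
  have hsynt : Synt.IsSyntomic A B :=
    Groth.Agent.Helper13Synt.isSyntomic_of_flat_of_isLCI A B inferInstance hlci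
  -- the prime of the fibre over `q`
  let pp : PrimeSpectrum A := ⟨q.under A, inferInstance⟩
  let qq : (PrimeSpectrum.comap (algebraMap A B)) ⁻¹' {pp} := ⟨⟨q, inferInstance⟩, rfl⟩
  let Q := PrimeSpectrum.preimageEquivFiber A B pp qq
  have hQ : Q.asIdeal.comap (Algebra.TensorProduct.includeRight.toRingHom) = q := by
    have := (PrimeSpectrum.preimageEquivFiber A B pp).symm_apply_apply qq
    exact congrArg (fun z => z.1.asIdeal) this
  have h1 : ∃ g : B, g ∉ q ∧ Synt.IsSyntomic A (Localization.Away g) := by
    refine ⟨1, fun h1 => (inferInstance : q.IsPrime).ne_top ((Ideal.eq_top_iff_one _).mpr h1), ?_⟩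
    let e : B ≃ₐ[B] Localization.Away (1 : B) :=
      IsLocalization.atUnits _ (Submonoid.powers 1) (by
        rintro _ ⟨k, rfl⟩
        show IsUnit ((1 : B) ^ k)
        exact isUnit_one.pow k)
    exact Groth.Agent.Lib.Helper7.Synt.isSyntomic_of_algEquiv (e.restrictScalars A) hsynt
  obtain ⟨g, hg, n, c, F, hF, ⟨e⟩⟩ :=
    (Groth.Agent.S9169.result A B (q.under A) q Q.asIdeal hQ).1.mp h1
  refine ⟨g, hg, ?_⟩
  -- the fibre of `B_g` over `q ∩ A` is nontrivial and of dimension zero
  haveI : Algebra.QuasiFinite A (Synt.RelGCIRing A n c F) :=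
    Algebra.QuasiFinite.of_surjective_algHom (e : Localization.Away g →ₐ[A] _) e.surjective
  have hnt : Nontrivial ((q.under A).Fiber (Synt.RelGCIRing A n c F)) := by
    -- a prime of `B_g` over `q ∩ A`
    haveI hq' : (q.map (algebraMap B (Localization.Away g))).IsPrime :=
      Groth.Agent.Lib.Helper7.Synt.isPrime_map_away q g hg
    have hcomap : (q.map (algebraMap B (Localization.Away g))).comap
        (algebraMap B (Localization.Away g)) = q :=
      Groth.Agent.Lib.Helper7.Synt.comap_map_away q g hg
    let q₁ : Ideal (Synt.RelGCIRing A n c F) :=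
      (q.map (algebraMap B (Localization.Away g))).comap (e.symm : Synt.RelGCIRing A n c F →+* Localization.Away g)
    haveI : q₁.IsPrime := Ideal.comap_isPrime _ _
    have hq₁ : q₁.comap (algebraMap A (Synt.RelGCIRing A n c F)) = q.under A := by
      show ((q.map (algebraMap B (Localization.Away g))).comap
        (e.symm : Synt.RelGCIRing A n c F →+* Localization.Away g)).comap (algebraMap A _) = _
      rw [Ideal.comap_comap]
      have : ((e.symm : Synt.RelGCIRing A n c F →+* Localization.Away g)).comp
          (algebraMap A (Synt.RelGCIRing A n c F)) = algebraMap A (Localization.Away g) :=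
        RingHom.ext fun a => e.symm.commutes a
      rw [this, IsScalarTower.algebraMap_eq A B (Localization.Away g), ← Ideal.comap_comap, hcomap]
    let pp' : PrimeSpectrum A := ⟨q.under A, inferInstance⟩
    let qq' : (PrimeSpectrum.comap (algebraMap A (Synt.RelGCIRing A n c F))) ⁻¹' {pp'} :=
      ⟨⟨q₁, inferInstance⟩, PrimeSpectrum.ext hq₁⟩
    let Q' := PrimeSpectrum.preimageEquivFiber A (Synt.RelGCIRing A n c F) pp' qq'
    exact Q'.nontrivial
  obtain ⟨hcn, hdim⟩ := hF ⟨q.under A, inferInstance⟩ hnt
  haveI hart : IsArtinianRing ((q.under A).Fiber (Synt.RelGCIRing A n c F)) := inferInstance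
  haveI hk0 : Ring.KrullDimLE 0 ((q.under A).Fiber (Synt.RelGCIRing A n c F)) :=
    ((isArtinianRing_iff_isNoetherianRing_krullDimLE_zero
      (R := (q.under A).Fiber (Synt.RelGCIRing A n c F))).mp hart).2
  have hzero : ringKrullDim ((q.under A).Fiber (Synt.RelGCIRing A n c F)) = 0 :=
    (ringKrullDimZero_iff_ringKrullDim_eq_zero).mp hk0
  have hnc : n = c := by
    have h0 : ((n - c : ℕ) : WithBot ℕ∞) = 0 := by
      rw [← hdim]
      exact hzero
    have h1 : n - c = 0 := by exact_mod_cast h0
    omega
  subst hnc
  exact ⟨n, F, ⟨e⟩⟩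

end Groth.Agent.S2237
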