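import Groth.Statements.S3568
import Mathlib

set_option autoImplicit false
universe u
open CategoryTheory CategoryTheory.Limits AlgebraicGeometry
open EGA2

namespace Groth.Agent.S3568


open IsLocalRing in
/-- if `ℓ : Spec W → U` restricts on the generic point to the generic point of `U`, then the
local ring of `U` at the image of the closed point lies in `W`. -/
lemma range_le_of_lift {U : Scheme.{u}} [IsIntegral U] (W : ValuationSubring U.functionField)
    (ℓ : Spec (CommRingCat.of W) ⟶ U)
    (hℓ : Spec.map (CommRingCat.ofHom (algebraMap W U.functionField)) ≫ ℓ =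
      U.fromSpecStalk (genericPoint U))
    (b : U.presheaf.stalk (ℓ (closedPoint W))) :
    (U.presheaf.stalkSpecializes (genericPoint_specializes (ℓ (closedPoint W))) b :
      U.functionField) ∈ W := by
  let φ := Scheme.stalkClosedPointTo ℓ
  have h1 : Spec.map φ ≫ U.fromSpecStalk _ = ℓ := Scheme.Spec_stalkClosedPointTo_fromSpecStalk ℓ
  have h2 : Spec.map (U.presheaf.stalkSpecializes (genericPoint_specializes (ℓ (closedPoint W)))) ≫
      U.fromSpecStalk (ℓ (closedPoint W)) = U.fromSpecStalk (genericPoint U) :=
    Scheme.SpecMap_stalkSpecializes_fromSpecStalk _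
  have h3 : Spec.map (φ ≫ CommRingCat.ofHom (algebraMap W U.functionField)) ≫
      U.fromSpecStalk (ℓ (closedPoint W)) = U.fromSpecStalk (genericPoint U) := by
    rw [Spec.map_comp, Category.assoc, h1, hℓ]
  have h4 : Spec.map (φ ≫ CommRingCat.ofHom (algebraMap W U.functionField)) =
      Spec.map (U.presheaf.stalkSpecializes (genericPoint_specializes (ℓ (closedPoint W)))) := by
    rw [← cancel_mono (U.fromSpecStalk (ℓ (closedPoint W))), h3, h2]
  have h5 := Spec.map_injective h4
  have h6 := congr($h5 b)
  rw [← h6]
  exact (φ b).2

/-- the map of function fields induced by a morphism sending generic point to generic point -/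
noncomputable def θ {U V : Scheme.{u}} [IsIntegral U] [IsIntegral V] (h : U ⟶ V)
    (hgen : h (genericPoint U) = genericPoint V) : V.functionField →+* U.functionField :=
  (V.presheaf.stalkSpecializes (specializes_of_eq hgen) ≫ h.stalkMap (genericPoint U)).hom

lemma θ_comp {U V : Scheme.{u}} [IsIntegral U] [IsIntegral V] (h : U ⟶ V)
    (hgen : h (genericPoint U) = genericPoint V) (u : U) (s : V.presheaf.stalk (h u)) :
    θ h hgen (V.presheaf.stalkSpecializes (genericPoint_specializes (h u)) s) =
      U.presheaf.stalkSpecializes (genericPoint_specializes u) (h.stalkMap u s) := by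
  have h1 := Scheme.Hom.stalkSpecializes_stalkMap h (genericPoint U) u (genericPoint_specializes u)
  have h2 := V.presheaf.stalkSpecializes_comp (specializes_of_eq hgen)
    (genericPoint_specializes (h u))
  have h3 : V.presheaf.stalkSpecializes (genericPoint_specializes (h u)) ≫
      V.presheaf.stalkSpecializes (specializes_of_eq hgen) ≫ h.stalkMap (genericPoint U) =
      h.stalkMap u ≫ U.presheaf.stalkSpecializes (genericPoint_specializes u) := by
    rw [← Category.assoc, h2, ← h1]
  exact congr($h3 s)

open IsLocalRing in
lemma stalk_surjective {U V : Scheme.{u}} [IsIntegral U] [IsIntegral V]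
    (hN : Pi1.IsNormalScheme V) (h : U ⟶ V)
    (hex : ValuativeCriterion.Existence h) (hinjh : Function.Injective h)
    (hgen : h (genericPoint U) = genericPoint V)
    (hθ : Function.Surjective (θ h hgen)) (u : U) :
    Function.Surjective (h.stalkMap u) := by
  classical
  by_contra hns
  rw [Function.Surjective] at hns
  push Not at hns
  obtain ⟨b, hb⟩ := hns
  set ιu := U.presheaf.stalkSpecializes (genericPoint_specializes u) with hιu
  set ιv := V.presheaf.stalkSpecializes (genericPoint_specializes (h u)) with hιv
  have hιu_inj : Function.Injective ιu :=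
    IsFractionRing.injective (U.presheaf.stalk u) U.functionField
  have hιv_inj : Function.Injective ιv :=
    IsFractionRing.injective (V.presheaf.stalk (h u)) V.functionField
  have hθ_inj : Function.Injective (θ h hgen) := RingHom.injective _
  let β : V.presheaf.stalk (h u) →+* U.functionField := (θ h hgen).comp ιv.hom
  have hβ : ∀ s, β s = ιu (h.stalkMap u s) := θ_comp h hgen u
  have hβ_inj : Function.Injective β := hθ_inj.comp hιv_inj
  have hRloc : IsLocalRing β.range :=
    IsLocalRing.of_surjective' β.rangeRestrict β.rangeRestrict_surjective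
  have hkR : (ιu b : U.functionField) ∉ β.range := by
    rintro ⟨s, hs⟩
    rw [hβ] at hs
    exact hb s (hιu_inj hs)
  have hIC : IsIntegrallyClosedIn β.range U.functionField := by
    rw [Subring.isIntegrallyClosedIn_iff]
    intro x hx
    obtain ⟨p, hp, hpx⟩ := hx
    -- lift p to a monic polynomial over the stalk
    have hsurj : Function.Surjective β.rangeRestrict := β.rangeRestrict_surjective
    have hlift : p ∈ Polynomial.lifts β.rangeRestrict := by
      rw [Polynomial.mem_lifts]
      exact Polynomial.map_surjective _ hsurj p
    obtain ⟨q, hq, -, hqm⟩ := Polynomial.lifts_and_degree_eq_and_monic hlift hp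
    obtain ⟨y, rfl⟩ := hθ x
    have h1 : Polynomial.eval₂ β (θ h hgen y) q = 0 := by
      rw [← hpx, ← hq, Polynomial.eval₂_map]
      rfl
    have h2 : θ h hgen (Polynomial.eval₂ ιv.hom y q) = 0 := by
      rw [Polynomial.hom_eval₂]
      exact h1
    have h3 : Polynomial.eval₂ ιv.hom y q = 0 := hθ_inj (h2.trans (map_zero _).symm)
    have h4 : IsIntegral (V.presheaf.stalk (h u)) y := ⟨q, hqm, h3⟩
    have := (hN (h u)).2
    obtain ⟨s, hs⟩ := IsIntegrallyClosed.algebraMap_eq_of_integral h4
    exact ⟨s, congrArg (θ h hgen) hs⟩
  obtain ⟨W, hRW, hkW⟩ := LocalSubring.exists_le_valuationSubring_of_isIntegrallyClosedIn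
    (R := ⟨β.range⟩) hkR
  obtain ⟨hle, hloc⟩ := hRW
  have hle' : ∀ s, β s ∈ W := fun s => hle ⟨s, rfl⟩
  let ψ : V.presheaf.stalk (h u) →+* W := β.codRestrict W hle'
  have hψloc : IsLocalHom ψ := by
    constructor
    intro s hs
    obtain ⟨w, hw⟩ := hs.exists_right_inv
    have h1 : IsUnit (Subring.inclusion hle ⟨β s, ⟨s, rfl⟩⟩) := by
      refine IsUnit.of_mul_eq_one ⟨w.1, w.2⟩ ?_
      apply Subtype.ext
      exact congrArg Subtype.val hw
    have h2 := hloc.map_nonunit _ h1
    obtain ⟨y, hy⟩ := h2.exists_right_inv
    obtain ⟨y', hy'⟩ := y.2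
    have h3 : β (s * y') = β 1 := by
      rw [map_mul, hy', map_one]
      exact congrArg Subtype.val hy
    exact IsUnit.of_mul_eq_one y' (hβ_inj h3)
  have hψβ : CommRingCat.ofHom ψ ≫ CommRingCat.ofHom (algebraMap W U.functionField) =
      ιv ≫ V.presheaf.stalkSpecializes (specializes_of_eq hgen) ≫
        h.stalkMap (genericPoint U) := by
    ext s
    rfl
  have hw : U.fromSpecStalk (genericPoint U) ≫ h =
      Spec.map (CommRingCat.ofHom (algebraMap W U.functionField)) ≫
        (Spec.map (CommRingCat.ofHom ψ) ≫ V.fromSpecStalk (h u)) := by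
    rw [← Category.assoc, ← Spec.map_comp, hψβ, Spec.map_comp, Spec.map_comp, Category.assoc,
      Category.assoc, Scheme.SpecMap_stalkSpecializes_fromSpecStalk,
      Scheme.SpecMap_stalkSpecializes_fromSpecStalk, Scheme.SpecMap_stalkMap_fromSpecStalk]
  let Sq : ValuativeCommSq h :=
    { R := W
      K := U.functionField
      i₁ := U.fromSpecStalk (genericPoint U)
      i₂ := Spec.map (CommRingCat.ofHom ψ) ≫ V.fromSpecStalk (h u)
      commSq := ⟨hw⟩ }
  obtain ⟨⟨ℓ, hℓ1, hℓ2⟩⟩ := hex Sq
  let w₀ : Spec (CommRingCat.of W) := closedPoint W
  have hℓu : ℓ w₀ = u := by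
    apply hinjh
    have h1 : h (ℓ w₀) =
        V.fromSpecStalk (h u) (Spec.map (CommRingCat.ofHom ψ) w₀) := congr($hℓ2 w₀)
    have h2 : Spec.map (CommRingCat.ofHom ψ) w₀ =
        closedPoint (V.presheaf.stalk (h u)) := IsLocalRing.comap_closedPoint ψ
    rw [h1, h2, Scheme.fromSpecStalk_closedPoint]
  have key := range_le_of_lift W ℓ hℓ1
  have key' : ∀ b' : U.presheaf.stalk u,
      (U.presheaf.stalkSpecializes (genericPoint_specializes u) b' : U.functionField) ∈ W := by
    rw [← hℓu]
    exact key
  exact hkW (key' b)



/-- Let U be an integral scheme, V a normal integral scheme (all local rings integrally closed domains)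
and h : U → V a morphism which is universally closed, radicial (universally injective) and
birational (it sends the generic point of U to that of V and induces an isomorphism of the residue
fields there). Then h is an isomorphism. (The source assumes only V normal; integrality of V, needed
here to speak of its generic point, follows from the other hypotheses.) -/
theorem result {U V : Scheme.{u}} [AlgebraicGeometry.IsIntegral U] [AlgebraicGeometry.IsIntegral V]
    (hN : Pi1.IsNormalScheme V) (h : U ⟶ V) [UniversallyClosed h]
    [UniversallyInjective h] (hgen : h.base (genericPoint U) = genericPoint V)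
    (hbir : Function.Bijective (h.residueFieldMap (genericPoint U)).hom) :
    IsIso h := by
  have hgen' : h (genericPoint U) = genericPoint V := hgen
  have hex : ValuativeCriterion.Existence h := by
    have : (ValuativeCriterion.Existence ⊓ @QuasiCompact) h := by
      rw [← UniversallyClosed.eq_valuativeCriterion]; infer_instance
    exact this.1
  have hinjh : Function.Injective h := h.injective
  have hθ : Function.Surjective (θ h hgen') := by
    intro k
    obtain ⟨r', hr'⟩ := hbir.surjective (U.residue (genericPoint U) k)
    obtain ⟨s, rfl⟩ := IsLocalRing.residue_surjective r'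
    have h1 : U.residue (genericPoint U) (h.stalkMap (genericPoint U) s) =
        U.residue (genericPoint U) k := by
      rw [← hr']
      have := Scheme.residue_residueFieldMap h (genericPoint U)
      exact (congr($(this) s)).symm
    have h2 : h.stalkMap (genericPoint U) s = k :=
      RingHom.injective (U.residue (genericPoint U)).hom h1
    refine ⟨V.presheaf.stalkSpecializes (specializes_of_eq hgen'.symm) s, ?_⟩
    have h3 := V.presheaf.stalkSpecializes_comp (specializes_of_eq hgen')
      (specializes_of_eq hgen'.symm)
    have h4 : V.presheaf.stalkSpecializes (specializes_of_eq hgen')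
        (V.presheaf.stalkSpecializes (specializes_of_eq hgen'.symm) s) = s := by
      have h5 := congr($h3 s)
      rw [TopCat.Presheaf.stalkSpecializes_refl] at h5
      exact h5
    change h.stalkMap (genericPoint U) (V.presheaf.stalkSpecializes (specializes_of_eq hgen')
        (V.presheaf.stalkSpecializes (specializes_of_eq hgen'.symm) s)) = k
    rw [h4, h2]
  have hbij : ∀ u : U, Function.Bijective (h.stalkMap u) := by
    intro u
    refine ⟨?_, stalk_surjective hN h hex hinjh hgen' hθ u⟩
    intro s s' hss'
    have h1 := θ_comp h hgen' u s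
    have h2 := θ_comp h hgen' u s'
    rw [hss', ← h2] at h1
    exact IsFractionRing.injective (V.presheaf.stalk (h u)) V.functionField
      (RingHom.injective (θ h hgen') h1)
  have hcl : IsClosedMap h := h.isClosedMap
  have hsurjh : Function.Surjective h := by
    intro y
    have h1 : IsClosed (Set.range h) := hcl.isClosed_range
    have hξ : genericPoint V ∈ Set.range h := ⟨_, hgen'⟩
    have h2 : closure {genericPoint V} ⊆ Set.range h :=
      closure_minimal (Set.singleton_subset_iff.mpr hξ) h1
    rw [(genericPoint_spec V).def] at h2
    exact h2 (Set.mem_univ y)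
  rw [isIso_iff_isIso_stalkMap]
  refine ⟨TopCat.isIso_of_bijective_of_isClosedMap _ ⟨hinjh, hsurjh⟩ hcl, fun z => ?_⟩
  exact (ConcreteCategory.isIso_iff_bijective _).mpr (hbij z)

end Groth.Agent.S3568
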