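import Groth.Statements.S2326
import Mathlib
import Groth.Agent.Lib.Helper23IdealSec
-- import your own Groth.Agent.* helpers here

set_option autoImplicit false
universe u
open CategoryTheory CategoryTheory.Limits AlgebraicGeometry
open EGA2

namespace Groth.Agent.S2326
open TopologicalSpace Opposite
open Groth.Agent.Lib.Helper23.SecTw Groth.Agent.Lib.Helper23.GenLocus Groth.Agent.Lib.Helper6
open Groth.Agent.Lib.Helper23.TensorMap Groth.Agent.Lib.Helper23.IdealSec

open Groth.Agent.Lib.Helper23.SecTw Groth.Agent.Lib.Helper23.GenLocus Groth.Agent.Lib.Helper6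
open Groth.Agent.Lib.Helper23.TensorMap Groth.Agent.Lib.Helper23.IdealSec

/-- Let X be a quasi-compact separated scheme (the source also allows a prescheme with Noetherian
underlying space) and L an invertible module. Suppose that for every quasi-coherent ideal sheaf I of
finite type there are n > 0 and k > 0 with I ⊗ L^{⊗n} a quotient of O_X^k. Then L is ample. -/
theorem result (X : Scheme.{u}) [CompactSpace X] [X.IsSeparated] (L : X.Modules) (hL : PicF.IsInvertible L)
    (h : ∀ I : X.IdealSheafData, BlowUp.IsFiniteTypeIdeal I →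
      ∃ (n k : ℕ) (p : FlatMod.freeMod X k ⟶ CohB1.tensorMod (ClSub.idealMod I) (CohB1.tensorPow L (n + 1))), 0 < k ∧ Epi p) :
    CohB1.IsAmple L := by
  refine ⟨hL, inferInstance, fun x => ?_⟩
  obtain ⟨U, hU, hxU, -⟩ := Opens.isBasis_iff_nbhd.1 X.isBasis_affineOpens (show x ∈ (⊤ : X.Opens) from trivial)
  -- the vanishing ideal of the complement of `U`
  let Z : Closeds X := ⟨(U : Set X)ᶜ, U.2.isClosed_compl⟩
  have h1 : (1 : Γ(X, U)) ∈ (Scheme.IdealSheafData.vanishingIdeal Z).ideal ⟨U, hU⟩ := by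
    rw [Scheme.IdealSheafData.vanishingIdeal_ideal, PrimeSpectrum.mem_vanishingIdeal]
    intro q hq
    exfalso
    have hU' : IsAffineOpen U := hU
    have hr : Set.range (IsAffineOpen.fromSpec (U := U) hU') = (U : Set X) := hU'.range_fromSpec
    have hq' : (IsAffineOpen.fromSpec (U := U) hU') q ∈ (U : Set X) := by
      rw [← hr]
      exact Set.mem_range_self q
    exact hq hq'
  obtain ⟨J, hJle, hJft, hJ1⟩ := Groth.Agent.Lib.Helper22.FTIdeal.exists_ft_le_mem
    (Scheme.IdealSheafData.vanishingIdeal Z) ⟨U, hU⟩ 1 h1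
  have hJU : J.ideal ⟨U, hU⟩ = ⊤ := (Ideal.eq_top_iff_one _).2 hJ1
  have hsupp : ∀ y, y ∉ U → y ∈ J.support := by
    intro y hy
    have h2 : (Scheme.IdealSheafData.vanishingIdeal Z).support ≤ J.support :=
      Scheme.IdealSheafData.support_antitone hJle
    apply h2
    have h3 : ((Scheme.IdealSheafData.vanishingIdeal Z).support : Set X) = Z :=
      Scheme.IdealSheafData.coe_support_vanishingIdeal Z
    change y ∈ ((Scheme.IdealSheafData.vanishingIdeal Z).support : Set X)
    rw [h3]
    exact hy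
  obtain ⟨n, k, p, -, hp⟩ := h J hJft
  have hL' : PicF.IsInvertible (CohB1.tensorPow L (n + 1)) := isInvertible_tensorPow hL (n + 1)
  obtain ⟨σ, hσ⟩ := exists_section_mem_genLocus J _ hL' ⟨U, hU⟩ hJU p x hxU
  have hle := genLocus_comp_mulHom_le J _ hL' U hsupp σ
  refine ⟨n, σ ≫ mulHom (ClSub.idealModι J) _, hσ, ?_⟩
  have h4 := isAffineOpen_inf_genLocus _ hL' (σ ≫ mulHom (ClSub.idealModι J) _) U hU
  rwa [inf_eq_right.2 hle] at h4

end Groth.Agent.S2326
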