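import Groth.Statements.S2334
import Groth.Agent.Lib.Helper4DVRSep

set_option autoImplicit false
universe u
open CategoryTheory CategoryTheory.Limits AlgebraicGeometry
open EGA2

namespace Groth.Agent.S2334

/-- Locally Noetherian case of the valuative criterion of separatedness: let Y be a locally Noetherian
scheme and f : X → Y locally of finite type. Then f is separated if and only if for every discrete
valuation ring A with fraction field K, any two morphisms Spec A → X with the same composite to Y
which agree on Spec K are equal. (In the general criterion the diagonal must be assumed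
quasi-compact; that is automatic here.) -/
theorem result {X Y : Scheme.{u}} [IsLocallyNoetherian Y] (f : X ⟶ Y) [LocallyOfFiniteType f] :
    IsSeparated f ↔ ∀ (A : Type u) [CommRing A] [IsDomain A] [IsDiscreteValuationRing A] (g₁ g₂ : (Spec (CommRingCat.of A)) ⟶ X),
      g₁ ≫ f = g₂ ≫ f → (Spec.map (CommRingCat.ofHom (algebraMap A (FractionRing A)))) ≫ g₁ = (Spec.map (CommRingCat.ofHom (algebraMap A (FractionRing A)))) ≫ g₂ → g₁ = g₂ := by
  constructor
  · intro hsep A _ _ _ g₁ g₂ h1 h2
    have hU := IsSeparated.valuativeCriterion f
    let S : ValuativeCommSq f :=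
      { R := A
        K := FractionRing A
        i₁ := Spec.map (CommRingCat.ofHom (algebraMap A (FractionRing A))) ≫ g₁
        i₂ := g₁ ≫ f
        commSq := ⟨by simp⟩ }
    have := hU S
    let l₁ : S.commSq.LiftStruct := ⟨g₁, rfl, rfl⟩
    let l₂ : S.commSq.LiftStruct := ⟨g₂, h2.symm, h1.symm⟩
    exact congrArg CommSq.LiftStruct.l (Subsingleton.elim l₁ l₂)
  · intro H
    refine Groth.Agent.Lib.Helper4.DVRSep.isSeparated_of_dvr_uniqueness f fun x =>
      ⟨x, specializes_rfl, X.residueField x, inferInstance, 𝟙 _, ?_, ?_⟩
    · exact (RingHom.FiniteType.id _).essFiniteType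
    · intro V hV g₁ g₂ h1 h2 h3
      have := hV
      apply H V g₁ g₂ h1
      let e : FractionRing V ≃ₐ[V] X.residueField x := FractionRing.algEquiv V _
      have he : algebraMap V (FractionRing V) =
          (e.symm : X.residueField x →+* FractionRing V).comp V.subtype := by
        ext a
        exact (e.symm.commutes a).symm
      rw [he, CommRingCat.ofHom_comp, Spec.map_comp, Category.assoc, Category.assoc, h2, h3]

end Groth.Agent.S2334
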