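import Groth.Statements.S2336
import Mathlib
import Groth.Agent.Lib.Helper23TensorUnit
import Groth.Agent.Lib.Helper23Serre
-- import your own Groth.Agent.* helpers here

set_option autoImplicit false
universe u
open CategoryTheory CategoryTheory.Limits AlgebraicGeometry
open EGA2

namespace Groth.Agent.S2336


open TopologicalSpace Opposite Groth.Agent.Lib.Helper23.Serre Groth.Agent.Lib.Helper23.GenLocus
  Groth.Agent.Lib.Helper23.TensorUnit

/-- Let X be a quasi-compact separated scheme (the source also allows a prescheme with Noetherian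
underlying space). Then X is quasi-affine if and only if O_X is an ample invertible module. -/
theorem result (X : Scheme.{u}) [CompactSpace X] [X.IsSeparated] :
    X.IsQuasiAffine ↔ CohB1.IsAmple (Coh.structureModule X) := by
  constructor
  · intro hX
    refine ⟨isInvertible_structureModule X, inferInstance, ?_⟩
    intro x
    obtain ⟨_, ⟨_, ⟨f, hf, rfl⟩, rfl⟩, hxf, -⟩ :=
      (Scheme.IsQuasiAffine.isBasis_basicOpen X).exists_subset_of_mem_open (Set.mem_univ x) isOpen_univ
    let e := tensorPowUnitIso (X := X) 1
    refine ⟨0, mulBy f ≫ e.inv, ?_⟩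
    have h1 : CohB1.genLocus _ (mulBy f ≫ e.inv) = X.basicOpen f := by
      rw [genLocus_eq_basicOpen _ e]
      have h2 : (mulBy f ≫ e.inv) ≫ e.hom = mulBy f := by
        rw [Category.assoc, Iso.inv_hom_id, Category.comp_id]
      rw [h2, endFun_mulBy, resF_top]
    rw [h1]
    exact ⟨hxf, hf⟩
  · rintro ⟨-, -, h⟩
    apply Scheme.IsQuasiAffine.of_forall_exists_mem_basicOpen
    intro x
    obtain ⟨n, s, hxs, haff⟩ := h x
    let e := tensorPowUnitIso (X := X) (n + 1)
    rw [genLocus_eq_basicOpen _ e] at hxs haff
    exact ⟨_, haff, hxs⟩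

end Groth.Agent.S2336
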