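import Groth.Statements.S2337
import Mathlib
import Groth.Agent.Lib.Helper23AmpleIso
-- import your own Groth.Agent.* helpers here

set_option autoImplicit false
universe u
open CategoryTheory CategoryTheory.Limits AlgebraicGeometry
open EGA2

namespace Groth.Agent.S2337


open TopologicalSpace Opposite Groth.Agent.Lib.Helper23.AmpleIso

/-- Let f : X → Y be quasi-compact. Then f is quasi-affine (preimages of affine opens are quasi-affine)
if and only if O_X is ample relative to f. -/
theorem result {X Y : Scheme.{u}} (f : X ⟶ Y) [QuasiCompact f] :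
    Mor2.IsQuasiAffine f ↔ RelAmple.IsRelAmple f (Coh.structureModule X) := by
  have key : ∀ W : X.Opens, Scheme.IsQuasiAffine (W : Scheme.{u}) ↔
      CohB1.IsAmple ((Coh.structureModule X).restrict W.ι) := by
    intro W
    rw [isQuasiAffine_iff_isAmple_structureModule]
    exact (isAmple_iff_of_iso (Scheme.Modules.restrictUnitIso W.ι)).symm
  constructor
  · rintro ⟨h1, h2⟩
    exact ⟨h1, fun V => (key _).1 (h2 V.1 V.2)⟩
  · rintro ⟨h1, h2⟩
    exact ⟨h1, fun V hV => (key _).2 (h2 ⟨V, hV⟩)⟩

end Groth.Agent.S2337
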