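import Groth.Statements.S2338
import Mathlib
import Groth.Agent.Lib.Helper12QuasiAffineLocal

set_option autoImplicit false
universe u
open CategoryTheory CategoryTheory.Limits AlgebraicGeometry
open EGA2

namespace Groth.Agent.S2338


open Groth.Agent.Lib.Helper12 in


/-- The composite of two quasi-affine morphisms is quasi-affine. -/
theorem result {X Y Z : Scheme.{u}} (f : X ⟶ Y) (g : Y ⟶ Z) (hf : Mor2.IsQuasiAffine f) (hg : Mor2.IsQuasiAffine g) :
    Mor2.IsQuasiAffine (f ≫ g) := by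
  obtain ⟨hfqc, hfqa⟩ := hf
  obtain ⟨hgqc, hgqa⟩ := hg
  refine ⟨inferInstance, fun V hV => ?_⟩
  have hWc : IsCompact (((f ≫ g) ⁻¹ᵁ V : X.Opens) : Set X) :=
    (f ≫ g).isCompact_preimage hV.isCompact
  set T := g ⁻¹ᵁ V with hT
  have hTqa := hgqa V hV
  change (f ⁻¹ᵁ T : Scheme.{u}).IsQuasiAffine
  refine isQuasiAffine_opens_of_cover _ hWc fun x hx => ?_
  have hy : f x ∈ T := hx
  obtain ⟨_, ⟨_, ⟨r, hr, rfl⟩, rfl⟩, hxr, -⟩ :=
    (Scheme.IsQuasiAffine.isBasis_basicOpen (T : Scheme.{u})).exists_subset_of_mem_open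
      (Set.mem_univ (⟨f x, hy⟩ : (T : Scheme.{u}))) isOpen_univ
  let r' : Γ(Y, T) := T.topIso.hom r
  have himg : T.ι ''ᵁ ((T : Scheme.{u}).basicOpen r) = Y.basicOpen r' := by
    have e : Y.basicOpen r' = Y.basicOpen (show Γ(Y, T.ι ''ᵁ ⊤) from r) := by
      simp only [r', Scheme.Opens.topIso_hom]
      exact Scheme.basicOpen_res_eq _ _ _
    rw [e, Scheme.image_basicOpen]
    simp only [Scheme.Opens.ι_appIso, Iso.refl_inv]
    rfl
  have hr' : IsAffineOpen (Y.basicOpen r') := by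
    rw [← himg]
    exact (Scheme.Opens.ι _).isAffineOpen_iff_of_isOpenImmersion.mpr hr
  have hxr' : f x ∈ Y.basicOpen r' := by
    rw [← himg]
    exact ⟨⟨f x, hy⟩, hxr, rfl⟩
  refine ⟨f.app T r', ?_, ?_⟩
  · rw [← Scheme.preimage_basicOpen]; exact hxr'
  · rw [← Scheme.preimage_basicOpen]
    exact hfqa _ hr'

end Groth.Agent.S2338
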