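import Groth.Statements.S2340
import Mathlib
import Groth.Agent.Lib.Helper12QuasiAffineLocal

set_option autoImplicit false
universe u
open CategoryTheory CategoryTheory.Limits AlgebraicGeometry
open EGA2

namespace Groth.Agent.S2340


open Groth.Agent.Lib.Helper12 in


/-- Let f : X → Y and g : Y → Z be morphisms of schemes with g ∘ f quasi-affine and g quasi-separated.
Then f is quasi-affine. -/
theorem result {X Y Z : Scheme.{u}} (f : X ⟶ Y) (g : Y ⟶ Z) [QuasiSeparated g]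
    (h : Mor2.IsQuasiAffine (f ≫ g)) : Mor2.IsQuasiAffine f := by
  obtain ⟨hqc, hqa⟩ := h
  have hfqc : QuasiCompact f := QuasiCompact.of_comp f g
  refine ⟨hfqc, fun V hV => ?_⟩
  have hWc : IsCompact ((f ⁻¹ᵁ V : X.Opens) : Set X) := f.isCompact_preimage hV.isCompact
  refine isQuasiAffine_opens_of_cover _ hWc fun x hx => ?_
  -- affine open of Z around g (f x)
  obtain ⟨_, ⟨Zj, hZj : IsAffineOpen Zj, rfl⟩, hxZ, -⟩ :=
    Z.isBasis_affineOpens.exists_subset_of_mem_open (Set.mem_univ (g (f x))) isOpen_univ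
  obtain ⟨a, ha1, ha2⟩ := hV.exists_basicOpen_le (V := g ⁻¹ᵁ Zj) ⟨f x, hxZ⟩ hx
  refine ⟨f.app V a, ?_, ?_⟩
  · rw [← Scheme.preimage_basicOpen]; exact ha2
  · rw [← Scheme.preimage_basicOpen]
    have := hqa Zj hZj
    have hle : f ⁻¹ᵁ Y.basicOpen a ≤ (f ≫ g) ⁻¹ᵁ Zj := fun z hz => ha1 hz
    exact isQuasiAffine_of_le hle (f.isCompact_preimage (hV.basicOpen a).isCompact)

end Groth.Agent.S2340
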