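import Groth.Statements.S2341
import Mathlib.AlgebraicGeometry.QuasiAffine
import Mathlib.Topology.LocalAtTarget

set_option autoImplicit false
universe u
open CategoryTheory CategoryTheory.Limits AlgebraicGeometry
open EGA2

namespace Groth.Agent.S2341

open AlgebraicGeometry CategoryTheory TopologicalSpace in
theorem aux {X Y : Scheme.{u}} [IsAffine Y] (g : X ⟶ Y) (hg : Topology.IsEmbedding g.base) (x : X) :
    ∃ r : Γ(X, ⊤), IsAffineOpen (X.basicOpen r) ∧ x ∈ X.basicOpen r := by
  obtain ⟨W, hxW⟩ : ∃ W : X.affineOpens, x ∈ W.1 := by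
    obtain ⟨_, ⟨W, hW, rfl⟩, hxW, -⟩ :=
      (X.isBasis_affineOpens).exists_subset_of_mem_open (Set.mem_univ x) isOpen_univ
    exact ⟨⟨W, hW⟩, hxW⟩
  obtain ⟨O, hO, hOW⟩ := hg.isInducing.isOpen_iff.mp W.1.2
  have hgx : g.base x ∈ O := by
    have : x ∈ g.base ⁻¹' O := by rw [hOW]; exact hxW
    exact this
  obtain ⟨_, ⟨_, ⟨s, rfl⟩, rfl⟩, hxs, hsO⟩ :=
    (isBasis_basicOpen Y).exists_subset_of_mem_open hgx hO
  refine ⟨g.appTop s, ?_, ?_⟩
  · have hle : X.basicOpen (g.appTop s) ≤ W.1 := by
      rw [← Scheme.preimage_basicOpen_top]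
      intro z hz
      have : z ∈ g.base ⁻¹' O := hsO hz
      rw [hOW] at this
      exact this
    have := W.2.basicOpen (X.presheaf.map (homOfLE le_top : W.1 ⟶ ⊤).op (g.appTop s))
    rw [Scheme.basicOpen_res, inf_eq_right.mpr hle] at this
    exact this
  · rw [← Scheme.preimage_basicOpen_top]
    exact hxs

/-- A quasi-compact morphism X → Y whose underlying map is a homeomorphism onto its image (for instance
a closed immersion) is quasi-affine. -/
theorem result {X Y : Scheme.{u}} (f : X ⟶ Y) [QuasiCompact f]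
    (hf : Topology.IsEmbedding f.base) : Mor2.IsQuasiAffine f := by
  refine ⟨inferInstance, fun V hV => ?_⟩
  haveI : IsAffine (V : Scheme.{u}) := hV
  haveI : CompactSpace ((f ⁻¹ᵁ V : X.Opens) : Scheme.{u}) :=
    isCompact_iff_compactSpace.mp
      (QuasiCompact.isCompact_preimage (f := f) _ V.2 hV.isCompact)
  apply Scheme.IsQuasiAffine.of_forall_exists_mem_basicOpen
  intro x
  apply aux (f ∣_ V)
  rw [morphismRestrict_base]
  exact hf.restrictPreimage _

end Groth.Agent.S2341
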