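import Groth.Statements.S2342
import Mathlib
import Groth.Agent.S2123

set_option autoImplicit false
universe u
open CategoryTheory CategoryTheory.Limits AlgebraicGeometry
open EGA2

namespace Groth.Agent.S2342


/-- the canonical map from global functions on the target to the function field of the source -/
noncomputable def α {X Y : Scheme.{u}} [IsIntegral X] (f : X ⟶ Y) : Γ(Y, ⊤) →+* X.functionField :=
  (f.appTop ≫ X.presheaf.germ ⊤ (genericPoint X) trivial).hom

lemma α_eq {X Y : Scheme.{u}} [IsIntegral X] (f : X ⟶ Y) (z : X) (a : Γ(Y, ⊤)) :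
    X.presheaf.stalkSpecializes (genericPoint_specializes z)
      (f.stalkMap z (Y.presheaf.germ ⊤ (f z) trivial a)) = α f a := by
  have h3 : Y.presheaf.germ ⊤ (f z) trivial ≫ f.stalkMap z ≫
      X.presheaf.stalkSpecializes (genericPoint_specializes z) =
      f.appTop ≫ X.presheaf.germ ⊤ (genericPoint X) trivial := by
    have h1 := Scheme.Hom.germ_stalkMap f ⊤ z trivial
    have h2 := X.presheaf.germ_stalkSpecializes (U := f ⁻¹ᵁ ⊤) (x := genericPoint X) (y := z)
      trivial (genericPoint_specializes z)
    calc Y.presheaf.germ ⊤ (f z) trivial ≫ f.stalkMap z ≫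
          X.presheaf.stalkSpecializes (genericPoint_specializes z)
        = (Y.presheaf.germ ⊤ (f z) trivial ≫ f.stalkMap z) ≫
          X.presheaf.stalkSpecializes (genericPoint_specializes z) := (Category.assoc _ _ _).symm
      _ = (f.app ⊤ ≫ X.presheaf.germ (f ⁻¹ᵁ ⊤) z trivial) ≫
          X.presheaf.stalkSpecializes (genericPoint_specializes z) := congrArg (· ≫ _) h1
      _ = f.app ⊤ ≫ X.presheaf.germ (f ⁻¹ᵁ ⊤) z trivial ≫
          X.presheaf.stalkSpecializes (genericPoint_specializes z) := Category.assoc _ _ _
      _ = f.app ⊤ ≫ X.presheaf.germ (f ⁻¹ᵁ ⊤) (genericPoint X) trivial := congrArg (_ ≫ ·) h2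
      _ = _ := rfl
  exact congr($h3 a)

lemma stalk_bijective {X Y : Scheme.{u}} [IsIntegral X] [IsIntegral Y] [IsAffine Y] (f : X ⟶ Y)
    (hdvd : ∀ a b : Γ(Y, ⊤), a ∣ b ∨ b ∣ a)
    (hinj : Function.Injective (α f))
    (hfrac : ∀ k : X.functionField, ∃ a a' : Γ(Y, ⊤), a' ≠ 0 ∧ k * α f a' = α f a)
    (z : X) : Function.Bijective (f.stalkMap z) := by
  set ι := X.presheaf.stalkSpecializes (genericPoint_specializes z) with hι
  have hιinj : Function.Injective ι := IsFractionRing.injective (X.presheaf.stalk z) X.functionField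
  let g := Y.presheaf.germ ⊤ (f z) trivial
  have hα : ∀ a, ι (f.stalkMap z (g a)) = α f a := α_eq f z
  letI := Y.presheaf.algebra_section_stalk (⟨f z, trivial⟩ : (⊤ : Y.Opens))
  have hloc := (isAffineOpen_top Y).isLocalization_stalk ⟨f z, trivial⟩
  have halg : ∀ a, algebraMap Γ(Y, ⊤) (Y.presheaf.stalk (f z)) a = g a := fun a => rfl
  constructor
  · -- injective
    rw [injective_iff_map_eq_zero]
    intro s hs
    obtain ⟨⟨a, a'⟩, hs'⟩ := IsLocalization.surj
      ((isAffineOpen_top Y).primeIdealOf ⟨f z, trivial⟩).asIdeal.primeCompl s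
    simp only [halg] at hs'
    have h1 : α f a = 0 := by
      rw [← hα, ← hs', map_mul, hs, zero_mul, map_zero]
    have h2 : a = 0 := hinj (h1.trans (map_zero _).symm)
    have hu : IsUnit (g a'.1) := IsLocalization.map_units _ a'
    rw [h2, map_zero] at hs'
    exact (hu.mul_left_eq_zero).mp hs'
  · intro b
    obtain ⟨a, a', ha', hk⟩ := hfrac (ι b)
    have hαa' : α f a' ≠ 0 := fun h => ha' (hinj (h.trans (map_zero _).symm))
    rcases hdvd a' a with ⟨c, rfl⟩ | ⟨c, rfl⟩
    · refine ⟨g c, hιinj ?_⟩
      rw [hα]
      rw [map_mul] at hk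
      have : ι b * α f a' = α f c * α f a' := by rw [hk, mul_comm]
      exact (mul_right_cancel₀ hαa' this).symm
    · rw [map_mul] at hk
      have hαa : α f a ≠ 0 := fun h => hαa' (by rw [map_mul, h, zero_mul])
      have h1 : ι b * α f c = 1 := by
        have : α f a * (ι b * α f c) = α f a * 1 := by
          rw [mul_one]
          calc α f a * (ι b * α f c) = ι b * (α f a * α f c) := by ring
            _ = α f a := hk
        exact mul_left_cancel₀ hαa this
      have h2 : b * f.stalkMap z (g c) = 1 := by
        apply hιinj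
        rw [map_mul, hα, h1, map_one]
      have hu : IsUnit (f.stalkMap z (g c)) :=
        IsUnit.of_mul_eq_one b (by rw [mul_comm]; exact h2)
      have hu' : IsUnit (g c) := by
        have : IsLocalHom (f.stalkMap z).hom := inferInstance
        exact (isUnit_map_iff (f.stalkMap z).hom (g c)).mp hu
      obtain ⟨v, hv⟩ := hu'
      refine ⟨(v⁻¹ : (Y.presheaf.stalk (f z))ˣ), ?_⟩
      have h3 : f.stalkMap z (v⁻¹ : (Y.presheaf.stalk (f z))ˣ) * f.stalkMap z (g c) = 1 := by
        rw [← map_mul, ← hv, Units.inv_mul, map_one]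
      have := hu.mul_left_inj.mp (h3.trans h2.symm)
      exact this

/-- the subset of the function field cut out by the local ring of `Y` at `y` -/
def S {X Y : Scheme.{u}} [IsIntegral X] (f : X ⟶ Y) (y : Y) : Set X.functionField :=
  {k | ∃ a a' : Γ(Y, ⊤), IsUnit (Y.presheaf.germ ⊤ y trivial a') ∧ k * α f a' = α f a}

lemma range_eq {X Y : Scheme.{u}} [IsIntegral X] [IsAffine Y] (f : X ⟶ Y) (z : X)
    (hsurj : Function.Surjective (f.stalkMap z)) :
    Set.range (X.presheaf.stalkSpecializes (genericPoint_specializes z)) = S f (f z) := by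
  set ι := X.presheaf.stalkSpecializes (genericPoint_specializes z) with hι
  let g := Y.presheaf.germ ⊤ (f z) trivial
  have hα : ∀ a, ι (f.stalkMap z (g a)) = α f a := α_eq f z
  letI := Y.presheaf.algebra_section_stalk (⟨f z, trivial⟩ : (⊤ : Y.Opens))
  have hloc := (isAffineOpen_top Y).isLocalization_stalk ⟨f z, trivial⟩
  have halg : ∀ a, algebraMap Γ(Y, ⊤) (Y.presheaf.stalk (f z)) a = g a := fun a => rfl
  ext k
  constructor
  · rintro ⟨b, rfl⟩
    obtain ⟨s, rfl⟩ := hsurj b
    obtain ⟨⟨a, a'⟩, hs'⟩ := IsLocalization.surj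
      ((isAffineOpen_top Y).primeIdealOf ⟨f z, trivial⟩).asIdeal.primeCompl s
    simp only [halg] at hs'
    have hu : IsUnit (g a'.1) := IsLocalization.map_units _ a'
    refine ⟨a, a'.1, hu, ?_⟩
    rw [← hα, ← hα, ← map_mul, ← map_mul, hs']
  · rintro ⟨a, a', hu, hk⟩
    obtain ⟨v, hv⟩ := hu
    refine ⟨f.stalkMap z (g a * (v⁻¹ : (Y.presheaf.stalk (f z))ˣ)), ?_⟩
    have hu2 : IsUnit (α f a') := by
      rw [← hα]
      exact ((Units.isUnit v).map (f.stalkMap z).hom).map ι.hom |> fun h => by rwa [hv] at h
    have h1 : ι (f.stalkMap z (g a * (v⁻¹ : (Y.presheaf.stalk (f z))ˣ))) * α f a' = α f a := by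
      rw [← hα a', ← map_mul, ← map_mul, ← hv, mul_assoc, Units.inv_mul, mul_one, hα]
    exact hu2.mul_left_inj.mp (h1.trans hk.symm)

lemma main {X Y : Scheme.{u}} [IsIntegral X] [X.IsSeparated] [IsIntegral Y] [IsAffine Y]
    (f : X ⟶ Y) (hf : IsClosedMap f.base)
    (hdvd : ∀ a b : Γ(Y, ⊤), a ∣ b ∨ b ∣ a)
    (hfx : f (genericPoint X) = genericPoint Y)
    (hres : Function.Bijective (f.residueFieldMap (genericPoint X)).hom) : IsIso f := by
  -- injectivity of α
  have hinj : Function.Injective (α f) := by
    rw [injective_iff_map_eq_zero]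
    intro a ha
    have h1 : f.appTop a = 0 := by
      apply germ_injective_of_isIntegral X (genericPoint X) (U := ⊤) trivial
      rw [map_zero]; exact ha
    have h2 : f ⁻¹ᵁ (Y.basicOpen a) = ⊥ := by
      rw [Scheme.preimage_basicOpen]
      have : f.app ⊤ a = 0 := h1
      rw [this, Scheme.basicOpen_zero]
    have h3 : genericPoint Y ∉ Y.basicOpen a := by
      intro h
      have : genericPoint X ∈ f ⁻¹ᵁ (Y.basicOpen a) := by
        change f (genericPoint X) ∈ Y.basicOpen a
        rw [hfx]; exact h
      rw [h2] at this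
      exact this
    have h4 : ¬ IsUnit (Y.presheaf.germ ⊤ (genericPoint Y) trivial a) := by
      intro hu
      exact h3 ((Y.mem_basicOpen a (genericPoint Y) (by trivial)).mpr hu)
    have h5 : Y.presheaf.germ ⊤ (genericPoint Y) trivial a = 0 := by
      by_contra hne
      exact h4 (Ne.isUnit hne)
    apply germ_injective_of_isIntegral Y (genericPoint Y) (U := ⊤) trivial
    rw [h5, map_zero]
  -- fractions
  have hfrac : ∀ k : X.functionField, ∃ a a' : Γ(Y, ⊤), a' ≠ 0 ∧ k * α f a' = α f a := by
    intro k
    obtain ⟨r', hr'⟩ := hres.surjective (X.residue (genericPoint X) k)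
    obtain ⟨s, rfl⟩ := IsLocalRing.residue_surjective r'
    have h1 : X.residue (genericPoint X) (f.stalkMap (genericPoint X) s) =
        X.residue (genericPoint X) k := by
      rw [← hr']
      have := Scheme.residue_residueFieldMap f (genericPoint X)
      exact (congr($(this) s)).symm
    have h2 : f.stalkMap (genericPoint X) s = k :=
      RingHom.injective (X.residue (genericPoint X)).hom h1
    let g := Y.presheaf.germ ⊤ (f (genericPoint X)) trivial
    letI := Y.presheaf.algebra_section_stalk (⟨f (genericPoint X), trivial⟩ : (⊤ : Y.Opens))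
    have hloc := (isAffineOpen_top Y).isLocalization_stalk ⟨f (genericPoint X), trivial⟩
    have halg : ∀ a, algebraMap Γ(Y, ⊤) (Y.presheaf.stalk (f (genericPoint X))) a = g a :=
      fun a => rfl
    obtain ⟨⟨a, a'⟩, hs'⟩ := IsLocalization.surj
      ((isAffineOpen_top Y).primeIdealOf ⟨f (genericPoint X), trivial⟩).asIdeal.primeCompl s
    simp only [halg] at hs'
    refine ⟨a, a'.1, ?_, ?_⟩
    · intro h0
      exact a'.2 (h0 ▸ Ideal.zero_mem _)
    · have hid : ∀ w : X.presheaf.stalk (genericPoint X),
          X.presheaf.stalkSpecializes (genericPoint_specializes (genericPoint X)) w = w := by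
        intro w
        have := TopCat.Presheaf.stalkSpecializes_refl (F := X.presheaf) (genericPoint X)
        exact congr($(this) w)
      rw [← α_eq f (genericPoint X) a, ← α_eq f (genericPoint X) a'.1, hid, hid, ← h2, ← map_mul,
        hs']
  have hbij : ∀ z : X, Function.Bijective (f.stalkMap z) :=
    stalk_bijective f hdvd hinj hfrac
  -- bijectivity of f
  have hsurjf : Function.Surjective f := by
    intro y
    have h1 : IsClosed (Set.range f) := hf.isClosed_range
    have hξ : genericPoint Y ∈ Set.range f := ⟨_, hfx⟩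
    have h2 : closure {genericPoint Y} ⊆ Set.range f :=
      closure_minimal (Set.singleton_subset_iff.mpr hξ) h1
    rw [(genericPoint_spec Y).def] at h2
    exact h2 (Set.mem_univ y)
  have hinjf : Function.Injective f := by
    intro z z' hzz'
    have h1 := range_eq f z (hbij z).surjective
    have h2 := range_eq f z' (hbij z').surjective
    rw [hzz'] at h1
    have h3 : closure ({z} : Set X) ⊆ closure {z'} := by
      by_contra hcon
      exact Groth.Agent.S2123.result X z z' hcon (by rw [h1, h2])
    have h4 : closure ({z'} : Set X) ⊆ closure {z} := by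
      by_contra hcon
      exact Groth.Agent.S2123.result X z' z hcon (by rw [h1, h2])
    have h5 : z ⤳ z' := by
      rw [specializes_iff_closure_subset]; exact h4
    have h6 : z' ⤳ z := by
      rw [specializes_iff_closure_subset]; exact h3
    exact (h5.antisymm h6).eq
  rw [isIso_iff_isIso_stalkMap]
  refine ⟨TopCat.isIso_of_bijective_of_isClosedMap _ ⟨hinjf, hsurjf⟩ hf, fun z => ?_⟩
  exact (ConcreteCategory.isIso_iff_bijective _).mpr (hbij z)

open EGA2 in


/-- Let A be a valuation ring with Y = Spec A, X an integral separated scheme and f : X → Y a morphism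
which is closed as a map of topological spaces, such that the fibre over the generic point of Y
consists of exactly one point x and the induced map from the residue field of the generic point of Y
to that of x is bijective. Then f is an isomorphism. -/
theorem result (A : Type u) [CommRing A] [IsDomain A] [ValuationRing A]
    (X : Scheme.{u}) [IsIntegral X] [X.IsSeparated] (f : X ⟶ Spec (CommRingCat.of A)) (hf : IsClosedMap f.base)
    (x : X) (hx : f.base ⁻¹' {genericPoint (Spec (CommRingCat.of A))} = {x})
    (hres : Function.Bijective (f.residueFieldMap x).hom) : IsIso f := by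
  have hfx : f x = genericPoint (Spec (CommRingCat.of A)) := by
    have : x ∈ f.base ⁻¹' {genericPoint (Spec (CommRingCat.of A))} := by rw [hx]; rfl
    exact this
  have hξ : genericPoint X = x := by
    have h1 : f (genericPoint X) ⤳ f x := (genericPoint_specializes x).map f.continuous
    have h2 : f x ⤳ f (genericPoint X) := by rw [hfx]; exact genericPoint_specializes _
    have h3 : f (genericPoint X) = f x := (h1.antisymm h2).eq
    have : genericPoint X ∈ f.base ⁻¹' {genericPoint (Spec (CommRingCat.of A))} := h3.trans hfx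
    rw [hx] at this
    exact this
  subst hξ
  refine main f hf ?_ hfx hres
  let e : Γ(Spec (CommRingCat.of A), ⊤) ≃+* A :=
    (Scheme.ΓSpecIso (CommRingCat.of A)).commRingCatIsoToRingEquiv
  intro a b
  rcases ValuationRing.dvd_total (e a) (e b) with ⟨c, hc⟩ | ⟨c, hc⟩
  · left
    refine ⟨e.symm c, e.injective ?_⟩
    rw [map_mul, e.apply_symm_apply, hc]
  · right
    refine ⟨e.symm c, e.injective ?_⟩
    rw [map_mul, e.apply_symm_apply, hc]

end Groth.Agent.S2342
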