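import Groth.Statements.S2343
import Mathlib
import Groth.Agent.Lib.Helper14InvLim

set_option autoImplicit false
universe u
open CategoryTheory CategoryTheory.Limits AlgebraicGeometry
open EGA2

namespace Groth.Agent.S2343


open TensorProduct in
/-- A quasi-finite local algebra over a complete Noetherian local ring is finite, provided it is
separated for the `m_A`-adic topology (e.g. Noetherian local with `m_A B ⊆ m_B`). -/
lemma finite_of_quasiFinite_of_complete (A B : Type u) [CommRing A] [IsLocalRing A]
    [IsNoetherianRing A] [IsAdicComplete (IsLocalRing.maximalIdeal A) A] [CommRing B]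
    [IsLocalRing B] [IsNoetherianRing B] [Algebra A B]
    (hloc : (IsLocalRing.maximalIdeal A).map (algebraMap A B) ≤ IsLocalRing.maximalIdeal B)
    [Algebra.QuasiFinite A B] : Module.Finite A B := by
  set m := IsLocalRing.maximalIdeal A with hm
  -- Hausdorff
  have hH : IsHausdorff m B := by
    rw [← IsHausdorff.map_algebraMap_iff (S := B)]
    apply IsHausdorff.of_le_jacobson
    rw [IsLocalRing.jacobson_eq_maximalIdeal ⊥ bot_ne_top]
    exact hloc
  -- `B / m B` is finite over `A`
  letI : Field (A ⧸ m) := Ideal.Quotient.field m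
  have h1 : Module.Finite (A ⧸ m) ((A ⧸ m) ⊗[A] B) := Module.Finite.of_quasiFinite
  have h2 : Module.Finite A (A ⧸ m) :=
    Module.Finite.of_surjective (Algebra.linearMap A (A ⧸ m)) Ideal.Quotient.mk_surjective
  have h3 : Module.Finite A ((A ⧸ m) ⊗[A] B) := Module.Finite.trans (A ⧸ m) _
  have h4 : Module.Finite A (B ⧸ (m • ⊤ : Submodule A B)) :=
    Module.Finite.equiv (quotTensorEquivQuotSMul B m)
  obtain ⟨n, g, hg⟩ := Module.Finite.exists_fin' A (B ⧸ (m • ⊤ : Submodule A B))
  obtain ⟨g', hg'⟩ := Module.projective_lifting_property (Submodule.mkQ (m • ⊤ : Submodule A B)) g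
    (Submodule.mkQ_surjective _)
  haveI : IsPrecomplete m (Fin n → A) := Groth.Agent.Lib.Helper14.isPrecomplete_pi m n
  have hsurj : Function.Surjective g' := by
    apply surjective_of_mkQ_comp_surjective (I := m)
    rw [hg']; exact hg
  exact Module.Finite.of_surjective g' hsurj


lemma flat_fromSpecStalk (Y : Scheme.{u}) (y : Y) : Flat (Y.fromSpecStalk y) := by
  obtain ⟨_, ⟨U, hU, rfl⟩, hyU, -⟩ :=
    Y.isBasis_affineOpens.exists_subset_of_mem_open (Set.mem_univ y) isOpen_univ
  rw [← hU.fromSpecStalk_eq_fromSpecStalk hyU]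
  dsimp [IsAffineOpen.fromSpecStalk]
  have : Flat (Spec.map (Y.presheaf.germ U y hyU)) := by
    rw [HasRingHomProperty.Spec_iff (P := @Flat)]
    let _ : Algebra Γ(Y, U) (Y.presheaf.stalk y) := (Y.presheaf.germ U y hyU).hom.toAlgebra
    have := hU.isLocalization_stalk ⟨y, hyU⟩
    change (algebraMap Γ(Y, U) (Y.presheaf.stalk y)).Flat
    rw [RingHom.flat_algebraMap_iff]
    exact IsLocalization.flat _ (hU.primeIdealOf ⟨y, hyU⟩).asIdeal.primeCompl
  have h2 : IsOpenImmersion hU.fromSpec := hU.isOpenImmersion_fromSpec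
  have h3 : Flat hU.fromSpec := inferInstance
  exact Flat.comp _ _

lemma quasiFiniteAt_of_isOpen {X Y : Scheme.{u}} (f : X ⟶ Y) [LocallyOfFiniteType f] (x : X)
    (y : Y) (hxy : f x = y)
    (hisol : IsOpen ((Subtype.val : (f ⁻¹' {y}) → X) ⁻¹' {x})) : f.QuasiFiniteAt x := by
  subst hxy
  rw [Scheme.Hom.quasiFiniteAt_iff_isOpen_singleton_asFiber,
    ← (f.fiberHomeo (f x)).isOpen_image]
  convert hisol using 1
  ext z
  simp only [Set.image_singleton, Set.mem_singleton_iff, Set.mem_preimage, Scheme.Hom.asFiber,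
    Homeomorph.apply_symm_apply]
  exact Subtype.ext_iff


set_option maxHeartbeats 1000000 in


/-- Let A be a complete Noetherian local ring, X a separated scheme locally of finite type over Spec A,
and x a point of X over the closed point which is isolated in its fibre. Then the local ring of X at
x is a finite A-module and the canonical morphism Spec O_{X,x} → X is both an open and a closed
immersion (X is the disjoint sum of Spec O_{X,x} and another open subscheme). -/
theorem result (A : Type u) [CommRing A] [IsLocalRing A] [IsNoetherianRing A]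
    [IsAdicComplete (IsLocalRing.maximalIdeal A) A] (X : Scheme.{u}) (f : X ⟶ Spec (CommRingCat.of A)) [LocallyOfFiniteType f] [IsSeparated f]
    (x : X) (hx : f.base x = IsLocalRing.closedPoint A)
    (hisol : IsOpen ((Subtype.val : (f.base ⁻¹' {IsLocalRing.closedPoint A}) → X) ⁻¹' {x})) :
    ((Scheme.ΓSpecIso (CommRingCat.of A)).inv ≫ f.appTop ≫ X.presheaf.germ ⊤ x trivial).hom.Finite ∧ IsOpenImmersion (X.fromSpecStalk x) ∧ IsClosedImmersion (X.fromSpecStalk x) := by
  have hqf : f.QuasiFiniteAt x := quasiFiniteAt_of_isOpen f x _ hx hisol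
  have hLN : IsLocallyNoetherian X := LocallyOfFiniteType.isLocallyNoetherian f
  set ψ := (Scheme.ΓSpecIso (CommRingCat.of A)).inv ≫ f.appTop ≫ X.presheaf.germ ⊤ x trivial
    with hψ
  let θ : CommRingCat.of A ⟶ (Spec (.of A)).presheaf.stalk (f x) :=
    (Scheme.ΓSpecIso (.of A)).inv ≫ (Spec (.of A)).presheaf.germ ⊤ (f x) trivial
  have hfac : ψ = θ ≫ f.stalkMap x := by
    have h1 := f.germ_stalkMap ⊤ x trivial
    simp only [ψ, θ, Category.assoc]
    congr 1
    exact h1.symm
  have hθ : θ.hom.QuasiFinite := by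
    have H : ((Spec (.of A)).presheaf.germ ⊤ (f x) trivial).hom.QuasiFinite := by
      algebraize [((Spec (.of A)).presheaf.germ ⊤ (f x) trivial).hom]
      have := (isAffineOpen_top (Spec (.of A))).isLocalization_stalk ⟨f x, trivial⟩
      rw [← ((Spec (.of A)).presheaf.germ ⊤ (f x) trivial).hom.algebraMap_toAlgebra,
        RingHom.quasiFinite_algebraMap]
      exact .of_isLocalization
        ((isAffineOpen_top (Spec (.of A))).primeIdealOf ⟨f x, trivial⟩).asIdeal.primeCompl
    have H2 : (Scheme.ΓSpecIso (.of A)).inv.hom.QuasiFinite :=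
      RingHom.QuasiFinite.of_finite (RingHom.Finite.of_surjective _
        ((ConcreteCategory.isIso_iff_bijective (Scheme.ΓSpecIso (.of A)).inv).mp inferInstance).2)
    exact H.comp H2
  have hψqf : ψ.hom.QuasiFinite := by
    rw [hfac]; exact RingHom.QuasiFinite.comp hqf hθ
  have hloc0 : ∀ a : A, a ∈ IsLocalRing.maximalIdeal A →
      ψ.hom a ∈ IsLocalRing.maximalIdeal (X.presheaf.stalk x) := by
    intro a ha
    rw [IsLocalRing.mem_maximalIdeal, mem_nonunits_iff]
    intro hu
    have h1 : x ∈ X.basicOpen (f.appTop ((Scheme.ΓSpecIso (.of A)).inv a)) :=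
      (Scheme.mem_basicOpen_top X _ x).mpr hu
    have h2 : f x ∈ (Spec (.of A)).basicOpen ((Scheme.ΓSpecIso (.of A)).inv a) := by
      have h3 := Scheme.preimage_basicOpen f ((Scheme.ΓSpecIso (.of A)).inv a)
      have h4 : x ∈ f ⁻¹ᵁ (Spec (.of A)).basicOpen ((Scheme.ΓSpecIso (.of A)).inv a) := by
        rw [h3]; exact h1
      exact h4
    rw [basicOpen_eq_of_affine] at h2
    have h5 : a ∉ (f x).asIdeal := h2
    apply h5
    have h6 : f x = IsLocalRing.closedPoint A := hx
    rw [h6]
    exact ha
  algebraize [ψ.hom]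
  have hQF : Algebra.QuasiFinite A (X.presheaf.stalk x) := hψqf
  have hloc : (IsLocalRing.maximalIdeal A).map (algebraMap A (X.presheaf.stalk x)) ≤
      IsLocalRing.maximalIdeal (X.presheaf.stalk x) := by
    rw [Ideal.map_le_iff_le_comap]
    intro a ha
    exact hloc0 a ha
  have hfin : Module.Finite A (X.presheaf.stalk x) :=
    finite_of_quasiFinite_of_complete A _ hloc
  have hfin' : ψ.hom.Finite := hfin
  have hcomp : X.fromSpecStalk x ≫ f = Spec.map ψ := by
    rw [hfac, Spec.map_comp, ← Scheme.SpecMap_stalkMap_fromSpecStalk]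
    congr 1
    exact (Spec.fromSpecStalk_eq _ _)
  have hfinite : IsFinite (X.fromSpecStalk x ≫ f) := by
    rw [hcomp, IsFinite.SpecMap_iff]; exact hfin'
  have hproper : IsProper (X.fromSpecStalk x) := IsProper.of_comp (X.fromSpecStalk x) f
  have hcl : IsClosedImmersion (X.fromSpecStalk x) :=
    (IsClosedImmersion.iff_isProper_and_mono (X.fromSpecStalk x)).mpr ⟨hproper, inferInstance⟩
  have hflat : Flat (X.fromSpecStalk x) := flat_fromSpecStalk X x
  refine ⟨hfin', IsOpenImmersion.of_flat_of_mono (X.fromSpecStalk x), hcl⟩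

end Groth.Agent.S2343
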