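import Groth.Statements.S2344
import Mathlib
import Groth.Agent.S10832
import Groth.Agent.S2258

set_option autoImplicit false
universe u
open CategoryTheory CategoryTheory.Limits AlgebraicGeometry
open EGA2

namespace Groth.Agent.S2344


lemma valuationRing_of_dim_le_one (R : Type*) [CommRing R] [IsDomain R] [IsLocalRing R]
    [IsNoetherianRing R] [IsIntegrallyClosed R] (h : ringKrullDim R ≤ 1) : ValuationRing R := by
  have h4 : IsIntegrallyClosed R ∧ ∀ P : Ideal R, P ≠ ⊥ → P.IsPrime → P = IsLocalRing.maximalIdeal R := by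
    refine ⟨inferInstance, fun P hP hP' => ?_⟩
    have h1 : Ring.KrullDimLE 1 R := (Ring.krullDimLE_iff).mpr h
    have hbot : (⊥ : Ideal R).IsPrime := Ideal.isPrime_bot
    have := (Ring.krullDimLE_one_iff_of_isPrime_bot).mp h1 P hP hP'
    exact IsLocalRing.eq_maximalIdeal this
  exact ((tfae_of_isNoetherianRing_of_isLocalRing_of_isDomain R).out 3 1).mp h4

lemma valuationRing_stalk (X : Scheme.{u}) [CompactSpace X] [IsLocallyNoetherian X]
    (hcurve : (∀ x : X, IsClosed ({x} : Set X) → ringKrullDim (X.presheaf.stalk x) = 1))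
    (hnorm : Pi1.IsNormalScheme X) (x : X) :
    @ValuationRing (X.presheaf.stalk x) _ (hnorm x).1 := by
  obtain ⟨z, hz, hzc⟩ := (isClosed_closure (s := ({x} : Set X))).exists_closed_singleton
    ⟨x, subset_closure rfl⟩
  have hxz : x ⤳ z := specializes_iff_mem_closure.mpr hz
  have := (hnorm x).1
  have := (hnorm x).2
  have hdim : ringKrullDim (X.presheaf.stalk x) ≤ 1 := by
    rw [← hcurve z hzc, ringKrullDim_stalk_eq_coheight, ringKrullDim_stalk_eq_coheight]
    exact_mod_cast Order.coheight_anti (show z ≤ x from hxz)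
  exact valuationRing_of_dim_le_one _ hdim


/-- A "good pair": a morphism from an open `A` over `S` agreeing with `g` on `A ⊓ U`. -/
def Good {S X Y : Scheme.{u}} (sX : X ⟶ S) (sY : Y ⟶ S) (U : X.Opens) (g : U.toScheme ⟶ Y)
    (A : X.Opens) (a : A.toScheme ⟶ Y) : Prop :=
  a ≫ sY = A.ι ≫ sX ∧
    X.homOfLE (inf_le_left : A ⊓ U ≤ A) ≫ a = X.homOfLE (inf_le_right : A ⊓ U ≤ U) ≫ g

lemma isDominant_homOfLE {X : Scheme.{u}} (U : X.Opens) (hU : Dense (U : Set X)) (A : X.Opens) :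
    IsDominant (X.homOfLE (inf_le_left : A ⊓ U ≤ A)) := by
  refine ⟨fun w => ?_⟩
  rw [mem_closure_iff]
  intro O hO hwO
  obtain ⟨O', hO', rfl⟩ := isOpen_induced_iff.mp hO
  obtain ⟨y, hy1, hy2⟩ := hU.inter_open_nonempty (O' ∩ A) (hO'.inter A.isOpen) ⟨w.1, hwO, w.2⟩
  refine ⟨⟨y, hy1.2⟩, hy1.1, ⟨⟨y, hy1.2, hy2⟩, ?_⟩⟩
  exact Scheme.homOfLE_apply' _ _ _

lemma good_compat {S X Y : Scheme.{u}} (sX : X ⟶ S) (sY : Y ⟶ S) [IsReduced X] [IsSeparated sY]
    (U : X.Opens) (hU : Dense (U : Set X)) (g : U.toScheme ⟶ Y)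
    {A A' : X.Opens} {a : A.toScheme ⟶ Y} {a' : A'.toScheme ⟶ Y}
    (h : Good sX sY U g A a) (h' : Good sX sY U g A' a') :
    X.homOfLE (inf_le_left : A ⊓ A' ≤ A) ≫ a = X.homOfLE (inf_le_right : A ⊓ A' ≤ A') ≫ a' := by
  have := isDominant_homOfLE U hU (A ⊓ A')
  refine ext_of_isDominant_of_isSeparated sY ?_ (X.homOfLE (inf_le_left : (A ⊓ A') ⊓ U ≤ A ⊓ A')) ?_
  · rw [Category.assoc, Category.assoc, h.1, h'.1, Scheme.homOfLE_ι_assoc, Scheme.homOfLE_ι_assoc]
  · have e1 : X.homOfLE (inf_le_left : (A ⊓ A') ⊓ U ≤ A ⊓ A') ≫ X.homOfLE (inf_le_left : A ⊓ A' ≤ A) =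
        X.homOfLE (show (A ⊓ A') ⊓ U ≤ A ⊓ U from inf_le_inf_right _ inf_le_left) ≫
          X.homOfLE (inf_le_left : A ⊓ U ≤ A) := by
      rw [Scheme.homOfLE_homOfLE, Scheme.homOfLE_homOfLE]
    have e2 : X.homOfLE (inf_le_left : (A ⊓ A') ⊓ U ≤ A ⊓ A') ≫ X.homOfLE (inf_le_right : A ⊓ A' ≤ A') =
        X.homOfLE (show (A ⊓ A') ⊓ U ≤ A' ⊓ U from inf_le_inf_right _ inf_le_right) ≫
          X.homOfLE (inf_le_left : A' ⊓ U ≤ A') := by
      rw [Scheme.homOfLE_homOfLE, Scheme.homOfLE_homOfLE]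
    rw [← Category.assoc, ← Category.assoc, e1, e2, Category.assoc, Category.assoc, h.2, h'.2,
      Scheme.homOfLE_homOfLE_assoc, Scheme.homOfLE_homOfLE_assoc]

lemma good_self {S X Y : Scheme.{u}} (sX : X ⟶ S) (sY : Y ⟶ S)
    (U : X.Opens) (g : U.toScheme ⟶ Y) (hg : g ≫ sY = U.ι ≫ sX) : Good sX sY U g U g :=
  ⟨hg, by
    have : X.homOfLE (inf_le_left : U ⊓ U ≤ U) = X.homOfLE (inf_le_right : U ⊓ U ≤ U) := rfl
    rw [this]⟩


set_option maxHeartbeats 1000000 in
lemma local_ext {S X Y : Scheme.{u}} (sX : X ⟶ S) (sY : Y ⟶ S) [IsReduced X]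
    [IsLocallyNoetherian X]
    [UniversallyClosed sY] [LocallyOfFiniteType sY] [IsSeparated sY]
    (U : X.Opens) (hU : Dense (U : Set X)) (g : U.toScheme ⟶ Y) (hg : g ≫ sY = U.ι ≫ sX)
    (x : X) [IsDomain (X.presheaf.stalk x)] [ValuationRing (X.presheaf.stalk x)] :
    ∃ (A : X.Opens) (_ : x ∈ A) (a : A.toScheme ⟶ Y), Good sX sY U g A a := by
  obtain ⟨B, hxB, hB⟩ := S2258.result X x (by rw [nilradical_eq_zero]; exact Ideal.isPrime_bot)
  obtain ⟨ξ, hξ⟩ := QuasiSober.sober hB.closure isClosed_closure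
  have hξU : ξ ∈ U := (hξ.mem_open_set_iff U.isOpen).mpr (by
    obtain ⟨y, hy1, hy2⟩ := hU.inter_open_nonempty B B.isOpen ⟨x, hxB⟩
    exact ⟨y, subset_closure hy1, hy2⟩)
  have hξB : ∀ y ∈ B, ξ ⤳ y := fun y hy => by
    rw [specializes_iff_mem_closure, hξ.def]; exact subset_closure hy
  let R := X.presheaf.stalk x
  let K := FractionRing R
  let φ : R ⟶ CommRingCat.of K := CommRingCat.ofHom (algebraMap R K)
  let j : Spec (.of K) ⟶ X := Spec.map φ ≫ X.fromSpecStalk x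
  have hη : ∀ p, j p ⤳ ξ := by
    intro p
    have : ξ ∈ Set.range (X.fromSpecStalk x) := by
      rw [Scheme.range_fromSpecStalk]; exact hξB x hxB
    obtain ⟨q, rfl⟩ := this
    have h1 : (Spec.map φ p) ⤳ q := by
      refine (PrimeSpectrum.le_iff_specializes (Spec.map φ p : PrimeSpectrum R) q).mp ?_
      intro r hr
      have h2 : algebraMap R K r ∈ p.asIdeal := hr
      have h3 : p.asIdeal = ⊥ := by
        have := PrimeSpectrum.isPrime p
        exact Ideal.eq_bot_of_prime p.asIdeal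
      rw [h3, Ideal.mem_bot] at h2
      have h4 : r = 0 := (IsFractionRing.injective R K) (by rw [h2, map_zero])
      rw [h4]; exact zero_mem _
    exact h1.map (X.fromSpecStalk x).continuous
  have hjU : ∀ p, j p ∈ U := fun p => (hη p).mem_open U.isOpen hξU
  let jU : Spec (.of K) ⟶ U.toScheme := IsOpenImmersion.lift U.ι j (by
    rintro _ ⟨p, rfl⟩; simpa using hjU p)
  have hjU' : jU ≫ U.ι = j := IsOpenImmersion.lift_fac _ _ _
  let i₁ : Spec (.of K) ⟶ Y := jU ≫ g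
  let i₂ : Spec (.of R) ⟶ S := X.fromSpecStalk x ≫ sX
  have hsq : CommSq i₁ (Spec.map (CommRingCat.ofHom (algebraMap R K))) sY i₂ := ⟨by
    change (jU ≫ g) ≫ sY = Spec.map φ ≫ X.fromSpecStalk x ≫ sX
    rw [Category.assoc, hg, ← Category.assoc, hjU', Category.assoc]⟩
  have hex : ValuativeCriterion.Existence sY := by
    have h : (ValuativeCriterion.Existence ⊓ @QuasiCompact) sY :=
      UniversallyClosed.eq_valuativeCriterion ▸ ‹UniversallyClosed sY›
    exact h.1
  obtain ⟨⟨ℓ, h1, h2⟩⟩ := (hex ⟨R, K, i₁, i₂, hsq⟩).exists_lift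
  change Spec.map φ ≫ ℓ = jU ≫ g at h1
  change ℓ ≫ sY = X.fromSpecStalk x ≫ sX at h2
  obtain ⟨A₀, hxA₀, a₀, ha₀, ha₀'⟩ := spread_out_of_isGermInjective' sX sY ℓ h2
  refine ⟨A₀ ⊓ B, ⟨hxA₀, hxB⟩, X.homOfLE inf_le_left ≫ a₀, ?_, ?_⟩
  · rw [Category.assoc, ha₀', Scheme.homOfLE_ι_assoc]
  · -- agreement on `W := (A₀ ⊓ B) ⊓ U`
    have hjW : ∀ p, j p ∈ (A₀ ⊓ B) ⊓ U := by
      intro p
      refine ⟨⟨?_, ?_⟩, hjU p⟩
      · exact ((hη p).trans (hξB x hxB)).mem_open A₀.isOpen hxA₀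
      · exact ((hη p).trans (hξB x hxB)).mem_open B.isOpen hxB
    let ι : Spec (.of K) ⟶ ((A₀ ⊓ B) ⊓ U).toScheme := IsOpenImmersion.lift (Scheme.Opens.ι _) j (by
      rintro _ ⟨p, rfl⟩; simpa using hjW p)
    have hι : ι ≫ (Scheme.Opens.ι _) = j := IsOpenImmersion.lift_fac _ _ _
    have hdom : IsDominant ι := by
      refine ⟨fun w => ?_⟩
      let p₀ : Spec (.of K) := IsLocalRing.closedPoint K
      have h3 : (Scheme.Opens.ι _) (ι p₀) = j p₀ := by
        have := congr($(hι) p₀)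
        exact this
      have h4 : ι p₀ ⤳ w := by
        rw [← (Scheme.Opens.ι _).isOpenEmbedding.isInducing.specializes_iff, h3]
        exact (hη p₀).trans (hξB _ w.2.1.2)
      exact closure_mono (Set.singleton_subset_iff.mpr (Set.mem_range_self p₀))
        (specializes_iff_mem_closure.mp h4)
    refine ext_of_isDominant_of_isSeparated sY ?_ ι ?_
    · rw [Category.assoc, Category.assoc, Category.assoc, ha₀', hg, Scheme.homOfLE_ι_assoc,
        Scheme.homOfLE_ι_assoc, Scheme.homOfLE_ι_assoc]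
    · have e1 : ι ≫ X.homOfLE (inf_le_right : (A₀ ⊓ B) ⊓ U ≤ U) = jU := by
        rw [← cancel_mono U.ι, Category.assoc, Scheme.homOfLE_ι, hι, hjU']
      have e2 : ι ≫ X.homOfLE (inf_le_left : (A₀ ⊓ B) ⊓ U ≤ A₀ ⊓ B) ≫
          X.homOfLE (inf_le_left : A₀ ⊓ B ≤ A₀) = Spec.map φ ≫ A₀.fromSpecStalkOfMem x hxA₀ := by
        rw [← cancel_mono A₀.ι, Category.assoc, Category.assoc, Category.assoc, Scheme.homOfLE_ι,
          Scheme.homOfLE_ι, hι, Scheme.Opens.fromSpecStalkOfMem_ι]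
      rw [reassoc_of% e1, reassoc_of% e2, ← h1, ha₀]




/-- Let X be a normal algebraic curve over k (separated, of finite type, nonempty, local rings at closed
points of dimension one, all local rings integrally closed domains), Y proper over k, U a dense open
of X and g : U → Y a k-morphism. Then g extends uniquely to a k-morphism X → Y. -/
theorem result (k : Type u) [Field k] (X Y : Scheme.{u}) [X.Over (Spec (CommRingCat.of k))] [Y.Over (Spec (CommRingCat.of k))]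
    [LocallyOfFiniteType (X ↘ (Spec (CommRingCat.of k)))] [QuasiCompact (X ↘ (Spec (CommRingCat.of k)))] [IsSeparated (X ↘ (Spec (CommRingCat.of k)))] [Nonempty X] (hcurve : (∀ x : X, IsClosed ({x} : Set X) → ringKrullDim (X.presheaf.stalk x) = 1)) (hnorm : Pi1.IsNormalScheme X)
    [IsProper (Y ↘ (Spec (CommRingCat.of k)))] (U : X.Opens) (hU : Dense (U : Set X)) (g : (U : Scheme.{u}) ⟶ Y)
    (hg : g ≫ (Y ↘ (Spec (CommRingCat.of k))) = U.ι ≫ (X ↘ (Spec (CommRingCat.of k)))) :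
    ∃! g' : X ⟶ Y, U.ι ≫ g' = g ∧ g' ≫ (Y ↘ (Spec (CommRingCat.of k))) = X ↘ (Spec (CommRingCat.of k)) := by
  have hLN : IsLocallyNoetherian X :=
    S10832.isLocallyNoetherian_of_lft k (X ↘ (Spec (CommRingCat.of k)))
  have hC : CompactSpace X :=
    QuasiCompact.compactSpace_of_compactSpace (X ↘ (Spec (CommRingCat.of k)))
  have hred : IsReduced X := by
    have : ∀ x : X, _root_.IsReduced (X.presheaf.stalk x) := fun x => by
      have := (hnorm x).1
      infer_instance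
    exact isReduced_of_isReduced_stalk X
  have hdomU : IsDominant U.ι := ⟨by
    rw [DenseRange, Scheme.Opens.range_ι]; exact hU⟩
  have hloc : ∀ x : X, ∃ (A : X.Opens) (_ : x ∈ A) (a : A.toScheme ⟶ Y),
      Good (X ↘ (Spec (CommRingCat.of k))) (Y ↘ (Spec (CommRingCat.of k))) U g A a := by
    intro x
    haveI := (hnorm x).1
    haveI := valuationRing_stalk X hcurve hnorm x
    exact local_ext _ _ U hU g hg x
  choose A hxA a ha using hloc
  let A' : Option X → X.Opens := fun o => o.elim U A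
  let a' : ∀ o, (A' o).toScheme ⟶ Y := fun o => match o with
    | none => g
    | some x => a x
  have ha' : ∀ o, Good (X ↘ (Spec (CommRingCat.of k))) (Y ↘ (Spec (CommRingCat.of k))) U g
      (A' o) (a' o) := fun o => match o with
    | none => good_self _ _ U g hg
    | some x => ha x
  have hcov : TopologicalSpace.IsOpenCover A' := by
    rw [TopologicalSpace.IsOpenCover, eq_top_iff]
    intro x _
    exact TopologicalSpace.Opens.mem_iSup.mpr ⟨some x, hxA x⟩
  let 𝒰 := X.openCoverOfIsOpenCover A' hcov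
  have hcompat : ∀ x y, pullback.fst (𝒰.f x) (𝒰.f y) ≫ a' x = pullback.snd _ _ ≫ a' y := by
    intro x y
    refine (cancel_epi (isPullback_opens_inf (A' x) (A' y)).isoPullback.hom).mp ?_
    change _ ≫ pullback.fst (A' x).ι (A' y).ι ≫ a' x = _ ≫ pullback.snd (A' x).ι (A' y).ι ≫ a' y
    rw [IsPullback.isoPullback_hom_fst_assoc, IsPullback.isoPullback_hom_snd_assoc]
    exact good_compat _ _ U hU g (ha' x) (ha' y)
  let g' := 𝒰.glueMorphisms a' hcompat
  have hg'1 : ∀ o, (A' o).ι ≫ g' = a' o := fun o => 𝒰.ι_glueMorphisms a' hcompat o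
  have hover : g' ≫ (Y ↘ (Spec (CommRingCat.of k))) = X ↘ (Spec (CommRingCat.of k)) := by
    refine 𝒰.hom_ext _ _ fun (o : Option X) => ?_
    have h3 := hg'1 o
    have h4 := (ha' o).1
    change (A' o).ι ≫ g' ≫ _ = (A' o).ι ≫ _
    rw [reassoc_of% h3, h4]
  refine ⟨g', ⟨hg'1 none, hover⟩, ?_⟩
  rintro g'' ⟨h1, h2⟩
  refine ext_of_isDominant_of_isSeparated (Y ↘ (Spec (CommRingCat.of k))) ?_ U.ι ?_
  · rw [h2, hover]
  · rw [h1]; exact (hg'1 none).symm

end Groth.Agent.S2344
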