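import Groth.Statements.S2345
import Groth.Agent.Lib.Helper4CurveAlg
import Groth.Agent.Lib.Helper4CurveGlue

set_option autoImplicit false
universe u
open CategoryTheory CategoryTheory.Limits AlgebraicGeometry
attribute [local instance] Curv2.stalkAlgebra
open EGA2

namespace Groth.Agent.S2345

/-- Let K be a finitely generated field extension of k of transcendence degree one. Then there is an
integral normal algebraic curve X, proper over k, whose function field is isomorphic to K compatibly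
with the maps from k. -/
theorem result (k : Type u) [Field k] (K : Type u) [Field K] [Algebra k K]
    (hfg : (⊤ : IntermediateField k K).FG) (htr : Algebra.trdeg k K = 1) :
    ∃ (X : Scheme.{u}) (_ : X.Over (Spec (CommRingCat.of k))) (_ : IsIntegral X), IsProper (X ↘ (Spec (CommRingCat.of k))) ∧ Pi1.IsNormalScheme X ∧
      (∀ x : X, IsClosed ({x} : Set X) → ringKrullDim (X.presheaf.stalk x) = 1) ∧
      ∃ e : X.presheaf.stalk (genericPoint X) ≃+* K, ∀ c : k, e (algebraMap k (X.presheaf.stalk (genericPoint X)) c) = algebraMap k K c := by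
  classical
  obtain ⟨t, ht⟩ := Lib.Helper4.CurveAlg.exists_transcendental htr
  have ht0 : t ≠ 0 := fun h => ht (h ▸ isAlgebraic_zero)
  have ht' : Transcendental k t⁻¹ := fun h => ht (IsAlgebraic.inv_iff.mp h)
  have hle₀ : Algebra.adjoin k {t} ≤ Algebra.adjoin k {t, t⁻¹} := Algebra.adjoin_mono (by simp)
  have hle₁ : Algebra.adjoin k {t⁻¹} ≤ Algebra.adjoin k {t, t⁻¹} := Algebra.adjoin_mono (by simp)
  haveI := Lib.Helper4.CurveAlg.isDedekindDomain_chart hfg htr t ht
  haveI := Lib.Helper4.CurveAlg.isDedekindDomain_chart hfg htr t⁻¹ ht'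
  haveI := Lib.Helper4.CurveAlg.isFractionRing_chart hfg htr t ht
  have hft₀ := Lib.Helper4.CurveAlg.finiteType_chart hfg htr t ht
  have hft₁ := Lib.Helper4.CurveAlg.finiteType_chart hfg htr t⁻¹ ht'
  refine Lib.Helper4.CurveGlue.exists_curve
    (integralClosure (Algebra.adjoin k {t}) K) (integralClosure (Algebra.adjoin k {t⁻¹}) K)
    (integralClosure (Algebra.adjoin k {t, t⁻¹}) K)
    (algebraMap k _) (algebraMap k _)
    (Lib.Helper4.CurveAlg.icMap hle₀) (Lib.Helper4.CurveAlg.icMap hle₁)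
    (Lib.Helper4.CurveAlg.icMap_comp_algebraMap hle₀ hle₁)
    (Lib.Helper4.CurveAlg.chartGen t) (Lib.Helper4.CurveAlg.chartGen t⁻¹) ?_ ?_
    (Lib.Helper4.CurveAlg.icMap_mul_eq_one hle₀ hle₁ _ _ (by
      rw [Lib.Helper4.CurveAlg.coe_chartGen, Lib.Helper4.CurveAlg.coe_chartGen]
      exact mul_inv_cancel₀ ht0))
    (Lib.Helper4.CurveAlg.not_isField_chart hfg htr t ht)
    (Lib.Helper4.CurveAlg.not_isField_chart hfg htr t⁻¹ ht')
    ((RingHom.finiteType_algebraMap).mpr hft₀) ((RingHom.finiteType_algebraMap).mpr hft₁)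
    (Lib.Helper4.CurveAlg.isIntegral_closure t) (Lib.Helper4.CurveAlg.isIntegral_closure t⁻¹)
    (algebraMap _ K) Lib.Helper4.CurveAlg.isFractionRing_toAlgebra
    (fun c => (IsScalarTower.algebraMap_apply k _ K c).symm)
  · refine Lib.Helper4.CurveAlg.isLocalization_away_icMap hle₀
      ⟨t, Algebra.self_mem_adjoin_singleton k t⟩ ht0 (Algebra.subset_adjoin (by simp)) ?_
    intro q hq
    exact Lib.Helper4.CurveAlg.exists_pow_mul_mem t t⁻¹ (mul_inv_cancel₀ ht0) q hq
  · refine Lib.Helper4.CurveAlg.isLocalization_away_icMap hle₁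
      ⟨t⁻¹, Algebra.self_mem_adjoin_singleton k t⁻¹⟩ (inv_ne_zero ht0)
      (Algebra.subset_adjoin (by simp)) ?_
    intro q hq
    refine Lib.Helper4.CurveAlg.exists_pow_mul_mem t⁻¹ t (inv_mul_cancel₀ ht0) q ?_
    rw [Set.pair_comm]
    exact hq

end Groth.Agent.S2345
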