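import Groth.Statements.S2346
import Mathlib
import Groth.Agent.S10832

set_option autoImplicit false
universe u
open CategoryTheory CategoryTheory.Limits AlgebraicGeometry
open EGA2

namespace Groth.Agent.S2346


lemma closed_or_generic (Z : Scheme.{u}) [IrreducibleSpace Z] [CompactSpace Z]
    (hZ : ∀ z : Z, IsClosed ({z} : Set Z) → ringKrullDim (Z.presheaf.stalk z) = 1) (z : Z) :
    IsClosed ({z} : Set Z) ∨ z = genericPoint Z := by
  by_contra hcon
  rw [not_or] at hcon
  obtain ⟨hz1, hz2⟩ := hcon
  obtain ⟨w, hw, hwc⟩ := (isClosed_closure (s := ({z} : Set Z))).exists_closed_singleton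
    ⟨z, subset_closure rfl⟩
  have hzw : z ⤳ w := specializes_iff_mem_closure.mpr hw
  have hne : w ≠ z := by rintro rfl; exact hz1 hwc
  have hξz : genericPoint Z ⤳ z := genericPoint_specializes z
  have h1 : w < z := ⟨hzw, fun h => hne (Specializes.antisymm h hzw).eq⟩
  have h2 : z < genericPoint Z := ⟨hξz, fun h => hz2 (Specializes.antisymm hξz h).eq.symm⟩
  have h3 := Order.coheight_add_one_le h1
  have h4 := Order.coheight_add_one_le h2
  have h5 : Order.coheight w = 1 := by
    have := hZ w hwc
    rw [ringKrullDim_stalk_eq_coheight] at this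
    exact_mod_cast this
  rw [h5] at h3
  have h6 : (1 : ℕ∞) ≤ Order.coheight z := le_trans le_add_self h4
  have h7 : (1 : ℕ∞) + 1 ≤ 1 := le_trans (add_le_add_left h6 1) h3
  norm_num at h7

lemma finite_of_closed_ne_univ (Z : Scheme.{u}) [IrreducibleSpace Z] [IsNoetherian Z]
    (hZ : ∀ z : Z, IsClosed ({z} : Set Z) → ringKrullDim (Z.presheaf.stalk z) = 1)
    {C : Set Z} (hC : IsClosed C) (hne : C ≠ Set.univ) : C.Finite := by
  obtain ⟨S, hSf, hSc, hSi, rfl⟩ := TopologicalSpace.NoetherianSpace.exists_finite_set_isClosed_irreducible hC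
  refine Set.Finite.sUnion hSf fun t ht => ?_
  obtain ⟨d, hd⟩ := QuasiSober.sober (hSi t ht) (hSc t ht)
  rcases closed_or_generic Z hZ d with h | h
  · have : t = {d} := by rw [← hd.def, h.closure_eq]
    rw [this]; exact Set.finite_singleton d
  · exfalso; apply hne
    have : t = Set.univ := by rw [← hd.def, h]; exact (genericPoint_spec Z).def
    exact Set.eq_univ_of_univ_subset (this ▸ Set.subset_sUnion_of_mem ht)




/-- Let X and Y be irreducible algebraic curves over k (separated, of finite type, local rings at closed
points one-dimensional) and f : X → Y a k-morphism. Then f is dominant if and only if every fibre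
f⁻¹(y) is a finite set. -/
theorem result (k : Type u) [Field k] (X Y : Scheme.{u}) [X.Over (Spec (CommRingCat.of k))] [Y.Over (Spec (CommRingCat.of k))]
    [LocallyOfFiniteType (X ↘ (Spec (CommRingCat.of k)))] [QuasiCompact (X ↘ (Spec (CommRingCat.of k)))] [IsSeparated (X ↘ (Spec (CommRingCat.of k)))] [LocallyOfFiniteType (Y ↘ (Spec (CommRingCat.of k)))] [QuasiCompact (Y ↘ (Spec (CommRingCat.of k)))] [IsSeparated (Y ↘ (Spec (CommRingCat.of k)))] [IrreducibleSpace X] [IrreducibleSpace Y]
    (hX : (∀ x : X, IsClosed ({x} : Set X) → ringKrullDim (X.presheaf.stalk x) = 1)) (hY : (∀ x : Y, IsClosed ({x} : Set Y) → ringKrullDim (Y.presheaf.stalk x) = 1))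
    (f : X ⟶ Y) (hf : f ≫ (Y ↘ (Spec (CommRingCat.of k))) = X ↘ (Spec (CommRingCat.of k))) :
    IsDominant f ↔ ∀ y : Y, (f.base ⁻¹' {y}).Finite := by
  have hLNX : IsLocallyNoetherian X :=
    S10832.isLocallyNoetherian_of_lft k (X ↘ (Spec (CommRingCat.of k)))
  have hLNY : IsLocallyNoetherian Y :=
    S10832.isLocallyNoetherian_of_lft k (Y ↘ (Spec (CommRingCat.of k)))
  have hCX : CompactSpace X :=
    QuasiCompact.compactSpace_of_compactSpace (X ↘ (Spec (CommRingCat.of k)))
  have hCY : CompactSpace Y :=
    QuasiCompact.compactSpace_of_compactSpace (Y ↘ (Spec (CommRingCat.of k)))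
  have hNX : IsNoetherian X := {}
  have hNY : IsNoetherian Y := {}
  have hJX : JacobsonSpace X := LocallyOfFiniteType.jacobsonSpace (X ↘ (Spec (CommRingCat.of k)))
  have hJY : JacobsonSpace Y := LocallyOfFiniteType.jacobsonSpace (Y ↘ (Spec (CommRingCat.of k)))
  have hflft : LocallyOfFiniteType f := by
    have : LocallyOfFiniteType (f ≫ (Y ↘ (Spec (CommRingCat.of k)))) := by rw [hf]; infer_instance
    exact locallyOfFiniteType_of_comp f (Y ↘ (Spec (CommRingCat.of k)))
  constructor
  · intro hdom y
    by_cases hy : IsClosed ({y} : Set Y)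
    · refine finite_of_closed_ne_univ X hX (hy.preimage f.continuous) ?_
      intro huniv
      have hr : Set.range f ⊆ {y} := by
        rintro _ ⟨x, rfl⟩
        exact (huniv ▸ Set.mem_univ x : x ∈ f ⁻¹' {y})
      have hd : Dense ({y} : Set Y) := hdom.denseRange.mono hr
      have hall : ∀ b : Y, b = y := fun b => by
        have := hd.closure_eq ▸ Set.mem_univ b
        rwa [hy.closure_eq] at this
      have hmax : IsMax y := fun b _ => by rw [hall b]
      have h0 : Order.coheight y = 0 := Order.coheight_eq_zero.mpr hmax
      have h1 := hY y hy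
      rw [ringKrullDim_stalk_eq_coheight, h0] at h1
      norm_num at h1
    · have hyξ : y = genericPoint Y := (closed_or_generic Y hY y).resolve_left hy
      refine (Set.finite_singleton (genericPoint X)).subset ?_
      intro x hx
      rcases closed_or_generic X hX x with h | h
      · exfalso; apply hy
        have h2 := f.closePoints_subset_preimage_closedPoints h
        have hx' : f x = y := hx
        rw [← hx']; exact h2
      · exact h
  · intro hfin
    refine ⟨?_⟩
    by_contra hnd
    have hC : IsClosed (closure (Set.range f)) := isClosed_closure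
    have hne : closure (Set.range f) ≠ Set.univ := fun h => hnd (dense_iff_closure_eq.mpr h)
    have hfinC := finite_of_closed_ne_univ Y hY hC hne
    have hXfin : (Set.univ : Set X).Finite := by
      have : (Set.univ : Set X) = ⋃ y ∈ closure (Set.range f), f ⁻¹' {y} := by
        ext x
        simp only [Set.mem_univ, Set.mem_iUnion, Set.mem_preimage, Set.mem_singleton_iff,
          exists_prop, exists_eq_right', true_iff]
        exact subset_closure ⟨x, rfl⟩
      rw [this]; exact hfinC.biUnion fun y _ => hfin y
    have hFin : Finite X := Set.finite_univ_iff.mp hXfin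
    have hD : DiscreteTopology X := inferInstance
    obtain ⟨x⟩ := (inferInstance : Nonempty X)
    have hx : IsClosed ({x} : Set X) := isClosed_singleton
    have hmax : IsMax x := fun b hb => by
      have : b = x := specializes_iff_eq.mp hb
      rw [this]
    have h0 : Order.coheight x = 0 := Order.coheight_eq_zero.mpr hmax
    have h1 := hX x hx
    rw [ringKrullDim_stalk_eq_coheight, h0] at h1
    norm_num at h1

end Groth.Agent.S2346
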