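import Groth.Statements.S2347
import Mathlib

set_option autoImplicit false
universe u
open CategoryTheory CategoryTheory.Limits AlgebraicGeometry
open EGA2

namespace Groth.Agent.S2347


lemma ring_bijective {A B K : Type*} [CommRing A] [CommRing B] [Field K] [IsDomain A] [IsDomain B]
    [Algebra A K] [IsFractionRing A K] [IsIntegrallyClosed A] (φ : A →+* B) (hφ : φ.IsIntegral)
    (σ : B →+* K) (h : σ.comp φ = algebraMap A K) : Function.Bijective φ := by
  have hσ : Function.Injective σ := by
    rw [RingHom.injective_iff_ker_eq_bot]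
    algebraize [φ]
    have : Algebra.IsIntegral A B := ⟨fun x => hφ x⟩
    apply Ideal.eq_bot_of_comap_eq_bot (R := A)
    rw [RingHom.comap_ker]
    change RingHom.ker (σ.comp φ) = ⊥
    rw [h]
    exact (RingHom.injective_iff_ker_eq_bot _).mp (IsFractionRing.injective A K)
  constructor
  · intro a a' haa'
    apply IsFractionRing.injective A K
    rw [← h]
    simp [haa']
  · intro b
    have hb : IsIntegral A (σ b) := by
      obtain ⟨p, hp, hpb⟩ := hφ b
      refine ⟨p, hp, ?_⟩
      rw [← h, ← Polynomial.hom_eval₂, hpb, map_zero]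
    obtain ⟨a, ha⟩ := IsIntegrallyClosed.algebraMap_eq_of_integral hb
    refine ⟨a, hσ ?_⟩
    rw [← ha, ← h]
    rfl

lemma isIntegrallyClosed_sections {X : Scheme.{u}} [IsIntegral X] (hX : Pi1.IsNormalScheme X)
    (V : X.Opens) (hV : IsAffineOpen V) [Nonempty V] : IsIntegrallyClosed Γ(X, V) := by
  apply IsIntegrallyClosed.of_localization_maximal
  intro p _ _
  let y : PrimeSpectrum Γ(X, V) := ⟨p, inferInstance⟩
  have hy : hV.fromSpec y ∈ V := by
    have := hV.range_fromSpec
    rw [← SetLike.mem_coe, ← this]
    exact ⟨y, rfl⟩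
  let _ := TopCat.Presheaf.algebra_section_stalk X.presheaf ⟨hV.fromSpec y, hy⟩
  have hloc : IsLocalization p.primeCompl (X.presheaf.stalk (hV.fromSpec y)) :=
    hV.isLocalization_stalk' y hy
  have hIC := (hX (hV.fromSpec y)).2
  exact IsIntegrallyClosed.of_equiv
    (IsLocalization.algEquiv p.primeCompl (X.presheaf.stalk (hV.fromSpec y))
      (Localization.AtPrime p)).toRingEquiv

open Pi1 in


/-- Let X be an integral normal scheme, X' an integral scheme and g : X' → X an integral morphism. If g
has a rational section (a morphism s from a dense open U of X to X' with g ∘ s the inclusion of U),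
then g is an isomorphism. -/
theorem result {X X' : Scheme.{u}} [IsIntegral X] [IsIntegral X'] (hX : Pi1.IsNormalScheme X)
    (g : X' ⟶ X) [IsIntegralHom g] (U : X.Opens) (hU : Dense (U : Set X)) (s : (U : Scheme.{u}) ⟶ X') (hs : s ≫ g = U.ι) :
    IsIso g := by
  have hξU : genericPoint X ∈ U :=
    ((genericPoint_spec X).mem_open_set_iff U.isOpen).mpr (by simpa using hU.nonempty)
  let t : Spec X.functionField ⟶ X' := U.fromSpecStalkOfMem (genericPoint X) hξU ≫ s
  have ht : t ≫ g = X.fromSpecStalk (genericPoint X) := by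
    rw [Category.assoc, hs, Scheme.Opens.fromSpecStalkOfMem_ι]
  suffices H : ∀ V : X.Opens, IsAffineOpen V → IsIso (g.app V) by
    have h1 := (IsZariskiLocalAtTarget.iff_of_iSup_eq_top
      (P := MorphismProperty.isomorphisms Scheme) (f := g)
      (fun V : X.affineOpens => V.1) (iSup_affineOpens_eq_top X)).mpr
    apply h1
    rintro ⟨V, hV⟩
    exact (isIso_morphismRestrict_iff_isIso_app g hV).mpr (H V hV)
  intro V hV
  by_cases hne : (V : Set X).Nonempty
  · have : Nonempty V := hne.to_subtype
    have hξV : genericPoint X ∈ V :=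
      ((genericPoint_spec X).mem_open_set_iff V.isOpen).mpr (by simpa using hne)
    let pt : Spec X.functionField := IsLocalRing.closedPoint X.functionField
    have : Subsingleton (Spec X.functionField) :=
      inferInstanceAs (Subsingleton (PrimeSpectrum X.functionField))
    have hpt : t pt ∈ g ⁻¹ᵁ V := by
      change g (t pt) ∈ V
      rw [← Scheme.Hom.comp_apply, ht, Scheme.fromSpecStalk_closedPoint]
      exact hξV
    have : Nonempty (g ⁻¹ᵁ V : X'.Opens) := ⟨⟨_, hpt⟩⟩
    have hIC := isIntegrallyClosed_sections hX V hV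
    have hFR := functionField_isFractionRing_of_isAffineOpen (X := X) V hV
    have hle : (⊤ : (Spec X.functionField).Opens) ≤ t ⁻¹ᵁ (g ⁻¹ᵁ V) := by
      intro z _
      have : z = pt := Subsingleton.elim _ _
      rw [this]
      exact hpt
    let σ : Γ(X', g ⁻¹ᵁ V) ⟶ X.functionField :=
      t.appLE (g ⁻¹ᵁ V) ⊤ hle ≫ (Scheme.ΓSpecIso X.functionField).hom
    have hσ : g.app V ≫ σ = X.germToFunctionField V := by
      have h1 : g.app V ≫ t.appLE (g ⁻¹ᵁ V) ⊤ hle =
          (X.fromSpecStalk (genericPoint X)).appLE V ⊤ (by rw [← ht]; exact hle) := by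
        rw [Scheme.Hom.app_eq_appLE, Scheme.Hom.appLE_comp_appLE]
        simp only [ht]
      simp only [σ]
      rw [← Category.assoc, h1, Scheme.Hom.appLE, Scheme.fromSpecStalk_app hξV]
      simp only [Category.assoc, ← Functor.map_comp]
      have hid : ∀ (h : (Opposite.op (⊤ : (Spec (X.presheaf.stalk (genericPoint X))).Opens)) ⟶
          Opposite.op ⊤), (Spec (X.presheaf.stalk (genericPoint X))).presheaf.map h = 𝟙 _ := by
        intro h; rw [Subsingleton.elim h (𝟙 _)]; exact CategoryTheory.Functor.map_id _ _
      rw [hid]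
      erw [Category.id_comp, Iso.inv_hom_id, Category.comp_id]
    have hbij := ring_bijective (g.app V).hom (g.isIntegral_app V hV) σ.hom
      (by rw [← CommRingCat.hom_comp, hσ]; rfl)
    exact (ConcreteCategory.isIso_iff_bijective _).mpr hbij
  · have hV0 : V = ⊥ := by
      ext x
      simp only [TopologicalSpace.Opens.coe_bot, Set.mem_empty_iff_false, iff_false]
      exact fun hx => hne ⟨x, hx⟩
    subst hV0
    have h1 : Subsingleton Γ(X, ⊥) := inferInstance
    have h2 : Subsingleton Γ(X', g ⁻¹ᵁ ⊥) := by
      rw [Scheme.Hom.preimage_bot]; infer_instance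
    refine (ConcreteCategory.isIso_iff_bijective _).mpr ⟨fun a b _ => Subsingleton.elim _ _,
      fun b => ⟨0, Subsingleton.elim _ _⟩⟩

end Groth.Agent.S2347
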