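import Groth.Statements.S8851
import Groth.Agent.Lib.Helper20BlowUp

set_option autoImplicit false
universe u
open CategoryTheory CategoryTheory.Limits AlgebraicGeometry TopologicalSpace
open SDiv

namespace Groth.Agent.S8851

set_option linter.style.haveILetI false
open nonZeroDivisors TopologicalSpace

theorem isReduced_sections_of_isReduced_toScheme {X : Scheme.{u}} (U : X.Opens)
    [IsReduced U.toScheme] : _root_.IsReduced Γ(X, U) :=
  isReduced_of_injective U.topIso.inv.hom U.topIso.symm.commRingCatIsoToRingEquiv.injective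

theorem isReduced_toScheme_of_isReduced_sections {X : Scheme.{u}} {U : X.Opens} (hU : IsAffineOpen U)
    [_root_.IsReduced Γ(X, U)] : IsReduced U.toScheme := by
  haveI : IsAffine U.toScheme := hU
  haveI : _root_.IsReduced Γ(U.toScheme, ⊤) :=
    isReduced_of_injective U.topIso.hom.hom U.topIso.commRingCatIsoToRingEquiv.injective
  exact isReduced_of_isAffine_isReduced _


/-- Let X be a reduced scheme, 𝓘 a quasi-coherent ideal sheaf on X and b : X' ⟶ X a blowing up of X in
𝓘. Then X' is reduced. -/
theorem result {X X' : Scheme.{u}} [IsReduced X] (𝓘 : X.IdealSheafData) (b : X' ⟶ X)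
    (hb : BlowUp.IsBlowUp b 𝓘) : IsReduced X' := by
  have hloc : ∀ x' : X', ∃ (U' : X'.Opens), x' ∈ U' ∧ IsReduced U'.toScheme := by
    intro x'
    obtain ⟨U', hU', hx'U', -, t, ht, hE⟩ :=
      Groth.Agent.Lib.Helper20.EffCartier.exists_le_of_isEffCartierIdeal hb.1 x' ⊤ trivial
    refine ⟨U', hx'U', ?_⟩
    have hDW := Groth.Agent.Lib.Helper20.BlowUpBasic.basicOpen_le_preimage_compl 𝓘 b hU' t hE
    haveI := Groth.Agent.Lib.Helper20.BlowUpBasic.isIso_morphismRestrict 𝓘 b hb
    haveI : IsReduced (b ⁻¹ᵁ Groth.Agent.Lib.Helper20.BlowUpBasic.compl 𝓘).toScheme :=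
      isReduced_of_isOpenImmersion (b ∣_ Groth.Agent.Lib.Helper20.BlowUpBasic.compl 𝓘)
    haveI : IsReduced (X'.basicOpen t).toScheme := isReduced_of_isOpenImmersion (X'.homOfLE hDW)
    haveI : _root_.IsReduced Γ(X', X'.basicOpen t) := isReduced_sections_of_isReduced_toScheme _
    have inst := hU'.isLocalization_basicOpen t
    have hinj : Function.Injective (X'.presheaf.map (homOfLE (X'.basicOpen_le t)).op).hom :=
      IsLocalization.injective (M := Submonoid.powers t) Γ(X', X'.basicOpen t)
        (Submonoid.powers_le.2 ht)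
    haveI : _root_.IsReduced Γ(X', U') := isReduced_of_injective _ hinj
    exact isReduced_toScheme_of_isReduced_sections hU'
  choose U' hxU' hred using hloc
  have hcov : IsOpenCover U' := by
    rw [IsOpenCover, eq_top_iff]
    intro x _
    exact Opens.mem_iSup.2 ⟨x, hxU' x⟩
  haveI : ∀ i, IsReduced ((X'.openCoverOfIsOpenCover U' hcov).X i) := hred
  exact IsReduced.of_openCover _ (X'.openCoverOfIsOpenCover U' hcov)


end Groth.Agent.S8851
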