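import Groth.Statements.S2348
import Groth.Agent.Lib.Helper20BlowUp
import Groth.Agent.S8851
import Groth.Agent.S1681

set_option autoImplicit false
universe u
open CategoryTheory CategoryTheory.Limits AlgebraicGeometry
open EGA2

namespace Groth.Agent.S2348

set_option linter.style.haveILetI false
open nonZeroDivisors TopologicalSpace

open Groth.Agent.Lib.Helper20.BlowUpBasic

/-- over the complement of the centre a blowing up induces isomorphisms of residue fields. -/
theorem bijective_residueFieldMap {X Y : Scheme.{u}} (I : Y.IdealSheafData) (b : X ⟶ Y)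
    (hb : BlowUp.IsBlowUp b I) (x : X) (hx : x ∈ b ⁻¹ᵁ compl I) :
    Function.Bijective (b.residueFieldMap x).hom := by
  haveI := isIso_morphismRestrict I b hb
  have hfac : (b ⁻¹ᵁ compl I).ι ≫ b = (b ∣_ compl I) ≫ (compl I).ι := (morphismRestrict_ι b _).symm
  haveI : IsOpenImmersion ((b ⁻¹ᵁ compl I).ι ≫ b) := by rw [hfac]; infer_instance
  obtain ⟨z, rfl⟩ : ∃ z : (b ⁻¹ᵁ compl I).toScheme, (b ⁻¹ᵁ compl I).ι z = x := ⟨⟨x, hx⟩, rfl⟩
  have h1 := Scheme.residueFieldMap_comp (b ⁻¹ᵁ compl I).ι b z
  have h0 : IsIso (((b ⁻¹ᵁ compl I).ι ≫ b).residueFieldMap z) := inferInstance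
  rw [h1] at h0
  have h2 : IsIso (b.residueFieldMap ((b ⁻¹ᵁ compl I).ι z)) :=
    @IsIso.of_isIso_comp_right _ _ _ _ _ (b.residueFieldMap ((b ⁻¹ᵁ compl I).ι z))
      ((b ⁻¹ᵁ compl I).ι.residueFieldMap z) inferInstance h0
  exact ConcreteCategory.bijective_of_isIso _


/-- For an ideal of O_Y: let Y be an integral scheme, I a nonzero quasi-coherent ideal sheaf and b : X →
Y a blowing up of Y in I (characterised by its universal property). Then X is integral, b sends the
generic point of X to that of Y and induces a bijection on their residue fields (b is birational).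
The printed statement also asserts that b is surjective; the proof does not show this and it fails
when I is not of finite type, so it is left out. -/
theorem result {X Y : Scheme.{u}} [IsIntegral Y] (I : Y.IdealSheafData) (hI : I ≠ ⊥)
    (b : X ⟶ Y) (hb : BlowUp.IsBlowUp b I) :
    ∃ (_ : IsIntegral X), ∃ hgen : b.base (genericPoint X) = genericPoint Y,
      Function.Bijective (b.residueFieldMap (genericPoint X)).hom := by
  haveI hred : IsReduced X := Groth.Agent.S8851.result I b hb
  set W := compl I with hWdef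
  haveI := isIso_morphismRestrict I b hb
  -- W is nonempty
  have hWne : ∃ y : Y, y ∈ W := by
    by_contra hcon
    push Not at hcon
    apply hI
    rw [← Scheme.IdealSheafData.support_eq_top_iff]
    ext y
    simp only [Closeds.coe_top, Set.mem_univ, iff_true]
    by_contra hy
    exact hcon y hy
  obtain ⟨y₀, hy₀⟩ := hWne
  let φ := b ∣_ W
  let ψ := inv φ
  have hφb : ∀ z, (φ z).1 = b z.1 := fun z => morphismRestrict_base_coe b W z
  -- the preimage of W is dense in X
  have hdense : Dense ((b ⁻¹ᵁ W : X.Opens) : Set X) := by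
    rw [dense_iff_inter_open]
    rintro O hO ⟨x', hx'O⟩
    obtain ⟨U', hU', hx'U', hU'O, t, ht, hE⟩ :=
      Groth.Agent.Lib.Helper20.EffCartier.exists_le_of_isEffCartierIdeal hb.1 x' ⟨O, hO⟩ hx'O
    have hne : X.basicOpen t ≠ ⊥ := by
      intro hbot
      have ht0 : t = 0 := (basicOpen_eq_bot_iff t).1 hbot
      rw [ht0] at ht
      have : (1 : Γ(X, U')) = 0 := by
        have := (mem_nonZeroDivisors_iff_right.1 ht) 1 (mul_zero 1)
        exact this
      have hU'bot : U' = ⊥ := by
        rw [← Scheme.basicOpen_of_isUnit X (isUnit_one (M := Γ(X, U'))), this, Scheme.basicOpen_zero]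
      rw [hU'bot] at hx'U'
      exact hx'U'
    obtain ⟨x'', hx''⟩ : ∃ x'', x'' ∈ X.basicOpen t := by
      by_contra hcon
      push Not at hcon
      exact hne (by ext z; simp only [Opens.coe_bot, Set.mem_empty_iff_false, iff_false]; exact hcon z)
    exact ⟨x'', hU'O (X.basicOpen_le t hx''), basicOpen_le_preimage_compl I b hU' t hE hx''⟩
  -- irreducibility
  haveI : Nonempty W.toScheme := ⟨⟨y₀, hy₀⟩⟩
  haveI : IsIntegral W.toScheme := isIntegral_of_isOpenImmersion W.ι
  haveI : Nonempty (b ⁻¹ᵁ W).toScheme := ⟨ψ ⟨y₀, hy₀⟩⟩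
  haveI : IsIntegral (b ⁻¹ᵁ W).toScheme := isIntegral_of_isOpenImmersion φ
  have hirr : IsIrreducible ((b ⁻¹ᵁ W : X.Opens) : Set X) := by
    have h1 := (IrreducibleSpace.isIrreducible_univ (b ⁻¹ᵁ W).toScheme).image (b ⁻¹ᵁ W).ι
      (b ⁻¹ᵁ W).ι.continuous.continuousOn
    rw [Set.image_univ, Scheme.Opens.range_ι] at h1
    exact h1
  have hirrX : IsIrreducible (Set.univ : Set X) := by
    rw [← hdense.closure_eq]
    exact hirr.closure
  haveI : IrreducibleSpace X :=
    { isPreirreducible_univ := hirrX.isPreirreducible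
      toNonempty := ⟨hirrX.nonempty.some⟩ }
  have hint : IsIntegral X := isIntegral_of_irreducibleSpace_of_isReduced X
  have hbij := Groth.Agent.S1681.result I b hb
  have hηmax : ∀ y : X, y ⤳ genericPoint X → y = genericPoint X := fun y hy =>
    (hy.antisymm (genericPoint_specializes y)).eq
  have hmaps := hbij.mapsTo hηmax
  refine ⟨hint, ?_, ?_⟩
  · exact (hmaps.1 (genericPoint Y) (genericPoint_specializes _)).symm
  · exact bijective_residueFieldMap I b hb _ hmaps.2


end Groth.Agent.S2348
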