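import Groth.Statements.S2349
import Groth.Agent.Lib.Helper12PullbackPts
import Mathlib.AlgebraicGeometry.Morphisms.Proper

set_option autoImplicit false
universe u
open CategoryTheory CategoryTheory.Limits AlgebraicGeometry
open EGA2

namespace Groth.Agent.S2349

/-- Let f : X → Y be separated and of finite type, and let j_i : X_i → X and h_i : Y_i → Y (i in a
finite index type) be closed immersions with morphisms f_i : X_i → Y_i satisfying j_i ≫ f = f_i ≫
h_i, such that the images of the j_i cover X. Then f is proper if and only if every f_i is proper. -/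
theorem result {X Y : Scheme.{u}} (f : X ⟶ Y) [IsSeparated f] [LocallyOfFiniteType f] [QuasiCompact f]
    (ι : Type u) [Finite ι] (Xi Yi : ι → Scheme.{u}) (j : ∀ i, Xi i ⟶ X) (h : ∀ i, Yi i ⟶ Y) (fi : ∀ i, Xi i ⟶ Yi i)
    [∀ i, IsClosedImmersion (j i)] [∀ i, IsClosedImmersion (h i)] (hcomm : ∀ i, j i ≫ f = fi i ≫ h i)
    (hcov : ∀ x : X, ∃ i, x ∈ Set.range (j i).base) : IsProper f ↔ ∀ i, IsProper (fi i) := by
  constructor
  · intro hf i
    have h1 : IsProper (j i ≫ f) := inferInstance
    have h2 : IsProper (fi i ≫ h i) := by rw [← hcomm i]; exact h1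
    exact IsProper.of_comp (fi i) (h i)
  · intro hfi
    have hprop : ∀ i, IsProper (j i ≫ f) := fun i => by
      rw [hcomm i]; infer_instance
    have huc : UniversallyClosed f := by
      constructor
      intro X' Y' i₁ i₂ f' H
      intro Z hZ
      have hfin : Finite ι := inferInstance
      have key : f' '' Z = ⋃ i, (pullback.fst i₁ (j i) ≫ f') ''
          ((pullback.fst i₁ (j i)) ⁻¹' Z) := by
        ext y
        constructor
        · rintro ⟨x', hx', rfl⟩
          obtain ⟨i, xi, hxi⟩ := hcov (i₁ x')
          obtain ⟨p, hp1, hp2⟩ := Groth.Agent.Lib.Helper12.exists_preimage_of_isPullback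
            (IsPullback.of_hasPullback i₁ (j i)) x' xi hxi.symm
          refine Set.mem_iUnion.mpr ⟨i, p, ?_, ?_⟩
          · change pullback.fst i₁ (j i) p ∈ Z
            rw [hp1]; exact hx'
          · rw [Scheme.Hom.comp_apply, hp1]
        · intro hy
          obtain ⟨i, p, hp, rfl⟩ := Set.mem_iUnion.mp hy
          exact ⟨pullback.fst i₁ (j i) p, hp, by rw [Scheme.Hom.comp_apply]⟩
      rw [key]
      refine isClosed_iUnion_of_finite fun i => ?_
      have sq : IsPullback (pullback.snd i₁ (j i)) (pullback.fst i₁ (j i) ≫ f') (j i ≫ f) i₂ :=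
        (IsPullback.of_hasPullback i₁ (j i)).flip.paste_vert H.flip
      have huc' : UniversallyClosed (pullback.fst i₁ (j i) ≫ f') :=
        MorphismProperty.of_isPullback (P := @UniversallyClosed) sq inferInstance
      exact (pullback.fst i₁ (j i) ≫ f').isClosedMap _
        (hZ.preimage (pullback.fst i₁ (j i)).continuous)
    exact { }

end Groth.Agent.S2349
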