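import Groth.Statements.S2351
import Mathlib

set_option autoImplicit false
universe u
open CategoryTheory CategoryTheory.Limits AlgebraicGeometry
open EGA2

namespace Groth.Agent.S2351


lemma preimage_eq_top (X : Scheme.{u}) [IsIntegral X] (U : X.Opens) (hξU : genericPoint X ∈ U) :
    (X.fromSpecStalk (genericPoint X)) ⁻¹ᵁ U = ⊤ := by
  have : Subsingleton (Spec X.functionField) :=
    inferInstanceAs (Subsingleton (PrimeSpectrum X.functionField))
  let pt : Spec X.functionField := IsLocalRing.closedPoint X.functionField
  ext z
  simp only [TopologicalSpace.Opens.coe_top, Set.mem_univ, iff_true]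
  have : z = pt := Subsingleton.elim _ _
  rw [this]
  change X.fromSpecStalk (genericPoint X) pt ∈ U
  rw [Scheme.fromSpecStalk_closedPoint]
  exact hξU

lemma normal_aux (X : Scheme.{u}) [IsIntegral X]
    [QuasiCompact (X.fromSpecStalk (genericPoint X))]
    [QuasiSeparated (X.fromSpecStalk (genericPoint X))]
    (x : (X.fromSpecStalk (genericPoint X)).normalization) :
    IsIntegrallyClosed ((X.fromSpecStalk (genericPoint X)).normalization.presheaf.stalk x) := by
  set f := X.fromSpecStalk (genericPoint X) with hf
  obtain ⟨_, ⟨U, hU : IsAffineOpen U, rfl⟩, hxU, -⟩ :=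
    X.isBasis_affineOpens.exists_subset_of_mem_open (Set.mem_univ (f.fromNormalization x))
      isOpen_univ
  have hξU : genericPoint X ∈ U :=
    ((genericPoint_spec X).mem_open_set_iff U.isOpen).mpr ⟨_, ⟨Set.mem_univ _, hxU⟩⟩
  have hW : IsAffineOpen (f.fromNormalization ⁻¹ᵁ U) := hU.preimage f.fromNormalization
  have hxW : x ∈ f.fromNormalization ⁻¹ᵁ U := hxU
  letI := (f.app U).hom.toAlgebra
  have htop : f ⁻¹ᵁ U = ⊤ := preimage_eq_top X U hξU
  let e : Γ(Spec X.functionField, f ⁻¹ᵁ U) ≃+* X.functionField :=
    ((Spec X.functionField).presheaf.mapIso (eqToIso (congrArg Opposite.op htop)) ≪≫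
      Scheme.ΓSpecIso X.functionField).commRingCatIsoToRingEquiv
  have hLfield : IsField Γ(Spec X.functionField, f ⁻¹ᵁ U) :=
    MulEquiv.isField (Field.toIsField X.functionField) e.toMulEquiv
  letI : Field Γ(Spec X.functionField, f ⁻¹ᵁ U) := hLfield.toField
  have h1 : IsIntegrallyClosed (integralClosure Γ(X, U) Γ(Spec X.functionField, f ⁻¹ᵁ U)) :=
    IsIntegrallyClosed.of_isIntegrallyClosedIn _ Γ(Spec X.functionField, f ⁻¹ᵁ U)
  have h2 : IsIntegrallyClosed Γ(f.normalization, f.fromNormalization ⁻¹ᵁ U) :=
    IsIntegrallyClosed.of_equiv (f.normalizationObjIso hU).symm.commRingCatIsoToRingEquiv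
  have : Nonempty (f.fromNormalization ⁻¹ᵁ U : f.normalization.Opens) := ⟨⟨x, hxW⟩⟩
  have hint : IsIntegral f.normalization := inferInstance
  have hdom : IsDomain Γ(f.normalization, f.fromNormalization ⁻¹ᵁ U) := inferInstance
  letI := f.normalization.presheaf.algebra_section_stalk
    (⟨x, hxW⟩ : (f.fromNormalization ⁻¹ᵁ U : f.normalization.Opens))
  have hloc := hW.isLocalization_stalk ⟨x, hxW⟩
  exact isIntegrallyClosed_of_isLocalization _ (hW.primeIdealOf ⟨x, hxW⟩).asIdeal.primeCompl
    (Ideal.primeCompl_le_nonZeroDivisors _)



/-- Let X be an integral scheme and X' → X its normalization (integral closure of X in its function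
field). Then X' is integral with integrally closed local rings, the morphism X' → X is surjective,
maps the generic point to the generic point and induces a bijection between the residue fields of
the generic points. (The quasi-compactness/quasi-separatedness binders on Spec K(X) → X always hold;
they are only needed to form Mathlib's relative normalization.) -/
theorem result (X : Scheme.{u}) [IsIntegral X]
    [QuasiCompact (X.fromSpecStalk (genericPoint X))] [QuasiSeparated (X.fromSpecStalk (genericPoint X))] :
    ∃ (_ : IsIntegral (Curv2.normalization X)), Pi1.IsNormalScheme (Curv2.normalization X) ∧ Surjective (Curv2.normalizationι X) ∧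
      ∃ hgen : (Curv2.normalizationι X).base (genericPoint (Curv2.normalization X)) = genericPoint X,
        Function.Bijective ((Curv2.normalizationι X).residueFieldMap (genericPoint (Curv2.normalization X))).hom := by
  set f := X.fromSpecStalk (genericPoint X) with hf
  have hint : IsIntegral f.normalization := inferInstance
  change ∃ (_ : IsIntegral f.normalization), Pi1.IsNormalScheme f.normalization ∧
    Surjective f.fromNormalization ∧
      ∃ hgen : f.fromNormalization.base (genericPoint f.normalization) = genericPoint X,
        Function.Bijective (f.fromNormalization.residueFieldMap (genericPoint f.normalization)).hom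
  let pt : Spec X.functionField := IsLocalRing.closedPoint X.functionField
  have hsub : Subsingleton (Spec X.functionField) :=
    inferInstanceAs (Subsingleton (PrimeSpectrum X.functionField))
  have htpt : f.toNormalization pt = genericPoint f.normalization := by
    apply ((genericPoint_spec f.normalization).eq _).symm
    rw [isGenericPoint_def]
    have hd : DenseRange f.toNormalization := f.toNormalization.denseRange
    have : Set.range f.toNormalization = {f.toNormalization pt} := by
      ext w
      constructor
      · rintro ⟨z, rfl⟩
        rw [Subsingleton.elim z pt]; rfl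
      · rintro rfl
        exact ⟨pt, rfl⟩
    rw [← this]
    exact hd.closure_range
  have hνt : f.fromNormalization (f.toNormalization pt) = genericPoint X := by
    rw [← Scheme.Hom.comp_apply, f.toNormalization_fromNormalization]
    exact Scheme.fromSpecStalk_closedPoint
  refine ⟨hint, ?_, ?_, ?_, ?_⟩
  · intro x
    exact ⟨inferInstance, normal_aux X x⟩
  · constructor
    intro y
    have hcl : IsClosedMap f.fromNormalization := f.fromNormalization.isClosedMap
    have h1 : IsClosed (Set.range f.fromNormalization) := hcl.isClosed_range
    have hξ : genericPoint X ∈ Set.range f.fromNormalization := ⟨_, hνt⟩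
    have h2 : closure {genericPoint X} ⊆ Set.range f.fromNormalization :=
      closure_minimal (Set.singleton_subset_iff.mpr hξ) h1
    rw [(genericPoint_spec X).def] at h2
    exact h2 (Set.mem_univ y)
  · rw [← htpt]; exact hνt
  · rw [← htpt]
    have hcomp := Scheme.residueFieldMap_comp f.toNormalization f.fromNormalization pt
    have hsurj_f : Function.Surjective (f.residueFieldMap pt).hom := by
      intro z
      obtain ⟨b, rfl⟩ := IsLocalRing.residue_surjective z
      obtain ⟨a, rfl⟩ := f.stalkMap_surjective pt b
      refine ⟨X.residue (f pt) a, ?_⟩
      have := Scheme.residue_residueFieldMap f pt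
      exact congr($(this) a)
    have hsurj_c : Function.Surjective
        ((f.toNormalization ≫ f.fromNormalization).residueFieldMap pt).hom := by
      rw [Scheme.Hom.residueFieldMap_congr f.toNormalization_fromNormalization pt]
      rw [CommRingCat.hom_comp, RingHom.coe_comp]
      exact hsurj_f.comp
        (ConcreteCategory.bijective_of_isIso (X.residueFieldCongr _).hom).surjective
    refine ⟨RingHom.injective _, fun z => ?_⟩
    obtain ⟨w, hw⟩ := hsurj_c ((f.toNormalization.residueFieldMap pt).hom z)
    have h3 := congr($hcomp w)
    refine ⟨w, RingHom.injective (f.toNormalization.residueFieldMap pt).hom ?_⟩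
    exact h3.symm.trans hw

end Groth.Agent.S2351
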