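import Groth.Statements.S2352
import Mathlib
import Groth.Agent.S12453

set_option autoImplicit false
universe u
open CategoryTheory CategoryTheory.Limits AlgebraicGeometry
open EGA2

namespace Groth.Agent.S2352

/-- Let A be a graded ring whose irrelevant ideal is generated by the elements of degree one. Then on
Proj A every twisting sheaf O(n), n ∈ ℤ, is invertible; O(m) ⊗ O(n) ≅ O(m + n) for all integers m
and n; and O(n) ≅ O(1)^{⊗ n} for every natural number n. -/
theorem result {R A : Type u} [CommRing R] [CommRing A] [Algebra R A] (𝒜 : ℕ → Submodule R A) [GradedAlgebra 𝒜] (hgen : (HomogeneousIdeal.irrelevant 𝒜).toIdeal = Ideal.span (𝒜 1 : Set A)) :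
    (∀ n : ℤ, PicF.IsInvertible (Twist.twist 𝒜 n)) ∧
      (∀ m n : ℤ, Nonempty (CohB1.tensorMod (Twist.twist 𝒜 m) (Twist.twist 𝒜 n) ≅ Twist.twist 𝒜 (m + n))) ∧
      ∀ n : ℕ, Nonempty (Twist.twist 𝒜 (n : ℤ) ≅ CohB1.tensorPow (Twist.twist 𝒜 1) n) := by
  have hcov : (⨆ f : 𝒜 1, Proj.basicOpen 𝒜 (f : A)) = ⊤ := by
    rw [eq_top_iff]
    intro y _
    have hy : ∃ f : 𝒜 1, (f : A) ∉ (y : ProjectiveSpectrum 𝒜).asHomogeneousIdeal := by
      by_contra hcon
      push Not at hcon
      apply (y : ProjectiveSpectrum 𝒜).not_irrelevant_le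
      have h1 : (HomogeneousIdeal.irrelevant 𝒜).toIdeal ≤
          (y : ProjectiveSpectrum 𝒜).asHomogeneousIdeal.toIdeal := by
        rw [hgen, Ideal.span_le]
        intro f hf
        exact hcon ⟨f, hf⟩
      exact h1
    obtain ⟨f, hf⟩ := hy
    exact TopologicalSpace.Opens.mem_iSup.mpr
      ⟨f, (ProjectiveSpectrum.mem_basicOpen 𝒜 (f : A) y).mpr hf⟩
  exact Groth.Agent.S12453.result 𝒜 hcov

end Groth.Agent.S2352
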