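import Groth.Statements.S2354
import Mathlib
import Groth.Agent.S2344

set_option autoImplicit false
universe u
open CategoryTheory CategoryTheory.Limits AlgebraicGeometry
open EGA2

namespace Groth.Agent.S2354


open Groth.Agent.S2344 IsLocalRing

section RegularDimOne

variable {A : Type u} [CommRing A] [IsLocalRing A] [IsNoetherianRing A]

/-- In a Noetherian local ring with principal maximal ideal, every non-maximal prime is zero.
(copied from `Groth.Agent.Lib.Helper28Normal`) -/
theorem eq_bot_of_lt_maximalIdeal_of_isPrincipal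
    (hm : (IsLocalRing.maximalIdeal A).IsPrincipal) {P : Ideal A} [hP : P.IsPrime]
    (hlt : P < IsLocalRing.maximalIdeal A) : P = ⊥ := by
  obtain ⟨t, ht⟩ := hm
  have ht' : IsLocalRing.maximalIdeal A = Ideal.span {t} := ht
  have htP : t ∉ P := by
    intro h
    apply hlt.not_ge
    rw [ht']
    exact (Ideal.span_singleton_le_iff_mem P).mpr h
  apply Submodule.eq_bot_of_le_smul_of_le_jacobson_bot (IsLocalRing.maximalIdeal A) P
    ((isNoetherianRing_iff_ideal_fg A).mp inferInstance P) _
    (IsLocalRing.maximalIdeal_le_jacobson ⊥)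
  intro x hx
  have hxm : x ∈ IsLocalRing.maximalIdeal A := hlt.le hx
  rw [ht', Ideal.mem_span_singleton'] at hxm
  obtain ⟨y, rfl⟩ := hxm
  have hy : y ∈ P := (hP.mem_or_mem hx).resolve_right htP
  rw [mul_comm, ← smul_eq_mul]
  apply Submodule.smul_mem_smul _ hy
  rw [ht']
  exact Ideal.mem_span_singleton_self t

/-- A regular local ring of dimension at most one is an integrally closed domain.
(copied from `Groth.Agent.Lib.Helper28Normal`) -/
theorem isDomain_and_isIntegrallyClosed_of_isRegularLocalRing_of_dim_le_one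
    (hreg : IsRegularLocalRing A) (hdim : ringKrullDim A ≤ 1) :
    IsDomain A ∧ IsIntegrallyClosed A := by
  have h := hreg.spanFinrank_maximalIdeal
  have hle : (IsLocalRing.maximalIdeal A).spanFinrank ≤ 1 := by
    have : (((IsLocalRing.maximalIdeal A).spanFinrank : ℕ) : WithBot ℕ∞) ≤ ((1 : ℕ) : WithBot ℕ∞) := by
      rw [h]; exact_mod_cast hdim
    exact_mod_cast this
  rcases Nat.le_one_iff_eq_zero_or_eq_one.mp hle with h0 | h1
  · have hbot : IsLocalRing.maximalIdeal A = ⊥ :=
      (Submodule.spanFinrank_eq_zero_iff_eq_bot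
        ((isNoetherianRing_iff_ideal_fg A).mp inferInstance _)).mp h0
    have hf : IsField A := IsLocalRing.isField_iff_maximalIdeal_eq.mpr hbot
    let _ := hf.toField
    exact ⟨inferInstance, inferInstance⟩
  · obtain ⟨hprinc, hne⟩ := (Submodule.spanFinrank_eq_one_iff _).mp h1
    have hdim1 : ringKrullDim A = 1 := by rw [← h, h1]; rfl
    have hht : (IsLocalRing.maximalIdeal A).height = 1 := by
      have := IsLocalRing.maximalIdeal_height_eq_ringKrullDim (R := A)
      rw [hdim1] at this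
      exact_mod_cast this
    obtain ⟨P, hPmin, hPle⟩ := Ideal.exists_minimalPrimes_le
      (bot_le : (⊥ : Ideal A) ≤ IsLocalRing.maximalIdeal A)
    have hPprime : P.IsPrime := hPmin.1.1
    have hP0 : P.height = 0 := Ideal.height_eq_zero_iff.mpr hPmin
    have hPne : P ≠ IsLocalRing.maximalIdeal A := by
      intro h'
      rw [h', hht] at hP0
      exact one_ne_zero hP0
    have hPbot : P = ⊥ := eq_bot_of_lt_maximalIdeal_of_isPrincipal hprinc (lt_of_le_of_ne hPle hPne)
    have hdom : IsDomain A := by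
      rw [hPbot] at hPprime
      exact IsDomain.of_bot_isPrime A
    refine ⟨hdom, ?_⟩
    have h43 : (IsLocalRing.maximalIdeal A).IsPrincipal ↔ (IsIntegrallyClosed A ∧
        ∀ P : Ideal A, P ≠ ⊥ → P.IsPrime → P = IsLocalRing.maximalIdeal A) :=
      (tfae_of_isNoetherianRing_of_isLocalRing_of_isDomain A).out 4 3
    exact (h43.mp hprinc).1

end RegularDimOne

/-- Base change of a closed map along `Spec 𝒪_{Y,y} ⟶ Y` is specializing. -/
lemma specializingMap_pullback_fst_fromSpecStalk {X Y : Scheme.{u}} (f : X ⟶ Y)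
    (hcl : IsClosedMap f.base) (y : Y) :
    SpecializingMap (pullback.fst (Y.fromSpecStalk y) f).base := by
  intro p t hpt
  have h1 : f (pullback.snd (Y.fromSpecStalk y) f p) ⤳ Y.fromSpecStalk y t := by
    have h2 : f (pullback.snd (Y.fromSpecStalk y) f p) =
        Y.fromSpecStalk y (pullback.fst (Y.fromSpecStalk y) f p) := by
      rw [← Scheme.Hom.comp_apply, ← Scheme.Hom.comp_apply, pullback.condition]
    rw [h2]
    exact hpt.map (Y.fromSpecStalk y).continuous
  obtain ⟨x', hx', hfx'⟩ := hcl.specializingMap h1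
  obtain ⟨p', hp'1, hp'2⟩ := Scheme.Pullback.exists_preimage_pullback t x' hfx'.symm
  refine ⟨p', ?_, hp'1⟩
  change p ⤳ p'
  rw [← (pullback.snd (Y.fromSpecStalk y) f).isEmbedding.isInducing.specializes_iff, hp'2]
  exact hx'


set_option backward.isDefEq.respectTransparency false in
/-- The existence part of the valuative criterion for a single square, assuming only that the base
change along the bottom map is specializing (adapted from Mathlib's
`ValuativeCriterion.Existence.of_specializingMap`). -/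
lemma hasLift_of_specializingMap {X Y : Scheme.{u}} (f : X ⟶ Y) (Sq : ValuativeCommSq f)
    (H : SpecializingMap (pullback.fst Sq.i₂ f).base) : Sq.commSq.HasLift := by
  obtain ⟨R, K, i₁, i₂, ⟨w⟩⟩ := Sq
  have : IsDomain (CommRingCat.of R) := ‹_›
  have : ValuationRing (CommRingCat.of R) := ‹_›
  let : Field (CommRingCat.of K) := ‹_›
  let lft := pullback.lift (Spec.map (CommRingCat.ofHom (algebraMap R K))) i₁ w.symm
  obtain ⟨x, h₁, h₂⟩ := @H (lft (closedPoint _)) _ (specializes_closedPoint (R := R) _)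
  let e : CommRingCat.of R ≅ (Spec <| .of R).presheaf.stalk (pullback.fst i₂ f x) :=
    (stalkClosedPointIso (.of R)).symm ≪≫
      (Spec <| .of R).presheaf.stalkCongr (.of_eq h₂.symm)
  let α := e.hom ≫ (pullback.fst i₂ f).stalkMap x
  have : IsLocalHom e.hom.hom := isLocalHom_of_isIso e.hom
  have : IsLocalHom α.hom := inferInstanceAs
    (IsLocalHom (((pullback.fst i₂ f).stalkMap x).hom.comp e.hom.hom))
  let β := (pullback i₂ f).presheaf.stalkSpecializes h₁ ≫ Scheme.stalkClosedPointTo lft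
  have hαβ : α ≫ β = CommRingCat.ofHom (algebraMap R K) := by
    simp only [CommRingCat.coe_of, Iso.trans_hom, Iso.symm_hom, TopCat.Presheaf.stalkCongr_hom,
      Category.assoc, α, e, β, stalkClosedPointIso_inv, StructureSheaf.toStalk]
    change (Scheme.ΓSpecIso (.of R)).inv ≫ (Spec <| .of R).presheaf.germ _ _ _ ≫ _ = _
    simp only [TopCat.Presheaf.germ_stalkSpecializes_assoc, Scheme.Hom.germ_stalkMap_assoc]
    simp only [TopologicalSpace.Opens.map_top]
    rw [Scheme.germ_stalkClosedPointTo lft ⊤ trivial]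
    erw [← Scheme.Hom.comp_app_assoc lft (pullback.fst i₂ f)]
    rw [pullback.lift_fst]
    simp
  have hbij := (bijective_rangeRestrict_comp_of_valuationRing (R := R) (K := K) α.hom β.hom
    (CommRingCat.hom_ext_iff.mp hαβ))
  let φ : (pullback i₂ f).presheaf.stalk x ⟶ CommRingCat.of R := CommRingCat.ofHom <|
    (RingEquiv.ofBijective _ hbij).symm.toRingHom.comp β.hom.rangeRestrict
  have hαφ : α ≫ φ = 𝟙 _ := by ext x; exact (RingEquiv.ofBijective _ hbij).symm_apply_apply x
  have hαφ' : (pullback.fst i₂ f).stalkMap x ≫ φ = e.inv := by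
    rw [← cancel_epi e.hom, ← Category.assoc, hαφ, e.hom_inv_id]
  have hφβ : φ ≫ CommRingCat.ofHom (algebraMap R K) = β :=
    hαβ ▸ CommRingCat.hom_ext (RingHom.ext fun x ↦ congr_arg Subtype.val
      ((RingEquiv.ofBijective _ hbij).apply_symm_apply (β.hom.rangeRestrict x)))
  refine ⟨⟨⟨Spec.map ((pullback.snd i₂ f).stalkMap x ≫ φ) ≫ X.fromSpecStalk _, ?_, ?_⟩⟩⟩
  · simp only [← Spec.map_comp_assoc, Category.assoc, hφβ]
    simp only [Spec.map_comp, Category.assoc, Scheme.SpecMap_stalkMap_fromSpecStalk,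
      Scheme.SpecMap_stalkSpecializes_fromSpecStalk_assoc, β]
    rw [Scheme.Spec_stalkClosedPointTo_fromSpecStalk_assoc]
    simp [lft]
  · simp only [Spec.map_comp, Category.assoc, Scheme.SpecMap_stalkMap_fromSpecStalk,
      ← pullback.condition]
    rw [← Scheme.SpecMap_stalkMap_fromSpecStalk_assoc, ← Spec.map_comp_assoc, hαφ']
    simp only [Iso.trans_inv, TopCat.Presheaf.stalkCongr_inv, Iso.symm_inv, Spec.map_comp,
      Category.assoc, Scheme.SpecMap_stalkSpecializes_fromSpecStalk_assoc, e]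
    rw [← Spec_stalkClosedPointIso, ← Spec.map_comp_assoc,
      Iso.inv_hom_id, Spec.map_id, Category.id_comp]


set_option maxHeartbeats 1000000 in
lemma local_ext' {X Y : Scheme.{u}} (f : X ⟶ Y) [IsReduced Y] [IsLocallyNoetherian Y]
    [LocallyOfFiniteType f] [IsSeparated f] (hcl : IsClosedMap f.base)
    (V : Y.Opens) (hV : Dense (V : Set Y)) (s : V.toScheme ⟶ X) (hs : s ≫ f = V.ι ≫ 𝟙 Y)
    (y : Y) [IsDomain (Y.presheaf.stalk y)] [ValuationRing (Y.presheaf.stalk y)] :
    ∃ (A : Y.Opens) (_ : y ∈ A) (a : A.toScheme ⟶ X), Good (𝟙 Y) f V s A a := by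
  obtain ⟨B, hxB, hB⟩ := S2258.result Y y (by rw [nilradical_eq_zero]; exact Ideal.isPrime_bot)
  obtain ⟨ξ, hξ⟩ := QuasiSober.sober hB.closure isClosed_closure
  have hξU : ξ ∈ V := (hξ.mem_open_set_iff V.isOpen).mpr (by
    obtain ⟨z, hz1, hz2⟩ := hV.inter_open_nonempty B B.isOpen ⟨y, hxB⟩
    exact ⟨z, subset_closure hz1, hz2⟩)
  have hξB : ∀ z ∈ B, ξ ⤳ z := fun z hz => by
    rw [specializes_iff_mem_closure, hξ.def]; exact subset_closure hz
  let R := Y.presheaf.stalk y
  let K := FractionRing R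
  let φ : R ⟶ CommRingCat.of K := CommRingCat.ofHom (algebraMap R K)
  let j : Spec (.of K) ⟶ Y := Spec.map φ ≫ Y.fromSpecStalk y
  have hη : ∀ p, j p ⤳ ξ := by
    intro p
    have : ξ ∈ Set.range (Y.fromSpecStalk y) := by
      rw [Scheme.range_fromSpecStalk]; exact hξB y hxB
    obtain ⟨q, rfl⟩ := this
    have h1 : (Spec.map φ p) ⤳ q := by
      refine (PrimeSpectrum.le_iff_specializes (Spec.map φ p : PrimeSpectrum R) q).mp ?_
      intro r hr
      have h2 : algebraMap R K r ∈ p.asIdeal := hr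
      have h3 : p.asIdeal = ⊥ := by
        have := PrimeSpectrum.isPrime p
        exact Ideal.eq_bot_of_prime p.asIdeal
      rw [h3, Ideal.mem_bot] at h2
      have h4 : r = 0 := (IsFractionRing.injective R K) (by rw [h2, map_zero])
      rw [h4]; exact zero_mem _
    exact h1.map (Y.fromSpecStalk y).continuous
  have hjU : ∀ p, j p ∈ V := fun p => (hη p).mem_open V.isOpen hξU
  let jU : Spec (.of K) ⟶ V.toScheme := IsOpenImmersion.lift V.ι j (by
    rintro _ ⟨p, rfl⟩; simpa using hjU p)
  have hjU' : jU ≫ V.ι = j := IsOpenImmersion.lift_fac _ _ _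
  let i₁ : Spec (.of K) ⟶ X := jU ≫ s
  let i₂ : Spec (.of R) ⟶ Y := Y.fromSpecStalk y
  have hsq : CommSq i₁ (Spec.map (CommRingCat.ofHom (algebraMap R K))) f i₂ := ⟨by
    change (jU ≫ s) ≫ f = Spec.map φ ≫ Y.fromSpecStalk y
    rw [Category.assoc, hs, Category.comp_id, hjU']⟩
  obtain ⟨⟨ℓ, h1, h2⟩⟩ := (hasLift_of_specializingMap f ⟨R, K, i₁, i₂, hsq⟩
    (specializingMap_pullback_fst_fromSpecStalk f hcl y)).exists_lift
  change Spec.map φ ≫ ℓ = jU ≫ s at h1
  change ℓ ≫ f = Y.fromSpecStalk y at h2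
  obtain ⟨A₀, hxA₀, a₀, ha₀, ha₀'⟩ := spread_out_of_isGermInjective' (𝟙 Y) f ℓ
    (by rw [h2, Category.comp_id])
  refine ⟨A₀ ⊓ B, ⟨hxA₀, hxB⟩, Y.homOfLE inf_le_left ≫ a₀, ?_, ?_⟩
  · rw [Category.assoc, ha₀', Scheme.homOfLE_ι_assoc]
  · have hjW : ∀ p, j p ∈ (A₀ ⊓ B) ⊓ V := by
      intro p
      refine ⟨⟨?_, ?_⟩, hjU p⟩
      · exact ((hη p).trans (hξB y hxB)).mem_open A₀.isOpen hxA₀
      · exact ((hη p).trans (hξB y hxB)).mem_open B.isOpen hxB
    let ι : Spec (.of K) ⟶ ((A₀ ⊓ B) ⊓ V).toScheme := IsOpenImmersion.lift (Scheme.Opens.ι _) j (by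
      rintro _ ⟨p, rfl⟩; simpa using hjW p)
    have hι : ι ≫ (Scheme.Opens.ι _) = j := IsOpenImmersion.lift_fac _ _ _
    have hdom : IsDominant ι := by
      refine ⟨fun w => ?_⟩
      let p₀ : Spec (.of K) := IsLocalRing.closedPoint K
      have h3 : (Scheme.Opens.ι _) (ι p₀) = j p₀ := by
        have := congr($(hι) p₀)
        exact this
      have h4 : ι p₀ ⤳ w := by
        rw [← (Scheme.Opens.ι _).isOpenEmbedding.isInducing.specializes_iff, h3]
        exact (hη p₀).trans (hξB _ w.2.1.2)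
      exact closure_mono (Set.singleton_subset_iff.mpr (Set.mem_range_self p₀))
        (specializes_iff_mem_closure.mp h4)
    refine ext_of_isDominant_of_isSeparated f ?_ ι ?_
    · rw [Category.assoc, Category.assoc, Category.assoc, ha₀', hs, Scheme.homOfLE_ι_assoc,
        Scheme.homOfLE_ι_assoc, Scheme.homOfLE_ι_assoc]
    · have e1 : ι ≫ Y.homOfLE (inf_le_right : (A₀ ⊓ B) ⊓ V ≤ V) = jU := by
        rw [← cancel_mono V.ι, Category.assoc, Scheme.homOfLE_ι, hι, hjU']
      have e2 : ι ≫ Y.homOfLE (inf_le_left : (A₀ ⊓ B) ⊓ V ≤ A₀ ⊓ B) ≫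
          Y.homOfLE (inf_le_left : A₀ ⊓ B ≤ A₀) = Spec.map φ ≫ A₀.fromSpecStalkOfMem y hxA₀ := by
        rw [← cancel_mono A₀.ι, Category.assoc, Category.assoc, Category.assoc, Scheme.homOfLE_ι,
          Scheme.homOfLE_ι, hι, Scheme.Opens.fromSpecStalkOfMem_ι]
      rw [reassoc_of% e1, reassoc_of% e2, ← h1, ha₀]




/-- Extension over points of codimension ≤ 1: let Y be reduced and locally Noetherian with regular local
ring at every point whose local ring has dimension at most one, f : X → Y separated, of finite type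
and closed as a map, V a dense open of Y and s : V → X a section of f over V. Then s extends to a
section of f over an open U ⊇ V containing every point of Y whose local ring has dimension at most
one. (The source states that the indeterminacy locus has codimension ≥ 2 under the hypothesis that
the non-regular locus has codimension ≥ 2; with codimension measured by dimensions of local rings
this pointwise form is equivalent.) -/
theorem result {X Y : Scheme.{u}} [IsLocallyNoetherian Y] [IsReduced Y]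
    (hreg : ∀ y : Y, ringKrullDim (Y.presheaf.stalk y) ≤ 1 → IsRegularLocalRing (Y.presheaf.stalk y))
    (f : X ⟶ Y) [IsSeparated f] [LocallyOfFiniteType f] [QuasiCompact f] (hcl : IsClosedMap f.base)
    (V : Y.Opens) (hV : Dense (V : Set Y)) (s : (V : Scheme.{u}) ⟶ X) (hs : s ≫ f = V.ι) :
    ∃ (U : Y.Opens) (hVU : V ≤ U) (s' : (U : Scheme.{u}) ⟶ X), s' ≫ f = U.ι ∧ Y.homOfLE hVU ≫ s' = s ∧
      ∀ y : Y, ringKrullDim (Y.presheaf.stalk y) ≤ 1 → y ∈ U := by
  have hs' : s ≫ f = V.ι ≫ 𝟙 Y := by rw [hs, Category.comp_id]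
  let T := {y : Y // ringKrullDim (Y.presheaf.stalk y) ≤ 1}
  have hloc : ∀ t : T, ∃ (A : Y.Opens) (_ : t.1 ∈ A) (a : A.toScheme ⟶ X),
      Good (𝟙 Y) f V s A a := by
    rintro ⟨y, hy⟩
    have hR := hreg y hy
    obtain ⟨h1, h2⟩ := isDomain_and_isIntegrallyClosed_of_isRegularLocalRing_of_dim_le_one hR hy
    haveI := valuationRing_of_dim_le_one _ hy
    exact local_ext' f hcl V hV s hs' y
  choose A hxA a ha using hloc
  let A' : Option T → Y.Opens := fun o => o.elim V A
  let a' : ∀ o, (A' o).toScheme ⟶ X := fun o => match o with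
    | none => s
    | some t => a t
  have ha' : ∀ o, Good (𝟙 Y) f V s (A' o) (a' o) := fun o => match o with
    | none => good_self _ _ V s hs'
    | some t => ha t
  let 𝒰 := Scheme.Opens.iSupOpenCover A'
  have hcompat : ∀ x y, pullback.fst (𝒰.f x) (𝒰.f y) ≫ a' x = pullback.snd _ _ ≫ a' y := by
    intro x y
    refine (cancel_epi
      (isPullback_opens_inf_le (le_iSup A' x) (le_iSup A' y)).isoPullback.hom).mp ?_
    change _ ≫ pullback.fst (Y.homOfLE _) (Y.homOfLE _) ≫ a' x =
      _ ≫ pullback.snd (Y.homOfLE _) (Y.homOfLE _) ≫ a' y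
    rw [IsPullback.isoPullback_hom_fst_assoc, IsPullback.isoPullback_hom_snd_assoc]
    exact good_compat _ _ V hV s (ha' x) (ha' y)
  let s' := 𝒰.glueMorphisms a' hcompat
  have hs'1 : ∀ o, Y.homOfLE (le_iSup A' o) ≫ s' = a' o :=
    fun o => 𝒰.ι_glueMorphisms a' hcompat o
  refine ⟨⨆ o, A' o, le_iSup A' none, s', ?_, hs'1 none, ?_⟩
  · refine 𝒰.hom_ext _ _ fun (o : Option T) => ?_
    have h3 := hs'1 o
    have h4 := (ha' o).1
    change Y.homOfLE (le_iSup A' o) ≫ s' ≫ f = Y.homOfLE (le_iSup A' o) ≫ (⨆ o, A' o).ι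
    rw [reassoc_of% h3, h4, Scheme.homOfLE_ι, Category.comp_id]
  · intro y hy
    exact TopologicalSpace.Opens.mem_iSup.mpr ⟨some ⟨y, hy⟩, hxA ⟨y, hy⟩⟩

end Groth.Agent.S2354
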