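import Groth.Statements.S2355
import Mathlib
import Groth.Agent.Lib.Helper23PB2
-- import your own Groth.Agent.* helpers here

set_option autoImplicit false
universe u
open CategoryTheory CategoryTheory.Limits AlgebraicGeometry
open EGA2

namespace Groth.Agent.S2355
open Groth.Agent.Lib.Helper23.PB Groth.Agent.Lib.Helper23.AmpleIso


theorem isQuasiAffine_of_eq {X : Scheme.{u}} {A B : X.Opens} (h : A = B) (hA : Scheme.IsQuasiAffine (A : Scheme.{u})) :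
    Scheme.IsQuasiAffine (B : Scheme.{u}) := by
  subst h; exact hA

theorem isQuasiAffine_morphismRestrict_preimage {X X' : Scheme.{u}} (g : X' ⟶ X) (hg : Mor2.IsQuasiAffine g)
    (U : X.Opens) (A' : (↑U : Scheme.{u}).Opens) (hA' : IsAffineOpen A') :
    Scheme.IsQuasiAffine (((g ∣_ U) ⁻¹ᵁ A' : (↑(g ⁻¹ᵁ U) : Scheme.{u}).Opens) : Scheme.{u}) := by
  have h1 : Scheme.IsQuasiAffine ((g ⁻¹ᵁ (U.ι ''ᵁ A') : X'.Opens) : Scheme.{u}) :=
    hg.2 _ (hA'.image_of_isOpenImmersion U.ι)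
  have h2 : Scheme.IsQuasiAffine (((g ⁻¹ᵁ U).ι ''ᵁ ((g ∣_ U) ⁻¹ᵁ A') : X'.Opens) : Scheme.{u}) :=
    isQuasiAffine_of_eq (image_morphismRestrict_preimage g U A').symm h1
  let φ := (g ⁻¹ᵁ U).ι.isoImage ((g ∣_ U) ⁻¹ᵁ A')
  haveI := h2
  haveI : CompactSpace ↥(((g ∣_ U) ⁻¹ᵁ A' : (↑(g ⁻¹ᵁ U) : Scheme.{u}).Opens) : Scheme.{u}) :=
    (Scheme.homeoOfIso φ).symm.compactSpace
  exact Scheme.IsQuasiAffine.of_isImmersion φ.hom

/-- Let f : X → Y be quasi-compact, g : X' → X quasi-affine and L an O_X-module ample relative to f.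
Then g^* L is ample relative to g ≫ f. -/
theorem result {X X' Y : Scheme.{u}} (f : X ⟶ Y) [QuasiCompact f] (g : X' ⟶ X) (hg : Mor2.IsQuasiAffine g)
    (L : X.Modules) (hL : RelAmple.IsRelAmple f L) :
    RelAmple.IsRelAmple (g ≫ f) ((Scheme.Modules.pullback g).obj L) := by
  haveI : QuasiCompact g := hg.1
  refine ⟨inferInstance, fun V => ?_⟩
  have hUc : IsCompact ((f ⁻¹ᵁ V.1 : X.Opens) : Set X) :=
    QuasiCompact.isCompact_preimage (f := f) _ V.1.isOpen V.2.isCompact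
  have hU'c : IsCompact ((g ⁻¹ᵁ (f ⁻¹ᵁ V.1) : X'.Opens) : Set X') :=
    QuasiCompact.isCompact_preimage (f := g) _ (f ⁻¹ᵁ V.1).isOpen hUc
  haveI : CompactSpace ↥((g ⁻¹ᵁ (f ⁻¹ᵁ V.1) : X'.Opens) : Scheme.{u}) := isCompact_iff_compactSpace.1 hU'c
  change CohB1.IsAmple (((Scheme.Modules.pullback g).obj L).restrict (g ⁻¹ᵁ (f ⁻¹ᵁ V.1)).ι)
  refine isAmple_of_iso (pullbackRestrictIso g L (f ⁻¹ᵁ V.1)).symm ?_
  exact isAmple_pullback_of_quasiAffine (g ∣_ (f ⁻¹ᵁ V.1)) _ (hL.2 V)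
    (fun A' hA' => isQuasiAffine_morphismRestrict_preimage g hg _ A' hA')

end Groth.Agent.S2355
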