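import Groth.Statements.S2358
import Mathlib
import Groth.Agent.S2347
import Groth.Agent.S2266

set_option autoImplicit false
universe u
open CategoryTheory CategoryTheory.Limits AlgebraicGeometry
open EGA2

namespace Groth.Agent.S2358


lemma quasiCompact_of_finite {X Y : Scheme.{u}} (f : X ⟶ Y) [Finite X] : QuasiCompact f :=
  ⟨fun _ _ _ => (Set.toFinite _).isCompact⟩

/-- an integral morphism from an integral scheme to a normal integral scheme admitting a section
over the generic point is an isomorphism -/
lemma isIso_of_generic {X X' : Scheme.{u}} [IsIntegral X] [IsIntegral X'] (hX : Pi1.IsNormalScheme X)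
    (g : X' ⟶ X) [IsIntegralHom g] (t : Spec X.functionField ⟶ X')
    (ht : t ≫ g = X.fromSpecStalk (genericPoint X)) : IsIso g := by
  suffices H : ∀ V : X.Opens, IsAffineOpen V → IsIso (g.app V) by
    have h1 := (IsZariskiLocalAtTarget.iff_of_iSup_eq_top
      (P := MorphismProperty.isomorphisms Scheme) (f := g)
      (fun V : X.affineOpens => V.1) (iSup_affineOpens_eq_top X)).mpr
    apply h1
    rintro ⟨V, hV⟩
    exact (isIso_morphismRestrict_iff_isIso_app g hV).mpr (H V hV)
  intro V hV
  by_cases hne : (V : Set X).Nonempty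
  · have : Nonempty V := hne.to_subtype
    have hξV : genericPoint X ∈ V :=
      ((genericPoint_spec X).mem_open_set_iff V.isOpen).mpr (by simpa using hne)
    let pt : Spec X.functionField := IsLocalRing.closedPoint X.functionField
    have : Subsingleton (Spec X.functionField) :=
      inferInstanceAs (Subsingleton (PrimeSpectrum X.functionField))
    have hpt : t pt ∈ g ⁻¹ᵁ V := by
      change g (t pt) ∈ V
      rw [← Scheme.Hom.comp_apply, ht, Scheme.fromSpecStalk_closedPoint]
      exact hξV
    have : Nonempty (g ⁻¹ᵁ V : X'.Opens) := ⟨⟨_, hpt⟩⟩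
    have hIC := Groth.Agent.S2347.isIntegrallyClosed_sections hX V hV
    have hFR := functionField_isFractionRing_of_isAffineOpen (X := X) V hV
    have hle : (⊤ : (Spec X.functionField).Opens) ≤ t ⁻¹ᵁ (g ⁻¹ᵁ V) := by
      intro z _
      have : z = pt := Subsingleton.elim _ _
      rw [this]
      exact hpt
    let σ : Γ(X', g ⁻¹ᵁ V) ⟶ X.functionField :=
      t.appLE (g ⁻¹ᵁ V) ⊤ hle ≫ (Scheme.ΓSpecIso X.functionField).hom
    have hσ : g.app V ≫ σ = X.germToFunctionField V := by
      have h1 : g.app V ≫ t.appLE (g ⁻¹ᵁ V) ⊤ hle =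
          (X.fromSpecStalk (genericPoint X)).appLE V ⊤ (by rw [← ht]; exact hle) := by
        rw [Scheme.Hom.app_eq_appLE, Scheme.Hom.appLE_comp_appLE]
        simp only [ht]
      simp only [σ]
      rw [← Category.assoc, h1, Scheme.Hom.appLE, Scheme.fromSpecStalk_app hξV]
      simp only [Category.assoc, ← Functor.map_comp]
      have hid : ∀ (h : (Opposite.op (⊤ : (Spec (X.presheaf.stalk (genericPoint X))).Opens)) ⟶
          Opposite.op ⊤), (Spec (X.presheaf.stalk (genericPoint X))).presheaf.map h = 𝟙 _ := by
        intro h; rw [Subsingleton.elim h (𝟙 _)]; exact CategoryTheory.Functor.map_id _ _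
      rw [hid]
      erw [Category.id_comp, Iso.inv_hom_id, Category.comp_id]
    have hbij := Groth.Agent.S2347.ring_bijective (g.app V).hom (g.isIntegral_app V hV) σ.hom
      (by rw [← CommRingCat.hom_comp, hσ]; rfl)
    exact (ConcreteCategory.isIso_iff_bijective _).mpr hbij
  · have hV0 : V = ⊥ := by
      ext x
      simp only [TopologicalSpace.Opens.coe_bot, Set.mem_empty_iff_false, iff_false]
      exact fun hx => hne ⟨x, hx⟩
    subst hV0
    have h1 : Subsingleton Γ(X, ⊥) := inferInstance
    have h2 : Subsingleton Γ(X', g ⁻¹ᵁ ⊥) := by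
      rw [Scheme.Hom.preimage_bot]; infer_instance
    refine (ConcreteCategory.isIso_iff_bijective _).mpr ⟨fun a b _ => Subsingleton.elim _ _,
      fun b => ⟨0, Subsingleton.elim _ _⟩⟩



/-- Let X be an integral normal scheme, g : X' → X an integral morphism, U a dense open of X and s : U →
X' a section of g over U. Then there is a section of g over all of X extending s. -/
theorem result {X X' : Scheme.{u}} [IsIntegral X] (hX : Pi1.IsNormalScheme X)
    (g : X' ⟶ X) [IsIntegralHom g] (U : X.Opens) (hU : Dense (U : Set X)) (s : (U : Scheme.{u}) ⟶ X') (hs : s ≫ g = U.ι) :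
    ∃ s' : X ⟶ X', s' ≫ g = 𝟙 X ∧ U.ι ≫ s' = s := by
  have hξU : genericPoint X ∈ U :=
    ((genericPoint_spec X).mem_open_set_iff U.isOpen).mpr (by simpa using hU.nonempty)
  let j : Spec X.functionField ⟶ U := U.fromSpecStalkOfMem (genericPoint X) hξU
  let t : Spec X.functionField ⟶ X' := j ≫ s
  have ht : t ≫ g = X.fromSpecStalk (genericPoint X) := by
    rw [Category.assoc, hs, Scheme.Opens.fromSpecStalkOfMem_ι]
  have : Finite (Spec X.functionField) :=
    inferInstanceAs (Finite (PrimeSpectrum X.functionField))
  have hqc : QuasiCompact t := quasiCompact_of_finite t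
  have hirr : IrreducibleSpace (Spec X.functionField) := inferInstance
  obtain ⟨hred, hirr'⟩ := Groth.Agent.S2266.result t
  have := hirr' hqc hirr
  have hint : IsIntegral t.image := isIntegral_of_irreducibleSpace_of_isReduced _
  have hiso : IsIso (t.imageι ≫ g) := by
    apply isIso_of_generic hX (t.imageι ≫ g) t.toImage
    rw [← Category.assoc, Scheme.Hom.toImage_imageι, ht]
  refine ⟨inv (t.imageι ≫ g) ≫ t.imageι, by simp, ?_⟩
  have hj : j ≫ U.ι = X.fromSpecStalk (genericPoint X) := Scheme.Opens.fromSpecStalkOfMem_ι _ _ _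
  have hdom : IsDominant j := by
    constructor
    rw [DenseRange, dense_iff_inter_open]
    intro W hW hWne
    let pt : Spec X.functionField := IsLocalRing.closedPoint X.functionField
    refine ⟨j pt, ?_, ⟨pt, rfl⟩⟩
    have hWo : IsOpen (U.ι '' W) := U.ι.isOpenEmbedding.isOpenMap W hW
    have h1 : genericPoint X ∈ U.ι '' W :=
      ((genericPoint_spec X).mem_open_set_iff hWo).mpr
        (by simpa using hWne.image U.ι)
    obtain ⟨w, hwW, hw⟩ := h1
    have h2 : U.ι (j pt) = genericPoint X := by
      rw [← Scheme.Hom.comp_apply, hj, Scheme.fromSpecStalk_closedPoint]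
    have : w = j pt := U.ι.isOpenEmbedding.injective (hw.trans h2.symm)
    rw [← this]; exact hwW
  refine ext_of_isDominant_of_isSeparated g ?_ j ?_
  · simp [hs]
  · rw [reassoc_of% hj, ← ht]
    have h1 : t ≫ g = t.toImage ≫ (t.imageι ≫ g) := by
      rw [← Category.assoc, Scheme.Hom.toImage_imageι]
    rw [h1, Category.assoc, IsIso.hom_inv_id_assoc, Scheme.Hom.toImage_imageι]

end Groth.Agent.S2358
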