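import Groth.Statements.S4463
import Mathlib
import Groth.Agent.Lib.Helper23SteinA
-- import your own Groth.Agent.* helpers here

set_option autoImplicit false
universe u
open Coherent

namespace Groth.Agent.S4463

open AlgebraicGeometry CategoryTheory Limits

open Groth.Agent.Lib.Helper23.SteinA

theorem fiberMapOver_fiberι {X Y Z : Scheme.{u}} (f : X ⟶ Y) (g : X ⟶ Z) (h : Y ⟶ Z)
    (w : f ≫ h = g) (z : Z) :
    CohIII.fiberMapOver f g h w z ≫ h.fiberι z = g.fiberι z ≫ f := by
  exact pullback.lift_fst _ _ _

open AlgebraicGeometry CategoryTheory in
/-- Stein factorisation. Let Y be locally Noetherian and f : X → Y proper, and let X → Y' → Y be its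
Stein factorisation, Y' being the spectrum of the O_Y-algebra f_* O_X (realised here as the relative
normalization of Y in X, which is that spectrum because f_* O_X is integral over O_Y for f
universally closed). Then for every point y of Y the fibre of Y' → Y at y is finite, the map X_y →
Y'_y induced on fibres is surjective, and two points of X_y have the same image if and only if they
lie in the same connected component of X_y: the connected components of X_y are in bijection with
the points of Y'_y. -/
theorem result {X Y : Scheme.{u}} (f : X ⟶ Y) [IsProper f]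
    [IsLocallyNoetherian Y] (y : Y) :
    Finite ↥(f.fromNormalization.fiber y) ∧
    Function.Surjective (CohIII.fiberMapOver f.toNormalization f f.fromNormalization
        f.toNormalization_fromNormalization y).base ∧
    ∀ x x' : ↥(f.fiber y),
      (CohIII.fiberMapOver f.toNormalization f f.fromNormalization f.toNormalization_fromNormalization y).base x =
        (CohIII.fiberMapOver f.toNormalization f f.fromNormalization f.toNormalization_fromNormalization y).base x' ↔
      connectedComponent x = connectedComponent x' := by
  haveI := Groth.Agent.Lib.Helper6.Stein.isFinite_fromNormalization f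
  set f' := f.toNormalization with hf'
  set g := f.fromNormalization with hg
  have w : f' ≫ g = f := f.toNormalization_fromNormalization
  set φ := CohIII.fiberMapOver f' f g w y with hφ
  have hφι : φ ≫ g.fiberι y = f.fiberι y ≫ f' := fiberMapOver_fiberι f' f g w y
  have hφι' : ∀ x : f.fiber y, g.fiberι y (φ.base x) = f' (f.fiberι y x) := by
    intro x
    have := congr(($hφι).base x)
    simpa using this
  have hinjι : Function.Injective (g.fiberι y) := (g.fiberι y).isEmbedding.injective
  -- preimage of a point under φ
  have hpre : ∀ z : g.fiber y, φ.base ⁻¹' {z} = (f.fiberι y) ⁻¹' (f'.base ⁻¹' {g.fiberι y z}) := by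
    intro z
    ext x
    simp only [Set.mem_preimage, Set.mem_singleton_iff]
    rw [← hφι' x]
    exact ⟨fun h => by rw [h], fun h => hinjι h⟩
  have hsub : ∀ z : g.fiber y, f'.base ⁻¹' {g.fiberι y z} ⊆ Set.range (f.fiberι y) := by
    intro z x hx
    rw [Scheme.Hom.range_fiberι]
    simp only [Set.mem_preimage, Set.mem_singleton_iff] at hx ⊢
    have h1 : g.fiberι y z ∈ g ⁻¹' {y} := by
      rw [← Scheme.Hom.range_fiberι]; exact ⟨z, rfl⟩
    have h2 : f x = g (f' x) := by
      have := congr(($w).base x)
      exact this.symm
    rw [h2, hx]; exact h1
  have hconn : ∀ z : g.fiber y, _root_.IsConnected (φ.base ⁻¹' {z}) := by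
    intro z
    rw [hpre z]
    have h1 := isConnected_toNormalization_preimage f (g.fiberι y z)
    have h2 : (f.fiberι y) '' ((f.fiberι y) ⁻¹' (f'.base ⁻¹' {g.fiberι y z})) =
        f'.base ⁻¹' {g.fiberι y z} := Set.image_preimage_eq_of_subset (hsub z)
    rw [← h2] at h1
    exact ⟨(Set.image_nonempty.1 h1.nonempty),
      ((f.fiberι y).isEmbedding.toIsInducing.isPreconnected_image).1 h1.isPreconnected⟩
  refine ⟨inferInstance, ?_, ?_⟩
  · intro z
    obtain ⟨x, hx⟩ := (hconn z).nonempty
    exact ⟨x, hx⟩
  · intro x x'
    constructor
    · intro h
      have h1 := (hconn (φ.base x)).isPreconnected.subset_connectedComponent (x := x) rfl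
      have h2 : x' ∈ φ.base ⁻¹' {φ.base x} := h.symm
      exact connectedComponent_eq (h1 h2)
    · intro h
      have h1 : x' ∈ connectedComponent x := by rw [h]; exact mem_connectedComponent
      have h2 := φ.continuous.image_connectedComponent_subset x ⟨x', h1, rfl⟩
      rw [connectedComponent_eq_singleton] at h2
      exact h2.symm

end Groth.Agent.S4463
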