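import Groth.Statements.S2467
import Mathlib
import Groth.Agent.Lib.Helper7PField2
import Groth.Agent.Lib.Helper7Admissible

set_option autoImplicit false
universe u
open EGA41

namespace Groth.Agent.S2467

/-- Let k ⊆ K be fields of characteristic p > 0, S ⊆ K a system of p-generators of K over k and L ⊆ S a
subset which is p-free over k. Then there is a p-basis B of K over k with L ⊆ B ⊆ S. In particular
every extension of k has a p-basis over k. -/
theorem result (p : ℕ) [Fact p.Prime] {k K : Type u} [Field k] [Field K] [Algebra k K] [CharP K p]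
    (S L : Set K) (hLS : L ⊆ S) (hS : EGA41.IsPGenerating p k (Subtype.val : S → K)) (hL : EGA41.IsPIndependent p k (Subtype.val : L → K)) :
    ∃ B : Set K, L ⊆ B ∧ B ⊆ S ∧ EGA41.IsPBasis p k (Subtype.val : B → K) := by
  classical
  open KaehlerDifferential in
  have hLi : LinearIndepOn K (D k K) L :=
    (Groth.Agent.Lib.Helper7.PPow.field_pbasis_main p (Subtype.val : L → K)).1.1 hL
  have hSspan : Submodule.span K (Set.range fun i : S => D k K (i : K)) = ⊤ :=
    (Groth.Agent.Lib.Helper7.PPow.field_pbasis_main p (Subtype.val : S → K)).2.1 hS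
  obtain ⟨B, hBS, hLB, hspan, hBi⟩ := exists_linearIndepOn_extension hLi hLS
  refine ⟨B, hLB, hBS, ?_, ?_⟩
  · exact (Groth.Agent.Lib.Helper7.PPow.field_pbasis_main p (Subtype.val : B → K)).1.2 hBi
  · refine (Groth.Agent.Lib.Helper7.PPow.field_pbasis_main p (Subtype.val : B → K)).2.2 ?_
    have h1 : (Set.range fun i : B => D k K (i : K)) = D k K '' B := by
      ext z; simp
    have h2 : (Set.range fun i : S => D k K (i : K)) = D k K '' S := by
      ext z; simp
    rw [h1, eq_top_iff, ← hSspan, h2]
    exact Submodule.span_le.2 hspan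


end Groth.Agent.S2467
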