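import Groth.Statements.S2474
import Mathlib
import Groth.Agent.S4615
open TensorProduct IsLocalRing

set_option autoImplicit false
universe u
open EGA41

namespace Groth.Agent.S2474

open IsLocalRing in
/-- Let A be a Noetherian local domain with fraction field K, K' a finite extension of K and A' the
integral closure of A in K'. Then A' has only finitely many maximal ideals, and for every maximal
ideal 𝔪' of A' the field A'/𝔪' is a finite extension of the residue field of A (equivalently a
finite A-module). -/
theorem result {A K' : Type u} [CommRing A] [IsDomain A] [IsLocalRing A] [IsNoetherianRing A]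
    [Field K'] [Algebra A K'] [Algebra (FractionRing A) K'] [IsScalarTower A (FractionRing A) K'] [FiniteDimensional (FractionRing A) K'] :
    {m : Ideal (integralClosure A K') | m.IsMaximal}.Finite ∧
      ∀ (m : Ideal (integralClosure A K')), m.IsMaximal → Module.Finite A (integralClosure A K' ⧸ m) := by
  classical
  obtain ⟨Cα, ⟨hfinα, hfracα⟩, h1, -⟩ := Groth.Agent.S4615.result (A := A) (K' := K')
  haveI := hfinα
  have hint : Cα ≤ integralClosure A K' := by
    intro x hx
    have h0 : IsIntegral A (⟨x, hx⟩ : Cα) := (Algebra.IsIntegral.of_finite A Cα).isIntegral _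
    exact (isIntegral_algHom_iff Cα.val Subtype.val_injective (x := ⟨x, hx⟩)).mpr h0
  -- the key congruence: `A' = C_α + rad A'`
  have key : ∀ x : integralClosure A K', ∃ c : Cα,
      ∀ (m' : Ideal (integralClosure A K')), m'.IsMaximal →
        x - Subalgebra.inclusion hint c ∈ m' := by
    rintro ⟨x, hx⟩
    let C : Subalgebra A K' := Cα ⊔ Algebra.adjoin A {x}
    have hle : Cα ≤ C := le_sup_left
    have hxC : x ∈ C := (le_sup_right : Algebra.adjoin A {x} ≤ C) (Algebra.subset_adjoin rfl)
    haveI : Module.Finite A (Algebra.adjoin A {x}) :=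
      Module.Finite.iff_fg.mpr (IsIntegral.fg_adjoin_singleton hx)
    have hCfin : Module.Finite A C := Subalgebra.finite_sup Cα (Algebra.adjoin A {x})
    have hCint : C ≤ integralClosure A K' :=
      sup_le hint (Algebra.adjoin_le (Set.singleton_subset_iff.mpr hx))
    have hPC : Module.Finite A C ∧ ∀ y : K', ∃ a b : C, (b : K') ≠ 0 ∧ y * b = a := by
      refine ⟨hCfin, fun y => ?_⟩
      obtain ⟨a, b, hb, hab⟩ := hfracα y
      exact ⟨Subalgebra.inclusion hle a, Subalgebra.inclusion hle b, hb, hab⟩
    obtain ⟨-, hsurj⟩ := h1 C hPC hle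
    let N : Ideal C := (maximalIdeal A).map (algebraMap A C)
    let θ₀ : A ⧸ maximalIdeal A →ₐ[A] C ⧸ N :=
      Ideal.Quotient.liftₐ (maximalIdeal A) (Algebra.ofId A (C ⧸ N)) (fun a ha => by
        have : algebraMap A (C ⧸ N) a = Ideal.Quotient.mk N (algebraMap A C a) := rfl
        show algebraMap A (C ⧸ N) a = 0
        rw [this, Ideal.Quotient.eq_zero_iff_mem]
        exact Ideal.mem_map_of_mem _ ha)
    let θ : AdicCompletion (maximalIdeal A) A →ₐ[A] C ⧸ N :=
      θ₀.comp (AdicCompletion.evalOneₐ (maximalIdeal A))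
    let Φ : ↥C ⊗[A] AdicCompletion (maximalIdeal A) A →ₐ[A] C ⧸ N :=
      Algebra.TensorProduct.lift (Ideal.Quotient.mkₐ A N) θ (fun _ _ => Commute.all _ _)
    have hΦ : ∀ (c' : C) (â : AdicCompletion (maximalIdeal A) A),
        Φ (c' ⊗ₜ[A] â) = Ideal.Quotient.mk N c' * θ â := by
      intro c' â
      simp [Φ]
    have hrange : ∀ z : ↥Cα ⊗[A] AdicCompletion (maximalIdeal A) A, ∃ c : Cα,
        Φ (Algebra.TensorProduct.map (Subalgebra.inclusion hle)
          (AlgHom.id A (AdicCompletion (maximalIdeal A) A)) z) =
          Ideal.Quotient.mk N (Subalgebra.inclusion hle c) := by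
      intro z
      induction z using TensorProduct.induction_on with
      | zero => exact ⟨0, by simp⟩
      | tmul c â =>
        obtain ⟨a, ha⟩ := Ideal.Quotient.mk_surjective
          (AdicCompletion.evalOneₐ (maximalIdeal A) â)
        refine ⟨a • c, ?_⟩
        rw [Algebra.TensorProduct.map_tmul, hΦ]
        have h2 : θ â = algebraMap A (C ⧸ N) a := by
          show θ₀ (AdicCompletion.evalOneₐ (maximalIdeal A) â) = _
          rw [← ha]
          rfl
        rw [AlgHom.id_apply, h2, map_smul, Algebra.smul_def, mul_comm]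
        rfl
      | add x y hx hy =>
        obtain ⟨c1, h1'⟩ := hx
        obtain ⟨c2, h2'⟩ := hy
        exact ⟨c1 + c2, by rw [map_add, map_add, h1', h2', map_add, map_add]⟩
    obtain ⟨z, hz⟩ := hsurj ((⟨x, hxC⟩ : C) ⊗ₜ[A] (1 : AdicCompletion (maximalIdeal A) A))
    obtain ⟨c, hc⟩ := hrange z
    refine ⟨c, ?_⟩
    intro m' hm'
    haveI := hm'
    have hnil : IsNilpotent (Ideal.Quotient.mk N (Subalgebra.inclusion hle c - ⟨x, hxC⟩)) := by
      have h4 := hz.map Φ
      rw [map_sub, hc, hΦ, map_one, mul_one, ← map_sub] at h4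
      exact h4
    obtain ⟨k, hk⟩ := hnil
    rw [← map_pow, Ideal.Quotient.eq_zero_iff_mem] at hk
    -- the contraction of `m'` to `C`
    let j : C →ₐ[A] integralClosure A K' := Subalgebra.inclusion hCint
    have hmA : (m'.comap (algebraMap A (integralClosure A K'))).IsMaximal :=
      Ideal.isMaximal_comap_of_isIntegral_of_isMaximal m'
    have hmA' := IsLocalRing.eq_maximalIdeal hmA
    have hNn : N ≤ m'.comap j.toRingHom := by
      rw [Ideal.map_le_iff_le_comap]
      intro a ha
      rw [← hmA'] at ha
      exact ha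
    have h5 : (Subalgebra.inclusion hle c - ⟨x, hxC⟩ : C) ^ k ∈ m'.comap j.toRingHom := hNn hk
    have h6 : (Subalgebra.inclusion hle c - ⟨x, hxC⟩ : C) ∈ m'.comap j.toRingHom :=
      (Ideal.comap_isPrime j.toRingHom m').mem_of_pow_mem _ h5
    have h7 : Subalgebra.inclusion hint c - (⟨x, hx⟩ : integralClosure A K') ∈ m' := h6
    have h8 : (⟨x, hx⟩ : integralClosure A K') - Subalgebra.inclusion hint c =
        -(Subalgebra.inclusion hint c - ⟨x, hx⟩) := by ring
    rw [h8]
    exact m'.neg_mem h7
  constructor
  · -- finitely many maximal ideals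
    have hfinC : ((maximalIdeal A).primesOver Cα).Finite :=
      Algebra.QuasiFinite.finite_primesOver (maximalIdeal A)
    refine Set.Finite.of_finite_image (f := fun m' : Ideal (integralClosure A K') =>
      m'.comap (Subalgebra.inclusion hint).toRingHom) (hfinC.subset ?_) ?_
    · rintro _ ⟨m', hm', rfl⟩
      haveI : m'.IsMaximal := hm'
      refine ⟨Ideal.comap_isPrime _ _, ⟨?_⟩⟩
      have hmA : (m'.comap (algebraMap A (integralClosure A K'))).IsMaximal :=
        Ideal.isMaximal_comap_of_isIntegral_of_isMaximal m'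
      have hmA' := IsLocalRing.eq_maximalIdeal hmA
      rw [← hmA']
      rfl
    · intro m₁ h₁ m₂ h₂ heq
      have h₁' : m₁.IsMaximal := h₁
      have h₂' : m₂.IsMaximal := h₂
      have hle12 : m₁ ≤ m₂ := by
        intro x hx
        obtain ⟨c, hc⟩ := key x
        have e1 : Subalgebra.inclusion hint c ∈ m₁ := by
          have := m₁.sub_mem hx (hc m₁ h₁')
          rwa [sub_sub_cancel] at this
        have e2 : c ∈ m₁.comap (Subalgebra.inclusion hint).toRingHom := e1
        have e3 : c ∈ m₂.comap (Subalgebra.inclusion hint).toRingHom := by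
          have heq' : m₁.comap (Subalgebra.inclusion hint).toRingHom =
            m₂.comap (Subalgebra.inclusion hint).toRingHom := heq
          rw [← heq']; exact e2
        have e4 : Subalgebra.inclusion hint c ∈ m₂ := e3
        have := m₂.add_mem (hc m₂ h₂') e4
        rwa [sub_add_cancel] at this
      exact h₁'.eq_of_le h₂'.ne_top hle12
  · intro m' hm'
    haveI := hm'
    let f : Cα →ₗ[A] (integralClosure A K' ⧸ m') :=
      ((Ideal.Quotient.mkₐ A m').comp (Subalgebra.inclusion hint)).toLinearMap
    refine Module.Finite.of_surjective f ?_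
    intro y
    obtain ⟨x, rfl⟩ := Ideal.Quotient.mk_surjective y
    obtain ⟨c, hc⟩ := key x
    exact ⟨c, (Ideal.Quotient.eq.mpr (hc m' hm')).symm⟩


end Groth.Agent.S2474
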