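import Groth.Statements.S2481
import Groth.Agent.Lib.Helper19ArtTestD
import Groth.Agent.Lib.Helper19FSArtinLen
import Groth.Agent.Lib.Helper19FSAdicFormal

set_option autoImplicit false
universe u
open EGA41

namespace Groth.Agent.S2481

open IsLocalRing in
/-- Let A → B be a local homomorphism of Noetherian local rings with the adic topologies, K the residue
field of B. Then B is formally smooth over A if and only if: for every Artinian local ring C with a
local homomorphism A → C, every nilpotent ideal J of C and every local A-algebra homomorphism u : B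
→ C/J inducing a bijection of residue fields (so that C has residue field K and u induces the
identity on it), u is induced by a local A-algebra homomorphism B → C. -/
theorem result {A B : Type u} [CommRing A] [IsLocalRing A] [IsNoetherianRing A] [CommRing B] [IsLocalRing B] [IsNoetherianRing B]
    [Algebra A B] [IsLocalHom (algebraMap A B)] :
    EGA41.IsFormallySmoothAdic A (maximalIdeal A) B (maximalIdeal B) ↔
      ∀ (C : Type u) [CommRing C] [IsLocalRing C] [IsArtinianRing C] [Algebra A C] [IsLocalHom (algebraMap A C)]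
        (J : Ideal C), IsNilpotent J → ∀ [IsLocalRing (C ⧸ J)] (u : B →ₐ[A] C ⧸ J) [IsLocalHom u.toRingHom],
        Function.Bijective (ResidueField.map u.toRingHom) →
        ∃ f : B →ₐ[A] C, IsLocalHom f.toRingHom ∧ (Ideal.Quotient.mkₐ A J).comp f = u := by
  constructor
  · intro h C _ _ _ _ _ J hJ _ u _ _
    obtain ⟨n, hn⟩ := Groth.Agent.Lib.Helper19.FSArtin.isNilpotent_maximalIdeal_of_isArtinianRing C
    have h𝔞 : ∃ k : ℕ, ((maximalIdeal A) ^ k).map (algebraMap A C) = ⊥ := by
      refine ⟨n, ?_⟩
      rw [eq_bot_iff, Ideal.map_pow, ← Ideal.zero_eq_bot, ← hn]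
      refine Ideal.pow_right_mono ?_ n
      rw [Ideal.map_le_iff_le_comap]
      intro y hy
      rw [Ideal.mem_comap, mem_maximalIdeal, mem_nonunits_iff]
      intro hu
      exact hy (isUnit_of_map_unit (algebraMap A C) y hu)
    have hu : ∃ k : ℕ, ∀ x ∈ (maximalIdeal B) ^ k, u x = 0 := by
      refine ⟨n, fun x hx => ?_⟩
      have h1 : (maximalIdeal B).map u.toRingHom ≤ maximalIdeal (C ⧸ J) := by
        rw [Ideal.map_le_iff_le_comap]
        intro y hy
        rw [Ideal.mem_comap, mem_maximalIdeal, mem_nonunits_iff]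
        intro hu
        exact hy (isUnit_of_map_unit u.toRingHom y hu)
      have h2 : maximalIdeal (C ⧸ J) ^ n = ⊥ := by
        have hs : Function.Surjective (Ideal.Quotient.mk J) := Ideal.Quotient.mk_surjective
        rw [← IsLocalRing.map_maximalIdeal_of_surjective (Ideal.Quotient.mk J) hs, ← Ideal.map_pow,
          hn, Ideal.zero_eq_bot, Ideal.map_bot]
      have h3 : u.toRingHom x ∈ maximalIdeal (C ⧸ J) ^ n := by
        have := Ideal.mem_map_of_mem u.toRingHom hx
        rw [Ideal.map_pow] at this
        exact Ideal.pow_right_mono h1 n this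
      rw [h2, Ideal.mem_bot] at h3
      exact h3
    obtain ⟨f, hf⟩ := h C J hJ h𝔞 u hu
    refine ⟨f, ⟨fun b hb => ?_⟩, hf⟩
    have h1 : IsUnit (u b) := by
      rw [← hf]
      exact hb.map (Ideal.Quotient.mk J)
    exact isUnit_of_map_unit u.toRingHom b h1
  · intro h
    have h1 : CAlgX.IsAdicFormallySmooth A B (maximalIdeal B) := by
      apply Groth.Agent.Lib.Helper19.ArtTest.isAdicFormallySmooth_of_lift_small
      intro C _ _ _ _ _ J hJ _ _ ψ _ hbij
      obtain ⟨f, -, hf⟩ := h C J ⟨2, hJ⟩ ψ hbij
      exact ⟨f, hf⟩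
    have h2 := (Groth.Agent.Lib.Helper19.isAdicFormallySmooth_iff_isFormallySmoothAdic_bot
      (A := A) (B := B) (maximalIdeal B)).1 h1
    intro C _ _ J hJ _ u hu
    exact h2 C J hJ ⟨1, by simp⟩ u hu

end Groth.Agent.S2481
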