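import Groth.Statements.S2587
-- import your own Groth.Agent.* helpers here
import Mathlib
import Groth.Agent.Lib.Helper26UnivOpenAt

set_option autoImplicit false
open CategoryTheory AlgebraicGeometry
universe u
open EGA43

namespace Groth.Agent.S2587

open CategoryTheory.Limits Groth.Agent.Lib.Helper26.UnivOpenAt

theorem dvrCrit_of_isUnivOpenAt {X Y : Scheme.{u}} (f : X ⟶ Y) (x : X)
    (h : EGA43.IsUnivOpenAt f x) : DVRCrit f x := by
  intro A _ _ _ g hg x' hx'1 hx'2
  have hopen : IsOpenAt (pullback.snd f g).base x' := h _ g x' hx'1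
  let η : ↥(Spec (CommRingCat.of A)) := (⟨⊥, Ideal.isPrime_bot⟩ : PrimeSpectrum A)
  have hη : η ≠ IsLocalRing.closedPoint A := by
    intro hη
    have h1 : (IsLocalRing.closedPoint A).asIdeal = ⊥ := by rw [← hη]
    exact IsDiscreteValuationRing.not_a_field A h1
  have hspec : η ⤳ (pullback.snd f g).base x' := by
    rw [hx'2]
    exact (PrimeSpectrum.le_iff_specializes η (IsLocalRing.closedPoint A)).mp bot_le
  obtain ⟨z', hz'1, hz'2⟩ := (Groth.Agent.S3404.result (pullback.snd f g) x').1 hopen η hspec
  exact ⟨z', hz'1, by rw [hz'2]; exact hη⟩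

open CategoryTheory.Limits in
/-- Let Y be locally Noetherian, f : X ⟶ Y a morphism locally of finite type, and x ∈ X. The morphism f
is universally open at x exactly when: for every discrete valuation ring A and every morphism g :
Spec A ⟶ Y sending the closed point to f x, every point x' of X ×_Y Spec A lying over x and over the
closed point of Spec A is a specialization of some point of X ×_Y Spec A lying over the generic
point of Spec A. -/
theorem result {X Y : Scheme.{u}} [IsLocallyNoetherian Y] (f : X ⟶ Y)
    [LocallyOfFiniteType f] (x : X) :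
    EGA43.IsUnivOpenAt f x ↔
      ∀ (A : Type u) [CommRing A] [IsDomain A] [IsDiscreteValuationRing A]
        (g : Spec (CommRingCat.of A) ⟶ Y), g.base (IsLocalRing.closedPoint A) = f.base x →
        ∀ x' : ↥(pullback f g), (pullback.fst f g).base x' = x →
          (pullback.snd f g).base x' = IsLocalRing.closedPoint A →
          ∃ z' : ↥(pullback f g), z' ⤳ x' ∧ (pullback.snd f g).base z' ≠ IsLocalRing.closedPoint A := by
  exact ⟨dvrCrit_of_isUnivOpenAt f x, isUnivOpenAt_of_dvrCrit f x⟩

end Groth.Agent.S2587
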