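import Groth.Statements.S4930
-- import your own Groth.Agent.* helpers here
import Mathlib
import Groth.Agent.Lib.Helper26UnivOpenAt
import Groth.Agent.S2587

set_option autoImplicit false
open CategoryTheory AlgebraicGeometry
universe u v w
open EGA43

namespace Groth.Agent.S4930

open CategoryTheory.Limits Groth.Agent.Lib.Helper26.UnivOpenAt

theorem dense_iff_of_dvr {A : Type u} [CommRing A] [IsDomain A] [IsDiscreteValuationRing A]
    (S : Set (PrimeSpectrum A)) :
    Dense S ↔ ∃ p ∈ S, p ≠ IsLocalRing.closedPoint A := by
  let η : PrimeSpectrum A := ⟨⊥, Ideal.isPrime_bot⟩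
  have hη : η ≠ IsLocalRing.closedPoint A := by
    intro hη
    have h1 : (IsLocalRing.closedPoint A).asIdeal = ⊥ := by rw [← hη]
    exact IsDiscreteValuationRing.not_a_field A h1
  constructor
  · intro hS
    by_contra hcon
    push Not at hcon
    have hsub : S ⊆ {IsLocalRing.closedPoint A} := fun p hp => hcon p hp
    have hcl : closure S ⊆ {IsLocalRing.closedPoint A} :=
      closure_minimal hsub (IsLocalRing.isClosed_singleton_closedPoint A)
    exact hη (hcl (hS η))
  · rintro ⟨p, hpS, hp⟩
    have hpη : p = η := eq_of_ne_closedPoint p η hp hη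
    intro q
    have h1 : η ⤳ q := (PrimeSpectrum.le_iff_specializes η q).mp bot_le
    have h2 : q ∈ closure {η} := specializes_iff_mem_closure.mp h1
    refine closure_mono ?_ h2
    rw [Set.singleton_subset_iff, ← hpη]
    exact hpS

theorem components_dominate_iff {P : Scheme.{u}} {A : Type u} [CommRing A] [IsDomain A]
    [IsDiscreteValuationRing A] (s : P ⟶ Spec (CommRingCat.of A)) :
    (∀ Z ∈ irreducibleComponents (↥P : Type u), Dense (s.base '' Z)) ↔
    ∀ x' : P, s.base x' = IsLocalRing.closedPoint A →
      ∃ z' : P, z' ⤳ x' ∧ s.base z' ≠ IsLocalRing.closedPoint A := by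
  constructor
  · intro h x' hx'
    have hZ := irreducibleComponent_mem_irreducibleComponents x'
    have hx'Z : x' ∈ irreducibleComponent x' := mem_irreducibleComponent
    obtain ⟨ξ, hξ⟩ := QuasiSober.sober (isIrreducible_irreducibleComponent (x := x'))
      (isClosed_irreducibleComponent (x := x'))
    have hd := h _ hZ
    erw [dense_iff_of_dvr] at hd
    obtain ⟨_, ⟨z, hzZ, rfl⟩, hz⟩ := hd
    refine ⟨ξ, hξ.specializes hx'Z, ?_⟩
    intro hcon
    have h1 : s.base ξ ⤳ s.base z := (hξ.specializes hzZ).map s.continuous
    rw [hcon] at h1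
    exact hz (h1.mem_closed (IsLocalRing.isClosed_singleton_closedPoint A) rfl)
  · intro h Z hZ
    have hZirr : IsIrreducible Z := hZ.1
    have hZcl : IsClosed Z := isClosed_of_mem_irreducibleComponents Z hZ
    obtain ⟨ξ, hξ⟩ := QuasiSober.sober hZirr hZcl
    erw [dense_iff_of_dvr]
    by_cases hs : s.base ξ = IsLocalRing.closedPoint A
    · obtain ⟨z', hz'1, hz'2⟩ := h ξ hs
      have h1 : Z ⊆ closure {z'} := by
        rw [← hξ.def]
        exact closure_minimal (Set.singleton_subset_iff.mpr (specializes_iff_mem_closure.mp hz'1))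
          isClosed_closure
      have h2 : closure {z'} ⊆ Z := hZ.2 (isIrreducible_singleton.closure) h1
      exact ⟨_, ⟨z', h2 (subset_closure rfl), rfl⟩, hz'2⟩
    · exact ⟨_, ⟨ξ, hξ.mem, rfl⟩, hs⟩

open CategoryTheory.Limits in
/-- Let Y be a locally Noetherian scheme, f : X ⟶ Y a morphism locally of finite type and y a point of
Y. Then f is universally open at all points of the fibre over y if and only if, for every discrete
valuation ring A and every morphism g : Spec A ⟶ Y mapping the closed point to y, every irreducible
component of X ×_Y Spec A dominates Spec A. -/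
theorem result {X Y : Scheme.{u}} [IsLocallyNoetherian Y] (f : X ⟶ Y)
    [LocallyOfFiniteType f] (y : Y) :
    (∀ x : X, f.base x = y → EGA43.IsUnivOpenAt f x) ↔
      ∀ (A : Type u) [CommRing A] [IsDomain A] [IsDiscreteValuationRing A] (g : Spec (CommRingCat.of A) ⟶ Y),
        g.base (IsLocalRing.closedPoint A) = y →
        ∀ Z ∈ irreducibleComponents (↥(pullback f g) : Type u), Dense ((pullback.snd f g).base '' Z) := by
  constructor
  · intro h A _ _ _ g hg
    rw [components_dominate_iff]
    intro x' hx'
    have hfx : f.base ((pullback.fst f g).base x') = y := by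
      rw [← Scheme.Hom.comp_apply, pullback.condition, Scheme.Hom.comp_apply, hx', hg]
    exact (Groth.Agent.S2587.result f _).mp (h _ hfx) A g (hg.trans hfx.symm) x' rfl hx'
  · intro h x hx
    rw [Groth.Agent.S2587.result]
    intro A _ _ _ g hg x' hx'1 hx'2
    exact (components_dominate_iff _).mp (h A g (hg.trans hx)) x' hx'2

end Groth.Agent.S4930
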