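import Groth.Statements.S4931
-- import your own Groth.Agent.* helpers here
import Mathlib
import Groth.Agent.Lib.Helper26UnivOpenAt
import Groth.Agent.S4930

set_option autoImplicit false
open CategoryTheory AlgebraicGeometry
universe u v w
open EGA43

namespace Groth.Agent.S4931

open CategoryTheory.Limits Groth.Agent.Lib.Helper26.UnivOpenAt

theorem universallyOpen_iff_forall_isUnivOpenAt {X Y : Scheme.{u}} (f : X ⟶ Y) :
    UniversallyOpen f ↔ ∀ x : X, EGA43.IsUnivOpenAt f x := by
  constructor
  · intro h x
    exact isUnivOpenAt_of_universallyOpen f x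
  · intro h
    refine ⟨?_⟩
    intro X' Y' i₁ i₂ f' sq
    show IsOpenMap f'.base
    intro U hU
    rw [isOpen_iff_mem_nhds]
    rintro _ ⟨p, hpU, rfl⟩
    exact Groth.Agent.Lib.Helper7.isOpenAt_of_isPullback sq.flip _ (h _) p rfl U (hU.mem_nhds hpU)

open CategoryTheory.Limits in
/-- Suppose Y is a locally Noetherian scheme and the morphism f : X ⟶ Y is locally of finite type. The
morphism f is universally open exactly when the following holds: given any discrete valuation ring A
together with any morphism g : Spec A ⟶ Y, each irreducible component of the fibre product X ×_Y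
Spec A dominates Spec A (i.e. its image under the second projection is dense). -/
theorem result {X Y : Scheme.{u}} [IsLocallyNoetherian Y] (f : X ⟶ Y)
    [LocallyOfFiniteType f] :
    UniversallyOpen f ↔
      ∀ (A : Type u) [CommRing A] [IsDomain A] [IsDiscreteValuationRing A] (g : Spec (CommRingCat.of A) ⟶ Y),
        ∀ Z ∈ irreducibleComponents (↥(pullback f g) : Type u), Dense ((pullback.snd f g).base '' Z) := by
  rw [universallyOpen_iff_forall_isUnivOpenAt]
  constructor
  · intro h A _ _ _ g
    exact (Groth.Agent.S4930.result f (g.base (IsLocalRing.closedPoint A))).mp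
      (fun x _ => h x) A g rfl
  · intro h x
    exact (Groth.Agent.S4930.result f (f.base x)).mpr (fun A _ _ _ g _ => h A g) x rfl

end Groth.Agent.S4931
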