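import Groth.Statements.S4942
import Groth.Agent.Lib.Helper7UnivOpen
import Groth.Agent.S4941

set_option autoImplicit false
open CategoryTheory AlgebraicGeometry
universe u v w
open EGA43

namespace Groth.Agent.S4942

open CategoryTheory.Limits in
/-- Let v : Y₁ ⟶ Y be a universally closed surjective morphism of schemes, f : X ⟶ Y a morphism and x a
point of X. If the base change f₁ : X ×_Y Y₁ ⟶ Y₁ is universally open at every point of X ×_Y Y₁
lying over x, then f is universally open at x. -/
theorem result {X Y Y₁ : Scheme.{u}} (v : Y₁ ⟶ Y)
    [UniversallyClosed v] [Surjective v] (f : X ⟶ Y) (x : X)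
    (h : ∀ x₁ : ↥(pullback f v), (pullback.fst f v).base x₁ = x → EGA43.IsUnivOpenAt (pullback.snd f v) x₁) :
    EGA43.IsUnivOpenAt f x := by
  intro Y' t x' hx'
  have hcl : IsClosedMap (pullback.snd v t).base :=
    (pullback.snd v t).isClosedMap
  refine Groth.Agent.S4941.result (pullback.snd v t) hcl (pullback.snd f t) x' ?_
  intro x₁ hx₁
  -- abbreviations
  have sqL : IsPullback (pullback.fst (pullback.snd f t) (pullback.snd v t))
      (pullback.snd (pullback.snd f t) (pullback.snd v t)) (pullback.snd f t) (pullback.snd v t) :=
    IsPullback.of_hasPullback _ _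
  have sqR : IsPullback (pullback.fst f t) (pullback.snd f t) f t := IsPullback.of_hasPullback _ _
  have sqOuter : IsPullback
      (pullback.fst (pullback.snd f t) (pullback.snd v t) ≫ pullback.fst f t)
      (pullback.snd (pullback.snd f t) (pullback.snd v t)) f (pullback.snd v t ≫ t) :=
    sqL.paste_horiz sqR
  let a : pullback (pullback.snd f t) (pullback.snd v t) ⟶ pullback f v :=
    pullback.lift (pullback.fst (pullback.snd f t) (pullback.snd v t) ≫ pullback.fst f t)
      (pullback.snd (pullback.snd f t) (pullback.snd v t) ≫ pullback.fst v t)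
      (by rw [Category.assoc, Category.assoc, pullback.condition (f := v) (g := t)]
          exact sqOuter.w)
  have ha1 : a ≫ pullback.fst f v =
      pullback.fst (pullback.snd f t) (pullback.snd v t) ≫ pullback.fst f t :=
    pullback.lift_fst _ _ _
  have ha2 : a ≫ pullback.snd f v =
      pullback.snd (pullback.snd f t) (pullback.snd v t) ≫ pullback.fst v t :=
    pullback.lift_snd _ _ _
  have sqOuter' : IsPullback (a ≫ pullback.fst f v)
      (pullback.snd (pullback.snd f t) (pullback.snd v t)) f (pullback.fst v t ≫ v) := by
    rw [ha1, pullback.condition (f := v) (g := t)]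
    exact sqOuter
  have sq : IsPullback a (pullback.snd (pullback.snd f t) (pullback.snd v t))
      (pullback.snd f v) (pullback.fst v t) :=
    IsPullback.of_right sqOuter' ha2 (IsPullback.of_hasPullback f v)
  have hax : (pullback.fst f v).base (a.base x₁) = x := by
    rw [← Scheme.Hom.comp_apply, ha1, Scheme.Hom.comp_apply, hx₁, hx']
  exact Groth.Agent.Lib.Helper7.isOpenAt_of_isPullback sq (a.base x₁) (h _ hax) x₁ rfl

end Groth.Agent.S4942
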