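import Groth.Statements.S4780
-- import your own Groth.Agent.* helpers here
import Mathlib
import Groth.Agent.S1373

set_option autoImplicit false
universe u
open CategoryTheory AlgebraicGeometry
open Lim8

namespace Groth.Agent.S4780

open CategoryTheory.Limits

theorem isOpenMap_map_of_snd {X Y : Scheme.{u}} (f : X ⟶ Y) (n : Type u)
    (h : IsOpenMap ⇑(Limits.pullback.snd f (AffineSpace n Y ↘ Y))) :
    IsOpenMap ⇑(AffineSpace.map n f) := by
  have sq : IsPullback (AffineSpace n X ↘ X) (AffineSpace.map n f) f (AffineSpace n Y ↘ Y) :=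
    (AffineSpace.isPullback_map f).flip
  have he : sq.isoPullback.hom ≫ pullback.snd f (AffineSpace n Y ↘ Y) = AffineSpace.map n f :=
    sq.isoPullback_hom_snd
  rw [← he]
  exact h.comp sq.isoPullback.hom.homeomorph.isOpenMap

theorem isOpenMap_of_one {X Y : Scheme.{u}} (f : X ⟶ Y)
    (h : IsOpenMap ⇑(Limits.pullback.snd f (AffineSpace (ULift.{u} (Fin 1)) Y ↘ Y))) :
    IsOpenMap ⇑f := by
  intro U hU
  have hsurj : Function.Surjective (pullback.fst f (AffineSpace (ULift.{u} (Fin 1)) Y ↘ Y)).base :=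
    (inferInstance : Surjective (pullback.fst f (AffineSpace (ULift.{u} (Fin 1)) Y ↘ Y))).surj
  have h1 : IsOpen ((pullback.fst f (AffineSpace (ULift.{u} (Fin 1)) Y ↘ Y)).base ⁻¹' U) :=
    hU.preimage (Scheme.Hom.continuous _)
  have h2 := h _ h1
  have h3 := AffineSpace.isOpenMap_over (n := ULift.{u} (Fin 1)) Y _ h2
  convert h3 using 1
  ext y
  constructor
  · rintro ⟨x, hxU, rfl⟩
    obtain ⟨p, rfl⟩ := hsurj x
    refine ⟨_, ⟨p, hxU, rfl⟩, ?_⟩
    rw [← Scheme.Hom.comp_apply, ← Scheme.Hom.comp_apply, pullback.condition]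
  · rintro ⟨_, ⟨p, hp, rfl⟩, rfl⟩
    refine ⟨_, hp, ?_⟩
    rw [← Scheme.Hom.comp_apply, ← Scheme.Hom.comp_apply, pullback.condition]

/-- Let f : X ⟶ Y be a morphism of schemes. If, for every integer n > 0, the base change of f to affine
n-space over Y, X ×_Y 𝔸ⁿ_Y ⟶ 𝔸ⁿ_Y, is an open map of topological spaces, then f is universally open. -/
theorem result {X Y : Scheme.{u}} (f : X ⟶ Y)
    (h : ∀ n : ℕ, 0 < n →
      IsOpenMap ⇑(Limits.pullback.snd f (AffineSpace (ULift.{u} (Fin n)) Y ↘ Y))) :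
    UniversallyOpen f := by
  rw [Groth.Agent.S1373.result]
  intro n
  rcases Nat.eq_zero_or_pos n with rfl | hn
  · have hf : IsOpenMap ⇑f := isOpenMap_of_one f (h 1 Nat.one_pos)
    have e1 : AffineSpace.map (ULift.{u} (Fin 0)) f =
        (AffineSpace (ULift.{u} (Fin 0)) X ↘ X) ≫ f ≫
          inv (AffineSpace (ULift.{u} (Fin 0)) Y ↘ Y) := by
      rw [← Category.assoc, IsIso.eq_comp_inv, AffineSpace.map_over]
    rw [e1]
    have h1 : IsOpenMap ⇑(AffineSpace (ULift.{u} (Fin 0)) X ↘ X) :=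
      (asIso (AffineSpace (ULift.{u} (Fin 0)) X ↘ X)).hom.homeomorph.isOpenMap
    have h2 : IsOpenMap ⇑(inv (AffineSpace (ULift.{u} (Fin 0)) Y ↘ Y)) :=
      (asIso (AffineSpace (ULift.{u} (Fin 0)) Y ↘ Y)).inv.homeomorph.isOpenMap
    exact (h2.comp hf).comp h1
  · exact isOpenMap_map_of_snd f _ (h n hn)

end Groth.Agent.S4780
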