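import Groth.Statements.S2558
-- import your own Groth.Agent.* helpers here
import Mathlib
import Groth.Agent.S4780

set_option autoImplicit false
open CategoryTheory AlgebraicGeometry
universe u
open EGA43

namespace Groth.Agent.S2558

open CategoryTheory.Limits

theorem exists_preimage_of_isPullback {P X Y Z : Scheme.{u}} {a : P ⟶ X} {b : P ⟶ Y} {f : X ⟶ Z}
    {g : Y ⟶ Z} (sq : IsPullback a b f g) (x : X) (y : Y) (h : f.base x = g.base y) :
    ∃ p : P, a.base p = x ∧ b.base p = y := by
  obtain ⟨z, hz1, hz2⟩ := Scheme.Pullback.exists_preimage_pullback x y h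
  refine ⟨sq.isoPullback.inv.base z, ?_, ?_⟩
  · rw [← Scheme.Hom.comp_apply, sq.isoPullback_inv_fst, hz1]
  · rw [← Scheme.Hom.comp_apply, sq.isoPullback_inv_snd, hz2]

set_option maxHeartbeats 1000000 in
/-- The key step: under the hypothesis, any base change along `π : W ⟶ Y` of finite type
is generalizing. -/
theorem generalizingMap_snd {X Y W : Scheme.{u}} (f : X ⟶ Y)
    (h : ∀ (Y' : Scheme.{u}) (g : Y' ⟶ Y) [IrreducibleSpace Y'] [LocallyOfFiniteType g] [QuasiCompact g],
      ∀ Z ∈ irreducibleComponents (↥(pullback f g) : Type u), Dense ((pullback.snd f g).base '' Z))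
    (π : W ⟶ Y) [LocallyOfFiniteType π] [QuasiCompact π] :
    GeneralizingMap (pullback.snd f π).base := by
  intro p y' hy'
  -- the reduced closed subscheme on the closure of `y'`
  let I : W.IdealSheafData := Scheme.IdealSheafData.vanishingIdeal ⟨closure {y'}, isClosed_closure⟩
  let ι : I.subscheme ⟶ W := I.subschemeι
  have hrange : Set.range ι.base = closure {y'} := by
    rw [Scheme.IdealSheafData.range_subschemeι, Scheme.IdealSheafData.coe_support_vanishingIdeal]
    rfl
  -- generic point of `Y'`
  have hy'mem : y' ∈ Set.range ι.base := by rw [hrange]; exact subset_closure rfl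
  obtain ⟨η', hη'⟩ := hy'mem
  have hgen : ∀ q : ↥I.subscheme, η' ⤳ q := by
    intro q
    rw [← ι.isEmbedding.isInducing.specializes_iff, hη', specializes_iff_mem_closure, ← hrange]
    exact ⟨q, rfl⟩
  have hirr : IrreducibleSpace ↥I.subscheme := by
    have h1 : (Set.univ : Set ↥I.subscheme) = closure {η'} := by
      ext q
      simp only [Set.mem_univ, true_iff]
      exact specializes_iff_mem_closure.mp (hgen q)
    have h2 : IsIrreducible (Set.univ : Set ↥I.subscheme) := by
      rw [h1]; exact isIrreducible_singleton.closure
    exact { toPreirreducibleSpace := ⟨h2.2⟩, toNonempty := ⟨η'⟩ }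
  let g : I.subscheme ⟶ Y := ι ≫ π
  have hg1 : LocallyOfFiniteType g := inferInstance
  have hg2 : QuasiCompact g := inferInstance
  -- the comparison map
  let θ : pullback f g ⟶ pullback f π :=
    pullback.lift (pullback.fst f g) (pullback.snd f g ≫ ι)
      (by rw [pullback.condition, Category.assoc])
  have hθ1 : θ ≫ pullback.fst f π = pullback.fst f g := pullback.lift_fst _ _ _
  have hθ2 : θ ≫ pullback.snd f π = pullback.snd f g ≫ ι := pullback.lift_snd _ _ _
  have sqO : IsPullback (θ ≫ pullback.fst f π) (pullback.snd f g) f (ι ≫ π) := by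
    rw [hθ1]; exact IsPullback.of_hasPullback f g
  have sqθ : IsPullback θ (pullback.snd f g) (pullback.snd f π) ι :=
    IsPullback.of_right sqO hθ2 (IsPullback.of_hasPullback f π)
  -- the point of `Y'` under `p`
  have hpmem : (pullback.snd f π).base p ∈ Set.range ι.base := by
    rw [hrange]; exact specializes_iff_mem_closure.mp hy'
  obtain ⟨q, hq⟩ := hpmem
  obtain ⟨x', hx'1, hx'2⟩ := exists_preimage_of_isPullback sqθ p q hq.symm
  -- irreducible component through `x'`
  have hZ := irreducibleComponent_mem_irreducibleComponents x'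
  have hx'Z : x' ∈ irreducibleComponent x' := mem_irreducibleComponent
  obtain ⟨ξ, hξ⟩ := QuasiSober.sober (isIrreducible_irreducibleComponent (x := x'))
    (isClosed_irreducibleComponent (x := x'))
  have hd := h I.subscheme g _ hZ
  -- the image of `ξ` is the generic point
  have hsub : (pullback.snd f g).base '' irreducibleComponent x' ⊆
      closure {(pullback.snd f g).base ξ} := by
    rintro _ ⟨z, hz, rfl⟩
    exact specializes_iff_mem_closure.mp ((hξ.specializes hz).map (pullback.snd f g).continuous)
  have hcl : closure {(pullback.snd f g).base ξ} = Set.univ := by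
    refine Set.eq_univ_of_univ_subset ?_
    rw [← hd.closure_eq]
    exact closure_minimal hsub isClosed_closure
  have hξη : (pullback.snd f g).base ξ = η' := by
    have h1 : (pullback.snd f g).base ξ ⤳ η' := by
      rw [specializes_iff_mem_closure, hcl]; trivial
    exact (h1.antisymm (hgen _)).eq
  refine ⟨θ.base ξ, ?_, ?_⟩
  · rw [← hx'1]
    exact (hξ.specializes hx'Z).map θ.continuous
  · rw [← Scheme.Hom.comp_apply, hθ2, Scheme.Hom.comp_apply, hξη, hη']

open CategoryTheory.Limits in
/-- Let f : X ⟶ Y be locally of finite presentation. Suppose that for every irreducible scheme Y' and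
every morphism of finite type g : Y' ⟶ Y, each irreducible component of X ×_Y Y' has dense image in
Y'. Then f is universally open. -/
theorem result {X Y : Scheme.{u}} (f : X ⟶ Y) [LocallyOfFinitePresentation f]
    (h : ∀ (Y' : Scheme.{u}) (g : Y' ⟶ Y) [IrreducibleSpace Y'] [LocallyOfFiniteType g] [QuasiCompact g],
      ∀ Z ∈ irreducibleComponents (↥(pullback f g) : Type u), Dense ((pullback.snd f g).base '' Z)) :
    UniversallyOpen f := by
  apply Groth.Agent.S4780.result
  intro n _
  have : LocallyOfFinitePresentation (pullback.snd f (AffineSpace (ULift.{u} (Fin n)) Y ↘ Y)) :=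
    inferInstance
  exact isOpenMap_of_generalizingMap _ (generalizingMap_snd f h _)

end Groth.Agent.S2558
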