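import Groth.Statements.S2563
import Mathlib
-- import your own Groth.Agent.* helpers here

set_option autoImplicit false
open TensorProduct
universe u
open EGA43

namespace Groth.Agent.S2563

namespace T1

section nak
variable {R : Type*} [CommRing R] {M : Type*} [AddCommGroup M] [Module R M]

theorem eq_bot_of_le_smul_of_isNilpotent (N : Ideal R) (hN : IsNilpotent N) (K : Submodule R M)
    (h : K ≤ N • K) : K = ⊥ := by
  obtain ⟨n, hn⟩ := hN
  have key : ∀ j : ℕ, K ≤ N ^ j • K := by
    intro j
    induction j with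
    | zero => simp
    | succ j ih =>
      calc K ≤ N • K := h
        _ ≤ N • (N ^ j • K) := Submodule.smul_mono le_rfl ih
        _ = N ^ (j + 1) • K := by rw [← mul_smul, pow_succ']
  have := key n
  rw [hn] at this
  simpa using this

theorem eq_top_of_le_sup_smul_of_isNilpotent (N : Ideal R) (hN : IsNilpotent N) (P : Submodule R M)
    (h : ⊤ ≤ P ⊔ N • (⊤ : Submodule R M)) : P = ⊤ := by
  obtain ⟨n, hn⟩ := hN
  have key : ∀ j : ℕ, (⊤ : Submodule R M) ≤ P ⊔ N ^ j • (⊤ : Submodule R M) := by
    intro j
    induction j with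
    | zero => simp
    | succ j ih =>
      calc (⊤ : Submodule R M) ≤ P ⊔ N • ⊤ := h
        _ ≤ P ⊔ N • (P ⊔ N ^ j • ⊤) := sup_le_sup_left (Submodule.smul_mono le_rfl ih) _
        _ = P ⊔ (N • P ⊔ N ^ (j + 1) • ⊤) := by rw [Submodule.smul_sup, ← mul_smul, ← pow_succ']
        _ ≤ P ⊔ N ^ (j + 1) • ⊤ :=
          sup_le le_sup_left (sup_le (le_sup_of_le_left Submodule.smul_le_right) le_sup_right)
  have := key n
  rw [hn] at this
  have h2 : (⊤ : Submodule R M) ≤ P := by simpa using this
  exact top_le_iff.mp h2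

end nak
namespace T2

section main
variable {A : Type u} [CommRing A] (J : Ideal A)
  (M : Type u) [AddCommGroup M] [Module A M]

/-- every element of `(A/J) ⊗ M` is `1 ⊗ x` -/
theorem exists_one_tmul (z : (A ⧸ J) ⊗[A] M) : ∃ x : M, (1 : A ⧸ J) ⊗ₜ[A] x = z := by
  obtain ⟨y, rfl⟩ := (TensorProduct.quotTensorEquivQuotSMul M J).symm.surjective z
  obtain ⟨x, rfl⟩ := Submodule.Quotient.mk_surjective _ y
  exact ⟨x, rfl⟩

theorem mem_smul_top_of_one_tmul_eq_zero (x : M) (h : (1 : A ⧸ J) ⊗ₜ[A] x = 0) :
    x ∈ J • (⊤ : Submodule A M) := by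
  have := congrArg (TensorProduct.quotTensorEquivQuotSMul M J) h
  rw [TensorProduct.quotTensorEquivQuotSMul_mk_one_tmul, map_zero,
    Submodule.Quotient.mk_eq_zero] at this
  exact this

variable {I : Type u} (b : Module.Basis I (A ⧸ J) ((A ⧸ J) ⊗[A] M)) (m : I → M)
  (hm : ∀ c, (1 : A ⧸ J) ⊗ₜ[A] m c = b c)

include hm in
theorem one_tmul_linearCombination (f : I →₀ A) :
    (1 : A ⧸ J) ⊗ₜ[A] (Finsupp.linearCombination A m f) =
      Finsupp.linearCombination (A ⧸ J) b (Finsupp.mapRange (Ideal.Quotient.mk J) (map_zero _) f) := by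
  induction f using Finsupp.induction_linear with
  | zero => simp
  | add f g hf hg =>
    rw [map_add, TensorProduct.tmul_add, hf, hg, Finsupp.mapRange_add (by intro x y; exact map_add _ x y),
      map_add]
  | single c a =>
    rw [Finsupp.linearCombination_single, Finsupp.mapRange_single, Finsupp.linearCombination_single,
      ← hm c, TensorProduct.tmul_smul, TensorProduct.smul_tmul']
    congr 1

include hm in
theorem surj (hJ : IsNilpotent J) : Function.Surjective (Finsupp.linearCombination A m) := by
  rw [← LinearMap.range_eq_top]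
  apply T1.eq_top_of_le_sup_smul_of_isNilpotent J hJ
  intro x _
  obtain ⟨f, hf⟩ := Finsupp.mapRange_surjective (Ideal.Quotient.mk J) (map_zero _)
    Ideal.Quotient.mk_surjective (b.repr ((1 : A ⧸ J) ⊗ₜ[A] x))
  have h1 := one_tmul_linearCombination J M b m hm f
  rw [hf, Module.Basis.linearCombination_repr] at h1
  have h2 : (1 : A ⧸ J) ⊗ₜ[A] (x - Finsupp.linearCombination A m f) = 0 := by
    rw [TensorProduct.tmul_sub, h1, sub_self]
  have h3 := mem_smul_top_of_one_tmul_eq_zero J M _ h2
  have : x = Finsupp.linearCombination A m f + (x - Finsupp.linearCombination A m f) := by abel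
  rw [this]
  exact Submodule.add_mem_sup (LinearMap.mem_range_self _ f) h3

end main
namespace T3

section inj
variable {A : Type u} [CommRing A] (J : Ideal A) (M : Type u) [AddCommGroup M] [Module A M]
  {I : Type u} (b : Module.Basis I (A ⧸ J) ((A ⧸ J) ⊗[A] M)) (m : I → M)
  (hm : ∀ c, (1 : A ⧸ J) ⊗ₜ[A] m c = b c)
  (B : Type u) [CommRing B] [Algebra A B]

/-- N = JB -/
abbrev NB : Ideal B := J.map (algebraMap A B)

/-- A/J → B/JB, A-linear -/
noncomputable def rho : (A ⧸ J) →ₗ[A] (B ⧸ NB J B) :=
  Submodule.liftQ J ((Ideal.Quotient.mkₐ A (NB J B)).toLinearMap ∘ₗ Algebra.linearMap A B) (by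
    intro a ha
    rw [LinearMap.mem_ker, LinearMap.comp_apply]
    exact Ideal.Quotient.eq_zero_iff_mem.mpr (Ideal.mem_map_of_mem _ ha))

theorem rho_one : rho J B 1 = 1 := by
  have : (1 : A ⧸ J) = Submodule.Quotient.mk (1 : A) := rfl
  rw [this, rho, Submodule.liftQ_apply]
  simp

/-- g : M → (I →₀ B/JB) -/
noncomputable def g : M →ₗ[A] (I →₀ (B ⧸ NB J B)) :=
  (Finsupp.mapRange.linearMap (rho J B)) ∘ₗ (b.repr.toLinearMap.restrictScalars A) ∘ₗ
    (TensorProduct.mk A (A ⧸ J) M 1)

include hm in
theorem g_m (c : I) : g J M b B (m c) = Finsupp.single c 1 := by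
  simp only [g, LinearMap.comp_apply, TensorProduct.mk_apply, hm c]
  simp [rho_one]

noncomputable def psi : B ⊗[A] M →ₗ[B] (I →₀ (B ⧸ NB J B)) :=
  LinearMap.liftBaseChange B (g J M b B)

noncomputable def phiB : (I →₀ B) →ₗ[B] B ⊗[A] M :=
  Finsupp.linearCombination B (fun c => (1 : B) ⊗ₜ[A] m c)

include hm in
theorem psi_phiB (y : I →₀ B) : psi J M b B (phiB (A := A) M m B y) =
    Finsupp.mapRange (Ideal.Quotient.mk (NB J B)) (map_zero _) y := by
  induction y using Finsupp.induction_linear with
  | zero => simp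
  | add f g hf hg =>
    rw [map_add, map_add, hf, hg, Finsupp.mapRange_add (by intro x y; exact map_add _ x y)]
  | single c a =>
    rw [phiB, Finsupp.linearCombination_single, map_smul, psi, LinearMap.liftBaseChange_tmul,
      one_smul, g_m J M b m hm B c, Finsupp.mapRange_single, Finsupp.smul_single]
    congr 1
    rw [Algebra.smul_def, mul_one]; rfl

end inj
namespace T4
open T3 T2
section inj2
variable {A : Type u} [CommRing A] (J : Ideal A) (M : Type u) [AddCommGroup M] [Module A M]
  {I : Type u} (b : Module.Basis I (A ⧸ J) ((A ⧸ J) ⊗[A] M)) (m : I → M)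
  (hm : ∀ c, (1 : A ⧸ J) ⊗ₜ[A] m c = b c)
  (B : Type u) [CommRing B] [Algebra A B]

theorem phiB_mapRange (f : I →₀ A) :
    phiB (A := A) M m B (Finsupp.mapRange (algebraMap A B) (map_zero _) f) =
      (1 : B) ⊗ₜ[A] (Finsupp.linearCombination A m f) := by
  induction f using Finsupp.induction_linear with
  | zero => simp
  | add f g hf hg =>
    rw [Finsupp.mapRange_add (by intro x y; exact map_add _ x y), map_add, map_add,
      TensorProduct.tmul_add, hf, hg]
  | single c a =>
    rw [Finsupp.mapRange_single, phiB, Finsupp.linearCombination_single,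
      Finsupp.linearCombination_single, TensorProduct.tmul_smul, algebraMap_smul]

theorem phiB_surj (hsurj : Function.Surjective (Finsupp.linearCombination A m)) :
    Function.Surjective (phiB (A := A) M m B) := by
  rw [← LinearMap.range_eq_top, eq_top_iff]
  rintro z -
  induction z using TensorProduct.induction_on with
  | zero => exact zero_mem _
  | tmul r x =>
    obtain ⟨f, rfl⟩ := hsurj x
    have : r ⊗ₜ[A] (Finsupp.linearCombination A m f) =
        r • phiB (A := A) M m B (Finsupp.mapRange (algebraMap A B) (map_zero _) f) := by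
      rw [phiB_mapRange, TensorProduct.smul_tmul', smul_eq_mul, mul_one]
    rw [this]
    exact Submodule.smul_mem _ _ (LinearMap.mem_range_self _ _)
  | add x y hx hy => exact add_mem hx hy

include hm in
theorem ker_phiB_eq_bot (hJ : IsNilpotent J)
    (hsurj : Function.Surjective (Finsupp.linearCombination A m))
    [Module.Projective B (B ⊗[A] M)] : LinearMap.ker (phiB (A := A) M m B) = ⊥ := by
  obtain ⟨s, hs⟩ := Module.projective_lifting_property (phiB (A := A) M m B) LinearMap.id
    (phiB_surj M m B hsurj)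
  have hN : IsNilpotent (NB J B) := hJ.map (Ideal.mapHom (algebraMap A B))
  apply T1.eq_bot_of_le_smul_of_isNilpotent (NB J B) hN
  intro y hy
  have h0 : ∀ c, y c ∈ NB J B := by
    have h1 := psi_phiB J M b m hm B y
    rw [LinearMap.mem_ker.mp hy, map_zero] at h1
    intro c
    have h2 := congrArg (fun t => t c) h1
    simp only [Finsupp.coe_zero, Pi.zero_apply, Finsupp.mapRange_apply] at h2
    exact Ideal.Quotient.eq_zero_iff_mem.mp h2.symm
  let e : (I →₀ B) →ₗ[B] (I →₀ B) := LinearMap.id - s ∘ₗ phiB (A := A) M m B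
  have he : ∀ z, e z ∈ LinearMap.ker (phiB (A := A) M m B) := by
    intro z
    have : phiB (A := A) M m B (s (phiB (A := A) M m B z)) = phiB (A := A) M m B z := by
      have := congrArg (fun t => t (phiB (A := A) M m B z)) hs
      simpa using this
    simp [e, map_sub, this]
  have hy' : e y = y := by simp [e, LinearMap.mem_ker.mp hy]
  rw [← hy', ← Finsupp.sum_single y, Finsupp.sum, map_sum]
  apply Submodule.sum_mem
  intro c _
  have : Finsupp.single c (y c) = y c • Finsupp.single c (1 : B) := by simp
  rw [this, map_smul]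
  exact Submodule.smul_mem_smul (h0 c) (he _)

end inj2
end T4
end T3
end T2
end T1

open T1 T1.T2 T1.T2.T3 T1.T2.T3.T4

/-- Let A be a commutative ring, J a nilpotent ideal of A, and (B_i) a family of commutative A-algebras
such that an element of A vanishing in every B_i is zero. Let M be an A-module such that each B_i
⊗_A M is a free B_i-module and (A/J) ⊗_A M is a free (A/J)-module. Then M is a free A-module. -/
theorem result {A : Type u} [CommRing A] (J : Ideal A) (hJ : IsNilpotent J)
    {ι : Type u} (B : ι → Type u) [∀ i, CommRing (B i)] [∀ i, Algebra A (B i)]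
    (hB : ∀ a : A, (∀ i, algebraMap A (B i) a = 0) → a = 0)
    (M : Type u) [AddCommGroup M] [Module A M]
    (hfree : ∀ i, Module.Free (B i) (B i ⊗[A] M)) (hfreeJ : Module.Free (A ⧸ J) ((A ⧸ J) ⊗[A] M)) :
    Module.Free A M := by
  classical
  let b := Module.Free.chooseBasis (A ⧸ J) ((A ⧸ J) ⊗[A] M)
  choose m hm using fun c => exists_one_tmul J M (b c)
  have hsurj := surj J M b m hm hJ
  have hinj : Function.Injective (Finsupp.linearCombination A m) := by
    rw [← LinearMap.ker_eq_bot, eq_bot_iff]
    intro x hx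
    rw [Submodule.mem_bot]
    ext c
    apply hB
    intro i
    haveI : Module.Projective (B i) (B i ⊗[A] M) := Module.Projective.of_free
    have hk := ker_phiB_eq_bot J M b m hm (B i) hJ hsurj
    have hx' : Finsupp.mapRange (algebraMap A (B i)) (map_zero _) x ∈
        LinearMap.ker (phiB (A := A) M m (B i)) := by
      rw [LinearMap.mem_ker, phiB_mapRange, LinearMap.mem_ker.mp hx, TensorProduct.tmul_zero]
    rw [hk, Submodule.mem_bot] at hx'
    have := congrArg (fun t => t c) hx'
    simpa using this
  exact Module.Free.of_equiv (LinearEquiv.ofBijective (Finsupp.linearCombination A m) ⟨hinj, hsurj⟩)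

end Groth.Agent.S2563
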