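import Groth.Statements.S2564
-- import your own Groth.Agent.* helpers here
import Mathlib
import Groth.Agent.S0386
import Groth.Agent.S6884

set_option autoImplicit false
open CategoryTheory AlgebraicGeometry
universe u
open EGA43

namespace Groth.Agent.S2564

set_option linter.style.haveILetI false

open CategoryTheory.Limits TensorProduct

/-- Ring level, global form: for a finitely presented `A`-algebra `B` and `A → A'` integral
injective, flatness of `A' ⊗ B` over `A'` gives flatness of `B` over `A`. -/
theorem flat_of_fp {A A' B : Type u} [CommRing A] [CommRing A'] [CommRing B] [Algebra A A']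
    [Algebra A B] [Algebra.IsIntegral A A'] (hinj : Function.Injective (algebraMap A A'))
    [Algebra.FinitePresentation A B] (hfl : Module.Flat A' (A' ⊗[A] B)) : Module.Flat A B := by
  obtain ⟨n, φ, hφ, hker⟩ := Algebra.FinitePresentation.out (R := A) (A := B)
  let I : Ideal (MvPolynomial (Fin n) A) := RingHom.ker φ.toRingHom
  let M := MvPolynomial (Fin n) A ⧸ I
  haveI : Module.FinitePresentation (MvPolynomial (Fin n) A) M :=
    Module.finitePresentation_of_surjective (Submodule.mkQ I) (Submodule.mkQ_surjective I)
      (by rw [Submodule.ker_mkQ]; exact hker)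
  let e : M ≃ₐ[A] B := Ideal.quotientKerAlgEquivOfSurjective hφ
  haveI : Module.Flat A' (A' ⊗[A] M) :=
    Module.Flat.of_linearEquiv
      (TensorProduct.AlgebraTensorModule.congr (LinearEquiv.refl A' A') e.toLinearEquiv)
  have := Groth.Agent.S6884.result A A' hinj n M
  exact Module.Flat.of_linearEquiv e.symm.toLinearEquiv

/-- flatness of stalk maps is insensitive to precomposition with an open immersion. -/
theorem flat_stalkMap_comp_iff {X Y Z : Scheme.{u}} (i : Z ⟶ X) [IsOpenImmersion i] (f : X ⟶ Y)
    (z : Z) : ((i ≫ f).stalkMap z).hom.Flat ↔ (f.stalkMap (i z)).hom.Flat := by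
  rw [Scheme.Hom.stalkMap_comp]
  have hbij : Function.Bijective (i.stalkMap z).hom :=
    ConcreteCategory.bijective_of_isIso (i.stalkMap z)
  constructor
  · intro h
    let e : X.presheaf.stalk (i z) ≃+* Z.presheaf.stalk z := RingEquiv.ofBijective _ hbij
    have h2 : (e.symm.toRingHom.comp ((i.stalkMap z).hom.comp (f.stalkMap (i z)).hom)).Flat :=
      RingHom.Flat.comp h (RingHom.Flat.of_bijective e.symm.bijective)
    have h3 : e.symm.toRingHom.comp ((i.stalkMap z).hom.comp (f.stalkMap (i z)).hom) =
        (f.stalkMap (i z)).hom := by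
      ext a
      exact e.symm_apply_apply _
    rwa [h3] at h2
  · intro h
    exact RingHom.Flat.comp h (RingHom.Flat.of_bijective hbij)

/-- From flatness of the base change of `Spec B → Spec A` to `Spec A'` to flatness of `A' ⊗ B`. -/
theorem flat_tensor_of_flat_snd {A A' B : Type u} [CommRing A] [CommRing A'] [CommRing B]
    [Algebra A A'] [Algebra A B]
    (hfl : Flat (pullback.snd (Spec.map (CommRingCat.ofHom (algebraMap A B)))
      (Spec.map (CommRingCat.ofHom (algebraMap A A'))))) : Module.Flat A' (A' ⊗[A] B) := by
  have h1 : Flat (Spec.map (CommRingCat.ofHom (R := A') (S := B ⊗[A] A')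
      (RingHomClass.toRingHom Algebra.TensorProduct.includeRight))) := by
    rw [← pullbackSpecIso_inv_snd]
    infer_instance
  rw [Flat.SpecMap_iff] at h1
  have h2 : ((Algebra.TensorProduct.comm A B A').toRingEquiv.toRingHom.comp
      (RingHomClass.toRingHom (Algebra.TensorProduct.includeRight (R := A) (A := B) (B := A')))).Flat :=
    RingHom.Flat.comp h1 (RingHom.Flat.of_bijective (Algebra.TensorProduct.comm A B A').bijective)
  have h3 : (Algebra.TensorProduct.comm A B A').toRingEquiv.toRingHom.comp
      (RingHomClass.toRingHom (Algebra.TensorProduct.includeRight (R := A) (A := B) (B := A'))) =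
      algebraMap A' (A' ⊗[A] B) := by
    ext a
    simp
  rw [h3] at h2
  exact (RingHom.flat_algebraMap_iff).mp h2

open CategoryTheory.Limits in
/-- Let A ⟶ A' be an injective ring homomorphism making A' integral over A, f : X ⟶ Spec A locally of
finite presentation, x a point of X, and X' = X ×_{Spec A} Spec A'. If X' ⟶ Spec A' is flat at every
point of X' lying over x, then f is flat at x. -/
theorem result {A A' : Type u} [CommRing A] [CommRing A']
    [Algebra A A'] [Algebra.IsIntegral A A'] (hinj : Function.Injective (algebraMap A A'))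
    {X : Scheme.{u}} (f : X ⟶ Spec (CommRingCat.of A)) [LocallyOfFinitePresentation f] (x : X)
    (h : ∀ x' : ↥(pullback f (Spec.map (CommRingCat.ofHom (algebraMap A A')))),
      (pullback.fst f _).base x' = x →
      ((pullback.snd f (Spec.map (CommRingCat.ofHom (algebraMap A A')))).stalkMap x').hom.Flat) :
    (f.stalkMap x).hom.Flat := by
  set g : Spec (CommRingCat.of A') ⟶ Spec (CommRingCat.of A) :=
    Spec.map (CommRingCat.ofHom (algebraMap A A')) with hg
  haveI : IsIntegralHom g := by
    rw [hg, IsIntegralHom.SpecMap_iff]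
    exact algebraMap_isIntegral_iff.mpr inferInstance
  -- the flat locus of the base change is open
  have hopen : IsOpen {x' : ↥(pullback f g) | ((pullback.snd f g).stalkMap x').hom.Flat} :=
    Groth.Agent.S0386.result (pullback.snd f g)
  -- its complement has closed image in X, not containing x
  have hclosed : IsClosed ((pullback.fst f g).base ''
      {x' : ↥(pullback f g) | ((pullback.snd f g).stalkMap x').hom.Flat}ᶜ) :=
    (pullback.fst f g).isClosedMap _ hopen.isClosed_compl
  have hx : x ∈ ((pullback.fst f g).base ''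
      {x' : ↥(pullback f g) | ((pullback.snd f g).stalkMap x').hom.Flat}ᶜ)ᶜ := by
    rintro ⟨x', hx', hxx'⟩
    exact hx' (h x' hxx')
  obtain ⟨_, ⟨W, hW, rfl⟩, hxW, hWsub⟩ :=
    X.isBasis_affineOpens.exists_subset_of_mem_open hx hclosed.isOpen_compl
  have hW : IsAffineOpen W := hW
  -- the affine chart
  let φ : CommRingCat.of A ⟶ Γ(X, W) := Spec.preimage (hW.fromSpec ≫ f)
  letI : Algebra A Γ(X, W) := φ.hom.toAlgebra
  have hfW : Spec.map (CommRingCat.ofHom (algebraMap A Γ(X, W))) = hW.fromSpec ≫ f :=
    Spec.map_preimage _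
  haveI : LocallyOfFinitePresentation (Spec.map (CommRingCat.ofHom (algebraMap A Γ(X, W)))) := by
    rw [hfW]; infer_instance
  haveI : Algebra.FinitePresentation A Γ(X, W) := by
    have h1 : (CommRingCat.ofHom (algebraMap A Γ(X, W))).hom.FinitePresentation :=
      (HasRingHomProperty.Spec_iff (P := @LocallyOfFinitePresentation)).mp this
    exact h1
  -- the base change of the chart is flat
  let j : pullback (Spec.map (CommRingCat.ofHom (algebraMap A Γ(X, W)))) g ⟶ pullback f g :=
    pullback.map _ g f g hW.fromSpec (𝟙 _) (𝟙 _) (by rw [hfW]; simp) (by simp)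
  have hj1 : j ≫ pullback.snd f g = pullback.snd _ g :=
    (pullback.lift_snd _ _ _).trans (Category.comp_id _)
  have hj2 : j ≫ pullback.fst f g = pullback.fst _ g ≫ hW.fromSpec :=
    pullback.lift_fst _ _ _
  have hflat : Flat (pullback.snd (Spec.map (CommRingCat.ofHom (algebraMap A Γ(X, W)))) g) := by
    rw [← hj1]
    refine Flat.of_stalkMap _ (fun z => ?_)
    rw [flat_stalkMap_comp_iff]
    by_contra hz
    have h1 : (pullback.fst f g).base (j.base z) ∈ (pullback.fst f g).base ''
      {x' : ↥(pullback f g) | ((pullback.snd f g).stalkMap x').hom.Flat}ᶜ := ⟨_, hz, rfl⟩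
    have h2 : (pullback.fst f g).base (j.base z) ∈ W := by
      have : (pullback.fst f g).base (j.base z) =
          hW.fromSpec.base ((pullback.fst _ g).base z) := by
        rw [← Scheme.Hom.comp_apply, ← Scheme.Hom.comp_apply, hj2]
      rw [this, ← SetLike.mem_coe, ← hW.range_fromSpec]
      exact Set.mem_range_self _
    exact hWsub h2 h1
  have hB : Module.Flat A Γ(X, W) := flat_of_fp hinj (flat_tensor_of_flat_snd hflat)
  have hFW : Flat (hW.fromSpec ≫ f) := by
    rw [← hfW, Flat.SpecMap_iff]
    exact RingHom.flat_algebraMap_iff.mpr hB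
  obtain ⟨x₀, hx₀⟩ : ∃ x₀, hW.fromSpec.base x₀ = x := by
    have : x ∈ Set.range hW.fromSpec.base := by rw [hW.range_fromSpec]; exact hxW
    exact this
  subst hx₀
  exact (flat_stalkMap_comp_iff hW.fromSpec f x₀).mp (Flat.stalkMap _ x₀)

end Groth.Agent.S2564
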