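import Groth.Statements.S2572
-- import your own Groth.Agent.* helpers here
import Mathlib
import Groth.Agent.Lib.Helper26UnivOpenAt
import Groth.Agent.Lib.Helper28Normal
import Groth.Agent.Lib.Helper20FlatAtDesc
import Groth.Agent.S4931

set_option autoImplicit false
open CategoryTheory AlgebraicGeometry
universe u
open EGA43

namespace Groth.Agent.S2572

open CategoryTheory.Limits Groth.Agent.Lib.Helper26.UnivOpenAt TopologicalSpace

/-- Local finiteness of irreducible components, in the form we need. -/
theorem exists_open_nhds_components {X : Type*} [TopologicalSpace X]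
    (hX : ∀ x : X, ∃ U ∈ nhds x, NoetherianSpace U) (x : X) :
    ∃ W : Set X, IsOpen W ∧ x ∈ W ∧
      ∀ v ∈ W, ∃ Z ∈ irreducibleComponents X, v ∈ Z ∧ x ∈ Z := by
  classical
  obtain ⟨U, hU, hUN⟩ := hX x
  let W : Set X := interior U
  have hWopen : IsOpen W := isOpen_interior
  have hxW : x ∈ W := mem_interior_iff_mem_nhds.mpr hU
  have : NoetherianSpace W := NoetherianSpace.of_subset (W := U) interior_subset
  have hfin : (irreducibleComponents W).Finite := NoetherianSpace.finite_irreducibleComponents
  have hex : ∀ T : Set W, T ∈ irreducibleComponents W →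
      ∃ Z' ∈ irreducibleComponents X, Subtype.val '' T ⊆ Z' := by
    intro T hT
    exact exists_mem_irreducibleComponents_subset_of_isIrreducible _
      (hT.1.image _ continuous_subtype_val.continuousOn)
  choose! Zc hZc hTZc using hex
  let 𝒵 : Set (Set X) := {Z' | Z' ∈ Zc '' irreducibleComponents W ∧ x ∉ Z'}
  have h𝒵fin : 𝒵.Finite := (hfin.image Zc).subset (fun _ h => h.1)
  have hclosed : IsClosed (⋃₀ 𝒵) := by
    rw [Set.sUnion_eq_biUnion]
    refine h𝒵fin.isClosed_biUnion ?_
    rintro Z' ⟨⟨T, hT, rfl⟩, -⟩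
    exact isClosed_of_mem_irreducibleComponents _ (hZc T hT)
  have hxn : x ∉ ⋃₀ 𝒵 := by
    rintro ⟨Z', ⟨-, hne⟩, hxZ'⟩
    exact hne hxZ'
  refine ⟨W ∩ (⋃₀ 𝒵)ᶜ, hWopen.inter hclosed.isOpen_compl, ⟨hxW, hxn⟩, ?_⟩
  rintro v ⟨hvW, hvn⟩
  have hcov : (⟨v, hvW⟩ : W) ∈ ⋃₀ irreducibleComponents W := by
    rw [sUnion_irreducibleComponents]; trivial
  obtain ⟨T, hT, hvT⟩ := hcov
  have hvZc : v ∈ Zc T := hTZc T hT ⟨⟨v, hvW⟩, hvT, rfl⟩
  refine ⟨Zc T, hZc T hT, hvZc, ?_⟩
  by_contra hx
  exact hvn ⟨Zc T, ⟨⟨T, hT, rfl⟩, hx⟩, hvZc⟩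

/-- A regular local ring of dimension at most one is a Dedekind domain. -/
theorem isDedekindDomain_of_regular {R : Type*} [CommRing R] (hreg : IsRegularLocalRing R)
    (hdim : ringKrullDim R ≤ 1) : IsDedekindDomain R := by
  obtain ⟨hdom, hic⟩ :=
    Groth.Agent.Lib.Helper28.isDomain_and_isIntegrallyClosed_of_isRegularLocalRing_of_dim_le_one
      hreg hdim
  have hk : Ring.KrullDimLE 1 R := Ring.krullDimLE_iff.mpr (by exact_mod_cast hdim)
  have hd1 : Ring.DimensionLEOne R :=
    ⟨fun {p} hp hpp => Ring.krullDimLE_one_iff_of_noZeroDivisors.mp hk p hp hpp⟩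
  exact { toIsDomain := hdom, toIsNoetherian := inferInstance, toDimensionLEOne := hd1,
          toIsIntegralClosure := hic }

/-- Over a field, everything is flat. -/
theorem flat_of_field {Z : Scheme.{u}} {κ : Type u} [Field κ] (h : Z ⟶ Spec (CommRingCat.of κ)) :
    Flat h := by
  have : Subsingleton ↥(Spec (CommRingCat.of κ)) :=
    inferInstanceAs (Subsingleton (PrimeSpectrum κ))
  infer_instance

set_option maxHeartbeats 800000 in
/-- The DVR criterion at a point having a generization over the generic point, when the base is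
"Dedekind-like". -/
theorem dvrCrit_of_generization {X Y : Scheme.{u}} [IrreducibleSpace Y]
    (hY : ∀ y : Y, IsRegularLocalRing (Y.presheaf.stalk y) ∧ ringKrullDim (Y.presheaf.stalk y) ≤ 1)
    (f : X ⟶ Y) (x ξ : X) (hξ : ξ ⤳ x) (hη : f.base ξ = genericPoint Y) : DVRCrit f x := by
  intro A _ _ _ g hg x' h1 h2
  let c : ↥(Spec (CommRingCat.of A)) := IsLocalRing.closedPoint A
  let γ : ↥(Spec (CommRingCat.of A)) := (⟨⊥, Ideal.isPrime_bot⟩ : PrimeSpectrum A)
  have hγc : γ ≠ c := by
    intro h
    have h1 : (IsLocalRing.closedPoint A).asIdeal = ⊥ := by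
      have := congrArg PrimeSpectrum.asIdeal h
      exact this.symm
    exact IsDiscreteValuationRing.not_a_field A h1
  have hγsp : γ ⤳ c := (PrimeSpectrum.le_iff_specializes _ _).mp bot_le
  let R := Y.presheaf.stalk (g.base c)
  let φ : R ⟶ CommRingCat.of A := Scheme.stalkClosedPointTo g
  have hfac : Spec.map φ ≫ Y.fromSpecStalk (g.base c) = g :=
    Scheme.Spec_stalkClosedPointTo_fromSpecStalk g
  obtain ⟨hreg, hdim⟩ := hY (g.base c)
  have hded : IsDedekindDomain R := isDedekindDomain_of_regular hreg hdim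
  have hgγ : g.base γ = (Y.fromSpecStalk (g.base c)).base ((Spec.map φ).base γ) := by
    rw [← Scheme.Hom.comp_apply, hfac]
  have hgc : (Y.fromSpecStalk (g.base c)).base (IsLocalRing.closedPoint R) = g.base c :=
    Scheme.fromSpecStalk_closedPoint
  by_cases hcase : g.base γ = g.base c
  · -- the constant case: `g` factors through the residue field
    have hpt : (Spec.map φ).base γ = IsLocalRing.closedPoint R := by
      apply (Y.fromSpecStalk (g.base c)).isEmbedding.injective
      exact hgγ.symm.trans (hcase.trans hgc.symm)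
    have hker : ∀ a ∈ IsLocalRing.maximalIdeal R, φ.hom a = 0 := by
      intro a ha
      have h3 : a ∈ ((Spec.map φ).base γ).asIdeal := by rw [hpt]; exact ha
      exact h3
    let κ := IsLocalRing.ResidueField R
    let ψ : κ →+* A := Ideal.Quotient.lift (IsLocalRing.maximalIdeal R) φ.hom hker
    have hψ : ∀ a : R, ψ (IsLocalRing.residue R a) = φ.hom a := fun a => Ideal.Quotient.lift_mk _ _ _
    let r : Spec (CommRingCat.of κ) ⟶ Y :=
      Spec.map (CommRingCat.ofHom (IsLocalRing.residue R)) ≫ Y.fromSpecStalk (g.base c)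
    let g₁ : Spec (CommRingCat.of A) ⟶ Spec (CommRingCat.of κ) := Spec.map (CommRingCat.ofHom ψ)
    have hφ : CommRingCat.ofHom (IsLocalRing.residue R) ≫ CommRingCat.ofHom ψ = φ := by
      ext a
      exact hψ a
    have hg₁ : g₁ ≫ r = g := by
      have : g₁ ≫ r = Spec.map (CommRingCat.ofHom (IsLocalRing.residue R) ≫ CommRingCat.ofHom ψ) ≫
          Y.fromSpecStalk (g.base c) := by
        rw [Spec.map_comp, Category.assoc]
      rw [this, hφ, hfac]
    have : Flat (pullback.snd f r) := flat_of_field _
    let θ : pullback f g ⟶ pullback f r :=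
      pullback.lift (pullback.fst f g) (pullback.snd f g ≫ g₁)
        (by rw [pullback.condition, Category.assoc, hg₁])
    have hθ1 : θ ≫ pullback.fst f r = pullback.fst f g := pullback.lift_fst _ _ _
    have hθ2 : θ ≫ pullback.snd f r = pullback.snd f g ≫ g₁ := pullback.lift_snd _ _ _
    have sqO : IsPullback (θ ≫ pullback.fst f r) (pullback.snd f g) f (g₁ ≫ r) := by
      rw [hθ1, hg₁]; exact IsPullback.of_hasPullback f g
    have sqθ : IsPullback θ (pullback.snd f g) (pullback.snd f r) g₁ :=
      IsPullback.of_right sqO hθ2 (IsPullback.of_hasPullback f r)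
    have : Flat (pullback.snd f g) :=
      MorphismProperty.of_isPullback (P := @Flat) sqθ inferInstance
    have hgen := Flat.generalizingMap (pullback.snd f g)
    obtain ⟨z', hz'1, hz'2⟩ := hgen (a := x') (b := γ) (by rw [h2]; exact hγsp)
    exact ⟨z', hz'1, by rw [hz'2]; exact hγc⟩
  · -- the dominant case: `g` is flat
    have hker : RingHom.ker φ.hom = ⊥ := by
      by_contra hne
      have hprime : (RingHom.ker φ.hom).IsPrime := RingHom.ker_isPrime φ.hom
      have hmax : (RingHom.ker φ.hom).IsMaximal := hprime.isMaximal hne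
      have heq : RingHom.ker φ.hom = IsLocalRing.maximalIdeal R := IsLocalRing.eq_maximalIdeal hmax
      apply hcase
      refine hgγ.trans (Eq.trans ?_ hgc)
      congr 1
      apply PrimeSpectrum.ext
      exact heq
    have hinj : Function.Injective φ.hom := (RingHom.injective_iff_ker_eq_bot _).mpr hker
    have hflat : φ.hom.Flat := by
      letI : Algebra R A := φ.hom.toAlgebra
      change Module.Flat R A
      have : Module.IsTorsionFree R A := ⟨fun r hr a b hab => by
        have hr0 : φ.hom r ≠ 0 := fun h0 => hr.ne_zero (hinj (h0.trans (map_zero _).symm))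
        simp only [Algebra.smul_def] at hab
        exact mul_left_cancel₀ hr0 hab⟩
      infer_instance
    have : Flat (Spec.map φ) := Flat.SpecMap_iff.mpr hflat
    have : Flat g := by
      have : Flat (Spec.map φ ≫ Y.fromSpecStalk (g.base c)) := inferInstance
      rwa [hfac] at this
    have hgen := Flat.generalizingMap (pullback.fst f g)
    obtain ⟨z', hz'1, hz'2⟩ := hgen (a := x') (b := ξ) (by rw [h1]; exact hξ)
    refine ⟨z', hz'1, ?_⟩
    intro hz'c
    apply hcase
    have e1 : g.base c = genericPoint Y := by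
      rw [← hη, ← hz'2, ← Scheme.Hom.comp_apply, pullback.condition, Scheme.Hom.comp_apply, hz'c]
    have e2 : g.base γ ⤳ g.base c := hγsp.map g.continuous
    rw [e1] at e2 ⊢
    exact (e2.antisymm (genericPoint_specializes _)).eq

/-- Let Y be an irreducible locally Noetherian scheme whose local rings are regular of dimension at most
one, f : X ⟶ Y locally of finite type, and y a point of Y. If every irreducible component of X
meeting the fibre over y has dense image in Y, then there is an open subset U of X containing that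
fibre such that the restriction of f to U is universally open. -/
theorem result {X Y : Scheme.{u}} [IsLocallyNoetherian Y]
    [IrreducibleSpace Y]
    (hY : ∀ y : Y, IsRegularLocalRing (Y.presheaf.stalk y) ∧ ringKrullDim (Y.presheaf.stalk y) ≤ 1)
    (f : X ⟶ Y) [LocallyOfFiniteType f] (y : Y)
    (h : ∀ Z ∈ irreducibleComponents (X : Type u), (Z ∩ f.base ⁻¹' {y}).Nonempty → Dense (f.base '' Z)) :
    ∃ U : X.Opens, f.base ⁻¹' {y} ⊆ (U : Set X) ∧ UniversallyOpen (U.ι ≫ f) := by
  have : IsLocallyNoetherian X := LocallyOfFiniteType.isLocallyNoetherian f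
  have hX : ∀ x : X, ∃ U ∈ nhds x, NoetherianSpace U := by
    intro x
    obtain ⟨_, ⟨V, hV : IsAffineOpen V, rfl⟩, hxV, -⟩ :=
      X.isBasis_affineOpens.exists_subset_of_mem_open (Set.mem_univ x) isOpen_univ
    refine ⟨(V : Set X), V.isOpen.mem_nhds hxV, ?_⟩
    have : IsNoetherianRing Γ(X, V) := IsLocallyNoetherian.component_noetherian ⟨V, hV⟩
    exact noetherianSpace_of_isAffineOpen V hV
  choose W hWo hxW hW using exists_open_nhds_components hX
  let U : X.Opens := ⟨⋃ x ∈ f.base ⁻¹' {y}, W x, isOpen_biUnion fun x _ => hWo x⟩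
  refine ⟨U, ?_, ?_⟩
  · intro x hx
    exact Set.mem_biUnion hx (hxW x)
  · rw [Groth.Agent.S4931.universallyOpen_iff_forall_isUnivOpenAt]
    intro u
    have : LocallyOfFiniteType (U.ι ≫ f) := inferInstance
    apply isUnivOpenAt_of_dvrCrit
    apply dvrCrit_of_openImmersions f (U.ι ≫ f) U.ι (𝟙 Y) (by simp) u
    obtain ⟨x, hx, hux⟩ := Set.mem_iUnion₂.mp u.2
    obtain ⟨Z, hZ, hvZ, hxZ⟩ := hW x _ hux
    have hdense := h Z hZ ⟨x, hxZ, hx⟩
    obtain ⟨ζ, hζ⟩ := QuasiSober.sober hZ.1 (isClosed_of_mem_irreducibleComponents Z hZ)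
    have hζu : ζ ⤳ U.ι.base u := hζ.specializes hvZ
    have hfζ : f.base ζ = genericPoint Y := by
      have hsub : f.base '' Z ⊆ closure {f.base ζ} := by
        rintro _ ⟨z, hz, rfl⟩
        exact specializes_iff_mem_closure.mp ((hζ.specializes hz).map f.continuous)
      have hcl : closure {f.base ζ} = Set.univ := by
        refine Set.eq_univ_of_univ_subset ?_
        rw [← hdense.closure_eq]
        exact closure_minimal hsub isClosed_closure
      have h1 : f.base ζ ⤳ genericPoint Y := by
        rw [specializes_iff_mem_closure, hcl]; trivial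
      exact (h1.antisymm (genericPoint_specializes _)).eq
    exact dvrCrit_of_generization hY f _ ζ hζu hfζ

end Groth.Agent.S2572
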