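import Groth.Statements.S2573
import Mathlib
import Groth.Agent.Lib.Helper5SliceA
import Groth.Agent.Lib.Helper3FlatModelMod
import Groth.Agent.Lib.Helper14NormFlat
import Groth.Agent.S4853

set_option autoImplicit false
universe u
open EGA43

namespace Groth.Agent.S2573

open TensorProduct
open Groth.Agent.Lib.Helper3.FlatLoc Groth.Agent.Lib.Helper3.FlatOpen Groth.Agent.Lib.Helper5.Slice

/-- composite of localizations -/
theorem isLocalizedModule_comp {R : Type*} [CommRing R] {M M₁ M₂ : Type*} [AddCommGroup M]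
    [AddCommGroup M₁] [AddCommGroup M₂] [Module R M] [Module R M₁] [Module R M₂]
    (S₁ S₂ : Submonoid R) (h : ∀ s ∈ S₁, ∃ m : R, m * s ∈ S₂)
    (f : M →ₗ[R] M₁) [IsLocalizedModule S₁ f] (g : M₁ →ₗ[R] M₂) [IsLocalizedModule S₂ g] :
    IsLocalizedModule S₂ (g ∘ₗ f) where
  map_units s := IsLocalizedModule.map_units g s
  surj y := by
    obtain ⟨⟨x₁, s₂⟩, h₂⟩ := IsLocalizedModule.surj S₂ g y
    obtain ⟨⟨x, s₁⟩, h₁⟩ := IsLocalizedModule.surj S₁ f x₁
    obtain ⟨m, hm⟩ := h s₁ s₁.2
    refine ⟨⟨m • x, ⟨m * s₁, hm⟩ * s₂⟩, ?_⟩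
    have h₁' : (s₁ : R) • x₁ = f x := h₁
    have h₂' : (s₂ : R) • y = g x₁ := h₂
    show ((m * (s₁ : R)) * (s₂ : R)) • y = g (f (m • x))
    rw [mul_smul, h₂', map_smul, ← h₁', ← map_smul, mul_smul]
  exists_of_eq {x y} e := by
    rw [LinearMap.comp_apply, LinearMap.comp_apply] at e
    obtain ⟨c₂, hc₂⟩ := IsLocalizedModule.exists_of_eq (S := S₂) (f := g) e
    have hc₂' : f ((c₂ : R) • x) = f ((c₂ : R) • y) := by
      rw [map_smul, map_smul]
      exact hc₂
    obtain ⟨c₁, hc₁⟩ := IsLocalizedModule.exists_of_eq (S := S₁) (f := f) hc₂'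
    have hc₁' : (c₁ : R) • (c₂ : R) • x = (c₁ : R) • (c₂ : R) • y := hc₁
    obtain ⟨m, hm⟩ := h c₁ c₁.2
    refine ⟨⟨m * c₁, hm⟩ * c₂, ?_⟩
    show ((m * (c₁ : R)) * (c₂ : R)) • x = ((m * (c₁ : R)) * (c₂ : R)) • y
    rw [mul_smul, mul_smul, mul_smul, mul_smul, hc₁']

theorem le_of_minimalPrimes_eq {A : Type*} [CommRing A] (p : Ideal A)
    (hp : minimalPrimes A = {p}) (q : Ideal A) [q.IsPrime] : p ≤ q := by
  obtain ⟨p', hp', hle⟩ := Ideal.exists_minimalPrimes_le (I := (⊥ : Ideal A)) (J := q) bot_le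
  have : p' ∈ minimalPrimes A := hp'
  rw [hp] at this
  rw [Set.mem_singleton_iff] at this
  exact this ▸ hle

theorem nilradical_eq_of_minimalPrimes_eq {A : Type*} [CommRing A] (p : Ideal A)
    (hp : minimalPrimes A = {p}) : nilradical A = p := by
  have h := Ideal.sInf_minimalPrimes (I := (⊥ : Ideal A))
  have h2 : (⊥ : Ideal A).minimalPrimes = {p} := hp
  rw [h2, sInf_singleton] at h
  exact h.symm

theorem exists_flat_away {A B : Type u} [CommRing A] [CommRing B] [Algebra A B]
    [Algebra.FinitePresentation A B] (p : Ideal A) [p.IsPrime] (hp : minimalPrimes A = {p})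
    (M : Type u) [AddCommGroup M] [Module B M] [Module A M] [IsScalarTower A B M]
    [Module.FinitePresentation B M]
    (hflat : Module.Flat (Localization.AtPrime p) (LocalizedModule p.primeCompl M)) :
    ∃ t : A, t ∉ p ∧ Module.Flat A (LocalizedModule (Submonoid.powers (algebraMap A B t)) M) := by
  have hflatA : Module.Flat A (LocalizedModule p.primeCompl M) :=
    Module.Flat.trans A (Localization.AtPrime p) _
  have hcrit := (flat_localizedModule_iff' (R := A) (S := A) (M := M) p.primeCompl).mp hflatA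
  -- flat at every prime over p
  have hfib : ∀ q : Ideal B, ∀ _ : q.IsPrime, q.comap (algebraMap A B) = p →
      Module.Flat A (LocalizedModule q.primeCompl M) := by
    intro q hq hqp
    rw [flat_localizedModule_iff' (R := A) (S := B) (M := M) q.primeCompl]
    intro I z hz
    obtain ⟨a, ha, haz⟩ := hcrit I z hz
    refine ⟨algebraMap A B a, ?_, ?_⟩
    · intro hmem
      apply ha
      rw [← hqp]
      exact hmem
    · rw [algebraMap_smul]
      exact haz
  have hO := isOpen_flatLocus_of_finitePresentation (R := A) (S := B) (M := M)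
  set W : Set (PrimeSpectrum B) :=
    {q : PrimeSpectrum B | Module.Flat A (LocalizedModule q.asIdeal.primeCompl M)} with hW
  set J : Ideal B := PrimeSpectrum.vanishingIdeal Wᶜ with hJ
  have hzl : PrimeSpectrum.zeroLocus (J : Set B) = Wᶜ := by
    rw [hJ, PrimeSpectrum.zeroLocus_vanishingIdeal_eq_closure, hO.isClosed_compl.closure_eq]
  -- some element of A outside p lands in J
  have hex : ∃ t : A, t ∉ p ∧ algebraMap A B t ∈ J := by
    by_contra hcon
    push_neg at hcon
    let T : Submonoid B := p.primeCompl.map (algebraMap A B)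
    have hdisj : Disjoint (T : Set B) (J : Set B) := by
      rw [Set.disjoint_left]
      rintro _ ⟨a, ha, rfl⟩ hJa
      exact hcon a ha hJa
    obtain ⟨q, hq, hJq, hqT⟩ := Ideal.exists_le_prime_disjoint J T hdisj.symm
    have hqp : q.comap (algebraMap A B) = p := by
      apply le_antisymm
      · intro a ha
        by_contra hap
        exact (Set.disjoint_left.mp hqT) ha ⟨a, hap, rfl⟩
      · exact le_of_minimalPrimes_eq p hp _
    have hqW : (⟨q, hq⟩ : PrimeSpectrum B) ∈ W := hfib q hq hqp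
    have hqWc : (⟨q, hq⟩ : PrimeSpectrum B) ∈ Wᶜ := by
      rw [← hzl]
      exact hJq
    exact hqWc hqW
  obtain ⟨t, htp, htJ⟩ := hex
  refine ⟨t, htp, flat_localizedModule_powers_of_forall_prime _ ?_⟩
  intro q hq hgq
  have : (⟨q, hq⟩ : PrimeSpectrum B) ∉ Wᶜ := by
    rw [← hzl]
    intro hmem
    exact hgq (hmem htJ)
  exact not_not.mp this

theorem free_of_flat_of_free_quotient {A : Type u} [CommRing A] (N : Type u) [AddCommGroup N]
    [Module A N] [Module.Flat A N] (J : Ideal A) (hJ : IsNilpotent J)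
    (hfree : Module.Free (A ⧸ J) ((A ⧸ J) ⊗[A] N)) : Module.Free A N := by
  obtain ⟨R₀, -, -, h3⟩ := Groth.Agent.S4853.result N J hJ hfree
  obtain ⟨h31, h32⟩ := h3 A
  have hfl : Module.Flat A (A ⊗[A] N) := Module.Flat.of_linearEquiv (TensorProduct.lid A N)
  have := h31.mpr (h32.mp hfl)
  exact Module.Free.of_equiv (TensorProduct.lid A N)

open Groth.Agent.Lib.Helper2.GenFree in
theorem free_tensor_of_freeAway {R : Type*} [CommRing R] (f : R) (Q : Type*) [AddCommGroup Q]
    [Module R Q] (h : FreeAway R f Q) (C : Type*) [CommRing C] [Algebra R C]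
    (hf : IsUnit (algebraMap R C f)) : Module.Free C (C ⊗[R] Q) := by
  let Rf := Localization.Away f
  let Qf := LocalizedModule (Submonoid.powers f) Q
  have hfreeQf : Module.Free Rf Qf :=
    h.free Rf (LocalizedModule.mkLinearMap (Submonoid.powers f) Q)
  letI : Algebra Rf C := (IsLocalization.Away.lift f hf).toAlgebra
  haveI : IsScalarTower R Rf C := IsScalarTower.of_algebraMap_eq
    (fun x => (IsLocalization.Away.lift_eq f hf x).symm)
  have e1 : C ⊗[Rf] (Rf ⊗[R] Q) ≃ₗ[C] C ⊗[R] Q :=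
    AlgebraTensorModule.cancelBaseChange R Rf C C Q
  have e2 : Rf ⊗[R] Q ≃ₗ[Rf] Qf :=
    (IsLocalizedModule.isBaseChange (Submonoid.powers f) Rf
      (LocalizedModule.mkLinearMap (Submonoid.powers f) Q)).equiv
  haveI : Module.Free Rf (Rf ⊗[R] Q) := Module.Free.of_equiv e2.symm
  haveI : Module.Free C (C ⊗[Rf] (Rf ⊗[R] Q)) := inferInstance
  exact Module.Free.of_equiv e1

open Groth.Agent.Lib.Helper2.GenFree Groth.Agent.Lib.Helper14.NormFlat
  Groth.Agent.Lib.Helper3.FlatModelMod

/-- Let A be a commutative ring whose spectrum is irreducible, with unique minimal prime p, let B be a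
finitely presented A-algebra and M a finitely presented B-module. If the localization M_p is flat
over A_p, then there is t ∉ p such that M_t is a free A_t-module. -/
theorem result {A B : Type u} [CommRing A] [CommRing B] [Algebra A B]
    [Algebra.FinitePresentation A B] (p : Ideal A) [p.IsPrime] (hp : minimalPrimes A = {p})
    (M : Type u) [AddCommGroup M] [Module B M] [Module A M] [IsScalarTower A B M] [Module.FinitePresentation B M]
    (hflat : Module.Flat (Localization.AtPrime p) (LocalizedModule p.primeCompl M)) :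
    ∃ t : A, t ∉ p ∧ Module.Free (Localization.Away t) (LocalizedModule (Submonoid.powers t) M) := by
  obtain ⟨t₁, ht₁, hfl₁⟩ := exists_flat_away (B := B) p hp M hflat
  set b₁ : B := algebraMap A B t₁ with hb₁
  haveI : Algebra.FinitePresentation B (Localization.Away b₁) :=
    IsLocalization.Away.finitePresentation b₁
  haveI : Algebra.FinitePresentation A (Localization.Away b₁) :=
    Algebra.FinitePresentation.trans A B (Localization.Away b₁)
  haveI : IsScalarTower A (Localization.Away b₁) (LocalizedModule (Submonoid.powers b₁) M) :=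
    inferInstance
  haveI : Module.FinitePresentation (Localization.Away b₁)
    (LocalizedModule (Submonoid.powers b₁) M) := inferInstance
  obtain ⟨R₀, _, _, S₀, _, _, _, _, _, _, M₀, _, _, _, _, _, _, f, h1, h2, h3, h4, h5, h6⟩ :=
    exists_flat_module_model A (Localization.Away b₁) (LocalizedModule (Submonoid.powers b₁) M)
  haveI : IsNoetherianRing R₀ := Algebra.FiniteType.isNoetherianRing ℤ R₀
  let p₀ : Ideal R₀ := p.comap (algebraMap R₀ A)
  haveI : p₀.IsPrime := Ideal.comap_isPrime _ _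
  obtain ⟨f₀, hf₀, hfree₀⟩ := exists_freeAway_quotient p₀ S₀ M₀
  set t₂ : A := algebraMap R₀ A f₀ with ht₂
  have ht₂p : t₂ ∉ p := hf₀
  refine ⟨t₁ * t₂, Ideal.IsPrime.mul_notMem ‹_› ht₁ ht₂p, ?_⟩
  set t : A := t₁ * t₂ with ht
  -- the nilpotent ideal
  let J : Ideal (Localization.Away t) := p₀.map (algebraMap R₀ (Localization.Away t))
  have hJnil : IsNilpotent J := by
    have hfg : J.FG := Ideal.FG.map (IsNoetherian.noetherian p₀) _
    rw [Ideal.FG.isNilpotent_iff_le_nilradical hfg, Ideal.map_le_iff_le_comap]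
    intro x hx
    have h1 : algebraMap R₀ A x ∈ nilradical A := by
      rw [nilradical_eq_of_minimalPrimes_eq p hp]
      exact hx
    rw [Ideal.mem_comap, mem_nilradical, IsScalarTower.algebraMap_apply R₀ A (Localization.Away t)]
    exact (mem_nilradical.mp h1).map _
  -- freeness of the reduction modulo J
  have hle : p₀ ≤ J.comap (algebraMap R₀ (Localization.Away t)) := Ideal.le_comap_map
  letI algDC : Algebra (R₀ ⧸ p₀) (Localization.Away t ⧸ J) :=
    (Ideal.quotientMap J (algebraMap R₀ (Localization.Away t)) hle).toAlgebra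
  haveI : IsScalarTower R₀ (R₀ ⧸ p₀) (Localization.Away t ⧸ J) :=
    IsScalarTower.of_algebraMap_eq (fun x => rfl)
  have hunit : IsUnit (algebraMap (R₀ ⧸ p₀) (Localization.Away t ⧸ J)
      (Ideal.Quotient.mk p₀ f₀)) := by
    have h1 : IsUnit (algebraMap A (Localization.Away t) t) :=
      IsLocalization.Away.algebraMap_isUnit t
    rw [ht, map_mul] at h1
    have h2 : IsUnit (algebraMap A (Localization.Away t) t₂) := isUnit_of_mul_isUnit_right h1
    have h3 : algebraMap (R₀ ⧸ p₀) (Localization.Away t ⧸ J) (Ideal.Quotient.mk p₀ f₀) =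
        Ideal.Quotient.mk J (algebraMap A (Localization.Away t) t₂) := by
      rw [ht₂, ← IsScalarTower.algebraMap_apply R₀ A (Localization.Away t)]
      rfl
    rw [h3]
    exact h2.map _
  have hfree1 : Module.Free (Localization.Away t ⧸ J)
      ((Localization.Away t ⧸ J) ⊗[R₀ ⧸ p₀] (M₀ ⧸ (p₀ • ⊤ : Submodule R₀ M₀))) :=
    free_tensor_of_freeAway _ _ hfree₀ _ hunit
  have e_a : (Localization.Away t ⧸ J) ⊗[Localization.Away t] (Localization.Away t ⊗[R₀] M₀)
      ≃ₗ[Localization.Away t ⧸ J] (Localization.Away t ⧸ J) ⊗[R₀] M₀ :=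
    AlgebraTensorModule.cancelBaseChange R₀ (Localization.Away t) (Localization.Away t ⧸ J)
      (Localization.Away t ⧸ J) M₀
  have e_b : (Localization.Away t ⧸ J) ⊗[R₀ ⧸ p₀] ((R₀ ⧸ p₀) ⊗[R₀] M₀)
      ≃ₗ[Localization.Away t ⧸ J] (Localization.Away t ⧸ J) ⊗[R₀] M₀ :=
    AlgebraTensorModule.cancelBaseChange R₀ (R₀ ⧸ p₀) (Localization.Away t ⧸ J)
      (Localization.Away t ⧸ J) M₀
  have e_c : ((R₀ ⧸ p₀) ⊗[R₀] M₀) ≃ₗ[R₀ ⧸ p₀] (M₀ ⧸ (p₀ • ⊤ : Submodule R₀ M₀)) :=
    (TensorProduct.quotTensorEquivQuotSMul M₀ p₀).extendScalarsOfSurjective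
      Ideal.Quotient.mk_surjective
  have e_d : (Localization.Away t ⧸ J) ⊗[R₀ ⧸ p₀] ((R₀ ⧸ p₀) ⊗[R₀] M₀)
      ≃ₗ[Localization.Away t ⧸ J]
      (Localization.Away t ⧸ J) ⊗[R₀ ⧸ p₀] (M₀ ⧸ (p₀ • ⊤ : Submodule R₀ M₀)) :=
    AlgebraTensorModule.congr (LinearEquiv.refl _ _) e_c
  have hfreeC : Module.Free (Localization.Away t ⧸ J)
      ((Localization.Away t ⧸ J) ⊗[Localization.Away t] (Localization.Away t ⊗[R₀] M₀)) :=
    Module.Free.of_equiv (e_d.symm ≪≫ₗ e_b ≪≫ₗ e_a.symm)
  have hfreeN : Module.Free (Localization.Away t) (Localization.Away t ⊗[R₀] M₀) :=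
    free_of_flat_of_free_quotient _ J hJnil hfreeC
  -- transport to the localization of `M`
  have e₁ : A ⊗[R₀] M₀ ≃ₗ[A] LocalizedModule (Submonoid.powers b₁) M :=
    (Algebra.IsPushout.cancelBaseChange R₀ A S₀ (Localization.Away b₁) M₀).symm ≪≫ₗ
      h6.equiv.restrictScalars A
  have e₂ : Localization.Away t ⊗[A] (A ⊗[R₀] M₀) ≃ₗ[Localization.Away t]
      Localization.Away t ⊗[R₀] M₀ :=
    AlgebraTensorModule.cancelBaseChange R₀ A (Localization.Away t) (Localization.Away t) M₀
  have e₃ : Localization.Away t ⊗[A] (A ⊗[R₀] M₀) ≃ₗ[Localization.Away t]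
      Localization.Away t ⊗[A] (LocalizedModule (Submonoid.powers b₁) M) :=
    AlgebraTensorModule.congr (LinearEquiv.refl _ _) e₁
  have e₄ : Localization.Away t ⊗[A] (LocalizedModule (Submonoid.powers b₁) M)
      ≃ₗ[Localization.Away t]
      LocalizedModule (Submonoid.powers t) (LocalizedModule (Submonoid.powers b₁) M) :=
    (IsLocalizedModule.isBaseChange (Submonoid.powers t) (Localization.Away t)
      (LocalizedModule.mkLinearMap (Submonoid.powers t)
        (LocalizedModule (Submonoid.powers b₁) M))).equiv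
  let ℓ : M →ₗ[A] LocalizedModule (Submonoid.powers b₁) M :=
    (LocalizedModule.mkLinearMap (Submonoid.powers b₁) M).restrictScalars A
  haveI hℓ : IsLocalizedModule (Submonoid.powers t₁) ℓ :=
    IsLocalizedModule.restrictScalars_powers t₁ _
  have hdiv : ∀ s ∈ Submonoid.powers t₁, ∃ m : A, m * s ∈ Submonoid.powers t := by
    rintro _ ⟨n, rfl⟩
    exact ⟨t₂ ^ n, n, by show (t₁ * t₂) ^ n = t₂ ^ n * t₁ ^ n; rw [mul_pow, mul_comm]⟩
  haveI hcomp : IsLocalizedModule (Submonoid.powers t)
      ((LocalizedModule.mkLinearMap (Submonoid.powers t)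
        (LocalizedModule (Submonoid.powers b₁) M)) ∘ₗ ℓ) :=
    isLocalizedModule_comp (Submonoid.powers t₁) (Submonoid.powers t) hdiv ℓ _
  have e₅ : LocalizedModule (Submonoid.powers t) M ≃ₗ[A]
      LocalizedModule (Submonoid.powers t) (LocalizedModule (Submonoid.powers b₁) M) :=
    IsLocalizedModule.linearEquiv (Submonoid.powers t)
      (LocalizedModule.mkLinearMap (Submonoid.powers t) M)
      ((LocalizedModule.mkLinearMap (Submonoid.powers t)
        (LocalizedModule (Submonoid.powers b₁) M)) ∘ₗ ℓ)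
  have e₅' : LocalizedModule (Submonoid.powers t) M ≃ₗ[Localization.Away t]
      LocalizedModule (Submonoid.powers t) (LocalizedModule (Submonoid.powers b₁) M) :=
    LinearEquiv.extendScalarsOfIsLocalization (Submonoid.powers t) (Localization.Away t) e₅
  exact Module.Free.of_equiv (e₂.symm ≪≫ₗ e₃ ≪≫ₗ e₄ ≪≫ₗ e₅'.symm)

end Groth.Agent.S2573
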