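import Groth.Statements.S2574
import Mathlib
import Groth.Agent.Lib.Helper5InjFlat

set_option autoImplicit false
open TensorProduct
universe u
open EGA43

namespace Groth.Agent.S2574

/-- Let A be a Noetherian ring, J a nilpotent ideal of A and M an A-module. Then M is flat over A if and
only if (A/J) ⊗_A M is flat over A/J and, for every associated prime p of A, the localization M_p is
flat over A_p. -/
theorem result {A : Type u} [CommRing A] [IsNoetherianRing A]
    (J : Ideal A) (hJ : IsNilpotent J) (M : Type u) [AddCommGroup M] [Module A M] :
    Module.Flat A M ↔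
      Module.Flat (A ⧸ J) ((A ⧸ J) ⊗[A] M) ∧
        ∀ p : associatedPrimes A A,
          haveI : p.1.IsPrime := IsAssociatedPrime.isPrime p.2
          Module.Flat (Localization.AtPrime p.1) (LocalizedModule p.1.primeCompl M) := by
  constructor
  · intro hflat
    exact ⟨inferInstance, fun p => inferInstance⟩
  · rintro ⟨h1, h2⟩
    have : Finite ↥(associatedPrimes A A) :=
      Set.finite_coe_iff.mpr (associatedPrimes.finite A A)
    have h2' : ∀ p : associatedPrimes A A, Module.Flat (Localization.AtPrime p.1)
        (Localization.AtPrime p.1 ⊗[A] M) := by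
      intro p
      have e : (Localization.AtPrime p.1) ⊗[A] M ≃ₗ[Localization.AtPrime p.1]
          LocalizedModule p.1.primeCompl M :=
        (IsLocalizedModule.isBaseChange p.1.primeCompl (Localization.AtPrime p.1)
          (LocalizedModule.mkLinearMap p.1.primeCompl M)).equiv
      have := h2 p
      exact Module.Flat.of_linearEquiv e
    refine Groth.Agent.Lib.Helper5.flat_of_isNilpotent_of_jointly_injective J hJ
      (fun p : associatedPrimes A A => Localization.AtPrime p.1) ?_
      (Groth.Agent.Lib.Helper5.tensorJointlyInjective_of_finite J _ h1) h1 h2'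
    intro a ha
    by_contra hne
    obtain ⟨P, hP, hle⟩ := exists_le_isAssociatedPrime_of_isNoetherianRing (R := A) a hne
    have h3 := ha ⟨P, hP⟩
    have : P.IsPrime := hP.isPrime
    change algebraMap A (Localization.AtPrime P) a = 0 at h3
    rw [IsLocalization.map_eq_zero_iff P.primeCompl] at h3
    obtain ⟨⟨s, hs⟩, hsa⟩ := h3
    apply hs
    apply hle
    rw [Submodule.mem_colon_singleton, Submodule.mem_bot]
    exact hsa

end Groth.Agent.S2574
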