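import Groth.Statements.S2584
import Mathlib
import Groth.Agent.S2777
import Groth.Agent.S3426
import Groth.Agent.Lib.Helper3FibreConstr

set_option autoImplicit false
open CategoryTheory AlgebraicGeometry
universe u
open EGA43

namespace Groth.Agent.S2584

open CategoryTheory.Limits in

open CategoryTheory.Limits in
/-- Let g : Y ⟶ S and f : X ⟶ Y be such that X and Y are of finite presentation over S (locally of
finite presentation, quasi-compact and quasi-separated). For each point s of S let f_s be the
induced morphism from the fibre of f ≫ g over s to the fibre of g over s. Then the set of s for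
which f_s is an open immersion is locally constructible in S. -/
theorem result {X Y S : Scheme.{u}} (f : X ⟶ Y) (g : Y ⟶ S)
    [LocallyOfFinitePresentation g] [QuasiCompact g] [QuasiSeparated g]
    [LocallyOfFinitePresentation (f ≫ g)] [QuasiCompact (f ≫ g)] [QuasiSeparated (f ≫ g)] :
    Topology.IsLocallyConstructible {s : S |
      IsOpenImmersion (pullback.lift (pullback.fst (f ≫ g) (S.fromSpecResidueField s) ≫ f) (pullback.snd (f ≫ g) (S.fromSpecResidueField s))
          ((Category.assoc _ _ _).trans pullback.condition) :
        pullback (f ≫ g) (S.fromSpecResidueField s) ⟶ pullback g (S.fromSpecResidueField s))} := by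
  have hE : Topology.IsLocallyConstructible
      {s : S | Etale (pullback.snd f (pullback.fst g (S.fromSpecResidueField s)))} :=
    (Groth.Agent.S2777.result g (f ≫ g) f rfl).1
  have hM := Groth.Agent.S3426.result f g
  have hiff : ∀ s : S, Etale (pullback.snd f (pullback.fst g (S.fromSpecResidueField s))) ↔
      Etale (pullback.lift (pullback.fst (f ≫ g) (S.fromSpecResidueField s) ≫ f) (pullback.snd (f ≫ g) (S.fromSpecResidueField s))
          ((Category.assoc _ _ _).trans pullback.condition) :
        pullback (f ≫ g) (S.fromSpecResidueField s) ⟶ pullback g (S.fromSpecResidueField s)) := by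
    intro s
    have hpb := Groth.Agent.Lib.Helper3.FibreConstr.isPullback_fibreMap f g s
    have hsnd : hpb.isoPullback.hom ≫ pullback.snd f (pullback.fst g (S.fromSpecResidueField s)) =
      (pullback.lift (pullback.fst (f ≫ g) (S.fromSpecResidueField s) ≫ f) (pullback.snd (f ≫ g) (S.fromSpecResidueField s))
          ((Category.assoc _ _ _).trans pullback.condition) :
        pullback (f ≫ g) (S.fromSpecResidueField s) ⟶ pullback g (S.fromSpecResidueField s)) := hpb.isoPullback_hom_snd
    rw [← hsnd]
    exact (MorphismProperty.cancel_left_of_respectsIso @Etale hpb.isoPullback.hom _).symm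
  have heq : {s : S | IsOpenImmersion (pullback.lift (pullback.fst (f ≫ g) (S.fromSpecResidueField s) ≫ f) (pullback.snd (f ≫ g) (S.fromSpecResidueField s))
          ((Category.assoc _ _ _).trans pullback.condition) :
        pullback (f ≫ g) (S.fromSpecResidueField s) ⟶ pullback g (S.fromSpecResidueField s))} =
      {s : S | Etale (pullback.snd f (pullback.fst g (S.fromSpecResidueField s)))} ∩
      {s : S | Mono (pullback.lift (pullback.fst (f ≫ g) (S.fromSpecResidueField s) ≫ f) (pullback.snd (f ≫ g) (S.fromSpecResidueField s))
          ((Category.assoc _ _ _).trans pullback.condition) :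
        pullback (f ≫ g) (S.fromSpecResidueField s) ⟶ pullback g (S.fromSpecResidueField s))} := by
    ext s
    simp only [Set.mem_ofPred_eq, Set.mem_inter_iff]
    rw [hiff s]
    constructor
    · intro h
      exact ⟨inferInstance, inferInstance⟩
    · rintro ⟨h1, h2⟩
      exact IsOpenImmersion.of_flat_of_mono _
  rw [heq]
  exact hE.inter hM

end Groth.Agent.S2584
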