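import Groth.Statements.S2581
import Groth.Agent.Lib.Helper3LimConstr
import Groth.Agent.Lib.Helper22LimBC2
import Groth.Agent.Lib.Helper6LfpComp
import Mathlib

set_option autoImplicit false
universe u
open CategoryTheory AlgebraicGeometry
open EGA43

namespace Groth.Agent.S2581

open Limits Groth.Agent.Lib.Helper22.LimBC

/-- Surjectivity descends to a finite stage (in `bcMor` form). -/
theorem exists_surjective_bcMor {I : Type u} [SmallCategory I] [IsCofiltered I]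
    (D : I ⥤ Scheme.{u}) (c : Limits.Cone D) (hc : Limits.IsLimit c)
    [∀ (i j : I) (f : i ⟶ j), IsAffineHom (D.map f)] (i₀ : I)
    {X₀ Y₀ : Scheme.{u}} (f₀ : X₀ ⟶ Y₀) (g₀ : Y₀ ⟶ D.obj i₀)
    [CompactSpace Y₀] [QuasiSeparatedSpace Y₀] [LocallyOfFinitePresentation f₀] [QuasiCompact f₀]
    {X Y : Scheme.{u}} (f : X ⟶ Y) (g : Y ⟶ c.pt) (qY : Y ⟶ Y₀) (qX : X ⟶ X₀)
    (hY : IsPullback qY g g₀ (c.π.app i₀)) (hX : IsPullback qX f f₀ qY) [Surjective f] :
    ∃ l : Over i₀, Surjective (bcMor D i₀ f₀ g₀ l) := by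
  have inst : ∀ {i j : I} (f : i ⟶ j), IsAffineHom (D.map f) := fun f => inferInstance
  let j : Over i₀ := Over.mk (𝟙 i₀)
  haveI : LocallyOfFinitePresentation (bcMor D i₀ f₀ g₀ j) :=
    MorphismProperty.of_isPullback (P := @LocallyOfFinitePresentation)
      (isPullback_bcMor D i₀ f₀ g₀ j) inferInstance
  haveI : QuasiCompact (bcMor D i₀ f₀ g₀ j) :=
    MorphismProperty.of_isPullback (P := @QuasiCompact)
      (isPullback_bcMor D i₀ f₀ g₀ j) inferInstance
  have hE : Topology.IsConstructible (Set.range (bcMor D i₀ f₀ g₀ j))ᶜ := by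
    rw [← Set.image_univ]
    exact ((bcMor D i₀ f₀ g₀ j).isConstructible_image Topology.IsConstructible.univ).compl
  have hempty : (bcCone i₀ hY).π.app j ⁻¹' (Set.range (bcMor D i₀ f₀ g₀ j))ᶜ = ∅ := by
    rw [Set.eq_empty_iff_forall_notMem]
    intro y hy
    obtain ⟨x, rfl⟩ := f.surjective y
    apply hy
    refine ⟨bcπ i₀ (hX.paste_vert hY) j x, ?_⟩
    rw [← Scheme.Hom.comp_apply, bcπ_bcMor hY hX j]
    rfl
  obtain ⟨k, a, hk⟩ := Groth.Agent.Lib.Helper3.LimConstr.exists_preimage_eq_empty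
    (bcDiagram D i₀ g₀) (bcCone i₀ hY) (isLimitBcCone i₀ hY hc) j _ hE hempty
  refine ⟨k, ⟨fun y => ?_⟩⟩
  have h1 := Scheme.image_preimage_eq_of_isPullback (isPullback_map_bcMor D i₀ f₀ g₀ a) Set.univ
  rw [Set.preimage_univ, Set.image_univ, Set.image_univ] at h1
  have : y ∈ Set.range (bcMor D i₀ f₀ g₀ k) := by
    rw [h1]
    by_contra hy
    have : y ∈ (bcDiagram D i₀ g₀).map a ⁻¹' (Set.range (bcMor D i₀ f₀ g₀ j))ᶜ := hy
    rw [hk] at this
    exact this
  exact this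

/-- Let S = lim S_i be a cofiltered limit of schemes with affine transition morphisms, S_{i₀} a
quasi-compact quasi-separated stage (the source needs S_{i₀} only quasi-compact; quasi-separatedness
is assumed here), f₀ : X₀ ⟶ Y₀ an S_{i₀}-morphism between schemes of finite presentation over
S_{i₀}, and f : X ⟶ Y its base change to S (base changes expressed by pullback squares). If f is
surjective, then the base change f_i : X_i ⟶ Y_i of f₀ to some stage S_i is surjective. -/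
theorem result {I : Type u} [SmallCategory I] [IsCofiltered I]
    (D : I ⥤ Scheme.{u}) (c : Limits.Cone D) (hc : Limits.IsLimit c)
    [∀ (i j : I) (f : i ⟶ j), IsAffineHom (D.map f)] (i₀ : I) [CompactSpace (D.obj i₀)]
    [QuasiSeparatedSpace (D.obj i₀)] {X₀ Y₀ : Scheme.{u}} (f₀ : X₀ ⟶ Y₀) (g₀ : Y₀ ⟶ D.obj i₀)
    [LocallyOfFinitePresentation g₀] [QuasiCompact g₀] [QuasiSeparated g₀]
    [LocallyOfFinitePresentation (f₀ ≫ g₀)] [QuasiCompact (f₀ ≫ g₀)] [QuasiSeparated (f₀ ≫ g₀)]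
    {X Y : Scheme.{u}} (f : X ⟶ Y) (g : Y ⟶ c.pt) (qY : Y ⟶ Y₀) (qX : X ⟶ X₀)
    (hY : IsPullback qY g g₀ (c.π.app i₀)) (hX : IsPullback qX f f₀ qY) [Surjective f] :
    ∃ (i : I) (φ : i ⟶ i₀) (Xi Yi : Scheme.{u}) (fi : Xi ⟶ Yi) (gi : Yi ⟶ D.obj i) (pY : Yi ⟶ Y₀)
      (pX : Xi ⟶ X₀), IsPullback pY gi g₀ (D.map φ) ∧ IsPullback pX fi f₀ pY ∧ Surjective fi := by
  haveI : CompactSpace Y₀ := QuasiCompact.compactSpace_of_compactSpace g₀
  haveI : QuasiSeparatedSpace Y₀ := quasiSeparatedSpace_of_quasiSeparated g₀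
  haveI : LocallyOfFiniteType g₀ := inferInstance
  haveI : LocallyOfFinitePresentation f₀ :=
    Groth.Agent.Lib.Helper6.locallyOfFinitePresentation_of_comp (g := g₀) inferInstance inferInstance
  haveI : QuasiCompact f₀ := QuasiCompact.of_comp f₀ g₀
  obtain ⟨l, hl⟩ := exists_surjective_bcMor D c hc i₀ f₀ g₀ f g qY qX hY hX
  exact ⟨l.left, l.hom, _, _, bcMor D i₀ f₀ g₀ l, dSnd D i₀ g₀ l, dFst D i₀ g₀ l,
    dFst D i₀ (f₀ ≫ g₀) l, isPullback_d D i₀ g₀ l, isPullback_bcMor D i₀ f₀ g₀ l, hl⟩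

end Groth.Agent.S2581
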