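import Groth.Statements.S2586
import Groth.Agent.Lib.Helper22RegFib6

set_option autoImplicit false
open TensorProduct
universe u
open EGA43

namespace Groth.Agent.S2586

/-- Let A ⟶ B be a ring map with B finitely presented over A, M a finitely presented B-module, q a prime
of B with contraction p, and g₁, …, gₙ elements of q. Suppose the localization M_q is flat over A
and the gᵢ form a regular sequence on the localization at q of the fibre module M ⊗_A κ(p). Then the
gᵢ form a regular sequence on M_q, and for every i the localization at q of M/(g₁, …, gᵢ)M is flat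
over A. -/
theorem result {A B : Type u} [CommRing A] [CommRing B] [Algebra A B]
    [Algebra.FinitePresentation A B] (M : Type u) [AddCommGroup M] [Module B M] [Module A M] [IsScalarTower A B M]
    [Module.FinitePresentation B M] (q : Ideal B) [q.IsPrime] (g : List B) (hg : ∀ b ∈ g, b ∈ q)
    (hflat : Module.Flat A (LocalizedModule q.primeCompl M))
    (hreg : RingTheory.Sequence.IsRegular
      (LocalizedModule q.primeCompl (M ⊗[A] (q.comap (algebraMap A B)).ResidueField)) g) :
    RingTheory.Sequence.IsRegular (LocalizedModule q.primeCompl M) g ∧
      ∀ i ≤ g.length, Module.Flat A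
        (LocalizedModule q.primeCompl (M ⧸ (Ideal.span {b | b ∈ g.take i} • (⊤ : Submodule B M)))) := by
  have hχ : RingHom.ker (algebraMap B q.ResidueField) = q := Ideal.ker_algebraMap_residueField q
  obtain ⟨h1, h2⟩ := Groth.Agent.Lib.Helper22.RegFib.main q (algebraMap B q.ResidueField)
    (Ideal.ResidueField.map (q.comap (algebraMap A B)) q (algebraMap A B) rfl) hχ
    (fun a => (Ideal.ResidueField.map_algebraMap (q.comap (algebraMap A B)) q (algebraMap A B) rfl
      a).symm) g M hflat hreg.toIsWeaklyRegular
  exact ⟨⟨h1, Groth.Agent.Lib.Helper22.RegFib.top_ne_smul_top q g hg M hreg.top_ne_smul⟩, h2⟩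

end Groth.Agent.S2586
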