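import Groth.Statements.S2590
import Groth.Agent.S2581
import Groth.Agent.Lib.Helper3DiagBC
import Mathlib

set_option autoImplicit false
universe u
open CategoryTheory AlgebraicGeometry
open EGA43

namespace Groth.Agent.S2590

open Limits Groth.Agent.Lib.Helper22.LimBC Groth.Agent.Lib.Helper3.DiagBC

/-- Universal injectivity descends to a finite stage (in `bcMor` form). -/
theorem exists_universallyInjective_bcMor {I : Type u} [SmallCategory I] [IsCofiltered I]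
    (D : I ⥤ Scheme.{u}) (c : Limits.Cone D) (hc : Limits.IsLimit c)
    [∀ (i j : I) (f : i ⟶ j), IsAffineHom (D.map f)] (i₀ : I)
    {X₀ Y₀ : Scheme.{u}} (f₀ : X₀ ⟶ Y₀) (g₀ : Y₀ ⟶ D.obj i₀)
    [CompactSpace X₀] [QuasiSeparatedSpace X₀] [LocallyOfFiniteType f₀] [QuasiCompact f₀]
    [QuasiSeparated f₀]
    {X Y : Scheme.{u}} (f : X ⟶ Y) (g : Y ⟶ c.pt) (qY : Y ⟶ Y₀) (qX : X ⟶ X₀)
    (hY : IsPullback qY g g₀ (c.π.app i₀)) (hX : IsPullback qX f f₀ qY)
    [UniversallyInjective f] :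
    ∃ l : Over i₀, UniversallyInjective (bcMor D i₀ f₀ g₀ l) := by
  haveI : CompactSpace ↥(pullback f₀ f₀) :=
    QuasiCompact.compactSpace_of_compactSpace (pullback.fst f₀ f₀)
  haveI : QuasiSeparatedSpace ↥(pullback f₀ f₀) :=
    quasiSeparatedSpace_of_quasiSeparated (pullback.fst f₀ f₀)
  haveI : LocallyOfFinitePresentation (pullback.diagonal f₀) :=
    Groth.Agent.Lib.Helper6.locallyOfFinitePresentation_diagonal f₀
  haveI : QuasiCompact (pullback.diagonal f₀) := inferInstance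
  haveI : Surjective (pullback.diagonal f) := (UniversallyInjective.iff_diagonal f).mp inferInstance
  obtain ⟨l, hl⟩ := Groth.Agent.S2581.exists_surjective_bcMor D c hc i₀ (pullback.diagonal f₀)
    (pullback.fst f₀ f₀ ≫ f₀ ≫ g₀) (pullback.diagonal f) (pullback.fst f f ≫ f ≫ g)
    (dmap hX) qX (isPullback_dmap_base hY hX) (isPullback_diagonal hX)
  refine ⟨l, (UniversallyInjective.iff_diagonal _).mpr ?_⟩
  -- the stage `l`
  have hXl := isPullback_bcMor D i₀ f₀ g₀ l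
  have hD := isPullback_diagonal hXl
  have hB := isPullback_dmap_base (isPullback_d D i₀ g₀ l) hXl
  -- the map `X_l ×_{Y_l} X_l ⟶ Z₀ ×_{S₀} S_l`
  let n : pullback (bcMor D i₀ f₀ g₀ l) (bcMor D i₀ f₀ g₀ l) ⟶
      (bcDiagram D i₀ (pullback.fst f₀ f₀ ≫ f₀ ≫ g₀)).obj l :=
    dLift l (dmap hXl) (pullback.fst _ _ ≫ bcMor D i₀ f₀ g₀ l ≫ dSnd D i₀ g₀ l) hB.w
  have hn : n ≫ dFst D i₀ (pullback.fst f₀ f₀ ≫ f₀ ≫ g₀) l = dmap hXl := dLift_fst _ _ _ _
  have hR := isPullback_bcMor D i₀ (pullback.diagonal f₀) (pullback.fst f₀ f₀ ≫ f₀ ≫ g₀) l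
  rw [← hn] at hD
  have hw : (hR.lift (dFst D i₀ (f₀ ≫ g₀) l) (pullback.diagonal (bcMor D i₀ f₀ g₀ l) ≫ n) hD.w) ≫
      bcMor D i₀ (pullback.diagonal f₀) (pullback.fst f₀ f₀ ≫ f₀ ≫ g₀) l =
      pullback.diagonal (bcMor D i₀ f₀ g₀ l) ≫ n := hR.lift_snd _ _ _
  have hL : IsPullback (hR.lift (dFst D i₀ (f₀ ≫ g₀) l)
      (pullback.diagonal (bcMor D i₀ f₀ g₀ l) ≫ n) hD.w)
      (pullback.diagonal (bcMor D i₀ f₀ g₀ l))
      (bcMor D i₀ (pullback.diagonal f₀) (pullback.fst f₀ f₀ ≫ f₀ ≫ g₀) l) n := by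
    refine IsPullback.of_right ?_ hw hR
    rw [hR.lift_fst]
    exact hD
  exact MorphismProperty.of_isPullback (P := @Surjective) hL hl

/-- Let S = lim S_i be a cofiltered limit of schemes with affine transition morphisms, S_{i₀} a
quasi-compact quasi-separated stage (the source needs S_{i₀} only quasi-compact; quasi-separatedness
is assumed here), f₀ : X₀ ⟶ Y₀ an S_{i₀}-morphism between schemes of finite presentation over
S_{i₀}, and f : X ⟶ Y its base change to S (base changes expressed by pullback squares). If f is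
universally injective (radiciel), then the base change f_i : X_i ⟶ Y_i of f₀ to some stage S_i is
universally injective (radiciel). -/
theorem result {I : Type u} [SmallCategory I] [IsCofiltered I]
    (D : I ⥤ Scheme.{u}) (c : Limits.Cone D) (hc : Limits.IsLimit c)
    [∀ (i j : I) (f : i ⟶ j), IsAffineHom (D.map f)] (i₀ : I) [CompactSpace (D.obj i₀)]
    [QuasiSeparatedSpace (D.obj i₀)] {X₀ Y₀ : Scheme.{u}} (f₀ : X₀ ⟶ Y₀) (g₀ : Y₀ ⟶ D.obj i₀)
    [LocallyOfFinitePresentation g₀] [QuasiCompact g₀] [QuasiSeparated g₀]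
    [LocallyOfFinitePresentation (f₀ ≫ g₀)] [QuasiCompact (f₀ ≫ g₀)] [QuasiSeparated (f₀ ≫ g₀)]
    {X Y : Scheme.{u}} (f : X ⟶ Y) (g : Y ⟶ c.pt) (qY : Y ⟶ Y₀) (qX : X ⟶ X₀)
    (hY : IsPullback qY g g₀ (c.π.app i₀)) (hX : IsPullback qX f f₀ qY) [UniversallyInjective f] :
    ∃ (i : I) (φ : i ⟶ i₀) (Xi Yi : Scheme.{u}) (fi : Xi ⟶ Yi) (gi : Yi ⟶ D.obj i) (pY : Yi ⟶ Y₀)
      (pX : Xi ⟶ X₀), IsPullback pY gi g₀ (D.map φ) ∧ IsPullback pX fi f₀ pY ∧ UniversallyInjective fi := by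
  haveI : CompactSpace X₀ := QuasiCompact.compactSpace_of_compactSpace (f₀ ≫ g₀)
  haveI : QuasiSeparatedSpace X₀ := quasiSeparatedSpace_of_quasiSeparated (f₀ ≫ g₀)
  haveI : LocallyOfFiniteType (f₀ ≫ g₀) := inferInstance
  haveI : LocallyOfFiniteType f₀ := locallyOfFiniteType_of_comp f₀ g₀
  haveI : QuasiCompact f₀ := QuasiCompact.of_comp f₀ g₀
  haveI : QuasiSeparated f₀ := QuasiSeparated.of_comp f₀ g₀
  obtain ⟨l, hl⟩ := exists_universallyInjective_bcMor D c hc i₀ f₀ g₀ f g qY qX hY hX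
  exact ⟨l.left, l.hom, _, _, bcMor D i₀ f₀ g₀ l, dSnd D i₀ g₀ l, dFst D i₀ g₀ l,
    dFst D i₀ (f₀ ≫ g₀) l, isPullback_d D i₀ g₀ l, isPullback_bcMor D i₀ f₀ g₀ l, hl⟩

end Groth.Agent.S2590
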