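import Groth.Statements.S2591
import Mathlib
import Groth.Agent.S2573

set_option autoImplicit false
open TensorProduct
universe u
open EGA43

namespace Groth.Agent.S2591

open Groth.Agent.Lib.Helper2.GenFree Groth.Agent.Lib.Helper14.NormFlat
  Groth.Agent.Lib.Helper3.FlatModelMod Groth.Agent.S2573

theorem free_congr_ideal {R : Type*} [CommRing R] {S : Type*} [CommRing S] [Algebra R S]
    (M : Type*) [AddCommGroup M] [Module R M] (J J' : Ideal S) (h : J = J')
    (hfree : Module.Free (S ⧸ J) ((S ⧸ J) ⊗[R] M)) :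
    Module.Free (S ⧸ J') ((S ⧸ J') ⊗[R] M) := by
  subst h; exact hfree

theorem span_cons {R : Type*} [CommRing R] (f : R) (l : List R) :
    Ideal.span {a | a ∈ f :: l} = Ideal.span {f} ⊔ Ideal.span {a | a ∈ l} := by
  rw [← Ideal.span_union]
  congr 1
  ext a
  simp

/-- flat + free modulo a prime away from `f₀` ⇒ free after base change to any `C` in which
`f₀` is a unit and `p` becomes nilpotent. -/
theorem free_of_nilpotent_map {R : Type u} [CommRing R] (p : Ideal R) [p.IsPrime] (M : Type u)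
    [AddCommGroup M] [Module R M] [Module.Flat R M] (f₀ : R)
    (hfree₀ : FreeAway (R ⧸ p) (Ideal.Quotient.mk p f₀) (M ⧸ (p • ⊤ : Submodule R M)))
    (C : Type u) [CommRing C] [Algebra R C] (hf₀unit : IsUnit (algebraMap R C f₀))
    (hJnil : IsNilpotent (p.map (algebraMap R C))) : Module.Free C (C ⊗[R] M) := by
  set J : Ideal C := p.map (algebraMap R C) with hJ
  have hle : p ≤ J.comap (algebraMap R C) := Ideal.le_comap_map
  let ψ : R ⧸ p →+* C ⧸ J := Ideal.quotientMap J (algebraMap R C) hle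
  letI algDC : Algebra (R ⧸ p) (C ⧸ J) := ψ.toAlgebra
  haveI : IsScalarTower R (R ⧸ p) (C ⧸ J) :=
    IsScalarTower.of_algebraMap_eq (fun x => rfl)
  have hunit : IsUnit (algebraMap (R ⧸ p) (C ⧸ J) (Ideal.Quotient.mk p f₀)) := by
    have h3 : algebraMap (R ⧸ p) (C ⧸ J) (Ideal.Quotient.mk p f₀) =
        Ideal.Quotient.mk J (algebraMap R C f₀) := rfl
    rw [h3]
    exact hf₀unit.map _
  have hfree1 : Module.Free (C ⧸ J) ((C ⧸ J) ⊗[R ⧸ p] (M ⧸ (p • ⊤ : Submodule R M))) :=
    free_tensor_of_freeAway _ _ hfree₀ _ hunit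
  have e_a : (C ⧸ J) ⊗[C] (C ⊗[R] M) ≃ₗ[C ⧸ J] (C ⧸ J) ⊗[R] M :=
    AlgebraTensorModule.cancelBaseChange R C (C ⧸ J) (C ⧸ J) M
  have e_b : (C ⧸ J) ⊗[R ⧸ p] ((R ⧸ p) ⊗[R] M) ≃ₗ[C ⧸ J] (C ⧸ J) ⊗[R] M :=
    AlgebraTensorModule.cancelBaseChange R (R ⧸ p) (C ⧸ J) (C ⧸ J) M
  have e_c : ((R ⧸ p) ⊗[R] M) ≃ₗ[R ⧸ p] (M ⧸ (p • ⊤ : Submodule R M)) :=
    (TensorProduct.quotTensorEquivQuotSMul M p).extendScalarsOfSurjective
      Ideal.Quotient.mk_surjective
  have e_d : (C ⧸ J) ⊗[R ⧸ p] ((R ⧸ p) ⊗[R] M) ≃ₗ[C ⧸ J]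
      (C ⧸ J) ⊗[R ⧸ p] (M ⧸ (p • ⊤ : Submodule R M)) :=
    AlgebraTensorModule.congr (LinearEquiv.refl _ _) e_c
  have hfreeC : Module.Free (C ⧸ J) ((C ⧸ J) ⊗[C] (C ⊗[R] M)) :=
    Module.Free.of_equiv (e_d.symm ≪≫ₗ e_b ≪≫ₗ e_a.symm)
  exact free_of_flat_of_free_quotient _ J hJnil hfreeC

/-- one step of the stratification -/
theorem step {R : Type u} [CommRing R] [IsNoetherianRing R] (B : Type u) [CommRing B] [Algebra R B]
    [Algebra.FiniteType R B] (M : Type u) [AddCommGroup M] [Module B M] [Module R M]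
    [IsScalarTower R B M] [Module.Finite B M] [Module.Flat R M] (I : Ideal R) (hI : I ≠ ⊤) :
    ∃ f : R, f ∉ I ∧
      Module.Free (Localization.Away f ⧸ I.map (algebraMap R (Localization.Away f)))
        ((Localization.Away f ⧸ I.map (algebraMap R (Localization.Away f))) ⊗[R] M) := by
  classical
  obtain ⟨⟨p, hp⟩⟩ := Ideal.nonempty_minimalPrimes hI
  haveI : p.IsPrime := hp.1.1
  have hIp : I ≤ p := hp.1.2
  have hfin : I.minimalPrimes.Finite := Ideal.finite_minimalPrimes_of_isNoetherianRing R I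
  obtain ⟨g, hgp, hgq⟩ : ∃ g : R, g ∉ p ∧ ∀ q ∈ I.minimalPrimes, q ≠ p → g ∈ q := by
    have hex : ∀ q ∈ I.minimalPrimes, q ≠ p → ∃ x, x ∈ q ∧ x ∉ p := by
      intro q hq hne
      by_contra hcon
      push_neg at hcon
      have hqp : q ≤ p := hcon
      exact hne (le_antisymm hqp (hp.2 hq.1 hqp))
    choose! x hxq hxp using hex
    refine ⟨∏ q ∈ hfin.toFinset.erase p, x q, ?_, ?_⟩
    · rw [Ideal.IsPrime.prod_mem_iff]
      rintro ⟨q, hq, hxq'⟩
      rw [Finset.mem_erase, Set.Finite.mem_toFinset] at hq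
      exact hxp q hq.2 hq.1 hxq'
    · intro q hq hne
      have hmem : q ∈ hfin.toFinset.erase p := by
        rw [Finset.mem_erase, Set.Finite.mem_toFinset]; exact ⟨hne, hq⟩
      exact Ideal.mem_of_dvd _ (Finset.dvd_prod_of_mem x hmem) (hxq q hq hne)
  obtain ⟨f₀, hf₀, hfree₀⟩ := exists_freeAway_quotient p B M
  refine ⟨g * f₀, fun h => (Ideal.IsPrime.mul_notMem ‹_› hgp hf₀) (hIp h), ?_⟩
  generalize hf : g * f₀ = f
  set IL : Ideal (Localization.Away f) := I.map (algebraMap R (Localization.Away f)) with hIL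
  have hIzero : ∀ y ∈ I, algebraMap R (Localization.Away f ⧸ IL) y = 0 := by
    intro y hy
    rw [IsScalarTower.algebraMap_apply R (Localization.Away f) (Localization.Away f ⧸ IL)]
    exact Ideal.Quotient.eq_zero_iff_mem.mpr (Ideal.mem_map_of_mem _ hy)
  have hfunit : IsUnit (algebraMap R (Localization.Away f ⧸ IL) f) := by
    rw [IsScalarTower.algebraMap_apply R (Localization.Away f) (Localization.Away f ⧸ IL)]
    exact (IsLocalization.Away.algebraMap_isUnit f).map _
  have hfmul : algebraMap R (Localization.Away f ⧸ IL) f =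
      algebraMap R (Localization.Away f ⧸ IL) g * algebraMap R (Localization.Away f ⧸ IL) f₀ := by
    have h0 := congrArg (algebraMap R (Localization.Away f ⧸ IL)) hf.symm
    rw [map_mul] at h0
    exact h0
  rw [hfmul] at hfunit
  have hgunit : IsUnit (algebraMap R (Localization.Away f ⧸ IL) g) :=
    isUnit_of_mul_isUnit_left hfunit
  have hf₀unit : IsUnit (algebraMap R (Localization.Away f ⧸ IL) f₀) :=
    isUnit_of_mul_isUnit_right hfunit
  have hJnil : IsNilpotent (p.map (algebraMap R (Localization.Away f ⧸ IL))) := by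
    have hfg : (p.map (algebraMap R (Localization.Away f ⧸ IL))).FG :=
      Ideal.FG.map (IsNoetherian.noetherian p) _
    rw [Ideal.FG.isNilpotent_iff_le_nilradical hfg, Ideal.map_le_iff_le_comap]
    intro x hx
    rw [Ideal.mem_comap, mem_nilradical]
    have hxg : x * g ∈ I.radical := by
      rw [← Ideal.sInf_minimalPrimes, Ideal.mem_sInf]
      intro q hq
      by_cases hqp : q = p
      · rw [hqp]; exact Ideal.mul_mem_right _ _ hx
      · exact Ideal.mul_mem_left _ _ (hgq q hq hqp)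
    obtain ⟨n, hn⟩ := hxg
    refine ⟨n, ?_⟩
    have h1 := hIzero _ hn
    rw [mul_pow, map_mul, map_pow, map_pow] at h1
    exact (hgunit.pow n).mul_left_eq_zero.mp h1
  exact free_of_nilpotent_map p M f₀ hfree₀ _ hf₀unit hJnil


/-- the Noetherian case, by Noetherian induction -/
theorem noeth {R : Type u} [CommRing R] [IsNoetherianRing R] (B : Type u) [CommRing B] [Algebra R B]
    [Algebra.FiniteType R B] (M : Type u) [AddCommGroup M] [Module B M] [Module R M]
    [IsScalarTower R B M] [Module.Finite B M] [Module.Flat R M] (I : Ideal R) :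
    ∃ l : List R, Ideal.span {a | a ∈ l} ⊔ I = ⊤ ∧
      ∀ (i : ℕ) (hi : i < l.length),
        Module.Free (Localization.Away l[i] ⧸
            (I ⊔ Ideal.span {a | a ∈ l.take i}).map (algebraMap R (Localization.Away l[i])))
          ((Localization.Away l[i] ⧸
            (I ⊔ Ideal.span {a | a ∈ l.take i}).map (algebraMap R (Localization.Away l[i])))
              ⊗[R] M) := by
  induction I using IsNoetherian.induction with
  | hgt I ih =>
    by_cases hI : I = ⊤
    · refine ⟨[], by rw [hI, sup_top_eq], ?_⟩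
      intro i hi
      exact absurd hi (by simp)
    · obtain ⟨f, hfI, hfree⟩ := step B M I hI
      have hlt : I < I ⊔ Ideal.span {f} := by
        refine lt_of_le_of_ne le_sup_left ?_
        intro h
        apply hfI
        rw [h]
        exact Ideal.mem_sup_right (Ideal.subset_span rfl)
      obtain ⟨l', hl'top, hl'⟩ := ih _ hlt
      refine ⟨f :: l', ?_, ?_⟩
      · rw [span_cons, ← hl'top]
        ac_rfl
      · intro i hi
        match i, hi with
        | 0, _ =>
          refine free_congr_ideal M _ _ ?_ hfree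
          show Ideal.map _ I = Ideal.map _ (I ⊔ Ideal.span {a | a ∈ ([] : List R)})
          congr 1
          simp
        | (j + 1), hj =>
          have hj' : j < l'.length := by simpa using hj
          refine free_congr_ideal M _ _ ?_ (hl' j hj')
          show Ideal.map _ (I ⊔ Ideal.span {f} ⊔ Ideal.span {a | a ∈ l'.take j}) =
            Ideal.map _ (I ⊔ Ideal.span {a | a ∈ f :: l'.take j})
          congr 1
          rw [span_cons, sup_assoc]


/-- base change of a free stratum -/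
theorem free_stratum_baseChange {R₀ A : Type u} [CommRing R₀] [CommRing A] [Algebra R₀ A]
    (M₀ M : Type u) [AddCommGroup M₀] [Module R₀ M₀] [AddCommGroup M] [Module A M]
    (e : A ⊗[R₀] M₀ ≃ₗ[A] M) (r₀ : R₀) (J₀ : Ideal R₀) (a : A) (ha : a = algebraMap R₀ A r₀)
    (J : Ideal A) (hJ : J = J₀.map (algebraMap R₀ A))
    (hfree : Module.Free (Localization.Away r₀ ⧸ J₀.map (algebraMap R₀ (Localization.Away r₀)))
      ((Localization.Away r₀ ⧸ J₀.map (algebraMap R₀ (Localization.Away r₀))) ⊗[R₀] M₀)) :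
    Module.Free (Localization.Away a ⧸ J.map (algebraMap A (Localization.Away a)))
      ((Localization.Away a ⧸ J.map (algebraMap A (Localization.Away a))) ⊗[A] M) := by
  subst ha
  subst hJ
  set φ := algebraMap R₀ A with hφ
  set IL₀ : Ideal (Localization.Away r₀) := J₀.map (algebraMap R₀ (Localization.Away r₀)) with hIL₀
  set IL : Ideal (Localization.Away (φ r₀)) :=
    (J₀.map φ).map (algebraMap A (Localization.Away (φ r₀))) with hIL
  let ψ : Localization.Away r₀ →+* Localization.Away (φ r₀) := Localization.awayMap φ r₀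
  have hψ : ∀ x : R₀, ψ (algebraMap R₀ (Localization.Away r₀) x) =
      algebraMap A (Localization.Away (φ r₀)) (φ x) := fun x => IsLocalization.map_eq _ x
  have hle : IL₀ ≤ IL.comap ψ := by
    rw [hIL₀, Ideal.map_le_iff_le_comap]
    intro x hx
    rw [Ideal.mem_comap, Ideal.mem_comap, hψ]
    exact Ideal.mem_map_of_mem _ (Ideal.mem_map_of_mem _ hx)
  let Ψ : Localization.Away r₀ ⧸ IL₀ →+* Localization.Away (φ r₀) ⧸ IL := Ideal.quotientMap IL ψ hle
  letI alg1 : Algebra (Localization.Away r₀ ⧸ IL₀) (Localization.Away (φ r₀) ⧸ IL) := Ψ.toAlgebra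
  haveI : IsScalarTower R₀ A (Localization.Away (φ r₀) ⧸ IL) := inferInstance
  haveI : IsScalarTower R₀ (Localization.Away r₀ ⧸ IL₀) (Localization.Away (φ r₀) ⧸ IL) := by
    refine IsScalarTower.of_algebraMap_eq (R := R₀) (S := Localization.Away r₀ ⧸ IL₀)
      (A := Localization.Away (φ r₀) ⧸ IL) (fun x => ?_)
    show Ideal.Quotient.mk IL (algebraMap A (Localization.Away (φ r₀)) (φ x)) =
      Ψ (Ideal.Quotient.mk IL₀ (algebraMap R₀ (Localization.Away r₀) x))
    rw [← hψ]
    rfl
  have e1 : (Localization.Away (φ r₀) ⧸ IL) ⊗[A] (A ⊗[R₀] M₀) ≃ₗ[Localization.Away (φ r₀) ⧸ IL]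
      (Localization.Away (φ r₀) ⧸ IL) ⊗[R₀] M₀ :=
    AlgebraTensorModule.cancelBaseChange R₀ A (Localization.Away (φ r₀) ⧸ IL)
      (Localization.Away (φ r₀) ⧸ IL) M₀
  have e2 : (Localization.Away (φ r₀) ⧸ IL) ⊗[Localization.Away r₀ ⧸ IL₀]
      ((Localization.Away r₀ ⧸ IL₀) ⊗[R₀] M₀) ≃ₗ[Localization.Away (φ r₀) ⧸ IL]
      (Localization.Away (φ r₀) ⧸ IL) ⊗[R₀] M₀ :=
    AlgebraTensorModule.cancelBaseChange R₀ (Localization.Away r₀ ⧸ IL₀)
      (Localization.Away (φ r₀) ⧸ IL) (Localization.Away (φ r₀) ⧸ IL) M₀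
  have e3 : (Localization.Away (φ r₀) ⧸ IL) ⊗[A] (A ⊗[R₀] M₀) ≃ₗ[Localization.Away (φ r₀) ⧸ IL]
      (Localization.Away (φ r₀) ⧸ IL) ⊗[A] M :=
    AlgebraTensorModule.congr (LinearEquiv.refl _ _) e
  haveI : Module.Free (Localization.Away (φ r₀) ⧸ IL)
      ((Localization.Away (φ r₀) ⧸ IL) ⊗[Localization.Away r₀ ⧸ IL₀]
        ((Localization.Away r₀ ⧸ IL₀) ⊗[R₀] M₀)) := inferInstance
  exact Module.Free.of_equiv (e2 ≪≫ₗ e1.symm ≪≫ₗ e3)

theorem span_map_list {R₀ A : Type*} [CommRing R₀] [CommRing A] (φ : R₀ →+* A) (l : List R₀) :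
    Ideal.span {a | a ∈ l.map φ} = (Ideal.span {a | a ∈ l}).map φ := by
  rw [Ideal.map_span]
  congr 1
  ext a
  simp

/-- Let A be a commutative ring, B a finitely presented A-algebra and M a finitely presented B-module
which is flat over A. Then there are finitely many elements f₁, …, fₙ of A generating the unit ideal
such that, for each i < n, writing A' for the localization of A at f_{i+1} modulo the ideal
generated by f₁, …, fᵢ, the module A' ⊗_A M is free over A'. -/
theorem result {A B : Type u} [CommRing A] [CommRing B] [Algebra A B]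
    [Algebra.FinitePresentation A B] (M : Type u) [AddCommGroup M] [Module B M] [Module A M] [IsScalarTower A B M]
    [Module.FinitePresentation B M] [Module.Flat A M] :
    ∃ l : List A, Ideal.span {a | a ∈ l} = ⊤ ∧
      ∀ (i : ℕ) (hi : i < l.length),
        letI J : Ideal (Localization.Away l[i]) :=
          (Ideal.span {a | a ∈ l.take i}).map (algebraMap A (Localization.Away l[i]))
        Module.Free (Localization.Away l[i] ⧸ J) ((Localization.Away l[i] ⧸ J) ⊗[A] M) := by
  obtain ⟨R₀, _, _, S₀, _, _, _, _, _, _, M₀, _, _, _, _, _, _, f, h1, h2, h3, h4, h5, h6⟩ :=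
    exists_flat_module_model A B M
  haveI : IsNoetherianRing R₀ := Algebra.FiniteType.isNoetherianRing ℤ R₀
  have e₁ : A ⊗[R₀] M₀ ≃ₗ[A] M :=
    (Algebra.IsPushout.cancelBaseChange R₀ A S₀ B M₀).symm ≪≫ₗ h6.equiv.restrictScalars A
  obtain ⟨l₀, hl₀top, hl₀⟩ := noeth S₀ M₀ (⊥ : Ideal R₀)
  rw [sup_bot_eq] at hl₀top
  refine ⟨l₀.map (algebraMap R₀ A), ?_, ?_⟩
  · rw [span_map_list, hl₀top, Ideal.map_top]
  · intro i hi
    have hi₀ : i < l₀.length := by simpa using hi
    have hfree := hl₀ i hi₀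
    rw [bot_sup_eq] at hfree
    refine free_stratum_baseChange M₀ M e₁ l₀[i] (Ideal.span {a | a ∈ l₀.take i}) _
      (List.getElem_map _) _ ?_ hfree
    rw [← span_map_list, List.map_take]

end Groth.Agent.S2591
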