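import Groth.Statements.S2592
import Groth.Agent.Lib.Helper22LimBC2
import Groth.Agent.Lib.Helper12QuasiAffineLocal
import Mathlib

set_option autoImplicit false
universe u
open CategoryTheory AlgebraicGeometry
open EGA43

namespace Groth.Agent.S2592

open Limits Groth.Agent.Lib.Helper22.LimBC

/-- Quasi-affineness of a quasi-compact morphism is local on the target. -/
theorem isQuasiAffine_of_cover {X Y : Scheme.{u}} (f : X ⟶ Y) [QuasiCompact f]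
    (H : ∀ y : Y, ∃ V : Y.Opens, IsAffineOpen V ∧ y ∈ V ∧
      Scheme.IsQuasiAffine (f ⁻¹ᵁ V : Scheme.{u})) :
    Mor2.IsQuasiAffine f := by
  refine ⟨inferInstance, fun V hV => ?_⟩
  have hWc : IsCompact (f ⁻¹ᵁ V : Set X) := f.isCompact_preimage hV.isCompact
  refine Groth.Agent.Lib.Helper12.isQuasiAffine_opens_of_cover _ hWc fun x hx => ?_
  obtain ⟨Vi, hVi, hxVi, hqa⟩ := H (f x)
  obtain ⟨a, ha1, ha2⟩ := hV.exists_basicOpen_le (V := Vi) ⟨f x, hxVi⟩ hx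
  refine ⟨f.app V a, ?_, ?_⟩
  · rw [← Scheme.preimage_basicOpen]; exact ha2
  · rw [← Scheme.preimage_basicOpen]
    haveI := hqa
    have hle : f ⁻¹ᵁ Y.basicOpen a ≤ f ⁻¹ᵁ Vi := fun z hz => ha1 hz
    exact Groth.Agent.Lib.Helper12.isQuasiAffine_of_le hle
      (f.isCompact_preimage (hV.basicOpen a).isCompact)


variable {I : Type u} [SmallCategory I] (D : I ⥤ Scheme.{u}) (i₀ : I)
  {X₀ Y₀ : Scheme.{u}} (f₀ : X₀ ⟶ Y₀) (g₀ : Y₀ ⟶ D.obj i₀)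

/-- the preimage in `X_l` of `f₀⁻¹ V₀`. -/
noncomputable def W (l : Over i₀) (V₀ : Y₀.Opens) : ((bcDiagram D i₀ (f₀ ≫ g₀)).obj l).Opens :=
  dFst D i₀ (f₀ ≫ g₀) l ⁻¹ᵁ (f₀ ⁻¹ᵁ V₀)

theorem map_preimage_W {k l : Over i₀} (a : k ⟶ l) (V₀ : Y₀.Opens) :
    (bcDiagram D i₀ (f₀ ≫ g₀)).map a ⁻¹ᵁ W D i₀ f₀ g₀ l V₀ = W D i₀ f₀ g₀ k V₀ := by
  unfold W
  rw [← Scheme.Hom.comp_preimage, map_dFst]

theorem W_eq (l : Over i₀) (V₀ : Y₀.Opens) :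
    W D i₀ f₀ g₀ l V₀ = bcMor D i₀ f₀ g₀ l ⁻¹ᵁ (dFst D i₀ g₀ l ⁻¹ᵁ V₀) := by
  unfold W
  rw [← Scheme.Hom.comp_preimage, ← Scheme.Hom.comp_preimage, bcMor_fst]

theorem isQuasiAffine_W_of_map [∀ (i j : I) (f : i ⟶ j), IsAffineHom (D.map f)]
    {k l : Over i₀} (a : k ⟶ l) (V₀ : Y₀.Opens)
    (h : Scheme.IsQuasiAffine (W D i₀ f₀ g₀ l V₀ : Scheme.{u})) :
    Scheme.IsQuasiAffine (W D i₀ f₀ g₀ k V₀ : Scheme.{u}) := by
  have inst : ∀ {i j : I} (f : i ⟶ j), IsAffineHom (D.map f) := fun f => inferInstance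
  rw [← map_preimage_W D i₀ f₀ g₀ a V₀]
  haveI := h
  haveI : IsAffineHom ((bcDiagram D i₀ (f₀ ≫ g₀)).map a ∣_ W D i₀ f₀ g₀ l V₀) :=
    IsZariskiLocalAtTarget.restrict (P := @IsAffineHom) inferInstance _
  exact Scheme.IsQuasiAffine.of_isAffineHom
    ((bcDiagram D i₀ (f₀ ≫ g₀)).map a ∣_ W D i₀ f₀ g₀ l V₀)

theorem exists_isQuasiAffine_W [IsCofiltered I] (c : Limits.Cone D) (hc : Limits.IsLimit c)
    [∀ (i j : I) (f : i ⟶ j), IsAffineHom (D.map f)]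
    [CompactSpace X₀] [QuasiSeparatedSpace X₀] [QuasiCompact f₀]
    {X Y : Scheme.{u}} (f : X ⟶ Y) (g : Y ⟶ c.pt) (qY : Y ⟶ Y₀) (qX : X ⟶ X₀)
    (hY : IsPullback qY g g₀ (c.π.app i₀)) (hX : IsPullback qX f f₀ qY)
    (hf : Mor2.IsQuasiAffine f) (V₀ : Y₀.Opens) (hV₀ : IsAffineOpen V₀) :
    ∃ l : Over i₀, Scheme.IsQuasiAffine (W D i₀ f₀ g₀ l V₀ : Scheme.{u}) := by
  have inst : ∀ {i j : I} (f : i ⟶ j), IsAffineHom (D.map f) := fun f => inferInstance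
  have hπ : IsAffineHom (c.π.app i₀) := isAffineHom_π_app D c hc i₀
  have hqY : IsAffineHom qY := MorphismProperty.of_isPullback (P := @IsAffineHom) hY.flip hπ
  let j₀ : Over i₀ := Over.mk (𝟙 i₀)
  let DX := bcDiagram D i₀ (f₀ ≫ g₀)
  let cX := bcCone i₀ (hX.paste_vert hY)
  have hcX : IsLimit cX := isLimitBcCone i₀ (hX.paste_vert hY) hc
  let U : (DX.obj j₀).Opens := W D i₀ f₀ g₀ j₀ V₀
  have hUc : IsCompact (U : Set (DX.obj j₀)) :=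
    (dFst D i₀ (f₀ ≫ g₀) j₀).isCompact_preimage (f₀.isCompact_preimage hV₀.isCompact)
  haveI : ∀ k : Over j₀, CompactSpace ((opensDiagram DX j₀ U).obj k) := fun k =>
    isCompact_iff_compactSpace.mp ((DX.map k.hom).isCompact_preimage hUc)
  haveI : ∀ k : Over j₀, QuasiSeparatedSpace ((opensDiagram DX j₀ U).obj k) := fun k => by
    haveI : QuasiSeparatedSpace ((Over.forget j₀ ⋙ DX).obj k) :=
      inferInstanceAs (QuasiSeparatedSpace (DX.obj k.left))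
    exact quasiSeparatedSpace_of_quasiSeparated ((opensDiagramι DX j₀ U).app k)
  have e : cX.π.app j₀ ⁻¹ᵁ U = f ⁻¹ᵁ (qY ⁻¹ᵁ V₀) := by
    show bcπ i₀ (hX.paste_vert hY) j₀ ⁻¹ᵁ (dFst D i₀ (f₀ ≫ g₀) j₀ ⁻¹ᵁ (f₀ ⁻¹ᵁ V₀)) = _
    rw [← Scheme.Hom.comp_preimage, bcπ_fst, ← Scheme.Hom.comp_preimage,
      ← Scheme.Hom.comp_preimage, hX.w]
  haveI : Scheme.IsQuasiAffine (opensCone DX cX j₀ U).pt := by
    show Scheme.IsQuasiAffine (cX.π.app j₀ ⁻¹ᵁ U : Scheme.{u})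
    rw [e]
    exact hf.2 _ (hV₀.preimage qY)
  obtain ⟨k, hk⟩ := Scheme.exists_isQuasiAffine_of_isLimit (opensDiagram DX j₀ U)
    (opensCone DX cX j₀ U) (isLimitOpensCone DX cX hcX j₀ U)
  refine ⟨k.left, ?_⟩
  have : Scheme.IsQuasiAffine (DX.map k.hom ⁻¹ᵁ U : Scheme.{u}) := hk
  rw [map_preimage_W D i₀ f₀ g₀ k.hom V₀] at this
  exact this


/-- Quasi-affineness descends to a finite stage (in `bcMor` form). -/
theorem exists_isQuasiAffine_bcMor [IsCofiltered I] (c : Limits.Cone D) (hc : Limits.IsLimit c)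
    [∀ (i j : I) (f : i ⟶ j), IsAffineHom (D.map f)]
    [CompactSpace X₀] [QuasiSeparatedSpace X₀] [CompactSpace Y₀] [QuasiCompact f₀]
    {X Y : Scheme.{u}} (f : X ⟶ Y) (g : Y ⟶ c.pt) (qY : Y ⟶ Y₀) (qX : X ⟶ X₀)
    (hY : IsPullback qY g g₀ (c.π.app i₀)) (hX : IsPullback qX f f₀ qY)
    (hf : Mor2.IsQuasiAffine f) :
    ∃ l : Over i₀, Mor2.IsQuasiAffine (bcMor D i₀ f₀ g₀ l) := by
  classical
  have inst : ∀ {i j : I} (f : i ⟶ j), IsAffineHom (D.map f) := fun f => inferInstance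
  have H : ∀ y : Y₀, ∃ (V₀ : Y₀.Opens) (l : Over i₀), IsAffineOpen V₀ ∧ y ∈ V₀ ∧
      Scheme.IsQuasiAffine (W D i₀ f₀ g₀ l V₀ : Scheme.{u}) := by
    intro y
    obtain ⟨_, ⟨V₀, hV₀, rfl⟩, hy, -⟩ :=
      Y₀.isBasis_affineOpens.exists_subset_of_mem_open (Set.mem_univ y) isOpen_univ
    obtain ⟨l, hl⟩ := exists_isQuasiAffine_W D i₀ f₀ g₀ c hc f g qY qX hY hX hf V₀ hV₀
    exact ⟨V₀, l, hV₀, hy, hl⟩
  choose V₀ l hV₀ hy hl using H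
  obtain ⟨t, ht⟩ := CompactSpace.elim_nhds_subcover (fun y => (V₀ y : Set Y₀))
    (fun y => (V₀ y).2.mem_nhds (hy y))
  obtain ⟨m, hm⟩ := IsCofiltered.inf_objs_exists (t.image l)
  refine ⟨m, ?_⟩
  haveI : QuasiCompact (bcMor D i₀ f₀ g₀ m) :=
    MorphismProperty.of_isPullback (P := @QuasiCompact)
      (isPullback_bcMor D i₀ f₀ g₀ m) inferInstance
  refine isQuasiAffine_of_cover _ fun y' => ?_
  have hmem : dFst D i₀ g₀ m y' ∈ ⋃ y ∈ t, (V₀ y : Set Y₀) := ht ▸ Set.mem_univ _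
  obtain ⟨y, hyt, hy'⟩ := Set.mem_iUnion₂.mp hmem
  refine ⟨dFst D i₀ g₀ m ⁻¹ᵁ V₀ y, (hV₀ y).preimage _, hy', ?_⟩
  rw [← W_eq]
  obtain ⟨a⟩ := hm (Finset.mem_image_of_mem l hyt)
  exact isQuasiAffine_W_of_map D i₀ f₀ g₀ a (V₀ y) (hl y)

/-- Let S = lim S_i be a cofiltered limit of schemes with affine transition morphisms, S_{i₀} a
quasi-compact quasi-separated stage (the source needs S_{i₀} only quasi-compact; quasi-separatedness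
is assumed here), f₀ : X₀ ⟶ Y₀ an S_{i₀}-morphism between schemes of finite presentation over
S_{i₀}, and f : X ⟶ Y its base change to S (base changes expressed by pullback squares). If f is
quasi-affine, then the base change f_i : X_i ⟶ Y_i of f₀ to some stage S_i is quasi-affine. -/
theorem result {I : Type u} [SmallCategory I] [IsCofiltered I]
    (D : I ⥤ Scheme.{u}) (c : Limits.Cone D) (hc : Limits.IsLimit c)
    [∀ (i j : I) (f : i ⟶ j), IsAffineHom (D.map f)] (i₀ : I) [CompactSpace (D.obj i₀)]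
    [QuasiSeparatedSpace (D.obj i₀)] {X₀ Y₀ : Scheme.{u}} (f₀ : X₀ ⟶ Y₀) (g₀ : Y₀ ⟶ D.obj i₀)
    [LocallyOfFinitePresentation g₀] [QuasiCompact g₀] [QuasiSeparated g₀]
    [LocallyOfFinitePresentation (f₀ ≫ g₀)] [QuasiCompact (f₀ ≫ g₀)] [QuasiSeparated (f₀ ≫ g₀)]
    {X Y : Scheme.{u}} (f : X ⟶ Y) (g : Y ⟶ c.pt) (qY : Y ⟶ Y₀) (qX : X ⟶ X₀)
    (hY : IsPullback qY g g₀ (c.π.app i₀)) (hX : IsPullback qX f f₀ qY) (hf : Mor2.IsQuasiAffine f) :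
    ∃ (i : I) (φ : i ⟶ i₀) (Xi Yi : Scheme.{u}) (fi : Xi ⟶ Yi) (gi : Yi ⟶ D.obj i) (pY : Yi ⟶ Y₀)
      (pX : Xi ⟶ X₀), IsPullback pY gi g₀ (D.map φ) ∧ IsPullback pX fi f₀ pY ∧ Mor2.IsQuasiAffine fi := by
  haveI : CompactSpace Y₀ := QuasiCompact.compactSpace_of_compactSpace g₀
  haveI : CompactSpace X₀ := QuasiCompact.compactSpace_of_compactSpace (f₀ ≫ g₀)
  haveI : QuasiSeparatedSpace X₀ := quasiSeparatedSpace_of_quasiSeparated (f₀ ≫ g₀)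
  haveI : QuasiCompact f₀ := QuasiCompact.of_comp f₀ g₀
  obtain ⟨l, hl⟩ := exists_isQuasiAffine_bcMor D i₀ f₀ g₀ c hc f g qY qX hY hX hf
  exact ⟨l.left, l.hom, _, _, bcMor D i₀ f₀ g₀ l, dSnd D i₀ g₀ l, dFst D i₀ g₀ l,
    dFst D i₀ (f₀ ≫ g₀) l, isPullback_d D i₀ g₀ l, isPullback_bcMor D i₀ f₀ g₀ l, hl⟩

end Groth.Agent.S2592
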