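import Groth.Statements.S2595
import Groth.Agent.Lib.Helper5CMAffSp

set_option autoImplicit false
open CategoryTheory AlgebraicGeometry
universe u
open EGA43

namespace Groth.Agent.S2595

/-- Let Y be locally Noetherian, f : X ⟶ Y locally of finite type and x a point of X. If O_{Y,f x} ⟶
O_{X,x} is flat and the local ring at x of the fibre through x is Cohen–Macaulay, then f is
equidimensional at x. -/
theorem result {X Y : Scheme.{u}} [IsLocallyNoetherian Y] (f : X ⟶ Y)
    [LocallyOfFiniteType f] (x : X) (hflat : (f.stalkMap x).hom.Flat)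
    (hCM : LocCoh.IsCohenMacaulayLocalRing ((f.fiber (f.base x)).presheaf.stalk (f.asFiber x))) :
    EGA43.IsEquidimAt f x := by
  have hcm : MoreMor.IsCMAt f x := ⟨hflat, hCM⟩
  haveI : LocallyOfFinitePresentation f :=
    LocallyOfFinitePresentation.iff_locallyOfFiniteType.mpr inferInstance
  obtain ⟨d, hd⟩ := Groth.Agent.Lib.Helper3.GrpFibDim.exists_nat_fibreDimAt_eq f x
  obtain ⟨U, g, hxU, hover, hfl, hqf⟩ :=
    Groth.Agent.Lib.Helper5.CMAffSp.exists_flat_lqf_of_isCMAt f x d hcm hd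
  refine Groth.Agent.Lib.Helper6.QFAff.isEquidimAt_of_toAffineSpace f x d U g hxU hover ?_
  show ∀ Z ∈ irreducibleComponents (↥U.toScheme),
    closure (g.base '' Z) ∈ irreducibleComponents (↥𝔸(ULift.{u} (Fin d); Y) : Type u)
  intro Z hZ
  obtain ⟨ξ, hξ⟩ := QuasiSober.sober hZ.1 (isClosed_of_mem_irreducibleComponents _ hZ)
  have hξcl : closure ({ξ} : Set ↥U.toScheme) = Z := hξ.def
  have hξmax : ∀ ξ' : ↥U.toScheme, ξ' ⤳ ξ → ξ' = ξ := fun ξ' h =>
    Groth.Agent.Lib.Helper4.VarDim.eq_of_specializes_generic ξ ξ' (by rw [hξcl]; exact hZ) h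
  have hgmax : ∀ w' : 𝔸(ULift.{u} (Fin d); Y), w' ⤳ g ξ → w' = g ξ := by
    intro w' hw'
    obtain ⟨ξ', hξ', rfl⟩ := (Flat.generalizingMap g) hw'
    rw [hξmax ξ' hξ']
  rw [← hξcl, closure_image_closure g.continuous, Set.image_singleton]
  exact Groth.Agent.Lib.Helper4.DimFormula.mem_irreducibleComponents_of_forall_specializes _ hgmax

end Groth.Agent.S2595
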