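import Groth.Statements.S9440
import Mathlib
import Groth.Agent.Lib.Helper28AUMain
import Groth.Agent.Lib.Helper28AnalUnram
import Groth.Agent.Lib.Helper28PurelyInsepLocal
import Groth.Agent.Lib.Helper4Japanese
-- import your own Groth.Agent.* helpers here

set_option autoImplicit false
universe u
open CAlg

namespace Groth.Agent.S9440
open IsLocalRing TensorProduct

/-- (1) ⇔ (3): a Noetherian local ring R is a Nagata ring if and only if for every finite local
homomorphism R → S of local rings with S a domain, the completion of S is reduced. -/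
theorem result (R : Type u) [CommRing R]
    [IsLocalRing R] [IsNoetherianRing R] :
    CAlg.IsNagata R ↔ ∀ (S : Type u) [CommRing S] [IsDomain S] [IsLocalRing S] [Algebra R S]
      [IsLocalHom (algebraMap R S)] [Module.Finite R S],
      IsReduced (AdicCompletion (IsLocalRing.maximalIdeal S) S) := by
  constructor
  · intro hR S _ _ _ _ _ _
    exact Groth.Agent.Lib.Helper28.isReduced_adicCompletion_of_isNagata S
      (Groth.Agent.Lib.Helper28.isNagata_of_finite R S hR)
  · intro h
    refine ⟨inferInstance, fun p₀ hp₀ => ?_⟩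
    haveI : IsLocalRing (R ⧸ p₀) := Groth.Agent.Lib.Helper5.isLocalRing_quotient hp₀.ne_top
    intro L _ _ _ _ hfd
    refine Groth.Agent.Lib.Helper4.Japanese.finite_integralClosure_of_purelyInseparable (R ⧸ p₀)
      (FractionRing (R ⧸ p₀)) (fun K' _ _ _ _ h1 h3 => ?_) L
    obtain ⟨B, hBfin, hBfrac, hBloc⟩ :=
      Groth.Agent.Lib.Helper28.exists_local_subalgebra_of_purelyInseparable (R ⧸ p₀)
        (FractionRing (R ⧸ p₀)) K'
    letI : Algebra R B := ((algebraMap (R ⧸ p₀) B).comp (algebraMap R (R ⧸ p₀))).toAlgebra
    haveI : IsScalarTower R (R ⧸ p₀) B := IsScalarTower.of_algebraMap_eq' rfl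
    haveI : Module.Finite R B := Module.Finite.trans (R ⧸ p₀) B
    have hinjDB : Function.Injective (algebraMap (R ⧸ p₀) B) := by
      intro u v huv
      have h5 : Function.Injective (algebraMap (R ⧸ p₀) K') := by
        rw [IsScalarTower.algebraMap_eq (R ⧸ p₀) (FractionRing (R ⧸ p₀)) K']
        exact (FaithfulSMul.algebraMap_injective (FractionRing (R ⧸ p₀)) K').comp (IsFractionRing.injective (R ⧸ p₀) (FractionRing (R ⧸ p₀)))
      exact h5 (congrArg Subtype.val huv)
    haveI : FaithfulSMul (R ⧸ p₀) B := (faithfulSMul_iff_algebraMap_injective _ _).mpr hinjDB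
    haveI : Algebra.IsIntegral (R ⧸ p₀) B := Algebra.IsIntegral.of_finite _ _
    haveI h6 : IsLocalHom (algebraMap (R ⧸ p₀) B) := inferInstance
    haveI h7 : IsLocalHom (algebraMap R (R ⧸ p₀)) :=
      IsLocalHom.of_surjective _ Ideal.Quotient.mk_surjective
    haveI : IsLocalHom (algebraMap R B) := by
      rw [RingHom.algebraMap_toAlgebra]
      exact RingHom.isLocalHom_comp _ _
    haveI hred := h B
    haveI : IsNoetherianRing B := IsNoetherianRing.of_finite (R ⧸ p₀) B
    have hN1 : IsN1 B := Groth.Agent.Lib.Helper28.isN1_of_isReduced_adicCompletion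
    have h4 : Module.Finite B (integralClosure B K') :=
      (Groth.Agent.Lib.Helper14.isN1_iff_of_isFractionRing B K').mp hN1
    exact Groth.Agent.Lib.Helper14.finite_integralClosure_of_finite_tower (R ⧸ p₀) B K' h4

end Groth.Agent.S9440
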