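import Groth.Statements.S5099
import Groth.Agent.Lib.Helper20DivDepth

set_option autoImplicit false
universe u
open CategoryTheory CategoryTheory.Limits AlgebraicGeometry TopologicalSpace
open Mero

namespace Groth.Agent.S5099

set_option linter.style.haveILetI false
open Groth.Agent.Lib.Helper20.Kmod Groth.Agent.Lib.Helper20.DivDepth Groth.Agent.Lib.Helper2.QCoh
open nonZeroDivisors

variable {X : Scheme.{u}}

theorem fromSpec_specializes {W : X.Opens} (hW : IsAffineOpen W) (q : PrimeSpectrum Γ(X, W))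
    (y : X) (hyW : y ∈ W) (hle : q.asIdeal ≤ (hW.primeIdealOf ⟨y, hyW⟩).asIdeal) :
    hW.fromSpec q ⤳ y := by
  have h1 : q ⤳ hW.primeIdealOf ⟨y, hyW⟩ := (PrimeSpectrum.le_iff_specializes _ _).1 hle
  have h2 := h1.map hW.fromSpec.continuous
  rwa [hW.fromSpec_primeIdealOf ⟨y, hyW⟩] at h2

theorem depth_eq_one_aux [IsLocallyNoetherian X] {U : X.Opens} (hU : IsAffineOpen U)
    (a b : Γ(X, U)) (hb : b ∈ Γ(X, U)⁰) (x : X) (hxU : x ∈ U)
    (hnot : X.presheaf.germ U x hxU a ∉ Ideal.span {X.presheaf.germ U x hxU b})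
    (hgen : ∀ (z : X) (hzU : z ∈ U), z ⤳ x → z ≠ x →
      X.presheaf.germ U z hzU a ∈ Ideal.span {X.presheaf.germ U z hzU b}) :
    LocCoh.depth (X.presheaf.stalk x) (X.presheaf.stalk x) = 1 := by
  refine depth_eq_one_of_mem_minimalPrimes hU a b hb x hxU ⟨⟨(hU.primeIdealOf ⟨x, hxU⟩).isPrime, ?_⟩, ?_⟩
  · intro s hs
    by_contra hsp
    apply hnot
    rw [germ_mem_span_iff hU x hxU a b]
    refine ⟨s, hsp, ?_⟩
    simpa only [Submodule.mem_colon_singleton, smul_eq_mul] using hs
  · rintro q ⟨hqp, hJq⟩ hqle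
    let Q : PrimeSpectrum Γ(X, U) := ⟨q, hqp⟩
    have hzU : hU.fromSpec Q ∈ U := fromSpec_mem hU Q
    have hPz : hU.primeIdealOf ⟨hU.fromSpec Q, hzU⟩ = Q := primeIdealOf_fromSpec hU Q
    have hzx : hU.fromSpec Q ⤳ x := fromSpec_specializes hU Q x hxU hqle
    by_cases hzeq : hU.fromSpec Q = x
    · have : hU.primeIdealOf ⟨x, hxU⟩ = Q := by
        rw [← hPz]
        congr 1
        exact Subtype.ext hzeq.symm
      rw [this]
    · exfalso
      have hmem := hgen _ hzU hzx hzeq
      obtain ⟨s, hs, hsa⟩ := (germ_mem_span_iff hU _ hzU a b).1 hmem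
      rw [hPz] at hs
      apply hs
      apply hJq
      simpa only [Submodule.mem_colon_singleton, smul_eq_mul] using hsa


/-- General form, for divisors on a scheme that need not be integral: let X be a locally Noetherian
scheme, D a divisor on X and x a maximal point of the support of D (a point at which the germ of D
is not trivial and none of whose proper generizations has that property). Then the local ring of X
at x has depth 1. -/
theorem result (X : Scheme.{u}) [IsLocallyNoetherian X] (D : Mero.Divisor X)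
    (x : ↥X) (hx : x ∈ Mero.supp D) (hmax : ∀ z : ↥X, z ∈ Mero.supp D → z ⤳ x → z = x) :
    LocCoh.depth ↑(X.presheaf.stalk x) ↑(X.presheaf.stalk x) = 1 := by
  obtain ⟨U, hU, hxU, a, b, ha, hb, f, hf, hab⟩ := exists_local_rep D x
  have hbreg : b ∈ regSub X U := fun y => Groth.Agent.S8898.germ_mem_nonZeroDivisors hU b hb y
  have hgen : ∀ (z : X) (hzU : z ∈ U), z ⤳ x → z ≠ x →
      X.presheaf.germ U z hzU a ∈ Ideal.span {X.presheaf.germ U z hzU b} ∧
        X.presheaf.germ U z hzU b ∈ Ideal.span {X.presheaf.germ U z hzU a} := by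
    intro z hzU hzx hne
    have hz1 : D.1 z = 1 := by
      by_contra h
      exact hne (hmax z h hzx)
    exact mem_span_of_eq_one _ _ _ (germ_mem_regStalk ⟨z, hzU⟩ hbreg)
      (rep_apply a b f hab ⟨z, hzU⟩) D (hf ⟨z, hzU⟩) hz1
  by_cases h1 : X.presheaf.germ U x hxU a ∈ Ideal.span {X.presheaf.germ U x hxU b}
  · have h2 : X.presheaf.germ U x hxU b ∉ Ideal.span {X.presheaf.germ U x hxU a} := by
      intro h2
      exact hx (eq_one_of_mem_span _ _ _ (germ_mem_regStalk ⟨x, hxU⟩ hbreg)
        (rep_apply a b f hab ⟨x, hxU⟩) D (hf ⟨x, hxU⟩)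
        (Groth.Agent.S8898.germ_mem_nonZeroDivisors hU a ha ⟨x, hxU⟩) h1 h2)
    exact depth_eq_one_aux hU b a ha x hxU h2 fun z hzU hzx hne => (hgen z hzU hzx hne).2
  · exact depth_eq_one_aux hU a b hb x hxU h1 fun z hzU hzx hne => (hgen z hzU hzx hne).1

end Groth.Agent.S5099
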