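import Groth.Statements.S2906
import Mathlib
import Groth.Agent.S1134
import Groth.Agent.Lib.Helper15QFQAff
import Groth.Agent.Lib.Helper20GeomCard
import Groth.Agent.Lib.Helper12Descent

set_option autoImplicit false
open CategoryTheory CategoryTheory.Limits AlgebraicGeometry Opposite
universe u
open SGA1

namespace Groth.Agent.S2906

/-- Let g : S' ⟶ S be flat, surjective and quasi-compact. Then every descent datum relative to g whose
underlying scheme is etale, separated and quasi-compact over S' is isomorphic to the canonical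
descent datum of a scheme etale, separated and quasi-compact over S. (Descent data relative to g are
taken in functor-of-points form.) -/
theorem result {S' S : Scheme.{u}} (g : S' ⟶ S) [Flat g] [Surjective g] [QuasiCompact g]
    (D : Desc.SchDD g) [QuasiCompact D.obj.hom] [IsSeparated D.obj.hom] [Etale D.obj.hom] :
    ∃ U : Over S, QuasiCompact U.hom ∧ IsSeparated U.hom ∧ Etale U.hom ∧ Nonempty ((Desc.toDD g).obj U ≅ D) := by
  have hlqf : LocallyQuasiFinite D.obj.hom := Groth.Agent.Lib.Helper20.GeomCard.lqf_of_etale _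
  have hqa : Mor2.IsQuasiAffine D.obj.hom :=
    Groth.Agent.Lib.Helper15QFQAff.isQuasiAffine_of_isSeparated_of_locallyQuasiFinite _
  obtain ⟨U, ⟨e⟩⟩ := Groth.Agent.S1134.result g D hqa
  have hg : (@Surjective ⊓ @Flat ⊓ @QuasiCompact : MorphismProperty Scheme.{u}) g :=
    ⟨⟨inferInstance, inferInstance⟩, inferInstance⟩
  obtain ⟨a, ha⟩ : ∃ a : pullback g U.hom ⟶ D.obj.left, a = e.hom.hom.left := ⟨_, rfl⟩
  have hfac : pullback.fst g U.hom = a ≫ D.obj.hom := by
    rw [ha]; exact (Over.w e.hom.hom).symm
  have hiso : IsIso a := by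
    rw [ha]
    refine ⟨e.inv.hom.left, ?_, ?_⟩
    · have h1 : (e.hom ≫ e.inv).hom.left = (𝟙 ((Desc.toDD g).obj U) : _ ⟶ _).hom.left := by
        rw [e.hom_inv_id]
      exact h1
    · have h1 : (e.inv ≫ e.hom).hom.left = (𝟙 D : D ⟶ D).hom.left := by
        rw [e.inv_hom_id]
      exact h1
  have sq : IsPullback (pullback.fst g U.hom) (pullback.snd g U.hom) g U.hom :=
    IsPullback.of_hasPullback g U.hom
  refine ⟨U, ?_, ?_, ?_, ⟨e⟩⟩
  · have := Groth.Agent.Lib.Helper12.descendsAlong_quasiCompact.{u}
    refine MorphismProperty.of_isPullback_of_descendsAlong (P := @QuasiCompact) sq hg ?_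
    rw [hfac]; infer_instance
  · have := Groth.Agent.Lib.Helper12.descendsAlong_isSeparated.{u}
    refine MorphismProperty.of_isPullback_of_descendsAlong (P := @IsSeparated) sq hg ?_
    rw [hfac]; infer_instance
  · refine MorphismProperty.of_isPullback_of_descendsAlong (P := @Etale) sq hg ?_
    rw [hfac]; infer_instance

end Groth.Agent.S2906
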