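import Groth.Statements.S2910
import Groth.Agent.Lib.Helper20Rigid
import Groth.Agent.Lib.Helper20QuotTop
import Groth.Agent.S13597

set_option autoImplicit false
open CategoryTheory CategoryTheory.Limits AlgebraicGeometry
universe u
open SGA1

namespace Groth.Agent.S2910

theorem residueField_aux {X Y : Scheme.{u}} (p : X ⟶ Y) (x x' : X) (e : x' = x)
    (m : X.residueField x' ⟶ X.residueField x)
    (hm : p.residueFieldMap x' ≫ m =
      (Y.residueFieldCongr (congrArg p.base e)).hom ≫ p.residueFieldMap x) :
    p.residueFieldMap x ≫ (X.residueFieldCongr e).inv ≫ m = p.residueFieldMap x := by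
  subst e
  simpa using hm

theorem fromSpecResidueField_comp_of_fixed {X : Scheme.{u}} (f : X ⟶ X) (x : X)
    (e : f.base x = x) :
    X.fromSpecResidueField x ≫ f =
      Spec.map ((X.residueFieldCongr e).inv ≫ f.residueFieldMap x) ≫ X.fromSpecResidueField x := by
  rw [Spec.map_comp, Category.assoc, Scheme.residueFieldCongr_inv,
    Scheme.residueFieldCongr_fromSpecResidueField,
    Scheme.Hom.SpecMap_residueFieldMap_fromSpecResidueField]

/-- Let a finite group G act faithfully on a connected scheme X, let p : X ⟶ Y be a quotient of X by G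
with Y locally Noetherian and p finite, and suppose p is etale. Then G acts freely on the geometric
points of X (all inertia groups are trivial), and every automorphism of X over Y is the action of
exactly one element of G. -/
theorem result {X Y : Scheme.{u}} {G : Type u} [Group G] [Finite G] (ρ : G →* Aut X)
    (p : X ⟶ Y) (hp : SGA1.IsQuot ρ p) [IsLocallyNoetherian Y] [IsFinite p] [ConnectedSpace X]
    (hfaith : Function.Injective ρ) [Etale p] :
    (∀ (K : Type u) [Field K] [IsAlgClosed K] (ξ : Spec (CommRingCat.of K) ⟶ X) (g : G), ξ ≫ (ρ g).hom = ξ → g = 1) ∧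
    ∀ u : Aut X, u.hom ≫ p = p → ∃! g : G, ρ g = u := by
  have hsep : IsSeparated p := inferInstance
  have hdiag : IsOpenImmersion (pullback.diagonal p) := inferInstance
  have hrho1 : (ρ 1).hom = 𝟙 X := by rw [map_one]; rfl
  constructor
  · intro K _ _ ξ g hξ
    have h1 : (ρ g).hom = 𝟙 X :=
      Groth.Agent.Lib.Helper20.eq_of_comp_eq_of_connected p (ρ g).hom (𝟙 X)
        ((hp.inv g).trans (Category.id_comp p).symm) ξ (hξ.trans (Category.comp_id ξ).symm)
    apply hfaith
    rw [map_one]
    apply Iso.ext
    exact h1
  · intro u hu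
    obtain ⟨x⟩ : Nonempty X := inferInstance
    have hpx : p.base x = p.base (u.hom.base x) := by
      have := congrArg (fun f : X ⟶ Y => f.base x) hu
      simpa using this.symm
    obtain ⟨g, hg⟩ := (Groth.Agent.Lib.Helper20.fibre_iff_orbit hp x (u.hom.base x)).mp hpx
    -- `w = u ≫ (ρ g)⁻¹` fixes `x`
    let w : X ⟶ X := u.hom ≫ (ρ g).inv
    have hwp : w ≫ p = p := by
      have h1 : (ρ g).inv ≫ p = p := by rw [Iso.inv_comp_eq, hp.inv]
      rw [Category.assoc, h1, hu]
    have hwx : w.base x = x := by
      change (ρ g).inv.base (u.hom.base x) = x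
      rw [← hg]
      have := congrArg (fun f : X ⟶ X => f.base x) (ρ g).hom_inv_id
      simpa using this
    have hwiso : IsIso w := inferInstance
    let τ : X.residueField x ≅ X.residueField x :=
      (X.residueFieldCongr hwx).symm ≪≫ asIso (w.residueFieldMap x)
    have hτ : p.residueFieldMap x ≫ τ.hom = p.residueFieldMap x := by
      change p.residueFieldMap x ≫ (X.residueFieldCongr hwx).inv ≫ w.residueFieldMap x = _
      have h1 := Scheme.Hom.residueFieldMap_congr hwp x
      rw [Scheme.residueFieldMap_comp] at h1
      exact residueField_aux p x (w.base x) hwx (w.residueFieldMap x) h1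
    obtain ⟨h, eh, hτh⟩ := (Groth.Agent.S13597.result ρ p hp x).2 τ hτ
    have key : X.fromSpecResidueField x ≫ w = X.fromSpecResidueField x ≫ (ρ h).hom := by
      rw [fromSpecResidueField_comp_of_fixed w x hwx,
        fromSpecResidueField_comp_of_fixed (ρ h).hom x eh, ← hτh]
      rfl
    have hw : w = (ρ h).hom :=
      Groth.Agent.Lib.Helper20.eq_of_comp_eq_of_connected p w (ρ h).hom
        (hwp.trans (hp.inv h).symm) (X.fromSpecResidueField x) key
    have hu' : u.hom = (ρ (g * h)).hom := by
      have h1 : (ρ (g * h)).hom = (ρ h).hom ≫ (ρ g).hom := by rw [map_mul]; rfl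
      rw [h1, ← hw, Category.assoc, Iso.inv_hom_id, Category.comp_id]
    refine ⟨g * h, Iso.ext hu'.symm, ?_⟩
    intro g' hg'
    apply hfaith
    rw [hg']
    exact Iso.ext hu'

end Groth.Agent.S2910
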