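import Groth.Statements.S2911
import Mathlib
import Groth.Agent.Lib.Helper20QuotSheet
import Groth.Agent.Lib.Helper20EtSections2
import Groth.Agent.Lib.Helper6EtLocusDesc
import Groth.Agent.S2909

set_option autoImplicit false
open CategoryTheory CategoryTheory.Limits AlgebraicGeometry
universe u
open SGA1

namespace Groth.Agent.S2911
open Groth.Agent.Lib.Helper20 Groth.Agent.Lib.Helper20.QuotSheet TopologicalSpace
open Groth.Agent.Lib.Helper20.EtSections

theorem etale_quot {X X' Y : Scheme.{u}} {G : Type u} [Group G] [Finite G] (ρ : G →* Aut X)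
    [IsLocallyNoetherian Y] (f : X ⟶ Y) [Etale f] (hρ : ∀ g : G, (ρ g).hom ≫ f = f)
    (p : X ⟶ X') (hp : SGA1.IsQuot ρ p) (q : X' ⟶ Y) (hq : p ≫ q = f)
    [LocallyOfFiniteType q] : Etale q := by
  haveI : LocallyOfFinitePresentation q :=
    LocallyOfFinitePresentation.iff_locallyOfFiniteType.mpr inferInstance
  -- local statement
  have hloc : ∀ x' : X', ∃ O : X'.Opens, x' ∈ O ∧ Etale (O.ι ≫ q) := by
    intro x'
    obtain ⟨x, rfl⟩ := surjective_of_isQuot hp x'
    obtain ⟨U, g, u, hg, hgu, K, hK, lab, V, hV1, hV2, hV3, hV4⟩ :=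
      hasSections_singleton_of_etale f x
    obtain ⟨w, hw1, hw2⟩ := Scheme.Pullback.exists_preimage_pullback (f := f) (g := g) x u hgu.symm
    obtain ⟨k, hk1, hk2⟩ := hV3 w hw2 (by rw [hw1]; rfl)
    haveI := hV1 k
    let σ : U ⟶ pullback f g := inv ((V k).ι ≫ pullback.snd f g) ≫ (V k).ι
    have hσsnd : σ ≫ pullback.snd f g = 𝟙 U := by
      simp only [σ, Category.assoc]
      exact IsIso.inv_hom_id _
    have hσu : σ u = w := by
      obtain ⟨w₀, rfl⟩ : w ∈ Set.range (V k).ι := by rw [Scheme.Opens.range_ι]; exact hk2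
      have h1 : ((V k).ι ≫ pullback.snd f g) w₀ = u := hw2
      have h2 : inv ((V k).ι ≫ pullback.snd f g) u = w₀ := by
        rw [← h1, ← Scheme.Hom.comp_apply, IsIso.hom_inv_id]
        rfl
      change (V k).ι (inv ((V k).ι ≫ pullback.snd f g) u) = _
      rw [h2]
    haveI : Flat g := inferInstance
    have hpU := isQuot_bcQuot ρ f hρ p hp q hq g
    have hσ' : σ ≫ bcQuot f p q hq g ≫ pullback.snd q g = 𝟙 U := by
      have h1 : bcQuot f p q hq g ≫ pullback.snd q g = pullback.snd f g := pullback.lift_snd _ _ _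
      rw [h1, hσsnd]
    obtain ⟨N, hN1, hN2⟩ := exists_open_isIso_of_section _ _ hpU (pullback.snd q g) σ hσ'
    let φ : N.toScheme ⟶ X' := N.ι ≫ pullback.fst q g
    haveI : Etale φ := inferInstance
    haveI : Etale (φ ≫ q) := by
      have : φ ≫ q = (N.ι ≫ pullback.snd q g) ≫ g := by
        simp only [φ, Category.assoc, pullback.condition]
      rw [this]
      infer_instance
    obtain ⟨O, hO, hOet⟩ := Groth.Agent.Lib.Helper6.EtLocusDesc.etale_on_range φ q
    refine ⟨O, ?_, hOet⟩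
    change p x ∈ (O : Set X')
    rw [hO]
    have hmem := hN1 u
    refine ⟨⟨(σ ≫ bcQuot f p q hq g) u, hmem⟩, ?_⟩
    change (pullback.fst q g) ((σ ≫ bcQuot f p q hq g) u) = p x
    rw [Scheme.Hom.comp_apply, hσu, ← Scheme.Hom.comp_apply, bcQuot, pullback.lift_fst,
      Scheme.Hom.comp_apply, hw1]
  choose O hO1 hO2 using hloc
  have hcov : ⨆ x' : X', O x' = ⊤ := by
    rw [eq_top_iff]
    intro x' _
    exact Opens.mem_iSup.mpr ⟨x', hO1 x'⟩
  exact IsZariskiLocalAtSource.of_iSup_eq_top (P := @Etale) O hcov hO2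


/-- With the existence of the quotient taken as a hypothesis: Let Y be locally Noetherian, f : X ⟶ Y
etale, separated and quasi-compact, G a finite group acting on X by Y-automorphisms, p : X ⟶ X' a
quotient of X by G and q : X' ⟶ Y the induced morphism. Then p and q are etale, and if f is finite
then q is finite. -/
theorem result {X X' Y : Scheme.{u}} {G : Type u} [Group G] [Finite G] (ρ : G →* Aut X)
    [IsLocallyNoetherian Y] (f : X ⟶ Y) [Etale f] [IsSeparated f] [QuasiCompact f] (hρ : ∀ g : G, (ρ g).hom ≫ f = f)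
    (p : X ⟶ X') (hp : SGA1.IsQuot ρ p) (q : X' ⟶ Y) (hq : p ≫ q = f) :
    Etale p ∧ Etale q ∧ (IsFinite f → IsFinite q) := by
  obtain ⟨h1, h2, h3, h4⟩ := Groth.Agent.S2909.result ρ p hp f q hq hρ
  obtain ⟨hqlft, hqqc⟩ := h4 inferInstance inferInstance inferInstance
  have hqet : Etale q := etale_quot ρ f hρ p hp q hq
  have hpet : Etale p := by
    haveI : Etale (p ≫ q) := by rw [hq]; infer_instance
    exact MorphismProperty.of_postcomp (W := @Etale) (W' := @Etale) p q hqet inferInstance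
  refine ⟨hpet, hqet, fun hf => ?_⟩
  haveI : IsAffineHom q := h1.mp inferInstance
  haveI := hp.affine
  refine ⟨fun U hU => ?_⟩
  subst hq
  have hfin : (RingHom.comp (p.app (q ⁻¹ᵁ U)).hom (q.app U).hom).Finite :=
    (p ≫ q).finite_app U hU
  have hinj : Function.Injective (p.app (q ⁻¹ᵁ U)).hom := hp.injective _
  haveI : IsNoetherianRing Γ(Y, U) := IsLocallyNoetherian.component_noetherian ⟨U, hU⟩
  algebraize [(q.app U).hom, (p.app (q ⁻¹ᵁ U)).hom, ((p.app (q ⁻¹ᵁ U)).hom.comp (q.app U).hom)]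
  haveI : Module.Finite Γ(Y, U) Γ(X, p ⁻¹ᵁ (q ⁻¹ᵁ U)) := hfin
  haveI : IsNoetherian Γ(Y, U) Γ(X, p ⁻¹ᵁ (q ⁻¹ᵁ U)) := isNoetherian_of_isNoetherianRing_of_finite _ _
  exact Module.Finite.of_injective
    (IsScalarTower.toAlgHom Γ(Y, U) Γ(X', q ⁻¹ᵁ U) Γ(X, p ⁻¹ᵁ (q ⁻¹ᵁ U))).toLinearMap hinj

end Groth.Agent.S2911
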