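import Groth.Statements.S2913

set_option autoImplicit false
open CategoryTheory CategoryTheory.Limits AlgebraicGeometry Opposite
universe u
open SGA1

namespace Groth.Agent.S2913

/-- Let g : S' ⟶ S be a surjective morphism of schemes such that for every open U of S the map O_S(U) →
O_{S'}(g⁻¹U) is injective. Then g is an epimorphism in the category of schemes. -/
theorem result {S' S : Scheme.{u}} (g : S' ⟶ S) [Surjective g]
    (hinj : ∀ U : S.Opens, Function.Injective (g.app U).hom) : Epi g := by
  constructor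
  intro T h₁ h₂ h
  have hbase : h₁.base = h₂.base := by
    ext x
    obtain ⟨y, rfl⟩ := g.surjective x
    have := congr(($h).base y)
    simpa using this
  refine Scheme.Hom.ext hbase (fun U => ?_)
  have hmono : Mono (g.app (h₂ ⁻¹ᵁ U)) := ConcreteCategory.mono_of_injective _ (hinj _)
  rw [← cancel_mono (g.app (h₂ ⁻¹ᵁ U))]
  have h3 := Scheme.Hom.congr_app h U
  rw [Scheme.Hom.comp_app, Scheme.Hom.comp_app] at h3
  rw [Category.assoc, Scheme.Hom.naturality, ← Category.assoc, h3]
  have key : ∀ {A B C : CommRingCat} (X : A ⟶ B) (m₁ : B ⟶ C) (m₂ : C ⟶ B),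
      m₁ ≫ m₂ = 𝟙 _ → (X ≫ m₁) ≫ m₂ = X := by
    intro A B C X m₁ m₂ hm
    rw [Category.assoc, hm, Category.comp_id]
  apply key
  change S'.presheaf.map _ ≫ S'.presheaf.map _ = _
  rw [← S'.presheaf.map_comp]
  have hid : ∀ (V : (TopologicalSpace.Opens S')ᵒᵖ) (f : V ⟶ V), S'.presheaf.map f = 𝟙 _ := by
    intro V f
    rw [Subsingleton.elim f (𝟙 V), S'.presheaf.map_id]
  exact hid _ _

end Groth.Agent.S2913
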