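import Groth.Statements.S2914
import Mathlib

set_option autoImplicit false
open CategoryTheory CategoryTheory.Limits AlgebraicGeometry Opposite
universe u
open SGA1

namespace Groth.Agent.S2914

open TopologicalSpace in
/-- Claim A: surjective + injective on sections ⟹ epi. -/
lemma epi_of_surjective_of_injective_app {X Y : Scheme.{u}} (p : X ⟶ Y)
    (hs : Function.Surjective p.base) (hi : ∀ U : Y.Opens, Function.Injective (p.app U).hom) :
    Epi p := by
  constructor
  intro W a b h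
  have h_base : a.base = b.base := by
    ext y
    obtain ⟨x, rfl⟩ := hs y
    have := congr($(h).base x)
    simpa using this
  refine Scheme.Hom.ext h_base fun U => ?_
  have : Mono (p.app (b ⁻¹ᵁ U)) := ConcreteCategory.mono_of_injective _ (hi _)
  rw [← cancel_mono (p.app (b ⁻¹ᵁ U))]
  have h1 := Scheme.Hom.congr_app h U
  rw [Scheme.Hom.comp_app, Scheme.Hom.comp_app] at h1
  rw [Category.assoc, Scheme.Hom.naturality, ← Category.assoc, h1]
  have key : ∀ {A B C : CommRingCat.{u}} (x : A ⟶ B) (m1 : B ⟶ C) (m2 : C ⟶ B),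
      m1 ≫ m2 = 𝟙 _ → (x ≫ m1) ≫ m2 = x := by
    intro A B C x m1 m2 h; rw [Category.assoc, h, Category.comp_id]
  exact key _ _ _ ((X.presheaf.map_comp _ _).symm.trans
    ((congrArg X.presheaf.map (Subsingleton.elim _ _)).trans (X.presheaf.map_id _)))

lemma epi_morphismRestrict {S' S : Scheme.{u}} (g : S' ⟶ S) (hs : Function.Surjective g.base)
    (hinj : ∀ U : S.Opens, Function.Injective (g.app U).hom) (U : S.Opens) : Epi (g ∣_ U) := by
  apply epi_of_surjective_of_injective_app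
  · rintro ⟨y, hy⟩
    obtain ⟨x, rfl⟩ := hs y
    exact ⟨⟨x, hy⟩, Subtype.ext (morphismRestrict_base_coe g U _)⟩
  · intro V
    rw [morphismRestrict_app]
    exact Function.Injective.comp
      (g := (S'.presheaf.map (eqToHom (image_morphismRestrict_preimage g U V)).op).hom)
      (ConcreteCategory.bijective_of_isIso
        (S'.presheaf.map (eqToHom (image_morphismRestrict_preimage g U V)).op)).1 (hinj _)

lemma epi_pullback_snd {S' S T : Scheme.{u}} (g : S' ⟶ S) (hs : Function.Surjective g.base)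
    (hinj : ∀ U : S.Opens, Function.Injective (g.app U).hom) (t : T ⟶ S) [IsOpenImmersion t] :
    Epi (pullback.snd g t) := by
  constructor
  intro Z a b h
  haveI := epi_morphismRestrict g hs hinj t.opensRange
  let e := t.isoOpensRange
  let l : (g ⁻¹ᵁ t.opensRange).toScheme ⟶ pullback g t :=
    pullback.lift (g ⁻¹ᵁ t.opensRange).ι ((g ∣_ t.opensRange) ≫ e.inv) (by
      rw [Category.assoc, Scheme.Hom.isoOpensRange_inv_comp, morphismRestrict_ι])
  have hl : l ≫ pullback.snd g t = (g ∣_ t.opensRange) ≫ e.inv := pullback.lift_snd _ _ _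
  have h2 : (g ∣_ t.opensRange) ≫ e.inv ≫ a = (g ∣_ t.opensRange) ≫ e.inv ≫ b := by
    rw [← Category.assoc, ← hl, Category.assoc, h, ← Category.assoc, hl, Category.assoc]
  rw [cancel_epi, cancel_epi] at h2
  exact h2

/-- local pieces determine compatible values -/
lemma comp_eq_of_local {S' S Z : Scheme.{u}} (g : S' ⟶ S) (f : S' ⟶ Z) (U : S.Opens)
    (u : U.toScheme ⟶ Z) (hu : (g ∣_ U) ≫ u = (g ⁻¹ᵁ U).ι ≫ f) {P : Scheme.{u}}
    (p1 : P ⟶ S') (p2 : P ⟶ U.toScheme) (w : p2 ≫ U.ι = p1 ≫ g) : p2 ≫ u = p1 ≫ f := by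
  have hP := isPullback_morphismRestrict g U
  have h1 : hP.lift p2 p1 w ≫ (g ∣_ U) = p2 := hP.lift_fst _ _ _
  have h2 : hP.lift p2 p1 w ≫ (g ⁻¹ᵁ U).ι = p1 := hP.lift_snd _ _ _
  rw [← h1, Category.assoc, hu, ← Category.assoc, h2]

lemma exists_ringHom_lift {A B C : Type u} [CommRing A] [CommRing B] [CommRing C] (i : B →+* C)
    (hi : Function.Injective i) (φ : A →+* C) (h : ∀ a, φ a ∈ Set.range i) :
    ∃ ψ : A →+* B, i.comp ψ = φ := by
  choose ψ hψ using h
  refine ⟨⟨⟨⟨ψ, ?_⟩, ?_⟩, ?_, ?_⟩, RingHom.ext hψ⟩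
  · apply hi; simp [hψ]
  · intro x y; apply hi; simp [hψ]
  · apply hi; simp [hψ]
  · intro x y; apply hi; simp [hψ]

lemma appLE_congr_hom {X Y : Scheme.{u}} {f f' : X ⟶ Y} (h : f = f') (U : Y.Opens) (V : X.Opens)
    (e : V ≤ f ⁻¹ᵁ U) : f.appLE U V e = f'.appLE U V (h ▸ e) := by
  subst h; rfl

/-- Let g : S' ⟶ S be a morphism of schemes whose underlying map is a quotient map, and such that for
every open U of S the sequence O_S(U) → O_{S'}(g⁻¹U) ⇉ O_{S''}(h⁻¹U) is an equalizer, where S'' = S'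
×_S S' with structure map h and the two arrows are restriction along the projections. Then g is an
effective epimorphism in the category of schemes. -/
theorem result {S' S : Scheme.{u}} (g : S' ⟶ S) (hq : Topology.IsQuotientMap g.base)
    (hinj : ∀ U : S.Opens, Function.Injective (g.app U).hom)
    (heq : ∀ (U : S.Opens) (s' : Γ(S', g ⁻¹ᵁ U)), (SGA1.overlapFstApp g U).hom s' = (SGA1.overlapSndApp g U).hom s' →
      s' ∈ Set.range (g.app U).hom) :
    EffectiveEpi g := by
  have hs : Function.Surjective g.base := hq.surjective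
  haveI : Epi g := epi_of_surjective_of_injective_app g hs hinj
  suffices IsRegularEpi g from inferInstance
  refine .of_epi_of_exists fun Z f hf ↦ ?_
  haveI : EffectiveEpi g.base := (TopCat.effectiveEpi_iff_isQuotientMap _).mpr hq
  obtain ⟨b, hb⟩ : ∃ (b : S.carrier ⟶ Z.carrier), g.base ≫ b = f.base := by
    apply IsRegularEpi.exists_of_isKernelPair _ (IsPullback.of_hasPullback _ _)
    have := congr(Scheme.forgetToTop.map $hf)
    rwa [Functor.map_comp, Functor.map_comp, ← pullbackComparison_comp_fst_assoc,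
      ← pullbackComparison_comp_snd_assoc, cancel_epi] at this
  have key : ∀ V : Z.Opens, IsAffineOpen V → ∃ u : Scheme.Opens.toScheme (X := S) (V.comap b.hom) ⟶ Z,
      (g ∣_ (V.comap b.hom : S.Opens)) ≫ u = (g ⁻¹ᵁ (V.comap b.hom : S.Opens)).ι ≫ f := by
    intro V hV
    set U : S.Opens := V.comap b.hom with hU
    have hpre : g ⁻¹ᵁ U = f ⁻¹ᵁ V := by
      ext x
      show b (g.base x) ∈ V ↔ f.base x ∈ V
      rw [← hb]; rfl
    let φ := f.appLE V (g ⁻¹ᵁ U) hpre.le
    have hφeq : φ ≫ overlapFstApp g U = φ ≫ overlapSndApp g U := by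
      unfold overlapFstApp overlapSndApp
      rw [Scheme.Hom.app_eq_appLE, Scheme.Hom.appLE_comp_appLE, Scheme.Hom.appLE_comp_appLE]
      exact appLE_congr_hom hf _ _ _
    obtain ⟨ψ0, hψ0⟩ := exists_ringHom_lift (g.app U).hom (hinj U) φ.hom (fun r =>
      heq U _ (ConcreteCategory.congr_hom hφeq r))
    let ψ : Γ(Z, V) ⟶ Γ(S, U) := CommRingCat.ofHom ψ0
    have hψ : ψ ≫ g.app U = φ := by
      ext r
      exact congr($hψ0 r)
    refine ⟨U.toSpecΓ ≫ Spec.map ψ ≫ hV.fromSpec, ?_⟩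
    rw [← Scheme.Opens.toSpecΓ_naturality_assoc, ← Spec.map_comp_assoc, hψ,
      Scheme.Opens.toSpecΓ_SpecMap_appLE_assoc, IsAffineOpen.toSpecΓ_fromSpec,
      Scheme.Hom.resLE_comp_ι]
  choose u hu using fun V : Z.affineOpens => key V.1 V.2
  let 𝒰 := S.openCoverOfIsOpenCover (fun V : Z.affineOpens => (V.1.comap b.hom : S.Opens))
    (Z.isBasis_affineOpens.isOpenCover.comap b.hom)
  refine ⟨𝒰.glueMorphisms u ?_, ?_⟩
  · intro i j
    haveI := epi_pullback_snd g hs hinj (pullback.fst (𝒰.f i) (𝒰.f j) ≫ 𝒰.f i)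
    rw [← cancel_epi (pullback.snd g (pullback.fst (𝒰.f i) (𝒰.f j) ≫ 𝒰.f i))]
    have e1 := comp_eq_of_local g f _ (u i) (hu i)
      (pullback.fst g (pullback.fst (𝒰.f i) (𝒰.f j) ≫ 𝒰.f i))
      (pullback.snd g (pullback.fst (𝒰.f i) (𝒰.f j) ≫ 𝒰.f i) ≫ pullback.fst (𝒰.f i) (𝒰.f j))
      ((Category.assoc _ _ _).trans
        (pullback.condition (f := g) (g := pullback.fst (𝒰.f i) (𝒰.f j) ≫ 𝒰.f i)).symm)
    have e2 := comp_eq_of_local g f _ (u j) (hu j)
      (pullback.fst g (pullback.fst (𝒰.f i) (𝒰.f j) ≫ 𝒰.f i))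
      (pullback.snd g (pullback.fst (𝒰.f i) (𝒰.f j) ≫ 𝒰.f i) ≫ pullback.snd (𝒰.f i) (𝒰.f j))
      ((Category.assoc _ _ _).trans ((congrArg
        (pullback.snd g (pullback.fst (𝒰.f i) (𝒰.f j) ≫ 𝒰.f i) ≫ ·)
        (pullback.condition (f := 𝒰.f i) (g := 𝒰.f j)).symm).trans
        (pullback.condition (f := g) (g := pullback.fst (𝒰.f i) (𝒰.f j) ≫ 𝒰.f i)).symm))
    exact ((Category.assoc _ _ _).symm.trans e1).trans ((Category.assoc _ _ _).symm.trans e2).symm
  · apply Scheme.Cover.hom_ext (𝒰.pullback₁ g)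
    intro i
    have e1 := comp_eq_of_local g f _ (u i) (hu i)
      (pullback.fst g (𝒰.f i)) (pullback.snd g (𝒰.f i)) pullback.condition.symm
    show pullback.fst g (𝒰.f i) ≫ g ≫ _ = pullback.fst g (𝒰.f i) ≫ f
    rw [← e1, pullback.condition_assoc, Scheme.Cover.ι_glueMorphisms]
    rfl

end Groth.Agent.S2914
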