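import Groth.Statements.S2916
import Mathlib
import Groth.Agent.Lib.Helper20UnivSubDesc

set_option autoImplicit false
open CategoryTheory CategoryTheory.Limits AlgebraicGeometry Opposite
universe u
open SGA1

namespace Groth.Agent.S2916

open Groth.Agent.Lib.Helper20.UnivSub Groth.Agent.Lib.Helper22.FEtGraph


/-- Let g : S' ⟶ S be universally submersive with geometrically connected fibres (the base change of S'
to any algebraically closed field valued point of S is connected). Then S' is connected whenever S
is, and for schemes X, Y etale over S every S'-morphism between their base changes comes from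
exactly one S-morphism X ⟶ Y. -/
theorem result {S' S : Scheme.{u}} (g : S' ⟶ S)
    (hg : SGA1.UnivSubmersive g)
    (hconn : ∀ (K : Type u) [Field K] [IsAlgClosed K] (ξ : Spec (CommRingCat.of K) ⟶ S), ConnectedSpace ↑(pullback g ξ)) :
    (ConnectedSpace S → ConnectedSpace S') ∧
    ∀ (X Y : Over S) [Etale X.hom] [Etale Y.hom], Function.Bijective ((Over.pullback g).map : (X ⟶ Y) → _) := by
  refine ⟨?_, ?_⟩
  · intro hS
    have hgq : Topology.IsQuotientMap g :=
      isQuotientMap_of_univSubmersive g hg _ _ _ (IsPullback.id_vert g)
    have hfib : ∀ s : S, _root_.IsConnected (g ⁻¹' {s}) := by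
      intro s
      obtain ⟨Ω, _, _, ζ, hζ⟩ := exists_geometric_point s
      haveI := hconn Ω ζ
      rw [← hζ, ← Scheme.Pullback.range_fst g ζ]
      exact isConnected_range (pullback.fst g ζ).continuous
    haveI : Nonempty S' := by
      obtain ⟨s⟩ : Nonempty S := inferInstance
      obtain ⟨s', -⟩ := hgq.surjective s
      exact ⟨s'⟩
    haveI : PreconnectedSpace S' := by
      rw [preconnectedSpace_iff_connectedComponent]
      intro a
      rw [← hgq.preimage_connectedComponent hfib a, PreconnectedSpace.connectedComponent_eq_univ,
        Set.preimage_univ]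
    exact ⟨inferInstance⟩
  · intro X Y _ _
    constructor
    · intro φ ψ hφψ
      have hpq : Topology.IsQuotientMap (pullback.fst X.hom g) :=
        isQuotientMap_of_univSubmersive g hg _ _ _ (IsPullback.of_hasPullback X.hom g)
      haveI : Surjective (pullback.fst X.hom g) := ⟨hpq.surjective⟩
      have h1 : ((Over.pullback g).map φ).left ≫ pullback.fst Y.hom g =
          pullback.fst X.hom g ≫ φ.left := by
        simp
        exact pullback.lift_fst _ _ _
      have h2 : ((Over.pullback g).map ψ).left ≫ pullback.fst Y.hom g =
          pullback.fst X.hom g ≫ ψ.left := by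
        simp
        exact pullback.lift_fst _ _ _
      have hp : pullback.fst X.hom g ≫ φ.left = pullback.fst X.hom g ≫ ψ.left := by
        rw [← h1, ← h2]
        change ((Over.pullback g).map φ).left ≫ _ = ((Over.pullback g).map ψ).left ≫ _
        rw [hφψ]
      apply Over.OverMorphism.ext
      exact eq_of_surjective_comp_eq Y.hom (pullback.fst X.hom g) φ.left ψ.left
        (by rw [Over.w φ, Over.w ψ]) hp
    · intro h
      have hh : h.left ≫ pullback.snd Y.hom g = pullback.snd X.hom g := Over.w h
      obtain ⟨φ, hφ1, hφ2⟩ := exists_descend g hg hconn X.hom Y.hom h.left hh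
      refine ⟨Over.homMk φ hφ1, ?_⟩
      apply Over.OverMorphism.ext
      apply pullback.hom_ext
      · have h1 : ((Over.pullback g).map (Over.homMk φ hφ1 : X ⟶ Y)).left ≫ pullback.fst Y.hom g =
            pullback.fst X.hom g ≫ φ := by
          simp
          exact pullback.lift_fst _ _ _
        exact h1.trans hφ2
      · have h2 : ((Over.pullback g).map (Over.homMk φ hφ1 : X ⟶ Y)).left ≫ pullback.snd Y.hom g =
            pullback.snd X.hom g := by
          simp
          exact pullback.lift_snd _ _ _
        exact h2.trans hh.symm

end Groth.Agent.S2916
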