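import Groth.Statements.S2917
import Groth.Agent.Lib.Helper12Submersive

set_option autoImplicit false
open CategoryTheory CategoryTheory.Limits AlgebraicGeometry Opposite
universe u
open SGA1

namespace Groth.Agent.S2917


open Groth.Agent.Lib.Helper12.Submersive in
lemma square {S' S X Y : Scheme.{u}} (g : S' ⟶ S)
    (f : X ⟶ Y) (q : Y ⟶ S) :
    IsPullback (pullback.map (f ≫ q) g q g f (𝟙 S') (𝟙 S) (Category.comp_id _)
      ((Category.comp_id _).trans (Category.id_comp _).symm)) (pullback.fst (f ≫ q) g)
      (pullback.fst q g) f := by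
  apply IsPullback.of_right (h₁₂ := pullback.snd q g) (h₂₂ := q) (v₁₃ := g)
  · have := IsPullback.of_hasPullback (f ≫ q) g
    convert this.flip using 1
    rw [pullback.map, pullback.lift_snd, Category.comp_id]
  · rw [pullback.map, pullback.lift_fst]
  · exact (IsPullback.of_hasPullback q g).flip

open Groth.Agent.Lib.Helper12.Submersive in


/-- Let g : S' ⟶ S be universally submersive, f : X ⟶ Y a morphism of S-schemes (Y ⟶ S the structure
map) and f' its base change along S' ⟶ S, realised as X ×_S S' ⟶ Y ×_S S'. If f' is open (resp.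
closed) then so is f; if f' is universally open (resp. universally closed, resp. separated) then so
is f; and if moreover g is quasi-compact and f locally of finite type, then f is proper as soon as
f' is. -/
theorem result {S' S X Y : Scheme.{u}} (g : S' ⟶ S) (hg : SGA1.UnivSubmersive g)
    (f : X ⟶ Y) (q : Y ⟶ S) :
    (IsOpenMap (pullback.map (f ≫ q) g q g f (𝟙 S') (𝟙 S) (Category.comp_id _) ((Category.comp_id _).trans (Category.id_comp _).symm)).base → IsOpenMap f.base) ∧
    (IsClosedMap (pullback.map (f ≫ q) g q g f (𝟙 S') (𝟙 S) (Category.comp_id _) ((Category.comp_id _).trans (Category.id_comp _).symm)).base → IsClosedMap f.base) ∧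
    (UniversallyOpen (pullback.map (f ≫ q) g q g f (𝟙 S') (𝟙 S) (Category.comp_id _) ((Category.comp_id _).trans (Category.id_comp _).symm)) → UniversallyOpen f) ∧
    (UniversallyClosed (pullback.map (f ≫ q) g q g f (𝟙 S') (𝟙 S) (Category.comp_id _) ((Category.comp_id _).trans (Category.id_comp _).symm)) → UniversallyClosed f) ∧
    (IsSeparated (pullback.map (f ≫ q) g q g f (𝟙 S') (𝟙 S) (Category.comp_id _) ((Category.comp_id _).trans (Category.id_comp _).symm)) → IsSeparated f) ∧
    (QuasiCompact g → LocallyOfFiniteType f →
      IsProper (pullback.map (f ≫ q) g q g f (𝟙 S') (𝟙 S) (Category.comp_id _) ((Category.comp_id _).trans (Category.id_comp _).symm)) → IsProper f) := by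
  have hsq := square g f q
  have hg' : Groth.Agent.Lib.Helper12.Submersive.US g := hg
  have hus : Groth.Agent.Lib.Helper12.Submersive.US (pullback.fst q g) :=
    MorphismProperty.of_isPullback (IsPullback.of_hasPullback q g).flip hg'
  refine ⟨fun h => ?_, fun h => ?_, fun h => ?_, fun h => ?_, fun h => ?_, fun _ hlft h => ?_⟩
  · exact Groth.Agent.Lib.Helper12.Submersive.isOpenMap_of_isPullback hsq
      (Groth.Agent.Lib.Helper12.Submersive.isQuotientMap_of_us hus) h
  · exact Groth.Agent.Lib.Helper12.Submersive.isClosedMap_of_isPullback hsq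
      (Groth.Agent.Lib.Helper12.Submersive.isQuotientMap_of_us hus) h
  · exact Groth.Agent.Lib.Helper12.Submersive.universallyOpen_of_isPullback hsq hus h
  · exact Groth.Agent.Lib.Helper12.Submersive.universallyClosed_of_isPullback hsq hus h
  · exact Groth.Agent.Lib.Helper12.Submersive.isSeparated_of_isPullback hsq hus h
  · exact Groth.Agent.Lib.Helper12.Submersive.isProper_of_isPullback hsq hus hlft h

end Groth.Agent.S2917
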