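import Groth.Statements.S2919
import Mathlib
import Groth.Agent.Lib.Helper20FreeQuot

set_option autoImplicit false
open CategoryTheory CategoryTheory.Limits AlgebraicGeometry
universe u
open SGA1

namespace Groth.Agent.S2919
open Groth.Agent.Lib.Helper20 Groth.Agent.Lib.Helper20.FreeQuot TopologicalSpace


/-- Let a finite group G act on X, p : X ⟶ Y a quotient with Y locally Noetherian and p finite, G acting
freely on geometric points, and suppose p has a section. Then the morphism from the disjoint union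
of copies of Y indexed by G to X which is s followed by the action of g on the g-th copy is an
isomorphism. -/
theorem result {X Y : Scheme.{u}} {G : Type u} [Group G] [Finite G] (ρ : G →* Aut X)
    (p : X ⟶ Y) (hp : SGA1.IsQuot ρ p) [IsLocallyNoetherian Y] [IsFinite p]
    (hfree : (∀ (K : Type u) [Field K] [IsAlgClosed K] (ξ : Spec (CommRingCat.of K) ⟶ X) (g : G), ξ ≫ (ρ g).hom = ξ → g = 1)) (s : Y ⟶ X) (hs : s ≫ p = 𝟙 Y) :
    IsIso (Sigma.desc (fun g : G => s ≫ (ρ g).hom) : (∐ fun _ : G => Y) ⟶ X) := by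
  haveI := hp.affine
  set τ : G → (Y ⟶ X) := fun g => s ≫ (ρ g).hom with hτ
  set Ψ : (∐ fun _ : G => Y) ⟶ X := Sigma.desc τ with hΨ
  have hτp : ∀ g, τ g ≫ p = 𝟙 Y := by
    intro g
    rw [hτ]
    simp only [Category.assoc]
    rw [hp.inv g, hs]
  have hιΨ : ∀ g, Sigma.ι (fun _ : G => Y) g ≫ Ψ = τ g := fun g => Sigma.ι_desc _ _
  have hfold : Ψ ≫ p = Sigma.desc (fun _ : G => 𝟙 Y) := by
    apply Sigma.hom_ext
    intro g
    rw [← Category.assoc, hιΨ, hτp, Sigma.ι_desc]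
  haveI : IsFinite (Ψ ≫ p) := by
    rw [hfold]
    exact Groth.Agent.S13739.isFinite_fold' Y G
  haveI : IsFinite Ψ := IsFinite.of_comp Ψ p
  have hcover : ⨆ U : Y.affineOpens, p ⁻¹ᵁ U.1 = ⊤ := by
    have := congrArg (fun W => p ⁻¹ᵁ W) (iSup_affineOpens_eq_top Y)
    simpa [Scheme.Hom.preimage_iSup] using this
  change MorphismProperty.isomorphisms Scheme Ψ
  rw [IsZariskiLocalAtTarget.iff_of_iSup_eq_top (P := MorphismProperty.isomorphisms Scheme)
    (fun U : Y.affineOpens => p ⁻¹ᵁ U.1) hcover]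
  rintro ⟨U, hU⟩
  change IsIso (Ψ ∣_ (p ⁻¹ᵁ U))
  have hXU : IsAffineOpen (p ⁻¹ᵁ U) := hU.preimage p
  rw [isIso_morphismRestrict_iff_isIso_app Ψ hXU, ConcreteCategory.isIso_iff_bijective]
  letI := sectionAction ρ p hp.inv U
  have hfreeU := isFreeAct_of_geomFree ρ p hp.inv hfree U hXU
  have es : U ≤ s ⁻¹ᵁ (p ⁻¹ᵁ U) := by
    rw [← Scheme.Hom.comp_preimage, hs]
    exact le_rfl
  have eτ : ∀ g : G, U ≤ τ g ⁻¹ᵁ (p ⁻¹ᵁ U) := by
    intro g
    rw [← Scheme.Hom.comp_preimage, hτp]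
    exact le_rfl
  have key := CHR.bijective_of_retraction (G := G) (p.app U).hom
    (fun g b => by
      have h : (p.app U).hom b ∈ Set.range (p.app U).hom := ⟨b, rfl⟩
      rw [hp.range_iff] at h
      exact h g⁻¹)
    (fun a ha => by
      rw [hp.range_iff]
      intro g
      have := ha g⁻¹
      rw [sectionAction_smul, inv_inv] at this
      exact this)
    hfreeU (s.appLE (p ⁻¹ᵁ U) U es).hom
    (fun b => by
      have h1 : p.app U ≫ s.appLE (p ⁻¹ᵁ U) U es = 𝟙 _ := by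
        rw [Scheme.Hom.app_eq_appLE, Scheme.Hom.appLE_comp_appLE, appLE_congr_hom hs, id_appLE]
      exact congrArg (fun f => f.hom b) h1)
  have eι : ∀ g : G, U = Sigma.ι (fun _ : G => Y) g ⁻¹ᵁ (Ψ ⁻¹ᵁ (p ⁻¹ᵁ U)) := by
    intro g
    rw [← Scheme.Hom.comp_preimage, hιΨ, ← Scheme.Hom.comp_preimage, hτp]
    rfl
  let θ : Γ(∐ fun _ : G => Y, Ψ ⁻¹ᵁ (p ⁻¹ᵁ U)) → (G → Γ(Y, U)) := fun w g =>
    ((Sigma.ι (fun _ : G => Y) g⁻¹).appLE (Ψ ⁻¹ᵁ (p ⁻¹ᵁ U)) U (eι g⁻¹).le).hom w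
  have hθinj : Function.Injective θ := by
    intro w w' hww'
    refine sigma_section_ext' (fun _ : G => Y) (Ψ ⁻¹ᵁ (p ⁻¹ᵁ U)) (fun _ => U) eι w w' fun g => ?_
    have := congrFun hww' g⁻¹
    simp only [θ, inv_inv] at this
    exact this
  have hθΨ : ∀ a, θ ((Ψ.app (p ⁻¹ᵁ U)).hom a) =
      fun g : G => (s.appLE (p ⁻¹ᵁ U) U es).hom (g • a) := by
    intro a
    funext g
    have h1 : Ψ.app (p ⁻¹ᵁ U) ≫
        (Sigma.ι (fun _ : G => Y) g⁻¹).appLE (Ψ ⁻¹ᵁ (p ⁻¹ᵁ U)) U (eι g⁻¹).le =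
        (ρ g⁻¹).hom.appLE (p ⁻¹ᵁ U) (p ⁻¹ᵁ U) (preimage_le_of_inv ρ p hp.inv g⁻¹ U) ≫
          s.appLE (p ⁻¹ᵁ U) U es := by
      rw [Scheme.Hom.app_eq_appLE, Scheme.Hom.appLE_comp_appLE, Scheme.Hom.appLE_comp_appLE,
        appLE_congr_hom (hιΨ g⁻¹)]
    exact congrArg (fun f => f.hom a) h1
  constructor
  · intro a a' haa'
    apply key.1
    have := congrArg θ haa'
    rw [hθΨ, hθΨ] at this
    exact this
  · intro w
    obtain ⟨a, ha⟩ := key.2 (θ w)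
    refine ⟨a, hθinj ?_⟩
    rw [hθΨ]
    exact ha

end Groth.Agent.S2919
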