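import Groth.Statements.S2929
import Groth.Agent.S11614
import Groth.Agent.Lib.Helper29FinExtF
import Groth.Agent.Lib.Helper29FinExtG
import Groth.Agent.Lib.Helper29FinExtH

set_option autoImplicit false
set_option linter.style.haveILetI false
universe u
open LocCoh

namespace Groth.Agent.S2929

/-- Let A be a Noetherian ring which is a quotient of a regular ring, I an ideal, M a finite A-module
and i ≥ 0. For a prime p write c(p) for the codimension of V(p) ∩ V(I) in V(p). Suppose that for
every prime p not containing I with c(p) finite, the local cohomology H^{i−c(p)} of M_p with support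
in the maximal ideal of A_p vanishes (no condition when c(p) > i). Then the local cohomology module
H^i_I(M) is a finite A-module. -/
theorem result (R : Type u) [CommRing R] [IsRegularRing R] (A : Type u) [CommRing A] [IsNoetherianRing A] (π : R →+* A) (hπ : Function.Surjective π) (I : Ideal A) (M : Type u) [AddCommGroup M] [Module A M] [Module.Finite A M] (i : ℕ) (h : ∀ p : PrimeSpectrum A, ¬ I ≤ p.asIdeal → ∀ (c j : ℕ), SGA2.relCodim I p = c → j + c = i → Subsingleton (LocCoh.H (IsLocalRing.maximalIdeal (Localization.AtPrime p.asIdeal)) j (LocalizedModule p.asIdeal.primeCompl M))) : Module.Finite A (LocCoh.H I i M) := by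
  classical
  letI : Algebra R A := π.toAlgebra
  letI : Module R M := Module.compHom M π
  haveI : IsScalarTower R A M := IsScalarTower.of_algebraMap_smul fun _ _ => rfl
  have hπ' : Function.Surjective (algebraMap R A) := hπ
  haveI : Module.Finite R A := Module.Finite.of_surjective (Algebra.linearMap R A) hπ'
  haveI : Module.Finite R M := Module.Finite.trans A M
  -- finiteness over `R`
  have hR : Module.Finite R (Dual2.HDI R (I.comap (algebraMap R A)) (Dual.inD R M) (i : ℤ)) :=
    Groth.Agent.Lib.Helper29.FinExtG.finite_HDI_regular (I.comap (algebraMap R A)) M i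
      (fun q P hT hIP =>
        Groth.Agent.Lib.Helper29.FinExtF.height_ne_of_hyp hπ' I M i h q P hT hIP)
  have hR' : Module.Finite R (LocCoh.H (I.comap (algebraMap R A)) i M) :=
    Module.Finite.equiv (Groth.Agent.Lib.Helper29.FinExtH.compEquiv (I.comap (algebraMap R A)) i
      (ModuleCat.of R M))
  -- transfer to `A`
  obtain ⟨φ, hφ⟩ := Groth.Agent.S11614.result R A (I.comap (algebraMap R A)) M i
  have hmap : Ideal.map (algebraMap R A) (I.comap (algebraMap R A)) = I :=
    Ideal.map_comap_of_surjective _ hπ' I
  have key : ∀ (J : Ideal A) (_ : J = I)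
      (φ : LocCoh.H J i M ≃+ LocCoh.H (I.comap (algebraMap R A)) i M),
      (∀ (r : R) (x : LocCoh.H J i M), φ (algebraMap R A r • x) = r • φ x) →
      Module.Finite A (LocCoh.H I i M) := by
    intro J hJ φ hφ
    subst hJ
    letI : Module R (LocCoh.H J i M) := Module.compHom _ (algebraMap R A)
    haveI : IsScalarTower R A (LocCoh.H J i M) := IsScalarTower.of_algebraMap_smul fun _ _ => rfl
    let e : LocCoh.H J i M ≃ₗ[R] LocCoh.H (J.comap (algebraMap R A)) i M :=
      { φ with map_smul' := fun r x => hφ r x }
    haveI : Module.Finite R (LocCoh.H J i M) := Module.Finite.equiv e.symm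
    exact Module.Finite.of_restrictScalars_finite R A _
  exact key _ hmap φ hφ

end Groth.Agent.S2929
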