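import Groth.Statements.S2933
import Groth.Agent.Lib.Helper29Hart

set_option autoImplicit false
universe u
open LocCoh

namespace Groth.Agent.S2933

/-- Let A be a Noetherian ring with connected spectrum and d ≥ 1 an integer such that every prime p with
dim A_p ≥ d has depth A_p ≥ 2. Then for any two minimal primes p', p'' of A there is a finite
sequence of minimal primes starting at p' and ending at p'' such that any two consecutive members
are both contained in some prime of height at most d − 1 (Spec A is connected in codimension d − 1). -/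
theorem result (A : Type u) [CommRing A] [IsNoetherianRing A] [ConnectedSpace (PrimeSpectrum A)] (d : ℕ) (hd : 1 ≤ d) (h : ∀ p : PrimeSpectrum A, (d : ℕ∞) ≤ p.asIdeal.height → (2 : ℕ∞) ≤ LocCoh.depth (Localization.AtPrime p.asIdeal) (Localization.AtPrime p.asIdeal)) (p' p'' : PrimeSpectrum A) (hp' : p'.asIdeal ∈ minimalPrimes A) (hp'' : p''.asIdeal ∈ minimalPrimes A) : ∃ l : List (PrimeSpectrum A), l.head? = some p' ∧ l.getLast? = some p'' ∧ (∀ p ∈ l, p.asIdeal ∈ minimalPrimes A) ∧ List.IsChain (fun p q => ∃ r : PrimeSpectrum A, p ≤ r ∧ q ≤ r ∧ r.asIdeal.height ≤ (d - 1 : ℕ)) l := by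
  classical
  set Rel : PrimeSpectrum A → PrimeSpectrum A → Prop :=
    fun p q => ∃ r : PrimeSpectrum A, p ≤ r ∧ q ≤ r ∧ r.asIdeal.height ≤ (d - 1 : ℕ) with hRel
  let Reach : PrimeSpectrum A → Prop := fun q => ∃ l : List (PrimeSpectrum A),
    l.head? = some p' ∧ l.getLast? = some q ∧ (∀ p ∈ l, p.asIdeal ∈ minimalPrimes A) ∧
      List.IsChain Rel l
  change Reach p''
  have hstep : ∀ q1 q2 : PrimeSpectrum A, Reach q1 → q2.asIdeal ∈ minimalPrimes A → Rel q1 q2 →
      Reach q2 := by
    rintro q1 q2 ⟨l, h1, h2, h3, h4⟩ hq2 hrel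
    refine ⟨l ++ [q2], ?_, ?_, ?_, ?_⟩
    · cases l with
      | nil => simp at h1
      | cons a l => simpa using h1
    · simp
    · intro p hp
      rw [List.mem_append, List.mem_singleton] at hp
      rcases hp with hp | rfl
      · exact h3 p hp
      · exact hq2
    · refine h4.append (List.isChain_singleton _) ?_
      intro x hx y hy
      rw [h2] at hx
      simp only [Option.mem_def, Option.some.injEq, List.head?_cons] at hx hy
      subst hx hy
      exact hrel
  by_contra hnot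
  have hfin : (minimalPrimes A).Finite := minimalPrimes.finite_of_isNoetherianRing A
  let S1 : Finset (Ideal A) :=
    hfin.toFinset.filter (fun q => ∃ hq : q.IsPrime, Reach ⟨q, hq⟩)
  let S2 : Finset (Ideal A) :=
    hfin.toFinset.filter (fun q => ¬ ∃ hq : q.IsPrime, Reach ⟨q, hq⟩)
  have hS1 : ∀ q, q ∈ S1 ↔ q ∈ minimalPrimes A ∧ ∃ hq : q.IsPrime, Reach ⟨q, hq⟩ := by
    intro q
    simp only [S1, Finset.mem_filter, Set.Finite.mem_toFinset]
  have hS2 : ∀ q, q ∈ S2 ↔ q ∈ minimalPrimes A ∧ ¬ ∃ hq : q.IsPrime, Reach ⟨q, hq⟩ := by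
    intro q
    simp only [S2, Finset.mem_filter, Set.Finite.mem_toFinset]
  have hS12 : ∀ q ∈ minimalPrimes A, q ∈ S1 ∨ q ∈ S2 := by
    intro q hq
    by_cases hr : ∃ hq : q.IsPrime, Reach ⟨q, hq⟩
    · exact Or.inl ((hS1 q).mpr ⟨hq, hr⟩)
    · exact Or.inr ((hS2 q).mpr ⟨hq, hr⟩)
  set I : Ideal A := S1.inf id with hI
  set J : Ideal A := S2.inf id with hJ
  have hp'S1 : p'.asIdeal ∈ S1 :=
    (hS1 _).mpr ⟨hp', p'.2, ⟨[p'], rfl, rfl, by simpa using hp', List.isChain_singleton _⟩⟩
  have hp''S2 : p''.asIdeal ∈ S2 := by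
    refine (hS2 _).mpr ⟨hp'', ?_⟩
    rintro ⟨hq, hr⟩
    exact hnot hr
  -- a point of `V(I) ∩ V(J)`
  have hconn := (isPreconnected_univ (α := PrimeSpectrum A))
  rw [isPreconnected_closed_iff] at hconn
  obtain ⟨x, -, hxI, hxJ⟩ := hconn (PrimeSpectrum.zeroLocus (I : Set A))
    (PrimeSpectrum.zeroLocus (J : Set A)) (PrimeSpectrum.isClosed_zeroLocus _)
    (PrimeSpectrum.isClosed_zeroLocus _) (by
      intro y _
      obtain ⟨q, hq, hqy⟩ := Ideal.exists_minimalPrimes_le (I := ⊥) (J := y.asIdeal) bot_le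
      rcases hS12 q hq with h1 | h2
      · left
        rw [PrimeSpectrum.mem_zeroLocus]
        exact (Finset.inf_le (f := id) h1).trans hqy
      · right
        rw [PrimeSpectrum.mem_zeroLocus]
        exact (Finset.inf_le (f := id) h2).trans hqy)
    ⟨p', Set.mem_univ _, by
      rw [PrimeSpectrum.mem_zeroLocus]; exact Finset.inf_le (f := id) hp'S1⟩
    ⟨p'', Set.mem_univ _, by
      rw [PrimeSpectrum.mem_zeroLocus]; exact Finset.inf_le (f := id) hp''S2⟩
  rw [PrimeSpectrum.mem_zeroLocus] at hxI hxJ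
  have hxIJ : I ⊔ J ≤ x.asIdeal := sup_le hxI hxJ
  obtain ⟨r, hr, hrx⟩ := Ideal.exists_minimalPrimes_le hxIJ
  haveI hrp : r.IsPrime := hr.1.1
  obtain ⟨q1, hq1, hq1r⟩ := (Ideal.IsPrime.inf_le' hrp).mp (le_sup_left.trans hr.1.2 : S1.inf id ≤ r)
  obtain ⟨q2, hq2, hq2r⟩ := (Ideal.IsPrime.inf_le' hrp).mp (le_sup_right.trans hr.1.2 : S2.inf id ≤ r)
  have hq1r : q1 ≤ r := hq1r
  have hq2r : q2 ≤ r := hq2r
  obtain ⟨hq1min, hq1p, hq1reach⟩ := (hS1 q1).mp hq1
  obtain ⟨hq2min, hq2n⟩ := (hS2 q2).mp hq2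
  haveI hq2p : q2.IsPrime := hq2min.1.1
  by_cases hht : r.height ≤ ((d - 1 : ℕ) : ℕ∞)
  · exact hq2n ⟨hq2p, hstep ⟨q1, hq1p⟩ ⟨q2, hq2p⟩ hq1reach hq2min ⟨⟨r, hrp⟩, hq1r, hq2r, hht⟩⟩
  · rw [not_le] at hht
    have hdle : (d : ℕ∞) ≤ r.height := by
      have h1 := Order.add_one_le_of_lt hht
      have h2 : ((d - 1 : ℕ) : ℕ∞) + 1 = (d : ℕ∞) := by
        have : d - 1 + 1 = d := Nat.sub_add_cancel hd
        exact_mod_cast this
      rwa [h2] at h1
    have hdepth := h ⟨r, hrp⟩ hdle
    have hcomap_le : ∀ 𝔔 : Ideal (Localization.AtPrime r), 𝔔.IsPrime →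
        𝔔.comap (algebraMap A (Localization.AtPrime r)) ≤ r := by
      intro 𝔔 h𝔔
      have := IsLocalRing.le_maximalIdeal h𝔔.ne_top
      have h2 := Ideal.comap_mono (f := algebraMap A (Localization.AtPrime r)) this
      exact h2.trans (le_of_eq (Localization.AtPrime.comap_maximalIdeal (I := r)))
    have hkey := Groth.Agent.Lib.Helper29.Hart.hartshorne (Localization.AtPrime r) hdepth
      (I.map (algebraMap A (Localization.AtPrime r))) (J.map (algebraMap A (Localization.AtPrime r)))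
      (by
        rw [nilradical_eq_sInf]
        refine le_sInf ?_
        intro 𝔮 h𝔮
        have h𝔮p : 𝔮.IsPrime := h𝔮
        obtain ⟨q0, hq0, hq0le⟩ := Ideal.exists_minimalPrimes_le (I := ⊥)
          (J := 𝔮.comap (algebraMap A (Localization.AtPrime r))) bot_le
        rcases hS12 q0 hq0 with h1 | h2
        · refine inf_le_left.trans (Ideal.map_le_iff_le_comap.mpr ?_)
          exact (Finset.inf_le (f := id) h1).trans hq0le
        · refine inf_le_right.trans (Ideal.map_le_iff_le_comap.mpr ?_)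
          exact (Finset.inf_le (f := id) h2).trans hq0le)
      (by
        intro 𝔔 h𝔔 hle
        have hQr := hcomap_le 𝔔 h𝔔
        have hIJQ : I ⊔ J ≤ 𝔔.comap (algebraMap A (Localization.AtPrime r)) := by
          rw [← Ideal.map_le_iff_le_comap, Ideal.map_sup]
          exact hle
        have hrQ := hr.2 ⟨Ideal.comap_isPrime _ _, hIJQ⟩ hQr
        have heq : 𝔔.comap (algebraMap A (Localization.AtPrime r)) = r := le_antisymm hQr hrQ
        have hmc : (𝔔.comap (algebraMap A (Localization.AtPrime r))).map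
            (algebraMap A (Localization.AtPrime r)) = 𝔔 :=
          IsLocalization.map_comap r.primeCompl (Localization.AtPrime r) 𝔔
        rw [← hmc, heq]
        exact Localization.AtPrime.map_eq_maximalIdeal)
    -- conclude
    have hfinal : ∀ (K : Ideal A) (q : Ideal A), q.IsPrime → q ≤ r →
        K.map (algebraMap A (Localization.AtPrime r)) ≤ nilradical (Localization.AtPrime r) →
        K ≤ q := by
      intro K q hq hqr hK
      have hdisj : Disjoint (r.primeCompl : Set A) (q : Set A) :=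
        Set.disjoint_left.mpr (fun y hy hyq => hy (hqr hyq))
      have hprime := IsLocalization.isPrime_of_isPrime_disjoint r.primeCompl
        (Localization.AtPrime r) q hq hdisj
      have hcm := IsLocalization.comap_map_of_isPrime_disjoint r.primeCompl
        (Localization.AtPrime r) hq hdisj
      rw [← hcm, ← Ideal.map_le_iff_le_comap]
      exact hK.trans (nilradical_le_prime _)
    rcases hkey with hI' | hJ'
    · have hIq2 : S1.inf id ≤ q2 := hfinal I q2 hq2p hq2r hI'
      obtain ⟨q, hq, hqq2⟩ := (Ideal.IsPrime.inf_le' hq2p).mp hIq2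
      obtain ⟨hqmin, hqp, hqreach⟩ := (hS1 q).mp hq
      have hqq2' : q ≤ q2 := hqq2
      have : q = q2 := le_antisymm hqq2' (hq2min.2 ⟨hqp, bot_le⟩ hqq2')
      subst this
      exact hq2n ⟨hqp, hqreach⟩
    · have hJq1 : S2.inf id ≤ q1 := hfinal J q1 hq1p hq1r hJ'
      obtain ⟨q, hq, hqq1⟩ := (Ideal.IsPrime.inf_le' hq1p).mp hJq1
      obtain ⟨hqmin, hqn⟩ := (hS2 q).mp hq
      have hqq1' : q ≤ q1 := hqq1
      haveI hqp : q.IsPrime := hqmin.1.1
      have : q = q1 := le_antisymm hqq1' (hq1min.2 ⟨hqp, bot_le⟩ hqq1')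
      subst this
      exact hqn ⟨hq1p, hq1reach⟩

end Groth.Agent.S2933
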