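import Groth.Statements.S2936
import Groth.Agent.S0817
import Groth.Agent.S0317
import Groth.Agent.S11681
import Groth.Agent.S11625
import Groth.Agent.S2935
import Groth.Agent.S0342
import Groth.Agent.S7692
import Groth.Agent.Lib.Helper29GorAnn
import Groth.Agent.Lib.Helper19RegQuot
import Groth.Agent.Lib.Helper8LCAdd
import Groth.Agent.Lib.Helper8LocDual
import Groth.Agent.Lib.Helper5IntegralMod
import Groth.Agent.Lib.Helper28Hartshorne

set_option autoImplicit false
universe u
open LocCoh

namespace Groth.Agent.S2936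

section aux

open IsLocalRing CategoryTheory
open Groth.Agent.Lib.Helper8.LC Groth.Agent.Lib.Helper8.ExtLES

section Dim

variable {A : Type u} [CommRing A]

theorem not_le_natCast {x : WithBot ℕ∞} {i : ℕ} (h : ¬ x ≤ (i : WithBot ℕ∞)) :
    ((i + 1 : ℕ) : WithBot ℕ∞) ≤ x := by
  induction x using WithBot.recBotCoe with
  | bot => exact absurd bot_le h
  | coe y =>
    have h' : ¬ y ≤ (i : ℕ∞) := fun hy => h (by exact_mod_cast hy)
    have h2 : ((i + 1 : ℕ) : ℕ∞) ≤ y := by
      rw [not_le] at h'
      have := Order.add_one_le_of_lt h'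
      exact_mod_cast this
    exact_mod_cast h2

/-- the dimension of the support is bounded by the dimensions of the `A ⧸ q`, `q` in the support. -/
theorem supportDim_le_of_forall {D : Type u} [AddCommGroup D] [Module A D] (i : ℕ)
    (h : ∀ q ∈ Module.support A D, ringKrullDim (A ⧸ q.asIdeal) ≤ (i : WithBot ℕ∞)) :
    Module.supportDim A D ≤ (i : WithBot ℕ∞) := by
  by_contra hnot
  obtain ⟨q, hq, hco⟩ := Groth.Agent.Lib.Helper5.IntegralMod.exists_coheight_ge D (i + 1)
    (not_le_natCast hnot)
  have h1 := h q hq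
  rw [Groth.Agent.Lib.Helper28.ringKrullDim_quotient_asIdeal_eq_coheight] at h1
  have h2 : ((i + 1 : ℕ) : ℕ∞) ≤ (i : ℕ∞) := hco.trans (by exact_mod_cast h1)
  have h3 : i + 1 ≤ i := by exact_mod_cast h2
  omega

/-- dimension of `A ⧸ q` for `q` in the support is bounded by the dimension of the support. -/
theorem ringKrullDim_quotient_le_supportDim {D : Type u} [AddCommGroup D] [Module A D]
    (q : PrimeSpectrum A) (hq : q ∈ Module.support A D) :
    ringKrullDim (A ⧸ q.asIdeal) ≤ Module.supportDim A D := by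
  rw [Groth.Agent.Lib.Helper28.ringKrullDim_quotient_asIdeal_eq_coheight]
  exact Groth.Agent.Lib.Helper5.IntegralMod.coheight_le_supportDim D q hq

/-- modules killed by the annihilator of a finite module have smaller support. -/
theorem support_subset_of_annihilator_le {M N : Type u} [AddCommGroup M] [Module A M]
    [Module.Finite A M] [AddCommGroup N] [Module A N]
    (h : Module.annihilator A M ≤ Module.annihilator A N) :
    Module.support A N ⊆ Module.support A M := by
  intro q hq
  rw [Module.mem_support_iff_of_finite]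
  exact h.trans (Module.annihilator_le_of_mem_support hq)

theorem supportDim_le_of_annihilator_le {M N : Type u} [AddCommGroup M] [Module A M]
    [Module.Finite A M] [AddCommGroup N] [Module A N]
    (h : Module.annihilator A M ≤ Module.annihilator A N) :
    Module.supportDim A N ≤ Module.supportDim A M :=
  Order.krullDim_le_of_strictMono (Set.inclusion (support_subset_of_annihilator_le h))
    (by intro a b hab; exact hab)

/-- two comparable primes with quotients of the same finite dimension are equal. -/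
theorem eq_of_le_of_dim_eq {p q : Ideal A} [p.IsPrime] [q.IsPrime] (hpq : p ≤ q) (n : ℕ)
    (hp : ringKrullDim (A ⧸ p) ≤ (n : WithBot ℕ∞)) (hq : (n : WithBot ℕ∞) ≤ ringKrullDim (A ⧸ q)) :
    p = q := by
  rcases eq_or_lt_of_le hpq with h | h
  · exact h
  · exfalso
    have h1 := Groth.Agent.S7692.dim_quot_succ_le h
    have h2 : ((n : WithBot ℕ∞)) + 1 ≤ (n : WithBot ℕ∞) :=
      (add_le_add hq le_rfl).trans (h1.trans hp)
    have h3 : ((n + 1 : ℕ) : WithBot ℕ∞) ≤ (n : WithBot ℕ∞) := by exact_mod_cast h2
    have h4 : n + 1 ≤ n := by exact_mod_cast h3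
    omega

end Dim

section KL1

open Groth.Agent.Lib.Helper8.FinLen CategoryTheory.Abelian

theorem exists_nat_ringKrullDim_eq (R : Type u) [CommRing R] [IsLocalRing R] [IsNoetherianRing R] :
    ∃ n : ℕ, ringKrullDim R = n := by
  have h1 := ringKrullDim_ne_top (R := R)
  have h2 := ringKrullDim_ne_bot (R := R)
  obtain ⟨a, ha⟩ := WithBot.ne_bot_iff_exists.mp h2
  have h3 : a ≠ ⊤ := fun h => h1 (by rw [← ha, h]; rfl)
  obtain ⟨n, rfl⟩ := ENat.ne_top_iff_exists.mp h3
  exact ⟨n, ha.symm⟩

variable {R A : Type u} [CommRing R] [hR : LocCoh.IsGorensteinLocalRing R] [CommRing A]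
  [IsLocalRing A] [IsNoetherianRing A] [Algebra R A]
  (hπ : Function.Surjective (algebraMap R A))
  (M : Type u) [AddCommGroup M] [Module A M] [Module R M] [IsScalarTower R A M]
  [Module.Finite A M] (r : ℕ) (hr : ringKrullDim R = r)

include hπ hr in
/-- every prime containing the annihilator of `H^i_m(M)` has `dim A ⧸ q ≤ i`. -/
theorem dim_le_of_annihilator_le (i : ℕ) (q : Ideal A) [q.IsPrime]
    (hq : Module.annihilator A (LocCoh.H (maximalIdeal A) i M) ≤ q) :
    ringKrullDim (A ⧸ q) ≤ (i : WithBot ℕ∞) := by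
  have hRA : Module.Finite R A := Module.Finite.of_surjective (Algebra.linearMap R A) hπ
  have hRM : Module.Finite R M := Module.Finite.trans A M
  haveI : Nontrivial (A ⧸ q) := Ideal.Quotient.nontrivial_iff.mpr (Ideal.IsPrime.ne_top inferInstance)
  obtain ⟨e, he⟩ : ∃ e : ℕ, ringKrullDim (A ⧸ q) = e := by
    have h1 : ringKrullDim (A ⧸ q) ≠ ⊤ :=
      ne_top_of_le_ne_top ringKrullDim_ne_top (ringKrullDim_quotient_le q)
    have h2 := ringKrullDim_ne_bot (R := A ⧸ q)
    obtain ⟨a, ha⟩ := WithBot.ne_bot_iff_exists.mp h2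
    have h3 : a ≠ ⊤ := fun h => h1 (by rw [← ha, h]; rfl)
    obtain ⟨n, rfl⟩ := ENat.ne_top_iff_exists.mp h3
    exact ⟨n, ha.symm⟩
  rw [he]
  by_contra hnot
  have hie : i < e := by
    by_contra h
    exact hnot (by exact_mod_cast (not_lt.mp h))
  set Q : Ideal R := q.comap (algebraMap R A) with hQ
  haveI : Q.IsPrime := Ideal.comap_isPrime _ _
  obtain ⟨d, hd, hsum⟩ := Groth.Agent.Lib.Helper29.GorAnn.height_add_dim hπ r hr q Q rfl e he
  have htors : Tors M Q (r - i) :=
    Groth.Agent.Lib.Helper29.GorAnn.tors_of_height_lt M Q d hd (r - i) (by omega)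
  haveI hX0 : Module.Finite R (Ext.{u} (ModuleCat.of R M) (ModuleCat.of R R) (r - i)) :=
    ModuleCat.finite_ext R (ModuleCat.of R M) (ModuleCat.of R R) (r - i)
  have hnotsupp : (⟨Q, inferInstance⟩ : PrimeSpectrum R) ∉
      Module.support R (Ext.{u} (ModuleCat.of R M) (ModuleCat.of R R) (r - i)) := by
    rw [Module.notMem_support_iff']
    intro x
    obtain ⟨s, hs⟩ := htors x
    exact ⟨s.1, s.2, hs⟩
  rw [Module.mem_support_iff_of_finite] at hnotsupp
  obtain ⟨s, hsAnn, hsQ⟩ := Set.not_subset.mp hnotsupp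
  -- the ideal generated by the image of `s`
  have hJ : Ideal.span {algebraMap R A s} ≤
      (Module.annihilator A (LocCoh.H (maximalIdeal A) i M)).radical := by
    rw [Groth.Agent.Lib.Helper29.GorAnn.global_iff hπ M r hr]
    right
    intro Q' hQ'
    by_cases hk : RingHom.ker (algebraMap R A) ≤ Q'.asIdeal
    · have hsQ' : s ∉ Q'.asIdeal := by
        intro hs
        apply hQ'
        intro c hc
        rw [Ideal.mem_comap, Ideal.mem_span_singleton'] at hc
        obtain ⟨a, ha⟩ := hc
        obtain ⟨a', rfl⟩ := hπ a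
        have hker : c - a' * s ∈ RingHom.ker (algebraMap R A) := by
          rw [RingHom.mem_ker, map_sub, map_mul, ha, sub_self]
        have h1 := hk hker
        have h2 : a' * s ∈ Q'.asIdeal := Ideal.mul_mem_left _ _ hs
        have := Ideal.add_mem _ h1 h2
        rwa [sub_add_cancel] at this
      intro x
      exact ⟨⟨s, hsQ'⟩, Module.mem_annihilator.mp hsAnn x⟩
    · exact tors_of_not_ker_le M Q'.asIdeal hk (r - i)
  have h1 : algebraMap R A s ∈ q := by
    have h2 : algebraMap R A s ∈ (Module.annihilator A (LocCoh.H (maximalIdeal A) i M)).radical :=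
      hJ (Ideal.subset_span rfl)
    have h3 := Ideal.radical_mono hq h2
    rwa [Ideal.IsPrime.radical inferInstance] at h3
  exact hsQ h1

end KL1

section Complete

variable (A : Type u) [CommRing A] [IsLocalRing A] [IsNoetherianRing A]
  [IsAdicComplete (maximalIdeal A) A]
  (M : Type u) [AddCommGroup M] [Module A M] [Module.Finite A M]

theorem dim_le_of_annihilator_le_complete (i : ℕ) (q : Ideal A) [q.IsPrime]
    (hq : Module.annihilator A (LocCoh.H (maximalIdeal A) i M) ≤ q) :
    ringKrullDim (A ⧸ q) ≤ (i : WithBot ℕ∞) := by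
  obtain ⟨P, _, hPreg, g, hg, -⟩ :=
    Groth.Agent.Lib.Helper19.exists_minimal_regular_surj_of_complete A (IsNoetherian.noetherian _)
  haveI : LocCoh.IsGorensteinLocalRing P := Groth.Agent.S0342.result P
  letI : Algebra P A := g.toAlgebra
  letI : Module P M := Module.compHom M g
  haveI : IsScalarTower P A M := ⟨fun c a m => by
    change (g c * a) • m = g c • (a • m)
    rw [mul_smul]⟩
  obtain ⟨r, hr⟩ := exists_nat_ringKrullDim_eq P
  exact dim_le_of_annihilator_le (R := P) hg M r hr i q hq

variable (E : Type u) [AddCommGroup E] [Module A E] (f : ResidueField A →ₗ[A] E)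
  (hf : InjHull.IsInjectiveHull f)

include hf in
theorem finite_dual (i : ℕ) :
    Module.Finite A (LocCoh.H (maximalIdeal A) i M →ₗ[A] E) := by
  haveI := Groth.Agent.S0817.result A M i
  exact (Groth.Agent.S0317.result A E f hf (LocCoh.H (maximalIdeal A) i M)).1

include hf in
omit [IsAdicComplete (maximalIdeal A) A] [Module.Finite A M] in
theorem annihilator_dual (i : ℕ) :
    Module.annihilator A (LocCoh.H (maximalIdeal A) i M →ₗ[A] E) =
      Module.annihilator A (LocCoh.H (maximalIdeal A) i M) :=
  (((Groth.Agent.S11681.result A E f hf).1 (LocCoh.H (maximalIdeal A) i M)).2).symm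

include hf in
theorem dim_le_of_mem_support_dual (i : ℕ) (q : PrimeSpectrum A)
    (hq : q ∈ Module.support A (LocCoh.H (maximalIdeal A) i M →ₗ[A] E)) :
    ringKrullDim (A ⧸ q.asIdeal) ≤ (i : WithBot ℕ∞) := by
  have h1 := Module.annihilator_le_of_mem_support hq
  rw [annihilator_dual A M E f hf] at h1
  exact dim_le_of_annihilator_le_complete A M i q.asIdeal h1

include hf in
theorem supportDim_dual_le (i : ℕ) :
    Module.supportDim A (LocCoh.H (maximalIdeal A) i M →ₗ[A] E) ≤ (i : WithBot ℕ∞) :=
  supportDim_le_of_forall i fun q hq => dim_le_of_mem_support_dual A M E f hf i q hq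

end Complete

section RightExact

open Groth.Agent.Lib.Helper8.LocDual

variable {R : Type u} [CommRing R] [IsNoetherianRing R] (I : Ideal R) (n : ℕ)
  (M : Type u) [AddCommGroup M] [Module R M]
  (hvan : ∀ (N : Type u) [AddCommGroup N] [Module R N],
    Module.annihilator R M ≤ Module.annihilator R N → Subsingleton (LocCoh.H I (n + 1) N))

omit [IsNoetherianRing R] in
theorem annihilator_le_submodule (L : Submodule R M) :
    Module.annihilator R M ≤ Module.annihilator R L := by
  intro c hc
  rw [Module.mem_annihilator] at hc ⊢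
  intro m
  exact Subtype.ext (hc m.1)

omit [IsNoetherianRing R] in
theorem annihilator_le_pi (k : ℕ) :
    Module.annihilator R M ≤ Module.annihilator R (Fin k → M) := by
  intro c hc
  rw [Module.mem_annihilator] at hc ⊢
  intro v
  funext j
  exact hc (v j)

include hvan in
theorem H_map_mkQ_surjective (L : Submodule R M) :
    Function.Surjective ((localCohomology I n).map (ModuleCat.ofHom L.mkQ)) := by
  intro z
  have hex : Function.Exact L.subtype L.mkQ := LinearMap.exact_subtype_mkQ L
  have hS := Sfg_shortExact L.subtype L.mkQ L.injective_subtype L.mkQ_surjective hex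
  have hsub : Subsingleton (LocCoh.H I (n + 1) L) := hvan L (annihilator_le_submodule M L)
  obtain ⟨y, hy⟩ := H_exact₃ I n (Sfg L.subtype L.mkQ hex) hS z (hsub.elim _ _)
  exact ⟨y, hy⟩

include hvan in
/-- surjections from a module killed by `Ann M` induce surjections on `H^n`. -/
theorem H_map_surjective_of_surjective {N N' : Type u} [AddCommGroup N] [Module R N]
    [AddCommGroup N'] [Module R N'] (hN : Module.annihilator R M ≤ Module.annihilator R N)
    (g : N →ₗ[R] N') (hg : Function.Surjective g) :
    Function.Surjective ((localCohomology I n).map (ModuleCat.ofHom g)) := by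
  intro z
  have hex : Function.Exact (LinearMap.ker g).subtype g := LinearMap.exact_subtype_ker_map g
  have hS := Sfg_shortExact (LinearMap.ker g).subtype g (LinearMap.ker g).injective_subtype hg hex
  have hsub : Subsingleton (LocCoh.H I (n + 1) (LinearMap.ker g)) :=
    hvan _ (hN.trans (by
      intro c hc
      rw [Module.mem_annihilator] at hc ⊢
      intro m
      exact Subtype.ext (hc m.1)))
  obtain ⟨y, hy⟩ := H_exact₃ I n (Sfg (LinearMap.ker g).subtype g hex) hS z (hsub.elim _ _)
  exact ⟨y, hy⟩

/-- the map `(m_j) ↦ ∑ a_j m_j`. -/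
noncomputable def sig {k : ℕ} (a : Fin k → R) : (Fin k → M) →ₗ[R] M :=
  ∑ j, a j • LinearMap.proj j

omit [IsNoetherianRing R] in
theorem sig_apply {k : ℕ} (a : Fin k → R) (v : Fin k → M) : sig M a v = ∑ j, a j • v j := by
  simp [sig]

omit [IsNoetherianRing R] in
theorem range_sig {k : ℕ} (a : Fin k → R) (p : Ideal R) (ha : Ideal.span (Set.range a) = p) :
    LinearMap.range (sig M a) = p • (⊤ : Submodule R M) := by
  apply le_antisymm
  · rintro _ ⟨v, rfl⟩
    rw [sig_apply]
    refine Submodule.sum_mem _ fun j _ => ?_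
    refine Submodule.smul_mem_smul ?_ Submodule.mem_top
    rw [← ha]
    exact Ideal.subset_span ⟨j, rfl⟩
  · rw [Submodule.smul_le]
    intro c hc m _
    rw [← ha] at hc
    obtain ⟨cc, hcc⟩ := (Submodule.mem_span_range_iff_exists_fun R).mp hc
    refine ⟨fun j => cc j • m, ?_⟩
    rw [sig_apply, ← hcc, Finset.sum_smul]
    refine Finset.sum_congr rfl fun j _ => ?_
    rw [smul_eq_mul, mul_smul, smul_comm]

include hvan in
/-- the kernel of `H^n(M) → H^n(M/pM)` is contained in `p H^n(M)`. -/
theorem exists_sum_of_map_mkQ_eq_zero {k : ℕ} (a : Fin k → R) (p : Ideal R)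
    (ha : Ideal.span (Set.range a) = p) (x : (localCohomology I n).obj (ModuleCat.of R M))
    (hx : (localCohomology I n).map (ModuleCat.ofHom (p • (⊤ : Submodule R M)).mkQ) x = 0) :
    ∃ y : Fin k → (localCohomology I n).obj (ModuleCat.of R M), x = ∑ j, a j • y j := by
  set L : Submodule R M := p • (⊤ : Submodule R M) with hL
  have hex : Function.Exact L.subtype L.mkQ := LinearMap.exact_subtype_mkQ L
  have hS := Sfg_shortExact L.subtype L.mkQ L.injective_subtype L.mkQ_surjective hex
  obtain ⟨x', hx'⟩ := H_exact₂ I n (Sfg L.subtype L.mkQ hex) hS x hx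
  -- the surjection `M^k → pM`
  have hmem : ∀ v, sig M a v ∈ L := fun v => by
    rw [hL, ← range_sig M a p ha]; exact ⟨v, rfl⟩
  let σ' : (Fin k → M) →ₗ[R] L := (sig M a).codRestrict L hmem
  have hσ' : Function.Surjective σ' := by
    rintro ⟨y, hy⟩
    rw [hL, ← range_sig M a p ha] at hy
    obtain ⟨v, rfl⟩ := hy
    exact ⟨v, Subtype.ext rfl⟩
  obtain ⟨z, hz⟩ := H_map_surjective_of_surjective I n M hvan (annihilator_le_pi M k) σ' hσ' x'
  have hcomp : ModuleCat.ofHom σ' ≫ ModuleCat.ofHom L.subtype =
      ∑ j, a j • ModuleCat.ofHom (LinearMap.proj (R := R) (φ := fun _ : Fin k => M) j) := by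
    apply ModuleCat.hom_ext
    apply LinearMap.ext
    intro v
    rw [ModuleCat.hom_sum, LinearMap.sum_apply]
    change sig M a v = _
    rw [sig_apply]
    rfl
  refine ⟨fun j => (localCohomology I n).map
    (ModuleCat.ofHom (LinearMap.proj (R := R) (φ := fun _ : Fin k => M) j)) z, ?_⟩
  have h1 : x = (localCohomology I n).map (ModuleCat.ofHom σ' ≫ ModuleCat.ofHom L.subtype) z := by
    rw [H_map_comp, hz]
    exact hx'.symm
  rw [h1, hcomp, H_map_sum]
  refine Finset.sum_congr rfl fun j _ => ?_
  rw [H_map_smul]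

end RightExact

section Ass

variable (A : Type u) [CommRing A] [IsLocalRing A] [IsNoetherianRing A]
  (M : Type u) [AddCommGroup M] [Module A M] [Module.Finite A M]
  (n : ℕ) (hn : Module.supportDim A M = n)
  (E : Type u) [AddCommGroup E] [Module A E] (f : ResidueField A →ₗ[A] E)
  (hf : InjHull.IsInjectiveHull f)

include hn in
omit [IsLocalRing A] in
theorem hvan (I : Ideal A) (N : Type u) [AddCommGroup N] [Module A N]
    (hN : Module.annihilator A M ≤ Module.annihilator A N) :
    Subsingleton (LocCoh.H I (n + 1) N) := by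
  apply Groth.Agent.S11625.result
  calc Module.supportDim A N ≤ Module.supportDim A M := supportDim_le_of_annihilator_le hN
    _ = n := hn
    _ < ((n + 1 : ℕ) : WithBot ℕ∞) := by exact_mod_cast Nat.lt_succ_self n

omit [IsLocalRing A] [IsNoetherianRing A] [Module.Finite A M] in
theorem smul_quotient_eq_zero (p : Ideal A) (a : A) (ha : a ∈ p)
    (m : M ⧸ (p • (⊤ : Submodule A M))) : a • m = 0 := by
  obtain ⟨m, rfl⟩ := Submodule.Quotient.mk_surjective _ m
  rw [← Submodule.Quotient.mk_smul, Submodule.Quotient.mk_eq_zero]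
  exact Submodule.smul_mem_smul ha Submodule.mem_top

omit [IsLocalRing A] [IsNoetherianRing A] in
theorem annihilator_le_quotient (L : Submodule A M) :
    Module.annihilator A M ≤ Module.annihilator A (M ⧸ L) := by
  intro c hc
  rw [Module.mem_annihilator] at hc ⊢
  intro m
  obtain ⟨m, rfl⟩ := Submodule.Quotient.mk_surjective _ m
  rw [← Submodule.Quotient.mk_smul, hc, Submodule.Quotient.mk_zero]

include hn hf in
/-- nonzero functionals on `H^n_m(M)` killed by `p` exist iff `H^n_m(M/pM) ≠ 0`. -/
theorem exists_dual_iff (p : Ideal A) :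
    (∃ φ : LocCoh.H (maximalIdeal A) n M →ₗ[A] E, φ ≠ 0 ∧ ∀ a ∈ p, a • φ = 0) ↔
      Nontrivial (LocCoh.H (maximalIdeal A) n (M ⧸ (p • (⊤ : Submodule A M)))) := by
  constructor
  · rintro ⟨φ, hφ, hp⟩
    by_contra hnt
    rw [not_nontrivial_iff_subsingleton] at hnt
    apply hφ
    obtain ⟨k, a, ha⟩ :=
      Submodule.fg_iff_exists_fin_generating_family.mp (IsNoetherian.noetherian p)
    apply LinearMap.ext
    intro x
    obtain ⟨y, hy⟩ := exists_sum_of_map_mkQ_eq_zero (maximalIdeal A) n M
      (fun N _ _ hN => hvan A M n hn (maximalIdeal A) N hN) a p ha x (hnt.elim _ _)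
    rw [hy, map_sum, LinearMap.zero_apply]
    refine Finset.sum_eq_zero fun j _ => ?_
    have h1 := hp (a j) (by rw [← ha]; exact Ideal.subset_span ⟨j, rfl⟩)
    rw [map_smul, ← LinearMap.smul_apply, h1, LinearMap.zero_apply]
  · intro hnt
    obtain ⟨y, hy⟩ := exists_ne (0 : LocCoh.H (maximalIdeal A) n (M ⧸ (p • (⊤ : Submodule A M))))
    have hinj := ((Groth.Agent.S11681.result A E f hf).1
      (LocCoh.H (maximalIdeal A) n (M ⧸ (p • (⊤ : Submodule A M))))).1
    obtain ⟨ψ, hψ⟩ : ∃ ψ : LocCoh.H (maximalIdeal A) n (M ⧸ (p • (⊤ : Submodule A M))) →ₗ[A] E,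
        ψ y ≠ 0 := by
      by_contra hall
      push_neg at hall
      apply hy
      apply hinj
      rw [map_zero]
      apply LinearMap.ext
      intro ψ
      exact hall ψ
    obtain ⟨x, hx⟩ := H_map_mkQ_surjective (maximalIdeal A) n M
      (fun N _ _ hN => hvan A M n hn (maximalIdeal A) N hN) (p • (⊤ : Submodule A M)) y
    refine ⟨ψ ∘ₗ ((localCohomology (maximalIdeal A) n).map
      (ModuleCat.ofHom (p • (⊤ : Submodule A M)).mkQ)).hom, ?_, ?_⟩
    · intro h0
      apply hψ
      rw [← hx]
      exact LinearMap.congr_fun h0 x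
    · intro a ha
      apply LinearMap.ext
      intro x
      rw [LinearMap.smul_apply, LinearMap.zero_apply, LinearMap.comp_apply, ← map_smul]
      have h0 : a • (((localCohomology (maximalIdeal A) n).map
          (ModuleCat.ofHom (p • (⊤ : Submodule A M)).mkQ)).hom x) = 0 :=
        smul_H_eq_zero_of_smul_eq_zero (maximalIdeal A) n a (M ⧸ (p • (⊤ : Submodule A M)))
          (smul_quotient_eq_zero A M p a ha) _
      rw [h0, map_zero]

end Ass

section Main

variable (A : Type u) [CommRing A] [IsLocalRing A] [IsNoetherianRing A]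
  [IsAdicComplete (maximalIdeal A) A]
  (M : Type u) [AddCommGroup M] [Module A M] [Module.Finite A M]
  (n : ℕ) (hn : Module.supportDim A M = n)
  (E : Type u) [AddCommGroup E] [Module A E] (f : ResidueField A →ₗ[A] E)
  (hf : InjHull.IsInjectiveHull f)

include hn in
omit [IsLocalRing A] [IsNoetherianRing A] [IsAdicComplete (maximalIdeal A) A] in
theorem dim_le_of_mem_support (q : PrimeSpectrum A) (hq : q ∈ Module.support A M) :
    ringKrullDim (A ⧸ q.asIdeal) ≤ (n : WithBot ℕ∞) := by
  rw [← hn]
  exact ringKrullDim_quotient_le_supportDim q hq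

include hn in
omit [IsLocalRing A] [IsAdicComplete (maximalIdeal A) A] in
/-- a prime of the support with `dim A ⧸ p = n` is an associated prime. -/
theorem mem_associatedPrimes_of_dim (p : PrimeSpectrum A) (hp : p ∈ Module.support A M)
    (hdim : (n : WithBot ℕ∞) ≤ ringKrullDim (A ⧸ p.asIdeal)) :
    p.asIdeal ∈ associatedPrimes A M := by
  apply Module.associatedPrimes.minimalPrimes_annihilator_subset_associatedPrimes A M
  refine ⟨⟨p.2, (Module.mem_support_iff_of_finite.mp hp)⟩, ?_⟩
  rintro p' ⟨hp'prime, hp'ann⟩ hp'le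
  have hp'supp : (⟨p', hp'prime⟩ : PrimeSpectrum A) ∈ Module.support A M :=
    Module.mem_support_iff_of_finite.mpr hp'ann
  have h1 := dim_le_of_mem_support A M n hn ⟨p', hp'prime⟩ hp'supp
  haveI := p.2
  have := eq_of_le_of_dim_eq hp'le n h1 hdim
  exact this.ge

include hn hf in
/-- `Ass Hom(H^n_m(M), E) ⊆ {p ∈ Ass M | dim A ⧸ p = n}`. -/
theorem mem_of_mem_associatedPrimes_dual (p : Ideal A)
    (hp : p ∈ associatedPrimes A (LocCoh.H (maximalIdeal A) n M →ₗ[A] E)) :
    p ∈ associatedPrimes A M ∧ ringKrullDim (A ⧸ p) = n := by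
  have hpa : IsAssociatedPrime p (LocCoh.H (maximalIdeal A) n M →ₗ[A] E) := hp
  obtain ⟨hprime, g, hg⟩ := (isAssociatedPrime_iff_exists_injective_linearMap p _).mp hpa
  haveI := hprime
  have hntq : Nontrivial (A ⧸ p) := Ideal.Quotient.nontrivial_iff.mpr hprime.ne_top
  -- a nonzero functional killed by `p`
  have hφ : g 1 ≠ 0 := by
    intro h0
    have h1 : g 1 = g 0 := by rw [h0, map_zero]
    exact one_ne_zero (hg h1)
  have hkill : ∀ a ∈ p, a • g 1 = 0 := by
    intro a ha
    rw [← map_smul]
    have : a • (1 : A ⧸ p) = 0 := by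
      rw [Algebra.smul_def, mul_one]
      exact Ideal.Quotient.eq_zero_iff_mem.mpr ha
    rw [this, map_zero]
  have hnt := (exists_dual_iff A M n hn E f hf p).mp ⟨g 1, hφ, hkill⟩
  -- `dim A ⧸ p ≤ n`
  have hann : Module.annihilator A (LocCoh.H (maximalIdeal A) n M) ≤ p := by
    rw [← annihilator_dual A M E f hf n, ← Submodule.annihilator_top]
    exact hpa.annihilator_le
  have hle := dim_le_of_annihilator_le_complete A M n p hann
  -- the support of `M/pM` has dimension `n`
  have hsd : Module.supportDim A (M ⧸ (p • (⊤ : Submodule A M))) = n := by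
    by_contra hne
    have hlt : Module.supportDim A (M ⧸ (p • (⊤ : Submodule A M))) < (n : WithBot ℕ∞) := by
      refine lt_of_le_of_ne ?_ hne
      rw [← hn]
      exact supportDim_le_of_annihilator_le (annihilator_le_quotient A M _)
    have := Groth.Agent.S11625.result A (maximalIdeal A) (M ⧸ (p • (⊤ : Submodule A M))) n hlt
    exact not_subsingleton _ this
  obtain ⟨q, hq, hco⟩ := Groth.Agent.Lib.Helper5.IntegralMod.exists_coheight_ge
    (M ⧸ (p • (⊤ : Submodule A M))) n hsd.ge
  rw [Module.support_quotient] at hq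
  obtain ⟨hqM, hqp⟩ := hq
  have hpq : p ≤ q.asIdeal := (PrimeSpectrum.mem_zeroLocus _ _).mp hqp
  have hqdim : (n : WithBot ℕ∞) ≤ ringKrullDim (A ⧸ q.asIdeal) := by
    rw [Groth.Agent.Lib.Helper28.ringKrullDim_quotient_asIdeal_eq_coheight]
    exact_mod_cast hco
  haveI := q.2
  have hpeq : p = q.asIdeal := eq_of_le_of_dim_eq hpq n hle hqdim
  have hq' : q = ⟨p, hprime⟩ := PrimeSpectrum.ext hpeq.symm
  rw [hq'] at hqM hqdim
  exact ⟨mem_associatedPrimes_of_dim A M n hn ⟨p, hprime⟩ hqM hqdim, le_antisymm hle hqdim⟩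

include hn hf in
/-- `Ass Hom(H^n_m(M), E) = {p ∈ Ass M | dim A ⧸ p = n}`. -/
theorem associatedPrimes_dual :
    associatedPrimes A (LocCoh.H (maximalIdeal A) n M →ₗ[A] E) =
      {p | p ∈ associatedPrimes A M ∧ ringKrullDim (A ⧸ p) = n} := by
  ext p
  constructor
  · exact mem_of_mem_associatedPrimes_dual A M n hn E f hf p
  · rintro ⟨hpM, hdim⟩
    have hpa : IsAssociatedPrime p M := hpM
    have hprime : p.IsPrime := hpa.isPrime
    have hpsupp : (⟨p, hprime⟩ : PrimeSpectrum A) ∈ Module.support A M := by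
      rw [Module.mem_support_iff_of_finite, ← Submodule.annihilator_top]
      exact hpa.annihilator_le
    have hpsupp' : (⟨p, hprime⟩ : PrimeSpectrum A) ∈
        Module.support A (M ⧸ (p • (⊤ : Submodule A M))) := by
      rw [Module.support_quotient]
      exact ⟨hpsupp, (PrimeSpectrum.mem_zeroLocus _ _).mpr le_rfl⟩
    haveI : Nontrivial (M ⧸ (p • (⊤ : Submodule A M))) :=
      Module.nonempty_support_iff.mp ⟨_, hpsupp'⟩
    have hsd : Module.supportDim A (M ⧸ (p • (⊤ : Submodule A M))) = n := by
      apply le_antisymm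
      · rw [← hn]
        exact supportDim_le_of_annihilator_le (annihilator_le_quotient A M _)
      · have := ringKrullDim_quotient_le_supportDim (⟨p, hprime⟩ : PrimeSpectrum A) hpsupp'
        rwa [hdim] at this
    have hnt := Groth.Agent.S2935.result A (M ⧸ (p • (⊤ : Submodule A M))) n hsd
    obtain ⟨φ, hφ, hkill⟩ := (exists_dual_iff A M n hn E f hf p).mpr hnt
    obtain ⟨q, hq, hle⟩ := exists_le_isAssociatedPrime_of_isNoetherianRing A φ hφ
    have hpq : p ≤ q := by
      intro a ha
      apply hle
      rw [Submodule.mem_colon_singleton, Submodule.mem_bot]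
      exact hkill a ha
    obtain ⟨hqM, hqdim⟩ := mem_of_mem_associatedPrimes_dual A M n hn E f hf q hq
    haveI := hq.isPrime
    have : p = q := eq_of_le_of_dim_eq hpq n hdim.le hqdim.ge
    rw [this]
    exact hq

end Main

end aux

/-- (iii), for a complete local ring. Let A be a complete Noetherian local ring with maximal ideal m, κ
→ E an injective hull of the residue field, and M a nonzero finite A-module whose support has
dimension n. Then for every i the A-module Hom_A(H^i_m(M), E) is finite with support of dimension at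
most i; for i = n its support has dimension exactly n and its associated primes are exactly the
associated primes p of M with dim A/p = n. -/
theorem result (A : Type u) [CommRing A] [IsLocalRing A] [IsNoetherianRing A] [IsAdicComplete (IsLocalRing.maximalIdeal A) A] (E : Type u) [AddCommGroup E] [Module A E] (f : IsLocalRing.ResidueField A →ₗ[A] E) (hf : InjHull.IsInjectiveHull f) (M : Type u) [AddCommGroup M] [Module A M] [Module.Finite A M] [Nontrivial M] (n : ℕ) (hn : Module.supportDim A M = n) : (∀ i : ℕ, Module.Finite A (LocCoh.H (IsLocalRing.maximalIdeal A) i M →ₗ[A] E) ∧ Module.supportDim A (LocCoh.H (IsLocalRing.maximalIdeal A) i M →ₗ[A] E) ≤ (i : WithBot ℕ∞)) ∧ Module.supportDim A (LocCoh.H (IsLocalRing.maximalIdeal A) n M →ₗ[A] E) = n ∧ associatedPrimes A (LocCoh.H (IsLocalRing.maximalIdeal A) n M →ₗ[A] E) = {p | p ∈ associatedPrimes A M ∧ ringKrullDim (A ⧸ p) = n} := by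
  have hfin := fun i => finite_dual A M E f hf i
  refine ⟨fun i => ⟨hfin i, supportDim_dual_le A M E f hf i⟩, ?_,
    associatedPrimes_dual A M n hn E f hf⟩
  apply le_antisymm (supportDim_dual_le A M E f hf n)
  obtain ⟨q, hq, hco⟩ := Groth.Agent.Lib.Helper5.IntegralMod.exists_coheight_ge M n hn.ge
  have hann := Module.mem_support_iff_of_finite.mp hq
  haveI := q.2
  obtain ⟨p, hpmin, hpq⟩ := Ideal.exists_minimalPrimes_le hann
  have hpprime : p.IsPrime := hpmin.1.1
  have hpsupp : (⟨p, hpprime⟩ : PrimeSpectrum A) ∈ Module.support A M :=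
    Module.mem_support_iff_of_finite.mpr hpmin.1.2
  have hdim : (n : WithBot ℕ∞) ≤ ringKrullDim (A ⧸ p) := by
    have h1 := Groth.Agent.Lib.Helper28.ringKrullDim_quotient_asIdeal_eq_coheight
      (⟨p, hpprime⟩ : PrimeSpectrum A)
    rw [h1]
    have h2 : Order.coheight q ≤ Order.coheight (⟨p, hpprime⟩ : PrimeSpectrum A) :=
      Order.coheight_anti (show (⟨p, hpprime⟩ : PrimeSpectrum A) ≤ q from hpq)
    exact_mod_cast hco.trans h2
  have hpAss := mem_associatedPrimes_of_dim A M n hn ⟨p, hpprime⟩ hpsupp hdim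
  have hdimeq : ringKrullDim (A ⧸ p) = n :=
    le_antisymm (dim_le_of_mem_support A M n hn ⟨p, hpprime⟩ hpsupp) hdim
  have hpD : IsAssociatedPrime p (LocCoh.H (IsLocalRing.maximalIdeal A) n M →ₗ[A] E) := by
    have : p ∈ associatedPrimes A (LocCoh.H (IsLocalRing.maximalIdeal A) n M →ₗ[A] E) := by
      rw [associatedPrimes_dual A M n hn E f hf]
      exact ⟨hpAss, hdimeq⟩
    exact this
  haveI := hfin n
  have hpDs : (⟨p, hpprime⟩ : PrimeSpectrum A) ∈
      Module.support A (LocCoh.H (IsLocalRing.maximalIdeal A) n M →ₗ[A] E) := by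
    rw [Module.mem_support_iff_of_finite, ← Submodule.annihilator_top]
    exact hpD.annihilator_le
  have := ringKrullDim_quotient_le_supportDim (⟨p, hpprime⟩ : PrimeSpectrum A) hpDs
  rwa [hdimeq] at this

end Groth.Agent.S2936
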