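import Groth.Statements.S2952
import Groth.Agent.Lib.Helper8Weyl
import Mathlib.LinearAlgebra.RootSystem.Base

set_option autoImplicit false
open RootPairing
open scoped Pointwise
universe u
open RootD

namespace Groth.Agent.S2952

/-- For a finite crystallographic reduced root pairing over a characteristic-zero domain with a base b:
(1) the Weyl group is generated by the reflections in the simple roots; (2) every root is the image
of a simple root under an element of the Weyl group (acting on the indexing type). (The published
statement also covers the non-reduced case.) -/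
theorem result {ι R M N : Type*} [CommRing R] [CharZero R] [IsDomain R] [AddCommGroup M] [Module R M]
    [AddCommGroup N] [Module R N] (P : RootPairing ι R M N) [Finite ι] [P.IsCrystallographic] [P.IsReduced]
    (b : P.Base) :
    Subgroup.closure ((fun i : ι => Equiv.reflection P i) '' (b.support : Set ι)) = P.weylGroup ∧
    ∀ i : ι, ∃ g : P.Aut, g ∈ P.weylGroup ∧ ∃ j ∈ b.support, g • j = i := by
  open Groth.Agent.Lib.Helper8 in
  have hconj : ∀ i : ι, ∃ g : P.Aut,
      g ∈ Subgroup.closure ((fun i : ι => RootPairing.Equiv.reflection P i) '' (b.support : Set ι)) ∧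
        ∃ j ∈ b.support, g • j = i := by
    intro i
    have hmem : ∀ j ∈ b.support, RootPairing.Equiv.reflection P j ∈
        Subgroup.closure ((fun i : ι => RootPairing.Equiv.reflection P i) '' (b.support : Set ι)) :=
      fun j hj => Subgroup.subset_closure ⟨j, hj, rfl⟩
    refine b.induction_reflect i (p := fun i => ∃ g : P.Aut,
      g ∈ Subgroup.closure ((fun i : ι => RootPairing.Equiv.reflection P i) '' (b.support : Set ι)) ∧
        ∃ j ∈ b.support, g • j = i) ?_ ?_ ?_
    · rintro i ⟨g, hg, j, hj, rfl⟩
      refine ⟨g * RootPairing.Equiv.reflection P j, mul_mem hg (hmem j hj), j, hj, ?_⟩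
      rw [mul_smul, refl_smul_self, gaut_neg]
    · intro i hi
      exact ⟨1, one_mem _, i, hi, one_smul _ _⟩
    · rintro i j ⟨g, hg, j', hj', rfl⟩ hj
      refine ⟨RootPairing.Equiv.reflection P j * g, mul_mem (hmem j hj) hg, j', hj', ?_⟩
      rw [mul_smul, refl_smul]
  have hle : Subgroup.closure ((fun i : ι => RootPairing.Equiv.reflection P i) ''
      (b.support : Set ι)) ≤ P.weylGroup := by
    apply Subgroup.closure_mono
    rintro _ ⟨i, _, rfl⟩
    exact Set.mem_range_self i
  refine ⟨le_antisymm hle ?_, fun i => ?_⟩
  · rw [RootPairing.weylGroup, Subgroup.closure_le]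
    rintro _ ⟨i, rfl⟩
    obtain ⟨g, hg, j, hj, rfl⟩ := hconj i
    show RootPairing.Equiv.reflection P (g • j) ∈ _
    rw [← gaut_conj_reflection]
    exact mul_mem (mul_mem hg (Subgroup.subset_closure ⟨j, hj, rfl⟩)) (inv_mem hg)
  · obtain ⟨g, hg, j, hj, h⟩ := hconj i
    exact ⟨g, hle hg, j, hj, h⟩

end Groth.Agent.S2952
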