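import Groth.Statements.S2953
import Groth.Agent.Lib.Helper8Weyl
import Groth.Agent.S2952
import Mathlib.LinearAlgebra.RootSystem.Base

set_option autoImplicit false
open RootPairing
open scoped Pointwise
universe u
open RootD

namespace Groth.Agent.S2953

open Groth.Agent.Lib.Helper8 in
lemma base_posData {ι R M N : Type*} [CommRing R] [CharZero R] [IsDomain R] [AddCommGroup M]
    [Module R M] [AddCommGroup N] [Module R N] (P : RootPairing ι R M N) [Finite ι]
    [P.IsCrystallographic] [P.IsReduced] (b : P.Base) :
    PosData P (b.support : Set ι) b.IsPos where
  simple_pos := fun _ ha => RootPairing.Base.isPos_of_mem_support ha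
  refl_pos := fun _ _ hβ hb hne => hβ.reflectionPerm hb hne
  not_both := by
    intro β hβ hβ'
    have := (RootPairing.Base.IsPos.neg_iff_not b β).mp hβ'
    exact this hβ

/-- For a finite crystallographic reduced root pairing with a base b: an element of the Weyl group which
maps positive roots (relative to b) to positive roots is the identity. -/
theorem result {ι R M N : Type*} [CommRing R] [CharZero R] [IsDomain R] [AddCommGroup M] [Module R M]
    [AddCommGroup N] [Module R N] (P : RootPairing ι R M N) [Finite ι] [P.IsCrystallographic] [P.IsReduced]
    (b : P.Base) (g : P.Aut) (hg : g ∈ P.weylGroup) (hpos : ∀ i, b.IsPos i → b.IsPos (g • i)) : g = 1 := by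
  open Groth.Agent.Lib.Helper8 in
  have hgen := (Groth.Agent.S2952.result P b).1
  rw [← hgen] at hg
  exact eq_one_of_simple_pos (base_posData P b) hg
    fun a ha => hpos a (RootPairing.Base.isPos_of_mem_support ha)

end Groth.Agent.S2953
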