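import Groth.Statements.S2954
import Groth.Agent.Lib.Helper8Weyl
import Groth.Agent.S2952
import Groth.Agent.S2953
import Mathlib.LinearAlgebra.RootSystem.Base

set_option autoImplicit false
open RootPairing
open scoped Pointwise
universe u
open RootD

namespace Groth.Agent.S2954

section
set_option linter.unusedSectionVars false
variable {ι R M N : Type*} [CommRing R] [CharZero R] [IsDomain R] [AddCommGroup M] [Module R M]
    [AddCommGroup N] [Module R N] {P : RootPairing ι R M N} [Finite ι] [P.IsCrystallographic]
    [P.IsReduced]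

open Groth.Agent.Lib.Helper8

lemma root_smul_add (g : P.Aut) {i j k : ι} (h : P.root k = P.root i + P.root j) :
    P.root (g • k) = P.root (g • i) + P.root (g • j) := by
  rw [gaut_root, gaut_root, gaut_root, h, smul_add]

lemma pos_neg_iff (b : P.Base) (i : ι) : b.IsPos (P.reflectionPerm i i) ↔ ¬ b.IsPos i :=
  RootPairing.Base.IsPos.neg_iff_not b i

/-- A root is simple iff it is positive and not a sum of two positive roots. -/
lemma mem_support_iff (b : P.Base) (i : ι) :
    i ∈ b.support ↔
      b.IsPos i ∧ ¬ ∃ j k, b.IsPos j ∧ b.IsPos k ∧ P.root i = P.root j + P.root k := by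
  constructor
  · intro hi
    refine ⟨RootPairing.Base.isPos_of_mem_support hi, ?_⟩
    rintro ⟨j, k, hj, hk, h⟩
    have h1 := b.height_add h
    rw [RootPairing.Base.height_one_of_mem_support hi] at h1
    rw [RootPairing.Base.isPos_iff] at hj hk
    omega
  · rintro ⟨hpos, hind⟩
    by_contra hi
    obtain ⟨j, hj, hj'⟩ := hpos.exists_mem_support_pos_pairingIn
    rw [P.zero_lt_pairingIn_iff'] at hj'
    have hij : i ≠ j := fun h => hi (h ▸ hj)
    obtain ⟨k, hk⟩ := P.root_sub_root_mem_of_pairingIn_pos hj' hij
    exact hind ⟨k, j, hpos.sub hj hk, RootPairing.Base.isPos_of_mem_support hj,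
      by rw [hk]; abel⟩

lemma pos_of_simple_pos (b b' : P.Base) (g : P.Aut)
    (h : ∀ a ∈ b.support, b'.IsPos (g • a)) : ∀ i, b.IsPos i → b'.IsPos (g • i) := by
  intro i hi
  refine hi.induction_on_add (p := fun i => b'.IsPos (g • i)) h ?_
  intro i j k hk hpi hj
  exact hpi.add (h j hj) (root_smul_add g hk)

lemma refl_mem_weyl (a : ι) : RootPairing.Equiv.reflection P a ∈ P.weylGroup :=
  Subgroup.subset_closure (Set.mem_range_self a)

lemma refl_refl_smul (a i : ι) :
    RootPairing.Equiv.reflection P a • RootPairing.Equiv.reflection P a • i = i := by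
  rw [← mul_smul, refl_mul_self, one_smul]

lemma exists_pos_preserving (b b' : P.Base) :
    ∀ (n : ℕ) (g : P.Aut), g ∈ P.weylGroup →
      {i | b.IsPos i ∧ ¬ b'.IsPos (g • i)}.ncard = n →
      ∃ g' ∈ P.weylGroup, ∀ i, b.IsPos i → b'.IsPos (g' • i) := by
  intro n
  induction n with
  | zero =>
    intro g hg hcard
    refine ⟨g, hg, fun i hi => ?_⟩
    by_contra hni
    have hmem : i ∈ {i | b.IsPos i ∧ ¬ b'.IsPos (g • i)} := ⟨hi, hni⟩
    have hfin : {i | b.IsPos i ∧ ¬ b'.IsPos (g • i)}.Finite := Set.toFinite _
    rw [Set.ncard_eq_zero hfin] at hcard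
    rw [hcard] at hmem
    exact hmem
  | succ n ih =>
    intro g hg hcard
    by_cases hall : ∀ a ∈ b.support, b'.IsPos (g • a)
    · exact ⟨g, hg, pos_of_simple_pos b b' g hall⟩
    · push Not at hall
      obtain ⟨a, ha, hna⟩ := hall
      have hapos : b.IsPos a := RootPairing.Base.isPos_of_mem_support ha
      refine ih (g * RootPairing.Equiv.reflection P a) (mul_mem hg (refl_mem_weyl a)) ?_
      have hmemS : a ∈ {i | b.IsPos i ∧ ¬ b'.IsPos (g • i)} := ⟨hapos, hna⟩
      have hset : {i | b.IsPos i ∧ ¬ b'.IsPos ((g * RootPairing.Equiv.reflection P a) • i)} =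
          (fun i => RootPairing.Equiv.reflection P a • i) ''
            ({i | b.IsPos i ∧ ¬ b'.IsPos (g • i)} \ {a}) := by
        ext i
        constructor
        · rintro ⟨hi, hni⟩
          rw [mul_smul] at hni
          have hia : i ≠ a := by
            rintro rfl
            apply hni
            rw [refl_smul_self, gaut_neg, pos_neg_iff]
            exact hna
          refine ⟨RootPairing.Equiv.reflection P a • i, ⟨⟨?_, hni⟩, ?_⟩, refl_refl_smul a i⟩
          · rw [refl_smul]
            exact hi.reflectionPerm ha hia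
          · intro h
            have h2 : i = P.reflectionPerm a a := by
              have := congrArg (fun j => RootPairing.Equiv.reflection P a • j) h
              simp only [refl_refl_smul] at this
              rw [this]
              rfl
            rw [h2, pos_neg_iff] at hi
            exact hi hapos
        · rintro ⟨j, ⟨⟨hj, hnj⟩, hja⟩, rfl⟩
          refine ⟨?_, ?_⟩
          · show b.IsPos (RootPairing.Equiv.reflection P a • j)
            rw [refl_smul]
            exact hj.reflectionPerm ha hja
          · show ¬ b'.IsPos ((g * RootPairing.Equiv.reflection P a) •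
              (RootPairing.Equiv.reflection P a • j))
            rw [mul_smul, refl_refl_smul]
            exact hnj
      rw [hset, Set.ncard_image_of_injective _ (MulAction.injective _),
        Set.ncard_sdiff_singleton_of_mem hmemS, hcard]
      rfl

end

/-- For a finite crystallographic reduced root pairing (over a domain of characteristic zero), the Weyl
group acts freely and transitively on bases: for two bases b, b' there is exactly one element of the
Weyl group carrying the set of simple roots of b onto that of b'. -/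
theorem result {ι R M N : Type*} [CommRing R] [CharZero R] [IsDomain R] [AddCommGroup M] [Module R M]
    [AddCommGroup N] [Module R N] (P : RootPairing ι R M N) [Finite ι] [P.IsCrystallographic] [P.IsReduced]
    (b b' : P.Base) :
    ∃! g : P.weylGroup, (fun i : ι => (g : P.Aut) • i) '' (b.support : Set ι) = (b'.support : Set ι) := by
  open Groth.Agent.Lib.Helper8 in
  obtain ⟨g₀, hg₀, hpos₀⟩ := exists_pos_preserving b b' _ 1 (one_mem _) rfl
  have hiff : ∀ i, b.IsPos i ↔ b'.IsPos (g₀ • i) := by
    intro i
    refine ⟨hpos₀ i, fun h => ?_⟩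
    by_contra hni
    have h1 := hpos₀ _ ((pos_neg_iff b i).mpr hni)
    rw [gaut_neg, pos_neg_iff] at h1
    exact h1 h
  have hiff' : ∀ j, b.IsPos (g₀⁻¹ • j) ↔ b'.IsPos j := by
    intro j
    rw [hiff, smul_inv_smul]
  have hsupp : ∀ i, i ∈ b.support ↔ g₀ • i ∈ b'.support := by
    intro i
    rw [mem_support_iff b, mem_support_iff b', ← hiff]
    refine and_congr_right fun _ => not_congr ⟨?_, ?_⟩
    · rintro ⟨j, k, hj, hk, h⟩
      exact ⟨g₀ • j, g₀ • k, (hiff j).mp hj, (hiff k).mp hk, root_smul_add g₀ h⟩
    · rintro ⟨j, k, hj, hk, h⟩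
      refine ⟨g₀⁻¹ • j, g₀⁻¹ • k, (hiff' j).mpr hj, (hiff' k).mpr hk, ?_⟩
      have := root_smul_add g₀⁻¹ h
      rwa [inv_smul_smul] at this
  have hunique : ∀ g g' : P.weylGroup,
      (fun i : ι => (g : P.Aut) • i) '' (b.support : Set ι) = (b'.support : Set ι) →
      (fun i : ι => (g' : P.Aut) • i) '' (b.support : Set ι) = (b'.support : Set ι) → g = g' := by
    intro g g' h h'
    have hstab : ∀ a ∈ b.support, ((g' : P.Aut)⁻¹ * (g : P.Aut)) • a ∈ b.support := by
      intro a ha
      have h1 : (g : P.Aut) • a ∈ (b'.support : Set ι) := by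
        rw [← h]; exact ⟨a, ha, rfl⟩
      rw [← h'] at h1
      obtain ⟨c, hc, hce⟩ := h1
      have hce' : (g : P.Aut) • a = (g' : P.Aut) • c := hce.symm
      rw [mul_smul, hce', inv_smul_smul]
      exact hc
    have hone : (g' : P.Aut)⁻¹ * (g : P.Aut) = 1 := by
      refine Groth.Agent.S2953.result P b _ (mul_mem (inv_mem g'.2) g.2) ?_
      exact pos_of_simple_pos b b _
        fun a ha => RootPairing.Base.isPos_of_mem_support (hstab a ha)
    apply Subtype.ext
    exact inv_mul_eq_one.mp hone |>.symm
  refine ⟨⟨g₀, hg₀⟩, ?_, fun g hg => ?_⟩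
  · show (fun i : ι => g₀ • i) '' (b.support : Set ι) = (b'.support : Set ι)
    ext j
    constructor
    · rintro ⟨i, hi, rfl⟩
      exact (hsupp i).mp hi
    · intro hj
      refine ⟨g₀⁻¹ • j, ?_, smul_inv_smul g₀ j⟩
      show g₀⁻¹ • j ∈ b.support
      rw [hsupp, smul_inv_smul]
      exact hj
  · refine hunique g ⟨g₀, hg₀⟩ hg ?_
    show (fun i : ι => g₀ • i) '' (b.support : Set ι) = (b'.support : Set ι)
    ext j
    constructor
    · rintro ⟨i, hi, rfl⟩
      exact (hsupp i).mp hi
    · intro hj
      refine ⟨g₀⁻¹ • j, ?_, smul_inv_smul g₀ j⟩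
      show g₀⁻¹ • j ∈ b.support
      rw [hsupp, smul_inv_smul]
      exact hj

end Groth.Agent.S2954
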