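import Groth.Statements.S2957
import Groth.Agent.Lib.Helper8Weyl
import Groth.Agent.S2953
import Groth.Agent.S2954
import Mathlib.LinearAlgebra.RootSystem.Base

set_option autoImplicit false
open RootPairing
open scoped Pointwise
universe u
open RootD

namespace Groth.Agent.S2957

section
set_option linter.unusedSectionVars false
variable {ι R M N : Type*} [CommRing R] [CharZero R] [IsDomain R] [AddCommGroup M] [Module R M]
    [AddCommGroup N] [Module R N] {P : RootPairing ι R M N} [Finite ι] [P.IsCrystallographic]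
    [P.IsReduced]

open Groth.Agent.Lib.Helper8 Groth.Agent.S2954

/-- The inversion number of an automorphism. -/
noncomputable def inv (b : P.Base) (w : P.Aut) : ℕ :=
  {i | b.IsPos i ∧ ¬ b.IsPos (w • i)}.ncard

lemma inv_mul_refl (b : P.Base) (w : P.Aut) {a : ι} (ha : a ∈ b.support)
    (hna : ¬ b.IsPos (w • a)) :
    inv b (w * RootPairing.Equiv.reflection P a) + 1 = inv b w := by
  have hapos : b.IsPos a := RootPairing.Base.isPos_of_mem_support ha
  have hmemS : a ∈ {i | b.IsPos i ∧ ¬ b.IsPos (w • i)} := ⟨hapos, hna⟩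
  have hset : {i | b.IsPos i ∧ ¬ b.IsPos ((w * RootPairing.Equiv.reflection P a) • i)} =
      (fun i => RootPairing.Equiv.reflection P a • i) ''
        ({i | b.IsPos i ∧ ¬ b.IsPos (w • i)} \ {a}) := by
    ext i
    constructor
    · rintro ⟨hi, hni⟩
      rw [mul_smul] at hni
      have hia : i ≠ a := by
        rintro rfl
        apply hni
        rw [refl_smul_self, gaut_neg, pos_neg_iff]
        exact hna
      refine ⟨RootPairing.Equiv.reflection P a • i, ⟨⟨?_, hni⟩, ?_⟩, refl_refl_smul a i⟩
      · rw [refl_smul]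
        exact hi.reflectionPerm ha hia
      · intro h
        have h2 : i = P.reflectionPerm a a := by
          have := congrArg (fun j => RootPairing.Equiv.reflection P a • j) h
          simp only [refl_refl_smul] at this
          rw [this]
          rfl
        rw [h2, pos_neg_iff] at hi
        exact hi hapos
    · rintro ⟨j, ⟨⟨hj, hnj⟩, hja⟩, rfl⟩
      refine ⟨?_, ?_⟩
      · show b.IsPos (RootPairing.Equiv.reflection P a • j)
        rw [refl_smul]
        exact hj.reflectionPerm ha hja
      · show ¬ b.IsPos ((w * RootPairing.Equiv.reflection P a) •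
          (RootPairing.Equiv.reflection P a • j))
        rw [mul_smul, refl_refl_smul]
        exact hnj
  unfold inv
  rw [hset, Set.ncard_image_of_injective _ (MulAction.injective _)]
  have hfin : {i | b.IsPos i ∧ ¬ b.IsPos (w • i)}.Finite := Set.toFinite _
  have hpos : 0 < {i | b.IsPos i ∧ ¬ b.IsPos (w • i)}.ncard :=
    (Set.ncard_pos hfin).mpr ⟨a, hmemS⟩
  rw [Set.ncard_sdiff_singleton_of_mem hmemS]
  omega

lemma eq_one_of_simple_pos (b : P.Base) {w : P.Aut} (hw : w ∈ P.weylGroup)
    (h : ∀ a ∈ b.support, b.IsPos (w • a)) : w = 1 :=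
  Groth.Agent.S2953.result P b w hw (pos_of_simple_pos b b w h)

/-- Rank-two coset reduction. -/
lemma exists_coset_rep (b : P.Base) {α γ : ι} (hα : α ∈ b.support) (hγ : γ ∈ b.support) :
    ∀ (n : ℕ) (w : P.Aut), w ∈ P.weylGroup → inv b w = n →
      ∃ u ∈ Subgroup.closure {RootPairing.Equiv.reflection P α, RootPairing.Equiv.reflection P γ},
      ∃ w' ∈ P.weylGroup, w = w' * u ∧ b.IsPos (w' • α) ∧ b.IsPos (w' • γ) ∧
        inv b w' ≤ inv b w ∧ ((¬ b.IsPos (w • α) ∨ ¬ b.IsPos (w • γ)) → inv b w' < inv b w) := by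
  intro n
  induction n with
  | zero =>
    intro w hw hn
    by_cases h : b.IsPos (w • α) ∧ b.IsPos (w • γ)
    · exact ⟨1, one_mem _, w, hw, by simp, h.1, h.2, le_rfl, fun h' => by tauto⟩
    · exfalso
      have : ∃ δ ∈ b.support, ¬ b.IsPos (w • δ) := by
        by_cases h1 : b.IsPos (w • α)
        · exact ⟨γ, hγ, fun h2 => h ⟨h1, h2⟩⟩
        · exact ⟨α, hα, h1⟩
      obtain ⟨δ, hδ, hnδ⟩ := this
      have := inv_mul_refl b w hδ hnδ
      omega
  | succ n ih =>
    intro w hw hn
    by_cases h : b.IsPos (w • α) ∧ b.IsPos (w • γ)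
    · exact ⟨1, one_mem _, w, hw, by simp, h.1, h.2, le_rfl, fun h' => by tauto⟩
    · have : ∃ δ, (δ = α ∨ δ = γ) ∧ δ ∈ b.support ∧ ¬ b.IsPos (w • δ) := by
        by_cases h1 : b.IsPos (w • α)
        · exact ⟨γ, Or.inr rfl, hγ, fun h2 => h ⟨h1, h2⟩⟩
        · exact ⟨α, Or.inl rfl, hα, h1⟩
      obtain ⟨δ, hδ', hδ, hnδ⟩ := this
      have h1 := inv_mul_refl b w hδ hnδ
      obtain ⟨u, hu, w', hw', hwu, hpα, hpγ, hle, -⟩ :=
        ih (w * RootPairing.Equiv.reflection P δ) (mul_mem hw (refl_mem_weyl δ)) (by omega)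
      have hδmem : RootPairing.Equiv.reflection P δ ∈ Subgroup.closure
          {RootPairing.Equiv.reflection P α, RootPairing.Equiv.reflection P γ} := by
        apply Subgroup.subset_closure
        rcases hδ' with rfl | rfl
        · exact Set.mem_insert _ _
        · exact Set.mem_insert_of_mem _ rfl
      refine ⟨u * RootPairing.Equiv.reflection P δ, mul_mem hu hδmem, w', hw', ?_, hpα, hpγ,
        by omega, fun _ => by omega⟩
      rw [← mul_assoc, ← hwu, mul_assoc, refl_mul_self, mul_one]

/-- Uniqueness of the integer coefficients relative to a base. -/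
lemma coeff_unique (b : P.Base) {f g : ι → ℤ}
    (h : ∑ j ∈ b.support, f j • P.root j = ∑ j ∈ b.support, g j • P.root j) :
    ∀ j ∈ b.support, f j = g j := by
  intro j hj
  rw [b.support.sum_subtype (p := (· ∈ b.support)) (by simp) (F := inferInstance),
    b.support.sum_subtype (p := (· ∈ b.support)) (by simp) (F := inferInstance)] at h
  have aux (j : b.support) := Fintype.linearIndependent_iffₛ.mp
      (b.linearIndepOn_root.restrict_scalars' ℤ) (f ∘ (↑)) (g ∘ (↑)) (by simpa) j
  simpa using aux ⟨j, hj⟩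

lemma sign_of_pair (b : P.Base) {α γ i : ι} (hα : α ∈ b.support) (hγ : γ ∈ b.support)
    (hne : α ≠ γ) {m n : ℤ} (h : P.root i = m • P.root α + n • P.root γ) :
    (0 ≤ m ∧ 0 ≤ n) ∨ (m ≤ 0 ∧ n ≤ 0) := by
  classical
  obtain ⟨f, hf₀, hf₁, hf₂⟩ := b.exists_root_eq_sum_int i
  let g : ι → ℤ := fun j => if j = α then m else if j = γ then n else 0
  have hg : P.root i = ∑ j ∈ b.support, g j • P.root j := by
    rw [h, Finset.sum_eq_add_of_mem α γ hα hγ hne]
    · simp [g, hne.symm]
    · rintro c - ⟨h1, h2⟩
      simp [g, h1, h2]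
  have hu := coeff_unique b (hf₂.symm.trans hg)
  have hfα : f α = m := by simpa [g] using hu α hα
  have hfγ : f γ = n := by simpa [g, hne.symm] using hu γ hγ
  rcases hf₁ with hpos | hneg
  · left
    exact ⟨hfα ▸ hpos.le α, hfγ ▸ hpos.le γ⟩
  · right
    exact ⟨hfα ▸ hneg.le α, hfγ ▸ hneg.le γ⟩

lemma height_zsmul_add_zsmul (b : P.Base) {i j k : ι} {m n : ℤ}
    (hk : P.root k = m • P.root i + n • P.root j) :
    b.height k = m * b.height i + n * b.height j := by
  obtain ⟨f, -, -, hf⟩ := b.exists_root_eq_sum_int i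
  obtain ⟨g, -, -, hg⟩ := b.exists_root_eq_sum_int j
  have hfg : P.root k = ∑ l ∈ b.support, (m • f + n • g) l • P.root l := by
    simp_rw [Pi.add_apply, Pi.smul_apply, add_smul, smul_assoc, Finset.sum_add_distrib,
      ← Finset.smul_sum, ← hf, ← hg, hk]
  simp_rw [RootPairing.Base.height_eq_sum hf, RootPairing.Base.height_eq_sum hg,
    RootPairing.Base.height_eq_sum hfg, Pi.add_apply, Pi.smul_apply,
    Finset.sum_add_distrib, ← Finset.smul_sum, smul_eq_mul]

lemma root_refl_smul_mem (α γ δ : ι)
    (hδ : P.root δ ∈ Submodule.span ℤ {P.root α, P.root γ}) (i : ι)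
    (hi : P.root i ∈ Submodule.span ℤ {P.root α, P.root γ}) :
    P.root (RootPairing.Equiv.reflection P δ • i) ∈ Submodule.span ℤ {P.root α, P.root γ} := by
  rw [refl_smul, RootPairing.root_reflectionPerm, RootPairing.reflection_apply_root' ℤ]
  exact sub_mem hi (Submodule.smul_mem _ _ hδ)

lemma mem_span_of_mem_closure (α γ : ι) {u : P.Aut}
    (hu : u ∈ Subgroup.closure
      {RootPairing.Equiv.reflection P α, RootPairing.Equiv.reflection P γ}) :
    ∀ i, P.root i ∈ Submodule.span ℤ {P.root α, P.root γ} →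
      P.root (u • i) ∈ Submodule.span ℤ {P.root α, P.root γ} ∧
      P.root (u⁻¹ • i) ∈ Submodule.span ℤ {P.root α, P.root γ} := by
  have hα : P.root α ∈ Submodule.span ℤ {P.root α, P.root γ} :=
    Submodule.subset_span (Set.mem_insert _ _)
  have hγ : P.root γ ∈ Submodule.span ℤ {P.root α, P.root γ} :=
    Submodule.subset_span (Set.mem_insert_of_mem _ rfl)
  induction hu using Subgroup.closure_induction with
  | mem x hx =>
    rcases hx with rfl | hx
    · intro i hi
      rw [RootPairing.Equiv.reflection_inv]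
      exact ⟨root_refl_smul_mem α γ α hα i hi, root_refl_smul_mem α γ α hα i hi⟩
    · rw [Set.mem_singleton_iff] at hx
      subst hx
      intro i hi
      rw [RootPairing.Equiv.reflection_inv]
      exact ⟨root_refl_smul_mem α γ γ hγ i hi, root_refl_smul_mem α γ γ hγ i hi⟩
  | one => intro i hi; simpa using hi
  | mul x y _ _ hx hy =>
    intro i hi
    rw [mul_smul, mul_inv_rev, mul_smul]
    exact ⟨(hx _ (hy i hi).1).1, (hy _ (hx i hi).2).2⟩
  | inv x _ hx =>
    intro i hi
    rw [inv_inv]
    exact ⟨(hx i hi).2, (hx i hi).1⟩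

/-- Key step: the image of `α` under the rank-two part is `α` or `γ`. -/
lemma step_simple (b : P.Base) {α γ β : ι} (hα : α ∈ b.support) (hγ : γ ∈ b.support)
    (hβ : β ∈ b.support) (hne : α ≠ γ) {u w' : P.Aut}
    (hu : u ∈ Subgroup.closure
      {RootPairing.Equiv.reflection P α, RootPairing.Equiv.reflection P γ})
    (hpα : b.IsPos (w' • α)) (hpγ : b.IsPos (w' • γ)) (hβ' : w' • u • α = β) :
    u • α = α ∨ u • α = γ := by
  have hmem := (mem_span_of_mem_closure α γ hu α
    (Submodule.subset_span (Set.mem_insert _ _))).1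
  obtain ⟨m, n, hmn⟩ := Submodule.mem_span_pair.mp hmem
  have hmn' : P.root (u • α) = m • P.root α + n • P.root γ := hmn.symm
  have hsign := sign_of_pair b hα hγ hne hmn'
  have hw' : P.root (w' • u • α) = m • P.root (w' • α) + n • P.root (w' • γ) := by
    rw [gaut_root, hmn', smul_add, smul_comm w' m, smul_comm w' n, ← gaut_root, ← gaut_root]
  have hht := height_zsmul_add_zsmul b hw'
  rw [hβ', RootPairing.Base.height_one_of_mem_support hβ] at hht
  rw [RootPairing.Base.isPos_iff] at hpα hpγ
  have hcases : (m = 1 ∧ n = 0) ∨ (m = 0 ∧ n = 1) := by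
    rcases hsign with ⟨h1, h2⟩ | ⟨h1, h2⟩
    · have h3 : m ≤ m * b.height (w' • α) := le_mul_of_one_le_right h1 hpα
      have h4 : n ≤ n * b.height (w' • γ) := le_mul_of_one_le_right h2 hpγ
      have h7 : m = 0 → m * b.height (w' • α) = 0 := fun h => by rw [h, zero_mul]
      have h8 : n = 0 → n * b.height (w' • γ) = 0 := fun h => by rw [h, zero_mul]
      generalize m * b.height (w' • α) = X at *
      generalize n * b.height (w' • γ) = Y at *
      omega
    · exfalso
      have h5 : m * b.height (w' • α) ≤ 0 := mul_nonpos_of_nonpos_of_nonneg h1 (by omega)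
      have h6 : n * b.height (w' • γ) ≤ 0 := mul_nonpos_of_nonpos_of_nonneg h2 (by omega)
      omega
  rcases hcases with ⟨rfl, rfl⟩ | ⟨rfl, rfl⟩
  · left
    apply P.root.injective
    rw [hmn']; simp
  · right
    apply P.root.injective
    rw [hmn']; simp

lemma closure_pair_le (α γ : ι) :
    Subgroup.closure {RootPairing.Equiv.reflection P α, RootPairing.Equiv.reflection P γ} ≤
      P.weylGroup := by
  rw [Subgroup.closure_le]
  rintro x (rfl | hx)
  · exact refl_mem_weyl α
  · rw [Set.mem_singleton_iff] at hx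
    subst hx
    exact refl_mem_weyl γ

lemma main (b : P.Base) : ∀ (n : ℕ) (w : P.Aut), w ∈ P.weylGroup → inv b w = n →
    ∀ α β, α ∈ b.support → β ∈ b.support → w • α = β →
    ∃ (m : ℕ) (a : Fin (m + 1) → ι) (ws : Fin m → P.Aut),
      (∀ i, a i ∈ b.support) ∧ a 0 = α ∧ a (Fin.last m) = β ∧
      (∀ i, ws i ∈ P.weylGroup) ∧
      w = (List.ofFn fun i : Fin m => ws (Fin.rev i)).prod ∧
      (∀ i : Fin m, ws i • a (Fin.castSucc i) = a (Fin.succ i)) ∧
      ∀ i : Fin m, ∃ γ ∈ b.support,
        ws i ∈ Subgroup.closure {RootPairing.Equiv.reflection P (a (Fin.castSucc i)),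
          RootPairing.Equiv.reflection P γ} ∧
        (a (Fin.castSucc i) ≠ a (Fin.succ i) → γ = a (Fin.succ i)) := by
  intro n
  induction n using Nat.strong_induction_on with
  | _ n ih =>
    intro w hw hn α β hα hβ hwα
    by_cases hall : ∀ δ ∈ b.support, b.IsPos (w • δ)
    · have h1 := eq_one_of_simple_pos b hw hall
      subst h1
      rw [one_smul] at hwα
      subst hwα
      exact ⟨0, fun _ => α, Fin.elim0, fun _ => hα, rfl, rfl, fun i => i.elim0, by simp,
        fun i => i.elim0, fun i => i.elim0⟩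
    · push Not at hall
      obtain ⟨γ, hγ, hnγ⟩ := hall
      have hne : α ≠ γ := by
        rintro rfl
        apply hnγ
        rw [hwα]
        exact RootPairing.Base.isPos_of_mem_support hβ
      obtain ⟨u, hu, w', hw', hwu, hpα, hpγ, -, hlt⟩ := exists_coset_rep b hα hγ _ w hw rfl
      have hlt' := hlt (Or.inr hnγ)
      have hβ' : w' • u • α = β := by rw [← mul_smul, ← hwu]; exact hwα
      have hstep := step_simple b hα hγ hβ hne hu hpα hpγ hβ'
      have hα₁ : u • α ∈ b.support := by
        rcases hstep with h | h <;> rw [h] <;> assumption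
      obtain ⟨m', a', ws', ha', ha0, hal, hws', hprod, hstep', hγ'⟩ :=
        ih (inv b w') (hn ▸ hlt') w' hw' rfl (u • α) β hα₁ hβ hβ'
      refine ⟨m' + 1, Fin.cons α a', Fin.cons u ws', ?_, ?_, ?_, ?_, ?_, ?_, ?_⟩
      · intro i
        refine Fin.cases ?_ (fun j => ?_) i
        · simpa using hα
        · simpa using ha' j
      · rfl
      · rw [← Fin.succ_last, Fin.cons_succ, hal]
      · intro i
        refine Fin.cases ?_ (fun j => ?_) i
        · simpa using closure_pair_le α γ hu
        · simpa using hws' j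
      · rw [List.ofFn_succ', List.concat_eq_append, List.prod_append, List.prod_singleton]
        simp only [Fin.rev_castSucc, Fin.cons_succ, Fin.rev_last, Fin.cons_zero]
        rw [← hprod, hwu]
      · intro i
        refine Fin.cases ?_ (fun j => ?_) i
        · simp only [Fin.cons_zero, Fin.castSucc_zero, Fin.cons_succ]
          exact ha0.symm
        · simp only [Fin.cons_succ, ← Fin.succ_castSucc]
          exact hstep' j
      · intro i
        refine Fin.cases ?_ (fun j => ?_) i
        · refine ⟨γ, hγ, ?_, ?_⟩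
          · simpa using hu
          · simp only [Fin.cons_zero, Fin.castSucc_zero, Fin.cons_succ, ha0]
            intro hne'
            rcases hstep with h | h
            · exact absurd h.symm hne'
            · exact h.symm
        · obtain ⟨γ', hγ'1, hγ'2, hγ'3⟩ := hγ' j
          refine ⟨γ', hγ'1, ?_, ?_⟩
          · simpa only [Fin.cons_succ, ← Fin.succ_castSucc] using hγ'2
          · simpa only [Fin.cons_succ, ← Fin.succ_castSucc] using hγ'3

end

/-- For a finite crystallographic reduced root pairing with a base b: let α, β be simple roots and w an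
element of the Weyl group with w(α) = β. Then there are simple roots α = α_0, ..., α_m = β and Weyl
group elements w_0, ..., w_{m-1} with w = w_{m-1} ... w_0, w_i(α_i) = α_{i+1}, and each w_i lying in
the subgroup generated by the reflections in α_i and in a simple root γ_i, where γ_i = α_{i+1}
whenever α_i ≠ α_{i+1}. -/
theorem result {ι R M N : Type*} [CommRing R] [CharZero R] [IsDomain R] [AddCommGroup M] [Module R M]
    [AddCommGroup N] [Module R N] (P : RootPairing ι R M N) [Finite ι] [P.IsCrystallographic] [P.IsReduced]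
    (b : P.Base) (α β : ι) (hα : α ∈ b.support) (hβ : β ∈ b.support) (w : P.Aut) (hw : w ∈ P.weylGroup)
    (hwα : w • α = β) :
    ∃ (m : ℕ) (a : Fin (m + 1) → ι) (ws : Fin m → P.Aut),
      (∀ i, a i ∈ b.support) ∧ a 0 = α ∧ a (Fin.last m) = β ∧
      (∀ i, ws i ∈ P.weylGroup) ∧
      w = (List.ofFn fun i : Fin m => ws (Fin.rev i)).prod ∧
      (∀ i : Fin m, ws i • a (Fin.castSucc i) = a (Fin.succ i)) ∧
      ∀ i : Fin m, ∃ γ ∈ b.support,
        ws i ∈ Subgroup.closure {Equiv.reflection P (a (Fin.castSucc i)), Equiv.reflection P γ} ∧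
        (a (Fin.castSucc i) ≠ a (Fin.succ i) → γ = a (Fin.succ i)) := by
  exact main b _ w hw rfl α β hα hβ hwα

end Groth.Agent.S2957
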