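import Groth.Statements.S2965

set_option autoImplicit false
universe u
open SGA3t2b

namespace Groth.Agent.S2965

open Polynomial in
/-- Implication (iv) ⇒ (i) (global form, finite free module): let u be an endomorphism of a finite free
module M over a commutative ring A whose characteristic polynomial is X^r · Q with Q(0) invertible.
Then M is the direct sum of two u-stable submodules M', M'' such that u is nilpotent on M' and
bijective on M''. -/
theorem result {A : Type u} [CommRing A] {M : Type u} [AddCommGroup M] [Module A M]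
    [Module.Free A M] [Module.Finite A M] (u : M →ₗ[A] M) (r : ℕ) (Q : A[X]) (hQ : IsUnit (Q.coeff 0))
    (h : u.charpoly = X ^ r * Q) :
    ∃ M' M'' : Submodule A M, IsCompl M' M'' ∧ (∀ x ∈ M', u x ∈ M') ∧ (∀ x ∈ M'', u x ∈ M'') ∧
      (∃ n : ℕ, ∀ x ∈ M', (u ^ n) x = 0) ∧ Set.BijOn u M'' M'' := by
  obtain ⟨c, hc⟩ := hQ
  -- Q = C (Q.coeff 0) + X * Q1
  obtain ⟨Q1, hQ1⟩ : ∃ Q1 : A[X], Q = C (Q.coeff 0) + X * Q1 := by
    refine ⟨Q.divX, ?_⟩
    conv_lhs => rw [← Polynomial.divX_mul_X_add Q]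
    ring
  have hcc : (C (↑c⁻¹ : A) : A[X]) * C (Q.coeff 0) = 1 := by
    rw [← C_mul, ← hc, Units.inv_mul, C_1]
  have hcop1 : IsCoprime (X : A[X]) Q := by
    refine ⟨-(C (↑c⁻¹ : A)) * Q1, C (↑c⁻¹ : A), ?_⟩
    conv_lhs => rw [hQ1]
    linear_combination hcc
  have hcop : IsCoprime ((X : A[X]) ^ r) Q := hcop1.pow_left
  have hCH : aeval u (X ^ r * Q) = 0 := by
    rw [← h]; exact LinearMap.aeval_self_charpoly u
  have hsup := sup_ker_aeval_eq_ker_aeval_mul_of_coprime u hcop
  rw [hCH, LinearMap.ker_zero] at hsup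
  have hdis := disjoint_ker_aeval_of_isCoprime u hcop
  have hcomm : ∀ (P : A[X]) (x : M), aeval u P (u x) = u (aeval u P x) := by
    intro P x
    have : aeval u P * aeval u (X : A[X]) = aeval u (X : A[X]) * aeval u P := by
      rw [← aeval_mul, mul_comm, aeval_mul]
    rw [aeval_X] at this
    exact LinearMap.congr_fun this x
  refine ⟨LinearMap.ker (aeval u (X ^ r)), LinearMap.ker (aeval u Q), ⟨hdis, codisjoint_iff.mpr hsup⟩,
    ?_, ?_, ⟨r, ?_⟩, ?_⟩
  · intro x hx
    rw [LinearMap.mem_ker] at hx ⊢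
    rw [hcomm, hx, map_zero]
  · intro x hx
    rw [LinearMap.mem_ker] at hx ⊢
    rw [hcomm, hx, map_zero]
  · intro x hx
    rw [LinearMap.mem_ker] at hx
    simpa using hx
  · -- bijective on ker Q(u)
    set v : M →ₗ[A] M := aeval u (-(C (↑c⁻¹ : A)) * Q1) with hv
    have key : ∀ x ∈ LinearMap.ker (aeval u Q), u (v x) = x ∧ v (u x) = x := by
      intro x hx
      rw [LinearMap.mem_ker] at hx
      have h1 : aeval u (X * (-(C (↑c⁻¹ : A)) * Q1)) x = x - aeval u (C (↑c⁻¹ : A) * Q) x := by
        have : X * (-(C (↑c⁻¹ : A)) * Q1) = 1 - C (↑c⁻¹ : A) * Q := by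
          have e : C (↑c⁻¹ : A) * Q = C (↑c⁻¹ : A) * (C (Q.coeff 0) + X * Q1) := by rw [← hQ1]
          rw [e]
          linear_combination hcc
        rw [this]; simp
      have h2 : aeval u (C (↑c⁻¹ : A) * Q) x = 0 := by
        rw [aeval_mul, Module.End.mul_apply, hx, map_zero]
      rw [h2, sub_zero] at h1
      constructor
      · conv_rhs => rw [← h1]
        rw [aeval_mul, aeval_X, Module.End.mul_apply]
      · conv_rhs => rw [← h1]
        rw [mul_comm, aeval_mul, aeval_X, Module.End.mul_apply]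
    have hvmaps : ∀ x ∈ LinearMap.ker (aeval u Q), v x ∈ LinearMap.ker (aeval u Q) := by
      intro x hx
      rw [LinearMap.mem_ker] at hx ⊢
      have : aeval u Q * v = v * aeval u Q := by
        rw [hv, ← aeval_mul, mul_comm, aeval_mul]
      have := LinearMap.congr_fun this x
      simp only [Module.End.mul_apply] at this
      rw [this, hx, map_zero]
    refine ⟨?_, ?_, ?_⟩
    · intro x hx
      have hx' : x ∈ LinearMap.ker (aeval u Q) := hx
      show u x ∈ LinearMap.ker (aeval u Q)
      rw [LinearMap.mem_ker] at hx' ⊢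
      rw [hcomm, hx', map_zero]
    · intro x hx y hy hxy
      rw [← (key x hx).2, ← (key y hy).2, hxy]
    · intro x hx
      exact ⟨v x, hvmaps x hx, (key x hx).1⟩

end Groth.Agent.S2965
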