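import Groth.Statements.S2967

set_option autoImplicit false
universe u
open SGA3t2b

namespace Groth.Agent.S2967

/-- A commutative p-Lie algebra over a field k of characteristic p is recorded as a k-vector space g
together with its p-th power map φ, which is additive and Frobenius-semilinear. Let g be
finite-dimensional and non-zero, and assume every element of g is killed by some iterate of φ (g is
unipotent). Then the k-subspace of g spanned by the image φ(g) is a proper subspace. -/
theorem result {k : Type u} [Field k] (p : ℕ) [Fact p.Prime] [CharP k p]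
    {V : Type u} [AddCommGroup V] [Module k V] [FiniteDimensional k V] [Nontrivial V]
    (φ : V →ₛₗ[frobenius k p] V) (hφ : ∀ x : V, ∃ n : ℕ, φ^[n] x = 0) :
    Submodule.span k (Set.range φ) ≠ ⊤ := by
  have image_span_subset : ∀ (g : V → V) (h0 : g 0 = 0) (hadd : ∀ x y, g (x + y) = g x + g y)
      (hsmul : ∀ (a : k) (x : V), ∃ b : k, g (a • x) = b • g x) (S : Set V),
      ∀ x ∈ Submodule.span k S, g x ∈ Submodule.span k (g '' S) := by
    intro g h0 hadd hsmul S x hx
    induction hx using Submodule.span_induction with
    | mem x hx => exact Submodule.subset_span ⟨x, hx, rfl⟩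
    | zero => rw [h0]; exact Submodule.zero_mem _
    | add x y _ _ hx hy => rw [hadd]; exact Submodule.add_mem _ hx hy
    | smul a x _ hx =>
      obtain ⟨b, hb⟩ := hsmul a x
      rw [hb]; exact Submodule.smul_mem _ b hx
  intro htop
  -- properties of iterates
  have it0 : ∀ n : ℕ, φ^[n] 0 = 0 := by
    intro n; induction n with
    | zero => rfl
    | succ n ih => rw [Function.iterate_succ_apply, map_zero, ih]
  have itadd : ∀ (n : ℕ) (x y : V), φ^[n] (x + y) = φ^[n] x + φ^[n] y := by
    intro n; induction n with
    | zero => intro x y; rfl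
    | succ n ih => intro x y; rw [Function.iterate_succ_apply, map_add, ih]; rfl
  have itsmul : ∀ (n : ℕ) (a : k) (x : V), ∃ b : k, φ^[n] (a • x) = b • φ^[n] x := by
    intro n; induction n with
    | zero => intro a x; exact ⟨a, rfl⟩
    | succ n ih =>
      intro a x
      obtain ⟨b, hb⟩ := ih (frobenius k p a) (φ x)
      refine ⟨b, ?_⟩
      rw [Function.iterate_succ_apply, Function.iterate_succ_apply, φ.map_smulₛₗ, hb]
  -- span of range of iterates is top
  have hW : ∀ n : ℕ, Submodule.span k (Set.range (φ^[n])) = ⊤ := by
    intro n; induction n with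
    | zero => simp
    | succ n ih =>
      rw [eq_top_iff, ← ih, Submodule.span_le]
      rintro _ ⟨x, rfl⟩
      have hx : x ∈ Submodule.span k (Set.range φ) := by rw [htop]; trivial
      have := image_span_subset (φ^[n]) (it0 n) (itadd n) (itsmul n) _ x hx
      refine Submodule.span_mono ?_ this
      rintro _ ⟨_, ⟨y, rfl⟩, rfl⟩
      exact ⟨y, by rw [Function.iterate_succ_apply]⟩
  -- a uniform N killing a basis
  let b := Module.finBasis k V
  choose n hn using fun i => hφ (b i)
  let N := Finset.univ.sup n
  have hN : ∀ i, φ^[N] (b i) = 0 := by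
    intro i
    have hle : n i ≤ N := Finset.le_sup (f := n) (Finset.mem_univ i)
    obtain ⟨m, hm⟩ := Nat.exists_eq_add_of_le hle
    rw [hm, Nat.add_comm, Function.iterate_add_apply, hn i, it0]
  have hzero : ∀ x : V, φ^[N] x = 0 := by
    intro x
    have hx : x ∈ Submodule.span k (Set.range b) := by rw [b.span_eq]; trivial
    have := image_span_subset (φ^[N]) (it0 N) (itadd N) (itsmul N) _ x hx
    have h2 : (φ^[N]) '' Set.range b ⊆ {0} := by
      rintro _ ⟨_, ⟨i, rfl⟩, rfl⟩
      exact hN i
    have := Submodule.span_mono (R := k) h2 this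
    simpa using this
  have : Submodule.span k (Set.range (φ^[N])) = ⊥ := by
    rw [Submodule.span_eq_bot]
    rintro _ ⟨x, rfl⟩
    exact hzero x
  rw [hW N] at this
  exact top_ne_bot this

end Groth.Agent.S2967
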