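import Groth.Statements.S2971
import Groth.Agent.Lib.Helper25EtNilC

set_option autoImplicit false
universe u
open TensorProduct SGA3b
open SGA3b

namespace Groth.Agent.S2971

/-- Let R be a ring, I an ideal consisting of nilpotent elements and H = Spec A an R-group of
multiplicative type. If the base change of H to R/I is isotrivial (resp. quasi-isotrivial), so is H.
(Affine group schemes over an affine base are taken in Hopf-algebra form; base change is the tensor
product.) -/
theorem result (R : Type u) [CommRing R] (A : Type u) [CommRing A] [HopfAlgebra R A] (I : Ideal R) (hI : ∀ x ∈ I, IsNilpotent x) (h : IsMultType R A) :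
    (IsIsotrivial (R ⧸ I) ((R ⧸ I) ⊗[R] A) → IsIsotrivial R A) ∧
    (IsQuasiIsotrivial (R ⧸ I) ((R ⧸ I) ⊗[R] A) → IsQuasiIsotrivial R A) := by
  open Groth.Agent.Lib.Helper25 Groth.Agent.Lib.Helper25.BCB
    Groth.Agent.Lib.Helper25.EtaleLift Groth.Agent.Lib.Helper25.EtNil in
  classical
  have hker : ∀ x ∈ RingHom.ker (algebraMap R (R ⧸ I)), IsNilpotent x := by
    intro x hx
    apply hI
    rwa [Ideal.Quotient.algebraMap_eq, Ideal.mk_ker] at hx
  constructor
  · -- isotrivial
    rintro ⟨Rb', _, _, het, hfin, hff, hD⟩
    letI : Algebra R Rb' := ((algebraMap (R ⧸ I) Rb').comp (algebraMap R (R ⧸ I))).toAlgebra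
    haveI : IsScalarTower R (R ⧸ I) Rb' := IsScalarTower.of_algebraMap_eq (fun _ => rfl)
    haveI := het
    obtain ⟨R', _, _, θ, het', hsurj, hnil, hff', hfin'⟩ :=
      exists_etale_lift_nil (B := R) (Bb := R ⧸ I) Ideal.Quotient.mk_surjective hker Rb'
    have hD1 : IsDiag Rb' (Rb' ⊗[R] A) := isDiag_of_equiv (cancelBC R (R ⧸ I) Rb' A).symm hD
    exact ⟨R', inferInstance, inferInstance, het', hfin' hfin, hff' hff,
      isDiag_of_surjective_nil R A h R' Rb' θ hsurj hnil hD1⟩
  · -- quasi-isotrivial
    rintro ⟨sbar, hsbar, hloc⟩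
    refine ⟨(Ideal.Quotient.mk I) ⁻¹' sbar, span_preimage_eq_top_nil I hI sbar hsbar, ?_⟩
    intro f hf
    obtain ⟨Rb', _, _, het, hff, hD⟩ := hloc (Ideal.Quotient.mk I f) hf
    letI : Algebra (Localization.Away f) (Localization.Away (Ideal.Quotient.mk I f)) :=
      (awayQuot I f).toAlgebra
    haveI : IsScalarTower R (Localization.Away f) (Localization.Away (Ideal.Quotient.mk I f)) := by
      apply IsScalarTower.of_algebraMap_eq
      intro r
      change _ = awayQuot I f (algebraMap R (Localization.Away f) r)
      rw [awayQuot_algebraMap,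
        IsScalarTower.algebraMap_apply R (R ⧸ I) (Localization.Away (Ideal.Quotient.mk I f))]
      rfl
    letI : Algebra R Rb' :=
      ((algebraMap (Localization.Away (Ideal.Quotient.mk I f)) Rb').comp
        (algebraMap R (Localization.Away (Ideal.Quotient.mk I f)))).toAlgebra
    haveI : IsScalarTower R (Localization.Away (Ideal.Quotient.mk I f)) Rb' :=
      IsScalarTower.of_algebraMap_eq (fun _ => rfl)
    letI : Algebra (R ⧸ I) Rb' :=
      ((algebraMap (Localization.Away (Ideal.Quotient.mk I f)) Rb').comp
        (algebraMap (R ⧸ I) (Localization.Away (Ideal.Quotient.mk I f)))).toAlgebra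
    haveI : IsScalarTower (R ⧸ I) (Localization.Away (Ideal.Quotient.mk I f)) Rb' :=
      IsScalarTower.of_algebraMap_eq (fun _ => rfl)
    haveI : IsScalarTower R (R ⧸ I) Rb' := by
      apply IsScalarTower.of_algebraMap_eq
      intro r
      change algebraMap (Localization.Away (Ideal.Quotient.mk I f)) Rb'
          (algebraMap R (Localization.Away (Ideal.Quotient.mk I f)) r) =
        algebraMap (Localization.Away (Ideal.Quotient.mk I f)) Rb'
          (algebraMap (R ⧸ I) (Localization.Away (Ideal.Quotient.mk I f)) (algebraMap R (R ⧸ I) r))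
      rw [← IsScalarTower.algebraMap_apply R (R ⧸ I) (Localization.Away (Ideal.Quotient.mk I f))]
    have hD1 : IsDiag Rb' (Rb' ⊗[R ⧸ I] ((R ⧸ I) ⊗[R] A)) :=
      isDiag_of_equiv
        (cancelBC (R ⧸ I) (Localization.Away (Ideal.Quotient.mk I f)) Rb' ((R ⧸ I) ⊗[R] A)).symm hD
    have hD2 : IsDiag Rb' (Rb' ⊗[R] A) :=
      isDiag_of_equiv (cancelBC R (R ⧸ I) Rb' A).symm hD1
    haveI := het
    letI : Algebra (Localization.Away f) Rb' :=
      ((algebraMap (Localization.Away (Ideal.Quotient.mk I f)) Rb').comp
        (algebraMap (Localization.Away f) (Localization.Away (Ideal.Quotient.mk I f)))).toAlgebra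
    haveI : IsScalarTower (Localization.Away f) (Localization.Away (Ideal.Quotient.mk I f)) Rb' :=
      IsScalarTower.of_algebraMap_eq (fun _ => rfl)
    haveI : IsScalarTower R (Localization.Away f) Rb' := by
      apply IsScalarTower.of_algebraMap_eq
      intro r
      change algebraMap (Localization.Away (Ideal.Quotient.mk I f)) Rb'
          (algebraMap R (Localization.Away (Ideal.Quotient.mk I f)) r) =
        algebraMap (Localization.Away (Ideal.Quotient.mk I f)) Rb'
          (algebraMap (Localization.Away f) (Localization.Away (Ideal.Quotient.mk I f))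
            (algebraMap R (Localization.Away f) r))
      rw [← IsScalarTower.algebraMap_apply R (Localization.Away f)
        (Localization.Away (Ideal.Quotient.mk I f))]
    obtain ⟨B', _, _, θ, het', hsurj, hnil, hff', -⟩ :=
      exists_etale_lift_nil (B := Localization.Away f)
        (Bb := Localization.Away (Ideal.Quotient.mk I f)) (awayQuot_surjective I f)
        (nil_ker_awayQuot I hI f) Rb'
    letI : Algebra R B' :=
      ((algebraMap (Localization.Away f) B').comp (algebraMap R (Localization.Away f))).toAlgebra
    haveI : IsScalarTower R (Localization.Away f) B' := IsScalarTower.of_algebraMap_eq (fun _ => rfl)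
    have hD3 : IsDiag B' (B' ⊗[R] A) :=
      isDiag_of_surjective_nil R A h B' Rb' (θ.restrictScalars R) hsurj hnil hD2
    exact ⟨B', inferInstance, inferInstance, het', hff' hff,
      isDiag_of_equiv (cancelBC R (Localization.Away f) B' A) hD3⟩

end Groth.Agent.S2971
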