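import Groth.Statements.S2978

set_option autoImplicit false
universe u
open SGA3b

namespace Groth.Agent.S2978

/-- Let A be a Noetherian ring, M a set and a : M × M → A a family vanishing off the diagonal which is a
finite sum of decomposable families: a(m, m') = Σ_i b_i(m) c_i(m') for finitely many b_i, c_i : M →
A. Then a has finite support. -/
theorem result (A : Type u) [CommRing A] [IsNoetherianRing A] (M : Type u)
    (a : M × M → A) (hdiag : ∀ m m', m ≠ m' → a (m, m') = 0)
    (ι : Type u) [Fintype ι] (b c : ι → M → A) (hdec : ∀ m m', a (m, m') = ∑ i, b i m * c i m') :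
    Set.Finite {p : M × M | a p ≠ 0} := by
  classical
  rcases isEmpty_or_nonempty M with hM | hM
  · exact Set.toFinite _
  let cv : M → (ι → A) := fun m i => c i m
  have hfg : (Submodule.span A (Set.range cv)).FG := IsNoetherian.noetherian _
  obtain ⟨s', hs', hspan⟩ := (Submodule.fg_span_iff_fg_span_finset_subset _).mp hfg
  -- choose preimages
  have hpre : ∀ v ∈ s', ∃ m : M, cv m = v := fun v hv => hs' hv
  choose! pre hpre' using hpre
  let T : Finset M := s'.image pre
  refine Set.Finite.subset (T.finite_toSet.image (fun m => (m, m))) ?_
  rintro ⟨m, m'⟩ hp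
  change a (m, m') ≠ 0 at hp
  have hmm : m = m' := by
    by_contra hne
    exact hp (hdiag m m' hne)
  subst hmm
  by_contra hnot
  have hmT : m ∉ T := by
    intro hmT
    exact hnot ⟨m, hmT, rfl⟩
  apply hp
  have hmem : cv m ∈ Submodule.span A (s' : Set (ι → A)) := by
    rw [← hspan]; exact Submodule.subset_span ⟨m, rfl⟩
  -- linear functional: w ↦ Σ_i b i m * w i vanishes on s'
  let L : (ι → A) →ₗ[A] A :=
    { toFun := fun w => ∑ i, b i m * w i
      map_add' := by intro x y; simp [mul_add, Finset.sum_add_distrib]
      map_smul' := by
        intro r x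
        simp only [Pi.smul_apply, smul_eq_mul, RingHom.id_apply, Finset.mul_sum]
        refine Finset.sum_congr rfl fun i _ => by ring }
  have hL : ∀ v ∈ Submodule.span A (s' : Set (ι → A)), L v = 0 := by
    intro v hv
    induction hv using Submodule.span_induction with
    | mem v hv =>
      have h1 : cv (pre v) = v := hpre' v hv
      have h2 : pre v ≠ m := by
        intro h; apply hmT; rw [← h]; exact Finset.mem_image_of_mem _ hv
      have h3 := hdec m (pre v)
      rw [hdiag m (pre v) (Ne.symm h2)] at h3
      show ∑ i, b i m * v i = 0
      rw [← h1]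
      exact h3.symm
    | zero => exact map_zero L
    | add x y _ _ hx hy => rw [map_add, hx, hy, add_zero]
    | smul r x _ hx => rw [map_smul, hx, smul_zero]
  have := hL _ hmem
  rw [hdec m m]
  exact this

end Groth.Agent.S2978
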