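import Groth.Statements.S3014
-- import your own Groth.Agent.* helpers here
import Mathlib
import Groth.Agent.Lib.Helper26GrpIsoLim

set_option autoImplicit false
universe u
open CategoryTheory MonoidalCategory CartesianMonoidalCategory MonObj GrpObj AlgebraicGeometry
open Red

namespace Groth.Agent.S3014

open Limits Groth.Agent.Lib.Helper26.GrpIsoLim

/-- abstract form: groups which become isomorphic after a base change, compared at two geometric
points lying over each other. -/
theorem key {S S' : Scheme.{u}} (f : S' ⟶ S) (G G' : Over S) [GrpObj G] [GrpObj G']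
    [IsAffineHom G.hom] [Smooth G.hom] [IsAffineHom G'.hom] [Smooth G'.hom]
    (e₀ : Grp.mk (Red.bc f G) ≅ Grp.mk (Red.bc f G'))
    (k K : Type u) [Field k] [IsAlgClosed k] [Field K] (jj : k →+* K)
    (pt : Spec (CommRingCat.of k) ⟶ S) (pt' : Spec (CommRingCat.of K) ⟶ S')
    (hcomm : Spec.map (CommRingCat.ofHom jj) ≫ pt = pt' ≫ f) :
    Nonempty (Grp.mk (Red.bc pt G) ≅ Grp.mk (Red.bc pt G')) := by
  letI := jj.toAlgebra
  have hh : Spec.map (CommRingCat.ofHom jj) = Spec.map (CommRingCat.ofHom (algebraMap k K)) := rfl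
  have e₂ : Grp.mk (Red.bc (pt' ≫ f) G) ≅ Grp.mk (Red.bc (pt' ≫ f) G') :=
    (bcCompGrpIso pt' f rfl G).symm ≪≫ bcMapGrpIso pt' e₀ ≪≫ bcCompGrpIso pt' f rfl G'
  have e₃ : Grp.mk (Red.bc (Spec.map (CommRingCat.ofHom jj)) (Red.bc pt G)) ≅
      Grp.mk (Red.bc (Spec.map (CommRingCat.ofHom jj)) (Red.bc pt G')) :=
    bcCompGrpIso _ pt hcomm G ≪≫ e₂ ≪≫ (bcCompGrpIso _ pt hcomm G').symm
  exact nonempty_grpIso_of_baseChange_field (Red.bc pt G) (Red.bc pt G') _ hh e₃

/-- (i)⇒(ii): Let G and G' be reductive S-groups and f : S' → S a surjective morphism such that the base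
changes of G and G' to S' are isomorphic as group schemes. Then for every s ∈ S the geometric fibres
G_{s̄} and G'_{s̄} are isomorphic. -/
theorem result (S : Scheme.{u}) (G G' : Over S) [GrpObj G] [GrpObj G'] (hG : Red.IsReductive G) (hG' : Red.IsReductive G') (S' : Scheme.{u}) (f : S' ⟶ S) [Surjective f] (hiso : Nonempty (Grp.mk (Red.bc f G) ≅ Grp.mk (Red.bc f G'))) (s : S) : Nonempty (Grp.mk (Red.geomFibre s G) ≅ Grp.mk (Red.geomFibre s G')) := by
  obtain ⟨e₀⟩ := hiso
  obtain ⟨s', rfl⟩ := f.surjective s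
  haveI := hG.1
  haveI := hG.2.1
  haveI := hG'.1
  haveI := hG'.2.1
  letI : Algebra (S.residueField (f s')) (AlgebraicClosure (S'.residueField s')) :=
    ((algebraMap (S'.residueField s') (AlgebraicClosure (S'.residueField s'))).comp
      (f.residueFieldMap s').hom).toAlgebra
  let jj : AlgebraicClosure (S.residueField (f s')) →ₐ[S.residueField (f s')]
      AlgebraicClosure (S'.residueField s') := IsAlgClosed.lift
  refine key f G G' e₀ _ _ jj.toRingHom (Red.geomPt (f s')) (Red.geomPt s') ?_
  show Spec.map (CommRingCat.ofHom jj.toRingHom) ≫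
      Spec.map (CommRingCat.ofHom (algebraMap (S.residueField (f s'))
        (AlgebraicClosure (S.residueField (f s'))))) ≫ S.fromSpecResidueField (f s') =
    (Spec.map (CommRingCat.ofHom (algebraMap (S'.residueField s')
        (AlgebraicClosure (S'.residueField s')))) ≫ S'.fromSpecResidueField s') ≫ f
  rw [Category.assoc, ← Scheme.Hom.SpecMap_residueFieldMap_fromSpecResidueField,
    ← Spec.map_comp_assoc, ← Spec.map_comp_assoc]
  congr 2
  ext x
  exact jj.commutes x

end Groth.Agent.S3014
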