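import Groth.Statements.S3024
import Mathlib
import Groth.Agent.Lib.Helper11SchImage

set_option autoImplicit false
universe u
open CategoryTheory MonoidalCategory CartesianMonoidalCategory MonObj GrpObj AlgebraicGeometry TensorProduct
open SGA3

namespace Groth.Agent.S3024

open Groth.Agent.Lib.Helper11SchImage


/-- Let f : H → G be a quasi-compact homomorphism of group schemes over a field k. Then f factors as a
homomorphism f' : H → H' followed by a homomorphism i : H' → G which is a closed immersion (H' is
the schematic image of f, a closed subgroup scheme of G), with f' schematically dominant,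
quasi-compact and surjective. -/
theorem result (k : Type u) [Field k] (H G : Over (Spec (CommRingCat.of k))) [GrpObj H] [GrpObj G]
    (f : H ⟶ G) [IsMonHom f] [QuasiCompact f.left] :
    ∃ (H' : Over (Spec (CommRingCat.of k))) (_ : GrpObj H') (i : H' ⟶ G) (f' : H ⟶ H'),
      IsMonHom i ∧ IsMonHom f' ∧ f' ≫ i = f ∧ IsClosedImmersion i.left ∧
      f'.left.ker = ⊥ ∧ QuasiCompact f'.left ∧ Surjective f'.left := by
  obtain ⟨i, hi⟩ : ∃ i : Over.mk (f.left.imageι ≫ G.hom) ⟶ G, i = Over.homMk f.left.imageι rfl :=
    ⟨_, rfl⟩
  obtain ⟨f', hf'⟩ : ∃ f' : H ⟶ Over.mk (f.left.imageι ≫ G.hom),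
      f' = Over.homMk f.left.toImage (by
        change f.left.toImage ≫ f.left.imageι ≫ G.hom = H.hom
        rw [Scheme.Hom.toImage_imageι_assoc, Over.w f]) := ⟨_, rfl⟩
  have hgi : f' ≫ i = f := by
    ext1
    rw [hf', hi]
    exact f.left.toImage_imageι
  have hcl : IsClosedImmersion i.left := by
    rw [hi]
    exact inferInstanceAs (IsClosedImmersion f.left.imageι)
  have hdom : IsSchemeTheoreticallyDominant f'.left := by
    rw [hf']
    exact inferInstanceAs (IsSchemeTheoreticallyDominant f.left.toImage)
  have hqc : QuasiCompact f'.left := by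
    rw [hf']
    exact inferInstanceAs (QuasiCompact f.left.toImage)
  obtain ⟨inst, h1, h2, h3⟩ := exists_grpObj_image k H G _ f i f' hgi
  exact ⟨_, inst, i, f', h1, h2, hgi, hcl, hdom.ker_eq_bot, hqc, h3⟩

end Groth.Agent.S3024
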