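import Groth.Statements.S5323
import Groth.Agent.S5328
import Groth.Agent.Lib.Helper25DenseMul
import Groth.Agent.Lib.Helper25TopGrp
import Mathlib

set_option autoImplicit false
universe u
open CategoryTheory CategoryTheory.Limits MonoidalCategory CartesianMonoidalCategory MonObj GrpObj AlgebraicGeometry
open SGA3

namespace Groth.Agent.S5323

open Groth.Agent.Lib.Helper25.IdComp Groth.Agent.Lib.Helper25.IdComp0
open scoped Obj

section
variable {S S' : Scheme.{u}} (t : S' ⟶ S) (G : Over S)

-- the projection from the product of the base change to the product.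
noncomputable def prodProj : (Red.bc t G ⊗ Red.bc t G).left ⟶ (G ⊗ G).left :=
  (Functor.LaxMonoidal.μ (Over.pullback t) G G).left ≫ pullback.fst (G ⊗ G).hom t

lemma prodProj_fst : prodProj t G ≫ (fst G G).left =
    (fst (Red.bc t G) (Red.bc t G)).left ≫ pullback.fst G.hom t := by
  have h1 : ((Over.pullback t).map (fst G G)).left ≫ pullback.fst G.hom t =
      pullback.fst (G ⊗ G).hom t ≫ (fst G G).left := by
    simp only [Over.pullback_map_left]
    rw [pullback.lift_fst]
  have h2 : Functor.LaxMonoidal.μ (Over.pullback t) G G ≫ (Over.pullback t).map (fst G G) =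
      fst _ _ := Functor.Monoidal.μ_fst _ _ _
  rw [prodProj, Category.assoc, ← h1, ← Category.assoc, ← Over.comp_left, h2]

lemma prodProj_snd : prodProj t G ≫ (snd G G).left =
    (snd (Red.bc t G) (Red.bc t G)).left ≫ pullback.fst G.hom t := by
  have h1 : ((Over.pullback t).map (snd G G)).left ≫ pullback.fst G.hom t =
      pullback.fst (G ⊗ G).hom t ≫ (snd G G).left := by
    simp only [Over.pullback_map_left]
    rw [pullback.lift_fst]
  have h2 : Functor.LaxMonoidal.μ (Over.pullback t) G G ≫ (Over.pullback t).map (snd G G) =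
      snd _ _ := Functor.Monoidal.μ_snd _ _ _
  rw [prodProj, Category.assoc, ← h1, ← Category.assoc, ← Over.comp_left, h2]

variable [GrpObj G]

lemma prodProj_mul : prodProj t G ≫ μ[G].left =
    μ[Red.bc t G].left ≫ pullback.fst G.hom t := by
  have h1 : ((Over.pullback t).map μ[G]).left ≫ pullback.fst G.hom t =
      pullback.fst (G ⊗ G).hom t ≫ μ[G].left := by
    simp only [Over.pullback_map_left]
    rw [pullback.lift_fst]
  have h2 : μ[Red.bc t G] = Functor.LaxMonoidal.μ (Over.pullback t) G G ≫
      (Over.pullback t).map μ[G] := rfl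
  rw [prodProj, Category.assoc, ← h1, ← Category.assoc, ← Over.comp_left, ← h2]

lemma one_bc_fst : η[Red.bc t G].left ≫ pullback.fst G.hom t = t ≫ η[G].left := by
  have h1 : η[Red.bc t G] = Functor.LaxMonoidal.ε (Over.pullback t) ≫ (Over.pullback t).map η[G] := rfl
  rw [h1, Over.comp_left, Category.assoc]
  simp only [Over.pullback_map_left]
  rw [pullback.lift_fst]
  have h2 := Over.w (Functor.LaxMonoidal.ε (Over.pullback t))
  have h3 : (Functor.LaxMonoidal.ε (Over.pullback t)).left ≫
      pullback.fst (𝟙_ (Over S)).hom t = t := by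
    have hc := pullback.condition (f := (𝟙_ (Over S)).hom) (g := t)
    have h4 : pullback.fst (𝟙_ (Over S)).hom t = pullback.snd (𝟙_ (Over S)).hom t ≫ t := by
      rw [← hc]
      exact (Category.comp_id _).symm
    rw [h4, ← Category.assoc]
    have h5 : (Functor.LaxMonoidal.ε (Over.pullback t)).left ≫
        pullback.snd (𝟙_ (Over S)).hom t = 𝟙 _ := h2
    rw [h5, Category.id_comp]
  rw [← Category.assoc, h3]

end

-- version without the hypothesis on the fibres
theorem exists_compact_open (S : Scheme.{u}) [CompactSpace S] [QuasiSeparatedSpace S]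
    (G : Over S) [GrpObj G] :
    ∃ U : G.left.Opens, IsCompact (U : Set G.left) ∧ SGA3x.neutralSet G ⊆ U := by
  -- a compact open neighbourhood of the unit section
  have hZ : IsCompact (Set.range η[G].left) := by
    have : CompactSpace (𝟙_ (Over S)).left := inferInstanceAs (CompactSpace S)
    exact isCompact_range η[G].left.continuous
  obtain ⟨W, hWc, hZW, -⟩ := exists_isCompact_opens_between (Set.range η[G].left) Set.univ hZ
    isOpen_univ (Set.subset_univ _)
  have hB := Groth.Agent.Lib.Helper25.TopGrp.isCompact_fst_preimage_inter_snd_preimage (G := G)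
    W W hWc hWc
  have hK := hB.image μ[G].left.continuous
  obtain ⟨U, hUc, hKU, -⟩ := exists_isCompact_opens_between _ Set.univ hK
    isOpen_univ (Set.subset_univ _)
  refine ⟨U, hUc, fun x hx => hKU ?_⟩
  -- the fibre through `x`
  let s : S := G.hom x
  let t := S.fromSpecResidueField s
  obtain ⟨z, hz⟩ : ∃ z : (Red.bc t G).left, pullback.fst G.hom t z = x := by
    have : x ∈ Set.range (G.hom.fiberι s) := by
      rw [Scheme.Hom.range_fiberι]
      rfl
    exact this
  rw [← hz, Groth.Agent.S5328.mem_neutralSet_iff] at hx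
  let Gs : Over (Spec (CommRingCat.of (S.residueField s))) := Red.bc t G
  obtain ⟨_, hmon⟩ := exists_grpObj_G0 (k := S.residueField s) Gs
  have hr := range_G0incl_left (k := S.residueField s) Gs
  obtain ⟨z₀, hz₀⟩ : z ∈ Set.range (G0incl (k := S.residueField s) Gs).left := by
    rw [hr]; exact hx
  obtain ⟨e₀, he₀⟩ : ePt (k := S.residueField s) Gs ∈ Set.range (G0incl (k := S.residueField s) Gs).left := by
    rw [hr]; exact mem_connectedComponent
  let i := G0incl (k := S.residueField s) Gs
  let q : (G0 (k := S.residueField s) Gs).left ⟶ G.left := i.left ≫ pullback.fst G.hom t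
  let W₀ : (G0 (k := S.residueField s) Gs).left.Opens := q ⁻¹ᵁ W
  have he₀W : e₀ ∈ W₀ := by
    change q e₀ ∈ W
    apply hZW
    change (pullback.fst G.hom t) (i.left e₀) ∈ _
    rw [he₀, ePt, ← Scheme.Hom.comp_apply, one_bc_fst, Scheme.Hom.comp_apply]
    exact ⟨_, rfl⟩
  have hd : Dense (W₀ : Set (G0 (k := S.residueField s) Gs).left) :=
    W₀.isOpen.dense ⟨e₀, he₀W⟩
  obtain ⟨w, hw1, hw2, hw3⟩ := Groth.Agent.Lib.Helper25.DenseMul.exists_mul_eq (S.residueField s)
    (G0 (k := S.residueField s) Gs) W₀ W₀ hd hd z₀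
  refine ⟨prodProj t G ((i ⊗ₘ i).left w), ⟨?_, ?_⟩, ?_⟩
  · change (prodProj t G ≫ (fst G G).left) ((i ⊗ₘ i).left w) ∈ W
    rw [prodProj_fst, Scheme.Hom.comp_apply, ← Scheme.Hom.comp_apply (i ⊗ₘ i).left,
      ← Over.comp_left, tensorHom_fst]
    exact hw1
  · change (prodProj t G ≫ (snd G G).left) ((i ⊗ₘ i).left w) ∈ W
    rw [prodProj_snd, Scheme.Hom.comp_apply, ← Scheme.Hom.comp_apply (i ⊗ₘ i).left,
      ← Over.comp_left, tensorHom_snd]
    exact hw2
  · change (prodProj t G ≫ μ[G].left) ((i ⊗ₘ i).left w) = _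
    rw [prodProj_mul, Scheme.Hom.comp_apply, ← Scheme.Hom.comp_apply (i ⊗ₘ i).left,
      ← Over.comp_left]
    have hm : (i ⊗ₘ i) ≫ μ[Gs] = μ[G0 (k := S.residueField s) Gs] ≫ i := (IsMonHom.mul_hom i).symm
    change (pullback.fst G.hom t) (((i ⊗ₘ i) ≫ μ[Gs]).left w) = _
    rw [hm, Over.comp_left, Scheme.Hom.comp_apply, hw3, hz₀, hz]

/-- Let S be a quasi-compact quasi-separated scheme and G an S-group scheme whose fibres G_s are locally
of finite type over κ(s). Then there is a quasi-compact open subset of G containing the union of the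
neutral components of the fibres G_s. -/
theorem result (S : Scheme.{u}) [CompactSpace S] [QuasiSeparatedSpace S]
    (G : Over S) [GrpObj G] (hG : ∀ s : S, LocallyOfFiniteType (G.hom.fiberToSpecResidueField s)) :
    ∃ U : G.left.Opens, IsCompact (U : Set G.left) ∧ SGA3x.neutralSet G ⊆ U := by
  exact exists_compact_open S G

end Groth.Agent.S5323
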