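import Groth.Statements.S5324
import Groth.Agent.S5323
import Mathlib

set_option autoImplicit false
universe u
open CategoryTheory CategoryTheory.Limits MonoidalCategory CartesianMonoidalCategory MonObj GrpObj AlgebraicGeometry
open SGA3

namespace Groth.Agent.S5324

open scoped Obj

/-- Let G be an S-group scheme whose fibres G_s are locally of finite type over κ(s) and connected. Then
G is quasi-compact over S. -/
theorem result (S : Scheme.{u}) (G : Over S) [GrpObj G]
    (hG : ∀ s : S, LocallyOfFiniteType (G.hom.fiberToSpecResidueField s))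
    (hconn : ∀ s : S, _root_.IsConnected (G.hom.base ⁻¹' {s})) : QuasiCompact G.hom := by
  have hN : SGA3x.neutralSet G = Set.univ := by
    rw [Set.eq_univ_iff_forall]
    intro x
    simp only [SGA3x.neutralSet, Set.mem_iUnion]
    refine ⟨(G.hom x : S), ?_⟩
    have h1 : (𝟙_ (Over S)).hom.base (G.hom x : S) = G.hom x := rfl
    rw [h1]
    have hη : η[G].left.base (G.hom x : S) ∈ G.hom.base ⁻¹' {G.hom x} := by
      change (η[G].left ≫ G.hom) (G.hom x : S) = G.hom x
      rw [Over.w η[G]]
      rfl
    rw [(hconn (G.hom x)).isPreconnected.connectedComponentIn hη]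
    rfl
  rw [quasiCompact_iff_forall_isAffineOpen]
  intro V hV
  have : IsAffine (V : Scheme.{u}) := hV
  obtain ⟨U, hUc, hU⟩ := Groth.Agent.S5323.exists_compact_open (V : Scheme.{u}) (Red.bc V.ι G)
  rw [Groth.Agent.S5322.result, hN, Set.preimage_univ] at hU
  have hUc' : IsCompact (Set.univ : Set (Red.bc V.ι G).left) :=
    hUc.of_isClosed_subset isClosed_univ hU
  have h2 := hUc'.image (pullback.fst G.hom V.ι).continuous
  rw [Set.image_univ, Scheme.Pullback.range_fst, Scheme.Opens.range_ι] at h2
  exact h2

end Groth.Agent.S5324
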