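import Groth.Statements.S3025
import Groth.Agent.S5324
import Groth.Agent.Lib.Helper8Grp
import Mathlib

set_option autoImplicit false
universe u
open CategoryTheory MonoidalCategory CartesianMonoidalCategory MonObj GrpObj AlgebraicGeometry TensorProduct
open SGA3

namespace Groth.Agent.S3025

open Groth.Agent.Lib.Helper25.IdComp Groth.Agent.Lib.Helper25.TopGrp Groth.Agent.Lib.Helper8
open CategoryTheory.Limits
open scoped Obj

section
variable {S : Scheme.{u}} (G : Over S) [GrpObj G]

-- the division morphism `(a, b) ↦ a⁻¹ b`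
noncomputable def dv : G ⊗ G ⟶ G := (fst G G)⁻¹ * snd G G

lemma shearInv_snd : (shearIso G).inv ≫ snd G G = dv G := by
  simp only [shearIso, dv]
  rw [lift_snd]

-- the diagonal is the preimage of the unit section under division
lemma range_diag : Set.range (pullback.diagonal G.hom) = (dv G).left ⁻¹' Set.range η[G].left := by
  rw [← diag_left, diag_eq]
  have h1 : IsIso (ρ_ G).inv.left := inferInstanceAs (IsIso ((Over.forget S).map (ρ_ G).inv))
  have h2 : ((ρ_ G).inv ≫ (G ◁ η[G]) ≫ (shearIso G).hom).left =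
      (ρ_ G).inv.left ≫ ((G ◁ η[G]).left ≫ (shearIso G).hom.left) := rfl
  rw [h2, Scheme.Hom.comp_base, TopCat.coe_comp, Set.range_comp,
    Set.range_eq_univ.mpr (ρ_ G).inv.left.surjective, Set.image_univ, Scheme.Hom.comp_base,
    TopCat.coe_comp, Set.range_comp]
  change (shearIso G).hom.left '' Set.range (G ◁ η[G]).left = _
  rw [range_whiskerLeft, ← shearInv_snd]
  ext z
  constructor
  · rintro ⟨w, hw, rfl⟩
    change ((shearIso G).hom ≫ (shearIso G).inv ≫ snd G G).left w ∈ Set.range η[G].left
    rw [Iso.hom_inv_id_assoc]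
    exact hw
  · intro hz
    refine ⟨(shearIso G).inv.left z, hz, ?_⟩
    change ((shearIso G).inv ≫ (shearIso G).hom).left z = z
    rw [Iso.inv_hom_id]
    rfl

lemma isOpenMap_dv [UniversallyOpen G.hom] : IsOpenMap (dv G).left := by
  rw [← shearInv_snd, Over.comp_left]
  have h2 : IsIso (shearIso G).inv.left :=
    inferInstanceAs (IsIso ((Over.forget S).map (shearIso G).inv))
  have h3 : IsOpenMap (snd G G).left := by
    rw [Over.snd_left]
    exact (pullback.snd G.hom G.hom).isOpenMap
  exact h3.comp (shearIso G).inv.left.isOpenEmbedding.isOpenMap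

-- the twist `(a, b) ↦ (a⁻¹, b)`
noncomputable def tw : G ⊗ G ⟶ G ⊗ G := lift ((fst G G)⁻¹) (snd G G)

lemma tw_fst : tw G ≫ fst G G = fst G G ≫ ι[G] := by
  rw [tw, lift_fst, Hom.inv_def]

lemma tw_snd : tw G ≫ snd G G = snd G G := lift_snd _ _

lemma tw_dv : tw G ≫ dv G = μ[G] := by
  rw [dv, MonObj.comp_mul, GrpObj.comp_inv, tw, lift_fst, lift_snd, _root_.inv_inv, Hom.mul_def,
    lift_fst_snd, Category.id_comp]

lemma one_inv_left (p : (𝟙_ (Over S)).left) : ι[G].left (η[G].left p) = η[G].left p := by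
  have h0 : (η[G] : 𝟙_ (Over S) ⟶ G) = 1 := MonObj.one_eq_one G
  have h : η[G] ≫ ι[G] = η[G] := by
    rw [← Hom.inv_def, h0, _root_.inv_one]
  rw [← Scheme.Hom.comp_apply, ← Over.comp_left, h]

end

/-- Let S be a scheme and G a group scheme over S which is locally of finite presentation and
universally open over S and whose fibres are connected. Then G is separated and quasi-compact (hence
of finite presentation) over S. -/
theorem result (S : Scheme.{u}) (G : Over S) [GrpObj G]
    [LocallyOfFinitePresentation G.hom] [UniversallyOpen G.hom]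
    (hconn : ∀ s : S, _root_.IsConnected (G.hom.base ⁻¹' {s})) :
    IsSeparated G.hom ∧ QuasiCompact G.hom := by
  refine ⟨?_, Groth.Agent.S5324.result S G (fun s => ?_) hconn⟩
  swap
  · exact inferInstanceAs (LocallyOfFiniteType (pullback.snd G.hom (S.fromSpecResidueField s)))
  -- the unit section is a closed immersion
  have hηw : η[G].left ≫ G.hom = 𝟙 S := Over.w η[G]
  haveI : IsImmersion η[G].left := by
    haveI : IsImmersion (η[G].left ≫ G.hom) := by
      rw [hηw]; exact inferInstanceAs (IsImmersion (𝟙 S))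
    exact IsImmersion.of_comp η[G].left G.hom
  suffices hcl : IsClosed (Set.range η[G].left) by
    haveI : IsClosedImmersion η[G].left := IsClosedImmersion.of_isPreimmersion _ hcl
    exact isSeparated_of_isClosedImmersion_one G
  rw [← isOpen_compl_iff, isOpen_iff_forall_mem_open]
  intro g hg
  let s : S := G.hom g
  let t := S.fromSpecResidueField s
  -- an affine open neighbourhood of the unit point of the fibre
  obtain ⟨_, ⟨(W₁ : G.left.Opens), hW₁, rfl⟩, hsW₁, -⟩ :=
    (G.left.isBasis_affineOpens).exists_subset_of_mem_open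
      (Set.mem_univ (η[G].left (s : (𝟙_ (Over S)).left))) isOpen_univ
  have hW₁aff : IsAffineOpen W₁ := hW₁
  haveI : IsAffine (W₁ : Scheme.{u}) := hW₁aff
  let j : (W₁ : Scheme.{u}) ⟶ S := W₁.ι ≫ G.hom
  let κ : pullback j j ⟶ pullback G.hom G.hom :=
    pullback.map j j G.hom G.hom W₁.ι W₁.ι (𝟙 S) (by simp [j]) (by simp [j])
  haveI : IsOpenImmersion κ := inferInstance
  have hκrange : Set.range κ = (fst G G).left ⁻¹' (W₁ : Set G.left) ∩
      (snd G G).left ⁻¹' (W₁ : Set G.left) := by
    have := Scheme.Pullback.range_map j j G.hom G.hom W₁.ι W₁.ι (𝟙 S) (by simp [j]) (by simp [j])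
    rw [Scheme.Opens.range_ι] at this
    rw [Over.fst_left, Over.snd_left]
    exact this
  have hΔ : pullback.diagonal j ≫ κ = W₁.ι ≫ pullback.diagonal G.hom := by
    apply pullback.hom_ext
    · simp only [κ, pullback.map, Category.assoc, pullback.lift_fst, pullback.diagonal_fst_assoc,
        pullback.diagonal_fst, Category.comp_id]
    · simp only [κ, pullback.map, Category.assoc, pullback.lift_snd, pullback.diagonal_snd_assoc,
        pullback.diagonal_snd, Category.comp_id]
  -- the open set `N`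
  let N : Set (G ⊗ G).left := κ '' (Set.range (pullback.diagonal j))ᶜ
  have hNopen : IsOpen N :=
    κ.isOpenEmbedding.isOpenMap _ (pullback.diagonal j).isClosedEmbedding.isClosed_range.isOpen_compl
  have hNdisj : ∀ z ∈ N, (dv G).left z ∉ Set.range η[G].left := by
    rintro _ ⟨q, hq, rfl⟩ hz
    apply hq
    have h1 : κ q ∈ Set.range (pullback.diagonal G.hom) := by
      rw [range_diag]; exact hz
    obtain ⟨x, hx⟩ := h1
    have hxW : x ∈ W₁ := by
      have h2 : (fst G G).left (κ q) ∈ (W₁ : Set G.left) := by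
        have : κ q ∈ Set.range κ := ⟨q, rfl⟩
        rw [hκrange] at this
        exact this.1
      rw [← hx, Over.fst_left, ← Scheme.Hom.comp_apply, pullback.diagonal_fst] at h2
      exact h2
    refine ⟨⟨x, hxW⟩, ?_⟩
    apply κ.isOpenEmbedding.injective
    rw [← Scheme.Hom.comp_apply, hΔ, Scheme.Hom.comp_apply]
    exact hx
  refine ⟨(dv G).left '' N, ?_, isOpenMap_dv G N hNopen, ?_⟩
  · rintro _ ⟨z, hz, rfl⟩
    exact hNdisj z hz
  -- `g` is a quotient of two points of `W₁`
  let Gs : Over (Spec (CommRingCat.of (S.residueField s))) := Red.bc t G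
  haveI : ConnectedSpace Gs.left := by
    have h1 : ConnectedSpace (G.hom.base ⁻¹' {s}) := isConnected_iff_connectedSpace.mp (hconn s)
    exact (G.hom.fiberHomeo s).symm.surjective.connectedSpace (G.hom.fiberHomeo s).symm.continuous
  haveI : IrreducibleSpace Gs.left := irreducibleSpace_of_connectedSpace (k := S.residueField s) Gs
  let p : Gs.left ⟶ G.left := pullback.fst G.hom t
  obtain ⟨g', hg'⟩ : ∃ z : Gs.left, p z = g := by
    have : g ∈ Set.range (G.hom.fiberι s) := by
      rw [Scheme.Hom.range_fiberι]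
      rfl
    exact this
  have hpe : p (ePt (k := S.residueField s) Gs) = η[G].left (s : (𝟙_ (Over S)).left) := by
    rw [ePt, ← Scheme.Hom.comp_apply, Groth.Agent.S5323.one_bc_fst, Scheme.Hom.comp_apply]
    congr 1
    exact Scheme.fromSpecResidueField_apply _ _
  let V : Gs.left.Opens := p ⁻¹ᵁ W₁
  let U : Gs.left.Opens := p ⁻¹ᵁ (ι[G].left ⁻¹ᵁ W₁)
  have hVd : Dense (V : Set Gs.left) := by
    refine V.isOpen.dense ⟨ePt (k := S.residueField s) Gs, ?_⟩
    change p _ ∈ W₁
    rw [hpe]; exact hsW₁
  have hUd : Dense (U : Set Gs.left) := by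
    refine U.isOpen.dense ⟨ePt (k := S.residueField s) Gs, ?_⟩
    change ι[G].left (p _) ∈ W₁
    rw [hpe, one_inv_left]; exact hsW₁
  obtain ⟨z', hz1, hz2, hz3⟩ := Groth.Agent.Lib.Helper25.DenseMul.exists_mul_eq (S.residueField s)
    Gs U V hUd hVd g'
  let z₀ : (G ⊗ G).left := Groth.Agent.S5323.prodProj t G z'
  have h1 : ι[G].left ((fst G G).left z₀) ∈ W₁ := by
    change ι[G].left ((Groth.Agent.S5323.prodProj t G ≫ (fst G G).left) z') ∈ W₁
    rw [Groth.Agent.S5323.prodProj_fst]
    exact hz1
  have h2 : (snd G G).left z₀ ∈ W₁ := by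
    change (Groth.Agent.S5323.prodProj t G ≫ (snd G G).left) z' ∈ W₁
    rw [Groth.Agent.S5323.prodProj_snd]
    exact hz2
  have h3 : μ[G].left z₀ = g := by
    change (Groth.Agent.S5323.prodProj t G ≫ μ[G].left) z' = g
    rw [Groth.Agent.S5323.prodProj_mul, Scheme.Hom.comp_apply, hz3]
    exact hg'
  let z : (G ⊗ G).left := (tw G).left z₀
  have hzκ : z ∈ Set.range κ := by
    rw [hκrange]
    constructor
    · change (tw G ≫ fst G G).left z₀ ∈ W₁
      rw [tw_fst]
      exact h1
    · change (tw G ≫ snd G G).left z₀ ∈ W₁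
      rw [tw_snd]
      exact h2
  have hzg : (dv G).left z = g := by
    change (tw G ≫ dv G).left z₀ = g
    rw [tw_dv]
    exact h3
  obtain ⟨q, hq⟩ := hzκ
  refine ⟨z, ⟨q, ?_, hq⟩, hzg⟩
  intro hqΔ
  apply hg
  obtain ⟨x, hx⟩ := hqΔ
  have h5 : κ q ∈ Set.range (pullback.diagonal G.hom) := by
    rw [← hx, ← Scheme.Hom.comp_apply, hΔ, Scheme.Hom.comp_apply]
    exact ⟨_, rfl⟩
  rw [range_diag] at h5
  rw [← hzg, ← hq]
  exact h5

end Groth.Agent.S3025
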