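import Groth.Statements.S3035
import Groth.Agent.Lib.Helper3GrpRedD
import Mathlib

set_option autoImplicit false
universe u
open CategoryTheory MonoidalCategory CartesianMonoidalCategory MonObj GrpObj AlgebraicGeometry TensorProduct
open SGA3

namespace Groth.Agent.S3035

open CategoryTheory.Limits Groth.Agent.Lib.Helper3.GrpRed Groth.Agent.Lib.Helper3.GrpKer in
-- a homomorphism of group schemes over a one-point base is separated
theorem isSeparated_hom {S : Scheme.{u}} [Subsingleton S] {G H : Over S} [GrpObj G] [GrpObj H]
    (u : G ⟶ H) [IsMonHom u] : IsSeparated u.left := by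
  obtain ⟨N, iN, hN, -⟩ := exists_kernel u
  have hT := (isPullback_torsor' u iN hN).map (Over.forget _)
  simp only [Over.forget_obj, Over.forget_map] at hT
  have hw : η[G] ≫ u = toUnit (𝟙_ (Over S)) ≫ η[H] := by
    rw [IsMonHom.one_hom, toUnit_unique (toUnit (𝟙_ (Over S))) (𝟙 _), Category.id_comp]
  let e1 : 𝟙_ (Over S) ⟶ N := hN.lift η[G] (toUnit _) hw
  have he1 : e1 ≫ iN = η[G] := hN.lift_fst _ _ _
  let σ : G ⟶ G ⊗ N := lift (𝟙 G) (toUnit G ≫ e1)
  have hσ := (isPullback_lift_const G e1).map (Over.forget _)
  simp only [Over.forget_obj, Over.forget_map] at hσ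
  haveI : IsClosedImmersion e1.left :=
    isClosedImmersion_of_comp_eq_id (Y := S) N.hom e1.left (Over.w e1)
  haveI : IsClosedImmersion σ.left :=
    MorphismProperty.of_isPullback (P := @IsClosedImmersion) hσ.flip inferInstance
  have h1 : σ ≫ fst G N = 𝟙 G := lift_fst _ _
  have h2 : σ ≫ (fst G N * (snd G N ≫ iN)) = 𝟙 G := by
    rw [MonObj.comp_mul, h1, ← Category.assoc, lift_snd, Category.assoc, he1,
      ← Hom.one_def, _root_.mul_one]
  have hd : σ.left ≫ hT.isoPullback.hom = pullback.diagonal u.left := by
    apply pullback.hom_ext
    · rw [Category.assoc, IsPullback.isoPullback_hom_fst, pullback.diagonal_fst, ← Over.comp_left,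
        h1]
      rfl
    · rw [Category.assoc, IsPullback.isoPullback_hom_snd, pullback.diagonal_snd, ← Over.comp_left,
        h2]
      rfl
  refine ⟨?_⟩
  rw [← hd]
  infer_instance

/-- (i) ⟺ (iii): let A be a local artinian ring and u : G → H a quasi-compact homomorphism between group
schemes locally of finite type over A. Then u is proper if and only if the kernel of u (the fibre of
u over the unit section) is proper over A. -/
theorem result (A : Type u) [CommRing A] [IsArtinianRing A] [IsLocalRing A]
    (G H : Over (Spec (CommRingCat.of A))) [GrpObj G] [GrpObj H] [LocallyOfFiniteType G.hom] [LocallyOfFiniteType H.hom]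
    (u : G ⟶ H) [IsMonHom u] [QuasiCompact u.left] :
    IsProper u.left ↔ IsProper (Limits.pullback.snd u.left (η[H] : 𝟙_ (Over (Spec (CommRingCat.of A))) ⟶ H).left) := by
  classical
  constructor
  · intro h
    infer_instance
  · intro hker
    obtain ⟨N, iN, hN, e, he⟩ := Groth.Agent.Lib.Helper3.GrpRed.exists_kernel u
    haveI : IsProper N.hom := by rw [he]; infer_instance
    haveI : LocallyOfFiniteType (u.left ≫ H.hom) := by rw [Over.w u]; infer_instance
    haveI : LocallyOfFiniteType u.left := locallyOfFiniteType_of_comp u.left H.hom
    haveI : Subsingleton ↥(Spec (CommRingCat.of A)) :=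
      ⟨Groth.Agent.Lib.Helper11Homog.spec_subsingleton_of_artinian_local A⟩
    haveI : IsSeparated u.left := isSeparated_hom u
    haveI : UniversallyClosed u.left := by
      let K := AlgebraicClosure (IsLocalRing.ResidueField A)
      let φ : A →+* K := (algebraMap (IsLocalRing.ResidueField A) K).comp (IsLocalRing.residue A)
      let t : Spec (CommRingCat.of K) ⟶ Spec (CommRingCat.of A) := Spec.map (CommRingCat.ofHom φ)
      have hφ : φ.IsIntegral :=
        RingHom.IsIntegral.trans _ _
          (RingHom.isIntegral_of_surjective _ IsLocalRing.residue_surjective)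
          (algebraMap_isIntegral_iff.mpr inferInstance)
      haveI : IsIntegralHom t := IsIntegralHom.SpecMap_iff.mpr hφ
      haveI : Surjective t := by
        refine ⟨fun x => ?_⟩
        obtain ⟨y⟩ : Nonempty (Spec (CommRingCat.of K)) := inferInstance
        exact ⟨y, Subsingleton.elim _ _⟩
      let GK := Red.bc t G
      let HK := Red.bc t H
      let uK : GK ⟶ HK := (Over.pullback t).map u
      haveI : IsMonHom uK := inferInstanceAs (IsMonHom ((Over.pullback t).map u))
      haveI : LocallyOfFiniteType GK.hom :=
        inferInstanceAs (LocallyOfFiniteType (Limits.pullback.snd G.hom t))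
      haveI : LocallyOfFiniteType HK.hom :=
        inferInstanceAs (LocallyOfFiniteType (Limits.pullback.snd H.hom t))
      have hsq := Groth.Agent.Lib.Helper3.GrpHomQF.isPullback_overPullback_map G H u t
      haveI : QuasiCompact uK.left :=
        MorphismProperty.of_isPullback (P := @QuasiCompact) hsq inferInstance
      have hNK := Groth.Agent.Lib.Helper3.GrpRed.isPullback_ker_bc t u iN hN
      haveI : IsProper ((Over.pullback t).obj N).hom :=
        inferInstanceAs (IsProper (Limits.pullback.snd N.hom t))
      haveI : UniversallyClosed uK.left :=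
        Groth.Agent.Lib.Helper3.GrpRed.universallyClosed_of_isProper_ker_perfect GK HK uK _ hNK
      haveI : UniversallyClosed (Limits.pullback.fst G.hom t ≫ u.left) := by
        rw [hsq.w]
        infer_instance
      exact UniversallyClosed.of_comp_surjective (Limits.pullback.fst G.hom t) u.left
    exact {}

end Groth.Agent.S3035
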