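import Groth.Statements.S3036
import Groth.Agent.S3035
import Mathlib

set_option autoImplicit false
universe u
open CategoryTheory MonoidalCategory CartesianMonoidalCategory MonObj GrpObj AlgebraicGeometry TensorProduct
open SGA3

namespace Groth.Agent.S3036

/-- Let A be a local artinian ring and u : G → H a homomorphism between group schemes locally of finite
type over A which is a quasi-compact monomorphism. Then u is a closed immersion. -/
theorem result (A : Type u) [CommRing A] [IsArtinianRing A] [IsLocalRing A]
    (G H : Over (Spec (CommRingCat.of A))) [GrpObj G] [GrpObj H] [LocallyOfFiniteType G.hom] [LocallyOfFiniteType H.hom]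
    (u : G ⟶ H) [IsMonHom u] [Mono u] [QuasiCompact u.left] : IsClosedImmersion u.left := by
  haveI : Mono u.left := inferInstance
  rw [IsClosedImmersion.iff_isProper_and_mono]
  refine ⟨?_, inferInstance⟩
  rw [Groth.Agent.S3035.result A G H u]
  haveI : Mono (Limits.pullback.snd u.left (η[H] : 𝟙_ (Over (Spec (CommRingCat.of A))) ⟶ H).left) :=
    inferInstance
  have hw : η[G].left ≫ u.left = 𝟙 _ ≫ η[H].left := by
    rw [← Over.comp_left, IsMonHom.one_hom, Category.id_comp]
  have hs : Limits.pullback.lift η[G].left (𝟙 _) hw ≫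
      Limits.pullback.snd u.left (η[H] : 𝟙_ (Over (Spec (CommRingCat.of A))) ⟶ H).left = 𝟙 _ :=
    Limits.pullback.lift_snd _ _ _
  haveI : IsSplitEpi (Limits.pullback.snd u.left (η[H] : 𝟙_ (Over (Spec (CommRingCat.of A))) ⟶ H).left) :=
    ⟨⟨⟨_, hs⟩⟩⟩
  haveI : IsIso (Limits.pullback.snd u.left (η[H] : 𝟙_ (Over (Spec (CommRingCat.of A))) ⟶ H).left) :=
    isIso_of_mono_of_isSplitEpi _
  infer_instance

end Groth.Agent.S3036
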