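import Groth.Statements.S3037
import Groth.Agent.S3035
import Mathlib

set_option autoImplicit false
universe u
open CategoryTheory MonoidalCategory CartesianMonoidalCategory MonObj GrpObj AlgebraicGeometry TensorProduct
open SGA3

namespace Groth.Agent.S3037

open CategoryTheory.Limits Groth.Agent.Lib.Helper3.GrpRed Groth.Agent.Lib.Helper3.GrpKer in
-- a homomorphism locally of finite type with quasi-compact locally quasi-finite kernel has finite fibres
theorem locallyQuasiFinite_hom {S : Scheme.{u}} {G H : Over S} [GrpObj G] [GrpObj H]
    (u : G ⟶ H) [IsMonHom u] [LocallyOfFiniteType u.left]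
    [LocallyQuasiFinite (pullback.snd u.left η[H].left)] [QuasiCompact (pullback.snd u.left η[H].left)] :
    LocallyQuasiFinite u.left := by
  obtain ⟨N, iN, hN, e, he⟩ := exists_kernel u
  haveI : LocallyQuasiFinite N.hom := by rw [he]; infer_instance
  haveI : QuasiCompact N.hom := by rw [he]; infer_instance
  have hT := (isPullback_torsor' u iN hN).map (Over.forget _)
  simp only [Over.forget_obj, Over.forget_map] at hT
  haveI : LocallyQuasiFinite (fst G N).left := by rw [Over.fst_left]; infer_instance
  haveI : QuasiCompact (fst G N).left := by rw [Over.fst_left]; infer_instance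
  refine LocallyQuasiFinite.of_finite_preimage_singleton u.left (fun y => ?_)
  by_cases hy : ∃ x, u.left x = y
  · obtain ⟨x, rfl⟩ := hy
    have hfin := (fst G N).left.finite_preimage_singleton x
    refine (hfin.image (fst G N * (snd G N ≫ iN)).left).subset ?_
    intro x' hx'
    obtain ⟨z, hz1, hz2⟩ := Scheme.exists_preimage_of_isPullback hT x x'
      (by rw [Set.mem_preimage, Set.mem_singleton_iff] at hx'; exact hx'.symm)
    exact ⟨z, hz1, hz2⟩
  · have : u.left ⁻¹' {y} = ∅ := by
      ext x
      simp only [Set.mem_preimage, Set.mem_singleton_iff, Set.mem_empty_iff_false, iff_false]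
      exact fun h => hy ⟨x, h⟩
    rw [this]
    exact Set.finite_empty

/-- (iii) ⟺ (v): let A be a local artinian ring and u : G → H a quasi-compact homomorphism between group
schemes locally of finite type over A. Then u is finite if and only if the kernel of u (the fibre of
u over the unit section) is a discrete space. -/
theorem result (A : Type u) [CommRing A] [IsArtinianRing A] [IsLocalRing A]
    (G H : Over (Spec (CommRingCat.of A))) [GrpObj G] [GrpObj H] [LocallyOfFiniteType G.hom] [LocallyOfFiniteType H.hom]
    (u : G ⟶ H) [IsMonHom u] [QuasiCompact u.left] :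
    IsFinite u.left ↔ DiscreteTopology ↥(Limits.pullback u.left (η[H] : 𝟙_ (Over (Spec (CommRingCat.of A))) ⟶ H).left) := by
  haveI : Subsingleton ↥(Spec (CommRingCat.of A)) :=
    ⟨Groth.Agent.Lib.Helper11Homog.spec_subsingleton_of_artinian_local A⟩
  have huniv : ∀ x : ↥(Spec (CommRingCat.of A)),
      (Limits.pullback.snd u.left (η[H] : 𝟙_ (Over (Spec (CommRingCat.of A))) ⟶ H).left) ⁻¹' {x} =
        Set.univ := by
    intro x
    ext z
    simp only [Set.mem_preimage, Set.mem_singleton_iff, Set.mem_univ, iff_true]
    exact Subsingleton.elim (α := ↥(Spec (CommRingCat.of A))) _ _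
  constructor
  · intro h
    obtain ⟨x₀⟩ : Nonempty ↥(Spec (CommRingCat.of A)) := inferInstance
    have hd := (Limits.pullback.snd u.left
      (η[H] : 𝟙_ (Over (Spec (CommRingCat.of A))) ⟶ H).left).isDiscrete_preimage_singleton x₀
    rw [huniv x₀, isDiscrete_univ_iff] at hd
    exact hd
  · intro hdisc
    haveI : LocallyOfFiniteType (u.left ≫ H.hom) := by rw [Over.w u]; infer_instance
    haveI : LocallyOfFiniteType u.left := locallyOfFiniteType_of_comp u.left H.hom
    haveI : LocallyQuasiFinite (Limits.pullback.snd u.left
        (η[H] : 𝟙_ (Over (Spec (CommRingCat.of A))) ⟶ H).left) := by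
      rw [locallyQuasiFinite_iff_isDiscrete_preimage_singleton]
      intro x
      rw [huniv x, isDiscrete_univ_iff]
      exact hdisc
    haveI : IsLocallyArtinian (Spec (CommRingCat.of A)) := by
      rw [Scheme.isLocallyArtinianScheme_Spec]
      infer_instance
    haveI : IsLocallyArtinian (𝟙_ (Over (Spec (CommRingCat.of A)))).left :=
      inferInstanceAs (IsLocallyArtinian (Spec (CommRingCat.of A)))
    haveI : IsFinite (Limits.pullback.snd u.left
        (η[H] : 𝟙_ (Over (Spec (CommRingCat.of A))) ⟶ H).left) :=
      IsFinite.of_locallyQuasiFinite _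
    haveI : IsProper u.left := (Groth.Agent.S3035.result A G H u).mpr inferInstance
    haveI : LocallyQuasiFinite u.left := locallyQuasiFinite_hom u
    exact IsFinite.of_isProper_of_locallyQuasiFinite u.left

end Groth.Agent.S3037
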