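import Groth.Statements.S3038
import Groth.Agent.Lib.Helper3GrpRedC
import Groth.Agent.Lib.Helper3GrpHomQF
import Mathlib

set_option autoImplicit false
universe u
open CategoryTheory MonoidalCategory CartesianMonoidalCategory MonObj GrpObj AlgebraicGeometry TensorProduct
open SGA3

namespace Groth.Agent.S3038

/-- (ii) ⇒ (i): let A be a local artinian ring and u : G → H a homomorphism between group schemes
locally of finite type over A. If the underlying map of u is open, then u is universally open. -/
theorem result (A : Type u) [CommRing A] [IsArtinianRing A] [IsLocalRing A]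
    (G H : Over (Spec (CommRingCat.of A))) [GrpObj G] [GrpObj H] [LocallyOfFiniteType G.hom] [LocallyOfFiniteType H.hom]
    (u : G ⟶ H) [IsMonHom u] (hu : IsOpenMap u.left.base) : UniversallyOpen u.left := by
  classical
  let K := AlgebraicClosure (IsLocalRing.ResidueField A)
  let φ : A →+* K := (algebraMap (IsLocalRing.ResidueField A) K).comp (IsLocalRing.residue A)
  let t : Spec (CommRingCat.of K) ⟶ Spec (CommRingCat.of A) := Spec.map (CommRingCat.ofHom φ)
  haveI : UniversallyOpen t :=
    Groth.Agent.Lib.Helper25.DenseMul.universallyOpen_Spec_map_of_isArtinianRing A K φ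
  haveI : Surjective t := by
    refine ⟨fun x => ?_⟩
    obtain ⟨y⟩ : Nonempty (Spec (CommRingCat.of K)) := inferInstance
    exact ⟨y, Groth.Agent.Lib.Helper11Homog.spec_subsingleton_of_artinian_local A _ _⟩
  let GK := Red.bc t G
  let HK := Red.bc t H
  let uK : GK ⟶ HK := (Over.pullback t).map u
  haveI : IsMonHom uK := inferInstanceAs (IsMonHom ((Over.pullback t).map u))
  haveI : LocallyOfFiniteType GK.hom :=
    inferInstanceAs (LocallyOfFiniteType (Limits.pullback.snd G.hom t))
  haveI : LocallyOfFiniteType HK.hom :=
    inferInstanceAs (LocallyOfFiniteType (Limits.pullback.snd H.hom t))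
  have hsq := Groth.Agent.Lib.Helper3.GrpHomQF.isPullback_overPullback_map G H u t
  have hr : Set.range uK.left = (Limits.pullback.fst H.hom t) ⁻¹' Set.range u.left := by
    have := Scheme.image_preimage_eq_of_isPullback hsq Set.univ
    rw [Set.preimage_univ, Set.image_univ, Set.image_univ] at this
    exact this
  have ho : IsOpen (Set.range uK.left) := by
    rw [hr]
    exact hu.isOpen_range.preimage (Limits.pullback.fst H.hom t).continuous
  haveI : UniversallyOpen uK.left :=
    Groth.Agent.Lib.Helper3.GrpRed.universallyOpen_of_isOpen_range GK HK uK ho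
  haveI : UniversallyOpen (Limits.pullback.fst G.hom t ≫ u.left) := by
    rw [hsq.w]
    infer_instance
  exact Groth.Agent.Lib.Helper25.TopGrp.universallyOpen_of_comp_of_surjective
    (Limits.pullback.fst G.hom t) u.left

end Groth.Agent.S3038
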