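import Groth.Statements.S3043
import Mathlib

set_option autoImplicit false
universe u
open CategoryTheory MonoidalCategory CartesianMonoidalCategory MonObj GrpObj AlgebraicGeometry TensorProduct
open SGA3

namespace Groth.Agent.S3043




/-- Let π : X → S be a morphism of schemes admitting a section ε (ε followed by π is the identity). If π
is injective on underlying points, then π is an integral morphism. -/
theorem result (X S : Scheme.{u}) (π : X ⟶ S) (ε : S ⟶ X) (hε : ε ≫ π = 𝟙 S)
    (hinj : Function.Injective π.base) : IsIntegralHom π := by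
  have hπε : ∀ v : S, π (ε v) = v := fun v => congr($hε v)
  have hεπ : ∀ x : X, ε (π x) = x := fun x => hinj (hπε (π x))
  -- affine
  have haff : ∀ V : S.Opens, IsAffineOpen V → IsAffineOpen (π ⁻¹ᵁ V) := by
    intro V hV
    have hchoose : ∀ v : V, ∃ a : Γ(S, V), (v : S) ∈ S.basicOpen a ∧
        IsAffineOpen (X.basicOpen (π.app V a)) := by
      intro v
      have hxW : ε v ∈ π ⁻¹ᵁ V := by
        change π (ε v) ∈ V
        rw [hπε]; exact v.2
      obtain ⟨_, ⟨U, hU : IsAffineOpen U, rfl⟩, hxU, hUW⟩ :=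
        X.isBasis_affineOpens.exists_subset_of_mem_open hxW (π ⁻¹ᵁ V).isOpen
      obtain ⟨a, ha1, ha2⟩ := hV.exists_basicOpen_le (V := ε ⁻¹ᵁ U) ⟨v, hxU⟩ v.2
      refine ⟨a, ha2, ?_⟩
      have hsub : X.basicOpen (π.app V a) ≤ U := by
        rw [← Scheme.preimage_basicOpen]
        intro z hz
        have h2 : ε (π z) ∈ U := ha1 hz
        rwa [hεπ] at h2
      have hUW' : U ≤ π ⁻¹ᵁ V := hUW
      have : X.basicOpen (X.presheaf.map (homOfLE hUW').op (π.app V a)) =
          X.basicOpen (π.app V a) := by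
        rw [Scheme.basicOpen_res]; exact inf_eq_right.mpr hsub
      rw [← this]
      exact hU.basicOpen _
    choose a ha1 ha2 using hchoose
    apply isAffineOpen_of_isAffineOpen_basicOpen (π ⁻¹ᵁ V) (Set.range (fun v => π.app V (a v)))
    · have h1 : Ideal.span (Set.range a) = ⊤ := by
        rw [← hV.iSup_basicOpen_eq_self_iff]
        apply le_antisymm
        · exact iSup_le fun f => S.basicOpen_le _
        · intro v hv
          simp only [TopologicalSpace.Opens.mem_iSup]
          exact ⟨⟨a ⟨v, hv⟩, ⟨⟨v, hv⟩, rfl⟩⟩, ha1 ⟨v, hv⟩⟩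
      have : Set.range (fun v => π.app V (a v)) = (π.app V).hom '' Set.range a := by
        rw [← Set.range_comp]; rfl
      rw [this, ← Ideal.map_span, h1, Ideal.map_top]
    · rintro _ ⟨v, rfl⟩; exact ha2 v
  rw [isIntegralHom_iff]
  refine ⟨⟨haff⟩, ?_⟩
  intro V hV b
  have hW := haff V hV
  have hc := Scheme.Hom.congr_app hε V
  have hsurj : Function.Surjective ((ε ≫ π).app V) := by
    rw [hc]
    exact (ConcreteCategory.bijective_of_isIso _).surjective
  obtain ⟨a, ha⟩ := hsurj (ε.app (π ⁻¹ᵁ V) b)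
  have ha' : ε.app (π ⁻¹ᵁ V) (π.app V a) = ε.app (π ⁻¹ᵁ V) b := by
    rw [← ha, Scheme.Hom.comp_app]; rfl
  set n := b - π.app V a with hn
  have hn0 : ε.app (π ⁻¹ᵁ V) n = 0 := by
    rw [hn, map_sub, ha', sub_self]
  have hbot : X.basicOpen n = ⊥ := by
    ext z
    simp only [TopologicalSpace.Opens.coe_bot, Set.mem_empty_iff_false, iff_false]
    intro hz
    have h1 : π z ∈ ε ⁻¹ᵁ X.basicOpen n := by
      change ε (π z) ∈ X.basicOpen n
      rw [hεπ]; exact hz
    rw [Scheme.preimage_basicOpen, hn0, Scheme.basicOpen_zero] at h1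
    exact h1
  obtain ⟨m, hm⟩ := (Scheme.isNilpotent_iff_basicOpen_eq_bot_of_isCompact hW.isCompact n).mpr hbot
  have hb : b = π.app V a + n := by rw [hn]; ring
  rw [hb]
  refine RingHom.IsIntegralElem.add _ ((π.app V).hom.isIntegralElem_map) ?_
  exact ⟨Polynomial.X ^ m, Polynomial.monic_X_pow m, by simp [hm]⟩

end Groth.Agent.S3043
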