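import Groth.Statements.S3045
import Groth.Agent.Lib.Helper4Conv

set_option autoImplicit false
universe u
open TensorProduct
open SGA3

namespace Groth.Agent.S3045

/-- Let A be a commutative Hopf algebra over a commutative ring k (the coordinate ring of an affine
group G = Spec A) and φ, ψ two k[ε]-valued points of G reducing to the unit point modulo ε (tangent
vectors at the identity). Then for every a ∈ A the ε-component of the product point φ · ψ at a — the
product of points being convolution, formed here as the triple convolution of φ, ψ and the unit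
point — is the sum of the ε-components of φ(a) and ψ(a): on tangent vectors at the identity the
group law of G induces addition. -/
theorem result (k : Type u) [CommRing k] (A : Type u) [CommRing A] [HopfAlgebra k A]
    (φ ψ : LieHopf.LiePts k A) (a : A) :
    TrivSqZeroExt.snd (Dyn.conv3 k A φ.1 ψ.1 ((Algebra.ofId k (DualNumber k)).comp (Bialgebra.counitAlgHom k A)) a) =
      LieHopf.LiePts.tangent k A φ a + LieHopf.LiePts.tangent k A ψ a := by
  rw [Groth.Agent.Lib.Helper4.conv3_unit]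
  let 𝓡 := Coalgebra.Repr.arbitrary k a
  rw [Groth.Agent.Lib.Helper4.conv2_apply k A _ _ a 𝓡]
  unfold LieHopf.LiePts.tangent
  -- snd is additive
  have hsnd : TrivSqZeroExt.snd (∑ i ∈ 𝓡.index, φ.1 (𝓡.left i) * ψ.1 (𝓡.right i)) =
      ∑ i ∈ 𝓡.index, TrivSqZeroExt.snd (φ.1 (𝓡.left i) * ψ.1 (𝓡.right i)) := by
    exact map_sum (TrivSqZeroExt.sndHom k k) _ _
  rw [hsnd]
  simp only [TrivSqZeroExt.snd_mul, φ.2, ψ.2]
  rw [Finset.sum_add_distrib]
  have e1 : ∑ i ∈ 𝓡.index, (Bialgebra.counitAlgHom k A (𝓡.left i)) • TrivSqZeroExt.snd (ψ.1 (𝓡.right i)) =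
      TrivSqZeroExt.snd (ψ.1 a) := by
    conv_rhs => rw [← Groth.Agent.Lib.Helper4.sum_counit_smul_right k A a 𝓡]
    rw [map_sum]
    rw [show TrivSqZeroExt.snd (∑ i ∈ 𝓡.index, ψ.1 ((Bialgebra.counitAlgHom k A (𝓡.left i)) • 𝓡.right i)) =
      ∑ i ∈ 𝓡.index, TrivSqZeroExt.snd (ψ.1 ((Bialgebra.counitAlgHom k A (𝓡.left i)) • 𝓡.right i)) from
        map_sum (TrivSqZeroExt.sndHom k k) _ _]
    refine Finset.sum_congr rfl fun i _ => ?_
    rw [map_smul, TrivSqZeroExt.snd_smul]
  have e2 : ∑ i ∈ 𝓡.index, MulOpposite.op (Bialgebra.counitAlgHom k A (𝓡.right i)) • TrivSqZeroExt.snd (φ.1 (𝓡.left i)) =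
      TrivSqZeroExt.snd (φ.1 a) := by
    conv_rhs => rw [← Groth.Agent.Lib.Helper4.sum_counit_smul_left k A a 𝓡]
    rw [map_sum]
    rw [show TrivSqZeroExt.snd (∑ i ∈ 𝓡.index, φ.1 ((Bialgebra.counitAlgHom k A (𝓡.right i)) • 𝓡.left i)) =
      ∑ i ∈ 𝓡.index, TrivSqZeroExt.snd (φ.1 ((Bialgebra.counitAlgHom k A (𝓡.right i)) • 𝓡.left i)) from
        map_sum (TrivSqZeroExt.sndHom k k) _ _]
    refine Finset.sum_congr rfl fun i _ => ?_
    rw [map_smul, TrivSqZeroExt.snd_smul]
    simp [mul_comm]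
  rw [e1, e2, add_comm]

end Groth.Agent.S3045
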