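import Groth.Statements.S3046
import Groth.Agent.Lib.Helper4Conv
open Groth.Agent.Lib.Helper4 WithConv

set_option autoImplicit false
universe u
open TensorProduct
open SGA3

namespace Groth.Agent.S3046

/-- Let A be a commutative Hopf algebra over a commutative ring k, D and E two ε-derivations A → k
(tangent vectors at the identity of G = Spec A), R a commutative k-algebra and t, t' ∈ R with t² = 0
= t'². Let x = e + tD and y = e + t'E be the corresponding R-points of G. Then the commutator x y
x⁻¹ y⁻¹ (product of points; the inverse of a point is its composite with the antipode) is the point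
a ↦ ε(a) + [D, E](a) · t t', where [D, E] = D ⋆ E − E ⋆ D is the convolution commutator. -/
theorem result (k : Type u) [CommRing k] (A : Type u) [CommRing A] [HopfAlgebra k A]
    (D E : LieHopf.Lie k A) (R : Type u) [CommRing R] [Algebra k R] (t t' : R) (ht : t * t = 0) (ht' : t' * t' = 0)
    (a : A) :
    Dyn.conv3 k A
        (Dyn.conv3 k A (LieHopf.ptOfLie D R t ht) (LieHopf.ptOfLie E R t' ht')
          ((LieHopf.ptOfLie D R t ht).comp (HopfAlgebra.antipodeAlgHom k A)))
        ((LieHopf.ptOfLie E R t' ht').comp (HopfAlgebra.antipodeAlgHom k A))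
        ((Algebra.ofId k R).comp (Bialgebra.counitAlgHom k A)) a =
      algebraMap k R (Bialgebra.counitAlgHom k A a) + algebraMap k R (LieHopf.bracketLin D E a) * (t * t') := by
  rw [conv3_eq_mul, conv3_eq_mul]
  set x : WithConv (A →ₐ[k] R) := toConv (LieHopf.ptOfLie D R t ht)
  set y : WithConv (A →ₐ[k] R) := toConv (LieHopf.ptOfLie E R t' ht')
  set xi : WithConv (A →ₐ[k] R) := toConv ((LieHopf.ptOfLie D R t ht).comp (HopfAlgebra.antipodeAlgHom k A))
  set yi : WithConv (A →ₐ[k] R) := toConv ((LieHopf.ptOfLie E R t' ht').comp (HopfAlgebra.antipodeAlgHom k A))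
  have hone : (toConv ((Algebra.ofId k R).comp (Bialgebra.counitAlgHom k A)) : WithConv (A →ₐ[k] R)) = 1 := rfl
  rw [toConv_ofConv, hone, mul_one]
  set d : WithConv (A →ₗ[k] R) := ofForm (LieHopf.dlin D) with hd
  set e : WithConv (A →ₗ[k] R) := ofForm (LieHopf.dlin E) with he
  have key : toLin (x * y * xi * yi) = 1 + (t * t') • (d * e - e * d) := by
    rw [map_mul, map_mul, map_mul, toLin_ptOfLie, toLin_ptOfLie, toLin_inv_ptOfLie, toLin_inv_ptOfLie]
    rw [← hd, ← he]
    set u := t • d
    set v := t' • e
    have huu : u * u = 0 := by rw [smul_mul_smul_comm, ht, zero_smul]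
    have hvv : v * v = 0 := by rw [smul_mul_smul_comm, ht', zero_smul]
    have huvu : u * v * u = 0 := by
      rw [smul_mul_smul_comm, smul_mul_smul_comm, show t * t' * t = (t * t) * t' by ring, ht, zero_mul, zero_smul]
    have hvuv : v * u * v = 0 := by
      rw [smul_mul_smul_comm, smul_mul_smul_comm, show t' * t * t' = (t' * t') * t by ring, ht', zero_mul, zero_smul]
    have huv : u * v = (t * t') • (d * e) := by rw [smul_mul_smul_comm]
    have hvu : v * u = (t * t') • (e * d) := by rw [smul_mul_smul_comm, mul_comm]
    have expand : (1 + u) * (1 + v) * (1 - u) * (1 - v) =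
        1 + (u * v - v * u) - u * u - u * v * u - v * v - u * (v * v) + v * u * v + (u * u) * v + (u * v * u) * v := by
      noncomm_ring
    rw [expand, huu, hvv, huvu, hvuv, huv, hvu]
    simp [smul_sub]
  have := congrArg (fun w : WithConv (A →ₗ[k] R) => w a) key
  refine Eq.trans ?_ (Eq.trans this ?_)
  · rfl
  · rw [ofForm_mul, ofForm_mul]
    simp [ofForm, LieHopf.bracketLin, LieHopf.dlin, mul_comm]

end Groth.Agent.S3046
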