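import Groth.Statements.S3058
import Groth.Agent.Lib.Helper9QC

set_option autoImplicit false
open CategoryTheory CategoryTheory.Limits Opposite
universe u
open ToposFin

namespace Groth.Agent.S3058

/-- For a topos of sheaves of sets on a small site: the coproduct of a small family of objects is
quasi-compact if and only if every member is quasi-compact and all but finitely many members are
initial (empty) objects. -/
theorem result {C : Type u} [SmallCategory C] {J : GrothendieckTopology C} {ι : Type u}
    (F : ι → ToposFin.Sh J) :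
    ToposFin.IsQC (∐ F) ↔ (∀ i, ToposFin.IsQC (F i)) ∧ {i | IsEmpty (F i ≅ ⊥_ (ToposFin.Sh J))}.Finite := by
  open Groth.Agent.Lib.Helper9 in
  have key : ∀ X : ToposFin.Sh J, IsEmpty (X ≅ ⊥_ (ToposFin.Sh J)) ↔ ¬ Nonempty (IsInitial X) := by
    intro X
    rw [← not_nonempty_iff]
    exact not_congr ⟨fun ⟨e⟩ => ⟨initialIsInitial.ofIso e.symm⟩,
      fun ⟨h⟩ => ⟨h.uniqueUpToIso initialIsInitial⟩⟩
  have := isQC_cofan_iff (Cofan.mk (∐ F) (Sigma.ι F)) (coproductIsCoproduct F)
  simp only [key]
  exact this

end Groth.Agent.S3058
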