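import Groth.Statements.S3067
import Groth.Agent.Lib.Helper9QC

set_option autoImplicit false
open CategoryTheory CategoryTheory.Limits Opposite
universe u
open ToposFin

namespace Groth.Agent.S3067

/-- In the topos of sheaves of sets on a small site that admits a generating family of quasi-compact
objects, let (g_i : Y_i → Y) be a jointly epimorphic family of morphisms with every Y_i coherent.
Then Y is quasi-separated if and only if every g_i is quasi-compact, and Y is quasi-separated if and
only if every fibre product Y_i ×_Y Y_j is quasi-compact. -/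
theorem result {C : Type u} [SmallCategory C] {J : GrothendieckTopology C} (hE : ToposFin.HasQCGenerators J) {Y : ToposFin.Sh J} {ι : Type u}
    (Yi : ι → ToposFin.Sh J) (g : ∀ i, Yi i ⟶ Y) (hg : Epi (Sigma.desc g)) (hY : ∀ i, ToposFin.IsCoherent (Yi i)) :
    (ToposFin.IsQS Y ↔ ∀ i, ToposFin.IsQCHom (g i)) ∧
    (ToposFin.IsQS Y ↔ ∀ i j, ToposFin.IsQC (pullback (g i) (g j))) := by
  open Groth.Agent.Lib.Helper9 in
  have hE' := hasQCGenerators_iff.1 hE
  have hg' := (jEpi_iff_epi_desc g).2 hg
  have h1 : (∀ i, ToposFin.IsQCHom (g i)) → ToposFin.IsQS Y := fun h =>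
    isQS_of_jEpi_isQCHom hE' g hg' (fun i => (hY i).2) h
  have h2 : (∀ i j, ToposFin.IsQC (pullback (g i) (g j))) → ∀ i, ToposFin.IsQCHom (g i) := by
    intro h i T t hT
    obtain ⟨κ, _, T', π, idx, α, hπ, hT', hα⟩ := exists_finite_refinement hE' hT t g hg'
    exact isQC_pullback_of_finite_cover_right' (g i) t π hπ (fun k => α k ≫ g (idx k))
      (fun k => (hα k).symm) fun k =>
        isQC_pullback_comp_of_isQS' (α k) (g (idx k)) (g i) (hT' k) (hY _).2 (h i (idx k))
  exact ⟨⟨fun hQS i => isQCHom_of_isQC_of_isQS (g i) (hY i).1 hQS, h1⟩,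
    ⟨fun hQS i j => hQS _ _ (g i) (g j) (hY i).1 (hY j).1, fun h => h1 (h2 h)⟩⟩

end Groth.Agent.S3067
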