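import Groth.Statements.S3068
import Groth.Agent.Lib.Helper6TF7

set_option autoImplicit false
open CategoryTheory CategoryTheory.Limits Opposite
universe u
open ToposFin

namespace Groth.Agent.S3068

/-- For a topos of sheaves of sets on a small site: given a generating family of quasi-compact objects
G_a, an object Y is quasi-separated if and only if every morphism G_a -> Y is quasi-compact. -/
theorem result {C : Type u} [SmallCategory C] {J : GrothendieckTopology C} {α : Type u} (G : α → ToposFin.Sh J) (hG : ∀ a, ToposFin.IsQC (G a))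
    (hgen : ∀ X : ToposFin.Sh J, ∃ (ι : Type u) (a : ι → α) (π : ∀ i, G (a i) ⟶ X), Epi (Sigma.desc π))
    (Y : ToposFin.Sh J) :
    ToposFin.IsQS Y ↔ ∀ (a : α) (s : G a ⟶ Y), ToposFin.IsQCHom s := by
  refine (Groth.Agent.Lib.Helper6.TF.isQS_iff_gen
    (Groth.Agent.Lib.Helper6.TF.gen_of_family G hgen) ?_ Y).trans
    ⟨fun h a s => h _ s ⟨a, rfl⟩, fun h K s hK => ?_⟩
  · rintro K ⟨a, rfl⟩
    exact hG a
  · obtain ⟨a, rfl⟩ := hK
    exact h a s

end Groth.Agent.S3068
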