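import Groth.Statements.S3071
import Groth.Agent.Lib.Helper9QC

set_option autoImplicit false
open CategoryTheory CategoryTheory.Limits Opposite
universe u
open ToposFin

namespace Groth.Agent.S3071

/-- Implication (ii bis) => (i bis), for a topos of sheaves of sets on a small site: suppose given a
generating family of coherent objects G_a such that every product G_a x G_b is quasi-separated. Then
for every morphism f : X -> Y with X quasi-separated, f is quasi-separated. -/
theorem result {C : Type u} [SmallCategory C] {J : GrothendieckTopology C} {α : Type u} (G : α → ToposFin.Sh J)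
    (hG : ∀ a, ToposFin.IsCoherent (G a))
    (hgen : ∀ X : ToposFin.Sh J, ∃ (ι : Type u) (a : ι → α) (π : ∀ i, G (a i) ⟶ X), Epi (Sigma.desc π))
    (hprod : ∀ a b, ToposFin.IsQS (G a ⨯ G b)) {X Y : ToposFin.Sh J} (f : X ⟶ Y) (hX : ToposFin.IsQS X) :
    ToposFin.IsQSHom f := by
  open Groth.Agent.Lib.Helper9 in
  have hE' : CoveredBy (J := J) ToposFin.IsQC := coveredBy_of_family G (fun a => (hG a).1) hgen
  obtain ⟨ι, a, π, hπ⟩ := hgen X
  refine isQSHom_of_cover_of_isQS hE' f π ((jEpi_iff_epi_desc π).2 hπ) (fun i => (hG _).1)
    (fun i j => ?_) hX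
  have : Mono (prod.lift (pullback.fst (π i ≫ f) (π j ≫ f)) (pullback.snd (π i ≫ f) (π j ≫ f))) := by
    refine ⟨fun {T} u v huv => ?_⟩
    apply pullback.hom_ext
    · have := congrArg (fun t => t ≫ prod.fst) huv
      simpa only [Category.assoc, prod.lift_fst] using this
    · have := congrArg (fun t => t ≫ prod.snd) huv
      simpa only [Category.assoc, prod.lift_snd] using this
  exact isQS_of_mono (prod.lift (pullback.fst (π i ≫ f) (π j ≫ f))
    (pullback.snd (π i ≫ f) (π j ≫ f))) (hprod _ _)

end Groth.Agent.S3071
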