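import Groth.Statements.S3076
import Groth.Agent.Lib.Helper9QC

set_option autoImplicit false
open CategoryTheory CategoryTheory.Limits Opposite
universe u
open ToposFin

namespace Groth.Agent.S3076

/-- For a topos of sheaves of sets on a small site admitting a generating family of quasi-compact
objects: let g : Y -> Z and let (f_i : X_i -> Y) be a jointly epimorphic family of quasi-compact
morphisms. If every g o f_i is quasi-separated then g is quasi-separated; if moreover the family is
finite and every g o f_i is coherent, then g is coherent. -/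
theorem result {C : Type u} [SmallCategory C] {J : GrothendieckTopology C} (hE : ToposFin.HasQCGenerators J) {Y Z : ToposFin.Sh J}
    (g : Y ⟶ Z) :
    (∀ {ι : Type u} (X : ι → ToposFin.Sh J) (f : ∀ i, X i ⟶ Y), Epi (Sigma.desc f) →
      (∀ i, ToposFin.IsQCHom (f i)) → (∀ i, ToposFin.IsQSHom (f i ≫ g)) → ToposFin.IsQSHom g) ∧
    (∀ {n : ℕ} (X : Fin n → ToposFin.Sh J) (f : ∀ k, X k ⟶ Y), Epi (Sigma.desc f) →
      (∀ k, ToposFin.IsQCHom (f k)) → (∀ k, ToposFin.IsCohHom (f k ≫ g)) → ToposFin.IsCohHom g) := by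
  open Groth.Agent.Lib.Helper9 in
  have hE' := hasQCGenerators_iff.1 hE
  refine ⟨fun {ι} X f hf hfqc hfg =>
    isQSHom_of_jEpi_comp hE' g f ((jEpi_iff_epi_desc f).2 hf) hfqc hfg, ?_⟩
  intro n X f hf hfqc hfg
  have hf' : JEpi f := (jEpi_iff_epi_desc f).2 hf
  refine ⟨fun Z' t hZ' =>
    isQC_pullback_of_finite_cover_left g t f hf' fun k => (hfg k).1 Z' t hZ', ?_⟩
  exact isQSHom_of_jEpi_comp hE' g (fun k : ULift.{u} (Fin n) => f k.down)
    (hf'.reindex_surj ULift.down ULift.down_surjective) (fun k => hfqc _) (fun k => (hfg _).2)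

end Groth.Agent.S3076
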