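import Groth.Statements.S3080
import Groth.Agent.Lib.Helper9Colim

set_option autoImplicit false
universe v u
open CategoryTheory
open SGA4

namespace Groth.Agent.S3080

open CategoryTheory.Limits in
/-- Let (C, J) and (D, K) be small sites and f a functor from sheaves of sets on (C, J) to sheaves of
sets on (D, K) which preserves finite limits and sends u-small jointly epimorphic families to
jointly epimorphic families. Then f is a left adjoint (so it is the inverse-image functor of a
morphism of topoi) and f preserves all u-small colimits. -/
theorem result {C D : Type u} [SmallCategory C] [SmallCategory D]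
    (J : GrothendieckTopology C) (K : GrothendieckTopology D) (f : Sheaf J (Type u) ⥤ Sheaf K (Type u))
    [PreservesFiniteLimits f] (hf : SGA4.PreservesEpiFamilies.{u + 1, u + 1, u} f) :
    f.IsLeftAdjoint ∧ PreservesColimitsOfSize.{u, u} f := by
  have hf' : ∀ (ι : Type u) (H : Sheaf J (Type u)) (G : ι → Sheaf J (Type u)) (g : ∀ i, G i ⟶ H),
      Groth.Agent.Lib.Helper9.JEpi g → Groth.Agent.Lib.Helper9.JEpi fun i => f.map (g i) := by
    intro ι H G g hg Z a b hab
    exact hf ι H G g (fun Z a b h => hg a b h) Z a b hab
  have hcol : PreservesColimitsOfSize.{u, u} f :=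
    ⟨fun {K} _ => ⟨fun {D} => Groth.Agent.Lib.Helper9.preservesColimit_of_lex_jEpi f hf' D⟩⟩
  exact ⟨Groth.Agent.Lib.Helper9.isLeftAdjoint_of_preservesColimits_sheaf f, hcol⟩

end Groth.Agent.S3080
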