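import Groth.Statements.S3081
import Groth.Agent.Lib.Helper9QC

set_option autoImplicit false
universe u
open CategoryTheory
open SGA4

namespace Groth.Agent.S3081

open CategoryTheory.Limits in
/-- c): in the category of sheaves of u-small sets on a u-small site, every u-small family has a
coproduct which is disjoint and stable under base change, and every equivalence relation is
effective with universally effective-epimorphic quotient map. -/
theorem result {C : Type u} [SmallCategory C] (J : GrothendieckTopology C) :
    SGA4.HasDisjointUniversalCoproducts.{u + 1, u} (Sheaf J (Type u)) ∧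
    ∀ (R A : Sheaf J (Type u)) (p₁ p₂ : R ⟶ A), SGA4.IsEquivRel p₁ p₂ → SGA4.IsEffectiveUniversalEquivRel p₁ p₂ := by
  classical
  refine ⟨?_, ?_⟩
  · intro ι X
    refine ⟨Cofan.mk (∐ X) (Limits.Sigma.ι X), coproductIsCoproduct X, ?_, ?_⟩
    · refine ⟨?_, ?_⟩
      · intro c hc i j hij s hs
        obtain ⟨h0⟩ := Groth.Agent.Lib.Helper9.cofan_isInitial_pullback (J := J) c hc hij
        exact ⟨h0.ofIso ((pullback.isLimit (c.inj i) (c.inj j)).conePointUniqueUpToIso hs)⟩
      · intro c hc i
        exact Groth.Agent.Lib.Helper9.cofan_inj_mono (J := J) c hc i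
    · exact Groth.Agent.Lib.Helper9.sheaf_isUniversal_cofan (J := J) _ (coproductIsCoproduct X)
  · intro R A p₁ p₂ hR
    have hjm : JointlyMono₂ p₁ p₂ := ⟨fun T f g h₁ h₂ => (hR T).1 (Prod.ext h₁ h₂)⟩
    have hr := (hR A).2.refl (𝟙 A)
    have hs := (hR R).2.symm ⟨𝟙 R, Category.id_comp _, Category.id_comp _⟩
    have ht := (hR (pullback p₂ p₁)).2.trans
      ⟨pullback.fst p₂ p₁, rfl, rfl⟩ ⟨pullback.snd p₂ p₁, pullback.condition.symm, rfl⟩
    let e : EquivalenceRelation p₁ p₂ :=
      { toJointlyMono₂ := hjm
        r := hr.choose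
        reflexivity₁ := hr.choose_spec.1
        reflexivity₂ := hr.choose_spec.2
        s := hs.choose
        symmetry₁ := hs.choose_spec.1
        symmetry₂ := hs.choose_spec.2
        c := pullback.cone p₂ p₁
        isLimit := pullback.isLimit p₂ p₁
        t := ht.choose
        transitivity₁ := ht.choose_spec.1
        transitivity₂ := ht.choose_spec.2 }
    let u := Groth.Agent.Lib.Helper9.sheafUniversallyEffective J e
    refine ⟨u.B, u.π, u.isKernelPair, u.isPushout, ?_⟩
    intro B' g
    exact u.universally_effectiveEpi_π _ _ _ (IsPullback.of_hasPullback u.π g).flip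

end Groth.Agent.S3081
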