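import Groth.Statements.S3082
import Mathlib
open Opposite

set_option autoImplicit false
universe u
open CategoryTheory
open SGA4

namespace Groth.Agent.S3082

/-- Let (C, J) be a small site and G a set of objects of C such that each object of C has a covering
family whose members all lie in G. Then the sheafifications of the presheaves represented by the
members of G form a detecting family in the category Sh(C, J) of set-valued sheaves on (C, J): any
morphism of sheaves that is bijective on sections over each member of G is an isomorphism. -/
theorem result {C : Type u} [SmallCategory C] (J : GrothendieckTopology C) (G : Set C)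
    (hG : ∀ X : C, ∃ (ι : Type u) (Y : ι → C) (f : ∀ i, Y i ⟶ X), Sieve.ofArrows Y f ∈ J X ∧ ∀ i, Y i ∈ G) :
    (ObjectProperty.ofObj fun X : G => (presheafToSheaf J (Type u)).obj (yoneda.obj (X : C))).IsDetecting := by
  intro F F' f hf
  -- equivalence Hom(a(yX), F) ≃ F(X), natural in F
  let e : ∀ (X : C) (F : Sheaf J (Type u)),
      ((presheafToSheaf J (Type u)).obj (yoneda.obj X) ⟶ F) ≃ F.obj.obj (op X) := fun X F =>
    ((sheafificationAdjunction J (Type u)).homEquiv (yoneda.obj X) F).trans yonedaEquiv
  have he : ∀ (X : C) (h : (presheafToSheaf J (Type u)).obj (yoneda.obj X) ⟶ F),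
      e X F' (h ≫ f) = f.hom.app (op X) (e X F h) := by
    intro X h
    simp only [e, Equiv.trans_apply]
    rw [Adjunction.homEquiv_naturality_right]
    exact yonedaEquiv_comp _ _
  -- bijectivity on members of G
  have hbij : ∀ X ∈ G, Function.Bijective (f.hom.app (op X)) := by
    intro X hX
    have hP : (ObjectProperty.ofObj fun X : G => (presheafToSheaf J (Type u)).obj (yoneda.obj (X : C)))
        ((presheafToSheaf J (Type u)).obj (yoneda.obj X)) := ObjectProperty.ofObj_apply (fun X : G => (presheafToSheaf J (Type u)).obj (yoneda.obj (X : C))) ⟨X, hX⟩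
    constructor
    · intro s t hst
      obtain ⟨h', -, huniq⟩ := hf _ hP ((e X F).symm s ≫ f)
      have h1 := huniq ((e X F).symm s) rfl
      have h2 := huniq ((e X F).symm t) (by
        apply (e X F').injective
        rw [he, he]
        simp [hst])
      have := h1.trans h2.symm
      exact (e X F).symm.injective this
    · intro s'
      obtain ⟨h', hh', -⟩ := hf _ hP ((e X F').symm s')
      refine ⟨e X F h', ?_⟩
      rw [← he, hh']
      simp
  rw [← Sheaf.isLocallyBijective_iff_isIso f]
  constructor
  · -- locally injective
    constructor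
    intro X x y hxy
    obtain ⟨ι, Yi, g, hcov, hY⟩ := hG X.unop
    refine J.superset_covering ?_ hcov
    rw [Sieve.ofArrows, Sieve.generate_le_iff]
    rintro Z _ ⟨i⟩
    show F.obj.map (g i).op x = F.obj.map (g i).op y
    apply (hbij (Yi i) (hY i)).1
    have := fun z => NatTrans.naturality_apply f.hom (g i).op z
    rw [this, this]
    exact congrArg _ hxy
  · -- locally surjective
    constructor
    intro X s
    obtain ⟨ι, Yi, g, hcov, hY⟩ := hG X
    refine J.superset_covering ?_ hcov
    rw [Sieve.ofArrows, Sieve.generate_le_iff]
    rintro Z _ ⟨i⟩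
    obtain ⟨t, ht⟩ := (hbij (Yi i) (hY i)).2 (F'.obj.map (g i).op s)
    exact ⟨t, ht⟩

end Groth.Agent.S3082
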