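import Groth.Statements.S3084
import Groth.Agent.Lib.Helper9Adh

set_option autoImplicit false
universe u
open CategoryTheory
open SGA4

namespace Groth.Agent.S3084

open CategoryTheory.Limits in
/-- For sheaves of sets on a small site: let U be an open, j^* = (X ↦ U × X over U) the restriction to
the open subtopos E/U and i^* any left adjoint of the inclusion of the closed complement of U. A
morphism m of E is an isomorphism if and only if both j^*(m) and i^*(m) are isomorphisms. -/
theorem result {C : Type u} [SmallCategory C] (J : GrothendieckTopology C)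
    (U : Sheaf J (Type u)) (hU : SGA4.IsOpen U)
    (L : Sheaf J (Type u) ⥤ (SGA4.closedCompl U).FullSubcategory) (adj : L ⊣ (SGA4.closedCompl U).ι)
    {X Y : Sheaf J (Type u)} (m : X ⟶ Y) :
    IsIso m ↔ IsIso ((Over.star U).map m) ∧ IsIso (L.map m) := by
  constructor
  · intro h
    exact ⟨inferInstance, inferInstance⟩
  · rintro ⟨h1, h2⟩
    have h1' : IsIso (prod.map (𝟙 U) m) := by
      have h3 : IsIso ((Over.star U).map m).left :=
        (Over.forget U).map_isIso ((Over.star U).map m)
      have h4 : ((Over.star U).map m).left = prod.map (𝟙 U) m := Over.star_map_left U m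
      exact h4 ▸ h3
    refine Groth.Agent.Lib.Helper9.isIso_of_open_closed hU m h1' ?_
    intro Z hZ
    have key : ∀ g : Y ⟶ Z, (adj.homEquiv X ⟨Z, hZ⟩).symm (m ≫ g) =
        L.map m ≫ (adj.homEquiv Y ⟨Z, hZ⟩).symm g := fun g =>
      adj.homEquiv_naturality_left_symm m (show Y ⟶ (SGA4.closedCompl U).ι.obj ⟨Z, hZ⟩ from g)
    constructor
    · intro g g' hgg'
      have h3 := congrArg (adj.homEquiv X ⟨Z, hZ⟩).symm hgg'
      simp only [key] at h3
      rw [cancel_epi] at h3
      exact (adj.homEquiv Y ⟨Z, hZ⟩).symm.injective h3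
    · intro φ
      refine ⟨adj.homEquiv Y ⟨Z, hZ⟩ (inv (L.map m) ≫ (adj.homEquiv X ⟨Z, hZ⟩).symm φ), ?_⟩
      apply (adj.homEquiv X ⟨Z, hZ⟩).symm.injective
      show (adj.homEquiv X ⟨Z, hZ⟩).symm (m ≫ _) = _
      rw [key, Equiv.symm_apply_apply, IsIso.hom_inv_id_assoc]

end Groth.Agent.S3084
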