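import Groth.Statements.S3085
import Groth.Agent.Lib.Helper9ClosedSub
import Groth.Agent.Lib.Helper9Glue
import Groth.Agent.S3084

set_option autoImplicit false
universe u
open CategoryTheory
open SGA4

namespace Groth.Agent.S3085

open CategoryTheory.Limits in
/-- Gluing a topos from an open subtopos and its closed complement, for sheaves of sets on a small site:
let E be the category of sheaves of sets on a small site, U an open of E (a subobject of the final
object) with restriction functor j^* : E → E/U, X ↦ U × X; assume j^* has a right adjoint j_* (true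
in any topos; taken as an instance hypothesis), and let i^* be a left adjoint of the inclusion of
the closed complement F of U. With ρ = i^* ∘ j_* : E/U → F, the category E is equivalent to the
glued category of triples (Y in F, X in E/U, Y → ρX). (Only the existence of an equivalence is
asserted; the published statement gives it explicitly as X ↦ (i^*X, j^*X, i^*(X → j_*j^*X)).) -/
theorem result {C : Type u} [SmallCategory C] (J : GrothendieckTopology C)
    (U : Sheaf J (Type u)) (hU : SGA4.IsOpen U) [(Over.star U).IsLeftAdjoint]
    (L : Sheaf J (Type u) ⥤ (SGA4.closedCompl U).FullSubcategory) (adj : L ⊣ (SGA4.closedCompl U).ι) :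
    Nonempty (Sheaf J (Type u) ≌
      Comma (𝟭 (SGA4.closedCompl U).FullSubcategory) ((Over.star U).rightAdjoint ⋙ L)) := by
  classical
  let adj₂ := Adjunction.ofIsLeftAdjoint (Over.star U)
  have hunit : IsIso (Over.forgetAdjStar U).unit :=
    Groth.Agent.Lib.Helper9.isIso_forgetAdjStar_unit hU
  let t : Adjunction.Triple (Over.forget U) (Over.star U) (Over.star U).rightAdjoint :=
    ⟨Over.forgetAdjStar U, adj₂⟩
  have hcounit : IsIso adj₂.counit := t.isIso_unit_iff_isIso_counit.1 hunit
  have hcounit' : IsIso adj.counit := inferInstance
  have hpl1 : PreservesLimitsOfShape WalkingCospan (Over.star U) := by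
    have := (Over.forgetAdjStar U).rightAdjoint_preservesLimits
    infer_instance
  have hpl2 : PreservesLimitsOfShape WalkingCospan L := by
    have e : L ≅ Groth.Agent.Lib.Helper9.closedReflector J U :=
      Adjunction.leftAdjointUniq adj (Groth.Agent.Lib.Helper9.closedAdjunction J U)
    exact preservesLimitsOfShape_of_natIso e.symm
  have hcons : ∀ {X Y : Sheaf J (Type u)} (m : X ⟶ Y), IsIso ((Over.star U).map m) →
      IsIso (L.map m) → IsIso m := fun m h1 h2 =>
    (Groth.Agent.S3084.result J U hU L adj m).2 ⟨h1, h2⟩
  have hterm : ∀ {Y Y' : (SGA4.closedCompl U).FullSubcategory} (g : Y ⟶ Y'),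
      IsIso ((Over.star U).map ((SGA4.closedCompl U).ι.map g)) := fun {Y Y'} g =>
    Groth.Agent.Lib.Helper9.isIso_star_map_of_closedCompl Y.property Y'.property _
  have heq := Groth.Agent.Lib.Helper9.Glue.glueFunctor_isEquivalence adj₂ adj hcons hterm
  exact ⟨(Groth.Agent.Lib.Helper9.Glue.glueFunctor adj₂ (L := L)).asEquivalence⟩

end Groth.Agent.S3085
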