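import Groth.Statements.S3089
import Mathlib
-- import your own Groth.Agent.* helpers here

set_option autoImplicit false
universe u
open CategoryTheory
open CohSite

namespace Groth.Agent.S3089
open Opposite Limits Abelian

variable {C : Type u} [SmallCategory C] {J : GrothendieckTopology C}

/-- the free abelian sheaf functor -/
noncomputable abbrev Zf (J : GrothendieckTopology C) : Sheaf J (Type u) ⥤ Sheaf J AddCommGrpCat.{u} :=
  Sheaf.composeAndSheafify J AddCommGrpCat.free.{u}

instance Zf_map_mono {Y X : Sheaf J (Type u)} (ι : Y ⟶ X) [Mono ι] : Mono ((Zf J).map ι) := by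
  dsimp [Zf]
  infer_instance

/-- abstract: in an abelian category, if `P = B ⊔_A B` along a mono `f : A ⟶ B` and `Ext¹(P, F) = 0` then every
`A ⟶ F` extends to `B`. -/
lemma exists_extension {𝒜 : Type*} [Category 𝒜] [Abelian 𝒜] [HasExt.{u} 𝒜] {A B P F : 𝒜} (f : A ⟶ B) [Mono f]
    {inl inr : B ⟶ P} (h : IsPushout f f inl inr) (hP : Subsingleton (Ext.{u} P F 1)) (φ : A ⟶ F) :
    ∃ ψ : B ⟶ F, f ≫ ψ = φ := by
  have hS : h.shortComplex.ShortExact :=
    { exact := ShortComplex.exact_of_g_is_cokernel _ h.isColimitCokernelCofork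
      mono_f := by
        have : Mono (biprod.lift f (-f) ≫ biprod.fst) := by
          rw [biprod.lift_fst]; infer_instance
        exact mono_of_mono (biprod.lift f (-f)) biprod.fst
      epi_g := h.epi_shortComplex_g }
  haveI : Subsingleton (Ext.{u} h.shortComplex.X₃ F 1) := hP
  obtain ⟨x₂, hx₂⟩ := Ext.contravariant_sequence_exact₁ hS F (Ext.mk₀ φ) (n₁ := 1) (by omega)
    (Subsingleton.elim _ _)
  obtain ⟨ψ, rfl⟩ := (Ext.mk₀_bijective (B ⊞ B) F).2 x₂
  have hx₂' : Ext.mk₀ (biprod.lift f (-f) ≫ ψ) = Ext.mk₀ φ := by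
    rw [← Ext.mk₀_comp_mk₀]
    exact hx₂
  have hx := (Ext.mk₀_bijective _ _).1 hx₂'
  refine ⟨biprod.inl ≫ ψ - biprod.inr ≫ ψ, ?_⟩
  rw [← hx]
  have : biprod.lift f (-f) = f ≫ biprod.inl - f ≫ biprod.inr := by
    ext <;> simp
  rw [this, Preadditive.comp_sub, Preadditive.sub_comp, Category.assoc, Category.assoc]


open Opposite in
/-- For abelian sheaves on the topos of sheaves of sets on a small site: let F be an abelian sheaf which
is totally acyclic, i.e. H^q(X, F) = 0 for every sheaf of sets X and every q > 0, and let Y -> X be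
a monomorphism of sheaves of sets. Then the restriction map H^0(X, F) -> H^0(Y, F) is surjective. -/
theorem result {C : Type u} [SmallCategory C] {J : GrothendieckTopology C}
    (F : Sheaf J AddCommGrpCat.{u}) (hF : CohCx.IsTotallyAcyclic F) {Y X : Sheaf J (Type u)} (ι : Y ⟶ X) [Mono ι] :
    Function.Surjective ((CohCx.HK0Functor J F).map ι.op) := by
  intro φ
  have hpo : IsPushout ι ι (pushout.inl ι ι) (pushout.inr ι ι) := IsPushout.of_hasPushout ι ι
  have hpo' := hpo.map (Zf J)
  obtain ⟨ψ, hψ⟩ := exists_extension.{u} ((Zf J).map ι) hpo' (hF (pushout ι ι) 0) φ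
  exact ⟨ψ, hψ⟩

end Groth.Agent.S3089
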