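import Groth.Statements.S3133
import Mathlib
-- import your own Groth.Agent.* helpers here

set_option autoImplicit false
open Polynomial
open SGA4h

namespace Groth.Agent.S3133.Aux

set_option autoImplicit false

namespace CycBlock

open Matrix

universe u v
variable {S : Type u} [CommRing S] {m : Type v} [Fintype m] [DecidableEq m]

/-- `1 -` (block cyclic matrix with `x` on the subdiagonal and `A'` in the corner). -/
def Mx (n : ℕ) (x : S) (A' : Matrix m m S) : Matrix (Fin n × m) (Fin n × m) S :=
  Matrix.of fun p q => (if p = q then 1 else 0) -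
    (if p.1.val = 0 then (if q.1.val = n - 1 then A' p.2 q.2 else 0)
      else (if q.1.val + 1 = p.1.val ∧ p.2 = q.2 then x else 0))

def Lx (n : ℕ) (x : S) : Matrix (Fin n × m) (Fin n × m) S :=
  Matrix.of fun p q => if q.1.val ≤ p.1.val ∧ p.2 = q.2 then x ^ (p.1.val - q.1.val) else 0

def Kx (n : ℕ) (x : S) (A' : Matrix m m S) : Matrix (Fin n × m) (Fin n × m) S :=
  Matrix.of fun p q => (if p = q then 1 else 0) -
    (if q.1.val = n - 1 then x ^ p.1.val * A' p.2 q.2 else 0)

theorem Lx_mul_Mx (n : ℕ) (x : S) (A' : Matrix m m S) :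
    Lx n x * Mx n x A' = Kx n x A' := by
  ext p q
  rw [Matrix.mul_apply]
  have hn : 0 < n := by have := p.1.isLt; omega
  have hM : ∀ r, Mx n x A' r q = (if r = q then 1 else 0)
      - (if r.1.val = 0 ∧ q.1.val = n - 1 then A' r.2 q.2 else 0)
      - (if q.1.val + 1 = r.1.val ∧ r.2 = q.2 then x else 0) := by
    intro r
    simp only [Mx, Matrix.of_apply]
    by_cases h0 : r.1.val = 0
    · have : ¬ (q.1.val + 1 = r.1.val) := by omega
      simp [h0, this]
    · simp [h0]
  simp_rw [hM, mul_sub, Finset.sum_sub_distrib]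
  have h1 : ∑ r, Lx n x p r * (if r = q then 1 else 0) = Lx n x p q := by simp
  have h2 : ∑ r, Lx n x p r * (if r.1.val = 0 ∧ q.1.val = n - 1 then A' r.2 q.2 else 0)
      = if q.1.val = n - 1 then x ^ p.1.val * A' p.2 q.2 else 0 := by
    by_cases hq : q.1.val = n - 1
    · simp only [hq, and_true, if_true]
      rw [Finset.sum_eq_single ((⟨0, hn⟩ : Fin n), p.2)]
      · have h0 : (⟨0, hn⟩ : Fin n).val ≤ p.1.val ∧ p.2 = p.2 := ⟨Nat.zero_le _, rfl⟩
        simp only [Lx, Matrix.of_apply]
        simp
      · intro r _ hr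
        by_cases hr0 : r.1.val = 0
        · have h2 : p.2 ≠ r.2 := by
            intro h
            apply hr
            ext
            · simpa using hr0
            · exact h.symm
          simp [Lx, h2]
        · simp [hr0]
      · simp
    · simp [hq]
  have h3 : ∑ r, Lx n x p r * (if q.1.val + 1 = r.1.val ∧ r.2 = q.2 then x else 0)
      = if q.1.val + 1 ≤ p.1.val ∧ p.2 = q.2 then x ^ (p.1.val - q.1.val) else 0 := by
    by_cases hq : q.1.val + 1 < n
    · rw [Finset.sum_eq_single ((⟨q.1.val + 1, hq⟩ : Fin n), q.2)]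
      · simp only [Lx, Matrix.of_apply, and_self, if_true]
        by_cases hc : q.1.val + 1 ≤ p.1.val ∧ p.2 = q.2
        · rw [if_pos hc, if_pos hc, ← pow_succ]
          congr 1
          omega
        · rw [if_neg hc, if_neg hc, zero_mul]
      · intro r _ hr
        have : ¬ (q.1.val + 1 = r.1.val ∧ r.2 = q.2) := by
          rintro ⟨h1, h2⟩
          apply hr
          ext
          · simpa using h1.symm
          · exact h2
        simp [this]
      · simp
    · rw [Finset.sum_eq_zero]
      · have : ¬ (q.1.val + 1 ≤ p.1.val ∧ p.2 = q.2) := by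
          have := p.1.isLt
          omega
        rw [if_neg this]
      · intro r _
        have : ¬ (q.1.val + 1 = r.1.val ∧ r.2 = q.2) := by
          have := r.1.isLt
          omega
        simp [this]
  rw [h1, h2, h3]
  simp only [Kx, Lx, Matrix.of_apply]
  rw [sub_right_comm]
  congr 1
  by_cases h2 : p.2 = q.2
  · rcases lt_trichotomy q.1.val p.1.val with h | h | h
    · have hpq : p ≠ q := by
        intro h'
        rw [h'] at h
        exact lt_irrefl _ h
      have h' : q.1.val ≤ p.1.val := h.le
      have h'' : q.1.val + 1 ≤ p.1.val := h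
      simp [h2, hpq, h', h'']
    · have hpq : p = q := by
        ext
        · exact h.symm
        · exact h2
      subst hpq
      simp
    · have hpq : p ≠ q := by
        intro h'
        rw [h'] at h
        exact lt_irrefl _ h
      have h' : ¬ q.1.val ≤ p.1.val := by omega
      have h'' : ¬ q.1.val + 1 ≤ p.1.val := by omega
      simp [hpq, h', h'']
  · have hpq : p ≠ q := by
      intro h'
      exact h2 (by rw [h'])
    simp [h2, hpq]

theorem det_Lx (n : ℕ) (x : S) : (Lx (m := m) n x).det = 1 := by
  have hbt : (Lx (m := m) n x).BlockTriangular (fun p => OrderDual.toDual p.1) := by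
    intro p q hpq
    have hlt : p.1 < q.1 := hpq
    have : ¬ (q.1.val ≤ p.1.val ∧ p.2 = q.2) := by
      have : p.1.val < q.1.val := hlt
      omega
    simp only [Lx, Matrix.of_apply]
    rw [if_neg this]
  rw [hbt.det_fintype]
  apply Finset.prod_eq_one
  intro k _
  have : (Lx (m := m) n x).toSquareBlock (fun p => OrderDual.toDual p.1) k = 1 := by
    ext ⟨i, hi⟩ ⟨j, hj⟩
    simp only [Matrix.toSquareBlock_def, Matrix.of_apply, Lx, Matrix.one_apply, Subtype.mk.injEq]
    have hij : i.1 = j.1 := by
      have h1 : OrderDual.toDual i.1 = OrderDual.toDual j.1 := hi.trans hj.symm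
      exact h1
    by_cases h2 : i.2 = j.2
    · have : i = j := Prod.ext hij h2
      subst this
      simp
    · have : i ≠ j := fun h => h2 (by rw [h])
      simp [h2, this]
  rw [this, Matrix.det_one]

theorem det_Kx (n : ℕ) (hn : 1 ≤ n) (x : S) (A' : Matrix m m S) :
    (Kx n x A').det = (1 - x ^ (n - 1) • A').det := by
  have hbt : (Kx n x A').BlockTriangular (fun p => p.1) := by
    intro p q hpq
    have hlt : q.1.val < p.1.val := hpq
    have h1 : p ≠ q := by
      intro h
      rw [h] at hlt
      exact lt_irrefl _ hlt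
    have h2 : ¬ q.1.val = n - 1 := by
      have := p.1.isLt
      omega
    simp [Kx, h1, h2]
  rw [hbt.det_fintype]
  have hlast : n - 1 < n := by omega
  rw [Finset.prod_eq_single (⟨n - 1, hlast⟩ : Fin n)]
  · -- the last block
    let e : m ≃ {a : Fin n × m // a.1 = (⟨n - 1, hlast⟩ : Fin n)} :=
      { toFun := fun y => ⟨(⟨n - 1, hlast⟩, y), rfl⟩
        invFun := fun a => a.1.2
        left_inv := fun y => rfl
        right_inv := fun a => by
          obtain ⟨⟨a1, a2⟩, ha⟩ := a
          simp only at ha
          subst ha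
          rfl }
    rw [← Matrix.det_submatrix_equiv_self e]
    congr 1
    ext y y'
    simp only [Matrix.submatrix_apply, Matrix.toSquareBlock_def, Matrix.of_apply, Kx,
      Matrix.sub_apply, Matrix.one_apply, Matrix.smul_apply, smul_eq_mul]
    simp [e]
  · intro k _ hk
    have : (Kx n x A').toSquareBlock (fun p => p.1) k = 1 := by
      ext ⟨i, hi⟩ ⟨j, hj⟩
      have hjk : ¬ j.1.val = n - 1 := by
        intro h
        apply hk
        rw [← hj]
        ext
        exact h
      simp only [Matrix.toSquareBlock_def, Matrix.of_apply, Kx, Matrix.one_apply,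
        Subtype.mk.injEq, hjk, if_false, sub_zero]
    rw [this, Matrix.det_one]
  · intro h
    exact absurd (Finset.mem_univ _) h

theorem det_Mx (n : ℕ) (hn : 1 ≤ n) (x : S) (A' : Matrix m m S) :
    (Mx n x A').det = (1 - x ^ (n - 1) • A').det := by
  rw [← det_Kx n hn, ← Lx_mul_Mx, Matrix.det_mul, det_Lx, one_mul]

open Polynomial in
theorem main (R : Type) [CommRing R] (m : Type) [Fintype m] [DecidableEq m]
    (A : Matrix m m R) (n : ℕ) (hn : 1 ≤ n) :
    (Matrix.of fun (p q : Fin n × m) =>
        if p.1.val = 0 then (if q.1.val = n - 1 then A p.2 q.2 else 0)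
        else (if q.1.val + 1 = p.1.val ∧ p.2 = q.2 then 1 else 0)).charpolyRev =
      Polynomial.expand R n A.charpolyRev := by
  unfold Matrix.charpolyRev
  have h1 : (1 - (X : R[X]) • (Matrix.of fun (p q : Fin n × m) =>
        if p.1.val = 0 then (if q.1.val = n - 1 then A p.2 q.2 else 0)
        else (if q.1.val + 1 = p.1.val ∧ p.2 = q.2 then 1 else 0)).map C)
      = Mx n (X : R[X]) ((X : R[X]) • A.map C) := by
    ext p q
    simp only [Mx, Matrix.sub_apply, Matrix.one_apply, Matrix.smul_apply, Matrix.map_apply,
      Matrix.of_apply, smul_eq_mul]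
    congr 1
    by_cases h0 : p.1.val = 0
    · by_cases hq : q.1.val = n - 1
      · simp [h0, hq]
      · simp [h0, hq]
    · by_cases hc : q.1.val + 1 = p.1.val ∧ p.2 = q.2
      · simp [h0, hc]
      · simp [h0, hc]
  rw [h1, det_Mx n hn, AlgHom.map_det]
  congr 1
  ext y y'
  simp only [Matrix.sub_apply, Matrix.one_apply, Matrix.smul_apply, Matrix.map_apply,
    smul_eq_mul, AlgHom.mapMatrix_apply]
  rw [← mul_assoc, ← pow_succ, Nat.sub_add_cancel hn]
  by_cases h : y = y'
  · simp [h]
  · simp [h]

end CycBlock

end Groth.Agent.S3133.Aux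

namespace Groth.Agent.S3133

/-- Let A be a square matrix over a commutative ring and n ≥ 1, and let B be the matrix on n blocks of
the endomorphism (x_1, …, x_n) ↦ (A x_n, x_1, …, x_{n-1}). Then det(1 − B·T) = det(1 − A·Tⁿ), i.e.
the reverse characteristic polynomial of B is that of A expanded by n. -/
theorem result (R : Type) [CommRing R] (m : Type) [Fintype m] [DecidableEq m]
    (A : Matrix m m R) (n : ℕ) (hn : 1 ≤ n) :
    (Matrix.of fun (p q : Fin n × m) =>
        if p.1.val = 0 then (if q.1.val = n - 1 then A p.2 q.2 else 0)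
        else (if q.1.val + 1 = p.1.val ∧ p.2 = q.2 then 1 else 0)).charpolyRev =
      Polynomial.expand R n A.charpolyRev := by
  exact Aux.CycBlock.main R m A n hn

end Groth.Agent.S3133
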