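import Groth.Statements.S3139
import Mathlib
import Groth.Agent.Lib.Helper11DetCxD

set_option autoImplicit false
universe u
open CategoryTheory
attribute [local instance] HasDerivedCategory.standard
open SGA4h

namespace Groth.Agent.S3139


/-- Let A be a commutative ring, K and K' bounded cochain complexes of finite free A-modules with
endomorphisms u and u', and suppose (K, u) and (K', u') are isomorphic in the derived category D(A):
there is an isomorphism K ≅ K' in D(A) intertwining the images of u and u'. Then det(1 - u t, K) =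
det(1 - u' t, K'), where det(1 - u t, K) = ∏ᵢ det(1 - u t, Kⁱ)^{(-1)^i}; the equality is stated
cross-multiplied, as ∏_{i even} det(1 - u t, Kⁱ) · ∏_{i odd} det(1 - u' t, K'ⁱ) = ∏_{i odd} det(1 -
u t, Kⁱ) · ∏_{i even} det(1 - u' t, K'ⁱ) in A[t]. (The source works with finite projective modules;
finite free is the special case stated here.) -/
theorem result (A : Type u) [CommRing A]
    (K K' : CochainComplex (ModuleCat.{u} A) ℤ) (a b : ℤ) [K.IsStrictlyGE a] [K.IsStrictlyLE b] [K'.IsStrictlyGE a] [K'.IsStrictlyLE b]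
    (hK : ∀ i : ℤ, Module.Finite A (K.X i) ∧ Module.Free A (K.X i)) (hK' : ∀ i : ℤ, Module.Finite A (K'.X i) ∧ Module.Free A (K'.X i))
    (u : K ⟶ K) (u' : K' ⟶ K') (φ : DerivedCategory.Q.obj K ≅ DerivedCategory.Q.obj K')
    (hφ : DerivedCategory.Q.map u ≫ φ.hom = φ.hom ≫ DerivedCategory.Q.map u') :
    SGA4h.detEven K u * SGA4h.detOdd K' u' = SGA4h.detOdd K u * SGA4h.detEven K' u' := by
  haveI hfree : ∀ i, Module.Free A (K.X i) := fun i => (hK i).2
  haveI hfin : ∀ i, Module.Finite A (K.X i) := fun i => (hK i).1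
  haveI hfree' : ∀ i, Module.Free A (K'.X i) := fun i => (hK' i).2
  haveI hfin' : ∀ i, Module.Finite A (K'.X i) := fun i => (hK' i).1
  haveI hproj : ∀ n, Projective (K.X n) := fun n =>
    ModuleCat.projective_of_categoryTheory_projective (K.X n)
  haveI hproj' : ∀ n, Projective (K'.X n) := fun n =>
    ModuleCat.projective_of_categoryTheory_projective (K'.X n)
  haveI : K.IsKProjective := CochainComplex.isKProjective_of_projective K b
  haveI : K'.IsKProjective := CochainComplex.isKProjective_of_projective K' b
  have hsub : ∀ i : ℤ, i < a ∨ b < i → Subsingleton (K.X i) := by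
    intro i hi
    rcases hi with h | h
    · exact ModuleCat.subsingleton_of_isZero (K.isZero_of_isStrictlyGE a i h)
    · exact ModuleCat.subsingleton_of_isZero (K.isZero_of_isStrictlyLE b i h)
  have hsub' : ∀ i : ℤ, i < a ∨ b < i → Subsingleton (K'.X i) := by
    intro i hi
    rcases hi with h | h
    · exact ModuleCat.subsingleton_of_isZero (K'.isZero_of_isStrictlyGE a i h)
    · exact ModuleCat.subsingleton_of_isZero (K'.isZero_of_isStrictlyLE b i h)
  obtain ⟨f, hf⟩ := Groth.Agent.Lib.Helper11.DetCx.exists_Q_map_eq φ.hom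
  have hiso : IsIso (DerivedCategory.Q.map f) := by rw [hf]; infer_instance
  obtain ⟨hs⟩ := Groth.Agent.Lib.Helper11.DetCx.nonempty_contraction_of_isIso_Q_map f hiso
  have hQ : DerivedCategory.Q.map (f ≫ u') = DerivedCategory.Q.map (u ≫ f) := by
    rw [Functor.map_comp, Functor.map_comp, hf, hφ]
  obtain ⟨H⟩ := Groth.Agent.Lib.Helper11.DetCx.nonempty_homotopy_of_Q_map_eq _ _ hQ
  exact Groth.Agent.Lib.Helper11.DetCx.det_invariant_of_cone_contractible f u u' H a b hsub hsub' hs

end Groth.Agent.S3139
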