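import Groth.Statements.S3140
import Groth.Agent.S0611
import Mathlib

set_option autoImplicit false
universe u
open RingTheory.Sequence
open SGA4h

namespace Groth.Agent.S3140

open IsLocalRing
open Groth.Agent.S0611 (exists_split isWeaklyRegular_append_singleton_of)

section aux
variable {A : Type u} [CommRing A]

lemma ofList_perm {w w' : List A} (h : w.Perm w') : Ideal.ofList w = Ideal.ofList w' := by
  unfold Ideal.ofList
  congr 1
  ext r
  exact h.mem_iff

lemma spanFinrank_ofList_le (l : List A) : (Ideal.ofList l).spanFinrank ≤ l.length := by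
  classical
  have hfin : ({r | r ∈ l} : Set A).Finite := List.finite_toSet l
  refine (Submodule.spanFinrank_span_le_ncard_of_finite hfin).trans ?_
  have : ({r | r ∈ l} : Set A) = ↑l.toFinset := by ext; simp
  rw [this, Set.ncard_coe_finset]
  exact List.toFinset_card_le l

lemma ofList_ne_top {as : List A} (hreg : IsRegular A as) : Ideal.ofList as ≠ ⊤ := by
  intro h
  apply hreg.top_ne_smul
  rw [h]; simp

lemma length_le_spanFinrank [IsLocalRing A] [IsNoetherianRing A] (as : List A)
    (hreg : IsRegular A as) : as.length ≤ (Ideal.ofList as).spanFinrank := by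
  have hItop := ofList_ne_top hreg
  have hIm : Ideal.ofList as ≤ maximalIdeal A := IsLocalRing.le_maximalIdeal hItop
  have hd1 := ringKrullDim_add_length_eq_ringKrullDim_of_isRegular as hreg
  have hd2 := ringKrullDim_le_ringKrullDim_quotient_add_spanFinrank (Ideal.ofList as)
    (by rw [IsLocalRing.ringJacobson_eq_maximalIdeal]; exact hIm)
  have hlt : ringKrullDim A < ⊤ := ringKrullDim_lt_top
  have hntq : Nontrivial (A ⧸ Ideal.ofList as) := Ideal.Quotient.nontrivial_iff.mpr hItop
  have hdq : ringKrullDim (A ⧸ Ideal.ofList as) ≤ ringKrullDim A :=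
    ringKrullDim_quotient_le _
  have hbot : ringKrullDim (A ⧸ Ideal.ofList as) ≠ ⊥ := fun h => by
    have := ringKrullDim_nonneg_of_nontrivial (R := A ⧸ Ideal.ofList as)
    rw [h] at this; exact absurd this (by simp)
  have htop : ringKrullDim (A ⧸ Ideal.ofList as) ≠ ⊤ := (hdq.trans_lt hlt).ne
  obtain ⟨d, hd⟩ := WithBot.ne_bot_iff_exists.mp hbot
  rw [← hd] at htop hd1 hd2
  have hd' : d ≠ ⊤ := fun h => htop (by rw [h]; rfl)
  obtain ⟨k, rfl⟩ := ENat.ne_top_iff_exists.mp hd'
  rw [← hd1] at hd2
  have : (((k + as.length : ℕ) : ℕ∞) : WithBot ℕ∞) ≤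
      (((k + (Ideal.ofList as).spanFinrank : ℕ) : ℕ∞) : WithBot ℕ∞) := by
    push_cast
    exact hd2
  rw [WithBot.coe_le_coe, Nat.cast_le] at this
  omega

def Good (I : Ideal A) (w : List A) : Prop := IsRegular A w ∧ Ideal.ofList w = I

def Conn (I : Ideal A) (u v : List A) : Prop :=
  ∃ ws : List (List A), ws.head? = some u ∧ ws.getLast? = some v ∧ (∀ w ∈ ws, Good I w) ∧
    List.IsChain (fun w w' : List A => w.Perm w' ∨ (w.length = w'.length ∧ w.dropLast = w'.dropLast)) ws

lemma Conn.refl {I : Ideal A} {u : List A} (h : Good I u) : Conn I u u :=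
  ⟨[u], rfl, rfl, by simpa using h, .singleton u⟩

lemma Conn.cons {I : Ideal A} {u u' v : List A} (hu : Good I u)
    (hR : u.Perm u' ∨ (u.length = u'.length ∧ u.dropLast = u'.dropLast)) (h : Conn I u' v) :
    Conn I u v := by
  obtain ⟨ws, h1, h2, h3, h4⟩ := h
  refine ⟨u :: ws, rfl, ?_, ?_, ?_⟩
  · cases ws with
    | nil => simp at h1
    | cons w t => simpa [List.getLast?_cons_cons] using h2
  · intro w hw
    rcases List.mem_cons.mp hw with rfl | hw
    exacts [hu, h3 w hw]
  · refine h4.cons ?_
    intro y hy
    rw [h1] at hy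
    cases hy
    exact hR

end aux

theorem chain {A : Type u} [CommRing A] [IsLocalRing A] [IsNoetherianRing A] :
    ∀ (n : ℕ) (p u v : List A), u.length = n → v.length = n →
    IsRegular A (p ++ u) → IsRegular A (p ++ v) → Ideal.ofList (p ++ u) = Ideal.ofList (p ++ v) →
    Conn (Ideal.ofList (p ++ u)) (p ++ u) (p ++ v) := by
  intro n
  induction n with
  | zero =>
    intro p u v hu hv hru _ _
    rw [List.length_eq_zero_iff] at hu hv
    subst hu hv
    exact Conn.refl ⟨hru, rfl⟩
  | succ n ih =>
    intro p u v hu hv hru hrv hI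
    obtain ⟨b0, v', rfl⟩ := List.exists_cons_of_length_eq_add_one hv
    have hv' : v'.length = n := by simpa using hv
    have hItop := ofList_ne_top hru
    have hIm : Ideal.ofList (p ++ u) ≤ maximalIdeal A := IsLocalRing.le_maximalIdeal hItop
    have hb0I : b0 ∈ Ideal.ofList (p ++ u) := by
      rw [hI]; exact Ideal.subset_span (by simp)
    -- step (i)
    have hb0 : b0 ∉ Ideal.ofList p ⊔ maximalIdeal A • Ideal.ofList (p ++ u) := by
      intro hmem
      have hle : Ideal.ofList (p ++ u) ≤ Ideal.ofList (p ++ v') := by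
        have h1 : Ideal.ofList (p ++ u) ≤
            Ideal.ofList (p ++ v') ⊔ maximalIdeal A • Ideal.ofList (p ++ u) := by
          conv_lhs => rw [hI, Ideal.ofList_append, Ideal.ofList_cons]
          rw [Ideal.ofList_append]
          refine sup_le (le_sup_of_le_left le_sup_left) (sup_le ?_ (le_sup_of_le_left le_sup_right))
          rw [Ideal.span_singleton_le_iff_mem]
          have hle' : Ideal.ofList p ⊔ maximalIdeal A • Ideal.ofList (p ++ u) ≤
              Ideal.ofList p ⊔ Ideal.ofList v' ⊔ maximalIdeal A • Ideal.ofList (p ++ u) :=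
            sup_le_sup le_sup_left le_rfl
          exact hle' hmem
        exact Submodule.le_of_le_smul_of_le_jacobson_bot (IsNoetherian.noetherian _)
          (by rw [IsLocalRing.jacobson_eq_maximalIdeal ⊥ bot_ne_top]) h1
      have heq : Ideal.ofList (p ++ u) = Ideal.ofList (p ++ v') := by
        refine le_antisymm hle ?_
        rw [hI]
        refine Ideal.span_mono (fun r hr => ?_)
        simp only [List.mem_append, List.mem_cons, Set.mem_ofPred_eq] at hr ⊢
        tauto
      have h1 := length_le_spanFinrank _ hru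
      rw [heq] at h1
      have h2 := spanFinrank_ofList_le (p ++ v')
      simp only [List.length_append] at h1 h2
      omega
    -- step (ii)
    have hb0I' := hb0I
    rw [Ideal.ofList_append] at hb0I'
    obtain ⟨k, hk, b1, hb1, hkb⟩ := Submodule.mem_sup.mp hb0I'
    have hb1' : b1 ∉ maximalIdeal A • Ideal.ofList u := by
      intro hcon
      apply hb0
      rw [← hkb]
      refine Submodule.add_mem_sup hk ?_
      refine Submodule.smul_mono le_rfl ?_ hcon
      rw [Ideal.ofList_append]; exact le_sup_right
    obtain ⟨l1, x, l2, c, y, rfl, hc, hy, hb1eq⟩ := exists_split u b1 hb1 hb1'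
    have hlen : (l1 ++ l2).length = n := by
      simp only [List.length_append, List.length_cons] at hu ⊢; omega
    have hy' : k + y ∈ Ideal.ofList (p ++ (l1 ++ l2)) := by
      rw [Ideal.ofList_append]
      exact Submodule.add_mem_sup hk hy
    have hb0eq : b0 = c * x + (k + y) := by rw [← hkb, hb1eq]; ring
    -- step (iii)
    have perm01 : (p ++ (l1 ++ x :: l2)).Perm ((p ++ (l1 ++ l2)) ++ [x]) := by
      refine (List.Perm.append_left p List.perm_middle).trans ?_
      refine List.perm_middle.trans ?_
      exact (List.perm_append_singleton x (p ++ (l1 ++ l2))).symm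
    have hreg1 : IsRegular A ((p ++ (l1 ++ l2)) ++ [x]) := IsLocalRing.isRegular_of_perm hru perm01
    have hgood0 : Good (Ideal.ofList (p ++ (l1 ++ x :: l2))) (p ++ (l1 ++ x :: l2)) := ⟨hru, rfl⟩
    have hgood1 : Good (Ideal.ofList (p ++ (l1 ++ x :: l2))) ((p ++ (l1 ++ l2)) ++ [x]) :=
      ⟨hreg1, (ofList_perm perm01).symm⟩
    have hw2 : IsWeaklyRegular A ((p ++ (l1 ++ l2)) ++ [b0]) :=
      isWeaklyRegular_append_singleton_of hc hy' hb0eq hreg1.toIsWeaklyRegular
    have hlI : ∀ r ∈ p ++ (l1 ++ l2), r ∈ Ideal.ofList (p ++ (l1 ++ x :: l2)) := by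
      intro r hr
      refine Ideal.subset_span ?_
      simp only [List.mem_append, List.mem_cons, Set.mem_ofPred_eq] at hr ⊢
      tauto
    have hreg2 : IsRegular A ((p ++ (l1 ++ l2)) ++ [b0]) := by
      refine IsRegular.of_isWeaklyRegular_of_mem_maximalIdeal A ?_ hw2
      intro r hr
      rcases List.mem_append.mp hr with hr | hr
      · exact hIm (hlI r hr)
      · rw [List.mem_singleton] at hr; rw [hr]; exact hIm hb0I
    have hI2 : Ideal.ofList ((p ++ (l1 ++ l2)) ++ [b0]) = Ideal.ofList (p ++ (l1 ++ x :: l2)) := by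
      apply le_antisymm
      · rw [Ideal.span_le]
        intro r hr
        rcases List.mem_append.mp hr with hr | hr
        · exact hlI r hr
        · rw [List.mem_singleton] at hr; rw [hr]; exact hb0I
      · rw [Ideal.span_le]
        intro r hr
        have hsub : ∀ r ∈ p ++ (l1 ++ l2), r ∈ Ideal.ofList ((p ++ (l1 ++ l2)) ++ [b0]) :=
          fun r hr => Ideal.subset_span (List.mem_append_left _ hr)
        simp only [List.mem_append, List.mem_cons, Set.mem_ofPred_eq] at hr
        rcases hr with hr | hr | hr | hr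
        · exact hsub r (List.mem_append_left _ hr)
        · exact hsub r (List.mem_append_right _ (List.mem_append_left _ hr))
        · obtain ⟨c', hc'⟩ := hc.exists_left_inv
          have hx : x = c' * b0 - c' * (k + y) := by
            rw [hb0eq]; linear_combination (-x) * hc'
          rw [hr, hx]
          refine Submodule.sub_mem _ (Ideal.mul_mem_left _ _ (Ideal.subset_span (by simp)))
            (Ideal.mul_mem_left _ _ ?_)
          exact Ideal.span_mono (fun r hr => List.mem_append_left _ hr) hy'
        · exact hsub r (List.mem_append_right _ (List.mem_append_right _ hr))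
    have hgood2 : Good (Ideal.ofList (p ++ (l1 ++ x :: l2))) ((p ++ (l1 ++ l2)) ++ [b0]) :=
      ⟨hreg2, hI2⟩
    have perm23 : ((p ++ (l1 ++ l2)) ++ [b0]).Perm ((p ++ [b0]) ++ (l1 ++ l2)) := by
      have e1 : (p ++ (l1 ++ l2)) ++ [b0] = p ++ ((l1 ++ l2) ++ [b0]) := List.append_assoc _ _ _
      have e2 : (p ++ [b0]) ++ (l1 ++ l2) = p ++ ([b0] ++ (l1 ++ l2)) := List.append_assoc _ _ _
      rw [e1, e2]
      exact List.Perm.append_left p List.perm_append_comm
    have hreg3 : IsRegular A ((p ++ [b0]) ++ (l1 ++ l2)) := IsLocalRing.isRegular_of_perm hreg2 perm23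
    have hI3 : Ideal.ofList ((p ++ [b0]) ++ (l1 ++ l2)) = Ideal.ofList (p ++ (l1 ++ x :: l2)) :=
      (ofList_perm perm23).symm.trans hI2
    have hlast : (p ++ [b0]) ++ v' = p ++ b0 :: v' := by simp
    have hih := ih (p ++ [b0]) (l1 ++ l2) v' hlen hv' hreg3 (by rw [hlast]; exact hrv)
      (by rw [hlast, hI3, hI])
    rw [hI3, hlast] at hih
    refine Conn.cons hgood0 (Or.inl perm01) (Conn.cons hgood1 (Or.inr ⟨by simp, ?_⟩)
      (Conn.cons hgood2 (Or.inl perm23) hih))
    rw [List.dropLast_concat, List.dropLast_concat]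



/-- Let A be a Noetherian local ring and u, v two regular sequences of elements of A generating the same
ideal. Then there is a finite chain of regular sequences generating that same ideal, starting at u
and ending at v, in which each sequence is obtained from the previous one either by a permutation or
by changing only its last element. -/
theorem result (A : Type u) [CommRing A] [IsLocalRing A] [IsNoetherianRing A]
    (u v : List A) (hu : IsRegular A u) (hv : IsRegular A v) (huv : Ideal.span {x | x ∈ u} = Ideal.span {x | x ∈ v}) :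
    ∃ ws : List (List A), ws.head? = some u ∧ ws.getLast? = some v ∧
      (∀ w ∈ ws, IsRegular A w ∧ Ideal.span {x | x ∈ w} = Ideal.span {x | x ∈ u}) ∧
      List.IsChain (fun w w' : List A => w.Perm w' ∨ (w.length = w'.length ∧ w.dropLast = w'.dropLast)) ws := by
  have h1 := length_le_spanFinrank u hu
  have h2 := length_le_spanFinrank v hv
  have h3 := spanFinrank_ofList_le u
  have h4 := spanFinrank_ofList_le v
  have huv' : Ideal.ofList u = Ideal.ofList v := huv
  rw [huv'] at h1 h3
  have hlen : v.length = u.length := by omega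
  have hc := chain u.length [] u v rfl hlen (by simpa using hu) (by simpa using hv)
    (by simpa using huv')
  simp only [List.nil_append] at hc
  obtain ⟨ws, hws1, hws2, hws3, hws4⟩ := hc
  exact ⟨ws, hws1, hws2, fun w hw => hws3 w hw, hws4⟩

end Groth.Agent.S3140
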