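import Groth.Statements.S3192
import Mathlib
import Groth.Agent.Lib.Helper20CohLoc
import Groth.Agent.Lib.Helper20K0Full
import Groth.Agent.Lib.Helper20KPush
import Groth.Agent.Lib.Helper17K0Serre5

set_option autoImplicit false
universe u
open CategoryTheory CategoryTheory.Limits AlgebraicGeometry
attribute [local instance] HasDerivedCategory.standard
open SGA6

namespace Groth.Agent.S3192

open KZero Groth.Agent.Lib.Helper17.K0a Groth.Agent.Lib.Helper17.K0Serre
  Groth.Agent.Lib.Helper20.CohLoc Groth.Agent.Lib.Helper20.K0Full Groth.Agent.Lib.Helper20.KPush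
  Groth.Agent.Lib.Helper4.KFilt Groth.Agent.Lib.Helper4.Dev

theorem K0sub_induction {A : Type*} [Category A] [Abelian A] (P : ObjectProperty A)
    (H : AddSubgroup (K0sub P)) (h : ∀ (X : A) (_ : P X), clSub P X ∈ H) (x : K0sub P) : x ∈ H := by
  induction x using QuotientAddGroup.induction_on with
  | H z =>
    induction z using FreeAbelianGroup.induction_on with
    | zero => exact H.zero_mem
    | of X =>
      obtain ⟨X, hX⟩ := X
      have := h X hX
      rwa [clSub_of_prop P hX] at this
    | neg X hX => exact H.neg_mem hX
    | add x y hx hy => exact H.add_mem hx hy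


/-- Let X be a Noetherian scheme, i : X' ⟶ X a closed immersion and j : U ⟶ X the open immersion of the
complement. With K_•(−) = K₀ of coherent modules, i_* (exact; carried as instance hypotheses, and
sending coherent modules to coherent modules — hypothesis hi) and j^* (exact, preserving coherence —
hypothesis hj) induce homomorphisms K_•(X') ⟶ K_•(X) ⟶ K_•(U); then j^* is surjective and its kernel
is the image of i_*. -/
theorem result {X X' U : Scheme.{u}} [IsNoetherian X] (i : X' ⟶ X) [IsClosedImmersion i]
    (j : U ⟶ X) [IsOpenImmersion j] (hU : Set.range j = (Set.range i)ᶜ)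
    [(Scheme.Modules.pushforward i).Additive] [PreservesFiniteLimits (Scheme.Modules.pushforward i)] [PreservesFiniteColimits (Scheme.Modules.pushforward i)]
    [PreservesFiniteLimits (Scheme.Modules.restrictFunctor j)]
    (hi : ∀ M : X'.Modules, Coh.IsCoh M → Coh.IsCoh ((Scheme.Modules.pushforward i).obj M))
    (hj : ∀ M : X.Modules, Coh.IsCoh M → Coh.IsCoh ((Scheme.Modules.restrictFunctor j).obj M)) :
    Function.Surjective (SGA6.mapSub (Scheme.Modules.restrictFunctor j) (fun M : (X).Modules => Coh.IsCoh M) (fun M : (U).Modules => Coh.IsCoh M) hj) ∧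
      (SGA6.mapSub (Scheme.Modules.restrictFunctor j) (fun M : (X).Modules => Coh.IsCoh M) (fun M : (U).Modules => Coh.IsCoh M) hj).ker =
        (SGA6.mapSub (Scheme.Modules.pushforward i) (fun M : (X').Modules => Coh.IsCoh M) (fun M : (X).Modules => Coh.IsCoh M) hi).range := by
  haveI : IsLocallyNoetherian U := isLocallyNoetherian_of_isOpenImmersion j
  set mj := SGA6.mapSub (Scheme.Modules.restrictFunctor j) (cohP X) (cohP U) hj with hmj
  set mi := SGA6.mapSub (Scheme.Modules.pushforward i) (cohP X') (cohP X) hi with hmi
  change Function.Surjective mj ∧ mj.ker = mi.range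
  have hmjcl : ∀ (M : X.Modules) (hM : Coh.IsCoh M),
      mj (clSub (cohP X) M) = clSub (cohP U) ((Scheme.Modules.restrictFunctor j).obj M) :=
    fun M hM => mapSub_clSub' _ _ _ hj hM
  have hmicl : ∀ (N : X'.Modules) (hN : Coh.IsCoh N),
      mi (clSub (cohP X') N) = clSub (cohP X) ((Scheme.Modules.pushforward i).obj N) :=
    fun N hN => mapSub_clSub' _ _ _ hi hN
  refine ⟨?_, ?_⟩
  · -- surjectivity
    intro y
    have : y ∈ mj.range := by
      refine K0sub_induction (cohP U) mj.range (fun G hG => ?_) y
      obtain ⟨G', hG', ⟨a⟩⟩ := exists_extension j G hG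
      exact ⟨clSub (cohP X) G', by rw [hmjcl G' hG', clSub_of_iso (cohP U) a (hj G' hG')]⟩
    exact this
  · -- exactness
    haveI := isLocalization_Lc j hj
    apply le_antisymm
    · intro x hx
      rw [AddMonoidHom.mem_ker] at hx
      -- transport to `K₀` of the abelian category of coherent modules
      have hcomm : (lam (Lc j hj)).comp (ofSub (cohP X)) = (ofSub (cohP U)).comp mj := by
        apply K0sub_hom_ext
        intro M hM
        rw [AddMonoidHom.comp_apply, AddMonoidHom.comp_apply, ofSub_clSub (cohP X) hM, lam_cl,
          hmjcl M hM, ofSub_clSub (cohP U) (hj M hM)]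
        rfl
      have h1 : lam (Lc j hj) (ofSub (cohP X) x) = 0 := by
        have := DFunLike.congr_fun hcomm x
        rw [AddMonoidHom.comp_apply, AddMonoidHom.comp_apply, hx, map_zero] at this
        exact this
      have h2 : ofSub (cohP X) x ∈ (iota (killP j hj)).range := by
        rw [← ker_lam (killP j hj) (Lc j hj)]
        exact h1
      obtain ⟨w, hw⟩ := h2
      have h3 : x = toSub (cohP X) (iota (killP j hj) w) := by
        rw [hw, toSub_ofSub]
      rw [h3]
      -- the classes of coherent modules supported off `U` come from `X'`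
      have h4 : ∀ w : K0sub (killP j hj), toSub (cohP X) (iota (killP j hj) w) ∈ mi.range := by
        intro w
        refine K0sub_induction (killP j hj)
          (mi.range.comap ((toSub (cohP X)).comp (iota (killP j hj)))) (fun N hN => ?_) w
        change toSub (cohP X) (iota (killP j hj) (clSub (killP j hj) N)) ∈ mi.range
        rw [iota_clSub (killP j hj) hN, toSub_cl]
        refine clSub_mem_range_push i hi N.obj N.property ?_
        have := (killP_iff j hj N).1 hN
        rwa [hU, compl_compl] at this
      exact h4 w
    · rintro _ ⟨z, rfl⟩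
      rw [AddMonoidHom.mem_ker]
      have : mj.comp mi = 0 := by
        apply K0sub_hom_ext
        intro N hN
        rw [AddMonoidHom.comp_apply, hmicl N hN, hmjcl _ (hi N hN), AddMonoidHom.zero_apply]
        apply clSub_of_isZero
        rw [isZero_restrict_iff, hU, compl_compl]
        exact support_push_subset i N
      exact DFunLike.congr_fun this z

end Groth.Agent.S3192
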