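import Groth.Statements.S3194
import Mathlib
-- import your own Groth.Agent.* helpers here

set_option autoImplicit false
universe u
open CategoryTheory
open SGA6

namespace Groth.Agent.S3194.Aux
set_option autoImplicit false
namespace K0PID
open CategoryTheory KZero

variable (R : Type u) [CommRing R]

abbrev P : ObjectProperty (ModuleCat.{u} R) := fun M => Module.Finite R M

variable {R}

lemma P_of (X : Type u) [AddCommGroup X] [Module R X] [Module.Finite R X] :
    P R (ModuleCat.of R X) := (inferInstance : Module.Finite R X)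

lemma clSub_of (X : Type u) [AddCommGroup X] [Module R X] [Module.Finite R X] :
    clSub (P R) (ModuleCat.of R X) =
      QuotientAddGroup.mk (FreeAbelianGroup.of ⟨ModuleCat.of R X, P_of X⟩) := by
  unfold clSub
  rw [dif_pos (P_of X)]

lemma cl_add {X₁ X₂ X₃ : Type u} [AddCommGroup X₁] [Module R X₁] [AddCommGroup X₂] [Module R X₂]
    [AddCommGroup X₃] [Module R X₃]
    [Module.Finite R X₁] [Module.Finite R X₂] [Module.Finite R X₃]
    (f : X₁ →ₗ[R] X₂) (g : X₂ →ₗ[R] X₃) (hf : Function.Injective f) (hg : Function.Surjective g)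
    (hex : Function.Exact f g) :
    clSub (P R) (ModuleCat.of R X₂) =
      clSub (P R) (ModuleCat.of R X₁) + clSub (P R) (ModuleCat.of R X₃) := by
  rw [clSub_of, clSub_of, clSub_of, ← sub_eq_zero, ← sub_sub, ← QuotientAddGroup.mk_sub,
    ← QuotientAddGroup.mk_sub, QuotientAddGroup.eq_zero_iff]
  apply AddSubgroup.subset_closure
  have eq0 : g.comp f = 0 := hex.linearMap_comp_eq_zero
  refine ⟨ModuleCat.shortComplexOfCompEqZero f g eq0, P_of X₁, P_of X₂, P_of X₃, ?_, rfl⟩
  exact ModuleCat.shortComplex_shortExact _ hex hf hg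

lemma cl_subsingleton (X : Type u) [AddCommGroup X] [Module R X] [Subsingleton X] :
    clSub (P R) (ModuleCat.of R X) = 0 := by
  have : Finite X := Finite.of_subsingleton
  have : Module.Finite R X := Module.Finite.of_finite
  have h := cl_add (R := R) (LinearMap.id : X →ₗ[R] X) (0 : X →ₗ[R] X) Function.injective_id
    (fun y => ⟨y, Subsingleton.elim _ _⟩)
    (fun y => ⟨fun _ => ⟨y, rfl⟩, fun _ => Subsingleton.elim _ _⟩)
  exact (add_eq_left.mp h.symm)

lemma cl_equiv {X Y : Type u} [AddCommGroup X] [Module R X] [AddCommGroup Y] [Module R Y]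
    [Module.Finite R X] [Module.Finite R Y]
    (e : X ≃ₗ[R] Y) : clSub (P R) (ModuleCat.of R X) = clSub (P R) (ModuleCat.of R Y) := by
  have h := cl_add (R := R) (0 : PUnit.{u+1} →ₗ[R] X) e.toLinearMap
    (fun a b _ => Subsingleton.elim _ _) e.surjective
    (fun y => ⟨fun hy => ⟨0, by
      have : y = 0 := e.injective (by rw [map_zero]; exact hy)
      rw [this]; rfl⟩, fun ⟨a, ha⟩ => by
      rw [← ha]; simp⟩)
  rw [cl_subsingleton PUnit.{u+1}, zero_add] at h
  exact h

section PID
variable [IsDomain R] [IsPrincipalIdealRing R]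

/-- cyclic modules -/
lemma cl_quot (I : Ideal R) :
    clSub (P R) (ModuleCat.of R (R ⧸ I)) ∈ AddSubgroup.zmultiples (clSub (P R) (ModuleCat.of R R)) := by
  by_cases hI : I = ⊥
  · subst hI
    have e : (R ⧸ (⊥ : Ideal R)) ≃ₗ[R] R := Submodule.quotEquivOfEqBot ⊥ rfl
    rw [cl_equiv e]
    exact AddSubgroup.mem_zmultiples _
  · obtain ⟨a, rfl⟩ := (IsPrincipalIdealRing.principal I).principal
    have ha : a ≠ 0 := by
      rintro rfl
      apply hI
      simp
    have h := cl_add (R := R) (LinearMap.mulLeft R a : R →ₗ[R] R)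
      (Submodule.mkQ (Submodule.span R {a}))
      (fun x y hxy => mul_left_cancel₀ ha hxy) (Submodule.mkQ_surjective _)
      (fun y => by
        rw [Submodule.mkQ_apply, Submodule.Quotient.mk_eq_zero, Submodule.mem_span_singleton]
        constructor
        · rintro ⟨c, rfl⟩; exact ⟨c, by simp [mul_comm]⟩
        · rintro ⟨c, rfl⟩; exact ⟨c, by simp [mul_comm]⟩)
    have h0 : clSub (P R) (ModuleCat.of R (R ⧸ Submodule.span R {a})) = 0 :=
      add_eq_left.mp h.symm
    change clSub (P R) (ModuleCat.of R (R ⧸ Submodule.span R {a})) ∈ _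
    rw [h0]
    exact zero_mem _

lemma cl_mem (n : ℕ) : ∀ (M : Type u) [AddCommGroup M] [Module R M] [Module.Finite R M]
    (x : Fin n → M), Submodule.span R (Set.range x) = ⊤ →
    clSub (P R) (ModuleCat.of R M) ∈ AddSubgroup.zmultiples (clSub (P R) (ModuleCat.of R R)) := by
  induction n with
  | zero =>
    intro M _ _ _ x hx
    have : Subsingleton M := by
      rw [← Submodule.subsingleton_iff R, ← subsingleton_iff_bot_eq_top, ← hx]
      simp
    rw [cl_subsingleton M]
    exact zero_mem _
  | succ n ih =>
    intro M _ _ _ x hx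
    let N : Submodule R M := Submodule.span R {x 0}
    have hNoeth : IsNoetherian R M := isNoetherian_of_isNoetherianRing_of_finite R M
    have hNfin : Module.Finite R N := Module.Finite.of_fg (IsNoetherian.noetherian N)
    have h := cl_add (R := R) N.subtype N.mkQ N.injective_subtype N.mkQ_surjective
      (fun y => by
        rw [Submodule.mkQ_apply, Submodule.Quotient.mk_eq_zero]
        constructor
        · intro hy; exact ⟨⟨y, hy⟩, rfl⟩
        · rintro ⟨z, rfl⟩; exact z.2)
    rw [h]
    refine add_mem ?_ ?_
    · -- N cyclic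
      let t : R →ₗ[R] N := LinearMap.toSpanSingleton R N ⟨x 0, Submodule.mem_span_singleton_self _⟩
      have ht : Function.Surjective t := by
        rintro ⟨y, hy⟩
        obtain ⟨c, rfl⟩ := Submodule.mem_span_singleton.mp hy
        exact ⟨c, Subtype.ext (by simp [t])⟩
      have e : (R ⧸ LinearMap.ker t) ≃ₗ[R] N := t.quotKerEquivOfSurjective ht
      rw [← cl_equiv e]
      exact cl_quot (LinearMap.ker t)
    · refine ih (M ⧸ N) (fun i => N.mkQ (x i.succ)) ?_
      rw [eq_top_iff]
      rintro q -
      obtain ⟨y, rfl⟩ := N.mkQ_surjective q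
      have hy : y ∈ Submodule.span R (Set.range x) := by rw [hx]; trivial
      refine Submodule.span_induction (p := fun y _ => N.mkQ y ∈
        Submodule.span R (Set.range fun i : Fin n => N.mkQ (x i.succ))) ?_ ?_ ?_ ?_ hy
      · rintro _ ⟨i, rfl⟩
        refine Fin.cases ?_ (fun j => ?_) i
        · have : N.mkQ (x 0) = 0 := by
            rw [Submodule.mkQ_apply, Submodule.Quotient.mk_eq_zero]
            exact Submodule.mem_span_singleton_self _
          rw [this]; exact zero_mem _
        · exact Submodule.subset_span ⟨j, rfl⟩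
      · rw [map_zero]; exact zero_mem _
      · intro a b _ _ ha hb; rw [map_add]; exact add_mem ha hb
      · intro c a _ ha; rw [map_smul]; exact Submodule.smul_mem _ c ha


lemma finrank_add_of_shortExact (S : ShortComplex (ModuleCat.{u} R)) (h₁ : P R S.X₁)
    (h₂ : P R S.X₂) (h₃ : P R S.X₃) (hS : S.ShortExact) :
    (Module.finrank R S.X₂ : ℤ) = Module.finrank R S.X₁ + Module.finrank R S.X₃ := by
  have : Module.Finite R S.X₁ := h₁
  have : Module.Finite R S.X₂ := h₂
  have : Module.Finite R S.X₃ := h₃
  have hinj : Function.Injective S.f.hom := hS.moduleCat_injective_f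
  have hsurj : Function.Surjective S.g.hom := hS.moduleCat_surjective_g
  have hex : Function.Exact S.f.hom S.g.hom :=
    (ShortComplex.ShortExact.moduleCat_exact_iff_function_exact S).mp hS.exact
  have hker : LinearMap.ker S.g.hom = LinearMap.range S.f.hom := LinearMap.exact_iff.mp hex
  have e1 : S.X₁ ≃ₗ[R] LinearMap.range S.f.hom := LinearEquiv.ofInjective S.f.hom hinj
  have e2 : (S.X₂ ⧸ LinearMap.range S.f.hom) ≃ₗ[R] S.X₃ :=
    (Submodule.quotEquivOfEq _ _ hker.symm) ≪≫ₗ (S.g.hom.quotKerEquivOfSurjective hsurj)
  have := (LinearMap.range S.f.hom).finrank_quotient_add_finrank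
  rw [e2.finrank_eq, ← e1.finrank_eq] at this
  rw [← this]
  push_cast
  ring

noncomputable def rank₀ : FreeAbelianGroup (Subtype (P R)) →+ ℤ :=
  FreeAbelianGroup.lift (fun M : Subtype (P R) => (Module.finrank R M.1 : ℤ))

lemma rank₀_ker : relSub (P R) ≤ (rank₀ (R := R)).ker := by
  unfold relSub
  rw [AddSubgroup.closure_le]
  rintro x ⟨S, h₁, h₂, h₃, hS, rfl⟩
  rw [SetLike.mem_coe, AddMonoidHom.mem_ker, map_sub, map_sub]
  simp only [rank₀, FreeAbelianGroup.lift_apply_of]
  rw [finrank_add_of_shortExact S h₁ h₂ h₃ hS]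
  ring

noncomputable def rk : K0sub (P R) →+ ℤ :=
  QuotientAddGroup.lift (relSub (P R)) rank₀ rank₀_ker

lemma rk_mk_of (M : Subtype (P R)) :
    rk (QuotientAddGroup.mk (FreeAbelianGroup.of M) : K0sub (P R)) = Module.finrank R M.1 := by
  simp only [rk, QuotientAddGroup.lift_mk, rank₀, FreeAbelianGroup.lift_apply_of]

theorem main : Function.Bijective
    (fun k : ℤ => k • clSub (P R) (ModuleCat.of R R)) := by
  have hone : rk (clSub (P R) (ModuleCat.of R R)) = 1 := by
    rw [clSub_of, rk_mk_of]
    change ((Module.finrank R R : ℕ) : ℤ) = 1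
    rw [Module.finrank_self]
    rfl
  constructor
  · intro k k' h
    have := congrArg rk h
    simp only [map_zsmul, hone, smul_eq_mul, mul_one] at this
    exact this
  · intro x
    suffices x ∈ AddSubgroup.zmultiples (clSub (P R) (ModuleCat.of R R)) by
      obtain ⟨k, hk⟩ := AddSubgroup.mem_zmultiples_iff.mp this
      exact ⟨k, hk⟩
    induction x using QuotientAddGroup.induction_on with
    | H z =>
      induction z using FreeAbelianGroup.induction_on with
      | zero => exact zero_mem _
      | of M =>
        obtain ⟨M, hM⟩ := M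
        have : Module.Finite R M := hM
        have h1 : clSub (P R) M = QuotientAddGroup.mk (FreeAbelianGroup.of ⟨M, hM⟩) := by
          unfold clSub
          rw [dif_pos hM]
        have h2 : clSub (P R) M = clSub (P R) (ModuleCat.of R M) := rfl
        rw [← h1, h2]
        obtain ⟨n, x, hx⟩ := Module.Finite.exists_fin (R := R) (M := M)
        exact cl_mem n M x hx
      | neg M ih =>
        rw [QuotientAddGroup.mk_neg]
        exact neg_mem ih
      | add a b ha hb =>
        rw [QuotientAddGroup.mk_add]
        exact add_mem ha hb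

end PID
end K0PID

end Groth.Agent.S3194.Aux

namespace Groth.Agent.S3194

/-- Let A be a principal ideal domain and K_•(Spec A) = K₀ of the category of finitely generated
A-modules (free abelian group on finitely generated modules modulo short exact sequences). The
homomorphism ℤ ⟶ K_•(Spec A) sending k to k·[A] is bijective. -/
theorem result (A : Type u) [CommRing A] [IsDomain A] [IsPrincipalIdealRing A] :
    Function.Bijective (fun k : ℤ => k • KZero.clSub (fun M : ModuleCat.{u} A => Module.Finite A M) (ModuleCat.of A A)) := by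
  exact Aux.K0PID.main

end Groth.Agent.S3194
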