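import Groth.Statements.S3208
import Mathlib

set_option autoImplicit false
open SGA7

namespace Groth.Agent.S3208

variable {E : Type} [CommRing E] [NoZeroSMulDivisors ℤ E] [Module.Finite ℤ E]

omit [Module.Finite ℤ E] in
theorem tf_cancel (k : ℕ) (hk : k ≠ 0) (z : E) (h : (k : E) * z = 0) : z = 0 := by
  have h1 : (k : ℤ) • z = 0 := by
    rw [zsmul_eq_mul]; push_cast; exact h
  rcases smul_eq_zero.mp h1 with h2 | h2
  · exact absurd (by exact_mod_cast h2) hk
  · exact h2

theorem krull (l : ℕ) (hl : l.Prime) (x : E) (h : ∀ a : ℕ, ((l : E) ^ a) ∣ x) : x = 0 := by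
  haveI : Module.IsTorsionFree ℤ E :=
    Module.IsTorsionFree.of_smul_eq_zero (fun r m h => smul_eq_zero.mp h)
  have hI : (Ideal.span {(l : ℤ)}) ≠ ⊤ := by
    rw [Ne, Ideal.span_singleton_eq_top]
    exact (Nat.prime_iff_prime_int.mp hl).not_isUnit
  have key := Ideal.iInf_pow_smul_eq_bot_of_isTorsionFree (R := ℤ) (M := E) (I := Ideal.span {(l : ℤ)}) hI
  have hx : x ∈ (⨅ i : ℕ, (Ideal.span {(l : ℤ)}) ^ i • ⊤ : Submodule ℤ E) := by
    rw [Submodule.mem_iInf]
    intro a
    obtain ⟨y, rfl⟩ := h a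
    have : ((l : E) ^ a) * y = ((l : ℤ) ^ a) • y := by
      rw [zsmul_eq_mul]; push_cast; rfl
    rw [this]
    exact Submodule.smul_mem_smul (Ideal.pow_mem_pow (Ideal.mem_span_singleton_self _) a) trivial
  rw [key] at hx
  simpa using hx

theorem core (l : ℕ) (hl : l.Prime) (c : ℕ) (hc : 1 ≤ c) (hodd : l ≠ 2 ∨ 2 ≤ c) (p : ℕ)
    (hp : p.Prime) (u : E) (hu : ((l : E) ^ c) ∣ u - 1) (hup : u ^ p = 1) : u = 1 := by
  by_contra hne
  have hne' : u - 1 ≠ 0 := sub_ne_zero.mpr hne
  -- maximal exponent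
  have hex : ∃ a : ℕ, ¬ ((l : E) ^ (a + 1)) ∣ u - 1 := by
    by_contra hcon
    push Not at hcon
    apply hne'
    apply krull l hl
    intro a
    rcases a with _ | a
    · simp
    · exact hcon a
  classical
  obtain ⟨a, ha1, ha0⟩ : ∃ a : ℕ, (¬ ((l : E) ^ (a + 1)) ∣ u - 1) ∧ ((l : E) ^ a) ∣ u - 1 := by
    refine ⟨Nat.find hex, Nat.find_spec hex, ?_⟩
    rcases h : Nat.find hex with _ | b
    · simp
    · have := Nat.find_min hex (m := b) (by omega)
      push Not at this
      exact this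
  have hca : c ≤ a := by
    by_contra hlt
    push Not at hlt
    apply ha1
    exact dvd_trans (pow_dvd_pow _ (by omega)) hu
  obtain ⟨X, hX⟩ := ha0
  have hXl : ¬ (l : E) ∣ X := by
    rintro ⟨Z, rfl⟩
    apply ha1
    exact ⟨Z, by rw [hX]; ring⟩
  have hu' : u = (l : E) ^ a * X + 1 := by rw [← hX]; ring
  obtain ⟨q, rfl⟩ : ∃ q, p = q + 2 := ⟨p - 2, by have := hp.two_le; omega⟩
  set Y : E := ∑ k ∈ Finset.range (q + 1),
    ((q + 2).choose (k + 2) : E) * (l : E) ^ (a * k) * X ^ (k + 2) with hY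
  have hexp : u ^ (q + 2) - 1 = (l : E) ^ a * (((q + 2 : ℕ) : E) * X + (l : E) ^ a * Y) := by
    rw [hu', add_pow, Finset.sum_range_succ', Finset.sum_range_succ']
    simp only [one_pow, mul_one, pow_zero, Nat.choose_zero_right, Nat.cast_one, zero_add, pow_one,
      Nat.choose_one_right]
    have this : ∀ k ∈ Finset.range (q + 1), ((l : E) ^ a * X) ^ (k + 1 + 1) * (((q + 2).choose (k + 1 + 1) : ℕ) : E)
        = (l : E) ^ a * ((l : E) ^ a * (((q + 2).choose (k + 2) : E) * (l : E) ^ (a * k) * X ^ (k + 2))) := by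
      intro k _
      rw [pow_mul]
      ring
    have hsum : ∑ k ∈ Finset.range (q + 1), ((l : E) ^ a * X) ^ (k + 1 + 1) * (((q + 2).choose (k + 1 + 1) : ℕ) : E)
        = (l : E) ^ a * ((l : E) ^ a * Y) := by
      rw [hY, Finset.mul_sum, Finset.mul_sum]
      exact Finset.sum_congr rfl this
    rw [hsum]
    push_cast
    ring
  rw [hup, sub_self] at hexp
  have h1 : ((q + 2 : ℕ) : E) * X + (l : E) ^ a * Y = 0 := by
    have h2 : ((l ^ a : ℕ) : E) * (((q + 2 : ℕ) : E) * X + (l : E) ^ a * Y) = 0 := by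
      push_cast; push_cast at hexp; exact hexp.symm
    exact tf_cancel (l ^ a) (pow_ne_zero _ hl.ne_zero) _ h2
  have ha_pos : 1 ≤ a := le_trans hc hca
  obtain ⟨a', rfl⟩ : ∃ a', a = a' + 1 := ⟨a - 1, by omega⟩
  by_cases hpl : q + 2 = l
  · -- p = l
    have h3 : (l : E) * (X + (l : E) ^ a' * Y) = 0 := by
      rw [← h1, hpl]; ring
    have h4 : X + (l : E) ^ a' * Y = 0 := tf_cancel l hl.ne_zero _ h3
    rcases Nat.eq_zero_or_pos a' with h0 | hpos
    · -- a = 1, so c = 1, l odd
      subst h0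
      have hc1 : c = 1 := by omega
      have hl2 : l ≠ 2 := by
        rcases hodd with h | h
        · exact h
        · omega
      have hl3 : 3 ≤ l := by
        have := hl.two_le
        omega
      apply hXl
      have hYdvd : (l : E) ∣ Y := by
        rw [hY]
        apply Finset.dvd_sum
        intro k hk
        rcases Nat.eq_zero_or_pos k with rfl | hkpos
        · have : l ∣ (q + 2).choose 2 := by
            rw [hpl]
            exact hl.dvd_choose_self (by norm_num) (by omega)
          obtain ⟨t, ht⟩ := this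
          simp only [zero_add]
          rw [ht]
          push_cast
          exact ⟨(t : E) * (l : E) ^ (1 * 0) * X ^ 2, by ring⟩
        · have : (l : E) ∣ (l : E) ^ (1 * k) := by
            rw [one_mul]
            exact dvd_pow_self _ (by omega)
          exact Dvd.dvd.mul_right (Dvd.dvd.mul_left this _) _
      have hXY : X = -Y := by
        have : X + Y = 0 := by simpa using h4
        exact eq_neg_of_add_eq_zero_left this
      rw [hXY]
      exact (dvd_neg).mpr hYdvd
    · apply hXl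
      have : X = -((l : E) ^ a' * Y) := eq_neg_of_add_eq_zero_left h4
      rw [this]
      apply (dvd_neg).mpr
      exact Dvd.dvd.mul_right (dvd_pow_self _ (by omega)) _
  · -- p ≠ l
    have hcop : Nat.Coprime (q + 2) l := (Nat.coprime_primes hp hl).mpr hpl
    have hcop' : IsCoprime ((q + 2 : ℕ) : ℤ) (l : ℤ) := Nat.isCoprime_iff_coprime.mpr hcop
    obtain ⟨s, t, hst⟩ := hcop'
    apply hXl
    have hst' : (s : E) * ((q + 2 : ℕ) : E) + (t : E) * (l : E) = 1 := by
      have := congrArg (fun z : ℤ => (z : E)) hst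
      simpa using this
    have h5 : ((q + 2 : ℕ) : E) * X = -((l : E) ^ (a' + 1) * Y) := eq_neg_of_add_eq_zero_left h1
    refine ⟨-(s : E) * (l : E) ^ a' * Y + (t : E) * X, ?_⟩
    calc X = ((s : E) * ((q + 2 : ℕ) : E) + (t : E) * (l : E)) * X := by rw [hst', one_mul]
      _ = (s : E) * (((q + 2 : ℕ) : E) * X) + (t : E) * (l : E) * X := by ring
      _ = (l : E) * (-(s : E) * (l : E) ^ a' * Y + (t : E) * X) := by rw [h5]; ring

theorem lemmaB (l : ℕ) (hl : l.Prime) (c : ℕ) (hc : 1 ≤ c) (hodd : l ≠ 2 ∨ 2 ≤ c) :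
    ∀ (m : ℕ), 0 < m → ∀ u : E, u ^ m = 1 → ((l : E) ^ c) ∣ u - 1 → u = 1 := by
  intro m
  induction m using Nat.strong_induction_on with
  | _ m ih =>
    intro hm u hum hu
    rcases Nat.lt_or_ge m 2 with h2 | h2
    · have : m = 1 := by omega
      subst this
      simpa using hum
    · obtain ⟨p, hp, hpm⟩ := Nat.exists_prime_and_dvd (n := m) (by omega)
      obtain ⟨m', rfl⟩ := hpm
      have hm' : 0 < m' := Nat.pos_of_ne_zero (by rintro rfl; simp at hm)
      have h1 : u ^ m' = 1 := by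
        apply core l hl c hc hodd p hp (u ^ m')
        · have : u - 1 ∣ u ^ m' - 1 := by
            simpa using sub_dvd_pow_sub_pow u 1 m'
          exact dvd_trans hu this
        · rw [← pow_mul, mul_comm]; exact hum
      exact ih m' (by have := hp.two_le; nlinarith) hm' u h1 hu


/-- Let E be a commutative ring which is finitely generated and torsion-free as an additive group, u an
element of E of finite multiplicative order (u^m = 1 for some m > 0), and n ≥ 2 an integer with u ≡
1 modulo nE (i.e. 1 - u = n·v for some v ∈ E). Then u² = 1, and if n ≥ 3 then u = 1. -/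
theorem result (E : Type) [CommRing E] [NoZeroSMulDivisors ℤ E] [Module.Finite ℤ E] (u : E) (m : ℕ) (hm : 0 < m)
    (hu : u ^ m = 1) (n : ℕ) (hn : 2 ≤ n) (hcong : ∃ v : E, 1 - u = (n : E) * v) :
    u ^ 2 = 1 ∧ (3 ≤ n → u = 1) := by
  obtain ⟨v, hv⟩ := hcong
  have hdvd : (n : E) ∣ u - 1 := ⟨-v, by rw [mul_neg, ← hv]; ring⟩
  have h3 : 3 ≤ n → u = 1 := by
    intro h3
    rcases Nat.eq_two_pow_or_exists_odd_prime_and_dvd n with ⟨k, hk⟩ | ⟨l, hl, hln, hodd⟩
    · have hk2 : 2 ≤ k := by
        by_contra hlt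
        push Not at hlt
        interval_cases k <;> omega
      apply lemmaB 2 Nat.prime_two 2 (by norm_num) (Or.inr le_rfl) m hm u hu
      refine dvd_trans ?_ hdvd
      rw [hk]
      push_cast
      exact pow_dvd_pow _ hk2
    · apply lemmaB l hl 1 le_rfl (Or.inl ?_) m hm u hu
      · rw [pow_one]
        exact dvd_trans (by exact_mod_cast (Nat.cast_dvd_cast (α := E) hln)) hdvd
      · rintro rfl
        exact (Nat.not_even_iff_odd.mpr hodd) even_two
  refine ⟨?_, h3⟩
  rcases Nat.lt_or_ge n 3 with hlt | hge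
  · have hn2 : n = 2 := by omega
    subst hn2
    apply lemmaB 2 Nat.prime_two 2 (by norm_num) (Or.inr le_rfl) m hm (u ^ 2)
    · rw [← pow_mul, mul_comm, pow_mul, hu, one_pow]
    · have hu1 : u = 1 - 2 * v := by
        have : (1 : E) - u = 2 * v := by simpa using hv
        rw [← this]; ring
      refine ⟨-v * (1 - v), ?_⟩
      rw [hu1]
      push_cast
      ring
  · rw [h3 hge, one_pow]

end Groth.Agent.S3208
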