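import Groth.Statements.S3209
import Mathlib

set_option autoImplicit false
universe u
open TensorProduct
open SGA7

namespace Groth.Agent.S3209

section
variable {R : Type u} [CommRing R] (S : Type u) [AddCommGroup S] [Module R S]
  {J P B' C B : Type u} [AddCommGroup J] [Module R J] [AddCommGroup P] [Module R P]
  [AddCommGroup B'] [Module R B'] [AddCommGroup C] [Module R C] [AddCommGroup B] [Module R B]

theorem general (j : J →ₗ[R] P) (p₁ : P →ₗ[R] B') (p₂ : P →ₗ[R] C) (f : B' →ₗ[R] B)
    (g : C →ₗ[R] B) (h1 : Function.Exact j p₂) (h2 : Function.Surjective p₂)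
    (h3 : Function.Exact (p₁ ∘ₗ j) f) (h4 : Function.Surjective f)
    (h5 : f ∘ₗ p₁ = g ∘ₗ p₂) (h6 : Function.Injective ((p₁ ∘ₗ j).lTensor S)) :
    Function.Injective (fun z : S ⊗[R] P => (p₁.lTensor S z, p₂.lTensor S z)) ∧
    ∀ (x : S ⊗[R] B') (y : S ⊗[R] C), f.lTensor S x = g.lTensor S y →
      ∃ z : S ⊗[R] P, p₁.lTensor S z = x ∧ p₂.lTensor S z = y := by
  have e1 := lTensor_exact S h1 h2
  have e3 := lTensor_exact S h3 h4
  have s2 := LinearMap.lTensor_surjective S h2
  constructor
  · intro z z' hzz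
    have hz : p₁.lTensor S (z - z') = 0 ∧ p₂.lTensor S (z - z') = 0 := by
      have := Prod.ext_iff.mp hzz
      simp only at this
      rw [map_sub, map_sub, this.1, this.2, sub_self, sub_self]
      exact ⟨rfl, rfl⟩
    obtain ⟨w, hw⟩ := (e1 (z - z')).mp hz.2
    have h7 : (p₁ ∘ₗ j).lTensor S w = 0 := by
      rw [LinearMap.lTensor_comp, LinearMap.comp_apply, hw, hz.1]
    have h8 : w = 0 := h6 (by rw [h7, map_zero])
    rw [h8, map_zero] at hw
    exact sub_eq_zero.mp hw.symm
  · intro x y hxy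
    obtain ⟨z₀, hz₀⟩ := s2 y
    have h7 : f.lTensor S (x - p₁.lTensor S z₀) = 0 := by
      rw [map_sub, hxy, ← hz₀, ← LinearMap.comp_apply, ← LinearMap.comp_apply,
        ← LinearMap.lTensor_comp, ← LinearMap.lTensor_comp, h5, sub_self]
    obtain ⟨w, hw⟩ := (e3 _).mp h7
    refine ⟨z₀ + j.lTensor S w, ?_, ?_⟩
    · rw [map_add, ← LinearMap.comp_apply, ← LinearMap.lTensor_comp, hw]
      abel
    · rw [map_add, hz₀]
      have : p₂.lTensor S (j.lTensor S w) = 0 := (e1 _).mpr ⟨w, rfl⟩
      rw [this, add_zero]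

end

/-- Let f : B' → B be a surjective map of R-algebras with kernel J, g : C → B a map of R-algebras, P =
B' ×_B C their fibre product (the equalizer of f ∘ pr₁ and g ∘ pr₂ in B' × C) and S an R-algebra
such that S ⊗_R J → S ⊗_R B' is injective (this holds when Tor_1^R(B, S) = 0, the published
hypothesis, and in particular when S is flat). Then the canonical map S ⊗_R P → (S ⊗_R B') ×_{S ⊗_R
B} (S ⊗_R C) is bijective: it is injective, and every pair with the same image in S ⊗_R B comes from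
S ⊗_R P. -/
theorem result (R B' B C S : Type u) [CommRing R] [CommRing B'] [CommRing B] [CommRing C]
    [CommRing S] [Algebra R B'] [Algebra R B] [Algebra R C] [Algebra R S]
    (f : B' →ₐ[R] B) (hf : Function.Surjective f) (g : C →ₐ[R] B)
    (hJ : Function.Injective (LinearMap.lTensor S (LinearMap.ker f.toLinearMap).subtype)) :
    letI P := AlgHom.equalizer (f.comp (AlgHom.fst R B' C)) (g.comp (AlgHom.snd R B' C))
    letI φ₁ := Algebra.TensorProduct.map (AlgHom.id R S) ((AlgHom.fst R B' C).comp P.val)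
    letI φ₂ := Algebra.TensorProduct.map (AlgHom.id R S) ((AlgHom.snd R B' C).comp P.val)
    Function.Injective (fun z : S ⊗[R] ↥P => (φ₁ z, φ₂ z)) ∧
    ∀ (x : S ⊗[R] B') (y : S ⊗[R] C),
      Algebra.TensorProduct.map (AlgHom.id R S) f x = Algebra.TensorProduct.map (AlgHom.id R S) g y →
        ∃ z : S ⊗[R] ↥P, φ₁ z = x ∧ φ₂ z = y := by
  let P := AlgHom.equalizer (f.comp (AlgHom.fst R B' C)) (g.comp (AlgHom.snd R B' C))
  let J : Submodule R B' := LinearMap.ker f.toLinearMap
  have hmemP : ∀ z : B' × C, z ∈ P ↔ f z.1 = g z.2 := fun z => Iff.rfl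
  let j : J →ₗ[R] P :=
    { toFun := fun x => ⟨((x : B'), 0), by
        rw [hmemP]
        show f (x : B') = g 0
        rw [map_zero]; exact x.2⟩
      map_add' := fun x y => by
        apply Subtype.ext
        show ((x : B') + (y : B'), (0 : C)) = ((x : B'), (0 : C)) + ((y : B'), (0 : C))
        rw [Prod.mk_add_mk, add_zero]
      map_smul' := fun r x => by
        apply Subtype.ext
        show (r • (x : B'), (0 : C)) = r • ((x : B'), (0 : C))
        rw [Prod.smul_mk, smul_zero] }
  let p₁ : P →ₗ[R] B' := ((AlgHom.fst R B' C).comp P.val).toLinearMap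
  let p₂ : P →ₗ[R] C := ((AlgHom.snd R B' C).comp P.val).toLinearMap
  have hp₁j : p₁ ∘ₗ j = J.subtype := by
    apply LinearMap.ext; intro x; rfl
  have h1 : Function.Exact j p₂ := by
    intro z
    constructor
    · intro hz
      have hz2 : (z : B' × C).2 = 0 := hz
      have hz1 : (z : B' × C).1 ∈ J := by
        show f (z : B' × C).1 = 0
        rw [(hmemP _).mp z.2, hz2, map_zero]
      refine ⟨⟨_, hz1⟩, ?_⟩
      apply Subtype.ext
      show ((z : B' × C).1, (0 : C)) = (z : B' × C)
      rw [← hz2]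
    · rintro ⟨x, rfl⟩
      rfl
  have h2 : Function.Surjective p₂ := by
    intro c
    obtain ⟨b', hb'⟩ := hf (g c)
    exact ⟨⟨(b', c), (hmemP _).mpr hb'⟩, rfl⟩
  have h3 : Function.Exact (p₁ ∘ₗ j) f.toLinearMap := by
    rw [hp₁j]
    intro b'
    constructor
    · intro hb
      exact ⟨⟨b', hb⟩, rfl⟩
    · rintro ⟨x, rfl⟩
      exact x.2
  have h5 : f.toLinearMap ∘ₗ p₁ = g.toLinearMap ∘ₗ p₂ := by
    apply LinearMap.ext
    intro z
    exact (hmemP _).mp z.2
  have h6 : Function.Injective ((p₁ ∘ₗ j).lTensor S) := by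
    rw [hp₁j]; exact hJ
  exact general S j p₁ p₂ f.toLinearMap g.toLinearMap h1 h2 h3 hf h5 h6

end Groth.Agent.S3209
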