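import Groth.Statements.S3214
import Mathlib

set_option autoImplicit false
open Polynomial
universe u
open SGA7II

namespace Groth.Agent.S3214


/-- In the recursive form established in its proof: let A = Z[X_1, ..., X_a] (a >= 1), P = prod_i (T -
X_i) in A[T] and S_i the i-th elementary symmetric function. Writing a_j for the coefficient of
T^{a-1} in the remainder of T^{a-1+j} modulo P, one has a_0 = 1 and sum_{i=0}^{a} (-1)^i S_i a_{j-i}
= 0 for every j > 0 (with a_m = 0 for m < 0); equivalently sum_j (-1)^j a_j is the inverse of sum_i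
S_i. (The source works in formal power series; the identity involves only polynomials.) -/
theorem result (a : ℕ) (ha : 0 < a) :
    let P : (MvPolynomial (Fin a) ℤ)[X] := ∏ i : Fin a, (X - C (MvPolynomial.X i))
    let coef : ℤ → MvPolynomial (Fin a) ℤ := fun j =>
      if j < 0 then 0 else ((X : (MvPolynomial (Fin a) ℤ)[X]) ^ (a - 1 + j.toNat) %ₘ P).coeff (a - 1)
    coef 0 = 1 ∧ ∀ j : ℕ, 0 < j →
      (∑ i ∈ Finset.range (a + 1), (-1 : MvPolynomial (Fin a) ℤ) ^ i * MvPolynomial.esymm (Fin a) ℤ i *
        coef ((j : ℤ) - i)) = 0 := by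
  intro P coef
  have hP : P.Monic := monic_prod_of_monic _ _ (fun i _ => monic_X_sub_C _)
  have hdeg : P.natDegree = a := by
    rw [natDegree_prod_of_monic _ _ (fun i _ => monic_X_sub_C _)]
    simp
  have hsmall : ∀ e : ℕ, e < a → (X : (MvPolynomial (Fin a) ℤ)[X]) ^ e %ₘ P = X ^ e := by
    intro e he
    rw [modByMonic_eq_self_iff hP, degree_X_pow, degree_eq_natDegree hP.ne_zero, hdeg]
    exact_mod_cast he
  have hPsum : P = ∑ i ∈ Finset.range (a + 1),
      (-1 : (MvPolynomial (Fin a) ℤ)[X]) ^ i * (C (MvPolynomial.esymm (Fin a) ℤ i) * X ^ (a - i)) := by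
    have h := Multiset.prod_X_sub_X_eq_sum_esymm
      ((Finset.univ : Finset (Fin a)).val.map (MvPolynomial.X (R := ℤ)))
    rw [Multiset.map_map, Multiset.card_map, Finset.card_val, Finset.card_univ, Fintype.card_fin] at h
    rw [MvPolynomial.esymm_eq_multiset_esymm]
    rw [← h]
    show (∏ i : Fin a, (X - C (MvPolynomial.X i)) : (MvPolynomial (Fin a) ℤ)[X]) = _
    rw [Finset.prod_eq_multiset_prod]
    rfl
  refine ⟨?_, ?_⟩
  · simp only [coef, lt_self_iff_false, if_false, Int.toNat_zero, add_zero]
    rw [hsmall (a - 1) (by omega), coeff_X_pow_self]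
  · intro j hj
    have key : (X ^ (j - 1) * P) %ₘ P = 0 :=
      (modByMonic_eq_zero_iff_dvd hP).mpr (dvd_mul_left _ _)
    have hexp : X ^ (j - 1) * P = ∑ i ∈ Finset.range (a + 1),
        ((-1 : MvPolynomial (Fin a) ℤ) ^ i * MvPolynomial.esymm (Fin a) ℤ i) •
          (X : (MvPolynomial (Fin a) ℤ)[X]) ^ (a - i + (j - 1)) := by
      conv_lhs => rw [hPsum]
      rw [Finset.mul_sum]
      refine Finset.sum_congr rfl fun i _ => ?_
      rw [smul_eq_C_mul, map_mul, map_pow, map_neg, map_one, pow_add]
      ring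
    rw [hexp] at key
    have key2 := congrArg (fun q : (MvPolynomial (Fin a) ℤ)[X] => q.coeff (a - 1)) key
    simp only [coeff_zero] at key2
    rw [← modByMonicHom_apply, map_sum, finsetSum_coeff] at key2
    rw [← key2]
    refine Finset.sum_congr rfl fun i hi => ?_
    rw [Finset.mem_range] at hi
    rw [map_smul, coeff_smul, smul_eq_mul, modByMonicHom_apply]
    congr 1
    simp only [coef]
    by_cases hij : i ≤ j
    · have h1 : ¬ ((j : ℤ) - (i : ℤ) < 0) := by omega
      rw [if_neg h1]
      have h2 : ((j : ℤ) - (i : ℤ)).toNat = j - i := by omega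
      rw [h2]
      have h3 : a - 1 + (j - i) = a - i + (j - 1) := by omega
      rw [h3]
    · have h1 : ((j : ℤ) - (i : ℤ) < 0) := by omega
      rw [if_pos h1]
      rw [hsmall (a - i + (j - 1)) (by omega), coeff_X_pow, if_neg (by omega)]

end Groth.Agent.S3214
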