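import Groth.Statements.S3244
import Groth.Agent.Lib.Helper21KumEpi
import Groth.Prelude.Def_SixF3

set_option autoImplicit false
universe u
open CategoryTheory AlgebraicGeometry
open Dix

namespace Groth.Agent.S3244

open Groth.Agent.Lib.Helper21.KumEpi CategoryTheory.Abelian in
lemma comp_powMap {X : Scheme.{u}} (n : ℕ) {i : ℕ} (ξ : EtCoh.H X (EtCoh.Gm X) i) :
    ξ.comp (Ext.mk₀ (EtCoh.powMap X n)) (add_zero i) = n • ξ := by
  unfold EtCoh.powMap
  induction n with
  | zero => simp
  | succ k ih => rw [succ_nsmul, succ_nsmul, Ext.mk₀_add, Ext.comp_add, ih, Ext.comp_mk₀_id]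

/-- Kummer theory at finite level: let n > 0 be an integer invertible on the scheme X (nonzero in every
residue field). Then for every i ≥ 1 the image of H^i(X_ét, μ_n) → H^i(X_ét, G_m), induced by the
inclusion μ_n → G_m, is exactly the subgroup of elements of H^i(X_ét, G_m) killed by n; in
particular H²(X_ét, μ_n) maps onto the n-torsion of the cohomological Brauer group H²(X_ét, G_m).
(The published statement gives exact sequences obtained as the colimit of these over the powers n =
ℓ^m of a prime ℓ.) -/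
theorem result (X : Scheme.{u}) (n : ℕ) (hn : 0 < n) (hX : Dix.InvertibleOn X n) (i : ℕ) (hi : 1 ≤ i) : Set.range ⇑((EtCoh.HF X i).map (EtCoh.muι X n)) = {ξ : (EtCoh.HF X i).obj (EtCoh.Gm X) | n • ξ = 0} := by
  have hepi := Groth.Agent.Lib.Helper21.KumEpi.epi_powMap X n hn hX
  have hSE := EtSix.kummerShortExact hepi
  ext ξ
  simp only [Set.mem_range, Set.mem_setOf_eq]
  constructor
  · rintro ⟨η, rfl⟩
    change n • (η.comp (Abelian.Ext.mk₀ (EtCoh.muι X n)) (add_zero i)) = 0
    rw [← comp_powMap, Abelian.Ext.comp_assoc_of_third_deg_zero, Abelian.Ext.mk₀_comp_mk₀]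
    have h0 : EtCoh.muι X n ≫ EtCoh.powMap X n = 0 := Limits.kernel.condition _
    rw [h0, Abelian.Ext.mk₀_zero, Abelian.Ext.comp_zero]
  · intro hξ
    have hξ' : (ξ : EtCoh.H X (EtCoh.Gm X) i).comp (Abelian.Ext.mk₀ (EtSix.kummerSC X n).g) (add_zero i) = 0 := by
      refine (comp_powMap n ξ).trans hξ
    obtain ⟨η, hη⟩ := Abelian.Ext.covariant_sequence_exact₂ _ hSE ξ hξ'
    exact ⟨η, hη⟩

end Groth.Agent.S3244
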