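import Groth.Statements.S3246
import Groth.Agent.Lib.Helper21KumTors

set_option autoImplicit false
universe u
open CategoryTheory AlgebraicGeometry
open Dix

namespace Groth.Agent.S3246

open Groth.Agent.Lib.Helper21.KumEpi Groth.Agent.Lib.Helper21.KumTors CategoryTheory.Abelian in
lemma comp_nsmul_id {X : Scheme.{u}} (n : ℕ) {i : ℕ} (ξ : EtCoh.H X (EtCoh.Gm X) i) :
    ξ.comp (Ext.mk₀ (n • 𝟙 (EtCoh.Gm X))) (add_zero i) = n • ξ := by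
  induction n with
  | zero => simp
  | succ k ih => rw [succ_nsmul, succ_nsmul, Ext.mk₀_add, Ext.comp_add, ih, Ext.comp_mk₀_id]

lemma invertibleOn_pow {X : Scheme.{u}} {ℓ : ℕ} (h : Dix.InvertibleOn X ℓ) (k : ℕ) :
    Dix.InvertibleOn X (ℓ ^ k) := by
  intro x
  rw [Nat.cast_pow]
  exact pow_ne_zero _ (h x)

/-- Let X be a scheme, ℓ a prime and n an integer with cd_ℓ(X) ≤ n (étale cohomology of ℓ-primary
torsion sheaves vanishes above degree n). Then the ℓ-primary torsion of H^i(X_ét, G_m) is zero for i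
> n + 1; if moreover ℓ is invertible on X, it is zero for i > n. -/
theorem result (X : Scheme.{u}) (ℓ : ℕ) (hℓ : ℓ.Prime) (n : ℕ) (hcd : Dix.CohDimLEAt X ℓ n) : (∀ i : ℕ, n + 1 < i → ∀ ξ : EtCoh.H X (EtCoh.Gm X) i, (∃ k : ℕ, ℓ ^ k • ξ = 0) → ξ = 0) ∧ (Dix.InvertibleOn X ℓ → ∀ i : ℕ, n < i → ∀ ξ : EtCoh.H X (EtCoh.Gm X) i, (∃ k : ℕ, ℓ ^ k • ξ = 0) → ξ = 0) := by
  refine ⟨?_, ?_⟩
  · intro i hi ξ ⟨k, hk⟩
    obtain ⟨j, rfl⟩ : ∃ j, i = j + 1 := ⟨i - 1, by omega⟩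
    refine Groth.Agent.Lib.Helper21.KumTors.eq_zero_of_comp_eq_zero ((ℓ ^ k) • 𝟙 (EtCoh.Gm X)) ξ ?_ ?_ ?_
    · exact (comp_nsmul_id _ ξ).trans hk
    · exact hcd _ (Groth.Agent.Lib.Helper21.KumTors.isPrimaryTorsion_kernel _ ℓ k) _ (by omega)
    · exact hcd _ (Groth.Agent.Lib.Helper21.KumTors.isPrimaryTorsion_cokernel _ ℓ k) _ (by omega)
  · intro hinv i hi ξ ⟨k, hk⟩
    haveI : Epi ((ℓ ^ k) • 𝟙 (EtCoh.Gm X)) :=
      Groth.Agent.Lib.Helper21.KumEpi.epi_powMap X (ℓ ^ k) (pow_pos hℓ.pos k) (invertibleOn_pow hinv k)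
    refine Groth.Agent.Lib.Helper21.KumTors.eq_zero_of_comp_eq_zero_of_epi ((ℓ ^ k) • 𝟙 (EtCoh.Gm X)) ξ ?_ ?_
    · exact (comp_nsmul_id _ ξ).trans hk
    · exact hcd _ (Groth.Agent.Lib.Helper21.KumTors.isPrimaryTorsion_kernel _ ℓ k) _ hi

end Groth.Agent.S3246
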