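import Groth.Statements.S3248
import Mathlib
import Groth.Agent.Lib.LeadCSA

set_option autoImplicit false
universe u
open TensorProduct
open Dix

namespace Groth.Agent.S3248

/-- Stated for a commutative subalgebra: let A be a central simple algebra of dimension r² over a field
k and L a commutative k-algebra embedded in A by an injective k-algebra homomorphism ι, such that A
is free of rank r for the right L-module structure a · l = a ι(l) (given here as a module structure
together with that compatibility). Then L ⊗_k A is isomorphic as an L-algebra to the matrix algebra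
M_r(L). (Only the existence of an isomorphism is stated; the text names the map a ⊗ l ↦ (y ↦ a y
l).) -/
theorem result (k : Type u) [Field k] (A : Type u) [Ring A] [Algebra k A] [Algebra.IsCentral k A] [IsSimpleRing A] [FiniteDimensional k A] (L : Type u) [CommRing L] [Algebra k L] (ι : L →ₐ[k] A) (hι : Function.Injective ι) [Module L A] (hmod : ∀ (l : L) (a : A), l • a = a * ι l) [Module.Free L A] (r : ℕ) (hr : 0 < r) (hA : Module.finrank k A = r ^ 2) (hrank : Module.finrank L A = r) : Nonempty ((L ⊗[k] A) ≃ₐ[L] Matrix (Fin r) (Fin r) L) := by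
  classical
  haveI : Nontrivial A := inferInstance
  haveI hst : IsScalarTower k L A := ⟨fun c l a => by
    rw [hmod, hmod, map_smul, mul_smul_comm]⟩
  haveI hcomm : SMulCommClass L k A := ⟨fun l c a => by
    rw [hmod, hmod, smul_mul_assoc]⟩
  haveI : Nontrivial L := by
    refine ⟨⟨0, 1, fun h => ?_⟩⟩
    have h1 : ι 0 = ι 1 := by rw [h]
    rw [map_zero, map_one] at h1
    exact zero_ne_one h1
  haveI : Module.Finite L A := Module.Finite.of_restrictScalars_finite k L A
  haveI : FiniteDimensional k L := FiniteDimensional.of_injective ι.toLinearMap hι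
  let b : Module.Basis (Fin r) L A := Module.finBasisOfFinrankEq L A hrank
  let g : A →ₐ[k] Module.End L A :=
    { toFun := fun a =>
        { toFun := fun y => a * y
          map_add' := mul_add a
          map_smul' := fun l y => by simp [hmod, mul_assoc] }
      map_one' := by ext; simp
      map_mul' := fun a a' => by ext y; simp [mul_assoc]
      map_zero' := by ext; simp
      map_add' := fun a a' => by ext y; simp [add_mul]
      commutes' := fun c => by
        ext y
        simp [Algebra.algebraMap_eq_smul_one] }
  let Φ : L ⊗[k] A →ₐ[L] Module.End L A :=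
    Algebra.TensorProduct.lift (Algebra.ofId L _) g (fun l a => by
      ext y
      simp [g, Algebra.ofId_apply, Algebra.algebraMap_eq_smul_one, hmod, mul_assoc])
  have hΦ : ∀ (l : L) (a y : A), Φ (l ⊗ₜ[k] a) y = a * y * ι l := by
    intro l a y
    simp [Φ, g, Algebra.ofId_apply, Algebra.algebraMap_eq_smul_one, hmod, mul_assoc]
  let ιop : L →ₗ[k] Aᵐᵒᵖ := (MulOpposite.opLinearEquiv k : A ≃ₗ[k] Aᵐᵒᵖ).toLinearMap ∘ₗ ι.toLinearMap
  have hιop : Function.Injective ιop := fun x y h => hι ((MulOpposite.opLinearEquiv k).injective h)
  let j : L ⊗[k] A →ₗ[k] A ⊗[k] Aᵐᵒᵖ :=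
    (LinearMap.lTensor A ιop) ∘ₗ (TensorProduct.comm k L A).toLinearMap
  have hj : Function.Injective j :=
    (Module.Flat.lTensor_preserves_injective_linearMap ιop hιop).comp (TensorProduct.comm k L A).injective
  have hjΦ : ∀ (z : L ⊗[k] A) (y : A), AlgHom.mulLeftRight k A (j z) y = Φ z y := by
    intro z y
    induction z using TensorProduct.induction_on with
    | zero => simp
    | tmul l a =>
      rw [hΦ]
      simp [j, ιop, AlgHom.mulLeftRight_apply]
    | add z z' hz hz' => simp only [map_add, LinearMap.add_apply, hz, hz']
  have hΦinj : Function.Injective Φ := by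
    rw [injective_iff_map_eq_zero]
    intro z hz
    apply hj
    rw [map_zero]
    apply (Groth.Agent.Lib.LeadCSA.mulLeftRight_bijective (k := k) (A := A)).1
    rw [map_zero]
    ext y
    rw [hjΦ, hz]
    rfl
  let Ψ : L ⊗[k] A →ₐ[L] Matrix (Fin r) (Fin r) L := (algEquivMatrix b).toAlgHom.comp Φ
  have hΨinj : Function.Injective Ψ := (algEquivMatrix b).injective.comp hΦinj
  have hdim : Module.finrank k (L ⊗[k] A) = Module.finrank k (Matrix (Fin r) (Fin r) L) := by
    rw [Module.finrank_tensorProduct, Module.finrank_matrix, hA]
    simp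
    ring
  have hΨsurj : Function.Surjective Ψ :=
    (LinearMap.injective_iff_surjective_of_finrank_eq_finrank
      (f := (Ψ.toLinearMap.restrictScalars k)) hdim).mp hΨinj
  exact ⟨AlgEquiv.ofBijective Ψ ⟨hΨinj, hΨsurj⟩⟩

end Groth.Agent.S3248
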