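import Groth.Statements.S3259
-- import your own Groth.Agent.* helpers here
import Mathlib
import Groth.Agent.Lib.Helper26StalkLim
import Groth.Agent.Lib.Helper26LimFP6
import Groth.Agent.Lib.Helper22ZmtQcqs
import Groth.Agent.S5940
import Groth.Agent.S2074

set_option autoImplicit false
universe u
open AlgebraicGeometry CategoryTheory CategoryTheory.Limits
open ArSurf

namespace Groth.Agent.S3259

open Groth.Agent.Lib.Helper22.LimBC Groth.Agent.Lib.Helper26.StalkLim Groth.Agent.Lib.Helper26.LimFP
  Groth.Agent.Lib.Helper2.LimLoc Opposite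

theorem qcqsDescent_isProper : QcqsDescent.{u} @IsProper := by
  intro I _ _ D c hc _ i₀ _ _ X₀ Y₀ f₀ g₀ _ _ _ _ _ X Y f g qY qX hY hX hf
  haveI : IsProper f := hf
  exact Groth.Agent.S2074.result D c hc i₀ f₀ g₀ f g qY qX hY hX

/-- the spectrum of the local ring at the generic point of `Spec R` is `Spec (Frac R)`. -/
theorem exists_iso (R' : CommRingCat.{u}) [IsDomain R'] :
    ∃ ψ : Spec ((Spec R').presheaf.stalk (genericPoint (Spec R'))) ⟶
        Spec (CommRingCat.of (FractionRing R')),
      IsIso ψ ∧ ψ ≫ Spec.map (CommRingCat.ofHom (algebraMap R' (FractionRing R'))) =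
        (Spec R').fromSpecStalk (genericPoint (Spec R')) := by
  let eK : FractionRing R' ≃ₐ[R'] (Spec R').functionField :=
    FractionRing.algEquiv R' (Spec R').functionField
  refine ⟨Spec.map (eK.toRingEquiv.toCommRingCatIso).hom, inferInstance, ?_⟩
  rw [Spec.fromSpecStalk_eq']
  change Spec.map _ ≫ Spec.map _ = Spec.map _
  rw [← Spec.map_comp]
  congr 1
  ext r
  exact eK.commutes r

/-- Let R be a Dedekind domain with fraction field K and C a smooth projective curve over K (smooth,
proper, of dimension 1, admitting a closed immersion into some P^n_K). Then there are a non-empty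
open subscheme U of Spec R containing the generic point and a smooth proper morphism 𝒞 -> U whose
fibre over the generic point is K-isomorphic to C. In particular C has good reduction at every
closed point of U, that is, at all but finitely many closed points. (Stated in the form the
published proof gives.) -/
theorem result {R : Type u} [CommRing R] [IsDedekindDomain R]
    (C : Over (Spec (CommRingCat.of (FractionRing R)))) [Smooth C.hom] [IsProper C.hom]
    (hdim : topologicalKrullDim C.left = 1) (hproj : Neron.IsProjectiveOver (FractionRing R) C) :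
    ∃ (U : (Spec (CommRingCat.of R)).Opens) (ξ : Spec (CommRingCat.of (FractionRing R)) ⟶ (U : Scheme.{u}))
      (𝒞 : Scheme.{u}) (π : 𝒞 ⟶ (U : Scheme.{u})),
      ξ ≫ U.ι = Neron.genPt R ∧ Smooth π ∧ IsProper π ∧
      Nonempty (Over.mk (pullback.snd π ξ) ≅ C) := by
  haveI : IsDomain (CommRingCat.of R) := (inferInstance : IsDomain R)
  obtain ⟨ψ, hψiso, hψ'⟩ := exists_iso (CommRingCat.of R)
  have hψ : ψ ≫ Neron.genPt R =
      (Spec (CommRingCat.of R)).fromSpecStalk (genericPoint (Spec (CommRingCat.of R))) := hψ'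
  haveI := hψiso
  have hS : Smooth (C.hom ≫ inv ψ) := inferInstance
  have hPr : IsProper (C.hom ≫ inv ψ) := inferInstance
  obtain ⟨y, hy⟩ : ∃ y : C.left ⟶ (specCone (genericPoint (Spec (CommRingCat.of R)))).pt,
      y = C.hom ≫ inv ψ := ⟨_, rfl⟩
  haveI : Smooth y := by rw [hy]; exact hS
  haveI : IsProper y := by rw [hy]; exact hPr
  have inst : ∀ {i j : (AffNhd (genericPoint (Spec (CommRingCat.of R))))ᵒᵖ} (f : i ⟶ j),
      IsAffineHom ((specDiagram (genericPoint (Spec (CommRingCat.of R)))).map f) :=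
    fun f => inferInstance
  have H : QcqsDescent.{u} ((@IsProper : MorphismProperty Scheme.{u}) ⊓
      (@Smooth : MorphismProperty Scheme.{u})) :=
    Groth.Agent.Lib.Helper22ZmtQcqs.qcqsDescent_inf' _ _ qcqsDescent_isProper
      Groth.Agent.S5940.qcqsDescent_smooth
  haveI : MorphismProperty.IsStableUnderBaseChange ((@IsProper : MorphismProperty Scheme.{u}) ⊓
      (@Smooth : MorphismProperty Scheme.{u})) :=
    MorphismProperty.IsStableUnderBaseChange.inf
  obtain ⟨i, Xi, fi, g, h1, h2, h3, ⟨h4p, h4s⟩, pb⟩ :=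
    exists_model_of_qcqsDescent (D := specDiagram (genericPoint (Spec (CommRingCat.of R))))
      (c := specCone (genericPoint (Spec (CommRingCat.of R))))
      H (specIsLimit (genericPoint (Spec (CommRingCat.of R)))) y
      ⟨(inferInstance : IsProper y), (inferInstance : Smooth y)⟩
  haveI : IsProper fi := h4p
  haveI : Smooth fi := h4s
  obtain ⟨ε, hε⟩ : ∃ ε : (i.unop.U : Scheme.{u}) ≅
      (specDiagram (genericPoint (Spec (CommRingCat.of R)))).obj i,
      ε.inv ≫ i.unop.U.ι = toX (genericPoint (Spec (CommRingCat.of R))) i :=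
    ⟨i.unop.isAffine.isoSpec, rfl⟩
  obtain ⟨πi, hπi⟩ : ∃ q : Spec ((Spec (CommRingCat.of R)).presheaf.stalk
      (genericPoint (Spec (CommRingCat.of R)))) ⟶
      (specDiagram (genericPoint (Spec (CommRingCat.of R)))).obj i,
      q = (specCone (genericPoint (Spec (CommRingCat.of R)))).π.app i := ⟨_, rfl⟩
  subst hy
  have pb' : IsPullback g (C.hom ≫ inv ψ) fi πi := by rw [hπi]; exact pb
  have hπ : πi ≫ toX (genericPoint (Spec (CommRingCat.of R))) i =
      (Spec (CommRingCat.of R)).fromSpecStalk (genericPoint (Spec (CommRingCat.of R))) := by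
    rw [hπi]; exact π_toX _ i
  obtain ⟨ξ, hξ⟩ : ∃ ξ : Spec (CommRingCat.of (FractionRing R)) ⟶ (i.unop.U : Scheme.{u}),
      ξ = inv ψ ≫ πi ≫ ε.inv := ⟨_, rfl⟩
  have hξι : ξ ≫ i.unop.U.ι = Neron.genPt R := by
    rw [hξ, Category.assoc, Category.assoc, hε, hπ, ← hψ, IsIso.inv_hom_id_assoc]
  have hpb : IsPullback g C.hom (fi ≫ ε.inv) ξ := by
    refine pb'.of_iso (Iso.refl _) (Iso.refl _) (@asIso _ _ _ _ ψ hψiso) ε.symm ?_ ?_ ?_ ?_
    · simp
    · simp
    · simp
    · simp [hξ]
  refine ⟨i.unop.U, ξ, Xi, fi ≫ ε.inv, hξι, inferInstance, inferInstance,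
    ⟨Over.isoMk hpb.isoPullback.symm ?_⟩⟩
  exact hpb.isoPullback_inv_snd

end Groth.Agent.S3259
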