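import Groth.Statements.S3319
import Groth.Agent.Lib.Helper13ModelsInt
import Groth.Agent.S2209
-- import your own Groth.Agent.* helpers here

set_option autoImplicit false
universe u
open CategoryTheory CategoryTheory.Limits AlgebraicGeometry
open Models

namespace Groth.Agent.S3319

/-- every point of a set lies in a maximal irreducible subset of that set -/
theorem exists_maximal_irreducible {T : Type*} [TopologicalSpace T] (F : Set T) (x : T) (hx : x ∈ F) :
    ∃ M : Set T, Maximal (fun S : Set T => IsIrreducible S ∧ S ⊆ F) M ∧ x ∈ M := by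
  obtain ⟨m, hsm, hm⟩ :=
    zorn_subset_nonempty { t : Set T | IsPreirreducible t ∧ t ⊆ F }
      (fun c hc hcc _ =>
        ⟨⋃₀ c, ⟨fun u v hu hv ⟨y, hy, hyu⟩ ⟨x, hx, hxv⟩ =>
          let ⟨p, hpc, hyp⟩ := Set.mem_sUnion.1 hy
          let ⟨q, hqc, hxq⟩ := Set.mem_sUnion.1 hx
          Or.casesOn (hcc.total hpc hqc)
            (fun hpq : p ⊆ q =>
              let ⟨x, hxp, hxuv⟩ := (hc hqc).1 u v hu hv ⟨y, hpq hyp, hyu⟩ ⟨x, hxq, hxv⟩
              ⟨x, Set.mem_sUnion_of_mem hxp hqc, hxuv⟩)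
            fun hqp : q ⊆ p =>
            let ⟨x, hxp, hxuv⟩ := (hc hpc).1 u v hu hv ⟨y, hyp, hyu⟩ ⟨x, hqp hxq, hxv⟩
            ⟨x, Set.mem_sUnion_of_mem hxp hpc, hxuv⟩,
          Set.sUnion_subset fun t ht => (hc ht).2⟩,
          fun _ hxc => Set.subset_sUnion_of_mem hxc⟩)
      {x} ⟨isPreirreducible_singleton, Set.singleton_subset_iff.2 hx⟩
  have hxm : x ∈ m := hsm (Set.mem_singleton x)
  refine ⟨m, ⟨⟨⟨⟨x, hxm⟩, hm.prop.1⟩, hm.prop.2⟩, fun S hS hmS => ?_⟩, hxm⟩
  exact hm.2 (show S ∈ { t : Set T | IsPreirreducible t ∧ t ⊆ F } from ⟨hS.1.2, hS.2⟩) hmS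

theorem isConnected_specialFibreSet (R : Type u) [CommRing R] [IsDomain R] [IsDiscreteValuationRing R]
    (X : Scheme.{u}) (p : X ⟶ Spec (CommRingCat.of R)) [ConnectedSpace ↥(Models.specialFibre R X p)] :
    _root_.IsConnected (Models.specialFibreSet R (Over.mk p)) := by
  have hrange : Set.range (pullback.fst p (Spec.map (CommRingCat.ofHom
      (algebraMap R (IsLocalRing.ResidueField R))))) = Models.specialFibreSet R (Over.mk p) := by
    rw [Scheme.Pullback.range_fst]
    unfold Models.specialFibreSet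
    congr 1
    ext y
    constructor
    · rintro ⟨z, rfl⟩
      exact IsLocalRing.PrimeSpectrum.comap_residue R z
    · intro hy
      have hy' : y = IsLocalRing.closedPoint R := hy
      refine ⟨(⊥ : PrimeSpectrum (IsLocalRing.ResidueField R)), ?_⟩
      rw [hy']
      exact IsLocalRing.PrimeSpectrum.comap_residue R (⊥ : PrimeSpectrum (IsLocalRing.ResidueField R))
  rw [← hrange]
  haveI : ConnectedSpace ↥(pullback p (Spec.map (CommRingCat.ofHom
      (algebraMap R (IsLocalRing.ResidueField R))))) :=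
    ‹ConnectedSpace ↥(Models.specialFibre R X p)›
  exact isConnected_range (pullback.fst p _).continuous


/-- In the following situation (R a discrete valuation ring, C a smooth proper curve over its fraction
field with H^0(C, O_C) = K, X a regular proper model, Γ_1, …, Γ_n the irreducible components of the
closed fibre, L_j ⊗ I(Γ_j) ≅ O_X), there is no non-empty proper subset I of the indices with (Γ_i ·
Γ_j) = 0 for all i in I and j outside I. -/
theorem result (R : Type u) [CommRing R] [IsDomain R] [IsDiscreteValuationRing R]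
    (C X : Scheme.{u}) (f : C ⟶ Spec (CommRingCat.of (FractionRing R))) (p : X ⟶ Spec (CommRingCat.of R))
    (hC : Curve.IsSmoothProperCurve (FractionRing R) C f) (hH0 : IsIso f.appTop)
    (hX : Models.IsRegularProperModel R X p C f)
    {n : ℕ} (Γ : Fin n → ArSurf.VertComp R (Over.mk p)) (hΓ : Models.IsComponentList R (Over.mk p) Γ)
    (L : Fin n → X.Modules) (hL : ∀ i, ClSub.IsInverseOf (L i) (ClSub.idealMod (Γ i).ι.ker)) (I : Finset (Fin n)) (hI : I.Nonempty) (hI' : I ≠ Finset.univ) :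
    ∃ i ∈ I, ∃ j ∉ I, ArSurf.inter R (Over.mk p) (L j) (Γ i) ≠ 0 := by
  by_contra hcon
  push Not at hcon
  have hp : IsProper p := hX.2.1
  have := Groth.Agent.S2209.result R C X f p hC hH0 hX
  have hconn := isConnected_specialFibreSet R X p
  have hmax : ∀ l, Maximal (fun T : Set X => IsIrreducible T ∧
      T ⊆ Models.specialFibreSet R (Over.mk p)) (Set.range (Γ l).ι) := by
    intro l
    have hmem : Set.range ((Γ l).ι.base : (Γ l).curve.left → X) ∈
        Models.fibreComponents R (Over.mk p) := by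
      rw [← hΓ.2]
      exact ⟨l, rfl⟩
    exact hmem
  have hclosed : ∀ l, IsClosed (Set.range (Γ l).ι) := fun l =>
    (Γ l).ι.isClosedEmbedding.isClosed_range
  have hdisj : ∀ i ∈ I, ∀ j ∉ I, Disjoint (Set.range (Γ i).ι) (Set.range (Γ j).ι) := by
    intro i hi j hj
    have hij : i ≠ j := fun h => hj (h ▸ hi)
    have hne : Set.range (Γ i).ι ≠ Set.range (Γ j).ι := fun h => hij (hΓ.1 h)
    have hγ := Groth.Agent.Lib.Helper13.ModelsInt.genericPoint_not_mem_range_of_maximal R (Over.mk p)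
      (Γ i) (Γ j) _ (hmax i) (hmax j) hne
    exact ((Groth.Agent.Lib.Helper13.ModelsInt.inter_nonneg_and_eq_zero_iff R (Over.mk p) hp (Γ i) (Γ j) hγ
      (L j) (hL j)).2).1 (hcon i hi j hj)
  have hcover : ∀ x ∈ Models.specialFibreSet R (Over.mk p), ∃ l, x ∈ Set.range (Γ l).ι := by
    intro x hx
    obtain ⟨M, hM, hxM⟩ := exists_maximal_irreducible _ x hx
    have hM' : M ∈ Models.fibreComponents R (Over.mk p) := hM
    rw [← hΓ.2] at hM'
    obtain ⟨l, rfl⟩ := hM'
    exact ⟨l, hxM⟩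
  obtain ⟨i₀, hi₀⟩ := hI
  obtain ⟨j₀, hj₀⟩ : ∃ j, j ∉ I := by
    by_contra hall
    push Not at hall
    exact hI' (Finset.eq_univ_iff_forall.2 hall)
  set A : Set X := ⋃ i ∈ I, Set.range (Γ i).ι with hA
  set B : Set X := ⋃ j ∈ (Iᶜ : Finset (Fin n)), Set.range (Γ j).ι with hB
  have hAc : IsClosed A := Set.Finite.isClosed_biUnion I.finite_toSet (fun i _ => hclosed i)
  have hBc : IsClosed B :=
    Set.Finite.isClosed_biUnion (Iᶜ : Finset (Fin n)).finite_toSet (fun i _ => hclosed i)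
  have hAB : Models.specialFibreSet R (Over.mk p) ⊆ A ∪ B := by
    intro x hx
    obtain ⟨l, hl⟩ := hcover x hx
    by_cases hlI : l ∈ I
    · exact Or.inl (Set.mem_biUnion (Finset.mem_coe.2 hlI) hl)
    · exact Or.inr (Set.mem_biUnion (Finset.mem_coe.2 (Finset.mem_compl.2 hlI)) hl)
  have hneA : (Models.specialFibreSet R (Over.mk p) ∩ A).Nonempty := by
    obtain ⟨z⟩ : Nonempty (Γ i₀).curve.left := inferInstance
    exact ⟨(Γ i₀).ι z, (hmax i₀).1.2 ⟨z, rfl⟩, Set.mem_biUnion (Finset.mem_coe.2 hi₀) ⟨z, rfl⟩⟩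
  have hneB : (Models.specialFibreSet R (Over.mk p) ∩ B).Nonempty := by
    obtain ⟨z⟩ : Nonempty (Γ j₀).curve.left := inferInstance
    exact ⟨(Γ j₀).ι z, (hmax j₀).1.2 ⟨z, rfl⟩,
      Set.mem_biUnion (Finset.mem_coe.2 (Finset.mem_compl.2 hj₀)) ⟨z, rfl⟩⟩
  obtain ⟨x, -, hxA, hxB⟩ := isPreconnected_closed_iff.1 hconn.isPreconnected A B hAc hBc hAB hneA hneB
  simp only [hA, hB, Set.mem_iUnion, Finset.mem_coe, Finset.mem_compl, exists_prop] at hxA hxB
  obtain ⟨i, hi, hxi⟩ := hxA
  obtain ⟨j, hj, hxj⟩ := hxB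
  exact Set.disjoint_left.1 (hdisj i hi j hj) hxi hxj

end Groth.Agent.S3319
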