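import Groth.Statements.S3350
-- import your own Groth.Agent.* helpers here

set_option autoImplicit false
open Finset
open Models Models.NumericalType

namespace Groth.Agent.S3350

/-- Row relation: `a i i * m i + a i j * m j + rest = 0` where `rest` is the sum over the other
indices. -/
theorem row_split {n : ℕ} (T : Models.NumericalType n) (i j : Fin n) (hij : i ≠ j) :
    T.a i i * T.m i + T.a i j * T.m j +
      ∑ k ∈ (univ.erase i).erase j, T.a i k * T.m k = 0 := by
  have h := congrFun T.mulVec_m i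
  simp only [Matrix.mulVec, dotProduct, Pi.zero_apply] at h
  rw [← Finset.add_sum_erase univ _ (Finset.mem_univ i)] at h
  have hj : j ∈ univ.erase i := Finset.mem_erase.mpr ⟨hij.symm, Finset.mem_univ j⟩
  rw [← Finset.add_sum_erase _ _ hj] at h
  linarith

theorem rest_nonneg {n : ℕ} (T : Models.NumericalType n) (i j : Fin n) :
    0 ≤ ∑ k ∈ (univ.erase i).erase j, T.a i k * T.m k := by
  apply Finset.sum_nonneg
  intro k hk
  have hki : k ≠ i := (Finset.mem_erase.mp (Finset.mem_erase.mp hk).2).1
  exact mul_nonneg (T.offDiag_nonneg i k hki.symm) (T.m_pos k).le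

theorem rest_pos {n : ℕ} (T : Models.NumericalType n) (i j l : Fin n) (hli : l ≠ i) (hlj : l ≠ j)
    (hl : T.a i l ≠ 0) :
    0 < ∑ k ∈ (univ.erase i).erase j, T.a i k * T.m k := by
  have hmem : l ∈ (univ.erase i).erase j :=
    Finset.mem_erase.mpr ⟨hlj, Finset.mem_erase.mpr ⟨hli, Finset.mem_univ l⟩⟩
  apply Finset.sum_pos'
  · intro k hk
    have hki : k ≠ i := (Finset.mem_erase.mp (Finset.mem_erase.mp hk).2).1
    exact mul_nonneg (T.offDiag_nonneg i k hki.symm) (T.m_pos k).le
  · exact ⟨l, hmem, mul_pos (lt_of_le_of_ne (T.offDiag_nonneg i l hli.symm) hl.symm) (T.m_pos l)⟩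

/-- Classification of proper subgraphs with two vertices: Let T be a numerical type on n > 2 indices and
i ≠ j two (-2)-indices (g = 0 and a_ii = -2 w_i, a_jj = -2 w_j) with a_ij > 0. Then, after possibly
exchanging i and j, one of the following holds with w = w_i: (A2) w_j = w, a_ij = w, 2 m_i ≥ m_j and
2 m_j ≥ m_i; (B2) w_j = 2w, a_ij = 2w, m_i ≥ m_j and 2 m_j ≥ m_i; (G2) w_j = 3w, a_ij = 3w, 2 m_i ≥
3 m_j and 2 m_j ≥ m_i. -/
theorem result {n : ℕ} (T : Models.NumericalType n) (hn : 2 < n) (i j : Fin n)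
    (hij : i ≠ j) (hi : T.IsMinusTwo i) (hj : T.IsMinusTwo j) (hpos : 0 < T.a i j) :
    ∃ i' j' : Fin n, ((i' = i ∧ j' = j) ∨ (i' = j ∧ j' = i)) ∧
      ((T.w j' = T.w i' ∧ T.a i' j' = T.w i' ∧ T.m j' ≤ 2 * T.m i' ∧ T.m i' ≤ 2 * T.m j') ∨
        (T.w j' = 2 * T.w i' ∧ T.a i' j' = 2 * T.w i' ∧ T.m j' ≤ T.m i' ∧ T.m i' ≤ 2 * T.m j') ∨
        (T.w j' = 3 * T.w i' ∧ T.a i' j' = 3 * T.w i' ∧ 3 * T.m j' ≤ 2 * T.m i' ∧ T.m i' ≤ 2 * T.m j')) := by
  have hsymm : T.a j i = T.a i j := by
    have := T.symm
    exact congrFun (congrFun this i) j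
  have hmi := T.m_pos i
  have hmj := T.m_pos j
  have hwi := T.w_pos i
  have hwj := T.w_pos j
  -- the two row relations
  have r1 := row_split T i j hij
  have r2 := row_split T j i hij.symm
  have n1 := rest_nonneg T i j
  have n2 := rest_nonneg T j i
  rw [hi.2] at r1
  rw [hj.2, hsymm] at r2
  -- connectedness
  have hI : ({i, j} : Finset (Fin n)) ≠ univ := by
    intro h
    have hc : ({i, j} : Finset (Fin n)).card = n := by rw [h]; simp
    rw [Finset.card_pair hij] at hc
    omega
  obtain ⟨k, hk, l, hl, hkl⟩ := T.connected {i, j} ⟨i, by simp⟩ hI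
  have hli : l ≠ i := by rintro rfl; exact hl (by simp)
  have hlj : l ≠ j := by rintro rfl; exact hl (by simp)
  have hstrict : 0 < (∑ k ∈ (univ.erase i).erase j, T.a i k * T.m k) +
      ∑ k ∈ (univ.erase j).erase i, T.a j k * T.m k := by
    rcases Finset.mem_insert.mp hk with rfl | hk
    · have := rest_pos T k j l hli hlj hkl
      linarith
    · rw [Finset.mem_singleton] at hk
      subst hk
      have := rest_pos T k i l hlj hli hkl
      linarith
  -- divisibility
  obtain ⟨b, hb⟩ := T.w_dvd i j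
  obtain ⟨c, hc⟩ : T.w j ∣ T.a i j := by rw [← hsymm]; exact T.w_dvd j i
  set a := T.a i j with ha
  set wi := T.w i with hwi'
  set wj := T.w j with hwj'
  set mi := T.m i with hmi'
  set mj := T.m j with hmj'
  set s1 := ∑ k ∈ (univ.erase i).erase j, T.a i k * T.m k with hs1
  set s2 := ∑ k ∈ (univ.erase j).erase i, T.a j k * T.m k with hs2
  have hbpos : 0 < b := by
    by_contra h
    have : wi * b ≤ 0 := mul_nonpos_of_nonneg_of_nonpos hwi.le (by omega)
    omega
  have hcpos : 0 < c := by
    by_contra h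
    have : wj * c ≤ 0 := mul_nonpos_of_nonneg_of_nonpos hwj.le (by omega)
    omega
  -- inequalities
  have e1 : a * mj + s1 = 2 * wi * mi := by linarith
  have e2 : a * mi + s2 = 2 * wj * mj := by linarith
  -- b * mj ≤ 2 * mi, c * mi ≤ 2 * mj
  have i1 : b * mj ≤ 2 * mi := by
    have : wi * (b * mj) ≤ wi * (2 * mi) := by nlinarith
    exact le_of_mul_le_mul_left this hwi
  have i2 : c * mi ≤ 2 * mj := by
    have : wj * (c * mi) ≤ wj * (2 * mj) := by nlinarith
    exact le_of_mul_le_mul_left this hwj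
  -- strictness: b * c < 4
  have hbc : b * c < 4 := by
    by_contra hge
    have hge : 4 ≤ b * c := by omega
    -- from i1, i2: b*c*mi*mj ≤ 4 mi mj, with equality forcing s1 = s2 = 0
    have k1 : wi * (b * mj) + s1 = wi * (2 * mi) := by linear_combination e1 - mj * hb
    have k2 : wj * (c * mi) + s2 = wj * (2 * mj) := by linear_combination e2 - mi * hc
    rcases (lt_or_eq_of_le n1) with hs | hs
    · have i1' : b * mj < 2 * mi := by
        have : wi * (b * mj) < wi * (2 * mi) := by linarith
        exact lt_of_mul_lt_mul_left this hwi.le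
      have : (b * mj) * (c * mi) < (2 * mi) * (2 * mj) := by
        apply mul_lt_mul' i1'.le _ (by positivity) (by positivity)
        rcases lt_or_eq_of_le i2 with h | h
        · exact h
        · exfalso
          -- c * mi = 2 * mj, b * mj < 2 * mi
          have : b * c * (mi * mj) < 4 * (mi * mj) := by
            calc b * c * (mi * mj) = (b * mj) * (c * mi) := by ring
              _ = (b * mj) * (2 * mj) := by rw [h]
              _ < (2 * mi) * (2 * mj) := by
                    apply mul_lt_mul_of_pos_right i1' (by positivity)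
              _ = 4 * (mi * mj) := by ring
          have hmm : 0 < mi * mj := mul_pos hmi hmj
          have : b * c < 4 := lt_of_mul_lt_mul_right this hmm.le
          omega
      have hmm : 0 < mi * mj := mul_pos hmi hmj
      have : b * c * (mi * mj) < 4 * (mi * mj) := by nlinarith
      have : b * c < 4 := lt_of_mul_lt_mul_right this hmm.le
      omega
    · have hs2pos : 0 < s2 := by omega
      have i2' : c * mi < 2 * mj := by
        have : wj * (c * mi) < wj * (2 * mj) := by linarith
        exact lt_of_mul_lt_mul_left this hwj.le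
      have hmm : 0 < mi * mj := mul_pos hmi hmj
      have : b * c * (mi * mj) < 4 * (mi * mj) := by
        calc b * c * (mi * mj) = (b * mj) * (c * mi) := by ring
          _ ≤ (2 * mi) * (c * mi) := by
                apply mul_le_mul_of_nonneg_right i1 (by positivity)
          _ < (2 * mi) * (2 * mj) := by
                apply mul_lt_mul_of_pos_left i2' (by positivity)
          _ = 4 * (mi * mj) := by ring
      have : b * c < 4 := lt_of_mul_lt_mul_right this hmm.le
      omega
  -- enumerate (b, c)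
  have hb3 : b ≤ 3 := by nlinarith
  have hc3 : c ≤ 3 := by nlinarith
  have hww : wi * b = wj * c := by rw [← hb, ← hc]
  interval_cases b <;> interval_cases c <;> try omega
  · -- (1,1)
    refine ⟨i, j, Or.inl ⟨rfl, rfl⟩, Or.inl ⟨?_, ?_, ?_, ?_⟩⟩
    · linarith
    · linarith
    · linarith
    · linarith
  · -- (1,2): wi = 2 wj ; swap
    refine ⟨j, i, Or.inr ⟨rfl, rfl⟩, Or.inr (Or.inl ⟨?_, ?_, ?_, ?_⟩)⟩
    · linarith
    · rw [hsymm]; linarith
    · linarith
    · linarith
  · -- (1,3)
    refine ⟨j, i, Or.inr ⟨rfl, rfl⟩, Or.inr (Or.inr ⟨?_, ?_, ?_, ?_⟩)⟩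
    · linarith
    · rw [hsymm]; linarith
    · linarith
    · linarith
  · -- (2,1)
    refine ⟨i, j, Or.inl ⟨rfl, rfl⟩, Or.inr (Or.inl ⟨?_, ?_, ?_, ?_⟩)⟩
    · linarith
    · linarith
    · linarith
    · linarith
  · -- (3,1)
    refine ⟨i, j, Or.inl ⟨rfl, rfl⟩, Or.inr (Or.inr ⟨?_, ?_, ?_, ?_⟩)⟩
    · linarith
    · linarith
    · linarith
    · linarith

end Groth.Agent.S3350
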