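import Groth.Statements.S3351
import Mathlib.LinearAlgebra.FreeModule.Finite.Quotient
import Mathlib.LinearAlgebra.FreeModule.PID
import Mathlib.Algebra.Module.Projective
import Mathlib.LinearAlgebra.Dual.Basis
import Mathlib.GroupTheory.OrderOfElement
import Mathlib.LinearAlgebra.Dimension.Finrank

set_option autoImplicit false
open Models

namespace Groth.Agent.S3351

/-- A saturated submodule of a finite free `ℤ`-module is a direct summand: functionals extend. -/
theorem extend_of_saturated {L : Type} [AddCommGroup L] [Module.Finite ℤ L] [Module.Free ℤ L]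
    (N : Submodule ℤ L) (hN : ∀ (c : ℤ) (x : L), c ≠ 0 → c • x ∈ N → x ∈ N)
    (ψ : Module.Dual ℤ ↥N) : ∃ φ : Module.Dual ℤ L, φ ∘ₗ N.subtype = ψ := by
  have : Module.IsTorsionFree ℤ (L ⧸ N) := by
    apply Module.IsTorsionFree.of_smul_eq_zero
    intro r m hrm
    by_cases hr : r = 0
    · exact Or.inl hr
    · right
      obtain ⟨x, rfl⟩ := Submodule.Quotient.mk_surjective N m
      rw [← Submodule.Quotient.mk_smul, Submodule.Quotient.mk_eq_zero] at hrm
      rw [Submodule.Quotient.mk_eq_zero]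
      exact hN r x hr hrm
  have : Module.Free ℤ (L ⧸ N) := Module.free_of_finite_type_torsion_free'
  obtain ⟨s, hs⟩ := Module.projective_lifting_property N.mkQ (LinearMap.id : (L ⧸ N) →ₗ[ℤ] (L ⧸ N))
    (Submodule.mkQ_surjective N)
  -- retraction
  have hmem : ∀ x : L, x - s (N.mkQ x) ∈ N := by
    intro x
    rw [← Submodule.Quotient.mk_eq_zero, Submodule.Quotient.mk_sub]
    have := LinearMap.congr_fun hs (N.mkQ x)
    simp only [LinearMap.comp_apply, LinearMap.id_apply, Submodule.mkQ_apply] at this ⊢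
    rw [this]
    simp
  let r : L →ₗ[ℤ] N := (LinearMap.id - s ∘ₗ N.mkQ).codRestrict N (by
    intro x
    simpa using hmem x)
  refine ⟨ψ ∘ₗ r, ?_⟩
  ext ⟨x, hx⟩
  simp only [LinearMap.comp_apply, Submodule.subtype_apply]
  congr 1
  ext
  simp only [r, LinearMap.codRestrict_apply, LinearMap.sub_apply, LinearMap.id_apply,
    LinearMap.comp_apply, Submodule.mkQ_apply]
  rw [(Submodule.Quotient.mk_eq_zero N).mpr hx]
  simp

/-- Every element of `L` has a nonzero multiple in `A + A^⊥`. -/
theorem exists_smul_sub_mem_orthogonal {L : Type} [AddCommGroup L] [Module.Finite ℤ L]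
    [Module.Free ℤ L] (B : LinearMap.BilinForm ℤ L) (hsymm : B.IsSymm)
    (hpos : ∀ x, x ≠ 0 → 0 < B x x) (A : Submodule ℤ L) (x : L) :
    ∃ c : ℤ, c ≠ 0 ∧ ∃ a ∈ A, c • x - a ∈ B.orthogonal A := by
  -- the map `A → Dual A`
  let Φ : L →ₗ[ℤ] Module.Dual ℤ A := B.compl₂ A.subtype
  let ΦA : A →ₗ[ℤ] Module.Dual ℤ A := Φ ∘ₗ A.subtype
  have hinj : Function.Injective ΦA := by
    rw [← LinearMap.ker_eq_bot, LinearMap.ker_eq_bot']
    intro a ha
    have h1 : ΦA a a = 0 := by rw [ha]; rfl
    have h2 : B (a : L) (a : L) = 0 := h1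
    by_contra hne
    have : (a : L) ≠ 0 := fun h => hne (Subtype.ext h)
    have := hpos _ this
    omega
  have hrank : Module.finrank ℤ (LinearMap.range ΦA) = Module.finrank ℤ (Module.Dual ℤ A) := by
    rw [LinearMap.finrank_range_of_inj hinj]
    exact (Module.Free.chooseBasis ℤ A).toDualEquiv.finrank_eq
  have : Finite (Module.Dual ℤ A ⧸ LinearMap.range ΦA) :=
    Submodule.finiteQuotientOfFreeOfRankEq _ hrank
  obtain ⟨n, hn, hn0⟩ := isOfFinAddOrder_iff_nsmul_eq_zero.mp
    (isOfFinAddOrder_of_finite ((LinearMap.range ΦA).mkQ (Φ x)))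
  rw [← map_nsmul, Submodule.mkQ_apply, Submodule.Quotient.mk_eq_zero] at hn0
  obtain ⟨a, ha⟩ := hn0
  refine ⟨n, by exact_mod_cast hn.ne', a, a.2, ?_⟩
  rw [LinearMap.BilinForm.mem_orthogonal_iff]
  intro a' ha'
  have h3 : ΦA a ⟨a', ha'⟩ = (n • Φ x) ⟨a', ha'⟩ := by rw [ha]
  have h4 : B (a : L) a' = n • B x a' := h3
  show B a' ((n : ℤ) • x - a) = 0
  rw [map_sub, map_smul, hsymm.eq a' x, hsymm.eq a' a, h4]
  simp

/-- Let L be a finite free Z-module with a positive definite symmetric integral bilinear form, A ⊆ L a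
submodule with L/A torsion free and B the orthogonal complement of A. Write M^# for the dual lattice
of a sublattice M, identified here with the Z-dual Hom(M, Z) through the form. Then the natural maps
L/(A ⊕ B) → B^#/B and L/(A ⊕ B) → A^#/A are injective: an element x of L whose functional ⟨x, -⟩ on
B (resp. on A) is represented by an element of B (resp. of A) lies in A ⊕ B. Moreover the
restriction maps L^# → B^# and L^# → A^# are surjective, so that the cokernels of the two injections
are quotients of L^#/L. -/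
theorem result {L : Type} [AddCommGroup L] [Module.Finite ℤ L] [Module.Free ℤ L]
    (B : LinearMap.BilinForm ℤ L) (hsymm : B.IsSymm) (hpos : ∀ x, x ≠ 0 → 0 < B x x)
    (A : Submodule ℤ L) (htf : ∀ (c : ℤ) (x : L), c ≠ 0 → c • x ∈ A → x ∈ A) :
    (∀ x : L, (∃ b ∈ B.orthogonal A, ∀ b' ∈ B.orthogonal A, B x b' = B b b') → x ∈ A ⊔ B.orthogonal A) ∧
      (∀ x : L, (∃ a ∈ A, ∀ a' ∈ A, B x a' = B a a') → x ∈ A ⊔ B.orthogonal A) ∧
      (∀ ψ : Module.Dual ℤ ↥(B.orthogonal A), ∃ φ : Module.Dual ℤ L, φ ∘ₗ (B.orthogonal A).subtype = ψ) ∧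
      (∀ ψ : Module.Dual ℤ ↥A, ∃ φ : Module.Dual ℤ L, φ ∘ₗ A.subtype = ψ) := by
  refine ⟨?_, ?_, ?_, ?_⟩
  · rintro x ⟨b, hb, hxb⟩
    -- y = x - b is orthogonal to A^⊥
    have hy : ∀ b' ∈ B.orthogonal A, B (x - b) b' = 0 := by
      intro b' hb'
      rw [map_sub, LinearMap.sub_apply, hxb b' hb', sub_self]
    obtain ⟨c, hc, a, ha, hz⟩ := exists_smul_sub_mem_orthogonal B hsymm hpos A (x - b)
    have hzz : B (c • (x - b) - a) (c • (x - b) - a) = 0 := by
      rw [map_sub, map_smul, hsymm.eq _ (x - b), hsymm.eq _ a, hy _ hz,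
        (LinearMap.BilinForm.mem_orthogonal_iff.mp hz) a ha]
      simp
    have hz0 : c • (x - b) - a = 0 := by
      by_contra hne
      have := hpos _ hne
      omega
    have hmem : x - b ∈ A := by
      apply htf c _ hc
      rw [sub_eq_zero.mp hz0]
      exact ha
    have : x = (x - b) + b := by abel
    rw [this]
    exact Submodule.add_mem_sup hmem hb
  · rintro x ⟨a, ha, hxa⟩
    have hmem : x - a ∈ B.orthogonal A := by
      rw [LinearMap.BilinForm.mem_orthogonal_iff]
      intro a' ha'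
      show B a' (x - a) = 0
      rw [map_sub, hsymm.eq a' x, hsymm.eq a' a, hxa a' ha', sub_self]
    have : x = a + (x - a) := by abel
    rw [this]
    exact Submodule.add_mem_sup ha hmem
  · apply extend_of_saturated
    intro c x hc hx
    rw [LinearMap.BilinForm.mem_orthogonal_iff] at hx ⊢
    intro a ha
    have h := hx a ha
    have h' : B a (c • x) = 0 := h
    rw [map_smul, smul_eq_mul] at h'
    show B a x = 0
    rcases mul_eq_zero.mp h' with h | h
    · exact absurd h hc
    · exact h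
  · exact extend_of_saturated A htf

end Groth.Agent.S3351
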