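import Groth.Statements.S3352
import Mathlib.LinearAlgebra.FreeModule.Finite.Quotient
import Mathlib.LinearAlgebra.FreeModule.PID
import Mathlib.Algebra.Module.Projective
import Mathlib.LinearAlgebra.Dual.Basis
import Mathlib.GroupTheory.OrderOfElement
import Mathlib.LinearAlgebra.Dimension.Finrank

set_option autoImplicit false
open Models

namespace Groth.Agent.S3352

/-- Every element of `L` has a nonzero multiple in `A + A^⊥`. -/
theorem exists_smul_sub_mem_orthogonal {L : Type} [AddCommGroup L] [Module.Finite ℤ L]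
    [Module.Free ℤ L] (B : LinearMap.BilinForm ℤ L) (hsymm : B.IsSymm)
    (hpos : ∀ x, x ≠ 0 → 0 < B x x) (A : Submodule ℤ L) (x : L) :
    ∃ c : ℤ, c ≠ 0 ∧ ∃ a ∈ A, c • x - a ∈ B.orthogonal A := by
  let Φ : L →ₗ[ℤ] Module.Dual ℤ A := B.compl₂ A.subtype
  let ΦA : A →ₗ[ℤ] Module.Dual ℤ A := Φ ∘ₗ A.subtype
  have hinj : Function.Injective ΦA := by
    rw [← LinearMap.ker_eq_bot, LinearMap.ker_eq_bot']
    intro a ha
    have h1 : ΦA a a = 0 := by rw [ha]; rfl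
    have h2 : B (a : L) (a : L) = 0 := h1
    by_contra hne
    have : (a : L) ≠ 0 := fun h => hne (Subtype.ext h)
    have := hpos _ this
    omega
  have hrank : Module.finrank ℤ (LinearMap.range ΦA) = Module.finrank ℤ (Module.Dual ℤ A) := by
    rw [LinearMap.finrank_range_of_inj hinj]
    exact (Module.Free.chooseBasis ℤ A).toDualEquiv.finrank_eq
  have : Finite (Module.Dual ℤ A ⧸ LinearMap.range ΦA) :=
    Submodule.finiteQuotientOfFreeOfRankEq _ hrank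
  obtain ⟨n, hn, hn0⟩ := isOfFinAddOrder_iff_nsmul_eq_zero.mp
    (isOfFinAddOrder_of_finite ((LinearMap.range ΦA).mkQ (Φ x)))
  rw [← map_nsmul, Submodule.mkQ_apply, Submodule.Quotient.mk_eq_zero] at hn0
  obtain ⟨a, ha⟩ := hn0
  refine ⟨n, by exact_mod_cast hn.ne', a, a.2, ?_⟩
  rw [LinearMap.BilinForm.mem_orthogonal_iff]
  intro a' ha'
  have h3 : ΦA a ⟨a', ha'⟩ = (n • Φ x) ⟨a', ha'⟩ := by rw [ha]
  have h4 : B (a : L) a' = n • B x a' := h3
  show B a' ((n : ℤ) • x - a) = 0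
  rw [map_sub, map_smul, hsymm.eq a' x, hsymm.eq a' a, h4]
  simp

/-- Let L₀, L₁ be finite free ℤ-modules with positive definite symmetric integral bilinear forms, the
form on L₀ unimodular (x ↦ ⟨x, −⟩ is a bijection L₀ → Hom(L₀, ℤ)), and let d : L₀ → L₁ and d* : L₁ →
L₀ be adjoint. Identify Im(d)^# (the dual lattice of Im(d)) with Hom(Im(d), ℤ) through the form on
L₁. Then there is an isomorphism Φ from the torsion subgroup of Coker(d* d) onto Im(d)^#/Im(d),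
determined by: for x ∈ L₀ whose class is torsion, Φ[x] is the class of the functional d(y') ↦ ⟨x,
y'⟩ (equivalently the class of (1/a)·d(y) when a·x = d* d(y)). -/
theorem result {L₀ L₁ : Type} [AddCommGroup L₀] [AddCommGroup L₁]
    [Module.Finite ℤ L₀] [Module.Free ℤ L₀] [Module.Finite ℤ L₁] [Module.Free ℤ L₁]
    (B₀ : LinearMap.BilinForm ℤ L₀) (B₁ : LinearMap.BilinForm ℤ L₁) (h₀s : B₀.IsSymm) (h₁s : B₁.IsSymm)
    (h₀p : ∀ x, x ≠ 0 → 0 < B₀ x x) (h₁p : ∀ x, x ≠ 0 → 0 < B₁ x x) (huni : Function.Bijective B₀)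
    (d : L₀ →ₗ[ℤ] L₁) (ds : L₁ →ₗ[ℤ] L₀) (hadj : ∀ x y, B₁ (d x) y = B₀ x (ds y)) :
    ∃ Φ : ↥(Submodule.torsion ℤ (L₀ ⧸ LinearMap.range (ds ∘ₗ d))) ≃ₗ[ℤ]
        (Module.Dual ℤ ↥(LinearMap.range d) ⧸
          LinearMap.range ((B₁.compl₂ (LinearMap.range d).subtype) ∘ₗ (LinearMap.range d).subtype)),
      ∀ (x : L₀) (hx : Submodule.Quotient.mk x ∈ Submodule.torsion ℤ (L₀ ⧸ LinearMap.range (ds ∘ₗ d)))
        (ψ : Module.Dual ℤ ↥(LinearMap.range d)),
        (∀ y' : L₀, ψ ⟨d y', LinearMap.mem_range_self d y'⟩ = B₀ x y') →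
          Φ ⟨Submodule.Quotient.mk x, hx⟩ = Submodule.Quotient.mk ψ := by
  classical
  -- notation
  set M : Submodule ℤ L₁ := LinearMap.range d with hM
  set N : Submodule ℤ L₀ := LinearMap.range (ds ∘ₗ d) with hN
  set J : M →ₗ[ℤ] Module.Dual ℤ M := (B₁.compl₂ M.subtype) ∘ₗ M.subtype with hJ
  have hJapp : ∀ m m' : M, J m m' = B₁ (m : L₁) (m' : L₁) := fun m m' => rfl
  -- zero vectors
  have zero0 : ∀ x : L₀, B₀ x x = 0 → x = 0 := by
    intro x hx
    by_contra hne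
    have := h₀p x hne
    omega
  have zero1 : ∀ x : L₁, B₁ x x = 0 → x = 0 := by
    intro x hx
    by_contra hne
    have := h₁p x hne
    omega
  -- a section of d onto its range
  obtain ⟨σ, hσ⟩ := Module.projective_lifting_property d.rangeRestrict
    (LinearMap.id : M →ₗ[ℤ] M) d.surjective_rangeRestrict
  have hdσ : ∀ m : M, d (σ m) = (m : L₁) := by
    intro m
    have := LinearMap.congr_fun hσ m
    simp only [LinearMap.comp_apply, LinearMap.id_apply] at this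
    exact congrArg Subtype.val this
  -- Lemma K
  have lemK : ∀ z : L₀, (∀ y, B₀ (ds (d y)) z = 0) → d z = 0 := by
    intro z hz
    apply zero1
    have := hz z
    rw [h₀s.eq, ← hadj] at this
    exact this
  -- Lemma P
  have lemP : ∀ x : L₀, (Submodule.Quotient.mk x : L₀ ⧸ N) ∈ Submodule.torsion ℤ (L₀ ⧸ N) →
      ∀ z, d z = 0 → B₀ x z = 0 := by
    intro x hx z hz
    obtain ⟨⟨a, ha⟩, hax⟩ := (Submodule.mem_torsion_iff _).mp hx
    have ha0 : a ≠ 0 := nonZeroDivisors.ne_zero ha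
    change a • (Submodule.Quotient.mk x : L₀ ⧸ N) = 0 at hax
    rw [← Submodule.Quotient.mk_smul, Submodule.Quotient.mk_eq_zero] at hax
    obtain ⟨y, hy⟩ := hax
    have h1 : B₀ (a • x) z = 0 := by
      rw [← hy]
      show B₀ (ds (d y)) z = 0
      rw [h₀s.eq, ← hadj, hz]
      simp
    rw [map_smul, LinearMap.smul_apply, smul_eq_mul] at h1
    rcases mul_eq_zero.mp h1 with h | h
    · exact absurd h ha0
    · exact h
  -- the map
  let Ψ : L₀ →ₗ[ℤ] Module.Dual ℤ M := B₀.compl₂ σ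
  have hΨapp : ∀ x m, Ψ x m = B₀ x (σ m) := fun x m => rfl
  have hNle : N ≤ LinearMap.ker ((LinearMap.range J).mkQ ∘ₗ Ψ) := by
    rintro _ ⟨y, rfl⟩
    rw [LinearMap.mem_ker, LinearMap.comp_apply, Submodule.mkQ_apply, Submodule.Quotient.mk_eq_zero]
    refine ⟨⟨d y, LinearMap.mem_range_self d y⟩, ?_⟩
    ext m
    rw [hJapp, hΨapp]
    show B₁ (d y) (m : L₁) = B₀ (ds (d y)) (σ m)
    rw [h₀s.eq, ← hadj, hdσ, h₁s.eq]
  let Φ' : (L₀ ⧸ N) →ₗ[ℤ] (Module.Dual ℤ M ⧸ LinearMap.range J) :=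
    N.liftQ ((LinearMap.range J).mkQ ∘ₗ Ψ) hNle
  have hΦ'app : ∀ x : L₀, Φ' (Submodule.Quotient.mk x) = Submodule.Quotient.mk (Ψ x) := fun x => rfl
  let Φ : ↥(Submodule.torsion ℤ (L₀ ⧸ N)) →ₗ[ℤ] (Module.Dual ℤ M ⧸ LinearMap.range J) :=
    Φ' ∘ₗ (Submodule.torsion ℤ (L₀ ⧸ N)).subtype
  have hΦapp : ∀ (x : L₀) (hx : (Submodule.Quotient.mk x : L₀ ⧸ N) ∈ Submodule.torsion ℤ (L₀ ⧸ N)),
      Φ ⟨Submodule.Quotient.mk x, hx⟩ = Submodule.Quotient.mk (Ψ x) := fun x hx => rfl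
  -- key: functional determined
  have hΨeq : ∀ (x : L₀) (ψ : Module.Dual ℤ M),
      (∀ y' : L₀, ψ ⟨d y', LinearMap.mem_range_self d y'⟩ = B₀ x y') → Ψ x = ψ := by
    intro x ψ h
    ext m
    rw [hΨapp, ← h (σ m)]
    congr 1
    exact Subtype.ext (hdσ m)
  have hinj : Function.Injective Φ := by
    rw [← LinearMap.ker_eq_bot, LinearMap.ker_eq_bot']
    rintro ⟨q, hq⟩ hΦq
    obtain ⟨x, rfl⟩ := Submodule.Quotient.mk_surjective N q
    rw [hΦapp, Submodule.Quotient.mk_eq_zero] at hΦq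
    obtain ⟨⟨_, y, rfl⟩, hy⟩ := hΦq
    -- x' = x - ds (d y)
    have hx' : (Submodule.Quotient.mk (x - ds (d y)) : L₀ ⧸ N) = Submodule.Quotient.mk x := by
      rw [Submodule.Quotient.mk_sub, sub_eq_self, Submodule.Quotient.mk_eq_zero]
      exact ⟨y, rfl⟩
    have hx'tor : (Submodule.Quotient.mk (x - ds (d y)) : L₀ ⧸ N) ∈
        Submodule.torsion ℤ (L₀ ⧸ N) := by rw [hx']; exact hq
    have hall : ∀ w : L₀, B₀ (x - ds (d y)) w = 0 := by
      intro w
      have hw : w = (w - σ (d.rangeRestrict w)) + σ (d.rangeRestrict w) := by abel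
      rw [hw, map_add]
      have hker : d (w - σ (d.rangeRestrict w)) = 0 := by
        rw [map_sub, hdσ]
        simp
      rw [lemP _ hx'tor _ hker, zero_add, map_sub, LinearMap.sub_apply]
      have e1 : B₀ x (σ (d.rangeRestrict w)) = Ψ x (d.rangeRestrict w) := rfl
      rw [e1, ← hy, hJapp, h₀s.eq (ds (d y)), ← hadj, hdσ]
      show B₁ (d y) (d w) - B₁ (d w) (d y) = 0
      rw [h₁s.eq (d y), sub_self]
    have hzero : x - ds (d y) = 0 := zero0 _ (hall _)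
    apply Subtype.ext
    show (Submodule.Quotient.mk x : L₀ ⧸ N) = 0
    rw [← hx', hzero]
    simp
  have hsurj : Function.Surjective Φ := by
    intro q
    obtain ⟨ψ, rfl⟩ := Submodule.Quotient.mk_surjective _ q
    obtain ⟨x, hx⟩ := huni.2 (ψ ∘ₗ d.rangeRestrict)
    have hxapp : ∀ y', B₀ x y' = ψ ⟨d y', LinearMap.mem_range_self d y'⟩ := by
      intro y'
      rw [hx]
      rfl
    have hxker : ∀ z, d z = 0 → B₀ x z = 0 := by
      intro z hz
      rw [hxapp]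
      have : (⟨d z, LinearMap.mem_range_self d z⟩ : M) = 0 := Subtype.ext hz
      rw [this, map_zero]
    obtain ⟨c, hc, n, hn, hz⟩ := exists_smul_sub_mem_orthogonal B₀ h₀s h₀p N x
    obtain ⟨y, rfl⟩ := hn
    have hdz : d (c • x - (ds ∘ₗ d) y) = 0 := by
      apply lemK
      intro y'
      exact (LinearMap.BilinForm.mem_orthogonal_iff.mp hz) _ ⟨y', rfl⟩
    have hzz : B₀ (c • x - (ds ∘ₗ d) y) (c • x - (ds ∘ₗ d) y) = 0 := by
      rw [map_sub (B₀), LinearMap.sub_apply, map_smul, LinearMap.smul_apply, hxker _ hdz]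
      show c • (0 : ℤ) - B₀ (ds (d y)) (c • x - (ds ∘ₗ d) y) = 0
      rw [h₀s.eq (ds (d y)), ← hadj, hdz]
      simp
    have hz0 := zero0 _ hzz
    have htor : (Submodule.Quotient.mk x : L₀ ⧸ N) ∈ Submodule.torsion ℤ (L₀ ⧸ N) := by
      rw [Submodule.mem_torsion_iff]
      refine ⟨⟨c, mem_nonZeroDivisors_of_ne_zero hc⟩, ?_⟩
      show c • (Submodule.Quotient.mk x : L₀ ⧸ N) = 0
      rw [← Submodule.Quotient.mk_smul, Submodule.Quotient.mk_eq_zero, sub_eq_zero.mp hz0]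
      exact ⟨y, rfl⟩
    refine ⟨⟨Submodule.Quotient.mk x, htor⟩, ?_⟩
    rw [hΦapp, hΨeq x ψ (fun y' => (hxapp y').symm)]
  refine ⟨LinearEquiv.ofBijective Φ ⟨hinj, hsurj⟩, ?_⟩
  intro x hx ψ hψ
  rw [LinearEquiv.ofBijective_apply, hΦapp, hΨeq x ψ hψ]

end Groth.Agent.S3352
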