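import Groth.Statements.S3362
import Groth.Agent.Lib.Helper29PuncTop
import Groth.Agent.S11670

set_option autoImplicit false
universe u
open CategoryTheory CategoryTheory.Limits AlgebraicGeometry TopologicalSpace
open LefX

namespace Groth.Agent.S3362

set_option linter.style.haveILetI false
open Groth.Agent.Lib.Helper29.Punc

section aux

variable (B : Type u) [CommRing B] [IsLocalRing B]

/-- the punctured spectrum as a subspace of the prime spectrum -/
def jmap : ↥(FEt.puncturedSpec B) → PrimeSpectrum B := Subtype.val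

theorem jmap_isOpenEmbedding : Topology.IsOpenEmbedding (jmap B) :=
  (FEt.puncturedSpec B).isOpen.isOpenEmbedding_subtypeVal

theorem jmap_range : Set.range (jmap B) = {IsLocalRing.closedPoint B}ᶜ :=
  Subtype.range_coe

end aux


/-- Let A be a complete Noetherian local ring, X' the punctured spectrum of A and k ≥ 1. Assume (a_k)
every irreducible component of X' has dimension ≥ k + 1, and (b_k) X' is connected in dimension ≥ k,
i.e. X' minus any closed subset of dimension < k is connected. Let 0 ≤ m ≤ k and let f_1, …, f_m be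
elements of the maximal ideal, B = A/(f_1, …, f_m), Y' the punctured spectrum of B. Then Y'
satisfies (a_{k−m}) and (b_{k−m}); in particular Y' is connected. -/
theorem result (A : Type u) [CommRing A] [IsNoetherianRing A] [IsLocalRing A] [IsAdicComplete (IsLocalRing.maximalIdeal A) A] (k : ℕ) (hk : 1 ≤ k) (ha : ∀ Z ∈ irreducibleComponents ↥(FEt.puncturedSpec A), ((k + 1 : ℕ) : WithBot ℕ∞) ≤ topologicalKrullDim ↥Z) (hb : LefX.ConnectedInDim ↥(FEt.puncturedSpec A) k) (m : ℕ) (hm : m ≤ k) (f : Fin m → A) (hf : ∀ i, f i ∈ IsLocalRing.maximalIdeal A) [IsLocalRing (A ⧸ Ideal.span (Set.range f))] : (∀ Z ∈ irreducibleComponents ↥(FEt.puncturedSpec (A ⧸ Ideal.span (Set.range f))), ((k - m + 1 : ℕ) : WithBot ℕ∞) ≤ topologicalKrullDim ↥Z) ∧ LefX.ConnectedInDim ↥(FEt.puncturedSpec (A ⧸ Ideal.span (Set.range f))) (k - m) := by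
  classical
  set a : Ideal A := Ideal.span (Set.range f) with ha_def
  have hane : a ≠ ⊤ := by
    intro htop
    have hle : a ≤ IsLocalRing.maximalIdeal A := by
      rw [ha_def, Ideal.span_le]
      rintro _ ⟨i, rfl⟩
      exact hf i
    rw [htop] at hle
    exact (IsLocalRing.maximalIdeal.isMaximal A).ne_top (top_le_iff.mp hle)
  -- the punctured spectrum of `A` is nonempty
  have hneA : Nonempty ↥(FEt.puncturedSpec A) := by
    have h0 : topologicalKrullDim ↥(∅ : Set ↥(FEt.puncturedSpec A)) < (k : WithBot ℕ∞) := by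
      haveI : IsEmpty (IrreducibleCloseds ↥(∅ : Set ↥(FEt.puncturedSpec A))) :=
        ⟨fun s => by obtain ⟨x, -⟩ := s.isIrreducible.nonempty; exact x.2⟩
      have : topologicalKrullDim ↥(∅ : Set ↥(FEt.puncturedSpec A)) = ⊥ := Order.krullDim_eq_bot
      rw [this]
      exact WithBot.bot_lt_coe _
    have h1 := hb ∅ isClosed_empty h0
    rw [Set.compl_empty] at h1
    obtain ⟨x, -⟩ := h1.nonempty
    exact ⟨x⟩
  have hcA := le_connDim_of_connectedInDim (jmap A) (jmap_isOpenEmbedding A) (jmap_range A) k hb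
  have hdA := le_dim_minimalPrime (jmap A) (jmap_isOpenEmbedding A) (jmap_range A) k ha
  have hsd : ((k + 2 : ℕ) : WithBot ℕ∞) ≤ LocCoh.subdim (PrimeSpectrum A) := by
    unfold LocCoh.subdim
    refine le_iInf₂ fun W hW => ?_
    rw [← PrimeSpectrum.zeroLocus_minimalPrimes] at hW
    obtain ⟨p, hp, rfl⟩ := hW
    show ((k + 2 : ℕ) : WithBot ℕ∞) ≤ topologicalKrullDim ↥(PrimeSpectrum.zeroLocus (p : Set A))
    rw [Groth.Agent.S11680.dim_zeroLocus]
    exact hdA p hp
  -- Grothendieck's connectedness theorem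
  set s : Finset A := Finset.univ.image f with hs_def
  have hscoe : (s : Set A) = Set.range f := by
    rw [hs_def, Finset.coe_image, Finset.coe_univ, Set.image_univ]
  have hspan : Ideal.span (s : Set A) = a := by rw [hscoe]
  have hcard : s.card ≤ m := by
    have := Finset.card_image_le (s := (Finset.univ : Finset (Fin m))) (f := f)
    simpa using this
  have key := Groth.Agent.S11670.result A a hane s (by rw [hspan])
  have hcB : ((k - m + 1 : ℕ) : WithBot ℕ∞) ≤ LocCoh.connDim (PrimeSpectrum (A ⧸ a)) := by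
    have h1 : ((k + 2 : ℕ) : WithBot ℕ∞) ≤
        min (LocCoh.connDim (PrimeSpectrum A) + 1) (LocCoh.subdim (PrimeSpectrum A)) := by
      refine le_min ?_ hsd
      have : ((k + 2 : ℕ) : WithBot ℕ∞) = ((k + 1 : ℕ) : WithBot ℕ∞) + 1 := by push_cast; ring
      rw [this]
      exact add_le_add_left hcA 1
    have h2 := h1.trans key
    generalize LocCoh.connDim (PrimeSpectrum (A ⧸ a)) = c at h2 ⊢
    induction c using WithBot.recBotCoe with
    | bot =>
      rw [WithBot.bot_add, WithBot.bot_add] at h2
      exact absurd h2 (by simp)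
    | coe c =>
      induction c using ENat.recTopCoe with
      | top => exact le_top
      | coe c =>
        have h3 : ((k + 2 : ℕ) : WithBot ℕ∞) ≤ ((c + s.card + 1 : ℕ) : WithBot ℕ∞) := by
          refine h2.trans (le_of_eq ?_)
          push_cast
          rfl
        have h4 : k + 2 ≤ c + s.card + 1 := by exact_mod_cast h3
        have h5 : k - m + 1 ≤ c := by omega
        have h6 : ((k - m + 1 : ℕ) : ℕ∞) ≤ (c : ℕ∞) := by exact_mod_cast h5
        exact WithBot.coe_le_coe.mpr h6
  -- minimal primes of the quotient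
  have hdB : ∀ z : Ideal (A ⧸ a), z ∈ minimalPrimes (A ⧸ a) →
      ((k - m + 2 : ℕ) : WithBot ℕ∞) ≤ ringKrullDim ((A ⧸ a) ⧸ z) := by
    intro z hz
    haveI hzp : z.IsPrime := hz.1.1
    set q : Ideal A := z.comap (Ideal.Quotient.mk a) with hq_def
    have hqmin : q ∈ a.minimalPrimes := by
      have h1 := Ideal.comap_minimalPrimes_eq_of_surjective
        (f := Ideal.Quotient.mk a) Ideal.Quotient.mk_surjective (⊥ : Ideal (A ⧸ a))
      have h2 : (⊥ : Ideal (A ⧸ a)).comap (Ideal.Quotient.mk a) = a := by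
        rw [← RingHom.ker_eq_comap_bot, Ideal.mk_ker]
      rw [h2] at h1
      rw [h1]
      exact ⟨z, hz, rfl⟩
    have hqmin' : q ∈ (Ideal.span (s : Set A)).minimalPrimes := by rw [hspan]; exact hqmin
    obtain ⟨p, hp, hpq⟩ := Ideal.exists_minimalPrimes_le (I := ⊥) (J := q) bot_le
    haveI : p.IsPrime := hp.1.1
    have h1 := Groth.Agent.S11670.dim_le_of_minimal_over_span A s q hqmin' p hpq
    have h2 := hdA p hp
    have hzq : z = q.map (Ideal.Quotient.mk a) := by
      rw [hq_def, Ideal.map_comap_of_surjective _ Ideal.Quotient.mk_surjective]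
    have h3 : ringKrullDim ((A ⧸ a) ⧸ z) = ringKrullDim (A ⧸ q) := by
      rw [hzq, Groth.Agent.Lib.Helper29.Conn.dim_quot_map, sup_eq_right.mpr hqmin.1.2]
    rw [h3]
    have h4 := h2.trans h1
    generalize ringKrullDim (A ⧸ q) = c at h4 ⊢
    induction c using WithBot.recBotCoe with
    | bot =>
      rw [WithBot.bot_add] at h4
      exact absurd h4 (by simp)
    | coe c =>
      induction c using ENat.recTopCoe with
      | top => exact le_top
      | coe c =>
        have h5 : ((k + 2 : ℕ) : WithBot ℕ∞) ≤ ((c + s.card : ℕ) : WithBot ℕ∞) := by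
          refine h4.trans (le_of_eq ?_)
          push_cast
          rfl
        have h6 : k + 2 ≤ c + s.card := by exact_mod_cast h5
        have h7 : k - m + 2 ≤ c := by omega
        have h8 : ((k - m + 2 : ℕ) : ℕ∞) ≤ (c : ℕ∞) := by exact_mod_cast h7
        exact WithBot.coe_le_coe.mpr h8
  constructor
  · intro Z hZ
    exact le_dim_component (jmap (A ⧸ a)) (jmap_isOpenEmbedding (A ⧸ a)) (jmap_range (A ⧸ a))
      (k - m) hdB Z hZ
  · exact connectedInDim_of_le_connDim (jmap (A ⧸ a)) (jmap_isOpenEmbedding (A ⧸ a))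
      (jmap_range (A ⧸ a)) (k - m) hcB

end Groth.Agent.S3362
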