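import Groth.Statements.S3388
import Groth.Agent.Lib.Helper4FibDimI
open AlgebraicGeometry

set_option autoImplicit false
open CategoryTheory AlgebraicGeometry
universe u
open EGA43

namespace Groth.Agent.S3388

/-- Let X and Y be irreducible schemes and f : X ⟶ Y a dominant morphism locally of finite type; let e
be the dimension of the fibre over the generic point of Y. Then for every point x of X the local
dimension at x of the fibre through x is at least e. -/
theorem result {X Y : Scheme.{u}} [IrreducibleSpace X] [IrreducibleSpace Y]
    (f : X ⟶ Y) [LocallyOfFiniteType f] [IsDominant f] (x : X) :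
    topologicalKrullDim ↥(f.fiber (genericPoint Y)) ≤ FlatMor.fibreDimAt f x := by
  have hξ : ∀ x : X, genericPoint X ⤳ x := fun x => genericPoint_specializes x
  have h1 : f (genericPoint X) = genericPoint Y := by
    have h2 := (genericPoint_spec X).image f.continuous
    rw [Set.image_univ, f.denseRange.closure_range] at h2
    exact h2.eq (genericPoint_spec Y)
  have h3 := Groth.Agent.Lib.Helper4.FibDim.topologicalKrullDim_fiber_eq_fibreDimAt f
    (genericPoint X) hξ
  have h4 := Groth.Agent.Lib.Helper4.FibDim.fibreDimAt_le_of_forall_specializes f
    (genericPoint X) hξ x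
  rw [← h3] at h4
  have key : ∀ (s : Y), f (genericPoint X) = s →
      topologicalKrullDim ↥(f.fiber s) ≤ FlatMor.fibreDimAt f x := by
    intro s hs
    subst hs
    exact h4
  exact key _ h1

end Groth.Agent.S3388
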