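import Groth.Statements.S3389
import Groth.Agent.Lib.Helper4VarDim12
open Groth.Agent.Lib.Helper4.VarDim

set_option autoImplicit false
set_option linter.style.haveILetI false
open CategoryTheory AlgebraicGeometry
universe u
open EGA43

namespace Groth.Agent.S3389

/-- Let Y be a quasi-compact scheme and f : X ⟶ Y a morphism of finite type. Then there is a natural
number n bounding the dimension of every fibre of f. -/
theorem result {X Y : Scheme.{u}} [CompactSpace Y] (f : X ⟶ Y)
    [LocallyOfFiniteType f] [QuasiCompact f] :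
    ∃ n : ℕ, ∀ y : Y, topologicalKrullDim ↥(f.fiber y) ≤ n := by
  haveI : CompactSpace X := QuasiCompact.compactSpace_of_compactSpace f
  have hloc : ∀ x : X, ∃ (U : X.Opens) (n : ℕ), x ∈ U ∧ ∀ x' ∈ U,
      @Algebra.trdeg (Y.residueField (f x')) (X.residueField x') _ _
        (f.residueFieldMap x').hom.toAlgebra ≤ (n : Cardinal.{u}) := by
    intro x
    obtain ⟨V, hV, hfxV, -⟩ := exists_isAffineOpen_mem_and_subset (U := ⊤) (x := f x) trivial
    obtain ⟨U, hU, hxU, hUV⟩ := exists_isAffineOpen_mem_and_subset (U := f ⁻¹ᵁ V) (x := x) hfxV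
    have hft : (f.appLE V U hUV).hom.FiniteType :=
      HasRingHomProperty.appLE (P := @LocallyOfFiniteType) _ ‹_› ⟨V, hV⟩ ⟨U, hU⟩ hUV
    letI := (f.appLE V U hUV).hom.toAlgebra
    obtain ⟨n, σ, hσ⟩ := Algebra.FiniteType.iff_quotient_mvPolynomial''.mp hft
    exact ⟨U, n, hxU, fun x' hx' => trdeg_residueFieldMap_le f hU hUV n σ.toRingHom hσ
      (fun a => σ.commutes a) x' hx'⟩
  choose U n hxU hbound using hloc
  obtain ⟨s, hs⟩ := isCompact_univ.elim_finite_subcover (fun x => (U x : Set X))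
    (fun x => (U x).isOpen) (fun x _ => Set.mem_iUnion.mpr ⟨x, hxU x⟩)
  refine ⟨s.sup n, fun y => ?_⟩
  letI : (f.fiber y).Over (Spec (CommRingCat.of (Y.residueField y))) :=
    ⟨f.fiberToSpecResidueField y⟩
  haveI : LocallyOfFiniteType ((f.fiber y) ↘ Spec (CommRingCat.of (Y.residueField y))) :=
    locallyOfFiniteType_fiberToSpecResidueField f y
  refine topologicalKrullDim_le_of_forall_trdegNat_le' (Y.residueField y) (f.fiber y) _ fun z => ?_
  obtain ⟨x₀, hx₀s, hzx₀⟩ := Set.mem_iUnion₂.mp (hs (Set.mem_univ (f.fiberι y z)))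
  have h1 := hbound x₀ _ hzx₀
  rw [trdeg_residueFieldMap_eq_trdegNat_fiber f y z _ rfl] at h1
  have h2 : trdegNat (Y.residueField y) (f.fiber y) z ≤ n x₀ := by exact_mod_cast h1
  exact_mod_cast h2.trans (Finset.le_sup hx₀s)

end Groth.Agent.S3389
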