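import Groth.Statements.S3392
import Groth.Agent.Lib.Helper4DimFormulaAA

set_option autoImplicit false
set_option linter.style.haveILetI false
open CategoryTheory AlgebraicGeometry
universe u
open EGA43

namespace Groth.Agent.S3392

/-- Let Y be an irreducible locally Noetherian scheme, f : X ⟶ Y a morphism of finite type and y a point
of Y. Condition (a): for every point x of the fibre over y, dim O_{X,x} = dim O_{Y,y} + dim
O_{X_y,x}. Condition (b): for every point z of the fibre over y at which the local ring of the fibre
has dimension 0 (the generic points of the irreducible components of the fibre), dim O_{X,z} = dim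
O_{Y,y}. Then (a) implies (b), and (b) implies (a) if O_{Y,y} is universally catenary. -/
theorem result {X Y : Scheme.{u}} [IrreducibleSpace Y] [IsLocallyNoetherian Y]
    (f : X ⟶ Y) [LocallyOfFiniteType f] [QuasiCompact f] (y : Y) :
    ((∀ x : X, f.base x = y → ringKrullDim (X.presheaf.stalk x) =
        ringKrullDim (Y.presheaf.stalk (f.base x)) + ringKrullDim ((f.fiber (f.base x)).presheaf.stalk (f.asFiber x))) →
      (∀ z : X, f.base z = y → ringKrullDim ((f.fiber (f.base z)).presheaf.stalk (f.asFiber z)) = 0 →
        ringKrullDim (X.presheaf.stalk z) = ringKrullDim (Y.presheaf.stalk (f.base z)))) ∧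
    (CAlg.IsUniversallyCatenary (Y.presheaf.stalk y) →
      (∀ z : X, f.base z = y → ringKrullDim ((f.fiber (f.base z)).presheaf.stalk (f.asFiber z)) = 0 →
        ringKrullDim (X.presheaf.stalk z) = ringKrullDim (Y.presheaf.stalk (f.base z))) →
      (∀ x : X, f.base x = y → ringKrullDim (X.presheaf.stalk x) =
        ringKrullDim (Y.presheaf.stalk (f.base x)) + ringKrullDim ((f.fiber (f.base x)).presheaf.stalk (f.asFiber x)))) := by
  haveI : IsLocallyNoetherian X := LocallyOfFiniteType.isLocallyNoetherian f
  refine ⟨fun ha z hz hz0 => ?_, fun _ hb x hx => ?_⟩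
  · rw [ha z hz, hz0, add_zero]
  · refine le_antisymm (Groth.Agent.Lib.Helper4.DimFormula.ringKrullDim_stalk_le_add_asFiber f x) ?_
    have key := Groth.Agent.Lib.Helper4.DimFormula.add_le_ringKrullDim_stalk_of_forall_maximal f
      (f.base x) (ringKrullDim (Y.presheaf.stalk (f.base x))) (f.asFiber x) ?_
    · rw [f.fiberι_asFiber x] at key
      exact key
    · intro w' _ hmax
      have hz : f.base (f.fiberι (f.base x) w') = f.base x := by
        have : f.fiberι (f.base x) w' ∈ Set.range (f.fiberι (f.base x)) := ⟨w', rfl⟩
        rw [f.range_fiberι] at this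
        exact this
      have hz0 : ringKrullDim ((f.fiber (f.base (f.fiberι (f.base x) w'))).presheaf.stalk
          (f.asFiber (f.fiberι (f.base x) w'))) = 0 := by
        rw [Groth.Agent.Lib.Helper4.DimFormula.ringKrullDim_stalk_asFiber,
          ← Groth.Agent.Lib.Helper4.DimFormula.ringKrullDim_stalk_fiber_eq_fibStalkDim,
          ringKrullDim_stalk_eq_coheight]
        have : Order.coheight w' = 0 := by
          rw [Order.coheight_eq_zero]
          intro b hb
          have : b = w' := hmax b hb
          rw [this]
        rw [this]
        rfl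
      have h1 := hb _ (hz.trans hx) hz0
      rw [h1, hz]

end Groth.Agent.S3392
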