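import Groth.Statements.S3398
import Groth.Agent.Lib.Helper5Image

set_option autoImplicit false
open CategoryTheory AlgebraicGeometry
universe u
open EGA41

namespace Groth.Agent.S3398

/-- Let f : X' ⟶ X be a quasi-compact morphism of schemes and E' a pro-constructible subset of X'. Then
f(E') is pro-constructible in X; in particular f(X') is pro-constructible. -/
theorem result {X' X : Scheme.{u}} (f : X' ⟶ X) [QuasiCompact f]
    (E' : Set X') (hE' : ProCons.IsProConstructible E') :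
    ProCons.IsProConstructible (f.base '' E') := by
  classical
  intro x
  obtain ⟨U, hU, hxU, -⟩ :=
    TopologicalSpace.Opens.isBasis_iff_nbhd.mp X.isBasis_affineOpens
      (show x ∈ (⊤ : X.Opens) from trivial)
  have : IsAffine (U : Scheme.{u}) := hU
  obtain ⟨s, hs, hcover⟩ := (isCompact_iff_finite_and_eq_biUnion_affineOpens (X := X')
    (U := f ⁻¹ᵁ U)).mp (f.isCompact_preimage hU.isCompact)
  have hle : ∀ V : X'.affineOpens, V ∈ s → (V : X'.Opens) ≤ f ⁻¹ᵁ U := by
    intro V hV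
    rw [hcover]
    exact le_iSup₂ (f := fun (i : X'.affineOpens) (_ : i ∈ s) => (i : X'.Opens)) V hV
  -- separation by constructible sets, for each member of the cover
  have key : ∀ (V : X'.affineOpens) (hV : V ∈ s) (y : (U : Scheme.{u})),
      y ∉ (f.resLE U V (hle V hV)).base '' ((V : X'.Opens).ι.base ⁻¹' E') →
      ∃ C : Set (U : Scheme.{u}), Topology.IsConstructible C ∧
        (f.resLE U V (hle V hV)).base '' ((V : X'.Opens).ι.base ⁻¹' E') ⊆ C ∧ y ∉ C := by
    intro V hV y hy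
    have : IsAffine ((V : X'.Opens) : Scheme.{u}) := V.2
    obtain ⟨𝒟, h𝒟, hE𝒟⟩ := Groth.Agent.Lib.Helper5.exists_eq_sInter_of_isProConstructible
      (Groth.Agent.Lib.Helper5.isProConstructible_preimage (V : X'.Opens).ι E' hE')
    have hT := Groth.Agent.Lib.Helper5.image_sInter_eq_sInter_isConstructible
      (f.resLE U V (hle V hV)).base
      (fun C hC => Scheme.Hom.isConstructible_preimage (f.resLE U V (hle V hV)) hC) 𝒟 h𝒟
    rw [hE𝒟, hT] at hy
    rw [Set.mem_sInter] at hy
    push Not at hy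
    obtain ⟨C, ⟨hC, hsub⟩, hyC⟩ := hy
    exact ⟨C, hC, by rw [hE𝒟]; exact hsub, hyC⟩
  refine ⟨(U : Set X), U.isOpen, hxU,
    {C | Topology.IsConstructible C ∧ (Subtype.val ⁻¹' (f.base '' E') : Set (U : Set X)) ⊆ C},
    fun C hC => hC.1.isLocallyConstructible, ?_⟩
  apply subset_antisymm
  · intro y hy C hC
    exact hC.2 hy
  · intro y hy
    by_contra hyE
    have hno : ∀ (V : X'.affineOpens) (hV : V ∈ s),
        y ∉ (f.resLE U V (hle V hV)).base '' ((V : X'.Opens).ι.base ⁻¹' E') := by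
      rintro V hV ⟨z, hz, hzy⟩
      apply hyE
      refine ⟨z.1, hz, ?_⟩
      have := Scheme.Hom.coe_resLE_apply f (hle V hV) z
      rw [← this, hzy]
    choose C hCc hCsub hyC using fun (V : s) => key V.1 V.2 y (hno V.1 V.2)
    have : Finite s := hs
    have hmem : (⋃ V : s, C V) ∈ {C | Topology.IsConstructible C ∧
        (Subtype.val ⁻¹' (f.base '' E') : Set (U : Set X)) ⊆ C} := by
      refine ⟨Topology.IsConstructible.iUnion fun V => hCc V, ?_⟩
      rintro ⟨u, hu⟩ ⟨x', hx'E, hx'u⟩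
      have hx'u' : f.base x' = u := hx'u
      have hx'pre : x' ∈ f ⁻¹ᵁ U := by
        show f.base x' ∈ U
        rw [hx'u']; exact hu
      rw [hcover] at hx'pre
      simp only [TopologicalSpace.Opens.mem_iSup] at hx'pre
      obtain ⟨V, hV, hx'V⟩ := hx'pre
      have hval : ((f.resLE U V (hle V hV)).base ⟨x', hx'V⟩).1 = u :=
        (Scheme.Hom.coe_resLE_apply f (hle V hV) ⟨x', hx'V⟩).trans hx'u'
      have hin : (f.resLE U V (hle V hV)).base ⟨x', hx'V⟩ ∈ C ⟨V, hV⟩ :=
        hCsub ⟨V, hV⟩ ⟨⟨x', hx'V⟩, hx'E, rfl⟩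
      have heq : (f.resLE U V (hle V hV)).base ⟨x', hx'V⟩ = (⟨u, hu⟩ : (U : Scheme.{u})) :=
        Subtype.ext hval
      rw [heq] at hin
      exact Set.mem_iUnion.mpr ⟨⟨V, hV⟩, hin⟩
    obtain ⟨V, hV⟩ := Set.mem_iUnion.mp (hy _ hmem)
    exact hyC V hV

end Groth.Agent.S3398
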