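import Groth.Statements.S3401
import Groth.Agent.Lib.Helper5Noeth

set_option autoImplicit false
open CategoryTheory AlgebraicGeometry
universe u
open EGA41

namespace Groth.Agent.S3401

/-- Let X be a scheme and E a subset of X. If E is ind-constructible then for every point x of E the set
E ∩ cl{x} is a neighbourhood of x in cl{x}; when X is locally Noetherian the converse holds. (As
published, the necessity clause quantifies over all points x of X; for x outside E the condition
cannot hold, and the argument uses x ∈ E, so it is stated here for x ∈ E.) Stated as an equivalence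
for X locally Noetherian. -/
theorem result (X : Scheme.{u}) [IsLocallyNoetherian X]
    (E : Set X) :
    ProCons.IsIndConstructible E ↔
      ∀ x ∈ E, (Subtype.val ⁻¹' E : Set ↥(closure ({x} : Set X))) ∈ nhds (⟨x, subset_closure rfl⟩ : ↥(closure ({x} : Set X))) := by
  constructor
  · intro hE x hxE
    obtain ⟨U, hU, hxU, S, hS, hES⟩ := hE x
    obtain ⟨W, hW, hxW, hWU⟩ :=
      TopologicalSpace.Opens.isBasis_iff_nbhd.mp X.isBasis_affineOpens
        (show x ∈ (⟨U, hU⟩ : X.Opens) from hxU)
    have : IsAffine (W : Scheme.{u}) := hW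
    have : CompactSpace ↥(W : Set X) := inferInstanceAs (CompactSpace (W : Scheme.{u}))
    have : PrespectralSpace ↥(W : Set X) := inferInstanceAs (PrespectralSpace (W : Scheme.{u}))
    have : QuasiSeparatedSpace ↥(W : Set X) :=
      inferInstanceAs (QuasiSeparatedSpace (W : Scheme.{u}))
    have h1 : (⟨x, hxU⟩ : U) ∈ (Subtype.val ⁻¹' E : Set U) := hxE
    rw [hES] at h1
    obtain ⟨T, hT, hxT⟩ := h1
    have hTc : Topology.IsConstructible (Set.inclusion hWU ⁻¹' T) :=
      Groth.Agent.Lib.Helper5.isConstructible_inclusion_preimage W.isOpen hWU (hS T hT)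
    obtain ⟨O, hO, hxO, hOT⟩ :=
      Groth.Agent.Lib.Helper5.exists_isOpen_inter_closure_subset hTc ⟨x, hxW⟩ hxT
    have hO' : IsOpen (Subtype.val '' O : Set X) := W.isOpen.isOpenMap_subtype_val _ hO
    rw [mem_nhds_subtype]
    refine ⟨Subtype.val '' O, hO'.mem_nhds ⟨⟨x, hxW⟩, hxO, rfl⟩, ?_⟩
    rintro ⟨z, hzcl⟩ ⟨⟨z', hz'W⟩, hz'O, hz'z⟩
    have hz'z' : z' = z := hz'z
    subst hz'z'
    have hmem : (⟨z', hz'W⟩ : (W : Set X)) ∈ Set.inclusion hWU ⁻¹' T := by
      apply hOT
      refine ⟨hz'O, ?_⟩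
      rw [closure_subtype]
      simpa using hzcl
    have h2 : (⟨z', hWU hz'W⟩ : U) ∈ ⋃₀ S := ⟨T, hT, hmem⟩
    rw [← hES] at h2
    exact h2
  · intro h x₀
    obtain ⟨U, hU, hxU, -⟩ :=
      TopologicalSpace.Opens.isBasis_iff_nbhd.mp X.isBasis_affineOpens
        (show x₀ ∈ (⊤ : X.Opens) from trivial)
    have : IsNoetherianRing Γ(X, U) := IsLocallyNoetherian.component_noetherian ⟨U, hU⟩
    have hN : TopologicalSpace.NoetherianSpace ↥(U : Set X) := noetherianSpace_of_isAffineOpen U hU
    -- open neighbourhoods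
    have hO : ∀ x ∈ E, ∃ O : Set X, IsOpen O ∧ x ∈ O ∧ O ∩ closure {x} ⊆ E := by
      intro x hx
      have := h x hx
      rw [mem_nhds_subtype] at this
      obtain ⟨N, hN, hNE⟩ := this
      refine ⟨interior N, isOpen_interior, mem_interior_iff_mem_nhds.mpr hN, ?_⟩
      rintro z ⟨hzN, hzcl⟩
      have hzN' : z ∈ N := interior_subset hzN
      exact hNE (show (⟨z, hzcl⟩ : closure ({x} : Set X)) ∈ Subtype.val ⁻¹' N from hzN')
    choose! O hOo hxO hOE using hO
    refine ⟨(U : Set X), U.isOpen, hxU,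
      {T | ∃ x ∈ E, T = (Subtype.val ⁻¹' (O x ∩ closure {x}) : Set (U : Set X))}, ?_, ?_⟩
    · rintro _ ⟨x, hx, rfl⟩
      rw [Set.preimage_inter]
      exact (Groth.Agent.Lib.Helper5.isConstructible_inter_of_noetherianSpace
        ((hOo x hx).preimage continuous_subtype_val)
        (isClosed_closure.preimage continuous_subtype_val)).isLocallyConstructible
    · ext ⟨z, hz⟩
      constructor
      · intro hzE
        exact ⟨_, ⟨z, hzE, rfl⟩, ⟨hxO z hzE, subset_closure rfl⟩⟩
      · rintro ⟨_, ⟨x, hx, rfl⟩, hzx⟩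
        exact hOE x hx hzx

end Groth.Agent.S3401
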