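import Groth.Statements.S3406
import Groth.Agent.Lib.Helper5SuppDim

set_option autoImplicit false
universe u
open EGA41

namespace Groth.Agent.S3406

/-- The equality s(M) = dim(M): let A be a Noetherian ring with finitely many maximal ideals, r its
Jacobson radical and M a nonzero finitely generated A-module. Then the dimension of M (the Krull
dimension of its support) is the least n for which there are elements x_1, …, x_n of r such that
M/(x_1 M + ⋯ + x_n M) has finite length. -/
theorem result (A : Type u) [CommRing A] [IsNoetherianRing A]
    [Finite (MaximalSpectrum A)] (M : Type u) [AddCommGroup M] [Module A M] [Module.Finite A M] [Nontrivial M] :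
    Module.supportDim A M =
      sInf {k : WithBot ℕ∞ | ∃ (n : ℕ) (x : Fin n → A), k = n ∧ (∀ i, x i ∈ Ring.jacobson A) ∧
        IsFiniteLength A (M ⧸ (Ideal.span (Set.range x) • (⊤ : Submodule A M)))} := by
  apply le_antisymm
  · apply le_sInf
    rintro k ⟨n, x, rfl, hxJ, hfl⟩
    have e : Ideal.ofList (List.ofFn x) = Ideal.span (Set.range x) := by
      have : {r | r ∈ List.ofFn x} = Set.range x := by
        ext a
        exact (List.mem_ofFn' x a)
      rw [Ideal.ofList, this]
    have h1 := Groth.Agent.Lib.Helper5.supportDim_le_supportDim_quot_ofList_add_length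
      (A := A) (M := M) (List.ofFn x) (by
        intro r hr
        obtain ⟨i, rfl⟩ := (List.mem_ofFn' x r).mp hr
        exact hxJ i)
    rw [e, List.length_ofFn] at h1
    have h2 := Groth.Agent.Lib.Helper5.supportDim_le_zero_of_isFiniteLength hfl
    calc Module.supportDim A M
        ≤ Module.supportDim A (M ⧸ (Ideal.span (Set.range x) • (⊤ : Submodule A M))) + n := h1
      _ ≤ 0 + n := by gcongr
      _ = n := by simp
  · cases hs : Module.supportDim A M with
    | bot => exact absurd hs (Module.supportDim_ne_bot_of_nontrivial A M)
    | coe e =>
      cases e with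
      | top => exact le_top
      | coe d =>
        obtain ⟨rs, hlen, hJ, hfl⟩ :=
          Groth.Agent.Lib.Helper5.exists_list_isFiniteLength_quot_of_supportDim_le A d M
            (le_of_eq hs)
        have e : Ideal.span (Set.range rs.get) = Ideal.ofList rs := by
          rw [Set.range_list_get]
        refine le_trans (sInf_le ⟨rs.length, rs.get, rfl, fun i => hJ _ (List.get_mem rs i), ?_⟩) ?_
        · rw [e]; exact hfl
        · exact_mod_cast hlen

end Groth.Agent.S3406
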