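import Groth.Statements.S3412
import Groth.Agent.Lib.Helper2GeomPts

set_option autoImplicit false
open CategoryTheory AlgebraicGeometry
universe u
open EGA43

namespace Groth.Agent.S3412

/-- Let Y be locally Noetherian, f : X ⟶ Y separated and quasi-finite, n(z) the geometric number of
points of the fibre over z, and y a point such that f is universally open at every point of the
fibre over y. If n is constant on a neighbourhood of y, then f is proper at y: there is an open
neighbourhood U of y such that the restriction of f over U is proper. -/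
theorem result {X Y : Scheme.{u}} [IsLocallyNoetherian Y] (f : X ⟶ Y)
    [IsSeparated f] [LocallyQuasiFinite f] [LocallyOfFiniteType f] [QuasiCompact f] (y : Y)
    (h : ∀ x : X, f.base x = y → EGA43.IsUnivOpenAt f x)
    (hc : ∃ V ∈ nhds y, ∀ z ∈ V, MoreMor.nGeomConnComp f z = MoreMor.nGeomConnComp f y) :
    ∃ U : Y.Opens, y ∈ U ∧ IsProper (f ∣_ U) := by
  have hfin : ∀ y : Y, (f ⁻¹' {y}).Finite := fun y => f.finite_preimage_singleton y
  have hopen : ∀ (V : Scheme.{u}) (gV : V ⟶ Y) [Etale gV] (z : ↥(Limits.pullback f gV)),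
      f (Limits.pullback.fst f gV z) = y → ∀ U ∈ nhds z,
        (Limits.pullback.snd f gV) '' U ∈ nhds (Limits.pullback.snd f gV z) := by
    intro V gV _ z hz U hU
    exact h (Limits.pullback.fst f gV z) hz V gV z rfl U hU
  have hc' : ∃ N₀ ∈ nhds y, ∀ y' ∈ N₀, Groth.Agent.Lib.Helper2.Weight.ng f y' ≤
      Groth.Agent.Lib.Helper2.Weight.ng f y := by
    obtain ⟨V, hV, hVeq⟩ := hc
    refine ⟨V, hV, fun z hz => ?_⟩
    have := hVeq z hz
    rw [Groth.Agent.Lib.Helper2.Weight.nGeomConnComp_eq f y (hfin y),
      Groth.Agent.Lib.Helper2.Weight.nGeomConnComp_eq f z (hfin z)] at this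
    have h2 : Groth.Agent.Lib.Helper2.Weight.ng f z = Groth.Agent.Lib.Helper2.Weight.ng f y := by
      exact_mod_cast this
    exact h2.le
  obtain ⟨V', g', hg', hy, hfin'⟩ :=
    Groth.Agent.Lib.Helper2.Weight.exists_etale_nhd_finite_of_ng_le f hfin y hopen hc'
  haveI := hg'
  haveI := hfin'
  refine ⟨⟨Set.range g', g'.isOpenMap.isOpen_range⟩, hy, ?_⟩
  haveI := Groth.Agent.Lib.Helper2.Weight.isFinite_restrict_range f g'
  infer_instance

end Groth.Agent.S3412
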