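import Groth.Statements.S3416
import Groth.Agent.Lib.Helper22GI12
import Groth.Agent.Lib.Helper22LscA
import Groth.Agent.Lib.Helper22LscD
import Groth.Agent.Lib.Helper22LscE
import Groth.Agent.Lib.Helper3HTopB
import Groth.Agent.Lib.Helper2GeomFibBC

set_option autoImplicit false
open CategoryTheory AlgebraicGeometry
universe u
open EGA43

namespace Groth.Agent.S3416

/-- Let Y be locally Noetherian, f : X ⟶ Y proper and n(z) the geometric number of connected components
of the fibre over z. Let y be a point such that f is universally open at every point of the fibre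
over y and that fibre is geometrically reduced over the residue field of y. Then n is constant on a
neighbourhood of y. -/
theorem result {X Y : Scheme.{u}} [IsLocallyNoetherian Y]
    (f : X ⟶ Y) [IsProper f] (y : Y) (h : ∀ x : X, f.base x = y → EGA43.IsUnivOpenAt f x)
    (hred : GeometricallyReduced (f.fiberToSpecResidueField y)) :
    ∃ V ∈ nhds y, ∀ z ∈ V, MoreMor.nGeomConnComp f z = MoreMor.nGeomConnComp f y := by
  classical
  have : LocallyOfFinitePresentation f := inferInstance
  have hE : Topology.IsLocallyConstructible
      {z : Y | MoreMor.nGeomConnComp f z = MoreMor.nGeomConnComp f y} :=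
    Groth.Agent.Lib.Helper22.GI.isLocallyConstructible_nGeomConnComp_eq f _
  refine ⟨{z : Y | MoreMor.nGeomConnComp f z = MoreMor.nGeomConnComp f y},
    Groth.Agent.Lib.Helper22.LscD.mem_nhds_of_isLocallyConstructible _ hE y ?_, fun z hz => hz⟩
  intro z hzy
  show MoreMor.nGeomConnComp f z = MoreMor.nGeomConnComp f y
  by_cases hne : z = y
  · rw [hne]
  obtain ⟨V, _, _, _, g, hg1, hg2⟩ := Groth.Agent.Lib.Helper3.HTopB.exists_dvr_hom' hzy hne
  have sq : IsPullback (Limits.pullback.fst f g) (Limits.pullback.snd f g) f g :=
    IsPullback.of_hasPullback f g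
  let η : Spec (CommRingCat.of V) := (⟨⊥, Ideal.isPrime_bot⟩ : PrimeSpectrum V)
  have hη : η.asIdeal = ⊥ := rfl
  have hηne : η ≠ IsLocalRing.closedPoint V := by
    intro heq
    have h0 : η.asIdeal = (IsLocalRing.closedPoint V).asIdeal := congrArg PrimeSpectrum.asIdeal heq
    rw [hη] at h0
    exact IsDiscreteValuationRing.not_a_field V h0.symm
  have h1 := Groth.Agent.Lib.Helper2.GeomFibBC.nGeomConnComp_eq f (Limits.pullback.snd f g)
    (Limits.pullback.fst f g) g sq η
  have h2 := Groth.Agent.Lib.Helper2.GeomFibBC.nGeomConnComp_eq f (Limits.pullback.snd f g)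
    (Limits.pullback.fst f g) g sq (IsLocalRing.closedPoint V)
  rw [hg2 η hηne] at h1
  rw [hg1] at h2
  rw [← h1, ← h2]
  apply Groth.Agent.Lib.Helper22.LscE.nGeomConnComp_generic_eq_closed V (Limits.pullback.snd f g) η hη
  · intro x hx
    apply Groth.Agent.Lib.Helper22.LscA.isOpenAt_of_isUnivOpenAt
    apply Groth.Agent.Lib.Helper22.LscA.isUnivOpenAt_of_isPullback sq x
    apply h
    have hw := congrArg (fun φ : Limits.pullback f g ⟶ Y => φ.base x) sq.w
    simp only [Scheme.Hom.comp_base, TopCat.comp_app] at hw
    rw [hw, hx]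
    exact hg1
  · have sqF := isPullback_fiberToSpecResidueField_of_isPullback sq (IsLocalRing.closedPoint V)
    have hred' : GeometricallyReduced (f.fiberToSpecResidueField (g (IsLocalRing.closedPoint V))) := by
      rw [hg1]
      exact hred
    exact MorphismProperty.of_isPullback (P := @GeometricallyReduced) sqF hred'

end Groth.Agent.S3416
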