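import Groth.Statements.S3417
import Mathlib
import Groth.Agent.Lib.Helper10DVRFibre4
import Groth.Agent.S10837
-- import your own Groth.Agent.* helpers here

set_option autoImplicit false
open CategoryTheory AlgebraicGeometry
universe u
open EGA43

namespace Groth.Agent.S3417

/-- Let A be a discrete valuation ring, Y = Spec A with closed point a and generic point b, and f : X ⟶
Y a morphism locally of finite type which is open (as a map of spaces). If X is connected and the
fibre over a is a reduced scheme, then the fibre over b is connected. (Stated with 'preconnected',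
which also covers the empty case; a is the closed point and b the point specialising to every
point.) -/
theorem result (A : Type u) [CommRing A] [IsDomain A]
    [IsDiscreteValuationRing A] {X : Scheme.{u}} (f : X ⟶ Spec (CommRingCat.of A)) [LocallyOfFiniteType f]
    (hopen : IsOpenMap f.base) [PreconnectedSpace X]
    (a b : ↥(Spec (CommRingCat.of A))) (ha : IsClosed ({a} : Set ↥(Spec (CommRingCat.of A))))
    (hb : ∀ z : ↥(Spec (CommRingCat.of A)), b ⤳ z)
    (hred : AlgebraicGeometry.IsReduced (f.fiber a)) :
    PreconnectedSpace ↥(f.fiber b) := by
  classical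
  obtain ⟨π, hπ⟩ := IsDiscreteValuationRing.exists_irreducible A
  have hbg : b = Groth.Agent.Lib.Helper10.DVRFibre.genPt A :=
    ((hb _).antisymm (Groth.Agent.Lib.Helper10.DVRFibre.genPt_specializes b)).eq
  have hac : a = IsLocalRing.closedPoint A := by
    rcases Groth.Agent.Lib.Helper10.DVRFibre.eq_genPt_or_closedPoint a with h | h
    · exfalso
      have h0 : a ⤳ IsLocalRing.closedPoint A := by
        rw [h]
        exact Groth.Agent.Lib.Helper10.DVRFibre.genPt_specializes _
      have h1 : IsLocalRing.closedPoint A ∈ ({a} : Set (PrimeSpectrum A)) :=
        h0.mem_closed ha rfl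
      have h2 : IsLocalRing.closedPoint A = Groth.Agent.Lib.Helper10.DVRFibre.genPt A :=
        (Set.mem_singleton_iff.1 h1).trans h
      have h3 : IsLocalRing.maximalIdeal A = ⊥ := congrArg PrimeSpectrum.asIdeal h2
      exact IsDiscreteValuationRing.not_a_field A h3
    · exact h
  subst hbg
  subst hac
  haveI := hred
  have hgen : GeneralizingMap f := Groth.Agent.S10837.result f hopen
  have hpre := Groth.Agent.Lib.Helper10.DVRFibre.isPreconnected_preimage_genPt f hπ hgen
    (fun x hx =>
      Groth.Agent.Lib.Helper10.DVRFibre.exists_affine_nzd_reduced_of_generalizing f hgen hπ x hx)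
  exact Groth.Agent.Lib.Helper10.DVRFibre.preconnectedSpace_fiber_of_isPreconnected f _ hpre

end Groth.Agent.S3417
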