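import Groth.Statements.S3418
import Groth.Agent.Lib.Helper2GeomPts

set_option autoImplicit false
open CategoryTheory AlgebraicGeometry
universe u
open EGA43

namespace Groth.Agent.S3418

/-- Let f : X ⟶ Y be flat, locally of finite presentation, separated and quasi-finite, and let n(y) be
the geometric number of points of the fibre over y. Then n is lower semicontinuous on Y, and if n is
constant on a neighbourhood of a point y₀ then f is proper over some open neighbourhood of y₀. -/
theorem result {X Y : Scheme.{u}} (f : X ⟶ Y) [Flat f]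
    [LocallyOfFinitePresentation f] [IsSeparated f] [LocallyQuasiFinite f] [QuasiCompact f] :
    LowerSemicontinuous (fun z : Y => MoreMor.nGeomConnComp f z) ∧
      ∀ y₀ : Y, (∃ V ∈ nhds y₀, ∀ z ∈ V, MoreMor.nGeomConnComp f z = MoreMor.nGeomConnComp f y₀) →
        ∃ U : Y.Opens, y₀ ∈ U ∧ IsProper (f ∣_ U) := by
  have hfin : ∀ y : Y, (f ⁻¹' {y}).Finite := fun y => f.finite_preimage_singleton y
  have hopen : ∀ (y : Y) (V : Scheme.{u}) (gV : V ⟶ Y) [Etale gV] (z : ↥(Limits.pullback f gV)),
      f (Limits.pullback.fst f gV z) = y → ∀ U ∈ nhds z,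
        (Limits.pullback.snd f gV) '' U ∈ nhds (Limits.pullback.snd f gV z) := by
    intro y V gV _ z _ U hU
    exact (Limits.pullback.snd f gV).isOpenMap.image_mem_nhds hU
  refine ⟨?_, ?_⟩
  · intro y c hc
    obtain ⟨N, hN, hyN, hle⟩ :=
      Groth.Agent.Lib.Helper2.Weight.exists_nhd_ng_le f hfin y (hopen y)
    filter_upwards [hN.mem_nhds hyN] with z hz
    refine lt_of_lt_of_le hc ?_
    change MoreMor.nGeomConnComp f y ≤ MoreMor.nGeomConnComp f z
    rw [Groth.Agent.Lib.Helper2.Weight.nGeomConnComp_eq f y (hfin y),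
      Groth.Agent.Lib.Helper2.Weight.nGeomConnComp_eq f z (hfin z)]
    exact_mod_cast hle z hz
  · intro y hc
    have hc' : ∃ N₀ ∈ nhds y, ∀ y' ∈ N₀, Groth.Agent.Lib.Helper2.Weight.ng f y' ≤
        Groth.Agent.Lib.Helper2.Weight.ng f y := by
      obtain ⟨V, hV, hVeq⟩ := hc
      refine ⟨V, hV, fun z hz => ?_⟩
      have := hVeq z hz
      rw [Groth.Agent.Lib.Helper2.Weight.nGeomConnComp_eq f y (hfin y),
        Groth.Agent.Lib.Helper2.Weight.nGeomConnComp_eq f z (hfin z)] at this
      have h2 : Groth.Agent.Lib.Helper2.Weight.ng f z =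
          Groth.Agent.Lib.Helper2.Weight.ng f y := by
        exact_mod_cast this
      exact h2.le
    obtain ⟨V', g', hg', hy, hfin'⟩ :=
      Groth.Agent.Lib.Helper2.Weight.exists_etale_nhd_finite_of_ng_le f hfin y (hopen y) hc'
    haveI := hg'
    haveI := hfin'
    refine ⟨⟨Set.range g', g'.isOpenMap.isOpen_range⟩, hy, ?_⟩
    haveI := Groth.Agent.Lib.Helper2.Weight.isFinite_restrict_range f g'
    infer_instance

end Groth.Agent.S3418
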