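import Groth.Statements.S3435
-- import your own Groth.Agent.* helpers here

set_option autoImplicit false
universe u
open EGA41

namespace Groth.Agent.S3435

open TensorProduct in
/-- Let Λ → A → B → C be ring homomorphisms. The homomorphism Ω_{B/Λ} ⊗_B C → Ω_{B/A} ⊗_B C maps the
imperfection module Υ_{C/B/Λ} (the kernel of Ω_{B/Λ} ⊗_B C → Ω_{C/Λ}) onto the imperfection module
Υ_{C/B/A} (the kernel of Ω_{B/A} ⊗_B C → Ω_{C/A}): every element of Υ_{C/B/A} is the image of some
element of Υ_{C/B/Λ}. -/
theorem result (Λ A B C : Type u) [CommRing Λ] [CommRing A] [CommRing B] [CommRing C]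
    [Algebra Λ A] [Algebra Λ B] [Algebra Λ C] [Algebra A B] [Algebra A C] [Algebra B C]
    [IsScalarTower Λ A B] [IsScalarTower Λ A C] [IsScalarTower Λ B C] [IsScalarTower A B C] :
    ∀ ω ∈ EGA41.imperfection A B C, ∃ η ∈ EGA41.imperfection Λ B C,
      (KaehlerDifferential.map Λ A B B).baseChange C η = ω := by
  intro ω hω
  -- the maps
  have hsurj : Function.Surjective ((KaehlerDifferential.map Λ A B B).baseChange C) :=
    LinearMap.lTensor_surjective C (KaehlerDifferential.map_surjective Λ A B)
  obtain ⟨η', hη'⟩ := hsurj ω
  -- commutativity of the square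
  have hcomm : ∀ ζ : TensorProduct B C (Ω[B⁄Λ]),
      KaehlerDifferential.mapBaseChange A B C ((KaehlerDifferential.map Λ A B B).baseChange C ζ) =
        KaehlerDifferential.map Λ A C C (KaehlerDifferential.mapBaseChange Λ B C ζ) := by
    intro ζ
    induction ζ with
    | zero => simp
    | add x y hx hy => simp only [map_add, hx, hy]
    | tmul c s =>
      simp only [LinearMap.baseChange_tmul, KaehlerDifferential.mapBaseChange_tmul, map_smul]
      congr 1
      have hs : s ∈ Submodule.span B (Set.range (KaehlerDifferential.D Λ B)) := by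
        rw [KaehlerDifferential.span_range_derivation]; trivial
      induction hs using Submodule.span_induction with
      | mem x hx =>
        obtain ⟨b, rfl⟩ := hx
        simp
      | zero => simp
      | add x y _ _ hx hy => simp only [map_add, hx, hy]
      | smul b x _ hx =>
        simp only [map_smul, hx]
        rw [LinearMap.map_smul_of_tower]
  -- the key claim about elements coming from `Ω_{A/Λ} ⊗ C`
  have hkey : ∀ ξ : TensorProduct A C (Ω[A⁄Λ]), ∃ ζ : TensorProduct B C (Ω[B⁄Λ]),
      KaehlerDifferential.mapBaseChange Λ B C ζ = KaehlerDifferential.mapBaseChange Λ A C ξ ∧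
        (KaehlerDifferential.map Λ A B B).baseChange C ζ = 0 := by
    intro ξ
    induction ξ with
    | zero => exact ⟨0, by simp, by simp⟩
    | add x y hx hy =>
      obtain ⟨ζ₁, h₁, h₁'⟩ := hx
      obtain ⟨ζ₂, h₂, h₂'⟩ := hy
      exact ⟨ζ₁ + ζ₂, by simp only [map_add, h₁, h₂], by simp only [map_add, h₁', h₂', add_zero]⟩
    | tmul c s =>
      refine ⟨c ⊗ₜ[B] (KaehlerDifferential.map Λ Λ A B s), ?_, ?_⟩
      · simp only [KaehlerDifferential.mapBaseChange_tmul]
        congr 1
        have hs : s ∈ Submodule.span A (Set.range (KaehlerDifferential.D Λ A)) := by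
          rw [KaehlerDifferential.span_range_derivation]; trivial
        induction hs using Submodule.span_induction with
        | mem x hx =>
          obtain ⟨a, rfl⟩ := hx
          simp [← IsScalarTower.algebraMap_apply]
        | zero => simp
        | add x y _ _ hx hy => simp only [map_add, hx, hy]
        | smul a x _ hx =>
          simp only [map_smul]
          rw [LinearMap.map_smul_of_tower, hx]
      · simp only [LinearMap.baseChange_tmul]
        have hs : s ∈ Submodule.span A (Set.range (KaehlerDifferential.D Λ A)) := by
          rw [KaehlerDifferential.span_range_derivation]; trivial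
        have : KaehlerDifferential.map Λ A B B (KaehlerDifferential.map Λ Λ A B s) = 0 := by
          induction hs using Submodule.span_induction with
          | mem x hx =>
            obtain ⟨a, rfl⟩ := hx
            simp
          | zero => simp
          | add x y _ _ hx hy => simp only [map_add, hx, hy, add_zero]
          | smul a x _ hx =>
            rw [map_smul, ← algebraMap_smul B a, map_smul, hx, smul_zero]
        rw [this, TensorProduct.tmul_zero]
  have h1 : KaehlerDifferential.map Λ A C C (KaehlerDifferential.mapBaseChange Λ B C η') = 0 := by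
    rw [← hcomm, hη']
    exact hω
  obtain ⟨ξ, hξ⟩ := (KaehlerDifferential.exact_mapBaseChange_map Λ A C _).mp h1
  obtain ⟨ζ, hζ₁, hζ₂⟩ := hkey ξ
  refine ⟨η' - ζ, ?_, ?_⟩
  · change KaehlerDifferential.mapBaseChange Λ B C (η' - ζ) = 0
    rw [map_sub, hζ₁, hξ, sub_self]
  · rw [map_sub, hζ₂, hη', sub_zero]

end Groth.Agent.S3435
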