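import Groth.Statements.S3437
import Groth.Agent.Lib.Helper5FibCodepthConstr
import Groth.Agent.Lib.Helper5Compl

set_option autoImplicit false
open CategoryTheory AlgebraicGeometry
universe u
open EGA43

namespace Groth.Agent.S3437

/-- Let f : X ⟶ S be of finite presentation (locally of finite presentation, quasi-compact and
quasi-separated). Then the set of points s of S such that every local ring of the fibre X_s is
Cohen–Macaulay is locally constructible in S. -/
theorem result {X S : Scheme.{u}} (f : X ⟶ S)
    [LocallyOfFinitePresentation f] [QuasiCompact f] [QuasiSeparated f] :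
    Topology.IsLocallyConstructible {s : S |
      ∀ z : ↥(f.fiber s), LocCoh.IsCohenMacaulayLocalRing ((f.fiber s).presheaf.stalk z)} := by
  have hE := Groth.Agent.Lib.Helper5.FibCodepthConstr.isLocallyConstructible_lcd 0 f
  have h1 : Topology.IsLocallyConstructible
      (f '' (Groth.Agent.Lib.Helper5.FibCodepthConstr.Lcd 0 f)ᶜ)ᶜ := by
    apply Groth.Agent.Lib.Helper5.isLocallyConstructible_compl
    apply f.isLocallyConstructible_image
    exact Groth.Agent.Lib.Helper5.isLocallyConstructible_compl hE
  convert h1 using 1
  ext s
  simp only [Set.mem_ofPred_eq, Set.mem_compl_iff, Set.mem_image, not_exists, not_and]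
  constructor
  · intro h x hx hxs
    subst hxs
    exact hx ((Groth.Agent.Lib.Helper5.CodepthFib.codepthLE_zero_iff _).mpr (h (f.asFiber x)))
  · intro h z
    have hz : f (f.fiberι s z) = s := by
      have : f.fiberι s z ∈ Set.range (f.fiberι s) := ⟨z, rfl⟩
      rw [f.range_fiberι s] at this
      exact this
    have hx : f.fiberι s z ∈ Groth.Agent.Lib.Helper5.FibCodepthConstr.Lcd 0 f := by
      by_contra hcon
      exact h _ hcon hz
    have hcm := (Groth.Agent.Lib.Helper5.CodepthFib.codepthLE_zero_iff _).mp hx
    obtain ⟨e⟩ := Groth.Agent.Lib.Helper5.FiberBC.fiber_stalk_transport f hz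
      (f.asFiber (f.fiberι s z)) z (f.fiberι_asFiber _)
    exact Groth.Agent.Lib.Helper5.FiberMor.isoInv_cm _ _ e hcm

end Groth.Agent.S3437
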