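import Groth.Statements.S3439
import Groth.Agent.Lib.Helper5ProCons

set_option autoImplicit false
open CategoryTheory AlgebraicGeometry
universe u
open EGA41

namespace Groth.Agent.S3439

/-- Let X be a quasi-compact scheme, E an ind-constructible subset of X and (F_i) a family of
pro-constructible subsets of X whose intersection is contained in E. Then there is a finite set J of
indices such that the intersection of the F_i for i in J is already contained in E. (Taking E = ∅: a
family of pro-constructible subsets with empty intersection has a finite subfamily with empty
intersection.) -/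
theorem result (X : Scheme.{u}) [CompactSpace X] (E : Set X)
    (hE : ProCons.IsIndConstructible E) {ι : Type u} (F : ι → Set X) (hF : ∀ i, ProCons.IsProConstructible (F i))
    (h : ⋂ i, F i ⊆ E) :
    ∃ J : Finset ι, ⋂ i ∈ J, F i ⊆ E := by
  obtain ⟨I, K, hIK⟩ := Groth.Agent.Lib.Helper5.exists_finset_iInter_subset_iUnion X
    (fun _ : Unit => E) F (fun _ => hE) hF (by
      intro x hx
      exact Set.mem_iUnion.mpr ⟨(), h hx⟩)
  refine ⟨K, ?_⟩
  intro x hx
  have := hIK hx
  rw [Set.mem_iUnion₂] at this
  obtain ⟨_, _, hxE⟩ := this
  exact hxE

end Groth.Agent.S3439
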