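import Groth.Statements.S3450
import Mathlib
import Groth.Agent.Lib.Helper29Chevalley
import Groth.Agent.Lib.Helper28CMFib1
import Groth.Agent.Lib.Helper28ComplNagata
import Groth.Agent.Lib.Helper28GeomRed1
import Groth.Agent.Lib.Helper14Japanese
import Groth.Agent.Lib.Helper5IntDim
-- import your own Groth.Agent.* helpers here

set_option autoImplicit false
universe u
open EGA43

namespace Groth.Agent.S3450
open IsLocalRing


/-- Chevalley's lemma for a family of ideals stable under finite intersections. -/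
theorem chevalley_set {A : Type u} [CommRing A] [IsLocalRing A] [IsNoetherianRing A]
    [IsAdicComplete (maximalIdeal A) A] (S : Set (Ideal A)) (hne : S.Nonempty)
    (hdir : ∀ I ∈ S, ∀ J ∈ S, I ⊓ J ∈ S) (hinf : sInf S = ⊥) (N : ℕ) :
    ∃ I ∈ S, I ≤ maximalIdeal A ^ N := by
  have hstab : ∀ k : ℕ, ∃ I ∈ S, ∀ J ∈ S, J ≤ I →
      J ⊔ maximalIdeal A ^ k = I ⊔ maximalIdeal A ^ k := by
    intro k
    cases k with
    | zero =>
      obtain ⟨I, hI⟩ := hne
      refine ⟨I, hI, fun J _ _ => ?_⟩
      rw [pow_zero, Ideal.one_eq_top, sup_top_eq, sup_top_eq]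
    | succ n =>
      have hmin : maximalIdeal A ∈ (maximalIdeal A ^ (n + 1)).minimalPrimes := by
        refine ⟨⟨inferInstance, Ideal.pow_le_self (Nat.succ_ne_zero n)⟩, ?_⟩
        rintro q ⟨hq, hle⟩ _
        exact hq.le_of_pow_le hle
      have : IsArtinianRing (A ⧸ maximalIdeal A ^ (n + 1)) :=
        IsLocalRing.quotient_artinian_of_mem_minimalPrimes_of_isLocalRing _ hmin
      let T : Set (Ideal (A ⧸ maximalIdeal A ^ (n + 1))) :=
        (fun I => Ideal.map (Ideal.Quotient.mk (maximalIdeal A ^ (n + 1))) I) '' S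
      obtain ⟨_, ⟨I, hI, rfl⟩, hImin⟩ := IsArtinian.set_has_minimal T (hne.image _)
      refine ⟨I, hI, fun J hJ hJI => ?_⟩
      have h1 : Ideal.map (Ideal.Quotient.mk (maximalIdeal A ^ (n + 1))) J =
          Ideal.map (Ideal.Quotient.mk (maximalIdeal A ^ (n + 1))) I := by
        have hle : Ideal.map (Ideal.Quotient.mk (maximalIdeal A ^ (n + 1))) J ≤
            Ideal.map (Ideal.Quotient.mk (maximalIdeal A ^ (n + 1))) I := Ideal.map_mono hJI
        by_contra hne'
        exact hImin _ ⟨J, hJ, rfl⟩ (lt_of_le_of_ne hle hne')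
      have h2 := congrArg (Ideal.comap (Ideal.Quotient.mk (maximalIdeal A ^ (n + 1)))) h1
      rw [Ideal.comap_map_of_surjective _ Ideal.Quotient.mk_surjective,
        Ideal.comap_map_of_surjective _ Ideal.Quotient.mk_surjective, ← RingHom.ker_eq_comap_bot,
        Ideal.mk_ker] at h2
      exact h2
  choose I hIS hImin using hstab
  let a : ℕ → Ideal A := fun k => (Finset.range (k + 1)).inf I
  have ha_mem : ∀ k, a k ∈ S := by
    intro k
    induction k with
    | zero => simpa [a] using hIS 0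
    | succ k ih =>
      show (Finset.range (k + 1 + 1)).inf I ∈ S
      rw [Finset.range_add_one, Finset.inf_insert]
      exact hdir _ (hIS _) _ ih
  have ha_le : ∀ k, a k ≤ I k := fun k => Finset.inf_le (Finset.self_mem_range_succ k)
  have hanti : Antitone a := by
    intro i j hij
    exact Finset.inf_mono (Finset.range_mono (by omega))
  have hinf' : ⨅ k, a k = ⊥ := by
    rw [eq_bot_iff, ← hinf]
    intro x hx
    rw [Submodule.mem_iInf] at hx
    rw [Submodule.mem_sInf]
    intro J hJ
    apply Groth.Agent.Lib.Helper29.Chevalley.mem_of_forall_mem_sup_pow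
    intro k
    have h1 := hImin k (a k) (ha_mem k) (ha_le k)
    have h2 := hImin k (a k ⊓ J) (hdir _ (ha_mem k) _ hJ) (inf_le_left.trans (ha_le k))
    have h3 : x ∈ a k ⊔ maximalIdeal A ^ k := Ideal.mem_sup_left (hx k)
    rw [h1, ← h2] at h3
    have h4 : a k ⊓ J ⊔ maximalIdeal A ^ k ≤ J ⊔ maximalIdeal A ^ k :=
      sup_le_sup_right inf_le_right _
    exact h4 h3
  obtain ⟨k, hk⟩ := Groth.Agent.Lib.Helper29.Chevalley.chevalley a hanti hinf' N
  exact ⟨a k, ha_mem k, hk⟩

/-- In a reduced Noetherian local ring, a nonzero element of the maximal ideal avoids some prime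
`p` with `dim A/p = 1`. -/
theorem exists_prime_coheight_one {A : Type u} [CommRing A] [IsNoetherianRing A] [IsLocalRing A]
    [IsReduced A] (x : A) (hx0 : x ≠ 0) (hxm : x ∈ maximalIdeal A) :
    ∃ p : Ideal A, p.IsPrime ∧ x ∉ p ∧ ringKrullDim (A ⧸ p) = 1 := by
  have hnil : ¬ IsNilpotent x := fun h => hx0 h.eq_zero
  have hnot : x ∉ nilradical A := hnil
  rw [nilradical_eq_sInf, Submodule.mem_sInf] at hnot
  push Not at hnot
  obtain ⟨p0, hp0, hxp0⟩ := hnot
  let T : Set (Ideal A) := {p | p.IsPrime ∧ x ∉ p}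
  have hT : T.Nonempty := ⟨p0, hp0, hxp0⟩
  obtain ⟨p, ⟨hp, hxp⟩, hpmax⟩ := set_has_maximal_iff_noetherian.mpr
    (inferInstance : IsNoetherian A A) T hT
  refine ⟨p, hp, hxp, ?_⟩
  have : IsLocalRing (A ⧸ p) := Groth.Agent.Lib.Helper5.isLocalRing_quotient hp.ne_top
  have hxbar : Ideal.Quotient.mk p x ≠ 0 := fun h => hxp (Ideal.Quotient.eq_zero_iff_mem.mp h)
  apply le_antisymm
  · refine Groth.Agent.Lib.Helper28.CMFib.ringKrullDim_le_one_of_forall_mem (A ⧸ p)
      (Ideal.Quotient.mk p x) hxbar ?_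
    intro Q hQ hQ0
    by_contra hxQ
    have hP : (Q.comap (Ideal.Quotient.mk p)).IsPrime := Ideal.comap_isPrime _ _
    have hle : p ≤ Q.comap (Ideal.Quotient.mk p) := by
      intro y hy
      rw [Ideal.mem_comap, Ideal.Quotient.eq_zero_iff_mem.mpr hy]
      exact Q.zero_mem
    have hlt : p < Q.comap (Ideal.Quotient.mk p) := by
      refine lt_of_le_of_ne hle ?_
      intro heq
      apply hQ0
      rw [eq_bot_iff]
      intro z hz
      obtain ⟨y, rfl⟩ := Ideal.Quotient.mk_surjective z
      have : y ∈ Q.comap (Ideal.Quotient.mk p) := hz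
      rw [← heq] at this
      rw [Ideal.mem_bot]
      exact Ideal.Quotient.eq_zero_iff_mem.mpr this
    exact hpmax _ ⟨hP, hxQ⟩ hlt
  · by_contra hlt
    rw [not_le] at hlt
    have : Ring.KrullDimLE 0 (A ⧸ p) :=
      Ring.krullDimLE_iff.mpr (ENat.WithBot.lt_add_one_iff.mp hlt)
    have hfield : IsField (A ⧸ p) := Ring.KrullDimLE.isField_of_isDomain
    have hmax : Ideal.IsMaximal p := Ideal.Quotient.maximal_of_isField _ hfield
    have : p = maximalIdeal A := IsLocalRing.eq_maximalIdeal hmax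
    exact hxp (this ▸ hxm)

/-- The normalisation of a one-dimensional quotient domain of a complete Noetherian local ring is a
finite discrete valuation ring. -/
theorem normalization_dvr {A : Type u} [CommRing A] [IsNoetherianRing A] [IsLocalRing A]
    [IsAdicComplete (maximalIdeal A) A] (p : Ideal A) [hp : p.IsPrime]
    (hdim : ringKrullDim (A ⧸ p) = 1) :
    Module.Finite (A ⧸ p) (integralClosure (A ⧸ p) (FractionRing (A ⧸ p))) ∧
      IsDiscreteValuationRing (integralClosure (A ⧸ p) (FractionRing (A ⧸ p))) := by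
  have hfin : Module.Finite (A ⧸ p) (integralClosure (A ⧸ p) (FractionRing (A ⧸ p))) :=
    Groth.Agent.Lib.Helper14.IsN2.isN1
      ((Groth.Agent.Lib.Helper28.isNagata_of_isAdicComplete_local A).2 p)
  refine ⟨hfin, ?_⟩
  have : IsLocalRing (A ⧸ p) := Groth.Agent.Lib.Helper5.isLocalRing_quotient hp.ne_top
  have : IsAdicComplete (maximalIdeal (A ⧸ p)) (A ⧸ p) :=
    Groth.Agent.Lib.Helper28.isAdicComplete_quotient_local p
  have : HenselianLocalRing (A ⧸ p) :=
    Groth.Agent.Lib.Helper28.GeomRed.henselianLocalRing_of_isAdicComplete (A ⧸ p)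
  have hloc : IsLocalRing (integralClosure (A ⧸ p) (FractionRing (A ⧸ p))) :=
    Groth.Agent.Lib.Helper28.GeomRed.isLocalRing_of_finite_of_isDomain (A ⧸ p) _
  have hnoeth : IsNoetherianRing (integralClosure (A ⧸ p) (FractionRing (A ⧸ p))) :=
    IsNoetherianRing.of_finite (A ⧸ p) _
  have hic : IsIntegrallyClosed (integralClosure (A ⧸ p) (FractionRing (A ⧸ p))) :=
    integralClosure.isIntegrallyClosedOfFiniteExtension (FractionRing (A ⧸ p))
  have hinj : Function.Injective
      (algebraMap (A ⧸ p) (integralClosure (A ⧸ p) (FractionRing (A ⧸ p)))) := by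
    intro a b hab
    have := congrArg (Subtype.val) hab
    exact IsFractionRing.injective (A ⧸ p) (FractionRing (A ⧸ p)) this
  have hdimV : ringKrullDim (integralClosure (A ⧸ p) (FractionRing (A ⧸ p))) = 1 := by
    rw [Groth.Agent.Lib.Helper5.ringKrullDim_eq_of_isIntegral_of_injective (A ⧸ p) _ hinj, hdim]
  have hnf : ¬ IsField (integralClosure (A ⧸ p) (FractionRing (A ⧸ p))) := by
    intro hf
    rw [ringKrullDim_eq_zero_of_isField hf] at hdimV
    exact zero_ne_one hdimV
  have hle1 : Ring.KrullDimLE 1 (integralClosure (A ⧸ p) (FractionRing (A ⧸ p))) :=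
    Ring.krullDimLE_iff.mpr hdimV.le
  have hgoal : IsIntegrallyClosed (integralClosure (A ⧸ p) (FractionRing (A ⧸ p))) ∧
      ∃! P : Ideal (integralClosure (A ⧸ p) (FractionRing (A ⧸ p))), P ≠ ⊥ ∧ P.IsPrime := by
    refine ⟨hic, maximalIdeal _, ⟨?_, inferInstance⟩, ?_⟩
    · exact fun h => hnf (IsLocalRing.isField_iff_maximalIdeal_eq.mpr h)
    · rintro P ⟨hP0, hP⟩
      exact IsLocalRing.eq_maximalIdeal
        (Ring.krullDimLE_one_iff_of_noZeroDivisors.mp hle1 P hP0 hP)
  exact ((IsDiscreteValuationRing.TFAE _ hnf).out 0 3).mpr hgoal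


/-- Let A be a Noetherian local ring which is reduced, complete (for the topology defined by its maximal
ideal m) and not a field. Then for every n there are finitely many local homomorphisms φ_i : A → V_i
into discrete valuation rings, each making V_i a finite A-algebra, such that the intersection of
their kernels is contained in mⁿ. (Equivalently: such finite intersections form a base of
neighbourhoods of 0 for the m-adic topology.) -/
theorem result (A : Type u) [CommRing A] [IsNoetherianRing A]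
    [IsLocalRing A] [IsReduced A] [IsAdicComplete (IsLocalRing.maximalIdeal A) A] (hA : ¬ IsField A) (n : ℕ) :
    ∃ (k : ℕ) (V : Fin k → Type u) (_ : ∀ i, CommRing (V i)) (_ : ∀ i, IsDomain (V i))
      (_ : ∀ i, IsDiscreteValuationRing (V i)) (φ : ∀ i, A →+* V i),
      (∀ i, IsLocalHom (φ i) ∧ (φ i).Finite) ∧
        ⨅ i, RingHom.ker (φ i) ≤ IsLocalRing.maximalIdeal A ^ n := by
  classical
  let Pr : Set (Ideal A) := {p | p.IsPrime ∧ ringKrullDim (A ⧸ p) = 1}
  let S : Set (Ideal A) := {I | ∃ F : Finset (Ideal A), (∀ p ∈ F, p ∈ Pr) ∧ I = F.inf id}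
  have hne : S.Nonempty := ⟨⊤, ∅, by simp, by simp⟩
  have hdir : ∀ I ∈ S, ∀ J ∈ S, I ⊓ J ∈ S := by
    rintro _ ⟨F, hF, rfl⟩ _ ⟨G, hG, rfl⟩
    refine ⟨F ∪ G, ?_, (Finset.inf_union ..).symm⟩
    intro p hp
    rcases Finset.mem_union.mp hp with h | h
    exacts [hF p h, hG p h]
  have hm0 : IsLocalRing.maximalIdeal A ≠ ⊥ :=
    fun h => hA (IsLocalRing.isField_iff_maximalIdeal_eq.mpr h)
  have hinf : sInf S = ⊥ := by
    rw [eq_bot_iff]
    intro x hx
    rw [Submodule.mem_sInf] at hx
    rw [Ideal.mem_bot]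
    by_contra hx0
    obtain ⟨y, hy0, hym, hyx⟩ : ∃ y : A, y ≠ 0 ∧ y ∈ IsLocalRing.maximalIdeal A ∧
        ∀ p : Ideal A, p.IsPrime → y ∉ p → x ∉ p := by
      by_cases hxm : x ∈ IsLocalRing.maximalIdeal A
      · exact ⟨x, hx0, hxm, fun p _ h => h⟩
      · obtain ⟨y, hym, hy0⟩ := Submodule.exists_mem_ne_zero_of_ne_bot hm0
        refine ⟨y, hy0, hym, fun p hp _ hxp => ?_⟩
        have hxu : IsUnit x := by
          by_contra h
          exact hxm ((IsLocalRing.mem_maximalIdeal x).mpr h)
        exact hp.ne_top (Ideal.eq_top_of_isUnit_mem _ hxp hxu)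
    obtain ⟨p, hp, hyp, hdim⟩ := exists_prime_coheight_one y hy0 hym
    have hxp : x ∈ p := hx p ⟨{p}, by simpa [Pr] using ⟨hp, hdim⟩, by simp⟩
    exact hyx p hp hyp hxp
  obtain ⟨_, ⟨F, hF, rfl⟩, hle⟩ := chevalley_set S hne hdir hinf n
  let e := F.equivFin
  let P : Fin F.card → Ideal A := fun i => (e.symm i).1
  have hP : ∀ i, (P i).IsPrime ∧ ringKrullDim (A ⧸ P i) = 1 := fun i => hF _ (e.symm i).2
  have hdom : ∀ i, IsDomain (integralClosure (A ⧸ P i) (FractionRing (A ⧸ P i))) := by
    intro i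
    have := (hP i).1
    infer_instance
  have hdvr : ∀ i, @IsDiscreteValuationRing
      (integralClosure (A ⧸ P i) (FractionRing (A ⧸ P i))) _ (hdom i) := by
    intro i
    have := (hP i).1
    exact (normalization_dvr (P i) (hP i).2).2
  refine ⟨F.card, fun i => integralClosure (A ⧸ P i) (FractionRing (A ⧸ P i)),
    fun i => inferInstance, hdom, hdvr,
    fun i => (algebraMap (A ⧸ P i) _).comp (Ideal.Quotient.mk (P i)), ?_, ?_⟩
  · intro i
    have := (hP i).1
    have hfin := (normalization_dvr (P i) (hP i).2).1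
    have hinj : Function.Injective
        (algebraMap (A ⧸ P i) (integralClosure (A ⧸ P i) (FractionRing (A ⧸ P i)))) := by
      intro a b hab
      have := congrArg (Subtype.val) hab
      exact IsFractionRing.injective (A ⧸ P i) (FractionRing (A ⧸ P i)) this
    constructor
    · have h1 : IsLocalHom (Ideal.Quotient.mk (P i)) :=
        IsLocalHom.of_surjective _ Ideal.Quotient.mk_surjective
      have h2 : IsLocalHom
          (algebraMap (A ⧸ P i) (integralClosure (A ⧸ P i) (FractionRing (A ⧸ P i)))) :=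
        (algebraMap_isIntegral_iff.mpr inferInstance).isLocalHom hinj
      exact RingHom.isLocalHom_comp _ _
    · exact RingHom.Finite.comp (RingHom.finite_algebraMap.mpr hfin)
        (RingHom.Finite.of_surjective _ Ideal.Quotient.mk_surjective)
  · refine le_trans ?_ hle
    rw [Finset.le_inf_iff]
    intro q hq
    have hker : RingHom.ker ((algebraMap (A ⧸ P (e ⟨q, hq⟩))
        (integralClosure (A ⧸ P (e ⟨q, hq⟩)) (FractionRing (A ⧸ P (e ⟨q, hq⟩))))).comp
        (Ideal.Quotient.mk (P (e ⟨q, hq⟩)))) = q := by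
      have := (hP (e ⟨q, hq⟩)).1
      have hPq : P (e ⟨q, hq⟩) = q := by simp [P]
      have hinj : Function.Injective
          (algebraMap (A ⧸ P (e ⟨q, hq⟩))
            (integralClosure (A ⧸ P (e ⟨q, hq⟩)) (FractionRing (A ⧸ P (e ⟨q, hq⟩))))) := by
        intro a b hab
        have := congrArg (Subtype.val) hab
        exact IsFractionRing.injective (A ⧸ P (e ⟨q, hq⟩)) (FractionRing (A ⧸ P (e ⟨q, hq⟩))) this
      rw [← RingHom.comap_ker, (RingHom.injective_iff_ker_eq_bot _).mp hinj,
        ← RingHom.ker_eq_comap_bot, Ideal.mk_ker]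
      exact hPq
    exact (iInf_le _ (e ⟨q, hq⟩)).trans hker.le

end Groth.Agent.S3450
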