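import Groth.Statements.S3453
import Groth.Agent.Lib.Helper5FibCodepthConstr
import Groth.Agent.Lib.Helper5Compl

set_option autoImplicit false
open CategoryTheory AlgebraicGeometry
universe u
open EGA43

namespace Groth.Agent.S3453

/-- Let f : X ⟶ S be locally of finite presentation and n a natural number. The set of points x of X
such that the local ring of the fibre of f through x at x has codepth n (its Krull dimension equals
its depth plus n) is locally constructible in X. -/
theorem result {X S : Scheme.{u}} (f : X ⟶ S)
    [LocallyOfFinitePresentation f] (n : ℕ) :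
    Topology.IsLocallyConstructible {x : X |
      ringKrullDim ((f.fiber (f.base x)).presheaf.stalk (f.asFiber x)) =
        ((LocCoh.depth ((f.fiber (f.base x)).presheaf.stalk (f.asFiber x)) ((f.fiber (f.base x)).presheaf.stalk (f.asFiber x)) : ℕ∞) : WithBot ℕ∞) + n} := by
  have hN : ∀ x : X, IsNoetherianRing ((f.fiber (f.base x)).presheaf.stalk (f.asFiber x)) := by
    intro x
    haveI : LocallyOfFiniteType f := inferInstance
    haveI : LocallyOfFiniteType (f.fiberToSpecResidueField (f.base x)) := by
      dsimp only [Scheme.Hom.fiberToSpecResidueField]
      exact MorphismProperty.pullback_snd (P := @LocallyOfFiniteType) f _ inferInstance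
    haveI : IsLocallyNoetherian (f.fiber (f.base x)) :=
      LocallyOfFiniteType.isLocallyNoetherian (f.fiberToSpecResidueField (f.base x))
    infer_instance
  cases n with
  | zero =>
    have h := Groth.Agent.Lib.Helper5.FibCodepthConstr.isLocallyConstructible_lcd 0 f
    convert h using 1
    ext x
    haveI := hN x
    exact Groth.Agent.Lib.Helper5.CodepthFib.codepth_eq_zero_iff _
  | succ n =>
    have h1 := Groth.Agent.Lib.Helper5.FibCodepthConstr.isLocallyConstructible_lcd (n + 1) f
    have h2 := Groth.Agent.Lib.Helper5.FibCodepthConstr.isLocallyConstructible_lcd n f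
    have h3 := h1.inter (Groth.Agent.Lib.Helper5.isLocallyConstructible_compl h2)
    convert h3 using 1
    ext x
    haveI := hN x
    exact Groth.Agent.Lib.Helper5.CodepthFib.codepth_eq_succ_iff _ n

end Groth.Agent.S3453
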