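import Groth.Statements.S3460
import Groth.Agent.Lib.Helper22PropImm

set_option autoImplicit false
open CategoryTheory AlgebraicGeometry
universe u
open EGA43

namespace Groth.Agent.S3460

/-- Let Y be locally Noetherian and f : X ⟶ Y of finite type. Then there exist a scheme Z, a proper
morphism g : X ⟶ Z and an immersion h : Z ⟶ Y with f = g ≫ h if and only if f is proper at every
point of f(X), i.e. every point of f(X) has an open neighbourhood U in Y over which the restriction
of f is proper. -/
theorem result {X Y : Scheme.{u}} [IsLocallyNoetherian Y]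
    (f : X ⟶ Y) [LocallyOfFiniteType f] [QuasiCompact f] :
    (∃ (Z : Scheme.{u}) (g : X ⟶ Z) (h : Z ⟶ Y), IsProper g ∧ IsImmersion h ∧ g ≫ h = f) ↔
      ∀ x : X, ∃ U : Y.Opens, f.base x ∈ U ∧ IsProper (f ∣_ U) := by
  constructor
  · rintro ⟨Z, g, h, hg, hh, rfl⟩ x
    have hfac : (g ≫ h.liftCoborder) ≫ h.coborderRange.ι = g ≫ h := by
      rw [Category.assoc, h.liftCoborder_ι]
    refine ⟨h.coborderRange, ?_, ?_⟩
    · have h1 : (g ≫ h).base x = h.coborderRange.ι ((g ≫ h.liftCoborder) x) := by
        rw [← Scheme.Hom.comp_apply, hfac]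
      rw [h1]
      exact ((g ≫ h.liftCoborder) x).2
    · exact Groth.Agent.Lib.Helper22.PropImm.isProper_morphismRestrict_of_fac (g ≫ h)
        h.coborderRange (g ≫ h.liftCoborder) hfac
  · intro H
    choose U hxU hU using H
    have hr : Set.range f ⊆ (⨆ i, U i : Y.Opens) := by
      rintro _ ⟨x, rfl⟩
      simp only [TopologicalSpace.Opens.coe_iSup, Set.mem_iUnion, SetLike.mem_coe]
      exact ⟨x, hxU x⟩
    exact ⟨(⨆ i, U i : Y.Opens), IsOpenImmersion.lift (⨆ i, U i).ι f (by simpa using hr),
      (⨆ i, U i).ι, Groth.Agent.Lib.Helper22.PropImm.isProper_lift_iSup f U hr hU, inferInstance,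
      IsOpenImmersion.lift_fac _ _ _⟩

end Groth.Agent.S3460
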