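import Groth.Statements.S3524
import Groth.Agent.Lib.Helper19KunG

set_option autoImplicit false
universe u
attribute [local instance] HasDerivedCategory.standard
open HTor

namespace Groth.Agent.S3524

open CategoryTheory CategoryTheory.Limits in
/-- Consequence of the biregular Künneth/hypertor spectral sequence; cochain indexing. Let L and M be
complexes of A-modules vanishing in large degrees, every term of L flat (so that L ⊗ M computes the
hypertor of L and M). If Tor_p^A(H^i(L), H^j(M)) = 0 for all p ≥ 0 and all i, j with i + j - p = n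
(vanishing stated as Subsingleton), then H^n(L ⊗ M) = 0. (Tor is Mathlib's, left derived in the
second variable.) -/
theorem result (A : Type u) [CommRing A] (L M : DRing.Cx A)
    (hL : DRing.TermwiseFlat L) (bL : ∃ b : ℤ, DRing.VanishesAbove L b)
    (bM : ∃ b : ℤ, DRing.VanishesAbove M b) (n : ℤ)
    (h : ∀ (p : ℕ) (i j : ℤ), i + j - p = n → Subsingleton (DRing.Tor A p (L.homology i) (M.homology j))) :
    IsZero ((HTor.tensorCx L M).homology n) := by
  obtain ⟨b, hb⟩ := bL
  obtain ⟨c, hc⟩ := bM
  have hF := Groth.Agent.Lib.Helper19Kun.filt M c hc (b + c - n + 1).toNat L hL b hb n (by omega)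
  have h0 : Subsingleton (HTor.KunnethSum L M n) := by
    apply Groth.Agent.Lib.Helper19Kun.subsingleton_directSum
    intro k
    have h1 := h 0 k.1.1 k.1.2 (by have := k.2; push_cast; omega)
    let e := ((Groth.Agent.Helper13Tor.torZeroIso (R := A)).app (L.homology k.1.1)).app
      (M.homology k.1.2)
    have h2 : Subsingleton (((CategoryTheory.Tor (ModuleCat.{u} A) 0).obj (L.homology k.1.1)).obj
      (M.homology k.1.2)) := h1
    exact e.toLinearEquiv.symm.toEquiv.subsingleton
  have hT : ∀ p : ℕ, Subsingleton (HTor.TorSum L M n (p + 1)) := by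
    intro p
    apply Groth.Agent.Lib.Helper19Kun.subsingleton_directSum
    intro k
    exact h (p + 1) k.1.1 k.1.2 k.2
  have := Groth.Agent.Lib.Helper19Kun.subsingleton_homology_of_filt L M n hF h0 hT
  exact ModuleCat.isZero_of_subsingleton _

end Groth.Agent.S3524
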