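import Groth.Statements.S3527
import Groth.Agent.Lib.Helper13Tor
import Groth.Agent.Lib.Helper13TorBal

set_option autoImplicit false
universe u
open HTor

namespace Groth.Agent.S3527

/-- If A is a commutative ring and M is a flat A-module, then Tor_p^A(M, N) = 0 and Tor_p^A(N, M) = 0
for every A-module N and every p ≥ 1. (The published statement is about local hypertor sheaves over
general S, X, Y; in the affine case these are the sheaves attached to Tor_n^A, and only the
resulting statement about A-modules is given here. Tor is Mathlib's, left derived in the second
variable; vanishing is stated as Subsingleton, and both orders are stated.) -/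
theorem result (A : Type u) [CommRing A] (M N : Type u) [AddCommGroup M] [Module A M]
    [AddCommGroup N] [Module A N] [Module.Flat A M] (p : ℕ) (hp : 0 < p) :
    Subsingleton (DRing.Tor A p M N) ∧ Subsingleton (DRing.Tor A p N M) := by
  open CategoryTheory in
  refine ⟨?_, ?_⟩
  · have h := Groth.Agent.Helper13Tor.isZero_tor_of_flat (R := A) (Y := ModuleCat.of A N) (ModuleCat.of A M) p hp
    exact (ModuleCat.isZero_iff_subsingleton).1 h
  · obtain ⟨n, rfl⟩ : ∃ n, p = n + 1 := ⟨p - 1, by omega⟩
    let P := ProjectiveResolution.of (ModuleCat.of A N)
    obtain ⟨e⟩ := Groth.Agent.Helper13Tor.nonempty_tor_iso_homology (ModuleCat.of A N) (ModuleCat.of A M) P (n + 1)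
    have hz : Limits.IsZero ((((MonoidalCategory.tensorRight (ModuleCat.of A M)).mapHomologicalComplex (ComplexShape.down ℕ)).obj P.complex).homology (n + 1)) := by
      rw [← HomologicalComplex.exactAt_iff_isZero_homology]
      have hP := P.complex_exactAt_succ n
      have : ((P.complex.sc (n + 1)).map (MonoidalCategory.tensorRight (ModuleCat.of A M))).Exact :=
        Module.Flat.rTensor_shortComplex_exact (ModuleCat.of A M) _ hP
      exact this
    exact (ModuleCat.isZero_iff_subsingleton).1 (hz.of_iso e)


end Groth.Agent.S3527
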