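import Groth.Statements.S3532
-- import your own Groth.Agent.* helpers here

set_option autoImplicit false
universe u
open HomAlg3

namespace Groth.Agent.S3532

open CategoryTheory in
/-- Category of abelian groups, system indexed by the natural numbers: Let (A_k)_{k ≥ 0} be an inverse
system of abelian groups. For p ≤ k write Im_k(A_p) for the image of A_k → A_p, and K_p for the
kernel of A_p → A_{p-1} (K_0 = A_0). Then (A_k) satisfies the Mittag-Leffler condition (for each p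
the subgroups Im_k(A_p) are eventually constant in k) if and only if for each p the subgroups
Im_k(A_p) ∩ K_p are eventually constant in k. -/
theorem result (F : ℕᵒᵖ ⥤ AddCommGrpCat.{u}) :
    (F ⋙ forget AddCommGrpCat).IsMittagLeffler ↔
      ((∃ k₀ : ℕ, ∀ (k : ℕ) (hk : k₀ ≤ k),
          (F.map (homOfLE (Nat.zero_le k)).op).hom.range = (F.map (homOfLE (Nat.zero_le k₀)).op).hom.range) ∧
        ∀ p : ℕ, ∃ k₀ : ℕ, ∃ h₀ : p + 1 ≤ k₀, ∀ (k : ℕ) (hk : k₀ ≤ k),
          (F.map (homOfLE (h₀.trans hk)).op).hom.range ⊓ (F.map (homOfLE (Nat.le_succ p)).op).hom.ker =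
            (F.map (homOfLE h₀).op).hom.range ⊓ (F.map (homOfLE (Nat.le_succ p)).op).hom.ker) := by
  -- the images of the transition maps
  let r : ∀ (p k : ℕ) (_ : p ≤ k), AddSubgroup (F.obj (Opposite.op p)) :=
    fun p k h => (F.map (homOfLE h).op).hom.range
  have hcomp : ∀ (p k k' : ℕ) (h1 : p ≤ k) (h2 : k ≤ k') (x : F.obj (Opposite.op k')),
      F.map (homOfLE (h1.trans h2)).op x = F.map (homOfLE h1).op (F.map (homOfLE h2).op x) := by
    intro p k k' h1 h2 x
    have e : (homOfLE (h1.trans h2)).op = (homOfLE h2).op ≫ (homOfLE h1).op :=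
      Subsingleton.elim _ _
    rw [e, F.map_comp]; rfl
  have hanti : ∀ (p k k' : ℕ) (h1 : p ≤ k) (h2 : k ≤ k'), r p k' (h1.trans h2) ≤ r p k h1 := by
    rintro p k k' h1 h2 _ ⟨x, rfl⟩
    exact ⟨F.map (homOfLE h2).op x, (hcomp p k k' h1 h2 x).symm⟩
  -- stabilisation of the images at `p`
  let Stab : ℕ → Prop := fun p => ∃ (k₀ : ℕ) (h₀ : p ≤ k₀), ∀ (k : ℕ) (hk : k₀ ≤ k),
    r p k (h₀.trans hk) = r p k₀ h₀
  have hML : (F ⋙ forget AddCommGrpCat).IsMittagLeffler ↔ ∀ p, Stab p := by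
    constructor
    · intro h p
      obtain ⟨i, f, hf⟩ := h (Opposite.op p)
      have h₀ : p ≤ i.unop := leOfHom f.unop
      have ef : f = (homOfLE h₀).op := Subsingleton.elim _ _
      refine ⟨i.unop, h₀, fun k hk => le_antisymm (hanti p i.unop k h₀ hk) ?_⟩
      rintro _ ⟨x, rfl⟩
      have hx : (F ⋙ forget AddCommGrpCat).map f x ∈
          Set.range ((F ⋙ forget AddCommGrpCat).map (homOfLE (h₀.trans hk)).op) :=
        hf _ ⟨x, rfl⟩
      obtain ⟨z, hz⟩ := hx
      rw [ef] at hz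
      exact ⟨z, hz⟩
    · intro h j
      obtain ⟨k₀, h₀, hk₀⟩ := h j.unop
      refine ⟨Opposite.op k₀, (homOfLE h₀).op, ?_⟩
      intro k g
      have hjk : j.unop ≤ k.unop := leOfHom g.unop
      have eg : g = (homOfLE hjk).op := Subsingleton.elim _ _
      rintro _ ⟨x, rfl⟩
      have h1 : F.map (homOfLE h₀).op x ∈ r j.unop k₀ h₀ := ⟨x, rfl⟩
      rw [← hk₀ (max k.unop k₀) (le_max_right _ _)] at h1
      have h2 := hanti j.unop k.unop (max k.unop k₀) hjk (le_max_left _ _) h1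
      obtain ⟨z, hz⟩ := h2
      refine ⟨z, ?_⟩
      rw [eg]
      exact hz
  rw [hML]
  constructor
  · intro h
    refine ⟨?_, ?_⟩
    · obtain ⟨k₀, h₀, hk₀⟩ := h 0
      exact ⟨k₀, fun k hk => hk₀ k hk⟩
    · intro p
      obtain ⟨k₀, h₀, hk₀⟩ := h (p + 1)
      refine ⟨k₀, h₀, fun k hk => ?_⟩
      have := hk₀ k hk
      change r (p + 1) k (h₀.trans hk) ⊓ _ = r (p + 1) k₀ h₀ ⊓ _
      rw [this]
  · rintro ⟨hA, hB⟩ p
    induction p with
    | zero =>
      obtain ⟨k₀, hk₀⟩ := hA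
      exact ⟨k₀, Nat.zero_le k₀, fun k hk => hk₀ k hk⟩
    | succ p ih =>
      obtain ⟨k₁, h₁, hk₁⟩ := ih
      obtain ⟨k₂, h₂, hk₂⟩ := hB p
      have h₀ : p + 1 ≤ max k₁ k₂ := h₂.trans (le_max_right _ _)
      refine ⟨max k₁ k₂, h₀, fun k hk => le_antisymm (hanti (p + 1) _ k h₀ hk) ?_⟩
      rintro _ ⟨x, rfl⟩
      -- the image of `x` in `F_p` comes from `F_k`
      have hx1 : F.map (homOfLE ((Nat.le_succ p).trans h₀)).op x ∈
          r p (max k₁ k₂) ((Nat.le_succ p).trans h₀) := ⟨x, rfl⟩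
      have e1 : r p (max k₁ k₂) ((Nat.le_succ p).trans h₀) = r p k₁ h₁ :=
        hk₁ (max k₁ k₂) (le_max_left _ _)
      have e2 : r p k (((Nat.le_succ p).trans h₀).trans hk) = r p k₁ h₁ :=
        hk₁ k ((le_max_left _ _).trans hk)
      rw [e1, ← e2] at hx1
      obtain ⟨z, hz⟩ := hx1
      -- the difference lies in the kernel and in the image from `max k₁ k₂`
      let y : F.obj (Opposite.op (p + 1)) :=
        F.map (homOfLE h₀).op x - F.map (homOfLE (h₀.trans hk)).op z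
      have hy1 : y ∈ r (p + 1) (max k₁ k₂) h₀ :=
        AddSubgroup.sub_mem _ ⟨x, rfl⟩ (hanti (p + 1) _ k h₀ hk ⟨z, rfl⟩)
      have hy2 : y ∈ (F.map (homOfLE (Nat.le_succ p)).op).hom.ker := by
        change F.map (homOfLE (Nat.le_succ p)).op y = 0
        rw [map_sub, ← hcomp p (p + 1) _ (Nat.le_succ p) h₀ x,
          ← hcomp p (p + 1) _ (Nat.le_succ p) (h₀.trans hk) z, sub_eq_zero]
        exact hz.symm
      have e3 : r (p + 1) (max k₁ k₂) h₀ ⊓ (F.map (homOfLE (Nat.le_succ p)).op).hom.ker =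
          r (p + 1) k₂ h₂ ⊓ (F.map (homOfLE (Nat.le_succ p)).op).hom.ker :=
        hk₂ (max k₁ k₂) (le_max_right _ _)
      have e4 : r (p + 1) k (h₀.trans hk) ⊓ (F.map (homOfLE (Nat.le_succ p)).op).hom.ker =
          r (p + 1) k₂ h₂ ⊓ (F.map (homOfLE (Nat.le_succ p)).op).hom.ker :=
        hk₂ k ((le_max_right _ _).trans hk)
      have hy3 : y ∈ r (p + 1) k (h₀.trans hk) := by
        have : y ∈ r (p + 1) (max k₁ k₂) h₀ ⊓ (F.map (homOfLE (Nat.le_succ p)).op).hom.ker :=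
          AddSubgroup.mem_inf.2 ⟨hy1, hy2⟩
        rw [e3, ← e4] at this
        exact (AddSubgroup.mem_inf.1 this).1
      have : F.map (homOfLE h₀).op x = y + F.map (homOfLE (h₀.trans hk)).op z :=
        (sub_add_cancel _ _).symm
      change F.map (homOfLE h₀).op x ∈ r (p + 1) k (h₀.trans hk)
      rw [this]
      exact AddSubgroup.add_mem _ hy3 ⟨z, rfl⟩

end Groth.Agent.S3532
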