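import Groth.Statements.S3533
import Mathlib
import Groth.Agent.Lib.Helper1CohTens2
set_option maxHeartbeats 400000
-- import your own Groth.Agent.* helpers here

set_option autoImplicit false
universe u
attribute [local instance] HasDerivedCategory.standard
open HTor

namespace Groth.Agent.S3533

open CategoryTheory CategoryTheory.Limits AlgebraicGeometry in
/-- Let f : X ⟶ S be a flat morphism with X locally Noetherian, g : Y ⟶ S a morphism, and suppose Z = X
×_S Y is locally Noetherian. As X is flat over S, the local hypertor sheaves Tor_n^S(F, G) on Z are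
taken to be the cohomology sheaves in degree −n of L pr₁^* F ⊗^L pr₂^* G, where pr₂^* G is the plain
pullback of G viewed as a complex in degree 0 and the derived pullback L pr₁^* and the derived
tensor product are taken under their existence binders; the statement is made in that form. Then for
F a coherent O_X-module and G a coherent O_Y-module, every cohomology sheaf of L pr₁^* F ⊗^L pr₂^* G
is a coherent O_Z-module. -/
theorem result (X Y S : Scheme.{u}) (f : X ⟶ S) (g : Y ⟶ S) [Flat f]
    [IsLocallyNoetherian X] [IsLocallyNoetherian (pullback f g)] (F : X.Modules) (G : Y.Modules)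
    (hF : Coh.IsCoh F) (hG : Coh.IsCoh G) [DCoh.HasLpull (pullback.fst f g)]
    [DCoh.HasLTensorCx ((HTor.pullCx (pullback.snd f g)).obj
      ((HomologicalComplex.single Y.Modules (ComplexShape.up ℤ) 0).obj G))] (n : ℤ) :
    Coh.IsCoh (DCoh.HD ((DCoh.LTensorCx ((HTor.pullCx (pullback.snd f g)).obj
      ((HomologicalComplex.single Y.Modules (ComplexShape.up ℤ) 0).obj G))).obj
        ((DCoh.Lpull (pullback.fst f g)).obj (DCoh.inD X F))) n) := by
  have hE := Groth.Agent.Lib.Helper1.CohTens.isCohD_inD F hF
  have hQ : DCoh.IsCohD (DCoh.toD Y ((HomologicalComplex.single Y.Modules (ComplexShape.up ℤ) 0).obj G)) := by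
    intro i
    obtain ⟨hq, hft⟩ := Groth.Agent.Lib.Helper1.CohTens.isCohD_inD G hG i
    have e : DCoh.HD (DCoh.inD Y G) i ≅
        DCoh.HD (DCoh.toD Y ((HomologicalComplex.single Y.Modules (ComplexShape.up ℤ) 0).obj G)) i :=
      (DerivedCategory.homologyFunctor _ i).mapIso
        ((DerivedCategory.singleFunctorIsoCompQ Y.Modules 0).app G)
    haveI := hft
    exact ⟨(SheafOfModules.isQuasicoherent Y.ringCatSheaf).prop_of_iso e hq,
      Groth.Agent.Lib.Helper23.FinType.isFiniteType_of_iso e⟩
  exact Groth.Agent.Lib.Helper1.CohTens.isCohD_htor f g (DCoh.inD X F) (fun i => (hE i).1)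
    (fun m => Groth.Agent.Lib.Helper1.SPL.isPseudoCoherentD_of_coherent_homology
      (DCoh.inD X F) m 0 (fun i _ => hE i))
    ((HomologicalComplex.single Y.Modules (ComplexShape.up ℤ) 0).obj G) 0
    (fun i hi => HomologicalComplex.isZero_single_obj_X (ComplexShape.up ℤ) 0 G i (by omega)) hQ n

end Groth.Agent.S3533
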