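import Groth.Statements.S3544
import Groth.Agent.Lib.Helper21SSEuler

set_option autoImplicit false
universe u
open HomAlg3

namespace Groth.Agent.S3544

open CategoryTheory CategoryTheory.Limits in
/-- Let E be a cohomological spectral sequence of modules over a ring A, starting at page 2, such that
the E₂ terms have finite length and only finitely many of them (all inside the finite set s of
bidegrees) are nonzero. Then for every r ≥ 2 the Euler–Poincaré characteristic of page r, the
alternating sum over s of (-1)^{p+q} times the length of E_r^{pq}, equals that of page 2. -/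
theorem result {A : Type u} [Ring A]
    (E : E₂CohomologicalSpectralSequence (ModuleCat.{u} A)) (s : Finset (ℤ × ℤ))
    (hs : ∀ pq : ℤ × ℤ, pq ∉ s → IsZero ((E.page 2).X pq))
    (hfl : ∀ pq : ℤ × ℤ, IsFiniteLength A ((E.page 2).X pq)) (r : ℤ) (hr : 2 ≤ r) :
    (s.sum fun pq => (((pq.1 + pq.2).negOnePow : ℤˣ) : ℤ) * ((Module.length A ((E.page r hr).X pq)).toNat : ℤ)) =
      s.sum fun pq => (((pq.1 + pq.2).negOnePow : ℤˣ) : ℤ) * ((Module.length A ((E.page 2).X pq)).toNat : ℤ) := by
  classical
  have main : ∀ (r : ℤ) (hr : 2 ≤ r),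
      (∀ pq, IsFiniteLength A ((E.page r hr).X pq)) ∧
      (∀ pq, pq ∉ s → Subsingleton ((E.page r hr).X pq)) ∧
      ((s.sum fun pq => (((pq.1 + pq.2).negOnePow : ℤˣ) : ℤ) *
          ((Module.length A ((E.page r hr).X pq)).toNat : ℤ)) =
        s.sum fun pq => (((pq.1 + pq.2).negOnePow : ℤˣ) : ℤ) *
          ((Module.length A ((E.page 2).X pq)).toNat : ℤ)) := by
    intro r hr
    induction r, hr using Int.le_induction with
    | base =>
      refine ⟨hfl, fun pq hpq => ?_, rfl⟩
      exact ModuleCat.subsingleton_of_isZero (hs pq hpq)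
    | succ r hr ih =>
      obtain ⟨ih1, ih2, ih3⟩ := ih
      have e : ∀ pq, ((E.page r hr).homology pq) ≃ₗ[A] ((E.page (r + 1) (by lia)).X pq) :=
        fun pq => (E.iso r (r + 1) pq rfl hr).toLinearEquiv
      refine ⟨fun pq => ?_, fun pq hpq => ?_, ?_⟩
      · exact (Groth.Agent.Lib.Helper21.SSEuler.homology_isFiniteLength _ ih1 pq).of_surjective
          (f := (e pq).toLinearMap) (e pq).surjective
      · have := Groth.Agent.Lib.Helper21.SSEuler.homology_subsingleton (E.page r hr) pq (ih2 pq hpq)
        exact (e pq).symm.toEquiv.subsingleton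
      · rw [← ih3, ← Groth.Agent.Lib.Helper21.SSEuler.euler_eq (E.page r hr) ih1 s ih2
          (fun pq => (((pq.1 + pq.2).negOnePow : ℤˣ) : ℤ)) (fun pq => by
            have : (pq + ((r, 1 - r) : ℤ × ℤ)).1 + (pq + ((r, 1 - r) : ℤ × ℤ)).2 =
                pq.1 + pq.2 + 1 := by
              simp only [Prod.fst_add, Prod.snd_add]
              ring
            rw [this, Int.negOnePow_succ]
            simp)]
        apply Finset.sum_congr rfl
        intro pq _
        rw [(e pq).length_eq]
  exact (main r hr).2.2

end Groth.Agent.S3544
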