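import Groth.Statements.S3550
import Groth.Agent.Lib.Helper13GammaStar
import Groth.Agent.Lib.Helper13TildeCrit
-- import your own Groth.Agent.* helpers here

set_option autoImplicit false
universe u
open CategoryTheory CategoryTheory.Limits AlgebraicGeometry
open EGA2

namespace Groth.Agent.S3550
open Groth.Agent.Helper13GammaStar Groth.Agent.Helper13TildeCrit Groth.Agent.Helper13ExtGraded


/-- Let S be a graded ring whose irrelevant ideal S_+ is generated by finitely many elements of degree
one, and X = Proj S. Then every quasi-coherent O_X-module F is isomorphic to M~ for some graded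
S-module M (graded in nonnegative degrees). -/
theorem result {R A : Type u} [CommRing R] [CommRing A] [Algebra R A] (𝒜 : ℕ → Submodule R A) [GradedAlgebra 𝒜]
    (s : Finset A) (hs1 : ∀ f ∈ s, f ∈ 𝒜 1)
    (hs : (HomogeneousIdeal.irrelevant 𝒜).toIdeal = Ideal.span (s : Set A))
    (F : (Proj 𝒜).Modules) (hF : Coh.IsQCoh F) :
    ∃ (M : Type u) (_ : AddCommGroup M) (_ : Module R M) (_ : Module A M) (_ : IsScalarTower R A M)
      (ℳ : ℕ → Submodule R M) (_ : DirectSum.Decomposition ℳ) (_ : SetLike.GradedSMul 𝒜 ℳ),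
      Nonempty (GrTilde.tilde 𝒜 ℳ 0 ≅ F) := by
  classical
  haveI : F.IsQuasicoherent := hF
  let ι : Type u := {a : A // a ∈ s}
  let f : ι → A := Subtype.val
  have hf : ∀ i, f i ∈ 𝒜 1 := fun i => hs1 i.1 i.2
  haveI : Finite ι := Finite.of_fintype _
  have hcov : ⨆ i, Proj.basicOpen 𝒜 (f i) = ⊤ := by
    apply Proj.iSup_basicOpen_eq_top 𝒜 f
    rw [hs]
    apply Ideal.span_mono
    intro a ha
    exact ⟨⟨a, ha⟩, rfl⟩
  refine ⟨GMod 𝒜 (Mn hf F), inferInstance, inferInstance, inferInstance, inferInstance,
    gr 𝒜 (Mn hf F), inferInstance, inferInstance, ?_⟩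
  exact CData.nonempty_iso (hf := hf)
    { c := c hf F
      c_smul := fun i _ _ _ ha x => c_smul hf F ha x i
      c_overlap := fun x i j => c_overlap hf F x i j inf_le_left inf_le_right
      c_eq_zero := fun i _ x h => c_eq_zero hf F i x h
      c_surj := fun i t => c_surjective hf F i t } hcov

end Groth.Agent.S3550
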