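import Groth.Statements.S3551
import Groth.Agent.Lib.Helper13GammaStar
import Groth.Agent.Lib.Helper13TildeCritFT
-- import your own Groth.Agent.* helpers here

set_option autoImplicit false
universe u
open CategoryTheory CategoryTheory.Limits AlgebraicGeometry
open EGA2

namespace Groth.Agent.S3551
open Groth.Agent.Helper13GammaStar Groth.Agent.Helper13TildeCrit Groth.Agent.Helper13ExtGraded
  Groth.Agent.Helper13TildeCritFT Groth.Agent.Helper13HomSub


/-- Let S be a graded ring whose irrelevant ideal S_+ is generated by finitely many elements of degree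
one, and X = Proj S. Then every quasi-coherent O_X-module of finite type is isomorphic to N~ for
some finitely generated graded S-module N (graded in nonnegative degrees). -/
theorem result {R A : Type u} [CommRing R] [CommRing A] [Algebra R A] (𝒜 : ℕ → Submodule R A) [GradedAlgebra 𝒜]
    (s : Finset A) (hs1 : ∀ f ∈ s, f ∈ 𝒜 1)
    (hs : (HomogeneousIdeal.irrelevant 𝒜).toIdeal = Ideal.span (s : Set A))
    (F : (Proj 𝒜).Modules) (hF : Coh.IsQCoh F) (hFT : CohB1.IsFT F) :
    ∃ (N : Type u) (_ : AddCommGroup N) (_ : Module R N) (_ : Module A N) (_ : IsScalarTower R A N)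
      (𝒩 : ℕ → Submodule R N) (_ : DirectSum.Decomposition 𝒩) (_ : SetLike.GradedSMul 𝒜 𝒩),
      Module.Finite A N ∧ Nonempty (GrTilde.tilde 𝒜 𝒩 0 ≅ F) := by
  classical
  haveI : F.IsQuasicoherent := hF
  haveI : SheafOfModules.IsFiniteType (R := (Proj 𝒜).ringCatSheaf) F := hFT
  let ι : Type u := {a : A // a ∈ s}
  let f : ι → A := Subtype.val
  have hf : ∀ i, f i ∈ 𝒜 1 := fun i => hs1 i.1 i.2
  haveI : Finite ι := Finite.of_fintype _
  have hcov : ⨆ i, Proj.basicOpen 𝒜 (f i) = ⊤ := by
    apply Proj.iSup_basicOpen_eq_top 𝒜 f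
    rw [hs]
    apply Ideal.span_mono
    intro a ha
    exact ⟨⟨a, ha⟩, rfl⟩
  let C : CData 𝒜 (gr 𝒜 (Mn hf F)) hf F :=
    { c := c hf F
      c_smul := fun i _ _ _ ha x => c_smul hf F ha x i
      c_overlap := fun x i j => c_overlap hf F x i j inf_le_left inf_le_right
      c_eq_zero := fun i _ x h => c_eq_zero hf F i x h
      c_surj := fun i t => c_surjective hf F i t }
  obtain ⟨N, hfg, hN, hsurj⟩ := exists_fg_hit C (fun i =>
    Groth.Agent.Lib.Helper23.FinType.finite_of_isFiniteType F
      (Proj.isAffineOpen_basicOpen 𝒜 (f i) (hf i) one_pos))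
  exact ⟨N, inferInstance, inferInstance, inferInstance, inferInstance,
    grN (gr 𝒜 (Mn hf F)) N, decompositionGrN _ N hN, inferInstance,
    Module.Finite.iff_fg.2 hfg, nonempty_iso_of_hit C N hcov hN hsurj⟩

end Groth.Agent.S3551
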