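import Groth.Statements.S3553
import Groth.Agent.Lib.Helper4Proj
open Groth.Agent.Lib.Helper4

set_option autoImplicit false
universe u
open CategoryTheory CategoryTheory.Limits AlgebraicGeometry
open EGA2

namespace Groth.Agent.S3553

/-- In the case where the induced morphism is defined on all of Proj S: let φ : S' → S be a homomorphism
of graded rings such that S_+ is contained in the ideal generated by φ(S'_+), and suppose every
element of the kernel of φ is nilpotent. Then the induced morphism from Proj S to Proj S' has dense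
image. -/
theorem result {R A : Type u} [CommRing R] [CommRing A] [Algebra R A] (𝒜 : ℕ → Submodule R A) [GradedAlgebra 𝒜]
    {B : Type u} [CommRing B] [Algebra R B] (ℬ : ℕ → Submodule R B) [GradedAlgebra ℬ]
    (φ : 𝒜 →+*ᵍ ℬ) (hφ : HomogeneousIdeal.irrelevant ℬ ≤ (HomogeneousIdeal.irrelevant 𝒜).map φ)
    (hker : ∀ a : A, φ a = 0 → IsNilpotent a) :
    DenseRange (Proj.map φ hφ).base := by
  -- φ maps the irrelevant ideal into the irrelevant ideal
  have hirr : ∀ a ∈ (HomogeneousIdeal.irrelevant 𝒜).toIdeal, φ a ∈ (HomogeneousIdeal.irrelevant ℬ).toIdeal := by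
    have : (HomogeneousIdeal.irrelevant 𝒜).toIdeal ≤ ((HomogeneousIdeal.irrelevant ℬ).toIdeal).comap φ.toRingHom := by
      rw [HomogeneousIdeal.toIdeal_irrelevant_le]
      intro i hi x hx
      exact HomogeneousIdeal.mem_irrelevant_of_mem ℬ hi (φ.map_mem hx)
    exact fun a ha => this ha
  rw [DenseRange, dense_iff_inter_open]
  rintro U hU ⟨x, hxU⟩
  obtain ⟨V, ⟨W, ⟨s, rfl⟩, rfl⟩, hxV, hVU⟩ := (Proj.isBasis_basicOpen 𝒜).exists_subset_of_mem_open hxU hU
  -- D₊(s) is nonempty
  have hne : Proj.basicOpen 𝒜 s ≠ ⊥ := by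
    intro h; rw [h] at hxV; exact hxV
  -- hence D₊(φ s) is nonempty
  have hne' : Proj.basicOpen ℬ (φ s) ≠ ⊥ := by
    intro h
    apply hne
    apply basicOpen_eq_bot_of_isNilpotent_mul
    intro a ha
    obtain ⟨n, hn⟩ := isNilpotent_mul_of_basicOpen_eq_bot ℬ (φ s) h (φ a) (hirr a ha)
    have : φ ((s * a) ^ n) = 0 := by rw [map_pow, map_mul, hn]
    obtain ⟨m, hm⟩ := hker _ this
    exact ⟨n * m, by rw [pow_mul, hm]⟩
  obtain ⟨y, hy⟩ : ∃ y, y ∈ Proj.basicOpen ℬ (φ s) := by
    by_contra hcon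
    push Not at hcon
    exact hne' (eq_bot_iff.mpr fun y hy => (hcon y hy).elim)
  refine ⟨(Proj.map φ hφ).base y, hVU ?_, ⟨y, rfl⟩⟩
  have : y ∈ (Proj.map φ hφ) ⁻¹ᵁ Proj.basicOpen 𝒜 s := by
    rw [Proj.map_preimage_basicOpen]; exact hy
  exact this

end Groth.Agent.S3553
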