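import Groth.Statements.S3555
import Mathlib


set_option autoImplicit false
universe u
open CategoryTheory CategoryTheory.Limits AlgebraicGeometry
open EGA2

namespace Groth.Agent.S3555

/-- Let S be a graded ring whose irrelevant ideal S_+ is generated by the degree-one elements, X = Proj
S, and f homogeneous of degree d > 0. Then D_+(f) is the set of points p of X at which the global
section f/1 of O_X(d) does not vanish, i.e. at which its value generates the module of degree-d
fractions at p. -/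
theorem result {R A : Type u} [CommRing R] [CommRing A] [Algebra R A] (𝒜 : ℕ → Submodule R A) [GradedAlgebra 𝒜]
    (hgen : (HomogeneousIdeal.irrelevant 𝒜).toIdeal = Ideal.span (𝒜 1 : Set A))
    {d : ℕ} (hd : 0 < d) (f : 𝒜 d) (p : ProjectiveSpectrum 𝒜) :
    p ∈ ProjectiveSpectrum.basicOpen 𝒜 (f : A) ↔
      Submodule.span (Twist.A0 𝒜 p) {(Twist.globalOf 𝒜 f).1 ⟨p, trivial⟩} = ⊤ := by
  classical
  have hone : (1 : A) ∉ p.asHomogeneousIdeal :=
    fun h => p.isPrime.ne_top ((Ideal.eq_top_iff_one _).mpr h)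
  have hval : (((Twist.globalOf 𝒜 f).1 ⟨p, trivial⟩ : Twist.twistAt 𝒜 (d : ℤ) p) : Twist.Loc 𝒜 p) =
      Localization.mk (f : A) ⟨1, hone⟩ := rfl
  have hmk : ∀ x : A, (Localization.mk x ⟨1, hone⟩ : Twist.Loc 𝒜 p) =
      algebraMap A (Twist.Loc 𝒜 p) x := fun x => Localization.mk_one_eq_algebraMap x
  rw [ProjectiveSpectrum.mem_basicOpen]
  constructor
  · intro hf
    rw [eq_top_iff]
    rintro ⟨q, hq⟩ -
    rw [Submodule.mem_span_singleton]
    -- the submodule of multiples of `f/1`
    let T : Submodule (Twist.A0 𝒜 p) (Twist.Loc 𝒜 p) :=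
      { carrier := {q | ∃ c : Twist.A0 𝒜 p, c.val * Localization.mk (f : A) ⟨1, hone⟩ = q}
        zero_mem' := ⟨0, by rw [HomogeneousLocalization.val_zero, zero_mul]⟩
        add_mem' := by
          rintro _ _ ⟨c, rfl⟩ ⟨c', rfl⟩
          exact ⟨c + c', by rw [HomogeneousLocalization.val_add, add_mul]⟩
        smul_mem' := by
          rintro r _ ⟨c, rfl⟩
          refine ⟨r * c, ?_⟩
          rw [HomogeneousLocalization.val_mul, Algebra.smul_def,
            HomogeneousLocalization.algebraMap_apply, mul_assoc] }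
    have hle : Twist.twistAt 𝒜 (d : ℤ) p ≤ T := by
      unfold Twist.twistAt
      rw [Submodule.span_le]
      rintro _ ⟨i, j, a, s, hs, hij, rfl⟩
      have hsf : s.1 * (f : A) ∉ p.asHomogeneousIdeal := fun h =>
        (p.isPrime.mem_or_mem h).elim hs hf
      have hdeg : i = j + d := by exact_mod_cast hij
      refine ⟨HomogeneousLocalization.mk ⟨i, a, ⟨s.1 * (f : A),
        hdeg ▸ SetLike.mul_mem_graded s.2 f.2⟩, hsf⟩, ?_⟩
      rw [HomogeneousLocalization.val_mk, Localization.mk_mul, Localization.mk_eq_mk_iff,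
        Localization.r_iff_exists]
      refine ⟨1, ?_⟩
      simp only [OneMemClass.coe_one, one_mul, Submonoid.coe_mul, mul_one]
      ring
    obtain ⟨c, hc⟩ := hle hq
    refine ⟨c, Subtype.ext ?_⟩
    rw [Twist.coe_smul_val, hval]
    exact hc
  · intro htop hf
    -- a degree one element outside `p`
    have hirr := p.not_irrelevant_le
    have hex : ∃ g ∈ 𝒜 1, g ∉ p.asHomogeneousIdeal := by
      by_contra hcon
      push Not at hcon
      apply hirr
      change (HomogeneousIdeal.irrelevant 𝒜).toIdeal ≤ p.asHomogeneousIdeal.toIdeal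
      rw [hgen, Ideal.span_le]
      intro g hg
      exact hcon g hg
    obtain ⟨g, hg1, hgp⟩ := hex
    have hgd : g ^ d ∉ p.asHomogeneousIdeal := fun h => hgp (p.isPrime.mem_of_pow_mem d h)
    have hgdmem : g ^ d ∈ 𝒜 d := by
      have := SetLike.pow_mem_graded d hg1
      simpa using this
    let ψ : Twist.twistAt 𝒜 (d : ℤ) p :=
      ⟨Localization.mk (g ^ d) ⟨1, hone⟩,
        Submodule.subset_span ⟨d, 0, ⟨g ^ d, hgdmem⟩, ⟨1, SetLike.GradedOne.one_mem⟩, hone,
          by simp, rfl⟩⟩
    have hψ : ψ ∈ Submodule.span (Twist.A0 𝒜 p) {(Twist.globalOf 𝒜 f).1 ⟨p, trivial⟩} := by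
      rw [htop]; trivial
    rw [Submodule.mem_span_singleton] at hψ
    obtain ⟨c, hc⟩ := hψ
    have hc' := congrArg Subtype.val hc
    rw [Twist.coe_smul_val, hval] at hc'
    have hu : IsUnit (Localization.mk (g ^ d) ⟨1, hone⟩ : Twist.Loc 𝒜 p) := by
      rw [hmk]
      exact (IsLocalization.AtPrime.isUnit_to_map_iff (Twist.Loc 𝒜 p)
        p.asHomogeneousIdeal.toIdeal (g ^ d)).mpr hgd
    have hu2 : IsUnit (c.val * Localization.mk (f : A) ⟨1, hone⟩ : Twist.Loc 𝒜 p) := by
      rw [hc']; exact hu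
    have hu3 := isUnit_of_mul_isUnit_right hu2
    rw [hmk] at hu3
    exact (IsLocalization.AtPrime.isUnit_to_map_iff (Twist.Loc 𝒜 p)
      p.asHomogeneousIdeal.toIdeal (f : A)).mp hu3 hf

end Groth.Agent.S3555
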