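import Groth.Statements.S3558
import Mathlib

set_option autoImplicit false
universe u
open CategoryTheory CategoryTheory.Limits AlgebraicGeometry
open EGA2

namespace Groth.Agent.S3558

/-- For a graded ring S, Proj S is empty if and only if every element of the irrelevant ideal S_+ is
nilpotent. -/
theorem result {R A : Type u} [CommRing R] [CommRing A] [Algebra R A] (𝒜 : ℕ → Submodule R A) [GradedAlgebra 𝒜] :
    IsEmpty (Proj 𝒜) ↔ ∀ f ∈ (HomogeneousIdeal.irrelevant 𝒜).toIdeal, IsNilpotent f := by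
  constructor
  · intro hempty f hf
    have hI : (⊥ : Ideal A).IsHomogeneous 𝒜 := Ideal.IsHomogeneous.bot 𝒜
    show f ∈ (⊥ : Ideal A).radical
    rw [hI.radical_eq]
    refine Submodule.mem_sInf.mpr ?_
    rintro P ⟨hPh, -, hPp⟩
    by_contra hfP
    have hle : ¬ HomogeneousIdeal.irrelevant 𝒜 ≤ (⟨P, hPh⟩ : HomogeneousIdeal 𝒜) := fun h => hfP (h hf)
    exact hempty.false (⟨⟨P, hPh⟩, hPp, hle⟩ : Proj 𝒜)
  · intro h
    refine ⟨fun x => x.not_irrelevant_le ?_⟩
    intro f hf
    obtain ⟨n, hn⟩ := h f hf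
    exact x.isPrime.mem_of_pow_mem n (by rw [hn]; exact Ideal.zero_mem _)

end Groth.Agent.S3558
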