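import Groth.Statements.S3557
import Groth.Agent.Lib.Helper4Proj
import Groth.Agent.S3556
import Groth.Agent.S3558
open Groth.Agent.Lib.Helper4

set_option autoImplicit false
universe u
open CategoryTheory CategoryTheory.Limits AlgebraicGeometry
open EGA2

namespace Groth.Agent.S3557

/-- Let S be a graded ring which is essentially reduced (S_+ contains no nonzero nilpotent). Then Proj S
is an integral scheme if and only if S is essentially integral, i.e. S_+ is nonzero and the product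
of two nonzero elements of S_+ is nonzero. -/
theorem result {R A : Type u} [CommRing R] [CommRing A] [Algebra R A] (𝒜 : ℕ → Submodule R A) [GradedAlgebra 𝒜]
    (hred : ∀ f ∈ (HomogeneousIdeal.irrelevant 𝒜).toIdeal, IsNilpotent f → f = 0) :
    AlgebraicGeometry.IsIntegral (Proj 𝒜) ↔
      ((∃ f ∈ (HomogeneousIdeal.irrelevant 𝒜).toIdeal, f ≠ 0) ∧
        ∀ f ∈ (HomogeneousIdeal.irrelevant 𝒜).toIdeal, ∀ g ∈ (HomogeneousIdeal.irrelevant 𝒜).toIdeal,
          f * g = 0 → f = 0 ∨ g = 0) := by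
  have hredP : AlgebraicGeometry.IsReduced (Proj 𝒜) := Groth.Agent.S3556.result 𝒜 hred
  -- for f in the irrelevant ideal: D₊(f) = ⊥ → f = 0
  have hzero : ∀ f ∈ (HomogeneousIdeal.irrelevant 𝒜).toIdeal, Proj.basicOpen 𝒜 f = ⊥ → f = 0 := by
    intro f hf h
    have h1 := isNilpotent_mul_of_basicOpen_eq_bot 𝒜 f h f hf
    apply hred f hf
    obtain ⟨n, hn⟩ := h1
    exact ⟨2 * n, by rw [pow_mul, pow_two, hn]⟩
  constructor
  · intro hint
    have hirr : IrreducibleSpace (Proj 𝒜) := inferInstance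
    constructor
    · have hne : Nonempty (Proj 𝒜) := inferInstance
      by_contra hcon
      push Not at hcon
      have : IsEmpty (Proj 𝒜) := (Groth.Agent.S3558.result 𝒜).mpr fun f hf => by
        rw [hcon f hf]; exact IsNilpotent.zero
      exact this.false hne.some
    · intro f hf g hg hfg
      by_contra hcon
      push Not at hcon
      have hf' : Proj.basicOpen 𝒜 f ≠ ⊥ := fun h => hcon.1 (hzero f hf h)
      have hg' : Proj.basicOpen 𝒜 g ≠ ⊥ := fun h => hcon.2 (hzero g hg h)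
      have hfn : ((Proj.basicOpen 𝒜 f : (Proj 𝒜).Opens) : Set (Proj 𝒜)).Nonempty := by
        rw [Set.nonempty_iff_ne_empty]
        intro h; apply hf'; ext x; simp [h]
      have hgn : ((Proj.basicOpen 𝒜 g : (Proj 𝒜).Opens) : Set (Proj 𝒜)).Nonempty := by
        rw [Set.nonempty_iff_ne_empty]
        intro h; apply hg'; ext x; simp [h]
      obtain ⟨x, hxf, hxg⟩ := nonempty_preirreducible_inter (Proj.basicOpen 𝒜 f).isOpen
        (Proj.basicOpen 𝒜 g).isOpen hfn hgn
      have : x ∈ Proj.basicOpen 𝒜 (f * g) := by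
        rw [Proj.basicOpen_mul]; exact ⟨hxf, hxg⟩
      rw [hfg, Proj.basicOpen_zero] at this
      exact this
  · rintro ⟨⟨f, hf, hf0⟩, hdom⟩
    rw [isIntegral_iff_irreducibleSpace_and_isReduced]
    refine ⟨?_, hredP⟩
    have hne : Nonempty (Proj 𝒜) := by
      by_contra hcon
      rw [not_nonempty_iff] at hcon
      have := (Groth.Agent.S3558.result 𝒜).mp hcon f hf
      exact hf0 (hred f hf this)
    refine { toNonempty := hne, isPreirreducible_univ := ?_ }
    rintro U V hU hV ⟨x, -, hxU⟩ ⟨y, -, hyV⟩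
    obtain ⟨V1, ⟨W, ⟨s, rfl⟩, rfl⟩, hxs, hsU⟩ := (Proj.isBasis_basicOpen 𝒜).exists_subset_of_mem_open hxU hU
    obtain ⟨V2, ⟨W', ⟨t, rfl⟩, rfl⟩, hyt, htV⟩ := (Proj.isBasis_basicOpen 𝒜).exists_subset_of_mem_open hyV hV
    have hs : Proj.basicOpen 𝒜 s ≠ ⊥ := by intro h; rw [h] at hxs; exact hxs
    have ht : Proj.basicOpen 𝒜 t ≠ ⊥ := by intro h; rw [h] at hyt; exact hyt
    -- nonzero elements s*a, t*b of the irrelevant ideal
    obtain ⟨a, ha, hsa⟩ : ∃ a ∈ (HomogeneousIdeal.irrelevant 𝒜).toIdeal, ¬ IsNilpotent (s * a) := by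
      by_contra hcon
      push Not at hcon
      exact hs (basicOpen_eq_bot_of_isNilpotent_mul 𝒜 s hcon)
    obtain ⟨b, hb, htb⟩ : ∃ b ∈ (HomogeneousIdeal.irrelevant 𝒜).toIdeal, ¬ IsNilpotent (t * b) := by
      by_contra hcon
      push Not at hcon
      exact ht (basicOpen_eq_bot_of_isNilpotent_mul 𝒜 t hcon)
    have hsa_mem : s * a ∈ (HomogeneousIdeal.irrelevant 𝒜).toIdeal := Ideal.mul_mem_left _ _ ha
    have htb_mem : t * b ∈ (HomogeneousIdeal.irrelevant 𝒜).toIdeal := Ideal.mul_mem_left _ _ hb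
    have hprod : ¬ IsNilpotent ((s * t) * (a * b)) := by
      intro hnil
      have e : (s * t) * (a * b) = (s * a) * (t * b) := by ring
      rw [e] at hnil
      have h0 := hred _ (Ideal.mul_mem_left _ _ htb_mem) hnil
      rcases hdom _ hsa_mem _ htb_mem h0 with h | h
      · exact hsa (h ▸ IsNilpotent.zero)
      · exact htb (h ▸ IsNilpotent.zero)
    have hst : Proj.basicOpen 𝒜 (s * t) ≠ ⊥ := fun h =>
      hprod (isNilpotent_mul_of_basicOpen_eq_bot 𝒜 (s * t) h (a * b) (Ideal.mul_mem_left _ _ hb))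
    obtain ⟨z, hz⟩ : ∃ z, z ∈ Proj.basicOpen 𝒜 (s * t) := by
      by_contra hcon
      push Not at hcon
      exact hst (eq_bot_iff.mpr fun z hz => (hcon z hz).elim)
    rw [Proj.basicOpen_mul] at hz
    exact ⟨z, Set.mem_univ _, hsU hz.1, htV hz.2⟩

end Groth.Agent.S3557
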