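import Groth.Statements.S3565
import Mathlib
import Groth.Agent.Lib.Helper23NormAmple
import Groth.Agent.S2355
-- import your own Groth.Agent.* helpers here

set_option autoImplicit false
universe u
open CategoryTheory CategoryTheory.Limits AlgebraicGeometry
open EGA2

namespace Groth.Agent.S3565


/-- Let f : X → Y be a quasi-compact morphism, g : X' → X a finite surjective morphism such that the
direct image of the structure sheaf of X' is a finite locally free O_X-module, and L an invertible
O_X-module. Then L is ample relative to f if and only if its inverse image on X' is ample relative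
to f ∘ g. -/
theorem result {X X' Y : Scheme.{u}} (f : X ⟶ Y) [QuasiCompact f]
    (g : X' ⟶ X) [IsFinite g] [Surjective g]
    (hfree : FlatMod.IsFinLocFree ((Coh.push g).obj (Coh.structureModule X')))
    (L : X.Modules) (hL : PicF.IsInvertible L) :
    RelAmple.IsRelAmple f L ↔ RelAmple.IsRelAmple (g ≫ f) ((Scheme.Modules.pullback g).obj L) := by
  constructor
  · intro h
    refine Groth.Agent.S2355.result f g ⟨inferInstance, fun V hV => ?_⟩ L h
    haveI : IsAffine (g ⁻¹ᵁ V : Scheme.{u}) := hV.preimage g
    infer_instance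
  · intro h
    have hg : Mor2.IsFinLocFree g := Groth.Agent.Helper18FinFlat.isFinLocFree_of_pushforward g hfree
    refine ⟨inferInstance, fun V => ?_⟩
    have hV := h.2 V
    -- the restricted morphism
    have hgU : Mor2.IsFinLocFree (g ∣_ (f ⁻¹ᵁ V.1)) := by
      haveI : IsFinite g := hg.1
      haveI : Flat g := hg.2.1
      haveI : LocallyOfFinitePresentation g := hg.2.2
      exact ⟨inferInstance, inferInstance, inferInstance⟩
    haveI : Surjective (g ∣_ (f ⁻¹ᵁ V.1)) :=
      MorphismProperty.of_isPullback (P := @Surjective) (isPullback_morphismRestrict g (f ⁻¹ᵁ V.1)).flip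
        inferInstance
    refine Groth.Agent.Lib.Helper23.NormAmple.isAmple_of_isAmple_pullback_of_isFinLocFree
      (g ∣_ (f ⁻¹ᵁ V.1)) hgU _ (Groth.Agent.Lib.Helper23.RestrJ.isInvertible_restrict (f ⁻¹ᵁ V.1).ι L hL) ?_
    exact Groth.Agent.Lib.Helper23.AmpleIso.isAmple_of_iso
      (Groth.Agent.Lib.Helper23.PB.pullbackRestrictIso' g L (g ⁻¹ᵁ (f ⁻¹ᵁ V.1)).ι (f ⁻¹ᵁ V.1).ι
        (g ∣_ (f ⁻¹ᵁ V.1)) (morphismRestrict_ι g (f ⁻¹ᵁ V.1))) hV

end Groth.Agent.S3565
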