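import Groth.Statements.S3566
import Mathlib
import Groth.Agent.Lib.Helper23SecTw7
-- import your own Groth.Agent.* helpers here

set_option autoImplicit false
universe u
open CategoryTheory CategoryTheory.Limits AlgebraicGeometry
open EGA2

namespace Groth.Agent.S3566


open TopologicalSpace Opposite
open Groth.Agent.Lib.Helper23.SecTw Groth.Agent.Lib.Helper23.GenLocus Groth.Agent.Lib.Helper6

/-- Let X be a quasi-compact separated scheme (the published statement also allows a prescheme with
Noetherian underlying space) and L an invertible O_X-module. Then L is ample, i.e. the affine ones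
among the opens X_s (s a global section of a positive tensor power of L, X_s the locus where s
generates) cover X, if and only if all the opens X_s form a base of the topology of X. -/
theorem result (X : Scheme.{u}) [CompactSpace X] [X.IsSeparated]
    (L : X.Modules) (hL : PicF.IsInvertible L) :
    CohB1.IsAmple L ↔
      TopologicalSpace.IsTopologicalBasis
        {U : Set X | ∃ (n : ℕ) (s : Coh.structureModule X ⟶ CohB1.tensorPow L (n + 1)),
          U = (CohB1.genLocus (CohB1.tensorPow L (n + 1)) s : Set X)} := by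
  have hset : {U : Set X | ∃ (n : ℕ) (s : Coh.structureModule X ⟶ CohB1.tensorPow L (n + 1)),
          U = (CohB1.genLocus (CohB1.tensorPow L (n + 1)) s : Set X)} =
      SetLike.coe '' {U : X.Opens | ∃ (n : ℕ) (s : Coh.structureModule X ⟶ CohB1.tensorPow L (n + 1)), U = CohB1.genLocus _ s} := by
    ext U
    constructor
    · rintro ⟨n, s, rfl⟩
      exact ⟨_, ⟨n, s, rfl⟩, rfl⟩
    · rintro ⟨U', ⟨n, s, rfl⟩, rfl⟩
      exact ⟨n, s, rfl⟩
  rw [hset]
  change _ ↔ TopologicalSpace.Opens.IsBasis _
  constructor
  · intro hamp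
    rw [Opens.isBasis_iff_nbhd]
    intro U x hxU
    obtain ⟨n, σ, hxσ, hσU, -⟩ := exists_genLocus_nhd_of_isAmple L hamp U x hxU
    exact ⟨_, ⟨n, σ, rfl⟩, hxσ, hσU⟩
  · intro hB
    rw [Opens.isBasis_iff_nbhd] at hB
    refine ⟨hL, inferInstance, fun x => ?_⟩
    obtain ⟨V, hV, hxV, -⟩ := exists_isAffineOpen_mem_and_subset (x := x) (U := (⊤ : X.Opens)) trivial
    obtain ⟨U', ⟨n, s, rfl⟩, hxU', hU'V⟩ := hB (U := V) hxV
    refine ⟨n, s, hxU', ?_⟩
    have := isAffineOpen_inf_genLocus _ (isInvertible_tensorPow hL (n + 1)) s V hV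
    rwa [inf_eq_right.2 hU'V] at this

end Groth.Agent.S3566
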