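import Groth.Statements.S3575
import Mathlib
import Groth.Agent.Lib.Helper27ConeRetr

set_option autoImplicit false
universe u
open CategoryTheory CategoryTheory.Limits AlgebraicGeometry
open EGA2

namespace Groth.Agent.S3575

/-- Let S be a commutative ℕ-graded R-algebra, E the pointed affine cone (the open complement of the
vertex V(S_+) in Spec S) and X = Proj S, and let π : E → X be the canonical retraction,
characterised (hypothesis hπ) by its agreement on each chart Spec S_f → E, f homogeneous of positive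
degree, with Spec of S_(f) → S_f followed by the standard open immersion Spec S_(f) → X. Then π is
an affine and surjective morphism; the inverse image under π of D_+(f) is the open D(f) ∩ E = D(f)
of E for every homogeneous f of positive degree; and π sends a point of E, a prime p of S not
containing S_+, to the homogeneous prime whose homogeneous elements are those of p. -/
theorem result {R A : Type u} [CommRing R] [CommRing A] [Algebra R A] (𝒜 : ℕ → Submodule R A) [GradedAlgebra 𝒜]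
    (π : (Cone.pointed 𝒜 : Scheme.{u}) ⟶ Proj 𝒜)
    (hπ : ∀ (d : ℕ) (f : A) (hd : 0 < d) (hf : f ∈ 𝒜 d),
        Cone.chart hf hd ≫ π =
          Spec.map (CommRingCat.ofHom (algebraMap (HomogeneousLocalization.Away 𝒜 f) (Localization.Away f))) ≫
            Proj.awayι 𝒜 f hf hd) :
    IsAffineHom π ∧ Surjective π ∧
      (∀ (d : ℕ) (f : A), 0 < d → f ∈ 𝒜 d →
        π ⁻¹ᵁ Proj.basicOpen 𝒜 f = (Cone.pointed 𝒜).ι ⁻¹ᵁ Cone.coneOpen f) ∧
      ∀ p : (Cone.pointed 𝒜 : Scheme.{u}),
        (π.base p).asHomogeneousIdeal = (((Cone.pointed 𝒜).ι.base p).asIdeal).homogeneousCore 𝒜 := by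
  have hcore := Groth.Agent.Lib.Helper27ConeRetr.π_asHomogeneousIdeal π hπ
  have hpre : ∀ (d : ℕ) (f : A), 0 < d → f ∈ 𝒜 d →
      π ⁻¹ᵁ Proj.basicOpen 𝒜 f = (Cone.pointed 𝒜).ι ⁻¹ᵁ Cone.coneOpen f := by
    intro d f hd hf
    ext x
    have h1 : x ∈ π ⁻¹ᵁ Proj.basicOpen 𝒜 f ↔ f ∉ (π x).asHomogeneousIdeal :=
      Proj.mem_basicOpen _ _ _
    have h2 : x ∈ (Cone.pointed 𝒜).ι ⁻¹ᵁ Cone.coneOpen f ↔
        f ∉ ((Cone.pointed 𝒜).ι x).asIdeal := Iff.rfl
    simp only [SetLike.mem_coe]
    rw [h1, h2, Groth.Agent.Lib.Helper27ConeRetr.mem_π_iff π hπ x hf]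
  refine ⟨?_, ?_, hpre, hcore⟩
  · apply isAffineHom_of_forall_exists_isAffineOpen
    intro y
    obtain ⟨d, hd, f, hf, hy⟩ : ∃ (d : ℕ) (hd : 0 < d) (f : A) (hf : f ∈ 𝒜 d),
        y ∈ (Proj.awayι 𝒜 f hf hd).opensRange :=
      ⟨((Proj.affineOpenCover 𝒜).idx y).1, ((Proj.affineOpenCover 𝒜).idx y).1.2,
        ((Proj.affineOpenCover 𝒜).idx y).2.1, ((Proj.affineOpenCover 𝒜).idx y).2.2,
        (Proj.affineOpenCover 𝒜).covers y⟩
    rw [Proj.opensRange_awayι] at hy
    refine ⟨Proj.basicOpen 𝒜 f, hy, Proj.isAffineOpen_basicOpen 𝒜 f hf hd, ?_⟩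
    rw [hpre d f hd hf]
    have hV : IsAffineOpen (Cone.coneOpen f : (Spec (CommRingCat.of A)).Opens) := by
      have h1 : (Spec (CommRingCat.of A)).basicOpen
          ((Scheme.ΓSpecIso (CommRingCat.of A)).inv f) = Cone.coneOpen f :=
        basicOpen_eq_of_affine (R := CommRingCat.of A) f
      rw [← h1]
      exact (isAffineOpen_top _).basicOpen _
    have hle : Cone.coneOpen f ≤ Cone.pointed 𝒜 := by
      intro p hp hmem
      apply hp
      exact (PrimeSpectrum.mem_zeroLocus _ _).mp hmem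
        (HomogeneousIdeal.mem_irrelevant_of_mem 𝒜 hd hf)
    rw [← (Cone.pointed 𝒜).ι.isAffineOpen_iff_of_isOpenImmersion,
      Scheme.Hom.image_preimage_eq_opensRange_inf, Scheme.Opens.opensRange_ι,
      inf_eq_right.mpr hle]
    exact hV
  · constructor
    intro P
    let p : Spec (CommRingCat.of A) := ⟨P.asHomogeneousIdeal.toIdeal, P.isPrime⟩
    have hp : p ∈ Cone.pointed 𝒜 := by
      intro hmem
      exact P.not_irrelevant_le ((PrimeSpectrum.mem_zeroLocus _ _).mp hmem)
    refine ⟨⟨p, hp⟩, ?_⟩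
    apply ProjectiveSpectrum.ext
    rw [hcore]
    exact HomogeneousIdeal.toIdeal_homogeneousCore_eq_self P.asHomogeneousIdeal

end Groth.Agent.S3575
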