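import Groth.Statements.S3578
-- no extra imports

set_option autoImplicit false
universe u
open EGA2

namespace Groth.Agent.S3578

/-- Via the correspondence between closed subsets of Proj S and radical graded ideals of S_+: let S be a
graded ring and Z a closed subset of Proj S, with J = S_+ ∩ (vanishing ideal of Z). Then Z is
irreducible if and only if J is a prime ideal of the ring-without-unit S_+: J ≠ S_+ and a product of
two elements of S_+ lies in J only if one factor does. -/
theorem result {R A : Type u} [CommRing R] [CommRing A] [Algebra R A] (𝒜 : ℕ → Submodule R A) [GradedAlgebra 𝒜]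
    (Z : Set (ProjectiveSpectrum 𝒜)) (hZ : IsClosed Z) :
    IsIrreducible Z ↔
      (¬ (HomogeneousIdeal.irrelevant 𝒜).toIdeal ≤ (ProjectiveSpectrum.vanishingIdeal Z).toIdeal ∧
        ∀ f ∈ (HomogeneousIdeal.irrelevant 𝒜).toIdeal, ∀ g ∈ (HomogeneousIdeal.irrelevant 𝒜).toIdeal,
          f * g ∈ (ProjectiveSpectrum.vanishingIdeal Z).toIdeal →
            f ∈ (ProjectiveSpectrum.vanishingIdeal Z).toIdeal ∨ g ∈ (ProjectiveSpectrum.vanishingIdeal Z).toIdeal) := by
  classical
  have memV : ∀ (t : Set (ProjectiveSpectrum 𝒜)) (f : A),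
      f ∈ (ProjectiveSpectrum.vanishingIdeal t).toIdeal ↔
        ∀ x ∈ t, f ∈ x.asHomogeneousIdeal.toIdeal := by
    intro t f
    exact ProjectiveSpectrum.mem_vanishingIdeal t f
  constructor
  · intro hirr
    obtain ⟨p, hp⟩ := hirr.1
    refine ⟨?_, ?_⟩
    · intro hle
      apply p.not_irrelevant_le
      intro a ha
      exact (memV Z a).1 (hle ha) p hp
    · intro f _ g _ hfg
      have hsub : Z ⊆ ProjectiveSpectrum.zeroLocus 𝒜 {f} ∪ ProjectiveSpectrum.zeroLocus 𝒜 {g} := by
        intro x hx
        have hx' := (memV Z _).1 hfg x hx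
        rcases (x.isPrime.mem_or_mem hx') with h | h
        · left
          rw [ProjectiveSpectrum.mem_zeroLocus]
          intro a ha
          rw [Set.mem_singleton_iff] at ha
          subst ha
          exact h
        · right
          rw [ProjectiveSpectrum.mem_zeroLocus]
          intro a ha
          rw [Set.mem_singleton_iff] at ha
          subst ha
          exact h
      have hpre := (isPreirreducible_iff_isClosed_union_isClosed.1 hirr.2) _ _
        (ProjectiveSpectrum.isClosed_zeroLocus 𝒜 {f}) (ProjectiveSpectrum.isClosed_zeroLocus 𝒜 {g}) hsub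
      rcases hpre with h | h
      · left
        rw [memV]
        intro x hx
        have := h hx
        rw [ProjectiveSpectrum.mem_zeroLocus] at this
        exact this (Set.mem_singleton f)
      · right
        rw [memV]
        intro x hx
        have := h hx
        rw [ProjectiveSpectrum.mem_zeroLocus] at this
        exact this (Set.mem_singleton g)
  · rintro ⟨hne, hprime⟩
    refine ⟨?_, ?_⟩
    · by_contra hemp
      rw [Set.not_nonempty_iff_eq_empty] at hemp
      apply hne
      rw [hemp, ProjectiveSpectrum.vanishingIdeal_univ]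
      intro a _
      trivial
    · rw [isPreirreducible_iff_isClosed_union_isClosed]
      intro Z₁ Z₂ h₁ h₂ hsub
      by_contra hcon
      rw [not_or] at hcon
      obtain ⟨hc1, hc2⟩ := hcon
      rw [Set.not_subset] at hc1 hc2
      obtain ⟨x, hxZ, hx1⟩ := hc1
      obtain ⟨y, hyZ, hy2⟩ := hc2
      -- key: for closed W and x ∉ W, there is f ∈ I(W) ∩ S₊ with f ∉ x
      have key : ∀ (W : Set (ProjectiveSpectrum 𝒜)), IsClosed W → ∀ x : ProjectiveSpectrum 𝒜, x ∉ W →
          ∃ f, f ∈ (HomogeneousIdeal.irrelevant 𝒜).toIdeal ∧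
            f ∈ (ProjectiveSpectrum.vanishingIdeal W).toIdeal ∧ f ∉ x.asHomogeneousIdeal.toIdeal := by
        intro W hW x hx
        have hcl : ProjectiveSpectrum.zeroLocus 𝒜 ((ProjectiveSpectrum.vanishingIdeal W : HomogeneousIdeal 𝒜) : Set A) = W := by
          rw [ProjectiveSpectrum.zeroLocus_vanishingIdeal_eq_closure, hW.closure_eq]
        have hx' : x ∉ ProjectiveSpectrum.zeroLocus 𝒜 ((ProjectiveSpectrum.vanishingIdeal W : HomogeneousIdeal 𝒜) : Set A) := by
          rw [hcl]; exact hx
        rw [ProjectiveSpectrum.mem_zeroLocus, Set.not_subset] at hx'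
        obtain ⟨f₁, hf₁, hf₁x⟩ := hx'
        have hirr : ¬ ((HomogeneousIdeal.irrelevant 𝒜).toIdeal ≤ x.asHomogeneousIdeal.toIdeal) := by
          intro hle
          exact x.not_irrelevant_le hle
        rw [SetLike.not_le_iff_exists] at hirr
        obtain ⟨s, hs, hsx⟩ := hirr
        refine ⟨f₁ * s, Ideal.mul_mem_left _ _ hs, Ideal.mul_mem_right _ _ hf₁, ?_⟩
        intro hmem
        rcases x.isPrime.mem_or_mem hmem with h | h
        · exact hf₁x h
        · exact hsx h
      obtain ⟨f, hfS, hf1, hfx⟩ := key Z₁ h₁ x hx1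
      obtain ⟨g, hgS, hg2, hgy⟩ := key Z₂ h₂ y hy2
      have hfg : f * g ∈ (ProjectiveSpectrum.vanishingIdeal Z).toIdeal := by
        rw [memV]
        intro z hz
        rcases hsub hz with h | h
        · exact Ideal.mul_mem_right _ _ ((memV Z₁ f).1 hf1 z h)
        · exact Ideal.mul_mem_left _ _ ((memV Z₂ g).1 hg2 z h)
      rcases hprime f hfS g hgS hfg with h | h
      · exact hfx ((memV Z f).1 h x hxZ)
      · exact hgy ((memV Z g).1 h y hyZ)

end Groth.Agent.S3578
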