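import Groth.Statements.S3583
-- no extra imports

set_option autoImplicit false
universe u
open CategoryTheory AlgebraicGeometry Opposite
open EGA2

namespace Groth.Agent.S3583

/-- In the form stated after its proof: let f : X → S and f' : X' → S be affine morphisms and h : X' → X
an S-morphism such that the O_S-algebra homomorphism A(h) : f_*O_X → f'_*O_{X'} is surjective (as a
map of quasi-coherent O_S-modules, i.e. on sections over every affine open of S). Then h is a closed
immersion. -/
theorem result {X X' S : Scheme.{u}} (f : X ⟶ S) [IsAffineHom f]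
    (f' : X' ⟶ S) [IsAffineHom f'] (h : X' ⟶ X) (w : h ≫ f = f')
    (hsurj : ∀ U : S.affineOpens, Function.Surjective ((AffAlg.algHom f f' h w).app (op U.1)).hom) :
    IsClosedImmersion h := by
  subst w
  have hsurj' : ∀ U : S.affineOpens, Function.Surjective (h.app (f ⁻¹ᵁ U.1)).hom := by
    intro U
    have := hsurj U
    unfold AffAlg.algHom at this
    rw [NatTrans.comp_app, CommRingCat.hom_comp, RingHom.coe_comp] at this
    have hb : Function.Bijective ((eqToHom (by rfl :
        (TopCat.Presheaf.pushforward CommRingCat.{u} f.base).obj (h.base _* X'.presheaf) =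
          AffAlg.alg (h ≫ f))).app (op U.1)).hom :=
      ConcreteCategory.bijective_of_isIso _
    exact (Function.Surjective.of_comp_iff' hb _).1 this
  have hcov : ⨆ U : S.affineOpens, ((⟨f ⁻¹ᵁ U.1, U.2.preimage f⟩ : X.affineOpens) : X.Opens) = ⊤ := by
    have := Scheme.Hom.preimage_iSup f (fun U : S.affineOpens => (U : S.Opens))
    rw [iSup_affineOpens_eq_top] at this
    rw [← this]
    rfl
  rw [HasAffineProperty.iff_of_iSup_eq_top (P := @IsClosedImmersion)
    (fun U : S.affineOpens => (⟨f ⁻¹ᵁ U.1, U.2.preimage f⟩ : X.affineOpens)) hcov]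
  intro U
  refine ⟨?_, ?_⟩
  · have : IsAffineOpen ((h ≫ f) ⁻¹ᵁ U.1) := U.2.preimage (h ≫ f)
    exact this
  · rw [morphismRestrict_appTop]
    have key : ∀ W : X.Opens, W = f ⁻¹ᵁ U.1 → Function.Surjective (h.app W).hom := by
      rintro _ rfl
      exact hsurj' U
    have h1 := key ((f ⁻¹ᵁ U.1).ι ''ᵁ ⊤) (by simp)
    have h2 : Function.Bijective (X'.presheaf.map (eqToHom (image_morphismRestrict_preimage h (f ⁻¹ᵁ U.1) ⊤)).op).hom :=
      ConcreteCategory.bijective_of_isIso _
    exact h2.surjective.comp h1

end Groth.Agent.S3583
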