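import Groth.Statements.S3584
import Mathlib
import Groth.Agent.Lib.Helper27TwistAmple2

set_option autoImplicit false
universe u
open CategoryTheory CategoryTheory.Limits AlgebraicGeometry
open EGA2

namespace Groth.Agent.S3584

/-- Let S be a graded ring whose irrelevant ideal S_+ is generated by finitely many elements of degree
one. Then the twisting sheaf O_X(1) on X = Proj S is ample (X is quasi-compact and covered by the
affine non-vanishing loci of sections of the positive powers of O_X(1)). -/
theorem result {R A : Type u} [CommRing R] [CommRing A] [Algebra R A] (𝒜 : ℕ → Submodule R A) [GradedAlgebra 𝒜]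
    (s : Finset A) (hs1 : ∀ f ∈ s, f ∈ 𝒜 1)
    (hs : (HomogeneousIdeal.irrelevant 𝒜).toIdeal = Ideal.span (s : Set A)) :
    CohB1.IsAmple (Twist.twist 𝒜 1) := by
  classical
  have hcovs : ∀ y : Proj 𝒜, ∃ f : (s : Set A),
      (f : A) ∉ (show ProjectiveSpectrum 𝒜 from y).asHomogeneousIdeal := by
    intro y
    by_contra hcon
    push Not at hcon
    apply (show ProjectiveSpectrum 𝒜 from y).not_irrelevant_le
    have h1 : (HomogeneousIdeal.irrelevant 𝒜).toIdeal ≤
        (show ProjectiveSpectrum 𝒜 from y).asHomogeneousIdeal.toIdeal := by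
      rw [hs, Ideal.span_le]
      intro f hf
      exact hcon ⟨f, hf⟩
    exact h1
  haveI : CompactSpace (Proj 𝒜) := by
    refine ⟨?_⟩
    have huniv : (Set.univ : Set (Proj 𝒜)) =
        ⋃ f ∈ s, ((Proj.basicOpen 𝒜 f : (Proj 𝒜).Opens) : Set (Proj 𝒜)) := by
      apply Set.eq_of_subset_of_subset
      · intro y _
        obtain ⟨f, hf⟩ := hcovs y
        exact Set.mem_iUnion₂.mpr ⟨f.1, f.2, (ProjectiveSpectrum.mem_basicOpen 𝒜 (f : A) y).mpr hf⟩
      · exact Set.subset_univ _
    rw [huniv]
    exact s.isCompact_biUnion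
      (fun f hf => (Proj.isAffineOpen_basicOpen 𝒜 f (hs1 f hf) one_pos).isCompact)
  exact Groth.Agent.Lib.Helper27GrTildeSect.isAmple_of_cover 𝒜 1
    (fun f : (s : Set A) => (f : A)) (fun f => hs1 f.1 f.2) hcovs one_pos

end Groth.Agent.S3584
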