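import Groth.Statements.S3589
import Mathlib
import Groth.Agent.Lib.Helper27ProjUniq4

set_option autoImplicit false
universe u
open CategoryTheory CategoryTheory.Limits AlgebraicGeometry
open EGA2

namespace Groth.Agent.S3589

/-- For E = O_Y^{n+1} over an affine base Y = Spec R (injectivity of the correspondence): a section s of
projective n-space over R is determined by the submodule F(s) of R^{n+1} formed by the R-linear
relations among the pulled-back coordinates s^*T_0, …, s^*T_n in the global sections of s^*O(1). -/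
theorem result {R : Type u} [CommRing R] (n : ℕ)
    (s₁ s₂ : Spec (CommRingCat.of R) ⟶ CohB1.ProjSpace n R)
    (h₁ : s₁ ≫ CohB1.ProjSpace.toSpec n R = 𝟙 _) (h₂ : s₂ ≫ CohB1.ProjSpace.toSpec n R = 𝟙 _)
    (h : ProjUP.secKernel n R s₁ = ProjUP.secKernel n R s₂) :
    s₁ = s₂ := by
  have key : ∀ (s : Spec (CommRingCat.of R) ⟶ CohB1.ProjSpace n R) (i j : Fin (n + 1))
      (a b : Γ(Spec (CommRingCat.of R), ⊤)),
      (Pi.single j ((Scheme.ΓSpecIso (CommRingCat.of R)).hom a) -
        Pi.single i ((Scheme.ΓSpecIso (CommRingCat.of R)).hom b) : Fin (n + 1) → R) ∈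
          ProjUP.secKernel n R s ↔
        a • (ProjUP.pullSec s (Twist.twistProjSpace n R 1) (ProjUP.coord n R j) :
          Γ((Scheme.Modules.pullback s).obj (Twist.twistProjSpace n R 1), ⊤)) =
        b • (ProjUP.pullSec s (Twist.twistProjSpace n R 1) (ProjUP.coord n R i) :
          Γ((Scheme.Modules.pullback s).obj (Twist.twistProjSpace n R 1), ⊤)) := by
    intro s i j a b
    letI : Module R (ProjUP.Γm ((Scheme.Modules.pullback s).obj (Twist.twistProjSpace n R 1))) :=
      Module.compHom _ (Scheme.ΓSpecIso (CommRingCat.of R)).inv.hom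
    change Fintype.linearCombination R
      (fun i => ProjUP.pullSec s (Twist.twistProjSpace n R 1) (ProjUP.coord n R i)) _ = 0 ↔ _
    rw [map_sub, Fintype.linearCombination_apply_single, Fintype.linearCombination_apply_single,
      sub_eq_zero]
    have e : ∀ (c : Γ(Spec (CommRingCat.of R), ⊤))
        (m : Γ((Scheme.Modules.pullback s).obj (Twist.twistProjSpace n R 1), ⊤)),
        ((Scheme.ΓSpecIso (CommRingCat.of R)).hom c) • m = c • m := by
      intro c m
      change ((Scheme.ΓSpecIso (CommRingCat.of R)).inv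
        ((Scheme.ΓSpecIso (CommRingCat.of R)).hom c)) • m = c • m
      have h5 : (Scheme.ΓSpecIso (CommRingCat.of R)).inv
          ((Scheme.ΓSpecIso (CommRingCat.of R)).hom c) = c :=
        congr($((Scheme.ΓSpecIso (CommRingCat.of R)).hom_inv_id) c)
      rw [h5]
    rw [e, e]
  refine Groth.Agent.Lib.Helper27GrTildeSect.proj_hom_ext_of_rel (CohB1.polyGrading n R)
    (fun i : Fin (n + 1) => (MvPolynomial.X i : MvPolynomial (Fin (n + 1)) R))
    (fun i => MvPolynomial.isHomogeneous_X R i) s₁ s₂ ?_ MvPolynomial.adjoin_range_X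
    (h₁.trans h₂.symm)
  intro i j a b hab
  have h3 := (key s₁ i j a b).mpr hab
  rw [h] at h3
  exact (key s₂ i j a b).mp h3

end Groth.Agent.S3589
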