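import Groth.Statements.S3595
import Groth.Agent.Lib.Helper13ProjPMap
-- import your own Groth.Agent.* helpers here

set_option autoImplicit false
universe u
open CategoryTheory CategoryTheory.Limits AlgebraicGeometry
open EGA2

namespace Groth.Agent.S3595

open Groth.Agent.Helper13RelProj TopologicalSpace in
theorem isDomOf_dom {R A : Type u} [CommRing R] [CommRing A] [Algebra R A] (𝒜 : ℕ → Submodule R A) [GradedAlgebra 𝒜]
    {B : Type u} [CommRing B] [Algebra R B] (ℬ : ℕ → Submodule R B) [GradedAlgebra ℬ] (φ : 𝒜 →+*ᵍ ℬ) :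
    IsDomOf φ (PCone.dom φ).ι := by
  intro x
  rw [Scheme.Opens.range_ι]
  constructor
  · intro hx
    obtain ⟨⟨f, d, hd, hf⟩, hxf⟩ := Opens.mem_iSup.mp hx
    exact ⟨d, f, hd, hf, hxf⟩
  · rintro ⟨d, f, hd, hf, hxf⟩
    exact Opens.mem_iSup.mpr ⟨⟨f, d, hd, hf⟩, hxf⟩

open Groth.Agent.Helper13RelProj in
theorem isPMap_of_chart {R A : Type u} [CommRing R] [CommRing A] [Algebra R A] (𝒜 : ℕ → Submodule R A) [GradedAlgebra 𝒜]
    {B : Type u} [CommRing B] [Algebra R B] (ℬ : ℕ → Submodule R B) [GradedAlgebra ℬ] (φ : 𝒜 →+*ᵍ ℬ)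
    (p : (PCone.dom φ : Scheme.{u}) ⟶ Proj 𝒜) (hp : ∀ (d : ℕ) (f : A) (hd : 0 < d) (hf : f ∈ 𝒜 d),
        PCone.chart φ hf hd ≫ p =
          Spec.map (CommRingCat.ofHom (HomogeneousLocalization.Away.map φ f)) ≫ Proj.awayι 𝒜 f hf hd) :
    IsPMap φ (PCone.dom φ).ι p := by
  intro d f hd hf c hc
  have : c = PCone.chart φ hf hd := by
    rw [← cancel_mono (PCone.dom φ).ι, hc]
    exact (IsOpenImmersion.lift_fac _ _ _).symm
  rw [this, hp]


/-- Let φ : S′ → S be a homomorphism of graded rings and G(φ) ⊆ Proj S the open union of the basic opens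
D_+(φ(f′)) for f′ ∈ S′ homogeneous of positive degree. There is exactly one morphism p : G(φ) → Proj
S′ whose restriction to each chart Spec S_(φ(f′)) of G(φ) is Spec of the induced map S′_(f′) →
S_(φ(f′)) followed by Spec S′_(f′) ≅ D_+(f′) ⊆ Proj S′. -/
theorem result {R A : Type u} [CommRing R] [CommRing A] [Algebra R A] (𝒜 : ℕ → Submodule R A) [GradedAlgebra 𝒜]
    {B : Type u} [CommRing B] [Algebra R B] (ℬ : ℕ → Submodule R B) [GradedAlgebra ℬ] (φ : 𝒜 →+*ᵍ ℬ) :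
    ∃! p : (PCone.dom φ : Scheme.{u}) ⟶ Proj 𝒜,
      ∀ (d : ℕ) (f : A) (hd : 0 < d) (hf : f ∈ 𝒜 d),
        PCone.chart φ hf hd ≫ p =
          Spec.map (CommRingCat.ofHom (HomogeneousLocalization.Away.map φ f)) ≫ Proj.awayι 𝒜 f hf hd := by
  have hj := isDomOf_dom 𝒜 ℬ φ
  obtain ⟨p, hp⟩ := Groth.Agent.Helper13RelProj.exists_isPMap hj
  refine ⟨p, fun d f hd hf => hp d f hd hf _ (IsOpenImmersion.lift_fac _ _ _), fun p' hp' => ?_⟩
  exact Groth.Agent.Helper13RelProj.IsPMap.unique hj (isPMap_of_chart 𝒜 ℬ φ p' hp') hp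

end Groth.Agent.S3595
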