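import Groth.Statements.S3599
import Mathlib
import Groth.Agent.Lib.Helper11BirE
import Groth.Agent.Lib.Helper11MixNorm5
import Groth.Agent.S2355
import Groth.Agent.S4381

set_option autoImplicit false
universe u
open CategoryTheory CategoryTheory.Limits AlgebraicGeometry
open EGA2

namespace Groth.Agent.S3599


/-- Let Y be an affine scheme, X a Noetherian reduced scheme, f : X → Y a quasi-compact morphism, g : X'
→ X a finite surjective morphism, and W an open subset of X such that at every point x of W either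
the local ring of X is an integrally closed domain or the direct image of the structure sheaf of X'
is locally free on some open neighbourhood of x inside W. Then there are a reduced scheme Z and a
finite birational morphism h : Z → X (birational in the sense that h is an isomorphism over some
dense open of X whose inverse image is dense in Z) which is an isomorphism over W, such that for
every invertible O_X-module L whose inverse image on X' is ample relative to f ∘ g, the inverse
image of L on Z is ample relative to f ∘ h. -/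
theorem result {X X' Y : Scheme.{u}} [IsAffine Y]
    [IsNoetherian X] [IsReduced X] (f : X ⟶ Y) [QuasiCompact f] (g : X' ⟶ X) [IsFinite g] [Surjective g]
    (W : X.Opens)
    (hW : ∀ x ∈ W, (IsDomain (X.presheaf.stalk x) ∧ IsIntegrallyClosed (X.presheaf.stalk x)) ∨
      ∃ T : X.Opens, x ∈ T ∧ T ≤ W ∧ FlatMod.IsFinLocFree (((Coh.push g).obj (Coh.structureModule X')).restrict T.ι)) :
    ∃ (Z : Scheme.{u}) (_ : IsReduced Z) (h : Z ⟶ X) (_ : IsFinite h),
      IsIso (h ∣_ W) ∧
        (∃ V : X.Opens, Dense (V : Set X) ∧ Dense ((h ⁻¹ᵁ V : Z.Opens) : Set Z) ∧ IsIso (h ∣_ V)) ∧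
        ∀ L : X.Modules, PicF.IsInvertible L →
          RelAmple.IsRelAmple (g ≫ f) ((Scheme.Modules.pullback g).obj L) →
            RelAmple.IsRelAmple (h ≫ f) ((Scheme.Modules.pullback h).obj L) := by
  classical
  have hfin := Groth.Agent.Lib.Helper11.MixNorm.isFiniteAlg_directImage g
  obtain ⟨D, S⟩ := Groth.Agent.Lib.Helper11.Bir.exists_usetup hfin
    (Groth.Agent.Lib.Helper11.MixNorm.nontrivial_directImage g)
  haveI hred : IsReduced (Groth.Agent.Lib.Helper11.Bir.ZZ g D) := inferInstance
  haveI hfinh : IsFinite (Groth.Agent.Lib.Helper11.Bir.hh g D) :=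
    Groth.Agent.Lib.Helper11.Bir.isFinite_Zh _ D hfin S
  have hpt : ∀ x ∈ W, x ∈ Groth.Agent.Lib.Helper11.Bir.goodLocus (RelSpec.QCAlg.directImage g) ∨
      (IsDomain (X.presheaf.stalk x) ∧ IsIntegrallyClosed (X.presheaf.stalk x)) := by
    intro x hx
    rcases hW x hx with hn | ⟨T, hxT, -, hfree⟩
    · exact Or.inr hn
    · obtain ⟨n, W', hW', hxW'⟩ := Groth.Agent.Lib.Helper11.MixNorm.exists_isGoodN_of_isFinLocFree g x T hxT hfree
      exact Or.inl (Groth.Agent.Lib.Helper11.Bir.le_goodLocus hW' hxW')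
  refine ⟨Groth.Agent.Lib.Helper11.Bir.ZZ g D, hred, Groth.Agent.Lib.Helper11.Bir.hh g D, hfinh,
    Groth.Agent.Lib.Helper11.Bir.isIso_Zh_restrict _ D hfin S W hpt,
    ⟨Groth.Agent.Lib.Helper11.Bir.goodLocus (RelSpec.QCAlg.directImage g), S.dense_goodLocus,
      Groth.Agent.Lib.Helper11.Bir.dense_preimage_goodLocus _ D hfin S,
      Groth.Agent.Lib.Helper11.Bir.isIso_Zh_goodLocus _ D hfin S⟩, ?_⟩
  intro L hL hRA
  have hqa : Mor2.IsQuasiAffine (Groth.Agent.Lib.Helper11.Bir.pp g D) := by
    refine ⟨inferInstance, fun V hV => ?_⟩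
    haveI : IsAffine (Groth.Agent.Lib.Helper11.Bir.pp g D ⁻¹ᵁ V : Scheme.{u}) :=
      hV.preimage (Groth.Agent.Lib.Helper11.Bir.pp g D)
    infer_instance
  have h1 := Groth.Agent.S2355.result (g ≫ f) (Groth.Agent.Lib.Helper11.Bir.pp g D) hqa _ hRA
  have h2 : CohB1.IsAmple ((Scheme.Modules.pullback (Groth.Agent.Lib.Helper11.Bir.pp g D)).obj
      ((Scheme.Modules.pullback g).obj L)) := (Groth.Agent.S4381.result _ _).1 h1
  let e : (Scheme.Modules.pullback (Groth.Agent.Lib.Helper11.Bir.pp g D)).obj
      ((Scheme.Modules.pullback g).obj L) ≅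
      (Scheme.Modules.pullback (Groth.Agent.Lib.Helper11.Bir.qq g D)).obj
        ((Scheme.Modules.pullback (Groth.Agent.Lib.Helper11.Bir.hh g D)).obj L) :=
    (Scheme.Modules.pullbackComp (Groth.Agent.Lib.Helper11.Bir.pp g D) g).app L ≪≫
      ((Scheme.Modules.pullbackCongr (pullback.condition :
        Groth.Agent.Lib.Helper11.Bir.qq g D ≫ Groth.Agent.Lib.Helper11.Bir.hh g D =
          Groth.Agent.Lib.Helper11.Bir.pp g D ≫ g)).app L).symm ≪≫
      ((Scheme.Modules.pullbackComp (Groth.Agent.Lib.Helper11.Bir.qq g D)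
        (Groth.Agent.Lib.Helper11.Bir.hh g D)).app L).symm
  have h3 := Groth.Agent.Lib.Helper23.AmpleIso.isAmple_of_iso e h2
  have hinv := Groth.Agent.Lib.Helper23.PB.isInvertible_pullback (Groth.Agent.Lib.Helper11.Bir.hh g D) L hL
  have h4 := Groth.Agent.Lib.Helper11.MixNorm.isAmple_of_isAmple_pullback_of_wnorm
    (Groth.Agent.Lib.Helper11.Bir.qq g D) (Groth.Agent.Lib.Helper11.Bir.wnorm g D S) _ hinv h3
  exact (Groth.Agent.S4381.result (Groth.Agent.Lib.Helper11.Bir.hh g D ≫ f) _).2 h4

end Groth.Agent.S3599
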