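import Groth.Statements.S3621
import Groth.Agent.Lib.Helper5GorLocus
import Groth.Agent.Lib.Helper5LCIGorSch

set_option autoImplicit false
universe u
open CategoryTheory CategoryTheory.Limits AlgebraicGeometry
attribute [local instance] HasDerivedCategory.standard
open Dual3

namespace Groth.Agent.S3621

/-- Let X be a locally Noetherian scheme which has a dualizing complex (exactness instances as in the
definition of dualizing complexes on schemes). Then the set of points x of X whose local ring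
O_{X,x} is Gorenstein is open. -/
theorem result (X : Scheme.{u}) [IsLocallyNoetherian X] [∀ (U V : Scheme.{u}) (j : U ⟶ V) [IsOpenImmersion j], PreservesFiniteLimits (Scheme.Modules.restrictFunctor j)] [∀ (R : CommRingCat.{u}), PreservesFiniteLimits (tilde.functor R)] (K : DCoh.D X) (hK : Dual2.IsDualizingSch X K) : IsOpen {x : X | LocCoh.IsGorensteinLocalRing (X.presheaf.stalk x)} := by
  rw [isOpen_iff_forall_mem_open]
  intro x hx
  obtain ⟨_, ⟨U, hU, rfl⟩, hxU, -⟩ :=
    (X.isBasis_affineOpens).exists_subset_of_mem_open (Set.mem_univ x) isOpen_univ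
  have hU' : IsAffineOpen U := hU
  obtain ⟨ω, hω, -⟩ := hK Γ(X, U) hU'.fromSpec
  haveI : IsNoetherianRing Γ(X, U) := hω.isNoetherianRing
  have hopen := Groth.Agent.Lib.Helper5.GorLocus.isOpen_gorLocus ω hω
  refine ⟨(fun p => hU'.fromSpec p) '' {p : PrimeSpectrum Γ(X, U) |
      LocCoh.IsGorensteinLocalRing (Localization.AtPrime p.asIdeal)}, ?_,
    hU'.fromSpec.isOpenEmbedding.isOpenMap _ hopen, ?_⟩
  · rintro _ ⟨p, hp, rfl⟩
    haveI : LocCoh.IsGorensteinLocalRing (Localization.AtPrime p.asIdeal) := hp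
    exact Groth.Agent.Lib.Helper5.GorRing.gorLocal_of_ringEquiv
      (Groth.Agent.Lib.Helper5.LCIGorSch.stalkFromSpecEquiv hU' p).symm
  · have hfs : hU'.fromSpec (hU'.primeIdealOf ⟨x, hxU⟩) = x :=
      hU'.fromSpec_primeIdealOf ⟨x, hxU⟩
    refine ⟨hU'.primeIdealOf ⟨x, hxU⟩, ?_, hfs⟩
    have hx' : LocCoh.IsGorensteinLocalRing
        (X.presheaf.stalk (hU'.fromSpec (hU'.primeIdealOf ⟨x, hxU⟩))) := by
      rw [hfs]; exact hx
    haveI := hx'
    exact Groth.Agent.Lib.Helper5.GorRing.gorLocal_of_ringEquiv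
      (Groth.Agent.Lib.Helper5.LCIGorSch.stalkFromSpecEquiv hU' (hU'.primeIdealOf ⟨x, hxU⟩))

end Groth.Agent.S3621
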