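import Groth.Statements.S3670
import Groth.Agent.Lib.Helper5GorAffSp

set_option autoImplicit false
universe u
open CategoryTheory CategoryTheory.Limits AlgebraicGeometry
attribute [local instance] HasDerivedCategory.standard
open Dual3

namespace Groth.Agent.S3670

/-- (1) ⇔ (2) ⇔ (3) ⇔ (4): Let f : X → S be flat and locally of finite presentation, x a point of X and
d = dim_x(X_{f(x)}) the local dimension of its fibre. Then the following are equivalent: (1) f is
Gorenstein at x; (2) there are an open neighbourhood U of x and a locally quasi-finite morphism g :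
U → A^d_S over S which is Gorenstein at x; (3) there are an open neighbourhood U of x and a locally
quasi-finite Gorenstein morphism g : U → A^d_S over S; (4) for every open neighbourhood U of x and
every morphism g : U → A^d_S over S, if x is isolated in its fibre under g (g is quasi-finite at x)
then g is Gorenstein at x. -/
theorem result (X S : Scheme.{u}) (f : X ⟶ S) [Flat f] [LocallyOfFinitePresentation f] (x : X) (d : ℕ) (hd : Dual3.localFibreDim f x = (d : WithBot ℕ∞)) : (Dual3.IsGorensteinAt f x ↔ ∃ (U : X.Opens) (hx : x ∈ U) (g : (U : Scheme.{u}) ⟶ AffineSpace (ULift.{u} (Fin d)) S), g ≫ (AffineSpace (ULift.{u} (Fin d)) S ↘ S) = U.ι ≫ f ∧ LocallyQuasiFinite g ∧ Dual3.IsGorensteinAt g ⟨x, hx⟩) ∧ (Dual3.IsGorensteinAt f x ↔ ∃ (U : X.Opens) (_ : x ∈ U) (g : (U : Scheme.{u}) ⟶ AffineSpace (ULift.{u} (Fin d)) S), g ≫ (AffineSpace (ULift.{u} (Fin d)) S ↘ S) = U.ι ≫ f ∧ LocallyQuasiFinite g ∧ Dual3.IsGorensteinMor g) ∧ (Dual3.IsGorensteinAt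 f x ↔ ∀ (U : X.Opens) (hx : x ∈ U) (g : (U : Scheme.{u}) ⟶ AffineSpace (ULift.{u} (Fin d)) S), g ≫ (AffineSpace (ULift.{u} (Fin d)) S ↘ S) = U.ι ≫ f → Dual3.QuasiFiniteAt g ⟨x, hx⟩ → Dual3.IsGorensteinAt g ⟨x, hx⟩) := by
  have hd' : FlatMor.fibreDimAt f x = d :=
    (Groth.Agent.Lib.Helper5.GorAffSp.localFibreDim_eq f x).symm.trans hd
  have h13 : Dual3.IsGorensteinAt f x → ∃ (U : X.Opens) (_ : x ∈ U) (g : (U : Scheme.{u}) ⟶ AffineSpace (ULift.{u} (Fin d)) S), g ≫ (AffineSpace (ULift.{u} (Fin d)) S ↘ S) = U.ι ≫ f ∧ LocallyQuasiFinite g ∧ Dual3.IsGorensteinMor g :=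
    fun h => Groth.Agent.Lib.Helper5.GorAffSp.exists_lqf_gorMor f x d hd' h
  have h21 : (∃ (U : X.Opens) (hx : x ∈ U) (g : (U : Scheme.{u}) ⟶ AffineSpace (ULift.{u} (Fin d)) S), g ≫ (AffineSpace (ULift.{u} (Fin d)) S ↘ S) = U.ι ≫ f ∧ LocallyQuasiFinite g ∧ Dual3.IsGorensteinAt g ⟨x, hx⟩) → Dual3.IsGorensteinAt f x := by
    rintro ⟨U, hx, g, hover, -, hg⟩
    exact Groth.Agent.Lib.Helper5.GorAffSp.isGorAt_of_isGorAt_over f x d U hx g hover hg
  refine ⟨⟨fun h => ?_, h21⟩, ⟨h13, fun h => ?_⟩, ⟨fun h U hx g hover hq => ?_, fun h => ?_⟩⟩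
  · obtain ⟨U, hx, g, hover, hqf, hg⟩ := h13 h
    exact ⟨U, hx, g, hover, hqf, hg ⟨x, hx⟩⟩
  · obtain ⟨U, hx, g, hover, hqf, hg⟩ := h
    exact h21 ⟨U, hx, g, hover, hqf, hg ⟨x, hx⟩⟩
  · haveI : LocallyOfFiniteType (g ≫ (AffineSpace (ULift.{u} (Fin d)) S ↘ S)) := by
      rw [hover]; infer_instance
    haveI : LocallyOfFiniteType g :=
      locallyOfFiniteType_of_comp g (AffineSpace (ULift.{u} (Fin d)) S ↘ S)
    exact Groth.Agent.Lib.Helper5.GorAffSp.isGorAt_of_quasiFiniteAt f x d hd' h U hx g hover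
      (Scheme.Hom.quasiFiniteAt_iff_isOpen_singleton_asFiber.mpr hq)
  · obtain ⟨U, hx, g, hover, hqf⟩ := Groth.Agent.Lib.Helper5.GorAffSp.exists_lqf_over f x d hd'.le
    haveI := hqf
    haveI : LocallyOfFiniteType (g ≫ (AffineSpace (ULift.{u} (Fin d)) S ↘ S)) := by
      rw [hover]; infer_instance
    haveI : LocallyOfFiniteType g :=
      locallyOfFiniteType_of_comp g (AffineSpace (ULift.{u} (Fin d)) S ↘ S)
    have hq : Dual3.QuasiFiniteAt g ⟨x, hx⟩ :=
      Scheme.Hom.quasiFiniteAt_iff_isOpen_singleton_asFiber.mp (g.quasiFiniteAt _)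
    exact Groth.Agent.Lib.Helper5.GorAffSp.isGorAt_of_isGorAt_over f x d U hx g hover
      (h U hx g hover hq)

end Groth.Agent.S3670
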