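import Groth.Statements.S3682
import Mathlib
import Groth.Agent.Lib.Helper6SepCl2
import Groth.Agent.Lib.Helper10ArtinOpen

set_option autoImplicit false
universe u
open Pi1

namespace Groth.Agent.S3682
open AlgebraicGeometry CategoryTheory CategoryTheory.Limits


open AlgebraicGeometry CategoryTheory CategoryTheory.Limits in
/-- The part saying that the homomorphism from the fundamental group of X x_k Y to the product of the
fundamental groups is surjective, in terms of covers. Let k be algebraically closed, X proper and
connected over k, Y locally Noetherian and connected over k. If X' is a connected finite etale cover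
of X and Y' a connected finite etale cover of Y, then the product of X' and Y' over k is connected. -/
theorem result (k : Type u) [Field k] [IsAlgClosed k] {X Y : Scheme.{u}}
    (pX : X ⟶ Spec (CommRingCat.of k)) (pY : Y ⟶ Spec (CommRingCat.of k)) [IsProper pX] [ConnectedSpace X]
    [IsLocallyNoetherian Y] [ConnectedSpace Y]
    (X' : FEt.Cat X) [ConnectedSpace X'.left] (Y' : FEt.Cat Y) [ConnectedSpace Y'.left] :
    ConnectedSpace ↥(pullback (X'.hom ≫ pX) (Y'.hom ≫ pY)) := by
  let g : X'.left ⟶ Spec (CommRingCat.of k) := X'.hom ≫ pX
  letI : X'.left.Over (Spec (CommRingCat.of k)) := ⟨g⟩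
  haveI : GeometricallyConnected g :=
    Groth.Agent.Lib.Helper6.SepCl.geometricallyConnected_of_isSepClosed k X'.left
  haveI : UniversallyOpen g := Groth.Agent.Lib.Helper10.ArtinOpen.universallyOpen_of_artinian_local g
  haveI : ConnectedSpace ↥((𝟭 Scheme).obj Y'.left) := ‹ConnectedSpace Y'.left›
  haveI : GeometricallyConnected (pullback.snd g (Y'.hom ≫ pY)) := inferInstance
  haveI : UniversallyOpen (pullback.snd g (Y'.hom ≫ pY)) := inferInstance
  exact GeometricallyConnected.connectedSpace (pullback.snd g (Y'.hom ≫ pY))
    (pullback.snd g (Y'.hom ≫ pY)).isOpenMap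

end Groth.Agent.S3682
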