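import Groth.Statements.S3707
import Mathlib.AlgebraicGeometry.Morphisms.FormallyUnramified
import Mathlib.AlgebraicGeometry.PullbackCarrier
import Mathlib.AlgebraicGeometry.Morphisms.UnderlyingMap
-- import your own Groth.Agent.* helpers here

set_option autoImplicit false
universe u
open SGA1

namespace Groth.Agent.S3707

open AlgebraicGeometry CategoryTheory CategoryTheory.Limits in
/-- Let g : S' -> S be a surjective morphism of schemes, X and Y schemes over S with Y unramified over S
(formally unramified and locally of finite type), and X', Y' their base changes to S'. Then the map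
sending an S-morphism X -> Y to the induced S'-morphism X' -> Y' is injective. -/
theorem result {S S' X Y : Scheme.{u}} (g : S' ⟶ S) [Surjective g]
    (p : X ⟶ S) (q : Y ⟶ S) [FormallyUnramified q] [LocallyOfFiniteType q]
    (u v : X ⟶ Y) (hu : p ≫ 𝟙 S = u ≫ q) (hv : p ≫ 𝟙 S = v ≫ q)
    (h : pullback.map p g q g u (𝟙 S') (𝟙 S) hu ((Category.comp_id _).trans (Category.id_comp _).symm) =
      pullback.map p g q g v (𝟙 S') (𝟙 S) hv ((Category.comp_id _).trans (Category.id_comp _).symm)) :
    u = v := by
  have huv : u ≫ q = v ≫ q := hu.symm.trans hv
  set uv : X ⟶ pullback q q := pullback.lift u v huv with huv_def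
  have huv1 : uv ≫ pullback.fst q q = u := pullback.lift_fst _ _ _
  have huv2 : uv ≫ pullback.snd q q = v := pullback.lift_snd _ _ _
  set e : pullback uv (pullback.diagonal q) ⟶ X := pullback.fst uv (pullback.diagonal q) with he
  have heu : e ≫ u = pullback.snd uv (pullback.diagonal q) := by
    have : e ≫ uv ≫ pullback.fst q q = pullback.snd uv (pullback.diagonal q) ≫
        pullback.diagonal q ≫ pullback.fst q q := by
      rw [← Category.assoc, ← Category.assoc, pullback.condition]
    rw [pullback.diagonal_fst, Category.comp_id] at this
    rw [← this, huv1]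
  have hev : e ≫ v = pullback.snd uv (pullback.diagonal q) := by
    have : e ≫ uv ≫ pullback.snd q q = pullback.snd uv (pullback.diagonal q) ≫
        pullback.diagonal q ≫ pullback.snd q q := by
      rw [← Category.assoc, ← Category.assoc, pullback.condition]
    rw [pullback.diagonal_snd, Category.comp_id] at this
    rw [← this, huv2]
  -- key identity on the base change
  set u' := pullback.map p g q g u (𝟙 S') (𝟙 S) hu ((Category.comp_id _).trans (Category.id_comp _).symm)
    with hu'
  have key : pullback.fst p g ≫ uv = (u' ≫ pullback.fst q g) ≫ pullback.diagonal q := by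
    apply pullback.hom_ext
    · rw [Category.assoc, Category.assoc, pullback.diagonal_fst, Category.comp_id, huv1, hu',
        pullback.lift_fst]
    · rw [Category.assoc, Category.assoc, pullback.diagonal_snd, Category.comp_id, huv2, h,
        pullback.lift_fst]
  haveI : Surjective e := by
    constructor
    intro x
    obtain ⟨x', rfl⟩ := (pullback.fst p g).surjective x
    have hx : uv (pullback.fst p g x') = pullback.diagonal q ((u' ≫ pullback.fst q g) x') := by
      rw [← Scheme.Hom.comp_apply, ← Scheme.Hom.comp_apply, key]
    obtain ⟨z, hz, -⟩ := Scheme.Pullback.exists_preimage_pullback _ _ hx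
    exact ⟨z, hz⟩
  haveI : IsIso e := (isIso_iff_isOpenImmersion_and_surjective _).2 ⟨inferInstance, inferInstance⟩
  rw [← cancel_epi e, heu, hev]

end Groth.Agent.S3707
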