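import Groth.Statements.S3709
import Groth.Agent.Lib.Helper20EtDesc

set_option autoImplicit false
universe u
open SGA1

namespace Groth.Agent.S3709

open AlgebraicGeometry CategoryTheory CategoryTheory.Limits in
/-- A universally submersive morphism is a descent morphism for etale schemes (exactness of Hom_S(X, Y)
-> Hom_S'(X', Y') => Hom_S''(X'', Y'')): let g : S' -> S be universally submersive, X and Y schemes
over S with Y etale over S, X' and Y' their base changes along g, and f' : X' -> Y' an S'-morphism
whose two pullbacks to S'' = S' x_S S' coincide (equivalently: the two composites X'' -> X' -> Y' ->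
Y along the two projections agree). Then there is exactly one S-morphism u : X -> Y whose base
change is f'. -/
theorem result {S S' X Y : Scheme.{u}} (g : S' ⟶ S) (hg : SGA1.UnivSubmersive g)
    (p : X ⟶ S) (q : Y ⟶ S) [Etale q]
    (f' : pullback p g ⟶ pullback q g) (hf' : f' ≫ pullback.snd q g = pullback.snd p g)
    (hcoc : pullback.map p (pullback.fst g g ≫ g) p g (𝟙 X) (pullback.fst g g) (𝟙 S)
        ((Category.comp_id _).trans (Category.id_comp _).symm) (Category.comp_id _) ≫ f' ≫ pullback.fst q g =
      pullback.map p (pullback.fst g g ≫ g) p g (𝟙 X) (pullback.snd g g) (𝟙 S)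
        ((Category.comp_id _).trans (Category.id_comp _).symm) ((Category.comp_id _).trans pullback.condition) ≫
        f' ≫ pullback.fst q g) :
    ∃! u : X ⟶ Y, u ≫ q = p ∧ f' ≫ pullback.fst q g = pullback.fst p g ≫ u := by
  have hh : SGA1.UnivSubmersive (pullback.fst p g) :=
    fun _ _ _ _ _ H => hg _ _ _ (H.paste_vert (IsPullback.of_hasPullback p g))
  let h : pullback p g ⟶ X := pullback.fst p g
  let ψ : pullback p g ⟶ Y := f' ≫ pullback.fst q g
  have hψ : ψ ≫ q = h ≫ p := by
    simp only [ψ, h]
    rw [Category.assoc, pullback.condition, ← Category.assoc, hf', pullback.condition]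
  have hcondh : pullback.fst h h ≫ h = pullback.snd h h ≫ h := pullback.condition
  have hcondp : h ≫ p = pullback.snd p g ≫ g := pullback.condition
  have hcondg : pullback.fst g g ≫ g = pullback.snd g g ≫ g := pullback.condition
  let θ₂ : pullback h h ⟶ pullback g g :=
    pullback.lift (pullback.fst h h ≫ pullback.snd p g) (pullback.snd h h ≫ pullback.snd p g)
      (by rw [Category.assoc, Category.assoc, ← hcondp, ← Category.assoc,
        ← Category.assoc, hcondh])
  have hθ₂₁ : θ₂ ≫ pullback.fst g g = pullback.fst h h ≫ pullback.snd p g :=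
    pullback.lift_fst _ _ _
  have hθ₂₂ : θ₂ ≫ pullback.snd g g = pullback.snd h h ≫ pullback.snd p g :=
    pullback.lift_snd _ _ _
  let θ : pullback h h ⟶ pullback p (pullback.fst g g ≫ g) :=
    pullback.lift (pullback.fst h h ≫ h) θ₂
      (by rw [← Category.assoc θ₂, hθ₂₁, Category.assoc, Category.assoc, hcondp])
  have hθ₁ : θ ≫ pullback.fst p (pullback.fst g g ≫ g) = pullback.fst h h ≫ h :=
    pullback.lift_fst _ _ _
  have hθ₂ : θ ≫ pullback.snd p (pullback.fst g g ≫ g) = θ₂ := pullback.lift_snd _ _ _
  have hM₁ : θ ≫ pullback.map p (pullback.fst g g ≫ g) p g (𝟙 X) (pullback.fst g g) (𝟙 S)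
        ((Category.comp_id _).trans (Category.id_comp _).symm) (Category.comp_id _) =
      pullback.fst h h := by
    apply pullback.hom_ext
    · rw [Category.assoc, pullback.lift_fst, Category.comp_id, hθ₁]
    · rw [Category.assoc, pullback.lift_snd, ← Category.assoc, hθ₂, hθ₂₁]
  have hM₂ : θ ≫ pullback.map p (pullback.fst g g ≫ g) p g (𝟙 X) (pullback.snd g g) (𝟙 S)
        ((Category.comp_id _).trans (Category.id_comp _).symm)
        ((Category.comp_id _).trans pullback.condition) =
      pullback.snd h h := by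
    apply pullback.hom_ext
    · rw [Category.assoc, pullback.lift_fst, Category.comp_id, hθ₁, hcondh]
    · rw [Category.assoc, pullback.lift_snd, ← Category.assoc, hθ₂, hθ₂₂]
  have hcoc' : pullback.fst h h ≫ ψ = pullback.snd h h ≫ ψ := by
    rw [← hM₁, ← hM₂, Category.assoc, Category.assoc]
    exact congrArg (θ ≫ ·) hcoc
  obtain ⟨u, ⟨hu₁, hu₂⟩, huniq⟩ :=
    Groth.Agent.Lib.Helper20.EtDesc.exists_unique_lift_of_univSubmersive h hh q p ψ hψ hcoc'
  refine ⟨u, ⟨hu₁, hu₂.symm⟩, ?_⟩
  rintro u' ⟨hu'₁, hu'₂⟩
  exact huniq u' ⟨hu'₁, hu'₂.symm⟩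

end Groth.Agent.S3709
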