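import Groth.Statements.S3720
import Groth.Agent.Lib.Helper20PrincCoverH90
import Mathlib

set_option autoImplicit false
open CategoryTheory CategoryTheory.Limits AlgebraicGeometry
universe u
open SGA1t

namespace Groth.Agent.S3720
open CategoryTheory CategoryTheory.Limits AlgebraicGeometry
open SGA1t Groth.Agent.Lib.Helper20 Groth.Agent.Lib.Helper20.PrincCover

section roots

variable {A : Type u} [CommRing A] [IsLocalRing A]

/-- in a local ring, a root of unity of invertible order congruent to 1 is 1 -/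
theorem eq_zero_of_one_add_pow (x : A) (hx : x ∈ IsLocalRing.maximalIdeal A) (e : ℕ)
    (he : IsUnit ((e : ℕ) : A)) (h : (1 + x) ^ e = 1) : x = 0 := by
  have h1 : x * ∑ j ∈ Finset.range e, (1 + x) ^ j = 0 := by
    have := mul_geom_sum (1 + x) e
    rw [h, sub_self] at this
    rw [← this]; ring
  have h2 : IsUnit (∑ j ∈ Finset.range e, (1 + x) ^ j) := by
    by_contra hnu
    have hm : (∑ j ∈ Finset.range e, (1 + x) ^ j) ∈ IsLocalRing.maximalIdeal A :=
      (IsLocalRing.mem_maximalIdeal _).mpr hnu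
    have hres := (IsLocalRing.residue_eq_zero_iff _).mpr hm
    rw [map_sum] at hres
    have hx0 : IsLocalRing.residue A x = 0 := (IsLocalRing.residue_eq_zero_iff x).mpr hx
    simp only [map_pow, map_add, map_one, hx0, add_zero, one_pow, Finset.sum_const,
      Finset.card_range, nsmul_eq_mul, mul_one] at hres
    have : IsLocalRing.residue A ((e : ℕ) : A) = 0 := by rw [map_natCast]; exact hres
    have hmem := (IsLocalRing.residue_eq_zero_iff _).mp this
    exact (IsLocalRing.mem_maximalIdeal _).mp hmem he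
  exact (h2.mul_left_eq_zero).mp h1

theorem residue_isPrimitiveRoot (n : ℕ) (hn1 : 1 ≤ n) (hn : IsUnit ((n : ℕ) : A)) (ζ₀ : A)
    (hζ₀ : IsPrimitiveRoot ζ₀ n) : IsPrimitiveRoot (IsLocalRing.residue A ζ₀) n := by
  set ζb := IsLocalRing.residue A ζ₀ with hζb
  have hpow : ζb ^ n = 1 := by rw [hζb, ← map_pow, hζ₀.pow_eq_one, map_one]
  have hd : orderOf ζb ∣ n := orderOf_dvd_of_pow_eq_one hpow
  obtain ⟨e, he⟩ := hd
  set d := orderOf ζb with hd'
  have hx : ζ₀ ^ d - 1 ∈ IsLocalRing.maximalIdeal A := by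
    rw [← IsLocalRing.residue_eq_zero_iff, map_sub, map_pow, map_one, ← hζb, hd',
      pow_orderOf_eq_one, sub_self]
  have heu : IsUnit ((e : ℕ) : A) := by
    have : ((n : ℕ) : A) = (d : A) * (e : A) := by rw [he]; push_cast; ring
    rw [this] at hn
    exact isUnit_of_mul_isUnit_right hn
  have h0 := eq_zero_of_one_add_pow (ζ₀ ^ d - 1) hx e heu (by
    rw [add_sub_cancel, ← pow_mul, ← he, hζ₀.pow_eq_one])
  have h1 : ζ₀ ^ d = 1 := by linear_combination h0
  have h2 : n ∣ d := hζ₀.dvd_of_pow_eq_one d h1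
  have h3 : d = n := Nat.dvd_antisymm ⟨e, he⟩ h2
  rw [← h3, hd']
  exact IsPrimitiveRoot.orderOf ζb

theorem isUnit_pow_sub_one (n : ℕ) (hn1 : 1 ≤ n) (hn : IsUnit ((n : ℕ) : A)) (ζ₀ : A)
    (hζ₀ : IsPrimitiveRoot ζ₀ n) (i : ℕ) (hi0 : 0 < i) (hin : i < n) : IsUnit (ζ₀ ^ i - 1) := by
  by_contra hnu
  have hm := (IsLocalRing.mem_maximalIdeal _).mpr hnu
  rw [← IsLocalRing.residue_eq_zero_iff, map_sub, map_pow, map_one, sub_eq_zero] at hm
  exact (residue_isPrimitiveRoot n hn1 hn ζ₀ hζ₀).pow_ne_one_of_pos_of_lt hi0.ne' hin hm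

/-- the image of a primitive root under any map to a field is primitive -/
theorem map_isPrimitiveRoot (n : ℕ) (hn1 : 1 ≤ n) (hn : IsUnit ((n : ℕ) : A)) (ζ₀ : A)
    (hζ₀ : IsPrimitiveRoot ζ₀ n) {Ω : Type*} [Field Ω] (ξ : A →+* Ω) :
    IsPrimitiveRoot (ξ ζ₀) n := by
  apply IsPrimitiveRoot.mk_of_lt _ hn1
  · rw [← map_pow, hζ₀.pow_eq_one, map_one]
  · intro l hl0 hln hl
    have hu := (isUnit_pow_sub_one n hn1 hn ζ₀ hζ₀ l hl0 hln).map ξ
    rw [map_sub, map_pow, map_one, hl, sub_self] at hu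
    exact not_isUnit_zero hu

/-- a root of unity of invertible order mapping to 1 in a field is 1 -/
theorem eq_one_of_map_eq_one (n : ℕ) (hn : IsUnit ((n : ℕ) : A)) (h : A) (hh : h ^ n = 1)
    {Ω : Type*} [Field Ω] (ξ : A →+* Ω) (hξ : ξ h = 1) : h = 1 := by
  have hx : h - 1 ∈ IsLocalRing.maximalIdeal A := by
    rw [IsLocalRing.mem_maximalIdeal]
    intro hu
    have := hu.map ξ
    rw [map_sub, hξ, map_one, sub_self] at this
    exact not_isUnit_zero this
  have h0 := eq_zero_of_one_add_pow (h - 1) hx n hn (by rw [add_sub_cancel, hh])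
  linear_combination h0

end roots

section kummer

variable {A B : Type u} [CommRing A] [CommRing B] {φ : A →+* B} (n : ℕ)

/-- the comparison map -/
noncomputable def kHom (θ : B) (a : A) (ha : φ a = θ ^ n) :
    kummer A (fun _ : Unit => a) (fun _ => n) →+* B :=
  Ideal.Quotient.lift _ (MvPolynomial.eval₂Hom φ (fun _ => θ)) (by
    intro g hg
    have hle : Ideal.span (Set.range fun i : Unit =>
        (MvPolynomial.X i : MvPolynomial Unit A) ^ n - MvPolynomial.C a) ≤
        RingHom.ker (MvPolynomial.eval₂Hom φ (fun _ => θ)) := by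
      rw [Ideal.span_le]
      rintro _ ⟨i, rfl⟩
      simp [ha]
    exact hle hg)

theorem kHom_X (θ : B) (a : A) (ha : φ a = θ ^ n) (i : Unit) :
    kHom n θ a ha (Ideal.Quotient.mk _ (MvPolynomial.X i)) = θ := by
  simp [kHom]

theorem kHom_C (θ : B) (a : A) (ha : φ a = θ ^ n) (x : A) :
    kHom n θ a ha (Ideal.Quotient.mk _ (MvPolynomial.C x)) = φ x := by
  simp [kHom]

theorem kHom_algebraMap (θ : B) (a : A) (ha : φ a = θ ^ n) :
    (kHom n θ a ha).comp (algebraMap A (kummer A (fun _ : Unit => a) (fun _ => n))) = φ := by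
  ext x
  exact kHom_C n θ a ha x

theorem k_ringHom_ext {a : A} {R : Type*} [Semiring R]
    (f g : kummer A (fun _ : Unit => a) (fun _ => n) →+* R)
    (hC : ∀ x, f (Ideal.Quotient.mk _ (MvPolynomial.C x)) = g (Ideal.Quotient.mk _ (MvPolynomial.C x)))
    (hX : ∀ i, f (Ideal.Quotient.mk _ (MvPolynomial.X i)) = g (Ideal.Quotient.mk _ (MvPolynomial.X i))) :
    f = g := by
  apply Ideal.Quotient.ringHom_ext
  apply MvPolynomial.ringHom_ext
  · exact hC
  · exact hX

theorem twist_mk (a : A) (ζ : rootsOfUnity n A) (q : MvPolynomial Unit A) :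
    kummerTwist A (fun _ : Unit => a) (fun _ => n) (fun _ => ζ) (Ideal.Quotient.mk _ q) =
      Ideal.Quotient.mk _ (MvPolynomial.aeval (R := A)
        (fun i : Unit => MvPolynomial.C (((ζ : Aˣ) : A)) * MvPolynomial.X i) q) := rfl

theorem kHom_equivariant {σ : rootsOfUnity n A → B →+* B} (θ : B) (a : A) (ha : φ a = θ ^ n)
    (hθ : ∀ g : rootsOfUnity n A, σ g θ = φ ((g : Aˣ) : A) * θ)
    (hbase : ∀ g, (σ g).comp φ = φ) (ζ : rootsOfUnity n A) :
    (kHom n θ a ha).comp (kummerTwist A (fun _ : Unit => a) (fun _ => n) (fun _ => ζ)) =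
      (σ ζ).comp (kHom n θ a ha) := by
  apply k_ringHom_ext
  · intro x
    rw [RingHom.comp_apply, RingHom.comp_apply, twist_mk, MvPolynomial.aeval_C, kHom_C]
    rw [MvPolynomial.algebraMap_eq, kHom_C]
    exact (RingHom.congr_fun (hbase _) x).symm
  · intro i
    rw [RingHom.comp_apply, RingHom.comp_apply, twist_mk, MvPolynomial.aeval_X, kHom_X, hθ, map_mul,
      map_mul, kHom_X, kHom_C]

open Polynomial in
theorem k_etale (hn1 : 1 ≤ n) (hn : IsUnit ((n : ℕ) : A)) (a : A) (ha : IsUnit a) :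
    (algebraMap A (kummer A (fun _ : Unit => a) (fun _ => n))).Etale := by
  rw [RingHom.etale_algebraMap]
  obtain ⟨u, hu⟩ := hn
  obtain ⟨v, hv⟩ := ha
  set f : A[X] := X ^ n - C a with hf
  have hmonic : f.Monic := monic_X_pow_sub_C a (by omega)
  haveI : Algebra.Etale A (AdjoinRoot f) := by
    refine etale_adjoinRoot f hmonic (C ((u⁻¹ : Aˣ) * (v⁻¹ : Aˣ) : A) * X) (-C ((v⁻¹ : Aˣ) : A)) ?_
    have h1 : derivative f = C (n : A) * X ^ (n - 1) := by
      rw [hf, derivative_sub, derivative_X_pow, derivative_C, sub_zero]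
    have h2 : (X : A[X]) ^ (n - 1) * X = X ^ n := by
      rw [← pow_succ]; congr 1; omega
    have h3 : (n : A) * ((u⁻¹ : Aˣ) * (v⁻¹ : Aˣ) : A) = ((v⁻¹ : Aˣ) : A) := by
      rw [← hu, ← mul_assoc, Units.mul_inv, one_mul]
    have h4 : a * ((v⁻¹ : Aˣ) : A) = 1 := by rw [← hv, Units.mul_inv]
    calc derivative f * (C ((u⁻¹ : Aˣ) * (v⁻¹ : Aˣ) : A) * X) + f * (-C ((v⁻¹ : Aˣ) : A))
        = C ((n : A) * ((u⁻¹ : Aˣ) * (v⁻¹ : Aˣ) : A)) * (X ^ (n - 1) * X) -
          (X ^ n - C a) * C ((v⁻¹ : Aˣ) : A) := by rw [h1, hf]; simp only [C_mul]; ring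
      _ = C (a * ((v⁻¹ : Aˣ) : A)) := by rw [h2, h3]; simp only [C_mul]; ring
      _ = 1 := by rw [h4, C_1]
  let I : Ideal (MvPolynomial Unit A) := Ideal.span (Set.range fun i : Unit =>
        (MvPolynomial.X i : MvPolynomial Unit A) ^ n - MvPolynomial.C a)
  let toA : (MvPolynomial Unit A ⧸ I) →ₐ[A] AdjoinRoot f :=
    Ideal.Quotient.liftₐ I (MvPolynomial.aeval (fun _ => AdjoinRoot.root f)) (by
      intro q hq
      have hle : I ≤ RingHom.ker (MvPolynomial.aeval (R := A) (fun _ : Unit => AdjoinRoot.root f)) := by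
        rw [Ideal.span_le]
        rintro _ ⟨i, rfl⟩
        rw [SetLike.mem_coe, RingHom.mem_ker, map_sub, map_pow, MvPolynomial.aeval_X,
          MvPolynomial.aeval_C]
        have := AdjoinRoot.eval₂_root f
        rw [hf, eval₂_sub, eval₂_X_pow, eval₂_C] at this
        exact this
      exact hle hq)
  let invA : AdjoinRoot f →ₐ[A] (MvPolynomial Unit A ⧸ I) :=
    AdjoinRoot.liftAlgHom f (Algebra.ofId A _) (Ideal.Quotient.mk I (MvPolynomial.X ())) (by
      rw [hf, eval₂_sub, eval₂_X_pow, eval₂_C]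
      change (Ideal.Quotient.mk I (MvPolynomial.X ())) ^ n - Ideal.Quotient.mk I (MvPolynomial.C a) = 0
      rw [← map_pow, ← map_sub]
      exact Ideal.Quotient.eq_zero_iff_mem.mpr (Ideal.subset_span ⟨(), rfl⟩))
  let e : (MvPolynomial Unit A ⧸ I) ≃ₐ[A] AdjoinRoot f :=
    AlgEquiv.ofAlgHom toA invA
      (by
        apply AdjoinRoot.algHom_ext
        simp [toA, invA])
      (by
        apply Ideal.Quotient.algHom_ext
        apply MvPolynomial.algHom_ext
        intro i
        simp [toA, invA])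
  exact Algebra.Etale.of_equiv e.symm

end kummer


section points

variable {A B : Type u} [CommRing A] [CommRing B] {φ : A →+* B} [IsLocalRing A] (n : ℕ)
  {σ : rootsOfUnity n A → B →+* B}

theorem k_points (hn1 : 1 ≤ n) (hn : IsUnit ((n : ℕ) : A)) (ζ₀ : A) (hζ₀ : IsPrimitiveRoot ζ₀ n)
    (h : IsAlgTorsor φ σ) (θ : B) (hθu : IsUnit θ) (a : A) (ha : φ a = θ ^ n)
    (hθ : ∀ g : rootsOfUnity n A, σ g θ = φ ((g : Aˣ) : A) * θ)
    (Ω : Type u) [Field Ω] [IsAlgClosed Ω] (t : kummer A (fun _ : Unit => a) (fun _ => n) →+* Ω) :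
    ∃! s : B →+* Ω, s.comp (kHom n θ a ha) = t := by
  haveI : NeZero n := ⟨by omega⟩
  set ξ : A →+* Ω := t.comp (algebraMap A (kummer A (fun _ : Unit => a) (fun _ => n))) with hξ
  obtain ⟨s₀, hs₀⟩ := h.lift Ω ξ
  have hs₀' : ∀ x, s₀ (φ x) = ξ x := fun x => by rw [← hs₀]; rfl
  set r : Ω := t (Ideal.Quotient.mk _ (MvPolynomial.X ())) with hr
  have hr1 : r ^ n = ξ a := by
    have h0 : t (Ideal.Quotient.mk _
        ((MvPolynomial.X () : MvPolynomial Unit A) ^ n - MvPolynomial.C a)) = 0 := by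
      have hmem : ((MvPolynomial.X () : MvPolynomial Unit A) ^ n - MvPolynomial.C a) ∈
          Ideal.span (Set.range fun i : Unit =>
            (MvPolynomial.X i : MvPolynomial Unit A) ^ n - MvPolynomial.C a) :=
        Ideal.subset_span ⟨(), rfl⟩
      rw [Ideal.Quotient.eq_zero_iff_mem.mpr hmem, map_zero]
    simp only [map_sub, map_pow] at h0
    have : t (Ideal.Quotient.mk _ (MvPolynomial.C a)) = ξ a := rfl
    rw [this] at h0
    linear_combination h0
  have hr2 : (s₀ θ) ^ n = ξ a := by rw [← map_pow, ← ha, hs₀']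
  have hr0 : s₀ θ ≠ 0 := (hθu.map s₀).ne_zero
  have hr3 : (r / s₀ θ) ^ n = 1 := by
    rw [div_pow, hr1, hr2, div_self]
    rw [← hr2]; exact pow_ne_zero _ hr0
  have hprim := map_isPrimitiveRoot n hn1 hn ζ₀ hζ₀ ξ
  obtain ⟨i, -, hi⟩ := hprim.eq_pow_of_pow_eq_one hr3
  let g₀ : rootsOfUnity n A := hζ₀.toRootsOfUnity
  have hg₀ : ((g₀ : Aˣ) : A) = ζ₀ := rfl
  let g : rootsOfUnity n A := g₀ ^ i
  have hg : ((g : Aˣ) : A) = ζ₀ ^ i := by
    change (((g₀ ^ i : rootsOfUnity n A) : Aˣ) : A) = _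
    rw [Subgroup.coe_pow, Units.val_pow_eq_pow_val, hg₀]
  have hs : (s₀.comp (σ g)).comp (kHom n θ a ha) = t := by
    apply k_ringHom_ext
    · intro x
      rw [RingHom.comp_apply, RingHom.comp_apply, kHom_C]
      have h1 : σ g (φ x) = φ x := RingHom.congr_fun (h.comp_base _) x
      rw [h1, hs₀']; rfl
    · intro i'
      rw [RingHom.comp_apply, RingHom.comp_apply, kHom_X, hθ, map_mul, hs₀', hg, map_pow, hi,
        div_mul_cancel₀ _ hr0]
  refine ⟨s₀.comp (σ g), hs, ?_⟩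
  intro s' hs'
  set s := s₀.comp (σ g) with hsdef
  have h1 : s.comp φ = s'.comp φ := by
    rw [← kHom_algebraMap n θ a ha, ← RingHom.comp_assoc, ← RingHom.comp_assoc, hs, hs']
  obtain ⟨k, hk, -⟩ := h.torsor Ω s s' h1
  have h2 : s' θ = s θ := by
    have e1 := RingHom.congr_fun hs' (Ideal.Quotient.mk _ (MvPolynomial.X ()))
    have e2 := RingHom.congr_fun hs (Ideal.Quotient.mk _ (MvPolynomial.X ()))
    rw [RingHom.comp_apply, kHom_X] at e1 e2
    rw [e1, e2]
  have e3 : s.comp φ = ξ := by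
    rw [← kHom_algebraMap n θ a ha, ← RingHom.comp_assoc, hs]
  have h3 : s' θ = ξ ((k : Aˣ) : A) * s θ := by
    rw [← hk, RingHom.comp_apply, hθ, map_mul]
    congr 1
    rw [← e3]; rfl
  have hsθ : s θ ≠ 0 := (hθu.map s).ne_zero
  have h4 : ξ ((k : Aˣ) : A) = 1 := by
    rw [h2] at h3
    have : (ξ ((k : Aˣ) : A) - 1) * s θ = 0 := by linear_combination -h3
    rcases mul_eq_zero.mp this with h5 | h5
    · linear_combination h5
    · exact absurd h5 hsθ
  have hkn : (((k : Aˣ) : A)) ^ n = 1 := by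
    have := (mem_rootsOfUnity n (k : Aˣ)).mp k.2
    have h3 := congrArg Units.val this
    simpa using h3
  have h5 : ((k : Aˣ) : A) = 1 := eq_one_of_map_eq_one n hn _ hkn ξ h4
  have h6 : k = 1 := by
    apply Subtype.ext
    apply Units.ext
    exact h5
  rw [← hk, h6, h.map_one, RingHom.comp_id]

end points

section final

variable (A : Type u) [CommRing A] [IsLocalRing A] (n : ℕ)


/-- Kummer theory over a local ring: let A be a local ring, n ≥ 1 an integer invertible in A, and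
suppose A contains a primitive n-th root of unity (so that the group μ_n(A) of n-th roots of unity
in A is cyclic of order n). Then every principal μ_n(A)-cover P of Spec A is isomorphic over Spec A
to a Kummer cover Spec A[T]/(Tⁿ − a) for some unit a of A, compatibly with the actions: the given
action of a root of unity ζ on P corresponds to the automorphism of A[T]/(Tⁿ − a) induced by T ↦ ζT. -/
theorem result (A : Type u) [CommRing A] [IsLocalRing A] (n : ℕ) (hn1 : 1 ≤ n)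
    (hn : IsUnit ((n : ℕ) : A)) (ζ₀ : A) (hζ₀ : IsPrimitiveRoot ζ₀ n)
    (P : FEt.Cat (Spec (CommRingCat.of A))) (ρ : ↥(rootsOfUnity n A) →* Aut P)
    (hP : SGA1t.IsPrincipal ↥(rootsOfUnity n A) P ρ) :
    ∃ (a : Aˣ) (e : P.left ≅ Spec (CommRingCat.of (SGA1t.kummer A (fun _ : Unit => (a : A)) (fun _ => n)))),
      e.hom ≫ Spec.map (CommRingCat.ofHom (algebraMap A (SGA1t.kummer A (fun _ : Unit => (a : A)) (fun _ => n)))) = P.hom ∧
      ∀ ζ : ↥(rootsOfUnity n A), (ρ ζ).hom.left ≫ e.hom =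
        e.hom ≫ Spec.map (CommRingCat.ofHom (SGA1t.kummerTwist A (fun _ : Unit => (a : A)) (fun _ => n) (fun _ => ζ))) := by
  haveI : Nonempty (Spec (CommRingCat.of A)) := ⟨IsLocalRing.closedPoint A⟩
  haveI : Finite (rootsOfUnity n A) := finite_of_isPrincipal hP
  letI : Fintype (rootsOfUnity n A) := Fintype.ofFinite _
  have T := isAlgTorsor_of_isPrincipal hP
  obtain ⟨θ, hθ⟩ := T.exists_eigen_unit (Subgroup.subtype (rootsOfUnity n A))
  have hθ' : ∀ g : rootsOfUnity n A, sig P ρ g (θ : Γ(P.left, ⊤)) =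
      baseHom P ((g : Aˣ) : A) * (θ : Γ(P.left, ⊤)) := hθ
  have hroot : ∀ g : rootsOfUnity n A, (((g : Aˣ) : A)) ^ n = 1 := by
    intro g
    have := (mem_rootsOfUnity n (g : Aˣ)).mp g.2
    have h3 := congrArg Units.val this
    simpa using h3
  obtain ⟨a₀, ha₀⟩ := T.inv ((θ : Γ(P.left, ⊤)) ^ n) (fun g => by
    rw [map_pow, hθ', mul_pow, ← map_pow, hroot, map_one, one_mul])
  have ha₀u : IsUnit a₀ := by
    let k := IsLocalRing.ResidueField A
    let Ω := AlgebraicClosure k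
    let ξ : A →+* Ω := (algebraMap k Ω).comp (IsLocalRing.residue A)
    obtain ⟨s₀, hs₀⟩ := T.lift Ω ξ
    by_contra hna
    have h1 : IsLocalRing.residue A a₀ = 0 := (IsLocalRing.residue_eq_zero_iff a₀).mpr
      ((IsLocalRing.mem_maximalIdeal a₀).mpr hna)
    have h2 : ξ a₀ = 0 := by
      change algebraMap k Ω (IsLocalRing.residue A a₀) = 0
      rw [h1, map_zero]
    have h3 : s₀ (baseHom P a₀) = 0 := by rw [← h2, ← hs₀]; rfl
    rw [ha₀, map_pow] at h3
    have h4 : IsUnit (s₀ (θ : Γ(P.left, ⊤))) := (Units.isUnit θ).map s₀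
    exact (h4.pow n).ne_zero h3
  obtain ⟨a, rfl⟩ := ha₀u
  have hbij := bijective_of_geomPoints (baseHom P) (algebraMap A _)
    (kHom n (θ : Γ(P.left, ⊤)) (a : A) ha₀)
    (kHom_algebraMap n _ (a : A) ha₀) (baseHom_etale P) (k_etale n hn1 hn (a : A) (Units.isUnit a))
    (k_points n hn1 hn ζ₀ hζ₀ T _ (Units.isUnit θ) (a : A) ha₀ hθ')
  haveI : IsIso (CommRingCat.ofHom (kHom n (θ : Γ(P.left, ⊤)) (a : A) ha₀)) :=
    (ConcreteCategory.isIso_iff_bijective _).mpr hbij
  let e : P.left ≅ Spec (CommRingCat.of (SGA1t.kummer A (fun _ : Unit => (a : A)) (fun _ => n))) :=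
    P.left.isoSpec ≪≫ asIso (Spec.map (CommRingCat.ofHom (kHom n (θ : Γ(P.left, ⊤)) (a : A) ha₀)))
  refine ⟨a, e, ?_, ?_⟩
  · change (P.left.isoSpec.hom ≫ Spec.map (CommRingCat.ofHom (kHom n _ (a : A) ha₀))) ≫ _ = _
    rw [Category.assoc, ← Spec.map_comp, ← CommRingCat.ofHom_comp, kHom_algebraMap]
    exact (hom_eq P).symm
  · intro ζ
    change (act P ρ ζ).hom ≫
      (P.left.isoSpec.hom ≫ Spec.map (CommRingCat.ofHom (kHom n _ (a : A) ha₀))) =
      (P.left.isoSpec.hom ≫ Spec.map (CommRingCat.ofHom (kHom n _ (a : A) ha₀))) ≫ _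
    rw [← Category.assoc, act_isoSpec, Category.assoc, Category.assoc, ← Spec.map_comp,
      ← Spec.map_comp, ← CommRingCat.ofHom_comp, ← CommRingCat.ofHom_comp]
    congr 3
    exact (kHom_equivariant n _ (a : A) ha₀ hθ' T.comp_base ζ).symm

end final

end Groth.Agent.S3720
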