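import Groth.Statements.S3721
import Groth.Agent.Lib.Helper20PrincCoverTrace
import Mathlib

set_option autoImplicit false
open CategoryTheory CategoryTheory.Limits AlgebraicGeometry
universe u
open SGA1t

namespace Groth.Agent.S3721
open CategoryTheory CategoryTheory.Limits AlgebraicGeometry
open SGA1t Groth.Agent.Lib.Helper20 Groth.Agent.Lib.Helper20.PrincCover

section alg

variable {A B : Type u} [CommRing A] [CommRing B] {φ : A →+* B} (p : ℕ) [Fact p.Prime] [CharP A p]
  {σ : Multiplicative (ZMod p) → B →+* B}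

theorem exists_theta (h : IsAlgTorsor φ σ) : ∃ θ : B, ∀ j : ZMod p,
    σ (Multiplicative.ofAdd j) θ = θ + φ (ZMod.castHom (dvd_refl p) A j) := by
  obtain ⟨c, hc⟩ := h.exists_sum_eq_one
  have hc' : ∑ k : ZMod p, σ (Multiplicative.ofAdd k) c = 1 := by
    rw [← hc]
    exact Fintype.sum_equiv Multiplicative.ofAdd _ _ (fun _ => rfl)
  refine ⟨-∑ i : ZMod p, φ (ZMod.castHom (dvd_refl p) A i) * σ (Multiplicative.ofAdd i) c, ?_⟩
  intro j
  rw [map_neg, map_sum]
  have h1 : ∀ i : ZMod p, σ (Multiplicative.ofAdd j)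
      (φ (ZMod.castHom (dvd_refl p) A i) * σ (Multiplicative.ofAdd i) c) =
      φ (ZMod.castHom (dvd_refl p) A ((i + j) - j)) * σ (Multiplicative.ofAdd (i + j)) c := by
    intro i
    rw [map_mul, add_sub_cancel_right]
    congr 1
    · exact RingHom.congr_fun (h.comp_base _) _
    · rw [ofAdd_add, h.map_mul]; rfl
  simp_rw [h1]
  rw [Fintype.sum_equiv (Equiv.addRight j)
    (fun i => φ (ZMod.castHom (dvd_refl p) A ((i + j) - j)) * σ (Multiplicative.ofAdd (i + j)) c)
    (fun k => φ (ZMod.castHom (dvd_refl p) A (k - j)) * σ (Multiplicative.ofAdd k) c)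
    (fun i => rfl)]
  simp_rw [map_sub, sub_mul]
  rw [Finset.sum_sub_distrib, ← Finset.mul_sum, hc', mul_one]
  ring

theorem exists_a (h : IsAlgTorsor φ σ) (θ : B) (hθ : ∀ j : ZMod p,
    σ (Multiplicative.ofAdd j) θ = θ + φ (ZMod.castHom (dvd_refl p) A j)) :
    ∃ a : A, φ a = θ ^ p - θ := by
  haveI : Nontrivial A := CharP.nontrivial_of_char_ne_one (R := A) (v := p) (Fact.out : p.Prime).ne_one
  haveI : Nontrivial B := h.nontrivial_of_nontrivial
  haveI : CharP B p := by
    rw [CharP.charP_iff_prime_eq_zero (Fact.out : p.Prime)]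
    have : ((p : A) : A) = 0 := CharP.cast_eq_zero A p
    have h2 := congrArg φ this
    rwa [map_natCast, map_zero] at h2
  apply h.inv
  intro g
  obtain ⟨j, rfl⟩ : ∃ j : ZMod p, Multiplicative.ofAdd j = g := ⟨Multiplicative.toAdd g, rfl⟩
  rw [map_sub, map_pow, hθ, add_pow_char, ← map_pow, ← map_pow, ZMod.pow_card]
  ring

/-- the comparison map -/
noncomputable def asHom (θ : B) (a : A) (ha : φ a = θ ^ p - θ) : artinSchreier A p a →+* B :=
  Ideal.Quotient.lift _ (Polynomial.eval₂RingHom φ θ) (by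
    intro g hg
    have hle : Ideal.span {(Polynomial.X : Polynomial A) ^ p - Polynomial.X - Polynomial.C a} ≤
        RingHom.ker (Polynomial.eval₂RingHom φ θ) := by
      rw [Ideal.span_le, Set.singleton_subset_iff, SetLike.mem_coe, RingHom.mem_ker]
      simp [ha]
    exact hle hg)

omit [Fact p.Prime] [CharP A p] in
theorem asHom_X (θ : B) (a : A) (ha : φ a = θ ^ p - θ) :
    asHom p θ a ha (Ideal.Quotient.mk _ Polynomial.X) = θ := by
  simp [asHom]

omit [Fact p.Prime] [CharP A p] in
theorem asHom_C (θ : B) (a : A) (ha : φ a = θ ^ p - θ) (x : A) :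
    asHom p θ a ha (Ideal.Quotient.mk _ (Polynomial.C x)) = φ x := by
  simp [asHom]

omit [Fact p.Prime] [CharP A p] in
theorem asHom_algebraMap (θ : B) (a : A) (ha : φ a = θ ^ p - θ) :
    (asHom p θ a ha).comp (algebraMap A (artinSchreier A p a)) = φ := by
  ext x
  exact asHom_C p θ a ha x

omit [Fact p.Prime] [CharP A p] in
theorem as_ringHom_ext {a : A} {R : Type*} [Semiring R] (f g : artinSchreier A p a →+* R)
    (hC : ∀ x, f (Ideal.Quotient.mk _ (Polynomial.C x)) = g (Ideal.Quotient.mk _ (Polynomial.C x)))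
    (hX : f (Ideal.Quotient.mk _ Polynomial.X) = g (Ideal.Quotient.mk _ Polynomial.X)) : f = g := by
  apply Ideal.Quotient.ringHom_ext
  apply Polynomial.ringHom_ext
  · exact hC
  · exact hX

theorem shift_mk (a : A) (j : ZMod p) (q : Polynomial A) :
    artinSchreierShift A p a j (Ideal.Quotient.mk _ q) =
      Ideal.Quotient.mk _ (Polynomial.aeval (R := A)
        (Polynomial.X + Polynomial.C ((ZMod.castHom (dvd_refl p) A) j)) q) := rfl

theorem asHom_equivariant (θ : B) (a : A) (ha : φ a = θ ^ p - θ) (hθ : ∀ j : ZMod p,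
    σ (Multiplicative.ofAdd j) θ = θ + φ (ZMod.castHom (dvd_refl p) A j))
    (hbase : ∀ g, (σ g).comp φ = φ) (j : ZMod p) :
    (asHom p θ a ha).comp (artinSchreierShift A p a j) =
      (σ (Multiplicative.ofAdd j)).comp (asHom p θ a ha) := by
  apply as_ringHom_ext
  · intro x
    rw [RingHom.comp_apply, RingHom.comp_apply, shift_mk, Polynomial.aeval_C, asHom_C]
    rw [Polynomial.algebraMap_eq, asHom_C]
    exact (RingHom.congr_fun (hbase _) x).symm
  · rw [RingHom.comp_apply, RingHom.comp_apply, shift_mk, Polynomial.aeval_X, asHom_X, hθ, map_add,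
      map_add, asHom_X, asHom_C]

theorem as_points (h : IsAlgTorsor φ σ) (θ : B) (a : A) (ha : φ a = θ ^ p - θ) (hθ : ∀ j : ZMod p,
    σ (Multiplicative.ofAdd j) θ = θ + φ (ZMod.castHom (dvd_refl p) A j))
    (Ω : Type u) [Field Ω] [IsAlgClosed Ω] (t : artinSchreier A p a →+* Ω) :
    ∃! s : B →+* Ω, s.comp (asHom p θ a ha) = t := by
  set ξ : A →+* Ω := t.comp (algebraMap A (artinSchreier A p a)) with hξ
  haveI : CharP Ω p := by
    rw [CharP.charP_iff_prime_eq_zero (Fact.out : p.Prime)]
    have : ((p : A) : A) = 0 := CharP.cast_eq_zero A p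
    have h2 := congrArg ξ this
    rwa [map_natCast, map_zero] at h2
  have hcast : ∀ k : ZMod p, ξ (ZMod.castHom (dvd_refl p) A k) = ZMod.castHom (dvd_refl p) Ω k := by
    intro k
    have : ξ.comp (ZMod.castHom (dvd_refl p) A) = ZMod.castHom (dvd_refl p) Ω := Subsingleton.elim _ _
    exact RingHom.congr_fun this k
  obtain ⟨s₀, hs₀⟩ := h.lift Ω ξ
  set r : Ω := t (Ideal.Quotient.mk _ Polynomial.X) with hr
  have hr1 : r ^ p = r + ξ a := by
    have h0 : t (Ideal.Quotient.mk _
        ((Polynomial.X : Polynomial A) ^ p - Polynomial.X - Polynomial.C a)) = 0 := by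
      rw [Ideal.Quotient.eq_zero_iff_mem.mpr (Ideal.subset_span (Set.mem_singleton _)), map_zero]
    simp only [map_sub, map_pow] at h0
    have : t (Ideal.Quotient.mk _ (Polynomial.C a)) = ξ a := rfl
    rw [this] at h0
    linear_combination h0
  have hr2 : (s₀ θ) ^ p = s₀ θ + ξ a := by
    have : s₀ (φ a) = ξ a := by rw [← hs₀]; rfl
    rw [ha, map_sub, map_pow] at this
    linear_combination this
  have hr3 : (r - s₀ θ) ^ p = r - s₀ θ := by
    rw [sub_pow_char, hr1, hr2]; ring
  obtain ⟨j, hj⟩ : ∃ j : ZMod p, ZMod.castHom (dvd_refl p) Ω j = r - s₀ θ := by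
    have := (Subfield.mem_bot_iff_pow_eq_self Ω p).mpr hr3
    rw [← ZMod.fieldRange_castHom_eq_bot p] at this
    exact this
  have hs : (s₀.comp (σ (Multiplicative.ofAdd j))).comp (asHom p θ a ha) = t := by
    apply as_ringHom_ext
    · intro x
      rw [RingHom.comp_apply, RingHom.comp_apply, asHom_C]
      have h1 : σ (Multiplicative.ofAdd j) (φ x) = φ x := RingHom.congr_fun (h.comp_base _) x
      rw [h1]
      have : s₀ (φ x) = ξ x := by rw [← hs₀]; rfl
      rw [this]; rfl
    · rw [RingHom.comp_apply, RingHom.comp_apply, asHom_X, hθ, map_add]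
      have : s₀ (φ (ZMod.castHom (dvd_refl p) A j)) = ξ (ZMod.castHom (dvd_refl p) A j) := by
        rw [← hs₀]; rfl
      rw [this, hcast, hj, ← hr]; ring
  refine ⟨s₀.comp (σ (Multiplicative.ofAdd j)), hs, ?_⟩
  intro s' hs'
  set s := s₀.comp (σ (Multiplicative.ofAdd j)) with hsdef
  have h1 : s.comp φ = s'.comp φ := by
    rw [← asHom_algebraMap p θ a ha, ← RingHom.comp_assoc, ← RingHom.comp_assoc, hs, hs']
  obtain ⟨g, hg, -⟩ := h.torsor Ω s s' h1
  obtain ⟨k, rfl⟩ : ∃ k : ZMod p, Multiplicative.ofAdd k = g := ⟨Multiplicative.toAdd g, rfl⟩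
  have h2 : s' θ = s θ := by
    have e1 := RingHom.congr_fun hs' (Ideal.Quotient.mk _ Polynomial.X)
    have e2 := RingHom.congr_fun hs (Ideal.Quotient.mk _ Polynomial.X)
    rw [RingHom.comp_apply, asHom_X] at e1 e2
    rw [e1, e2]
  have h3 : s' θ = s θ + ZMod.castHom (dvd_refl p) Ω k := by
    rw [← hg, RingHom.comp_apply, hθ, map_add]
    congr 1
    have : s (φ (ZMod.castHom (dvd_refl p) A k)) = ξ (ZMod.castHom (dvd_refl p) A k) := by
      have e3 : s.comp φ = ξ := by
        rw [← asHom_algebraMap p θ a ha, ← RingHom.comp_assoc, hs]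
      rw [← e3]; rfl
    rw [this, hcast]
  have h4 : ZMod.castHom (dvd_refl p) Ω k = 0 := by
    rw [h2] at h3
    linear_combination -h3
  have h5 : k = 0 := (ZMod.castHom (dvd_refl p) Ω).injective (by rw [h4, map_zero])
  rw [← hg, h5, ofAdd_zero, h.map_one, RingHom.comp_id]

end alg

section final

variable (A : Type u) [CommRing A] (p : ℕ) [Fact p.Prime] [CharP A p]

theorem as_etale (a : A) : (algebraMap A (artinSchreier A p a)).Etale := by
  rw [RingHom.etale_algebraMap]
  have hp : (p : A) = 0 := CharP.cast_eq_zero A p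
  have hp1 : 1 < p := (Fact.out : p.Prime).one_lt
  haveI : Nontrivial A :=
    CharP.nontrivial_of_char_ne_one (R := A) (v := p) (Fact.out : p.Prime).ne_one
  refine etale_adjoinRoot ((Polynomial.X : Polynomial A) ^ p - Polynomial.X - Polynomial.C a) ?_
    (-1) 0 ?_
  · rw [sub_sub]
    apply Polynomial.monic_X_pow_sub
    rw [Polynomial.degree_X_add_C]
    exact_mod_cast hp1
  · simp [Polynomial.derivative_X_pow]


/-- Let p be a prime and A a commutative ring of characteristic p. Then every principal ℤ/p-cover P of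
Spec A (a finite étale cover with an action of ℤ/p making it a torsor) is isomorphic over Spec A to
an Artin–Schreier cover Spec A[T]/(T^p − T − a) for some a ∈ A, compatibly with the actions: under
the isomorphism the given action of j ∈ ℤ/p on P corresponds to the automorphism of the
Artin–Schreier cover induced by T ↦ T + j. The published statement is for any base S of
characteristic p on which Frobenius fixes no nonzero element of H¹(S, O_S); it is stated here for S
= Spec A affine. -/
theorem result (A : Type u) [CommRing A] (p : ℕ) [Fact p.Prime] [CharP A p]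
    (P : FEt.Cat (Spec (CommRingCat.of A))) (ρ : Multiplicative (ZMod p) →* Aut P)
    (hP : SGA1t.IsPrincipal (Multiplicative (ZMod p)) P ρ) :
    ∃ (a : A) (e : P.left ≅ Spec (CommRingCat.of (SGA1t.artinSchreier A p a))),
      e.hom ≫ Spec.map (CommRingCat.ofHom (algebraMap A (SGA1t.artinSchreier A p a))) = P.hom ∧
      ∀ j : ZMod p, (ρ (Multiplicative.ofAdd j)).hom.left ≫ e.hom =
        e.hom ≫ Spec.map (CommRingCat.ofHom (SGA1t.artinSchreierShift A p a j)) := by
  let e₀ : ULift.{u} (Multiplicative (ZMod p)) ≃* Multiplicative (ZMod p) := MulEquiv.ulift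
  have hP' := isPrincipal_comp_mulEquiv e₀ hP
  have T' := isAlgTorsor_of_isPrincipal hP'
  have T := T'.comp_mulEquiv e₀.symm
  obtain ⟨θ, hθ⟩ := exists_theta p T
  obtain ⟨a, ha⟩ := exists_a p T θ hθ
  have hbij := bijective_of_geomPoints (baseHom P) (algebraMap A _) (asHom p θ a ha)
    (asHom_algebraMap p θ a ha) (baseHom_etale P) (as_etale A p a) (as_points p T θ a ha hθ)
  haveI : IsIso (CommRingCat.ofHom (asHom p θ a ha)) :=
    (ConcreteCategory.isIso_iff_bijective _).mpr hbij
  let e : P.left ≅ Spec (CommRingCat.of (SGA1t.artinSchreier A p a)) :=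
    P.left.isoSpec ≪≫ asIso (Spec.map (CommRingCat.ofHom (asHom p θ a ha)))
  refine ⟨a, e, ?_, ?_⟩
  · change (P.left.isoSpec.hom ≫ Spec.map (CommRingCat.ofHom (asHom p θ a ha))) ≫ _ = _
    rw [Category.assoc, ← Spec.map_comp, ← CommRingCat.ofHom_comp, asHom_algebraMap]
    exact (hom_eq P).symm
  · intro j
    change (act P (ρ.comp e₀.toMonoidHom) ⟨Multiplicative.ofAdd j⟩).hom ≫
      (P.left.isoSpec.hom ≫ Spec.map (CommRingCat.ofHom (asHom p θ a ha))) =
      (P.left.isoSpec.hom ≫ Spec.map (CommRingCat.ofHom (asHom p θ a ha))) ≫ _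
    rw [← Category.assoc, act_isoSpec, Category.assoc, Category.assoc, ← Spec.map_comp,
      ← Spec.map_comp, ← CommRingCat.ofHom_comp, ← CommRingCat.ofHom_comp]
    congr 3
    exact (asHom_equivariant p θ a ha hθ T.comp_base j).symm

end final

end Groth.Agent.S3721
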