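import Groth.Statements.S3731
import Mathlib
import Groth.Agent.Lib.Helper21DTrunc

set_option autoImplicit false
universe u v
open CategoryTheory CategoryTheory.Limits
attribute [local instance] HasDerivedCategory.standard
open EtDl

namespace Groth.Agent.S3731

open CategoryTheory Limits Pretriangulated DerivedCategory
open Groth.Agent.S14388 Groth.Agent.Lib.Helper21.DTrunc

/-- Let A be an abelian category, k ≥ 0, and K_0 -> K_1 -> ... -> K_{2k} a chain of 2k morphisms in the
derived category of A such that every K_i has H^p(K_i) = 0 for p outside [0, k] and every morphism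
K_i -> K_{i+1} induces the zero map on H^p for all p < k. Let π : K_0 -> H^k(K_0)[-k] be the
morphism to the top cohomology object placed in degree k that induces the identity on H^k. Then the
composite K_0 -> K_{2k} factors through π. -/
theorem result {A : Type u} [Category.{v} A] [Abelian A] (k : ℕ)
    (K : ComposableArrows (DerivedCategory A) (2 * k))
    (hK : ∀ (i : ℕ) (hi : i ≤ 2 * k) (p : ℤ), p < 0 ∨ (k : ℤ) < p →
      IsZero ((DerivedCategory.homologyFunctor A p).obj (K.obj' i)))
    (hf : ∀ (i : ℕ) (hi : i < 2 * k) (p : ℤ), p < (k : ℤ) →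
      (DerivedCategory.homologyFunctor A p).map (K.map' i (i + 1)) = 0)
    (π : K.obj' 0 ⟶ (DerivedCategory.singleFunctor A (k : ℤ)).obj
      ((DerivedCategory.homologyFunctor A (k : ℤ)).obj (K.obj' 0)))
    (hπ : (DerivedCategory.homologyFunctor A (k : ℤ)).map π ≫
      (DerivedCategory.singleFunctorCompHomologyFunctorIso A (k : ℤ)).hom.app
        ((DerivedCategory.homologyFunctor A (k : ℤ)).obj (K.obj' 0)) = 𝟙 _) :
    ∃ φ : (DerivedCategory.singleFunctor A (k : ℤ)).obj
        ((DerivedCategory.homologyFunctor A (k : ℤ)).obj (K.obj' 0)) ⟶ K.obj' (2 * k),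
      K.map' 0 (2 * k) = π ≫ φ := by
  -- amplitude facts
  have hGE : ∀ (i : ℕ) (hi : i ≤ 2 * k), (K.obj' i hi).IsGE 0 := fun i hi =>
    (DerivedCategory.isGE_iff _ 0).mpr (fun p hp => hK i hi p (Or.inl hp))
  have hLE : ∀ (i : ℕ) (hi : i ≤ 2 * k), (K.obj' i hi).IsLE (k : ℤ) := fun i hi =>
    (DerivedCategory.isLE_iff _ (k : ℤ)).mpr (fun p hp => hK i hi p (Or.inr hp))
  -- Step A: induction
  have claim : ∀ (j : ℕ) (hj : j ≤ k), ∀ m : ℤ, m = (k : ℤ) - j →
      (tt.truncLTι (k : ℤ)).app (K.obj' 0 (by omega)) ≫ K.map' 0 j (by omega) (by omega) ≫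
        (tt.truncGEπ m).app (K.obj' j (by omega)) = 0 := by
    intro j
    induction j with
    | zero =>
      intro _ m hm
      have hm1 : m = (k : ℤ) := by simpa using hm
      subst hm1
      rw [K.map'_self 0 (by omega)]
      erw [Category.id_comp]
      exact tt.truncLTι_comp_truncGEπ_app (k : ℤ) _
    | succ j ih =>
      intro hj m hm
      have hm' : m + 1 = (k : ℤ) - j := by rw [hm]; push_cast; ring
      have h1 := ih (by omega) (m + 1) hm'
      rw [← Category.assoc] at h1
      obtain ⟨φ, hφ⟩ : ∃ φ : (tt.truncLT (k : ℤ)).obj (K.obj' 0 (by omega)) ⟶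
          (tt.truncLT (m + 1)).obj (K.obj' j (by omega)),
          (tt.truncLTι (k : ℤ)).app (K.obj' 0 (by omega)) ≫ K.map' 0 j (by omega) (by omega) =
            φ ≫ (tt.truncLTι (m + 1)).app (K.obj' j (by omega)) :=
        Triangle.coyoneda_exact₂ _
          (tt.triangleLTGE_distinguished (m + 1) (K.obj' j (by omega))) _ h1
      rw [K.map'_comp 0 j (j + 1) (by omega) (by omega) (by omega), ← Category.assoc,
        ← Category.assoc, hφ, Category.assoc, Category.assoc]
      have i1 : tt.IsLE ((tt.truncLT (m + 1)).obj (K.obj' j (by omega))) m := inferInstance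
      have hb : (tt.truncLTι (m + 1)).app (K.obj' j (by omega)) ≫
          K.map' j (j + 1) (by omega) (by omega) ≫
          (tt.truncGEπ m).app (K.obj' (j + 1) (by omega)) = 0 := by
        apply eq_zero_of_isLE_of_isGE_of_homology m
        have hzz : (homologyFunctor A m).map (K.map' j (j + 1) (by omega) (by omega)) = 0 :=
          hf j (by omega) m (by omega)
        rw [Functor.map_comp, Functor.map_comp, hzz, zero_comp, comp_zero]
      rw [hb, comp_zero]
  have hk0 := claim k le_rfl 0 (by simp)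
  have hA : (tt.truncLTι (k : ℤ)).app (K.obj' 0 (by omega)) ≫ K.map' 0 (2 * k) (by omega) (by omega)
      = 0 := by
    have i0 := hGE k (by omega)
    have i1 : IsIso ((tt.truncGEπ 0).app (K.obj' k (by omega))) := inferInstance
    rw [← Category.assoc] at hk0
    have h2 : (tt.truncLTι (k : ℤ)).app (K.obj' 0 (by omega)) ≫ K.map' 0 k (by omega) (by omega)
        = 0 := by
      rw [← cancel_mono ((tt.truncGEπ 0).app (K.obj' k (by omega))), hk0, zero_comp]
    rw [K.map'_comp 0 k (2 * k) (by omega) (by omega) (by omega), ← Category.assoc, h2, zero_comp]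
  -- Step B
  have i2 := hLE 0 (by omega)
  have hB0 : (tt.truncLTι (k : ℤ)).app (K.obj' 0 (by omega)) ≫ π = 0 :=
    tt.zero_of_isLE_of_isGE _ ((k : ℤ) - 1) (k : ℤ) (by omega) inferInstance inferInstance
  obtain ⟨π', hπ'⟩ : ∃ π' : (tt.truncGE (k : ℤ)).obj (K.obj' 0 (by omega)) ⟶
      (singleFunctor A (k : ℤ)).obj ((homologyFunctor A (k : ℤ)).obj (K.obj' 0 (by omega))),
      π = (tt.truncGEπ (k : ℤ)).app (K.obj' 0 (by omega)) ≫ π' :=
    Triangle.yoneda_exact₂ _
      (tt.triangleLTGE_distinguished (k : ℤ) (K.obj' 0 (by omega))) _ hB0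
  have iπ' : IsIso π' := by
    rw [DerivedCategory.isIso_iff]
    intro j
    by_cases hj : j = (k : ℤ)
    · subst hj
      have j1 := isIso_homology_truncGEπ (k : ℤ) (k : ℤ) le_rfl (K.obj' 0 (by omega))
      have j2 : IsIso ((homologyFunctor A (k : ℤ)).map π) := by
        have : IsIso ((homologyFunctor A (k : ℤ)).map π ≫
            (singleFunctorCompHomologyFunctorIso A (k : ℤ)).hom.app
              ((homologyFunctor A (k : ℤ)).obj (K.obj' 0 (by omega)))) := by
          rw [hπ]; infer_instance
        exact IsIso.of_isIso_comp_right _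
          ((singleFunctorCompHomologyFunctorIso A (k : ℤ)).hom.app
              ((homologyFunctor A (k : ℤ)).obj (K.obj' 0 _)))
      rw [hπ', Functor.map_comp] at j2
      exact IsIso.of_isIso_comp_left
        ((homologyFunctor A (k : ℤ)).map ((tt.truncGEπ (k : ℤ)).app (K.obj' 0 _))) _
    · have i3 : tt.IsGE ((tt.truncGE (k : ℤ)).obj (K.obj' 0 (by omega))) (k : ℤ) := inferInstance
      have i4 : tt.IsLE ((tt.truncGE (k : ℤ)).obj (K.obj' 0 (by omega))) (k : ℤ) := inferInstance
      exact isIso_of_isZero_isZero _ (isZero_homology_of_amp _ (k : ℤ) j hj)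
        (isZero_homology_of_amp _ (k : ℤ) j hj)
  -- Step C
  obtain ⟨F', hF'⟩ : ∃ F' : (tt.truncGE (k : ℤ)).obj (K.obj' 0 (by omega)) ⟶
      K.obj' (2 * k) (by omega),
      K.map' 0 (2 * k) (by omega) (by omega) =
        (tt.truncGEπ (k : ℤ)).app (K.obj' 0 (by omega)) ≫ F' :=
    Triangle.yoneda_exact₂ _
      (tt.triangleLTGE_distinguished (k : ℤ) (K.obj' 0 (by omega))) _ hA
  refine ⟨inv π' ≫ F', ?_⟩
  rw [hπ', Category.assoc, IsIso.hom_inv_id_assoc]
  exact hF'

end Groth.Agent.S3731
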