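import Groth.Statements.S3761
import Mathlib
import Groth.Agent.Lib.Helper27KoszPull
import Groth.Agent.S3760

set_option autoImplicit false
universe v u
open CategoryTheory CategoryTheory.Limits AlgebraicGeometry
attribute [local instance] HasDerivedCategory.standard
open KRR

namespace Groth.Agent.S3761

/-- Let Y be a connected Noetherian scheme and p : P = Pⁿ_Y ⟶ Y projective n-space over Y; fix models of
the λ-rings K(P) and K(Y) (receiving the classes of finite locally free modules) and let g = p_K :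
K(P) → K(Y) be the push-forward along p (g[F] = [p_* F] for every regular finite locally free F).
Then p_K [O_P(−i)] = 0 for 1 ≤ i ≤ n. -/
theorem result (n : ℕ) (Y : Scheme.{u}) [IsNoetherian Y] [ConnectedSpace ↥Y]
    (KP : Type v) [CommRing KP] [LambdaRing.LambdaOps KP] (PP : LambdaRing.PosStructure KP) (φP : SGA6.Kvb (KRR.PY n Y) →+ KP) (hKP : KRR.IsModel (KRR.PY n Y) KP PP φP)
    (KY : Type v) [CommRing KY] [LambdaRing.LambdaOps KY] (PY : LambdaRing.PosStructure KY) (φY : SGA6.Kvb Y →+ KY) (hKY : KRR.IsModel Y KY PY φY)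
    (g : KP →+ KY) (hg : KRR.IsPushPr n Y φP φY g) (i : ℕ) (hi : 1 ≤ i) (hin : i ≤ n) :
    g (φP (KRR.cl (KRR.PY n Y) (KRR.twF n Y (-(i : ℤ)) (Coh.structureModule (KRR.PY n Y))))) = 0 := by
  let v : ℕ → KY := fun k =>
    g (φP (KRR.cl (KRR.PY n Y) (Twist.twistOver n Y ((k : ℤ) - n))))
  have hrec : Groth.Agent.Lib.Helper27KClass.IsRec n v := by
    intro b
    have h := Groth.Agent.Lib.Helper27KoszPull.koszul_relation_PY n Y ((b : ℤ) - n)
    have h2 := congrArg (fun z => g (φP z)) h
    simp only [map_sum, map_zsmul, map_zero] at h2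
    rw [← h2]
    refine Finset.sum_congr rfl (fun j _ => ?_)
    change _ • g (φP (KRR.cl (KRR.PY n Y) (Twist.twistOver n Y (((b + j : ℕ) : ℤ) - n)))) = _
    rw [show ((b + j : ℕ) : ℤ) - n = (b : ℤ) - n + j by push_cast; ring]
  have hge : ∀ k, n ≤ k → v k = (k.choose n : ℤ) • (1 : KY) := by
    intro k hk
    obtain ⟨m, rfl⟩ : ∃ m, k = n + m := ⟨k - n, by omega⟩
    have h := Groth.Agent.S3760.result n Y KP PP φP hKP KY PY φY hKY g hg m
    rw [Groth.Agent.Lib.Helper27KoszPull.cl_twF_structureModule] at h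
    change g (φP (KRR.cl (KRR.PY n Y) (Twist.twistOver n Y (((n + m : ℕ) : ℤ) - n)))) = _
    rw [show ((n + m : ℕ) : ℤ) - n = (m : ℤ) by push_cast; ring, h, Nat.choose_symm_add,
      zsmul_eq_mul, mul_one, Int.cast_natCast]
  have hall := Groth.Agent.Lib.Helper27KClass.rec_backward n v 1 hrec hge (n - i)
  rw [Groth.Agent.Lib.Helper27KoszPull.cl_twF_structureModule]
  have hv : v (n - i) = g (φP (KRR.cl (KRR.PY n Y) (Twist.twistOver n Y (-(i : ℤ))))) := by
    change g (φP (KRR.cl (KRR.PY n Y) (Twist.twistOver n Y (((n - i : ℕ) : ℤ) - n)))) = _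
    rw [show ((n - i : ℕ) : ℤ) - n = -(i : ℤ) by omega]
  rw [← hv, hall, Nat.choose_eq_zero_of_lt (by omega), Nat.cast_zero, zero_smul]

end Groth.Agent.S3761
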