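import Groth.Statements.S3781
import Mathlib
import Groth.Agent.Lib.Helper11LamDet

set_option autoImplicit false
universe v u
open CategoryTheory CategoryTheory.Limits AlgebraicGeometry
attribute [local instance] HasDerivedCategory.standard
open KRR

namespace Groth.Agent.S3781

section aux
open PowerSeries LambdaRing Finset
open Groth.Agent.Lib.Helper4 Groth.Agent.Lib.Helper11.LamDet

variable {K : Type v} [CommRing K] [LambdaRing.LambdaOps K] (P : LambdaRing.PosStructure K)

/-- `Σ_{j ≤ m} γ^j(e - m) = λ^m(e)` for `e` with `λ^i e = 0` for `i > m`. -/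
lemma sum_gamma_eq_lam (h1 : ∀ k : ℕ, 2 ≤ k → LambdaOps.lam k (1 : K) = 0)
    (e : K) (m : ℕ) (he : ∀ i, m < i → LambdaOps.lam i e = 0) :
    ∑ j ∈ range (m + 1), gamma j (e - (m : K)) = LambdaOps.lam m e := by
  have h := congrArg (Polynomial.eval (1 : K))
    (rev_gammaSeries_sub_natCast h1 e m he)
  rw [rev, Polynomial.eval_finsetSum, Polynomial.eval_finsetSum] at h
  simp only [Polynomial.eval_mul, Polynomial.eval_C, Polynomial.eval_pow, Polynomial.eval_X,
    one_pow, mul_one, coeff_gammaSeries, Polynomial.eval_sub, Polynomial.eval_one, sub_self] at h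
  rw [h, Finset.sum_eq_single m]
  · simp
  · intro i hi hne
    rw [Finset.mem_range] at hi
    rw [zero_pow (by omega), mul_zero]
  · intro h'
    exact absurd (Finset.mem_range.mpr (Nat.lt_succ_self m)) h'

lemma aug_sub_toNat {e : K} (he : e ∈ P.pos) : P.aug (e - ((P.aug e).toNat : K)) = 0 := by
  have h := P.aug_pos e he
  rw [map_sub, map_natCast]
  omega

/-- `det e - 1 ≡ e - ε(e)` modulo `F²`. -/
lemma det_congr {e : K} (he : e ∈ P.pos) :
    det P e - 1 - (e - ((P.aug e).toNat : K)) ∈ gammaFiltration P 2 := by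
  have hpos := P.aug_pos e he
  obtain ⟨m', hm'⟩ : ∃ m', (P.aug e).toNat = m' + 1 := ⟨(P.aug e).toNat - 1, by omega⟩
  have h := sum_gamma_eq_lam (lam_one_eq_zero P) e (P.aug e).toNat (fun i hi => lam_eq_zero_of_pos P e he i hi)
  have hd : det P e = LambdaOps.lam (P.aug e).toNat e := rfl
  rw [← hd] at h
  have h0 := aug_sub_toNat P he
  rw [hm'] at h h0 ⊢
  rw [Finset.sum_range_succ', Finset.sum_range_succ', gamma_zero', gamma_one] at h
  have : det P e - 1 - (e - ((m' + 1 : ℕ) : K)) =
      ∑ j ∈ range m', gamma (j + 1 + 1) (e - ((m' + 1 : ℕ) : K)) := by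
    rw [← h]; ring
  rw [this]
  apply AddSubgroup.sum_mem
  intro j _
  exact gammaFiltration_anti P (by omega) (gamma_mem_gammaFiltration P (j + 1 + 1) _ h0)

lemma sub_one_mem_F1 {w : K} (hw : P.IsLine w) : w - 1 ∈ gammaFiltration P 1 := by
  have h0 : P.aug (w - 1) = 0 := by rw [map_sub, map_one, hw.2]; simp
  have := gamma_mem_gammaFiltration P 1 (w - 1) h0
  rwa [gamma_one] at this

lemma mul_sub_one_mem_F2 {u w : K} (hu : P.IsLine u) (hw : P.IsLine w) :
    (u - 1) * (w - 1) ∈ gammaFiltration P 2 :=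
  mul_mem_gammaFiltration P 1 1 _ _ (sub_one_mem_F1 P hu) (sub_one_mem_F1 P hw)

/-- `x` is congruent modulo `F²` to `u - 1` for a line element `u`. -/
def Q (x : K) : Prop := ∃ u : K, P.IsLine u ∧ x - (u - 1) ∈ gammaFiltration P 2

lemma Q_of_mem {x : K} (hx : x ∈ gammaFiltration P 2) : Q P x :=
  ⟨1, isLine_one P, by simpa using hx⟩

lemma Q_add {x y : K} (hx : Q P x) (hy : Q P y) : Q P (x + y) := by
  obtain ⟨u, hu, hxu⟩ := hx
  obtain ⟨w, hw, hyw⟩ := hy
  refine ⟨u * w, isLine_mul P hu hw, ?_⟩
  have : x + y - (u * w - 1) = (x - (u - 1)) + (y - (w - 1)) - (u - 1) * (w - 1) := by ring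
  rw [this]
  exact AddSubgroup.sub_mem _ (AddSubgroup.add_mem _ hxu hyw) (mul_sub_one_mem_F2 P hu hw)

lemma Q_neg (hLinv : ∀ w : K, P.IsLine w → ∃ w' : K, P.IsLine w' ∧ w * w' = 1) {x : K}
    (hx : Q P x) : Q P (-x) := by
  obtain ⟨u, hu, hxu⟩ := hx
  obtain ⟨u', hu', huu'⟩ := hLinv u hu
  refine ⟨u', hu', ?_⟩
  have : -x - (u' - 1) = -(x - (u - 1)) + (u - 1) * (u' - 1) := by
    linear_combination (-1 : K) * huu'
  rw [this]
  exact AddSubgroup.add_mem _ (AddSubgroup.neg_mem _ hxu) (mul_sub_one_mem_F2 P hu hu')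

lemma Q_aug_zero (hK : HasSplitting K P)
    (hLinv : ∀ w : K, P.IsLine w → ∃ w' : K, P.IsLine w' ∧ w * w' = 1)
    (hdet : ∀ e : K, e ∈ P.pos → LambdaOps.lam (P.aug e).toNat e ∈ P.pos)
    {x : K} (hx : P.aug x = 0) : Q P x := by
  obtain ⟨e, g, he, hg, hxeg⟩ := P.exists_sub x
  have hline : ∀ e : K, e ∈ P.pos → P.IsLine (det P e) := by
    intro e he
    refine ⟨hdet e he, ?_⟩
    change P.aug (LambdaOps.lam (P.aug e).toNat e) = 1
    rw [aug_lam_eq_choose hK e he, Nat.choose_self, Nat.cast_one]
  have hQ : ∀ e : K, e ∈ P.pos → Q P (e - ((P.aug e).toNat : K)) := by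
    intro e he
    refine ⟨det P e, hline e he, ?_⟩
    have := AddSubgroup.neg_mem _ (det_congr P he)
    rwa [neg_sub] at this
  have hm : (P.aug e).toNat = (P.aug g).toNat := by
    have : P.aug e = P.aug g := by
      have h := congrArg P.aug hxeg
      rw [hx, map_sub] at h
      omega
    rw [this]
  have hx' : x = (e - ((P.aug e).toNat : K)) + -(g - ((P.aug g).toNat : K)) := by
    rw [hxeg, hm]; ring
  rw [hx']
  exact Q_add P (hQ e he) (Q_neg P hLinv (hQ g hg))

lemma list_cases : ∀ (l : List (ℕ × K)), (∀ p ∈ l, P.aug p.2 = 0) →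
    ((l.map Prod.fst).sum = 0 ∧ (l.map fun p => gamma p.1 p.2).prod = 1) ∨
    ((l.map Prod.fst).sum = 1 ∧ P.aug (l.map fun p => gamma p.1 p.2).prod = 0) ∨
    2 ≤ (l.map Prod.fst).sum := by
  intro l
  induction l with
  | nil => intro _; left; simp
  | cons p l ih =>
    intro hl
    have hp : P.aug p.2 = 0 := hl p (by simp)
    have ih' := ih (fun q hq => hl q (List.mem_cons_of_mem _ hq))
    simp only [List.map_cons, List.sum_cons, List.prod_cons]
    obtain ⟨r, x⟩ := p
    rcases r with _ | _ | r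
    · simp only [gamma_zero', one_mul, zero_add]
      exact ih'
    · simp only [zero_add, gamma_one]
      rcases ih' with ⟨h1, h2⟩ | ⟨h1, _⟩ | h1
      · right; left
        refine ⟨by omega, ?_⟩
        rw [h2, mul_one]; exact hp
      · right; right; omega
      · right; right; omega
    · right; right; omega

end aux


/-- Let K be a λ-ring with positive structure having the splitting property, L its group of line
elements and F^n the γ-filtration. Assume moreover that the inverse of a line element is a line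
element and that for a positive e with ε(e) = r the element det e = λ^r(e) is positive (hence a line
element); these are part of the published setting but are not implied by the axioms used here, so
they are hypotheses. Then u ↦ u − 1 induces an isomorphism L ≅ Gr^1 K = F^1/F^2: every x ∈ F^1 is
congruent modulo F^2 to u − 1 for some line element u, and line elements u, v with u − v ∈ F^2 are
equal. -/
theorem result (K : Type v) [CommRing K] [LambdaRing.LambdaOps K] (P : LambdaRing.PosStructure K) (hK : LambdaRing.HasSplitting K P)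
    (hLinv : ∀ w : K, P.IsLine w → ∃ w' : K, P.IsLine w' ∧ w * w' = 1)
    (hdet : ∀ e : K, e ∈ P.pos → LambdaRing.LambdaOps.lam (P.aug e).toNat e ∈ P.pos) :
    (∀ x : K, x ∈ LambdaRing.gammaFiltration P 1 → ∃ u : K, P.IsLine u ∧ x - (u - 1) ∈ LambdaRing.gammaFiltration P 2) ∧
    ∀ u v : K, P.IsLine u → P.IsLine v → u - v ∈ LambdaRing.gammaFiltration P 2 → u = v := by
  constructor
  · intro x hx
    rw [Groth.Agent.Lib.Helper4.gammaFiltration_of_ne_zero P one_ne_zero] at hx
    change Q P x
    induction hx using AddSubgroup.closure_induction with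
    | mem y hy =>
      obtain ⟨l, hl, hsum, rfl⟩ := hy
      rcases list_cases P l hl with ⟨h1, _⟩ | ⟨_, h2⟩ | h1
      · omega
      · exact Q_aug_zero P hK hLinv hdet h2
      · exact Q_of_mem P (Groth.Agent.Lib.Helper4.gammaGen_subset_gammaFiltration P 2 ⟨l, hl, h1, rfl⟩)
    | zero => exact Q_of_mem P (AddSubgroup.zero_mem _)
    | add a b _ _ ha hb => exact Q_add P ha hb
    | neg a _ ha => exact Q_neg P hLinv ha
  · intro u w hu hw huw
    have h := Groth.Agent.Lib.Helper11.LamDet.D1_of_mem_gammaFiltration hK huw u w hu.1 hw.1 rfl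
    rwa [Groth.Agent.Lib.Helper11.LamDet.det_of_isLine P hu,
      Groth.Agent.Lib.Helper11.LamDet.det_of_isLine P hw] at h

end Groth.Agent.S3781
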