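import Groth.Statements.S3794
import Mathlib
import Groth.Agent.Lib.Helper16ChernA
import Groth.Agent.Lib.Helper16ChernB
import Groth.Agent.Lib.Helper16ChernC
-- import your own Groth.Agent.* helpers here

set_option autoImplicit false
set_option linter.style.haveILetI false
set_option linter.unusedSectionVars false
universe v u
open CategoryTheory CategoryTheory.Limits AlgebraicGeometry
attribute [local instance] HasDerivedCategory.standard
open scoped TensorProduct
open KRR

namespace Groth.Agent.S3794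

set_option synthInstance.maxHeartbeats 400000

open LaurentPolynomial LambdaRing KGr Finset Groth.Agent.Lib.Helper4 Groth.Agent.Lib.Helper16.Chern

section
variable {K : Type v} [CommRing K] [LambdaOps K] {P : PosStructure K}

theorem cls_eq_zero_of_lt {d : ℕ} (hd : gammaFiltration P (d + 1) = ⊥) (n : ℕ) (hn : d + 1 ≤ n)
    (x : K) (h : C x * T (-(n : ℤ)) ∈ rees P) : cls P n x h = 0 := by
  have hx := mem_of_mem_rees P n x h
  have := gammaFiltration_anti P hn hx
  rw [hd, AddSubgroup.mem_bot] at this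
  exact cls_eq_zero_of_eq_zero P this h

theorem rees_mem_succ' (n : ℕ) (z : K) (hz : z ∈ gammaFiltration P (n + 1)) :
    C z * T (-((n : ℤ) + 1)) ∈ rees P := by
  have := rees_mem P (n + 1) z hz
  convert this using 3
  push_cast
  ring

theorem cls_eq_of_sub_mem (n : ℕ) (a b : K) (ha : C a * T (-(n : ℤ)) ∈ rees P)
    (hb : C b * T (-(n : ℤ)) ∈ rees P) (hab : a - b ∈ gammaFiltration P (n + 1)) :
    cls P n a ha = cls P n b hb := by
  have hd' : C (a - b) * T (-((n : ℤ) + 1)) ∈ rees P := rees_mem_succ' n _ hab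
  have hd0 : C (a - b) * T (-(n : ℤ)) ∈ rees P := by
    rw [map_sub, sub_mul]; exact sub_mem ha hb
  have h0 := cls_eq_zero_of_succ P hd0 hd'
  have e := cls_add P hd0 hb
  rw [h0, zero_add] at e
  rw [← e]
  exact cls_congr P rfl (by ring) _ _

theorem tmul_natCast_smul {A : Type*} [AddCommGroup A] (N : ℕ) (hN : 1 ≤ N) (z : A) :
    (1 / (N : ℚ)) ⊗ₜ[ℤ] (N • z) = (1 : ℚ) ⊗ₜ[ℤ] z := by
  rw [← natCast_zsmul, TensorProduct.tmul_smul, TensorProduct.smul_tmul']
  congr 1
  have : (N : ℚ) ≠ 0 := by positivity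
  rw [zsmul_eq_mul]
  push_cast
  field_simp

theorem one_tmul_intCast (z : ℤ) :
    (1 : ℚ) ⊗ₜ[ℤ] ((z : ℤ) : GrZ P) = algebraMap ℚ (Gr P) (z : ℚ) := by
  rw [Algebra.TensorProduct.algebraMap_apply, ← zsmul_one (z : ℤ), TensorProduct.tmul_smul,
    TensorProduct.smul_tmul']
  simp

/-- the classes `1 ⊗ [x]_n` lie in the range of any `ℚ`-linear extension of the Chern character. -/
theorem one_tmul_cls_mem_range (hK : HasSplitting K P) (d : ℕ)
    (hd : gammaFiltration P (d + 1) = ⊥) (Φ : ℚ ⊗[ℤ] K →ₗ[ℚ] Gr P)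
    (hΦ : ∀ x : K, Φ ((1 : ℚ) ⊗ₜ[ℤ] x) = chK P d x) :
    ∀ m n : ℕ, d + 1 ≤ n + m → ∀ (x : K) (hx : x ∈ gammaFiltration P n),
      (1 : ℚ) ⊗ₜ[ℤ] cls P n x (rees_mem P n x hx) ∈ LinearMap.range Φ := by
  intro m
  induction m with
  | zero =>
    intro n hn x hx
    rw [cls_eq_zero_of_lt hd n (by omega), TensorProduct.tmul_zero]
    exact zero_mem _
  | succ m ih =>
    intro n hn x hx
    by_cases hnd : d + 1 ≤ n
    · rw [cls_eq_zero_of_lt hd n hnd, TensorProduct.tmul_zero]
      exact zero_mem _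
    have hhigh : ∀ k, n ≤ k → ∀ (z : K) (hz : C z * T (-(((k + 1 : ℕ)) : ℤ)) ∈ rees P) (q : ℚ),
        q ⊗ₜ[ℤ] cls P ((k + 1 : ℕ) : ℤ) z hz ∈ LinearMap.range Φ := by
      intro k hk z hz q
      have hz' := mem_of_mem_rees P (k + 1) z hz
      have := ih (k + 1) (by omega) z hz'
      have e : q ⊗ₜ[ℤ] cls P ((k + 1 : ℕ) : ℤ) z hz =
          q • ((1 : ℚ) ⊗ₜ[ℤ] cls P ((k + 1 : ℕ) : ℤ) z (rees_mem P (k + 1) z hz')) := by
        rw [TensorProduct.smul_tmul', smul_eq_mul, mul_one]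
      rw [e]
      exact Submodule.smul_mem _ q this
    rcases Nat.eq_zero_or_pos n with rfl | hnpos
    · -- degree 0
      have hch : chK P d x ∈ LinearMap.range Φ := ⟨(1 : ℚ) ⊗ₜ[ℤ] x, hΦ x⟩
      rw [chK_eq] at hch
      have hsum : ∑ k ∈ range d, (1 / ((k + 1).factorial : ℚ)) ⊗ₜ[ℤ]
          cls P ((k + 1 : ℕ) : ℤ) (pK P (k + 1) (x - (P.aug x : K)))
            (pK_rees_mem P (k + 1) _ (aug_sub_aug P x)) ∈ LinearMap.range Φ :=
        sum_mem (fun k _ => hhigh k (Nat.zero_le k) _ _ _)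
      have halg := Submodule.sub_mem _ hch hsum
      rw [add_sub_cancel_right] at halg
      have e : (1 : ℚ) ⊗ₜ[ℤ] cls P ((0 : ℕ) : ℤ) x (rees_mem P 0 x hx) =
          algebraMap ℚ (Gr P) (P.aug x : ℚ) := by
        have h1 : cls P ((0 : ℕ) : ℤ) x (rees_mem P 0 x hx) =
            cls P ((0 : ℕ) : ℤ) ((P.aug x : ℤ) : K)
              (rees_mem P 0 _ (by rw [gammaFiltration_zero]; trivial)) :=
          cls_eq_of_sub_mem 0 _ _ _ _ (mem_gammaFiltration_one P _ (aug_sub_aug P x))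
        rw [h1, cls_congr P Nat.cast_zero rfl _ (rees_mem_intCast P (P.aug x)), cls_intCast,
          one_tmul_intCast]
      rw [e]
      exact halg
    · -- degree n ≥ 1
      obtain ⟨n', rfl⟩ := Nat.exists_eq_succ_of_ne_zero hnpos.ne'
      have haug : P.aug x = 0 := aug_eq_zero_of_mem hK (n' + 1) hnpos x hx
      have hch : chK P d x ∈ LinearMap.range Φ := ⟨(1 : ℚ) ⊗ₜ[ℤ] x, hΦ x⟩
      rw [chK_eq_of_aug_zero P d x haug] at hch
      have hn1 : n' ∈ range d := by rw [mem_range]; omega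
      rw [← Finset.add_sum_erase _ _ hn1] at hch
      have hrest : ∑ k ∈ (range d).erase n', (1 / ((k + 1).factorial : ℚ)) ⊗ₜ[ℤ]
          cls P ((k + 1 : ℕ) : ℤ) (pK P (k + 1) x) (pK_rees_mem P (k + 1) x haug) ∈
          LinearMap.range Φ := by
        apply sum_mem
        intro k hk
        rw [mem_erase, mem_range] at hk
        rcases Nat.lt_or_ge k n' with hlt | hge
        · have hz : pK P (k + 1) x ∈ gammaFiltration P (k + 1 + 1) :=
            gammaFiltration_anti P (by omega) (pK_mem hK (k + 1) (n' + 1) x hx)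
          have h0 : cls P ((k + 1 : ℕ) : ℤ) (pK P (k + 1) x) (pK_rees_mem P (k + 1) x haug) = 0 :=
            cls_eq_zero_of_succ P _ (rees_mem_succ' (k + 1) _ hz)
          rw [h0, TensorProduct.tmul_zero]
          exact zero_mem _
        · exact hhigh k (by omega) _ _ _
      have hmain := Submodule.sub_mem _ hch hrest
      rw [add_sub_cancel_right] at hmain
      have hfx : C (((n' + 1).factorial : K) * x) * T (-(((n' + 1 : ℕ)) : ℤ)) ∈ rees P :=
        rees_mem_natCast_mul P _ (rees_mem P (n' + 1) x hx)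
      have e1 : cls P ((n' + 1 : ℕ) : ℤ) (pK P (n' + 1) x) (pK_rees_mem P (n' + 1) x haug) =
          cls P ((n' + 1 : ℕ) : ℤ) (((n' + 1).factorial : K) * x) hfx :=
        cls_eq_of_sub_mem (n' + 1) _ _ _ _
          (pK_sub_factorial_mul_mem hK (n' + 1) hnpos x hx)
      rw [e1, cls_natCast_mul P _ (rees_mem P (n' + 1) x hx) hfx,
        tmul_natCast_smul _ (Nat.factorial_pos _)] at hmain
      exact hmain

theorem lTensor_rho_tmul_cls (n : ℕ) (q : ℚ) (m : ℤ) (z : K) (hz : C z * T (-m) ∈ rees P) :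
    LinearMap.lTensor ℚ (rho P n).toIntLinearMap (q ⊗ₜ[ℤ] cls P m z hz) =
      q ⊗ₜ[ℤ] (if m = n then (QuotientAddGroup.mk z : K ⧸ gammaFiltration P (n + 1)) else 0) := by
  rw [LinearMap.lTensor_tmul, AddMonoidHom.coe_toIntLinearMap, rho_cls]

theorem rho_one (n : ℕ) :
    rho P n (1 : GrZ P) = if (0 : ℤ) = n then (QuotientAddGroup.mk (1 : K) :
      K ⧸ gammaFiltration P (n + 1)) else 0 := by
  rw [← cls_one P (rees_mem_one P), rho_cls]

theorem mem_of_tmul_mk_eq_zero (n : ℕ) (q : ℚ) (hq : q ≠ 0) (z : K)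
    (h : q ⊗ₜ[ℤ] (QuotientAddGroup.mk z : K ⧸ gammaFiltration P n) = 0) :
    ∃ M : ℕ, 1 ≤ M ∧ (M : K) * z ∈ gammaFiltration P n := by
  have h1 : (1 : ℚ) ⊗ₜ[ℤ] (QuotientAddGroup.mk z : K ⧸ gammaFiltration P n) = 0 := by
    have : q⁻¹ • (q ⊗ₜ[ℤ] (QuotientAddGroup.mk z : K ⧸ gammaFiltration P n)) = 0 := by
      rw [h, smul_zero]
    rwa [TensorProduct.smul_tmul', smul_eq_mul, inv_mul_cancel₀ hq] at this
  obtain ⟨M, hM, hM0⟩ := exists_nsmul_eq_zero_of_tmul_eq_zero _ h1
  refine ⟨M, hM, ?_⟩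
  have : (QuotientAddGroup.mk (M • z) : K ⧸ gammaFiltration P n) = 0 := by
    rw [QuotientAddGroup.mk_nsmul]; exact hM0
  rw [QuotientAddGroup.eq_zero_iff, nsmul_eq_mul] at this
  exact this

theorem chK_natCast_mul (d : ℕ) (M : ℕ) (x : K) : chK P d ((M : K) * x) = M • chK P d x := by
  rw [← nsmul_eq_mul, ← chHom_apply, map_nsmul, chHom_apply]

/-- if the Chern character of `x` vanishes then `x` is torsion. -/
theorem exists_natCast_mul_eq_zero_of_chK_eq_zero (hK : HasSplitting K P) (d : ℕ)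
    (hd : gammaFiltration P (d + 1) = ⊥) (x : K) (h : chK P d x = 0) :
    ∃ M : ℕ, 1 ≤ M ∧ (M : K) * x = 0 := by
  -- Step A: the augmentation vanishes
  have haug : P.aug x = 0 := by
    have h0 := congrArg (LinearMap.lTensor ℚ (rho P 0).toIntLinearMap) h
    rw [chK_eq, map_add, map_sum, map_zero, Algebra.TensorProduct.algebraMap_apply,
      LinearMap.lTensor_tmul, AddMonoidHom.coe_toIntLinearMap, rho_one] at h0
    have hsum : ∑ k ∈ range d, LinearMap.lTensor ℚ (rho P 0).toIntLinearMap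
        ((1 / ((k + 1).factorial : ℚ)) ⊗ₜ[ℤ]
          cls P ((k + 1 : ℕ) : ℤ) (pK P (k + 1) (x - (P.aug x : K)))
            (pK_rees_mem P (k + 1) _ (aug_sub_aug P x))) = 0 := by
      apply sum_eq_zero
      intro k _
      rw [lTensor_rho_tmul_cls, if_neg (by push_cast; omega), TensorProduct.tmul_zero]
    rw [hsum, add_zero, if_pos (by simp)] at h0
    by_contra hne
    have hq : ((algebraMap ℚ ℚ) ((P.aug x : ℤ) : ℚ)) ≠ 0 := by
      simpa using hne
    obtain ⟨M, hM, hMem⟩ := mem_of_tmul_mk_eq_zero (0 + 1) _ hq (1 : K) h0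
    have := aug_eq_zero_of_mem hK 1 (le_refl 1) _ hMem
    rw [map_mul, map_natCast, map_one, mul_one] at this
    have : (M : ℤ) = 0 := this
    omega
  -- Step B: induction along the filtration
  have hB : ∀ n : ℕ, 1 ≤ n → n ≤ d + 1 → ∃ M : ℕ, 1 ≤ M ∧ (M : K) * x ∈ gammaFiltration P n := by
    intro n hn
    induction n, hn using Nat.le_induction with
    | base =>
      intro _
      exact ⟨1, le_refl 1, by simpa using mem_gammaFiltration_one P x haug⟩
    | succ n hn ih =>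
      intro hnd
      obtain ⟨M, hM, hMx⟩ := ih (by omega)
      obtain ⟨n', rfl⟩ := Nat.exists_eq_succ_of_ne_zero (by omega : n ≠ 0)
      set x' := (M : K) * x with hx'
      have hch' : chK P d x' = 0 := by rw [hx', chK_natCast_mul, h, smul_zero]
      have haug' : P.aug x' = 0 := aug_eq_zero_of_mem hK (n' + 1) hn x' hMx
      have h0 := congrArg (LinearMap.lTensor ℚ (rho P (n' + 1)).toIntLinearMap) hch'
      rw [chK_eq_of_aug_zero P d x' haug', map_sum, map_zero] at h0
      have hn1 : n' ∈ range d := by rw [mem_range]; omega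
      rw [Finset.sum_eq_single_of_mem n' hn1] at h0
      · rw [lTensor_rho_tmul_cls, if_pos rfl] at h0
        have hq : (1 / ((n' + 1).factorial : ℚ)) ≠ 0 := by positivity
        obtain ⟨M', hM', hMem⟩ := mem_of_tmul_mk_eq_zero (n' + 1 + 1) _ hq _ h0
        have hcong := pK_sub_factorial_mul_mem hK (n' + 1) hn x' hMx
        refine ⟨M' * (n' + 1).factorial * M, ?_, ?_⟩
        · exact Nat.mul_pos (Nat.mul_pos hM' (Nat.factorial_pos _)) hM
        · have e : ((M' * (n' + 1).factorial * M : ℕ) : K) * x =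
              (M' : K) * pK P (n' + 1) x' -
                (M' : K) * (pK P (n' + 1) x' - ((n' + 1).factorial : K) * x') := by
            rw [hx']; push_cast; ring
          rw [e]
          exact sub_mem hMem (mul_mem_gammaFiltration_left P _ _ _ hcong)
      · intro k _ hk
        rw [lTensor_rho_tmul_cls, if_neg (by push_cast; omega), TensorProduct.tmul_zero]
  obtain ⟨M, hM, hMx⟩ := hB (d + 1) (by omega) (le_refl _)
  rw [hd, AddSubgroup.mem_bot] at hMx
  exact ⟨M, hM, hMx⟩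

end


/-- Let K be a λ-ring with positive structure having the splitting property, whose γ-filtration
satisfies F^{d+1} K = 0. Then the Chern character ch : K ⟶ ℚGr K = ℚ ⊗ (⊕ F^n/F^{n+1}) (from the
Chern classes c^i(x) = γ^i(x - ε x) mod F^{i+1} through the Hirzebruch polynomials of exp, truncated
at d) is additive and induces a bijection ℚ ⊗ K ⟶ ℚGr K: there is a ℚ-linear Φ with Φ(1 ⊗ x) = ch(x)
for all x, and it is bijective. -/
theorem result (K : Type v) [CommRing K] [LambdaRing.LambdaOps K] (P : LambdaRing.PosStructure K) (hK : LambdaRing.HasSplitting K P) (d : ℕ) (hd : LambdaRing.gammaFiltration P (d + 1) = ⊥)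
    :
    ∃ Φ : TensorProduct ℤ ℚ K →ₗ[ℚ] KGr.Gr P, (∀ x : K, Φ ((1 : ℚ) ⊗ₜ[ℤ] x) = KGr.chK P d x) ∧ Function.Bijective Φ := by
  classical
  let Φ : ℚ ⊗[ℤ] K →ₗ[ℚ] KGr.Gr P := LinearMap.liftBaseChange ℚ (chHom P d).toIntLinearMap
  have hΦ : ∀ x : K, Φ ((1 : ℚ) ⊗ₜ[ℤ] x) = KGr.chK P d x := by
    intro x
    simp only [Φ, LinearMap.liftBaseChange_tmul, one_smul]
    rfl
  refine ⟨Φ, hΦ, ?_, ?_⟩
  · rw [injective_iff_map_eq_zero]
    intro ξ hξ
    obtain ⟨⟨x, s⟩, hs⟩ := IsLocalizedModule.surj (nonZeroDivisors ℤ)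
      (TensorProduct.mk ℤ ℚ K 1) ξ
    have hs' : (s : ℤ) • ξ = (1 : ℚ) ⊗ₜ[ℤ] x := hs
    have hch : chK P d x = 0 := by rw [← hΦ, ← hs', map_zsmul, hξ, smul_zero]
    obtain ⟨M, hM, hMx⟩ := exists_natCast_mul_eq_zero_of_chK_eq_zero hK d hd x hch
    have h1x : (1 : ℚ) ⊗ₜ[ℤ] x = 0 := by
      have hM0 : (M : ℚ) ≠ 0 := by positivity
      have h2 : (M : ℚ) • ((1 : ℚ) ⊗ₜ[ℤ] x) = 0 := by
        have h3 : (M : ℚ) • ((1 : ℚ) ⊗ₜ[ℤ] x) = (1 : ℚ) ⊗ₜ[ℤ] ((M : K) * x) := by
          rw [← nsmul_eq_mul, ← natCast_zsmul, TensorProduct.tmul_smul, TensorProduct.smul_tmul',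
            TensorProduct.smul_tmul']
          simp
        rw [h3, hMx, TensorProduct.tmul_zero]
      exact (smul_eq_zero.mp h2).resolve_left hM0
    rw [h1x] at hs'
    have hs0 : ((s : ℤ) : ℚ) ≠ 0 := by
      exact_mod_cast nonZeroDivisors.coe_ne_zero s
    have h4 : ((s : ℤ) : ℚ) • ξ = 0 := by
      rw [Int.cast_smul_eq_zsmul]; exact hs'
    exact (smul_eq_zero.mp h4).resolve_left hs0
  · rw [← LinearMap.range_eq_top, eq_top_iff]
    rintro ξ -
    induction ξ using TensorProduct.induction_on with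
    | zero => exact zero_mem _
    | tmul q z =>
      have hz := mem_clsGroup P z
      have h1 : (1 : ℚ) ⊗ₜ[ℤ] z ∈ LinearMap.range Φ := by
        unfold clsGroup at hz
        induction hz using AddSubgroup.closure_induction with
        | mem z hz =>
          obtain ⟨n, x, hx, rfl⟩ := hz
          exact one_tmul_cls_mem_range hK d hd Φ hΦ (d + 1) n (by omega) x hx
        | zero => rw [TensorProduct.tmul_zero]; exact zero_mem _
        | add a b _ _ ha hb => rw [TensorProduct.tmul_add]; exact add_mem ha hb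
        | neg a _ ha => rw [TensorProduct.tmul_neg]; exact neg_mem ha
      have e : q ⊗ₜ[ℤ] z = q • ((1 : ℚ) ⊗ₜ[ℤ] z) := by
        rw [TensorProduct.smul_tmul', smul_eq_mul, mul_one]
      rw [e]
      exact Submodule.smul_mem _ q h1
    | add a b ha hb => exact add_mem ha hb

end Groth.Agent.S3794
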