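import Groth.Statements.S3804
import Mathlib
import Groth.Agent.Lib.Helper11ARRAbs
import Groth.Agent.Lib.Helper11TensorZ
import Groth.Agent.Lib.Helper4LambdaExt
import Groth.Agent.Lib.Helper4LambdaAmple

set_option autoImplicit false
universe v u
open CategoryTheory CategoryTheory.Limits AlgebraicGeometry
attribute [local instance] HasDerivedCategory.standard
open scoped TensorProduct
open KRR

namespace Groth.Agent.S3804


open Groth.Agent.Lib.Helper4 Groth.Agent.Lib.Helper11 Groth.Agent.Lib.Helper11.ARRLam in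
/-- `θ^j(E ℓ⁻¹) = B_j(λ^1(E) ℓ⁻¹, …, λ^{r+1}(E) ℓ^{-(r+1)})`. -/
theorem bott_formula {M : Type u} [CommRing M] [LambdaRing.LambdaOps M]
    (PM : LambdaRing.PosStructure M) (hM : LambdaRing.HasSplitting M PM) {N : ℕ}
    (hN : LambdaRing.gammaFiltration PM N = ⊥) (E ℓ linv : M) (hE : E ∈ PM.pos) (r : ℕ)
    (hr : PM.aug E = r + 1) (hℓ : PM.IsLine ℓ) (hlinv : linv * ℓ = 1) (j : ℕ) :
    KRR.bott PM j (E * linv) = MvPolynomial.aeval
      (fun i : Fin (r + 1) => LambdaRing.LambdaOps.lam (i.1 + 1) E * linv ^ (i.1 + 1))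
      (KRR.bottPoly j (r + 1)) := by
  classical
  have hspan := inv_mem_lineSpan PM hN hℓ hlinv
  have hlamlinv := lam_inv_of_mem_lineSpan PM hℓ hspan hlinv
  obtain ⟨L, g, hg, hL, s, hs, hsum⟩ := exists_extension_multiset hM E hE
  obtain ⟨n, uu, huu, husum, hn⟩ := exists_fin_of_multiset L.posStr s hs
  have hn' : n = r + 1 := by
    have h1 : (n : ℤ) = r + 1 := by
      rw [hn, ← aug_multiset_sum_lines L.posStr s hs, hsum, hg.aug_comp, hr]
    exact_mod_cast h1
  subst hn'
  have hgE : g E = ∑ m, uu m := by rw [husum, hsum]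
  have hcspan : g linv ∈ lineSpan L.posStr := isExtension_map_lineSpan hg hspan
  have hclam : ∀ i : ℕ, 2 ≤ i → LambdaRing.LambdaOps.lam i (g linv) = 0 := by
    intro i hi
    rw [← hg.isLambdaHom, hlamlinv i hi, map_zero]
  have hx : ∀ m, ∀ i : ℕ, 2 ≤ i → LambdaRing.LambdaOps.lam i (uu m * g linv) = 0 := by
    intro m i hi
    rw [lam_line_mul L.posStr (huu m) hcspan, hclam i hi, mul_zero]
  have key : ∀ k : ℕ, LambdaRing.LambdaOps.lam k (E * linv) =
      LambdaRing.LambdaOps.lam k E * linv ^ k := by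
    intro k
    apply hg.injective
    rw [hg.isLambdaHom, map_mul, map_mul, map_pow, hg.isLambdaHom, hgE, Finset.sum_mul,
      lam_sum_linelike _ hx, lam_sum_lines L.posStr uu huu, Finset.sum_mul]
    refine Finset.sum_congr rfl fun t ht => ?_
    rw [Finset.mem_powersetCard] at ht
    rw [Finset.prod_mul_distrib, Finset.prod_const, ht.2]
  have haug : (PM.aug (E * linv)).toNat = r + 1 := by
    have h1 : PM.aug linv = 1 := by
      have := congrArg PM.aug hlinv
      rwa [map_mul, hℓ.2, mul_one, map_one] at this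
    rw [map_mul, h1, mul_one, hr]
    rfl
  unfold KRR.bott
  have key2 : ∀ m : ℕ, m = r + 1 →
      MvPolynomial.aeval (fun i : Fin m => LambdaRing.LambdaOps.lam (i.1 + 1) (E * linv))
        (KRR.bottPoly j m) =
      MvPolynomial.aeval
        (fun i : Fin (r + 1) => LambdaRing.LambdaOps.lam (i.1 + 1) E * linv ^ (i.1 + 1))
        (KRR.bottPoly j (r + 1)) := by
    rintro m rfl
    have : (fun i : Fin (r + 1) => LambdaRing.LambdaOps.lam (i.1 + 1) (E * linv)) =
        fun i : Fin (r + 1) => LambdaRing.LambdaOps.lam (i.1 + 1) E * linv ^ (i.1 + 1) := by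
      funext i
      exact key _
    rw [this]
  exact key2 _ haug

open Groth.Agent.Lib.Helper4 Groth.Agent.Lib.Helper11 Groth.Agent.Lib.Helper11.ARRLam in
theorem aug_bott {M : Type u} [CommRing M] [LambdaRing.LambdaOps M]
    (PM : LambdaRing.PosStructure M) (hM : LambdaRing.HasSplitting M PM) {N : ℕ}
    (hN : LambdaRing.gammaFiltration PM N = ⊥) (E ℓ linv : M) (hE : E ∈ PM.pos) (r : ℕ)
    (hr : PM.aug E = r + 1) (hℓ : PM.IsLine ℓ) (hlinv : linv * ℓ = 1) (j : ℕ) :
    PM.aug (KRR.bott PM j (E * linv)) = (j : ℤ) ^ (r + 1) := by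
  classical
  rw [bott_formula PM hM hN E ℓ linv hE r hr hℓ hlinv j]
  have h1 := MvPolynomial.comp_aeval_apply (R := ℤ)
    (f := fun i : Fin (r + 1) => LambdaRing.LambdaOps.lam (i.1 + 1) E * linv ^ (i.1 + 1))
    (φ := PM.aug.toIntAlgHom) (KRR.bottPoly j (r + 1))
  simp only [RingHom.toIntAlgHom_apply] at h1
  rw [h1]
  have h2 : PM.aug linv = 1 := by
    have := congrArg PM.aug hlinv
    rwa [map_mul, hℓ.2, mul_one, map_one] at this
  have e2 : (fun i : Fin (r + 1) => PM.aug (LambdaRing.LambdaOps.lam (i.1 + 1) E * linv ^ (i.1 + 1))) =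
      fun i : Fin (r + 1) => ∑ t ∈ (Finset.univ : Finset (Fin (r + 1))).powersetCard (i.1 + 1),
        ∏ m ∈ t, (1 : ℤ) := by
    funext i
    rw [map_mul, map_pow, h2, one_pow, mul_one, aug_lam_eq_choose hM E hE, hr]
    simp
  rw [e2, aeval_bottPoly]
  simp

theorem flatZ (j : ℕ) :
    @Module.Flat ℤ (Localization.Away (j : ℤ)) _ _ (AddCommGroup.toIntModule _) := by
  have h := IsLocalization.flat (Localization.Away (j : ℤ)) (Submonoid.powers (j : ℤ))
  have e : (AddCommGroup.toIntModule (Localization.Away (j : ℤ))) =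
      (@Algebra.toModule ℤ (Localization.Away (j : ℤ)) _ _ OreLocalization.instAlgebra) :=
    Subsingleton.elim _ _
  rw [e]
  exact h

theorem lTensor_injective (j : ℕ) {K L : Type*} [CommRing K] [CommRing L] (ρ₀ : K →+* L)
    (hρ₀ : Function.Injective ρ₀) :
    Function.Injective
      (LinearMap.lTensor (Localization.Away (j : ℤ)) ρ₀.toAddMonoidHom.toIntLinearMap) := by
  have hflat := flatZ j
  exact Module.Flat.lTensor_preserves_injective_linearMap _ hρ₀


/-- For the model elementary projection: let K be a λ-ring with positive structure having the splitting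
property, e positive with ε(e) = r + 1, K_e = K[T]/(p_e) with generator ℓ (a unit, inverse linv),
carrying a λ-structure extending that of K with λ^i(ℓ) = 0 for i ≥ 2 and a positive structure making
K ⟶ K_e an extension with ℓ a line element and e - ℓ positive (when r ≥ 1), having the splitting
property, and with F^N K_e = 0 for some N (the published statement assumes instead that 1 - u is
nilpotent for all line elements u of the rings in play). Let f : K_e ⟶ K be the associated K-linear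
functional (f(ℓ^i) = σ^i(e), i ≤ r) and j ≥ 1. The published statement's hypothesis 'j invertible in
K' is read here after tensoring with R = ℤ[1/j] (no λ-ring with an augmentation onto ℤ has j
invertible for j ≥ 2). Then 1 ⊗ θ^j(e ℓ⁻¹) is invertible in R ⊗ K_e, and for every inverse w of it
and every x ∈ K_e: 1 ⊗ ψ^j(f(x)) = (R ⊗ f)(j · w · (1 ⊗ ψ^j(x))) in R ⊗ K. -/
theorem result (K : Type v) [CommRing K] [LambdaRing.LambdaOps K] (P : LambdaRing.PosStructure K) (hK : LambdaRing.HasSplitting K P) (e : K) (he : e ∈ P.pos) (r : ℕ) (hr : P.aug e = r + 1)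
    (inst : LambdaRing.LambdaOps (AdjoinRoot (KRR.extPoly P e))) (Pe : @LambdaRing.PosStructure _ _ inst)
    (hext : @LambdaRing.IsExtension K _ _ _ _ inst P Pe (AdjoinRoot.of (KRR.extPoly P e)))
    (hroot : ∀ i : ℕ, 2 ≤ i → @LambdaRing.LambdaOps.lam _ _ inst i (AdjoinRoot.root (KRR.extPoly P e)) = 0)
    (hline : @LambdaRing.PosStructure.IsLine _ _ inst Pe (AdjoinRoot.root (KRR.extPoly P e)))
    (hpos : 1 ≤ r → AdjoinRoot.of (KRR.extPoly P e) e - AdjoinRoot.root (KRR.extPoly P e) ∈ (@LambdaRing.PosStructure.pos _ _ inst Pe))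
    (hsplit : @LambdaRing.HasSplitting _ _ inst Pe) (N : ℕ) (hN : @LambdaRing.gammaFiltration _ _ inst Pe N = ⊥)
    (f : AdjoinRoot (KRR.extPoly P e) →ₗ[K] K)
    (hf : ∀ i : ℕ, i ≤ r → f (AdjoinRoot.root (KRR.extPoly P e) ^ i) = KRR.sigma i e)
    (linv : AdjoinRoot (KRR.extPoly P e)) (hlinv : linv * AdjoinRoot.root (KRR.extPoly P e) = 1)
    (j : ℕ) (hj : 1 ≤ j) :
    (∃ w : TensorProduct ℤ (Localization.Away (j : ℤ)) (AdjoinRoot (KRR.extPoly P e)), w * ((1 : Localization.Away (j : ℤ)) ⊗ₜ[ℤ] @KRR.bott _ _ inst Pe j (AdjoinRoot.of (KRR.extPoly P e) e * linv)) = 1) ∧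
    ∀ w : TensorProduct ℤ (Localization.Away (j : ℤ)) (AdjoinRoot (KRR.extPoly P e)), w * ((1 : Localization.Away (j : ℤ)) ⊗ₜ[ℤ] @KRR.bott _ _ inst Pe j (AdjoinRoot.of (KRR.extPoly P e) e * linv)) = 1 →
      ∀ x : AdjoinRoot (KRR.extPoly P e),
        (1 : Localization.Away (j : ℤ)) ⊗ₜ[ℤ] LambdaRing.adams P j (f x) =
          LinearMap.lTensor (Localization.Away (j : ℤ)) f.toAddMonoidHom.toIntLinearMap
            ((j : TensorProduct ℤ (Localization.Away (j : ℤ)) (AdjoinRoot (KRR.extPoly P e))) * w * ((1 : Localization.Away (j : ℤ)) ⊗ₜ[ℤ] @LambdaRing.adams _ _ inst Pe j x)) := by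
  classical
  letI := inst
  have hm : (P.aug e).toNat = r + 1 := by rw [hr]; rfl
  have hE : AdjoinRoot.of (KRR.extPoly P e) e ∈ Pe.pos := hext.pos_subset e he
  have hEaug : Pe.aug (AdjoinRoot.of (KRR.extPoly P e) e) = r + 1 := by rw [hext.aug_comp, hr]
  have hθformula := bott_formula Pe hsplit hN (AdjoinRoot.of (KRR.extPoly P e) e)
    (AdjoinRoot.root (KRR.extPoly P e)) linv hE r hEaug hline hlinv j
  have hθaug := aug_bott Pe hsplit hN (AdjoinRoot.of (KRR.extPoly P e) e)
    (AdjoinRoot.root (KRR.extPoly P e)) linv hE r hEaug hline hlinv j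
  set θ := KRR.bott Pe j (AdjoinRoot.of (KRR.extPoly P e) e * linv) with hθdef
  -- part 1
  have part1 : ∃ w : Groth.Agent.Lib.Helper11.TensorZ.TC (Localization.Away (j : ℤ))
      (AdjoinRoot (KRR.extPoly P e)),
      w * Groth.Agent.Lib.Helper11.TensorZ.incR (Localization.Away (j : ℤ))
        (AdjoinRoot (KRR.extPoly P e)) θ = 1 := by
    have hjR : IsUnit ((j : ℕ) : Localization.Away (j : ℤ)) := by
      have := IsLocalization.Away.algebraMap_isUnit (S := Localization.Away (j : ℤ)) (j : ℤ)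
      simpa using this
    have hjT : IsUnit ((j : ℕ) : Groth.Agent.Lib.Helper11.TensorZ.TC (Localization.Away (j : ℤ))
        (AdjoinRoot (KRR.extPoly P e))) := by
      have := hjR.map (Groth.Agent.Lib.Helper11.TensorZ.incL (Localization.Away (j : ℤ))
        (AdjoinRoot (KRR.extPoly P e)))
      rwa [map_natCast] at this
    have hν : Pe.aug (θ - (j : AdjoinRoot (KRR.extPoly P e)) ^ (r + 1)) = 0 := by
      rw [map_sub, hθaug, map_pow, map_natCast, sub_self]
    have hνN : (θ - (j : AdjoinRoot (KRR.extPoly P e)) ^ (r + 1)) ^ N = 0 := by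
      have h1 := Groth.Agent.Lib.Helper4.mem_gammaFiltration_one Pe _ hν
      have h2 := Groth.Agent.Lib.Helper4.pow_mem_gammaFiltration Pe h1 N
      rw [one_mul, hN] at h2
      exact (AddSubgroup.mem_bot).1 h2
    have h3 : Groth.Agent.Lib.Helper11.TensorZ.incR (Localization.Away (j : ℤ))
        (AdjoinRoot (KRR.extPoly P e)) θ =
        ((j : ℕ) : Groth.Agent.Lib.Helper11.TensorZ.TC (Localization.Away (j : ℤ))
          (AdjoinRoot (KRR.extPoly P e))) ^ (r + 1) +
        Groth.Agent.Lib.Helper11.TensorZ.incR (Localization.Away (j : ℤ))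
          (AdjoinRoot (KRR.extPoly P e)) (θ - (j : AdjoinRoot (KRR.extPoly P e)) ^ (r + 1)) := by
      rw [map_sub, map_pow, map_natCast]; ring
    have h4 : IsNilpotent (Groth.Agent.Lib.Helper11.TensorZ.incR (Localization.Away (j : ℤ))
          (AdjoinRoot (KRR.extPoly P e)) (θ - (j : AdjoinRoot (KRR.extPoly P e)) ^ (r + 1))) :=
      ⟨N, by rw [← map_pow, hνN, map_zero]⟩
    have h5 := h4.isUnit_add_left_of_commute (hjT.pow (r + 1)) (Commute.all _ _)
    rw [← h3] at h5
    exact h5.exists_left_inv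
  refine ⟨part1, ?_⟩
  intro w hw x
  have hw' : (w : Groth.Agent.Lib.Helper11.TensorZ.TC (Localization.Away (j : ℤ))
      (AdjoinRoot (KRR.extPoly P e))) *
      Groth.Agent.Lib.Helper11.TensorZ.incR (Localization.Away (j : ℤ))
        (AdjoinRoot (KRR.extPoly P e)) θ = 1 := hw
  -- the polynomial
  have ha0 : Groth.Agent.Lib.Helper4.extCoeff e 0 = 1 := by
    simp [Groth.Agent.Lib.Helper4.extCoeff, LambdaRing.LambdaOps.lam_zero]
  have hpm : (KRR.extPoly P e).Monic := by
    rw [Groth.Agent.Lib.Helper4.extPoly_eq_revPoly]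
    exact Groth.Agent.Lib.Helper4.revPoly_monic _ _ ha0
  have hnt : Nontrivial K := ⟨⟨0, 1, fun h => by
    have := congrArg P.aug h
    rw [map_zero, map_one] at this
    exact zero_ne_one this⟩⟩
  have hpd : (KRR.extPoly P e).natDegree = r + 1 := by
    rw [Groth.Agent.Lib.Helper4.extPoly_eq_revPoly,
      Groth.Agent.Lib.Helper4.natDegree_revPoly _ _ ha0, hm]
  -- the functional on powers of linv
  have hfinv : ∀ k, k ≤ r → f (linv ^ k) = if k = 0 then 1 else 0 := by
    intro k hk
    by_cases hk0 : k = 0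
    · subst hk0
      rw [if_pos rfl, pow_zero, ← pow_zero (AdjoinRoot.root (KRR.extPoly P e)), hf 0 (by omega),
        Groth.Agent.Lib.Helper4.sigma_zero]
    · rw [if_neg hk0]
      exact Groth.Agent.Lib.Helper4.functional_root_inv_pow e he r hr f hf linv hlinv k (by omega) hk
  have hfof : ∀ y : K, f (AdjoinRoot.of (KRR.extPoly P e) y) = y := by
    intro y
    rw [← mul_one (AdjoinRoot.of (KRR.extPoly P e) y), ← AdjoinRoot.algebraMap_eq,
      ← Algebra.smul_def, map_smul, ← pow_zero linv, hfinv 0 (by omega), if_pos rfl, smul_eq_mul,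
      mul_one]
  -- splitting
  obtain ⟨L, g, hg, hL, s, hs, hsum⟩ :=
    Groth.Agent.Lib.Helper4.exists_extension_multiset hsplit _ hE
  obtain ⟨n, uu, huu, husum, hn⟩ := Groth.Agent.Lib.Helper4.exists_fin_of_multiset L.posStr s hs
  have hn' : n = r + 1 := by
    have h1 : (n : ℤ) = r + 1 := by
      rw [hn, ← Groth.Agent.Lib.Helper4.aug_multiset_sum_lines L.posStr s hs, hsum, hg.aug_comp,
        hEaug]
    exact_mod_cast h1
  subst hn'
  have hgE : g (AdjoinRoot.of (KRR.extPoly P e) e) = ∑ m, uu m := by rw [husum, hsum]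
  let ρ₀ : K →+* L.carrier := g.comp (AdjoinRoot.of (KRR.extPoly P e))
  have hρ₀ : Function.Injective ρ₀ := hg.injective.comp hext.injective
  have huu_unit : ∀ m, IsUnit (uu m) := fun m =>
    Groth.Agent.Lib.Helper4.isUnit_of_isLine L.posStr _ (huu m)
  have hb : ∀ k, ρ₀ (LambdaRing.LambdaOps.lam k e) =
      ∑ t ∈ (Finset.univ : Finset (Fin (r + 1))).powersetCard k, ∏ m ∈ t, uu m := by
    intro k
    show g (AdjoinRoot.of (KRR.extPoly P e) (LambdaRing.LambdaOps.lam k e)) = _
    rw [hext.isLambdaHom, hg.isLambdaHom, hgE,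
      Groth.Agent.Lib.Helper4.lam_sum_lines L.posStr uu huu]
  have hp : (KRR.extPoly P e).map ρ₀ = Groth.Agent.Lib.Helper11.ARR.nodePoly uu := by
    rw [Groth.Agent.Lib.Helper11.ARRLam.nodePoly_eq_sum]
    unfold KRR.extPoly
    rw [hm, Polynomial.map_sum]
    refine Finset.sum_congr rfl fun i _ => ?_
    rw [Polynomial.map_mul, Polynomial.map_C, Polynomial.map_pow, Polynomial.map_X, map_mul, map_pow,
      map_neg, map_one, hb]
  have hθ' : θ = @MvPolynomial.aeval ℤ (AdjoinRoot (KRR.extPoly P e)) (Fin (r + 1)) _ _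
      (Ring.toIntAlgebra (AdjoinRoot (KRR.extPoly P e)))
      (fun i : Fin (r + 1) => AdjoinRoot.of (KRR.extPoly P e) (LambdaRing.LambdaOps.lam (i.1 + 1) e) *
        linv ^ (i.1 + 1)) (KRR.bottPoly j (r + 1)) := by
    rw [hθformula]
    have : (fun i : Fin (r + 1) => LambdaRing.LambdaOps.lam (i.1 + 1)
        (AdjoinRoot.of (KRR.extPoly P e) e) * linv ^ (i.1 + 1)) =
        fun i : Fin (r + 1) => AdjoinRoot.of (KRR.extPoly P e)
          (LambdaRing.LambdaOps.lam (i.1 + 1) e) * linv ^ (i.1 + 1) := by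
      funext i
      rw [hext.isLambdaHom]
    rw [this]
  -- the additive maps
  let F : Groth.Agent.Lib.Helper11.TensorZ.TC (Localization.Away (j : ℤ))
      (AdjoinRoot (KRR.extPoly P e)) →+
      Groth.Agent.Lib.Helper11.TensorZ.TC (Localization.Away (j : ℤ)) K :=
    (LinearMap.lTensor (Localization.Away (j : ℤ)) f.toAddMonoidHom.toIntLinearMap).toAddMonoidHom
  have hF : ∀ (a : Localization.Away (j : ℤ)) (z : AdjoinRoot (KRR.extPoly P e)),
      F (a ⊗ₜ[ℤ] z) = a ⊗ₜ[ℤ] f z := fun a z => rfl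
  let incl : Groth.Agent.Lib.Helper11.TensorZ.TC (Localization.Away (j : ℤ)) K →+
      Groth.Agent.Lib.Helper11.TensorZ.TC (Localization.Away (j : ℤ)) L.carrier :=
    (LinearMap.lTensor (Localization.Away (j : ℤ)) ρ₀.toAddMonoidHom.toIntLinearMap).toAddMonoidHom
  have hincl_tmul : ∀ (a : Localization.Away (j : ℤ)) (y : K),
      incl (a ⊗ₜ[ℤ] y) = a ⊗ₜ[ℤ] ρ₀ y := fun a y => rfl
  have hincl : Function.Injective incl := lTensor_injective j ρ₀ hρ₀
  have hcomp : ∀ (a : Localization.Away (j : ℤ)) (z : AdjoinRoot (KRR.extPoly P e)),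
      incl (F (Groth.Agent.Lib.Helper11.TensorZ.incL (Localization.Away (j : ℤ))
          (AdjoinRoot (KRR.extPoly P e)) a *
        Groth.Agent.Lib.Helper11.TensorZ.incR (Localization.Away (j : ℤ))
          (AdjoinRoot (KRR.extPoly P e)) z)) =
      Groth.Agent.Lib.Helper11.TensorZ.incL (Localization.Away (j : ℤ)) L.carrier a *
        Groth.Agent.Lib.Helper11.TensorZ.incR (Localization.Away (j : ℤ)) L.carrier (ρ₀ (f z)) := by
    intro a z
    rw [Groth.Agent.Lib.Helper11.TensorZ.incL_mul_incR,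
      Groth.Agent.Lib.Helper11.TensorZ.incL_mul_incR, hF, hincl_tmul]
  have key := fun (y : K) (k : ℕ) (hk : k ≤ r) =>
    Groth.Agent.Lib.Helper11.ARRAbs.arr_abstract ρ₀ uu huu_unit (KRR.extPoly P e) hpm hpd hp f linv
      hlinv hfinv j hj (fun k => LambdaRing.LambdaOps.lam k e) hb θ hθ'
      (Groth.Agent.Lib.Helper11.TensorZ.incL (Localization.Away (j : ℤ))
        (AdjoinRoot (KRR.extPoly P e)))
      (Groth.Agent.Lib.Helper11.TensorZ.incR (Localization.Away (j : ℤ))
        (AdjoinRoot (KRR.extPoly P e)))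
      Groth.Agent.Lib.Helper11.TensorZ.mem_closure F
      (Groth.Agent.Lib.Helper11.TensorZ.incL (Localization.Away (j : ℤ)) L.carrier)
      (Groth.Agent.Lib.Helper11.TensorZ.incR (Localization.Away (j : ℤ)) L.carrier)
      incl hincl hcomp
      (fun g₁ g₂ => ⟨Groth.Agent.Lib.Helper11.TensorZ.liftC g₁ g₂,
        Groth.Agent.Lib.Helper11.TensorZ.liftC_incL g₁ g₂,
        Groth.Agent.Lib.Helper11.TensorZ.liftC_incR g₁ g₂⟩)
      w hw' y k hk
  -- expansion of x
  obtain ⟨a, ha⟩ := Groth.Agent.Lib.Helper11.ARRLam.exists_expand hpm hpd hlinv x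
  have hfx : f x = a 0 := by
    rw [ha, map_sum, Finset.sum_eq_single 0]
    · rw [pow_zero, mul_one, hfof]
    · intro i hi hi0
      rw [Finset.mem_range] at hi
      rw [← AdjoinRoot.algebraMap_eq, ← Algebra.smul_def, map_smul, hfinv i (by omega), if_neg hi0,
        smul_zero]
    · intro h; exact absurd (Finset.mem_range.2 (by omega)) h
  have hadams_linv : LambdaRing.adams Pe j linv = linv ^ j := by
    have h1 : LambdaRing.adams Pe j linv * AdjoinRoot.root (KRR.extPoly P e) ^ j = 1 := by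
      rw [← Groth.Agent.Lib.Helper4.adams_of_isLine Pe _ hline j,
        ← Groth.Agent.Lib.Helper4.adams_mul hsplit, hlinv, Groth.Agent.Lib.Helper4.adams_one]
    have h2 : linv ^ j * AdjoinRoot.root (KRR.extPoly P e) ^ j = 1 := by
      rw [← mul_pow, hlinv, one_pow]
    calc LambdaRing.adams Pe j linv
        = LambdaRing.adams Pe j linv * (AdjoinRoot.root (KRR.extPoly P e) ^ j * linv ^ j) := by
          rw [mul_comm _ (linv ^ j), h2, mul_one]
      _ = linv ^ j := by rw [← mul_assoc, h1, one_mul]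
  have hψx : LambdaRing.adams Pe j x = ∑ k ∈ Finset.range (r + 1),
      AdjoinRoot.of (KRR.extPoly P e) (LambdaRing.adams P j (a k)) * linv ^ (j * k) := by
    conv_lhs => rw [ha]
    rw [Groth.Agent.Lib.Helper4.adams_sum]
    refine Finset.sum_congr rfl fun k _ => ?_
    rw [Groth.Agent.Lib.Helper4.adams_mul hsplit,
      ← Groth.Agent.Lib.Helper4.isExtension_map_adams hext,
      ← Groth.Agent.Lib.Helper4.adamsRingHom_apply hsplit, map_pow,
      Groth.Agent.Lib.Helper4.adamsRingHom_apply, hadams_linv, ← pow_mul]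
  -- conclusion
  show ((1 : Localization.Away (j : ℤ)) ⊗ₜ[ℤ] LambdaRing.adams P j (f x) :
      Groth.Agent.Lib.Helper11.TensorZ.TC (Localization.Away (j : ℤ)) K) =
    F (((j : ℕ) : Groth.Agent.Lib.Helper11.TensorZ.TC (Localization.Away (j : ℤ))
        (AdjoinRoot (KRR.extPoly P e))) * w *
      Groth.Agent.Lib.Helper11.TensorZ.incR (Localization.Away (j : ℤ))
        (AdjoinRoot (KRR.extPoly P e)) (LambdaRing.adams Pe j x))
  rw [hψx, map_sum, Finset.mul_sum, map_sum, Finset.sum_eq_single 0]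
  · rw [key _ 0 (by omega), if_pos rfl, Groth.Agent.Lib.Helper11.TensorZ.incR_apply, hF, hfof, hfx]
  · intro i hi hi0
    rw [Finset.mem_range] at hi
    rw [key _ i (by omega), if_neg hi0]
  · intro h; exact absurd (Finset.mem_range.2 (by omega)) h

end Groth.Agent.S3804
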