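import Groth.Statements.S3807
import Mathlib

set_option autoImplicit false
universe u
open scoped TensorProduct
attribute [local instance] PP16.mapAlgebra PP16.isScalarTower_mapAlgebra
open PP16

namespace Groth.Agent.S3807

set_option linter.unusedSectionVars false

section
variable (n : ℕ) (A B : Type u) [CommRing A] [CommRing B] [Algebra A B]

theorem aug_pow : (augIdeal n A B) ^ (n + 1) = ⊥ := by
  unfold augIdeal
  rw [← Ideal.map_pow]
  exact Ideal.map_quotient_self _

theorem dn_sub_mem (t : B) : dn n A B t - algebraMap B (P n A B) t ∈ augIdeal n A B := by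
  have : dn n A B t - algebraMap B (P n A B) t
      = Ideal.Quotient.mk _ ((1 : B) ⊗ₜ[A] t - t ⊗ₜ[A] (1 : B)) := by
    rw [map_sub]
    rfl
  rw [this]
  exact Ideal.mem_map_of_mem _ (KaehlerDifferential.one_smul_sub_smul_one_mem_ideal A t)

theorem exists_y (t : B) : ∃ y : P n A B, y * dn n A B t = (algebraMap B (P n A B) t) ^ (n + 1) := by
  obtain ⟨a, ha⟩ : ∃ a, a = algebraMap B (P n A B) t := ⟨_, rfl⟩
  obtain ⟨δ, hδ⟩ : ∃ δ, δ = dn n A B t - a := ⟨_, rfl⟩
  have hδ0 : δ ^ (n + 1) = 0 := by
    have h1 : δ ^ (n + 1) ∈ (augIdeal n A B) ^ (n + 1) :=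
      Ideal.pow_mem_pow (by rw [hδ, ha]; exact dn_sub_mem n A B t) _
    rw [aug_pow] at h1
    exact h1
  have hdn : dn n A B t = a - (-δ) := by rw [hδ]; ring
  refine ⟨∑ i ∈ Finset.range (n + 1), a ^ i * (-δ) ^ (n - i), ?_⟩
  rw [hdn, ← ha]
  have := (Commute.all a (-δ)).geom_sum₂_mul (n + 1)
  simp only [Nat.add_sub_cancel] at this
  rw [this, neg_pow, hδ0, mul_zero, sub_zero]

end

section
variable (n : ℕ) (A B B' : Type u) [CommRing A] [CommRing B] [Algebra A B]
    [CommRing B'] [Algebra B B'] [Algebra A B'] [IsScalarTower A B B'] (S : Submonoid B)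
    [IsLocalization S B']

/-- the multiplicative set. -/
noncomputable abbrev MM : Submonoid (P n A B) := S.map (algebraMap B (P n A B))

variable (L : Type u) [CommRing L] [Algebra (P n A B) L] [Algebra A L] [IsScalarTower A (P n A B) L]
  [IsLocalization (MM n A B S) L]

/-- left map `B → L`. -/
noncomputable def leftB : B →ₐ[A] L :=
  (IsScalarTower.toAlgHom A (P n A B) L).comp (IsScalarTower.toAlgHom A B (P n A B))

/-- right map `B → L`. -/
noncomputable def rightB : B →ₐ[A] L :=
  (IsScalarTower.toAlgHom A (P n A B) L).comp (dn n A B)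

theorem leftB_unit (s : S) : IsUnit (leftB n A B L (s : B)) := by
  change IsUnit (algebraMap (P n A B) L (algebraMap B (P n A B) s))
  exact IsLocalization.map_units L (⟨_, ⟨s, s.2, rfl⟩⟩ : MM n A B S)

theorem rightB_unit (s : S) : IsUnit (rightB n A B L (s : B)) := by
  obtain ⟨y, hy⟩ := exists_y n A B (s : B)
  have h1 : algebraMap (P n A B) L y * rightB n A B L (s : B)
      = (leftB n A B L (s : B)) ^ (n + 1) := by
    change algebraMap (P n A B) L y * algebraMap (P n A B) L (dn n A B s)
      = (algebraMap (P n A B) L (algebraMap B (P n A B) s)) ^ (n + 1)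
    rw [← map_mul, hy, map_pow]
  have h2 : IsUnit ((leftB n A B L (s : B)) ^ (n + 1)) := (leftB_unit n A B S L s).pow _
  rw [← h1] at h2
  exact isUnit_of_mul_isUnit_right h2

/-- left map `B' → L`. -/
noncomputable def leftB' : B' →ₐ[A] L :=
  IsLocalization.liftAlgHom (M := S) (f := leftB n A B L) (leftB_unit n A B S L)

/-- right map `B' → L`. -/
noncomputable def rightB' : B' →ₐ[A] L :=
  IsLocalization.liftAlgHom (M := S) (f := rightB n A B L) (rightB_unit n A B S L)

theorem leftB'_alg (b : B) : leftB' n A B B' S L (algebraMap B B' b) = leftB n A B L b := by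
  rw [leftB', IsLocalization.liftAlgHom_apply, IsLocalization.lift_eq]
  rfl

theorem rightB'_alg (b : B) : rightB' n A B B' S L (algebraMap B B' b) = rightB n A B L b := by
  rw [rightB', IsLocalization.liftAlgHom_apply, IsLocalization.lift_eq]
  rfl

/-- the map `B' ⊗ B' → L`. -/
noncomputable def psi0 : B' ⊗[A] B' →ₐ[A] L :=
  Algebra.TensorProduct.lift (leftB' n A B B' S L) (rightB' n A B B' S L)
    (fun _ _ => Commute.all _ _)

theorem psi0_tmul (x y : B') :
    psi0 n A B B' S L (x ⊗ₜ[A] y) = leftB' n A B B' S L x * rightB' n A B B' S L y := by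
  rw [psi0, Algebra.TensorProduct.lift_tmul]

/-- the image of the augmentation ideal in `L`. -/
noncomputable def JJ : Ideal L := (augIdeal n A B).map (algebraMap (P n A B) L)

theorem JJ_pow : (JJ n A B L) ^ (n + 1) = ⊥ := by
  rw [JJ, ← Ideal.map_pow, aug_pow, Ideal.map_bot]

theorem right_sub_left_mem (b' : B') :
    rightB' n A B B' S L b' - leftB' n A B B' S L b' ∈ JJ n A B L := by
  have hext : (Ideal.Quotient.mk (JJ n A B L)).comp (rightB' n A B B' S L).toRingHom
      = (Ideal.Quotient.mk (JJ n A B L)).comp (leftB' n A B B' S L).toRingHom := by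
    refine IsLocalization.ringHom_ext S ?_
    ext b
    simp only [RingHom.comp_apply, AlgHom.toRingHom_eq_coe, RingHom.coe_coe]
    rw [rightB'_alg, leftB'_alg, Ideal.Quotient.eq]
    change algebraMap (P n A B) L (dn n A B b) - algebraMap (P n A B) L (algebraMap B (P n A B) b)
      ∈ JJ n A B L
    rw [← map_sub]
    exact Ideal.mem_map_of_mem _ (dn_sub_mem n A B b)
  have := congrArg (fun f => f b') hext
  simp only [RingHom.comp_apply, AlgHom.toRingHom_eq_coe, RingHom.coe_coe] at this
  rwa [Ideal.Quotient.eq] at this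

theorem map_ideal_le :
    (KaehlerDifferential.ideal A B').map (psi0 n A B B' S L).toRingHom ≤ JJ n A B L := by
  rw [← KaehlerDifferential.span_range_eq_ideal, Ideal.map_span, Ideal.span_le]
  rintro _ ⟨_, ⟨b', rfl⟩, rfl⟩
  change psi0 n A B B' S L ((1 : B') ⊗ₜ[A] b' - b' ⊗ₜ[A] (1 : B')) ∈ JJ n A B L
  rw [map_sub, psi0_tmul, psi0_tmul, map_one, map_one, one_mul, mul_one]
  exact right_sub_left_mem n A B B' S L b'

theorem psi0_kills (x : B' ⊗[A] B') (hx : x ∈ (KaehlerDifferential.ideal A B') ^ (n + 1)) :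
    (psi0 n A B B' S L).toRingHom x = 0 := by
  have h1 : (psi0 n A B B' S L).toRingHom x
      ∈ ((KaehlerDifferential.ideal A B') ^ (n + 1)).map (psi0 n A B B' S L).toRingHom :=
    Ideal.mem_map_of_mem _ hx
  rw [Ideal.map_pow] at h1
  have h2 := Ideal.pow_right_mono (map_ideal_le n A B B' S L) (n + 1) h1
  rw [JJ_pow] at h2
  exact h2

/-- the map `P' → L`. -/
noncomputable def psi : P n A B' →+* L :=
  Ideal.Quotient.lift _ (psi0 n A B B' S L).toRingHom (psi0_kills n A B B' S L)

theorem psi_map (x : P n A B) :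
    psi n A B B' S L (PP16.map n A B A B' x) = algebraMap (P n A B) L x := by
  obtain ⟨w, rfl⟩ := Ideal.Quotient.mk_surjective x
  rw [map_mk]
  change (psi0 n A B B' S L) (tensorMap A B A B' w) = _
  induction w using TensorProduct.induction_on with
  | zero => simp
  | add w₁ w₂ h₁ h₂ => rw [map_add, map_add, h₁, h₂, map_add, map_add]
  | tmul b c =>
    rw [tensorMap_tmul, psi0_tmul, leftB'_alg, rightB'_alg]
    change algebraMap (P n A B) L (algebraMap B (P n A B) b) * algebraMap (P n A B) L (dn n A B c)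
      = _
    rw [← map_mul]
    congr 1
    change Ideal.Quotient.mk _ (b ⊗ₜ[A] (1 : B)) * Ideal.Quotient.mk _ ((1 : B) ⊗ₜ[A] c) = _
    rw [← map_mul, Algebra.TensorProduct.tmul_mul_tmul, mul_one, one_mul]

end

section
variable (n : ℕ) (A B B' : Type u) [CommRing A] [CommRing B] [Algebra A B]
    [CommRing B'] [Algebra B B'] [Algebra A B'] [IsScalarTower A B B'] (S : Submonoid B)
    [IsLocalization S B']

theorem algMap_eq (x : P n A B) :
    algebraMap (P n A B) (P n A B') x = PP16.map n A B A B' x := rfl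

theorem units (s : B) (hs : s ∈ S) :
    IsUnit (algebraMap (P n A B) (P n A B') (algebraMap B (P n A B) s)) := by
  rw [algMap_eq, map_algebraMap]
  exact (IsLocalization.map_units B' (⟨s, hs⟩ : S)).map _

theorem surj_tmul (b' c' : B') :
    ∃ (x : P n A B) (u : B), u ∈ S ∧
      Ideal.Quotient.mk ((KaehlerDifferential.ideal A B') ^ (n + 1)) (b' ⊗ₜ[A] c')
        * algebraMap (P n A B) (P n A B') (algebraMap B (P n A B) u)
      = algebraMap (P n A B) (P n A B') x := by
  obtain ⟨b, s, rfl⟩ := IsLocalization.exists_mk'_eq S b'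
  obtain ⟨c, t, rfl⟩ := IsLocalization.exists_mk'_eq S c'
  obtain ⟨y, hy⟩ := exists_y n A B (t : B)
  refine ⟨y * Ideal.Quotient.mk _ (b ⊗ₜ[A] c), (t : B) ^ (n + 1) * s,
    mul_mem (pow_mem t.2 _) s.2, ?_⟩
  have hy' := congrArg (PP16.map n A B A B') hy
  rw [map_mul, map_pow, map_dn, map_algebraMap] at hy'
  simp only [map_mul, map_pow]
  rw [algMap_eq, algMap_eq, algMap_eq, algMap_eq, map_algebraMap, map_algebraMap, ← hy', map_mk,
    tensorMap_tmul]
  have e1 : algebraMap B' (P n A B') (algebraMap B B' (s : B))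
      = Ideal.Quotient.mk _ ((algebraMap B B' (s : B)) ⊗ₜ[A] (1 : B')) := rfl
  have e2 : dn n A B' (algebraMap B B' (t : B))
      = Ideal.Quotient.mk _ ((1 : B') ⊗ₜ[A] (algebraMap B B' (t : B))) := rfl
  rw [e1, e2]
  have e3 : Ideal.Quotient.mk ((KaehlerDifferential.ideal A B') ^ (n + 1))
        (IsLocalization.mk' B' b s ⊗ₜ[A] IsLocalization.mk' B' c t)
      * (Ideal.Quotient.mk _ ((1 : B') ⊗ₜ[A] (algebraMap B B' (t : B)))
          * Ideal.Quotient.mk _ ((algebraMap B B' (s : B)) ⊗ₜ[A] (1 : B')))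
      = Ideal.Quotient.mk _ ((algebraMap B B' b) ⊗ₜ[A] (algebraMap B B' c)) := by
    rw [← map_mul, ← map_mul, Algebra.TensorProduct.tmul_mul_tmul,
      Algebra.TensorProduct.tmul_mul_tmul, one_mul, mul_one, IsLocalization.mk'_spec,
      IsLocalization.mk'_spec]
  rw [← e3]
  ring

theorem surj (z : P n A B') :
    ∃ (x : P n A B) (u : B), u ∈ S ∧
      z * algebraMap (P n A B) (P n A B') (algebraMap B (P n A B) u)
      = algebraMap (P n A B) (P n A B') x := by
  obtain ⟨w, rfl⟩ := Ideal.Quotient.mk_surjective z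
  induction w using TensorProduct.induction_on with
  | zero => exact ⟨0, 1, one_mem _, by simp⟩
  | tmul b' c' => exact surj_tmul n A B B' S b' c'
  | add w₁ w₂ h₁ h₂ =>
    obtain ⟨x₁, u₁, hu₁, e₁⟩ := h₁
    obtain ⟨x₂, u₂, hu₂, e₂⟩ := h₂
    refine ⟨x₁ * algebraMap B (P n A B) u₂ + x₂ * algebraMap B (P n A B) u₁, u₁ * u₂,
      mul_mem hu₁ hu₂, ?_⟩
    rw [map_add, map_mul, map_mul, map_add, map_mul, map_mul, ← e₁, ← e₂]
    ring

end


/-- Let B be an A-algebra, S a multiplicative subset of B and B' = S⁻¹B. Then the canonical map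
S⁻¹P^n_{B/A} → P^n_{B'/A} induced by functoriality is an isomorphism: P^n_{B'/A} is the localization
of P^n_{B/A} at the image of S. -/
theorem result (n : ℕ) (A B B' : Type u) [CommRing A] [CommRing B] [Algebra A B]
    [CommRing B'] [Algebra B B'] [Algebra A B'] [IsScalarTower A B B'] (S : Submonoid B) [IsLocalization S B'] :
    IsLocalization (S.map (algebraMap B (PP16.P n A B))) (PP16.P n A B') := by
  rw [isLocalization_iff]
  refine ⟨?_, ?_, ?_⟩
  · rintro ⟨_, s, hs, rfl⟩
    exact units n A B B' S s hs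
  · intro z
    obtain ⟨x, u, hu, e⟩ := surj n A B B' S z
    exact ⟨(x, ⟨algebraMap B (P n A B) u, ⟨u, hu, rfl⟩⟩), e⟩
  · intro x y hxy
    have h1 : algebraMap (P n A B) (Localization (MM n A B S)) x
        = algebraMap (P n A B) (Localization (MM n A B S)) y := by
      rw [← psi_map n A B B' S (Localization (MM n A B S)) x,
        ← psi_map n A B B' S (Localization (MM n A B S)) y]
      exact congrArg _ hxy
    exact IsLocalization.exists_of_eq (S := Localization (MM n A B S)) h1

end Groth.Agent.S3807
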