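import Groth.Statements.S3808
import Groth.Agent.Lib.Helper4PPRing

set_option autoImplicit false
universe u
open scoped TensorProduct
open PP16

namespace Groth.Agent.S3808

/-- Let A → B be a ring map, R a multiplicative subset of A, S one of B containing the image of R, and
A' = R⁻¹A, B' = S⁻¹B with the induced map A' → B'. Then the canonical map P^n_{B'/A} → P^n_{B'/A'}
is bijective. -/
theorem result (n : ℕ) (A B A' B' : Type u) [CommRing A] [CommRing B] [Algebra A B]
    [CommRing A'] [CommRing B'] [Algebra A A'] [Algebra B B'] [Algebra A' B'] [Algebra A B']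
    [IsScalarTower A A' B'] [IsScalarTower A B B'] (R : Submonoid A) (S : Submonoid B) [IsLocalization R A']
    [IsLocalization S B'] (hRS : ∀ r ∈ R, algebraMap A B r ∈ S) :
    Function.Bijective (PP16.map n A B' A' B') := by
  have hsurj : Function.Surjective (algebraMap B' B') := fun x => ⟨x, rfl⟩
  obtain ⟨h1, h2⟩ := Groth.Agent.Lib.Helper4.quotient_pow_map_ker
    (PP16.tensorMap A B' A' B').toRingHom
    (Groth.Agent.Lib.Helper4.tensorMap_surjective_of_surjective A B' A' B' hsurj)
    (KaehlerDifferential.ideal A B') (KaehlerDifferential.ideal A' B')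
    (Groth.Agent.Lib.Helper4.ideal_map_tensorMap_eq_of_surjective A B' A' B' hsurj) (n + 1)
    (PP16.map n A B' A' B').toRingHom (fun x => rfl)
  refine ⟨?_, h1⟩
  have hker : Groth.Agent.Lib.Helper4.towerIdeal A A' B' = ⊥ := by
    rw [Groth.Agent.Lib.Helper4.towerIdeal, Ideal.span_eq_bot]
    rintro _ ⟨a', rfl⟩
    obtain ⟨⟨a, r⟩, hr⟩ := IsLocalization.surj R a'
    simp only at hr
    -- `u` is the image of `r` in `B'`, a unit
    have hu : IsUnit (algebraMap A B' r) := by
      rw [IsScalarTower.algebraMap_apply A B B']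
      exact IsLocalization.map_units B' (⟨algebraMap A B r, hRS r r.2⟩ : S)
    have hu' : IsUnit ((algebraMap A B' r) ⊗ₜ[A] (1 : B')) :=
      hu.map (Algebra.TensorProduct.includeLeft : B' →ₐ[A] B' ⊗[A] B')
    have h3 : algebraMap A' B' a' * algebraMap A B' r = algebraMap A B' a := by
      rw [IsScalarTower.algebraMap_apply A A' B' r, IsScalarTower.algebraMap_apply A A' B' a,
        ← map_mul, hr]
    rw [sub_eq_zero]
    apply hu'.mul_left_cancel
    calc (algebraMap A B' r ⊗ₜ[A] (1 : B')) * ((1 : B') ⊗ₜ[A] algebraMap A' B' a')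
        = (algebraMap A B' r) ⊗ₜ[A] (algebraMap A' B' a') := by
          rw [Algebra.TensorProduct.tmul_mul_tmul, mul_one, one_mul]
      _ = ((r : A) • (1 : B')) ⊗ₜ[A] (algebraMap A' B' a') := by
          rw [← Algebra.algebraMap_eq_smul_one]
      _ = (1 : B') ⊗ₜ[A] ((r : A) • algebraMap A' B' a') := TensorProduct.smul_tmul _ _ _
      _ = (1 : B') ⊗ₜ[A] (algebraMap A B' a) := by
          rw [Algebra.smul_def, mul_comm, h3]
      _ = (1 : B') ⊗ₜ[A] (a • (1 : B')) := by rw [← Algebra.algebraMap_eq_smul_one]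
      _ = (a • (1 : B')) ⊗ₜ[A] (1 : B') := (TensorProduct.smul_tmul _ _ _).symm
      _ = (algebraMap A B' r * algebraMap A' B' a') ⊗ₜ[A] (1 : B') := by
          rw [← Algebra.algebraMap_eq_smul_one, ← h3, mul_comm]
      _ = (algebraMap A B' r ⊗ₜ[A] (1 : B')) * (algebraMap A' B' a' ⊗ₜ[A] (1 : B')) := by
          rw [Algebra.TensorProduct.tmul_mul_tmul, mul_one]
  rw [Groth.Agent.Lib.Helper4.ker_tensorMap_tower, hker, Ideal.map_bot] at h2
  exact (RingHom.injective_iff_ker_eq_bot _).mpr h2

end Groth.Agent.S3808
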