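import Groth.Statements.S3809
import Groth.Agent.Lib.Helper4PPRing

set_option autoImplicit false
universe u
open scoped TensorProduct
open PP16

namespace Groth.Agent.S3809

/-- Let A → B → C be ring maps. Then the canonical map P^n_{C/A} → P^n_{C/B} is surjective, and its
kernel is the ideal generated by the image, under the canonical map P^n_{B/A} → P^n_{C/A}, of the
augmentation ideal of P^n_{B/A}. -/
theorem result (n : ℕ) (A B C : Type u) [CommRing A] [CommRing B] [CommRing C]
    [Algebra A B] [Algebra B C] [Algebra A C] [IsScalarTower A B C] :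
    Function.Surjective (PP16.map n A C B C) ∧
      RingHom.ker (PP16.map n A C B C) = (PP16.augIdeal n A B).map (PP16.map n A B A C) := by
  have hsurj : Function.Surjective (algebraMap C C) := fun x => ⟨x, rfl⟩
  obtain ⟨h1, h2⟩ := Groth.Agent.Lib.Helper4.quotient_pow_map_ker
    (PP16.tensorMap A C B C).toRingHom
    (Groth.Agent.Lib.Helper4.tensorMap_surjective_of_surjective A C B C hsurj)
    (KaehlerDifferential.ideal A C) (KaehlerDifferential.ideal B C)
    (Groth.Agent.Lib.Helper4.ideal_map_tensorMap_eq_of_surjective A C B C hsurj) (n + 1)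
    (PP16.map n A C B C).toRingHom (fun x => rfl)
  refine ⟨h1, ?_⟩
  have e1 : RingHom.ker (PP16.map n A C B C) = RingHom.ker (PP16.map n A C B C).toRingHom := rfl
  have hR : PP16.augIdeal n A B =
      (Ideal.span (Set.range fun b : B => (1 : B) ⊗ₜ[A] b - b ⊗ₜ[A] (1 : B))).map
        (Ideal.Quotient.mk ((KaehlerDifferential.ideal A B) ^ (n + 1))) := by
    rw [KaehlerDifferential.span_range_eq_ideal]
    rfl
  rw [e1, h2, Groth.Agent.Lib.Helper4.ker_tensorMap_tower, Groth.Agent.Lib.Helper4.towerIdeal,
    Ideal.map_span, hR, Ideal.map_span, Ideal.map_span, ← Set.range_comp, ← Set.range_comp,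
    ← Set.range_comp]
  congr 2
  funext b
  simp only [Function.comp_apply]
  rw [PP16.map_mk, map_sub (PP16.tensorMap A B A C), PP16.tensorMap_tmul, PP16.tensorMap_tmul,
    map_one]

end Groth.Agent.S3809
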