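import Groth.Statements.S3814
import Mathlib

set_option autoImplicit false
universe u
open scoped TensorProduct
open PP16

namespace Groth.Agent.S3814

/-- If B is an A-algebra of finite presentation, then for every n the B-module P^n_{B/A} of principal
parts of order n is of finite presentation. -/
theorem result (n : ℕ) (A B : Type u) [CommRing A] [CommRing B]
    [Algebra A B] [Algebra.FinitePresentation A B] :
    Module.FinitePresentation B (PP16.P n A B) := by
  have hI : (KaehlerDifferential.ideal A B).FG := KaehlerDifferential.ideal_fg A B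
  have hIn : ((KaehlerDifferential.ideal A B) ^ (n + 1)).FG := hI.pow
  have : Algebra.FinitePresentation B (B ⊗[A] B) := inferInstance
  have : Algebra.FinitePresentation B (PP16.P n A B) :=
    Algebra.FinitePresentation.quotient hIn
  have hint : Algebra.IsIntegral B (PP16.P n A B) := by
    let f : (B ⊗[A] B) →ₐ[B] PP16.P n A B :=
      Ideal.Quotient.mkₐ B ((KaehlerDifferential.ideal A B) ^ (n + 1))
    have hf : Function.Surjective f := Ideal.Quotient.mkₐ_surjective _ _
    have h1 : Algebra.adjoin B (((1 : B) ⊗ₜ[A] ·) '' (Set.univ : Set B)) = ⊤ :=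
      Algebra.TensorProduct.adjoin_one_tmul_image_eq_top (A := B) (R := A) (B := B) Set.univ
        (Algebra.adjoin_univ A B)
    have h2 : Algebra.adjoin B (f '' (((1 : B) ⊗ₜ[A] ·) '' (Set.univ : Set B))) = ⊤ := by
      rw [← AlgHom.map_adjoin, h1, Algebra.map_top, AlgHom.range_eq_top]
      exact hf
    have h3 : Algebra.adjoin B (f '' (((1 : B) ⊗ₜ[A] ·) '' (Set.univ : Set B))) ≤
        integralClosure B (PP16.P n A B) := by
      rw [Algebra.adjoin_le_iff]
      rintro _ ⟨_, ⟨b, _, rfl⟩, rfl⟩
      show IsIntegral B (f ((1 : B) ⊗ₜ[A] b))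
      have hsplit : f ((1 : B) ⊗ₜ[A] b) = algebraMap B (PP16.P n A B) b +
          f ((1 : B) ⊗ₜ[A] b - b ⊗ₜ[A] (1 : B)) := by
        rw [map_sub]
        have : f (b ⊗ₜ[A] (1 : B)) = algebraMap B (PP16.P n A B) b := rfl
        rw [this]
        abel
      rw [hsplit]
      apply IsIntegral.add isIntegral_algebraMap
      apply IsIntegral.of_pow (Nat.succ_pos n)
      have hz : f ((1 : B) ⊗ₜ[A] b - b ⊗ₜ[A] (1 : B)) ^ (n + 1) = 0 := by
        rw [← map_pow]
        show Ideal.Quotient.mk _ _ = 0
        rw [Ideal.Quotient.eq_zero_iff_mem]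
        exact Ideal.pow_mem_pow (KaehlerDifferential.one_smul_sub_smul_one_mem_ideal A b) _
      rw [hz]
      exact isIntegral_zero
    rw [h2] at h3
    exact ⟨fun x => h3 (Algebra.mem_top)⟩
  have : Module.Finite B (PP16.P n A B) := Algebra.IsIntegral.finite
  exact Module.FinitePresentation.of_finite_of_finitePresentation B (PP16.P n A B)

end Groth.Agent.S3814
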