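import Groth.Statements.S3825
import Mathlib
import Groth.Agent.S3824
-- import your own Groth.Agent.* helpers here

set_option autoImplicit false
universe u
open QReg16

namespace Groth.Agent.S3825.Aux

set_option autoImplicit false

namespace QC
open MvPolynomial
open Groth.Agent.S3824.Aux

variable {A : Type u} [CommRing A]

lemma smul_toCotangent (I : Ideal A) (a : A) (y : I) :
    (Ideal.Quotient.mk I a) • I.toCotangent y = I.toCotangent (a • y) := by
  rw [map_smul, ← Ideal.Quotient.algebraMap_eq, algebraMap_smul]

lemma basis_of_qr {r : ℕ} (I : Ideal A) (g : Fin r → I)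
    (hq : CAlgX.IsQuasiRegular (fun i => (g i : A)))
    (hspan : Ideal.span (Set.range fun i => (g i : A)) = I) :
    LinearIndependent (A ⧸ I) (fun i => I.toCotangent (g i)) ∧
      Submodule.span (A ⧸ I) (Set.range fun i => I.toCotangent (g i)) = ⊤ := by
  classical
  constructor
  · rw [Fintype.linearIndependent_iff]
    intro c hc i
    choose a ha using fun j => Ideal.Quotient.mk_surjective (c j)
    have h1 : I.toCotangent (∑ j, a j • g j) = 0 := by
      rw [map_sum, ← hc]
      refine Finset.sum_congr rfl fun j _ => ?_
      rw [← ha j, smul_toCotangent]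
    rw [Ideal.toCotangent_eq_zero] at h1
    have hev : eval (fun i => (g i : A)) (QI.lin (Matrix.of fun (_ : Fin r) j => a j) i) =
        ((∑ j, a j • g j : I) : A) := by
      rw [QI.eval_lin, Submodule.coe_sum]
      refine Finset.sum_congr rfl fun j _ => ?_
      simp
    have h2 := hq 1 (QI.lin (Matrix.of fun (_ : Fin r) j => a j) i) (QI.lin_hom _ i)
      (by rw [hev, hspan]; exact h1) (Finsupp.single i 1)
    rw [QI.coeff_lin, hspan] at h2
    rw [← ha i]
    exact Ideal.Quotient.eq_zero_iff_mem.mpr h2
  · rw [eq_top_iff]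
    intro z _
    obtain ⟨y, rfl⟩ := I.toCotangent_surjective z
    have hy : (y : A) ∈ Ideal.span (Set.range fun i => (g i : A)) := by rw [hspan]; exact y.2
    obtain ⟨a, ha⟩ := Ideal.mem_span_range_iff_exists_fun.mp hy
    have : y = ∑ j, a j • g j := Subtype.ext (by rw [← ha, Submodule.coe_sum]; simp)
    rw [this, map_sum]
    refine Submodule.sum_mem _ fun j _ => ?_
    rw [← smul_toCotangent]
    exact Submodule.smul_mem _ _ (Submodule.subset_span ⟨j, rfl⟩)

theorem main [IsLocalRing A] (I : Ideal A) (hI : I ≤ IsLocalRing.maximalIdeal A)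
    (hq : ∃ (r : ℕ) (g : Fin r → A), CAlgX.IsQuasiRegular g ∧ Ideal.span (Set.range g) = I)
    {m : ℕ} (f : Fin m → I) :
    (CAlgX.IsQuasiRegular (fun i => (f i : A)) ∧ Ideal.span (Set.range fun i => (f i : A)) = I) ↔
      (LinearIndependent (A ⧸ I) (fun i => I.toCotangent (f i)) ∧
        Submodule.span (A ⧸ I) (Set.range fun i => I.toCotangent (f i)) = ⊤) := by
  classical
  constructor
  · rintro ⟨h1, h2⟩; exact basis_of_qr I f h1 h2
  · rintro ⟨hli, hsp⟩
    obtain ⟨r, g, hgq, hgs⟩ := hq
    have hgI : ∀ i, g i ∈ I := fun i => hgs ▸ Ideal.subset_span ⟨i, rfl⟩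
    obtain ⟨hli', hsp'⟩ := basis_of_qr I (fun i => (⟨g i, hgI i⟩ : I)) hgq hgs
    have hnt : Nontrivial (A ⧸ I) := Ideal.Quotient.nontrivial_iff.mpr (by
      rintro rfl
      exact (IsLocalRing.maximalIdeal.isMaximal A).ne_top (top_le_iff.mp hI))
    have hmr : m = r := by
      have e1 := Module.finrank_eq_card_basis (Module.Basis.mk hli (by rw [hsp]))
      have e2 := Module.finrank_eq_card_basis (Module.Basis.mk hli' (by rw [hsp']))
      simpa using e1.symm.trans e2
    subst hmr
    have hspan : Ideal.span (Set.range fun i => (f i : A)) = I := by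
      apply le_antisymm
      · rw [Ideal.span_le]; rintro _ ⟨i, rfl⟩; exact (f i).2
      · have hfg : (I : Submodule A A).FG := by
          rw [← hgs]; exact Submodule.fg_span (Set.finite_range g)
        apply Submodule.le_of_le_smul_of_le_jacobson_bot (I := I) hfg
          (hI.trans (IsLocalRing.maximalIdeal_le_jacobson ⊥))
        intro y hy
        have h1 : I.toCotangent ⟨y, hy⟩ ∈
            Submodule.span (A ⧸ I) (Set.range fun i => I.toCotangent (f i)) := by
          rw [hsp]; trivial
        obtain ⟨c, hc⟩ := (Submodule.mem_span_range_iff_exists_fun _).mp h1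
        choose a ha using fun j => Ideal.Quotient.mk_surjective (c j)
        have h2 : I.toCotangent (⟨y, hy⟩ - ∑ j, a j • f j) = 0 := by
          rw [map_sub, map_sum, ← hc, sub_eq_zero]
          refine Finset.sum_congr rfl fun j _ => ?_
          rw [← ha j, smul_toCotangent]
        rw [Ideal.toCotangent_eq_zero] at h2
        have h3 : y = (∑ j, a j * (f j : A)) + (y - ∑ j, a j * (f j : A)) := by ring
        rw [h3]
        refine Submodule.add_mem_sup ?_ ?_
        · refine Ideal.sum_mem _ fun j _ => Ideal.mul_mem_left _ _ (Ideal.subset_span ⟨j, rfl⟩)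
        · rw [smul_eq_mul, ← pow_two]
          convert h2 using 1
          rw [Submodule.coe_sub, Submodule.coe_sum]
          simp
    exact ⟨QI.main g _ hgq (hspan.trans hgs.symm), hspan⟩

end QC

end Groth.Agent.S3825.Aux

namespace Groth.Agent.S3825

/-- a) iff c) (affine local form): let A be a local ring and I a proper ideal generated by some
quasi-regular sequence. For a finite family (f_i) of elements of I, the following are equivalent:
(a) (f_i) is a quasi-regular sequence generating I; (c) the classes of the f_i form a basis of the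
A/I-module I/I² (equivalently, b): (f_i) is a minimal system of generators of I). -/
theorem result {A : Type u} [CommRing A] [IsLocalRing A]
    (I : Ideal A) (hI : I ≤ IsLocalRing.maximalIdeal A)
    (hq : ∃ (r : ℕ) (g : Fin r → A), CAlgX.IsQuasiRegular g ∧ Ideal.span (Set.range g) = I)
    {m : ℕ} (f : Fin m → I) :
    (CAlgX.IsQuasiRegular (fun i => (f i : A)) ∧ Ideal.span (Set.range fun i => (f i : A)) = I) ↔
      (LinearIndependent (A ⧸ I) (fun i => I.toCotangent (f i)) ∧
        Submodule.span (A ⧸ I) (Set.range fun i => I.toCotangent (f i)) = ⊤) := by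
  exact Aux.QC.main I hI hq f

end Groth.Agent.S3825
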