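import Groth.Statements.S3827
import Mathlib
import Groth.Agent.S5802
import Groth.Agent.S2104
-- import your own Groth.Agent.* helpers here

set_option autoImplicit false
universe u
open QReg16

namespace Groth.Agent.S3827.Aux

set_option autoImplicit false

namespace JR
open MvPolynomial RingTheory.Sequence
open Groth.Agent.S2104.Aux

variable {A : Type u} [CommRing A]

lemma step (J : Ideal A) {r : ℕ} (f : Fin r → A)
    (hq : CAlgX.IsQuasiRegular (fun i => Ideal.Quotient.mk J (f i))) (n : ℕ) :
    J ⊓ Ideal.span (Set.range f) ^ n ≤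
      J * Ideal.span (Set.range f) ^ n ⊔ J ⊓ Ideal.span (Set.range f) ^ (n + 1) := by
  classical
  intro x hx
  obtain ⟨hxJ, hxR⟩ := hx
  obtain ⟨P, hP, hPx⟩ := (Ideal.mem_span_pow_iff_exists_isHomogeneous f x).mp hxR
  have hPb : (map (Ideal.Quotient.mk J) P).IsHomogeneous n := hP.map _
  have hev : eval (fun i => Ideal.Quotient.mk J (f i)) (map (Ideal.Quotient.mk J) P) = 0 := by
    have h1 : eval (fun i => Ideal.Quotient.mk J (f i)) (map (Ideal.Quotient.mk J) P) =
        Ideal.Quotient.mk J (eval f P) := by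
      rw [eval_map, ← eval₂_id (g := f), eval₂_comp_left]
      rfl
    rw [h1, hPx]
    exact Ideal.Quotient.eq_zero_iff_mem.mpr hxJ
  have hco := hq n (map (Ideal.Quotient.mk J) P) hPb (by rw [hev]; exact Ideal.zero_mem _)
  have hspan : Ideal.span (Set.range fun i => Ideal.Quotient.mk J (f i)) =
      (Ideal.span (Set.range f)).map (Ideal.Quotient.mk J) := by
    rw [Ideal.map_span, ← Set.range_comp]; rfl
  have hρ : ∀ d : Fin r →₀ ℕ, ∃ ρ ∈ Ideal.span (Set.range f), coeff d P - ρ ∈ J := by
    intro d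
    have h1 := hco d
    rw [hspan, coeff_map] at h1
    obtain ⟨ρ, hρ, hρe⟩ := (Ideal.mem_map_iff_of_surjective _ Ideal.Quotient.mk_surjective).mp h1
    refine ⟨ρ, hρ, ?_⟩
    rw [← Ideal.Quotient.eq_zero_iff_mem, map_sub, hρe, sub_self]
  choose ρ hρR hρJ using hρ
  have hmon : ∀ d ∈ P.support, eval f (monomial d (1 : A)) ∈ Ideal.span (Set.range f) ^ n := by
    intro d hd
    apply APP.eval_monomial_mem f d n
    rw [Finsupp.degree_eq_weight_one]
    exact hP (mem_support_iff.mp hd)
  have hxsum : x = ∑ d ∈ P.support, coeff d P * eval f (monomial d 1) := by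
    rw [← hPx]; exact APP.eval_eq_sum f P P.support (Finset.Subset.refl _)
  set y := ∑ d ∈ P.support, ρ d * eval f (monomial d 1) with hy
  have hyR : y ∈ Ideal.span (Set.range f) ^ (n + 1) := by
    refine Ideal.sum_mem _ fun d hd => ?_
    rw [pow_succ']
    exact Ideal.mul_mem_mul (hρR d) (hmon d hd)
  have hxy : x - y ∈ J * Ideal.span (Set.range f) ^ n := by
    rw [hxsum, hy, ← Finset.sum_sub_distrib]
    refine Ideal.sum_mem _ fun d hd => ?_
    rw [← sub_mul]
    exact Ideal.mul_mem_mul (hρJ d) (hmon d hd)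
  have hyJ : y ∈ J := by
    have : y = x - (x - y) := by ring
    rw [this]
    exact J.sub_mem hxJ (Ideal.mul_le_left hxy)
  have : x = (x - y) + y := by ring
  rw [this]
  exact Submodule.add_mem_sup hxy ⟨hyJ, hyR⟩

theorem main (J : Ideal A) {r : ℕ} (f : Fin r → A)
    (hf : IsWeaklyRegular (A ⧸ J) (List.ofFn f)) (n N : ℕ) (hnN : n ≤ N) :
    J ⊓ Ideal.span (Set.range f) ^ n =
      J * Ideal.span (Set.range f) ^ n ⊔ J ⊓ Ideal.span (Set.range f) ^ N := by
  have hq : CAlgX.IsQuasiRegular (fun i => Ideal.Quotient.mk J (f i)) := by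
    apply Groth.Agent.S5802.Aux.QR.main
    have h1 : List.ofFn (fun i => Ideal.Quotient.mk J (f i)) =
        (List.ofFn f).map (Ideal.Quotient.mk J) := by
      rw [List.map_ofFn]; rfl
    rw [h1]
    refine (AddEquiv.isWeaklyRegular_congr (e := AddEquiv.refl (A ⧸ J)) ?_).mp hf
    refine List.forall₂_map_right_iff.mpr <| List.forall₂_same.mpr fun a _ z => ?_
    obtain ⟨z, rfl⟩ := Ideal.Quotient.mk_surjective z
    rfl
  apply le_antisymm
  · induction N, hnN using Nat.le_induction with
    | base => exact le_sup_right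
    | succ N hN ih =>
      refine ih.trans (sup_le le_sup_left ?_)
      refine (step J f hq N).trans (sup_le ?_ le_sup_right)
      exact le_sup_of_le_left (Ideal.mul_mono_right (Ideal.pow_le_pow_right hN))
  · exact sup_le (Ideal.mul_le_inf) (inf_le_inf_left J (Ideal.pow_le_pow_right hnN))

end JR

end Groth.Agent.S3827.Aux

namespace Groth.Agent.S3827

/-- Let A be a ring, J an ideal, A' = A/J and f_1, …, f_r elements of A forming an A'-regular sequence
(each f_i a non-zero-divisor on A' modulo the previous ones); let R be the ideal generated by the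
f_i. Then for all integers 0 < n ≤ N one has J ∩ Rⁿ = J·Rⁿ + (J ∩ R^N). -/
theorem result {A : Type u} [CommRing A] (J : Ideal A) {r : ℕ} (f : Fin r → A)
    (hf : RingTheory.Sequence.IsWeaklyRegular (A ⧸ J) (List.ofFn f)) (n N : ℕ) (hn : 0 < n) (hnN : n ≤ N) :
    J ⊓ Ideal.span (Set.range f) ^ n =
      J * Ideal.span (Set.range f) ^ n ⊔ J ⊓ Ideal.span (Set.range f) ^ N := by
  exact Aux.JR.main J f hf n N hnN

end Groth.Agent.S3827
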