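import Groth.Statements.S3828
import Mathlib
import Groth.Agent.S5802
-- import your own Groth.Agent.* helpers here

set_option autoImplicit false
universe u
open QReg16

namespace Groth.Agent.S3828.Aux

set_option autoImplicit false
open MvPolynomial

namespace QR2
open Groth.Agent.S5802.Aux

lemma monomial_mem_pow {A : Type*} [CommRing A] {r : ℕ} (f : Fin r → A) (d : Fin r →₀ ℕ) (n : ℕ)
    (hd : d.degree = n) :
    (∏ i ∈ d.support, f i ^ d i) ∈ Ideal.span (Set.range f) ^ n := by
  refine (Ideal.mem_span_pow_iff_exists_isHomogeneous f _).mpr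
    ⟨monomial d 1, isHomogeneous_monomial 1 hd, ?_⟩
  rw [eval_monomial, one_mul, Finsupp.prod]

section
variable {A : Type u} [CommRing A] [IsNoetherianRing A] (J : Ideal A)
    {r : ℕ} (f : Fin r → A) (hf : RingTheory.Sequence.IsWeaklyRegular (A ⧸ J) (List.ofFn f))

include hf

omit [IsNoetherianRing A] in
lemma step (n : ℕ) (x : A) (hxJ : x ∈ J) (hx : x ∈ Ideal.span (Set.range f) ^ n) :
    ∃ z ∈ J * Ideal.span (Set.range f) ^ n, x - z ∈ Ideal.span (Set.range f) ^ (n + 1) := by
  classical
  set R := Ideal.span (Set.range f) with hR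
  let π := Ideal.Quotient.mk J
  have hreg : RingTheory.Sequence.IsWeaklyRegular (A ⧸ J) (List.ofFn (fun i => π (f i))) := by
    have := (RingTheory.Sequence.isWeaklyRegular_map_algebraMap_iff (A ⧸ J) (A ⧸ J)
      (List.ofFn f)).mpr hf
    rwa [List.map_ofFn] at this
  have hqr := QR.main (A ⧸ J) r (fun i => π (f i)) hreg
  obtain ⟨P, hP, hPe⟩ := (Ideal.mem_span_pow_iff_exists_isHomogeneous f _).mp hx
  have hmapR : Ideal.span (Set.range fun i => π (f i)) = R.map π := by
    rw [hR, Ideal.map_span, ← Set.range_comp]; rfl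
  have hcoef : ∀ d, coeff d P ∈ R ⊔ J := by
    intro d
    have h1 : eval (fun i => π (f i)) (map π P) ∈
        Ideal.span (Set.range fun i => π (f i)) ^ (n + 1) := by
      have : eval (fun i => π (f i)) (map π P) = π (eval f P) := by
        rw [eval_map]
        have := eval₂_comp_left π (RingHom.id A) f P
        rw [RingHom.comp_id] at this
        exact this.symm
      rw [this, hPe, Ideal.Quotient.eq_zero_iff_mem.mpr hxJ]
      exact Ideal.zero_mem _
    have h2 := hqr n (map π P) (hP.map π) h1 d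
    rw [coeff_map, hmapR, Ideal.mem_quotient_iff_mem_sup] at h2
    exact h2
  have hdec : ∀ d, ∃ j ∈ J, ∃ s ∈ R, coeff d P = j + s := by
    intro d
    obtain ⟨s, hs, j, hj, h⟩ := Submodule.mem_sup.mp (hcoef d)
    exact ⟨j, hj, s, hs, by rw [← h, add_comm]⟩
  choose j hj s hs hjs using hdec
  refine ⟨∑ d ∈ P.support, j d * ∏ i ∈ d.support, f i ^ d i, ?_, ?_⟩
  · refine Ideal.sum_mem _ fun d hd => Ideal.mul_mem_mul (hj d) ?_
    refine monomial_mem_pow f d n ?_
    rw [Finsupp.degree_eq_weight_one]; exact hP (mem_support_iff.mp hd)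
  · have : x - ∑ d ∈ P.support, j d * ∏ i ∈ d.support, f i ^ d i =
        ∑ d ∈ P.support, s d * ∏ i ∈ d.support, f i ^ d i := by
      rw [← hPe, eval_eq, ← Finset.sum_sub_distrib]
      refine Finset.sum_congr rfl fun d _ => ?_
      rw [hjs d]; ring
    rw [this, pow_succ']
    refine Ideal.sum_mem _ fun d hd => Ideal.mul_mem_mul (hs d) ?_
    refine monomial_mem_pow f d n ?_
    rw [Finsupp.degree_eq_weight_one]; exact hP (mem_support_iff.mp hd)

omit [IsNoetherianRing A] in
lemma iter (n : ℕ) (x : A) (hxJ : x ∈ J) (hx : x ∈ Ideal.span (Set.range f) ^ n) :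
    ∀ k : ℕ, ∃ z ∈ J * Ideal.span (Set.range f) ^ n,
      x - z ∈ J ∧ x - z ∈ Ideal.span (Set.range f) ^ (n + k) := by
  intro k
  induction k with
  | zero => exact ⟨0, Ideal.zero_mem _, by simpa using hxJ, by simpa using hx⟩
  | succ k ih =>
    obtain ⟨z, hz, hzJ, hzR⟩ := ih
    obtain ⟨z', hz', hzz'⟩ := step J f hf (n + k) (x - z) hzJ hzR
    have hz'n : z' ∈ J * Ideal.span (Set.range f) ^ n :=
      Ideal.mul_mono_right (Ideal.pow_le_pow_right (Nat.le_add_right n k)) hz'
    refine ⟨z + z', Ideal.add_mem _ hz hz'n, ?_, ?_⟩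
    · have : x - (z + z') = (x - z) - z' := by ring
      rw [this]
      exact J.sub_mem hzJ (Ideal.mul_le_left hz'n)
    · have : x - (z + z') = (x - z) - z' := by ring
      rw [this, ← add_assoc]
      exact hzz'

theorem part1 (hrad : Ideal.span (Set.range f) ≤ (⊥ : Ideal A).jacobson) (n : ℕ) :
    J ⊓ Ideal.span (Set.range f) ^ n = J * Ideal.span (Set.range f) ^ n := by
  apply le_antisymm
  · rintro x ⟨hxJ, hx⟩
    set R := Ideal.span (Set.range f) with hR
    let N : Submodule A A := J * R ^ n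
    have hkr := Ideal.iInf_pow_smul_eq_bot_of_le_jacobson (M := A ⧸ N) R hrad
    have hmem : N.mkQ x ∈ (⨅ i : ℕ, R ^ i • ⊤ : Submodule A (A ⧸ N)) := by
      rw [Submodule.mem_iInf]
      intro k
      obtain ⟨z, hz, -, hzR⟩ := iter J f hf n x hxJ hx k
      have hw : x - z ∈ R ^ k := Ideal.pow_le_pow_right (Nat.le_add_left k n) hzR
      have e1 : N.mkQ x = (x - z) • N.mkQ (1 : A) := by
        rw [← map_smul, smul_eq_mul, mul_one, map_sub]
        have : N.mkQ z = 0 := by
          rw [Submodule.mkQ_apply, Submodule.Quotient.mk_eq_zero]; exact hz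
        rw [this, sub_zero]
      rw [e1]
      exact Submodule.smul_mem_smul hw Submodule.mem_top
    rw [hkr, Submodule.mem_bot, Submodule.mkQ_apply, Submodule.Quotient.mk_eq_zero] at hmem
    exact hmem
  · exact le_inf Ideal.mul_le_left Ideal.mul_le_right

theorem part2 (hrad : Ideal.span (Set.range f) ≤ (⊥ : Ideal A).jacobson) :
    J ⊓ (J ⊔ Ideal.span (Set.range f)) ^ 2 = J * (J ⊔ Ideal.span (Set.range f)) := by
  set R := Ideal.span (Set.range f) with hR
  apply le_antisymm
  · rintro x ⟨hxJ, hx⟩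
    have hsub : (J ⊔ R) ^ 2 ≤ J * (J ⊔ R) ⊔ R ^ 2 := by
      rw [sq, Ideal.sup_mul, sq]
      refine sup_le le_sup_left ?_
      rw [Ideal.mul_sup]
      refine sup_le (le_sup_of_le_left ?_) le_sup_right
      rw [mul_comm]
      exact Ideal.mul_mono_right le_sup_right
    obtain ⟨a, ha, b, hb, rfl⟩ := Submodule.mem_sup.mp (hsub hx)
    have haJ : a ∈ J := Ideal.mul_le_left ha
    have hbJ : b ∈ J := by
      have := J.sub_mem hxJ haJ
      rwa [add_sub_cancel_left] at this
    have hb' : b ∈ J * R ^ 2 := by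
      rw [← part1 J f hf hrad 2]; exact ⟨hbJ, hb⟩
    refine Ideal.add_mem _ ha ?_
    exact Ideal.mul_mono_right ((Ideal.pow_le_self two_ne_zero).trans le_sup_right) hb'
  · refine le_inf Ideal.mul_le_left ?_
    rw [sq]
    exact Ideal.mul_mono_left le_sup_left

end

end QR2

end Groth.Agent.S3828.Aux

namespace Groth.Agent.S3828

/-- Let A be a Noetherian ring, J an ideal of A, and f_1, …, f_r elements of A forming a weakly regular
sequence on A/J (each f_i a nonzerodivisor on A/(J + (f_1, …, f_{i−1}))) and generating an ideal R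
contained in the Jacobson radical of A; put Q = J + R. Then J ∩ Rⁿ = J·Rⁿ for every n > 0, and J ∩
Q² = J·Q (equivalently, the canonical map J/JQ → Q/Q² is injective). -/
theorem result {A : Type u} [CommRing A] [IsNoetherianRing A] (J : Ideal A)
    {r : ℕ} (f : Fin r → A) (hf : RingTheory.Sequence.IsWeaklyRegular (A ⧸ J) (List.ofFn f))
    (hrad : Ideal.span (Set.range f) ≤ (⊥ : Ideal A).jacobson) :
    (∀ n : ℕ, 0 < n → J ⊓ Ideal.span (Set.range f) ^ n = J * Ideal.span (Set.range f) ^ n) ∧
      J ⊓ (J ⊔ Ideal.span (Set.range f)) ^ 2 = J * (J ⊔ Ideal.span (Set.range f)) := by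
  exact ⟨fun n _ => Aux.QR2.part1 J f hf hrad n, Aux.QR2.part2 J f hf hrad⟩

end Groth.Agent.S3828
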