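import Groth.Statements.S3834
-- import your own Groth.Agent.* helpers here
import Groth.Agent.S3833
import Mathlib

set_option autoImplicit false
universe u
open CategoryTheory CategoryTheory.Limits AlgebraicGeometry TopologicalSpace
open Rat20

namespace Groth.Agent.S3834

section Helpers
open AlgebraicGeometry CategoryTheory

/-- Noetherian case: an ideal of zero divisors is killed by a nonzero element. -/
theorem exists_kill_noeth {A : Type*} [CommRing A] [IsNoetherianRing A] (I : Ideal A)
    (hI : ∀ f ∈ I, f ∉ nonZeroDivisors A) : ∃ a : A, a ≠ 0 ∧ ∀ f ∈ I, f * a = 0 := by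
  classical
  have hfin : (associatedPrimes A A).Finite := associatedPrimes.finite A A
  have hsub : (I : Set A) ⊆ ⋃ p ∈ (↑hfin.toFinset : Set (Ideal A)), ((id p : Ideal A) : Set A) := by
    intro f hf
    have : f ∈ (nonZeroDivisors A : Set A)ᶜ := hI f hf
    rw [← biUnion_associatedPrimes_eq_compl_nonZeroDivisors] at this
    simpa using this
  obtain ⟨p, hp, hIp⟩ := (Ideal.subset_union_prime (f := (id : Ideal A → Ideal A))
    (s := hfin.toFinset) ⊥ ⊥ (fun i hi _ _ => by
      have : i ∈ associatedPrimes A A := hfin.mem_toFinset.mp hi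
      exact this.1)).mp hsub
  have hp' : IsAssociatedPrime p A := hfin.mem_toFinset.mp hp
  rw [isAssociatedPrime_iff] at hp'
  obtain ⟨hprime, a, ha⟩ := hp'
  refine ⟨a, ?_, fun f hf => ?_⟩
  · rintro rfl
    apply hprime.ne_top
    rw [ha, eq_top_iff]
    intro x _
    rw [Submodule.mem_colon_singleton]
    simp
  · have : f ∈ p := hIp hf
    rw [ha, Submodule.mem_colon_singleton] at this
    simpa using this

/-- reduced case with finitely many minimal primes. -/
theorem exists_kill_reduced {A : Type*} [CommRing A] [IsReduced A] (hfin : (minimalPrimes A).Finite)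
    (I : Ideal A) (hI : ∀ f ∈ I, f ∉ nonZeroDivisors A) :
    ∃ a : A, a ≠ 0 ∧ ∀ f ∈ I, f * a = 0 := by
  classical
  have hsub : (I : Set A) ⊆ ⋃ p ∈ (↑hfin.toFinset : Set (Ideal A)), ((id p : Ideal A) : Set A) := by
    intro f hf
    have h1 : f ∉ nonZeroDivisors A := hI f hf
    rw [mem_nonZeroDivisors_iff_right] at h1
    push Not at h1
    obtain ⟨y, hy, hy0⟩ := h1
    have h2 : f ∈ ⋃ p ∈ (⊥ : Ideal A).minimalPrimes, (p : Set A) := by
      rw [Ideal.iUnion_minimalPrimes]
      refine ⟨y, ?_, ?_⟩
      · rw [(Ideal.isRadical_bot (R := A)).radical]; exact hy0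
      · rw [(Ideal.isRadical_bot (R := A)).radical, mul_comm]; exact hy
    simpa [minimalPrimes] using h2
  obtain ⟨p, hp, hIp⟩ := (Ideal.subset_union_prime (f := (id : Ideal A → Ideal A))
    (s := hfin.toFinset) ⊥ ⊥ (fun i hi _ _ => by
      have : i ∈ minimalPrimes A := hfin.mem_toFinset.mp hi
      exact this.1.1)).mp hsub
  have hpmin : p ∈ minimalPrimes A := hfin.mem_toFinset.mp hp
  haveI : p.IsPrime := hpmin.1.1
  -- J = intersection of the other minimal primes
  let J : Ideal A := (hfin.toFinset.erase p).inf id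
  have hJ : ¬ J ≤ p := by
    intro hle
    obtain ⟨q, hq, hqp⟩ := (Ideal.IsPrime.inf_le' ‹p.IsPrime›).mp hle
    have hq' : q ∈ minimalPrimes A := hfin.mem_toFinset.mp (Finset.mem_of_mem_erase hq)
    have : q = p := le_antisymm hqp (hpmin.2 ⟨hq'.1.1, bot_le⟩ hqp)
    exact (Finset.ne_of_mem_erase hq) this
  obtain ⟨a, haJ, hap⟩ := Set.not_subset.mp hJ
  refine ⟨a, fun h => hap (h ▸ p.zero_mem), fun f hf => ?_⟩
  have hfp : f ∈ p := hIp hf
  have hnil : f * a ∈ nilradical A := by
    rw [nilradical_eq_sInf, Ideal.mem_sInf]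
    intro q hq
    haveI : q.IsPrime := hq
    obtain ⟨q', hq', hq'q⟩ := Ideal.exists_minimalPrimes_le (show (⊥ : Ideal A) ≤ q from bot_le)
      (J := q)
    apply hq'q
    by_cases hqp : q' = p
    · rw [hqp]; exact p.mul_mem_right _ hfp
    · have : q' ∈ hfin.toFinset.erase p :=
        Finset.mem_erase.mpr ⟨hqp, hfin.mem_toFinset.mpr hq'⟩
      have hJq : J ≤ q' := Finset.inf_le this
      exact q'.mul_mem_left _ (hJq haJ)
  rw [nilradical_eq_zero A] at hnil
  exact hnil

theorem finite_irreducibleComponents_of_homeomorph {α β : Type*} [TopologicalSpace α]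
    [TopologicalSpace β] (h : α ≃ₜ β) (hf : (irreducibleComponents α).Finite) :
    (irreducibleComponents β).Finite := by
  refine (hf.image (fun s => h '' s)).subset ?_
  intro T hT
  refine ⟨h.symm '' T, ?_, ?_⟩
  · refine ⟨hT.1.image _ h.symm.continuous.continuousOn, ?_⟩
    intro S hS hle
    have h1 : T ⊆ h '' S := by
      intro t ht
      exact ⟨h.symm t, hle ⟨t, ht, rfl⟩, by simp⟩
    have h2 : h '' S ⊆ T := hT.2 (hS.image _ h.continuous.continuousOn) h1
    intro s hs
    exact ⟨h s, h2 ⟨s, hs, rfl⟩, by simp⟩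
  · ext x
    simp [Set.mem_image]

/-- the ideal of global functions whose non-vanishing locus lies in `U` -/
def idealOf {X : Scheme.{u}} (U : X.Opens) : Ideal Γ(X, ⊤) where
  carrier := {f | X.basicOpen f ≤ U}
  add_mem' := fun {f g} hf hg => (X.basicOpen_add_le f g).trans (sup_le hf hg)
  zero_mem' := by
    change X.basicOpen (0 : Γ(X, ⊤)) ≤ U
    rw [Scheme.basicOpen_zero]; exact bot_le
  smul_mem' := fun c f hf => by
    change X.basicOpen (c * f) ≤ U
    rw [Scheme.basicOpen_mul]
    exact inf_le_right.trans hf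

theorem mem_idealOf {X : Scheme.{u}} (U : X.Opens) (f : Γ(X, ⊤)) :
    f ∈ idealOf U ↔ X.basicOpen f ≤ U := Iff.rfl

/-- a global function killed by `idealOf U` restricts to zero on `U` (affine `X`). -/
theorem res_eq_zero_of_kill {X : Scheme.{u}} [IsAffine X] (U : X.Opens) (a : Γ(X, ⊤))
    (ha : ∀ f ∈ idealOf U, f * a = 0) :
    X.presheaf.map (homOfLE (le_top : U ≤ ⊤)).op a = 0 := by
  apply TopCat.Presheaf.section_ext X.sheaf U _ 0
  intro x hxU
  rw [map_zero]
  obtain ⟨f, hfU, hxf⟩ := (isAffineOpen_top X).exists_basicOpen_le (V := U) ⟨x, hxU⟩ trivial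
  have hfa := ha f hfU
  have hg : X.presheaf.germ U x hxU (X.presheaf.map (homOfLE (le_top : U ≤ ⊤)).op a) =
      X.presheaf.germ ⊤ x trivial a := TopCat.Presheaf.germ_res_apply _ _ _ _ _
  refine hg.trans ?_
  have hunit : IsUnit (X.presheaf.germ ⊤ x trivial f) :=
    (X.mem_basicOpen f x trivial).mp hxf
  have := congrArg (X.presheaf.germ ⊤ x trivial) hfa
  rw [map_mul, map_zero] at this
  exact (hunit.mul_right_eq_zero).mp this

theorem aux (X : Scheme.{u}) [IsAffine X]
    (hX : IsNoetherian X ∨ (AlgebraicGeometry.IsReduced X ∧ (irreducibleComponents ↥X).Finite))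
    (U : X.Opens) :
    CInt.IsSchematicallyDense U ↔
      ∃ t : Γ(X, ⊤), t ∈ nonZeroDivisors Γ(X, ⊤) ∧ X.basicOpen t ≤ U := by
  constructor
  · intro hU
    by_contra hcon
    push Not at hcon
    have hI : ∀ f ∈ idealOf U, f ∉ nonZeroDivisors Γ(X, ⊤) := fun f hf hnzd => hcon f hnzd hf
    obtain ⟨a, ha0, ha⟩ : ∃ a : Γ(X, ⊤), a ≠ 0 ∧ ∀ f ∈ idealOf U, f * a = 0 := by
      rcases hX with hN | ⟨hR, hfin⟩
      · haveI : IsNoetherianRing Γ(X, ⊤) :=
          IsLocallyNoetherian.component_noetherian ⟨⊤, isAffineOpen_top X⟩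
        exact exists_kill_noeth _ hI
      · haveI : _root_.IsReduced Γ(X, ⊤) := inferInstance
        have hfin' : (minimalPrimes Γ(X, ⊤)).Finite := by
          have h1 := finite_irreducibleComponents_of_homeomorph (X.isoSpec.hom.homeomorph) hfin
          rw [← PrimeSpectrum.vanishingIdeal_irreducibleComponents]
          exact h1.image _
        exact exists_kill_reduced hfin' _ hI
    have hres := res_eq_zero_of_kill U a ha
    have hinj := hU ⊤
    apply ha0
    apply hinj
    rw [map_zero]
    have e : X.presheaf.map (homOfLE (inf_le_left : ⊤ ⊓ U ≤ ⊤)).op a =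
        X.presheaf.map (homOfLE (inf_le_right : ⊤ ⊓ U ≤ U)).op
          (X.presheaf.map (homOfLE (le_top : U ≤ ⊤)).op a) := by
      rw [← CommRingCat.comp_apply, ← Functor.map_comp]
      rfl
    rw [e, hres, map_zero]
  · rintro ⟨t, ht, htU⟩
    have hdense : CInt.IsSchematicallyDense (X.basicOpen t) := by
      apply Groth.Agent.S3833.result
      intro x
      letI := TopCat.Presheaf.algebra_section_stalk X.presheaf (⟨x, trivial⟩ : (⊤ : X.Opens))
      haveI := (isAffineOpen_top X).isLocalization_stalk ⟨x, trivial⟩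
      exact IsLocalization.map_nonZeroDivisors_le
        ((isAffineOpen_top X).primeIdealOf ⟨x, trivial⟩).asIdeal.primeCompl _ ⟨t, ht, rfl⟩
    intro V
    have hle : V ⊓ X.basicOpen t ≤ V ⊓ U := inf_le_inf_left _ htU
    have hV := hdense V
    have e : (X.presheaf.map (homOfLE (inf_le_left : V ⊓ X.basicOpen t ≤ V)).op).hom =
        (X.presheaf.map (homOfLE hle).op).hom.comp
          (X.presheaf.map (homOfLE (inf_le_left : V ⊓ U ≤ V)).op).hom := by
      rw [← CommRingCat.hom_comp, ← Functor.map_comp]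
      rfl
    intro a b hab
    apply hV
    change (X.presheaf.map (homOfLE (inf_le_left : V ⊓ X.basicOpen t ≤ V)).op).hom a =
      (X.presheaf.map (homOfLE (inf_le_left : V ⊓ X.basicOpen t ≤ V)).op).hom b
    rw [e, RingHom.comp_apply, RingHom.comp_apply]
    exact congrArg _ hab

end Helpers

/-- Let X = Spec A be an affine scheme, with A Noetherian, or A reduced with finitely many minimal
primes. Then an open subset U of X is schematically dense if and only if it contains an open subset
of the form X_t with t a regular element of A = Γ(X, O_X). -/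
theorem result (X : Scheme.{u}) [IsAffine X]
    (hX : IsNoetherian X ∨ (IsReduced X ∧ (irreducibleComponents ↥X).Finite)) (U : X.Opens) :
    CInt.IsSchematicallyDense U ↔ ∃ t : Γ(X, ⊤), t ∈ nonZeroDivisors Γ(X, ⊤) ∧ X.basicOpen t ≤ U := by
  exact aux X hX U

end Groth.Agent.S3834
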