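import Groth.Statements.S3843
import Groth.Agent.Lib.Helper4SchDomC

set_option autoImplicit false
universe u
open CategoryTheory CategoryTheory.Limits AlgebraicGeometry TopologicalSpace
open Rat20

namespace Groth.Agent.S3843

/-- For the open subset U = X; the general case is the same statement over the open subscheme U: let f :
X' → X be flat and locally of finite presentation. Then for every schematically dense open subset V
of X, the preimage f⁻¹(V) is schematically dense in X'. -/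
theorem result {X X' : Scheme.{u}} (f : X' ⟶ X) [Flat f]
    [LocallyOfFinitePresentation f] (V : X.Opens) (hV : CInt.IsSchematicallyDense V) :
    CInt.IsSchematicallyDense (f ⁻¹ᵁ V) := by
  -- the one-member family `V.ι : V ⟶ X` is schematically dominant
  have h1 : ∀ (W : X.Opens) (t : Γ(X, W)),
      (∀ _ : PUnit.{u + 1}, (V.ι).app W t = 0) → t = 0 := by
    intro W t ht
    have ht' := ht PUnit.unit
    apply hV W
    rw [map_zero]
    rw [Scheme.Opens.ι_app] at ht'
    have hle : W ⊓ V ≤ V.ι ''ᵁ V.ι ⁻¹ᵁ W := by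
      intro x hx
      exact ⟨⟨x, hx.2⟩, hx.1, rfl⟩
    have hle0 : V.ι ''ᵁ V.ι ⁻¹ᵁ W ≤ W := by
      rintro _ ⟨y, hy, rfl⟩
      exact hy
    have ht'' : X.presheaf.map (homOfLE hle0).op t = 0 := ht'
    have h2 := congrArg (X.presheaf.map (homOfLE hle).op) ht''
    rw [map_zero, ← CommRingCat.comp_apply, ← Functor.map_comp] at h2
    exact h2
  have h2 := Groth.Agent.Lib.Helper4.SchDom.schematicallyDominant_baseChange
    (fun _ : PUnit.{u + 1} => (V : Scheme.{u})) (fun _ => V.ι) f h1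
  intro W' t₁ t₂ ht
  rw [← sub_eq_zero]
  have ht0 : X'.presheaf.map (homOfLE (inf_le_left : W' ⊓ f ⁻¹ᵁ V ≤ W')).op (t₁ - t₂) = 0 := by
    rw [map_sub, ht, sub_self]
  refine h2 W' (t₁ - t₂) (fun _ => ?_)
  set sn := Limits.pullback.snd V.ι f with hsn
  -- `sn ⁻¹ W' = sn ⁻¹ (W' ⊓ f⁻¹ V)`
  have hrange : ∀ z, sn z ∈ f ⁻¹ᵁ V := by
    intro z
    show f (sn z) ∈ V
    have e : (sn ≫ f) z = (Limits.pullback.fst V.ι f ≫ V.ι) z := by
      rw [hsn, Limits.pullback.condition]
    rw [Scheme.Hom.comp_apply, Scheme.Hom.comp_apply] at e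
    rw [e]
    exact (Limits.pullback.fst V.ι f z).2
  have hle : sn ⁻¹ᵁ W' ≤ sn ⁻¹ᵁ (W' ⊓ f ⁻¹ᵁ V) := fun z hz => ⟨hz, hrange z⟩
  have hnat : sn.app W' ≫ (Limits.pullback V.ι f).presheaf.map
      (homOfLE (sn.preimage_mono (inf_le_left : W' ⊓ f ⁻¹ᵁ V ≤ W'))).op =
      X'.presheaf.map (homOfLE (inf_le_left : W' ⊓ f ⁻¹ᵁ V ≤ W')).op ≫
        sn.app (W' ⊓ f ⁻¹ᵁ V) := (sn.naturality _).symm
  have h3 := congrArg (fun m => m.hom (t₁ - t₂)) hnat
  simp only [CommRingCat.hom_comp, RingHom.comp_apply] at h3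
  rw [ht0, map_zero] at h3
  have h4 := congrArg ((Limits.pullback V.ι f).presheaf.map (homOfLE hle).op) h3
  rw [map_zero, ← CommRingCat.comp_apply, ← Functor.map_comp] at h4
  have h5 : (homOfLE (sn.preimage_mono (inf_le_left : W' ⊓ f ⁻¹ᵁ V ≤ W'))).op ≫ (homOfLE hle).op =
      𝟙 _ := rfl
  rw [h5, CategoryTheory.Functor.map_id, CommRingCat.id_apply] at h4
  exact h4

end Groth.Agent.S3843
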