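import Groth.Statements.S3835
import Groth.Agent.Lib.Helper12SchDenseExt
import Groth.Agent.S3843

set_option autoImplicit false
set_option linter.style.haveILetI false
universe u
open CategoryTheory CategoryTheory.Limits AlgebraicGeometry TopologicalSpace
open Rat20

namespace Groth.Agent.S3835

/-- Let Y be separated over S, X an S-scheme with a schematically dense open subscheme U, h : U → Y an
S-morphism (a representative of a pseudo-morphism from X to Y over S), and f : X' → X a flat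
morphism locally of finite presentation, X' being regarded as an S-scheme through f. Let x' be a
point of X' with image x = f(x'). If there is an S-morphism from an open neighbourhood V' of x' to Y
agreeing with h ∘ f on f⁻¹(U) ∩ V' (the pulled-back pseudo-morphism is defined at x'), then there is
an S-morphism from an open neighbourhood V of x to Y agreeing with h on U ∩ V (the pseudo-morphism
is defined at x). -/
theorem result {X X' Y S : Scheme.{u}} (pX : X ⟶ S) (pY : Y ⟶ S)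
    [IsSeparated pY] (U : X.Opens) (hU : CInt.IsSchematicallyDense U) (h : (U : Scheme.{u}) ⟶ Y)
    (hh : h ≫ pY = U.ι ≫ pX) (f : X' ⟶ X) [Flat f] [LocallyOfFinitePresentation f] (x' : ↥X')
    (V' : X'.Opens) (hx' : x' ∈ V') (v' : (V' : Scheme.{u}) ⟶ Y) (hv'S : v' ≫ pY = V'.ι ≫ f ≫ pX)
    (hv' : X'.homOfLE (inf_le_right : f ⁻¹ᵁ U ⊓ V' ≤ V') ≫ v' =
      X'.homOfLE (inf_le_left : f ⁻¹ᵁ U ⊓ V' ≤ f ⁻¹ᵁ U) ≫ (f ∣_ U) ≫ h) :
    ∃ (V : X.Opens) (v : (V : Scheme.{u}) ⟶ Y), f x' ∈ V ∧ v ≫ pY = V.ι ≫ pX ∧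
      X.homOfLE (inf_le_right : U ⊓ V ≤ V) ≫ v = X.homOfLE (inf_le_left : U ⊓ V ≤ U) ≫ h := by
  classical
  -- the image of `V'` is open
  let V : X.Opens := ⟨f '' (V' : Set X'), f.isOpenMap _ V'.2⟩
  have hV'V : V' ≤ f ⁻¹ᵁ V := fun z hz => ⟨z, hz, rfl⟩
  let f' : (V' : Scheme.{u}) ⟶ (V : Scheme.{u}) := f.resLE V V' hV'V
  have hf'ι : f' ≫ V.ι = V'.ι ≫ f := Scheme.Hom.resLE_comp_ι _ _
  haveI : Surjective f' := by
    refine ⟨fun z => ?_⟩
    obtain ⟨w, hw, hwz⟩ := z.2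
    let w' : (V' : Scheme.{u}) := ⟨w, hw⟩
    refine ⟨w', ?_⟩
    apply Subtype.ext
    have e1 : (f' ≫ V.ι) w' = (V'.ι ≫ f) w' := by rw [hf'ι]
    have e2 : V.ι (f' w') = f (V'.ι w') := e1
    exact e2.trans hwz
  -- density on the fibre square
  have hUd : ∀ {P : Scheme.{u}} (q : P ⟶ X) [Flat q] [LocallyOfFinitePresentation q],
      CInt.IsSchematicallyDense (q ⁻¹ᵁ U) := fun q _ _ => Groth.Agent.S3843.result q U hU
  -- the cocycle condition
  have hw : ∀ {Z : Scheme.{u}} (g₁ g₂ : Z ⟶ (V' : Scheme.{u})), g₁ ≫ f' = g₂ ≫ f' →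
      g₁ ≫ v' = g₂ ≫ v' := by
    intro Z g₁ g₂ hg
    let l : Z ⟶ pullback f' f' := pullback.lift g₁ g₂ hg
    have hl1 : l ≫ pullback.fst f' f' = g₁ := pullback.lift_fst _ _ _
    have hl2 : l ≫ pullback.snd f' f' = g₂ := pullback.lift_snd _ _ _
    suffices hs : pullback.fst f' f' ≫ v' = pullback.snd f' f' ≫ v' by
      rw [← hl1, ← hl2, Category.assoc, Category.assoc, hs]
    let q : pullback f' f' ⟶ X := pullback.fst f' f' ≫ f' ≫ V.ι
    have hq1 : pullback.fst f' f' ≫ V'.ι ≫ f = q := by rw [← hf'ι]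
    have hq2 : pullback.snd f' f' ≫ V'.ι ≫ f = q := by
      rw [← hf'ι, ← Category.assoc, ← pullback.condition, Category.assoc]
    refine Groth.Agent.Lib.Helper12.SchDense.ext_of_isSchematicallyDense pY ?_ (q ⁻¹ᵁ U) (hUd q) ?_
    · rw [Category.assoc, Category.assoc, hv'S]
      have e3 := congrArg (· ≫ pX) (hq1.trans hq2.symm)
      simpa only [Category.assoc] using e3
    · -- agreement on the preimage of `U`
      set W := q ⁻¹ᵁ U with hW
      have hr1 : Set.range (W.ι ≫ pullback.fst f' f' ≫ V'.ι) ⊆ Set.range (f ⁻¹ᵁ U ⊓ V').ι := by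
        rintro _ ⟨w, rfl⟩
        rw [Scheme.Opens.range_ι]
        refine ⟨?_, ?_⟩
        · show f ((W.ι ≫ pullback.fst f' f' ≫ V'.ι) w) ∈ U
          have : f ((W.ι ≫ pullback.fst f' f' ≫ V'.ι) w) = q (W.ι w) := by
            rw [← hq1]
            simp only [Scheme.Hom.comp_apply]
          rw [this]
          exact w.2
        · simp only [Scheme.Hom.comp_apply]
          exact ((pullback.fst f' f') (W.ι w)).2
      have hr2 : Set.range (W.ι ≫ pullback.snd f' f' ≫ V'.ι) ⊆ Set.range (f ⁻¹ᵁ U ⊓ V').ι := by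
        rintro _ ⟨w, rfl⟩
        rw [Scheme.Opens.range_ι]
        refine ⟨?_, ?_⟩
        · show f ((W.ι ≫ pullback.snd f' f' ≫ V'.ι) w) ∈ U
          have : f ((W.ι ≫ pullback.snd f' f' ≫ V'.ι) w) = q (W.ι w) := by
            rw [← hq2]
            simp only [Scheme.Hom.comp_apply]
          rw [this]
          exact w.2
        · simp only [Scheme.Hom.comp_apply]
          exact ((pullback.snd f' f') (W.ι w)).2
      let k₁ := IsOpenImmersion.lift (f ⁻¹ᵁ U ⊓ V').ι (W.ι ≫ pullback.fst f' f' ≫ V'.ι) hr1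
      let k₂ := IsOpenImmersion.lift (f ⁻¹ᵁ U ⊓ V').ι (W.ι ≫ pullback.snd f' f' ≫ V'.ι) hr2
      have hk1 : k₁ ≫ (f ⁻¹ᵁ U ⊓ V').ι = W.ι ≫ pullback.fst f' f' ≫ V'.ι :=
        IsOpenImmersion.lift_fac _ _ _
      have hk2 : k₂ ≫ (f ⁻¹ᵁ U ⊓ V').ι = W.ι ≫ pullback.snd f' f' ≫ V'.ι :=
        IsOpenImmersion.lift_fac _ _ _
      have hk1' : k₁ ≫ X'.homOfLE (inf_le_right : f ⁻¹ᵁ U ⊓ V' ≤ V') = W.ι ≫ pullback.fst f' f' := by
        rw [← cancel_mono V'.ι, Category.assoc, Scheme.homOfLE_ι, hk1, Category.assoc]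
      have hk2' : k₂ ≫ X'.homOfLE (inf_le_right : f ⁻¹ᵁ U ⊓ V' ≤ V') = W.ι ≫ pullback.snd f' f' := by
        rw [← cancel_mono V'.ι, Category.assoc, Scheme.homOfLE_ι, hk2, Category.assoc]
      have hkk : k₁ ≫ X'.homOfLE (inf_le_left : f ⁻¹ᵁ U ⊓ V' ≤ f ⁻¹ᵁ U) ≫ (f ∣_ U) =
          k₂ ≫ X'.homOfLE (inf_le_left : f ⁻¹ᵁ U ⊓ V' ≤ f ⁻¹ᵁ U) ≫ (f ∣_ U) := by
        rw [← cancel_mono U.ι]
        simp only [Category.assoc, morphismRestrict_ι]
        rw [← Category.assoc (X'.homOfLE _), Scheme.homOfLE_ι, ← Category.assoc, hk1,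
          ← Category.assoc k₂, hk2, Category.assoc, Category.assoc, hq1, Category.assoc,
          Category.assoc, hq2]
      rw [← Category.assoc, ← hk1', Category.assoc, hv', ← Category.assoc W.ι, ← hk2',
        Category.assoc k₂, hv']
      rw [← Category.assoc, ← Category.assoc, Category.assoc k₁, hkk]
      simp only [Category.assoc]
  -- descend
  let v : (V : Scheme.{u}) ⟶ Y := EffectiveEpi.desc f' v' (fun g₁ g₂ hg => hw g₁ g₂ hg)
  have hv : f' ≫ v = v' := EffectiveEpi.fac f' v' _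
  refine ⟨V, v, ⟨x', hx', rfl⟩, ?_, ?_⟩
  · rw [← cancel_epi f', ← Category.assoc, hv, hv'S, ← Category.assoc V'.ι, ← hf'ι, Category.assoc]
  · -- compare on `U ⊓ V` after the cover `f⁻¹U ⊓ V' ⟶ U ⊓ V`
    have hle : f ⁻¹ᵁ U ⊓ V' ≤ f ⁻¹ᵁ (U ⊓ V) := fun z hz => ⟨hz.1, hV'V hz.2⟩
    let f'' : ((f ⁻¹ᵁ U ⊓ V' : X'.Opens) : Scheme.{u}) ⟶ ((U ⊓ V : X.Opens) : Scheme.{u}) :=
      f.resLE (U ⊓ V) (f ⁻¹ᵁ U ⊓ V') hle
    have hf''ι : f'' ≫ (U ⊓ V).ι = (f ⁻¹ᵁ U ⊓ V').ι ≫ f := Scheme.Hom.resLE_comp_ι _ _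
    haveI : Surjective f'' := by
      refine ⟨fun z => ?_⟩
      obtain ⟨w, hw', hwz⟩ := z.2.2
      have hwU : w ∈ f ⁻¹ᵁ U := by
        show f w ∈ U
        rw [hwz]
        exact z.2.1
      let w' : ((f ⁻¹ᵁ U ⊓ V' : X'.Opens) : Scheme.{u}) := ⟨w, hwU, hw'⟩
      refine ⟨w', ?_⟩
      apply Subtype.ext
      have e1 : (f'' ≫ (U ⊓ V).ι) w' = ((f ⁻¹ᵁ U ⊓ V').ι ≫ f) w' := by
        rw [hf''ι]
      have e2 : (U ⊓ V).ι (f'' w') = f ((f ⁻¹ᵁ U ⊓ V').ι w') := e1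
      exact e2.trans hwz
    rw [← cancel_epi f'']
    have e1 : f'' ≫ X.homOfLE (inf_le_right : U ⊓ V ≤ V) =
        X'.homOfLE (inf_le_right : f ⁻¹ᵁ U ⊓ V' ≤ V') ≫ f' := by
      rw [← cancel_mono V.ι, Category.assoc, Scheme.homOfLE_ι, hf''ι, Category.assoc, hf'ι,
        ← Category.assoc, Scheme.homOfLE_ι]
    have e2 : f'' ≫ X.homOfLE (inf_le_left : U ⊓ V ≤ U) =
        X'.homOfLE (inf_le_left : f ⁻¹ᵁ U ⊓ V' ≤ f ⁻¹ᵁ U) ≫ (f ∣_ U) := by
      rw [← cancel_mono U.ι, Category.assoc, Scheme.homOfLE_ι, hf''ι, Category.assoc,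
        morphismRestrict_ι, ← Category.assoc, Scheme.homOfLE_ι]
    rw [← Category.assoc, e1, Category.assoc, hv, hv', ← Category.assoc f'', e2, Category.assoc]

end Groth.Agent.S3835
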