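import Groth.Statements.S3836
import Groth.Agent.Lib.Helper4RatExt4
import Mathlib

set_option autoImplicit false
set_option linter.style.haveILetI false
universe u
open CategoryTheory CategoryTheory.Limits AlgebraicGeometry TopologicalSpace
open Rat20

namespace Groth.Agent.S3836

/-- Let X be a locally integral S-scheme, Y an S-scheme locally of finite type and separated over S, and
h : U → Y an S-morphism on a dense open subset (a rational S-map ω). Let Γ be the closure in X ×_S Y
of the graph of h and p : Γ → X the projection. If x is a point of X whose local ring is integrally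
closed and the fibre p⁻¹(x) contains an isolated point, then ω is defined at x: some S-morphism from
an open neighbourhood of x to Y agrees with h on U. -/
theorem result {X Y S : Scheme.{u}} (pX : X ⟶ S) (pY : Y ⟶ S)
    [LocallyOfFiniteType pY] [IsSeparated pY] (hX : ∀ y : ↥X, ∃ W : X.Opens, y ∈ W ∧ IsIntegral (W : Scheme.{u}))
    (U : X.Opens) (hU : Dense (U : Set ↥X)) (h : (U : Scheme.{u}) ⟶ Y) (hh : U.ι ≫ pX = h ≫ pY)
    (x : ↥X) (hx : IsIntegrallyClosed (X.presheaf.stalk x))
    (z : ↥(pullback pX pY)) (hz : pullback.fst pX pY z = x)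
    (hzΓ : z ∈ closure (Set.range (pullback.lift U.ι h hh)))
    (hiso : ∃ W : (pullback pX pY).Opens, (W : Set ↥(pullback pX pY)) ∩ closure (Set.range (pullback.lift U.ι h hh)) ∩
      (pullback.fst pX pY) ⁻¹' {x} = {z}) :
    ∃ (V : X.Opens) (v : (V : Scheme.{u}) ⟶ Y), x ∈ V ∧ v ≫ pY = V.ι ≫ pX ∧
      X.homOfLE (inf_le_right : U ⊓ V ≤ V) ≫ v = X.homOfLE (inf_le_left : U ⊓ V ≤ U) ≫ h := by
  classical
  subst hz
  obtain ⟨W₁, hxW₁, hW₁int⟩ := hX (pullback.fst pX pY z)
  haveI := hW₁int
  let x' : (W₁ : Scheme.{u}) := ⟨pullback.fst pX pY z, hxW₁⟩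
  haveI hgi : X.IsGermInjectiveAt (pullback.fst pX pY z) := by
    have h1 : (W₁ : Scheme.{u}).IsGermInjective := inferInstance
    haveI : (W₁ : Scheme.{u}).IsGermInjectiveAt x' := h1 x'
    exact (isGermInjectiveAt_iff_of_isOpenImmersion (f := W₁.ι) (x := x')).mpr inferInstance
  haveI hdom : IsDomain (X.presheaf.stalk (pullback.fst pX pY z)) := by
    haveI : IsDomain ((W₁ : Scheme.{u}).presheaf.stalk x') := inferInstance
    have e := W₁.stalkIso x'
    exact Function.Injective.isDomain e.inv.hom
      (ConcreteCategory.bijective_of_isIso e.inv).1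
  haveI := hx
  have hxcl : pullback.fst pX pY z ∈ closure (U : Set X) := by
    rw [hU.closure_eq]; exact Set.mem_univ _
  have hξU := Groth.Agent.Lib.Helper4.RatExt.genericHom_mem (pullback.fst pX pY z) U hxcl
  -- the graph section
  have hg : pullback.lift U.ι h hh ≫ pullback.fst pX pY = U.ι := pullback.lift_fst _ _ _
  let jU : Spec (CommRingCat.of (FractionRing (X.presheaf.stalk (pullback.fst pX pY z)))) ⟶
      U.toScheme :=
    IsOpenImmersion.lift U.ι (Groth.Agent.Lib.Helper4.RatExt.genericHom X (pullback.fst pX pY z))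
      (Groth.Agent.Lib.Helper4.RatExt.range_genericHom_subset (pullback.fst pX pY z) U hξU)
  have hjU : jU ≫ U.ι = Groth.Agent.Lib.Helper4.RatExt.genericHom X (pullback.fst pX pY z) :=
    IsOpenImmersion.lift_fac _ _ _
  have ht : (jU ≫ pullback.lift U.ι h hh) ≫ pullback.fst pX pY =
      Groth.Agent.Lib.Helper4.RatExt.genericHom X (pullback.fst pX pY z) := by
    rw [Category.assoc, hg, hjU]
  -- every point of the closure of the graph near `z` is a specialization of the generic point
  obtain ⟨V₀, hxV₀, -, -, hF0⟩ :=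
    Groth.Agent.Lib.Helper4.RatExt.exists_integral_nhd (pullback.fst pX pY z)
  have hcl : ∀ z' : ↥(pullback pX pY), z' ∈ closure (Set.range (pullback.lift U.ι h hh)) →
      pullback.fst pX pY z' ∈ V₀ →
      (jU ≫ pullback.lift U.ι h hh) (IsLocalRing.closedPoint
        (FractionRing (X.presheaf.stalk (pullback.fst pX pY z)))) ⤳ z' := by
    intro z' hz' hz'V
    rw [specializes_iff_mem_closure]
    have h1 : z' ∈ closure (Set.range (pullback.lift U.ι h hh) ∩
        (pullback.fst pX pY) ⁻¹' (V₀ : Set X)) := by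
      rw [mem_closure_iff] at hz' ⊢
      intro O hO hzO
      obtain ⟨w, ⟨hwO, hwV⟩, hwr⟩ := hz' (O ∩ (pullback.fst pX pY) ⁻¹' (V₀ : Set X))
        (hO.inter (V₀.2.preimage (pullback.fst pX pY).continuous)) ⟨hzO, hz'V⟩
      exact ⟨w, hwO, hwr, hwV⟩
    refine closure_minimal ?_ isClosed_closure h1
    rintro _ ⟨⟨u, rfl⟩, huV⟩
    rw [← specializes_iff_mem_closure]
    have hu1 : pullback.fst pX pY (pullback.lift U.ι h hh u) = U.ι u := by
      rw [← Scheme.Hom.comp_apply, hg]
    have hu2 : U.ι u ∈ V₀ := by rw [← hu1]; exact huV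
    have h2 : jU (IsLocalRing.closedPoint
        (FractionRing (X.presheaf.stalk (pullback.fst pX pY z)))) ⤳ u := by
      rw [← U.ι.isOpenEmbedding.isInducing.specializes_iff]
      have e1 : U.ι (jU (IsLocalRing.closedPoint
          (FractionRing (X.presheaf.stalk (pullback.fst pX pY z))))) =
          Groth.Agent.Lib.Helper4.RatExt.genericHom X (pullback.fst pX pY z)
            (IsLocalRing.closedPoint (FractionRing (X.presheaf.stalk (pullback.fst pX pY z)))) := by
        rw [← hjU]; rfl
      rw [e1]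
      exact hF0 _ hu2
    exact h2.map (pullback.lift U.ι h hh).continuous
  have hsp := hcl z hzΓ hxV₀
  obtain ⟨W, hW⟩ := hiso
  have hzW : z ∈ W := by
    have : z ∈ (W : Set ↥(pullback pX pY)) ∩ closure (Set.range (pullback.lift U.ι h hh)) ∩
        (pullback.fst pX pY) ⁻¹' {pullback.fst pX pY z} := by rw [hW]; rfl
    exact this.1.1
  obtain ⟨l, hl1, hl2⟩ := Groth.Agent.Lib.Helper4.RatExt.exists_stalk_lift_of_isolated
    (pullback.fst pX pY) z (jU ≫ pullback.lift U.ι h hh) ht hsp W hzW (by
      intro z' hz'W hz'sp hz'q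
      have h1 : z' ∈ closure (Set.range (pullback.lift U.ι h hh)) := by
        refine closure_mono ?_ (specializes_iff_mem_closure.mp hz'sp)
        rintro _ rfl
        exact ⟨jU _, rfl⟩
      have : z' ∈ (W : Set ↥(pullback pX pY)) ∩ closure (Set.range (pullback.lift U.ι h hh)) ∩
          (pullback.fst pX pY) ⁻¹' {pullback.fst pX pY z} := ⟨⟨hz'W, h1⟩, hz'q⟩
      rw [hW] at this
      exact this)
  obtain ⟨U', hUU', hxU', f', hf'1, hf'2, -⟩ :=
    Groth.Agent.Lib.Helper4.RatExt.exists_extension_of_stalk_lift (𝟙 X) (pullback.fst pX pY)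
      (pullback.fst pX pY z) U (pullback.lift U.ι h hh)
      (by rw [hg, Category.comp_id]) jU hjU l (by rw [hl1, Category.comp_id]) hl2
  refine ⟨U', f' ≫ pullback.snd pX pY, hxU', ?_, ?_⟩
  · rw [Category.assoc, ← pullback.condition, ← Category.assoc, hf'1, Category.comp_id]
  · have h1 : X.homOfLE (inf_le_right : U ⊓ U' ≤ U') =
        X.homOfLE (inf_le_left : U ⊓ U' ≤ U) ≫ X.homOfLE hUU' := by
      rw [Scheme.homOfLE_homOfLE]
    rw [h1, Category.assoc, ← Category.assoc (X.homOfLE hUU'), hf'2, pullback.lift_snd]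

end Groth.Agent.S3836
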