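import Groth.Statements.S3837
-- import your own Groth.Agent.* helpers here
import Mathlib
import Groth.Agent.S3836

set_option autoImplicit false
universe u
open CategoryTheory CategoryTheory.Limits AlgebraicGeometry TopologicalSpace
open Rat20

namespace Groth.Agent.S3837

lemma forward {X X' Y S : Scheme.{u}} (pX : X ⟶ S) (pY : Y ⟶ S)
    (U : X.Opens) (h : (U : Scheme.{u}) ⟶ Y)
    (f : X' ⟶ X) (x' : ↥X')
    (V : X.Opens) (v : (V : Scheme.{u}) ⟶ Y) (hxV : f x' ∈ V) (hv : v ≫ pY = V.ι ≫ pX)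
    (hvh : X.homOfLE (inf_le_right : U ⊓ V ≤ V) ≫ v = X.homOfLE (inf_le_left : U ⊓ V ≤ U) ≫ h) :
    ∃ (V' : X'.Opens) (v' : (V' : Scheme.{u}) ⟶ Y), x' ∈ V' ∧ v' ≫ pY = V'.ι ≫ f ≫ pX ∧
        X'.homOfLE (inf_le_right : f ⁻¹ᵁ U ⊓ V' ≤ V') ≫ v' =
          X'.homOfLE (inf_le_left : f ⁻¹ᵁ U ⊓ V' ≤ f ⁻¹ᵁ U) ≫ (f ∣_ U) ≫ h := by
  refine ⟨f ⁻¹ᵁ V, (f ∣_ V) ≫ v, hxV, ?_, ?_⟩
  · rw [Category.assoc, hv, ← Category.assoc, morphismRestrict_ι, Category.assoc]
  · have e : f ⁻¹ᵁ U ⊓ f ⁻¹ᵁ V ≤ f ⁻¹ᵁ (U ⊓ V) := le_of_eq rfl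
    rw [← Scheme.Hom.resLE_eq_morphismRestrict, ← Scheme.Hom.resLE_eq_morphismRestrict,
      ← Category.assoc, ← Category.assoc, Scheme.Hom.map_resLE, Scheme.Hom.map_resLE]
    have h1 : f.resLE V (f ⁻¹ᵁ U ⊓ f ⁻¹ᵁ V) (inf_le_right.trans le_rfl) =
        f.resLE (U ⊓ V) (f ⁻¹ᵁ U ⊓ f ⁻¹ᵁ V) e ≫ X.homOfLE inf_le_right := by
      rw [Scheme.Hom.resLE_map]
    have h2 : f.resLE U (f ⁻¹ᵁ U ⊓ f ⁻¹ᵁ V) (inf_le_left.trans le_rfl) =
        f.resLE (U ⊓ V) (f ⁻¹ᵁ U ⊓ f ⁻¹ᵁ V) e ≫ X.homOfLE inf_le_left := by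
      rw [Scheme.Hom.resLE_map]
    rw [h1, h2, Category.assoc, Category.assoc, hvh]

section key
variable {X X' Y S : Scheme.{u}} (pX : X ⟶ S) (pY : Y ⟶ S)
    (U : X.Opens) (h : (U : Scheme.{u}) ⟶ Y) (hh : U.ι ≫ pX = h ≫ pY)
    (f : X' ⟶ X)
    (V' : X'.Opens) (v' : (V' : Scheme.{u}) ⟶ Y) (hv' : (V'.ι ≫ f) ≫ pX = v' ≫ pY)
    (hag : X'.homOfLE (inf_le_right : f ⁻¹ᵁ U ⊓ V' ≤ V') ≫ v' =
          X'.homOfLE (inf_le_left : f ⁻¹ᵁ U ⊓ V' ≤ f ⁻¹ᵁ U) ≫ (f ∣_ U) ≫ h)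

/-- the graph of `h` -/
noncomputable abbrev gam : (U : Scheme.{u}) ⟶ pullback pX pY := pullback.lift U.ι h hh

/-- the graph of `v'` composed to `X ×_S Y` -/
noncomputable abbrev gg : (V' : Scheme.{u}) ⟶ pullback pX pY := pullback.lift (V'.ι ≫ f) v' hv'

/-- the section of `V' ×_X P → V'` -/
noncomputable abbrev sig : (V' : Scheme.{u}) ⟶ pullback (V'.ι ≫ f) (pullback.fst pX pY) :=
  pullback.lift (𝟙 _) (gg pX pY f V' v' hv') (by rw [Category.id_comp, pullback.lift_fst])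

include hag in
/-- On `f⁻¹U ∩ V'`, the graph of `v'` factors through the graph of `h`. -/
lemma gg_restrict :
    X'.homOfLE (inf_le_right : f ⁻¹ᵁ U ⊓ V' ≤ V') ≫ gg pX pY f V' v' hv' =
      (X'.homOfLE (inf_le_left : f ⁻¹ᵁ U ⊓ V' ≤ f ⁻¹ᵁ U) ≫ (f ∣_ U)) ≫ gam pX pY U h hh := by
  apply pullback.hom_ext
  · simp only [Category.assoc, pullback.lift_fst]
    rw [morphismRestrict_ι, ← Category.assoc, ← Category.assoc, Scheme.homOfLE_ι, Scheme.homOfLE_ι]
  · simp only [Category.assoc, pullback.lift_snd]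
    exact hag

include hag in
/-- Any `T → V'` whose composite to `X` factors through `U` has `t ≫ v' = s ≫ h`. -/
lemma comp_v'_eq {T : Scheme.{u}} (t : T ⟶ V') (s : T ⟶ U) (hts : t ≫ V'.ι ≫ f = s ≫ U.ι) :
    t ≫ v' = s ≫ h := by
  -- factor `t` through `f⁻¹U ⊓ V'`
  have hrange : Set.range (t ≫ V'.ι) ⊆ Set.range (f ⁻¹ᵁ U ⊓ V').ι := by
    rintro _ ⟨a, rfl⟩
    rw [Scheme.Opens.range_ι]
    refine ⟨?_, ?_⟩
    · show f ((t ≫ V'.ι) a) ∈ U
      have : f ((t ≫ V'.ι) a) = (s ≫ U.ι) a := by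
        rw [← hts]; simp
      rw [this]
      simp only [Scheme.Hom.comp_apply]
      exact (s a).2
    · simp only [Scheme.Hom.comp_apply]
      exact (t a).2
  let r : T ⟶ (f ⁻¹ᵁ U ⊓ V' : X'.Opens) := IsOpenImmersion.lift (f ⁻¹ᵁ U ⊓ V').ι (t ≫ V'.ι) hrange
  have hr : r ≫ (f ⁻¹ᵁ U ⊓ V').ι = t ≫ V'.ι := IsOpenImmersion.lift_fac _ _ _
  have hr1 : r ≫ X'.homOfLE (inf_le_right : f ⁻¹ᵁ U ⊓ V' ≤ V') = t := by
    rw [← cancel_mono V'.ι, Category.assoc, Scheme.homOfLE_ι, hr]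
  have hr2 : r ≫ X'.homOfLE (inf_le_left : f ⁻¹ᵁ U ⊓ V' ≤ f ⁻¹ᵁ U) ≫ (f ∣_ U) = s := by
    rw [← cancel_mono U.ι, Category.assoc, Category.assoc, morphismRestrict_ι,
      ← Category.assoc (X'.homOfLE _), Scheme.homOfLE_ι, ← Category.assoc, hr, Category.assoc, hts]
  rw [← hr1, Category.assoc, hag, ← hr2]
  simp only [Category.assoc]

include hag in
lemma preimage_range_gam_subset :
    (pullback.snd (V'.ι ≫ f) (pullback.fst pX pY)) ⁻¹' Set.range (gam pX pY U h hh) ⊆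
      Set.range (sig pX pY f V' v' hv') := by
  rw [← Scheme.Pullback.range_fst]
  rintro _ ⟨b, rfl⟩
  have hts : (pullback.fst (pullback.snd (V'.ι ≫ f) (pullback.fst pX pY)) (gam pX pY U h hh) ≫
      pullback.fst (V'.ι ≫ f) (pullback.fst pX pY)) ≫ V'.ι ≫ f =
      pullback.snd (pullback.snd (V'.ι ≫ f) (pullback.fst pX pY)) (gam pX pY U h hh) ≫ U.ι := by
    rw [Category.assoc, pullback.condition, ← Category.assoc, pullback.condition, Category.assoc,
      pullback.lift_fst]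
  have key : pullback.fst (pullback.snd (V'.ι ≫ f) (pullback.fst pX pY)) (gam pX pY U h hh) =
      (pullback.fst _ _ ≫ pullback.fst _ _) ≫ sig pX pY f V' v' hv' := by
    have h1 : sig pX pY f V' v' hv' ≫ pullback.fst (V'.ι ≫ f) (pullback.fst pX pY) = 𝟙 _ :=
      pullback.lift_fst _ _ _
    apply pullback.hom_ext
    · rw [Category.assoc, Category.assoc, h1, Category.comp_id]
    · simp only [Category.assoc, pullback.lift_snd]
      rw [pullback.condition]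
      apply pullback.hom_ext
      · simp only [Category.assoc, pullback.lift_fst]
        rw [← hts]
        simp only [Category.assoc]
      · simp only [Category.assoc, pullback.lift_snd]
        have := comp_v'_eq U h f V' v' hag _ _ hts
        rw [← this]
        simp only [Category.assoc]
  rw [key]
  exact ⟨_, rfl⟩

/-- The section `sig` is a closed immersion when `pY` is separated. -/
lemma isClosed_range_sig [IsSeparated pY] :
    IsClosed (Set.range (sig pX pY f V' v' hv')) := by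
  have h1 : sig pX pY f V' v' hv' ≫ pullback.fst (V'.ι ≫ f) (pullback.fst pX pY) = 𝟙 _ :=
    pullback.lift_fst _ _ _
  haveI : IsClosedImmersion (sig pX pY f V' v' hv' ≫ pullback.fst (V'.ι ≫ f) (pullback.fst pX pY)) := by
    rw [h1]; infer_instance
  haveI : IsClosedImmersion (sig pX pY f V' v' hv') :=
    IsClosedImmersion.of_comp _ (pullback.fst (V'.ι ≫ f) (pullback.fst pX pY))
  exact (sig pX pY f V' v' hv').isClosedEmbedding.isClosed_range

include hag in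
/-- Key: the fibre of the graph closure over `f a` is the single point `g a`. -/
lemma eq_of_mem_closure [IsSeparated pY] [UniversallyOpen f]
    (a : ↥(V' : Scheme.{u})) (w : ↥(pullback pX pY))
    (hw : w ∈ closure (Set.range (gam pX pY U h hh)))
    (hwa : pullback.fst pX pY w = f (V'.ι a)) :
    w = gg pX pY f V' v' hv' a := by
  obtain ⟨w', hw'1, hw'2⟩ := Scheme.Pullback.exists_preimage_pullback
    (f := V'.ι ≫ f) (g := pullback.fst pX pY) a w (by rw [Scheme.Hom.comp_apply]; exact hwa.symm)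
  have hopen : IsOpenMap (pullback.snd (V'.ι ≫ f) (pullback.fst pX pY)) :=
    (pullback.snd (V'.ι ≫ f) (pullback.fst pX pY)).isOpenMap
  have hmem : w' ∈ closure ((pullback.snd (V'.ι ≫ f) (pullback.fst pX pY)) ⁻¹'
      Set.range (gam pX pY U h hh)) := by
    apply hopen.preimage_closure_subset_closure_preimage
    rw [Set.mem_preimage, hw'2]; exact hw
  have hmem2 : w' ∈ Set.range (sig pX pY f V' v' hv') :=
    (closure_minimal (preimage_range_gam_subset pX pY U h hh f V' v' hv' hag)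
      (isClosed_range_sig pX pY f V' v' hv')) hmem
  obtain ⟨a', rfl⟩ := hmem2
  have ha' : a' = a := by
    rw [← hw'1, ← Scheme.Hom.comp_apply, pullback.lift_fst]; rfl
  subst ha'
  rw [← hw'2, ← Scheme.Hom.comp_apply, pullback.lift_snd]

end key

/-- Let X be a normal S-scheme (locally integral with integrally closed local rings), Y an S-scheme
locally of finite type and separated over S, h : U → Y an S-morphism on a dense open subset (a
rational S-map ω), and f : X' → X a morphism locally of finite type and universally open with X'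
reduced, so that f⁻¹(U) is dense and ω ∘ f is defined. Then for x' in X' with image x, ω is defined
at x if and only if ω ∘ f is defined at x': some S-morphism on an open neighbourhood of x agrees
with h on U if and only if some S-morphism on an open neighbourhood of x' agrees with h ∘ f on the
preimage of U. -/
theorem result {X X' Y S : Scheme.{u}} (pX : X ⟶ S) (pY : Y ⟶ S)
    [LocallyOfFiniteType pY] [IsSeparated pY] (hX : ∀ y : ↥X, ∃ W : X.Opens, y ∈ W ∧ IsIntegral (W : Scheme.{u}))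
    (hXn : ∀ y : ↥X, IsIntegrallyClosed (X.presheaf.stalk y))
    (U : X.Opens) (hU : Dense (U : Set ↥X)) (h : (U : Scheme.{u}) ⟶ Y) (hh : h ≫ pY = U.ι ≫ pX)
    (f : X' ⟶ X) [LocallyOfFiniteType f] [UniversallyOpen f] [IsReduced X'] (x' : ↥X') :
    (∃ (V : X.Opens) (v : (V : Scheme.{u}) ⟶ Y), f x' ∈ V ∧ v ≫ pY = V.ι ≫ pX ∧
        X.homOfLE (inf_le_right : U ⊓ V ≤ V) ≫ v = X.homOfLE (inf_le_left : U ⊓ V ≤ U) ≫ h) ↔
      ∃ (V' : X'.Opens) (v' : (V' : Scheme.{u}) ⟶ Y), x' ∈ V' ∧ v' ≫ pY = V'.ι ≫ f ≫ pX ∧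
        X'.homOfLE (inf_le_right : f ⁻¹ᵁ U ⊓ V' ≤ V') ≫ v' =
          X'.homOfLE (inf_le_left : f ⁻¹ᵁ U ⊓ V' ≤ f ⁻¹ᵁ U) ≫ (f ∣_ U) ≫ h := by
  constructor
  · rintro ⟨V, v, hxV, hv, hvh⟩
    exact forward pX pY U h f x' V v hxV hv hvh
  · rintro ⟨V', v', hx'V', hv', hag⟩
    have hh' : U.ι ≫ pX = h ≫ pY := hh.symm
    have hv'' : (V'.ι ≫ f) ≫ pX = v' ≫ pY := by rw [hv', Category.assoc]
    obtain ⟨a, ha⟩ : ∃ a : ↥(V' : Scheme.{u}), V'.ι a = x' := ⟨⟨x', hx'V'⟩, rfl⟩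
    obtain ⟨z, hzdef⟩ : ∃ z, z = gg pX pY f V' v' hv'' a := ⟨_, rfl⟩
    have hz : pullback.fst pX pY z = f x' := by
      rw [hzdef, ← Scheme.Hom.comp_apply, pullback.lift_fst, Scheme.Hom.comp_apply, ha]
    have hzΓ : z ∈ closure (Set.range (gam pX pY U h hh')) := by
      have hD : Dense ((V'.ι ≫ f) ⁻¹' (U : Set X)) := hU.preimage (V'.ι ≫ f).isOpenMap
      have hcont : Continuous (gg pX pY f V' v' hv'') := (gg pX pY f V' v' hv'').continuous
      rw [hzdef]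
      refine map_mem_closure hcont (hD a) ?_
      intro b hb
      have hb1 : V'.ι b ∈ f ⁻¹ᵁ U := by
        rw [Set.mem_preimage, Scheme.Hom.comp_apply] at hb
        exact hb
      have hb2 : V'.ι b ∈ V' := b.2
      have hres := gg_restrict pX pY U h hh' f V' v' hv'' hag
      have hb3 : V'.ι b ∈ f ⁻¹ᵁ U ⊓ V' := ⟨hb1, hb2⟩
      obtain ⟨b', hb''⟩ : ∃ b' : ↥((f ⁻¹ᵁ U ⊓ V' : X'.Opens) : Scheme.{u}),
          X'.homOfLE (inf_le_right : f ⁻¹ᵁ U ⊓ V' ≤ V') b' = b :=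
        ⟨⟨V'.ι b, hb3⟩, Subtype.ext (Scheme.homOfLE_apply _ _)⟩
      rw [← hb'', ← Scheme.Hom.comp_apply, hres, Scheme.Hom.comp_apply]
      exact ⟨_, rfl⟩
    obtain ⟨V, v, hxV, hv, hvh⟩ := Groth.Agent.S3836.result pX pY hX U hU h hh' (f x') (hXn _) z hz hzΓ
      ⟨⊤, by
        ext w
        simp only [Opens.coe_top, Set.univ_inter, Set.mem_inter_iff, Set.mem_preimage,
          Set.mem_singleton_iff]
        constructor
        · rintro ⟨hw, hwx⟩
          rw [hzdef]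
          exact eq_of_mem_closure pX pY U h hh' f V' v' hv'' hag a w hw (by rw [hwx, ha])
        · rintro rfl
          exact ⟨hzΓ, hz⟩⟩
    exact ⟨V, v, hxV, hv, hvh⟩

end Groth.Agent.S3837
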