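import Groth.Statements.S3842
import Groth.Agent.Lib.Helper20SchDense

set_option autoImplicit false
set_option linter.style.haveILetI false
universe u
open CategoryTheory CategoryTheory.Limits AlgebraicGeometry TopologicalSpace
open Rat20

namespace Groth.Agent.S3842

/-- For the open subset U = X; the general case is the same statement over the open subscheme U: let f :
X' → X be a morphism of schemes with X' reduced, suppose the irreducible components of X form a
locally finite family and that every irreducible component of X' dominates an irreducible component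
of X (the closure of its image is an irreducible component of X). Then for every schematically dense
open subset V of X, the preimage f⁻¹(V) is schematically dense in X'. -/
theorem result {X X' : Scheme.{u}} (f : X' ⟶ X) [IsReduced X']
    (hfin : ∀ x : ↥X, ∃ W : X.Opens, x ∈ W ∧ {Z ∈ irreducibleComponents ↥X | (Z ∩ (W : Set ↥X)).Nonempty}.Finite)
    (hdom : ∀ Z' ∈ irreducibleComponents ↥X', closure (f '' Z') ∈ irreducibleComponents ↥X)
    (V : X.Opens) (hV : CInt.IsSchematicallyDense V) : CInt.IsSchematicallyDense (f ⁻¹ᵁ V) := by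
  have hVd := Groth.Agent.Lib.Helper20.SchDense.dense_of_isSchematicallyDense V hV
  apply Groth.Agent.Lib.Helper20.SchDense.isSchematicallyDense_of_dense_of_isReduced
  -- step (2)
  have hstep2 : ∀ Z ∈ irreducibleComponents ↥X, ∃ O : Set X, IsOpen O ∧ O.Nonempty ∧ O ⊆ Z ∧
      O ⊆ (V : Set X) := by
    intro Z hZ
    obtain ⟨x, hxZ⟩ := hZ.1.nonempty
    obtain ⟨W, hxW, hWfin⟩ := hfin x
    set S := {Z' ∈ irreducibleComponents ↥X | (Z' ∩ (W : Set ↥X)).Nonempty} with hS
    let C : Set X := ⋃ Z' ∈ S \ {Z}, Z'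
    have hC : IsClosed C := by
      apply Set.Finite.isClosed_biUnion (hWfin.subset Set.sdiff_subset)
      intro Z' hZ'
      exact isClosed_of_mem_irreducibleComponents Z' hZ'.1.1
    let O₀ : Set X := (W : Set X) ∩ Cᶜ
    have hO₀ : IsOpen O₀ := W.isOpen.inter hC.isOpen_compl
    have hO₀Z : O₀ ⊆ Z := by
      rintro y ⟨hyW, hyC⟩
      by_contra hyZ
      apply hyC
      have hy1 := irreducibleComponent_mem_irreducibleComponents y
      have hy2 : y ∈ irreducibleComponent y := mem_irreducibleComponent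
      refine Set.mem_biUnion (x := irreducibleComponent y) ⟨⟨hy1, ⟨y, hy2, hyW⟩⟩, ?_⟩ hy2
      intro h
      rw [Set.mem_singleton_iff] at h
      exact hyZ (h ▸ hy2)
    have hnotsub : ¬ Z ⊆ C := by
      intro hZC
      have hfinset := hWfin.subset (Set.sdiff_subset (s := S) (t := {Z}))
      obtain ⟨Z', hZ'mem, hZZ'⟩ := (isIrreducible_iff_sUnion_isClosed.mp hZ.1) hfinset.toFinset
        (fun z hz => isClosed_of_mem_irreducibleComponents z ((hfinset.mem_toFinset.mp hz).1.1))
        (by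
          intro y hy
          obtain ⟨Z'', hZ'', hyZ''⟩ := Set.mem_iUnion₂.mp (hZC hy)
          exact ⟨Z'', by simpa using hZ'', hyZ''⟩)
      have hZ'mem' := hfinset.mem_toFinset.mp hZ'mem
      have h1 : Z' = Z := subset_antisymm (hZ.2 hZ'mem'.1.1.1 hZZ') hZZ'
      exact hZ'mem'.2 (by rw [Set.mem_singleton_iff]; exact h1)
    have hO₀ne : O₀.Nonempty := by
      obtain ⟨z, hzZ, hzC⟩ := Set.not_subset.mp hnotsub
      obtain ⟨y, hyZ, hyW, hyC⟩ := hZ.1.isPreirreducible (W : Set X) Cᶜ W.isOpen hC.isOpen_compl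
        ⟨x, hxZ, hxW⟩ ⟨z, hzZ, hzC⟩
      exact ⟨y, hyW, hyC⟩
    obtain ⟨y, hyO, hyV⟩ := hVd.inter_open_nonempty O₀ hO₀ hO₀ne
    exact ⟨O₀ ∩ (V : Set X), hO₀.inter V.isOpen, ⟨y, hyO, hyV⟩,
      Set.inter_subset_left.trans hO₀Z, Set.inter_subset_right⟩
  -- step (3): every irreducible component of `X'` meets `f⁻¹ V`
  have hstep3 : ∀ Z' ∈ irreducibleComponents ↥X', (Z' ∩ ((f ⁻¹ᵁ V : X'.Opens) : Set X')).Nonempty := by
    intro Z' hZ'
    obtain ⟨O, hO, hOne, hOZ, hOV⟩ := hstep2 _ (hdom Z' hZ')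
    obtain ⟨y, hyO⟩ := hOne
    have hy : y ∈ closure (f '' Z') := hOZ hyO
    obtain ⟨_, hyO', z', hz', rfl⟩ := mem_closure_iff.mp hy O hO hyO
    exact ⟨z', hz', hOV hyO'⟩
  -- step (4): density
  rw [dense_iff_inter_open]
  intro W' hW'o hW'ne
  obtain ⟨x', hx'⟩ := hW'ne
  have hc := irreducibleComponent_mem_irreducibleComponents x'
  obtain ⟨z', hz'Z, hz'V⟩ := hstep3 _ hc
  obtain ⟨y, -, hyW', hyV⟩ := hc.1.isPreirreducible W' ((f ⁻¹ᵁ V : X'.Opens) : Set X') hW'o
    (f ⁻¹ᵁ V).isOpen ⟨x', mem_irreducibleComponent, hx'⟩ ⟨z', hz'Z, hz'V⟩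
  exact ⟨y, hyW', hyV⟩

end Groth.Agent.S3842
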