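import Groth.Statements.S3845
-- import your own Groth.Agent.* helpers here

set_option autoImplicit false
universe u
open CategoryTheory CategoryTheory.Limits AlgebraicGeometry TopologicalSpace
open Unram17

namespace Groth.Agent.S3845

/-- a) iff b): let f : X → Y be locally of finite presentation and x a point of X. Then f is unramified
on some open neighbourhood of x if and only if the diagonal X → X ×_Y X is a local isomorphism at x
(its restriction to some open neighbourhood of x is an open immersion). -/
theorem result {X Y : Scheme.{u}} (f : X ⟶ Y)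
    [LocallyOfFinitePresentation f] (x : ↥X) :
    (∃ U : X.Opens, x ∈ U ∧ FormallyUnramified (U.ι ≫ f)) ↔
      SchLoc.IsLocalIsoAt (pullback.diagonal f) x := by
  have key : ∀ U : X.Opens, pullback.diagonal (U.ι ≫ f) ≫
      pullback.map (U.ι ≫ f) (U.ι ≫ f) f f U.ι U.ι (𝟙 Y) (by simp) (by simp) =
        U.ι ≫ pullback.diagonal f := by
    intro U
    have e1 : pullback.map (U.ι ≫ f) (U.ι ≫ f) f f U.ι U.ι (𝟙 Y) (by simp) (by simp) ≫
        pullback.fst f f = pullback.fst _ _ ≫ U.ι := pullback.lift_fst _ _ _
    have e2 : pullback.map (U.ι ≫ f) (U.ι ≫ f) f f U.ι U.ι (𝟙 Y) (by simp) (by simp) ≫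
        pullback.snd f f = pullback.snd _ _ ≫ U.ι := pullback.lift_snd _ _ _
    apply pullback.hom_ext
    · simp only [Category.assoc, e1, pullback.diagonal_fst, pullback.diagonal_fst_assoc,
        Category.comp_id]
    · simp only [Category.assoc, e2, pullback.diagonal_snd, pullback.diagonal_snd_assoc,
        Category.comp_id]
  constructor
  · rintro ⟨U, hxU, hU⟩
    refine ⟨U, hxU, ?_⟩
    have : LocallyOfFiniteType (U.ι ≫ f) := inferInstance
    rw [← key U]
    infer_instance
  · rintro ⟨U, hxU, hU⟩
    refine ⟨U, hxU, ?_⟩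
    have h1 : IsOpenImmersion (pullback.diagonal (U.ι ≫ f) ≫
        pullback.map (U.ι ≫ f) (U.ι ≫ f) f f U.ι U.ι (𝟙 Y) (by simp) (by simp)) := by
      rw [key U]
      exact hU
    have : IsOpenImmersion (pullback.diagonal (U.ι ≫ f)) :=
      IsOpenImmersion.of_comp _
        (pullback.map (U.ι ≫ f) (U.ι ≫ f) f f U.ι U.ι (𝟙 Y) _ _)
    infer_instance

end Groth.Agent.S3845
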