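import Groth.Statements.S3846
-- import your own Groth.Agent.* helpers here
import Mathlib
import Groth.Agent.S3845

set_option autoImplicit false
universe u
open CategoryTheory CategoryTheory.Limits AlgebraicGeometry TopologicalSpace
open Unram17

namespace Groth.Agent.S3846

set_option backward.isDefEq.respectTransparency.types false in
instance hasOfPostcomp_openImm : MorphismProperty.HasOfPostcompProperty
    @IsOpenImmersion (@LocallyOfFiniteType ⊓ @FormallyUnramified) := by
  rw [MorphismProperty.hasOfPostcompProperty_iff_le_diagonal]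
  intro X Y f ⟨hft, hfu⟩
  exact inferInstanceAs <| IsOpenImmersion (pullback.diagonal f)

/-- If `s ≫ q` is an open immersion and `q` is unramified (lft), then `s` is an open immersion. -/
lemma isOpenImmersion_of_comp_unramified {A B C : Scheme.{u}} (s : A ⟶ B) (q : B ⟶ C)
    [IsOpenImmersion (s ≫ q)] [LocallyOfFiniteType q] [FormallyUnramified q] : IsOpenImmersion s :=
  MorphismProperty.of_postcomp _ (W' := @LocallyOfFiniteType ⊓ @FormallyUnramified) s q ⟨‹_›, ‹_›⟩ ‹_›

/-- a) iff b''): let f : X → Y be locally of finite presentation and x a point of X. Then f is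
unramified on some open neighbourhood of x if and only if, for every base change g : Y' → Y and
every section s' of X ×_Y Y' → Y', s' is a local isomorphism at every point y' of Y' such that
s'(y') lies over x. -/
theorem result {X Y : Scheme.{u}} (f : X ⟶ Y) [LocallyOfFinitePresentation f]
    (x : ↥X) :
    (∃ U : X.Opens, x ∈ U ∧ FormallyUnramified (U.ι ≫ f)) ↔
      ∀ (Y' : Scheme.{u}) (g : Y' ⟶ Y) (s' : Y' ⟶ pullback f g), s' ≫ pullback.snd f g = 𝟙 Y' →
        ∀ y' : ↥Y', pullback.fst f g (s' y') = x → SchLoc.IsLocalIsoAt s' y' := by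
  constructor
  · rintro ⟨U, hxU, hU⟩ Y' g s' hs' y' hy'
    -- the open O = fst⁻¹ U of the pullback
    have hpb : IsPullback ((pullback.fst f g) ∣_ U) (((pullback.fst f g) ⁻¹ᵁ U).ι ≫ pullback.snd f g)
        (U.ι ≫ f) g :=
      (isPullback_morphismRestrict (pullback.fst f g) U).paste_vert (IsPullback.of_hasPullback f g)
    have : FormallyUnramified (((pullback.fst f g) ⁻¹ᵁ U).ι ≫ pullback.snd f g) :=
      MorphismProperty.of_isPullback (P := @FormallyUnramified) hpb hU
    have : LocallyOfFiniteType (((pullback.fst f g) ⁻¹ᵁ U).ι ≫ pullback.snd f g) :=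
      MorphismProperty.of_isPullback (P := @LocallyOfFiniteType) hpb inferInstance
    refine ⟨s' ⁻¹ᵁ ((pullback.fst f g) ⁻¹ᵁ U), ?_, ?_⟩
    · show pullback.fst f g (s' y') ∈ U
      rw [hy']; exact hxU
    · have h1 : (s' ∣_ ((pullback.fst f g) ⁻¹ᵁ U)) ≫
          (((pullback.fst f g) ⁻¹ᵁ U).ι ≫ pullback.snd f g) =
          (s' ⁻¹ᵁ ((pullback.fst f g) ⁻¹ᵁ U)).ι := by
        rw [← Category.assoc, morphismRestrict_ι, Category.assoc, hs', Category.comp_id]
      have : IsOpenImmersion ((s' ∣_ ((pullback.fst f g) ⁻¹ᵁ U)) ≫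
          (((pullback.fst f g) ⁻¹ᵁ U).ι ≫ pullback.snd f g)) := by
        rw [h1]; infer_instance
      have : IsOpenImmersion (s' ∣_ ((pullback.fst f g) ⁻¹ᵁ U)) :=
        isOpenImmersion_of_comp_unramified _ (((pullback.fst f g) ⁻¹ᵁ U).ι ≫ pullback.snd f g)
      rw [← morphismRestrict_ι]
      infer_instance
  · intro H
    rw [Groth.Agent.S3845.result f x]
    exact H X f (pullback.diagonal f) (pullback.diagonal_snd f) x (by
      rw [← Scheme.Hom.comp_apply, pullback.diagonal_fst]; rfl)

end Groth.Agent.S3846
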