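import Groth.Statements.S3847
import Groth.Agent.Lib.Helper19CKFibre

set_option autoImplicit false
universe u
open EGA418

namespace Groth.Agent.S3847

/-- Let k be a field, A a complete Noetherian local k-algebra whose residue field is a finite extension
of k, p a prime ideal of A and q a minimal prime ideal of A contained in p. Let Ω̂ be the completion
of the module of differentials of A over k for the topology of the maximal ideal. Then the minimal
number of generators of the A_p-module Ω̂_p (the rank of its fibre at p) is at least dim(A/q). -/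
theorem result (k A : Type u) [Field k] [CommRing A]
    [IsLocalRing A] [IsNoetherianRing A] [Algebra k A]
    [IsAdicComplete (IsLocalRing.maximalIdeal A) A]
    [Module.Finite k (IsLocalRing.ResidueField A)]
    (p q : Ideal A) [p.IsPrime] (hq : q ∈ minimalPrimes A) (hqp : q ≤ p) :
    ringKrullDim (A ⧸ q) ≤
      (Cardinal.toENat (Module.rank p.ResidueField
        (TensorProduct A p.ResidueField
          (AdicCompletion (IsLocalRing.maximalIdeal A) (KaehlerDifferential k A)))) : WithBot ℕ∞) := by
  haveI hqp' : q.IsPrime := hq.1.1
  haveI : IsLocalRing (A ⧸ q) :=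
    IsLocalRing.of_surjective' (Ideal.Quotient.mk q) Ideal.Quotient.mk_surjective
  obtain ⟨n, hn⟩ := Groth.Agent.Lib.Helper5.exists_nat_ringKrullDim_eq (A ⧸ q)
  haveI : Algebra.EssFiniteType k (IsLocalRing.ResidueField A) := inferInstance
  haveI : Module.Finite A (AdicCompletion (IsLocalRing.maximalIdeal A) (Ω[A⁄k])) :=
    Groth.Agent.Lib.Helper7.ComplKaehler.finite_adicCompletion_kaehler
  have h1 := Groth.Agent.Lib.Helper19.CKFibre.le_finrank_fibre (k := k) q n hn
  have h2 := Groth.Agent.Lib.Helper19.SmVar.finrank_fibre_le_of_le A
    (AdicCompletion (IsLocalRing.maximalIdeal A) (Ω[A⁄k])) q p hqp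
  rw [hn]
  have h3 : (n : ℕ∞) ≤ Cardinal.toENat (Module.rank p.ResidueField
      (TensorProduct A p.ResidueField
        (AdicCompletion (IsLocalRing.maximalIdeal A) (KaehlerDifferential k A)))) := by
    rw [← Module.finrank_eq_rank, Cardinal.toENat_nat]
    exact_mod_cast h1.trans h2
  exact_mod_cast h3

end Groth.Agent.S3847
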