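import Groth.Statements.S3848
import Groth.Agent.Lib.Helper4RatExt3
import Mathlib

set_option autoImplicit false
set_option linter.style.haveILetI false
universe u
open CategoryTheory CategoryTheory.Limits AlgebraicGeometry TopologicalSpace
open Rat20

namespace Groth.Agent.S3848

/-- In the case S = X (valuative criterion for a rational map to be defined at a point): let X be a
locally Noetherian scheme, q : Y → X a morphism locally of finite type, U a dense open subset of X,
h : U → Y a section of q over U, x a point of X outside U whose local ring is an integrally closed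
domain, and y₀ a point of Y over x with trivial residue field extension (an X-morphism Spec k(x) →
Y). Then h extends to a section h' of q over an open subset U' containing U and x with h'(x) = y₀ if
and only if: for every discrete valuation ring R and every morphism u : Spec R → X sending the
closed point to x and the generic point into U, there is a morphism h₁ : Spec R → Y over X sending
the closed point to y₀ and agreeing with h at the generic point. -/
theorem result {X Y : Scheme.{u}} [IsLocallyNoetherian X] (q : Y ⟶ X)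
    [LocallyOfFiniteType q] (U : X.Opens) (hU : Dense (U : Set ↥X)) (h : (U : Scheme.{u}) ⟶ Y)
    (hh : h ≫ q = U.ι) (x : ↥X) (hxU : x ∉ U) [IsDomain ↑(X.presheaf.stalk x)]
    (hx : IsIntegrallyClosed ↑(X.presheaf.stalk x)) (y₀ : ↥Y) (hy₀ : q y₀ = x)
    (hk : Function.Bijective (q.residueFieldMap y₀)) :
    (∃ (U' : X.Opens) (hUU' : U ≤ U') (hxU' : x ∈ U') (h' : (U' : Scheme.{u}) ⟶ Y),
        h' ≫ q = U'.ι ∧ X.homOfLE hUU' ≫ h' = h ∧ h' ⟨x, hxU'⟩ = y₀) ↔
      ∀ (R : Type u) [CommRing R] [IsDomain R] [IsDiscreteValuationRing R]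
        (u : Spec (CommRingCat.of R) ⟶ X), u (IsLocalRing.closedPoint R) = x →
        ∀ ub : Spec (CommRingCat.of (FractionRing R)) ⟶ (U : Scheme.{u}),
          ub ≫ U.ι = Spec.map (CommRingCat.ofHom (algebraMap R (FractionRing R))) ≫ u →
          ∃ h₁ : Spec (CommRingCat.of R) ⟶ Y, h₁ ≫ q = u ∧ h₁ (IsLocalRing.closedPoint R) = y₀ ∧
            Spec.map (CommRingCat.ofHom (algebraMap R (FractionRing R))) ≫ h₁ = ub ≫ h := by
  classical
  subst hy₀
  have hxcl : q y₀ ∈ closure (U : Set X) := by rw [hU.closure_eq]; exact Set.mem_univ _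
  have hξU := Groth.Agent.Lib.Helper4.RatExt.genericHom_mem (q y₀) U hxcl
  have hξx := Groth.Agent.Lib.Helper4.RatExt.genericHom_specializes (q y₀) (q y₀) specializes_rfl
  constructor
  · rintro ⟨U', hUU', hxU', h', hq', hres, hy⟩
    intro R _ _ _ u hux ub hub
    have hrange : Set.range u ⊆ Set.range U'.ι :=
      Groth.Agent.Lib.Helper4.RatExt.range_subset_of_closedPoint_mem u U' (by rw [hux]; exact hxU')
    refine ⟨IsOpenImmersion.lift U'.ι u hrange ≫ h', ?_, ?_, ?_⟩
    · rw [Category.assoc, hq', IsOpenImmersion.lift_fac]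
    · have h1 : IsOpenImmersion.lift U'.ι u hrange (IsLocalRing.closedPoint R) = ⟨q y₀, hxU'⟩ := by
        apply U'.ι.isOpenEmbedding.injective
        change (IsOpenImmersion.lift U'.ι u hrange ≫ U'.ι) _ = _
        rw [IsOpenImmersion.lift_fac, hux]
        rfl
      change h' (IsOpenImmersion.lift U'.ι u hrange (IsLocalRing.closedPoint R)) = y₀
      rw [h1, hy]
    · rw [← hres, ← Category.assoc, ← Category.assoc]
      congr 1
      rw [← cancel_mono U'.ι, Category.assoc, Category.assoc, IsOpenImmersion.lift_fac,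
        Scheme.homOfLE_ι, hub]
  · intro H
    haveI := hx
    -- the generic point in `U`
    let jU : Spec (CommRingCat.of (FractionRing (X.presheaf.stalk (q y₀)))) ⟶ U.toScheme :=
      IsOpenImmersion.lift U.ι (Groth.Agent.Lib.Helper4.RatExt.genericHom X (q y₀))
        (Groth.Agent.Lib.Helper4.RatExt.range_genericHom_subset (q y₀) U hξU)
    have hjU : jU ≫ U.ι = Groth.Agent.Lib.Helper4.RatExt.genericHom X (q y₀) :=
      IsOpenImmersion.lift_fac _ _ _
    have ht : (jU ≫ h) ≫ q = Groth.Agent.Lib.Helper4.RatExt.genericHom X (q y₀) := by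
      rw [Category.assoc, hh, hjU]
    have hnf : ¬ IsField (X.presheaf.stalk (q y₀)) := by
      intro hF
      rw [Groth.Agent.Lib.Helper4.RatExt.genericHom_eq_of_isField (q y₀) hF] at hξU
      exact hxU hξU
    -- the criterion for dominating valuation subrings
    have H' : ∀ (V : ValuationSubring (FractionRing (X.presheaf.stalk (q y₀)))),
        IsDiscreteValuationRing V →
        (∀ a, algebraMap (X.presheaf.stalk (q y₀)) (FractionRing (X.presheaf.stalk (q y₀))) a ∈ V) →
        (∀ a ∈ IsLocalRing.maximalIdeal (X.presheaf.stalk (q y₀)),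
          algebraMap (X.presheaf.stalk (q y₀)) (FractionRing (X.presheaf.stalk (q y₀))) a ∈
            V.nonunits) →
        ∃ h₁ : Spec (CommRingCat.of V) ⟶ Y,
          h₁ (IsLocalRing.closedPoint V) = y₀ ∧
            Spec.map (CommRingCat.ofHom V.subtype) ≫ h₁ = jU ≫ h := by
      intro V hV hAV hmV
      haveI := hV
      let ιV : X.presheaf.stalk (q y₀) ⟶ CommRingCat.of V :=
        CommRingCat.ofHom ((algebraMap (X.presheaf.stalk (q y₀))
          (FractionRing (X.presheaf.stalk (q y₀)))).codRestrict V.toSubring hAV)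
      haveI : IsLocalHom ιV.hom :=
        Groth.Agent.Lib.Helper4.RatExt.isLocalHom_codRestrict V hAV hmV
      have hux : (Spec.map ιV ≫ X.fromSpecStalk (q y₀)) (IsLocalRing.closedPoint V) = q y₀ := by
        have h4 : Spec.map ιV (IsLocalRing.closedPoint V) =
            IsLocalRing.closedPoint (X.presheaf.stalk (q y₀)) :=
          IsLocalRing.comap_closedPoint ιV.hom
        change X.fromSpecStalk (q y₀) (Spec.map ιV (IsLocalRing.closedPoint V)) = q y₀
        rw [h4]
        exact Scheme.fromSpecStalk_closedPoint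
      obtain ⟨a, b, hab, hba, ha, hb⟩ := Groth.Agent.Lib.Helper4.DVREx.dvr_bridge V
      have hιV : ιV ≫ CommRingCat.ofHom V.subtype =
          CommRingCat.ofHom (algebraMap (X.presheaf.stalk (q y₀))
            (FractionRing (X.presheaf.stalk (q y₀)))) := by
        ext c
        rfl
      have hub : (Spec.map a ≫ jU) ≫ U.ι =
          Spec.map (CommRingCat.ofHom (algebraMap V (FractionRing V))) ≫
            (Spec.map ιV ≫ X.fromSpecStalk (q y₀)) := by
        rw [Category.assoc, hjU, ← ha]
        unfold Groth.Agent.Lib.Helper4.RatExt.genericHom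
        rw [← Category.assoc, ← Spec.map_comp, ← Category.assoc, ← Spec.map_comp, ← hιV,
          Category.assoc]
      obtain ⟨h₁, -, hh₁y, hh₁gen⟩ := H V (Spec.map ιV ≫ X.fromSpecStalk (q y₀)) hux
        (Spec.map a ≫ jU) hub
      refine ⟨h₁, hh₁y, ?_⟩
      rw [← hb, Spec.map_comp, Category.assoc, hh₁gen, ← Category.assoc, ← Category.assoc,
        ← Spec.map_comp, hab, Spec.map_id, Category.id_comp]
    obtain ⟨l, hl1, hl2, hl3⟩ :=
      Groth.Agent.Lib.Helper4.RatExt.exists_stalk_lift_of_forall_dvr q y₀ hnf (jU ≫ h) ht H'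
    -- an affine neighbourhood of `y₀` and the neighbourhood `N`
    obtain ⟨_, ⟨Vy, hVy, rfl⟩, hyV, -⟩ := Y.isBasis_affineOpens.exists_subset_of_mem_open
      (Set.mem_univ y₀) isOpen_univ
    obtain ⟨N, hxN, hN⟩ := Groth.Agent.Lib.Helper4.RatExt.exists_nhd_maps_into U h Vy (q y₀) (by
      intro z hz
      have hne : U.ι z ≠ q y₀ := by
        intro he
        apply hxU
        rw [← he]
        exact z.2
      obtain ⟨R, iR, iD, iV, u, ub, hux, hub, hzz⟩ :=
        Groth.Agent.Lib.Helper4.RatExt.exists_dvr_through U z.2 hz hne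
      obtain ⟨h₁, -, hh₁y, hh₁gen⟩ := H R u hux ub hub
      have hr := Groth.Agent.Lib.Helper4.RatExt.range_subset_of_closedPoint_mem h₁ Vy
        (by rw [hh₁y]; exact hyV)
      have h1 : ub (IsLocalRing.closedPoint (FractionRing R)) = z :=
        U.ι.isOpenEmbedding.injective hzz
      have h2 : h z ∈ Set.range (Scheme.Opens.ι Vy) := by
        rw [← h1]
        change (ub ≫ h) _ ∈ _
        rw [← hh₁gen]
        exact hr ⟨_, rfl⟩
      rw [Scheme.Opens.range_ι] at h2
      exact h2)
    obtain ⟨U', hUU', hxU', f', hf'1, hf'2, hf'3⟩ :=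
      Groth.Agent.Lib.Helper4.RatExt.exists_extension_of_stalk_lift' (𝟙 X) q (q y₀) U h
        (by rw [hh, Category.comp_id]) jU hjU l (by rw [hl1, Category.comp_id]) hl2 Vy hVy
        (by rw [hl3]; exact hyV) N hxN hN
    refine ⟨U', hUU', hxU', f', by rw [hf'1, Category.comp_id], hf'2, ?_⟩
    have h1 : U'.fromSpecStalkOfMem (q y₀) hxU'
        (IsLocalRing.closedPoint (X.presheaf.stalk (q y₀))) = ⟨q y₀, hxU'⟩ := by
      apply U'.ι.isOpenEmbedding.injective
      change (U'.fromSpecStalkOfMem (q y₀) hxU' ≫ U'.ι) _ = _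
      rw [Scheme.Opens.fromSpecStalkOfMem_ι]
      exact Scheme.fromSpecStalk_closedPoint
    rw [← h1]
    change (U'.fromSpecStalkOfMem (q y₀) hxU' ≫ f') _ = y₀
    rw [hf'3, hl3]

end Groth.Agent.S3848
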