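import Groth.Statements.S3849
import Groth.Agent.Lib.Helper4RatExt2
import Mathlib

set_option autoImplicit false
set_option linter.style.haveILetI false
universe u
open CategoryTheory CategoryTheory.Limits AlgebraicGeometry TopologicalSpace
open Rat20

namespace Groth.Agent.S3849

/-- In the case S = X (sections of q : Y → X): let X be a locally Noetherian scheme, q : Y → X
separated, locally of finite type and locally quasi-finite, U a dense open subset of X, h : U → Y a
section of q over U, and x a point of X outside U whose local ring is an integrally closed domain.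
Then h extends to a section of q over an open subset containing U and x if and only if there exist a
discrete valuation ring R, a morphism u : Spec R → X sending the closed point to x and the generic
point into U, and a morphism Spec R → Y over X agreeing with h at the generic point. -/
theorem result {X Y : Scheme.{u}} [IsLocallyNoetherian X] (q : Y ⟶ X)
    [LocallyOfFiniteType q] [IsSeparated q] [LocallyQuasiFinite q] (U : X.Opens) (hU : Dense (U : Set ↥X))
    (h : (U : Scheme.{u}) ⟶ Y) (hh : h ≫ q = U.ι) (x : ↥X) (hxU : x ∉ U) [IsDomain ↑(X.presheaf.stalk x)]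
    (hx : IsIntegrallyClosed ↑(X.presheaf.stalk x)) :
    (∃ (U' : X.Opens) (hUU' : U ≤ U') (h' : (U' : Scheme.{u}) ⟶ Y),
        x ∈ U' ∧ h' ≫ q = U'.ι ∧ X.homOfLE hUU' ≫ h' = h) ↔
      ∃ (R : Type u) (_ : CommRing R) (_ : IsDomain R) (_ : IsDiscreteValuationRing R)
        (u : Spec (CommRingCat.of R) ⟶ X) (ub : Spec (CommRingCat.of (FractionRing R)) ⟶ (U : Scheme.{u}))
        (h₁ : Spec (CommRingCat.of R) ⟶ Y),
        u (IsLocalRing.closedPoint R) = x ∧
          ub ≫ U.ι = Spec.map (CommRingCat.ofHom (algebraMap R (FractionRing R))) ≫ u ∧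
          h₁ ≫ q = u ∧ Spec.map (CommRingCat.ofHom (algebraMap R (FractionRing R))) ≫ h₁ = ub ≫ h := by
  classical
  have hxcl : x ∈ closure (U : Set X) := by rw [hU.closure_eq]; exact Set.mem_univ x
  have hξU := Groth.Agent.Lib.Helper4.RatExt.genericHom_mem x U hxcl
  have hξx := Groth.Agent.Lib.Helper4.RatExt.genericHom_specializes x x specializes_rfl
  constructor
  · rintro ⟨U', hUU', h', hxU', hq', hres⟩
    have hne : Groth.Agent.Lib.Helper4.RatExt.genericHom X x
        (IsLocalRing.closedPoint (FractionRing (X.presheaf.stalk x))) ≠ x := by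
      intro he
      rw [he] at hξU
      exact hxU hξU
    obtain ⟨R, iR, iD, iV, u, ub, hux, hub, -⟩ :=
      Groth.Agent.Lib.Helper4.RatExt.exists_dvr_through U hξU hξx hne
    have hrange : Set.range u ⊆ Set.range U'.ι :=
      Groth.Agent.Lib.Helper4.RatExt.range_subset_of_closedPoint_mem u U' (by rw [hux]; exact hxU')
    refine ⟨R, iR, iD, iV, u, ub, IsOpenImmersion.lift U'.ι u hrange ≫ h', hux, hub, ?_, ?_⟩
    · rw [Category.assoc, hq', IsOpenImmersion.lift_fac]
    · rw [← hres, ← Category.assoc, ← Category.assoc]
      congr 1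
      rw [← cancel_mono U'.ι, Category.assoc, Category.assoc, IsOpenImmersion.lift_fac,
        Scheme.homOfLE_ι, hub]
  · rintro ⟨R, iR, iD, iV, u, ub, h₁, hux, hub, hh₁, hgen⟩
    -- the point `y₁`
    have hqy : q (h₁ (IsLocalRing.closedPoint R)) = x := by
      change (h₁ ≫ q) _ = x
      rw [hh₁, hux]
    subst hqy
    set y₁ := h₁ (IsLocalRing.closedPoint R) with hy₁
    -- the generic point in `U`
    let jU : Spec (CommRingCat.of (FractionRing (X.presheaf.stalk (q y₁)))) ⟶ U.toScheme :=
      IsOpenImmersion.lift U.ι (Groth.Agent.Lib.Helper4.RatExt.genericHom X (q y₁))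
        (Groth.Agent.Lib.Helper4.RatExt.range_genericHom_subset (q y₁) U hξU)
    have hjU : jU ≫ U.ι = Groth.Agent.Lib.Helper4.RatExt.genericHom X (q y₁) :=
      IsOpenImmersion.lift_fac _ _ _
    have ht : (jU ≫ h) ≫ q = Groth.Agent.Lib.Helper4.RatExt.genericHom X (q y₁) := by
      rw [Category.assoc, hh, hjU]
    -- specialization
    have hsp : (jU ≫ h) (IsLocalRing.closedPoint (FractionRing (X.presheaf.stalk (q y₁)))) ⤳ y₁ := by
      have h1 : jU (IsLocalRing.closedPoint (FractionRing (X.presheaf.stalk (q y₁)))) ⤳
          ub (IsLocalRing.closedPoint (FractionRing R)) := by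
        rw [← U.ι.isOpenEmbedding.isInducing.specializes_iff]
        have e1 : U.ι (jU (IsLocalRing.closedPoint (FractionRing (X.presheaf.stalk (q y₁))))) =
            Groth.Agent.Lib.Helper4.RatExt.genericHom X (q y₁)
              (IsLocalRing.closedPoint (FractionRing (X.presheaf.stalk (q y₁)))) := by
          rw [← hjU]; rfl
        have e2 : U.ι (ub (IsLocalRing.closedPoint (FractionRing R))) =
            u (Spec.map (CommRingCat.ofHom (algebraMap R (FractionRing R)))
              (IsLocalRing.closedPoint (FractionRing R))) := by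
          change (ub ≫ U.ι) _ = _
          rw [hub]; rfl
        rw [e1, e2]
        apply Groth.Agent.Lib.Helper4.RatExt.genericHom_specializes
        have := Groth.Agent.Lib.Helper4.RatExt.specializes_closedPoint_image u
          (Spec.map (CommRingCat.ofHom (algebraMap R (FractionRing R)))
            (IsLocalRing.closedPoint (FractionRing R)))
        rw [hux] at this
        exact this
      have h2 : h (ub (IsLocalRing.closedPoint (FractionRing R))) ⤳ y₁ := by
        have e3 : h (ub (IsLocalRing.closedPoint (FractionRing R))) =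
            h₁ (Spec.map (CommRingCat.ofHom (algebraMap R (FractionRing R)))
              (IsLocalRing.closedPoint (FractionRing R))) := by
          change (ub ≫ h) _ = _
          rw [← hgen]; rfl
        rw [e3]
        exact Groth.Agent.Lib.Helper4.RatExt.specializes_closedPoint_image h₁ _
      exact (h1.map h.continuous).trans h2
    haveI := hx
    obtain ⟨l, hl1, hl2⟩ := Groth.Agent.Lib.Helper4.RatExt.exists_stalk_lift q y₁
      (q.quasiFiniteAt y₁) (jU ≫ h) ht hsp
    obtain ⟨U', hUU', hxU', f', hf'1, hf'2, -⟩ :=
      Groth.Agent.Lib.Helper4.RatExt.exists_extension_of_stalk_lift (𝟙 X) q (q y₁) U h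
        (by rw [hh, Category.comp_id]) jU hjU l (by rw [hl1, Category.comp_id]) hl2
    exact ⟨U', hUU', f', hxU', by rw [hf'1, Category.comp_id], hf'2⟩

end Groth.Agent.S3849
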