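import Groth.Statements.S3850
import Groth.Agent.Lib.Helper19CKMain

set_option autoImplicit false
universe u
open EGA418

namespace Groth.Agent.S3850

/-- b) iff c), in the case n = dim A: let k be a field, A a complete Noetherian local k-algebra whose
residue field is finite over k, of dimension n, p a non-maximal prime ideal of A contained in an
irreducible component of dimension n (there is a minimal prime q ⊆ p with dim A/q = n), and Ω̂ the
completion of the module of differentials of A over k for the topology of the maximal ideal. Then
Ω̂_p is a free A_p-module of rank n if and only if there is a local k-algebra map u : k[[T_1, …,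
T_n]] → A making A a finite algebra over the power series ring and étale over it at p. -/
theorem result (k A : Type u) [Field k] [CommRing A]
    [IsLocalRing A] [IsNoetherianRing A] [Algebra k A] [IsAdicComplete (IsLocalRing.maximalIdeal A) A]
    [Module.Finite k (IsLocalRing.ResidueField A)] (n : ℕ) (hn : ringKrullDim A = n)
    (p : Ideal A) [p.IsPrime] (hp : p ≠ IsLocalRing.maximalIdeal A)
    (hq : ∃ q ∈ minimalPrimes A, q ≤ p ∧ ringKrullDim (A ⧸ q) = n) :
    (Module.Free (Localization.AtPrime p)
        (LocalizedModule p.primeCompl (AdicCompletion (IsLocalRing.maximalIdeal A) (KaehlerDifferential k A))) ∧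
      Module.finrank (Localization.AtPrime p)
        (LocalizedModule p.primeCompl (AdicCompletion (IsLocalRing.maximalIdeal A) (KaehlerDifferential k A))) = n) ↔
      ∃ (_ : Algebra (MvPowerSeries (Fin n) k) A) (_ : IsScalarTower k (MvPowerSeries (Fin n) k) A),
        IsLocalHom (algebraMap (MvPowerSeries (Fin n) k) A) ∧ Module.Finite (MvPowerSeries (Fin n) k) A ∧
          Algebra.IsEtaleAt (MvPowerSeries (Fin n) k) p := by
  have hq' : ∃ q ∈ minimalPrimes A, q ≤ p ∧ ringKrullDim (A ⧸ q) = ringKrullDim A := by
    obtain ⟨q, h1, h2, h3⟩ := hq
    exact ⟨q, h1, h2, by rw [h3, hn]⟩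
  obtain ⟨q, hqmin, hqp, hqdim⟩ := hq
  constructor
  · rintro ⟨hfree, hrank⟩
    haveI := hfree
    haveI : Algebra.EssFiniteType k (IsLocalRing.ResidueField A) := inferInstance
    haveI : Module.Finite A (AdicCompletion (IsLocalRing.maximalIdeal A) (KaehlerDifferential k A)) :=
      Groth.Agent.Lib.Helper7.ComplKaehler.finite_adicCompletion_kaehler
    haveI : Module.Finite (Localization.AtPrime p) (LocalizedModule p.primeCompl
        (AdicCompletion (IsLocalRing.maximalIdeal A) (KaehlerDifferential k A))) := inferInstance
    have hgen : ∃ s : Fin n → (LocalizedModule p.primeCompl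
        (AdicCompletion (IsLocalRing.maximalIdeal A) (KaehlerDifferential k A))),
        Submodule.span (Localization.AtPrime p) (Set.range s) = ⊤ :=
      ⟨Module.finBasisOfFinrankEq _ _ hrank, (Module.finBasisOfFinrankEq _ _ hrank).span_eq⟩
    obtain ⟨alg, tower, hloc, hfin, hunr⟩ :=
      Groth.Agent.Lib.Helper19.CKUnram.exists_algebra_of_span k p hp hq' n hgen
    letI := alg
    haveI := tower
    haveI := hloc
    haveI := hfin
    haveI := hunr
    exact ⟨alg, tower, hloc, hfin,
      (Groth.Agent.Lib.Helper19.CKMain.etaleAt_and_free k n p q hqmin hqp hqdim).1⟩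
  · rintro ⟨alg, tower, hloc, hfin, het⟩
    letI := alg
    haveI := tower
    haveI := hloc
    haveI := hfin
    haveI : Algebra.FormallyEtale (MvPowerSeries (Fin n) k) (Localization.AtPrime p) := het
    haveI : Algebra.IsUnramifiedAt (MvPowerSeries (Fin n) k) p :=
      (inferInstance : Algebra.FormallyUnramified (MvPowerSeries (Fin n) k) (Localization.AtPrime p))
    exact (Groth.Agent.Lib.Helper19.CKMain.etaleAt_and_free k n p q hqmin hqp hqdim).2.2

end Groth.Agent.S3850
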