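import Groth.Statements.S3852
-- import your own Groth.Agent.* helpers here
import Mathlib.Tactic

set_option autoImplicit false
universe u
open FCompl

namespace Groth.Agent.S3852

open AlgebraicGeometry in
/-- Second assertion; stated for quasi-coherent ideal sheaves, with the condition on supports as an
inclusion, which is what the proof uses: Let X be a Noetherian scheme and I, J ideal sheaves such
that the zero locus of J is contained in the zero locus of I. Then I^n ≤ J for some n ≥ 1. -/
theorem result
    (X : Scheme.{u}) [IsNoetherian X] (I J : X.IdealSheafData)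
    (h : (J.support : Set X) ⊆ I.support) :
    ∃ n : ℕ, I ^ (n + 1) ≤ J := by
  classical
  have hrad : I ≤ J.radical := by
    rw [← Scheme.IdealSheafData.vanishingIdeal_support,
      ← Scheme.IdealSheafData.le_support_iff_le_vanishingIdeal]
    exact h
  obtain ⟨s, hs, hcov⟩ := isCompact_iff_finite_and_eq_biUnion_affineOpens.mp
    (show IsCompact ((⊤ : X.Opens) : Set X) from isCompact_univ)
  have hex : ∀ U : X.affineOpens, ∃ k : ℕ, I.ideal U ^ k ≤ J.ideal U := by
    intro U
    haveI : IsNoetherianRing Γ(X, U) := IsLocallyNoetherian.component_noetherian U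
    exact Ideal.exists_pow_le_of_le_radical_of_fg (hrad U) (IsNoetherian.noetherian _)
  choose k hk using hex
  haveI : Fintype s := hs.fintype
  let n := Finset.univ.sup (fun U : s => k U.1)
  refine ⟨n, ?_⟩
  refine Scheme.IdealSheafData.le_of_iSup_eq_top (fun U : s => U.1) ?_ ?_
  · rw [hcov, iSup_subtype]
  · intro U
    rw [Scheme.IdealSheafData.ideal_pow, Pi.pow_apply]
    have hle : k U.1 ≤ n + 1 := (Finset.le_sup (f := fun U : s => k U.1) (Finset.mem_univ U)).trans (Nat.le_succ _)
    exact (Ideal.pow_le_pow_right hle).trans (hk U.1)

end Groth.Agent.S3852
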