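import Groth.Statements.S3853
import Groth.Agent.Lib.Helper20OshSurj
import Groth.Agent.Lib.Helper20FSchAdic

set_option autoImplicit false
universe u
open FCompl

namespace Groth.Agent.S3853

open AlgebraicGeometry CategoryTheory

/-- nilpotent Nakayama: an ideal which is finitely generated modulo a kernel contained in its
square, and nilpotent, is finitely generated. -/
theorem fg_of_comap {B' B : Type*} [CommRing B'] [CommRing B] (π : B' →+* B)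
    (hπ : Function.Surjective π) (J : Ideal B) (hJ : J.FG) (J' : Ideal B') (hJ' : J' = J.comap π)
    (hker : RingHom.ker π ≤ J' ^ 2) (M : ℕ) (hM : J' ^ M = ⊥) : J'.FG := by
  classical
  obtain ⟨s, hs⟩ := hJ
  let t : Finset B' := s.image (Function.surjInv hπ)
  have hGmap : (Ideal.span (t : Set B')).map π = J := by
    rw [Ideal.map_span, ← hs]
    congr 1
    ext x
    simp only [t, Finset.coe_image, Set.mem_image, Finset.mem_coe]
    constructor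
    · rintro ⟨_, ⟨y, hy, rfl⟩, rfl⟩
      rwa [Function.surjInv_eq hπ]
    · intro hx
      exact ⟨_, ⟨x, hx, rfl⟩, Function.surjInv_eq hπ x⟩
  have hGle : Ideal.span (t : Set B') ≤ J' := by
    rw [hJ', ← Ideal.map_le_iff_le_comap, hGmap]
  have h1 : J' ≤ Ideal.span (t : Set B') ⊔ J' ^ 2 := by
    intro x hx
    have hx' : π x ∈ (Ideal.span (t : Set B')).map π := by
      rw [hGmap]; rw [hJ'] at hx; exact hx
    obtain ⟨y, hy, hyx⟩ := (Ideal.mem_map_iff_of_surjective π hπ).mp hx'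
    have h2 : x - y ∈ RingHom.ker π := by rw [RingHom.mem_ker, map_sub, hyx, sub_self]
    have h3 := hker h2
    rw [show x = y + (x - y) by ring]
    exact Ideal.add_mem _ (Ideal.mem_sup_left hy) (Ideal.mem_sup_right h3)
  have h2 : ∀ k, 1 ≤ k → J' ≤ Ideal.span (t : Set B') ⊔ J' ^ k := by
    intro k hk
    induction k, hk using Nat.le_induction with
    | base => rw [pow_one]; exact le_sup_right
    | succ k hk ih =>
      have h3 : J' ^ 2 ≤ Ideal.span (t : Set B') ⊔ J' ^ (k + 1) := by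
        calc J' ^ 2 = J' * J' := sq J'
          _ ≤ (Ideal.span (t : Set B') ⊔ J' ^ k) * J' := Ideal.mul_mono_left ih
          _ = Ideal.span (t : Set B') * J' ⊔ J' ^ k * J' := Ideal.sup_mul _ _ _
          _ ≤ Ideal.span (t : Set B') ⊔ J' ^ (k + 1) :=
            sup_le_sup Ideal.mul_le_left (by rw [pow_succ])
      exact h1.trans (sup_le le_sup_left h3)
  have h3 : J' ≤ Ideal.span (t : Set B') := by
    rcases Nat.eq_zero_or_pos M with h0 | hpos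
    · subst h0
      rw [pow_zero, Ideal.one_eq_top] at hM
      intro x _
      have : x ∈ (⊤ : Ideal B') := trivial
      rw [hM] at this
      rw [Ideal.mem_bot.mp this]
      exact Ideal.zero_mem _
    · have := h2 M hpos
      rwa [hM, sup_bot_eq] at this
  exact ⟨t, le_antisymm hGle h3⟩

/-- the kernel ideal on an affine open, in `appLE` form -/
theorem ker_ideal_eq {X Y : Scheme.{u}} (f : X ⟶ Y) [QuasiCompact f] (V : Y.Opens)
    (hV : IsAffineOpen V) (U : X.Opens) (e : f ⁻¹ᵁ V = U) :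
    f.ker.ideal ⟨V, hV⟩ = RingHom.ker (f.appLE V U e.ge).hom := by
  subst e
  rw [Scheme.Hom.ker_apply, Scheme.Hom.app_eq_appLE]

section Main

variable (𝔛 : FSch.Sys.{u}) (hF : 𝔛.IsFormal) (hA : 𝔛.IsAdic)
  (U₀ : (𝔛.X 0).Opens) (hU : IsAffineOpen U₀)

/-- `ρ n : Γ(X n, lvU n U₀) ⟶ Γ(X 0, U₀)` -/
noncomputable def ρ (n : ℕ) : Γ(𝔛.X n, 𝔛.lvU hF n U₀) ⟶ Γ(𝔛.X 0, U₀) :=
  (𝔛.toX n).appLE (𝔛.lvU hF n U₀) U₀
    (Groth.Agent.Lib.Helper20.OshSurj.toX_preimage_lvU 𝔛 hF n U₀).ge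

/-- `π n : Γ(X (n+1), lvU (n+1) U₀) ⟶ Γ(X n, lvU n U₀)` -/
noncomputable def π (n : ℕ) : Γ(𝔛.X (n + 1), 𝔛.lvU hF (n + 1) U₀) ⟶ Γ(𝔛.X n, 𝔛.lvU hF n U₀) :=
  (𝔛.ι n).appLE (𝔛.lvU hF (n + 1) U₀) (𝔛.lvU hF n U₀) (𝔛.lvU_le hF n U₀)

theorem π_ρ (n : ℕ) : π 𝔛 hF U₀ n ≫ ρ 𝔛 hF U₀ n = ρ 𝔛 hF U₀ (n + 1) := by
  unfold π ρ
  rw [Scheme.Hom.appLE_comp_appLE]
  rfl

include hU in
theorem π_surjective (n : ℕ) : Function.Surjective (π 𝔛 hF U₀ n).hom := by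
  have := (hF n).1
  exact Groth.Agent.Lib.Helper20.OshSurj.appLE_surjective (𝔛.ι n) (𝔛.lvU hF (n + 1) U₀)
    (Groth.Agent.Lib.Helper20.OshSurj.isAffineOpen_lvU 𝔛 hF (n + 1) U₀ hU) (𝔛.lvU hF n U₀)
    (𝔛.lvU_succ hF n U₀).symm

include hU in
theorem ρ_surjective (n : ℕ) : Function.Surjective (ρ 𝔛 hF U₀ n).hom := by
  have := FSch.Sys.toX_isClosedImmersion 𝔛 hF n
  exact Groth.Agent.Lib.Helper20.OshSurj.appLE_surjective (𝔛.toX n) (𝔛.lvU hF n U₀)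
    (Groth.Agent.Lib.Helper20.OshSurj.isAffineOpen_lvU 𝔛 hF n U₀ hU) U₀
    (Groth.Agent.Lib.Helper20.OshSurj.toX_preimage_lvU 𝔛 hF n U₀).symm

theorem ker_ρ_succ (n : ℕ) : RingHom.ker (ρ 𝔛 hF U₀ (n + 1)).hom =
    (RingHom.ker (ρ 𝔛 hF U₀ n).hom).comap (π 𝔛 hF U₀ n).hom := by
  rw [← π_ρ, CommRingCat.hom_comp, RingHom.comap_ker]

include hU hA in
theorem ker_π (n : ℕ) : RingHom.ker (π 𝔛 hF U₀ n).hom =
    RingHom.ker (ρ 𝔛 hF U₀ (n + 1)).hom ^ (n + 1) := by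
  have h1 := (hF n).1
  have h2 := FSch.Sys.toX_isClosedImmersion 𝔛 hF (n + 1)
  have hV := Groth.Agent.Lib.Helper20.OshSurj.isAffineOpen_lvU 𝔛 hF (n + 1) U₀ hU
  have e1 := ker_ideal_eq (𝔛.ι n) (𝔛.lvU hF (n + 1) U₀) hV (𝔛.lvU hF n U₀) (𝔛.lvU_succ hF n U₀)
  have e2 := ker_ideal_eq (𝔛.toX (n + 1)) (𝔛.lvU hF (n + 1) U₀) hV U₀
    (Groth.Agent.Lib.Helper20.OshSurj.toX_preimage_lvU 𝔛 hF (n + 1) U₀)
  unfold π ρ
  rw [← e1, ← e2, hA n, Scheme.IdealSheafData.ideal_pow]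
  rfl

include hU hA in
theorem ker_ρ_pow (n : ℕ) : RingHom.ker (ρ 𝔛 hF U₀ n).hom ^ (n + 1) = ⊥ := by
  have h1 : RingHom.ker (ρ 𝔛 hF U₀ n).hom =
      (RingHom.ker (ρ 𝔛 hF U₀ (n + 1)).hom).map (π 𝔛 hF U₀ n).hom := by
    rw [ker_ρ_succ, Ideal.map_comap_of_surjective _ (π_surjective 𝔛 hF U₀ hU n)]
  rw [h1, ← Ideal.map_pow, ← ker_π 𝔛 hF hA U₀ hU n, Ideal.map_eq_bot_iff_le_ker]

include hU hA in
theorem ker_ρ_fg (hft : FSch.IdealFT (𝔛.ι 0).ker) :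
    ∀ n, (RingHom.ker (ρ 𝔛 hF U₀ n).hom).FG
  | 0 => by
    have h := ker_ρ_pow 𝔛 hF hA U₀ hU 0
    rw [zero_add, pow_one] at h
    rw [h]
    exact Submodule.fg_bot
  | 1 => by
    have h := ker_ρ_pow 𝔛 hF hA U₀ hU 0
    rw [zero_add, pow_one] at h
    have h1 := (hF 0).1
    have hV := Groth.Agent.Lib.Helper20.OshSurj.isAffineOpen_lvU 𝔛 hF 1 U₀ hU
    have e1 := ker_ideal_eq (𝔛.ι 0) (𝔛.lvU hF 1 U₀) hV (𝔛.lvU hF 0 U₀) (𝔛.lvU_succ hF 0 U₀)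
    have h2 : RingHom.ker (ρ 𝔛 hF U₀ (0 + 1)).hom = RingHom.ker (π 𝔛 hF U₀ 0).hom := by
      rw [ker_ρ_succ, h]
      rfl
    rw [h2]
    unfold π
    rw [← e1]
    exact hft ⟨_, hV⟩
  | n + 2 => by
    refine fg_of_comap (π 𝔛 hF U₀ (n + 1)).hom (π_surjective 𝔛 hF U₀ hU (n + 1))
      (RingHom.ker (ρ 𝔛 hF U₀ (n + 1)).hom) (ker_ρ_fg hft (n + 1)) _
      (ker_ρ_succ 𝔛 hF U₀ (n + 1)) ?_ (n + 2 + 1) (ker_ρ_pow 𝔛 hF hA U₀ hU (n + 2))
    rw [ker_π 𝔛 hF hA U₀ hU (n + 1)]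
    exact Ideal.pow_le_pow_right (by omega)

include hU hA in
theorem isNoetherianRing_level [IsLocallyNoetherian (𝔛.X 0)] (hft : FSch.IdealFT (𝔛.ι 0).ker)
    (n : ℕ) : IsNoetherianRing Γ(𝔛.X n, 𝔛.lvU hF n U₀) := by
  have : IsNoetherianRing Γ(𝔛.X 0, U₀) := IsLocallyNoetherian.component_noetherian ⟨U₀, hU⟩
  refine Groth.Agent.Lib.Helper20.FSchAdic.isNoetherianRing_of_surjective_of_fg_ker
    (ρ 𝔛 hF U₀ n).hom (ρ_surjective 𝔛 hF U₀ hU n) (ker_ρ_fg 𝔛 hF hA U₀ hU hft n) ?_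
  intro x hx
  rw [mem_nilradical]
  refine ⟨n + 1, ?_⟩
  have := Ideal.pow_mem_pow hx (n + 1)
  rwa [ker_ρ_pow 𝔛 hF hA U₀ hU n, Ideal.mem_bot] at this

end Main


open AlgebraicGeometry in
/-- Levelwise part (formal schemes presented as systems of thickenings X_0 -> X_1 -> ...; the assertion
about the limit ring is in the affine recognition row). Let (X_n) be a system of schemes in which
every transition map is a surjective closed immersion and the kernel ideal of X_n -> X_(n+1) is the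
(n+1)-st power of the kernel ideal of X_0 -> X_(n+1). If X_0 is locally Noetherian and the kernel
ideal of X_0 -> X_1 is of finite type, then every X_n is locally Noetherian. -/
theorem result
    (𝔛 : FSch.Sys.{u}) (hF : 𝔛.IsFormal) (hA : 𝔛.IsAdic) [IsLocallyNoetherian (𝔛.X 0)]
    (hft : FSch.IdealFT (𝔛.ι 0).ker) (n : ℕ) : IsLocallyNoetherian (𝔛.X n) := by
  refine isLocallyNoetherian_of_affine_cover
    (S := fun U₀ : (𝔛.X 0).affineOpens => ⟨𝔛.lvU hF n U₀.1,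
      Groth.Agent.Lib.Helper20.OshSurj.isAffineOpen_lvU 𝔛 hF n U₀.1 U₀.2⟩) ?_ ?_
  · rw [eq_top_iff]
    intro y _
    obtain ⟨x, rfl⟩ := FSch.Sys.toX_surjective 𝔛 hF n y
    obtain ⟨_, ⟨U, hU, rfl⟩, hxU, -⟩ := (𝔛.X 0).isBasis_affineOpens.exists_subset_of_mem_open
      (Set.mem_univ x) isOpen_univ
    refine TopologicalSpace.Opens.mem_iSup.2 ⟨⟨U, hU⟩, ?_⟩
    have h1 : x ∈ (𝔛.toX n) ⁻¹ᵁ (𝔛.lvU hF n U) := by
      rw [Groth.Agent.Lib.Helper20.OshSurj.toX_preimage_lvU]; exact hxU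
    exact h1
  · intro U₀
    exact isNoetherianRing_level 𝔛 hF hA U₀.1 U₀.2 hft n

end Groth.Agent.S3853
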