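import Groth.Statements.S3855
-- import your own Groth.Agent.* helpers here
import Mathlib

set_option autoImplicit false
universe u
open FCompl

namespace Groth.Agent.S3855

section Helpers
open AlgebraicGeometry CategoryTheory Limits Scheme

variable (A : Type u) [CommRing A] (J : Ideal A)

/-- the factor map `A/J^(m+1) → A/J^(k+1)` for `k ≤ m` -/
noncomputable abbrev fac (k m : ℕ) (h : k ≤ m) : A ⧸ J ^ (m + 1) →+* A ⧸ J ^ (k + 1) :=
  Ideal.Quotient.factor (Ideal.pow_le_pow_right (Nat.succ_le_succ h))

theorem ker_fac (k m : ℕ) (h : k ≤ m) :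
    RingHom.ker (fac A J k m h) = (J ^ (k + 1)).map (Ideal.Quotient.mk (J ^ (m + 1))) := by
  ext x
  obtain ⟨a, rfl⟩ := Ideal.Quotient.mk_surjective x
  rw [RingHom.mem_ker]
  change Ideal.Quotient.mk (J ^ (k + 1)) a = 0 ↔ _
  rw [Ideal.Quotient.eq_zero_iff_mem]
  constructor
  · intro ha; exact Ideal.mem_map_of_mem _ ha
  · intro ha
    rw [Ideal.mem_map_iff_of_surjective _ Ideal.Quotient.mk_surjective] at ha
    obtain ⟨b, hb, hba⟩ := ha
    have : b - a ∈ J ^ (m + 1) := by
      rw [← Ideal.Quotient.eq_zero_iff_mem, map_sub, hba, sub_self]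
    have h2 : b - a ∈ J ^ (k + 1) := Ideal.pow_le_pow_right (Nat.succ_le_succ h) this
    have : a = b - (b - a) := by ring
    rw [this]
    exact Ideal.sub_mem _ hb h2

theorem fac_surjective (k m : ℕ) (h : k ≤ m) : Function.Surjective (fac A J k m h) :=
  Ideal.Quotient.factor_surjective _

theorem toX_eq (n : ℕ) : (FSch.spf A J).toX n =
    Spec.map (CommRingCat.ofHom (fac A J 0 n (Nat.zero_le n))) := by
  induction n with
  | zero =>
    change 𝟙 _ = _
    have : fac A J 0 0 (Nat.zero_le 0) = RingHom.id _ := by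
      ext x
      rfl
    rw [this]
    exact (Spec.map_id _).symm
  | succ n ih =>
    change (FSch.spf A J).toX n ≫ CohB1.specQuotTrans J n = _
    rw [ih]
    change Spec.map (CommRingCat.ofHom (fac A J 0 n (Nat.zero_le n))) ≫
      Spec.map (CommRingCat.ofHom (fac A J n (n + 1) (Nat.le_succ n))) = _
    rw [← Spec.map_comp, ← CommRingCat.ofHom_comp]
    congr 2
    ext x
    rfl

/-- kernel of the global sections map of `Spec.map ψ` -/
theorem ker_appTop_specMap {R S : Type u} [CommRing R] [CommRing S] (ψ : R →+* S) :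
    RingHom.ker (Spec.map (CommRingCat.ofHom ψ)).appTop.hom =
      (RingHom.ker ψ).map (ΓSpecIso (CommRingCat.of R)).inv.hom := by
  ext x
  obtain ⟨a, rfl⟩ : ∃ a : R, (ΓSpecIso (CommRingCat.of R)).inv a = x :=
    ⟨(ΓSpecIso (CommRingCat.of R)).hom x, by simp⟩
  have hinjS : Function.Injective (ΓSpecIso (CommRingCat.of S)).inv.hom :=
    (ConcreteCategory.bijective_of_isIso (ΓSpecIso (CommRingCat.of S)).inv).1
  have hinjR : Function.Injective (ΓSpecIso (CommRingCat.of R)).inv.hom :=
    (ConcreteCategory.bijective_of_isIso (ΓSpecIso (CommRingCat.of R)).inv).1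
  have e1 : (Spec.map (CommRingCat.ofHom ψ)).appTop.hom ((ΓSpecIso (CommRingCat.of R)).inv a) =
      (ΓSpecIso (CommRingCat.of S)).inv.hom (ψ a) := by
    have := ΓSpecIso_inv_naturality (CommRingCat.ofHom ψ)
    have h3 := congrArg (fun g => g.hom a) this
    simp only [CommRingCat.hom_comp, RingHom.coe_comp, Function.comp_apply,
      CommRingCat.hom_ofHom] at h3
    exact h3.symm
  rw [RingHom.mem_ker]
  change (Spec.map (CommRingCat.ofHom ψ)).appTop.hom ((ΓSpecIso (CommRingCat.of R)).inv a) = 0 ↔ _
  rw [e1]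
  constructor
  · intro h
    have : ψ a = 0 := hinjS (by rw [h, map_zero])
    exact Ideal.mem_map_of_mem _ (RingHom.mem_ker.mpr this)
  · intro h
    have hsurj : Function.Surjective (ΓSpecIso (CommRingCat.of R)).inv.hom :=
      (ConcreteCategory.bijective_of_isIso (ΓSpecIso (CommRingCat.of R)).inv).2
    rw [Ideal.mem_map_iff_of_surjective _ hsurj] at h
    obtain ⟨b, hb, hba⟩ := h
    have : b = a := hinjR hba
    subst this
    rw [RingHom.mem_ker.mp hb, map_zero]

theorem surjective_comap_fac (k m : ℕ) (h : k ≤ m) :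
    Function.Surjective (PrimeSpectrum.comap (fac A J k m h)) := by
  intro p
  have hr := _root_.range_comap_of_surjective _ (fac A J k m h) (fac_surjective A J k m h)
  have hp : p ∈ PrimeSpectrum.zeroLocus (RingHom.ker (fac A J k m h) : Set _) := by
    rw [PrimeSpectrum.mem_zeroLocus, ker_fac]
    intro x hx
    have hx' : x ∈ (J ^ (k + 1)).map (Ideal.Quotient.mk (J ^ (m + 1))) := hx
    have hpow : ((J ^ (k + 1)).map (Ideal.Quotient.mk (J ^ (m + 1)))) ^ (m + 1) = ⊥ := by
      rw [← Ideal.map_pow, ← pow_mul]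
      rw [eq_bot_iff]
      refine (Ideal.map_mono (Ideal.pow_le_pow_right (m := m + 1) (by nlinarith))).trans ?_
      · rw [Ideal.map_le_iff_le_comap]
        intro y hy
        rw [Ideal.mem_comap, Ideal.mem_bot, Ideal.Quotient.eq_zero_iff_mem]
        exact hy
    have : x ^ (m + 1) ∈ p.asIdeal := by
      have h1 : x ^ (m + 1) ∈ ((J ^ (k + 1)).map (Ideal.Quotient.mk (J ^ (m + 1)))) ^ (m + 1) :=
        Ideal.pow_mem_pow hx' _
      rw [hpow] at h1
      rw [Ideal.mem_bot.mp h1]
      exact Ideal.zero_mem _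
    exact p.isPrime.mem_of_pow_mem _ this
  rw [← hr] at hp
  exact hp

theorem surjective_base_fac (k m : ℕ) (h : k ≤ m) :
    Function.Surjective (Spec.map (CommRingCat.ofHom (fac A J k m h))).base := by
  intro p
  obtain ⟨q, hq⟩ := surjective_comap_fac A J k m h p
  exact ⟨q, hq⟩

theorem isClosedImmersion_fac (k m : ℕ) (h : k ≤ m) :
    IsClosedImmersion (Spec.map (CommRingCat.ofHom (fac A J k m h))) :=
  IsClosedImmersion.spec_of_surjective _ (fac_surjective A J k m h)

theorem isFormal : (FSch.spf A J).IsFormal := by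
  intro n
  exact ⟨isClosedImmersion_fac A J n (n + 1) (Nat.le_succ n),
    surjective_base_fac A J n (n + 1) (Nat.le_succ n)⟩

theorem ofIdealTop_pow {X : Scheme.{u}} [IsAffine X] (K : Ideal Γ(X, ⊤)) (n : ℕ) :
    (IdealSheafData.ofIdealTop K) ^ n = IdealSheafData.ofIdealTop (K ^ n) :=
  (map_pow (IdealSheafData.equivOfIsAffine (X := X)).symm K n).symm

theorem isAdic : (FSch.spf A J).IsAdic := by
  intro n
  rw [toX_eq]
  change (Spec.map (CommRingCat.ofHom (fac A J n (n + 1) (Nat.le_succ n)))).ker =
    (Spec.map (CommRingCat.ofHom (fac A J 0 (n + 1) (Nat.zero_le _)))).ker ^ (n + 1)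
  rw [ker_of_isAffine, ker_of_isAffine, ofIdealTop_pow, ker_appTop_specMap, ker_appTop_specMap,
    ker_fac, ker_fac, ← Ideal.map_pow, ← Ideal.map_pow, ← pow_mul]
  simp

theorem isLocallyNoetherian_level [IsNoetherianRing A] (n : ℕ) :
    IsLocallyNoetherian ((FSch.spf A J).X n) := by
  change IsLocallyNoetherian (Spec (CommRingCat.of (A ⧸ J ^ (n + 1))))
  infer_instance

theorem aux [IsNoetherianRing A] : (FSch.spf A J).IsLocNoethFormal :=
  ⟨isFormal A J, isAdic A J, isLocallyNoetherian_level A J⟩

end Helpers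

open AlgebraicGeometry in
/-- Sufficiency (the formal spectrum presented as the system Spec(A/J) -> Spec(A/J^2) -> ...). For a
Noetherian ring A and an ideal J this system is a locally Noetherian adic formal system: the
transition maps are surjective closed immersions, the kernel ideal of Spec(A/J^(n+1)) ->
Spec(A/J^(n+2)) is the (n+1)-st power of that of Spec(A/J) -> Spec(A/J^(n+2)), and every level is
locally Noetherian. -/
theorem result (A : Type u) [CommRing A] [IsNoetherianRing A] (J : Ideal A) :
    (FSch.spf A J).IsLocNoethFormal := by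
  exact aux A J

end Groth.Agent.S3855
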