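import Groth.Statements.S3858
import Groth.Agent.Lib.Helper20FSchAdic

set_option autoImplicit false
universe u
open FCompl

namespace Groth.Agent.S3858

open CategoryTheory CategoryTheory.Limits AlgebraicGeometry

theorem isPullback_map_snd {C : Type*} [Category C] [HasPullbacks C]
    {X X' S S' T T' : C} (ιX : X ⟶ X') (ιS : S ⟶ S') (ιT : T ⟶ T')
    (f : X ⟶ S) (f' : X' ⟶ S') (g : T ⟶ S) (g' : T' ⟶ S')
    (hf : IsPullback ιX f f' ιS) (hg : g ≫ ιS = ιT ≫ g') :
    IsPullback (pullback.map f g f' g' ιX ιT ιS hf.w.symm hg) (pullback.snd f g) (pullback.snd f' g')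
      ιT := by
  have s0 := (IsPullback.of_hasPullback f g).paste_horiz hf
  have s : IsPullback (pullback.map f g f' g' ιX ιT ιS hf.w.symm hg ≫ pullback.fst f' g')
      (pullback.snd f g) f' (ιT ≫ g') := by
    rw [pullback.lift_fst, ← hg]; exact s0
  exact IsPullback.of_right s (pullback.lift_snd _ _ _) (IsPullback.of_hasPullback f' g')

theorem isAdicHom_pullbackSnd {𝔛 𝔖 𝔖' : FSch.Sys.{u}} (f : 𝔛 ⟶ 𝔖) (g : 𝔖' ⟶ 𝔖)
    (hf : FSch.IsAdicHom f) : FSch.IsAdicHom (FSch.pullbackSnd f g) := by
  intro n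
  exact isPullback_map_snd (𝔛.ι n) (𝔖.ι n) (𝔖'.ι n) _ _ _ _ (hf n) ((g : FSch.Hom 𝔖' 𝔖).comm n)

open AlgebraicGeometry in
/-- Formal schemes are presented as systems of thickenings (X_n)_n and fibre products of systems are
taken levelwise. Let X → S be an adic morphism of systems (every square X_n → X_(n+1), S_n → S_(n+1)
is cartesian) whose level-0 morphism X_0 → S_0 is locally of finite type, and S' → S a morphism from
a locally Noetherian adic formal system S'. Then the levelwise fibre product (X_n ×_(S_n) S'_n)_n is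
a locally Noetherian adic formal system, its projection to S' is adic, and the level-0 projection
X_0 ×_(S_0) S'_0 → S'_0 is locally of finite type. The published statement concerns the fibre
product of formal schemes, which the levelwise fibre product presents because X is adic over S, and
also assumes X and S locally Noetherian, which is not assumed here. -/
theorem result {𝔛 𝔖 𝔖' : FSch.Sys.{u}} (f : 𝔛 ⟶ 𝔖) (g : 𝔖' ⟶ 𝔖)
    (h𝔖' : 𝔖'.IsLocNoethFormal) (hf : FSch.IsAdicHom f) [LocallyOfFiniteType ((f : FSch.Hom 𝔛 𝔖).app 0)] :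
    (FSch.pullbackSys f g).IsLocNoethFormal ∧ FSch.IsAdicHom (FSch.pullbackSnd f g) ∧
      LocallyOfFiniteType ((FSch.pullbackSnd f g : FSch.Hom _ _).app 0) := by
  have hadic := isAdicHom_pullbackSnd f g hf
  have hlft : LocallyOfFiniteType ((FSch.pullbackSnd f g : FSch.Hom _ _).app 0) :=
    inferInstanceAs (LocallyOfFiniteType (pullback.snd ((f : FSch.Hom 𝔛 𝔖).app 0)
      ((g : FSch.Hom 𝔖' 𝔖).app 0)))
  have := h𝔖'.2.2 0
  have : IsLocallyNoetherian ((FSch.pullbackSys f g).X 0) :=
    LocallyOfFiniteType.isLocallyNoetherian ((FSch.pullbackSnd f g : FSch.Hom _ _).app 0)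
  exact ⟨Groth.Agent.Lib.Helper20.FSchAdic.isLocNoethFormal_of_isAdicHom _ h𝔖' hadic, hadic, hlft⟩

end Groth.Agent.S3858
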