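import Groth.Statements.S3859
-- import your own Groth.Agent.* helpers here
import Mathlib.Tactic

set_option autoImplicit false
universe u
open FCompl

namespace Groth.Agent.S3859

section Helpers
open AlgebraicGeometry CategoryTheory CategoryTheory.Limits

theorem app_congr {𝔛 𝔜 : FSch.Sys.{u}} {a b : 𝔛 ⟶ 𝔜} (h : a = b) (n : ℕ) :
    (a : FSch.Hom 𝔛 𝔜).app n = (b : FSch.Hom 𝔛 𝔜).app n := by rw [h]

theorem hom_ext' {𝔛 𝔜 : FSch.Sys.{u}} {a b : 𝔛 ⟶ 𝔜}
    (h : ∀ n, (a : FSch.Hom 𝔛 𝔜).app n = (b : FSch.Hom 𝔛 𝔜).app n) : a = b :=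
  FSch.Hom.ext (funext h)

section
variable {𝔛 𝔜 𝔖 : FSch.Sys.{u}} (f : 𝔛 ⟶ 𝔖) (g : 𝔜 ⟶ 𝔖)

/-- levelwise lift -/
noncomputable def lvlLift {W : Scheme.{u}} (n : ℕ) (a : W ⟶ 𝔛.X n) (b : W ⟶ 𝔜.X n)
    (h : a ≫ (f : FSch.Hom 𝔛 𝔖).app n = b ≫ (g : FSch.Hom 𝔜 𝔖).app n) :
    W ⟶ (FSch.pullbackSys f g).X n :=
  pullback.lift a b h

theorem lvlLift_fst {W : Scheme.{u}} (n : ℕ) (a : W ⟶ 𝔛.X n) (b : W ⟶ 𝔜.X n)
    (h : a ≫ (f : FSch.Hom 𝔛 𝔖).app n = b ≫ (g : FSch.Hom 𝔜 𝔖).app n) :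
    lvlLift f g n a b h ≫ (FSch.pullbackFst f g : FSch.Hom _ _).app n = a :=
  pullback.lift_fst _ _ _

theorem lvlLift_snd {W : Scheme.{u}} (n : ℕ) (a : W ⟶ 𝔛.X n) (b : W ⟶ 𝔜.X n)
    (h : a ≫ (f : FSch.Hom 𝔛 𝔖).app n = b ≫ (g : FSch.Hom 𝔜 𝔖).app n) :
    lvlLift f g n a b h ≫ (FSch.pullbackSnd f g : FSch.Hom _ _).app n = b :=
  pullback.lift_snd _ _ _

theorem lvl_hom_ext {W : Scheme.{u}} (n : ℕ) (a b : W ⟶ (FSch.pullbackSys f g).X n)
    (h1 : a ≫ (FSch.pullbackFst f g : FSch.Hom _ _).app n = b ≫ (FSch.pullbackFst f g : FSch.Hom _ _).app n)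
    (h2 : a ≫ (FSch.pullbackSnd f g : FSch.Hom _ _).app n = b ≫ (FSch.pullbackSnd f g : FSch.Hom _ _).app n) :
    a = b :=
  pullback.hom_ext h1 h2

theorem lvl_condition (n : ℕ) :
    (FSch.pullbackFst f g : FSch.Hom _ _).app n ≫ (f : FSch.Hom 𝔛 𝔖).app n =
      (FSch.pullbackSnd f g : FSch.Hom _ _).app n ≫ (g : FSch.Hom 𝔜 𝔖).app n :=
  pullback.condition

end

end Helpers

open AlgebraicGeometry in
open CategoryTheory in
/-- In the presentation by systems of thickenings: For morphisms of systems X -> S and Y -> S, the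
levelwise fibre product with its two projections is a fibre product in the category of systems; it
presents the fibre product of formal schemes when one factor is adic over the base, and otherwise
only up to cofinality of the levels. -/
theorem result {𝔛 𝔜 𝔖 : FSch.Sys.{u}} (f : 𝔛 ⟶ 𝔖) (g : 𝔜 ⟶ 𝔖) :
    IsPullback (FSch.pullbackFst f g) (FSch.pullbackSnd f g) f g := by
  have w : FSch.pullbackFst f g ≫ f = FSch.pullbackSnd f g ≫ g := by
    apply hom_ext'
    intro n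
    exact lvl_condition f g n
  refine ⟨⟨w⟩, ⟨CategoryTheory.Limits.PullbackCone.IsLimit.mk w ?_ ?_ ?_ ?_⟩⟩
  · intro s
    have hc : ∀ n, (s.fst : FSch.Hom _ _).app n ≫ (f : FSch.Hom _ _).app n =
        (s.snd : FSch.Hom _ _).app n ≫ (g : FSch.Hom _ _).app n := fun n => app_congr s.condition n
    refine ⟨fun n => lvlLift f g n ((s.fst : FSch.Hom _ _).app n) ((s.snd : FSch.Hom _ _).app n) (hc n), ?_⟩
    intro n
    have hF := (FSch.pullbackFst f g : FSch.Hom _ _).comm n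
    have hS := (FSch.pullbackSnd f g : FSch.Hom _ _).comm n
    apply lvl_hom_ext f g (n + 1)
    · rw [Category.assoc, Category.assoc, lvlLift_fst, ← hF, ← Category.assoc, lvlLift_fst]
      exact (s.fst : FSch.Hom _ _).comm n
    · rw [Category.assoc, Category.assoc, lvlLift_snd, ← hS, ← Category.assoc, lvlLift_snd]
      exact (s.snd : FSch.Hom _ _).comm n
  · intro s
    apply hom_ext'
    intro n
    exact lvlLift_fst f g n _ _ _
  · intro s
    apply hom_ext'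
    intro n
    exact lvlLift_snd f g n _ _ _
  · intro s m h1 h2
    apply hom_ext'
    intro n
    apply lvl_hom_ext f g n
    · rw [lvlLift_fst]
      exact app_congr h1 n
    · rw [lvlLift_snd]
      exact app_congr h2 n

end Groth.Agent.S3859
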