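import Groth.Statements.S3860
import Mathlib

set_option autoImplicit false
universe u
open FCompl

namespace Groth.Agent.S3860

open CategoryTheory

open AlgebraicGeometry in
/-- (Affine adic case; the formal spectra presented as the systems Spec(A/I^(n+1)) and Spec(B/K^(n+1)).)
Let I be an ideal of a ring A which is complete and separated for the I-adic topology, and K an
ideal of a ring B. Then φ ↦ (Spec of the induced maps B/K^(n+1) -> A/I^(n+1)) is a bijection from
the ring homomorphisms φ : B -> A with φ(K) ⊆ I onto the morphisms of systems from Spf(A) to Spf(B),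
i.e. the compatible families of morphisms Spec(A/I^(n+1)) -> Spec(B/K^(n+1)). -/
theorem result (A B : Type u) [CommRing A] [CommRing B] (I : Ideal A) (K : Ideal B)
    [IsAdicComplete I A] :
    Function.Bijective (fun φ : {φ : B →+* A // K ≤ I.comap φ} ↦ FSch.spfMap I K φ.1 φ.2) := by
  constructor
  · rintro ⟨φ, hφ⟩ ⟨φ', hφ'⟩ heq
    apply Subtype.ext
    have h1 : ∀ n, FSch.quotPowMap I K φ hφ n = FSch.quotPowMap I K φ' hφ' n := by
      intro n
      have h2 := congrArg (fun g : FSch.Hom (FSch.spf A I) (FSch.spf B K) => g.app n) heq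
      simp only [FSch.spfMap_app] at h2
      have h3 := Spec.map_injective h2
      exact congrArg CommRingCat.Hom.hom h3
    apply RingHom.ext
    intro b
    rw [← sub_eq_zero]
    apply IsHausdorff.haus' (I := I)
    intro n
    rw [SModEq.zero, smul_eq_mul, Ideal.mul_top]
    have h4 := congrArg (fun g => g (Ideal.Quotient.mk (K ^ (n + 1)) b)) (h1 n)
    have h5 : Ideal.Quotient.mk (I ^ (n + 1)) (φ b) = Ideal.Quotient.mk (I ^ (n + 1)) (φ' b) := h4
    rw [Ideal.Quotient.eq] at h5
    exact Ideal.pow_le_pow_right (Nat.le_succ n) h5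
  · intro g
    let g' : FSch.Hom (FSch.spf A I) (FSch.spf B K) := g
    let pre : ∀ n, CommRingCat.of (B ⧸ K ^ (n + 1)) ⟶ CommRingCat.of (A ⧸ I ^ (n + 1)) :=
      fun n => Spec.preimage (g'.app n)
    have hpre : ∀ n, Spec.map (pre n) = g'.app n := fun n => Spec.map_preimage _
    let ψ : ∀ n, B ⧸ K ^ (n + 1) →+* A ⧸ I ^ (n + 1) := fun n => (pre n).hom
    have hcomm : ∀ m, (ψ m).comp (Ideal.Quotient.factor (Ideal.pow_le_pow_right (Nat.le_succ (m + 1)))) =
        (Ideal.Quotient.factor (Ideal.pow_le_pow_right (Nat.le_succ (m + 1)))).comp (ψ (m + 1)) := by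
      intro m
      have h1 := g'.comm m
      rw [← hpre m, ← hpre (m + 1)] at h1
      change Spec.map (pre m) ≫ Spec.map _ = Spec.map _ ≫ Spec.map (pre (m + 1)) at h1
      rw [← Spec.map_comp, ← Spec.map_comp] at h1
      have h2 := Spec.map_injective h1
      exact congrArg CommRingCat.Hom.hom h2
    let f : ∀ n, B →+* A ⧸ I ^ (n + 1) := fun n => (ψ n).comp (Ideal.Quotient.mk (K ^ (n + 1)))
    have ha : StrictMono (fun n : ℕ => n + 1) := fun a b h => Nat.succ_lt_succ h
    have hf : ∀ {m : ℕ}, (Ideal.Quotient.factorPow I (ha.monotone m.le_succ)).comp (f (m + 1)) = f m := by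
      intro m
      apply RingHom.ext
      intro b
      have h1 := congrArg (fun h => h (Ideal.Quotient.mk (K ^ (m + 2)) b)) (hcomm m)
      exact h1.symm
    let φ : B →+* A := IsAdicComplete.StrictMono.liftRingHom I ha f hf
    have hφmk : ∀ n b, Ideal.Quotient.mk (I ^ (n + 1)) (φ b) = f n b := fun n b =>
      IsAdicComplete.StrictMono.mk_liftRingHom I ha f hf b
    have hφ : K ≤ I.comap φ := by
      intro b hb
      rw [Ideal.mem_comap]
      have h1 := hφmk 0 b
      have h2 : Ideal.Quotient.mk (K ^ (0 + 1)) b = 0 := by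
        rw [Ideal.Quotient.eq_zero_iff_mem, zero_add, pow_one]
        exact hb
      have h3 : f 0 b = 0 := by
        change ψ 0 (Ideal.Quotient.mk (K ^ (0 + 1)) b) = 0
        rw [h2, map_zero]
      rw [h3, Ideal.Quotient.eq_zero_iff_mem, zero_add, pow_one] at h1
      exact h1
    refine ⟨⟨φ, hφ⟩, ?_⟩
    apply FSch.Hom.ext
    funext n
    change (FSch.spfMap I K φ hφ : FSch.Hom _ _).app n = g'.app n
    rw [FSch.spfMap_app, ← hpre n]
    congr 1
    apply CommRingCat.hom_ext
    apply Ideal.Quotient.ringHom_ext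
    apply RingHom.ext
    intro b
    exact hφmk n b

end Groth.Agent.S3860
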