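import Groth.Statements.S3861
import Mathlib
import Groth.Agent.Lib.Helper22IdealComap

set_option autoImplicit false
universe u
open FCompl

namespace Groth.Agent.S3861

open Groth.Agent.Lib.Helper22.IdealComap

open AlgebraicGeometry in
/-- For a morphism of schemes f : X -> Y and quasi-coherent ideal sheaves K₁, K₂ on Y, the inverse image
ideal sheaf of K₁K₂ is the product of the inverse image ideal sheaves of K₁ and K₂. -/
theorem result {X Y : Scheme.{u}} (f : X ⟶ Y) (K₁ K₂ : Y.IdealSheafData) :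
    (K₁ * K₂).comap f = K₁.comap f * K₂.comap f := by
  let J : Type u := {p : X.affineOpens × Y.affineOpens // p.1.1 ≤ f ⁻¹ᵁ p.2.1}
  apply Scheme.IdealSheafData.ext_of_iSup_eq_top (fun j : J => j.1.1)
  · rw [eq_top_iff]
    intro x _
    obtain ⟨_, ⟨V, hV, rfl⟩, hxV, -⟩ := Y.isBasis_affineOpens.exists_subset_of_mem_open
      (Set.mem_univ (f x)) isOpen_univ
    obtain ⟨_, ⟨U', hU', rfl⟩, hxU', hU'V⟩ := X.isBasis_affineOpens.exists_subset_of_mem_open
      (show x ∈ (f ⁻¹ᵁ V : Set X) from hxV) (f ⁻¹ᵁ V).isOpen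
    exact TopologicalSpace.Opens.mem_iSup.mpr ⟨⟨(⟨U', hU'⟩, ⟨V, hV⟩), hU'V⟩, hxU'⟩
  · rintro ⟨⟨U, V⟩, hUV⟩
    simp only [Scheme.IdealSheafData.ideal_mul, Pi.mul_apply]
    rw [ideal_comap_eq_map f _ U V hUV, ideal_comap_eq_map f _ U V hUV,
      ideal_comap_eq_map f _ U V hUV]
    simp only [Scheme.IdealSheafData.ideal_mul, Pi.mul_apply]
    rw [Ideal.map_mul]

end Groth.Agent.S3861
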