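import Groth.Statements.S3867
import Mathlib

set_option autoImplicit false
universe u
open FCompl

namespace Groth.Agent.S3867

open CategoryTheory AlgebraicGeometry

open AlgebraicGeometry in
/-- Formal spectra are presented as the systems Spec(A/I^(n+1)) and Spec(B/K^(n+1)), a morphism of
systems being adic when all its squares are cartesian. Let A be a Noetherian ring, complete and
separated for the I-adic topology of an ideal I, K an ideal of a ring B and φ : B → A a ring
homomorphism with φ(K) ⊆ I. Then the induced morphism Spf(A) → Spf(B) is adic if and only if the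
ideal of A generated by φ(K) is I. -/
theorem result (A B : Type u) [CommRing A] [CommRing B] [IsNoetherianRing A]
    (I : Ideal A) (K : Ideal B) [IsAdicComplete I A] (φ : B →+* A) (h : K ≤ I.comap φ) :
    FSch.IsAdicHom (FSch.spfMap I K φ h) ↔ K.map φ = I := by
  have hle : K.map φ ≤ I := Ideal.map_le_iff_le_comap.2 h
  constructor
  · intro had
    refine le_antisymm hle ?_
    have key : I ≤ K.map φ ⊔ I • I := by
      intro x hx
      set J' : Ideal A := I ^ (0 + 2) ⊔ K.map φ with hJ'
      have h2 : I ^ (0 + 2) ≤ J' := le_sup_left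
      have hK : K ^ (0 + 1) ≤ J'.comap φ := by
        rw [zero_add, pow_one]
        exact Ideal.map_le_iff_le_comap.1 le_sup_right
      let aR : A ⧸ I ^ (0 + 2) →+* A ⧸ J' := Ideal.Quotient.factor h2
      let bR : B ⧸ K ^ (0 + 1) →+* A ⧸ J' := Ideal.quotientMap J' φ hK
      have had0 := had 0
      have hcompat : Spec.map (CommRingCat.ofHom aR) ≫
          ((FSch.spfMap I K φ h : FSch.Hom _ _).app (0 + 1)) =
          Spec.map (CommRingCat.ofHom bR) ≫ (FSch.spf B K).ι 0 := by
        rw [FSch.spfMap_app]
        change Spec.map _ ≫ Spec.map _ = Spec.map _ ≫ Spec.map _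
        rw [← Spec.map_comp, ← Spec.map_comp]
        congr 1
        apply CommRingCat.hom_ext
        apply Ideal.Quotient.ringHom_ext
        apply RingHom.ext
        intro b
        rfl
      let l := had0.lift (Spec.map (CommRingCat.ofHom aR)) (Spec.map (CommRingCat.ofHom bR)) hcompat
      have hl : l ≫ (FSch.spf A I).ι 0 = Spec.map (CommRingCat.ofHom aR) := had0.lift_fst _ _ _
      have hl' : Spec.map (Spec.preimage l) = l := Spec.map_preimage l
      rw [← hl'] at hl
      change Spec.map _ ≫ Spec.map _ = Spec.map _ at hl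
      rw [← Spec.map_comp] at hl
      have h3 := congrArg CommRingCat.Hom.hom (Spec.map_injective hl)
      have h4 := congrArg (fun g => g (Ideal.Quotient.mk (I ^ (0 + 2)) x)) h3
      have h5 : (Spec.preimage l).hom (Ideal.Quotient.mk (I ^ (0 + 1)) x) =
          Ideal.Quotient.mk J' x := h4
      have h6 : Ideal.Quotient.mk (I ^ (0 + 1)) x = 0 := by
        rw [Ideal.Quotient.eq_zero_iff_mem, zero_add, pow_one]
        exact hx
      rw [h6, map_zero] at h5
      have h7 : x ∈ J' := Ideal.Quotient.eq_zero_iff_mem.1 h5.symm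
      rw [hJ', zero_add, pow_two, sup_comm] at h7
      exact h7
    exact Submodule.le_of_le_smul_of_le_jacobson_bot (IsNoetherian.noetherian I)
      (IsAdicComplete.le_jacobson_bot I) key
  · intro hKI n
    change IsPullback (Spec.map (CommRingCat.ofHom
        (Ideal.Quotient.factor (Ideal.pow_le_pow_right (Nat.le_succ (n + 1))))))
      (Spec.map (CommRingCat.ofHom (FSch.quotPowMap I K φ h n)))
      (Spec.map (CommRingCat.ofHom (FSch.quotPowMap I K φ h (n + 1))))
      (Spec.map (CommRingCat.ofHom
        (Ideal.Quotient.factor (Ideal.pow_le_pow_right (Nat.le_succ (n + 1))))))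
    apply isPullback_SpecMap_of_isPushout
    have hw : CommRingCat.ofHom (FSch.quotPowMap I K φ h (n + 1)) ≫
        CommRingCat.ofHom (Ideal.Quotient.factor
          (Ideal.pow_le_pow_right (Nat.le_succ (n + 1)) : I ^ (n + 2) ≤ I ^ (n + 1))) =
        CommRingCat.ofHom (Ideal.Quotient.factor
          (Ideal.pow_le_pow_right (Nat.le_succ (n + 1)) : K ^ (n + 2) ≤ K ^ (n + 1))) ≫
        CommRingCat.ofHom (FSch.quotPowMap I K φ h n) := by
      apply CommRingCat.hom_ext
      apply Ideal.Quotient.ringHom_ext
      apply RingHom.ext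
      intro b
      rfl
    have hkey : ∀ (s : Limits.PushoutCocone (CommRingCat.ofHom (FSch.quotPowMap I K φ h (n + 1)))
        (CommRingCat.ofHom (Ideal.Quotient.factor
          (Ideal.pow_le_pow_right (Nat.le_succ (n + 1)) : K ^ (n + 2) ≤ K ^ (n + 1))))) (b : B),
        s.inl.hom (Ideal.Quotient.mk (I ^ (n + 2)) (φ b)) =
          s.inr.hom (Ideal.Quotient.mk (K ^ (n + 1)) b) := by
      intro s b
      have h1 := congrArg (fun g => g.hom (Ideal.Quotient.mk (K ^ (n + 2)) b)) s.condition
      exact h1
    have hker : ∀ (s : Limits.PushoutCocone (CommRingCat.ofHom (FSch.quotPowMap I K φ h (n + 1)))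
        (CommRingCat.ofHom (Ideal.Quotient.factor
          (Ideal.pow_le_pow_right (Nat.le_succ (n + 1)) : K ^ (n + 2) ≤ K ^ (n + 1))))),
        ∀ a ∈ I ^ (n + 1), (s.inl.hom.comp (Ideal.Quotient.mk (I ^ (n + 2)))) a = 0 := by
      intro s
      have : I ^ (n + 1) ≤ RingHom.ker (s.inl.hom.comp (Ideal.Quotient.mk (I ^ (n + 2)))) := by
        have hI : I ^ (n + 1) = Ideal.map φ (K ^ (n + 1)) := by rw [Ideal.map_pow, hKI]
        refine hI.le.trans ?_
        rw [Ideal.map_le_iff_le_comap]
        intro k hk
        rw [Ideal.mem_comap, RingHom.mem_ker, RingHom.comp_apply, hkey s k]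
        have : Ideal.Quotient.mk (K ^ (n + 1)) k = 0 := Ideal.Quotient.eq_zero_iff_mem.2 hk
        rw [this, map_zero]
      exact fun a ha => this ha
    refine ⟨⟨hw⟩, ⟨Limits.PushoutCocone.IsColimit.mk hw
      (fun s => CommRingCat.ofHom (Ideal.Quotient.lift (I ^ (n + 1))
        (s.inl.hom.comp (Ideal.Quotient.mk (I ^ (n + 2)))) (hker s))) ?_ ?_ ?_⟩⟩
    · intro s
      apply CommRingCat.hom_ext
      apply Ideal.Quotient.ringHom_ext
      apply RingHom.ext
      intro a
      rfl
    · intro s
      apply CommRingCat.hom_ext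
      apply Ideal.Quotient.ringHom_ext
      apply RingHom.ext
      intro b
      exact hkey s b
    · intro s m hm₁ hm₂
      apply CommRingCat.hom_ext
      apply Ideal.Quotient.ringHom_ext
      apply RingHom.ext
      intro a
      have h1 := congrArg (fun g => g.hom (Ideal.Quotient.mk (I ^ (n + 2)) a)) hm₁
      exact h1

end Groth.Agent.S3867
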