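import Groth.Statements.S3869
import Mathlib

set_option autoImplicit false
universe u
open FCompl

namespace Groth.Agent.S3869

section General
variable {S T : Type u} [CommRing S] [CommRing T]

theorem evalₐ_complMap (I : Ideal S) (K : Ideal T) (g : S →+* T) (h : I.map g ≤ K) (n : ℕ)
    (x : AdicCompletion I S) :
    AdicCompletion.evalₐ K n (FSch.complMap I K g h x) =
      Ideal.quotientMap (K ^ n) g (FSch.pow_le_comap_pow_of_map_le I K g h n)
        (AdicCompletion.evalₐ I n x) := by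
  unfold FSch.complMap
  generalize_proofs
  rename_i hf _ _ _
  rw [AdicCompletion.evalₐ_liftRingHom K _ hf]
  rfl

/-- complMap is functorial. -/
theorem complMap_comp {U : Type u} [CommRing U] (I : Ideal S) (K : Ideal T) (L : Ideal U)
    (g : S →+* T) (g' : T →+* U)
    (h : I.map g ≤ K) (h' : K.map g' ≤ L) (h'' : I.map (g'.comp g) ≤ L) (x : AdicCompletion I S) :
    FSch.complMap K L g' h' (FSch.complMap I K g h x) = FSch.complMap I L (g'.comp g) h'' x := by
  apply AdicCompletion.ext_evalₐ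
  intro n
  rw [evalₐ_complMap, evalₐ_complMap, evalₐ_complMap]
  obtain ⟨s, hs⟩ := Ideal.Quotient.mk_surjective (AdicCompletion.evalₐ I n x)
  rw [← hs]
  simp [Ideal.quotientMap_mk]

theorem evalₐ_factor (I : Ideal S) (x : AdicCompletion I S) {m n : ℕ} (hmn : m ≤ n) :
    Ideal.Quotient.factorPow I hmn (AdicCompletion.evalₐ I n x) = AdicCompletion.evalₐ I m x := by
  obtain ⟨y, rfl⟩ := AdicCompletion.mk_surjective I S x
  simp only [AdicCompletion.evalₐ_mk, Ideal.Quotient.factorPow, Ideal.Quotient.factor_mk]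
  rw [Ideal.Quotient.eq]
  have hy := y.2 hmn
  rw [SModEq.sub_mem] at hy
  simp only [smul_eq_mul, Ideal.mul_top] at hy
  rw [← neg_sub]; exact (I ^ m).neg_mem hy

theorem isUnit_evalₐ_of_isUnit_one (I : Ideal S) (x : AdicCompletion I S)
    (h : IsUnit (AdicCompletion.evalₐ I 1 x)) (n : ℕ) : IsUnit (AdicCompletion.evalₐ I n x) := by
  rcases Nat.eq_zero_or_pos n with rfl | hn
  · have : Subsingleton (S ⧸ I ^ 0) := by
      rw [Ideal.Quotient.subsingleton_iff]; simp
    exact isUnit_of_subsingleton _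
  · obtain ⟨a, ha⟩ := Ideal.Quotient.mk_surjective (AdicCompletion.evalₐ I n x)
    rw [← ha, Ideal.Quotient.isUnit_mk_pow_iff_isUnit_mk I hn.ne']
    have h1 := evalₐ_factor I x (show 1 ≤ n from hn)
    rw [← ha] at h1
    simp only [Ideal.Quotient.factorPow, Ideal.Quotient.factor_mk] at h1
    rw [← h1] at h
    rwa [← Ideal.Quotient.isUnit_mk_pow_iff_isUnit_mk I one_ne_zero]

theorem isUnit_of_isUnit_evalₐ_one (I : Ideal S) (x : AdicCompletion I S)
    (h : IsUnit (AdicCompletion.evalₐ I 1 x)) : IsUnit x := by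
  have hu := isUnit_evalₐ_of_isUnit_one I x h
  -- choose lifts of inverses
  have hex : ∀ n, ∃ c : S, AdicCompletion.evalₐ I n x * Ideal.Quotient.mk (I ^ n) c = 1 := by
    intro n
    obtain ⟨c, hc⟩ := Ideal.Quotient.mk_surjective ((hu n).unit⁻¹ : (S ⧸ I ^ n)ˣ).1
    exact ⟨c, by rw [hc]; exact (hu n).mul_val_inv⟩
  choose c hc using hex
  have hcau : AdicCompletion.IsAdicCauchy I S c := by
    intro m n hmn
    rw [SModEq.sub_mem]
    simp only [smul_eq_mul, Ideal.mul_top]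
    rw [← Ideal.Quotient.eq]
    have h1 := hc m
    have h2 := congrArg (Ideal.Quotient.factorPow I hmn) (hc n)
    rw [map_mul, evalₐ_factor, map_one] at h2
    simp only [Ideal.Quotient.factorPow, Ideal.Quotient.factor_mk] at h2
    -- inverse uniqueness
    calc Ideal.Quotient.mk (I ^ m) (c m)
        = Ideal.Quotient.mk (I ^ m) (c m) * (AdicCompletion.evalₐ I m x * Ideal.Quotient.mk (I ^ m) (c n)) := by
          rw [h2, mul_one]
      _ = (AdicCompletion.evalₐ I m x * Ideal.Quotient.mk (I ^ m) (c m)) * Ideal.Quotient.mk (I ^ m) (c n) := by ring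
      _ = Ideal.Quotient.mk (I ^ m) (c n) := by rw [h1, one_mul]
  refine IsUnit.of_mul_eq_one (AdicCompletion.mk I S ⟨c, hcau⟩) ?_
  apply AdicCompletion.ext_evalₐ
  intro n
  rw [map_mul, map_one, AdicCompletion.evalₐ_mk]
  exact hc n

end General


section Stalk

variable (A : Type u) [CommRing A] (J : Ideal A) (𝔭 : Ideal A) [𝔭.IsPrime]

theorem complMap_congr {S T : Type u} [CommRing S] [CommRing T] (I : Ideal S) (K : Ideal T)
    (g g' : S →+* T) (hgg' : g = g') (h : I.map g ≤ K) (h' : I.map g' ≤ K)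
    (x : AdicCompletion I S) :
    FSch.complMap I K g h x = FSch.complMap I K g' h' x := by
  subst hgg'; rfl

theorem Jp_le (hJ : J ≤ 𝔭) :
    J.map (algebraMap A (Localization.AtPrime 𝔭)) ≤
      IsLocalRing.maximalIdeal (Localization.AtPrime 𝔭) := by
  rw [← Localization.AtPrime.map_eq_maximalIdeal]
  exact Ideal.map_mono hJ

theorem isLocalRing_cAtPrime (hJ : J ≤ 𝔭) : IsLocalRing (FSch.cAtPrime A J 𝔭) := by
  set Jp := J.map (algebraMap A (Localization.AtPrime 𝔭)) with hJp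
  have hne : Jp ^ 1 ≠ ⊤ := by
    rw [pow_one]
    intro h
    have := Jp_le A J 𝔭 hJ
    rw [← hJp, h, top_le_iff] at this
    exact (IsLocalRing.maximalIdeal.isMaximal _).ne_top this
  haveI : Nontrivial (Localization.AtPrime 𝔭 ⧸ Jp ^ 1) := Ideal.Quotient.nontrivial_iff.mpr hne
  haveI : Nontrivial (FSch.cAtPrime A J 𝔭) :=
    (AdicCompletion.evalₐ Jp 1).toRingHom.domain_nontrivial
  haveI : IsLocalRing (Localization.AtPrime 𝔭 ⧸ Jp ^ 1) :=
    .of_surjective' _ Ideal.Quotient.mk_surjective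
  refine IsLocalRing.of_isUnit_or_isUnit_one_sub_self (fun x => ?_)
  rcases IsLocalRing.isUnit_or_isUnit_one_sub_self (AdicCompletion.evalₐ Jp 1 x) with h | h
  · exact Or.inl (isUnit_of_isUnit_evalₐ_one Jp x h)
  · refine Or.inr (isUnit_of_isUnit_evalₐ_one Jp (1 - x) ?_)
    rwa [map_sub, map_one]


theorem isUnit_left_away (f g : A) : IsUnit (algebraMap A (Localization.Away (f * g)) f) := by
  have h := IsLocalization.Away.algebraMap_isUnit (S := Localization.Away (f * g)) (f * g)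
  rw [map_mul] at h
  exact (IsUnit.mul_iff.mp h).1

theorem isUnit_right_away (f g : A) : IsUnit (algebraMap A (Localization.Away (f * g)) g) := by
  have h := IsLocalization.Away.algebraMap_isUnit (S := Localization.Away (f * g)) (f * g)
  rw [map_mul] at h
  exact (IsUnit.mul_iff.mp h).2

/-- `A_f → A_{fg}`. -/
noncomputable def trL (f g : A) : Localization.Away f →+* Localization.Away (f * g) :=
  IsLocalization.Away.lift f (g := algebraMap A (Localization.Away (f * g))) (isUnit_left_away A f g)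

/-- `A_g → A_{fg}`. -/
noncomputable def trR (f g : A) : Localization.Away g →+* Localization.Away (f * g) :=
  IsLocalization.Away.lift g (g := algebraMap A (Localization.Away (f * g))) (isUnit_right_away A f g)

@[simp] theorem trL_algebraMap (f g a : A) :
    trL A f g (algebraMap A _ a) = algebraMap A _ a := by
  simp [trL]

@[simp] theorem trR_algebraMap (f g a : A) :
    trR A f g (algebraMap A _ a) = algebraMap A _ a := by
  simp [trR]

@[simp] theorem awayToAtPrime_algebraMap (f : A) (hf : f ∉ 𝔭) (a : A) :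
    FSch.awayToAtPrime A 𝔭 f hf (algebraMap A _ a) = algebraMap A _ a := by
  simp [FSch.awayToAtPrime]

theorem map_trL_le (f g : A) :
    (J.map (algebraMap A (Localization.Away f))).map (trL A f g) ≤
      J.map (algebraMap A (Localization.Away (f * g))) := by
  rw [Ideal.map_map]
  apply le_of_eq
  congr 1
  ext a
  simp

theorem map_trR_le (f g : A) :
    (J.map (algebraMap A (Localization.Away g))).map (trR A f g) ≤
      J.map (algebraMap A (Localization.Away (f * g))) := by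
  rw [Ideal.map_map]
  apply le_of_eq
  congr 1
  ext a
  simp

theorem awayToAtPrime_comp_trL (f g : A) (hf : f ∉ 𝔭) (hfg : f * g ∉ 𝔭) :
    (FSch.awayToAtPrime A 𝔭 (f * g) hfg).comp (trL A f g) = FSch.awayToAtPrime A 𝔭 f hf := by
  apply IsLocalization.ringHom_ext (Submonoid.powers f)
  ext a
  simp

theorem awayToAtPrime_comp_trR (f g : A) (hg : g ∉ 𝔭) (hfg : f * g ∉ 𝔭) :
    (FSch.awayToAtPrime A 𝔭 (f * g) hfg).comp (trR A f g) = FSch.awayToAtPrime A 𝔭 g hg := by
  apply IsLocalization.ringHom_ext (Submonoid.powers g)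
  ext a
  simp

/-- `A_{f} → A_{fg}` on completions. -/
noncomputable def cTrL (f g : A) : FSch.cAway A J f →+* FSch.cAway A J (f * g) :=
  FSch.complMap _ _ (trL A f g) (map_trL_le A J f g)

/-- `A_{g} → A_{fg}` on completions. -/
noncomputable def cTrR (f g : A) : FSch.cAway A J g →+* FSch.cAway A J (f * g) :=
  FSch.complMap _ _ (trR A f g) (map_trR_le A J f g)

theorem cAwayToAtPrime_cTrL (f g : A) (hf : f ∉ 𝔭) (hfg : f * g ∉ 𝔭) (y : FSch.cAway A J f) :
    FSch.cAwayToAtPrime A J 𝔭 (f * g) hfg (cTrL A J f g y) = FSch.cAwayToAtPrime A J 𝔭 f hf y := by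
  unfold FSch.cAwayToAtPrime cTrL
  rw [complMap_comp (h'' := by
    rw [awayToAtPrime_comp_trL A 𝔭 f g hf hfg]; exact FSch.map_awayToAtPrime_le A J 𝔭 f hf)]
  exact complMap_congr _ _ _ _ (awayToAtPrime_comp_trL A 𝔭 f g hf hfg) _ _ y

theorem cAwayToAtPrime_cTrR (f g : A) (hg : g ∉ 𝔭) (hfg : f * g ∉ 𝔭) (y : FSch.cAway A J g) :
    FSch.cAwayToAtPrime A J 𝔭 (f * g) hfg (cTrR A J f g y) = FSch.cAwayToAtPrime A J 𝔭 g hg y := by
  unfold FSch.cAwayToAtPrime cTrR
  rw [complMap_comp (h'' := by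
    rw [awayToAtPrime_comp_trR A 𝔭 f g hg hfg]; exact FSch.map_awayToAtPrime_le A J 𝔭 g hg)]
  exact complMap_congr _ _ _ _ (awayToAtPrime_comp_trR A 𝔭 f g hg hfg) _ _ y

theorem directed_ranges :
    Directed (· ≤ ·) (fun f : {f : A // f ∉ 𝔭} => (FSch.cAwayToAtPrime A J 𝔭 f.1 f.2).range) := by
  intro f g
  have hfg : f.1 * g.1 ∉ 𝔭 := fun h => (Ideal.IsPrime.mem_or_mem ‹_› h).elim f.2 g.2
  refine ⟨⟨f.1 * g.1, hfg⟩, ?_, ?_⟩
  · rintro _ ⟨y, rfl⟩
    exact ⟨cTrL A J f.1 g.1 y, cAwayToAtPrime_cTrL A J 𝔭 f.1 g.1 f.2 hfg y⟩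
  · rintro _ ⟨y, rfl⟩
    exact ⟨cTrR A J f.1 g.1 y, cAwayToAtPrime_cTrR A J 𝔭 f.1 g.1 g.2 hfg y⟩

theorem mem_stalkSubring_iff (x : FSch.cAtPrime A J 𝔭) :
    x ∈ FSch.stalkSubring A J 𝔭 ↔
      ∃ (f : A) (hf : f ∉ 𝔭) (y : FSch.cAway A J f), FSch.cAwayToAtPrime A J 𝔭 f hf y = x := by
  haveI : Nonempty {f : A // f ∉ 𝔭} := ⟨⟨1, fun h => (Ideal.IsPrime.ne_top ‹_›) ((Ideal.eq_top_iff_one _).mpr h)⟩⟩
  unfold FSch.stalkSubring
  rw [Subring.mem_iSup_of_directed (directed_ranges A J 𝔭)]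
  constructor
  · rintro ⟨f, y, hy⟩
    exact ⟨f.1, f.2, y, hy⟩
  · rintro ⟨f, hf, y, hy⟩
    exact ⟨⟨f, hf⟩, y, hy⟩


theorem exists_inv (hJ : J ≤ 𝔭) (f : A) (hf : f ∉ 𝔭) (y : FSch.cAway A J f)
    (hu : IsUnit (FSch.cAwayToAtPrime A J 𝔭 f hf y)) :
    ∃ z ∈ FSch.stalkSubring A J 𝔭, FSch.cAwayToAtPrime A J 𝔭 f hf y * z = 1 := by
  set Jf := J.map (algebraMap A (Localization.Away f)) with hJf
  set Jp := J.map (algebraMap A (Localization.AtPrime 𝔭)) with hJp
  obtain ⟨z, hz⟩ := Ideal.Quotient.mk_surjective (AdicCompletion.evalₐ Jf 1 y)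
  -- the image of z in A_𝔭 is a unit
  have h1 : IsUnit (Ideal.Quotient.mk (Jp ^ 1) (FSch.awayToAtPrime A 𝔭 f hf z)) := by
    have := hu.map (AdicCompletion.evalₐ Jp 1)
    unfold FSch.cAwayToAtPrime at this
    rw [evalₐ_complMap, ← hz, Ideal.quotientMap_mk] at this
    exact this
  have hloc : IsLocalHom (Ideal.Quotient.mk (Jp ^ 1)) := by
    apply isLocalHom_of_le_jacobson_bot
    rw [pow_one, IsLocalRing.jacobson_eq_maximalIdeal ⊥ bot_ne_top]
    exact Jp_le A J 𝔭 hJ
  have h2 : IsUnit (FSch.awayToAtPrime A 𝔭 f hf z) := hloc.map_nonunit _ h1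
  obtain ⟨⟨a, s⟩, has⟩ := IsLocalization.surj (Submonoid.powers f) z
  simp only at has
  have h3 : IsUnit (algebraMap A (Localization.AtPrime 𝔭) a) := by
    have := congrArg (FSch.awayToAtPrime A 𝔭 f hf) has
    rw [map_mul, awayToAtPrime_algebraMap, awayToAtPrime_algebraMap] at this
    rw [← this]
    refine h2.mul ?_
    obtain ⟨k, hk⟩ := s.2
    rw [← hk, map_pow]
    exact (IsLocalization.map_units (Localization.AtPrime 𝔭)
      ⟨f, show f ∈ 𝔭.primeCompl from hf⟩).pow k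
  have ha : a ∉ 𝔭 := (IsLocalization.AtPrime.isUnit_to_map_iff _ 𝔭 a).mp h3
  have hfa : f * a ∉ 𝔭 := fun h => (Ideal.IsPrime.mem_or_mem ‹_› h).elim hf ha
  have h4 : IsUnit (trL A f a z) := by
    have := congrArg (trL A f a) has
    rw [map_mul, trL_algebraMap, trL_algebraMap] at this
    have hu_a := isUnit_right_away A f a
    rw [← this] at hu_a
    exact (IsUnit.mul_iff.mp hu_a).1
  have h5 : IsUnit (cTrL A J f a y) := by
    apply isUnit_of_isUnit_evalₐ_one
    unfold cTrL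
    rw [evalₐ_complMap, ← hz, Ideal.quotientMap_mk]
    exact h4.map _
  obtain ⟨w, hw⟩ := h5.exists_right_inv
  refine ⟨FSch.cAwayToAtPrime A J 𝔭 (f * a) hfa w, ?_, ?_⟩
  · rw [mem_stalkSubring_iff]; exact ⟨_, hfa, w, rfl⟩
  · rw [← cAwayToAtPrime_cTrL A J 𝔭 f a hf hfa y, ← map_mul, hw, map_one]

theorem isLocalHom_subtype (hJ : J ≤ 𝔭) : IsLocalHom (FSch.stalkSubring A J 𝔭).subtype := by
  constructor
  intro x hx
  obtain ⟨f, hf, y, hy⟩ := (mem_stalkSubring_iff A J 𝔭 x.1).mp x.2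
  have hx' : IsUnit (FSch.cAwayToAtPrime A J 𝔭 f hf y) := by rw [hy]; exact hx
  obtain ⟨z, hz, hmul⟩ := exists_inv A J 𝔭 hJ f hf y hx'
  refine IsUnit.of_mul_eq_one ⟨z, hz⟩ ?_
  apply Subtype.ext
  rw [Subring.coe_mul, Subring.coe_one, ← hy]
  exact hmul

end Stalk



/-- For a ring A, an ideal J and a prime ideal 𝔭, let A{S⁻¹}, S = A ∖ 𝔭, be the completion of A_𝔭 for
the topology defined by the extension of J, and for f ∉ 𝔭 let A_{f} be the completion of A_f for the
topology defined by the extension of J. Consider the subring A_{S} of A{S⁻¹} generated by the images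
of all the A_{f}, f ∉ 𝔭 (when A is adic Noetherian and 𝔭 is open, this is the inductive limit of the
A_{f}, i.e. the stalk at 𝔭 of the structure sheaf of Spf(A) as a plain ring). If J ⊆ 𝔭, then A_{S}
is a local ring and its inclusion into A{S⁻¹} is a local homomorphism. -/
theorem result (A : Type u) [CommRing A] (J : Ideal A) (𝔭 : Ideal A) [𝔭.IsPrime]
    (hJ : J ≤ 𝔭) :
    IsLocalRing (FSch.stalkSubring A J 𝔭) ∧ IsLocalHom (FSch.stalkSubring A J 𝔭).subtype := by
  have h2 := isLocalHom_subtype A J 𝔭 hJ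
  haveI := isLocalRing_cAtPrime A J 𝔭 hJ
  exact ⟨RingHom.domain_isLocalRing (FSch.stalkSubring A J 𝔭).subtype, h2⟩

end Groth.Agent.S3869
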