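import Groth.Statements.S3872
import Groth.Agent.S3869
import Mathlib

set_option autoImplicit false
universe u
open FCompl

namespace Groth.Agent.S3872

variable (A : Type u) [CommRing A] (J : Ideal A) (𝔭 : Ideal A) [𝔭.IsPrime]

theorem complMap_algebraMap {S T : Type u} [CommRing S] [CommRing T] (I : Ideal S) (K : Ideal T)
    (g : S →+* T) (h : I.map g ≤ K) (s : S) :
    FSch.complMap I K g h (algebraMap S (AdicCompletion I S) s) =
      algebraMap T (AdicCompletion K T) (g s) := by
  apply AdicCompletion.ext_evalₐ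
  intro n
  rw [Groth.Agent.S3869.evalₐ_complMap]
  simp [Ideal.quotientMap_mk]

theorem algebraMap_mem_stalkSubring (r : Localization.AtPrime 𝔭) :
    algebraMap (Localization.AtPrime 𝔭) (FSch.cAtPrime A J 𝔭) r ∈ FSch.stalkSubring A J 𝔭 := by
  obtain ⟨a, s, rfl⟩ := IsLocalization.exists_mk'_eq 𝔭.primeCompl r
  have hs : (s : A) ∉ 𝔭 := s.2
  have hle : (FSch.cAwayToAtPrime A J 𝔭 s.1 hs).range ≤ FSch.stalkSubring A J 𝔭 :=
    le_iSup (fun f : {f : A // f ∉ 𝔭} => (FSch.cAwayToAtPrime A J 𝔭 f.1 f.2).range) ⟨s.1, hs⟩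
  apply hle
  refine ⟨algebraMap _ _ (IsLocalization.mk' (Localization.Away (s : A)) a
    (⟨s.1, Submonoid.mem_powers _⟩ : Submonoid.powers (s : A))), ?_⟩
  rw [FSch.cAwayToAtPrime, complMap_algebraMap]
  congr 1
  rw [FSch.awayToAtPrime, IsLocalization.Away.lift, IsLocalization.lift_mk'_spec]
  simp

/-- every element of the completion is congruent mod the maximal ideal to an element of `A_𝔭`. -/
theorem exists_sub_mem_maximalIdeal (hJ : J ≤ 𝔭) [IsLocalRing (FSch.cAtPrime A J 𝔭)]
    (x : FSch.cAtPrime A J 𝔭) :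
    ∃ r : Localization.AtPrime 𝔭,
      x - algebraMap (Localization.AtPrime 𝔭) (FSch.cAtPrime A J 𝔭) r ∈
        IsLocalRing.maximalIdeal (FSch.cAtPrime A J 𝔭) := by
  set I := J.map (algebraMap A (Localization.AtPrime 𝔭)) with hI
  obtain ⟨r, hr⟩ := Ideal.Quotient.mk_surjective (AdicCompletion.evalₐ I 1 x)
  refine ⟨r, ?_⟩
  rw [IsLocalRing.mem_maximalIdeal, mem_nonunits_iff]
  intro hu
  have h0 : AdicCompletion.evalₐ I 1 (x - algebraMap _ _ r) = 0 := by
    rw [map_sub, ← hr]
    simp
  have hu' := hu.map (AdicCompletion.evalₐ I 1)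
  rw [h0] at hu'
  have hsub : Subsingleton (Localization.AtPrime 𝔭 ⧸ I ^ 1) := by
    have := hu'
    rw [isUnit_zero_iff] at this
    exact subsingleton_of_zero_eq_one this
  rw [Ideal.Quotient.subsingleton_iff, pow_one] at hsub
  have hle : I ≤ IsLocalRing.maximalIdeal (Localization.AtPrime 𝔭) := by
    rw [hI, Ideal.map_le_iff_le_comap]
    have := IsLocalization.AtPrime.under_maximalIdeal (Localization.AtPrime 𝔭) 𝔭
    rw [Ideal.under_def] at this
    rw [this]
    exact hJ
  rw [hsub] at hle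
  exact (IsLocalRing.maximalIdeal.isMaximal _).ne_top (top_le_iff.mp hle)


/-- For a ring A, an ideal J and a prime ideal 𝔭 with J ⊆ 𝔭, let A{S⁻¹}, S = A ∖ 𝔭, be the completion of
A_𝔭 for the topology defined by the extension of J, and A_{S} the subring of A{S⁻¹} generated by the
images of the completed localizations A_{f}, f ∉ 𝔭 (the stalk ring of Spf(A) at 𝔭). Given that A_{S}
and A{S⁻¹} are local rings and that the inclusion A_{S} → A{S⁻¹} and the canonical map A_𝔭 → A{S⁻¹}
are local homomorphisms (all four are carried here as instance hypotheses; the two about A_{S} are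
stated separately), both maps induce bijections on residue fields; so the residue field of A_{S} is
the residue field κ(𝔭) of A_𝔭. -/
theorem result (A : Type u) [CommRing A] (J : Ideal A) (𝔭 : Ideal A)
    [𝔭.IsPrime] (hJ : J ≤ 𝔭) [IsLocalRing (FSch.stalkSubring A J 𝔭)] [IsLocalRing (FSch.cAtPrime A J 𝔭)]
    [IsLocalHom (FSch.stalkSubring A J 𝔭).subtype]
    [IsLocalHom (algebraMap (Localization.AtPrime 𝔭) (FSch.cAtPrime A J 𝔭))] :
    Function.Bijective (IsLocalRing.ResidueField.map (FSch.stalkSubring A J 𝔭).subtype) ∧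
      Function.Bijective
        (IsLocalRing.ResidueField.map (algebraMap (Localization.AtPrime 𝔭) (FSch.cAtPrime A J 𝔭))) := by
  have key : ∀ x : FSch.cAtPrime A J 𝔭, ∃ r : Localization.AtPrime 𝔭,
      IsLocalRing.residue _ x = IsLocalRing.residue _ (algebraMap _ (FSch.cAtPrime A J 𝔭) r) := by
    intro x
    obtain ⟨r, hr⟩ := exists_sub_mem_maximalIdeal A J 𝔭 hJ x
    refine ⟨r, ?_⟩
    rw [← sub_eq_zero, ← map_sub, IsLocalRing.residue_eq_zero_iff]
    exact hr
  refine ⟨⟨RingHom.injective _, ?_⟩, ⟨RingHom.injective _, ?_⟩⟩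
  · intro y
    obtain ⟨x, rfl⟩ := IsLocalRing.residue_surjective y
    obtain ⟨r, hr⟩ := key x
    refine ⟨IsLocalRing.residue _ ⟨_, algebraMap_mem_stalkSubring A J 𝔭 r⟩, ?_⟩
    rw [IsLocalRing.ResidueField.map_residue, hr]
    rfl
  · intro y
    obtain ⟨x, rfl⟩ := IsLocalRing.residue_surjective y
    obtain ⟨r, hr⟩ := key x
    refine ⟨IsLocalRing.residue _ r, ?_⟩
    rw [IsLocalRing.ResidueField.map_residue, hr]

end Groth.Agent.S3872
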