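import Groth.Statements.S3873
-- import your own Groth.Agent.* helpers here
import Mathlib

set_option autoImplicit false
universe u
open FCompl

namespace Groth.Agent.S3873

section Helpers
open AlgebraicGeometry CategoryTheory Limits Scheme

theorem aux (A B : Type u) [CommRing A] [CommRing B] (φ : B →+* A) (𝔟 : Ideal B) :
    (FSch.idealSpec B 𝔟).comap (Spec.map (CommRingCat.ofHom φ)) = FSch.idealSpec A (𝔟.map φ) := by
  set f : Spec (CommRingCat.of A) ⟶ Spec (CommRingCat.of B) := Spec.map (CommRingCat.ofHom φ) with hf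
  set i : Spec (CommRingCat.of (B ⧸ 𝔟)) ⟶ Spec (CommRingCat.of B) :=
    Spec.map (CommRingCat.ofHom (Ideal.Quotient.mk 𝔟)) with hi
  set j : Spec (CommRingCat.of (A ⧸ 𝔟.map φ)) ⟶ Spec (CommRingCat.of A) :=
    Spec.map (CommRingCat.ofHom (Ideal.Quotient.mk (𝔟.map φ))) with hj
  change i.ker.comap f = j.ker
  haveI : IsClosedImmersion i :=
    IsClosedImmersion.spec_of_surjective _ Ideal.Quotient.mk_surjective
  apply le_antisymm
  · -- ≤ by the Galois connection
    rw [← IdealSheafData.le_map_iff_comap_le, IdealSheafData.map_ker]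
    let ψ : B ⧸ 𝔟 →+* A ⧸ 𝔟.map φ := Ideal.quotientMap _ φ Ideal.le_comap_map
    have hcomp : j ≫ f = Spec.map (CommRingCat.ofHom ψ) ≫ i := by
      rw [hj, hf, hi, ← Spec.map_comp, ← Spec.map_comp, ← CommRingCat.ofHom_comp,
        ← CommRingCat.ofHom_comp]
      congr 2
    rw [hcomp]
    exact Hom.le_ker_comp _ _
  · -- ≥
    rw [← IdealSheafData.ker_fst_of_isClosedImmersion, ker_of_isAffine j,
      ker_of_isAffine (pullback.fst f i)]
    apply IdealSheafData.le_of_isAffine
    simp only [IdealSheafData.ofIdealTop_ideal]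
    apply Ideal.map_mono
    intro x hx
    rw [RingHom.mem_ker] at hx ⊢
    -- transport to the ring `A`
    obtain ⟨a, rfl⟩ : ∃ a : A, (ΓSpecIso (CommRingCat.of A)).inv a = x :=
      ⟨(ΓSpecIso (CommRingCat.of A)).hom x, by simp⟩
    have ha : a ∈ 𝔟.map φ := by
      have h1 := congrArg (ΓSpecIso (CommRingCat.of (A ⧸ 𝔟.map φ))).hom hx
      rw [map_zero] at h1
      have h2 : (ΓSpecIso (CommRingCat.of (A ⧸ 𝔟.map φ))).hom
          (j.appTop ((ΓSpecIso (CommRingCat.of A)).inv a)) = Ideal.Quotient.mk (𝔟.map φ) a := by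
        have := ΓSpecIso_naturality (CommRingCat.ofHom (Ideal.Quotient.mk (𝔟.map φ)))
        have h3 := congrArg (fun g => g.hom ((ΓSpecIso (CommRingCat.of A)).inv a)) this
        simp only [CommRingCat.hom_comp, RingHom.coe_comp, Function.comp_apply,
          CommRingCat.hom_ofHom] at h3
        rw [hj]
        refine h3.trans ?_
        simp
      rw [h2] at h1
      exact Ideal.Quotient.eq_zero_iff_mem.mp h1
    let κ : Ideal A := RingHom.ker
      ((ΓSpecIso (CommRingCat.of A)).inv ≫ (pullback.fst f i).appTop).hom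
    suffices h : 𝔟.map φ ≤ κ by
      have := h ha
      rw [RingHom.mem_ker] at this
      simpa using this
    rw [Ideal.map_le_iff_le_comap]
    intro b hb
    rw [Ideal.mem_comap, RingHom.mem_ker]
    have e1 : (ΓSpecIso (CommRingCat.of A)).inv (φ b) =
        f.appTop ((ΓSpecIso (CommRingCat.of B)).inv b) := by
      have := ΓSpecIso_inv_naturality (CommRingCat.ofHom φ)
      have h3 := congrArg (fun g => g.hom b) this
      simp only [CommRingCat.hom_comp, RingHom.coe_comp, Function.comp_apply,
        CommRingCat.hom_ofHom] at h3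
      exact h3
    have e2 : i.appTop ((ΓSpecIso (CommRingCat.of B)).inv b) = 0 := by
      have := ΓSpecIso_inv_naturality (CommRingCat.ofHom (Ideal.Quotient.mk 𝔟))
      have h3 := congrArg (fun g => g.hom b) this
      have hb0 : Ideal.Quotient.mk 𝔟 b = 0 := Ideal.Quotient.eq_zero_iff_mem.mpr hb
      simp only [CommRingCat.hom_comp, RingHom.coe_comp, Function.comp_apply,
        CommRingCat.hom_ofHom, hb0, map_zero] at h3
      exact h3.symm
    have e3 : (pullback.fst f i).appTop (f.appTop ((ΓSpecIso (CommRingCat.of B)).inv b)) =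
        (pullback.snd f i).appTop (i.appTop ((ΓSpecIso (CommRingCat.of B)).inv b)) := by
      have hc : f.appTop ≫ (pullback.fst f i).appTop = i.appTop ≫ (pullback.snd f i).appTop := by
        rw [← Scheme.Hom.comp_appTop, ← Scheme.Hom.comp_appTop, pullback.condition]
      exact congrArg (fun g => g.hom ((ΓSpecIso (CommRingCat.of B)).inv b)) hc
    change (pullback.fst f i).appTop ((ΓSpecIso (CommRingCat.of A)).inv (φ b)) = 0
    rw [e1, e3, e2, map_zero]

end Helpers

open AlgebraicGeometry in
/-- Its content on the affine schemes underlying the formal spectra: the inverse image ideal of b^Δ is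
(bA)^Δ, read on Spec: For a ring homomorphism φ : B -> A and an ideal b of B, the inverse image
along Spec(φ) of the ideal sheaf of b on Spec B is the ideal sheaf on Spec A of the ideal generated
by φ(b). -/
theorem result (A B : Type u) [CommRing A] [CommRing B] (φ : B →+* A) (𝔟 : Ideal B) :
    (FSch.idealSpec B 𝔟).comap (Spec.map (CommRingCat.ofHom φ)) = FSch.idealSpec A (𝔟.map φ) := by
  exact aux A B φ 𝔟

end Groth.Agent.S3873
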