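import Groth.Statements.S3874
import Mathlib

set_option autoImplicit false
universe u
open FCompl

namespace Groth.Agent.S3874

section
variable {B : Type u} [CommRing B] (I : Ideal B)

theorem ker_evalₐ (hI : I.FG) (n : ℕ) :
    RingHom.ker (AdicCompletion.evalₐ I n).toRingHom =
      (I.map (algebraMap B (AdicCompletion I B))) ^ n := by
  ext x
  have h := AdicCompletion.pow_smul_top_eq_ker_eval (I := I) (M := B) (n := n) hI
  rw [← Ideal.map_pow]
  have h2 : x ∈ (I ^ n • ⊤ : Submodule B (AdicCompletion I B)) ↔
      x ∈ (I ^ n).map (algebraMap B (AdicCompletion I B)) := by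
    rw [Ideal.smul_top_eq_map]; rfl
  rw [← h2, h]
  rw [RingHom.mem_ker, LinearMap.mem_ker]
  have hle : I ^ n ≤ I ^ n • ⊤ := by simp
  have hle' : (I ^ n • ⊤ : Ideal B) ≤ I ^ n := by simp
  constructor
  · intro hx
    rw [← AdicCompletion.factor_evalₐ_eq_eval I x hle]
    change Ideal.Quotient.factor hle (AdicCompletion.evalₐ I n x) = 0
    have : AdicCompletion.evalₐ I n x = 0 := hx
    rw [this, map_zero]
  · intro hx
    change AdicCompletion.evalₐ I n x = 0
    rw [← AdicCompletion.factor_eval_eq_evalₐ I x hle', hx, map_zero]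

/-- `B ⧸ I^n ≃ B̂ ⧸ (I B̂)^n` for finitely generated `I`. -/
noncomputable def quotEquiv (hI : I.FG) (n : ℕ) :
    (B ⧸ I ^ n) ≃+* (AdicCompletion I B ⧸ (I.map (algebraMap B (AdicCompletion I B))) ^ n) :=
  ((Ideal.quotEquivOfEq (ker_evalₐ I hI n).symm).trans
    (RingHom.quotientKerEquivOfSurjective
      (f := (AdicCompletion.evalₐ I n).toRingHom) (AdicCompletion.surjective_evalₐ I n))).symm

theorem quotEquiv_mk (hI : I.FG) (n : ℕ) (b : B) :
    quotEquiv I hI n (Ideal.Quotient.mk _ b) =
      Ideal.Quotient.mk _ (algebraMap B (AdicCompletion I B) b) := by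
  rw [quotEquiv, RingEquiv.symm_apply_eq]
  simp [RingHom.quotientKerEquivOfSurjective, RingHom.quotientKerEquivOfRightInverse]
  rfl

end


/-- Let A be a Noetherian ring, J an ideal, f ∈ A and n ≥ 0, and let A_{f} be the completion of the
localization A_f for the topology defined by the extension of J. There is a ring isomorphism from
the localization of A/J^(n+1) away from the class of f onto A_{f} modulo the (n+1)-st power of the
extension of J to A_{f}, compatible with the canonical maps from A (and hence unique). In terms of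
formal spectra: the open D(f) of Spf(A) is Spf(A_{f}), and at level n its ring is the ring
(A/J^(n+1))_f of the open D(f) of Spec(A/J^(n+1)). -/
theorem result (A : Type u) [CommRing A] [IsNoetherianRing A] (J : Ideal A)
    (f : A) (n : ℕ) :
    ∃ e : Localization.Away (Ideal.Quotient.mk (J ^ (n + 1)) f) ≃+*
        FSch.cAway A J f ⧸ (J.map (algebraMap A (FSch.cAway A J f))) ^ (n + 1),
      ∀ a : A, e (algebraMap (A ⧸ J ^ (n + 1)) _ (Ideal.Quotient.mk (J ^ (n + 1)) a)) =
        Ideal.Quotient.mk _ (algebraMap A (FSch.cAway A J f) a) := by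
  have hsub : Algebra.algebraMapSubmonoid (A ⧸ J ^ (n + 1)) (Submonoid.powers f) =
      Submonoid.powers (Ideal.Quotient.mk (J ^ (n + 1)) f) := by
    rw [Algebra.algebraMapSubmonoid, Submonoid.map_powers]; rfl
  have : IsLocalization.Away (Ideal.Quotient.mk (J ^ (n + 1)) f)
      (Localization.Away f ⧸ (J ^ (n + 1)).map (algebraMap A (Localization.Away f))) := by
    rw [IsLocalization.Away, ← hsub]; infer_instance
  let e1 : Localization.Away (Ideal.Quotient.mk (J ^ (n + 1)) f) ≃ₐ[A ⧸ J ^ (n + 1)]
      (Localization.Away f ⧸ (J ^ (n + 1)).map (algebraMap A (Localization.Away f))) :=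
    IsLocalization.algEquiv (Submonoid.powers (Ideal.Quotient.mk (J ^ (n + 1)) f)) _ _
  let e2 : (Localization.Away f ⧸ (J ^ (n + 1)).map (algebraMap A (Localization.Away f))) ≃+*
      (Localization.Away f ⧸ (J.map (algebraMap A (Localization.Away f))) ^ (n + 1)) :=
    Ideal.quotEquivOfEq (Ideal.map_pow _ _ _)
  have hfg : (J.map (algebraMap A (Localization.Away f))).FG :=
    (isNoetherianRing_iff_ideal_fg (Localization.Away f)).mp inferInstance _
  let e3 := quotEquiv (J.map (algebraMap A (Localization.Away f))) hfg (n + 1)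
  have hK : (J.map (algebraMap A (Localization.Away f))).map
      (algebraMap (Localization.Away f) (FSch.cAway A J f)) =
      J.map (algebraMap A (FSch.cAway A J f)) := by
    rw [Ideal.map_map, ← IsScalarTower.algebraMap_eq]
  let e4 : (FSch.cAway A J f ⧸ ((J.map (algebraMap A (Localization.Away f))).map
      (algebraMap (Localization.Away f) (FSch.cAway A J f))) ^ (n + 1)) ≃+*
      (FSch.cAway A J f ⧸ (J.map (algebraMap A (FSch.cAway A J f))) ^ (n + 1)) :=
    Ideal.quotEquivOfEq (by rw [hK])
  refine ⟨((e1.toRingEquiv.trans e2).trans e3).trans e4, ?_⟩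
  intro a
  simp only [RingEquiv.trans_apply, AlgEquiv.coe_ringEquiv, AlgEquiv.commutes]
  have h1 : algebraMap (A ⧸ J ^ (n + 1))
      (Localization.Away f ⧸ (J ^ (n + 1)).map (algebraMap A (Localization.Away f)))
      (Ideal.Quotient.mk (J ^ (n + 1)) a) =
      Ideal.Quotient.mk _ (algebraMap A (Localization.Away f) a) := rfl
  rw [h1]
  have h2 : e2 (Ideal.Quotient.mk _ (algebraMap A (Localization.Away f) a)) =
      Ideal.Quotient.mk _ (algebraMap A (Localization.Away f) a) :=
    Ideal.quotEquivOfEq_mk _ _
  rw [h2]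
  have h3 : e3 (Ideal.Quotient.mk _ (algebraMap A (Localization.Away f) a)) =
      Ideal.Quotient.mk _ (algebraMap (Localization.Away f) (FSch.cAway A J f)
        (algebraMap A (Localization.Away f) a)) :=
    quotEquiv_mk _ hfg (n + 1) _
  rw [h3]
  have h4 : e4 (Ideal.Quotient.mk _ (algebraMap (Localization.Away f) (FSch.cAway A J f)
        (algebraMap A (Localization.Away f) a))) =
      Ideal.Quotient.mk _ (algebraMap (Localization.Away f) (FSch.cAway A J f)
        (algebraMap A (Localization.Away f) a)) :=
    Ideal.quotEquivOfEq_mk _ _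
  rw [h4, ← IsScalarTower.algebraMap_apply]

end Groth.Agent.S3874
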