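import Groth.Statements.S3883
import Mathlib
import Groth.Agent.Lib.Helper23ShStalk
-- import your own Groth.Agent.* helpers here

set_option autoImplicit false
set_option backward.isDefEq.respectTransparency.types false
open CategoryTheory CategoryTheory.Limits AlgebraicGeometry Opposite
universe u
open EtDesc

namespace Groth.Agent.S3883

open Groth.Agent.Lib.Helper23.ShStalk Groth.Agent.Lib.Helper23.FinStalkA
  Groth.Agent.Lib.Helper23.FinStalkB Groth.Agent.Lib.Helper23.FinStalkE
  Groth.Agent.Lib.Helper16.SmallEtale Groth.Agent.Lib.LeadEtStalkT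

/-- the empty sieve covers an étale scheme with empty underlying space -/
lemma bot_mem_of_isEmpty {X : Scheme.{u}} (Z : X.Etale) [IsEmpty Z.left] :
    (⊥ : Sieve Z) ∈ X.smallEtaleTopology Z := by
  rw [mem_smallEtale_iff]
  intro x
  exact (IsEmpty.false x).elim

/-- the stalk of a presheaf of sets all of whose sections are unique is a singleton -/
lemma unique_stalk_of_unique_sections {X : Scheme.{u}} (P : X.Etaleᵒᵖ ⥤ Type (u + 1))
    (hP : ∀ W : X.Etale, Nonempty (Unique (P.obj (op W))))
    {Ω : Type u} [Field Ω] [IsSepClosed Ω] (ξ : Spec (CommRingCat.of Ω) ⟶ X) :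
    Nonempty (Unique ((Scheme.pointSmallEtale ξ).presheafFiber.obj P)) := by
  let Φ := Scheme.pointSmallEtale ξ
  let x₀ : Φ.fiber.obj (EtCoh.top X) := Over.homMk ξ (Category.comp_id _)
  obtain ⟨h0⟩ := hP (EtCoh.top X)
  refine ⟨{ default := Φ.toPresheafFiber (EtCoh.top X) x₀ P h0.default, uniq := ?_ }⟩
  intro a
  obtain ⟨V, v, z₁, z₂, rfl, h2⟩ := Φ.toPresheafFiber_jointly_surjective₂ (P := P) a
    (Φ.toPresheafFiber (EtCoh.top X) x₀ P h0.default)
  rw [← h2]
  obtain ⟨hV⟩ := hP V
  rw [hV.uniq z₁, hV.uniq z₂]


/-- Let i : Y -> X be a closed immersion and j : U -> X an open immersion whose image is the complement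
of the image of i. Then the direct image functor i_* on etale sheaves of sets is fully faithful, and
a sheaf of sets F on X is isomorphic to some i_* G if and only if j^* F is a final object. -/
theorem result {Y X U : Scheme.{u}} (i : Y ⟶ X)
    [IsClosedImmersion i] (j : U ⟶ X) [IsOpenImmersion j]
    (hU : Set.range j.base = (Set.range i.base)ᶜ) :
    (EtDesc.pushSh i).Full ∧ (EtDesc.pushSh i).Faithful ∧
    ∀ F : EtDesc.Sh X, (EtDesc.pushSh i).essImage F ↔ IsIso (terminal.from ((EtDesc.pullSh j).obj F)) := by
  haveI : IsIso (EtDesc.adjSh i).counit := by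
    haveI : ∀ G, IsIso ((EtDesc.adjSh i).counit.app G) := fun G => isIso_counitT_of_finite_mono i G
    exact NatIso.isIso_of_isIso_app _
  have hff := (EtDesc.adjSh i).fullyFaithfulROfIsIsoCounit
  refine ⟨hff.full, hff.faithful, ?_⟩
  have hdisj : ∀ (a : U) (b : Y), j a ≠ i b := by
    intro a b hab
    have h1 : j a ∈ Set.range j.base := ⟨a, rfl⟩
    rw [hU] at h1
    exact h1 ⟨b, hab.symm⟩
  let eL : EtDesc.pullSh j ≅ restrT j := Adjunction.leftAdjointUniq (EtDesc.adjSh j) (restrPushAdjT j)
  intro F
  constructor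
  · rintro ⟨G, ⟨e₀⟩⟩
    have hP : IsTerminal ((restrT j).obj ((EtDesc.pushSh i).obj G)) := by
      refine IsTerminal.isTerminalOfObj (sheafToPresheaf _ _) _ ?_
      refine Functor.isTerminal fun W => ?_
      haveI : IsEmpty ((EtCoh.bc i).obj ((EtShriek.compEtale j).obj W.unop)).left := by
        constructor
        intro p
        let p1 : W.unop.left := (pullback.fst (W.unop.hom ≫ j) i) p
        let p2 : Y := (pullback.snd (W.unop.hom ≫ j) i) p
        have h1 : (W.unop.hom ≫ j) p1 = i p2 := by
          have := congrArg (fun m : pullback (W.unop.hom ≫ j) i ⟶ X => m p)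
            (pullback.condition (f := W.unop.hom ≫ j) (g := i))
          simpa only [Scheme.Hom.comp_apply] using this
        rw [Scheme.Hom.comp_apply] at h1
        exact hdisj _ _ h1
      exact Sheaf.isTerminalOfBotCover G ((EtCoh.bc i).obj ((EtShriek.compEtale j).obj W.unop))
        (bot_mem_of_isEmpty _)
    have e : (EtDesc.pullSh j).obj F ≅ (restrT j).obj ((EtDesc.pushSh i).obj G) :=
      eL.app F ≪≫ (restrT j).mapIso e₀.symm
    exact isIso_of_isTerminal (hP.ofIso e.symm) terminalIsTerminal _
  · intro hT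
    suffices h : IsIso ((EtDesc.adjSh i).unit.app F) from
      ⟨(EtDesc.pullSh i).obj F, ⟨(asIso ((EtDesc.adjSh i).unit.app F)).symm⟩⟩
    apply isIso_of_stalks_algClosedT
    intro Ω _ _ η
    by_cases hη : η (default : Spec (CommRingCat.of Ω)) ∈ Set.range i.base
    · obtain ⟨c, hc'⟩ := hη
      obtain ⟨z, rfl, -⟩ := exists_geo_lift i η c hc'
      have hcomp : ∀ a, theta i (z ≫ i) z rfl ((EtDesc.pullSh i).obj F).obj
          ((Scheme.pointSmallEtale (z ≫ i)).presheafFiber.map ((EtDesc.adjSh i).unit.app F).hom a) =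
          (stalkPullIsoT i z).hom.app F a := stalk_unit_thetaT i F z
      have hθ := theta_bijective_of_mono i ((EtDesc.pullSh i).obj F) (z ≫ i) z rfl
      have h1 : Function.Bijective (fun a => theta i (z ≫ i) z rfl ((EtDesc.pullSh i).obj F).obj
          ((Scheme.pointSmallEtale (z ≫ i)).presheafFiber.map
            ((EtDesc.adjSh i).unit.app F).hom a)) := by
        have : (fun a => theta i (z ≫ i) z rfl ((EtDesc.pullSh i).obj F).obj
          ((Scheme.pointSmallEtale (z ≫ i)).presheafFiber.map
            ((EtDesc.adjSh i).unit.app F).hom a)) =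
          (fun a => (stalkPullIsoT i z).hom.app F a) := funext hcomp
        rw [this]
        exact ConcreteCategory.bijective_of_isIso ((stalkPullIsoT i z).hom.app F)
      exact (Function.Bijective.of_comp_iff' hθ _).1 h1
    · have hηU : η (default : Spec (CommRingCat.of Ω)) ∈ Set.range j.base := by
        rw [hU]; exact hη
      have hr : Set.range η.base ⊆ Set.range j.base := by
        rintro _ ⟨a, rfl⟩
        rw [Subsingleton.elim a default]
        exact hηU
      obtain ⟨u, rfl⟩ : ∃ u, u ≫ j = η :=
        ⟨IsOpenImmersion.lift j η hr, IsOpenImmersion.lift_fac _ _ _⟩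
      -- the source stalk is a singleton
      have hsrc : Nonempty (Unique ((Scheme.pointSmallEtale (u ≫ j)).presheafFiber.obj F.obj)) := by
        let T₀ : EtDesc.Sh U := Sheaf.terminal U.smallEtaleTopology Types.isTerminalPunit
        have e1 : (EtDesc.pullSh j).obj F ≅ T₀ :=
          (asIso (terminal.from ((EtDesc.pullSh j).obj F))) ≪≫
            (terminalIsTerminal.uniqueUpToIso (Sheaf.isTerminalTerminal _ _))
        obtain ⟨h0⟩ := unique_stalk_of_unique_sections T₀.obj
          (fun W => ⟨(inferInstance : Unique PUnit)⟩) u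
        let e2 : (Scheme.pointSmallEtale (u ≫ j)).presheafFiber.obj F.obj ≅
            (Scheme.pointSmallEtale u).presheafFiber.obj T₀.obj :=
          (stalkPullIsoT j u).app F ≪≫ (Scheme.pointSmallEtale u).sheafFiber.mapIso e1
        exact ⟨(e2.toEquiv).unique⟩
      -- the target stalk is a singleton
      have htgt : Nonempty (Unique ((Scheme.pointSmallEtale (u ≫ j)).presheafFiber.obj
          ((EtDesc.pushSh i).obj ((EtDesc.pullSh i).obj F)).obj)) := by
        have hb := theta_bijective i (u ≫ j) ((EtDesc.pullSh i).obj F).obj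
          ((isSheaf_iff_isSheaf_of_type _ _).1 ((EtDesc.pullSh i).obj F).property)
        haveI : IsEmpty {ξ : Spec (CommRingCat.of Ω) ⟶ Y // ξ ≫ i = u ≫ j} := by
          constructor
          rintro ⟨ζ, hζ⟩
          apply hη
          refine ⟨ζ default, ?_⟩
          rw [← hζ]
          rfl
        exact ⟨(Equiv.ofBijective _ hb).unique⟩
      obtain ⟨h1⟩ := hsrc
      obtain ⟨h2⟩ := htgt
      exact ⟨fun a b _ => (h1.uniq a).trans (h1.uniq b).symm,
        fun b => ⟨h1.default, (h2.uniq _).trans (h2.uniq b).symm⟩⟩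

end Groth.Agent.S3883
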