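import Groth.Statements.S3888
import Mathlib
import Groth.Agent.Lib.Helper23ShStalk
-- import your own Groth.Agent.* helpers here

set_option autoImplicit false
set_option backward.isDefEq.respectTransparency.types false
open CategoryTheory CategoryTheory.Limits AlgebraicGeometry Opposite
universe u
open EtDesc

namespace Groth.Agent.S3888

open Groth.Agent.Lib.Helper23.ShStalk

/-- Let f : X -> Y be an immersion of schemes. Then for every sheaf of sets F on the small etale site of
X the counit f^* f_* F -> F of the adjunction between inverse and direct image is an isomorphism. -/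
theorem result {X Y : Scheme.{u}} (f : X ⟶ Y) [IsImmersion f] (F : EtDesc.Sh X) :
    IsIso ((EtDesc.adjSh f).counit.app F) := by
  let i := f.liftCoborder
  let j := f.coborderRange.ι
  have hf : i ≫ j = f := f.liftCoborder_ι
  haveI : IsIso (EtDesc.adjSh i).counit := by
    haveI : ∀ G, IsIso ((EtDesc.adjSh i).counit.app G) := fun G => isIso_counitT_of_finite_mono i G
    exact NatIso.isIso_of_isIso_app _
  haveI : IsIso (EtDesc.adjSh j).counit := by
    haveI : ∀ G, IsIso ((EtDesc.adjSh j).counit.app G) := fun G => isIso_counitT_of_etale_mono j G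
    exact NatIso.isIso_of_isIso_app _
  have ffi := (EtDesc.adjSh i).fullyFaithfulROfIsIsoCounit
  have ffj := (EtDesc.adjSh j).fullyFaithfulROfIsIsoCounit
  have ff : (EtDesc.pushSh (i ≫ j)).FullyFaithful := (ffi.comp ffj).ofIso (EtDesc.pushCompSh j i)
  have ff' : (EtDesc.pushSh f).FullyFaithful := hf ▸ ff
  haveI := ff'.full
  haveI := ff'.faithful
  infer_instance

end Groth.Agent.S3888
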