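import Groth.Statements.S3894
import Mathlib.Tactic

set_option autoImplicit false
universe u
open CategoryTheory CategoryTheory.Limits Opposite
open Tors

namespace Groth.Agent.S3894

/-- A torsor P under an abelian sheaf G is trivial, i.e. equivariantly isomorphic to G acting on itself
by translations, if and only if P has a global section (a morphism from the final sheaf of sets). -/
theorem result {C : Type u} [SmallCategory C] {J : GrothendieckTopology C}
    {G : Sheaf J AddCommGrpCat.{u}} (T : Tors.Torsor G) : T.IsTrivial ↔ T.HasSection := by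
  constructor
  · rintro ⟨e, he⟩
    refine ⟨ObjectProperty.homMk
      { app := fun U => ↾(fun _ => e.hom.hom.app U (0 : G.obj.obj U))
        naturality := ?_ }⟩
    intro U V f
    ext x
    simp only [TypeCat.Fun.toFun_apply, types_comp_apply, TypeCat.ofHom_apply]
    have h1 := NatTrans.naturality_apply e.hom.hom f (0 : G.obj.obj U)
    rw [← h1]
    congr 1
    exact (map_zero (G.obj.map f).hom).symm
  · rintro ⟨σ⟩
    let Gs := (sheafCompose J (forget AddCommGrpCat.{u})).obj G
    let star : ∀ U : Cᵒᵖ, (⊤_ (Sheaf J (Type u))).obj.obj U :=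
      fun U => (terminal.from Gs).hom.app U (0 : G.obj.obj U)
    have hstar : ∀ {U V : Cᵒᵖ} (f : U ⟶ V),
        (⊤_ (Sheaf J (Type u))).obj.map f (star U) = star V := by
      intro U V f
      have h1 := NatTrans.naturality_apply (terminal.from Gs).hom f (0 : G.obj.obj U)
      rw [← h1]
      congr 1
      exact map_zero (G.obj.map f).hom
    let p : ∀ U : Cᵒᵖ, T.P.obj.obj U := fun U => σ.hom.app U (star U)
    have hp : ∀ {U V : Cᵒᵖ} (f : U ⟶ V), T.P.obj.map f (p U) = p V := by
      intro U V f
      have h1 := NatTrans.naturality_apply σ.hom f (star U)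
      rw [← h1, hstar]
    let eqv : ∀ U : Cᵒᵖ, G.obj.obj U ≃ T.P.obj.obj U := fun U =>
      { toFun := fun g => T.vadd g (p U)
        invFun := fun q => (T.free_transitive (p U) q).choose
        left_inv := fun g =>
          ((T.free_transitive (p U) (T.vadd g (p U))).choose_spec.2 g rfl).symm
        right_inv := fun q => (T.free_transitive (p U) q).choose_spec.1 }
    let φ : Gs.obj ≅ T.P.obj := NatIso.ofComponents (fun U => Equiv.toIso (eqv U)) (by
      intro U V f
      ext g
      change T.vadd ((G.obj.map f).hom g) (p V) = T.P.obj.map f (T.vadd g (p U))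
      rw [T.map_vadd, hp])
    refine ⟨(fullyFaithfulSheafToPresheaf J (Type u)).preimageIso (X := Gs) (Y := T.P) φ, ?_⟩
    intro U g h
    have h1 : ((fullyFaithfulSheafToPresheaf J (Type u)).preimageIso (X := Gs) (Y := T.P) φ).hom.hom = φ.hom := by
      exact (fullyFaithfulSheafToPresheaf J (Type u)).map_preimage (X := Gs) (Y := T.P) φ.hom
    rw [h1]
    change T.vadd (g + h) (p U) = T.vadd g (T.vadd h (p U))
    exact T.add_vadd g h (p U)

end Groth.Agent.S3894
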