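import Groth.Statements.S3895
import Groth.Agent.Lib.Helper21TorsF

set_option autoImplicit false
universe u
open CategoryTheory CategoryTheory.Limits Opposite
open Tors

namespace Groth.Agent.S3895

open Groth.Agent.Lib.Helper21.TorsB Groth.Agent.Lib.Helper21.TorsF

/-- the explicit terminal sheaf of sets -/
noncomputable abbrev T₀ {C : Type u} [SmallCategory C] (J : GrothendieckTopology C) : Sheaf J (Type u) :=
  Sheaf.terminal J Types.isTerminalPunit

theorem hasSection_iff {C : Type u} [SmallCategory C] {J : GrothendieckTopology C}
    (P : Sheaf J (Type u)) :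
    Nonempty (⊤_ (Sheaf J (Type u)) ⟶ P) ↔
      ∃ t : ∀ V : C, P.obj.obj (op V), ∀ ⦃V W : C⦄ (f : W ⟶ V), P.obj.map f.op (t V) = t W := by
  constructor
  · rintro ⟨a⟩
    let b : T₀ J ⟶ P := terminal.from (T₀ J) ≫ a
    refine ⟨fun V => b.hom.app (op V) PUnit.unit, fun V W f => ?_⟩
    have h := ConcreteCategory.congr_hom (b.hom.naturality f.op) PUnit.unit
    exact h.symm
  · rintro ⟨t, ht⟩
    let b : T₀ J ⟶ P :=
      ⟨{ app := fun V => ↾fun _ => t V.unop
         naturality := by
           intro V W f
           ext x
           exact (ht f.unop).symm }⟩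
    exact ⟨(Sheaf.isTerminalTerminal J Types.isTerminalPunit).from _ ≫ b⟩

/-- conversion of torsors -/
def toG {C : Type u} [SmallCategory C] {J : GrothendieckTopology C}
    {G : Sheaf J AddCommGrpCat.{u}} (T : Tors.Torsor G) : GTorsor.{u, u} G where
  P := T.P
  vadd := T.vadd
  zero_vadd := T.zero_vadd
  add_vadd := T.add_vadd
  map_vadd := T.map_vadd
  free_transitive := T.free_transitive
  locally_nonempty := T.locally_nonempty

def ofG {C : Type u} [SmallCategory C] {J : GrothendieckTopology C}
    {G : Sheaf J AddCommGrpCat.{u}} (T : GTorsor.{u, u} G) : Tors.Torsor G where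
  P := T.P
  vadd := T.vadd
  zero_vadd := T.zero_vadd
  add_vadd := T.add_vadd
  map_vadd := T.map_vadd
  free_transitive := T.free_transitive
  locally_nonempty := T.locally_nonempty

/-- In a map-free form (small site, abelian sheaf G): the first cohomology group H^1(G) (Ext^1 out of
the constant sheaf Z) is zero if and only if every G-torsor has a global section. The source's
statement is stronger: a canonical bijection between isomorphism classes of G-torsors and H^1(G). -/
theorem result {C : Type u} [SmallCategory C] {J : GrothendieckTopology C}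
    (G : Sheaf J AddCommGrpCat.{u}) :
    Subsingleton (Sheaf.H.{u} G 1) ↔ ∀ T : Tors.Torsor G, T.HasSection := by
  rw [subsingleton_H1_iff.{u, u, u} G]
  constructor
  · intro h T
    exact (hasSection_iff T.P).2 (h (toG T))
  · intro h T
    exact (hasSection_iff T.P).1 (h (ofG T))

end Groth.Agent.S3895
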