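import Groth.Statements.S3896
import Mathlib

set_option autoImplicit false
open CategoryTheory CategoryTheory.Limits AlgebraicGeometry Opposite
universe u
open EtDesc

namespace Groth.Agent.S3896
open CategoryTheory CategoryTheory.Limits AlgebraicGeometry Opposite

variable {X : Scheme.{u}}


/-- sections of `F` over `W` correspond to maps `repSh W ⟶ F`. -/
noncomputable def homEquiv (W : X.Etale) (F : EtDesc.Sh X) :
    (EtDesc.repSh W ⟶ F) ≃ F.obj.obj (op W) :=
  ((sheafificationAdjunction X.smallEtaleTopology (Type (u + 1))).homEquiv _ F).trans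
    (uliftYonedaEquiv.{u + 1} (X := W) (F := F.obj))

theorem subsingleton_of_mono (F : EtDesc.Sh X) (hF : Mono (terminal.from F)) (W : X.Etale) :
    Subsingleton (F.obj.obj (op W)) := by
  constructor
  intro s t
  have h : (homEquiv W F).symm s = (homEquiv W F).symm t := by
    rw [← cancel_mono (terminal.from F)]
    exact Subsingleton.elim _ _
  exact (homEquiv W F).symm.injective h

theorem mono_of_subsingleton (F : EtDesc.Sh X) (hF : ∀ W : X.Etale, Subsingleton (F.obj.obj (op W))) :
    Mono (terminal.from F) := by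
  constructor
  intro G a b _
  apply Sheaf.hom_ext
  ext W s
  exact (hF W.unop).elim _ _



theorem hom_ofOpen_subsingleton (U : X.Opens) (W : X.Etale) :
    Subsingleton (W ⟶ EtDesc.ofOpen U) := by
  constructor
  intro f g
  apply MorphismProperty.Over.Hom.ext
  have h1 : f.left ≫ U.ι = W.hom := CategoryTheory.Over.w f.hom
  have h2 : g.left ≫ U.ι = W.hom := CategoryTheory.Over.w g.hom
  exact (cancel_mono U.ι).mp (h1.trans h2.symm)

theorem mono_repSh_ofOpen (U : X.Opens) :
    Mono (terminal.from (EtDesc.repSh (EtDesc.ofOpen U))) := by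
  let P : X.Etaleᵒᵖ ⥤ Type (u + 1) := yoneda.obj (EtDesc.ofOpen U) ⋙ uliftFunctor.{u + 1, u}
  have hP : Mono (terminal.from P) := by
    haveI : ∀ W, Mono ((terminal.from P).app W) := by
      intro W
      rw [mono_iff_injective]
      intro a b _
      haveI := hom_ofOpen_subsingleton U W.unop
      exact ULift.ext _ _ (Subsingleton.elim _ _)
    exact NatTrans.mono_of_mono_app _
  let F := presheafToSheaf X.smallEtaleTopology (Type (u + 1))
  have h1 : Mono (F.map (terminal.from P)) := inferInstance
  have h2 : terminal.from (F.obj P) = F.map (terminal.from P) ≫ terminalComparison F :=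
    Subsingleton.elim _ _
  change Mono (terminal.from (F.obj P))
  rw [h2]
  infer_instance



/-- the representable presheaf, lifted. -/
noncomputable abbrev yP (W : X.Etale) : X.Etaleᵒᵖ ⥤ Type (u + 1) :=
  yoneda.obj W ⋙ uliftFunctor.{u + 1, u}

/-- a section of `repSh (ofOpen V)` over `W` forces `W` to map into `V`. -/
theorem range_subset_of_section (V : X.Opens) (W : X.Etale)
    (s : (EtDesc.repSh (EtDesc.ofOpen V)).obj.obj (op W)) :
    Set.range W.hom ⊆ (V : Set X) := by
  have hmem := Presheaf.imageSieve_mem X.smallEtaleTopology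
    (toSheafify X.smallEtaleTopology (yP (EtDesc.ofOpen V))) (U := op W) s
  obtain ⟨α, Z, f, hZ⟩ := (Presheaf.imageSieve (toSheafify X.smallEtaleTopology
    (yP (EtDesc.ofOpen V))) s).exists_eq_ofArrows
  rw [hZ, Scheme.ofArrows_mem_smallEtaleTopology_iff] at hmem
  rintro _ ⟨w, rfl⟩
  have hw : w ∈ ⋃ i, Set.range (f i).left := by rw [hmem]; trivial
  obtain ⟨i, z, rfl⟩ := Set.mem_iUnion.mp hw
  have hfi : Presheaf.imageSieve (toSheafify X.smallEtaleTopology (yP (EtDesc.ofOpen V))) s (f i) := by
    rw [hZ]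
    exact Sieve.ofArrows_mk _ _ i
  obtain ⟨t, -⟩ := hfi
  have m : Z i ⟶ EtDesc.ofOpen V := t.down
  have h1 : m.left ≫ V.ι = (Z i).hom := CategoryTheory.Over.w m.hom
  have h2 : (f i).left ≫ W.hom = (Z i).hom := CategoryTheory.Over.w (f i).hom
  have h3 : W.hom ((f i).left z) = V.ι (m.left z) := by
    have e1 : W.hom ((f i).left z) = ((f i).left ≫ W.hom) z := rfl
    have e2 : V.ι (m.left z) = (m.left ≫ V.ι) z := rfl
    rw [e1, e2, h1, h2]
  rw [h3]
  exact (m.left z).2



/-- the sieve of arrows over whose source `F` has a section. -/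
def secSieve (F : EtDesc.Sh X) (W : X.Etale) : Sieve W where
  arrows Y _ := Nonempty (F.obj.obj (op Y))
  downward_closed := by
    rintro Y Z g ⟨s⟩ h
    exact ⟨F.obj.map h.op s⟩

theorem nonempty_of_secSieve_mem (F : EtDesc.Sh X)
    (hF : ∀ W : X.Etale, Subsingleton (F.obj.obj (op W))) (W : X.Etale)
    (h : secSieve F W ∈ X.smallEtaleTopology W) : Nonempty (F.obj.obj (op W)) := by
  have hsh : Presieve.IsSheaf X.smallEtaleTopology F.obj :=
    (isSheaf_iff_isSheaf_of_type _ _).mp F.property
  have h1 := hsh (secSieve F W) h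
  let x : Presieve.FamilyOfElements F.obj (secSieve F W).arrows :=
    fun Y g hg => Classical.choice hg
  have hx : x.Compatible := by
    intro Y₁ Y₂ Z g₁ g₂ f₁ f₂ h₁ h₂ _
    exact (hF Z).elim _ _
  obtain ⟨t, -, -⟩ := h1 x hx
  exact ⟨t⟩

theorem nonempty_of_cover (F : EtDesc.Sh X)
    (hF : ∀ W : X.Etale, Subsingleton (F.obj.obj (op W))) (W : X.Etale)
    (h : ∀ w : W.left, ∃ V' : X.Etale, Nonempty (F.obj.obj (op V')) ∧
      ∃ v : V'.left, V'.hom v = W.hom w) : Nonempty (F.obj.obj (op W)) := by
  apply nonempty_of_secSieve_mem F hF W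
  choose V' hV' v hv using h
  let P : W.left → X.Etale := fun w =>
    Scheme.Etale.mk (pullback.fst W.hom (V' w).hom ≫ W.hom)
  let p1 : ∀ w, P w ⟶ W := fun w => MorphismProperty.Over.homMk (pullback.fst W.hom (V' w).hom) rfl trivial
  let p2 : ∀ w, P w ⟶ V' w := fun w =>
    MorphismProperty.Over.homMk (pullback.snd W.hom (V' w).hom) pullback.condition.symm trivial
  have hcov : Sieve.ofArrows P p1 ∈ X.smallEtaleTopology W := by
    rw [Scheme.ofArrows_mem_smallEtaleTopology_iff]
    ext w
    simp only [Set.mem_iUnion, Set.mem_range, Set.mem_univ, iff_true]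
    obtain ⟨z, hz1, hz2⟩ := Scheme.Pullback.exists_preimage_pullback w (v w) (hv w).symm
    exact ⟨w, z, hz1⟩
  refine X.smallEtaleTopology.superset_covering ?_ hcov
  rw [Sieve.ofArrows, Sieve.generate_le_iff]
  rintro Y g ⟨w⟩
  obtain ⟨s⟩ := hV' w
  exact ⟨F.obj.map (p2 w).op s⟩


/-- a morphism `W ⟶ ofOpen U` from `range W.hom ⊆ U`. -/
noncomputable def liftOfOpen (U : X.Opens) (W : X.Etale) (h : Set.range W.hom ⊆ (U : Set X)) :
    W ⟶ EtDesc.ofOpen U :=
  haveI : IsOpenImmersion U.ι := inferInstance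
  have h' : Set.range W.hom ⊆ Set.range U.ι := h.trans (Scheme.Opens.range_ι U).symm.subset
  let l : W.left ⟶ (U : Scheme.{u}) := IsOpenImmersion.lift U.ι W.hom h'
  have hl : l ≫ U.ι = W.hom := IsOpenImmersion.lift_fac _ _ _
  MorphismProperty.Over.homMk (Q := ⊤) l hl trivial

theorem eq_of_subterminal {F G : EtDesc.Sh X} (hG : Mono (terminal.from G)) (a b : F ⟶ G) : a = b := by
  rw [← cancel_mono (terminal.from G)]
  exact Subsingleton.elim _ _


/-- Let X be a scheme. Sending a Zariski open U of X to the etale sheaf of sets attached to the open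
immersion U -> X gives an isomorphism of ordered sets from the opens of X onto the subobjects of the
final object of the etale topos of X: (a) each such sheaf is a subobject of the final sheaf; (b) U ≤
V if and only if there is a morphism between the attached sheaves; (c) every subobject of the final
sheaf is isomorphic to the sheaf attached to some open. -/
theorem result (X : Scheme.{u}) :
    (∀ U : X.Opens, Mono (terminal.from (EtDesc.repSh (EtDesc.ofOpen U)))) ∧
    (∀ U V : X.Opens, U ≤ V ↔ Nonempty (EtDesc.repSh (EtDesc.ofOpen U) ⟶ EtDesc.repSh (EtDesc.ofOpen V))) ∧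
    (∀ F : EtDesc.Sh X, Mono (terminal.from F) → ∃ U : X.Opens, Nonempty (F ≅ EtDesc.repSh (EtDesc.ofOpen U))) := by
  refine ⟨mono_repSh_ofOpen, ?_, ?_⟩
  · intro U V
    constructor
    · intro h
      have hr : Set.range (EtDesc.ofOpen U).hom ⊆ (V : Set X) := by
        change Set.range U.ι ⊆ _
        rw [Scheme.Opens.range_ι]
        exact h
      let g := liftOfOpen V (EtDesc.ofOpen U) hr
      exact ⟨(homEquiv (EtDesc.ofOpen U) (EtDesc.repSh (EtDesc.ofOpen V))).symm
        ((toSheafify X.smallEtaleTopology (yP (EtDesc.ofOpen V))).app (op (EtDesc.ofOpen U)) ⟨g⟩)⟩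
    · rintro ⟨φ⟩
      have hr := range_subset_of_section V (EtDesc.ofOpen U)
        (homEquiv (EtDesc.ofOpen U) (EtDesc.repSh (EtDesc.ofOpen V)) φ)
      have hr' : Set.range U.ι ⊆ (V : Set X) := hr
      rw [Scheme.Opens.range_ι] at hr'
      exact hr'
  · intro F hF
    have hsub := subsingleton_of_mono F hF
    let Us : Set X := ⋃ (V' : X.Etale) (_ : Nonempty (F.obj.obj (op V'))), Set.range V'.hom
    have hUs : IsOpen Us := by
      refine isOpen_iUnion fun V' => isOpen_iUnion fun _ => ?_
      exact V'.hom.isOpenMap.isOpen_range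
    let U : X.Opens := ⟨Us, hUs⟩
    have hmem : ∀ W : X.Etale, Nonempty (F.obj.obj (op W)) → Set.range W.hom ⊆ (U : Set X) := by
      intro W hW x hx
      exact Set.mem_iUnion.mpr ⟨W, Set.mem_iUnion.mpr ⟨hW, hx⟩⟩
    have hne : Nonempty (F.obj.obj (op (EtDesc.ofOpen U))) := by
      apply nonempty_of_cover F hsub
      intro w
      have hw : (EtDesc.ofOpen U).hom w ∈ Us := by
        change U.ι w ∈ _
        exact w.2
      obtain ⟨V', hV'⟩ := Set.mem_iUnion.mp hw
      obtain ⟨hV'ne, v, hv⟩ := Set.mem_iUnion.mp hV'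
      exact ⟨V', hV'ne, v, hv⟩
    obtain ⟨s0⟩ := hne
    let α : EtDesc.repSh (EtDesc.ofOpen U) ⟶ F := (homEquiv (EtDesc.ofOpen U) F).symm s0
    have hsubU := subsingleton_of_mono _ (mono_repSh_ofOpen U)
    let β : F ⟶ EtDesc.repSh (EtDesc.ofOpen U) :=
      ⟨{ app := fun W => TypeCat.ofHom fun s =>
            (toSheafify X.smallEtaleTopology (yP (EtDesc.ofOpen U))).app W
              ⟨liftOfOpen U W.unop (hmem W.unop ⟨s⟩)⟩
         naturality := by
          intro W W' g
          ext s
          exact (hsubU W'.unop).elim _ _ }⟩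
    exact ⟨U, ⟨{ hom := β, inv := α, hom_inv_id := eq_of_subterminal hF _ _,
                 inv_hom_id := eq_of_subterminal (mono_repSh_ofOpen U) _ _ }⟩⟩

end Groth.Agent.S3896
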