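import Groth.Statements.S4024
import Groth.Agent.Lib.Helper19TangentForms
import Groth.Agent.Lib.Helper6Hopf12

set_option autoImplicit false
universe u
open LefPen
open MvPolynomial Groth.Agent.Lib.Helper19TangentForms

namespace Groth.Agent.S4024

variable (k : Type u) [Field k] {r : ℕ}

noncomputable def DdL (v : Fin (r + 1) → k) :
    MvPolynomial (Fin (r + 1)) k →ₗ[k] Module.Dual k (Fin (r + 1) → k) where
  toFun P := ∑ i, (aeval v (pderiv i P)) • (LinearMap.proj i : (Fin (r + 1) → k) →ₗ[k] k)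
  map_add' P Q := by simp [add_smul, Finset.sum_add_distrib]
  map_smul' a P := by simp [Finset.smul_sum, mul_smul]

theorem DdL_apply (v w : Fin (r + 1) → k) (P : MvPolynomial (Fin (r + 1)) k) :
    DdL k v P w = Dd P v w := by
  simp [DdL, Dd, mul_comm]

instance finite_form (d : ℕ) : Module.Finite k (LefPen.Form r k d) :=
  Groth.Agent.Lib.Helper6.Hopf.finite_homogeneousSubmodule k (r + 1) d

noncomputable def Psi (d : ℕ) (W₁ W₂ : Submodule k (Fin (r + 1) → k)) (v₁ v₂ : Fin (r + 1) → k) :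
    LefPen.Form r k d →ₗ[k] (k × Module.Dual k W₁) × (k × Module.Dual k W₂) :=
  LinearMap.prod
    (LinearMap.prod ((aeval v₁).toLinearMap ∘ₗ (CohB1.polyGrading r k d).subtype)
      (W₁.subtype.dualMap ∘ₗ DdL k v₁ ∘ₗ (CohB1.polyGrading r k d).subtype))
    (LinearMap.prod ((aeval v₂).toLinearMap ∘ₗ (CohB1.polyGrading r k d).subtype)
      (W₂.subtype.dualMap ∘ₗ DdL k v₂ ∘ₗ (CohB1.polyGrading r k d).subtype))

variable {k}

theorem Psi_11 (d : ℕ) (W₁ W₂ : Submodule k (Fin (r + 1) → k)) (v₁ v₂ : Fin (r + 1) → k)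
    (G : LefPen.Form r k d) : (Psi k d W₁ W₂ v₁ v₂ G).1.1 = aeval v₁ G.1 := rfl

theorem Psi_21 (d : ℕ) (W₁ W₂ : Submodule k (Fin (r + 1) → k)) (v₁ v₂ : Fin (r + 1) → k)
    (G : LefPen.Form r k d) : (Psi k d W₁ W₂ v₁ v₂ G).2.1 = aeval v₂ G.1 := rfl

theorem Psi_12 (d : ℕ) (W₁ W₂ : Submodule k (Fin (r + 1) → k)) (v₁ v₂ : Fin (r + 1) → k)
    (G : LefPen.Form r k d) (w : W₁) : (Psi k d W₁ W₂ v₁ v₂ G).1.2 w = Dd G.1 v₁ w.1 :=
  DdL_apply k v₁ w.1 G.1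

theorem Psi_22 (d : ℕ) (W₁ W₂ : Submodule k (Fin (r + 1) → k)) (v₁ v₂ : Fin (r + 1) → k)
    (G : LefPen.Form r k d) (w : W₂) : (Psi k d W₁ W₂ v₁ v₂ G).2.2 w = Dd G.1 v₂ w.1 :=
  DdL_apply k v₂ w.1 G.1

theorem tangLin_eq_zero_iff {d : ℕ} (W : Submodule k (Fin (r + 1) → k)) (v : Fin (r + 1) → k)
    (G : LefPen.Form r k d) :
    LefPen.tangLin k W v G = 0 ↔ aeval v G.1 = 0 ∧ ∀ w : W, Dd G.1 v w.1 = 0 := by
  rw [Prod.ext_iff]
  constructor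
  · rintro ⟨h1, h2⟩
    refine ⟨h1, fun w => ?_⟩
    have := congrFun h2 w
    simpa [LefPen.tangLin, Dd] using this
  · rintro ⟨h1, h2⟩
    refine ⟨h1, funext fun w => ?_⟩
    have := h2 w
    simpa [LefPen.tangLin, Dd] using this

theorem ker_Psi (d : ℕ) (W₁ W₂ : Submodule k (Fin (r + 1) → k)) (v₁ v₂ : Fin (r + 1) → k) :
    LinearMap.ker (Psi k d W₁ W₂ v₁ v₂) = LefPen.tangentForms k d W₁ v₁ W₂ v₂ := by
  ext G
  simp only [LinearMap.mem_ker, LefPen.tangentForms, Submodule.mem_inf, tangLin_eq_zero_iff]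
  rw [Prod.ext_iff, Prod.ext_iff, Prod.ext_iff]
  simp only [Psi_11, Psi_21, Prod.fst_zero, Prod.snd_zero, LinearMap.ext_iff, Psi_12, Psi_22,
    LinearMap.zero_apply]

theorem exists_dual_pair (v₁ v₂ : Fin (r + 1) → k) (hv : LinearIndependent k ![v₁, v₂]) :
    ∃ l1 l2 : Module.Dual k (Fin (r + 1) → k), l1 v₁ = 1 ∧ l1 v₂ = 0 ∧ l2 v₁ = 0 ∧ l2 v₂ = 1 := by
  have hpair := LinearIndependent.pair_iff.1 hv
  have hv2 : v₂ ∉ Submodule.span k {v₁} := by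
    intro hmem
    obtain ⟨s, hs⟩ := Submodule.mem_span_singleton.1 hmem
    have := hpair s (-1) (by rw [hs]; simp)
    have h2 := this.2
    simp at h2
  have hv1 : v₁ ∉ Submodule.span k {v₂} := by
    intro hmem
    obtain ⟨s, hs⟩ := Submodule.mem_span_singleton.1 hmem
    have := hpair (-1) s (by rw [hs]; simp)
    have h2 := this.1
    simp at h2
  obtain ⟨f2, hf2, hf2k⟩ := Submodule.exists_le_ker_of_notMem hv2
  obtain ⟨f1, hf1, hf1k⟩ := Submodule.exists_le_ker_of_notMem hv1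
  refine ⟨(f1 v₁)⁻¹ • f1, (f2 v₂)⁻¹ • f2, ?_, ?_, ?_, ?_⟩
  · simp [hf1]
  · have : f1 v₂ = 0 := hf1k (Submodule.mem_span_singleton_self v₂)
    simp [this]
  · have : f2 v₁ = 0 := hf2k (Submodule.mem_span_singleton_self v₁)
    simp [this]
  · simp [hf2]

theorem exists_special (W : Submodule k (Fin (r + 1) → k)) (v : Fin (r + 1) → k) (hv : v ∉ W) :
    ∃ l : Module.Dual k (Fin (r + 1) → k), l v = 1 ∧ ∀ w ∈ W, l w = 0 := by
  obtain ⟨g, hg, hgk⟩ := Submodule.exists_le_ker_of_notMem hv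
  refine ⟨(g v)⁻¹ • g, by simp [hg], fun w hw => ?_⟩
  have : g w = 0 := hgk hw
  simp [this]

theorem exists_form (d : ℕ) (hd : 2 ≤ d) (W₁ W₂ : Submodule k (Fin (r + 1) → k))
    (v₁ v₂ : Fin (r + 1) → k) (h₁ : v₁ ∈ W₁) (h₂ : v₂ ∈ W₂)
    (hv : LinearIndependent k ![v₁, v₂]) (a b : k) (φ ψ : Module.Dual k (Fin (r + 1) → k))
    (hφ : φ v₁ = (d : k) * a) (hψ : ψ v₂ = (d : k) * b)
    (hcase : 3 ≤ d ∨ ¬ (v₂ ∈ W₁ ∧ v₁ ∈ W₂) ∨ φ v₂ = ψ v₁) :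
    ∃ P : MvPolynomial (Fin (r + 1)) k, P.IsHomogeneous d ∧ aeval v₁ P = a ∧ aeval v₂ P = b ∧
      (∀ w ∈ W₁, Dd P v₁ w = φ w) ∧ (∀ w ∈ W₂, Dd P v₂ w = ψ w) := by
  obtain ⟨l1, l2, h11, h12, h21, h22⟩ := exists_dual_pair v₁ v₂ hv
  by_cases h3 : 3 ≤ d
  · obtain ⟨e, rfl⟩ : ∃ e, d = e + 3 := ⟨d - 3, by omega⟩
    obtain ⟨P, hP, q1, q2, q3, q4⟩ := exists_form_ge3 e v₁ v₂ (cv l1) (cv l2) (cv φ) (cv ψ) a b
      (by rw [dot_cv, h11]) (by rw [dot_cv, h12]) (by rw [dot_cv, h21]) (by rw [dot_cv, h22])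
      (by rw [dot_cv, hφ]) (by rw [dot_cv, hψ])
    exact ⟨P, hP, q1, q2, fun w _ => by rw [q3, dot_cv], fun w _ => by rw [q4, dot_cv]⟩
  · have hd2 : d = 2 := by omega
    subst hd2
    have hφ' : dot (cv φ) v₁ = 2 * a := by rw [dot_cv, hφ]; norm_num
    have hψ' : dot (cv ψ) v₂ = 2 * b := by rw [dot_cv, hψ]; norm_num
    by_cases hA : v₂ ∈ W₁
    · by_cases hB : v₁ ∈ W₂
      · have hc : φ v₂ = ψ v₁ := by
          rcases hcase with h | h | h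
          · omega
          · exact absurd ⟨hA, hB⟩ h
          · exact h
        obtain ⟨P, hP, q1, q2, q3, q4⟩ := exists_form_two v₁ v₂ (cv l1) (cv l2) (cv φ) (cv ψ)
          a b (φ v₂)
          (by rw [dot_cv, h11]) (by rw [dot_cv, h12]) (by rw [dot_cv, h21]) (by rw [dot_cv, h22])
          hφ' hψ'
        refine ⟨P, hP, q1, q2, fun w _ => ?_, fun w _ => ?_⟩
        · rw [q3, dot_cv, dot_cv, sub_self, zero_mul, add_zero]
        · rw [q4, dot_cv, dot_cv, hc, sub_self, zero_mul, add_zero]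
      · obtain ⟨l1', hl1, hl1W⟩ := exists_special W₂ v₁ hB
        obtain ⟨P, hP, q1, q2, q3, q4⟩ := exists_form_two v₁ v₂ (cv l1') (cv l2) (cv φ) (cv ψ)
          a b (φ v₂)
          (by rw [dot_cv, hl1]) (by rw [dot_cv, hl1W v₂ h₂]) (by rw [dot_cv, h21])
          (by rw [dot_cv, h22]) hφ' hψ'
        refine ⟨P, hP, q1, q2, fun w _ => ?_, fun w hw => ?_⟩
        · rw [q3, dot_cv, dot_cv, sub_self, zero_mul, add_zero]
        · rw [q4, dot_cv, dot_cv, dot_cv, hl1W w hw, mul_zero, add_zero]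
    · obtain ⟨l2', hl2, hl2W⟩ := exists_special W₁ v₂ hA
      obtain ⟨P, hP, q1, q2, q3, q4⟩ := exists_form_two v₁ v₂ (cv l1) (cv l2') (cv φ) (cv ψ)
        a b (ψ v₁)
        (by rw [dot_cv, h11]) (by rw [dot_cv, h12]) (by rw [dot_cv, hl2W v₁ h₁])
        (by rw [dot_cv, hl2]) hφ' hψ'
      refine ⟨P, hP, q1, q2, fun w hw => ?_, fun w _ => ?_⟩
      · rw [q3, dot_cv, dot_cv, dot_cv, hl2W w hw, mul_zero, add_zero]
      · rw [q4, dot_cv, dot_cv, sub_self, zero_mul, add_zero]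

/-- every admissible target is hit -/
theorem mem_range_Psi (d : ℕ) (hd : 2 ≤ d) (W₁ W₂ : Submodule k (Fin (r + 1) → k))
    (v₁ v₂ : Fin (r + 1) → k) (h₁ : v₁ ∈ W₁) (h₂ : v₂ ∈ W₂)
    (hv : LinearIndependent k ![v₁, v₂])
    (x : (k × Module.Dual k W₁) × (k × Module.Dual k W₂))
    (hx1 : x.1.2 ⟨v₁, h₁⟩ = (d : k) * x.1.1) (hx2 : x.2.2 ⟨v₂, h₂⟩ = (d : k) * x.2.1)
    (hcase : 3 ≤ d ∨ ¬ (v₂ ∈ W₁ ∧ v₁ ∈ W₂) ∨
      ∀ (hA : v₂ ∈ W₁) (hB : v₁ ∈ W₂), x.1.2 ⟨v₂, hA⟩ = x.2.2 ⟨v₁, hB⟩) :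
    x ∈ LinearMap.range (Psi k d W₁ W₂ v₁ v₂) := by
  obtain ⟨φ, hφ⟩ := LinearMap.exists_extend x.1.2
  obtain ⟨ψ, hψ⟩ := LinearMap.exists_extend x.2.2
  have hφw : ∀ w : W₁, φ w.1 = x.1.2 w := fun w => by rw [← hφ]; rfl
  have hψw : ∀ w : W₂, ψ w.1 = x.2.2 w := fun w => by rw [← hψ]; rfl
  have hcase' : 3 ≤ d ∨ ¬ (v₂ ∈ W₁ ∧ v₁ ∈ W₂) ∨ φ v₂ = ψ v₁ := by
    rcases hcase with h | h | h
    · exact Or.inl h
    · exact Or.inr (Or.inl h)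
    · by_cases hAB : v₂ ∈ W₁ ∧ v₁ ∈ W₂
      · right; right
        have := h hAB.1 hAB.2
        rw [← hφw ⟨v₂, hAB.1⟩, ← hψw ⟨v₁, hAB.2⟩] at this
        exact this
      · exact Or.inr (Or.inl hAB)
  obtain ⟨P, hP, q1, q2, q3, q4⟩ := exists_form d hd W₁ W₂ v₁ v₂ h₁ h₂ hv x.1.1 x.2.1 φ ψ
    (by rw [← hx1]; exact hφw ⟨v₁, h₁⟩) (by rw [← hx2]; exact hψw ⟨v₂, h₂⟩) hcase'
  refine ⟨⟨P, (mem_homogeneousSubmodule d P).2 hP⟩, ?_⟩
  refine Prod.ext (Prod.ext ?_ ?_) (Prod.ext ?_ ?_)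
  · rw [Psi_11]; exact q1
  · apply LinearMap.ext
    intro w
    rw [Psi_12, ← hφw]
    exact q3 w.1 w.2
  · rw [Psi_21]; exact q2
  · apply LinearMap.ext
    intro w
    rw [Psi_22, ← hψw]
    exact q4 w.1 w.2

variable (k)

noncomputable def Theta2 (d : ℕ) (W₁ W₂ : Submodule k (Fin (r + 1) → k)) (x₁ : W₁) (x₂ : W₂) :
    (k × Module.Dual k W₁) × (k × Module.Dual k W₂) →ₗ[k] k × k where
  toFun x := (x.1.2 x₁ - (d : k) * x.1.1, x.2.2 x₂ - (d : k) * x.2.1)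
  map_add' x y := by
    ext <;> simp <;> ring
  map_smul' c x := by
    ext <;> simp <;> ring

noncomputable def Theta3 (d : ℕ) (W₁ W₂ : Submodule k (Fin (r + 1) → k)) (x₁ y₁ : W₁)
    (x₂ y₂ : W₂) :
    (k × Module.Dual k W₁) × (k × Module.Dual k W₂) →ₗ[k] (k × k) × k where
  toFun x := ((x.1.2 x₁ - (d : k) * x.1.1, x.2.2 x₂ - (d : k) * x.2.1), x.1.2 y₁ - x.2.2 y₂)
  map_add' x y := by
    ext <;> simp <;> ring
  map_smul' c x := by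
    ext <;> simp <;> ring

variable {k}

theorem finrank_cod (W₁ W₂ : Submodule k (Fin (r + 1) → k)) :
    Module.finrank k ((k × Module.Dual k W₁) × (k × Module.Dual k W₂)) =
      2 + (Module.finrank k W₁ + Module.finrank k W₂) := by
  rw [Module.finrank_prod, Module.finrank_prod, Module.finrank_prod, Subspace.dual_finrank_eq,
    Subspace.dual_finrank_eq, Module.finrank_self]
  ring

theorem result (k : Type u) [Field k] (r d : ℕ) (hd : 2 ≤ d)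
    (W₁ W₂ : Submodule k (Fin (r + 1) → k)) (v₁ v₂ : Fin (r + 1) → k) (h₁ : v₁ ∈ W₁) (h₂ : v₂ ∈ W₂)
    (hv : LinearIndependent k ![v₁, v₂]) :
    ((3 ≤ d ∨ ¬ (v₂ ∈ W₁ ∧ v₁ ∈ W₂)) →
      Module.finrank k (LefPen.Form r k d) =
        Module.finrank k ↥(LefPen.tangentForms k d W₁ v₁ W₂ v₂) + (Module.finrank k ↥W₁ + Module.finrank k ↥W₂)) ∧
    ((d = 2 ∧ v₂ ∈ W₁ ∧ v₁ ∈ W₂) →
      Module.finrank k (LefPen.Form r k d) + 1 =
        Module.finrank k ↥(LefPen.tangentForms k d W₁ v₁ W₂ v₂) + (Module.finrank k ↥W₁ + Module.finrank k ↥W₂)) := by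
  classical
  have hker := ker_Psi d W₁ W₂ v₁ v₂
  have hrn := LinearMap.finrank_range_add_finrank_ker (Psi k d W₁ W₂ v₁ v₂)
  rw [hker] at hrn
  obtain ⟨l1, l2, h11, h12, h21, h22⟩ := exists_dual_pair v₁ v₂ hv
  have hhom : ∀ G : LefPen.Form r k d, G.1.IsHomogeneous d := fun G =>
    (mem_homogeneousSubmodule d G.1).1 G.2
  constructor
  · intro hc
    have hrange : LinearMap.range (Psi k d W₁ W₂ v₁ v₂) =
        LinearMap.ker (Theta2 k d W₁ W₂ ⟨v₁, h₁⟩ ⟨v₂, h₂⟩) := by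
      apply le_antisymm
      · rintro _ ⟨G, rfl⟩
        rw [LinearMap.mem_ker]
        show ((Psi k d W₁ W₂ v₁ v₂ G).1.2 ⟨v₁, h₁⟩ - (d : k) * (Psi k d W₁ W₂ v₁ v₂ G).1.1,
          (Psi k d W₁ W₂ v₁ v₂ G).2.2 ⟨v₂, h₂⟩ - (d : k) * (Psi k d W₁ W₂ v₁ v₂ G).2.1) = 0
        rw [Psi_12, Psi_22, Psi_11, Psi_21, Dd_euler (hhom G), Dd_euler (hhom G), sub_self,
          sub_self]
        rfl
      · intro x hx
        rw [LinearMap.mem_ker] at hx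
        have hx' : (x.1.2 ⟨v₁, h₁⟩ - (d : k) * x.1.1, x.2.2 ⟨v₂, h₂⟩ - (d : k) * x.2.1) = 0 := hx
        rw [Prod.mk_eq_zero, sub_eq_zero, sub_eq_zero] at hx'
        apply mem_range_Psi d hd W₁ W₂ v₁ v₂ h₁ h₂ hv x hx'.1 hx'.2
        rcases hc with h | h
        · exact Or.inl h
        · exact Or.inr (Or.inl h)
    have hsurj : Function.Surjective (Theta2 k d W₁ W₂ ⟨v₁, h₁⟩ ⟨v₂, h₂⟩) := by
      rintro ⟨s, t⟩
      refine ⟨((0, s • W₁.subtype.dualMap l1), (0, t • W₂.subtype.dualMap l2)), ?_⟩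
      show ((s • W₁.subtype.dualMap l1) ⟨v₁, h₁⟩ - (d : k) * 0,
        (t • W₂.subtype.dualMap l2) ⟨v₂, h₂⟩ - (d : k) * 0) = (s, t)
      simp [LinearMap.dualMap_apply, h11, h22]
    have h2 := LinearMap.finrank_range_add_finrank_ker (Theta2 k d W₁ W₂ ⟨v₁, h₁⟩ ⟨v₂, h₂⟩)
    rw [LinearMap.range_eq_top.2 hsurj, finrank_top, finrank_cod, ← hrange, Module.finrank_prod,
      Module.finrank_self] at h2
    omega
  · rintro ⟨rfl, hA, hB⟩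
    have hrange : LinearMap.range (Psi k 2 W₁ W₂ v₁ v₂) =
        LinearMap.ker (Theta3 k 2 W₁ W₂ ⟨v₁, h₁⟩ ⟨v₂, hA⟩ ⟨v₂, h₂⟩ ⟨v₁, hB⟩) := by
      apply le_antisymm
      · rintro _ ⟨G, rfl⟩
        rw [LinearMap.mem_ker]
        show (((Psi k 2 W₁ W₂ v₁ v₂ G).1.2 ⟨v₁, h₁⟩ - ((2 : ℕ) : k) * (Psi k 2 W₁ W₂ v₁ v₂ G).1.1,
          (Psi k 2 W₁ W₂ v₁ v₂ G).2.2 ⟨v₂, h₂⟩ - ((2 : ℕ) : k) * (Psi k 2 W₁ W₂ v₁ v₂ G).2.1),
          (Psi k 2 W₁ W₂ v₁ v₂ G).1.2 ⟨v₂, hA⟩ - (Psi k 2 W₁ W₂ v₁ v₂ G).2.2 ⟨v₁, hB⟩) = 0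
        rw [Psi_12, Psi_22, Psi_11, Psi_21, Psi_12, Psi_22, Dd_euler (hhom G),
          Dd_euler (hhom G), sub_self, sub_self, Dd_symm (hhom G) v₁ v₂, sub_self]
        rfl
      · intro x hx
        rw [LinearMap.mem_ker] at hx
        have hx' : ((x.1.2 ⟨v₁, h₁⟩ - ((2 : ℕ) : k) * x.1.1,
            x.2.2 ⟨v₂, h₂⟩ - ((2 : ℕ) : k) * x.2.1), x.1.2 ⟨v₂, hA⟩ - x.2.2 ⟨v₁, hB⟩) = 0 := hx
        rw [Prod.mk_eq_zero, Prod.mk_eq_zero, sub_eq_zero, sub_eq_zero, sub_eq_zero] at hx'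
        apply mem_range_Psi 2 hd W₁ W₂ v₁ v₂ h₁ h₂ hv x hx'.1.1 hx'.1.2
        right; right
        intro _ _
        exact hx'.2
    have hsurj : Function.Surjective
        (Theta3 k 2 W₁ W₂ ⟨v₁, h₁⟩ ⟨v₂, hA⟩ ⟨v₂, h₂⟩ ⟨v₁, hB⟩) := by
      rintro ⟨⟨s, t⟩, q⟩
      refine ⟨((0, s • W₁.subtype.dualMap l1 + q • W₁.subtype.dualMap l2),
        (0, t • W₂.subtype.dualMap l2)), ?_⟩
      show (((s • W₁.subtype.dualMap l1 + q • W₁.subtype.dualMap l2) ⟨v₁, h₁⟩ - ((2 : ℕ) : k) * 0,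
        (t • W₂.subtype.dualMap l2) ⟨v₂, h₂⟩ - ((2 : ℕ) : k) * 0),
        (s • W₁.subtype.dualMap l1 + q • W₁.subtype.dualMap l2) ⟨v₂, hA⟩ -
          (t • W₂.subtype.dualMap l2) ⟨v₁, hB⟩) = ((s, t), q)
      simp [LinearMap.dualMap_apply, h11, h22, h12, h21]
    have h2 := LinearMap.finrank_range_add_finrank_ker
      (Theta3 k 2 W₁ W₂ ⟨v₁, h₁⟩ ⟨v₂, hA⟩ ⟨v₂, h₂⟩ ⟨v₁, hB⟩)
    rw [LinearMap.range_eq_top.2 hsurj, finrank_top, finrank_cod, ← hrange, Module.finrank_prod,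
      Module.finrank_prod, Module.finrank_self] at h2
    omega

end Groth.Agent.S4024
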