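import Groth.Statements.S4027
import Mathlib.Algebra.MvPolynomial.NoZeroDivisors
import Mathlib.Algebra.MvPolynomial.Nilpotent
import Mathlib.RingTheory.Polynomial.GaussLemma
import Mathlib.RingTheory.Polynomial.UniqueFactorization
-- import your own Groth.Agent.* helpers here

set_option autoImplicit false
universe u v
open LefPen

namespace Groth.Agent.S4027

open MvPolynomial

variable {k : Type u} [Field k] {σ : Type v}

/-- substitution `X_j ↦ X_j * T` into `k[T][X]` -/
noncomputable def phi : MvPolynomial σ k →+* MvPolynomial σ (Polynomial k) :=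
  eval₂Hom (C.comp Polynomial.C) (fun j => X j * C Polynomial.X)

/-- setting `T = 1` -/
noncomputable def eps : MvPolynomial σ (Polynomial k) →+* MvPolynomial σ k :=
  MvPolynomial.map (Polynomial.evalRingHom 1)

lemma eps_phi (F : MvPolynomial σ k) : eps (phi F) = F := by
  have h : (eps.comp phi : MvPolynomial σ k →+* MvPolynomial σ k) = RingHom.id _ := by
    apply MvPolynomial.ringHom_ext
    · intro c; simp [eps, phi]
    · intro j; simp [eps, phi]
  exact DFunLike.congr_fun h F

lemma ev0_phi (F : MvPolynomial σ k) :
    MvPolynomial.eval (fun _ => (0 : Polynomial k)) (phi F)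
      = Polynomial.C (MvPolynomial.eval (fun _ => (0 : k)) F) := by
  have h : ((MvPolynomial.eval (fun _ => (0 : Polynomial k))).comp phi :
      MvPolynomial σ k →+* Polynomial k) =
      (Polynomial.C).comp (MvPolynomial.eval (fun _ => (0 : k))) := by
    apply MvPolynomial.ringHom_ext
    · intro c; simp [phi]
    · intro j; simp [phi]
  exact DFunLike.congr_fun h F

lemma totalDegree_phi_le (F : MvPolynomial σ k) : (phi F).totalDegree ≤ F.totalDegree := by
  conv_lhs => rw [F.as_sum]
  rw [map_sum]
  apply totalDegree_finsetSum_le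
  intro s hs
  rw [phi, coe_eval₂Hom, eval₂_monomial]
  refine (totalDegree_mul _ _).trans ?_
  simp only [RingHom.coe_comp, Function.comp_apply, totalDegree_C, zero_add]
  rw [Finsupp.prod]
  refine (totalDegree_finsetProd _ _).trans ?_
  refine le_trans ?_ (le_totalDegree hs)
  rw [Finsupp.sum]
  apply Finset.sum_le_sum
  intro i _
  refine (totalDegree_pow _ _).trans ?_
  have : (X i * C Polynomial.X : MvPolynomial σ (Polynomial k)).totalDegree ≤ 1 := by
    refine (totalDegree_mul _ _).trans ?_
    simp
  calc s i * _ ≤ s i * 1 := Nat.mul_le_mul_left _ this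
    _ = s i := mul_one _

lemma totalDegree_eps_le (B : MvPolynomial σ (Polynomial k)) :
    (eps B).totalDegree ≤ B.totalDegree := by
  unfold eps
  exact Finset.sup_mono (support_map_subset (Polynomial.evalRingHom 1) B)

lemma isUnit_of_eps {F : MvPolynomial σ k} (hF0 : MvPolynomial.eval (fun _ => (0 : k)) F ≠ 0)
    {A B : MvPolynomial σ (Polynomial k)} (h : phi F = A * B) (hA : IsUnit (eps A)) :
    IsUnit A := by
  have hFne : F ≠ 0 := by rintro rfl; simp at hF0
  have hG : phi F ≠ 0 := by
    intro h0
    apply hFne
    rw [← eps_phi F, h0, map_zero]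
  have hA0 : A ≠ 0 := by rintro rfl; simp at h; exact hG h
  have hB0 : B ≠ 0 := by rintro rfl; simp at h; exact hG h
  have hFAB : F = eps A * eps B := by rw [← map_mul, ← h, eps_phi]
  have hepsB : eps B ≠ 0 := by
    intro h0; rw [h0, mul_zero] at hFAB; exact hFne hFAB
  have hepsA : eps A ≠ 0 := hA.ne_zero
  have h1 : A.totalDegree + B.totalDegree = (phi F).totalDegree := by
    rw [h, totalDegree_mul_of_isDomain hA0 hB0]
  have h2 : F.totalDegree = (eps A).totalDegree + (eps B).totalDegree := by
    conv_lhs => rw [hFAB]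
    rw [totalDegree_mul_of_isDomain hepsA hepsB]
  have h3 : (eps A).totalDegree = 0 := (isUnit_iff_totalDegree_of_isReduced.1 hA).2
  have h4 := totalDegree_eps_le B
  have h5 := totalDegree_phi_le F
  have hA_deg : A.totalDegree = 0 := by omega
  rw [totalDegree_eq_zero_iff_eq_C] at hA_deg
  set a := A.coeff 0 with ha
  have h6 := ev0_phi F
  rw [h, map_mul, hA_deg, eval_C] at h6
  have ha_unit : IsUnit a := by
    apply isUnit_of_mul_isUnit_left (y := MvPolynomial.eval (fun _ => (0 : Polynomial k)) B)
    rw [h6]
    exact (Polynomial.isUnit_C).2 (isUnit_iff_ne_zero.2 hF0)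
  rw [hA_deg]
  exact ha_unit.map C

lemma irreducible_phi {F : MvPolynomial σ k} (hF : Irreducible F)
    (hF0 : MvPolynomial.eval (fun _ => (0 : k)) F ≠ 0) : Irreducible (phi F) := by
  refine ⟨?_, ?_⟩
  · intro hu
    apply hF.not_isUnit
    rw [← eps_phi F]
    exact hu.map eps
  · intro A B h
    have hFAB : F = eps A * eps B := by rw [← map_mul, ← h, eps_phi]
    rcases hF.isUnit_or_isUnit hFAB with hA | hB
    · exact Or.inl (isUnit_of_eps hF0 h hA)
    · exact Or.inr (isUnit_of_eps hF0 (by rw [h, mul_comm]) hB)

/-- the identification `k[T][X] ≃ k[X][T]` -/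
noncomputable def swapE : MvPolynomial σ (Polynomial k) ≃ₐ[k] Polynomial (MvPolynomial σ k) :=
  (optionEquivRight k σ).symm.trans (optionEquivLeft k σ)

lemma swapE_phi (F : MvPolynomial σ k) :
    swapE (phi F) = MvPolynomial.eval₂ (Polynomial.C.comp MvPolynomial.C)
        (fun j => Polynomial.C (MvPolynomial.X j) * Polynomial.X) F := by
  have h : ((swapE : MvPolynomial σ (Polynomial k) ≃ₐ[k] Polynomial (MvPolynomial σ k)) :
        MvPolynomial σ (Polynomial k) →+* Polynomial (MvPolynomial σ k)).comp phi =
      eval₂Hom (Polynomial.C.comp MvPolynomial.C)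
        (fun j => Polynomial.C (MvPolynomial.X j) * Polynomial.X) := by
    apply MvPolynomial.ringHom_ext
    · intro c
      have h1 : (optionEquivRight k σ).symm (C (Polynomial.C c)) = C c := by
        rw [AlgEquiv.symm_apply_eq, optionEquivRight_C]
      simp [phi, swapE, h1]
    · intro j
      have h1 : (optionEquivRight k σ).symm (X j) = X (some j) := by
        rw [AlgEquiv.symm_apply_eq, optionEquivRight_X_some]
      have h2 : (optionEquivRight k σ).symm (C Polynomial.X) = X none := by
        rw [AlgEquiv.symm_apply_eq, optionEquivRight_X_none]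
      simp [phi, swapE]
  exact DFunLike.congr_fun h F

lemma irreducible_G {F : MvPolynomial σ k} (hF : Irreducible F)
    (hF0 : MvPolynomial.eval (fun _ => (0 : k)) F ≠ 0) :
    Irreducible (MvPolynomial.eval₂ (Polynomial.C.comp MvPolynomial.C)
        (fun j => Polynomial.C (MvPolynomial.X j) * Polynomial.X) F) := by
  rw [← swapE_phi]
  exact (MulEquiv.irreducible_iff (swapE : MvPolynomial σ (Polynomial k) ≃ₐ[k] _)).2
    (irreducible_phi hF hF0)

lemma coeff_zero_G (F : MvPolynomial σ k) :
    Polynomial.eval 0 (MvPolynomial.eval₂ (Polynomial.C.comp MvPolynomial.C)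
        (fun j => Polynomial.C (MvPolynomial.X j) * Polynomial.X) F) =
      C (MvPolynomial.eval (fun _ => (0 : k)) F) := by
  have h : (Polynomial.evalRingHom (0 : MvPolynomial σ k)).comp
      (eval₂Hom (Polynomial.C.comp MvPolynomial.C)
        (fun j => Polynomial.C (MvPolynomial.X j) * Polynomial.X)) =
      (C).comp (MvPolynomial.eval (fun _ => (0 : k))) := by
    apply MvPolynomial.ringHom_ext
    · intro c; simp
    · intro j; simp
  exact DFunLike.congr_fun h F

lemma isPrimitive_G {F : MvPolynomial σ k}
    (hF0 : MvPolynomial.eval (fun _ => (0 : k)) F ≠ 0) :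
    (MvPolynomial.eval₂ (Polynomial.C.comp MvPolynomial.C)
        (fun j => Polynomial.C (MvPolynomial.X j) * Polynomial.X) F).IsPrimitive := by
  intro s hs
  have h1 : s ∣ C (MvPolynomial.eval (fun _ => (0 : k)) F) := by
    rw [← coeff_zero_G]
    have := map_dvd (Polynomial.evalRingHom (0 : MvPolynomial σ k)) hs
    simpa using this
  exact isUnit_of_dvd_unit h1 ((isUnit_iff_ne_zero.2 hF0).map C)


/-- Let k be an algebraically closed field, r ≥ 2, and F ∈ k[X_1, …, X_r] an irreducible polynomial with
F(0) ≠ 0 (in the source the origin is the base point of the lines considered and lies off the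
hypersurface F = 0; without this the claim fails, e.g. for X_1 - X_2^2). Then the polynomial G(T) =
F(X_1 T, …, X_r T), with coefficients in the field of rational functions k(X_1, …, X_r), is
irreducible. -/
theorem result (k : Type u) [Field k] [IsAlgClosed k] (r : ℕ) (hr : 2 ≤ r)
    (F : MvPolynomial (Fin r) k) (hF : Irreducible F) (hF0 : MvPolynomial.eval (fun _ => (0 : k)) F ≠ 0) :
    Irreducible ((MvPolynomial.eval₂ (Polynomial.C.comp MvPolynomial.C)
        (fun j => Polynomial.C (MvPolynomial.X j) * Polynomial.X) F).map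
      (algebraMap (MvPolynomial (Fin r) k) (FractionRing (MvPolynomial (Fin r) k)))) := by
  exact ((isPrimitive_G hF0).irreducible_iff_irreducible_map_fraction_map).1 (irreducible_G hF hF0)

end Groth.Agent.S4027
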