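import Groth.Statements.S4064
import Mathlib
import Groth.Agent.Lib.Helper21Ext1

set_option autoImplicit false
universe w v v'
open CategoryTheory CategoryTheory.Abelian
open SGA7

namespace Groth.Agent.S4064

theorem lift_of_shortExact {C : Type w} [Category.{v} C] [Abelian C] {X₁ X₂ X₃ : C} {f : X₁ ⟶ X₂} {g : X₂ ⟶ X₃} {w : f ≫ g = 0}
    (h : (ShortComplex.mk f g w).ShortExact) {W : C} (u : W ⟶ X₂) (hu : u ≫ g = 0) :
    ∃ v : W ⟶ X₁, v ≫ f = u := by
  have : Mono f := h.mono_f
  exact ⟨h.exact.lift u hu, h.exact.lift_f u hu⟩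

/-- Let P -> F -> R and R -> E -> Q be short exact sequences in an abelian category (F an extension of R
by P, E an extension of Q by R). A blended extension of E by F is an object X with a monomorphism i
: F -> X and an epimorphism p : X -> E such that P -> X -> E (via i) and F -> X -> Q (via p) are
short exact and F -> X -> E is the composite F -> R -> E. Such an X exists if and only if the
composite of the two extension classes, an element of Ext^2(Q, P), is zero. -/
theorem result {C : Type w} [Category.{v} C] [Abelian C]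
    [HasExt.{v'} C] {P F R E Q : C} (a : P ⟶ F) (b : F ⟶ R) (wF : a ≫ b = 0)
    (hF : (ShortComplex.mk a b wF).ShortExact) (c : R ⟶ E) (d : E ⟶ Q) (wE : c ≫ d = 0)
    (hE : (ShortComplex.mk c d wE).ShortExact) :
    (∃ (X : C) (i : F ⟶ X) (p : X ⟶ E), i ≫ p = b ≫ c ∧
        (∃ w : (a ≫ i) ≫ p = 0, (ShortComplex.mk (a ≫ i) p w).ShortExact) ∧
        (∃ w : i ≫ (p ≫ d) = 0, (ShortComplex.mk i (p ≫ d) w).ShortExact)) ↔
      hE.extClass.comp hF.extClass (rfl : 1 + 1 = 2) = 0 := by
  constructor
  · rintro ⟨X, i, p, hip, ⟨w1, h1⟩, ⟨w2, h2⟩⟩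
    let Φ : ShortComplex.mk a b wF ⟶ ShortComplex.mk (a ≫ i) p w1 :=
      { τ₁ := 𝟙 P, τ₂ := i, τ₃ := c, comm₁₂ := by simp, comm₂₃ := hip }
    have nat : hF.extClass.comp (Ext.mk₀ (𝟙 P)) (add_zero 1) =
        (Ext.mk₀ c).comp h1.extClass (zero_add 1) :=
      ShortComplex.ShortExact.extClass_naturality hF h1 Φ
    have e1 : hF.extClass = (Ext.mk₀ c).comp h1.extClass (zero_add 1) := by
      rw [← nat, Ext.comp_mk₀_id]
    rw [e1]
    exact hE.extClass_comp_assoc _
  · intro H
    obtain ⟨x, hx⟩ := Ext.contravariant_sequence_exact₁ hE P hF.extClass (rfl : 1 + 1 = 2) H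
    obtain ⟨X, j, p, w, hX, hcls⟩ := Groth.Agent.Lib.Helper21.Ext1.exists_extClass x
    obtain ⟨i, hi1, hip⟩ : ∃ i : F ⟶ X, a ≫ i = 𝟙 P ≫ j ∧ i ≫ p = b ≫ c :=
      Groth.Agent.Lib.Helper21.Ext1.exists_hom_of_extClass_comp_eq
        hF hX (𝟙 P) c (by rw [hcls, Ext.comp_mk₀_id]; exact hx.symm)
    have hj : a ≫ i = j := by simpa using hi1
    have : Mono j := hX.mono_f
    have : Epi p := hX.epi_g
    have : Mono a := hF.mono_f
    have : Epi b := hF.epi_g
    have : Mono c := hE.mono_f
    have : Epi d := hE.epi_g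
    refine ⟨X, i, p, hip, ?_, ?_⟩
    · subst hj
      exact ⟨w, hX⟩
    · have w2 : i ≫ (p ≫ d) = 0 := by
        rw [← Category.assoc, hip, Category.assoc, wE, Limits.comp_zero]
      refine ⟨w2, ?_⟩
      have hmono : Mono i := by
        constructor
        intro W u₁ u₂ h
        rw [← sub_eq_zero]
        have h0 : (u₁ - u₂) ≫ i = 0 := by rw [Preadditive.sub_comp, h, sub_self]
        set u := u₁ - u₂
        have h1 : u ≫ b = 0 := by
          rw [← cancel_mono c, Category.assoc, ← hip, ← Category.assoc, h0, Limits.zero_comp, Limits.zero_comp]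
        obtain ⟨v, hv⟩ := lift_of_shortExact hF u h1
        have h2 : v ≫ j = 0 := by
          rw [← hj, ← Category.assoc, hv, h0]
        have h3 : v = 0 := by
          rw [← cancel_mono j, h2, Limits.zero_comp]
        rw [← hv, h3, Limits.zero_comp]
      have hepi : Epi (p ≫ d) := epi_comp p d
      refine { exact := ?_ }
      rw [ShortComplex.exact_iff_exact_up_to_refinements]
      intro A u hu
      have hu' : (u ≫ p) ≫ d = 0 := by rw [Category.assoc]; exact hu
      obtain ⟨v, hv⟩ := lift_of_shortExact hE (u ≫ p) hu'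
      obtain ⟨A', π, hπ, y, hy⟩ := surjective_up_to_refinements_of_epi b v
      have h3 : (π ≫ u - y ≫ i) ≫ p = 0 := by
        rw [Preadditive.sub_comp, Category.assoc, ← hv, Category.assoc, hip, ← Category.assoc y,
          ← hy, Category.assoc, sub_self]
      obtain ⟨z, hz⟩ := lift_of_shortExact hX _ h3
      refine ⟨A', π, hπ, y + z ≫ a, ?_⟩
      show π ≫ u = (y + z ≫ a) ≫ i
      rw [Preadditive.add_comp, Category.assoc, hj, hz]
      abel

end Groth.Agent.S4064
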