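import Groth.Statements.S4087
import Mathlib
import Groth.Agent.Lib.Helper11QSecB

set_option autoImplicit false
universe u
open CategoryTheory MonoidalCategory CartesianMonoidalCategory MonObj GrpObj AlgebraicGeometry CategoryTheory.Limits
open GrpQ

namespace Groth.Agent.S4087

open Groth.Agent.Lib.Helper11.QSec


/-- Let (U, R, s, t, c) be a groupoid scheme over S and u : U' → U an immersion which is a
quasi-section: writing V = R ×_{t, U} U' for the arrows with target in U', the morphism V → U
induced by s is finite locally free and surjective, and every subset of U' whose points are pairwise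
equivalent (any two are the target and the source of one arrow) lies in an affine open of U'. Then
(t, s) has a coequalizer p : U → Y in schemes; p is surjective, open if t is open, universally
closed if t is; R → U ×_Y U is surjective; and if j = (t, s) is a monomorphism, R ≅ U ×_Y U, and p
is flat when t is flat. -/
theorem result (S : Scheme.{u}) (G : Grpd.GroupoidScheme S)
    (U' : Scheme.{u}) (u : U' ⟶ G.U) [IsImmersion u]
    (h1 : Mor2.IsFinLocFree (pullback.fst G.t u ≫ G.s) ∧ Surjective (pullback.fst G.t u ≫ G.s))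
    (h2 : ∀ E : Set U', (∀ x ∈ E, ∀ y ∈ E, ∃ r : G.R, G.t.base r = u.base x ∧ G.s.base r = u.base y) →
      ∃ W : U'.Opens, IsAffineOpen W ∧ E ⊆ (W : Set U')) :
    ∃ (Y : Scheme.{u}) (p : G.U ⟶ Y) (w : G.t ≫ p = G.s ≫ p),
      Nonempty (IsColimit (Cofork.ofπ p w)) ∧ Surjective p ∧
      (IsOpenMap G.t.base → IsOpenMap p.base) ∧ (UniversallyClosed G.t → UniversallyClosed p) ∧
      Function.Surjective (pullback.lift G.t G.s w).base ∧
      (Mono G.j → IsPullback G.t G.s p p ∧ (Flat G.t → Flat p)) := by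
  obtain ⟨⟨f1, f2, f3⟩, f4⟩ := h1
  haveI : IsFinite (σ G u) := f1
  haveI : Flat (σ G u) := f2
  haveI : LocallyOfFinitePresentation (σ G u) := f3
  haveI : Surjective (σ G u) := f4
  have ha' : Mor2.IsFinLocFree (pb G u).s :=
    ⟨inferInstanceAs (IsFinite (pullback.snd (σ G u) u)),
      inferInstanceAs (Flat (pullback.snd (σ G u) u)),
      inferInstanceAs (LocallyOfFinitePresentation (pullback.snd (σ G u) u))⟩
  have hb' : ∀ x : (pb G u).U, ∃ V : (pb G u).U.Opens, IsAffineOpen V ∧
      (pb G u).t.base '' ((pb G u).s.base ⁻¹' {x}) ⊆ (V : Set (pb G u).U) := by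
    intro x
    exact h2 _ (fun y₁ hy₁ y₂ hy₂ => orbit_rel G u x y₁ y₂ hy₁ hy₂)
  obtain ⟨Y, p', w', ⟨hc'⟩, hint, hsurj, hopen, -, hsl, -⟩ :=
    Groth.Agent.Lib.Helper11.Ffg.main S (pb G u) ha' hb'
  change U' ⟶ Y at p'
  change t' G u ≫ p' = s' G u ≫ p' at w'
  haveI i1 : Surjective p' := hsurj
  haveI i2 : IsIntegralHom p' := hint
  haveI i3 : UniversallyClosed p' := inferInstance
  refine ⟨Y, pq G u p' w', pq_w G u p' w', isColimit_pq G u p' w' hc', surjective_pq G u p' w',
    isOpenMap_pq G u p' w' hopen, fun _ => universallyClosed_pq G u p' w',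
    surjective_lift_pq G u p' w' hsl, fun hj => ?_⟩
  haveI := hj
  haveI : Mono (pb G u).j := mono_j_pb G u
  obtain ⟨hpb, g1, g2, g3⟩ :=
    Groth.Agent.Lib.Helper11.Ffg.main_eq2 (pb G u) ha' hb' Y p' w' hc'
  haveI i4 : Flat p' := g2
  exact ⟨isPullback_pq G u p' w' hpb, fun _ => flat_pq G u p' w'⟩

end Groth.Agent.S4087
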