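import Groth.Statements.S5939
import Mathlib

set_option autoImplicit false
universe u
open CategoryTheory AlgebraicGeometry
open Unram17

namespace Groth.Agent.S5939

theorem quasiCompact_of_comp_surjective {X Y Z : Scheme.{u}} (f : X ⟶ Y) (g : Y ⟶ Z)
    [Surjective f] [QuasiCompact (f ≫ g)] : QuasiCompact g := by
  constructor
  intro U hU hU'
  have h := QuasiCompact.isCompact_preimage (f := f ≫ g) U hU hU'
  have h2 : g ⁻¹' U = f '' ((f ≫ g) ⁻¹' U) := by
    ext y
    constructor
    · intro hy
      obtain ⟨x, rfl⟩ := f.surjective y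
      exact ⟨x, by simpa using hy, rfl⟩
    · rintro ⟨x, hx, rfl⟩
      simpa using hx
  rw [h2]
  exact h.image f.continuous

theorem quasiSeparatedSpace_of_surjective {X Y : Scheme.{u}} (f : X ⟶ Y)
    [Surjective f] [QuasiCompact f] [QuasiSeparatedSpace X] : QuasiSeparatedSpace Y := by
  rw [quasiSeparatedSpace_iff_forall_affineOpens]
  intro U V
  have hU : IsCompact (f ⁻¹' (U.1 : Set Y)) :=
    QuasiCompact.isCompact_preimage (f := f) _ U.1.2 U.2.isCompact
  have hV : IsCompact (f ⁻¹' (V.1 : Set Y)) :=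
    QuasiCompact.isCompact_preimage (f := f) _ V.1.2 V.2.isCompact
  have h := QuasiSeparatedSpace.inter_isCompact _ _ (U.1.2.preimage f.continuous) hU
    (V.1.2.preimage f.continuous) hV
  have h2 : ((U.1 : Set Y) ∩ (V.1 : Set Y)) =
      f '' (f ⁻¹' (U.1 : Set Y) ∩ f ⁻¹' (V.1 : Set Y)) := by
    rw [← Set.preimage_inter, Set.image_preimage_eq _ f.surjective]
  rw [h2]
  exact h.image f.continuous

theorem quasiSeparated_of_comp_surjective {X Y Z : Scheme.{u}} (f : X ⟶ Y) (g : Y ⟶ Z)
    [Surjective f] [QuasiCompact f] [QuasiSeparated (f ≫ g)] : QuasiSeparated g := by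
  rw [IsZariskiLocalAtTarget.iff_of_iSup_eq_top (P := @QuasiSeparated)
    (fun W : Z.affineOpens => W.1) (iSup_affineOpens_eq_top Z)]
  intro W
  haveI : IsAffine W.1.toScheme := W.2
  haveI : Surjective (f ∣_ (g ⁻¹ᵁ W.1)) :=
    IsZariskiLocalAtTarget.restrict (P := @Surjective) inferInstance _
  haveI : QuasiSeparated ((f ∣_ (g ⁻¹ᵁ W.1)) ≫ (g ∣_ W.1)) := by
    rw [← morphismRestrict_comp]
    exact IsZariskiLocalAtTarget.restrict (P := @QuasiSeparated) inferInstance _
  rw [quasiSeparated_iff_quasiSeparatedSpace]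
  have h3 : QuasiSeparatedSpace (f ⁻¹ᵁ (g ⁻¹ᵁ W.1)).toScheme :=
    (quasiSeparated_iff_quasiSeparatedSpace ((f ∣_ (g ⁻¹ᵁ W.1)) ≫ (g ∣_ W.1))).1 inferInstance
  exact quasiSeparatedSpace_of_surjective (f ∣_ (g ⁻¹ᵁ W.1))

/-- Let f : X ⟶ Y be faithfully flat, locally of finite presentation and quasi-compact, and let g : Y ⟶
Z be a morphism such that f ≫ g is of finite presentation (locally of finite presentation,
quasi-compact and quasi-separated). Then g is quasi-compact and quasi-separated; together with the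
descent of local finite presentation along f this says that g is of finite presentation. This is the
case f quasi-compact. -/
theorem result {X Y Z : Scheme.{u}} (f : X ⟶ Y) (g : Y ⟶ Z)
    [Surjective f] [Flat f] [LocallyOfFinitePresentation f] [QuasiCompact f]
    [LocallyOfFinitePresentation (f ≫ g)] [QuasiCompact (f ≫ g)] [QuasiSeparated (f ≫ g)] :
    QuasiCompact g ∧ QuasiSeparated g := by
  exact ⟨quasiCompact_of_comp_surjective f g, quasiSeparated_of_comp_surjective f g⟩

end Groth.Agent.S5939
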