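import Groth.Statements.S4101
import Mathlib
import Groth.Agent.Lib.Helper15EssFree

set_option autoImplicit false
universe u
open CategoryTheory MonoidalCategory CartesianMonoidalCategory MonObj GrpObj AlgebraicGeometry CategoryTheory.Limits
open SGA3

namespace Groth.Agent.S4101

/-- Let f : Z → S be essentially free (every point of S has an affine open neighbourhood U and a flat
surjective morphism S' → U from an affine scheme S' such that Z ×_S S' is covered by affine opens
whose rings of sections are projective Γ(S')-modules) and j : Y → Z a closed immersion. Then there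
is a closed immersion t : T → S such that a morphism g : S' → S factors through T exactly when the
closed immersion Y ×_Z Z_{S'} → Z_{S'} deduced from j by base change is an isomorphism; if moreover
Z is quasi-compact over S and j is of finite presentation, then t is of finite presentation. (The
published statement omits the quasi-compactness of Z over S in the last clause; it is stated here
with it.) -/
theorem result (S Z Y : Scheme.{u}) (f : Z ⟶ S)
    (hf : SGA3x.IsEssentiallyFree f) (j : Y ⟶ Z) [IsClosedImmersion j] :
    ∃ (T : Scheme.{u}) (t : T ⟶ S), IsClosedImmersion t ∧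
      (∀ (S' : Scheme.{u}) (g : S' ⟶ S),
        (∃ g' : S' ⟶ T, g' ≫ t = g) ↔ IsIso (pullback.snd j (pullback.fst f g))) ∧
      (QuasiCompact f → LocallyOfFinitePresentation j → LocallyOfFinitePresentation t) := by
  choose U hsU hU S' hS' g hgfl hgsu hcov using hf
  let 𝒰 : S.OpenCover :=
    { I₀ := S
      X := fun s => (U s).toScheme
      f := fun s => (U s).ι
      mem₀ := by
        rw [Scheme.ofArrows_mem_precoverage_iff]
        exact ⟨fun p => ⟨p, ⟨p, hsU p⟩, rfl⟩, fun s => inferInstance⟩ }
  have h1 : Presieve.ofArrows 𝒰.X 𝒰.f ∈ Scheme.fpqcPrecoverage S :=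
    Scheme.zariskiPrecoverage_le_fpqcPrecoverage _ 𝒰.mem₀
  have h2 : ∀ s, Presieve.ofArrows (fun _ : PUnit.{u+1} => S' s) (fun _ => g s) ∈
      Scheme.fpqcPrecoverage (𝒰.X s) := by
    intro s
    rw [Presieve.ofArrows_pUnit]
    have := hgfl s
    have := hgsu s
    have := hS' s
    have : IsAffine (U s).toScheme := hU s
    exact (g s).singleton_mem_fpqcPrecoverage
  have h3 := Precoverage.comp_mem_coverings (J := Scheme.fpqcPrecoverage.{u}) 𝒰.f h1
    (fun s _ => g s) h2
  let e₀ : Z ⟶ Limits.pullback f (𝟙 S) := Limits.pullback.lift (𝟙 Z) f (by simp)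
  have he₀ : e₀ ≫ Limits.pullback.fst f (𝟙 S) = 𝟙 Z := Limits.pullback.lift_fst _ _ _
  have : IsIso e₀ := ⟨Limits.pullback.fst f (𝟙 S), he₀, by
    apply Limits.pullback.hom_ext
    · rw [Category.assoc, he₀, Category.comp_id, Category.id_comp]
    · rw [Category.assoc, Limits.pullback.lift_snd, Category.id_comp, Limits.pullback.condition,
        Category.comp_id]⟩
  obtain ⟨T, t, ht, hT, hfp⟩ := Groth.Agent.Lib.Helper15FixEQ.exists_closed_fixE_fpqc f (𝟙 S)
    (j ≫ e₀) (fun p : Σ _ : S, PUnit.{u+1} => g p.1 ≫ (U p.1).ι) h3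
    (fun p => by
      have := hS' p.1
      exact Groth.Agent.Lib.Helper15EssFree.locProj_of_cover _ (hcov p.1))
  refine ⟨T, t, ht, ?_, ?_⟩
  · intro S'' q
    rw [Groth.Agent.Lib.Helper15EssFree.isIso_snd_iff, ← hT q q (Category.comp_id q)]
    have hpm1 : Groth.Agent.Lib.Helper11FixSch.pm f (𝟙 S) q q (Category.comp_id q) ≫
        Limits.pullback.fst f (𝟙 S) = Limits.pullback.fst f q := by
      simp [Groth.Agent.Lib.Helper11FixSch.pm, Limits.pullback.lift_fst]
    have hpm2 : Groth.Agent.Lib.Helper11FixSch.pm f (𝟙 S) q q (Category.comp_id q) ≫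
        Limits.pullback.snd f (𝟙 S) = Limits.pullback.snd f q ≫ q := by
      simp [Groth.Agent.Lib.Helper11FixSch.pm, Limits.pullback.lift_snd]
    constructor
    · rintro ⟨l, hl⟩
      refine ⟨l, ?_⟩
      have := congrArg (· ≫ Limits.pullback.fst f (𝟙 S)) hl
      simp only [Category.assoc, he₀, Category.comp_id] at this
      rw [this, hpm1]
    · rintro ⟨l, hl⟩
      refine ⟨l, ?_⟩
      rw [← Category.assoc, hl]
      apply Limits.pullback.hom_ext
      · rw [Category.assoc, he₀, Category.comp_id, hpm1]
      · rw [Category.assoc, Limits.pullback.lift_snd, hpm2, Limits.pullback.condition]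
  · intro hqc hj
    exact hfp hqc inferInstance

end Groth.Agent.S4101
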