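import Groth.Statements.S6640
import Mathlib
import Groth.Agent.Lib.Helper23ConstLC
import Groth.Agent.Lib.Helper16EtStalk
-- import your own Groth.Agent.* helpers here

set_option autoImplicit false
set_option backward.isDefEq.respectTransparency.types false
open CategoryTheory CategoryTheory.Limits AlgebraicGeometry Opposite
universe u
open EtCore

namespace Groth.Agent.S6640

open Groth.Agent.Lib.Helper23.ConstLC Groth.Agent.Lib.Helper21.TorsA Groth.Agent.Lib.Helper21.EtOpen
  Groth.Agent.Lib.Helper16.EtStalk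

variable {X : Scheme.{u}}

/-- maps of constant sheaves on constants -/
lemma constMap_cst {M N : Type} [AddCommGroup M] [AddCommGroup N]
    (h' : ULift.{u+1} M →+ ULift.{u+1} N) (V : X.Etale) (m : ULift.{u+1} M) :
    (((constantSheaf X.smallEtaleTopology AddCommGrpCat.{u+1}).map
        (AddCommGrpCat.ofHom h')).hom.app (op V)).hom
      (cst X.smallEtaleTopology (ULift.{u+1} M) V m) =
    cst X.smallEtaleTopology (ULift.{u+1} N) V (h' m) := by
  have h := toSheafify_naturality X.smallEtaleTopology
    ((Functor.const X.Etaleᵒᵖ).map (AddCommGrpCat.ofHom h'))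
  have h1 := NatTrans.congr_app h (op V)
  have h2 := ConcreteCategory.congr_hom h1 m
  exact h2.symm

/-- maps of constant sheaves are composition of functions -/
lemma fn_constToLC_map {M N : Type} [AddCommGroup M] [AddCommGroup N]
    (h' : ULift.{u+1} M →+ ULift.{u+1} N) (V : X.Etale) (t : (EtCoh.const X M).obj.obj (op V))
    (v : V.left) :
    fn (((constToLC X N).hom.app (op V)).hom
      ((((constantSheaf X.smallEtaleTopology AddCommGrpCat.{u+1}).map
        (AddCommGrpCat.ofHom h')).hom.app (op V)).hom t)) v =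
    (h' ⟨fn (((constToLC X M).hom.app (op V)).hom t) v⟩).down := by
  obtain ⟨S, hS, H⟩ := exists_cst_locally X.smallEtaleTopology t
  rw [mem_smallEtale_iff] at hS
  obtain ⟨W, f, w, hf, hw⟩ := hS v
  obtain ⟨m, hm⟩ := H f hf
  set κ := (constantSheaf X.smallEtaleTopology AddCommGrpCat.{u+1}).map (AddCommGrpCat.ofHom h')
  have e1 : fn (((constToLC X N).hom.app (op V)).hom ((κ.hom.app (op V)).hom t)) v =
      fn (res _ (lc X N) f (((constToLC X N).hom.app (op V)).hom ((κ.hom.app (op V)).hom t))) w := by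
    rw [fn_res]
    change _ = fn _ (f.left w)
    rw [hw]
  have e2 : fn (((constToLC X M).hom.app (op V)).hom t) v =
      fn (res _ (lc X M) f (((constToLC X M).hom.app (op V)).hom t)) w := by
    rw [fn_res]
    change _ = fn _ (f.left w)
    rw [hw]
  rw [e1, e2, res_map, res_map, res_map, ← hm, constMap_cst, constToLC_cst, constToLC_cst]
  rfl

/-- geometric points lift along étale morphisms to any point of the fibre -/
theorem exists_lift_etale {Ω : Type u} [Field Ω] [IsSepClosed Ω] (ξ : Spec (CommRingCat.of Ω) ⟶ X)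
    {V : Scheme.{u}} (g : V ⟶ X) [Etale g] (v : V) (hv : g v = ξ default) :
    ∃ ξ' : Spec (CommRingCat.of Ω) ⟶ V, ξ' ≫ g = ξ := by
  obtain ⟨⟨x, a⟩, rfl⟩ := (Scheme.SpecToEquivOfField Ω X).symm.surjective ξ
  have hx : g v = x := by
    rw [hv]
    simp [Scheme.SpecToEquivOfField]
  subst hx
  obtain ⟨β, hβ⟩ : ∃ β : V.residueField v ⟶ CommRingCat.of Ω, g.residueFieldMap v ≫ β = a := by
    algebraize [(g.residueFieldMap v).hom, a.hom]
    let b : V.residueField v →ₐ[X.residueField (g v)] Ω := IsSepClosed.lift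
    refine ⟨CommRingCat.ofHom b.toRingHom, ?_⟩
    ext1; exact b.comp_algebraMap
  refine ⟨Spec.map β ≫ V.fromSpecResidueField v, ?_⟩
  rw [Category.assoc, ← Scheme.Hom.SpecMap_residueFieldMap_fromSpecResidueField,
    ← Spec.map_comp_assoc, hβ]
  rfl


/-- monomorphisms of abelian étale sheaves are injective on sections -/
lemma injective_app_of_mono {F G : EtCoh.Ab X} (b : F ⟶ G) [Mono b] (V : X.Etale) :
    Function.Injective (b.hom.app (op V)).hom := by
  haveI : Mono b.hom := (Sheaf.Hom.mono_iff_presheaf_mono _ _ b).1 inferInstance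
  haveI : Mono (b.hom.app (op V)) := inferInstance
  exact (AddCommGrpCat.mono_iff_injective _).1 inferInstance

/-- isomorphisms of abelian étale sheaves are bijective on sections -/
lemma bijective_app_of_isIso {F G : EtCoh.Ab X} (b : F ⟶ G) [IsIso b] (V : X.Etale) :
    Function.Bijective (b.hom.app (op V)).hom := by
  haveI : IsIso b.hom := (inferInstance : IsIso ((sheafToPresheaf _ _).map b))
  haveI : IsIso (b.hom.app (op V)) := inferInstance
  exact (ConcreteCategory.isIso_iff_bijective _).1 inferInstance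


section main

variable [IrreducibleSpace ↥X]
    {Ω : Type u} [Field Ω] [IsSepClosed Ω] (ξ : Spec (CommRingCat.of Ω) ⟶ X)
    (hξ : ξ.base default = genericPoint ↥X)
    (A : Type) [AddCommGroup A] (A' : AddSubgroup A) (G : EtCoh.Ab X)
    (a : EtCoh.const X ↥A' ⟶ G) (b : G ⟶ EtCoh.const X A)
    (hab : a ≫ b = (constantSheaf X.smallEtaleTopology AddCommGrpCat.{u + 1}).map
      (AddCommGrpCat.ofHom (AddEquiv.ulift.symm.toAddMonoidHom.comp (A'.subtype.comp AddEquiv.ulift.toAddMonoidHom))))
    (hst : IsIso ((EtCoh.stalk ξ).map a))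

include hξ hab hst in
lemma values_mem (V : X.Etale) (s : G.obj.obj (op V)) (v : V.left) :
    (fn (((constToLC X A).hom.app (op V)).hom ((b.hom.app (op V)).hom s)) v : A) ∈ A' := by
  set β : C(V.left, Disc A) := fn (((constToLC X A).hom.app (op V)).hom ((b.hom.app (op V)).hom s))
    with hβ
  let V' : V.left.Opens := ⟨β ⁻¹' {β v}, (isOpen_discrete _).preimage β.continuous⟩
  have hvV' : v ∈ V' := rfl
  haveI : Etale V.hom := V.prop
  haveI : Etale (subObj V V').hom := (subObj V V').prop
  -- the image of V' in X contains the generic point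
  have hopen : IsOpen (Set.range (subObj V V').hom) := (subObj V V').hom.isOpenMap.isOpen_range
  have hgen : genericPoint ↥X ∈ Set.range (subObj V V').hom :=
    (genericPoint_specializes (α := ↥X) ((subObj V V').hom ⟨v, hvV'⟩)).mem_open hopen ⟨_, rfl⟩
  obtain ⟨v', hv'⟩ := hgen
  obtain ⟨ξ', hξ'⟩ := exists_lift_etale ξ (subObj V V').hom v' (hv'.trans hξ.symm)
  let Φ := Scheme.pointSmallEtale ξ
  let x' : Φ.fiber.obj (subObj V V') := Over.homMk ξ' hξ'
  obtain ⟨s', hs'⟩ : ∃ s' : G.obj.obj (op (subObj V V')), s' = res _ G (subObjι V V') s := ⟨_, rfl⟩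
  have hbij : Function.Bijective ((EtCoh.stalk ξ).map a) :=
    (ConcreteCategory.isIso_iff_bijective _).1 hst
  obtain ⟨σ, hσ⟩ := hbij.2 (Φ.toPresheafFiber (subObj V V') x' G.obj s')
  obtain ⟨U, u, t, rfl⟩ := Φ.toPresheafFiber_jointly_surjective (P := (EtCoh.const X ↥A').obj) σ
  have n1 : (EtCoh.stalk ξ).map a (Φ.toPresheafFiber U u (EtCoh.const X ↥A').obj t) =
      Φ.toPresheafFiber U u G.obj (a.hom.app (op U) t) :=
    Φ.toPresheafFiber_naturality_apply a.hom U u t
  let m : Φ.fiber.Elements := IsCofiltered.min (⟨U, u⟩ : Φ.fiber.Elements) ⟨subObj V V', x'⟩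
  let gU : m ⟶ ⟨U, u⟩ := IsCofiltered.minToLeft _ _
  let gV : m ⟶ ⟨subObj V V', x'⟩ := IsCofiltered.minToRight _ _
  have hgU : Φ.fiber.map gU.1 m.2 = u := gU.2
  have hgV : Φ.fiber.map gV.1 m.2 = x' := gV.2
  have e1 : Φ.toPresheafFiber m.1 m.2 G.obj (G.obj.map gV.1.op s') =
      Φ.toPresheafFiber m.1 m.2 G.obj (G.obj.map gU.1.op (a.hom.app (op U) t)) := by
    rw [Φ.toPresheafFiber_w_apply, Φ.toPresheafFiber_w_apply, hgU, hgV, ← hσ, n1]
  obtain ⟨W, g, w, hw, hg⟩ := (Φ.toPresheafFiber_eq_iff' m.1 m.2 _ _).mp e1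
  -- a point of W
  let w0 : W.left := (w.left : Spec (CommRingCat.of Ω) ⟶ W.left) (default : Spec (CommRingCat.of Ω))
  let f0 : W ⟶ subObj V V' := g ≫ gV.1
  let f1 : W ⟶ V := f0 ≫ subObjι V V'
  let f2 : W ⟶ U := g ≫ gU.1
  set T := res _ (EtCoh.const X ↥A') f2 t with hT
  have haT : (a.hom.app (op W)).hom T = res _ G f1 s := by
    rw [hT, ← res_map]
    change G.obj.map (g ≫ gU.1).op _ = G.obj.map ((g ≫ gV.1) ≫ subObjι V V').op s
    rw [op_comp, Functor.map_comp, ConcreteCategory.comp_apply, ← hg, hs']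
    change _ = G.obj.map ((g ≫ gV.1) ≫ subObjι V V').op s
    rw [op_comp, Functor.map_comp, ConcreteCategory.comp_apply, op_comp, Functor.map_comp,
      ConcreteCategory.comp_apply]
  have hb : (b.hom.app (op W)).hom (res _ G f1 s) =
      (((constantSheaf X.smallEtaleTopology AddCommGrpCat.{u + 1}).map
        (AddCommGrpCat.ofHom (AddEquiv.ulift.symm.toAddMonoidHom.comp
          (A'.subtype.comp AddEquiv.ulift.toAddMonoidHom)))).hom.app (op W)).hom T := by
    rw [← hab, ← haT]
    rfl
  have h1 : fn (((constToLC X A).hom.app (op W)).hom ((b.hom.app (op W)).hom (res _ G f1 s))) w0 =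
      β v := by
    rw [← res_map, ← res_map, fn_res]
    change β (f1.left w0) = β v
    have : (f0.left w0 : V'.toScheme).1 ∈ V' := (f0.left w0).2
    exact this
  rw [← h1, hb, fn_constToLC_map]
  exact (fn (((constToLC X ↥A').hom.app (op W)).hom T) w0 : A').2

end main


/-- Let X be an irreducible scheme, ξ a geometric point over its generic point, A' an additive subgroup
of an abelian group A, and G an abelian sheaf on the small etale site of X with monomorphisms a :
const A' ⟶ G and b : G ⟶ const A whose composite is the map of constant sheaves induced by the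
inclusion. If the stalk of a at ξ is an isomorphism, then a is an isomorphism. -/
theorem result {X : Scheme.{u}} [IrreducibleSpace ↥X]
    {Ω : Type u} [Field Ω] [IsSepClosed Ω] (ξ : Spec (CommRingCat.of Ω) ⟶ X)
    (hξ : ξ.base default = genericPoint ↥X)
    (A : Type) [AddCommGroup A] (A' : AddSubgroup A) (G : EtCoh.Ab X)
    (a : EtCoh.const X ↥A' ⟶ G) (b : G ⟶ EtCoh.const X A) [Mono a] [Mono b]
    (hab : a ≫ b = (constantSheaf X.smallEtaleTopology AddCommGrpCat.{u + 1}).map
      (AddCommGrpCat.ofHom (AddEquiv.ulift.symm.toAddMonoidHom.comp (A'.subtype.comp AddEquiv.ulift.toAddMonoidHom))))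
    (hst : IsIso ((EtCoh.stalk ξ).map a)) : IsIso a := by
  haveI : Sheaf.IsLocallySurjective a := by
    constructor
    intro V s
    rw [mem_smallEtale_iff]
    intro v
    have hmem := values_mem ξ hξ A A' G a b hab hst V s
    set β : C(V.left, Disc A) :=
      fn (((constToLC X A).hom.app (op V)).hom ((b.hom.app (op V)).hom s)) with hβ
    let β' : C(V.left, Disc ↥A') :=
      ⟨fun x => (⟨β x, hmem x⟩ : A'), by
        rw [continuous_discrete_rng]
        intro y
        have : (fun x => (⟨β x, hmem x⟩ : A')) ⁻¹' {y} = β ⁻¹' {(y.1 : A)} := by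
          ext x
          simp only [Set.mem_preimage, Set.mem_singleton_iff]
          exact Subtype.ext_iff
        exact this ▸ (isOpen_discrete _).preimage β.continuous⟩
    obtain ⟨t', ht'⟩ := (bijective_app_of_isIso (constToLC X ↥A') V).2 (ofFn β')
    refine ⟨V, 𝟙 V, v, ⟨t', ?_⟩, rfl⟩
    apply injective_app_of_mono b V
    apply (bijective_app_of_isIso (constToLC X A) V).1
    apply fn_injective
    ext x
    have e1 : (b.hom.app (op V)).hom ((a.hom.app (op V)).hom t') =
        (((constantSheaf X.smallEtaleTopology AddCommGrpCat.{u + 1}).map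
        (AddCommGrpCat.ofHom (AddEquiv.ulift.symm.toAddMonoidHom.comp
          (A'.subtype.comp AddEquiv.ulift.toAddMonoidHom)))).hom.app (op V)).hom t' := by
      rw [← hab]
      rfl
    have e2 : G.obj.map (𝟙 V).op s = s := by
      rw [op_id]
      exact ConcreteCategory.congr_hom (G.obj.map_id (op V)) s
    erw [e2]
    rw [e1, fn_constToLC_map, ht']
    rfl
  haveI : Epi a := Sheaf.epi_of_isLocallySurjective a
  exact isIso_of_mono_of_epi a

end Groth.Agent.S6640
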