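import Groth.Statements.S6654
import Mathlib
import Groth.Agent.S6640
-- import your own Groth.Agent.* helpers here

set_option autoImplicit false
set_option backward.isDefEq.respectTransparency.types false
open CategoryTheory CategoryTheory.Limits AlgebraicGeometry Opposite
universe u
open EtModW

namespace Groth.Agent.S6654

open Groth.Agent.Lib.Helper21.EtOpen

variable (Λ : Type (u + 1)) [CommRing Λ] {X : Scheme.{u}}

instance pfcMod : PreservesFilteredColimitsOfSize.{u, u} (forget (ModuleCat.{u + 1} Λ)) :=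
  preservesFilteredColimitsOfSize_shrink.{u, u + 1, u, u + 1} _

/-- the constant presheaf -/
noncomputable abbrev Kp (M : Type (u + 1)) [AddCommGroup M] [Module Λ M] :
    X.Etaleᵒᵖ ⥤ ModuleCat.{u + 1} Λ := (Functor.const _).obj (ModuleCat.of Λ M)

/-- constant sections -/
noncomputable def cst (M : Type (u + 1)) [AddCommGroup M] [Module Λ M] (V : X.Etale) (m : M) :
    (EtModW.constMod Λ X M).obj.obj (op V) :=
  ((toSheafify X.smallEtaleTopology (Kp Λ M)).app (op V)).hom m

lemma res_cst (M : Type (u + 1)) [AddCommGroup M] [Module Λ M] {V W : X.Etale} (f : W ⟶ V) (m : M) :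
    ((EtModW.constMod Λ X M).obj.map f.op).hom (cst Λ M V m) = cst Λ M W m := by
  have h := ConcreteCategory.congr_hom ((toSheafify X.smallEtaleTopology (Kp (X := X) Λ M)).naturality f.op) m
  exact h.symm

lemma exists_cst_locally (M : Type (u + 1)) [AddCommGroup M] [Module Λ M] {V : X.Etale}
    (s : (EtModW.constMod Λ X M).obj.obj (op V)) :
    ∃ S ∈ X.smallEtaleTopology V, ∀ ⦃W : X.Etale⦄ (f : W ⟶ V), S f →
      ∃ m : M, cst Λ M W m = ((EtModW.constMod Λ X M).obj.map f.op).hom s := by
  refine ⟨Presheaf.imageSieve (toSheafify X.smallEtaleTopology (Kp (X := X) Λ M)) s,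
    Presheaf.imageSieve_mem X.smallEtaleTopology (toSheafify X.smallEtaleTopology (Kp (X := X) Λ M)) s, ?_⟩
  intro W f hf
  obtain ⟨b, hb⟩ := hf
  exact ⟨b, hb⟩

lemma cst_eq_cst (M : Type (u + 1)) [AddCommGroup M] [Module Λ M] {V : X.Etale} (m m' : M)
    (h : cst Λ M V m = cst Λ M V m') : m = m' ∨ (⊥ : Sieve V) ∈ X.smallEtaleTopology V := by
  by_cases hb : m = m'
  · exact Or.inl hb
  · right
    have h1 := Presheaf.equalizerSieve_mem X.smallEtaleTopology
      (toSheafify X.smallEtaleTopology (Kp (X := X) Λ M)) (X := op V) m m' h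
    refine X.smallEtaleTopology.superset_covering ?_ h1
    intro W f hf
    exact (hb hf).elim

lemma constMap_cst {M N : Type (u + 1)} [AddCommGroup M] [Module Λ M] [AddCommGroup N] [Module Λ N]
    (h' : M →ₗ[Λ] N) (V : X.Etale) (m : M) :
    (((constantSheaf X.smallEtaleTopology (ModuleCat.{u+1} Λ)).map
        (ModuleCat.ofHom h')).hom.app (op V)).hom (cst Λ M V m) = cst Λ N V (h' m) := by
  have h := toSheafify_naturality X.smallEtaleTopology
    ((Functor.const X.Etaleᵒᵖ).map (ModuleCat.ofHom h'))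
  have h1 := NatTrans.congr_app h (op V)
  have h2 := ConcreteCategory.congr_hom h1 m
  exact h2.symm

lemma not_bot_mem (V : X.Etale) (v : V.left) : ¬ (⊥ : Sieve V) ∈ X.smallEtaleTopology V := by
  intro h
  rw [mem_smallEtale_iff] at h
  obtain ⟨W, f, w, hf, -⟩ := h v
  exact hf

/-- monomorphisms of étale sheaves of modules are injective on sections -/
lemma injective_app_of_mono {F G : EtModW.Mod Λ X} (b : F ⟶ G) [Mono b] (V : X.Etale) :
    Function.Injective (b.hom.app (op V)).hom := by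
  haveI : Mono b.hom := (Sheaf.Hom.mono_iff_presheaf_mono _ _ b).1 inferInstance
  haveI : Mono (b.hom.app (op V)) := inferInstance
  exact (ModuleCat.mono_iff_injective _).1 inferInstance


/-- Let X be an irreducible scheme, ξ a geometric point over its generic point, Λ a commutative ring, M'
a submodule of a Λ-module M, and G a sheaf of Λ-modules on the small etale site of X with
monomorphisms a : const M' ⟶ G and b : G ⟶ const M whose composite is the map of constant sheaves
induced by the inclusion. If the stalk of a at ξ is an isomorphism, then a is an isomorphism. -/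
theorem result (Λ : Type (u + 1)) [CommRing Λ] {X : Scheme.{u}} [IrreducibleSpace ↥X]
    {Ω : Type u} [Field Ω] [IsSepClosed Ω] (ξ : Spec (CommRingCat.of Ω) ⟶ X)
    (hξ : ξ.base default = genericPoint ↥X)
    (M : Type (u + 1)) [AddCommGroup M] [Module Λ M] (M' : Submodule Λ M) (G : EtModW.Mod Λ X)
    (a : EtModW.constMod Λ X ↥M' ⟶ G) (b : G ⟶ EtModW.constMod Λ X M) [Mono a] [Mono b]
    (hab : a ≫ b = (constantSheaf X.smallEtaleTopology (ModuleCat.{u + 1} Λ)).map (ModuleCat.ofHom M'.subtype))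
    (hst : IsIso ((EtModW.stalk Λ ξ).map a)) : IsIso a := by
  have hba : ∀ (W : X.Etale) (t : (EtModW.constMod Λ X ↥M').obj.obj (op W)),
      (b.hom.app (op W)).hom ((a.hom.app (op W)).hom t) =
      (((constantSheaf X.smallEtaleTopology (ModuleCat.{u + 1} Λ)).map
        (ModuleCat.ofHom M'.subtype)).hom.app (op W)).hom t := by
    intro W t
    rw [← hab]
    rfl
  haveI : Sheaf.IsLocallySurjective a := by
    constructor
    intro V s
    rw [mem_smallEtale_iff]
    intro v
    -- b s is locally constant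
    obtain ⟨S, hS, HS⟩ := exists_cst_locally Λ M ((b.hom.app (op V)).hom s)
    rw [mem_smallEtale_iff] at hS
    obtain ⟨W₁, f₁, w₁, hf₁, hw₁⟩ := hS v
    obtain ⟨m, hm⟩ := HS f₁ hf₁
    -- lift the generic geometric point to W₁
    haveI : Etale W₁.hom := W₁.prop
    have hopen : IsOpen (Set.range W₁.hom) := W₁.hom.isOpenMap.isOpen_range
    have hgen : genericPoint ↥X ∈ Set.range W₁.hom :=
      (genericPoint_specializes (α := ↥X) (W₁.hom w₁)).mem_open hopen ⟨_, rfl⟩
    obtain ⟨v', hv'⟩ := hgen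
    obtain ⟨ξ', hξ'⟩ := Groth.Agent.S6640.exists_lift_etale ξ W₁.hom v' (hv'.trans hξ.symm)
    let Φ := Scheme.pointSmallEtale ξ
    let x' : Φ.fiber.obj W₁ := Over.homMk ξ' hξ'
    obtain ⟨s', hs'⟩ : ∃ s' : G.obj.obj (op W₁), s' = (G.obj.map f₁.op).hom s := ⟨_, rfl⟩
    have hbij : Function.Bijective ((EtModW.stalk Λ ξ).map a) :=
      (ConcreteCategory.isIso_iff_bijective _).1 hst
    obtain ⟨σ, hσ⟩ := hbij.2 (Φ.toPresheafFiber W₁ x' G.obj s')
    obtain ⟨U, u₀, t, rfl⟩ :=
      Φ.toPresheafFiber_jointly_surjective (P := (EtModW.constMod Λ X ↥M').obj) σ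
    have n1 : (EtModW.stalk Λ ξ).map a (Φ.toPresheafFiber U u₀ (EtModW.constMod Λ X ↥M').obj t) =
        Φ.toPresheafFiber U u₀ G.obj (a.hom.app (op U) t) :=
      Φ.toPresheafFiber_naturality_apply a.hom U u₀ t
    let mm : Φ.fiber.Elements := IsCofiltered.min (⟨U, u₀⟩ : Φ.fiber.Elements) ⟨W₁, x'⟩
    let gU : mm ⟶ ⟨U, u₀⟩ := IsCofiltered.minToLeft _ _
    let gV : mm ⟶ ⟨W₁, x'⟩ := IsCofiltered.minToRight _ _
    have hgU : Φ.fiber.map gU.1 mm.2 = u₀ := gU.2
    have hgV : Φ.fiber.map gV.1 mm.2 = x' := gV.2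
    have e1 : Φ.toPresheafFiber mm.1 mm.2 G.obj (G.obj.map gV.1.op s') =
        Φ.toPresheafFiber mm.1 mm.2 G.obj (G.obj.map gU.1.op (a.hom.app (op U) t)) := by
      rw [Φ.toPresheafFiber_w_apply, Φ.toPresheafFiber_w_apply, hgU, hgV, ← hσ, n1]
    obtain ⟨W₂, g, w, hw, hg⟩ := (Φ.toPresheafFiber_eq_iff' mm.1 mm.2 _ _).mp e1
    let w₂ : W₂.left :=
      (w.left : Spec (CommRingCat.of Ω) ⟶ W₂.left) (default : Spec (CommRingCat.of Ω))
    let f₂ : W₂ ⟶ W₁ := g ≫ gV.1
    let fU : W₂ ⟶ U := g ≫ gU.1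
    obtain ⟨T, hT⟩ : ∃ T : (EtModW.constMod Λ X ↥M').obj.obj (op W₂),
      T = ((EtModW.constMod Λ X ↥M').obj.map fU.op).hom t := ⟨_, rfl⟩
    have haT : (a.hom.app (op W₂)).hom T = (G.obj.map f₂.op).hom s' := by
      rw [hT]
      have nat := ConcreteCategory.congr_hom (a.hom.naturality fU.op) t
      have c1 : ∀ z, G.obj.map (g ≫ gU.1).op z = G.obj.map g.op (G.obj.map gU.1.op z) := by
        intro z
        rw [op_comp, Functor.map_comp]
        rfl
      have c2 : ∀ z, G.obj.map (g ≫ gV.1).op z = G.obj.map g.op (G.obj.map gV.1.op z) := by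
        intro z
        rw [op_comp, Functor.map_comp]
        rfl
      exact nat.trans ((c1 _).trans (hg.symm.trans (c2 _).symm))
    -- T is locally constant
    obtain ⟨S', hS', HS'⟩ := exists_cst_locally Λ ↥M' T
    rw [mem_smallEtale_iff] at hS'
    obtain ⟨W₃, f₃, w₃, hf₃, hw₃⟩ := hS' w₂
    obtain ⟨m', hm'⟩ := HS' f₃ hf₃
    -- compare the two constants on W₃
    have key : cst Λ M W₃ m = cst Λ M W₃ (M'.subtype m') := by
      rw [← constMap_cst Λ M'.subtype W₃ m', hm', ← hba]
      have nat := ConcreteCategory.congr_hom (a.hom.naturality f₃.op) T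
      have nat' : (a.hom.app (op W₃)).hom (((EtModW.constMod Λ X ↥M').obj.map f₃.op).hom T) =
          (G.obj.map f₃.op).hom ((a.hom.app (op W₂)).hom T) := nat
      rw [nat', haT, hs']
      have natb : ∀ (W W' : X.Etale) (f : W' ⟶ W) (z : G.obj.obj (op W)),
          (b.hom.app (op W')).hom ((G.obj.map f.op).hom z) =
          ((EtModW.constMod Λ X M).obj.map f.op).hom ((b.hom.app (op W)).hom z) :=
        fun W W' f z => ConcreteCategory.congr_hom (b.hom.naturality f.op) z
      have nb3 : (b.hom.app (op W₃)).hom ((G.obj.map f₃.op).hom ((G.obj.map f₂.op).hom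
          ((G.obj.map f₁.op).hom s))) =
          ((EtModW.constMod Λ X M).obj.map f₃.op).hom (((EtModW.constMod Λ X M).obj.map f₂.op).hom
            (((EtModW.constMod Λ X M).obj.map f₁.op).hom ((b.hom.app (op V)).hom s))) := by
        rw [natb, natb, natb]
      rw [nb3, ← hm, res_cst, res_cst]
    have hmm : m = M'.subtype m' := by
      rcases cst_eq_cst Λ M m (M'.subtype m') key with h | h
      · exact h
      · exact (not_bot_mem W₃ w₃ h).elim
    -- conclude on W₁
    refine ⟨W₁, f₁, w₁, ⟨cst Λ ↥M' W₁ m', ?_⟩, hw₁⟩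
    apply injective_app_of_mono Λ b W₁
    have nb1 := ConcreteCategory.congr_hom (b.hom.naturality f₁.op) s
    have nb1' : (b.hom.app (op W₁)).hom ((G.obj.map f₁.op).hom s) =
        ((EtModW.constMod Λ X M).obj.map f₁.op).hom ((b.hom.app (op V)).hom s) := nb1
    rw [nb1', ← hm, hba, constMap_cst, hmm]
  haveI : Epi a := Sheaf.epi_of_isLocallySurjective a
  exact isIso_of_mono_of_epi a

end Groth.Agent.S6654
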