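import Groth.Statements.S4297
import Mathlib
import Groth.Agent.Lib.Helper1PCohC
-- import your own Groth.Agent.* helpers here

set_option autoImplicit false
universe w v u
open CategoryTheory CategoryTheory.Limits
open PCoh

namespace Groth.Agent.S4297

open Groth.Agent.Lib.Helper1.PCohTower

/-- Punctual site: faithfulness of K⁻(C₀)/(acyclic complexes) ⟶ D(C): let C be an abelian category and
C₀ a strictly full additive subcategory, quasi-stable under kernels of epimorphisms and
quasi-liftable. If two chain maps f, g : E ⟶ E' between bounded above complexes with terms in C₀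
have the same image in D(C), then there are a bounded above complex E'' with terms in C₀ and a
quasi-isomorphism s : E'' ⟶ E such that s ≫ f and s ≫ g are homotopic. -/
theorem result {C : Type u} [Category.{v} C] [Abelian C] [HasDerivedCategory.{w} C]
    (P : ObjectProperty C) [P.IsClosedUnderIsomorphisms] [P.ContainsZero] (hsum : ∀ X Y : C, P X → P Y → P (X ⨯ Y))
    (hqs : PCoh.IsQuasiStableUnderKernels P) (hql : PCoh.IsQuasiLiftable P)
    (E E' : CochainComplex C ℤ) (hE : PCoh.IsStrictPCAll P E) (hE' : PCoh.IsStrictPCAll P E')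
    (f g : E ⟶ E') (hfg : DerivedCategory.Q.map f = DerivedCategory.Q.map g) :
    ∃ (E'' : CochainComplex C ℤ) (s : E'' ⟶ E), PCoh.IsStrictPCAll P E'' ∧ QuasiIso s ∧ Nonempty (Homotopy (s ≫ f) (s ≫ g)) := by
  obtain ⟨X, t, ht, ⟨h⟩⟩ := exists_quasiIso_homotopy_of_Q_map_eq f g hfg
  obtain ⟨E'', t', hE'', ht'⟩ := exists_strictPCAll_quasiIso P hsum hqs hql X
    (isPC_of_quasiIso P t (isPC_of_isStrictPCAll P hE))
  refine ⟨E'', t' ≫ t, hE'', inferInstance, ⟨?_⟩⟩
  exact (Homotopy.ofEq (Category.assoc _ _ _)).trans
    ((h.compLeft t').trans (Homotopy.ofEq (Category.assoc _ _ _).symm))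

end Groth.Agent.S4297
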