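import Groth.Statements.S4330
import Groth.Agent.S0930
import Groth.Agent.Lib.Helper6AnEpsPull
-- import your own Groth.Agent.* helpers here

set_option autoImplicit false
set_option linter.style.haveILetI false
set_option linter.unusedSectionVars false
universe u
open CategoryTheory CategoryTheory.Limits AlgebraicGeometry Opposite
attribute [local instance] HasDerivedCategory.standard
open EtSix

namespace Groth.Agent.S4330

section Generic
universe v₁ v₂ v₃ u₁ u₂ u₃
variable {A : Type u₁} [Category.{v₁} A] [Abelian A] {B : Type u₂} [Category.{v₂} B] [Abelian B]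
  {C : Type u₃} [Category.{v₃} C] [Abelian C]

lemma isIso_mapHomotopyCategory_app {F G : A ⥤ B} [F.Additive] [G.Additive] (α : F ⟶ G) [IsIso α]
    (Z : HomotopyCategory A (ComplexShape.up ℤ)) :
    IsIso ((NatTrans.mapHomotopyCategory α (ComplexShape.up ℤ)).app Z) := by
  have h1 : NatTrans.mapHomotopyCategory α (ComplexShape.up ℤ) ≫
      NatTrans.mapHomotopyCategory (inv α) (ComplexShape.up ℤ) = 𝟙 _ := by
    rw [← NatTrans.mapHomotopyCategory_comp, IsIso.hom_inv_id, NatTrans.mapHomotopyCategory_id]
  have h2 : NatTrans.mapHomotopyCategory (inv α) (ComplexShape.up ℤ) ≫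
      NatTrans.mapHomotopyCategory α (ComplexShape.up ℤ) = 𝟙 _ := by
    rw [← NatTrans.mapHomotopyCategory_comp, IsIso.inv_hom_id, NatTrans.mapHomotopyCategory_id]
  exact ⟨(NatTrans.mapHomotopyCategory (inv α) (ComplexShape.up ℤ)).app Z,
    by rw [← NatTrans.comp_app, h1]; rfl, by rw [← NatTrans.comp_app, h2]; rfl⟩

lemma isIso_plusNatTrans_app {F G : A ⥤ B} [F.Additive] [G.Additive] (α : F ⟶ G) [IsIso α]
    (Y : HomotopyCategory.Plus A) : IsIso ((EtSix.plusNatTrans α).app Y) := by
  have h : (HomotopyCategory.Plus.ι B).map ((EtSix.plusNatTrans α).app Y) =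
      (NatTrans.mapHomotopyCategory α (ComplexShape.up ℤ)).app ((HomotopyCategory.Plus.ι A).obj Y) := by
    have := congrArg (fun t => t.app Y)
      (((HomotopyCategory.plus B).fullyFaithfulι.whiskeringRight (HomotopyCategory.Plus A)).map_preimage
      (X := F.mapHomotopyCategoryPlus) (Y := G.mapHomotopyCategoryPlus)
      (Functor.whiskerLeft (HomotopyCategory.Plus.ι A)
        (NatTrans.mapHomotopyCategory α (ComplexShape.up ℤ))))
    exact this
  haveI : IsIso ((HomotopyCategory.Plus.ι B).map ((EtSix.plusNatTrans α).app Y)) := by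
    rw [h]; exact isIso_mapHomotopyCategory_app α _
  exact isIso_of_fully_faithful (HomotopyCategory.Plus.ι B) _

variable [HasDerivedCategory A] [HasDerivedCategory B] [HasDerivedCategory C]

theorem isIso_rPlusDesc₂ {F : A ⥤ B} {G : B ⥤ C} {H : A ⥤ C} [F.Additive] [G.Additive] [H.Additive]
    [EnoughInjectives A] [EnoughInjectives B] (θ : H ⟶ F ⋙ G) [IsIso θ]
    [F.PreservesInjectiveObjects] : IsIso (EtSix.rPlusDesc₂ θ) := by
  let RF := F.rightDerivedFunctorPlus
  let RG := G.rightDerivedFunctorPlus
  have hder : (HomotopyCategory.Plus.localizerMorphism A).Derives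
      (H.mapHomotopyCategoryPlus ⋙ DerivedCategory.Plus.Qh) := by
    intro X Y f hf
    have : IsIso f := hf
    infer_instance
  have h : (RF ⋙ RG).IsRightDerivedFunctor (EtSix.rPlusUnit₂ θ) (HomotopyCategory.Plus.quasiIso A) := by
    apply hder.isRightDerivedFunctor_of_isIso
    intro X₁
    let Y := (HomotopyCategory.Plus.localizerMorphism A).functor.obj X₁
    have i0 : IsIso ((EtSix.plusNatTrans θ).app Y) := isIso_plusNatTrans_app θ Y
    have i1 : IsIso (F.rightDerivedFunctorPlusUnit.app Y) := by
      dsimp only [Y]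
      infer_instance
    have i2 : IsIso (G.rightDerivedFunctorPlusUnit.app (F.mapHomotopyCategoryPlus.obj Y)) := by
      obtain ⟨d, hd⟩ : ∃ d : ℤ, CochainComplex.IsStrictlyGE X₁.obj.as d :=
        (HomotopyCategory.plus_quotient_obj_iff _).1 X₁.property
      let K : CochainComplex A ℤ := ((InjectiveObject.ι A).mapHomologicalComplex _).obj X₁.obj.as
      let J : CochainComplex B ℤ := (F.mapHomologicalComplex _).obj K
      have hK : K.IsStrictlyGE d := by dsimp only [K]; infer_instance
      have hJ : J.IsStrictlyGE d := by dsimp only [J]; infer_instance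
      have hinj : ∀ k, Injective (J.X k) := by
        intro k
        have : Injective (K.X k) := (X₁.obj.as.X k).property
        exact F.injective_obj (K.X k)
      exact Groth.Agent.S0930.isIso_unit_of_injective G J d hJ hinj
    simp only [EtSix.rPlusUnit₂, NatTrans.comp_app, Functor.whiskerRight_app, Functor.whiskerLeft_app,
      Functor.associator_hom_app, Functor.associator_inv_app, Category.comp_id, Category.id_comp,
      Functor.map_comp]
    infer_instance
  exact (Functor.isRightDerivedFunctor_iff_isIso_rightDerivedDesc H.rightDerivedFunctorPlus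
    H.rightDerivedFunctorPlusUnit (HomotopyCategory.Plus.quasiIso A) (RF ⋙ RG) (EtSix.rPlusUnit₂ θ)).1 h

end Generic

instance hasExactColimits_costructuredArrow_bc (Λ : Type (u + 1)) [CommRing Λ]
    {Y Y' : Scheme.{u}} (g : Y' ⟶ Y) (d : (Y'.Etale)ᵒᵖ) :
    HasExactColimitsOfShape (CostructuredArrow (EtCoh.bc g).op d) (ModuleCat.{u + 1} Λ) := by
  have : IsFiltered (CostructuredArrow (EtCoh.bc g).op d) :=
    IsFiltered.of_equivalence (structuredArrowOpEquivalence (EtCoh.bc g) (unop d))
  have := AB5OfSize_of_univLE.{u, u + 1, u + 1, u + 1} (ModuleCat.{u + 1} Λ)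
  exact AB5OfSize.ofShape _

theorem pull_preservesFiniteLimits (Λ : Type (u + 1)) [CommRing Λ]
    {Y Y' : Scheme.{u}} (g : Y' ⟶ Y) : PreservesFiniteLimits (EtModW.pull Λ g) := by
  have h : PreservesFiniteLimits
      ((EtCoh.bc g).op.lan : (_ ⥤ _ ⥤ ModuleCat.{u + 1} Λ)) :=
    Groth.Agent.Lib.Helper6.lan_preservesFiniteLimits_of_flat' (ModuleCat.{u + 1} Λ) (EtCoh.bc g)
  exact Functor.sheafPullbackConstruction.preservesFiniteLimits (EtCoh.bc g)
    (ModuleCat.{u + 1} Λ) Y.smallEtaleTopology Y'.smallEtaleTopology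

instance push_preservesInjectiveObjects (Λ : Type (u + 1)) [CommRing Λ]
    {X Y : Scheme.{u}} (f : X ⟶ Y) : (EtModW.push Λ f).PreservesInjectiveObjects := by
  haveI := pull_preservesFiniteLimits Λ f
  haveI : (EtModW.pull Λ f).PreservesMonomorphisms :=
    preservesMonomorphisms_of_preservesLimitsOfShape _
  exact Functor.preservesInjectiveObjects_of_adjunction_of_preservesMonomorphisms
    (EtSix.pullPushModAdj Λ f)


/-- Composition of derived direct images: bounded-below version for sheaves of Λ-modules on small etale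
sites: let f : X -> Y and g : Y -> Z be morphisms of schemes and Λ a commutative ring. Then the
canonical morphism R⁺(g ∘ f)_* -> R⁺g_* ∘ R⁺f_* of functors D⁺(X_et, Λ) -> D⁺(Z_et, Λ)
(bounded-below derived functors computed with injective resolutions; the morphism is induced by (g ∘
f)_* ≅ g_* ∘ f_* through the universal property of R⁺(g ∘ f)_*) is an isomorphism. -/
theorem result (Λ : Type (u + 1)) [CommRing Λ] {X Y Z : Scheme.{u}} (f : X ⟶ Y) (g : Y ⟶ Z) :
    IsIso (EtSix.compMapMod Λ f g) := by
  exact isIso_rPlusDesc₂ (EtSix.pushModComp Λ g f).inv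

end Groth.Agent.S4330
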