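import Groth.Statements.S4333
import Groth.Agent.S14623
import Groth.Agent.Lib.Helper6AnEpsPull
-- import your own Groth.Agent.* helpers here

set_option autoImplicit false
set_option linter.style.haveILetI false
set_option linter.unusedSectionVars false
universe u
open CategoryTheory CategoryTheory.Limits AlgebraicGeometry Opposite
attribute [local instance] HasDerivedCategory.standard
open EtSix

namespace Groth.Agent.S4333

instance hasExactColimits_costructuredArrow_bc (Λ : Type (u + 1)) [CommRing Λ]
    {Y Y' : Scheme.{u}} (g : Y' ⟶ Y) (d : (Y'.Etale)ᵒᵖ) :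
    HasExactColimitsOfShape (CostructuredArrow (EtCoh.bc g).op d) (ModuleCat.{u + 1} Λ) := by
  have : IsFiltered (CostructuredArrow (EtCoh.bc g).op d) :=
    IsFiltered.of_equivalence (structuredArrowOpEquivalence (EtCoh.bc g) (unop d))
  have := AB5OfSize_of_univLE.{u, u + 1, u + 1, u + 1} (ModuleCat.{u + 1} Λ)
  exact AB5OfSize.ofShape _

theorem pull_preservesFiniteLimits (Λ : Type (u + 1)) [CommRing Λ]
    {Y Y' : Scheme.{u}} (g : Y' ⟶ Y) : PreservesFiniteLimits (EtModW.pull Λ g) := by
  have h : PreservesFiniteLimits
      ((EtCoh.bc g).op.lan : (_ ⥤ _ ⥤ ModuleCat.{u + 1} Λ)) :=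
    Groth.Agent.Lib.Helper6.lan_preservesFiniteLimits_of_flat' (ModuleCat.{u + 1} Λ) (EtCoh.bc g)
  exact Functor.sheafPullbackConstruction.preservesFiniteLimits (EtCoh.bc g)
    (ModuleCat.{u + 1} Λ) Y.smallEtaleTopology Y'.smallEtaleTopology


/-- Derived functors of adjoint functors are adjoint: for the inverse and direct image of sheaves of
Λ-modules along a morphism of schemes g : Y' -> Y, on bounded-below derived categories: there is an
adjunction R⁺g^* ⊣ R⁺g_* between the bounded-below right derived functors of g^* and of g_*
(computed with injective resolutions). This is the bounded-below variant of the published statement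
Lg^* ⊣ Rg_* on unbounded derived categories, with the bounded-below right derived functor of the
exact functor g^* (the functor g^* induces on D⁺) standing in for Lg^*. -/
theorem result (Λ : Type (u + 1)) [CommRing Λ] {Y Y' : Scheme.{u}} (g : Y' ⟶ Y) :
    Nonempty ((EtModW.pull Λ g).rightDerivedFunctorPlus ⊣ (EtModW.push Λ g).rightDerivedFunctorPlus) := by
  haveI := pull_preservesFiniteLimits Λ g
  haveI : PreservesFiniteColimits (EtModW.pull Λ g) := by
    haveI := (EtSix.pullPushModAdj Λ g).leftAdjoint_preservesColimits
    infer_instance
  exact Groth.Agent.S14623.result (EtSix.pullPushModAdj Λ g)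

end Groth.Agent.S4333
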