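import Groth.Statements.S4346
import Groth.Agent.Lib.Helper6S4346

set_option autoImplicit false
universe u
open SchLoc

namespace Groth.Agent.S4346

open AlgebraicGeometry in
/-- On an integral separated scheme distinct points have distinct local rings inside the function field. -/
theorem result (X : Scheme.{u}) [IsIntegral X] [X.IsSeparated] :
    Function.Injective (fun x : X ↦ (algebraMap (X.presheaf.stalk x) X.functionField).range) := by
  exact Groth.Agent.Lib.Helper6.injective_range_stalk_functionField X

end Groth.Agent.S4346
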