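import Groth.Statements.S4356
import Mathlib
import Groth.Agent.Lib.Helper23RatFun2
-- import your own Groth.Agent.* helpers here

set_option autoImplicit false
universe u
open TorSh

namespace Groth.Agent.S4356


open Groth.Agent.Lib.Helper23.RatFun Groth.Agent.Lib.Helper23.RatFun2

open AlgebraicGeometry in
open CategoryTheory in
open AlgebraicGeometry in
open CategoryTheory in
/-- Converse assertion (the sheaf of rational functions of the integral scheme X being modelled as the
direct image of the structure sheaf of Spec of the function field under its canonical morphism to
X). On an integral scheme, a nonzero quasi-coherent sub-O_X-module of the sheaf of rational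
functions is torsion-free of rank 1: every stalk is a torsion-free module over the local ring, and
the stalk at the generic point is one-dimensional over the function field. (The published statement
does not exclude the zero submodule, whose generic stalk has dimension 0; it is excluded here.) -/
theorem result
    (X : Scheme.{u}) [IsIntegral X] (G : X.Modules) [Coh.IsQCoh G]
    (i : G ⟶ (Scheme.Modules.pushforward (X.fromSpecStalk (genericPoint X))).obj
        (Coh.structureModule (Spec (X.presheaf.stalk (genericPoint X))))) [Mono i]
    (hG : ¬ Limits.IsZero G) :
    TorSh.IsTorsionFree G ∧
      Module.finrank (X.presheaf.stalk (genericPoint X)) (G.presheaf.stalk (genericPoint X)) = 1 := by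
  haveI : G.IsQuasicoherent := ‹Coh.IsQCoh G›
  exact ⟨isTorsionFree_of_mono G i, finrank_eq_one_of_mono G i hG⟩

end Groth.Agent.S4356
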