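import Groth.Statements.S4362
-- import your own Groth.Agent.* helpers here

set_option autoImplicit false
universe u
open FinCond

namespace Groth.Agent.S4362

open AlgebraicGeometry in
open CategoryTheory in
/-- If X is a Noetherian scheme, every increasing sequence of quasi-coherent sheaves of ideals of the
structure sheaf is eventually constant; equivalently the ordered set of quasi-coherent ideal sheaves
of X is well-founded for the reverse order. (On a locally Noetherian scheme quasi-coherent and
coherent ideal sheaves coincide.) -/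
theorem result
    (X : Scheme.{u}) [IsNoetherian X] : WellFoundedGT X.IdealSheafData := by
  rw [wellFoundedGT_iff_monotone_chain_condition]
  intro a
  -- a finite affine cover
  have hcov : ∀ x : X, ∃ U : X.affineOpens, x ∈ U.1 := by
    intro x
    obtain ⟨_, ⟨U, hU, rfl⟩, hxU, -⟩ :=
      X.isBasis_affineOpens.exists_subset_of_mem_open (Set.mem_univ x) isOpen_univ
    exact ⟨⟨U, hU⟩, hxU⟩
  choose U hxU using hcov
  obtain ⟨s, hs⟩ := isCompact_univ.elim_finite_subcover (fun x => ((U x).1 : Set X))
    (fun x => (U x).1.2) (fun x _ => Set.mem_iUnion.2 ⟨x, hxU x⟩)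
  have hsup : ⨆ i : s, (U i.1).1 = ⊤ := by
    rw [eq_top_iff]
    intro x _
    have := hs (Set.mem_univ x)
    simp only [Set.mem_iUnion, exists_prop] at this
    obtain ⟨y, hy, hxy⟩ := this
    exact TopologicalSpace.Opens.mem_iSup.2 ⟨⟨y, hy⟩, hxy⟩
  -- stabilisation on each member
  have hstab : ∀ i : s, ∃ n, ∀ m, n ≤ m → (a n).ideal (U i.1) = (a m).ideal (U i.1) := by
    intro i
    have : IsNoetherianRing Γ(X, (U i.1).1) := IsLocallyNoetherian.component_noetherian (U i.1)
    have hwf : WellFoundedGT (Ideal Γ(X, (U i.1).1)) := inferInstance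
    rw [wellFoundedGT_iff_monotone_chain_condition] at hwf
    exact hwf ⟨fun n => (a n).ideal (U i.1), fun n m hnm => (a.monotone hnm) (U i.1)⟩
  choose N hN using hstab
  refine ⟨Finset.univ.sup N, fun m hm => ?_⟩
  refine Scheme.IdealSheafData.ext_of_iSup_eq_top (fun i : s => U i.1) hsup fun i => ?_
  have h1 : N i ≤ Finset.univ.sup N := Finset.le_sup (Finset.mem_univ i)
  rw [← hN i _ h1, ← hN i m (h1.trans hm)]

end Groth.Agent.S4362
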