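import Groth.Statements.S4363
import Mathlib

set_option autoImplicit false
universe u v
open RedSep

namespace Groth.Agent.S4363
open AlgebraicGeometry CategoryTheory Limits

/-- The range of `pushout.desc a b` in `CommRingCat` is the subring generated by ranges. -/
lemma range_desc {R A B C : CommRingCat.{u}} (p : R ⟶ A) (q : R ⟶ B) (a : A ⟶ C) (b : B ⟶ C)
    (h : p ≫ a = q ≫ b) :
    (pushout.desc a b h).hom.range = Subring.closure (Set.range a.hom ∪ Set.range b.hom) := by
  apply le_antisymm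
  · -- factor through the closure
    set S := Subring.closure (Set.range a.hom ∪ Set.range b.hom) with hS
    let a' : A ⟶ CommRingCat.of S := CommRingCat.ofHom
      (a.hom.codRestrict S (fun x => Subring.subset_closure (Or.inl ⟨x, rfl⟩)))
    let b' : B ⟶ CommRingCat.of S := CommRingCat.ofHom
      (b.hom.codRestrict S (fun x => Subring.subset_closure (Or.inr ⟨x, rfl⟩)))
    let incl : CommRingCat.of S ⟶ C := CommRingCat.ofHom S.subtype
    have ha : a' ≫ incl = a := by ext x; rfl
    have hb : b' ≫ incl = b := by ext x; rfl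
    have h' : p ≫ a' = q ≫ b' := by
      ext x
      exact congr($(h).hom x)
    have : pushout.desc a b h = pushout.desc a' b' h' ≫ incl := by
      apply pushout.hom_ext
      · rw [pushout.inl_desc, pushout.inl_desc_assoc, ha]
      · rw [pushout.inr_desc, pushout.inr_desc_assoc, hb]
    rw [this]
    rintro _ ⟨x, rfl⟩
    exact ((pushout.desc a' b' h').hom x).2
  · rw [Subring.closure_le]
    rintro _ (⟨x, rfl⟩ | ⟨x, rfl⟩)
    · exact ⟨(pushout.inl p q).hom x, by rw [← CommRingCat.comp_apply, pushout.inl_desc]⟩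
    · exact ⟨(pushout.inr p q).hom x, by rw [← CommRingCat.comp_apply, pushout.inr_desc]⟩


variable {X Y : Scheme.{u}} (f : X ⟶ Y)

lemma diag_preimage (U U' : X.Opens) :
    pullback.diagonal f ⁻¹ᵁ (pullback.fst f f ⁻¹ᵁ U ⊓ pullback.snd f f ⁻¹ᵁ U') = U ⊓ U' := by
  rw [Scheme.Hom.preimage_inf, ← Scheme.Hom.comp_preimage, ← Scheme.Hom.comp_preimage]
  simp

/-- the generation condition, for an arbitrary open `W` contained in `U` and `U'`. -/
def Gen (U U' W : X.Opens) (h1 : W ≤ U) (h2 : W ≤ U') : Prop :=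
  Subring.closure (Set.range (X.presheaf.map (homOfLE h1).op).hom ∪
    Set.range (X.presheaf.map (homOfLE h2).op).hom) = ⊤

lemma gen_congr {U U' W W' : X.Opens} (h : W = W') (h1 : W ≤ U) (h2 : W ≤ U') :
    Gen U U' W h1 h2 ↔ Gen U U' W' (h ▸ h1) (h ▸ h2) := by
  subst h; rfl

lemma key [IsAffine Y] {U U' : X.Opens} (hU : IsAffineOpen U) (hU' : IsAffineOpen U')
    (V : (pullback f f).Opens) (hV : V = pullback.fst f f ⁻¹ᵁ U ⊓ pullback.snd f f ⁻¹ᵁ U')
    (W : X.Opens) (e : W ≤ pullback.diagonal f ⁻¹ᵁ V) (h1 : W ≤ U) (h2 : W ≤ U') :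
    IsAffineOpen V ∧ (Function.Surjective ((pullback.diagonal f).appLE V W e).hom ↔
      Gen U U' W h1 h2) := by
  have H := IsPullback.of_hasPullback f f
  have hUST : U' ≤ f ⁻¹ᵁ ⊤ := by simp
  have hUSX : U ≤ f ⁻¹ᵁ ⊤ := by simp
  have hiso := isIso_pushoutSection_of_isAffineOpen H hUST hUSX hV (isAffineOpen_top Y) hU' hU
  have : IsAffine (⊤ : Y.Opens).toScheme := isAffineOpen_top Y
  have : IsAffine U.toScheme := hU
  have : IsAffine U'.toScheme := hU'
  refine ⟨.of_isIso (Scheme.Hom.isPullback_resLE H hUST hUSX hV).isoPullback.hom, ?_⟩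
  set φ := pushoutSection H hUST hUSX hV with hφ
  have hcomp : φ ≫ (pullback.diagonal f).appLE V W e =
      pushout.desc (X.presheaf.map (homOfLE h1).op) (X.presheaf.map (homOfLE h2).op)
        (by simp only [Scheme.Hom.appLE_map]) := by
    have hid : ∀ (g : X ⟶ X) (_ : g = 𝟙 X) (A B : X.Opens) (hAB : B ≤ A) (e' : B ≤ g ⁻¹ᵁ A),
        g.appLE A B e' = X.presheaf.map (homOfLE hAB).op := by
      rintro g rfl A B hAB e'
      simp only [Scheme.Hom.appLE, Scheme.Hom.id_app]
      rfl
    apply pushout.hom_ext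
    · rw [pushout.inl_desc, hφ, pushout.inl_desc_assoc, Scheme.Hom.appLE_comp_appLE]
      exact hid _ (pullback.diagonal_fst f) _ _ h1 _
    · rw [pushout.inr_desc, hφ, pushout.inr_desc_assoc, Scheme.Hom.appLE_comp_appLE]
      exact hid _ (pullback.diagonal_snd f) _ _ h2 _
  have hsurj : Function.Surjective ((pullback.diagonal f).appLE V W e).hom ↔
      Function.Surjective (φ ≫ (pullback.diagonal f).appLE V W e).hom := by
    rw [CommRingCat.hom_comp, RingHom.coe_comp]
    have hb : Function.Bijective φ.hom := by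
      have := (CategoryTheory.isIso_iff_bijective ((forget CommRingCat).map φ)).mp inferInstance
      exact this
    exact (Function.Surjective.of_comp_iff _ hb.surjective).symm
  rw [hsurj, hcomp, ← RingHom.range_eq_top, range_desc, Gen]


lemma key2 [IsAffine Y] {U U' : X.Opens} (hU : IsAffineOpen U) (hU' : IsAffineOpen U')
    (V : (pullback f f).Opens) (hV : V = pullback.fst f f ⁻¹ᵁ U ⊓ pullback.snd f f ⁻¹ᵁ U') :
    (IsAffine (pullback.diagonal f ⁻¹ᵁ V).toScheme ∧
      Function.Surjective ((pullback.diagonal f ∣_ V).appTop).hom) ↔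
    (IsAffineOpen (U ⊓ U') ∧ Gen U U' (U ⊓ U') inf_le_left inf_le_right) := by
  have hpre : pullback.diagonal f ⁻¹ᵁ V = U ⊓ U' := by rw [hV, diag_preimage]
  refine and_congr ?_ ?_
  · change IsAffineOpen _ ↔ _
    rw [hpre]
  · have hW : (pullback.diagonal f ⁻¹ᵁ V).ι ''ᵁ ((pullback.diagonal f ∣_ V) ⁻¹ᵁ ⊤) = U ⊓ U' := by
      simp [hpre]
    have hV' : V.ι ''ᵁ ⊤ = pullback.fst f f ⁻¹ᵁ U ⊓ pullback.snd f f ⁻¹ᵁ U' := by
      simp [hV]
    have hk := (key f hU hU' _ hV' _
      (image_morphismRestrict_preimage (pullback.diagonal f) V ⊤).le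
      (hW.le.trans inf_le_left) (hW.le.trans inf_le_right)).2
    rw [gen_congr hW] at hk
    have happ : (pullback.diagonal f ∣_ V).appTop = (pullback.diagonal f).appLE _ _
      (image_morphismRestrict_preimage (pullback.diagonal f) V ⊤).le :=
      morphismRestrict_app' ..
    exact (Eq.to_iff (congrArg (fun g => Function.Surjective g.hom) happ)).trans hk


open AlgebraicGeometry in
open CategoryTheory in
/-- Let Y be an affine scheme, f : X -> Y a morphism and (U i) a cover of X by affine open subschemes.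
Then f is separated if and only if, for every pair of indices i, j, the intersection of U i and U j
is an affine open and its ring of sections is generated, as a ring, by the images of the rings of
sections of U i and of U j under the restriction maps. -/
theorem result
    {X Y : Scheme.{u}} [IsAffine Y] (f : X ⟶ Y) {ι : Type v} (U : ι → X.Opens)
    (hU : ∀ i, IsAffineOpen (U i)) (hcov : ⨆ i, U i = ⊤) :
    IsSeparated f ↔ ∀ i j, IsAffineOpen (U i ⊓ U j) ∧
      Subring.closure (Set.range (X.presheaf.map (homOfLE (inf_le_left : U i ⊓ U j ≤ U i)).op).hom ∪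
        Set.range (X.presheaf.map (homOfLE (inf_le_right : U i ⊓ U j ≤ U j)).op).hom) = ⊤ := by
  let V : ι × ι → (pullback f f).Opens := fun p =>
    pullback.fst f f ⁻¹ᵁ U p.1 ⊓ pullback.snd f f ⁻¹ᵁ U p.2
  have hVaff : ∀ p, IsAffineOpen (V p) := fun p =>
    (key f (hU p.1) (hU p.2) (V p) rfl (U p.1 ⊓ U p.2) (diag_preimage ..).ge
      inf_le_left inf_le_right).1
  have hVcov : ⨆ p, V p = ⊤ := by
    rw [eq_top_iff]
    intro z _
    have h1 : pullback.fst f f z ∈ (⨆ i, U i) := hcov ▸ trivial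
    have h2 : pullback.snd f f z ∈ (⨆ i, U i) := hcov ▸ trivial
    rw [TopologicalSpace.Opens.mem_iSup] at h1 h2
    obtain ⟨i, hi⟩ := h1
    obtain ⟨j, hj⟩ := h2
    exact TopologicalSpace.Opens.mem_iSup.mpr ⟨(i, j), hi, hj⟩
  have hsep : IsSeparated f ↔ IsClosedImmersion (pullback.diagonal f) :=
    ⟨fun h => h.1, fun h => ⟨h⟩⟩
  rw [hsep, HasAffineProperty.iff_of_iSup_eq_top (P := @IsClosedImmersion)
    (fun p => ⟨V p, hVaff p⟩) hVcov]
  constructor
  · intro h i j
    exact (key2 f (hU i) (hU j) (V (i, j)) rfl).mp (h (i, j))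
  · intro h p
    exact (key2 f (hU p.1) (hU p.2) (V p) rfl).mpr (h p.1 p.2)

end Groth.Agent.S4363
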