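import Groth.Statements.S4365
import Mathlib

set_option autoImplicit false
universe u
open FinCond

namespace Groth.Agent.S4365
open CategoryTheory CategoryTheory.Limits AlgebraicGeometry

/-- embedding of a finitely generated field extension into a big algebraically closed field -/
theorem exists_algHom_of_essFiniteType (K L Ω : Type u) [Field K] [Field L] [Field Ω]
    [IsAlgClosed Ω] [Algebra K L] [Algebra K Ω] [Algebra.EssFiniteType K L]
    (t : ℕ → Ω) (ht : AlgebraicIndependent K t) : Nonempty (L →ₐ[K] Ω) := by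
  obtain ⟨s, hs⟩ := exists_isTranscendenceBasis K L
  have hfin : Finite s := finite_of_isTranscendenceBasis hs
  obtain ⟨n, ⟨e⟩⟩ := Finite.exists_equiv_fin s
  let ι : s → ℕ := fun i => (e i : ℕ)
  have hι : Function.Injective ι := fun a b h => e.injective (Fin.ext h)
  have ht' : AlgebraicIndependent K (t ∘ ι) := ht.comp ι hι
  let E := IntermediateField.adjoin K (Set.range ((↑) : s → L))
  let φ₀ : E →ₐ[K] Ω :=
    (IsFractionRing.liftAlgHom (K := FractionRing (MvPolynomial s K))
      (algebraicIndependent_iff_injective_aeval.1 ht')).comp hs.1.reprField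
  letI : Algebra E Ω := φ₀.toRingHom.toAlgebra
  haveI : IsScalarTower K E Ω := IsScalarTower.of_algebraMap_eq fun x => (φ₀.commutes x).symm
  haveI : Algebra.IsAlgebraic E L := hs.isAlgebraic_field
  exact ⟨(IsAlgClosed.lift (R := E) (S := L) (M := Ω)).restrictScalars K⟩

theorem exists_section_of_nonempty (Ω : Type u) [Field Ω] [IsAlgClosed Ω] {Z : Scheme.{u}}
    (q : Z ⟶ Spec (CommRingCat.of Ω)) [LocallyOfFiniteType q] [Nonempty Z] :
    ∃ σ : Spec (CommRingCat.of Ω) ⟶ Z, σ ≫ q = 𝟙 _ := by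
  obtain ⟨z⟩ := (inferInstance : Nonempty Z)
  let 𝒰 := Z.affineOpenCover
  obtain ⟨x, hx⟩ := 𝒰.covers z
  obtain ⟨φ, hφ⟩ := Spec.map_surjective (𝒰.f (𝒰.idx z) ≫ q)
  have h2 : LocallyOfFiniteType (Spec.map φ) := by rw [hφ]; infer_instance
  rw [HasRingHomProperty.Spec_iff (P := @LocallyOfFiniteType)] at h2
  algebraize [φ.hom]
  have hnt : Nontrivial (𝒰.X (𝒰.idx z)) := by
    have : Nonempty (PrimeSpectrum (𝒰.X (𝒰.idx z))) := ⟨x⟩
    exact (PrimeSpectrum.nonempty_iff_nontrivial).mp this
  obtain ⟨m, hm⟩ := Ideal.exists_maximal (𝒰.X (𝒰.idx z))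
  let _ := Ideal.Quotient.field m
  have hfin : Module.Finite Ω (𝒰.X (𝒰.idx z) ⧸ m) := finite_of_finite_type_of_isJacobsonRing Ω _
  have hbij : Function.Bijective (algebraMap Ω (𝒰.X (𝒰.idx z) ⧸ m)) :=
    IsAlgClosed.algebraMap_bijective_of_isIntegral
  let ψ : (𝒰.X (𝒰.idx z)) →ₐ[Ω] Ω :=
    (AlgEquiv.ofBijective (Algebra.ofId Ω _) hbij).symm.toAlgHom.comp (Ideal.Quotient.mkₐ Ω m)
  refine ⟨Spec.map (CommRingCat.ofHom ψ.toRingHom) ≫ 𝒰.f (𝒰.idx z), ?_⟩
  rw [Category.assoc, ← hφ, ← Spec.map_comp]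
  have : φ ≫ CommRingCat.ofHom ψ.toRingHom = 𝟙 _ := by
    refine CommRingCat.hom_ext (RingHom.ext fun x => ?_)
    exact ψ.commutes x
  exact (congrArg Spec.map this).trans (Spec.map_id _)

theorem exists_point_hits (K Ω : Type u) [Field K] [Field Ω] [IsAlgClosed Ω] [Algebra K Ω]
    (t : ℕ → Ω) (ht : AlgebraicIndependent K t)
    {Y : Scheme.{u}} (pY : Y ⟶ Spec (CommRingCat.of K)) [LocallyOfFiniteType pY] (y₀ : Y) :
    ∃ y : Spec (CommRingCat.of Ω) ⟶ Y,
      y ≫ pY = Spec.map (CommRingCat.ofHom (algebraMap K Ω)) ∧ ∀ pt, y.base pt = y₀ := by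
  let 𝒰 := Y.affineOpenCover
  obtain ⟨x, hx⟩ := 𝒰.covers y₀
  obtain ⟨φ, hφ⟩ := Spec.map_surjective (𝒰.f (𝒰.idx y₀) ≫ pY)
  have h2 : LocallyOfFiniteType (Spec.map φ) := by rw [hφ]; infer_instance
  rw [HasRingHomProperty.Spec_iff (P := @LocallyOfFiniteType)] at h2
  algebraize [φ.hom]
  let B := 𝒰.X (𝒰.idx y₀)
  let q : Ideal B := x.asIdeal
  have : Algebra.EssFiniteType K (Localization.AtPrime q) :=
    Algebra.EssFiniteType.comp K B (Localization.AtPrime q)
  have : Algebra.EssFiniteType K q.ResidueField :=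
    Algebra.EssFiniteType.comp K (Localization.AtPrime q) q.ResidueField
  obtain ⟨θ⟩ := exists_algHom_of_essFiniteType K q.ResidueField Ω t ht
  let ψ : B →ₐ[K] Ω := θ.comp (IsScalarTower.toAlgHom K B q.ResidueField)
  refine ⟨Spec.map (CommRingCat.ofHom ψ.toRingHom) ≫ 𝒰.f (𝒰.idx y₀), ?_, ?_⟩
  · rw [Category.assoc, ← hφ, ← Spec.map_comp]
    congr 1
    refine CommRingCat.hom_ext (RingHom.ext fun x => ?_)
    exact ψ.commutes x
  · intro pt
    rw [Scheme.Hom.comp_base, TopCat.comp_app]
    refine Eq.trans ?_ hx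
    congr 1
    apply PrimeSpectrum.ext
    have hpt : pt.asIdeal = ⊥ := by
      have := pt.2
      exact ((Ideal.eq_bot_or_top pt.asIdeal).resolve_right pt.2.ne_top)
    change Ideal.comap ψ.toRingHom pt.asIdeal = q
    rw [hpt]
    ext b
    simp only [Ideal.mem_comap, Ideal.mem_bot]
    change θ (algebraMap B q.ResidueField b) = 0 ↔ b ∈ q
    rw [map_eq_zero_iff θ θ.injective, ← RingHom.mem_ker, Ideal.ker_algebraMap_residueField]


open AlgebraicGeometry in
open CategoryTheory in
/-- Let K be a field, X and Y schemes locally of finite type over K, f : X -> Y a K-morphism and Ω an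
algebraically closed extension field of K of infinite transcendence degree over K (there is an
algebraically independent sequence in Ω). Then f is surjective if and only if the map it induces
from the K-points of X with values in Ω to those of Y is surjective, i.e. every K-morphism Spec Ω ->
Y factors through f. (The published proposition assumes X and Y of finite type over K, and a later
remark of the same text extends it to X and Y locally of finite type over K, the form stated here.) -/
theorem result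
    (K Ω : Type u) [Field K] [Field Ω] [IsAlgClosed Ω] [Algebra K Ω]
    (t : ℕ → Ω) (ht : AlgebraicIndependent K t)
    {X Y : Scheme.{u}} (pX : X ⟶ Spec (CommRingCat.of K)) (pY : Y ⟶ Spec (CommRingCat.of K))
    [LocallyOfFiniteType pX] [LocallyOfFiniteType pY] (f : X ⟶ Y) (hf : f ≫ pY = pX) :
    Surjective f ↔ ∀ y : Spec (CommRingCat.of Ω) ⟶ Y,
      y ≫ pY = Spec.map (CommRingCat.ofHom (algebraMap K Ω)) →
        ∃ x : Spec (CommRingCat.of Ω) ⟶ X, x ≫ f = y := by
  have hflft : LocallyOfFiniteType f := by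
    have : LocallyOfFiniteType (f ≫ pY) := by rw [hf]; infer_instance
    exact locallyOfFiniteType_of_comp f pY
  constructor
  · intro hs y hy
    have : Surjective (pullback.snd f y) := MorphismProperty.pullback_snd _ _ hs
    have : Nonempty ↥(pullback f y) := by
      obtain ⟨z, -⟩ := (pullback.snd f y).surjective (IsLocalRing.closedPoint Ω)
      exact ⟨z⟩
    obtain ⟨σ, hσ⟩ := exists_section_of_nonempty Ω (pullback.snd f y)
    refine ⟨σ ≫ pullback.fst f y, ?_⟩
    rw [Category.assoc, pullback.condition, ← Category.assoc, hσ, Category.id_comp]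
  · intro H
    refine ⟨fun y₀ => ?_⟩
    obtain ⟨y, hy, hpt⟩ := exists_point_hits K Ω t ht pY y₀
    obtain ⟨x, hx⟩ := H y hy
    refine ⟨x.base (IsLocalRing.closedPoint Ω), ?_⟩
    rw [← hpt (IsLocalRing.closedPoint Ω), ← hx]
    rfl

end Groth.Agent.S4365
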