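import Groth.Statements.S4367
-- import your own Groth.Agent.* helpers here

set_option autoImplicit false
universe u
open RedSep

namespace Groth.Agent.S4367

open AlgebraicGeometry in
open CategoryTheory in
/-- Let X be a reduced scheme, f : X -> Y a morphism and j : Z -> Y a closed immersion (a closed
subscheme of Y) such that the image of f is contained, as a set, in the image of j. Then f factors
as a morphism X -> Z followed by j. -/
theorem result
    {X Y Z : Scheme.{u}} [IsReduced X] (f : X ⟶ Y) (j : Z ⟶ Y) [IsClosedImmersion j]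
    (h : Set.range f ⊆ Set.range j) :
    ∃ g : X ⟶ Z, g ≫ j = f := by
  have H : j.ker ≤ f.ker := by
    refine Scheme.IdealSheafData.le_ofIdeals_iff.mpr fun U a ha => ?_
    have ha' : (j.app U).hom a = 0 := j.ideal_ker_le U ha
    change (f.app U).hom a = 0
    rw [← basicOpen_eq_bot_iff, ← Scheme.preimage_basicOpen]
    ext x
    simp only [TopologicalSpace.Opens.coe_bot, Set.mem_empty_iff_false, iff_false]
    intro hx
    obtain ⟨z, hz⟩ := h ⟨x, rfl⟩
    have hz' : z ∈ j ⁻¹ᵁ (Y.basicOpen a) := by
      change j z ∈ Y.basicOpen a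
      rw [hz]
      exact hx
    rw [Scheme.preimage_basicOpen] at hz'
    have h0 : Z.basicOpen ((j.app U).hom a) = ⊥ := by
      rw [ha']
      exact Scheme.basicOpen_zero _ _
    rw [h0] at hz'
    exact hz'
  exact ⟨IsClosedImmersion.lift j f H, IsClosedImmersion.lift_fac j f H⟩

end Groth.Agent.S4367
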