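import Groth.Statements.S4369
-- import your own Groth.Agent.* helpers here

set_option autoImplicit false
universe u
open AffSch

namespace Groth.Agent.S4369

/-- Let φ : A' -> A be a ring homomorphism such that every f in A can be written f = h φ(f') with h
invertible in A (this holds in particular when φ is surjective). Then the associated continuous map
Spec A -> Spec A' is a homeomorphism onto its image. -/
theorem result
    {A' A : Type u} [CommRing A'] [CommRing A] (φ : A' →+* A)
    (h : ∀ f : A, ∃ (u : Aˣ) (f' : A'), f = (u : A) * φ f') :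
    Topology.IsEmbedding (PrimeSpectrum.comap φ) := by
  have key : ∀ (p : PrimeSpectrum A) (f : A) (u : Aˣ) (f' : A'), f = (u : A) * φ f' →
      (f ∈ p.asIdeal ↔ f' ∈ (PrimeSpectrum.comap φ p).asIdeal) := by
    intro p f u f' hf
    rw [PrimeSpectrum.comap_asIdeal, Ideal.mem_comap, hf]
    constructor
    · intro hm
      have := p.asIdeal.mul_mem_left (↑u⁻¹ : A) hm
      rwa [← mul_assoc, Units.inv_mul, one_mul] at this
    · intro hm
      exact p.asIdeal.mul_mem_left _ hm
  have hbasic : ∀ (f : A) (u : Aˣ) (f' : A'), f = (u : A) * φ f' →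
      (PrimeSpectrum.basicOpen f : Set (PrimeSpectrum A)) =
        PrimeSpectrum.comap φ ⁻¹' (PrimeSpectrum.basicOpen f' : Set (PrimeSpectrum A')) := by
    intro f u f' hf
    ext q
    simp only [Set.mem_preimage, SetLike.mem_coe, PrimeSpectrum.mem_basicOpen]
    rw [key q f u f' hf]
  refine ⟨⟨?_⟩, ?_⟩
  · -- inducing
    apply le_antisymm
    · exact continuous_iff_le_induced.1 (PrimeSpectrum.continuous_comap φ)
    · intro s hs
      rw [PrimeSpectrum.isTopologicalBasis_basic_opens.isOpen_iff] at hs
      have hs' : ∀ a ∈ s, ∃ f : A, a ∈ (PrimeSpectrum.basicOpen f : Set (PrimeSpectrum A)) ∧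
          (PrimeSpectrum.basicOpen f : Set (PrimeSpectrum A)) ⊆ s := by
        intro a ha
        obtain ⟨_, ⟨f, rfl⟩, h1, h2⟩ := hs a ha
        exact ⟨f, h1, h2⟩
      choose! F hF1 hF2 using hs'
      have : s = ⋃ a ∈ s, (PrimeSpectrum.basicOpen (F a) : Set (PrimeSpectrum A)) := by
        ext q
        simp only [Set.mem_iUnion]
        constructor
        · intro hq
          exact ⟨q, hq, hF1 q hq⟩
        · rintro ⟨a, ha, hq⟩
          exact hF2 a ha hq
      rw [this]
      apply @isOpen_biUnion _ _ (TopologicalSpace.induced (PrimeSpectrum.comap φ) _)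
      intro a _
      obtain ⟨u, f', hf⟩ := h (F a)
      rw [hbasic _ u f' hf]
      exact isOpen_induced_iff.2 ⟨_, (PrimeSpectrum.basicOpen f').2, rfl⟩
  · intro p q hpq
    ext f
    obtain ⟨u, f', hf⟩ := h f
    rw [key p f u f' hf, key q f u f' hf, hpq]

end Groth.Agent.S4369
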