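import Groth.Statements.S4371
import Mathlib

set_option autoImplicit false
universe u
open RedSep

namespace Groth.Agent.S4371

open AlgebraicGeometry CategoryTheory

section general

variable {X : Scheme.{u}}

/-- restriction map as a ring hom -/
def res {U V : X.Opens} (h : V ≤ U) : Γ(X, U) →+* Γ(X, V) :=
  (X.presheaf.map (homOfLE h).op).hom

lemma res_res {U V W : X.Opens} (h1 : V ≤ U) (h2 : W ≤ V) (x : Γ(X, U)) :
    res h2 (res h1 x) = res (h2.trans h1) x := by
  change ((X.presheaf.map (homOfLE h1).op) ≫ (X.presheaf.map (homOfLE h2).op)).hom x = _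
  rw [← Functor.map_comp]
  rfl

lemma res_injective [IsIntegral X] {U V : X.Opens} (h : V ≤ U) (hV : V ≠ ⊥) :
    Function.Injective (res (X := X) h) := by
  have : Nonempty V := by
    by_contra hne
    apply hV
    ext x
    simp only [TopologicalSpace.Opens.coe_bot, Set.mem_empty_iff_false, iff_false]
    intro hx
    exact hne ⟨⟨x, hx⟩⟩
  exact map_injective_of_isIntegral X (homOfLE h)

variable [IsAffine X] [IsIntegral X]

lemma algebraMap_eq_res (s : Γ(X, ⊤)) (x : Γ(X, ⊤)) :
    algebraMap Γ(X, ⊤) Γ(X, X.basicOpen s) x = res (X.basicOpen_le s) x := rfl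

/-- Any section over `D(s) ∪ D(t)` restricted to `D(s)` is a global section. -/
lemma exists_global (s t : Γ(X, ⊤)) (hs : s ≠ 0) (ht : t ≠ 0)
    (H : ∀ (a b : Γ(X, ⊤)) (n m : ℕ), a * t ^ m = b * s ^ n → ∃ c, a = s ^ n * c)
    (γ : Γ(X, X.basicOpen s ⊔ X.basicOpen t)) :
    ∃ c : Γ(X, ⊤), res (le_sup_left : X.basicOpen s ≤ X.basicOpen s ⊔ X.basicOpen t) γ =
      res (X.basicOpen_le s) c := by
  obtain ⟨n, a, ha⟩ := IsLocalization.Away.surj s
    (res (le_sup_left : X.basicOpen s ≤ X.basicOpen s ⊔ X.basicOpen t) γ)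
  obtain ⟨m, b, hb⟩ := IsLocalization.Away.surj t
    (res (le_sup_right : X.basicOpen t ≤ X.basicOpen s ⊔ X.basicOpen t) γ)
  rw [algebraMap_eq_res, algebraMap_eq_res, ← map_pow] at ha hb
  have hW1 : X.basicOpen s ⊓ X.basicOpen t ≤ X.basicOpen s := inf_le_left
  have hW2 : X.basicOpen s ⊓ X.basicOpen t ≤ X.basicOpen t := inf_le_right
  have hWne : X.basicOpen s ⊓ X.basicOpen t ≠ ⊥ := by
    rw [← Scheme.basicOpen_mul, Ne, basicOpen_eq_bot_iff]
    exact mul_ne_zero hs ht
  have ha' := congrArg (res hW1) ha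
  have hb' := congrArg (res hW2) hb
  rw [map_mul, res_res, res_res, res_res] at ha' hb'
  have hab : a * t ^ m = b * s ^ n := by
    apply res_injective (le_top : X.basicOpen s ⊓ X.basicOpen t ≤ ⊤) hWne
    rw [map_mul, map_mul, ← ha', ← hb']
    ring
  obtain ⟨c, hc⟩ := H a b n m hab
  refine ⟨c, ?_⟩
  have hu : IsUnit (res (X.basicOpen_le s) (s ^ n)) := by
    rw [map_pow]
    exact (IsLocalization.Away.algebraMap_isUnit (S := Γ(X, X.basicOpen s)) s).pow n
  apply hu.mul_right_cancel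
  rw [ha, hc, map_mul, mul_comm]

/-- the key lemma. -/
lemma key (s t : Γ(X, ⊤)) (hs : s ≠ 0) (ht : t ≠ 0)
    (H : ∀ (a b : Γ(X, ⊤)) (n m : ℕ), a * t ^ m = b * s ^ n → ∃ c, a = s ^ n * c)
    (hU : IsAffineOpen (X.basicOpen s ⊔ X.basicOpen t)) :
    ∃ c c' : Γ(X, ⊤), c * s + c' * t = 1 := by
  have hle : X.basicOpen s ⊔ X.basicOpen t ≤ ⊤ := le_top
  have hspan : Ideal.span ({res hle s, res hle t} : Set Γ(X, X.basicOpen s ⊔ X.basicOpen t)) = ⊤ := by
    rw [← hU.self_le_iSup_basicOpen_iff]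
    apply sup_le
    · refine le_iSup_of_le ⟨res hle s, by simp⟩ ?_
      change _ ≤ X.basicOpen (X.presheaf.map (homOfLE hle).op s)
      rw [Scheme.basicOpen_res]
      exact le_inf le_sup_left le_rfl
    · refine le_iSup_of_le ⟨res hle t, by simp⟩ ?_
      change _ ≤ X.basicOpen (X.presheaf.map (homOfLE hle).op t)
      rw [Scheme.basicOpen_res]
      exact le_inf le_sup_right le_rfl
  have h1 : (1 : Γ(X, X.basicOpen s ⊔ X.basicOpen t)) ∈
      Ideal.span ({res hle s, res hle t} : Set Γ(X, X.basicOpen s ⊔ X.basicOpen t)) := by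
    rw [hspan]; trivial
  obtain ⟨α, β, hαβ⟩ := Ideal.mem_span_pair.mp h1
  obtain ⟨c, hc⟩ := exists_global s t hs ht H α
  obtain ⟨c', hc'⟩ := exists_global s t hs ht H β
  refine ⟨c, c', ?_⟩
  have hsne : X.basicOpen s ≠ ⊥ := by
    rw [Ne, basicOpen_eq_bot_iff]; exact hs
  apply res_injective (X.basicOpen_le s) hsne
  have := congrArg (res (le_sup_left : X.basicOpen s ≤ X.basicOpen s ⊔ X.basicOpen t)) hαβ
  rw [map_add, map_mul, map_mul, res_res, res_res, hc, hc', map_one] at this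
  rw [map_add, map_mul, map_mul, map_one]
  exact this

end general

section poly

variable (K : Type u) [Field K]

lemma not_X0_dvd_X1_pow (m : ℕ) :
    ¬ (MvPolynomial.X 0 : MvPolynomial (Fin 2) K) ∣ MvPolynomial.X 1 ^ m := by
  intro h
  have h1 := (MvPolynomial.X_prime (R := K) (σ := Fin 2) (i := 0)).dvd_of_dvd_pow h
  obtain ⟨q, hq⟩ := h1
  have := congrArg (MvPolynomial.eval (fun i : Fin 2 => if i = 0 then (0 : K) else 1)) hq
  simp at this

lemma no_bezout (c c' : MvPolynomial (Fin 2) K) :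
    c * MvPolynomial.X 0 + c' * MvPolynomial.X 1 ≠ 1 := by
  intro h
  have := congrArg (MvPolynomial.eval (fun _ : Fin 2 => (0 : K))) h
  simp at this

end poly

open AlgebraicGeometry in
open CategoryTheory in
/-- Let K be a field and Y = Spec K[s, t] the affine plane over K. The open subset D(s) ∪ D(t) of Y, the
complement of the closed point s = t = 0, is not affine. -/
theorem result
    (K : Type u) [Field K] :
    ¬ IsAffineOpen (X := Spec (CommRingCat.of (MvPolynomial (Fin 2) K)))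
      (PrimeSpectrum.basicOpen (MvPolynomial.X 0 : MvPolynomial (Fin 2) K) ⊔
        PrimeSpectrum.basicOpen (MvPolynomial.X 1 : MvPolynomial (Fin 2) K)) := by
  intro hU
  let R : CommRingCat := CommRingCat.of (MvPolynomial (Fin 2) K)
  let e : Γ(Spec R, ⊤) ≃+* MvPolynomial (Fin 2) K :=
    (Scheme.ΓSpecIso R).commRingCatIsoToRingEquiv
  have hs : (Spec R).basicOpen (e.symm (MvPolynomial.X 0)) =
      PrimeSpectrum.basicOpen (MvPolynomial.X 0 : MvPolynomial (Fin 2) K) :=
    basicOpen_eq_of_affine (R := R) (MvPolynomial.X 0)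
  have ht : (Spec R).basicOpen (e.symm (MvPolynomial.X 1)) =
      PrimeSpectrum.basicOpen (MvPolynomial.X 1 : MvPolynomial (Fin 2) K) :=
    basicOpen_eq_of_affine (R := R) (MvPolynomial.X 1)
  have hU' : IsAffineOpen ((Spec R).basicOpen (e.symm (MvPolynomial.X 0)) ⊔
      (Spec R).basicOpen (e.symm (MvPolynomial.X 1))) := by
    rw [hs, ht]
    exact hU
  have hs0 : e.symm (MvPolynomial.X 0) ≠ 0 := by
    rw [Ne, RingEquiv.map_eq_zero_iff]
    exact MvPolynomial.X_ne_zero 0
  have ht0 : e.symm (MvPolynomial.X 1) ≠ 0 := by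
    rw [Ne, RingEquiv.map_eq_zero_iff]
    exact MvPolynomial.X_ne_zero 1
  obtain ⟨c, c', hc⟩ := key (X := Spec R) (e.symm (MvPolynomial.X 0)) (e.symm (MvPolynomial.X 1))
    hs0 ht0 (by
      intro a b n m hab
      have h1 := congrArg e hab
      rw [map_mul, map_mul, map_pow, map_pow, e.apply_symm_apply, e.apply_symm_apply] at h1
      have h2 : (MvPolynomial.X 0 : MvPolynomial (Fin 2) K) ^ n ∣ e a * MvPolynomial.X 1 ^ m :=
        ⟨e b, by rw [h1, mul_comm]⟩
      obtain ⟨c₀, hc₀⟩ := (MvPolynomial.X_prime (R := K) (σ := Fin 2) (i := 0)).pow_dvd_of_dvd_mul_right n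
        (not_X0_dvd_X1_pow K m) h2
      refine ⟨e.symm c₀, ?_⟩
      apply e.injective
      rw [map_mul, map_pow, e.apply_symm_apply, e.apply_symm_apply, hc₀]) hU'
  have h1 := congrArg e hc
  rw [map_add, map_mul, map_mul, e.apply_symm_apply, e.apply_symm_apply, map_one] at h1
  exact no_bezout K _ _ h1

end Groth.Agent.S4371
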