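import Groth.Statements.S4373
import Mathlib
import Groth.Agent.Lib.Helper23SecTw3
-- import your own Groth.Agent.* helpers here

set_option autoImplicit false
universe u
open CategoryTheory CategoryTheory.Limits AlgebraicGeometry
open EGA2

namespace Groth.Agent.S4373


open TopologicalSpace Opposite
open Groth.Agent.Lib.Helper23.SecTw Groth.Agent.Lib.Helper23.GenLocus Groth.Agent.Lib.Helper23.QCohLocal Groth.Agent.Lib.Helper6
open Groth.Agent.Lib.Helper23.TensorUnit Groth.Agent.Lib.Helper23.AmpleIso

/-- Let X be a quasi-affine scheme and L an invertible O_X-module. Then L is ample. (The published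
statement also asserts that L is very ample for the canonical morphism to the spectrum of the global
sections; that part is not stated here.) -/
theorem result (X : Scheme.{u}) [X.IsQuasiAffine] (L : X.Modules)
    (hL : PicF.IsInvertible L) : CohB1.IsAmple L := by
  refine ⟨hL, inferInstance, fun x => ?_⟩
  obtain ⟨W, hxW, hWaff, e, -, -, -, hgen⟩ := exists_frame L hL 0 x
  obtain ⟨_, ⟨_, ⟨h, hh, rfl⟩, rfl⟩, hxh, hhW⟩ :=
    (Scheme.IsQuasiAffine.isBasis_basicOpen X).exists_subset_of_mem_open hxW W.2
  replace hhW : X.basicOpen h ≤ W := hhW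
  haveI := isQuasicoherent_of_isInvertible L hL
  have hc : IsCompact ((⊤ : X.Opens) : Set X) := by simpa using isCompact_univ
  have hqs : IsQuasiSeparated ((⊤ : X.Opens) : Set X) := by
    simpa using (isQuasiSeparated_univ_iff (α := X)).2 inferInstance
  obtain ⟨n, σ, hσ⟩ := exists_extension_qcqs' hc hqs L h (X.basicOpen h) rfl le_top (res L hhW e)
  replace hσ : res L (le_top : X.basicOpen h ≤ ⊤) σ = resf le_top h ^ n • res L hhW e := hσ
  have hsv : ∀ U : X.Opens, sv (secHom L (h • σ)) U = resf (le_top : U ≤ ⊤) h • res L (le_top : U ≤ ⊤) σ := by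
    intro U
    rw [sv_secHom, res_smul]
  have key : CohB1.genLocus L (secHom L (h • σ)) = X.basicOpen h := by
    apply le_antisymm
    · intro y hy
      obtain ⟨W', hyW', -, e', f', hval', hbo', hgen'⟩ := exists_frame L hL (secHom L (h • σ)) y
      obtain ⟨c, hc⟩ := (hgen' W' le_rfl).2 (res L le_top σ)
      replace hc : c • res L le_rfl e' = res L (le_top : W' ≤ ⊤) σ := hc
      have hres : res L (le_rfl : W' ≤ W') e' = e' := by
        change L.presheaf.map (𝟙 _) e' = e'
        rw [L.presheaf.map_id]; rfl
      rw [hres] at hc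
      have hf' : f' = resf le_top h * c := by
        apply (hgen' W' le_rfl).1
        change f' • res L le_rfl e' = (resf le_top h * c) • res L le_rfl e'
        rw [hres, ← hval', hsv, mul_smul, hc]
      have hy' : y ∈ X.basicOpen f' := by rw [hbo']; exact ⟨hy, hyW'⟩
      rw [hf', Scheme.basicOpen_mul] at hy'
      have := hy'.1
      rw [Scheme.basicOpen_res] at this
      exact this.2
    · have h1 := genLocus_inf_eq_of_isGen L (secHom L (h • σ)) (X.basicOpen h) (res L hhW e)
        (resf le_top h ^ (n + 1)) (hgen.mono hhW) (by rw [hsv, hσ, ← mul_smul, ← pow_succ'])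
      have h2 : X.basicOpen (resf (le_top : X.basicOpen h ≤ ⊤) h ^ (n + 1)) = X.basicOpen h := by
        rw [Scheme.basicOpen_pow (X := X) (resf (le_top : X.basicOpen h ≤ ⊤) h) (Nat.succ_pos n),
          Scheme.basicOpen_res, inf_idem]
      rw [h2] at h1
      exact inf_eq_right.1 h1
  refine ⟨0, secHom L (h • σ) ≫ (unitTensorIso L).inv, ?_⟩
  have h3 : CohB1.genLocus (CohB1.tensorPow L (0 + 1)) (secHom L (h • σ) ≫ (unitTensorIso L).inv) =
      CohB1.genLocus L (secHom L (h • σ)) :=
    genLocus_comp_iso (unitTensorIso L).symm (secHom L (h • σ))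
  rw [h3, key]
  exact ⟨hxh, hh⟩

end Groth.Agent.S4373
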