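import Groth.Statements.S4375
import Mathlib
import Groth.Agent.Lib.Helper23Serre2
-- import your own Groth.Agent.* helpers here

set_option autoImplicit false
universe u
open CategoryTheory CategoryTheory.Limits AlgebraicGeometry
open EGA2

namespace Groth.Agent.S4375


open Groth.Agent.Lib.Helper23.Serre in
/-- (c') ⇒ (a): let X be a quasi-compact separated scheme. Suppose that for every n, every
quasi-coherent O_X-module F admitting a monomorphism into the free module O_X^n, and every
epimorphism p : F → F'' onto a quasi-coherent O_X-module, the map induced by p on global sections is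
surjective. Then X is affine. (The published statement also allows X to be a scheme whose underlying
space is Noetherian; this row assumes it quasi-compact and separated.) -/
theorem result (X : Scheme.{u}) [CompactSpace X] [X.IsSeparated]
    (h : ∀ (n : ℕ) (F F'' : X.Modules) (i : F ⟶ FlatMod.freeMod X n) (p : F ⟶ F''),
      Mono i → Epi p → Coh.IsQCoh F → Coh.IsQCoh F'' →
        Function.Surjective (p.val.app (Opposite.op ⊤)).hom) :
    IsAffine X := by
  apply isAffine_of_surjHyp
  · intro Q π hQ hπ
    let i : Coh.structureModule X ⟶ FlatMod.freeMod X 1 :=
      Sigma.ι (fun _ : Fin 1 => Coh.structureModule X) 0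
    have hi : Mono i := by
      have h1 : i ≫ Sigma.desc (fun _ : Fin 1 => 𝟙 (Coh.structureModule X)) = 𝟙 _ := Sigma.ι_desc _ _
      exact mono_of_mono_fac h1
    exact h 1 (Coh.structureModule X) Q i π hi hπ (isQuasicoherent_structureModule' X) hQ
  · intro n f hepi
    exact h n (FlatMod.freeMod X n) (Coh.structureModule X) (𝟙 _) (psiF f) inferInstance hepi
      (isQuasicoherent_freeMod n) (isQuasicoherent_structureModule' X)

end Groth.Agent.S4375
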