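import Groth.Statements.S4376
import Groth.Agent.Lib.Helper28SerreRel

set_option autoImplicit false
universe u
open CategoryTheory CategoryTheory.Limits AlgebraicGeometry
open EGA2

namespace Groth.Agent.S4376

/-- (b) ⇒ (a): let f : X → Y be a separated quasi-compact morphism such that the direct image functor
f_* is exact on quasi-coherent O_X-modules, i.e. for every epimorphism p : F → F'' of quasi-coherent
O_X-modules the morphism f_*(p) is again an epimorphism. Then f is an affine morphism. -/
theorem result {X Y : Scheme.{u}} (f : X ⟶ Y) [IsSeparated f] [QuasiCompact f]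
    (h : ∀ (F F'' : X.Modules) (p : F ⟶ F''), Coh.IsQCoh F → Coh.IsQCoh F'' → Epi p → Epi ((Coh.push f).map p)) :
    IsAffineHom f := by
  refine Groth.Agent.Lib.Helper28.SerreRel.isAffineHom_of_epi_push_unitPush f ?_
  intro Z i hi
  have h1 : (Coh.structureModule Z).IsQuasicoherent :=
    Groth.Agent.Lib.Helper23.Serre.isQuasicoherent_structureModule' Z
  exact h _ _ (Groth.Agent.Lib.Helper23.Serre.unitPush i)
    (Groth.Agent.Lib.Helper23.Serre.isQuasicoherent_structureModule' X)
    (Groth.Agent.Lib.Helper23.QCohLocal.isQuasicoherent_pushforward i _) inferInstance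

end Groth.Agent.S4376
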