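import Groth.Statements.S4377
import Groth.Agent.Lib.Helper28SerreRel
import Groth.Agent.Lib.Helper23SerreRel

set_option autoImplicit false
universe u
open CategoryTheory CategoryTheory.Limits AlgebraicGeometry
open EGA2

namespace Groth.Agent.S4377

open Groth.Agent.Lib.Helper28.SerreRel Groth.Agent.Lib.Helper23.Serre Groth.Agent.Lib.Helper23.AffVanish
  Groth.Agent.Lib.Helper23.QCohLocal Groth.Agent.Lib.Helper23.GenLocus in
/-- (c') ⇒ (a): let f : X → Y be a separated quasi-compact morphism such that R¹f_*(J) = 0 (first higher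
direct image of the underlying abelian sheaf) for every quasi-coherent submodule J of O_X. Then f is
an affine morphism. -/
theorem result {X Y : Scheme.{u}} (f : X ⟶ Y) [IsSeparated f] [QuasiCompact f]
    (h : ∀ (J : X.Modules) (i : J ⟶ Coh.structureModule X), Mono i → Coh.IsQCoh J →
      Limits.IsZero ((Coh.RpushAb f 1).obj (Coh.toAb J))) :
    IsAffineHom f := by
  refine ⟨fun V hV => ?_⟩
  have hc : IsCompact ((f ⁻¹ᵁ V : X.Opens) : Set X) :=
    QuasiCompact.isCompact_preimage (f := f) _ V.isOpen hV.isCompact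
  refine isAffineOpen_of_clSurj _ hc (isQuasiSeparated_preimage f hV) ?_
  intro Z i hi b
  have : (Coh.structureModule Z).IsQuasicoherent := isQuasicoherent_structureModule' Z
  have : (Coh.structureModule X).IsQuasicoherent := isQuasicoherent_structureModule' X
  have : ((Scheme.Modules.pushforward i).obj (Coh.structureModule Z)).IsQuasicoherent :=
    isQuasicoherent_pushforward i _
  let π := unitPush i
  let S : ShortComplex X.Modules := ShortComplex.mk (kernel.ι π) π (kernel.condition π)
  have hS : S.ShortExact :=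
    { exact := ShortComplex.exact_kernel π
      mono_f := inferInstanceAs (Mono (kernel.ι π))
      epi_g := inferInstanceAs (Epi π) }
  have : (kernel π).IsQuasicoherent := isQuasicoherent_kernel π
  have hvan : Subsingleton (HE (ab' (kernel π)) 1 (f ⁻¹ᵁ V)) :=
    Groth.Agent.Lib.Helper23.SerreRel.subsingleton_HE_preimage_of_hypRel f h (kernel π) (kernel.ι π) hV
  obtain ⟨a, ha⟩ := surjective_app_of_subsingleton_HE S hS (f ⁻¹ᵁ V) hvan (toS (i ⁻¹ᵁ (f ⁻¹ᵁ V)) b)
  exact ⟨ofS (f ⁻¹ᵁ V) a, congrArg (ofS (i ⁻¹ᵁ (f ⁻¹ᵁ V))) ha⟩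

end Groth.Agent.S4377
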