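import Groth.Statements.S4380
import Mathlib
import Groth.Agent.Lib.Helper23RestrJ
-- import your own Groth.Agent.* helpers here

set_option autoImplicit false
universe u
open CategoryTheory CategoryTheory.Limits AlgebraicGeometry
open EGA2

namespace Groth.Agent.S4380
open Groth.Agent.Lib.Helper23.RestrJ


theorem isAmple_morphismRestrict_iff {X Y : Scheme.{u}} (f : X ⟶ Y) (L : X.Modules) (U : Y.Opens)
    (V' : (↑U : Scheme.{u}).Opens) :
    CohB1.IsAmple ((L.restrict (f ⁻¹ᵁ U).ι).restrict ((f ∣_ U) ⁻¹ᵁ V').ι) ↔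
      CohB1.IsAmple (L.restrict (f ⁻¹ᵁ (U.ι ''ᵁ V')).ι) := by
  rw [isAmple_restrict_restrict_iff, image_morphismRestrict_preimage]

/-- Let f : X → Y be a quasi-compact morphism, L an O_X-module and (U_i) a cover of Y by open subsets.
Then L is ample relative to f if and only if, for every i, the restriction of L to f⁻¹(U_i) is ample
relative to the restriction f⁻¹(U_i) → U_i of f. -/
theorem result {X Y : Scheme.{u}} (f : X ⟶ Y) [QuasiCompact f] (L : X.Modules)
    {ι : Type u} (U : ι → Y.Opens) (hU : ⨆ i, U i = ⊤) :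
    RelAmple.IsRelAmple f L ↔ ∀ i, RelAmple.IsRelAmple (f ∣_ (U i)) (L.restrict (f ⁻¹ᵁ (U i)).ι) := by
  constructor
  · intro h i
    refine ⟨inferInstance, fun V' => ?_⟩
    rw [isAmple_morphismRestrict_iff]
    exact h.2 ⟨(U i).ι ''ᵁ V'.1, V'.2.image_of_isOpenImmersion (U i).ι⟩
  · intro h
    refine ⟨inferInstance, fun V => ?_⟩
    refine isAmple_restrict_preimage_of_basicOpen_cover f L V.1 V.2 (fun y hyV => ?_)
    obtain ⟨i, hyi⟩ : ∃ i, y ∈ U i := by
      have : y ∈ ⨆ i, U i := by rw [hU]; trivial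
      exact TopologicalSpace.Opens.mem_iSup.1 this
    obtain ⟨g, hgle, hyg⟩ := V.2.exists_basicOpen_le (V := U i) ⟨y, hyi⟩ hyV
    refine ⟨g, hyg, ?_⟩
    have haff : IsAffineOpen ((U i).ι ⁻¹ᵁ (Y.basicOpen g)) :=
      (V.2.basicOpen g).preimage_of_isOpenImmersion (U i).ι (by rwa [Scheme.Opens.opensRange_ι])
    have h1 := (h i).2 ⟨_, haff⟩
    rw [isAmple_morphismRestrict_iff, Groth.Agent.Lib.Helper23.SecTw.image_preimage_of_le (U i) hgle] at h1
    exact h1

end Groth.Agent.S4380
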