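import Groth.Statements.S4382
import Mathlib
import Groth.Agent.Lib.Helper23RestrTensor
import Groth.Agent.Lib.Helper23RelAmpleCounit
import Groth.Agent.Lib.Helper23FinTypeLocal
import Groth.Agent.Lib.Helper23LocGen
-- import your own Groth.Agent.* helpers here

set_option autoImplicit false
universe u
open CategoryTheory CategoryTheory.Limits AlgebraicGeometry
open EGA2

namespace Groth.Agent.S4382
open TopologicalSpace Opposite
set_option backward.isDefEq.respectTransparency.types false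

open Groth.Agent.Lib.Helper23.RestrTensor Groth.Agent.Lib.Helper23.RelAmpleCounit
  Groth.Agent.Lib.Helper23.CounitEpi

/-- Let X be a quasi-compact separated scheme, f : X → Y a separated quasi-compact morphism and L an
invertible O_X-module. Then L is ample relative to f if and only if for every quasi-coherent
O_X-module F of finite type there is n₀ > 0 such that for every n ≥ n₀ the canonical morphism
f^*(f_*(F ⊗ L^{⊗n})) → F ⊗ L^{⊗n} (the counit of the adjunction between f^* and f_*) is an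
epimorphism. (The published statement also allows X to be a scheme whose underlying space is
Noetherian; this row assumes X quasi-compact and separated.) -/
theorem result {X Y : Scheme.{u}} [CompactSpace X] [X.IsSeparated] (f : X ⟶ Y)
    [IsSeparated f] [QuasiCompact f] (L : X.Modules) (hL : PicF.IsInvertible L) :
    RelAmple.IsRelAmple f L ↔ ∀ F : X.Modules, Coh.IsQCoh F → CohB1.IsFT F →
      ∃ n₀ : ℕ, 0 < n₀ ∧ ∀ n : ℕ, n₀ ≤ n →
        Epi ((Scheme.Modules.pullbackPushforwardAdjunction f).counit.app (CohB1.tensorMod F (CohB1.tensorPow L n))) := by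
  constructor
  · intro h F hF hFT
    haveI : F.IsQuasicoherent := hF
    haveI : SheafOfModules.IsFiniteType (R := X.ringCatSheaf) F := hFT
    have key : ∀ V : Y.affineOpens, ∃ n₀ : ℕ, ∀ n, n₀ ≤ n →
        Curv2.IsGloballyGenerated ((CohB1.tensorMod F (CohB1.tensorPow L n)).restrict (f ⁻¹ᵁ V.1).ι) := by
      intro V
      haveI : (F.restrict (f ⁻¹ᵁ V.1).ι).IsQuasicoherent :=
        Scheme.Modules.isQuasicoherent_restrictFunctor (f ⁻¹ᵁ V.1).ι F
      haveI : SheafOfModules.IsFiniteType (R := ((f ⁻¹ᵁ V.1 : X.Opens) : Scheme.{u}).ringCatSheaf)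
          (F.restrict (f ⁻¹ᵁ V.1).ι) :=
        Groth.Agent.Lib.Helper23.FinType.isFiniteType_restrict (f ⁻¹ᵁ V.1).ι F
      obtain ⟨n₀, hn₀⟩ := Groth.Agent.Lib.Helper23.LocGen.isGloballyGenerated_twist_eventually
        (L.restrict (f ⁻¹ᵁ V.1).ι) (h.2 V) (F.restrict (f ⁻¹ᵁ V.1).ι)
      refine ⟨n₀, fun n hn => ?_⟩
      obtain ⟨e⟩ := nonempty_restrict_twist_iso F L hL (f ⁻¹ᵁ V.1) n
      exact isGloballyGenerated_of_iso e.symm (hn₀ n hn)
    choose N hN using key
    have hcov : ∀ x : X, ∃ V : Y.affineOpens, f x ∈ V.1 := by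
      intro x
      obtain ⟨V, hV, hxV, -⟩ := Opens.isBasis_iff_nbhd.1 Y.isBasis_affineOpens (Opens.mem_top (f x))
      exact ⟨⟨V, hV⟩, hxV⟩
    choose V hV using hcov
    obtain ⟨T, hT⟩ : ∃ T : Finset X, (Set.univ : Set X) ⊆ ⋃ x ∈ T, ((f ⁻¹ᵁ (V x).1 : X.Opens) : Set X) :=
      isCompact_univ.elim_finite_subcover (fun x => ((f ⁻¹ᵁ (V x).1 : X.Opens) : Set X))
        (fun x => (f ⁻¹ᵁ (V x).1).2) (fun x _ => Set.mem_iUnion.2 ⟨x, hV x⟩)
    refine ⟨max (T.sup fun x => N (V x)) 1, by omega, fun n hn => ?_⟩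
    apply epi_counit_of_isGloballyGenerated f
    intro y
    obtain ⟨x, hx⟩ := Set.mem_iUnion.1 (hT (Set.mem_univ y))
    obtain ⟨hxT, hyx⟩ := Set.mem_iUnion.1 hx
    exact ⟨(V x).1, hyx, hN (V x) n (le_trans (Finset.le_sup (f := fun x => N (V x)) hxT)
      (le_trans (le_max_left _ _) hn))⟩
  · intro h
    apply isRelAmple_of_epi_counit f L hL
    intro J hJ
    obtain ⟨n₀, hpos, hn⟩ := h (ClSub.idealMod J)
      (Groth.Agent.Lib.Helper20.OmegaAff.isQuasicoherent_idealMod J) (isFT_idealMod J hJ)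
    obtain ⟨k, rfl⟩ : ∃ k, n₀ = k + 1 := ⟨n₀ - 1, by omega⟩
    exact ⟨k, hn _ le_rfl⟩

end Groth.Agent.S4382
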