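import Groth.Statements.S4387
import Mathlib
import Groth.Agent.Lib.Helper23Restr2
-- import your own Groth.Agent.* helpers here

set_option autoImplicit false
universe u
open CategoryTheory CategoryTheory.Limits AlgebraicGeometry
open EGA2

namespace Groth.Agent.S4387
open Groth.Agent.Lib.Helper23.SecTw Groth.Agent.Lib.Helper23.AmpleIso


/-- Let f : X → Y be a quasi-compact morphism, L an invertible O_X-module and n > 0 an integer. Then L
is ample relative to f if and only if L^{⊗n} is ample relative to f. -/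
theorem result {X Y : Scheme.{u}} (f : X ⟶ Y) [QuasiCompact f] (L : X.Modules)
    (hL : PicF.IsInvertible L) (n : ℕ) (hn : 0 < n) :
    RelAmple.IsRelAmple f L ↔ RelAmple.IsRelAmple f (CohB1.tensorPow L n) := by
  have key : ∀ V : Y.affineOpens, CohB1.IsAmple (L.restrict (f ⁻¹ᵁ V.1).ι) ↔
      CohB1.IsAmple ((CohB1.tensorPow L n).restrict (f ⁻¹ᵁ V.1).ι) := by
    intro V
    obtain ⟨Φ⟩ := nonempty_restrict_tensorPow_iso L hL (f ⁻¹ᵁ V.1) n
    rw [isAmple_iff_of_iso Φ]
    exact isAmple_tensorPow_iff _ (isInvertible_restrict L hL _) n hn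
  constructor
  · rintro ⟨h1, h2⟩
    exact ⟨h1, fun V => (key V).1 (h2 V)⟩
  · rintro ⟨h1, h2⟩
    exact ⟨h1, fun V => (key V).2 (h2 V)⟩

end Groth.Agent.S4387
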