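import Groth.Statements.S4388
import Mathlib
import Groth.Agent.Lib.Helper23CounitSec
import Groth.Agent.Lib.Helper23Restr2
-- import your own Groth.Agent.* helpers here

set_option autoImplicit false
universe u
open CategoryTheory CategoryTheory.Limits AlgebraicGeometry
open EGA2

namespace Groth.Agent.S4388
open TopologicalSpace Opposite

open Groth.Agent.Lib.Helper23.SecTw Groth.Agent.Lib.Helper23.GenLocus Groth.Agent.Lib.Helper6
open Groth.Agent.Lib.Helper23.CounitEpi Groth.Agent.Lib.Helper23.CounitSec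
open Groth.Agent.Lib.Helper23.GenNear Groth.Agent.Lib.Helper23.Extend
open Groth.Agent.Lib.Helper23.AmpleIso

/-- Let f : X → Y be a quasi-compact morphism, L an O_X-module ample relative to f and L' an invertible
O_X-module such that, for some n > 0, the canonical morphism f^*(f_*(L'^{⊗n})) → L'^{⊗n} (counit of
the adjunction between f^* and f_*) is an epimorphism. Then L ⊗ L' is ample relative to f. -/
theorem result {X Y : Scheme.{u}} (f : X ⟶ Y) [QuasiCompact f] (L L' : X.Modules)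
    (hL : RelAmple.IsRelAmple f L) (hL' : PicF.IsInvertible L') (n : ℕ) (hn : 0 < n)
    (hepi : Epi ((Scheme.Modules.pullbackPushforwardAdjunction f).counit.app (CohB1.tensorPow L' n))) :
    RelAmple.IsRelAmple f (CohB1.tensorMod L L') := by
  have hLinv : PicF.IsInvertible L := isInvertible_of_isRelAmple f L hL
  refine ⟨hL.1, fun V => ?_⟩
  have hLU : CohB1.IsAmple (L.restrict (f ⁻¹ᵁ V.1).ι) := hL.2 V
  obtain ⟨Θ⟩ := nonempty_restrict_tensorMod_iso L L' hLinv hL' (f ⁻¹ᵁ V.1)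
  refine isAmple_of_iso Θ.symm (isAmple_tensorMod_of_forall_mem_genLocus _ _ hLU
    (isInvertible_restrict L' hL' _) (fun x' => ?_))
  obtain ⟨x, hx⟩ := x'
  have hqc : IsCompact (f ⁻¹ᵁ V.1).carrier := QuasiCompact.isCompact_preimage (f := f) _ V.1.2 V.2.isCompact
  have hqs : IsQuasiSeparated (f ⁻¹ᵁ V.1).carrier := by
    rw [isQuasiSeparated_iff_quasiSeparatedSpace _ (f ⁻¹ᵁ V.1).2]
    exact quasiSeparatedSpace_of_isAmple _ hLU
  obtain ⟨k, rfl⟩ : ∃ k, n = k + 1 := ⟨n - 1, by omega⟩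
  obtain ⟨M, hMdef⟩ : ∃ M : X.Modules, M = CohB1.tensorPow L' (k + 1) := ⟨_, rfl⟩
  rw [← hMdef] at hepi
  have hM : PicF.IsInvertible M := by rw [hMdef]; exact isInvertible_tensorPow hL' (k + 1)
  obtain ⟨W₀, e₀, hxW₀, hgen₀⟩ := exists_gen M hM x
  have h₀ : IsGenNear M W₀ ((𝟙 M : M ⟶ M).app W₀ e₀) x := by
    refine ⟨W₀, le_rfl, hxW₀, ?_⟩
    rw [res_self]
    exact hgen₀
  obtain ⟨V'', s, hs⟩ := exists_local_section_isGenNear f hM (𝟙 M) hepi x _ _ h₀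
  have hxV'' : x ∈ f ⁻¹ᵁ V'' := hs.mem
  obtain ⟨g, hgle, hxg⟩ := V.2.exists_basicOpen_le (V := V.1 ⊓ V'') ⟨f x, ⟨hx, hxV''⟩⟩ hx
  obtain ⟨g', hg'⟩ : ∃ g' : Γ(X, f ⁻¹ᵁ V.1), g' = f.app V.1 g := ⟨_, rfl⟩
  have hbo : X.basicOpen g' = f ⁻¹ᵁ Y.basicOpen g := by rw [hg', Scheme.preimage_basicOpen]
  have hle' : X.basicOpen g' ≤ f ⁻¹ᵁ V'' := by
    rw [hbo]
    exact f.preimage_mono (hgle.trans inf_le_right)
  have hxg' : x ∈ X.basicOpen g' := by rw [hbo]; exact hxg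
  obtain ⟨t, ht⟩ := exists_extension_isGenNear hM (f ⁻¹ᵁ V.1) hqc hqs g' (f ⁻¹ᵁ V'') hle'
    ((𝟙 M : M ⟶ M).app (f ⁻¹ᵁ V'') s)
  obtain ⟨Θ'⟩ := nonempty_restrict_tensorPow_iso L' hL' (f ⁻¹ᵁ V.1) (k + 1)
  rw [← hMdef] at Θ'
  refine ⟨k, restrSecLocal M (f ⁻¹ᵁ V.1) t ≫ Θ'.hom, ?_⟩
  rw [genLocus_comp_iso]
  exact (mem_genLocus_restrSecLocal_iff M (f ⁻¹ᵁ V.1) t ⟨x, hx⟩).2 ((ht x).2 ⟨hxg', hs⟩)

end Groth.Agent.S4388
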