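import Groth.Statements.S4399
import Mathlib
import Groth.Agent.Lib.Helper27TwistGen
import Groth.Agent.Lib.Helper27InvRestrict
import Groth.Agent.Lib.Helper23SecTw6

set_option autoImplicit false
universe u
open CategoryTheory CategoryTheory.Limits AlgebraicGeometry
open EGA2

namespace Groth.Agent.S4399

/-- Let S be a ring graded in nonnegative degrees, X = Proj S, d > 0, and U the union of the opens
D_+(f) for f running through S_d. Then for every integer n the restriction of the twisting sheaf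
O_X(nd) to U is an invertible O_U-module. -/
theorem result {R A : Type u} [CommRing R] [CommRing A] [Algebra R A] (𝒜 : ℕ → Submodule R A) [GradedAlgebra 𝒜]
    (d : ℕ) (hd : 0 < d) (n : ℤ) :
    PicF.IsInvertible ((Twist.twist 𝒜 (n * d)).restrict (⨆ f : 𝒜 d, Proj.basicOpen 𝒜 (f : A)).ι) := by
  classical
  change PicF.IsInvertible ((GrTilde.tilde 𝒜 𝒜 (n * d)).restrict
    (⨆ f : 𝒜 d, Proj.basicOpen 𝒜 (f : A)).ι)
  apply Groth.Agent.Lib.Helper27Inv.isInvertible_restrict_of_cover
  intro y hy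
  obtain ⟨f, hfy⟩ := TopologicalSpace.Opens.mem_iSup.mp hy
  have hfW : ∀ (k : ℕ) (z : (Proj.basicOpen 𝒜 (f : A) : (Proj 𝒜).Opens)),
      (f : A) ^ k ∉ z.1.asHomogeneousIdeal := by
    intro k z hz
    exact (ProjectiveSpectrum.mem_basicOpen 𝒜 (f : A) z.1).mp z.2
      (z.1.isPrime.mem_of_pow_mem _ hz)
  have h1W : ∀ z : (Proj.basicOpen 𝒜 (f : A) : (Proj 𝒜).Opens),
      (1 : A) ∉ z.1.asHomogeneousIdeal := by
    intro z hz
    exact z.1.isPrime.ne_top ((Ideal.eq_top_iff_one _).mpr hz)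
  have hpow : ∀ k : ℕ, (f : A) ^ k ∈ 𝒜 (k * d) := by
    intro k
    have := SetLike.pow_mem_graded k f.2
    simpa using this
  refine ⟨Proj.basicOpen 𝒜 (f : A), hfy, ?_⟩
  rcases le_total 0 n with hn | hn
  · have hij : ((n.toNat * d : ℕ) : ℤ) = (0 : ℕ) + n * d := by
      push_cast
      rw [Int.toNat_of_nonneg hn]; simp
    exact Groth.Agent.Lib.Helper23.SecTw.nonempty_restrict_iso_of_isGen _ _ _
      (Groth.Agent.Lib.Helper27GrTildeSect.isGen_fracSec 𝒜 (n * d) (Proj.basicOpen 𝒜 (f : A))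
        (hpow n.toNat) SetLike.GradedOne.one_mem hij h1W (hfW n.toNat))
  · have hij : ((0 : ℕ) : ℤ) = (((-n).toNat * d : ℕ) : ℤ) + n * d := by
      push_cast
      rw [Int.toNat_of_nonneg (by omega)]; simp
    exact Groth.Agent.Lib.Helper23.SecTw.nonempty_restrict_iso_of_isGen _ _ _
      (Groth.Agent.Lib.Helper27GrTildeSect.isGen_fracSec 𝒜 (n * d) (Proj.basicOpen 𝒜 (f : A))
        SetLike.GradedOne.one_mem (hpow (-n).toNat) hij (hfW (-n).toNat) h1W)

end Groth.Agent.S4399
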