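import Groth.Statements.S4401
import Mathlib
import Groth.Agent.Lib.Helper27EpiGen
import Groth.Agent.Lib.Helper27TwistAmple

set_option autoImplicit false
universe u
open CategoryTheory CategoryTheory.Limits AlgebraicGeometry
open EGA2

namespace Groth.Agent.S4401

/-- Let S be a ring graded in nonnegative degrees whose irrelevant ideal S_+ is generated by finitely
many elements of degree one, and X = Proj S. Then for every integer n ≥ 0 there exist an integer k
and an epimorphism of O_X-modules O_X^k → O_X(n). -/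
theorem result {R A : Type u} [CommRing R] [CommRing A] [Algebra R A] (𝒜 : ℕ → Submodule R A) [GradedAlgebra 𝒜]
    (s : Finset A) (hs1 : ∀ f ∈ s, f ∈ 𝒜 1)
    (hs : (HomogeneousIdeal.irrelevant 𝒜).toIdeal = Ideal.span (s : Set A)) (n : ℕ) :
    ∃ (k : ℕ) (p : FlatMod.freeMod (Proj 𝒜) k ⟶ Twist.twist 𝒜 (n : ℤ)), Epi p := by
  classical
  change ∃ (k : ℕ) (p : FlatMod.freeMod (Proj 𝒜) k ⟶ GrTilde.tilde 𝒜 𝒜 (n : ℤ)), Epi p
  have hcovs : ∀ y : Proj 𝒜, ∃ f : s,
      (f : A) ∉ (show ProjectiveSpectrum 𝒜 from y).asHomogeneousIdeal := by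
    intro y
    by_contra hcon
    push Not at hcon
    apply (show ProjectiveSpectrum 𝒜 from y).not_irrelevant_le
    have h1 : (HomogeneousIdeal.irrelevant 𝒜).toIdeal ≤
        (show ProjectiveSpectrum 𝒜 from y).asHomogeneousIdeal.toIdeal := by
      rw [hs, Ideal.span_le]
      intro f hf
      exact hcon ⟨f, hf⟩
    exact h1
  have hpow : ∀ f : s, (f : A) ^ n ∈ 𝒜 n := by
    intro f
    have := SetLike.pow_mem_graded n (hs1 f.1 f.2)
    simpa using this
  let e : Fin s.card ≃ s := s.equivFin.symm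
  refine ⟨s.card, Sigma.desc (fun i => Groth.Agent.Lib.Helper23.SecTw.secHom
    (GrTilde.tilde 𝒜 𝒜 (n : ℤ))
    (Groth.Agent.Lib.Helper27GrTildeSect.gsec 𝒜 n ⊤ (hpow (e i)))), ?_⟩
  apply Groth.Agent.Lib.Helper27EpiGen.epi_desc_secHom
  intro x
  obtain ⟨f, hf⟩ := hcovs x
  refine ⟨e.symm f, Proj.basicOpen 𝒜 ((f : A) ^ n), ?_, ?_⟩
  · exact (ProjectiveSpectrum.mem_basicOpen 𝒜 ((f : A) ^ n) x).mpr
      (fun h => hf ((show ProjectiveSpectrum 𝒜 from x).isPrime.mem_of_pow_mem _ h))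
  · have := Groth.Agent.Lib.Helper27GrTildeSect.isGen_gsec 𝒜 n (hpow f)
    rw [e.apply_symm_apply]
    exact this

end Groth.Agent.S4401
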