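import Groth.Statements.S4407
import Mathlib
import Groth.Agent.Lib.Helper23FinTypeLocal
-- import your own Groth.Agent.* helpers here

set_option autoImplicit false
universe u
open CategoryTheory CategoryTheory.Limits AlgebraicGeometry
open EGA2

namespace Groth.Agent.S4407


open AlgebraicGeometry CategoryTheory CategoryTheory.Limits Groth.Agent.Lib.Helper23.FinType
  Groth.Agent.Lib.Helper23.QCohLocal

set_option backward.isDefEq.respectTransparency false in
theorem aux (X : Scheme.{u}) [X.IsQuasiAffine] (F : X.Modules)
    (hF : Coh.IsQCoh F) : Curv2.IsGloballyGenerated F := by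
  haveI : F.IsQuasicoherent := hF
  haveI : QuasiCompact X.toSpecΓ := inferInstance
  haveI : ((Scheme.Modules.pushforward X.toSpecΓ).obj F).IsQuasicoherent :=
    isQuasicoherent_pushforward X.toSpecΓ F
  obtain ⟨P⟩ := nonempty_presentation_spec ((Scheme.Modules.pushforward X.toSpecΓ).obj F)
  let G := generatingSectionsRestrict X.toSpecΓ P.generators
  let e : ((Scheme.Modules.pushforward X.toSpecΓ).obj F).restrict X.toSpecΓ ≅ F :=
    (Scheme.Modules.restrictFunctorAdjCounitIso X.toSpecΓ).app F
  let G' := G.ofEpi e.hom
  exact ⟨G'.I, G'.π, G'.epi⟩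

/-- (a) ⇒ (e): let X be a quasi-affine scheme. Then every quasi-coherent O_X-module is generated by its
global sections (it is a quotient of a free O_X-module on some index set). -/
theorem result (X : Scheme.{u}) [X.IsQuasiAffine] (F : X.Modules)
    (hF : Coh.IsQCoh F) : Curv2.IsGloballyGenerated F := by
  exact aux X F hF

end Groth.Agent.S4407
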