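import Groth.Statements.S4408
import Mathlib
import Groth.Agent.Lib.Helper23Serre
import Groth.Agent.Lib.Helper23QCohAbelian
import Groth.Agent.Lib.Helper2ModExact
import Groth.Agent.S9819
-- import your own Groth.Agent.* helpers here

set_option autoImplicit false
universe u
open CategoryTheory CategoryTheory.Limits AlgebraicGeometry
open EGA2

namespace Groth.Agent.S4408


open TopologicalSpace Opposite Groth.Agent.Lib.Helper23.Serre Groth.Agent.Lib.Helper23.GenLocus
  Groth.Agent.Lib.Helper23.QCohLocal Groth.Agent.Lib.Helper2.ModExact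

/-- a section killed by `φ` lifts to the kernel of `φ` -/
theorem exists_kernel_lift {X : Scheme.{u}} {M N : X.Modules} (φ : M ⟶ N) (U : X.Opens) (t : Γ(M, U))
    (ht : Scheme.Modules.Hom.app φ U t = 0) :
    ∃ k : Γ(kernel φ, U), Scheme.Modules.Hom.app (kernel.ι φ) U k = t := by
  let S := ShortComplex.mk (kernel.ι φ) φ (kernel.condition φ)
  have hS : S.Exact := ShortComplex.exact_of_f_is_kernel S (kernelIsKernel φ)
  have : Mono S.f := inferInstanceAs (Mono (kernel.ι φ))
  have h1 : (S.map (secFunctor U)).Exact :=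
    hS.map_of_mono_of_preservesKernel (secFunctor U) inferInstance inferInstance
  rw [ShortComplex.moduleCat_exact_iff] at h1
  exact h1 t ht

theorem comp4_zero {C : Type*} [Category C] [HasZeroMorphisms C] {A B D E F G : C} (a : A ⟶ B) (p : B ⟶ D)
    (j : D ⟶ E) (ι : E ⟶ F) (φ : F ⟶ G) (h : ι ≫ φ = 0) : (a ≫ p ≫ j ≫ ι) ≫ φ = 0 := by
  simp [h]

theorem free_hom_eq_zero {C : Type u} [Category.{u} C] {J : GrothendieckTopology C} {R : Sheaf J RingCat.{u}}
    [HasWeakSheafify J AddCommGrpCat.{u}] [J.WEqualsLocallyBijective AddCommGrpCat.{u}]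
    [J.HasSheafCompose (forget₂ RingCat.{u} AddCommGrpCat.{u})]
    {I : Type u} {M : SheafOfModules.{u} R} (f : SheafOfModules.free I ⟶ M)
    (h : ∀ a, SheafOfModules.ιFree a ≫ f = 0) : f = 0 := by
  refine Sigma.hom_ext _ _ (fun a => ?_)
  exact (h a).trans comp_zero.symm

theorem comp4_assoc {C : Type*} [Category C] {A B D E F G : C} (a : A ⟶ B) (p : B ⟶ D)
    (j : D ⟶ E) (ι : E ⟶ F) (φ : F ⟶ G) : a ≫ p ≫ (j ≫ ι) ≫ φ = (a ≫ p ≫ j ≫ ι) ≫ φ := by
  simp

/-- (e') ⇒ (a): let X be a quasi-compact separated scheme such that every quasi-coherent submodule of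
finite type of O_X is generated by its global sections. Then X is quasi-affine. (The published
statement also allows X to be a scheme whose underlying space is Noetherian; this row assumes it
quasi-compact and separated.) -/
theorem result (X : Scheme.{u}) [CompactSpace X] [X.IsSeparated]
    (h : ∀ (J : X.Modules) (i : J ⟶ Coh.structureModule X), Mono i → Coh.IsQCoh J → CohB1.IsFT J →
      Curv2.IsGloballyGenerated J) :
    X.IsQuasiAffine := by
  apply Scheme.IsQuasiAffine.of_forall_exists_mem_basicOpen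
  intro x
  obtain ⟨_, ⟨U, hU : IsAffineOpen U, rfl⟩, hxU, -⟩ :=
    X.isBasis_affineOpens.exists_subset_of_mem_open (Set.mem_univ x) isOpen_univ
  -- the reduced closed subscheme on the complement of `U`
  let T : Closeds X := ⟨(U : Set X)ᶜ, U.isOpen.isClosed_compl⟩
  let J := Scheme.IdealSheafData.vanishingIdeal T
  let i : J.subscheme ⟶ X := J.subschemeι
  have hrange : Set.range i = (U : Set X)ᶜ := by
    rw [J.range_subschemeι]
    exact Scheme.IdealSheafData.coe_support_vanishingIdeal T
  let φ := unitPush i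
  have hqS : (Coh.structureModule X).IsQuasicoherent := isQuasicoherent_structureModule' X
  have hqZ : (Coh.structureModule J.subscheme).IsQuasicoherent := isQuasicoherent_structureModule' _
  have hqP : ((Scheme.Modules.pushforward i).obj (Coh.structureModule J.subscheme)).IsQuasicoherent :=
    isQuasicoherent_pushforward i _
  have hqK : (kernel φ).IsQuasicoherent := isQuasicoherent_kernel φ
  -- `1 ∈ K(U)`
  have hpre : i ⁻¹ᵁ U = ⊥ := by
    ext z
    simp only [Opens.coe_bot, Set.mem_empty_iff_false, iff_false]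
    intro hz
    have : i z ∈ (U : Set X)ᶜ := hrange ▸ Set.mem_range_self z
    exact this hz
  have hsub : Subsingleton Γ(J.subscheme, i ⁻¹ᵁ U) := by
    rw [hpre]; infer_instance
  have h1 : Scheme.Modules.Hom.app φ U (toS U 1) = 0 := by
    rw [unitPush_app]
    exact congrArg (toS (i ⁻¹ᵁ U)) (Subsingleton.elim _ _)
  obtain ⟨s, hs⟩ := exists_kernel_lift φ U (toS U 1) h1
  obtain ⟨G, j, hjmono, hGq, hGft, g, hg⟩ :=
    @Groth.Agent.S9819.result X _ _ (kernel φ) hqK ⟨U, hU⟩ s
  haveI := hjmono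
  obtain ⟨I, p, hp⟩ := h G (j ≫ kernel.ι φ) inferInstance hGq hGft
  by_contra hcon
  push Not at hcon
  -- endomorphisms of the structure module given by the generators
  let σ : I → (Coh.structureModule X ⟶ Coh.structureModule X) := fun a =>
    SheafOfModules.ιFree a ≫ p ≫ j ≫ kernel.ι φ
  have hσφ : ∀ a, σ a ≫ φ = 0 := by
    intro a; exact comp4_zero _ _ _ _ _ (kernel.condition φ)
  have hσapp : ∀ (a : I) {Z : Scheme.{u}} (k : Z ⟶ X) (W : X.Opens),
      Scheme.Modules.Hom.app (σ a ≫ unitPush k) W (toS W 1) = toS (k ⁻¹ᵁ W) (k.app W (endFun (σ a) W)) := by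
    intro a Z k W
    have h2 : Scheme.Modules.Hom.app (σ a ≫ unitPush k) W (toS W 1) =
        Scheme.Modules.Hom.app (unitPush k) W (Scheme.Modules.Hom.app (σ a) W (toS W 1)) := rfl
    rw [h2, end_app_eq, one_mul, unitPush_app]
  have hle : ∀ a, X.basicOpen (endFun (σ a) ⊤) ≤ U := by
    intro a y hy
    by_contra hyU
    have hyr : y ∈ Set.range i := by rw [hrange]; exact hyU
    obtain ⟨z, rfl⟩ := hyr
    have h0 : i.app ⊤ (endFun (σ a) ⊤) = 0 := by
      have h3 := hσapp a i ⊤
      rw [hσφ a] at h3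
      exact (congrArg (ofS (i ⁻¹ᵁ ⊤)) h3).symm
    have hz : z ∈ i ⁻¹ᵁ X.basicOpen (endFun (σ a) ⊤) := hy
    rw [Scheme.preimage_basicOpen, h0, Scheme.basicOpen_zero] at hz
    exact hz
  have hx : ∀ a, x ∉ X.basicOpen (endFun (σ a) ⊤) := by
    intro a hxa
    refine hcon (endFun (σ a) ⊤) ?_ hxa
    have h1 := X.basicOpen_res (endFun (σ a) ⊤) (homOfLE (le_top : U ≤ ⊤)).op
    rw [inf_eq_right.2 (hle a)] at h1
    rw [← h1]
    exact hU.basicOpen _
  -- evaluate at the residue field of `x`
  let ix := X.fromSpecResidueField x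
  have hix : ∀ a, ix.app ⊤ (endFun (σ a) ⊤) = 0 := by
    intro a
    rw [← basicOpen_eq_bot_iff, ← Scheme.preimage_basicOpen]
    ext z
    simp only [Opens.coe_bot, Set.mem_empty_iff_false, iff_false]
    intro hz
    have hz' : ix z ∈ Set.range ix := ⟨z, rfl⟩
    rw [Scheme.range_fromSpecResidueField] at hz'
    have hz2 : ix z ∈ X.basicOpen (endFun (σ a) ⊤) := hz
    rw [hz'] at hz2
    exact hx a hz2
  have hzero : (j ≫ kernel.ι φ) ≫ unitPush ix = 0 := by
    apply zero_of_epi_comp p
    apply free_hom_eq_zero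
    intro a
    have h5 : SheafOfModules.ιFree a ≫ p ≫ (j ≫ kernel.ι φ) ≫ unitPush ix = σ a ≫ unitPush ix :=
      comp4_assoc _ _ _ _ _
    refine h5.trans ?_
    apply Scheme.Modules.hom_ext
    intro W
    ext t
    have h7 : endFun (σ a) W = X.presheaf.map (homOfLE (le_top : W ≤ ⊤)).op (endFun (σ a) ⊤) :=
      (endFun_map (σ a) (homOfLE (le_top : W ≤ ⊤))).symm
    have h8 : ix.app W (endFun (σ a) W) = 0 := by
      rw [h7]
      have hn := ConcreteCategory.congr_hom (ix.naturality (homOfLE (le_top : W ≤ ⊤)).op) (endFun (σ a) ⊤)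
      rw [ConcreteCategory.comp_apply, ConcreteCategory.comp_apply, hix a, map_zero] at hn
      exact hn
    have h6 : Scheme.Modules.Hom.app (σ a ≫ unitPush ix) W t =
        Scheme.Modules.Hom.app (unitPush ix) W (Scheme.Modules.Hom.app (σ a) W (toS W (ofS W t))) := rfl
    have h9 : Scheme.Modules.Hom.app (σ a ≫ unitPush ix) W t = 0 := by
      rw [h6, end_app_eq, unitPush_app, map_mul, h8, mul_zero]
      rfl
    exact h9.trans rfl
  -- contradiction: `1 = 0` in the residue field
  have h10 := congrArg (fun ψ => Scheme.Modules.Hom.app ψ U g) hzero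
  have h11 : Scheme.Modules.Hom.app ((j ≫ kernel.ι φ) ≫ unitPush ix) U g =
      Scheme.Modules.Hom.app (unitPush ix) U (Scheme.Modules.Hom.app (kernel.ι φ) U
        (Scheme.Modules.Hom.app j U g)) := rfl
  have h12 : Scheme.Modules.Hom.app j U g = s := hg
  simp only [] at h10
  rw [h11, h12, hs, unitPush_app, map_one] at h10
  have hne : Nonempty (ix ⁻¹ᵁ U : (Spec (X.residueField x)).Opens) := by
    have hxr : x ∈ Set.range ix := by rw [Scheme.range_fromSpecResidueField]; rfl
    obtain ⟨z, hz⟩ := hxr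
    exact ⟨⟨z, by show ix z ∈ U; rw [hz]; exact hxU⟩⟩
  have hnt : Nontrivial Γ(Spec (X.residueField x), ix ⁻¹ᵁ U) := inferInstance
  exact (one_ne_zero (α := Γ(Spec (X.residueField x), ix ⁻¹ᵁ U))) (congrArg (ofS (ix ⁻¹ᵁ U)) h10)

end Groth.Agent.S4408
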