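import Groth.Statements.S4409
import Mathlib
import Groth.Agent.Lib.Helper23CounitEpi
import Groth.Agent.S4407
-- import your own Groth.Agent.* helpers here

set_option autoImplicit false
universe u
open CategoryTheory CategoryTheory.Limits AlgebraicGeometry
open EGA2

namespace Groth.Agent.S4409
open TopologicalSpace Opposite

open Groth.Agent.Lib.Helper23.SecTw Groth.Agent.Lib.Helper23.GenLocus Groth.Agent.Lib.Helper6
open Groth.Agent.Lib.Helper23.IdealSec Groth.Agent.Lib.Helper23.CounitEpi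

/-- (a) ⇔ (d): let f : X → Y be a quasi-compact morphism. Then f is quasi-affine (the preimage of every
affine open of Y is a quasi-affine scheme) if and only if f is separated and, for every
quasi-coherent O_X-module F, the canonical morphism f^*(f_*(F)) → F (counit of the adjunction
between f^* and f_*) is an epimorphism. -/
theorem result {X Y : Scheme.{u}} (f : X ⟶ Y) [QuasiCompact f] :
    Mor2.IsQuasiAffine f ↔ (IsSeparated f ∧ ∀ F : X.Modules, Coh.IsQCoh F →
      Epi ((Scheme.Modules.pullbackPushforwardAdjunction f).counit.app F)) := by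
  constructor
  · rintro ⟨-, hqa⟩
    refine ⟨?_, fun F hF => ?_⟩
    · -- separatedness is local on the target
      refine IsZariskiLocalAtTarget.of_iSup_eq_top (P := @IsSeparated) (fun V : Y.affineOpens => V.1) ?_ (fun V => ?_)
      · exact iSup_affineOpens_eq_top Y
      · haveI : Scheme.IsQuasiAffine (↑(f ⁻¹ᵁ V.1) : Scheme.{u}) := hqa V.1 V.2
        infer_instance
    · apply epi_counit_of_isGloballyGenerated
      intro x
      obtain ⟨V, hV, hxV, -⟩ := Opens.isBasis_iff_nbhd.1 Y.isBasis_affineOpens (show f x ∈ (⊤ : Y.Opens) from trivial)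
      refine ⟨V, hxV, ?_⟩
      haveI : Scheme.IsQuasiAffine (↑(f ⁻¹ᵁ V) : Scheme.{u}) := hqa V hV
      haveI : F.IsQuasicoherent := hF
      exact Groth.Agent.S4407.result _ _ (Scheme.Modules.isQuasicoherent_restrictFunctor _ F)
  · rintro ⟨hsep, hepi⟩
    refine ⟨inferInstance, fun V hV => ?_⟩
    have hqc : IsCompact (f ⁻¹ᵁ V).carrier := QuasiCompact.isCompact_preimage (f := f) _ V.2 hV.isCompact
    haveI : CompactSpace (↑(f ⁻¹ᵁ V) : Scheme.{u}) := isCompact_iff_compactSpace.1 hqc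
    refine Scheme.IsQuasiAffine.of_forall_exists_mem_basicOpen _ (fun x' => ?_)
    obtain ⟨x, hx⟩ := x'
    obtain ⟨U₀, hU₀, hxU₀, hU₀le⟩ := Opens.isBasis_iff_nbhd.1 X.isBasis_affineOpens hx
    let Z : Closeds X := ⟨(U₀ : Set X)ᶜ, U₀.2.isClosed_compl⟩
    obtain ⟨J, hJ⟩ : ∃ J : X.IdealSheafData, J = Scheme.IdealSheafData.vanishingIdeal Z := ⟨_, rfl⟩
    have h1 : (1 : Γ(X, U₀)) ∈ J.ideal ⟨U₀, hU₀⟩ := by
      rw [hJ, Scheme.IdealSheafData.vanishingIdeal_ideal, PrimeSpectrum.mem_vanishingIdeal]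
      intro q hq
      exfalso
      have hU' : IsAffineOpen U₀ := hU₀
      have hr : Set.range (IsAffineOpen.fromSpec (U := U₀) hU') = (U₀ : Set X) := hU'.range_fromSpec
      have hq' : (IsAffineOpen.fromSpec (U := U₀) hU') q ∈ (U₀ : Set X) := by
        rw [← hr]
        exact Set.mem_range_self q
      exact hq hq'
    have hJU : J.ideal ⟨U₀, hU₀⟩ = ⊤ := (Ideal.eq_top_iff_one _).2 h1
    have hsupp : ∀ y, y ∉ U₀ → y ∈ J.support := by
      intro y hy
      have h3 : (J.support : Set X) = Z := by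
        rw [hJ]
        exact Scheme.IdealSheafData.coe_support_vanishingIdeal Z
      change y ∈ (J.support : Set X)
      rw [h3]
      exact hy
    have hqcJ : (ClSub.idealMod J).IsQuasicoherent := Groth.Agent.Lib.Helper20.OmegaAff.isQuasicoherent_idealMod J
    obtain ⟨r, hxr, hrle⟩ := exists_function f J (hepi _ hqcJ) ⟨U₀, hU₀⟩ hJU hsupp V hV x hxU₀ hx
    have himg := Scheme.Opens.ι_image_basicOpen_topIso_inv (f ⁻¹ᵁ V) r
    refine ⟨(f ⁻¹ᵁ V).topIso.inv r, ?_, ?_⟩
    · rw [← Scheme.Hom.isAffineOpen_iff_of_isOpenImmersion (f ⁻¹ᵁ V).ι, himg]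
      have h6 : X.basicOpen r = X.basicOpen (resf hU₀le r) := by
        rw [Scheme.basicOpen_res]
        exact (inf_eq_right.2 hrle).symm
      rw [h6]
      exact IsAffineOpen.basicOpen hU₀ _
    · have h7 : (f ⁻¹ᵁ V).ι ⟨x, hx⟩ ∈ (f ⁻¹ᵁ V).ι ''ᵁ (↑(f ⁻¹ᵁ V) : Scheme.{u}).basicOpen ((f ⁻¹ᵁ V).topIso.inv r) := by
        rw [himg]
        exact hxr
      obtain ⟨z, hz, hzx⟩ := h7
      have : z = ⟨x, hx⟩ := (f ⁻¹ᵁ V).ι.isOpenEmbedding.injective hzx
      rw [← this]
      exact hz

end Groth.Agent.S4409
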