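import Groth.Statements.S4410
import Groth.Agent.Lib.Helper22FtThroughB
import Groth.Agent.Lib.Helper10QAffRelSpec

set_option autoImplicit false
universe u
open CategoryTheory CategoryTheory.Limits AlgebraicGeometry
open EGA2

namespace Groth.Agent.S4410

/-- Let Y be a quasi-compact separated scheme and f : X → Y a quasi-affine morphism of finite type. Then
there are a scheme X'', an affine morphism of finite type g : X'' → Y and an immersion j : X → X''
with j ≫ g = f. (The published statement also allows Y to be a scheme whose underlying space is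
Noetherian; this row assumes it quasi-compact and separated. The published statement realises X'' as
the relative spectrum of a quasi-coherent sub-algebra of finite type of f_*O_X, and says every
larger such sub-algebra also works; only the resulting factorisation is stated here.) -/
theorem result {X Y : Scheme.{u}} [CompactSpace Y] [Y.IsSeparated]
    (f : X ⟶ Y) (hf : Mor2.IsQuasiAffine f) [LocallyOfFiniteType f] :
    ∃ (X'' : Scheme.{u}) (g : X'' ⟶ Y) (j : X ⟶ X''), IsAffineHom g ∧ LocallyOfFiniteType g ∧ IsImmersion j ∧ j ≫ g = f := by
  haveI : QuasiCompact f := hf.1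
  haveI : QuasiSeparated f := by
    rw [HasAffineProperty.iff_of_iSup_eq_top (P := @QuasiSeparated) (fun U : Y.affineOpens => U)
      (iSup_affineOpens_eq_top Y)]
    intro U
    haveI : Scheme.IsQuasiAffine (f ⁻¹ᵁ U.1 : Scheme.{u}) := hf.2 U.1 U.2
    show QuasiSeparatedSpace (f ⁻¹ᵁ U.1 : Scheme.{u})
    infer_instance
  obtain ⟨c, e, -, hqc, hoi⟩ := (Groth.Agent.Lib.Helper10.QAffRelSpec.main f).mp hf
  haveI : LocallyOfFiniteType (c ≫ (RelSpec.QCAlg.directImage f).π) := by rw [e]; infer_instance
  obtain ⟨T, τ, p, haff, hft, h, hoi', hqc'⟩ :=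
    Groth.Agent.Lib.Helper22.FtThrough.exists_ft_factorization c (RelSpec.QCAlg.directImage f).π
  exact ⟨T, p, c ≫ τ, haff, hft, inferInstance, by rw [Category.assoc, h, e]⟩

end Groth.Agent.S4410
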