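import Groth.Statements.S4416
import Mathlib
import Groth.Agent.S12416
import Groth.Agent.Lib.Helper11ChowEGA
import Groth.Agent.S4418

set_option autoImplicit false
universe u
open CategoryTheory CategoryTheory.Limits AlgebraicGeometry
open EGA2

namespace Groth.Agent.S4416


/-- Let r : X → S be separated of finite type, and assume either S Noetherian, or S quasi-compact and
separated with X having finitely many irreducible components. Then r is proper if and only if there
are a scheme X' and a surjective morphism f : X' → X with f ≫ r projective. Moreover, when r is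
proper, f can be chosen so that in addition there is a dense open U of X with f⁻¹(U) dense in X'
over which f is an isomorphism, and with X' irreducible (resp. reduced) if X is. (The published
statement also remarks that f is then projective; that is not stated here.) -/
theorem result {X S : Scheme.{u}} (r : X ⟶ S) [IsSeparated r] [LocallyOfFiniteType r] [QuasiCompact r]
    (h : IsNoetherian S ∨ (CompactSpace S ∧ S.IsSeparated ∧ (irreducibleComponents X).Finite)) :
    (IsProper r ↔ ∃ (X' : Scheme.{u}) (f : X' ⟶ X), Surjective f ∧ RelProj.IsProjective (f ≫ r)) ∧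
    (IsProper r → ∃ (X' : Scheme.{u}) (f : X' ⟶ X), Surjective f ∧ RelProj.IsProjective (f ≫ r) ∧
        (∃ U : X.Opens, Dense (U : Set X) ∧ Dense ((f ⁻¹ᵁ U : X'.Opens) : Set X') ∧ IsIso (f ∣_ U)) ∧
        (IrreducibleSpace X → IrreducibleSpace X') ∧ (IsReduced X → IsReduced X')) := by
  have hS : CompactSpace S ∧ QuasiSeparatedSpace S := by
    rcases h with h | ⟨h1, h2, -⟩
    · haveI := h
      exact ⟨inferInstance, inferInstance⟩
    · haveI := h2
      exact ⟨h1, inferInstance⟩
  haveI := hS.1
  haveI := hS.2
  have key : IsProper r → ∃ (X' : Scheme.{u}) (f : X' ⟶ X), Surjective f ∧ RelProj.IsProjective (f ≫ r) ∧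
        (∃ U : X.Opens, Dense (U : Set X) ∧ Dense ((f ⁻¹ᵁ U : X'.Opens) : Set X') ∧ IsIso (f ∣_ U)) ∧
        (IrreducibleSpace X → IrreducibleSpace X') ∧ (IsReduced X → IsReduced X') := by
    intro hr
    obtain ⟨X', f, hqp, hprop, -, hsurj, hU, hred, hirr, -⟩ :=
      Groth.Agent.Lib.Helper11.ChowEGA.chow_ega r h
    haveI := hprop
    haveI : IsProper (f ≫ r) := inferInstance
    exact ⟨X', f, hsurj, Groth.Agent.S12416.result (f ≫ r) hqp, hU, hirr, hred⟩
  refine ⟨⟨fun hr => ?_, ?_⟩, key⟩
  · obtain ⟨X', f, hsurj, hproj, -⟩ := key hr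
    exact ⟨X', f, hsurj, hproj⟩
  · rintro ⟨X', f, hsurj, hproj⟩
    haveI := hsurj
    haveI : IsProper (f ≫ r) := (Groth.Agent.S4418.result (f ≫ r) hproj).2
    haveI : UniversallyClosed r := UniversallyClosed.of_comp_surjective f r
    exact {}

end Groth.Agent.S4416
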