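import Groth.Statements.S4427
import Mathlib
import Groth.Agent.Lib.Helper23Restr2
-- import your own Groth.Agent.* helpers here

set_option autoImplicit false
universe u
open CategoryTheory CategoryTheory.Limits AlgebraicGeometry
open EGA2

namespace Groth.Agent.S4427
open Groth.Agent.Lib.Helper23.SecTw Groth.Agent.Lib.Helper23.AmpleIso


theorem isAmple_restrict_of_isAffineOpen {Y : Scheme.{u}} (L : Y.Modules) (hL : PicF.IsInvertible L)
    (U : Y.Opens) (hU : IsAffineOpen U) : CohB1.IsAmple (L.restrict U.ι) := by
  haveI : IsAffine (↑U : Scheme.{u}) := hU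
  exact isAmple_of_isQuasiAffine _ (isInvertible_restrict L hL U)

/-- Let Y be a scheme and L an invertible O_Y-module. Then L is ample relative to the identity morphism
of Y. -/
theorem result (Y : Scheme.{u}) (L : Y.Modules) (hL : PicF.IsInvertible L) :
    RelAmple.IsRelAmple (𝟙 Y) L := by
  refine ⟨inferInstance, fun V => ?_⟩
  refine isAmple_restrict_of_isAffineOpen L hL _ ?_
  have : (𝟙 Y) ⁻¹ᵁ V.1 = V.1 := rfl
  rw [this]
  exact V.2

end Groth.Agent.S4427
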