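import Groth.Statements.S4428
import Mathlib
import Groth.Agent.Lib.Helper23ExtTensor
-- import your own Groth.Agent.* helpers here

set_option autoImplicit false
universe u
open CategoryTheory CategoryTheory.Limits AlgebraicGeometry
open EGA2

namespace Groth.Agent.S4428
open Groth.Agent.Lib.Helper23.AmpleIso Groth.Agent.Lib.Helper23.SecTw Groth.Agent.Lib.Helper23.PB
open Groth.Agent.Lib.Helper23.ExtTensor Groth.Agent.Lib.Helper23.RestrJ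
open TopologicalSpace

open Groth.Agent.Lib.Helper23.AmpleIso Groth.Agent.Lib.Helper23.SecTw Groth.Agent.Lib.Helper23.PB
open Groth.Agent.Lib.Helper23.ExtTensor Groth.Agent.Lib.Helper23.RestrJ
open TopologicalSpace

/-- Let a₁ : Y₁ → S and a₂ : Y₂ → S be morphisms, f₁ : X₁ → Y₁ and f₂ : X₂ → Y₂ quasi-compact morphisms
(so X₁, X₂ are S-schemes through f_i ≫ a_i), and L₁, L₂ modules on X₁, X₂ ample relative to f₁, f₂.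
Then the external tensor product p₁^*(L₁) ⊗ p₂^*(L₂) on X₁ ×_S X₂ (p₁, p₂ the projections) is ample
relative to the product morphism f₁ ×_S f₂ : X₁ ×_S X₂ → Y₁ ×_S Y₂. -/
theorem result {X₁ X₂ Y₁ Y₂ S : Scheme.{u}} (a₁ : Y₁ ⟶ S) (a₂ : Y₂ ⟶ S)
    (f₁ : X₁ ⟶ Y₁) (f₂ : X₂ ⟶ Y₂) [QuasiCompact f₁] [QuasiCompact f₂] (L₁ : X₁.Modules) (L₂ : X₂.Modules)
    (hL₁ : RelAmple.IsRelAmple f₁ L₁) (hL₂ : RelAmple.IsRelAmple f₂ L₂) :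
    RelAmple.IsRelAmple
      (pullback.map (f₁ ≫ a₁) (f₂ ≫ a₂) a₁ a₂ f₁ f₂ (𝟙 S) (Category.comp_id (f₁ ≫ a₁)) (Category.comp_id (f₂ ≫ a₂)))
      (CohB1.tensorMod ((Scheme.Modules.pullback (pullback.fst (f₁ ≫ a₁) (f₂ ≫ a₂))).obj L₁)
        ((Scheme.Modules.pullback (pullback.snd (f₁ ≫ a₁) (f₂ ≫ a₂))).obj L₂)) := by
  have hqc : QuasiCompact (pullback.map (f₁ ≫ a₁) (f₂ ≫ a₂) a₁ a₂ f₁ f₂ (𝟙 S) (Category.comp_id (f₁ ≫ a₁))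
      (Category.comp_id (f₂ ≫ a₂))) :=
    MorphismProperty.pullbackMap (P := @QuasiCompact) (f := f₁ ≫ a₁) (g := f₂ ≫ a₂) (f' := a₁) (g' := a₂)
      (i₁ := f₁) (i₂ := f₂) inferInstance inferInstance rfl rfl
  haveI := hqc
  obtain ⟨F, hF⟩ : ∃ F : pullback (f₁ ≫ a₁) (f₂ ≫ a₂) ⟶ pullback a₁ a₂,
      F = pullback.map (f₁ ≫ a₁) (f₂ ≫ a₂) a₁ a₂ f₁ f₂ (𝟙 S) (Category.comp_id (f₁ ≫ a₁))
        (Category.comp_id (f₂ ≫ a₂)) := ⟨_, rfl⟩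
  rw [← hF] at hqc ⊢
  have hF₁ : F ≫ pullback.fst a₁ a₂ = pullback.fst (f₁ ≫ a₁) (f₂ ≫ a₂) ≫ f₁ := by
    rw [hF]; exact pullback.lift_fst _ _ _
  have hF₂ : F ≫ pullback.snd a₁ a₂ = pullback.snd (f₁ ≫ a₁) (f₂ ≫ a₂) ≫ f₂ := by
    rw [hF]; exact pullback.lift_snd _ _ _
  have hinv₁ := isInvertible_of_isRelAmple f₁ L₁ hL₁
  have hinv₂ := isInvertible_of_isRelAmple f₂ L₂ hL₂
  refine ⟨hqc, fun V => ?_⟩
  refine isAmple_restrict_preimage_of_basicOpen_cover F _ V.1 V.2 (fun t ht => ?_)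
  -- affine neighbourhoods
  obtain ⟨S₀, hS₀, htS₀, -⟩ := exists_isAffineOpen_mem_and_subset (X := S)
    (x := a₁ (pullback.fst a₁ a₂ t)) (U := ⊤) trivial
  have htS₀' : a₂ (pullback.snd a₁ a₂ t) ∈ S₀ := by
    have : a₂ (pullback.snd a₁ a₂ t) = a₁ (pullback.fst a₁ a₂ t) := by
      rw [← Scheme.Hom.comp_apply, ← Scheme.Hom.comp_apply, pullback.condition]
    rw [this]; exact htS₀
  obtain ⟨V₁, hV₁, htV₁, hV₁S⟩ := exists_isAffineOpen_mem_and_subset (X := Y₁)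
    (x := pullback.fst a₁ a₂ t) (U := a₁ ⁻¹ᵁ S₀) htS₀
  obtain ⟨V₂, hV₂, htV₂, hV₂S⟩ := exists_isAffineOpen_mem_and_subset (X := Y₂)
    (x := pullback.snd a₁ a₂ t) (U := a₂ ⁻¹ᵁ S₀) htS₀'
  have hW : IsAffineOpen (pullback.fst a₁ a₂ ⁻¹ᵁ V₁ ⊓ pullback.snd a₁ a₂ ⁻¹ᵁ V₂) :=
    isAffineOpen_pullback_inf hV₁ hV₂ hS₀ hV₁S hV₂S
  obtain ⟨W, hWdef⟩ : ∃ W : (pullback a₁ a₂).Opens, W = pullback.fst a₁ a₂ ⁻¹ᵁ V₁ ⊓ pullback.snd a₁ a₂ ⁻¹ᵁ V₂ :=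
    ⟨_, rfl⟩
  rw [← hWdef] at hW
  have htW : t ∈ W := by rw [hWdef]; exact ⟨htV₁, htV₂⟩
  obtain ⟨h, h', hhh', hth⟩ := exists_basicOpen_le_affine_inter V.2 hW t ⟨ht, htW⟩
  refine ⟨h, hth, ?_⟩
  have hB : IsAffineOpen ((pullback a₁ a₂).basicOpen h) := V.2.basicOpen h
  have hhW : (pullback a₁ a₂).basicOpen h ≤ W := by rw [hhh']; exact (pullback a₁ a₂).basicOpen_le h'
  refine isAmple_restrict_tensorMod_pullback _ _ L₁ L₂ hinv₁ hinv₂ (f₁ ⁻¹ᵁ V₁) (f₂ ⁻¹ᵁ V₂)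
    (hL₁.2 ⟨V₁, hV₁⟩) (hL₂.2 ⟨V₂, hV₂⟩) _ ?_ ?_ ?_ ?_
  · exact QuasiCompact.isCompact_preimage (f := F) _ ((pullback a₁ a₂).basicOpen h).isOpen hB.isCompact
  · intro z hz
    have h1 : F z ∈ W := hhW hz
    rw [hWdef] at h1
    have h2 : pullback.fst a₁ a₂ (F z) = f₁ (pullback.fst (f₁ ≫ a₁) (f₂ ≫ a₂) z) := by
      rw [← Scheme.Hom.comp_apply, hF₁, Scheme.Hom.comp_apply]
    change f₁ (pullback.fst (f₁ ≫ a₁) (f₂ ≫ a₂) z) ∈ V₁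
    rw [← h2]; exact h1.1
  · intro z hz
    have h1 : F z ∈ W := hhW hz
    rw [hWdef] at h1
    have h2 : pullback.snd a₁ a₂ (F z) = f₂ (pullback.snd (f₁ ≫ a₁) (f₂ ≫ a₂) z) := by
      rw [← Scheme.Hom.comp_apply, hF₂, Scheme.Hom.comp_apply]
    change f₂ (pullback.snd (f₁ ≫ a₁) (f₂ ≫ a₂) z) ∈ V₂
    rw [← h2]; exact h1.2
  · intro A₁ A₂ hA₁ hA₂ hA₁U hA₂U
    have hBaff : IsAffineOpen (pullback.fst (f₁ ≫ a₁) (f₂ ≫ a₂) ⁻¹ᵁ A₁ ⊓ pullback.snd (f₁ ≫ a₁) (f₂ ≫ a₂) ⁻¹ᵁ A₂) := by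
      refine isAffineOpen_pullback_inf hA₁ hA₂ hS₀ ?_ ?_
      · intro x hx
        exact hV₁S (hA₁U hx)
      · intro x hx
        exact hV₂S (hA₂U hx)
    obtain ⟨B, hBdef⟩ : ∃ B : (pullback (f₁ ≫ a₁) (f₂ ≫ a₂)).Opens,
        B = pullback.fst (f₁ ≫ a₁) (f₂ ≫ a₂) ⁻¹ᵁ A₁ ⊓ pullback.snd (f₁ ≫ a₁) (f₂ ≫ a₂) ⁻¹ᵁ A₂ := ⟨_, rfl⟩
    rw [← hBdef] at hBaff ⊢
    have hBW : B ≤ F ⁻¹ᵁ W := by
      intro z hz
      rw [hBdef] at hz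
      change F z ∈ W
      rw [hWdef]
      have h2 : pullback.fst a₁ a₂ (F z) = f₁ (pullback.fst (f₁ ≫ a₁) (f₂ ≫ a₂) z) := by
        rw [← Scheme.Hom.comp_apply, hF₁, Scheme.Hom.comp_apply]
      have h3 : pullback.snd a₁ a₂ (F z) = f₂ (pullback.snd (f₁ ≫ a₁) (f₂ ≫ a₂) z) := by
        rw [← Scheme.Hom.comp_apply, hF₂, Scheme.Hom.comp_apply]
      refine ⟨?_, ?_⟩
      · change pullback.fst a₁ a₂ (F z) ∈ V₁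
        rw [h2]; exact hA₁U hz.1
      · change pullback.snd a₁ a₂ (F z) ∈ V₂
        rw [h3]; exact hA₂U hz.2
    have h4 := hBaff.basicOpen ((pullback (f₁ ≫ a₁) (f₂ ≫ a₂)).presheaf.map (homOfLE hBW).op (F.app W h'))
    rw [Scheme.basicOpen_res, ← Scheme.preimage_basicOpen, ← hhh'] at h4
    exact h4

end Groth.Agent.S4428
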