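import Groth.Statements.S4434
import Mathlib
import Groth.Agent.Lib.Helper4DVRDom

set_option autoImplicit false
universe u
open EGA2

namespace Groth.Agent.S4434

/-- Let A be a Noetherian domain with field of fractions K and L a finitely generated field extension of
K. The integral closure of A in L is the intersection of the discrete valuation subrings of L (with
fraction field L) containing the image of A: an element of L is integral over A exactly when it
belongs to all of them. -/
theorem result (A : Type u) [CommRing A] [IsDomain A] [IsNoetherianRing A]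
    (K : Type u) [Field K] [Algebra A K] [IsFractionRing A K]
    (L : Type u) [Field L] [Algebra K L] [Algebra A L] [IsScalarTower A K L] (hfg : (⊤ : IntermediateField K L).FG) (x : L) :
    IsIntegral A x ↔ ∀ R : ValuationSubring L, IsDiscreteValuationRing R → (∀ a : A, algebraMap A L a ∈ R) → x ∈ R := by
  constructor
  · intro hx R _ hR
    -- valuation rings are integrally closed
    let f : A →+* R := (algebraMap A L).codRestrict R.toSubring hR
    let _ : Algebra A R := f.toAlgebra
    have : IsScalarTower A R L := IsScalarTower.of_algebraMap_eq fun a => rfl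
    have h1 : IsIntegral R x := hx.tower_top
    obtain ⟨y, hy⟩ := (IsIntegrallyClosed.isIntegral_iff (R := R) (K := L)).mp h1
    rw [← hy]
    exact y.2
  · intro h
    by_contra hx
    have hxR : x ∉ (integralClosure A L).toSubring := hx
    obtain ⟨V₀, hV₀, hxV₀⟩ := Subring.exists_le_valuationSubring_of_isIntegrallyClosedIn hxR
    have hA₀ : ∀ a : A, algebraMap A L a ∈ V₀ :=
      fun a => hV₀ ((integralClosure A L).algebraMap_mem a)
    have h1 : Algebra.EssFiniteType A K :=
      Algebra.EssFiniteType.of_isLocalization K (nonZeroDivisors A)
    have h2 : Algebra.EssFiniteType K L := IntermediateField.fg_top_iff.mp hfg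
    have h3 : Algebra.EssFiniteType A L := Algebra.EssFiniteType.comp A K L
    have hx0 : x ≠ 0 := by
      rintro rfl
      exact hx isIntegral_zero
    have hxinv : x⁻¹ ∈ V₀.nonunits :=
      Groth.Agent.Lib.Helper4.DVRDom.inv_mem_nonunits_of_notMem V₀ hxV₀
    obtain ⟨V, hV, hVA, hVE, _⟩ :=
      Groth.Agent.Lib.Helper4.DVRDom.exists_dvr_of_valuationSubring V₀ hA₀ {x⁻¹}
        (by
          intro e he
          rw [Finset.mem_singleton] at he
          rw [he]
          exact hxinv)
        ⟨x⁻¹, Finset.mem_singleton_self _, inv_ne_zero hx0⟩
    have h5 : x⁻¹ ∈ V.nonunits := hVE _ (Finset.mem_singleton_self _)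
    have h6 : x ∉ V := (V.inv_mem_nonunits_iff.mp h5).resolve_left hx0
    exact h6 (h V hV hVA)

end Groth.Agent.S4434
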