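import Groth.Statements.S4435
import Groth.Agent.Lib.Helper4FracIntegral
import Groth.Agent.Lib.Helper4GenFinite4

set_option autoImplicit false
set_option linter.style.haveILetI false
universe u
open CategoryTheory CategoryTheory.Limits AlgebraicGeometry
open EGA2

namespace Groth.Agent.S4435

/-- Let X, S be integral schemes and f : X ⟶ S a dominant morphism. If f is integral, the field of
rational functions of X is algebraic over that of S; if f is finite, it is a finite extension. Here
the extension is given by the stalk map of f at the generic point of X, whose source is the local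
ring of S at the generic point of S (f being dominant), i.e. the function field of S. -/
theorem result {X S : Scheme.{u}} [IsIntegral X] [IsIntegral S]
    (f : X ⟶ S) [IsDominant f] :
    (IsIntegralHom f → (f.stalkMap (genericPoint X)).hom.IsIntegral) ∧
      (IsFinite f → (f.stalkMap (genericPoint X)).hom.Finite) := by
  have hη : f.base (genericPoint X) = genericPoint S :=
    Groth.Agent.Lib.Helper4.GenFinite.map_genericPoint_of_isDominant f
  have hKfield : IsField (S.presheaf.stalk (f.base (genericPoint X))) := by
    rw [hη]; exact Field.toIsField S.functionField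
  letI : Field (S.presheaf.stalk (f.base (genericPoint X))) := hKfield.toField
  obtain ⟨V, hV, hηV, -⟩ := exists_isAffineOpen_mem_and_subset (U := ⊤)
    (x := f.base (genericPoint X)) trivial
  have main : ∀ [IsAffineHom f], ((f.app V).hom.IsIntegral →
      (f.stalkMap (genericPoint X)).hom.IsIntegral) ∧
      ((f.app V).hom.Finite → (f.stalkMap (genericPoint X)).hom.Finite) := by
    intro _
    have hU : IsAffineOpen (f ⁻¹ᵁ V) := hV.preimage f
    haveI : Nonempty (f ⁻¹ᵁ V) := ⟨⟨genericPoint X, hηV⟩⟩
    haveI := functionField_isFractionRing_of_isAffineOpen X (f ⁻¹ᵁ V) hU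
    refine Groth.Agent.Lib.Helper4.FracIntegral.isIntegral_and_finite_of_fraction
      (f.app V).hom (f.stalkMap (genericPoint X)).hom
      (S.presheaf.germ V (f.base (genericPoint X)) hηV).hom
      (X.germToFunctionField (f ⁻¹ᵁ V)).hom ?_ ?_
    · have := f.germ_stalkMap V (genericPoint X) hηV
      rw [← CommRingCat.hom_comp, ← CommRingCat.hom_comp]
      exact congrArg CommRingCat.Hom.hom this
    · intro z
      obtain ⟨a, s, -, rfl⟩ := IsFractionRing.div_surjective (A := Γ(X, f ⁻¹ᵁ V)) z
      exact ⟨a, s, div_eq_mul_inv _ _⟩
  exact ⟨fun h => main.1 (h.isIntegral_app V hV), fun h => main.2 (h.finite_app V hV)⟩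

end Groth.Agent.S4435
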