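import Groth.Statements.S4436
import Groth.Agent.Lib.Helper2SemiLocFree

set_option autoImplicit false
universe u
open CategoryTheory CategoryTheory.Limits AlgebraicGeometry
open EGA2

namespace Groth.Agent.S4436

open Groth.Agent.Lib.Helper20.LocFree in
/-- restriction of a trivialization to a smaller open. -/
noncomputable def restrictIsoOfLE {X : Scheme.{u}} (F : X.Modules) {W D : X.Opens} (h : W ≤ D) (r : ℕ)
    (e : F.restrict D.ι ≅ FlatMod.freeMod (D : Scheme.{u}) r) :
    F.restrict W.ι ≅ FlatMod.freeMod (W : Scheme.{u}) r :=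
  have h1 : W.ι = X.homOfLE h ≫ D.ι := (X.homOfLE_ι h).symm
  (Scheme.Modules.restrictFunctorCongr h1).app F ≪≫
    (Scheme.Modules.restrictFunctorComp (X.homOfLE h) D.ι).app F ≪≫
    (Scheme.Modules.restrictFunctor (X.homOfLE h)).mapIso e ≪≫
    restrictFreeMod (X.homOfLE h) r

/-- Let f : X' ⟶ X be a finite morphism and F' a locally free O_{X'}-module of rank r. Then every point
of X has an open neighbourhood U over whose inverse image F' is free of rank r; this is the content
of the statement that the direct image of F' is a locally free module of rank r over the direct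
image of O_{X'} (the converse implication being immediate). -/
theorem result {X' X : Scheme.{u}} (f : X' ⟶ X) [IsFinite f] (r : ℕ)
    (F : X'.Modules) (hF : FlatMod.IsFinLocFreeOfRank r F) (x : X) :
    ∃ U : X.Opens, x ∈ U ∧ Nonempty (F.restrict (f ⁻¹ᵁ U).ι ≅ FlatMod.freeMod (↑(f ⁻¹ᵁ U)) r) := by
  obtain ⟨V, hV, hxV, -⟩ := exists_isAffineOpen_mem_and_subset (x := x) (U := ⊤) trivial
  have hV' : IsAffineOpen (f ⁻¹ᵁ V) := hV.preimage f
  have hZ : (f ⁻¹' {x}).Finite := f.finite_preimage_singleton x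
  have hZV : f ⁻¹' {x} ⊆ (f ⁻¹ᵁ V : X'.Opens) := by
    intro y hy
    change f y ∈ V
    rw [Set.mem_preimage, Set.mem_singleton_iff] at hy
    rw [hy]
    exact hxV
  obtain ⟨g, hZg, ⟨e⟩⟩ :=
    Groth.Agent.Lib.Helper2.SemiLocFree.exists_basicOpen_iso_freeMod F r hF _ hZ hV' hZV
  have hcl : IsClosed (f '' ((X'.basicOpen g : Set X')ᶜ)) :=
    f.isClosedMap _ (X'.basicOpen g).isOpen.isClosed_compl
  let U : X.Opens := V ⊓ ⟨(f '' ((X'.basicOpen g : Set X')ᶜ))ᶜ, hcl.isOpen_compl⟩
  have hxU : x ∈ U := by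
    refine ⟨hxV, ?_⟩
    rintro ⟨y, hy, hyx⟩
    exact hy (hZg hyx)
  have hle : f ⁻¹ᵁ U ≤ X'.basicOpen g := by
    intro y hy
    by_contra hcon
    exact hy.2 ⟨y, hcon, rfl⟩
  exact ⟨U, hxU, ⟨restrictIsoOfLE F hle r e⟩⟩

end Groth.Agent.S4436
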