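import Groth.Statements.S4438
import Mathlib
import Groth.Agent.Lib.Helper11RelNorm
import Groth.Agent.S3565
import Groth.Agent.Lib.Helper23PB

set_option autoImplicit false
universe u
open CategoryTheory CategoryTheory.Limits AlgebraicGeometry
open EGA2

namespace Groth.Agent.S4438


/-- In existence form: let f : X ⟶ Y be a quasi-compact morphism and g : X' ⟶ X a finite surjective
morphism such that the direct image of O_{X'} is a finite locally free O_X-module. Then there is an
invertible O_X-module ample relative to f if and only if there is an invertible O_{X'}-module ample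
relative to f ∘ g. (For the descent direction the published statement names the module on X, the
norm of the given one; this row asserts existence only. The other direction is the inverse image
along the affine morphism g.) -/
theorem result {X X' Y : Scheme.{u}} (f : X ⟶ Y) [QuasiCompact f]
    (g : X' ⟶ X) [IsFinite g] [Surjective g]
    (hfree : FlatMod.IsFinLocFree ((Coh.push g).obj (Coh.structureModule X'))) :
    (∃ L : X.Modules, PicF.IsInvertible L ∧ RelAmple.IsRelAmple f L) ↔
      ∃ L' : X'.Modules, PicF.IsInvertible L' ∧ RelAmple.IsRelAmple (g ≫ f) L' := by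
  have hg : Mor2.IsFinLocFree g := Groth.Agent.Helper18FinFlat.isFinLocFree_of_pushforward g hfree
  constructor
  · rintro ⟨L, hL, hamp⟩
    exact ⟨(Scheme.Modules.pullback g).obj L, Groth.Agent.Lib.Helper23.PB.isInvertible_pullback g L hL,
      (Groth.Agent.S3565.result f g hfree L hL).1 hamp⟩
  · rintro ⟨L', hL', hamp⟩
    obtain ⟨Nm⟩ := Groth.Agent.Lib.Helper23.Norm3.nonempty_weakNorm_of_isFinLocFree g hg
    have hsurj : Function.Surjective g := g.surjective
    have h0 : ∀ x : X, ∃ (V : X.Opens) (e : Γ(L', g ⁻¹ᵁ V)), x ∈ V ∧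
        Groth.Agent.Lib.Helper23.SecTw.IsGen L' (g ⁻¹ᵁ V) e := by
      intro x
      obtain ⟨_, ⟨Va, hVa, rfl⟩, hxVa, -⟩ :=
        Y.isBasis_affineOpens.exists_subset_of_mem_open (Set.mem_univ (f x)) isOpen_univ
      have hA := hamp.2 ⟨Va, hVa⟩
      refine Groth.Agent.Lib.Helper11.RelNorm.exists_frames_over_of_restrict g L' hL' ((g ≫ f) ⁻¹ᵁ Va) hA x ?_
      intro x' hx'
      have hx'' : g x' = x := hx'
      change f (g x') ∈ Va
      rw [hx'']
      exact hxVa
    choose V e hxV he using h0
    obtain ⟨NL, t, hNL, ht, htt⟩ := Groth.Agent.Lib.Helper11.RelNorm.exists_norm_module g Nm L' V hxV e he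
    refine ⟨NL, hNL, inferInstance, fun Va => ?_⟩
    have hA := hamp.2 Va
    exact Groth.Agent.Lib.Helper11.RelNorm.isAmple_restrict_norm_module g Nm hsurj L' hL' V hxV e he NL hNL t ht htt
      (f ⁻¹ᵁ Va.1) hA

end Groth.Agent.S4438
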