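import Groth.Statements.S4440
-- import your own Groth.Agent.* helpers here
import Mathlib
import Groth.Agent.S9701
import Groth.Agent.Lib.Helper5RLR

set_option autoImplicit false
universe u
open CategoryTheory CategoryTheory.Limits AlgebraicGeometry
open EGA2

namespace Groth.Agent.S4440

/-- A regular local ring of dimension at most one is a valuation ring. -/
lemma valuationRing_of_regular_dim_le_one (R : Type u) [CommRing R] [IsRegularLocalRing R]
    (h : ringKrullDim R ≤ 1) : ∃ hdom : IsDomain R, @ValuationRing R _ hdom := by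
  have hdom : IsDomain R := Groth.Agent.Lib.Helper5.isDomain_of_isRegularLocalRing R
  refine ⟨hdom, ?_⟩
  have h1 : Module.finrank (IsLocalRing.ResidueField R) (IsLocalRing.CotangentSpace R) ≤ 1 := by
    have h2 := (IsRegularLocalRing.iff_finrank_cotangentSpace R).mp inferInstance
    rw [← h2] at h
    exact_mod_cast h
  exact ((tfae_of_isNoetherianRing_of_isLocalRing_of_isDomain R).out 5 1).mp h1

/-- The open cover of `⨆ i, U i` by the `U i`. -/
noncomputable def coverISup {X : Scheme.{u}} {ι : Type u} (U : ι → X.Opens) :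
    (⨆ i, U i).toScheme.OpenCover where
  I₀ := ι
  X i := (U i).toScheme
  f i := X.homOfLE (le_iSup U i)
  mem₀ := by
    rw [Scheme.presieve₀_mem_precoverage_iff]
    refine ⟨fun x ↦ ?_, fun b => by infer_instance⟩
    obtain ⟨i, hi⟩ := TopologicalSpace.Opens.mem_iSup.mp x.2
    exact ⟨i, ⟨x.1, hi⟩, Subtype.ext (by simp)⟩

set_option backward.isDefEq.respectTransparency false in
lemma exists_glue_family {X Y : Scheme.{u}} {ι : Type u} (U : ι → X.Opens)
    (f : ∀ i, (U i).toScheme ⟶ Y)
    (h : ∀ i j, X.homOfLE (inf_le_left : U i ⊓ U j ≤ U i) ≫ f i =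
      X.homOfLE (inf_le_right : U i ⊓ U j ≤ U j) ≫ f j) :
    ∃ k : (⨆ i, U i).toScheme ⟶ Y, ∀ i, X.homOfLE (le_iSup U i) ≫ k = f i := by
  have hF : ∀ x y, pullback.fst ((coverISup U).f x) ((coverISup U).f y) ≫ f x =
      pullback.snd _ _ ≫ f y := fun x y =>
    Groth.Agent.S9701.fst_comp_eq_snd_comp (le_iSup U x) (le_iSup U y) (f x) (f y) (h x y)
  exact ⟨(coverISup U).glueMorphisms f hF, fun i => (coverISup U).ι_glueMorphisms f hF i⟩

/-- Let S be a locally Noetherian scheme, X proper over S, and Y a reduced S-scheme whose non-regular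
locus has codimension at least two (the local ring at every point with local ring of dimension at
most one is regular). Then the locus where an S-rational map from Y to X is not defined has
codimension at least two: an S-morphism given on a dense open V of Y extends to an S-morphism on an
open containing V and every point whose local ring has dimension at most one. (The published
statement does not ask Y to be locally Noetherian; this row does, which is the setting in which
regularity of local rings is defined.) -/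
theorem result {S X Y : Scheme.{u}} [IsLocallyNoetherian S]
    (p : X ⟶ S) [IsProper p] (q : Y ⟶ S) [IsLocallyNoetherian Y] [IsReduced Y]
    (hreg : ∀ y : Y, ringKrullDim (Y.presheaf.stalk y) ≤ 1 → IsRegularLocalRing (Y.presheaf.stalk y))
    (V : Y.Opens) (hV : Dense (V : Set Y)) (g : (V : Scheme.{u}) ⟶ X) (hg : g ≫ p = V.ι ≫ q) :
    ∃ (U : Y.Opens) (hVU : V ≤ U) (g' : (U : Scheme.{u}) ⟶ X), g' ≫ p = U.ι ≫ q ∧ Y.homOfLE hVU ≫ g' = g ∧
      ∀ y : Y, ringKrullDim (Y.presheaf.stalk y) ≤ 1 → y ∈ U := by
  classical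
  -- local extensions
  have hloc : ∀ y : {y : Y // ringKrullDim (Y.presheaf.stalk y) ≤ 1},
      ∃ (U' : Y.Opens) (hUU' : V ≤ U'), y.1 ∈ U' ∧
        ∃ f' : (U' : Scheme.{u}) ⟶ X, f' ≫ p = U'.ι ≫ q ∧ Y.homOfLE hUU' ≫ f' = g := by
    intro y
    haveI := hreg y.1 y.2
    obtain ⟨hdom, hval⟩ := valuationRing_of_regular_dim_le_one (Y.presheaf.stalk y.1) y.2
    exact Groth.Agent.S9701.exists_extension_of_isGermInjectiveAt q p y.1 V g hg (hV y.1) hdom hval
  choose W hVW hyW gW hgW1 hgW2 using hloc
  -- the family indexed by `Option`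
  let W' : Option {y : Y // ringKrullDim (Y.presheaf.stalk y) ≤ 1} → Y.Opens := fun o =>
    match o with
    | none => V
    | some y => W y
  have hVW' : ∀ o, V ≤ W' o := fun o => by
    match o with
    | none => exact le_rfl
    | some y => exact hVW y
  let G : ∀ o, (W' o).toScheme ⟶ X := fun o =>
    match o with
    | none => g
    | some y => gW y
  have hG1 : ∀ o, G o ≫ p = (W' o).ι ≫ q := fun o => by
    match o with
    | none => exact hg
    | some y => exact hgW1 y
  have hG2 : ∀ o, Y.homOfLE (hVW' o) ≫ G o = g := fun o => by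
    match o with
    | none => simp [G]
    | some y => exact hgW2 y
  have hagree : ∀ i j, Y.homOfLE (inf_le_left : W' i ⊓ W' j ≤ W' i) ≫ G i =
      Y.homOfLE (inf_le_right : W' i ⊓ W' j ≤ W' j) ≫ G j := by
    intro i j
    have hVT : V ≤ W' i ⊓ W' j := le_inf (hVW' i) (hVW' j)
    haveI : IsDominant (Y.homOfLE hVT) := Opens.isDominant_homOfLE hV hVT
    apply ext_of_isDominant_of_isSeparated p _ (Y.homOfLE hVT)
    · rw [← Category.assoc, ← Category.assoc, Scheme.homOfLE_homOfLE, Scheme.homOfLE_homOfLE,
        hG2, hG2]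
    · rw [Category.assoc, Category.assoc, hG1, hG1, ← Category.assoc, ← Category.assoc,
        Scheme.homOfLE_ι, Scheme.homOfLE_ι]
  obtain ⟨k, hk⟩ := exists_glue_family W' G hagree
  refine ⟨⨆ o, W' o, le_iSup W' none, k, ?_, ?_, ?_⟩
  · apply (coverISup W').hom_ext
    intro (o : Option {y : Y // ringKrullDim (Y.presheaf.stalk y) ≤ 1})
    change Y.homOfLE (le_iSup W' o) ≫ k ≫ p = Y.homOfLE (le_iSup W' o) ≫ (⨆ o, W' o).ι ≫ q
    rw [← Category.assoc, hk o, hG1, ← Category.assoc, Scheme.homOfLE_ι]
  · exact hk none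
  · intro y hy
    exact TopologicalSpace.Opens.mem_iSup.mpr ⟨some ⟨y, hy⟩, hyW ⟨y, hy⟩⟩

end Groth.Agent.S4440
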