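import Groth.Statements.S4443
import Groth.Agent.Lib.Helper4CurveTop

set_option autoImplicit false
set_option linter.style.haveILetI false
universe u
open CategoryTheory CategoryTheory.Limits AlgebraicGeometry
open EGA2

namespace Groth.Agent.S4443

/-- Let X be an irreducible algebraic curve over a field k (separated and of finite type over k,
nonempty, irreducible, local rings at closed points of dimension one). Then the generic point is the
only non-closed point of X, and the closed subsets of X distinct from X are exactly the finite sets
of closed points. (The published statement adds that these are also exactly the subsets of X that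
are not dense in X, an immediate consequence; this row does not state it.) -/
theorem result (k : Type u) [Field k] (X : Scheme.{u})
    [X.Over (Spec (CommRingCat.of k))] [LocallyOfFiniteType (X ↘ (Spec (CommRingCat.of k)))]
    [QuasiCompact (X ↘ (Spec (CommRingCat.of k)))] [IsSeparated (X ↘ (Spec (CommRingCat.of k)))]
    [Nonempty X] [IrreducibleSpace X] (hcurve : ∀ x : X, IsClosed ({x} : Set X) → ringKrullDim (X.presheaf.stalk x) = 1) :
    (∀ x : X, ¬ IsClosed ({x} : Set X) → x = genericPoint X) ∧
      ∀ F : Set X, IsClosed F → (F ≠ Set.univ ↔ (F.Finite ∧ ∀ x ∈ F, IsClosed ({x} : Set X))) := by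
  haveI : CompactSpace X :=
    QuasiCompact.compactSpace_of_compactSpace (X ↘ Spec (CommRingCat.of k))
  haveI : IsLocallyNoetherian X :=
    LocallyOfFiniteType.isLocallyNoetherian (X ↘ Spec (CommRingCat.of k))
  haveI : IsNoetherian X := {}
  have h1 : ∀ x : X, ¬ IsClosed ({x} : Set X) → x = genericPoint X := by
    intro x hx
    obtain ⟨y, hyx, hy⟩ := (isClosed_closure (s := ({x} : Set X))).exists_closed_singleton
      (Set.singleton_nonempty x).closure
    have hxy : x ⤳ y := specializes_iff_mem_closure.mpr hyx
    have hne : x ≠ y := fun h => hx (h ▸ hy)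
    have hη : genericPoint X ⤳ x := genericPoint_specializes x
    rcases Groth.Agent.Lib.Helper4.CurveTop.eq_or_eq_of_specializes_of_dim_le_one _ _ _ hη hxy
      (hcurve y hy).le with h | h
    · exact h.symm
    · exact absurd h hne
  refine ⟨h1, fun F hF => ⟨fun hne => ?_, fun ⟨hfin, hcl⟩ => ?_⟩⟩
  · have hηF : genericPoint X ∉ F := by
      intro h
      apply hne
      rw [← Set.univ_subset_iff, ← (genericPoint_spec X).def]
      exact hF.closure_subset_iff.mpr (Set.singleton_subset_iff.mpr h)
    have hcl : ∀ x ∈ F, IsClosed ({x} : Set X) := by
      intro x hxF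
      by_contra hx
      exact hηF (h1 x hx ▸ hxF)
    exact ⟨Groth.Agent.Lib.Helper4.CurveTop.finite_of_forall_isClosed_singleton hF hcl, hcl⟩
  · intro hF'
    have hη : IsClosed ({genericPoint X} : Set X) := hcl _ (hF' ▸ Set.mem_univ _)
    have huniv : (Set.univ : Set X) = {genericPoint X} := by
      rw [← (genericPoint_spec X).def, hη.closure_eq]
    haveI : Subsingleton X := ⟨fun a b => by
      have ha : a ∈ ({genericPoint X} : Set X) := huniv ▸ Set.mem_univ a
      have hb : b ∈ ({genericPoint X} : Set X) := huniv ▸ Set.mem_univ b
      rw [Set.mem_singleton_iff] at ha hb; rw [ha, hb]⟩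
    have := Groth.Agent.Lib.Helper4.CurveTop.ringKrullDim_stalk_le_zero_of_subsingleton
      (genericPoint X)
    rw [hcurve _ hη] at this
    exact absurd this (not_le.mpr zero_lt_one)

end Groth.Agent.S4443
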