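import Groth.Statements.S4445
import Groth.Agent.Lib.Helper4CurveRatMap

set_option autoImplicit false
set_option linter.style.haveILetI false
universe u
open CategoryTheory CategoryTheory.Limits AlgebraicGeometry
attribute [local instance] Curv2.stalkAlgebra
open EGA2

namespace Groth.Agent.S4445

/-- Let X be a normal irreducible algebraic curve over a field k with field of rational functions K, and
Y an integral complete (proper over k) algebraic curve with field of rational functions L. Dominant
k-morphisms X ⟶ Y correspond bijectively to k-embeddings L → K: for every k-algebra homomorphism φ :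
L → K there is exactly one k-morphism u : X ⟶ Y mapping the generic point of X to the generic point
of Y and inducing φ on the stalks at the generic points. -/
theorem result (k : Type u) [Field k] (X Y : Scheme.{u})
    [X.Over (Spec (CommRingCat.of k))] [LocallyOfFiniteType (X ↘ (Spec (CommRingCat.of k)))]
    [QuasiCompact (X ↘ (Spec (CommRingCat.of k)))] [IsSeparated (X ↘ (Spec (CommRingCat.of k)))] [IsIntegral X]
    (hX : ∀ x : X, IsClosed ({x} : Set X) → ringKrullDim (X.presheaf.stalk x) = 1) (hnorm : Pi1.IsNormalScheme X)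
    [Y.Over (Spec (CommRingCat.of k))] [IsProper (Y ↘ (Spec (CommRingCat.of k)))] [IsIntegral Y]
    (hY : ∀ y : Y, IsClosed ({y} : Set Y) → ringKrullDim (Y.presheaf.stalk y) = 1)
    (φ : Y.functionField →ₐ[k] X.functionField) :
    ∃! u : X ⟶ Y, u ≫ (Y ↘ (Spec (CommRingCat.of k))) = X ↘ (Spec (CommRingCat.of k)) ∧
      ∃ hu : u.base (genericPoint X) = genericPoint Y,
        (Y.presheaf.stalkSpecializes (specializes_of_eq hu) ≫ u.stalkMap (genericPoint X)).hom = (φ : Y.functionField →+* X.functionField) := by
  haveI : IsLocallyNoetherian X :=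
    LocallyOfFiniteType.isLocallyNoetherian (X ↘ (Spec (CommRingCat.of k)))
  haveI : JacobsonSpace X := LocallyOfFiniteType.jacobsonSpace (X ↘ (Spec (CommRingCat.of k)))
  have hXval : ∀ x : X, ValuationRing (X.presheaf.stalk x) :=
    Groth.Agent.Lib.Helper4.RatMapExt.valuationRing_stalk_of_normal_curve hX (fun x => (hnorm x).2)
  have hval : ValuativeCriterion.Existence (Y ↘ (Spec (CommRingCat.of k))) := by
    have h1 : UniversallyClosed (Y ↘ (Spec (CommRingCat.of k))) := inferInstance
    rw [UniversallyClosed.eq_valuativeCriterion] at h1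
    exact h1.1
  have hφ : Spec.map (CommRingCat.ofHom (φ : Y.functionField →+* X.functionField)) ≫
      Y.fromSpecStalk (genericPoint Y) ≫ (Y ↘ (Spec (CommRingCat.of k))) =
      X.fromSpecStalk (genericPoint X) ≫ (X ↘ (Spec (CommRingCat.of k))) := by
    apply ext_of_isAffine
    rw [← cancel_epi (Scheme.ΓSpecIso (CommRingCat.of k)).inv]
    ext c
    have hc := φ.commutes c
    have e1 : algebraMap k Y.functionField c = Y.presheaf.germ ⊤ (genericPoint Y) trivial
        (Coh.toGlobal (Y ↘ Spec (CommRingCat.of k)) c) := rfl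
    have e2 : algebraMap k X.functionField c = X.presheaf.germ ⊤ (genericPoint X) trivial
        (Coh.toGlobal (X ↘ Spec (CommRingCat.of k)) c) := rfl
    rw [e1, e2] at hc
    simp only [Scheme.Hom.comp_appTop, Scheme.fromSpecStalk_appTop, CommRingCat.comp_apply]
    have nat := congr($(Scheme.ΓSpecIso_inv_naturality
      (CommRingCat.ofHom (φ : Y.functionField →+* X.functionField)))
      (Y.presheaf.germ ⊤ (genericPoint Y) trivial
        (Coh.toGlobal (Y ↘ Spec (CommRingCat.of k)) c)))
    simp only [CommRingCat.comp_apply] at nat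
    simp only [Coh.toGlobal, RingHom.comp_apply] at hc nat
    simp only [homOfLE_refl, op_id, CategoryTheory.Functor.map_id, CommRingCat.id_apply]
    erw [← nat]
    exact congrArg _ hc
  obtain ⟨u, ⟨h1, hu, h2⟩, huniq⟩ :=
    Groth.Agent.Lib.Helper4.RatMapExt.existsUnique_of_functionField_hom
      (X ↘ (Spec (CommRingCat.of k))) (Y ↘ (Spec (CommRingCat.of k))) hval hXval
      (CommRingCat.ofHom (φ : Y.functionField →+* X.functionField)) hφ
  refine ⟨u, ⟨h1, hu, by rw [h2]; rfl⟩, ?_⟩
  rintro v ⟨hv1, hv, hv2⟩
  exact huniq v ⟨hv1, hv, CommRingCat.hom_ext hv2⟩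

end Groth.Agent.S4445
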