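import Groth.Statements.S4446
import Groth.Agent.Lib.Helper4NormIso

set_option autoImplicit false
set_option linter.style.haveILetI false
universe u
open CategoryTheory CategoryTheory.Limits AlgebraicGeometry
open EGA2

namespace Groth.Agent.S4446

/-- Let g : X' ⟶ X be an integral morphism and Y an integral normal scheme. A rational map from Y to X'
whose composite with g is everywhere defined is itself everywhere defined: if f is a morphism from a
dense open U of Y to X' and h : Y ⟶ X satisfies g ∘ f = h restricted to U, then f extends to a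
morphism Y ⟶ X' lifting h. (The published statement allows Y normal and locally integral; it is
stated here for Y integral, the case to which it reduces on each component.) -/
theorem result {Y X X' : Scheme.{u}} [IsIntegral Y]
    (hY : Pi1.IsNormalScheme Y) (g : X' ⟶ X) [IsIntegralHom g] (U : Y.Opens) (hU : Dense (U : Set Y))
    (f : (U : Scheme.{u}) ⟶ X') (h : Y ⟶ X) (hfh : f ≫ g = U.ι ≫ h) :
    ∃ f' : Y ⟶ X', U.ι ≫ f' = f ∧ f' ≫ g = h := by
  classical
  let K := Y.functionField
  have hUne : (U : Set Y).Nonempty := hU.nonempty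
  haveI : Nonempty U := hUne.to_subtype
  let ξ : Spec (CommRingCat.of K) ⟶ Y :=
    Groth.Agent.Lib.Helper4.NormCurve.gen Y K (RingHom.id _)
  have hrange : Set.range ξ ⊆ Set.range U.ι := by
    rintro _ ⟨pt, rfl⟩
    have h1 : pt ∈ ξ ⁻¹ᵁ U := by
      rw [Groth.Agent.Lib.Helper4.NormCurve.gen_preimage K (RingHom.id _) U]; trivial
    rw [Scheme.Opens.range_ι]
    exact h1
  let ξU : Spec (CommRingCat.of K) ⟶ U := IsOpenImmersion.lift U.ι ξ hrange
  have hξU : ξU ≫ U.ι = ξ := IsOpenImmersion.lift_fac _ _ _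
  let p : pullback g h ⟶ Y := pullback.snd g h
  haveI : IsIntegralHom p := inferInstance
  let sU : (U : Scheme.{u}) ⟶ pullback g h := pullback.lift f U.ι hfh
  have hsUp : sU ≫ p = U.ι := pullback.lift_snd _ _ _
  have hsUf : sU ≫ pullback.fst g h = f := pullback.lift_fst _ _ _
  let a : Spec (CommRingCat.of K) ⟶ pullback g h := ξU ≫ sU
  have ha : ξ ≫ 𝟙 Y = a ≫ p := by
    rw [Category.comp_id, Category.assoc, hsUp, hξU]
  haveI : QuasiCompact (ξ ≫ 𝟙 Y) := inferInstance
  haveI : QuasiSeparated (ξ ≫ 𝟙 Y) := inferInstance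
  haveI : IsIso ((ξ ≫ 𝟙 Y).normalizationDesc ξ (𝟙 Y) rfl) :=
    Groth.Agent.Lib.Helper4.NormIso.isIso_desc K (RingHom.id _) (𝟙 Y) hY Function.bijective_id
  set d := (ξ ≫ 𝟙 Y).normalizationDesc ξ (𝟙 Y) rfl with hd
  set d' := (ξ ≫ 𝟙 Y).normalizationDesc a p ha with hd'
  have hd1 : (ξ ≫ 𝟙 Y).toNormalization ≫ d = ξ :=
    Scheme.Hom.toNormalization_normalizationDesc _ _ _ _
  have hd2 : d ≫ 𝟙 Y = (ξ ≫ 𝟙 Y).fromNormalization :=
    Scheme.Hom.normalizationDesc_comp _ _ _ _
  have hd1' : (ξ ≫ 𝟙 Y).toNormalization ≫ d' = a :=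
    Scheme.Hom.toNormalization_normalizationDesc _ _ _ _
  have hd2' : d' ≫ p = (ξ ≫ 𝟙 Y).fromNormalization :=
    Scheme.Hom.normalizationDesc_comp _ _ _ _
  let s : Y ⟶ pullback g h := inv d ≫ d'
  have hsp : s ≫ p = 𝟙 Y := by
    rw [Category.assoc, hd2', ← hd2, Category.comp_id d, IsIso.inv_hom_id]
  have hξs : ξ ≫ s = a := by
    have : ξ ≫ inv d = (ξ ≫ 𝟙 Y).toNormalization := by
      rw [IsIso.comp_inv_eq, hd1]
    rw [← Category.assoc, this, hd1']
  have hkey : U.ι ≫ s = sU := by
    haveI : IsDominant ξU := by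
      constructor
      intro u
      let pt : Spec (CommRingCat.of K) := ⟨⊥, Ideal.isPrime_bot⟩
      have hpt : ξU pt ⤳ u := by
        rw [← U.ι.isEmbedding.isInducing.specializes_iff]
        have h1 : U.ι (ξU pt) = ξ pt := by
          rw [← Scheme.Hom.comp_apply, hξU]
        rw [h1]
        have h2 : ξ pt ∈ Set.range (Y.fromSpecStalk (genericPoint Y)) := ⟨_, rfl⟩
        rw [Scheme.range_fromSpecStalk] at h2
        exact h2.trans (genericPoint_specializes _)
      have hsub : ({ξU pt} : Set U) ⊆ Set.range ξU := by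
        rintro _ rfl
        exact ⟨pt, rfl⟩
      exact closure_mono hsub (specializes_iff_mem_closure.mp hpt)
    exact ext_of_isDominant_of_isSeparated p (by rw [Category.assoc, hsp, Category.comp_id, hsUp])
      ξU (by rw [← Category.assoc, hξU, hξs])
  refine ⟨s ≫ pullback.fst g h, ?_, ?_⟩
  · rw [← Category.assoc, hkey, hsUf]
  · rw [Category.assoc, pullback.condition, ← Category.assoc, hsp, Category.id_comp]

end Groth.Agent.S4446
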