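import Groth.Statements.S4449
-- import your own Groth.Agent.* helpers here
import Mathlib
import Groth.Agent.Lib.Helper26RefinedVal

set_option autoImplicit false
universe u
open CategoryTheory CategoryTheory.Limits AlgebraicGeometry
open EGA2

namespace Groth.Agent.S4449

open IsLocalRing

lemma isDominant_SpecMap_of_injective {A B : CommRingCat.{u}} (φ : A ⟶ B)
    (hφ : Function.Injective φ.hom) : IsDominant (Spec.map φ) := by
  constructor
  change DenseRange (PrimeSpectrum.comap φ.hom)
  rw [PrimeSpectrum.denseRange_comap_iff_ker_le_nilRadical,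
    (RingHom.injective_iff_ker_eq_bot _).mp hφ]
  exact bot_le

/-- Case of an arbitrary integral separated base: let Y and X be integral separated schemes and f : X ⟶
Y a dominant morphism of finite type, ξ the generic point of X. Suppose that every valuation subring
R of K(X) other than K(X) itself which dominates the local ring of Y at a point y (via O_{Y,y} →
O_{Y,f(ξ)} → K(X)) dominates the local ring of X at some point x (via O_{X,x} → K(X)). Then f is
proper. (Compare the locally Noetherian variant with discrete valuation rings.) -/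
theorem result {X Y : Scheme.{u}} [IsIntegral X] [IsIntegral Y]
    [X.IsSeparated] [Y.IsSeparated] (f : X ⟶ Y) [IsDominant f] [LocallyOfFiniteType f] [QuasiCompact f]
    (h : ∀ (R : ValuationSubring X.functionField), R ≠ ⊤ →
      ∀ (y : Y) (hy : f.base (genericPoint X) ⤳ y),
        ((∀ a : Y.presheaf.stalk y, (Y.presheaf.stalkSpecializes hy ≫ f.stalkMap (genericPoint X)).hom a ∈ R) ∧
          ∀ a ∈ IsLocalRing.maximalIdeal (Y.presheaf.stalk y),
            R.valuation ((Y.presheaf.stalkSpecializes hy ≫ f.stalkMap (genericPoint X)).hom a) < 1) →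
        ∃ x : X, (∀ a : X.presheaf.stalk x, algebraMap (X.presheaf.stalk x) X.functionField a ∈ R) ∧
          ∀ a ∈ IsLocalRing.maximalIdeal (X.presheaf.stalk x), R.valuation (algebraMap (X.presheaf.stalk x) X.functionField a) < 1) :
    IsProper f := by
  classical
  set ξ : X := genericPoint X with hξ
  let F : Type u := X.functionField
  let hF : Spec (CommRingCat.of F) ⟶ X := X.fromSpecStalk ξ
  have hFcl : hF (closedPoint F) = ξ := Scheme.fromSpecStalk_closedPoint
  have hsep : IsSeparated f := inferInstance
  -- dominance of Spec K → Spec R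
  have hdomR : ∀ R : ValuationSubring F, IsDominant (Spec.map (CommRingCat.ofHom R.subtype)) :=
    fun R => isDominant_SpecMap_of_injective _ Subtype.val_injective
  -- the refined hypothesis
  have H : ∀ (R : ValuationSubring F) (φ : Spec (CommRingCat.of ↥R) ⟶ Y),
      Spec.map (CommRingCat.ofHom R.subtype) ≫ φ = hF ≫ f →
      ∃! φ' : Spec (CommRingCat.of ↥R) ⟶ X,
        Spec.map (CommRingCat.ofHom R.subtype) ≫ φ' = hF ∧ φ' ≫ f = φ := by
    intro R φ hφ
    have := hdomR R
    -- uniqueness is automatic
    have huniq : ∀ φ₁ φ₂ : Spec (CommRingCat.of ↥R) ⟶ X,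
        Spec.map (CommRingCat.ofHom R.subtype) ≫ φ₁ = hF →
        Spec.map (CommRingCat.ofHom R.subtype) ≫ φ₂ = hF → φ₁ = φ₂ := by
      intro φ₁ φ₂ h1 h2
      exact ext_of_isDominant (Spec.map (CommRingCat.ofHom R.subtype)) (h1.trans h2.symm)
    -- reduce to constructing φ' with the first property
    suffices hex : ∃ φ' : Spec (CommRingCat.of ↥R) ⟶ X,
        Spec.map (CommRingCat.ofHom R.subtype) ≫ φ' = hF by
      obtain ⟨φ', h1⟩ := hex
      refine ⟨φ', ⟨h1, ?_⟩, fun φ'' h'' => huniq _ _ h''.1 h1⟩
      apply ext_of_isDominant (Spec.map (CommRingCat.ofHom R.subtype))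
      rw [← Category.assoc, h1, hφ]
    by_cases hR : R = ⊤
    · let σ : F →+* ↥R :=
        { toFun := fun a => ⟨a, by rw [hR]; trivial⟩
          map_one' := rfl, map_mul' := fun _ _ => rfl, map_zero' := rfl, map_add' := fun _ _ => rfl }
      refine ⟨Spec.map (CommRingCat.ofHom σ) ≫ hF, ?_⟩
      rw [← Category.assoc, ← Spec.map_comp]
      have : CommRingCat.ofHom σ ≫ CommRingCat.ofHom R.subtype = 𝟙 _ := rfl
      rw [this, Spec.map_id, Category.id_comp]
    · set y : Y := φ (closedPoint ↥R) with hy
      have hspec : f.base ξ ⤳ y := by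
        have h1 : f.base ξ = φ (Spec.map (CommRingCat.ofHom R.subtype) (closedPoint F)) := by
          change _ = (Spec.map (CommRingCat.ofHom R.subtype) ≫ φ) (closedPoint F)
          rw [hφ]
          change _ = f.base (hF (closedPoint F))
          rw [hFcl]
        rw [h1]
        exact (specializes_closedPoint (R := ↥R) _).map φ.continuous
      let θ : Y.presheaf.stalk y ⟶ CommRingCat.of ↥R := Scheme.stalkClosedPointTo φ
      have hθ : Spec.map θ ≫ Y.fromSpecStalk y = φ := Scheme.Spec_stalkClosedPointTo_fromSpecStalk φ
      have hclaim : θ ≫ CommRingCat.ofHom R.subtype =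
          Y.presheaf.stalkSpecializes hspec ≫ f.stalkMap ξ := by
        apply Spec.map_injective
        rw [← cancel_mono (Y.fromSpecStalk y), Spec.map_comp, Category.assoc, hθ, hφ,
          Spec.map_comp, Category.assoc, Scheme.SpecMap_stalkSpecializes_fromSpecStalk,
          Scheme.SpecMap_stalkMap_fromSpecStalk]
      have hθloc : IsLocalHom θ.hom := inferInstance
      obtain ⟨x, hx1, -⟩ := h R hR y hspec ⟨fun a => by
          have := congrArg (fun m => m.hom a) hclaim
          change ((θ.hom a : ↥R) : F) = _ at this
          rw [← this]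
          exact (θ.hom a).2, fun a ha => by
          have := congrArg (fun m => m.hom a) hclaim
          change ((θ.hom a : ↥R) : F) = _ at this
          rw [← this, ← ValuationSubring.valuation_lt_one_iff]
          rw [IsLocalRing.mem_maximalIdeal, mem_nonunits_iff] at ha ⊢
          exact fun hu => ha (hθloc.map_nonunit a hu)⟩
      let τ : X.presheaf.stalk x ⟶ CommRingCat.of ↥R :=
        CommRingCat.ofHom ((algebraMap (X.presheaf.stalk x) X.functionField).codRestrict
          R.toSubring hx1)
      refine ⟨Spec.map τ ≫ X.fromSpecStalk x, ?_⟩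
      rw [← Category.assoc, ← Spec.map_comp]
      have : τ ≫ CommRingCat.ofHom R.subtype =
          X.presheaf.stalkSpecializes ((genericPoint_spec X).specializes trivial) := by
        ext a; rfl
      rw [this, Scheme.SpecMap_stalkSpecializes_fromSpecStalk]
  have hUC : UniversallyClosed f := by
    apply UniversallyClosed.of_valuativeCriterion
    intro sq
    obtain ⟨l, hl1, hl2⟩ := Groth.Agent.Lib.Helper26.RefinedVal.exists_lift_of_refined_field
      f F hF H sq.R sq.K sq.i₁ sq.i₂ sq.commSq.w (by
        rw [hFcl]; exact (genericPoint_spec X).specializes trivial)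
    exact ⟨⟨⟨l, hl1, hl2⟩⟩⟩
  exact { }

end Groth.Agent.S4449
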