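import Groth.Statements.S4451
import Groth.Agent.Lib.Helper4CurveValRings

set_option autoImplicit false
set_option linter.style.haveILetI false
universe u
open CategoryTheory CategoryTheory.Limits AlgebraicGeometry
attribute [local instance] Curv2.stalkAlgebra
open EGA2

namespace Groth.Agent.S4451

/-- Let X be a normal, complete, irreducible algebraic curve over a field k with field of rational
functions K. The set of local rings of X, as subrings of K, consists of K itself (at the generic
point) and of the valuation rings of K containing k (and distinct from K): every non-generic point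
has such a valuation ring as local ring, and every such valuation ring is the local ring of exactly
one point. -/
theorem result (k : Type u) [Field k] (X : Scheme.{u})
    [X.Over (Spec (CommRingCat.of k))] [IsProper (X ↘ (Spec (CommRingCat.of k)))] [IsIntegral X]
    (hX : ∀ x : X, IsClosed ({x} : Set X) → ringKrullDim (X.presheaf.stalk x) = 1) (hnorm : Pi1.IsNormalScheme X) :
    (∀ x : X, x ≠ genericPoint X → ∃ R : ValuationSubring X.functionField, R ≠ ⊤ ∧
        (R : Set X.functionField) = Set.range (algebraMap (X.presheaf.stalk x) X.functionField)) ∧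
      ∀ R : ValuationSubring X.functionField, R ≠ ⊤ → (∀ c : k, algebraMap k X.functionField c ∈ R) →
        ∃! x : X, (R : Set X.functionField) = Set.range (algebraMap (X.presheaf.stalk x) X.functionField) := by
  haveI : IsLocallyNoetherian X :=
    LocallyOfFiniteType.isLocallyNoetherian (X ↘ (Spec (CommRingCat.of k)))
  haveI : JacobsonSpace X := LocallyOfFiniteType.jacobsonSpace (X ↘ (Spec (CommRingCat.of k)))
  have hXval : ∀ x : X, ValuationRing (X.presheaf.stalk x) :=
    Groth.Agent.Lib.Helper4.RatMapExt.valuationRing_stalk_of_normal_curve hX (fun x => (hnorm x).2)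
  have hval : ValuativeCriterion.Existence (X ↘ (Spec (CommRingCat.of k))) := by
    have h1 : UniversallyClosed (X ↘ (Spec (CommRingCat.of k))) := inferInstance
    rw [UniversallyClosed.eq_valuativeCriterion] at h1
    exact h1.1
  refine ⟨fun x hx => ?_, fun R _ hk => ?_⟩
  · haveI := hXval x
    exact ⟨Groth.Agent.Lib.Helper4.RatMapExt.stalkValuationSubring x,
      Groth.Agent.Lib.Helper4.RatMapExt.stalkValuationSubring_ne_top x hx,
      Groth.Agent.Lib.Helper4.RatMapExt.coe_stalkValuationSubring x⟩
  · let i₂ : Spec (CommRingCat.of R) ⟶ Spec (CommRingCat.of k) :=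
      Spec.map (CommRingCat.ofHom ((algebraMap k X.functionField).codRestrict R.toSubring hk))
    have hi₂ : X.fromSpecStalk (genericPoint X) ≫ (X ↘ (Spec (CommRingCat.of k))) =
        Spec.map (CommRingCat.ofHom (algebraMap R X.functionField)) ≫ i₂ := by
      rw [Groth.Agent.Lib.Helper4.RatMapExt.fromSpecStalk_comp_toSpec, ← Spec.map_comp,
        ← CommRingCat.ofHom_comp]
      rfl
    obtain ⟨x, hx⟩ := Groth.Agent.Lib.Helper4.RatMapExt.exists_center
      (X ↘ (Spec (CommRingCat.of k))) hval hXval R i₂ hi₂
    refine ⟨x, hx, fun x' hx' => ?_⟩
    haveI := hXval x'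
    exact Groth.Agent.Lib.Helper4.RatMapExt.center_unique (X ↘ (Spec (CommRingCat.of k))) x' x
      (hx'.symm.trans hx)

end Groth.Agent.S4451
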