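import Groth.Statements.S4456
import Mathlib
import Groth.Agent.Lib.Helper23PushAcyclic
import Groth.Agent.Lib.Helper23AffOpen2
import Groth.Agent.Lib.Helper23DerCompAcyclic
import Groth.Agent.Lib.Helper23LocSS
import Groth.Agent.Lib.Helper16ClosedEmb
-- import your own Groth.Agent.* helpers here

set_option autoImplicit false
universe u
open Coherent

namespace Groth.Agent.S4456


open Groth.Agent.Lib.Helper23.AffVanish in
open AlgebraicGeometry CategoryTheory in
/-- Let f : X → Y be an affine morphism, g : Y → Z a morphism of schemes and F a quasi-coherent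
O_X-module. Then for every p ≥ 0 the higher direct image R^p g_*(f_* F) is isomorphic to R^p (g ∘
f)_* F (higher direct images of the underlying abelian sheaves). The source shows that the canonical
comparison map is an isomorphism; only the existence of an isomorphism is asserted here. -/
theorem result {X Y Z : Scheme.{u}} (f : X ⟶ Y) (g : Y ⟶ Z)
    [IsAffineHom f] (F : X.Modules) [Coh.IsQCoh F] (p : ℕ) :
    Nonempty ((Coh.RpushAb g p).obj (Coh.toAb ((Coh.push f).obj F)) ≅
      (Coh.RpushAb (f ≫ g) p).obj (Coh.toAb F)) := by
  have h : ∀ q : ℕ, CategoryTheory.Limits.IsZero ((CohTop.Rpush f.base (q + 1)).obj (ab' F)) := by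
    intro n
    refine isZero_Rpush_of_basis f.base Y.affineOpens Y.isBasis_affineOpens (ab' F) ?_ n
    intro V hV j
    exact subsingleton_HE_of_isAffineOpen (IsAffineOpen.preimage hV f) F j
  haveI := Groth.Agent.Lib.Helper16.ClosedEmb.push_preservesFiniteLimits f.base
  haveI := Groth.Agent.Lib.Helper16.ClosedEmb.push_preservesInjectiveObjects f.base
  have e : CohTop.push f.base ⋙ CohTop.push g.base ≅ CohTop.push (f ≫ g).base :=
    NatIso.ofComponents (fun _ => Iso.refl _)
  refine ⟨?_⟩
  exact (Groth.Agent.Lib.Helper23DerCompAcyclic.compIsoOfAcyclic (CohTop.push f.base) (CohTop.push g.base)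
    (Z := ab' F) h p).symm ≪≫ (Groth.Agent.Lib.Helper23LocSS.rightDerivedIso e p).app (ab' F)

end Groth.Agent.S4456
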