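import Groth.Statements.S4462
import Groth.Agent.Lib.Helper17FlatDev3
import Groth.Agent.Lib.Helper17FlatDev4
import Groth.Agent.Lib.Helper17FFun
-- import your own Groth.Agent.* helpers here

set_option autoImplicit false
universe u
open Coherent

namespace Groth.Agent.S4462

open AlgebraicGeometry CategoryTheory in
/-- Second assertion: for a local base: let A be a Noetherian local ring with maximal ideal m and closed
point y, X a scheme proper over Spec A, F a coherent O_X-module flat over Spec A and n ≥ 0 such that
H^(n+1)(X_y, F_y) = 0, where X_y is the closed fibre and F_y the restriction of F to it. Then for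
every p ≥ 0 the canonical map H^n(X, F) → H^n(X, F/m^(p+1)F) is surjective. (For a general locally
Noetherian base the published statement is about the stalk of R^n f_* F at a point; over the local
ring of that point this is the module H^n(X, F) used here.) -/
theorem result (A : Type u) [CommRing A] [IsNoetherianRing A]
    [IsLocalRing A] (X : Scheme.{u}) [X.Over (Spec (CommRingCat.of A))]
    [IsProper (X ↘ Spec (CommRingCat.of A))] (F : X.Modules) (hF : Coh.IsCoh F)
    (hfl : FlatMod.IsFlatOver (X ↘ Spec (CommRingCat.of A)) F) (n : ℕ)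
    (hvan : Subsingleton (CohIII.fiberH (X ↘ Spec (CommRingCat.of A)) F (IsLocalRing.closedPoint A) (n + 1)))
    (p : ℕ) :
    Function.Surjective (Formal.toHHmodPow (IsLocalRing.maximalIdeal A) F n p) := by
  haveI : Coh.IsQCoh F := hF.1
  let R : CommRingCat.{u} := CommRingCat.of A
  let y : PrimeSpectrum A := IsLocalRing.closedPoint A
  haveI : y.asIdeal.IsMaximal := inferInstanceAs (IsLocalRing.maximalIdeal A).IsMaximal
  let φc : R ⟶ (Spec R).residueField y :=
    CommRingCat.ofHom (algebraMap A y.asIdeal.ResidueField) ≫ (Scheme.Spec.residueFieldIso R y).inv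
  have hφ : (Spec R).fromSpecResidueField y = Spec.map φc := by
    rw [← Scheme.Spec.map_residueFieldIso_inv_eq_fromSpecResidueField, ← Spec.map_comp]
  have hsq : IsPullback ((X ↘ Spec (CommRingCat.of A)).fiberι y)
      ((X ↘ Spec (CommRingCat.of A)).fiberToSpecResidueField y) (X ↘ Spec (CommRingCat.of A))
      (Spec.map φc) := by
    rw [← hφ]
    exact IsPullback.of_hasPullback _ _
  have hbij : Function.Bijective (Scheme.Spec.residueFieldIso R y).inv.hom :=
    ConcreteCategory.bijective_of_isIso (Scheme.Spec.residueFieldIso R y).inv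
  have hsurj : Function.Surjective φc.hom := by
    change Function.Surjective ((Scheme.Spec.residueFieldIso R y).inv.hom ∘
      (algebraMap A y.asIdeal.ResidueField))
    exact hbij.2.comp y.asIdeal.algebraMap_residueField_surjective
  have hker : RingHom.ker φc.hom = IsLocalRing.maximalIdeal A := by
    ext a
    rw [RingHom.mem_ker]
    change (Scheme.Spec.residueFieldIso R y).inv.hom (algebraMap A y.asIdeal.ResidueField a) = 0 ↔ _
    rw [map_eq_zero_iff _ hbij.1, Ideal.algebraMap_residueField_eq_zero]
    rfl
  have h1 := Groth.Agent.Lib.Helper17.FlatDev.subsingleton_HH_Q_of_fibre φc.hom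
    ((X ↘ Spec (CommRingCat.of A)).fiberι y)
    ((X ↘ Spec (CommRingCat.of A)).fiberToSpecResidueField y) hsq F hsurj (n + 1) hvan
  rw [hker] at h1
  obtain ⟨c, hc⟩ := Groth.Agent.Lib.Helper17.FFun.range_modPowLE (IsLocalRing.maximalIdeal A) F hF n
  intro zt
  have hle : p ≤ p + c := Nat.le_add_right p c
  have hsur := Groth.Agent.Lib.Helper17.FlatDev.surjective_Hm_Qmap F hfl n h1
    (IsLocalRing.maximalIdeal A ^ (p + 1)) (IsLocalRing.maximalIdeal A ^ (p + c + 1))
    (Ideal.pow_le_pow_right (Nat.succ_le_succ hle))
    ⟨c, by rw [← pow_add]; exact Ideal.pow_le_pow_right (by omega)⟩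
  obtain ⟨x, hx⟩ := hsur zt
  obtain ⟨w, hw⟩ := hc p (p + c) hle le_rfl x
  exact ⟨w, hw.trans hx⟩

end Groth.Agent.S4462
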