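import Groth.Statements.S4464
import Mathlib
import Groth.Agent.Lib.Helper23SteinC
import Groth.Agent.Lib.Helper4Unibranch
import Groth.Agent.S2421
-- import your own Groth.Agent.* helpers here

set_option autoImplicit false
universe u
open Coherent

namespace Groth.Agent.S4464

open AlgebraicGeometry CategoryTheory Limits

/-- a space with at most one connected component which is nonempty is connected. -/
theorem connectedSpace_of_subsingleton {α : Type*} [TopologicalSpace α] [Nonempty α]
    (h : Subsingleton (_root_.ConnectedComponents α)) : ConnectedSpace α := by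
  haveI : PreconnectedSpace α := by
    rw [preconnectedSpace_iff_connectedComponent]
    intro x
    ext z
    simp only [Set.mem_univ, iff_true]
    have : (x : _root_.ConnectedComponents α) = z := Subsingleton.elim _ _
    have h2 := ConnectedComponents.coe_eq_coe.1 this
    rw [h2]; exact mem_connectedComponent
  exact ⟨‹Nonempty α›⟩

theorem surjective_of_proper_dominant {X Y : Scheme.{u}} [IsIntegral X] [IsIntegral Y] (f : X ⟶ Y)
    [IsProper f] (hdom : f.base (genericPoint X) = genericPoint Y) : Function.Surjective f.base := by
  have hcl : IsClosed (Set.range f.base) := f.isClosedMap.isClosed_range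
  have h1 : genericPoint Y ∈ Set.range f.base := ⟨genericPoint X, hdom⟩
  have h2 : closure {genericPoint Y} ⊆ Set.range f.base :=
    hcl.closure_subset_iff.2 (Set.singleton_subset_iff.2 h1)
  rw [(genericPoint_spec Y).def] at h2
  intro y
  exact h2 trivial

open AlgebraicGeometry CategoryTheory in
/-- Let X and Y be locally Noetherian integral schemes, f : X → Y a proper dominant morphism, and
suppose that the algebraic closure of the function field R(Y) in R(X) is purely inseparable over
R(Y): every element of R(X) satisfying a nonzero polynomial over R(Y) has a p^e-th power coming from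
R(Y), p being the characteristic exponent. Then for every point y of Y whose local ring is
unibranch, the fibre X_y is connected and nonempty. -/
theorem result {X Y : Scheme.{u}} [IsIntegral X]
    [IsIntegral Y] [IsLocallyNoetherian X] [IsLocallyNoetherian Y] (f : X ⟶ Y) [IsProper f]
    (hdom : f.base (genericPoint X) ⤳ genericPoint Y)
    (hrad : ∀ x : X.functionField,
      (∃ q : Polynomial Y.functionField, q ≠ 0 ∧
        Polynomial.eval₂ (CohIII.stalkToFunctionField f (genericPoint Y) hdom) x q = 0) →
      ∃ e : ℕ, x ^ (ringExpChar X.functionField ^ e) ∈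
        Set.range (CohIII.stalkToFunctionField f (genericPoint Y) hdom))
    (y : Y) (hy : CAlg2.IsUnibranch (Y.presheaf.stalk y)) :
    ConnectedSpace ↥(f.fiber y) := by
  have hdom' : f.base (genericPoint X) = genericPoint Y :=
    (hdom.antisymm ((genericPoint_spec Y).specializes trivial)).eq
  have hgy : genericPoint Y ⤳ y := (genericPoint_spec Y).specializes trivial
  have h : f.base (genericPoint X) ⤳ y := hdom.trans hgy
  have hS := Groth.Agent.S2421.result f hdom' y h
  let A : Type u := Y.presheaf.stalk y
  let K : Type u := Y.functionField
  let L : Type u := X.functionField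
  let σy : A →+* L := CohIII.stalkToFunctionField f y h
  let ση : K →+* L := CohIII.stalkToFunctionField f (genericPoint Y) hdom
  letI algAL : Algebra A L := σy.toAlgebra
  letI algKL : Algebra K L := ση.toAlgebra
  have hσ : σy = ση.comp (algebraMap A K) := by
    ext a
    change (f.stalkMap (genericPoint X)).hom ((Y.presheaf.stalkSpecializes h).hom a) =
      (f.stalkMap (genericPoint X)).hom ((Y.presheaf.stalkSpecializes hdom).hom
        ((Y.presheaf.stalkSpecializes hgy).hom a))
    congr 1
    have := Y.presheaf.stalkSpecializes_comp hdom hgy
    exact (congr(($this).hom a)).symm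
  haveI : IsScalarTower A K L := IsScalarTower.of_algebraMap_eq (fun a => congr($hσ a))
  have hloc : IsLocalRing (integralClosure A K) :=
    (Groth.Agent.Lib.Helper4.Unibranch.isUnibranch_iff_of_isDomain A K).1 hy
  have hsub := Groth.Agent.Lib.Helper23.SteinC.subsingleton_maximalSpectrum_of_radicial
    (A := A) (K := K) (L := L) hloc (by
      intro x hx
      obtain ⟨P, hPmonic, hP⟩ := hx
      have hq : ∃ q : Polynomial K, q ≠ 0 ∧ Polynomial.eval₂ ση x q = 0 := by
        refine ⟨P.map (algebraMap A K), (hPmonic.map _).ne_zero, ?_⟩
        rw [Polynomial.eval₂_map]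
        have : ση.comp (algebraMap A K) = algebraMap A L := hσ.symm
        rw [this]; exact hP
      obtain ⟨e, c, hc⟩ := hrad x hq
      exact ⟨ringExpChar L ^ e, c, pow_pos (lt_of_lt_of_le Nat.one_pos (le_max_right _ _)) e, hc.symm⟩)
  have hcard : Cardinal.mk (_root_.ConnectedComponents (f.fiber y)) ≤ 1 := by
    refine hS.trans ?_
    haveI : Subsingleton (MaximalSpectrum (CohIII.integralClosureStalk f y h)) := hsub
    exact Cardinal.le_one_iff_subsingleton.2 hsub
  obtain ⟨x, hx⟩ := surjective_of_proper_dominant f hdom' y
  haveI : Nonempty (f.fiber y) := ⟨(f.fiberHomeo y).symm ⟨x, hx⟩⟩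
  exact connectedSpace_of_subsingleton (Cardinal.le_one_iff_subsingleton.1 hcard)

end Groth.Agent.S4464
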