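import Groth.Statements.S4472
import Mathlib
import Groth.Agent.Lib.Helper23SteinC
import Groth.Agent.Lib.Helper4Unibranch
import Groth.Agent.Lib.Helper6UniA
import Groth.Agent.Lib.Helper2BlowProper
import Groth.Agent.S2421
import Groth.Agent.S2348
-- import your own Groth.Agent.* helpers here

set_option autoImplicit false
universe u
open Coherent

namespace Groth.Agent.S4472

open AlgebraicGeometry CategoryTheory Limits

/-- a scheme on which the zero ideal sheaf is effective Cartier is empty. -/
theorem isEmpty_of_isEffCartierIdeal_bot {X : Scheme.{u}}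
    (h : BlowUp.IsEffCartierIdeal (⊥ : X.IdealSheafData)) : IsEmpty X := by
  refine ⟨fun x => ?_⟩
  obtain ⟨U, hxU, f, hf, hI⟩ := h x
  haveI : Nonempty U.1 := ⟨⟨x, hxU⟩⟩
  have h0 : f = 0 := by
    have : f ∈ Ideal.span {f} := Ideal.subset_span rfl
    rw [← hI] at this
    simpa using this
  rw [h0] at hf
  exact zero_notMem_nonZeroDivisors hf

theorem bijective_residue_of_isField {R : Type u} [CommRing R] [IsLocalRing R] (hR : IsField R) :
    Function.Bijective (IsLocalRing.residue R) := by
  refine ⟨?_, Ideal.Quotient.mk_surjective⟩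
  rw [injective_iff_map_eq_zero]
  intro a ha
  have h1 : a ∈ IsLocalRing.maximalIdeal R := by
    rwa [← IsLocalRing.ker_residue, RingHom.mem_ker]
  rw [IsLocalRing.isField_iff_maximalIdeal_eq.1 hR] at h1
  exact h1

theorem isField_stalk_of_eq {Y : Scheme.{u}} [IsIntegral Y] (y' : Y) (h : y' = genericPoint Y) :
    IsField (Y.presheaf.stalk y') := by
  subst h
  exact Field.toIsField (Y.functionField)

/-- blow-up of an integral locally Noetherian scheme in a nonzero ideal: the fibre over a unibranch point is
preconnected. -/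
theorem preconnectedSpace_fiber_of_isBlowUp {X Y : Scheme.{u}} [IsIntegral Y] [IsLocallyNoetherian Y]
    (𝓘 : Y.IdealSheafData) (h𝓘ne : 𝓘 ≠ ⊥) (b : X ⟶ Y) (hb : BlowUp.IsBlowUp b 𝓘) (y : Y)
    (hOuni : CAlg2.IsUnibranch (Y.presheaf.stalk y)) : PreconnectedSpace ↥(b.fiber y) := by
  obtain ⟨hint, hgen, hbij⟩ := Groth.Agent.S2348.result 𝓘 h𝓘ne b hb
  haveI := hint
  have hft : BlowUp.IsFiniteTypeIdeal 𝓘 := by
    intro U
    haveI : IsNoetherianRing Γ(Y, U.1) := IsLocallyNoetherian.component_noetherian U
    exact IsNoetherian.noetherian _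
  haveI : IsProper b := Groth.Agent.Lib.Helper2.BlowProper.isProper_of_isBlowUp 𝓘 hft b hb
  haveI : IsLocallyNoetherian X := LocallyOfFiniteType.isLocallyNoetherian b
  have hgy : genericPoint Y ⤳ y := (genericPoint_spec Y).specializes trivial
  have hdom : b.base (genericPoint X) ⤳ genericPoint Y := by rw [hgen]
  have h : b.base (genericPoint X) ⤳ y := hdom.trans hgy
  have hS := Groth.Agent.S2421.result b hgen y h
  let O : Type u := Y.presheaf.stalk y
  let K : Type u := Y.functionField
  let L : Type u := X.functionField
  let σy : O →+* L := CohIII.stalkToFunctionField b y h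
  let ση : K →+* L := CohIII.stalkToFunctionField b (genericPoint Y) hdom
  letI algOL : Algebra O L := σy.toAlgebra
  letI algKL : Algebra K L := ση.toAlgebra
  have hσ : σy = ση.comp (algebraMap O K) := by
    ext a
    change (b.stalkMap (genericPoint X)).hom ((Y.presheaf.stalkSpecializes h).hom a) =
      (b.stalkMap (genericPoint X)).hom ((Y.presheaf.stalkSpecializes hdom).hom
        ((Y.presheaf.stalkSpecializes hgy).hom a))
    congr 1
    have := Y.presheaf.stalkSpecializes_comp hdom hgy
    exact (congr(($this).hom a)).symm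
  haveI : IsScalarTower O K L := IsScalarTower.of_algebraMap_eq (fun a => congr($hσ a))
  have hloc : IsLocalRing (integralClosure O K) :=
    (Groth.Agent.Lib.Helper4.Unibranch.isUnibranch_iff_of_isDomain O K).1 hOuni
  -- ση is surjective
  have hsurj : Function.Surjective ση := by
    have h1 : Function.Surjective (Y.presheaf.stalkSpecializes hdom).hom := by
      have hinsep : Inseparable (b.base (genericPoint X)) (genericPoint Y) := by rw [hgen]
      exact ((ConcreteCategory.isIso_iff_bijective
        (Y.presheaf.stalkCongr hinsep.symm).hom).1 inferInstance).2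
    have h2 : Function.Surjective (b.stalkMap (genericPoint X)).hom := by
      have e := Scheme.residue_residueFieldMap b (genericPoint X)
      have hXf : Function.Bijective (X.residue (genericPoint X)).hom :=
        bijective_residue_of_isField (Field.toIsField (X.functionField))
      have hYf : Function.Bijective (Y.residue (b.base (genericPoint X))).hom :=
        bijective_residue_of_isField (isField_stalk_of_eq _ hgen)
      intro z
      obtain ⟨w, hw⟩ := hbij.2 ((X.residue (genericPoint X)).hom z)
      obtain ⟨v, hv⟩ := hYf.2 w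
      refine ⟨v, hXf.1 ?_⟩
      rw [← hw, ← hv]
      exact (congr(($e).hom v)).symm
    exact h2.comp h1
  have hsub := Groth.Agent.Lib.Helper23.SteinC.subsingleton_maximalSpectrum_of_radicial
    (A := O) (K := K) (L := L) hloc (by
      intro x _
      obtain ⟨c, hc⟩ := hsurj x
      exact ⟨1, c, Nat.one_pos, by rw [pow_one]; exact hc.symm⟩)
  have hcard : Cardinal.mk (_root_.ConnectedComponents (b.fiber y)) ≤ 1 :=
    hS.trans (Cardinal.le_one_iff_subsingleton.2 hsub)
  have hss : Subsingleton (_root_.ConnectedComponents (b.fiber y)) :=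
    Cardinal.le_one_iff_subsingleton.1 hcard
  rw [preconnectedSpace_iff_connectedComponent]
  intro x
  ext z
  simp only [Set.mem_univ, iff_true]
  have : (x : _root_.ConnectedComponents (b.fiber y)) = z := Subsingleton.elim _ _
  have h2 := ConnectedComponents.coe_eq_coe.1 this
  rw [h2]; exact mem_connectedComponent

open AlgebraicGeometry CategoryTheory in
/-- Let A be a unibranch Noetherian local domain (a local domain whose integral closure is a local ring)
with maximal ideal m, let 𝔞 be an ideal of definition of A (𝔞 ⊆ m and m^p ⊆ 𝔞 for some p), and let b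
: X → Spec A be a blowing up of Spec A in the ideal sheaf defined by 𝔞. Then the fibre of b over the
closed point is preconnected. Its underlying space is that of Proj of the associated graded ring ⊕
𝔞^i/𝔞^(i+1), so this says that Proj is connected (possibly empty). -/
theorem result (A : Type u) [CommRing A] [IsDomain A]
    [IsNoetherianRing A] [IsLocalRing A] (hA : CAlg2.IsUnibranch A) (𝔞 : Ideal A)
    (hle : 𝔞 ≤ IsLocalRing.maximalIdeal A)
    (hpow : ∃ p : ℕ, IsLocalRing.maximalIdeal A ^ p ≤ 𝔞) {X : Scheme.{u}}
    (b : X ⟶ Spec (CommRingCat.of A))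
    (hb : BlowUp.IsBlowUp b
      (Scheme.IdealSheafData.ofIdealTop (𝔞.map (Scheme.ΓSpecIso (CommRingCat.of A)).inv.hom))) :
    PreconnectedSpace ↥(b.fiber (IsLocalRing.closedPoint A)) := by
  by_cases h0 : 𝔞 = ⊥
  · -- X is empty
    have h1 : Scheme.IdealSheafData.ofIdealTop (X := Spec (CommRingCat.of A))
        (𝔞.map (Scheme.ΓSpecIso (CommRingCat.of A)).inv.hom) = ⊥ := by
      rw [h0, Ideal.map_bot]
      exact (Scheme.IdealSheafData.equivOfIsAffine (X := Spec (CommRingCat.of A))).symm.map_zero
    have h2 := hb.1
    rw [h1, Scheme.IdealSheafData.comap_bot] at h2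
    haveI := isEmpty_of_isEffCartierIdeal_bot h2
    haveI : IsEmpty (b.fiber (IsLocalRing.closedPoint A)) :=
      Function.isEmpty (b.fiberι (IsLocalRing.closedPoint A)).base
    exact ⟨by rw [Set.univ_eq_empty_iff.2 this]; exact isPreconnected_empty⟩
  · have h𝓘ne : Scheme.IdealSheafData.ofIdealTop (X := Spec (CommRingCat.of A))
        (𝔞.map (Scheme.ΓSpecIso (CommRingCat.of A)).inv.hom) ≠ ⊥ := by
      intro h1
      apply h0
      have h3 : (Scheme.IdealSheafData.equivOfIsAffine (X := Spec (CommRingCat.of A)))
          (Scheme.IdealSheafData.ofIdealTop (𝔞.map (Scheme.ΓSpecIso (CommRingCat.of A)).inv.hom)) =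
          𝔞.map (Scheme.ΓSpecIso (CommRingCat.of A)).inv.hom :=
        (Scheme.IdealSheafData.equivOfIsAffine (X := Spec (CommRingCat.of A))).apply_symm_apply _
      rw [h1] at h3
      have h2 : 𝔞.map (Scheme.ΓSpecIso (CommRingCat.of A)).inv.hom = ⊥ := by
        rw [← h3]
        exact (Scheme.IdealSheafData.equivOfIsAffine (X := Spec (CommRingCat.of A))).map_zero
      have hinj : Function.Injective (Scheme.ΓSpecIso (CommRingCat.of A)).inv.hom :=
        ((ConcreteCategory.isIso_iff_bijective _).1 inferInstance).1
      exact (Ideal.map_eq_bot_iff_of_injective hinj).1 h2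
    have hOuni : CAlg2.IsUnibranch
        ((Spec (CommRingCat.of A)).presheaf.stalk (IsLocalRing.closedPoint A)) :=
      Groth.Agent.Lib.Helper6.Uni.isUnibranch_of_ringEquiv
        (stalkClosedPointIso (CommRingCat.of A)).commRingCatIsoToRingEquiv.symm hA
    exact preconnectedSpace_fiber_of_isBlowUp _ h𝓘ne b hb _ hOuni

end Groth.Agent.S4472
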