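import Groth.Statements.S4474
import Mathlib
import Groth.Agent.Lib.Helper23RestrTensor
import Groth.Agent.Lib.Helper23RelAmpleCounit
import Groth.Agent.Lib.Helper23FinTypeLocal
import Groth.Agent.Lib.Helper23LocGen
-- import your own Groth.Agent.* helpers here

set_option autoImplicit false
universe u
open Coherent

namespace Groth.Agent.S4474

open TopologicalSpace Opposite
set_option backward.isDefEq.respectTransparency.types false

open Groth.Agent.Lib.Helper23.RestrTensor Groth.Agent.Lib.Helper23.RelAmpleCounit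
  Groth.Agent.Lib.Helper23.CounitEpi

open AlgebraicGeometry CategoryTheory in
/-- for `L` relatively ample and `F` quasi-coherent of finite type on a quasi-compact `X`, the counit at `F ⊗ L^n` is an
epimorphism for all large `n` -/
theorem epi_counit_twist_eventually {X Y : Scheme.{u}} [CompactSpace X] (f : X ⟶ Y)
    (L : X.Modules) (hL : PicF.IsInvertible L) (h : RelAmple.IsRelAmple f L) (F : X.Modules)
    [F.IsQuasicoherent] [SheafOfModules.IsFiniteType (R := X.ringCatSheaf) F] :
    ∃ N : ℕ, ∀ n : ℕ, N ≤ n →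
      Epi ((Scheme.Modules.pullbackPushforwardAdjunction f).counit.app
        (CohB1.tensorMod F (CohB1.tensorPow L n))) := by
  have key : ∀ V : Y.affineOpens, ∃ n₀ : ℕ, ∀ n, n₀ ≤ n →
      Curv2.IsGloballyGenerated ((CohB1.tensorMod F (CohB1.tensorPow L n)).restrict (f ⁻¹ᵁ V.1).ι) := by
    intro V
    haveI : (F.restrict (f ⁻¹ᵁ V.1).ι).IsQuasicoherent :=
      Scheme.Modules.isQuasicoherent_restrictFunctor (f ⁻¹ᵁ V.1).ι F
    haveI : SheafOfModules.IsFiniteType (R := ((f ⁻¹ᵁ V.1 : X.Opens) : Scheme.{u}).ringCatSheaf)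
        (F.restrict (f ⁻¹ᵁ V.1).ι) :=
      Groth.Agent.Lib.Helper23.FinType.isFiniteType_restrict (f ⁻¹ᵁ V.1).ι F
    obtain ⟨n₀, hn₀⟩ := Groth.Agent.Lib.Helper23.LocGen.isGloballyGenerated_twist_eventually
      (L.restrict (f ⁻¹ᵁ V.1).ι) (h.2 V) (F.restrict (f ⁻¹ᵁ V.1).ι)
    refine ⟨n₀, fun n hn => ?_⟩
    obtain ⟨e⟩ := nonempty_restrict_twist_iso F L hL (f ⁻¹ᵁ V.1) n
    exact isGloballyGenerated_of_iso e.symm (hn₀ n hn)
  choose N hN using key
  have hcov : ∀ x : X, ∃ V : Y.affineOpens, f x ∈ V.1 := by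
    intro x
    obtain ⟨V, hV, hxV, -⟩ := Opens.isBasis_iff_nbhd.1 Y.isBasis_affineOpens (Opens.mem_top (f x))
    exact ⟨⟨V, hV⟩, hxV⟩
  choose V hV using hcov
  obtain ⟨T, hT⟩ : ∃ T : Finset X, (Set.univ : Set X) ⊆ ⋃ x ∈ T, ((f ⁻¹ᵁ (V x).1 : X.Opens) : Set X) :=
    isCompact_univ.elim_finite_subcover (fun x => ((f ⁻¹ᵁ (V x).1 : X.Opens) : Set X))
      (fun x => (f ⁻¹ᵁ (V x).1).2) (fun x _ => Set.mem_iUnion.2 ⟨x, hV x⟩)
  refine ⟨T.sup fun x => N (V x), fun n hn => ?_⟩
  apply epi_counit_of_isGloballyGenerated f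
  intro y
  obtain ⟨x, hx⟩ := Set.mem_iUnion.1 (hT (Set.mem_univ y))
  obtain ⟨hxT, hyx⟩ := Set.mem_iUnion.1 hx
  exact ⟨(V x).1, hyx, hN (V x) n (le_trans (Finset.le_sup (f := fun x => N (V x)) hxT) hn)⟩

open AlgebraicGeometry CategoryTheory in
open AlgebraicGeometry CategoryTheory in
/-- Let Y be a Noetherian scheme, f : X → Y a proper morphism, L an invertible O_X-module which is ample
relative to f, and F a coherent O_X-module. Then there is an integer N such that for every n ≥ N the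
canonical morphism f^* f_* (F(n)) → F(n), the counit of the adjunction between f^* and f_*, is an
epimorphism, where F(n) = F ⊗ L^{⊗ n}. -/
theorem result {X Y : Scheme.{u}} (f : X ⟶ Y) [IsNoetherian Y] [IsProper f]
    (L : X.Modules) (hL : PicF.IsInvertible L) (hamp : RelAmple.IsRelAmple f L) (F : X.Modules)
    (hF : Coh.IsCoh F) :
    ∃ N : ℕ, ∀ n : ℕ, N ≤ n →
      Epi ((Scheme.Modules.pullbackPushforwardAdjunction f).counit.app
        (CohB1.tensorMod F (CohB1.tensorPow L n))) := by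
  haveI : F.IsQuasicoherent := hF.1
  haveI : SheafOfModules.IsFiniteType (R := X.ringCatSheaf) F := hF.2
  haveI : CompactSpace X := QuasiCompact.compactSpace_of_compactSpace f
  exact epi_counit_twist_eventually f L hL hamp F

end Groth.Agent.S4474
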