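import Groth.Statements.S4476
import Groth.Agent.Lib.Helper17HomLift5
-- import your own Groth.Agent.* helpers here

set_option autoImplicit false
universe u
attribute [local instance] HasDerivedCategory.standard
open Coherent

namespace Groth.Agent.S4476

open AlgebraicGeometry CategoryTheory in
/-- Over a local base. Let A be a Noetherian local ring with closed point y, X a scheme proper and flat
over Spec A, F and G finite locally free O_X-modules and F_y, G_y their restrictions (module
pullbacks) to the closed fibre X_y. Assume that the internal Hom functor Hom(F_y, −) exists as the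
right adjoint of F_y ⊗ − and that H^1(X_y, Hom(F_y, G_y)) = 0. Then every morphism u₀ : F_y → G_y is
the restriction to X_y of a morphism u : F → G; moreover for every such u, if u₀ is a monomorphism
(resp. an epimorphism) then u is a monomorphism (resp. an epimorphism). (Over a general locally
Noetherian base the published statements give u on the inverse image of a neighbourhood of y; over
the spectrum of a local ring that neighbourhood is the whole base.) -/
theorem result (A : Type u) [CommRing A] [IsNoetherianRing A]
    [IsLocalRing A] (X : Scheme.{u}) [X.Over (Spec (CommRingCat.of A))]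
    [IsProper (X ↘ Spec (CommRingCat.of A))] [Flat (X ↘ Spec (CommRingCat.of A))]
    (F G : X.Modules) (hF : FlatMod.IsFinLocFree F) (hG : FlatMod.IsFinLocFree G)
    [DCoh.HasSheafHom (CohIII.fiberMod (X ↘ Spec (CommRingCat.of A)) F (IsLocalRing.closedPoint A))]
    (h1 : Subsingleton (Coh.HH ((X ↘ Spec (CommRingCat.of A)).fiber (IsLocalRing.closedPoint A))
      ((DCoh.sheafHom (CohIII.fiberMod (X ↘ Spec (CommRingCat.of A)) F (IsLocalRing.closedPoint A))).obj
        (CohIII.fiberMod (X ↘ Spec (CommRingCat.of A)) G (IsLocalRing.closedPoint A))) 1))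
    (u₀ : CohIII.fiberMod (X ↘ Spec (CommRingCat.of A)) F (IsLocalRing.closedPoint A) ⟶
      CohIII.fiberMod (X ↘ Spec (CommRingCat.of A)) G (IsLocalRing.closedPoint A)) :
    (∃ u : F ⟶ G,
      (Scheme.Modules.pullback ((X ↘ Spec (CommRingCat.of A)).fiberι (IsLocalRing.closedPoint A))).map u = u₀) ∧
    ∀ u : F ⟶ G,
      (Scheme.Modules.pullback ((X ↘ Spec (CommRingCat.of A)).fiberι (IsLocalRing.closedPoint A))).map u = u₀ →
        (Mono u₀ → Mono u) ∧ (Epi u₀ → Epi u) := by
  let R : CommRingCat.{u} := CommRingCat.of A
  let y : PrimeSpectrum A := IsLocalRing.closedPoint A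
  haveI : y.asIdeal.IsMaximal := inferInstanceAs (IsLocalRing.maximalIdeal A).IsMaximal
  let φc : R ⟶ (Spec R).residueField y :=
    CommRingCat.ofHom (algebraMap A y.asIdeal.ResidueField) ≫ (Scheme.Spec.residueFieldIso R y).inv
  have hφ : (Spec R).fromSpecResidueField y = Spec.map φc := by
    rw [← Scheme.Spec.map_residueFieldIso_inv_eq_fromSpecResidueField, ← Spec.map_comp]
  have hsq : IsPullback ((X ↘ Spec (CommRingCat.of A)).fiberι y)
      ((X ↘ Spec (CommRingCat.of A)).fiberToSpecResidueField y) (X ↘ Spec (CommRingCat.of A))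
      (Spec.map φc) := by
    rw [← hφ]
    exact IsPullback.of_hasPullback _ _
  have hbij : Function.Bijective (Scheme.Spec.residueFieldIso R y).inv.hom :=
    ConcreteCategory.bijective_of_isIso (Scheme.Spec.residueFieldIso R y).inv
  have hsurj : Function.Surjective φc.hom := by
    change Function.Surjective ((Scheme.Spec.residueFieldIso R y).inv.hom ∘
      (algebraMap A y.asIdeal.ResidueField))
    exact hbij.2.comp y.asIdeal.algebraMap_residueField_surjective
  have hker : RingHom.ker φc.hom = IsLocalRing.maximalIdeal A := by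
    ext a
    rw [RingHom.mem_ker]
    change (Scheme.Spec.residueFieldIso R y).inv.hom (algebraMap A y.asIdeal.ResidueField a) = 0 ↔ _
    rw [map_eq_zero_iff _ hbij.1, Ideal.algebraMap_residueField_eq_zero]
    rfl
  have hFc := Groth.Agent.Lib.Helper21.HZB.isCoh_of_isFinLocFree F hF
  have hGc := Groth.Agent.Lib.Helper21.HZB.isCoh_of_isFinLocFree G hG
  haveI : G.IsQuasicoherent := hGc.1
  have hflG : FlatMod.IsFlatOver (X ↘ Spec (CommRingCat.of A)) G :=
    Groth.Agent.Lib.Helper17.HomLift.isFlatOver_of_isFlat _ _
      (Groth.Agent.Lib.Helper1.Sky.isFlat_of_isFinLocFree' _ hG)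
  refine ⟨?_, fun u hu => ⟨fun hm => ?_, fun he => ?_⟩⟩
  · exact Groth.Agent.Lib.Helper17.HomLift.exists_lift_fibre' φc.hom
      ((X ↘ Spec (CommRingCat.of A)).fiberι y)
      ((X ↘ Spec (CommRingCat.of A)).fiberToSpecResidueField y) hsq hsurj F G hker hF hG h1 u₀
  · subst hu
    exact Groth.Agent.Lib.Helper17.HomLift.mono_of_mono_fibre φc.hom
      ((X ↘ Spec (CommRingCat.of A)).fiberι y)
      ((X ↘ Spec (CommRingCat.of A)).fiberToSpecResidueField y) hsq hsurj F G hker hFc hGc hflG u hm
  · subst hu
    exact Groth.Agent.Lib.Helper17.HomLift.epi_of_epi_fibre φc.hom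
      ((X ↘ Spec (CommRingCat.of A)).fiberι y)
      ((X ↘ Spec (CommRingCat.of A)).fiberToSpecResidueField y) hsq hsurj F G hker hFc hGc u he

end Groth.Agent.S4476
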