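import Groth.Statements.S4477
import Groth.Agent.Lib.Helper17SpreadD
import Groth.Agent.Lib.Helper17HomLift6
-- import your own Groth.Agent.* helpers here

set_option autoImplicit false
universe u
attribute [local instance] HasDerivedCategory.standard
open Coherent

namespace Groth.Agent.S4477

open AlgebraicGeometry CategoryTheory in
/-- Let Y be a locally Noetherian scheme, f : X → Y a proper flat morphism, y a point of Y, and F, G
finite locally free O_X-modules whose restrictions F_y and G_y to the fibre X_y are isomorphic (both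
isomorphic to one locally free E₀). Assume that Hom(F_y, −) exists as the right adjoint of F_y ⊗ −
and that H^1(X_y, Hom(F_y, F_y)) = 0. Then there is an open neighbourhood U of y such that the
restrictions of F and G to f⁻¹(U) are isomorphic. -/
theorem result {X Y : Scheme.{u}} (f : X ⟶ Y) [IsProper f] [Flat f]
    [IsLocallyNoetherian Y] (y : Y) (F G : X.Modules) (hF : FlatMod.IsFinLocFree F) (hG : FlatMod.IsFinLocFree G)
    [DCoh.HasSheafHom (CohIII.fiberMod f F y)]
    (h1 : Subsingleton (Coh.HH (f.fiber y) ((DCoh.sheafHom (CohIII.fiberMod f F y)).obj (CohIII.fiberMod f F y)) 1))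
    (hy : Nonempty (CohIII.fiberMod f F y ≅ CohIII.fiberMod f G y)) :
    ∃ U : Y.Opens, y ∈ U ∧ Nonempty (F.restrict (f ⁻¹ᵁ U).ι ≅ G.restrict (f ⁻¹ᵁ U).ι) := by
  obtain ⟨e₀⟩ := hy
  haveI : LocallyOfFiniteType f := inferInstance
  haveI : IsLocallyNoetherian X := LocallyOfFiniteType.isLocallyNoetherian f
  have hFc := Groth.Agent.Lib.Helper21.HZB.isCoh_of_isFinLocFree F hF
  have hGc := Groth.Agent.Lib.Helper21.HZB.isCoh_of_isFinLocFree G hG
  let X₁ : Scheme.{u} := Limits.pullback f (Y.fromSpecStalk y)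
  let g : X₁ ⟶ X := Limits.pullback.fst f (Y.fromSpecStalk y)
  letI : X₁.Over (Spec (CommRingCat.of (Y.presheaf.stalk y))) :=
    ⟨Limits.pullback.snd f (Y.fromSpecStalk y)⟩
  have hsq : IsPullback g (X₁ ↘ Spec (CommRingCat.of (Y.presheaf.stalk y))) f (Y.fromSpecStalk y) :=
    IsPullback.of_hasPullback f (Y.fromSpecStalk y)
  haveI : IsProper (X₁ ↘ Spec (CommRingCat.of (Y.presheaf.stalk y))) :=
    MorphismProperty.of_isPullback (P := @IsProper) hsq inferInstance
  haveI : Flat (X₁ ↘ Spec (CommRingCat.of (Y.presheaf.stalk y))) :=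
    MorphismProperty.of_isPullback (P := @Flat) hsq inferInstance
  -- the closed fibre
  let j : f.fiber y ⟶ X₁ := Limits.pullback.lift (f.fiberι y)
    (f.fiberToSpecResidueField y ≫ Spec.map (Y.residue y))
    (by
      have h := (IsPullback.of_hasPullback f (Y.fromSpecResidueField y)).w
      rw [Category.assoc]
      exact h)
  have hj1 : j ≫ g = f.fiberι y := Limits.pullback.lift_fst _ _ _
  have hj2 : j ≫ (X₁ ↘ Spec (CommRingCat.of (Y.presheaf.stalk y))) =
      f.fiberToSpecResidueField y ≫ Spec.map (Y.residue y) := Limits.pullback.lift_snd _ _ _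
  have hsq₀ : IsPullback j (f.fiberToSpecResidueField y)
      (X₁ ↘ Spec (CommRingCat.of (Y.presheaf.stalk y))) (Spec.map (Y.residue y)) := by
    refine IsPullback.of_right ?_ hj2 hsq
    rw [hj1]
    exact IsPullback.of_hasPullback f (Y.fromSpecResidueField y)
  have hsurj : Function.Surjective (Y.residue y).hom := IsLocalRing.residue_surjective
  have hker : RingHom.ker (Y.residue y).hom = IsLocalRing.maximalIdeal (Y.presheaf.stalk y) :=
    IsLocalRing.ker_residue
  let e1 : ∀ M : X.Modules, (Scheme.Modules.pullback j).obj ((Scheme.Modules.pullback g).obj M) ≅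
      (Scheme.Modules.pullback (f.fiberι y)).obj M := fun M =>
    (Scheme.Modules.pullbackComp j g).app M ≪≫ (Scheme.Modules.pullbackCongr hj1).app M
  have hF₁ := Groth.Agent.Lib.Helper1.Sky.isFinLocFree_pullback g F hF
  have hG₁ := Groth.Agent.Lib.Helper1.Sky.isFinLocFree_pullback g G hG
  -- transport the vanishing of H^1
  have h1a := Groth.Agent.Lib.Helper17.FlatDev.subsingleton_HH_of_iso'
    (Groth.Agent.Lib.Helper17.FFaith.dcohSheafHomIso (CohIII.fiberMod f F y) (CohIII.fiberMod f F y)) 1 h1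
  have h1b := Groth.Agent.Lib.Helper17.FlatDev.subsingleton_HH_of_iso'
    ((Groth.Agent.Lib.Helper17.HomLift.sHomFIsoOfIso (e1 F).symm).app (CohIII.fiberMod f F y)) 1 h1a
  have h1c := Groth.Agent.Lib.Helper17.FlatDev.subsingleton_HH_of_iso'
    ((Groth.Agent.Lib.Helper17.FFaith.sHomF
      ((Scheme.Modules.pullback j).obj ((Scheme.Modules.pullback g).obj F))).mapIso
        (e₀ ≪≫ (e1 G).symm)) 1 h1b
  obtain ⟨e⟩ := Groth.Agent.Lib.Helper17.HomLift.nonempty_iso_of_fibre_iso (Y.residue y).hom j
    (f.fiberToSpecResidueField y) hsq₀ hsurj ((Scheme.Modules.pullback g).obj F)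
    ((Scheme.Modules.pullback g).obj G) hker hF₁ hG₁ h1c (e1 F ≪≫ e₀ ≪≫ (e1 G).symm)
  exact Groth.Agent.Lib.Helper17.Spread.exists_nhd_iso_of_iso_over_stalk f y F G hFc hGc X₁ g hsq e

end Groth.Agent.S4477
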