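import Groth.Statements.S4480
import Mathlib
import Groth.Agent.S2431
import Groth.Agent.Lib.Helper23ZarConnC1
import Groth.Agent.Lib.Helper23ZarConnC2
-- import your own Groth.Agent.* helpers here

set_option autoImplicit false
universe u
open Coherent

namespace Groth.Agent.S4480

open AlgebraicGeometry CategoryTheory in
/-- Let X and Y be locally Noetherian integral schemes and f : X → Y a proper dominant morphism such
that the function field R(Y) is algebraically closed in R(X) (every element of R(X) satisfying a
nonzero polynomial over R(Y) comes from R(Y)). Let y be a point of Y whose local ring is integrally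
closed (a normal point). Then the fibre X_y is geometrically connected over the residue field of y
(its base change to every field extension of that residue field is connected and nonempty; in
particular X_y is connected and nonempty), and there is an open neighbourhood U of y such that
O_Y(V) → O_X(f⁻¹V) is an isomorphism for every open V ⊆ U. -/
theorem result {X Y : Scheme.{u}}
    [IsIntegral X] [IsIntegral Y] [IsLocallyNoetherian X] [IsLocallyNoetherian Y] (f : X ⟶ Y) [IsProper f]
    (hdom : f.base (genericPoint X) ⤳ genericPoint Y)
    (halg : ∀ x : X.functionField,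
      (∃ q : Polynomial Y.functionField, q ≠ 0 ∧
        Polynomial.eval₂ (CohIII.stalkToFunctionField f (genericPoint Y) hdom) x q = 0) →
      x ∈ Set.range (CohIII.stalkToFunctionField f (genericPoint Y) hdom))
    (y : Y) (hy : IsIntegrallyClosed (Y.presheaf.stalk y)) :
    GeometricallyConnected (f.fiberToSpecResidueField y) ∧
      ∃ U : Y.Opens, y ∈ U ∧ ∀ V : Y.Opens, V ≤ U → IsIso (f.app V) := by
  obtain ⟨V, hV, hyV, -⟩ := exists_isAffineOpen_mem_and_subset (x := y) (U := ⊤) trivial
  obtain ⟨s, hys, hs⟩ := Groth.Agent.Lib.Helper23.ZarConnC1.exists_forall_mul_mem_range f hdom halg y hy hV hyV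
  have hη : genericPoint Y ∈ Y.basicOpen s :=
    Groth.Agent.Lib.Helper23.FFNorm.genericPoint_mem_of_mem hys
  have hbij := Groth.Agent.Lib.Helper23.ZarConnC1.bijective_app_basicOpen f hdom hV s hs hη
  have hD : IsAffineOpen (Y.basicOpen s) := hV.basicOpen s
  have hiso : IsIso (f.app (Y.basicOpen s)) := (ConcreteCategory.isIso_iff_bijective _).2 hbij
  refine ⟨?_, Y.basicOpen s, hys, fun V' hV' => Groth.Agent.Lib.Helper23.ZarConnC2.isIso_app_of_le f hD hiso V' hV'⟩
  have hres := Groth.Agent.Lib.Helper23.ZarConnC2.isIso_morphismRestrict_app f hD hiso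
  have hgc := (Groth.Agent.S2431.result (f ∣_ Y.basicOpen s) hres).2
  exact Groth.Agent.Lib.Helper23.ZarConnC2.geometricallyConnected_fiber_of_restrict f (Y.basicOpen s) y hys hgc

end Groth.Agent.S4480
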