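import Groth.Statements.S4484
import Mathlib
import Groth.Agent.Lib.Helper23SteinE
import Groth.Agent.Lib.Helper4Unibranch
import Groth.Agent.S2421
-- import your own Groth.Agent.* helpers here

set_option autoImplicit false
universe u
open Coherent

namespace Groth.Agent.S4484

open AlgebraicGeometry CategoryTheory Limits

/-- pure algebra: unibranch + finite separable degree `n` ⇒ at most `n` maximal ideals in the integral closure. -/
theorem card_maximalSpectrum_le_finSepDegree {A K L : Type u} [CommRing A] [IsDomain A] [Field K]
    [Field L] [Algebra A K] [IsFractionRing A K] [Algebra A L] [Algebra K L] [IsScalarTower A K L]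
    (hloc : IsLocalRing (integralClosure A K)) (n : ℕ) (hn0 : 0 < n)
    (hn : Field.finSepDegree K ↥(algebraicClosure K L) = n) :
    Finite (MaximalSpectrum (integralClosure A L)) ∧
      Nat.card (MaximalSpectrum (integralClosure A L)) ≤ n := by
  let R := integralClosure A K
  haveI := hloc
  haveI : IsIntegrallyClosed R := integralClosure.isIntegrallyClosedOfFiniteExtension K
  let K' := algebraicClosure K L
  let Ks := separableClosure K K'
  have hrank : Module.finrank K Ks = n := by
    rw [← hn, Field.finSepDegree_eq K K']
    rfl
  haveI : FiniteDimensional K Ks := Module.finite_of_finrank_pos (by rw [hrank]; exact hn0)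
  haveI : IsScalarTower K Ks L := IsScalarTower.of_algebraMap_eq (fun x => rfl)
  haveI : IsScalarTower R K Ks := IsScalarTower.of_algebraMap_eq (fun x => rfl)
  have hrad : ∀ x : L, IsAlgebraic K x → ∃ (m : ℕ) (c : Ks), 0 < m ∧ x ^ m = algebraMap Ks L c := by
    intro x hx
    let x' : K' := ⟨x, mem_algebraicClosure_iff.2 hx⟩
    obtain ⟨e, c, hc⟩ := (isPurelyInseparable_iff_pow_mem Ks (ringExpChar Ks)).1 inferInstance x'
    refine ⟨ringExpChar Ks ^ e, c, pow_pos (lt_of_lt_of_le Nat.one_pos (le_max_right _ _)) e, ?_⟩
    have : algebraMap Ks L c = algebraMap K' L (algebraMap Ks K' c) := rfl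
    rw [this, hc, map_pow]
    rfl
  obtain ⟨hfin, hcard⟩ :=
    Groth.Agent.Lib.Helper23.SteinE.card_maximalSpectrum_le_finrank_of_radicial
      (R := R) (K := K) (Ks := Ks) (L := L) hrad
  rw [hrank] at hcard
  have hEq : (integralClosure A L).toSubring = (integralClosure R L).toSubring := by
    ext x
    exact ⟨fun h => IsIntegral.tower_top h, fun h => isIntegral_trans x h⟩
  change Finite (MaximalSpectrum ↥(integralClosure A L).toSubring) ∧
    Nat.card (MaximalSpectrum ↥(integralClosure A L).toSubring) ≤ n
  rw [hEq]
  exact ⟨hfin, hcard⟩

open AlgebraicGeometry CategoryTheory in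
/-- Let X and Y be locally Noetherian integral schemes and f : X → Y a proper dominant morphism; regard
the function field R(X) as an extension of R(Y) through f. Suppose that the algebraic closure of
R(Y) in R(X) has finite separable degree n over R(Y). Then for every point y of Y whose local ring
is unibranch, the fibre X_y has finitely many, and at most n, connected components. -/
theorem result {X Y : Scheme.{u}} [IsIntegral X]
    [IsIntegral Y] [IsLocallyNoetherian X] [IsLocallyNoetherian Y] (f : X ⟶ Y) [IsProper f]
    (hdom : f.base (genericPoint X) ⤳ genericPoint Y) [Algebra Y.functionField X.functionField]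
    (halg : algebraMap Y.functionField X.functionField = CohIII.stalkToFunctionField f (genericPoint Y) hdom)
    (n : ℕ) (hn0 : 0 < n)
    (hn : Field.finSepDegree Y.functionField ↥(algebraicClosure Y.functionField X.functionField) = n)
    (y : Y) (hy : CAlg2.IsUnibranch (Y.presheaf.stalk y)) :
    Finite (_root_.ConnectedComponents ↥(f.fiber y)) ∧
      Nat.card (_root_.ConnectedComponents ↥(f.fiber y)) ≤ n := by
  have hdom' : f.base (genericPoint X) = genericPoint Y :=
    (hdom.antisymm ((genericPoint_spec Y).specializes trivial)).eq
  have hgy : genericPoint Y ⤳ y := (genericPoint_spec Y).specializes trivial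
  have h : f.base (genericPoint X) ⤳ y := hdom.trans hgy
  have hS := Groth.Agent.S2421.result f hdom' y h
  let A : Type u := Y.presheaf.stalk y
  let K : Type u := Y.functionField
  let L : Type u := X.functionField
  let σy : A →+* L := CohIII.stalkToFunctionField f y h
  let ση : K →+* L := CohIII.stalkToFunctionField f (genericPoint Y) hdom
  letI algAL : Algebra A L := σy.toAlgebra
  have hσ : σy = ση.comp (algebraMap A K) := by
    ext a
    change (f.stalkMap (genericPoint X)).hom ((Y.presheaf.stalkSpecializes h).hom a) =
      (f.stalkMap (genericPoint X)).hom ((Y.presheaf.stalkSpecializes hdom).hom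
        ((Y.presheaf.stalkSpecializes hgy).hom a))
    congr 1
    have := Y.presheaf.stalkSpecializes_comp hdom hgy
    exact (congr(($this).hom a)).symm
  haveI : IsScalarTower A K L := IsScalarTower.of_algebraMap_eq (fun a => by
    change σy a = algebraMap K L (algebraMap A K a)
    rw [halg, hσ]; rfl)
  have hloc : IsLocalRing (integralClosure A K) :=
    (Groth.Agent.Lib.Helper4.Unibranch.isUnibranch_iff_of_isDomain A K).1 hy
  obtain ⟨hfin, hcard⟩ := card_maximalSpectrum_le_finSepDegree (A := A) (K := K) (L := L) hloc n hn0 hn
  haveI : Finite (MaximalSpectrum (CohIII.integralClosureStalk f y h)) := hfin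
  obtain ⟨φ⟩ := (Cardinal.le_def _ _).1 hS
  exact ⟨Finite.of_injective φ φ.injective,
    (Nat.card_le_card_of_injective φ φ.injective).trans hcard⟩

end Groth.Agent.S4484
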