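import Groth.Statements.S4485
import Groth.Agent.Lib.Helper3FlatCxBT
import Groth.Agent.S2410
import Mathlib

set_option autoImplicit false
universe u
open FlatCx

namespace Groth.Agent.S4485

section Helpers
open CategoryTheory Groth.Agent.Lib.Helper3 Groth.Agent.S2380

/-- exactness of `T_p` in terms of flat opcycles and homology -/
theorem flat_of_exact {A : Type u} [CommRing A]
    (P : ChainComplex (ModuleCat.{u} A) ℤ) (hP : ∀ i, Module.Flat A (P.X i)) (p : ℤ)
    (hex : (CohIII.TFun P p).PreservesMonomorphisms ∧ (CohIII.TFun P p).PreservesEpimorphisms) :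
    Module.Flat A (P.opcycles p) ∧ Module.Flat A (P.opcycles (p - 1)) ∧
      Module.Flat A (P.homology p) := by
  have h1 : Module.Flat A (P.opcycles p) := (Groth.Agent.S2375.result P hP p).mp hex.1
  have h2 : Module.Flat A (P.opcycles (p - 1)) :=
    (Groth.Agent.S2410.preservesEpi_iff_flat_opcycles P hP p (p - 1) (by ring)).mp hex.2
  have := hP (p - 1)
  exact ⟨h1, h2, (flat_opcycles_iff_flat_homology P p (p - 1) (by simp)).mp h1⟩

end Helpers

open CategoryTheory CategoryTheory.Limits in

open CategoryTheory CategoryTheory.Limits in
/-- For the homological functor T_p(M) = H_p(P ⊗_A M) of a chain complex P of flat modules over a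
commutative ring A. If T_p takes injections to injections and surjections to surjections and T_p(A)
is a finitely presented A-module, then the function x ↦ dim_{k(x)} H_p(P ⊗_A k(x)) is locally
constant on Spec A (hence constant when Spec A is connected). No Noetherian hypothesis on A. -/
theorem result {A : Type u} [CommRing A]
    (P : ChainComplex (ModuleCat.{u} A) ℤ) (hP : ∀ i, Module.Flat A (P.X i)) (p : ℤ)
    (hex : (CohIII.TFun P p).PreservesMonomorphisms ∧ (CohIII.TFun P p).PreservesEpimorphisms)
    (hfp : Module.FinitePresentation A (CohIII.T P p (ModuleCat.of A A))) :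
    IsLocallyConstant (CohIII.dRank P p) := by
  open Groth.Agent.Lib.Helper3 Groth.Agent.S2380 in
  obtain ⟨h1, h2, h3⟩ := flat_of_exact P hP p hex
  have := hP (p - 1)
  have hfpH : Module.FinitePresentation A (P.homology p) :=
    Module.FinitePresentation.of_equiv (TUnitIso P p).toLinearEquiv
  have hfin : Module.Finite A (P.homology p) := inferInstance
  have heq : CohIII.dRank P p = Module.rankAtStalk (R := A) (P.homology p) := by
    funext x
    rw [dRank_eq_fd_homology P p x]
    exact (Module.rankAtStalk_eq x).symm
  rw [heq]
  exact Module.isLocallyConstant_rankAtStalk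

end Groth.Agent.S4485
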