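import Groth.Statements.S4501
import Groth.Agent.Lib.Helper3FlatCxBC
import Groth.Agent.S2375
import Groth.Agent.S2410
import Mathlib

set_option autoImplicit false
universe u
open FlatCx

namespace Groth.Agent.S4501

section Helpers

theorem bot_mem_freeLocus {A : Type u} [CommRing A] [IsDomain A] (M : Type u) [AddCommGroup M]
    [Module A M] : (⟨⊥, Ideal.isPrime_bot⟩ : PrimeSpectrum A) ∈ Module.freeLocus A M := by
  rw [Module.mem_freeLocus]
  have : IsFractionRing A (Localization.AtPrime (⊥ : Ideal A)) := by
    simpa [Ideal.primeCompl_bot] using Localization.isLocalization (M := (⊥ : Ideal A).primeCompl)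
  let : Field (Localization.AtPrime (⊥ : Ideal A)) := IsFractionRing.toField A
  exact Module.Free.of_divisionRing _ _

end Helpers

open CategoryTheory CategoryTheory.Limits in

open CategoryTheory CategoryTheory.Limits in
/-- The case of finitely generated flat terms. Let A be a Noetherian domain, P a chain complex of
finitely generated flat A-modules, and for a prime y of A let P_y be the base change of P to the
local ring A_y. Then the set U of points y of Spec A such that the functor N ↦ H_p(P_y ⊗_{A_y} N) on
A_y-modules takes injections to injections and surjections to surjections is open and nonempty (it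
contains the generic point). -/
theorem result {A : Type u} [CommRing A] [IsNoetherianRing A] [IsDomain A]
    (P : ChainComplex (ModuleCat.{u} A) ℤ) (hP : ∀ i, Module.Finite A (P.X i) ∧ Module.Flat A (P.X i))
    (p : ℤ) :
    IsOpen {y : PrimeSpectrum A |
        (CohIII.TFun (CohIII.bcCx (algebraMap A (Localization.AtPrime y.asIdeal)) P) p).PreservesMonomorphisms ∧
          (CohIII.TFun (CohIII.bcCx (algebraMap A (Localization.AtPrime y.asIdeal)) P) p).PreservesEpimorphisms} ∧
      {y : PrimeSpectrum A |
        (CohIII.TFun (CohIII.bcCx (algebraMap A (Localization.AtPrime y.asIdeal)) P) p).PreservesMonomorphisms ∧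
          (CohIII.TFun (CohIII.bcCx (algebraMap A (Localization.AtPrime y.asIdeal)) P) p).PreservesEpimorphisms}.Nonempty := by
  have hflat : ∀ i, Module.Flat A (P.X i) := fun i => (hP i).2
  have := (hP (p - 1)).1
  have := (hP p).1
  have := Groth.Agent.Lib.Helper3.finite_opcycles P (p - 1)
  have := Groth.Agent.Lib.Helper3.finite_opcycles P p
  have : Module.FinitePresentation A (P.opcycles (p - 1)) := Module.finitePresentation_of_finite A _
  have : Module.FinitePresentation A (P.opcycles p) := Module.finitePresentation_of_finite A _
  have hset : {y : PrimeSpectrum A |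
        (CohIII.TFun (CohIII.bcCx (algebraMap A (Localization.AtPrime y.asIdeal)) P) p).PreservesMonomorphisms ∧
          (CohIII.TFun (CohIII.bcCx (algebraMap A (Localization.AtPrime y.asIdeal)) P) p).PreservesEpimorphisms}
      = Module.freeLocus A (P.opcycles p) ∩ Module.freeLocus A (P.opcycles (p - 1)) := by
    ext y
    rw [Set.mem_inter_iff, ← Groth.Agent.Lib.Helper3.flat_bcCx_opcycles_atPrime_iff P (p - 1) y,
      ← Groth.Agent.Lib.Helper3.flat_bcCx_opcycles_atPrime_iff P p y]
    exact and_congr
      (Groth.Agent.S2375.result (CohIII.bcCx (algebraMap A (Localization.AtPrime y.asIdeal)) P)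
        (Groth.Agent.Lib.Helper3.flat_bcCx_X _ P hflat) p)
      (Groth.Agent.S2410.preservesEpi_iff_flat_opcycles
        (CohIII.bcCx (algebraMap A (Localization.AtPrime y.asIdeal)) P)
        (Groth.Agent.Lib.Helper3.flat_bcCx_X _ P hflat) p (p - 1) (by ring))
  rw [hset]
  exact ⟨Module.isOpen_freeLocus.inter Module.isOpen_freeLocus,
    ⟨⟨⊥, Ideal.isPrime_bot⟩, bot_mem_freeLocus _, bot_mem_freeLocus _⟩⟩

end Groth.Agent.S4501
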