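import Groth.Statements.S4486
import Groth.Agent.Lib.Helper3FlatCxBT
import Groth.Agent.S2410
import Groth.Agent.S4501
import Mathlib

set_option autoImplicit false
universe u
open FlatCx

namespace Groth.Agent.S4486

section Helpers
open CategoryTheory CategoryTheory.Limits TensorProduct Groth.Agent.Lib.Helper3 Groth.Agent.S2380

theorem exists_basicOpen {A : Type u} [CommRing A] [IsDomain A] (s : Finset ℤ) (M : ℤ → Type u)
    [∀ q, AddCommGroup (M q)] [∀ q, Module A (M q)] [∀ q, Module.FinitePresentation A (M q)] :
    ∃ f : A, f ≠ 0 ∧ ∀ q ∈ s,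
      (PrimeSpectrum.basicOpen f : Set (PrimeSpectrum A)) ⊆ Module.freeLocus A (M q) := by
  let U : Set (PrimeSpectrum A) := ⋂ q ∈ s, Module.freeLocus A (M q)
  have hU : IsOpen U := isOpen_biInter_finset (fun q _ => Module.isOpen_freeLocus)
  have hbot : (⟨⊥, Ideal.isPrime_bot⟩ : PrimeSpectrum A) ∈ U := by
    simp only [U, Set.mem_iInter]
    intro q _
    exact Groth.Agent.S4501.bot_mem_freeLocus (M q)
  obtain ⟨v, ⟨f, rfl⟩, hfv, hvU⟩ :=
    PrimeSpectrum.isTopologicalBasis_basic_opens.exists_subset_of_mem_open hbot hU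
  refine ⟨f, ?_, ?_⟩
  · rintro rfl
    exact hfv (by simp)
  · intro q hq x hx
    have := hvU hx
    simp only [U, Set.mem_iInter] at this
    exact this q hq

/-- flat base change commutes with homology -/
theorem nonempty_bcHomologyEquiv_of_flat {A : Type u} [CommRing A] (B : Type u) [CommRing B]
    [Algebra A B] [Module.Flat A B] {ι : Type} {c : ComplexShape ι}
    (P : HomologicalComplex (ModuleCat.{u} A) c) (p : ι) :
    Nonempty ((CohIII.bcCx (algebraMap A B) P).homology p ≃ₗ[B] B ⊗[A] (P.homology p)) := by
  have hflat : (algebraMap A B).Flat := RingHom.flat_algebraMap_iff.mpr inferInstance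
  have : PreservesFiniteLimits (ModuleCat.extendScalars.{u, u, u} (algebraMap A B)) :=
    ModuleCat.preservesFiniteLimits_extendScalars_of_flat hflat
  let e : (CohIII.bcCx (algebraMap A B) P).homology p ≅
      (ModuleCat.extendScalars (algebraMap A B)).obj (P.homology p) :=
    ShortComplex.mapHomologyIso (P.sc p) (ModuleCat.extendScalars (algebraMap A B))
  exact ⟨e.toLinearEquiv ≪≫ₗ bridge A B (P.homology p)⟩

theorem flat_opcycles_bc {B : Type u} [CommRing B]
    (K : ChainComplex (ModuleCat.{u} B) ℤ) (hK : ∀ i, Module.Flat B (K.X i)) (i₀ N : ℤ)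
    (hb : ∀ i < i₀, IsZero (K.X i))
    (hH : ∀ q, i₀ ≤ q → q ≤ N → Module.Flat B (K.homology q)) :
    ∀ n : ℕ, ∀ q : ℤ, q ≤ N → q < i₀ + n → Module.Flat B (K.opcycles q) := by
  intro n
  induction n with
  | zero =>
    intro q _ hq
    have hz : IsZero (K.X q) := hb q (by simpa using hq)
    have hz' : IsZero (K.opcycles q) := IsZero.of_epi (K.pOpcycles q) hz
    have : Subsingleton (K.opcycles q) := ModuleCat.subsingleton_of_isZero hz'
    infer_instance
  | succ n ih =>
    intro q hqN hq
    by_cases hq0 : q < i₀
    · have hz : IsZero (K.X q) := hb q hq0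
      have hz' : IsZero (K.opcycles q) := IsZero.of_epi (K.pOpcycles q) hz
      have : Subsingleton (K.opcycles q) := ModuleCat.subsingleton_of_isZero hz'
      infer_instance
    · have hW : Module.Flat B (K.opcycles (q - 1)) :=
        ih (q - 1) (by omega) (by push_cast at hq; omega)
      have := hK (q - 1)
      have := hH q (by omega) hqN
      exact (flat_opcycles_iff_flat_homology K q (q - 1) (by simp)).mpr this

end Helpers

open CategoryTheory CategoryTheory.Limits in

open CategoryTheory CategoryTheory.Limits in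
/-- For the homological functor T_p(M) = H_p(P ⊗_A M) of a chain complex P of flat modules over a
commutative ring A, which commutes with filtered colimits. Let A be a domain and suppose P_i = 0 for
i < i₀ and that every T_n(A) is a finitely presented A-module. Then for every integer N there is a
nonzero f ∈ A such that, for every p ≤ N, the functor of A_f-modules N ↦ H_p(P_f ⊗_{A_f} N), where
P_f = P ⊗_A A_f, takes injections to injections and surjections to surjections. -/
theorem result {A : Type u} [CommRing A] [IsDomain A]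
    (P : ChainComplex (ModuleCat.{u} A) ℤ) (hP : ∀ i, Module.Flat A (P.X i)) (i₀ : ℤ)
    (hb : ∀ i < i₀, IsZero (P.X i))
    (hfp : ∀ n : ℤ, Module.FinitePresentation A (CohIII.T P n (ModuleCat.of A A))) (N : ℤ) :
    ∃ f : A, f ≠ 0 ∧ ∀ p ≤ N,
      (CohIII.TFun (CohIII.bcCx (algebraMap A (Localization.Away f)) P) p).PreservesMonomorphisms ∧
        (CohIII.TFun (CohIII.bcCx (algebraMap A (Localization.Away f)) P) p).PreservesEpimorphisms := by
  open Groth.Agent.Lib.Helper3 Groth.Agent.S2380 TensorProduct in
  have hfpH : ∀ q, Module.FinitePresentation A (P.homology q) := fun q =>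
    have := hfp q
    Module.FinitePresentation.of_equiv (TUnitIso P q).toLinearEquiv
  obtain ⟨f, hf0, hf⟩ := exists_basicOpen (A := A) (Finset.Icc i₀ N) (fun q => P.homology q)
  refine ⟨f, hf0, ?_⟩
  let B := Localization.Away f
  let K := CohIII.bcCx (algebraMap A B) P
  have hK : ∀ i, Module.Flat B (K.X i) := flat_bcCx_X B P hP
  have hbK : ∀ i < i₀, IsZero (K.X i) := fun i hi =>
    (ModuleCat.extendScalars (algebraMap A B)).map_isZero (hb i hi)
  have hH : ∀ q, i₀ ≤ q → q ≤ N → Module.Flat B (K.homology q) := by
    intro q h1 h2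
    have hproj : Module.Projective B (LocalizedModule.Away f (P.homology q)) :=
      Module.basicOpen_subset_freeLocus_iff.mp (hf q (Finset.mem_Icc.mpr ⟨h1, h2⟩))
    obtain ⟨e⟩ := nonempty_bcHomologyEquiv_of_flat B P q
    have hfl : Module.Flat B (LocalizedModule.Away f (P.homology q)) :=
      Module.Flat.of_projective
    exact Module.Flat.of_linearEquiv
      (e ≪≫ₗ (LocalizedModule.equivTensorProduct (Submonoid.powers f) (P.homology q)).symm)
  have hall := flat_opcycles_bc K hK i₀ N hbK hH
  have hW : ∀ q ≤ N, Module.Flat B (K.opcycles q) := by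
    intro q hq
    exact hall (q - i₀ + 1).toNat q hq (by omega)
  intro p hp
  exact ⟨(Groth.Agent.S2375.result K hK p).mpr (hW p hp),
    (Groth.Agent.S2410.preservesEpi_iff_flat_opcycles K hK p (p - 1) (by ring)).mpr
      (hW (p - 1) (by omega))⟩

end Groth.Agent.S4486
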