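import Groth.Statements.S4487
import Groth.Agent.Lib.Helper3FlatCxFin
import Groth.Agent.Lib.Helper3GenFlatRed
import Groth.Agent.Lib.Helper13FlatCx
import Groth.Agent.S4486
import Groth.Agent.S4485
import Groth.Agent.S2440
import Mathlib

set_option autoImplicit false
universe u
open FlatCx

namespace Groth.Agent.S4487

section Helpers
open CategoryTheory CategoryTheory.Limits TensorProduct Groth.Agent.Lib.Helper3 Groth.Agent.S2380
open Groth.Agent.Lib.Helper3.GenFreeRed Groth.Agent.Lib.Helper3.GenFlatRed

-- the reduced case: every nonzero `h` has a nonzero multiple `f` such that the rank functions of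
-- the localized complex are locally constant
theorem exists_locallyConstant_of_reduced {A : Type u} [CommRing A] [IsNoetherianRing A]
    [IsReduced A] (P : ChainComplex (ModuleCat.{u} A) ℤ) (hP : ∀ i, Module.Flat A (P.X i))
    (i₀ : ℤ) (hb : ∀ i < i₀, IsZero (P.X i))
    (hfin : ∀ n : ℤ, Module.Finite A (P.homology n)) (N : ℤ) (h : A) (hh : h ≠ 0) :
    ∃ f : A, f ≠ 0 ∧ h ∣ f ∧ ∀ p ≤ N,
      IsLocallyConstant (CohIII.dRank (CohIII.bcCx (algebraMap A (Localization.Away f)) P) p) := by
  classical
  obtain ⟨f, hf0, hdvd, hfree⟩ := exists_common (R := A) (ι := Finset.Icc i₀ N)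
    (fun q f => WFreeAway A f (P.homology q.1))
    (fun q a a' h hd => h.of_dvd hd)
    (fun q h hh => by
      have := hfin q.1
      obtain ⟨f, hf, hd, -, hM, -, -⟩ := exists_freeAway_reduced A A (P.homology q.1) h hh
      exact ⟨f, hf, hd, hM⟩) h hh
  refine ⟨f, hf0, hdvd, ?_⟩
  let B := Localization.Away f
  let K := CohIII.bcCx (algebraMap A B) P
  have hK : ∀ i, Module.Flat B (K.X i) := flat_bcCx_X B P hP
  have hbK : ∀ i < i₀, IsZero (K.X i) := fun i hi =>
    (ModuleCat.extendScalars (algebraMap A B)).map_isZero (hb i hi)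
  have hH : ∀ q, i₀ ≤ q → q ≤ N → Module.Flat B (K.homology q) := by
    intro q h1 h2
    have hfr : Module.Free B (LocalizedModule (Submonoid.powers f) (P.homology q)) :=
      (hfree ⟨q, Finset.mem_Icc.mpr ⟨h1, h2⟩⟩).free B
        (LocalizedModule.mkLinearMap (Submonoid.powers f) (P.homology q))
    obtain ⟨e⟩ := Groth.Agent.S4486.nonempty_bcHomologyEquiv_of_flat B P q
    have hfl : Module.Flat B (LocalizedModule (Submonoid.powers f) (P.homology q)) :=
      Module.Flat.of_free
    exact Module.Flat.of_linearEquiv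
      (e ≪≫ₗ (LocalizedModule.equivTensorProduct (Submonoid.powers f) (P.homology q)).symm)
  have hall := Groth.Agent.S4486.flat_opcycles_bc K hK i₀ N hbK hH
  have hW : ∀ q ≤ N, Module.Flat B (K.opcycles q) := by
    intro q hq
    exact hall (q - i₀ + 1).toNat q hq (by omega)
  intro p hp
  have hex : (CohIII.TFun K p).PreservesMonomorphisms ∧ (CohIII.TFun K p).PreservesEpimorphisms :=
    ⟨(Groth.Agent.S2375.result K hK p).mpr (hW p hp),
      (Groth.Agent.S2410.preservesEpi_iff_flat_opcycles K hK p (p - 1) (by ring)).mpr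
        (hW (p - 1) (by omega))⟩
  have hfinK : Module.Finite B (K.homology p) := by
    obtain ⟨e⟩ := Groth.Agent.S4486.nonempty_bcHomologyEquiv_of_flat B P p
    have := hfin p
    exact Module.Finite.equiv e.symm
  have hfp : Module.FinitePresentation B (CohIII.T K p (ModuleCat.of B B)) := by
    have : Module.Finite B (CohIII.T K p (ModuleCat.of B B)) :=
      Module.Finite.equiv (TUnitIso K p).toLinearEquiv.symm
    exact Module.finitePresentation_of_finite B _
  exact Groth.Agent.S4485.result K hK p hex hfp

-- main theorem (with our own `open`s)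
theorem aux {A : Type u} [CommRing A] [IsNoetherianRing A]
    (P : ChainComplex (ModuleCat.{u} A) ℤ) (hP : ∀ i, Module.Flat A (P.X i)) (i₀ : ℤ)
    (hb : ∀ i < i₀, IsZero (P.X i))
    (hfg : ∀ n : ℤ, Module.Finite A (CohIII.T P n (ModuleCat.of A A))) (N : ℤ) :
    ∃ U : Set (PrimeSpectrum A), IsOpen U ∧ Dense U ∧
      ∀ p ≤ N, IsLocallyConstant (fun x : U => CohIII.dRank P p x) := by
  classical
  let A' := A ⧸ nilradical A
  haveI : IsReduced A' :=
    (Ideal.isRadical_iff_quotient_reduced _).mp (Ideal.radical_isRadical _)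
  let P' := CohIII.bcCx (algebraMap A A') P
  have hP' : ∀ i, Module.Flat A' (P'.X i) := flat_bcCx_X A' P hP
  have hb' : ∀ i < i₀, IsZero (P'.X i) := fun i hi =>
    (ModuleCat.extendScalars (algebraMap A A')).map_isZero (hb i hi)
  have hfin' : ∀ n : ℤ, Module.Finite A' (P'.homology n) := by
    intro n
    obtain ⟨e⟩ := Groth.Agent.Helper13FlatCx.nonempty_restrict_homology_iso A A' P n
    have h1 : Module.Finite A (CohIII.T P n (ModuleCat.of A A')) :=
      Groth.Agent.Lib.Helper3.FlatCxFin.finite_T P hP i₀ hb hfg n A'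
    have h2 : Module.Finite A
        ((ModuleCat.restrictScalars (algebraMap A A')).obj (P'.homology n)) :=
      Module.Finite.equiv e.toLinearEquiv.symm
    letI : Module A (P'.homology n) := Module.compHom _ (algebraMap A A')
    haveI : IsScalarTower A A' (P'.homology n) :=
      IsScalarTower.of_algebraMap_smul (fun r x => rfl)
    haveI : Module.Finite A (P'.homology n) := h2
    exact Module.Finite.of_restrictScalars_finite A A' _
  -- the good elements
  let Good : A' → Prop := fun f => ∀ p ≤ N, IsLocallyConstant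
    (CohIII.dRank (CohIII.bcCx (algebraMap A' (Localization.Away f)) P') p)
  have key : ∀ h : A', h ≠ 0 → ∃ f, f ≠ 0 ∧ h ∣ f ∧ Good f :=
    exists_locallyConstant_of_reduced P' hP' i₀ hb' hfin' N
  -- maps on spectra
  let π : PrimeSpectrum A' → PrimeSpectrum A := PrimeSpectrum.comap (algebraMap A A')
  have hπ_cont : Continuous π := PrimeSpectrum.continuous_comap _
  have hπ_bij : Function.Bijective π :=
    PrimeSpectrum.comap_quotientMk_bijective_of_le_nilradical le_rfl
  have hπ_open : IsOpenMap π := by
    have hemb : Topology.IsClosedEmbedding π :=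
      PrimeSpectrum.isClosedEmbedding_comap_of_surjective A' (algebraMap A A')
        Ideal.Quotient.mk_surjective
    exact (isHomeomorph_iff_isEmbedding_surjective.mpr ⟨hemb.isEmbedding, hπ_bij.2⟩).isOpenMap
  let ψ : (f : A') → PrimeSpectrum (Localization.Away f) → PrimeSpectrum A := fun f =>
    π ∘ PrimeSpectrum.comap (algebraMap A' (Localization.Away f))
  have hψ_open : ∀ f, IsOpenMap (ψ f) := fun f =>
    hπ_open.comp (PrimeSpectrum.localization_away_isOpenEmbedding (Localization.Away f) f).isOpenMap
  have hψ_range : ∀ f, Set.range (ψ f) = π '' (PrimeSpectrum.basicOpen f : Set _) := by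
    intro f
    rw [Set.range_comp, PrimeSpectrum.localization_away_comap_range (Localization.Away f) f]
  have hψ_rank : ∀ f p z, CohIII.dRank P p (ψ f z) =
      CohIII.dRank (CohIII.bcCx (algebraMap A' (Localization.Away f)) P') p z := by
    intro f p z
    rw [Groth.Agent.S2440.result P' hP' p z, Groth.Agent.S2440.result P hP p _]
    rfl
  refine ⟨⋃ f ∈ {f : A' | Good f}, Set.range (ψ f), ?_, ?_, ?_⟩
  · exact isOpen_biUnion fun f _ => (hψ_open f).isOpen_range
  · rw [dense_iff_inter_open]
    intro O hO hne
    obtain ⟨x, hx⟩ := hne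
    obtain ⟨x', rfl⟩ := hπ_bij.2 x
    have hO' : IsOpen (π ⁻¹' O) := hO.preimage hπ_cont
    obtain ⟨_, ⟨h, rfl⟩, hxh, hhO⟩ :=
      PrimeSpectrum.isTopologicalBasis_basic_opens.exists_subset_of_mem_open
        (show x' ∈ π ⁻¹' O from hx) hO'
    have hh : h ≠ 0 := by
      rintro rfl
      exact hxh (x'.asIdeal.zero_mem)
    obtain ⟨f, hf, hd, hgood⟩ := key h hh
    have hfn : ¬ IsNilpotent f := fun hn => hf (IsReduced.eq_zero f hn)
    have hne' : PrimeSpectrum.basicOpen f ≠ ⊥ := fun h0 =>
      hfn (PrimeSpectrum.basicOpen_eq_bot_iff f |>.mp h0)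
    obtain ⟨y, hy⟩ : ∃ y, y ∈ PrimeSpectrum.basicOpen f := by
      by_contra hcon
      push Not at hcon
      exact hne' (by ext y; simpa using hcon y)
    have hyh : y ∈ (PrimeSpectrum.basicOpen h : Set (PrimeSpectrum A')) := by
      intro hmem
      obtain ⟨c, rfl⟩ := hd
      exact hy (y.asIdeal.mul_mem_right _ hmem)
    refine ⟨π y, hhO hyh, Set.mem_biUnion hgood ?_⟩
    rw [hψ_range]
    exact ⟨y, hy, rfl⟩
  · intro p hp
    rw [IsLocallyConstant.iff_exists_open]
    rintro ⟨x, hx⟩
    obtain ⟨f, hfgood, z, rfl⟩ := Set.mem_iUnion₂.mp hx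
    obtain ⟨Z, hZo, hzZ, hZ⟩ := (IsLocallyConstant.iff_exists_open _).mp (hfgood p hp) z
    refine ⟨Subtype.val ⁻¹' (ψ f '' Z), (hψ_open f Z hZo).preimage continuous_subtype_val,
      ⟨z, hzZ, rfl⟩, ?_⟩
    rintro ⟨y, hy⟩ ⟨z', hz'Z, hz'⟩
    have hz'' : ψ f z' = y := hz'
    subst hz''
    show CohIII.dRank P p (ψ f z') = CohIII.dRank P p (ψ f z)
    rw [hψ_rank, hψ_rank]
    exact hZ z' hz'Z

end Helpers

open CategoryTheory CategoryTheory.Limits in
/-- The case of the homological functor T_p(M) = H_p(P ⊗_A M) of a chain complex P of flat modules over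
a commutative ring A. Let A be Noetherian and suppose P_i = 0 for i < i₀ and that every T_n(A) is a
finitely generated A-module. Then for every integer N there is a dense open subset U of Spec A such
that, for every p ≤ N, the function x ↦ dim_{k(x)} H_p(P ⊗_A k(x)) is locally constant on U. (The
published statement says constant on U; over the product of two fields, with P the projective module
supported on one factor placed in degree 0, the only dense open set is the whole two-point spectrum
and the ranks there are 1 and 0, so locally constant on U is what holds; the argument produces U as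
a disjoint union of opens, one dense in each irreducible component, on each of which the functions
are constant.) -/
theorem result {A : Type u} [CommRing A] [IsNoetherianRing A]
    (P : ChainComplex (ModuleCat.{u} A) ℤ) (hP : ∀ i, Module.Flat A (P.X i)) (i₀ : ℤ)
    (hb : ∀ i < i₀, IsZero (P.X i))
    (hfg : ∀ n : ℤ, Module.Finite A (CohIII.T P n (ModuleCat.of A A))) (N : ℤ) :
    ∃ U : Set (PrimeSpectrum A), IsOpen U ∧ Dense U ∧
      ∀ p ≤ N, IsLocallyConstant (fun x : U => CohIII.dRank P p x) := by
  exact aux P hP i₀ hb hfg N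

end Groth.Agent.S4487
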