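import Groth.Statements.S4488
import Groth.Agent.Lib.Helper3FlatCxBT
import Groth.Agent.S2410
import Groth.Agent.S4485
import Mathlib

set_option autoImplicit false
universe u
open FlatCx

namespace Groth.Agent.S4488

section Helpers
open CategoryTheory CategoryTheory.Limits Groth.Agent.Lib.Helper3 Groth.Agent.S2380

theorem flat_opcycles_all {A : Type u} [CommRing A] [IsLocalRing A] [IsReduced A]
    (P : ChainComplex (ModuleCat.{u} A) ℤ) (hP : ∀ i, Module.Flat A (P.X i)) (i₀ : ℤ)
    (hb : ∀ i < i₀, IsZero (P.X i))
    (hfp : ∀ n : ℤ, Module.FinitePresentation A (CohIII.T P n (ModuleCat.of A A))) (p : ℤ)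
    (h : ∀ x : PrimeSpectrum A, x.asIdeal ∈ minimalPrimes A →
          ∀ q ≤ p, CohIII.dRank P q x = CohIII.dRank P q (IsLocalRing.closedPoint A)) :
    ∀ n : ℕ, ∀ q : ℤ, q ≤ p → q < i₀ + n → Module.Flat A (P.opcycles q) := by
  intro n
  induction n with
  | zero =>
    intro q _ hq
    have hz : IsZero (P.X q) := hb q (by simpa using hq)
    have hz' : IsZero (P.opcycles q) := IsZero.of_epi (P.pOpcycles q) hz
    have : Subsingleton (P.opcycles q) := ModuleCat.subsingleton_of_isZero hz'
    infer_instance
  | succ n ih =>
    intro q hqp hq
    have hW : Module.Flat A (P.opcycles (q - 1)) :=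
      ih (q - 1) (by omega) (by push_cast at hq; omega)
    have := hP (q - 1)
    have hfpH : Module.FinitePresentation A (P.homology q) :=
      have := hfp q
      Module.FinitePresentation.of_equiv (TUnitIso P q).toLinearEquiv
    have hfin : Module.Finite A (P.homology q) := inferInstance
    have hfree : Module.Free A (P.homology q) := by
      apply free_of_fd_eq_closedPoint
      intro x hx
      rw [← dRank_eq_fd_homology P q x, ← dRank_eq_fd_homology P q (IsLocalRing.closedPoint A)]
      exact h x hx q hqp
    have hflatH : Module.Flat A (P.homology q) := Module.Flat.of_free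
    exact (flat_opcycles_iff_flat_homology P q (q - 1) (by simp)).mpr hflatH

end Helpers

open CategoryTheory CategoryTheory.Limits in

open CategoryTheory CategoryTheory.Limits in
/-- For the homological functor T_q(M) = H_q(P ⊗_A M) of a chain complex P of flat modules over a
commutative local ring A with residue field k. Suppose P_i = 0 for i < i₀ and that every T_n(A) is a
finitely presented A-module, and let p be an integer. If T_q takes injections to injections and
surjections to surjections for every q ≤ p, then dim_{k(x)} T_q(k(x)) = dim_k T_q(k) for every point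
x of Spec A and every q ≤ p. Conversely, if A is reduced and this equality holds at the generic
point of every irreducible component of Spec A (every minimal prime) for every q ≤ p, then T_q takes
injections to injections and surjections to surjections for every q ≤ p. No Noetherian hypothesis on
A. -/
theorem result {A : Type u} [CommRing A] [IsLocalRing A]
    (P : ChainComplex (ModuleCat.{u} A) ℤ) (hP : ∀ i, Module.Flat A (P.X i)) (i₀ : ℤ)
    (hb : ∀ i < i₀, IsZero (P.X i))
    (hfp : ∀ n : ℤ, Module.FinitePresentation A (CohIII.T P n (ModuleCat.of A A))) (p : ℤ) :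
    ((∀ q ≤ p, (CohIII.TFun P q).PreservesMonomorphisms ∧ (CohIII.TFun P q).PreservesEpimorphisms) →
        ∀ (x : PrimeSpectrum A), ∀ q ≤ p, CohIII.dRank P q x = CohIII.dRank P q (IsLocalRing.closedPoint A)) ∧
      (IsReduced A →
        (∀ x : PrimeSpectrum A, x.asIdeal ∈ minimalPrimes A →
          ∀ q ≤ p, CohIII.dRank P q x = CohIII.dRank P q (IsLocalRing.closedPoint A)) →
        ∀ q ≤ p, (CohIII.TFun P q).PreservesMonomorphisms ∧ (CohIII.TFun P q).PreservesEpimorphisms) := by
  open Groth.Agent.Lib.Helper3 Groth.Agent.S2380 in
  constructor
  · intro hex x q hq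
    obtain ⟨h1, h2, h3⟩ := Groth.Agent.S4485.flat_of_exact P hP q (hex q hq)
    have := hP (q - 1)
    have hfpH : Module.FinitePresentation A (P.homology q) :=
      have := hfp q
      Module.FinitePresentation.of_equiv (TUnitIso P q).toLinearEquiv
    have hfin : Module.Finite A (P.homology q) := inferInstance
    have hfree : Module.Free A (P.homology q) := Module.free_of_flat_of_isLocalRing
    rw [dRank_eq_fd_homology P q x, dRank_eq_fd_homology P q (IsLocalRing.closedPoint A),
      fd_of_free, fd_of_free]
  · intro hred h q hq
    have hall := flat_opcycles_all P hP i₀ hb hfp p h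
    have hW : ∀ q ≤ p, Module.Flat A (P.opcycles q) := by
      intro q hq
      exact hall (q - i₀ + 1).toNat q hq (by omega)
    exact ⟨(Groth.Agent.S2375.result P hP q).mpr (hW q hq),
      (Groth.Agent.S2410.preservesEpi_iff_flat_opcycles P hP q (q - 1) (by ring)).mpr
        (hW (q - 1) (by omega))⟩

end Groth.Agent.S4488
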