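import Groth.Statements.S4489
import Groth.Agent.Lib.Helper3FlatCx
import Groth.Agent.S2375
import Groth.Agent.S2410
import Mathlib

set_option autoImplicit false
universe u
open FlatCx

namespace Groth.Agent.S4489

section Helpers
open CategoryTheory CategoryTheory.Limits Groth.Agent.Lib.Helper3

theorem flat_of_injective_dedekind {R : Type u} [CommRing R] [IsDedekindDomain R] {M N : Type u}
    [AddCommGroup M] [AddCommGroup N] [Module R M] [Module R N] [Module.Flat R N]
    (f : M →ₗ[R] N) (hf : Function.Injective f) : Module.Flat R M := by
  rw [IsDedekindDomain.flat_iff_torsion_eq_bot, eq_bot_iff]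
  rintro m ⟨r, hr⟩
  have hN : Submodule.torsion R N = ⊥ := Module.Flat.torsion_eq_bot
  have hr' : (r : R) • m = 0 := hr
  have : f m ∈ Submodule.torsion R N :=
    ⟨r, show (r : R) • f m = 0 by rw [← map_smul, hr', map_zero]⟩
  rw [hN, Submodule.mem_bot] at this
  exact (Submodule.mem_bot R).mpr (hf (this.trans (map_zero f).symm))

theorem flat_four_dedekind {R : Type u} [CommRing R] [IsDedekindDomain R] {H W Pq : Type u}
    [AddCommGroup H] [AddCommGroup W] [AddCommGroup Pq] [Module R H] [Module R W] [Module R Pq]
    [Module.Flat R Pq] (ι : H →ₗ[R] W) (g : W →ₗ[R] Pq) (hι : Function.Injective ι)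
    (h1 : Function.Exact ι g) : Module.Flat R W ↔ Module.Flat R H := by
  have hB : Module.Flat R (LinearMap.range g) :=
    flat_of_injective_dedekind (LinearMap.range g).subtype (Submodule.injective_subtype _)
  have hex : Function.Exact ι g.rangeRestrict := by
    intro x
    rw [← h1 x]
    constructor
    · intro h
      have := congrArg Subtype.val h
      simpa using this
    · intro h
      exact Subtype.ext (by simpa using h)
  constructor
  · intro _
    exact flat_of_injective_dedekind ι hι
  · intro _
    exact flat_of_exact_of_flat_left_right ι g.rangeRestrict hι g.surjective_rangeRestrict hex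

theorem flat_opcycles_iff_flat_homology_dedekind {A : Type u} [CommRing A] [IsDedekindDomain A]
    (P : ChainComplex (ModuleCat.{u} A) ℤ) (hP : ∀ i, Module.Flat A (P.X i)) (p : ℤ) :
    Module.Flat A (P.opcycles p) ↔ Module.Flat A (P.homology p) := by
  have := hP ((ComplexShape.down ℤ).next p)
  exact flat_four_dedekind (P.homologyι p).hom (P.fromOpcycles p ((ComplexShape.down ℤ).next p)).hom
    ((ModuleCat.mono_iff_injective _).mp inferInstance)
    (exact_homologyι_fromOpcycles P p _ rfl)

end Helpers

open CategoryTheory CategoryTheory.Limits in

open CategoryTheory CategoryTheory.Limits in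
/-- For the homological functor T_p(M) = H_p(P ⊗_A M) of a chain complex P of flat modules, stated over
a Dedekind domain A. (The published statement allows A to be a finite product of Dedekind domains,
that is, a Noetherian regular ring of dimension at most 1; this row takes A a Dedekind domain.) Then
T_p takes injections to injections if and only if H_p(P) is a flat A-module; and, with q + 1 = p,
T_p takes injections to injections and surjections to surjections if and only if H_p(P) and H_q(P)
are both flat. -/
theorem result {A : Type u} [CommRing A] [IsDedekindDomain A]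
    (P : ChainComplex (ModuleCat.{u} A) ℤ) (hP : ∀ i, Module.Flat A (P.X i)) (p q : ℤ) (hpq : q + 1 = p) :
    ((CohIII.TFun P p).PreservesMonomorphisms ↔ Module.Flat A (P.homology p)) ∧
      (((CohIII.TFun P p).PreservesMonomorphisms ∧ (CohIII.TFun P p).PreservesEpimorphisms) ↔
        (Module.Flat A (P.homology p) ∧ Module.Flat A (P.homology q))) := by
  have h1 : (CohIII.TFun P p).PreservesMonomorphisms ↔ Module.Flat A (P.homology p) :=
    (Groth.Agent.S2375.result P hP p).trans (flat_opcycles_iff_flat_homology_dedekind P hP p)
  have h2 : (CohIII.TFun P p).PreservesEpimorphisms ↔ Module.Flat A (P.homology q) :=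
    (Groth.Agent.S2410.preservesEpi_iff_flat_opcycles P hP p q hpq).trans
      (flat_opcycles_iff_flat_homology_dedekind P hP q)
  exact ⟨h1, and_congr h1 h2⟩

end Groth.Agent.S4489
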