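import Groth.Statements.S4491
import Groth.Agent.Lib.Helper3FlatCx
import Groth.Agent.S2406
import Mathlib

set_option autoImplicit false
universe u
open FlatCx

namespace Groth.Agent.S4491

section Helpers
open CategoryTheory CategoryTheory.Limits MonoidalCategory Groth.Agent.Lib.Helper3

theorem TFun_map_smul_id {A : Type u} [CommRing A] {ι : Type} {c : ComplexShape ι}
    (P : HomologicalComplex (ModuleCat.{u} A) c) (q : ι) (M : ModuleCat.{u} A) (f : A) :
    (CohIII.TFun P q).map (f • 𝟙 M) = f • 𝟙 ((CohIII.TFun P q).obj M) := by
  have h : (CohIII.TFun P q).map (f • 𝟙 M) ≫ jT P q M = (f • 𝟙 ((CohIII.TFun P q).obj M)) ≫ jT P q M := by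
    rw [jT_naturality, MonoidalLinear.whiskerLeft_smul, MonoidalCategory.whiskerLeft_id,
      Linear.comp_smul, Linear.smul_comp, Category.comp_id]
    exact congrArg (f • ·) (Category.id_comp (jT P q M)).symm
  exact (@cancel_mono _ _ _ _ _ (jT P q M) (mono_jT P q M) _ _).mp h

end Helpers

open CategoryTheory CategoryTheory.Limits in

open CategoryTheory CategoryTheory.Limits in
/-- For the homological functor T_i(M) = H_i(P ⊗_A M) of a chain complex P of flat modules over a
commutative ring A. Let q + 1 = p and suppose T_p takes surjections to surjections. If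
multiplication by f ∈ A is injective on an A-module M, then multiplication by f is injective on
T_q(M). In particular, when A is a domain, T_q(A) is torsion-free. -/
theorem result {A : Type u} [CommRing A]
    (P : ChainComplex (ModuleCat.{u} A) ℤ) (hP : ∀ i, Module.Flat A (P.X i)) (p q : ℤ) (hpq : q + 1 = p)
    (hex : (CohIII.TFun P p).PreservesEpimorphisms) :
    (∀ (M : ModuleCat.{u} A) (f : A), Function.Injective (fun x : M => f • x) →
        Function.Injective (fun y : CohIII.T P q M => f • y)) ∧
      (IsDomain A → NoZeroSMulDivisors A (CohIII.T P q (ModuleCat.of A A))) := by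
  have hm : (CohIII.TFun P q).PreservesMonomorphisms := (Groth.Agent.S2406.result P hP p q hpq).mp hex
  have key : ∀ (M : ModuleCat.{u} A) (f : A), Function.Injective (fun x : M => f • x) →
      Function.Injective (fun y : CohIII.T P q M => f • y) := by
    intro M f hf
    have h1 : Mono (f • 𝟙 M) := (ModuleCat.mono_iff_injective _).mpr hf
    have h2 : Mono ((CohIII.TFun P q).map (f • 𝟙 M)) := hm.preserves _
    rw [TFun_map_smul_id] at h2
    exact (ModuleCat.mono_iff_injective _).mp h2
  refine ⟨key, fun hdom => ?_⟩
  constructor
  intro c x hcx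
  by_cases hc : c = 0
  · exact Or.inl hc
  · right
    have hinj : Function.Injective (fun a : (ModuleCat.of A A) => c • a) := by
      intro a b hab
      exact mul_left_cancel₀ hc hab
    have := key (ModuleCat.of A A) c hinj
    apply this
    show c • x = c • 0
    rw [hcx, smul_zero]

end Groth.Agent.S4491
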