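import Groth.Statements.S4507
import Mathlib
-- import your own Groth.Agent.* helpers here

set_option autoImplicit false
set_option linter.style.haveILetI false
set_option linter.unusedSectionVars false
universe u
open FlatCx

namespace Groth.Agent.S4507
open CategoryTheory CategoryTheory.Limits

variable {A : Type u} [CommRing A] (S : Submonoid A)

/-- the indexing category: objects are elements of `S`, morphisms `s ⟶ s'` are `t` with `t * s = s'`. -/
structure SC (S : Submonoid A) : Type u where
  val : S

instance : Category (SC S) where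
  Hom s s' := {t : S // t * s.val = s'.val}
  id s := ⟨1, one_mul _⟩
  comp f g := ⟨g.1 * f.1, by rw [mul_assoc, f.2, g.2]⟩
  id_comp f := Subtype.ext (mul_one _)
  comp_id f := Subtype.ext (one_mul _)
  assoc f g h := Subtype.ext (mul_assoc _ _ _).symm

instance : IsFiltered (SC S) where
  nonempty := ⟨⟨1⟩⟩
  cocone_objs s s' := ⟨⟨s.val * s'.val⟩, ⟨s'.val, mul_comm _ _⟩, ⟨s.val, rfl⟩, trivial⟩
  cocone_maps s s' f g := ⟨⟨s.val * s'.val⟩, ⟨s.val, rfl⟩, Subtype.ext (by
    change s.val * f.1 = s.val * g.1
    rw [mul_comm, f.2, mul_comm, g.2])⟩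

variable (M : ModuleCat.{u} A)

/-- the diagram: constant `M` with multiplication maps. -/
def D : SC S ⥤ ModuleCat.{u} A where
  obj _ := M
  map f := ((f.1 : S) : A) • 𝟙 M
  map_id s := by
    change ((1 : S) : A) • 𝟙 M = 𝟙 M
    simp
  map_comp f g := by
    ext x
    change ((g.1 * f.1 : S) : A) • x = (g.1 : A) • ((f.1 : A) • x)
    rw [Submonoid.coe_mul, mul_smul]

lemma D_map_apply {s s' : SC S} (f : s ⟶ s') (x : M) : ((D S M).map f).hom x = ((f.1 : S) : A) • x := rfl

/-- `x ↦ x / s`. -/
noncomputable def ιs (s : S) : M ⟶ ModuleCat.of A (LocalizedModule S M) :=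
  ModuleCat.ofHom ((LocalizedModule.divBy s) ∘ₗ (LocalizedModule.mkLinearMap S M))

lemma ιs_apply (s : S) (x : M) : (ιs S M s).hom x = LocalizedModule.mk x s := by
  change LocalizedModule.divBy s (LocalizedModule.mkLinearMap S M x) = _
  rw [LocalizedModule.mkLinearMap_apply, LocalizedModule.divBy_apply, LocalizedModule.liftOn_mk, one_mul]

noncomputable def coc : Cocone (D S M) where
  pt := ModuleCat.of A (LocalizedModule S M)
  ι :=
    { app := fun s => ιs S M s.val
      naturality := fun s s' f => by
        refine ModuleCat.hom_ext (LinearMap.ext fun (x : M) => ?_)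
        change (ιs S M s'.val).hom (((f.1 : S) : A) • x) = (ιs S M s.val).hom x
        rw [ιs_apply, ιs_apply]
        obtain ⟨t, ht⟩ := f
        change LocalizedModule.mk ((t : A) • x) s'.val = LocalizedModule.mk x s.val
        rw [← ht]
        exact LocalizedModule.mk_cancel_common_left t s.val x }

noncomputable def isColimitCoc : IsColimit (coc S M) := by
  apply isColimitOfReflects (forget (ModuleCat.{u} A))
  refine Types.FilteredColimit.isColimitOf' _ _ ?_ ?_
  · intro (p : LocalizedModule S M)
    induction p using LocalizedModule.induction_on with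
    | h x s =>
      exact ⟨⟨s⟩, x, (ιs_apply S M s x).symm⟩
  · intro s (x : M) (y : M) (h : (ιs S M s.val).hom x = (ιs S M s.val).hom y)
    rw [ιs_apply, ιs_apply, LocalizedModule.mk_eq] at h
    obtain ⟨u, hu⟩ := h
    refine ⟨⟨(u * s.val) * s.val⟩, ⟨u * s.val, rfl⟩, ?_⟩
    change ((u * s.val : S) : A) • x = ((u * s.val : S) : A) • y
    rw [Submonoid.coe_mul, mul_smul, mul_smul]
    exact hu

variable (T : ModuleCat.{u} A ⥤ ModuleCat.{u} A) [T.Additive] [T.Linear A]

lemma T_map_smul_id_apply (a : A) (N : ModuleCat.{u} A) (y : T.obj N) :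
    (T.map (a • 𝟙 N)).hom y = a • y := by
  rw [Functor.Linear.map_smul, T.map_id]
  rfl

lemma smul_ιs (s : S) : ((s : A) • ιs S M s) = ModuleCat.ofHom (LocalizedModule.mkLinearMap S M) := by
  refine ModuleCat.hom_ext (LinearMap.ext fun (x : M) => ?_)
  change (s : A) • (ιs S M s).hom x = LocalizedModule.mkLinearMap S M x
  rw [ιs_apply, LocalizedModule.mkLinearMap_apply]
  rw [LocalizedModule.smul'_mk]
  exact LocalizedModule.mk_cancel s x

lemma ιs_one : ιs S M 1 = ModuleCat.ofHom (LocalizedModule.mkLinearMap S M) := by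
  have := smul_ιs S M 1
  simpa using this


open CategoryTheory CategoryTheory.Limits in
/-- The isomorphism T(S⁻¹M) ≅ S⁻¹T(M). Let A be a commutative ring, T an additive A-linear endofunctor
of the category of A-modules which preserves filtered colimits, S a multiplicative subset of A and M
an A-module. Then the A-linear map T(M) → T(S⁻¹M), image under T of the localization map M → S⁻¹M,
is a localization of T(M) at S (so T(S⁻¹M) is canonically S⁻¹T(M), as an S⁻¹A-module). -/
theorem result {A : Type u} [CommRing A]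
    (T : ModuleCat.{u} A ⥤ ModuleCat.{u} A) [T.Additive] [T.Linear A]
    (hT : ∀ (J : Type u) [SmallCategory J] [IsFiltered J], PreservesColimitsOfShape J T)
    (S : Submonoid A) (M : ModuleCat.{u} A) :
    IsLocalizedModule S (T.map (ModuleCat.ofHom (LocalizedModule.mkLinearMap S M) :
      M ⟶ ModuleCat.of A (LocalizedModule S M))).hom := by
  haveI := hT (SC S)
  have hc : IsColimit (T.mapCocone (coc S M)) := isColimitOfPreserves T (isColimitCoc S M)
  refine ⟨?_, ?_, ?_⟩
  · -- units
    intro s
    rw [Module.End.isUnit_iff]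
    have hiso : IsIso ((s : A) • 𝟙 (ModuleCat.of A (LocalizedModule S M))) := by
      rw [ConcreteCategory.isIso_iff_bijective]
      have := (Module.End.isUnit_iff _).1 (IsLocalizedModule.map_units (LocalizedModule.mkLinearMap S M) s)
      exact this
    have : IsIso (T.map ((s : A) • 𝟙 (ModuleCat.of A (LocalizedModule S M)))) := inferInstance
    have hb := (ConcreteCategory.isIso_iff_bijective _).1 this
    convert hb using 1
    ext y
    exact (T_map_smul_id_apply T (s : A) _ y).symm
  · -- surjectivity
    intro y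
    obtain ⟨s, x, hx⟩ := Concrete.isColimit_exists_rep (D S M ⋙ T) hc y
    refine ⟨(x, s.val), ?_⟩
    change (s.val : A) • y = (T.map (ModuleCat.ofHom (LocalizedModule.mkLinearMap S M))).hom x
    rw [← smul_ιs S M s.val, Functor.Linear.map_smul, ← hx]
    rfl
  · -- injectivity
    intro x₁ x₂ h
    rw [← ιs_one S M] at h
    obtain ⟨k, f, g, hfg⟩ := Concrete.isColimit_exists_of_rep_eq (D S M ⋙ T) (i := ⟨1⟩) (j := ⟨1⟩) hc x₁ x₂ h
    have hf : (f.1 : S) = k.val := by simpa using f.2
    have hg : (g.1 : S) = k.val := by simpa using g.2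
    refine ⟨k.val, ?_⟩
    have h1 : ((D S M ⋙ T).map f).hom x₁ = (k.val : A) • x₁ := by
      change (T.map (((f.1 : S) : A) • 𝟙 M)).hom x₁ = _
      rw [T_map_smul_id_apply, hf]
    have h2 : ((D S M ⋙ T).map g).hom x₂ = (k.val : A) • x₂ := by
      change (T.map (((g.1 : S) : A) • 𝟙 M)).hom x₂ = _
      rw [T_map_smul_id_apply, hg]
    change (k.val : A) • x₁ = (k.val : A) • x₂
    rw [← h1, ← h2]
    exact hfg

end Groth.Agent.S4507
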