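import Groth.Statements.S4493
import Mathlib
import Groth.Agent.S4507
-- import your own Groth.Agent.* helpers here

set_option autoImplicit false
set_option linter.style.haveILetI false
set_option linter.unusedSectionVars false
universe u
open FlatCx

namespace Groth.Agent.S4493
open CategoryTheory CategoryTheory.Limits

variable {A : Type u} [CommRing A] (T : ModuleCat.{u} A ⥤ ModuleCat.{u} A) [T.Additive] [T.Linear A]

variable (m : Ideal A) [m.IsMaximal]

/-- localization at `m` as a functor to `A_m`-modules -/
noncomputable abbrev L : ModuleCat.{u} A ⥤ ModuleCat.{u} (Localization.AtPrime m) :=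
  ModuleCat.localizedModuleFunctor m.primeCompl

noncomputable abbrev Res : ModuleCat.{u} (Localization.AtPrime m) ⥤ ModuleCat.{u} A :=
  ModuleCat.restrictScalars (algebraMap A (Localization.AtPrime m))

lemma res_smul (X : ModuleCat.{u} A) (a : A)
    (y : ↑((Res m).obj (X.localizedModule m.primeCompl))) :
    a • y = (a • (show X.localizedModule m.primeCompl from y) : X.localizedModule m.primeCompl) := by
  rw [ModuleCat.restrictScalars.smul_def]
  exact algebraMap_smul (Localization.AtPrime m) a (show X.localizedModule m.primeCompl from y)

/-- the identity, as a linear equivalence between the two `A`-module structures. -/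
noncomputable def eRes (X : ModuleCat.{u} A) :
    (X.localizedModule m.primeCompl) ≃ₗ[A] ↑((Res m).obj (X.localizedModule m.primeCompl)) where
  toFun := fun y => y
  invFun := fun y => y
  map_add' := fun _ _ => rfl
  map_smul' := fun a y => (res_smul m X a y).symm
  left_inv := fun _ => rfl
  right_inv := fun _ => rfl

noncomputable def lamLin (X : ModuleCat.{u} A) :
    X →ₗ[A] ((Res m).obj (X.localizedModule m.primeCompl)) :=
  (eRes m X).toLinearMap ∘ₗ (X.localizedModuleMkLinearMap m.primeCompl)

instance lamLin_isLocalizedModule (X : ModuleCat.{u} A) :
    IsLocalizedModule m.primeCompl (lamLin m X) :=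
  IsLocalizedModule.of_linearEquiv _ _ _

/-- the localization map `X ⟶ Res (L X)`. -/
noncomputable def lam (X : ModuleCat.{u} A) : X ⟶ (Res m).obj (X.localizedModule m.primeCompl) :=
  ModuleCat.ofHom (Y := (Res m).obj (X.localizedModule m.primeCompl)) (lamLin m X)

instance lam_isLocalizedModule (X : ModuleCat.{u} A) :
    IsLocalizedModule m.primeCompl (lam m X).hom :=
  lamLin_isLocalizedModule m X

lemma lam_nat {X Y : ModuleCat.{u} A} (f : X ⟶ Y) :
    lam m X ≫ (Res m).map (ModuleCat.localizedModuleMap m.primeCompl f) = f ≫ lam m Y := by
  refine ModuleCat.hom_ext (LinearMap.ext fun x => ?_)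
  change (IsLocalizedModule.mapExtendScalars m.primeCompl (X.localizedModuleMkLinearMap m.primeCompl)
    (Y.localizedModuleMkLinearMap m.primeCompl) (Localization m.primeCompl) f.hom)
      (X.localizedModuleMkLinearMap m.primeCompl x) = Y.localizedModuleMkLinearMap m.primeCompl (f.hom x)
  rw [IsLocalizedModule.mapExtendScalars_apply_apply, IsLocalizedModule.map_apply]

variable (hT : ∀ (J : Type u) [SmallCategory J] [IsFiltered J], PreservesColimitsOfShape J T)

include hT in
lemma map_isLocalizedModule {X Y : ModuleCat.{u} A} (S : Submonoid A) (f : X ⟶ Y)
    [IsLocalizedModule S f.hom] : IsLocalizedModule S (T.map f).hom := by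
  let e : ModuleCat.of A (LocalizedModule S X) ≅ Y := (IsLocalizedModule.iso S f.hom).toModuleIso
  have h' : ModuleCat.ofHom (LocalizedModule.mkLinearMap S X) = f ≫ e.inv :=
    ModuleCat.hom_ext (IsLocalizedModule.iso_symm_comp S f.hom).symm
  have hf : f = ModuleCat.ofHom (LocalizedModule.mkLinearMap S X) ≫ e.hom := by
    rw [h', Category.assoc, e.inv_hom_id, Category.comp_id]
  have h0 := Groth.Agent.S4507.result T hT S X
  have h1 : (T.map f).hom = ((T.mapIso e).toLinearEquiv : _ ≃ₗ[A] _).toLinearMap ∘ₗ
      (T.map (ModuleCat.ofHom (LocalizedModule.mkLinearMap S X))).hom := by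
    rw [hf, T.map_comp]
    rfl
  rw [h1]
  exact IsLocalizedModule.of_linearEquiv S _ _

/-- the localization map of `T X` at `m`. -/
noncomputable abbrev locT (X : ModuleCat.{u} A) :
    T.obj X →ₗ[A] T.obj ((Res m).obj (X.localizedModule m.primeCompl)) :=
  (T.map (lam m X)).hom

include hT in
lemma locT_isLocalizedModule (X : ModuleCat.{u} A) :
    IsLocalizedModule m.primeCompl (locT T m X) :=
  map_isLocalizedModule T hT m.primeCompl (lam m X)

include hT in
lemma map_eq {X Y : ModuleCat.{u} A} (f : X ⟶ Y) :
    haveI := locT_isLocalizedModule T m hT X
    haveI := locT_isLocalizedModule T m hT Y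
    IsLocalizedModule.map m.primeCompl (locT T m X) (locT T m Y) (T.map f).hom =
      (T.map ((Res m).map (ModuleCat.localizedModuleMap m.primeCompl f))).hom := by
  haveI := locT_isLocalizedModule T m hT X
  haveI := locT_isLocalizedModule T m hT Y
  apply IsLocalizedModule.ext m.primeCompl (locT T m X) (IsLocalizedModule.map_units (locT T m Y))
  rw [IsLocalizedModule.map_comp]
  change (T.map (lam m Y)).hom ∘ₗ (T.map f).hom =
    (T.map ((Res m).map (ModuleCat.localizedModuleMap m.primeCompl f))).hom ∘ₗ (T.map (lam m X)).hom
  rw [← ModuleCat.hom_comp, ← ModuleCat.hom_comp, ← T.map_comp, ← T.map_comp, lam_nat]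


open CategoryTheory CategoryTheory.Limits in
/-- Let A be a commutative ring and T an additive A-linear endofunctor of the category of A-modules
which preserves filtered colimits. For a maximal ideal m write T_m for T precomposed with
restriction of scalars along A → A_m (a functor from A_m-modules to A-modules). If T_m is left exact
for every maximal ideal m then T is left exact, and if T_m is right exact for every maximal ideal m
then T is right exact (exactness meaning preservation of finite limits, resp. finite colimits). -/
theorem result {A : Type u} [CommRing A]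
    (T : ModuleCat.{u} A ⥤ ModuleCat.{u} A) [T.Additive] [T.Linear A]
    (hT : ∀ (J : Type u) [SmallCategory J] [IsFiltered J], PreservesColimitsOfShape J T) :
    ((∀ (m : Ideal A) [m.IsMaximal],
        PreservesFiniteLimits (ModuleCat.restrictScalars (algebraMap A (Localization.AtPrime m)) ⋙ T)) →
      PreservesFiniteLimits T) ∧
    ((∀ (m : Ideal A) [m.IsMaximal],
        PreservesFiniteColimits (ModuleCat.restrictScalars (algebraMap A (Localization.AtPrime m)) ⋙ T)) →
      PreservesFiniteColimits T) := by
  haveI : ∀ (P : Ideal A) [P.IsMaximal] (X : ModuleCat.{u} A),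
      IsLocalizedModule P.primeCompl (locT T P X) := fun P _ X => locT_isLocalizedModule T P hT X
  constructor
  · intro H
    rw [Functor.preservesFiniteLimits_iff_forall_exact_map_and_mono]
    intro S hS
    have key : ∀ (m : Ideal A) [m.IsMaximal],
        Function.Exact (T.map ((Res m).map (ModuleCat.localizedModuleMap m.primeCompl S.f))).hom
          (T.map ((Res m).map (ModuleCat.localizedModuleMap m.primeCompl S.g))).hom ∧
        Function.Injective (T.map ((Res m).map (ModuleCat.localizedModuleMap m.primeCompl S.f))).hom := by
      intro m _
      haveI := H m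
      have hSm : (S.map (L m)).ShortExact := hS.map_of_exact (L m)
      have := (Functor.preservesFiniteLimits_iff_forall_exact_map_and_mono (Res m ⋙ T)).1
        inferInstance _ hSm
      exact ⟨(ShortComplex.ShortExact.moduleCat_exact_iff_function_exact _).1 this.1,
        (ModuleCat.mono_iff_injective _).1 this.2⟩
    constructor
    · rw [ShortComplex.ShortExact.moduleCat_exact_iff_function_exact]
      apply exact_of_isLocalized_maximal
        (fun P _ => T.obj ((Res P).obj (S.X₁.localizedModule P.primeCompl)))
        (fun P _ => locT T P S.X₁)
        (fun P _ => T.obj ((Res P).obj (S.X₂.localizedModule P.primeCompl)))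
        (fun P _ => locT T P S.X₂)
        (fun P _ => T.obj ((Res P).obj (S.X₃.localizedModule P.primeCompl)))
        (fun P _ => locT T P S.X₃)
      intro P _
      have e1 := map_eq T P hT S.f
      have e2 := map_eq T P hT S.g
      change Function.Exact
        (IsLocalizedModule.map P.primeCompl (locT T P S.X₁) (locT T P S.X₂) (T.map S.f).hom)
        (IsLocalizedModule.map P.primeCompl (locT T P S.X₂) (locT T P S.X₃) (T.map S.g).hom)
      rw [e1, e2]
      exact (key P).1
    · rw [ModuleCat.mono_iff_injective]
      apply injective_of_isLocalized_maximal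
        (fun P _ => T.obj ((Res P).obj (S.X₁.localizedModule P.primeCompl)))
        (fun P _ => locT T P S.X₁)
        (fun P _ => T.obj ((Res P).obj (S.X₂.localizedModule P.primeCompl)))
        (fun P _ => locT T P S.X₂)
      intro P _
      have e1 := map_eq T P hT S.f
      change Function.Injective
        (IsLocalizedModule.map P.primeCompl (locT T P S.X₁) (locT T P S.X₂) (T.map S.f).hom)
      rw [e1]
      exact (key P).2
  · intro H
    rw [Functor.preservesFiniteColimits_iff_forall_exact_map_and_epi]
    intro S hS
    have key : ∀ (m : Ideal A) [m.IsMaximal],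
        Function.Exact (T.map ((Res m).map (ModuleCat.localizedModuleMap m.primeCompl S.f))).hom
          (T.map ((Res m).map (ModuleCat.localizedModuleMap m.primeCompl S.g))).hom ∧
        Function.Surjective (T.map ((Res m).map (ModuleCat.localizedModuleMap m.primeCompl S.g))).hom := by
      intro m _
      haveI := H m
      have hSm : (S.map (L m)).ShortExact := hS.map_of_exact (L m)
      have := (Functor.preservesFiniteColimits_iff_forall_exact_map_and_epi (Res m ⋙ T)).1
        inferInstance _ hSm
      exact ⟨(ShortComplex.ShortExact.moduleCat_exact_iff_function_exact _).1 this.1,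
        (ModuleCat.epi_iff_surjective _).1 this.2⟩
    constructor
    · rw [ShortComplex.ShortExact.moduleCat_exact_iff_function_exact]
      apply exact_of_isLocalized_maximal
        (fun P _ => T.obj ((Res P).obj (S.X₁.localizedModule P.primeCompl)))
        (fun P _ => locT T P S.X₁)
        (fun P _ => T.obj ((Res P).obj (S.X₂.localizedModule P.primeCompl)))
        (fun P _ => locT T P S.X₂)
        (fun P _ => T.obj ((Res P).obj (S.X₃.localizedModule P.primeCompl)))
        (fun P _ => locT T P S.X₃)
      intro P _
      have e1 := map_eq T P hT S.f
      have e2 := map_eq T P hT S.g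
      change Function.Exact
        (IsLocalizedModule.map P.primeCompl (locT T P S.X₁) (locT T P S.X₂) (T.map S.f).hom)
        (IsLocalizedModule.map P.primeCompl (locT T P S.X₂) (locT T P S.X₃) (T.map S.g).hom)
      rw [e1, e2]
      exact (key P).1
    · rw [ModuleCat.epi_iff_surjective]
      apply surjective_of_isLocalized_maximal
        (fun P _ => T.obj ((Res P).obj (S.X₂.localizedModule P.primeCompl)))
        (fun P _ => locT T P S.X₂)
        (fun P _ => T.obj ((Res P).obj (S.X₃.localizedModule P.primeCompl)))
        (fun P _ => locT T P S.X₃)
      intro P _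
      have e2 := map_eq T P hT S.g
      change Function.Surjective
        (IsLocalizedModule.map P.primeCompl (locT T P S.X₂) (locT T P S.X₃) (T.map S.g).hom)
      rw [e2]
      exact (key P).2

end Groth.Agent.S4493
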