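import Groth.Statements.S4495
import Mathlib

set_option autoImplicit false
universe u
open FlatCx

namespace Groth.Agent.S4495

open CategoryTheory AlgebraicGeometry Opposite TopologicalSpace

theorem isUnit_of_basicOpen_eq_top (Z : LocallyRingedSpace.{u}) (f : Z.presheaf.obj (op ⊤))
    (h : Z.toRingedSpace.basicOpen f = ⊤) : IsUnit f := by
  apply Z.toRingedSpace.isUnit_of_isUnit_germ ⊤ f
  intro x hx
  have : x ∈ Z.toRingedSpace.basicOpen f := by rw [h]; trivial
  exact (Z.toRingedSpace.mem_basicOpen f x hx).mp this

theorem fwd (Z : LocallyRingedSpace.{u}) [PreconnectedSpace Z] (e : Z.presheaf.obj (op ⊤))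
    (he : e * e = e) : e = 0 ∨ e = 1 := by
  have he' : (1 - e) * (1 - e) = 1 - e := by
    have : (1 - e) * (1 - e) = 1 - e - e + e * e := by ring
    rw [this, he]; ring
  have hdisj : Z.toRingedSpace.basicOpen e ⊓ Z.toRingedSpace.basicOpen (1 - e) = ⊥ := by
    rw [← RingedSpace.basicOpen_mul]
    have : e * (1 - e) = 0 := by
      have : e * (1 - e) = e - e * e := by ring
      rw [this, he, sub_self]
    rw [this, LocallyRingedSpace.basicOpen_zero]
  have hcov : ∀ x : Z, x ∈ Z.toRingedSpace.basicOpen e ∨ x ∈ Z.toRingedSpace.basicOpen (1 - e) := by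
    intro x
    rw [Z.toRingedSpace.mem_top_basicOpen e x, Z.toRingedSpace.mem_top_basicOpen (1 - e) x]
    have h1 : Z.toRingedSpace.presheaf.Γgerm x e + Z.toRingedSpace.presheaf.Γgerm x (1 - e) = 1 := by
      rw [← map_add]; simp
    exact IsLocalRing.isUnit_or_isUnit_of_add_one h1
  have hclopen : @IsClopen Z.toTopCat _ ((Z.toRingedSpace.basicOpen e).1) := by
    refine ⟨?_, (Z.toRingedSpace.basicOpen e).2⟩
    have : ((Z.toRingedSpace.basicOpen e).1)ᶜ = (Z.toRingedSpace.basicOpen (1 - e)).1 := by
      ext x
      constructor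
      · intro hx
        exact (hcov x).resolve_left hx
      · intro hx hx'
        have : x ∈ Z.toRingedSpace.basicOpen e ⊓ Z.toRingedSpace.basicOpen (1 - e) := ⟨hx', hx⟩
        rw [hdisj] at this
        exact this
    rw [← isOpen_compl_iff, this]
    exact (Z.toRingedSpace.basicOpen (1 - e)).2
  rcases isClopen_iff.mp hclopen with h | h
  · left
    have h2 : Z.toRingedSpace.basicOpen (1 - e) = ⊤ := by
      ext x
      simp only [Opens.coe_top, Set.mem_univ, iff_true]
      rcases hcov x with hx | hx
      · exfalso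
        have : x ∈ (Z.toRingedSpace.basicOpen e).1 := hx
        rw [h] at this
        exact this
      · exact hx
    have hu := isUnit_of_basicOpen_eq_top Z (1 - e) h2
    obtain ⟨u, hu'⟩ := hu
    have : (1 - e) = 1 := by
      have h3 : (↑u⁻¹ : Z.presheaf.obj (op ⊤)) * ((1 - e) * (1 - e)) = ↑u⁻¹ * (1 - e) := by rw [he']
      rw [← hu', ← mul_assoc, Units.inv_mul, one_mul] at h3
      rw [← hu']; exact h3
    have h4 : e = 1 - (1 - e) := by ring
    rw [h4, this, sub_self]
  · right
    have h2 : Z.toRingedSpace.basicOpen e = ⊤ := Opens.ext h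
    have hu := isUnit_of_basicOpen_eq_top Z e h2
    obtain ⟨u, hu'⟩ := hu
    have h3 : (↑u⁻¹ : Z.presheaf.obj (op ⊤)) * (e * e) = ↑u⁻¹ * e := by rw [he]
    rw [← hu', ← mul_assoc, Units.inv_mul, one_mul] at h3
    rw [← hu']; exact h3


theorem not_mem_of_zero_eq_one (Z : LocallyRingedSpace.{u}) (W : Opens Z.toTopCat)
    (h : (0 : Z.presheaf.obj (op W)) = 1) (x : Z.toTopCat) : x ∉ W := by
  intro hx
  have h1 := congrArg (Z.presheaf.germ W x hx) h
  rw [map_zero, map_one] at h1
  exact zero_ne_one h1

theorem bwd (Z : LocallyRingedSpace.{u})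
    (h : ∀ e : Z.presheaf.obj (op ⊤), IsIdempotentElem e → e = 0 ∨ e = 1) :
    PreconnectedSpace Z.toTopCat := by
  rw [preconnectedSpace_iff_clopen]
  intro s hs
  let U : Bool → Opens Z.toTopCat :=
    fun b => if b then ⟨s, hs.2⟩ else ⟨sᶜ, hs.1.isOpen_compl⟩
  let sf : ∀ b : Bool, Z.presheaf.obj (op (U b)) := fun b => if b then 1 else 0
  have hcompat : TopCat.Presheaf.IsCompatible Z.presheaf U sf := by
    intro i j
    by_cases hij : i = j
    · subst hij; rfl
    · apply TopCat.Presheaf.section_ext Z.sheaf
      intro x hx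
      exfalso
      obtain ⟨hx1, hx2⟩ := hx
      cases i <;> cases j
      · exact hij rfl
      · exact hx1 hx2
      · exact hx2 hx1
      · exact hij rfl
  have hcover : (⊤ : Opens Z.toTopCat) ≤ iSup U := by
    intro x _
    rw [Opens.mem_iSup]
    by_cases hx : x ∈ s
    · exact ⟨true, hx⟩
    · exact ⟨false, hx⟩
  obtain ⟨e, he, huniq⟩ := Z.sheaf.existsUnique_gluing' U ⊤ (fun b => homOfLE le_top) hcover sf
    hcompat
  have hidem : e * e = e := by
    apply huniq
    intro b
    rw [map_mul, he b]
    cases b
    · show (0 : Z.presheaf.obj (op (U false))) * 0 = 0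
      rw [mul_zero]
    · show (1 : Z.presheaf.obj (op (U true))) * 1 = 1
      rw [mul_one]
  rcases h e hidem with h0 | h1
  · left
    have h2 : (0 : Z.presheaf.obj (op (U true))) = 1 := by
      have := he true
      rw [h0] at this
      exact (map_zero _).symm.trans this
    ext x
    simp only [Set.mem_empty_iff_false, iff_false]
    exact not_mem_of_zero_eq_one Z (U true) h2 x
  · right
    have h2 : (0 : Z.presheaf.obj (op (U false))) = 1 := by
      have := he false
      rw [h1] at this
      exact this.symm.trans (map_one _)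
    ext x
    simp only [Set.mem_univ, iff_true]
    by_contra hx
    exact not_mem_of_zero_eq_one Z (U false) h2 x hx



open CategoryTheory AlgebraicGeometry Opposite in
/-- A locally ringed space Z is connected, in the sense that it is not the disjoint union of two
nonempty open subsets (the empty space being allowed), if and only if every idempotent of the ring
of global sections Γ(Z, O_Z) is 0 or 1 (equivalently, Γ(Z, O_Z) is not isomorphic to a product of
two nonzero rings). -/
theorem result (Z : LocallyRingedSpace.{u}) :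
    PreconnectedSpace Z ↔
      ∀ e : Z.presheaf.obj (op ⊤), IsIdempotentElem e → e = 0 ∨ e = 1 := by
  constructor
  · intro hZ e he
    haveI : PreconnectedSpace Z.toTopCat := hZ
    exact fwd Z e he
  · intro h
    exact bwd Z h

end Groth.Agent.S4495
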