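import Groth.Statements.S4496
import Groth.Agent.Lib.Helper3FlatCx
import Groth.Agent.S2375
import Groth.Agent.S2406
import Groth.Agent.S2410
import Mathlib

set_option autoImplicit false
universe u
open FlatCx

namespace Groth.Agent.S4496

open CategoryTheory CategoryTheory.Limits MonoidalCategory in

open CategoryTheory CategoryTheory.Limits MonoidalCategory in
/-- For the homological functor T_p(M) = H_p(P ⊗_A M) of a chain complex P of flat modules over a
commutative ring A: T_p takes injections to injections and surjections to surjections if and only if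
T_p is isomorphic to the functor M ↦ N ⊗_A M for some flat A-module N (which is then isomorphic to
T_p(A)). -/
theorem result {A : Type u} [CommRing A]
    (P : ChainComplex (ModuleCat.{u} A) ℤ) (hP : ∀ i, Module.Flat A (P.X i)) (p : ℤ) :
    ((CohIII.TFun P p).PreservesMonomorphisms ∧ (CohIII.TFun P p).PreservesEpimorphisms) ↔
      ∃ N : ModuleCat.{u} A, Module.Flat A N ∧ Nonempty (CohIII.TFun P p ≅ tensorLeft N) := by
  have hrel : (ComplexShape.down ℤ).Rel p (p - 1) := by
    show p - 1 + 1 = p
    ring
  constructor
  · rintro ⟨hm, he⟩
    have hWq : Module.Flat A (P.opcycles (p - 1)) :=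
      (Groth.Agent.S2410.preservesEpi_iff_flat_opcycles P hP p (p - 1) (by ring)).mp he
    have := hP (p - 1)
    have hWp : Module.Flat A (P.opcycles p) := (Groth.Agent.S2375.result P hP p).mp hm
    have hH : Module.Flat A (P.homology p) :=
      (Groth.Agent.Lib.Helper3.flat_opcycles_iff_flat_homology P p (p - 1) hrel).mp hWp
    exact ⟨P.homology p, hH, ⟨(Groth.Agent.Lib.Helper3.thetaIso P p (p - 1) hrel).symm⟩⟩
  · rintro ⟨N, hN, ⟨e⟩⟩
    constructor
    · have : (tensorLeft N).PreservesMonomorphisms := inferInstance
      exact Functor.PreservesMonomorphisms.of_iso e.symm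
    · have : (tensorLeft N).PreservesEpimorphisms :=
        Functor.preservesEpimorphisms_of_adjunction (ihom.adjunction N)
      exact Functor.PreservesEpimorphisms.of_iso e.symm

end Groth.Agent.S4496
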