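import Groth.Statements.S4498
import Groth.Agent.S2436

set_option autoImplicit false
universe u
attribute [local instance] HasDerivedCategory.standard
open Coherent

namespace Groth.Agent.S4498

open CategoryTheory CategoryTheory.Limits Opposite in
/-- kernels of natural transformations between corepresentable functors are corepresentable -/
theorem kernel_corep {A : Type u} [CommRing A] (S S' : ModuleCat.{u} A ⥤ ModuleCat.{u} A)
    (Q Q' : ModuleCat.{u} A) (φ : S ≅ (linearCoyoneda A (ModuleCat.{u} A)).obj (op Q))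
    (φ' : S' ≅ (linearCoyoneda A (ModuleCat.{u} A)).obj (op Q')) (hQ : Module.Finite A Q)
    (η : S ⟶ S') :
    ∃ (R : ModuleCat.{u} A) (ι : (linearCoyoneda A (ModuleCat.{u} A)).obj (op R) ⟶ S),
      Module.Finite A R ∧ (∀ M : ModuleCat.{u} A, Function.Injective (ι.app M).hom) ∧
        ∀ (M : ModuleCat.{u} A) (x : S.obj M), (η.app M).hom x = 0 ↔ ∃ y, (ι.app M).hom y = x := by
  -- the transported natural transformation
  let η' : (linearCoyoneda A (ModuleCat.{u} A)).obj (op Q) ⟶
      (linearCoyoneda A (ModuleCat.{u} A)).obj (op Q') := φ.inv ≫ η ≫ φ'.hom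
  let u : Q' ⟶ Q := (η'.app Q).hom (𝟙 Q)
  have hη' : ∀ (M : ModuleCat.{u} A) (g : Q ⟶ M), (η'.app M).hom g = u ≫ g := by
    intro M g
    have h := η'.naturality g
    have h2 := congrArg (fun k => k.hom (𝟙 Q)) h
    have h3 : (η'.app M).hom (𝟙 Q ≫ g) = (η'.app Q).hom (𝟙 Q) ≫ g := h2
    rw [Category.id_comp] at h3
    exact h3
  let R : ModuleCat.{u} A := ModuleCat.of A (Q ⧸ LinearMap.range u.hom)
  let π : Q ⟶ R := ModuleCat.ofHom (LinearMap.range u.hom).mkQ
  have hπs : Function.Surjective π.hom := Submodule.mkQ_surjective _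
  haveI : Epi π := (ModuleCat.epi_iff_surjective π).2 hπs
  have huπ : u ≫ π = 0 := by
    ext x
    change (LinearMap.range u.hom).mkQ (u.hom x) = 0
    rw [Submodule.mkQ_apply, Submodule.Quotient.mk_eq_zero]
    exact ⟨x, rfl⟩
  have hfac : ∀ (M : ModuleCat.{u} A) (g : Q ⟶ M), u ≫ g = 0 → ∃ y : R ⟶ M, π ≫ y = g := by
    intro M g hg
    refine ⟨ModuleCat.ofHom ((LinearMap.range u.hom).liftQ g.hom ?_), ?_⟩
    · rintro _ ⟨x, rfl⟩
      have := congrArg (fun k => k.hom x) hg
      exact this
    · ext x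
      rfl
  let ι' : (linearCoyoneda A (ModuleCat.{u} A)).obj (op R) ⟶
      (linearCoyoneda A (ModuleCat.{u} A)).obj (op Q) := (linearCoyoneda A (ModuleCat.{u} A)).map π.op
  have hι' : ∀ (M : ModuleCat.{u} A) (y : R ⟶ M), (ι'.app M).hom y = π ≫ y := fun M y => rfl
  have hφ : ∀ (M : ModuleCat.{u} A) (x : S.obj M), (φ.inv.app M).hom ((φ.hom.app M).hom x) = x := by
    intro M x
    have := congrArg (fun k => k.hom x) (φ.hom_inv_id_app M)
    exact this
  have hφ2 : ∀ (M : ModuleCat.{u} A) (g : Q ⟶ M), (φ.hom.app M).hom ((φ.inv.app M).hom g) = g := by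
    intro M g
    have := congrArg (fun k => k.hom g) (φ.inv_hom_id_app M)
    exact this
  have hφ' : ∀ (M : ModuleCat.{u} A) (x : S'.obj M),
      (φ'.inv.app M).hom ((φ'.hom.app M).hom x) = x := by
    intro M x
    have := congrArg (fun k => k.hom x) (φ'.hom_inv_id_app M)
    exact this
  have hηx : ∀ (M : ModuleCat.{u} A) (x : S.obj M),
      (η'.app M).hom ((φ.hom.app M).hom x) = (φ'.hom.app M).hom ((η.app M).hom x) := by
    intro M x
    change (φ'.hom.app M).hom ((η.app M).hom ((φ.inv.app M).hom ((φ.hom.app M).hom x))) = _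
    rw [hφ]
  refine ⟨R, ι' ≫ φ.inv, ?_, ?_, ?_⟩
  · exact Module.Finite.of_surjective (LinearMap.range u.hom).mkQ hπs
  · intro M y y' h
    have h1 : (φ.inv.app M).hom (π ≫ y) = (φ.inv.app M).hom (π ≫ y') := h
    have h2 := congrArg (fun z => (φ.hom.app M).hom z) h1
    simp only [hφ2] at h2
    exact (cancel_epi π).1 h2
  · intro M x
    constructor
    · intro hx
      have h1 : u ≫ (φ.hom.app M).hom x = 0 := by
        rw [← hη', hηx, hx, map_zero]
        rfl
      obtain ⟨y, hy⟩ := hfac M _ h1
      refine ⟨y, ?_⟩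
      change (φ.inv.app M).hom (π ≫ y) = x
      rw [hy, hφ]
    · rintro ⟨y, rfl⟩
      have h1 : (φ'.hom.app M).hom ((η.app M).hom ((φ.inv.app M).hom (π ≫ y))) = 0 := by
        rw [← hηx, hφ2, hη', ← Category.assoc, huπ, zero_comp]
        rfl
      have h2 := congrArg (fun z => (φ'.inv.app M).hom z) h1
      simp only [hφ', map_zero] at h2
      exact h2

open AlgebraicGeometry CategoryTheory Opposite in
/-- The global form over an affine base. Let A be a Noetherian ring, X a proper A-scheme with structure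
morphism f, and F, F' coherent O_X-modules flat over Spec A. Let η be a natural transformation from
the functor M ↦ Γ(X, f^*(M~) ⊗ F) to the functor M ↦ Γ(X, f^*(M~) ⊗ F') of the A-module M (the
published statement takes η induced by a homomorphism F → F'; this row allows any natural
transformation, which is all the argument uses). Then the kernel functor M ↦ Ker(η_M) is
corepresentable by a finitely generated A-module R: there are such an R and a natural transformation
ι : Hom_A(R, −) → Γ(X, f^*(−~) ⊗ F) with injective components whose image at every M is exactly the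
kernel of η_M. (R is then unique up to unique isomorphism.) -/
theorem result (A : Type u) [CommRing A]
    [IsNoetherianRing A] (X : Scheme.{u}) [X.Over (Spec (CommRingCat.of A))]
    [IsProper (X ↘ Spec (CommRingCat.of A))] (F F' : X.Modules) (hF : Coh.IsCoh F) (hF' : Coh.IsCoh F')
    (hfl : FlatMod.IsFlatOver (X ↘ Spec (CommRingCat.of A)) F)
    (hfl' : FlatMod.IsFlatOver (X ↘ Spec (CommRingCat.of A)) F')
    (η : CohIII.tensorAFunctor A F ⋙ CohIII.globalSectionsA A ⟶ CohIII.tensorAFunctor A F' ⋙ CohIII.globalSectionsA A) :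
    ∃ (R : ModuleCat.{u} A) (ι : (linearCoyoneda A (ModuleCat.{u} A)).obj (op R) ⟶
        CohIII.tensorAFunctor A F ⋙ CohIII.globalSectionsA A),
      Module.Finite A R ∧ (∀ M : ModuleCat.{u} A, Function.Injective (ι.app M).hom) ∧
        ∀ (M : ModuleCat.{u} A) (x : (CohIII.tensorAFunctor A F ⋙ CohIII.globalSectionsA A).obj M),
          (η.app M).hom x = 0 ↔ ∃ y, (ι.app M).hom y = x := by
  obtain ⟨Q, hQ, ⟨φ⟩⟩ := Groth.Agent.S2436.exists_corep A X F hF hfl
  obtain ⟨Q', hQ', ⟨φ'⟩⟩ := Groth.Agent.S2436.exists_corep A X F' hF' hfl'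
  exact kernel_corep _ _ Q Q' φ φ' hQ η

end Groth.Agent.S4498
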