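import Groth.Statements.S4499
import Groth.Agent.Lib.Helper13TorNat
import Mathlib

set_option autoImplicit false
universe u
attribute [local instance] HasDerivedCategory.standard
open FlatCx

namespace Groth.Agent.S4499

open CategoryTheory CategoryTheory.Limits MonoidalCategory Groth.Agent.Helper13Tor

section Aux

variable {A : Type u} [CommRing A]

theorem isIso_of_exact_zero {C : Type*} [Category C] [Abelian C] {X₁ X₂ X₃ X₄ : C}
    (f : X₁ ⟶ X₂) (g : X₂ ⟶ X₃) (h : X₃ ⟶ X₄) (w₁ : f ≫ g = 0) (w₂ : g ≫ h = 0)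
    (e₁ : (ShortComplex.mk f g w₁).Exact) (e₂ : (ShortComplex.mk g h w₂).Exact)
    (h₁ : IsZero X₁) (h₄ : IsZero X₄) : IsIso g := by
  have : Mono g := e₁.mono_g (h₁.eq_of_src _ _)
  have : Epi g := e₂.epi_f (h₄.eq_of_tgt _ _)
  exact isIso_of_mono_of_epi g

variable (S : ShortComplex (ModuleCat.{u} A)) (hS : S.ShortExact) (Y : ModuleCat.{u} A)

include hS in
theorem nonempty_tor_succ_iso [Module.Flat A S.X₂] (n : ℕ) (hn : 1 ≤ n) :
    Nonempty (((Tor (ModuleCat.{u} A) (n + 1)).obj S.X₃).obj Y ≅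
      ((Tor (ModuleCat.{u} A) n).obj S.X₁).obj Y) := by
  obtain ⟨δ, w₁, w₂, e₁, e₂⟩ := exists_δ S hS Y n
  have := isIso_of_exact_zero _ δ _ w₁ w₂ e₁ e₂ (isZero_tor_of_flat Y S.X₂ (n + 1) (by omega))
    (isZero_tor_of_flat Y S.X₂ n (by omega))
  exact ⟨asIso δ⟩

include hS in
theorem nonempty_tor_one_equiv [Module.Flat A S.X₂] :
    Nonempty (((Tor (ModuleCat.{u} A) 1).obj S.X₃).obj Y ≃ₗ[A]
      LinearMap.ker (S.f.hom.rTensor Y)) := by
  obtain ⟨δ, w₁, w₂, e₁, e₂⟩ := exists_δ S hS Y 0
  have hmono : Mono δ :=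
    e₁.mono_g ((isZero_tor_of_flat Y S.X₂ 1 (by omega)).eq_of_src _ _)
  have hinj : Function.Injective δ.hom := (ModuleCat.mono_iff_injective δ).mp hmono
  -- the comparison with the tensor product
  let t₁ : ((Tor (ModuleCat.{u} A) 0).obj S.X₁).obj Y ≅ S.X₁ ⊗ Y :=
    (torZeroIso.app S.X₁).app Y
  let t₂ : ((Tor (ModuleCat.{u} A) 0).obj S.X₂).obj Y ≅ S.X₂ ⊗ Y :=
    (torZeroIso.app S.X₂).app Y
  have hsq : ((Tor (ModuleCat.{u} A) 0).map S.f).app Y ≫ t₂.hom = t₁.hom ≫ (S.f ▷ Y) := by
    have := congrArg (fun τ => τ.app Y) (torZeroIso (R := A).hom.naturality S.f)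
    exact this
  have hsq' : ∀ x, t₂.hom.hom ((((Tor (ModuleCat.{u} A) 0).map S.f).app Y).hom x) =
      (S.f.hom.rTensor Y) (t₁.hom.hom x) := by
    intro x
    exact congrArg (fun φ => φ.hom x) hsq
  have hex : ∀ y, (((Tor (ModuleCat.{u} A) 0).map S.f).app Y).hom y = 0 → ∃ x, δ.hom x = y :=
    fun y hy => (ShortComplex.moduleCat_exact_iff _).mp e₂ y hy
  have hzero : ∀ x, (((Tor (ModuleCat.{u} A) 0).map S.f).app Y).hom (δ.hom x) = 0 := by
    intro x
    exact congrArg (fun φ => φ.hom x) w₂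
  let Φ : ((Tor (ModuleCat.{u} A) 1).obj S.X₃).obj Y →ₗ[A] LinearMap.ker (S.f.hom.rTensor Y) :=
    (t₁.hom.hom ∘ₗ δ.hom).codRestrict _ (fun x => by
      rw [LinearMap.mem_ker, LinearMap.comp_apply, ← hsq', hzero, map_zero])
  have hΦ : Function.Bijective Φ := by
    constructor
    · intro x y hxy
      have h1 : t₁.hom.hom (δ.hom x) = t₁.hom.hom (δ.hom y) := congrArg Subtype.val hxy
      have h2 : Function.Injective t₁.hom.hom :=
        (ModuleCat.mono_iff_injective t₁.hom).mp inferInstance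
      exact hinj (h2 h1)
    · rintro ⟨z, hz⟩
      have h2 : Function.Surjective t₁.hom.hom :=
        (ModuleCat.epi_iff_surjective t₁.hom).mp inferInstance
      obtain ⟨y, rfl⟩ := h2 z
      have hy : (((Tor (ModuleCat.{u} A) 0).map S.f).app Y).hom y = 0 := by
        have h3 : Function.Injective t₂.hom.hom :=
          (ModuleCat.mono_iff_injective t₂.hom).mp inferInstance
        apply h3
        rw [hsq', map_zero]
        exact hz
      obtain ⟨x, rfl⟩ := hex y hy
      exact ⟨x, Subtype.ext rfl⟩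
  exact ⟨LinearEquiv.ofBijective Φ hΦ⟩

end Aux

section Abs
variable {A : Type u} [CommRing A] {L M N Q : Type u} [AddCommGroup L] [Module A L]
  [AddCommGroup M] [Module A M] [AddCommGroup N] [Module A N] [AddCommGroup Q] [Module A Q]

theorem quot_equiv_abstract (f : L →ₗ[A] M) (g : M →ₗ[A] N) (h : N →ₗ[A] Q) (t : M →ₗ[A] Q)
    (ht : t = h ∘ₗ g) (hex : Function.Exact f g) (hg : Function.Surjective g) :
    Nonempty ((↥(LinearMap.ker t) ⧸ Submodule.comap (LinearMap.ker t).subtype (LinearMap.range f))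
      ≃ₗ[A] ↥(LinearMap.ker h)) := by
  have hkey : ∀ x, t x = h (g x) := fun x => LinearMap.congr_fun ht x
  let Φ : ↥(LinearMap.ker t) →ₗ[A] ↥(LinearMap.ker h) :=
    (g.domRestrict (LinearMap.ker t)).codRestrict _
      (fun x => LinearMap.mem_ker.mpr ((hkey x.1).symm.trans x.2))
  have hΦsurj : Function.Surjective Φ := by
    rintro ⟨y, hy⟩
    obtain ⟨x, rfl⟩ := hg y
    exact ⟨⟨x, LinearMap.mem_ker.mpr ((hkey x).trans hy)⟩, Subtype.ext rfl⟩
  have hker : LinearMap.ker Φ = Submodule.comap (LinearMap.ker t).subtype (LinearMap.range f) := by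
    ext x
    rw [LinearMap.mem_ker, Submodule.mem_comap, ← LinearMap.exact_iff.mp hex, LinearMap.mem_ker]
    constructor
    · intro h
      exact congrArg Subtype.val h
    · intro h
      exact Subtype.ext h
  rw [← hker]
  exact ⟨LinearMap.quotKerEquivOfSurjective Φ hΦsurj⟩

end Abs

section Concrete

variable {A : Type u} [CommRing A] {P₁ P₀ : Type u} [AddCommGroup P₁] [Module A P₁]
  [AddCommGroup P₀] [Module A P₀] (d : P₁ →ₗ[A] P₀)

/-- `ker d → P₁ → range d`. -/
noncomputable abbrev SK : ShortComplex (ModuleCat.{u} A) :=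
  ShortComplex.mk (ModuleCat.ofHom (LinearMap.ker d).subtype)
    (ModuleCat.ofHom d.rangeRestrict) (by
      apply ModuleCat.hom_ext
      apply LinearMap.ext
      intro x
      exact Subtype.ext x.2)

theorem SK_shortExact : (SK d).ShortExact := by
  refine ShortComplex.ShortExact.mk' ((ShortComplex.moduleCat_exact_iff _).mpr ?_)
    ((ModuleCat.mono_iff_injective _).mpr ?_) ((ModuleCat.epi_iff_surjective _).mpr ?_)
  · intro x hx
    exact ⟨⟨x, congrArg Subtype.val hx⟩, rfl⟩
  · exact Submodule.injective_subtype _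
  · exact LinearMap.surjective_rangeRestrict d

/-- `range d → P₀ → coker d`. -/
noncomputable abbrev SC : ShortComplex (ModuleCat.{u} A) :=
  ShortComplex.mk (ModuleCat.ofHom (LinearMap.range d).subtype)
    (ModuleCat.ofHom (LinearMap.range d).mkQ) (by
      apply ModuleCat.hom_ext
      apply LinearMap.ext
      intro x
      exact (Submodule.Quotient.mk_eq_zero _).mpr x.2)

theorem SC_shortExact : (SC d).ShortExact := by
  refine ShortComplex.ShortExact.mk' ((ShortComplex.moduleCat_exact_iff _).mpr ?_)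
    ((ModuleCat.mono_iff_injective _).mpr ?_) ((ModuleCat.epi_iff_surjective _).mpr ?_)
  · intro x hx
    exact ⟨⟨x, (Submodule.Quotient.mk_eq_zero _).mp hx⟩, rfl⟩
  · exact Submodule.injective_subtype _
  · exact Submodule.mkQ_surjective _

variable (k : Type u) [AddCommGroup k] [Module A k]

theorem rTensor_eq :
    d.rTensor k = (LinearMap.range d).subtype.rTensor k ∘ₗ d.rangeRestrict.rTensor k := by
  rw [← LinearMap.rTensor_comp]
  rfl

theorem exact_rTensor :
    Function.Exact ((LinearMap.ker d).subtype.rTensor k) (d.rangeRestrict.rTensor k) := by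
  apply rTensor_exact
  · intro x
    constructor
    · intro hx
      exact ⟨⟨x, congrArg Subtype.val hx⟩, rfl⟩
    · rintro ⟨y, rfl⟩
      exact Subtype.ext y.2
  · exact LinearMap.surjective_rangeRestrict d

theorem range_le_ker :
    LinearMap.range ((LinearMap.ker d).subtype.rTensor k) ≤ LinearMap.ker (d.rTensor k) := by
  rintro _ ⟨x, rfl⟩
  rw [LinearMap.mem_ker, rTensor_eq, LinearMap.comp_apply,
    (exact_rTensor d k _).mpr ⟨x, rfl⟩, map_zero]

theorem nonempty_quot_equiv :
    Nonempty ((↥(LinearMap.ker (d.rTensor k)) ⧸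
        Submodule.comap (LinearMap.ker (d.rTensor k)).subtype
          (LinearMap.range ((LinearMap.ker d).subtype.rTensor k))) ≃ₗ[A]
      ↥(LinearMap.ker ((LinearMap.range d).subtype.rTensor k))) :=
  quot_equiv_abstract _ _ _ _ (rTensor_eq d k) (exact_rTensor d k)
    (LinearMap.rTensor_surjective k (LinearMap.surjective_rangeRestrict d))

end Concrete


/-- Let A be a Noetherian local ring with residue field k, and d : P₁ → P₀ an A-linear map between flat
A-modules, viewed as a two-term chain complex, so that H₁ = Ker d, H₀ = Coker d and H₁ of the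
complex tensored with k is Ker(d ⊗ 1_k). Let α : (Ker d) ⊗_A k → P₁ ⊗_A k be the map induced by the
inclusion Ker d → P₁; its image lies in Ker(d ⊗ 1_k). Then there is an exact sequence 0 →
Tor₂^A(Coker d, k) → (Ker d) ⊗_A k → Ker(d ⊗ 1_k) → Tor₁^A(Coker d, k) → 0 with middle map α, stated
here as: Ker α is isomorphic to Tor₂^A(Coker d, k), and the quotient of Ker(d ⊗ 1_k) by the image of
α is isomorphic to Tor₁^A(Coker d, k) (existence of A-linear isomorphisms only; Tor is Mathlib's,
left derived in the second variable). (In the published statement the cokernel is printed without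
its prime, as the module of 0-cycles; the proof is about the cokernel of d.) -/
theorem result {A : Type u} [CommRing A] [IsNoetherianRing A]
    [IsLocalRing A] {P₁ P₀ : Type u} [AddCommGroup P₁] [Module A P₁] [AddCommGroup P₀] [Module A P₀]
    [Module.Flat A P₁] [Module.Flat A P₀] (d : P₁ →ₗ[A] P₀) :
    Nonempty (LinearMap.ker ((LinearMap.ker d).subtype.rTensor (IsLocalRing.ResidueField A)) ≃ₗ[A]
        DRing.Tor A 2 (P₀ ⧸ LinearMap.range d) (IsLocalRing.ResidueField A)) ∧
      LinearMap.range ((LinearMap.ker d).subtype.rTensor (IsLocalRing.ResidueField A)) ≤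
        LinearMap.ker (d.rTensor (IsLocalRing.ResidueField A)) ∧
      Nonempty ((↥(LinearMap.ker (d.rTensor (IsLocalRing.ResidueField A))) ⧸
          Submodule.comap (LinearMap.ker (d.rTensor (IsLocalRing.ResidueField A))).subtype
            (LinearMap.range ((LinearMap.ker d).subtype.rTensor (IsLocalRing.ResidueField A)))) ≃ₗ[A]
        DRing.Tor A 1 (P₀ ⧸ LinearMap.range d) (IsLocalRing.ResidueField A)) := by
  have hf₁ : Module.Flat A (SK d).X₂ := (inferInstance : Module.Flat A P₁)
  have hf₂ : Module.Flat A (SC d).X₂ := (inferInstance : Module.Flat A P₀)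
  have e₁ : Nonempty (DRing.Tor A 1 ↥(LinearMap.range d) (IsLocalRing.ResidueField A) ≃ₗ[A]
      LinearMap.ker ((LinearMap.ker d).subtype.rTensor (IsLocalRing.ResidueField A))) :=
    nonempty_tor_one_equiv (SK d) (SK_shortExact d) (ModuleCat.of A (IsLocalRing.ResidueField A))
  have e₂ : Nonempty (ModuleCat.of A (DRing.Tor A 2 (P₀ ⧸ LinearMap.range d)
        (IsLocalRing.ResidueField A)) ≅
      ModuleCat.of A (DRing.Tor A 1 ↥(LinearMap.range d) (IsLocalRing.ResidueField A))) :=
    nonempty_tor_succ_iso (SC d) (SC_shortExact d)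
      (ModuleCat.of A (IsLocalRing.ResidueField A)) 1 le_rfl
  have e₃ : Nonempty (DRing.Tor A 1 (P₀ ⧸ LinearMap.range d) (IsLocalRing.ResidueField A) ≃ₗ[A]
      LinearMap.ker ((LinearMap.range d).subtype.rTensor (IsLocalRing.ResidueField A))) :=
    nonempty_tor_one_equiv (SC d) (SC_shortExact d) (ModuleCat.of A (IsLocalRing.ResidueField A))
  obtain ⟨e₁⟩ := e₁
  obtain ⟨e₂⟩ := e₂
  obtain ⟨e₃⟩ := e₃
  obtain ⟨e₄⟩ := nonempty_quot_equiv d (IsLocalRing.ResidueField A)
  exact ⟨⟨e₁.symm.trans e₂.toLinearEquiv.symm⟩, range_le_ker d _, ⟨e₄.trans e₃.symm⟩⟩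

end Groth.Agent.S4499
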