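import Groth.Statements.S4513
import Groth.Agent.Lib.Helper19FSGeomReg2

set_option autoImplicit false
universe u
open EGA41

namespace Groth.Agent.S4513

open IsLocalRing in
/-- Let A be a Noetherian local ring and k a field mapping to A such that A is formally smooth over k
for the adic topology of its maximal ideal (k discrete). Then every field K with k → K → A
(compatible ring maps) is a separable extension of k, i.e. K is geometrically reduced over k. -/
theorem result {k A K : Type u} [Field k] [CommRing A]
    [IsLocalRing A] [IsNoetherianRing A] [Algebra k A] (h : CAlgX.IsAdicFormallySmooth k A (maximalIdeal A))
    [Field K] [Algebra k K] [Algebra K A] [IsScalarTower k K A] :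
    Algebra.IsGeometricallyReduced k K := by
  exact Groth.Agent.Lib.Helper19.FSGeomReg.isGeometricallyReduced_subfield_of_isAdicFormallySmooth h

end Groth.Agent.S4513
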