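import Groth.Statements.S4521
import Mathlib
import Groth.Agent.Lib.Helper7PField2
import Groth.Agent.Lib.Helper7Admissible

set_option autoImplicit false
universe u
open EGA41

namespace Groth.Agent.S4521

/-- Let k ⊆ K be fields of characteristic p > 0 and (x_α) a family of elements of K. Then (x_α) is
p-independent over k if and only if, for every α, x_α does not lie in the subfield generated over k
by K^p and the x_β with β ≠ α. -/
theorem result (p : ℕ) [Fact p.Prime] {k K : Type u} [Field k] [Field K]
    [Algebra k K] [CharP K p] {ι : Type u} (x : ι → K) :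
    EGA41.IsPIndependent p k x ↔
      ∀ a : ι, x a ∉ IntermediateField.adjoin k ((Set.range fun y : K => y ^ p) ∪ x '' {b | b ≠ a}) := by
  classical
  open KaehlerDifferential in
  rw [(Groth.Agent.Lib.Helper7.PPow.field_pbasis_main p x).1, linearIndependent_iff_notMem_span]
  have hset : ∀ a : ι, (fun i => D k K (x i)) '' (Set.univ \ {a}) = D k K '' (x '' {b | b ≠ a}) := by
    intro a
    ext z
    simp only [Set.mem_image, Set.mem_diff, Set.mem_univ, Set.mem_singleton_iff, true_and,
      Set.mem_ofPred_eq, ne_eq]
    constructor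
    · rintro ⟨i, hi, rfl⟩
      exact ⟨x i, ⟨i, hi, rfl⟩, rfl⟩
    · rintro ⟨_, ⟨i, hi, rfl⟩, rfl⟩
      exact ⟨i, hi, rfl⟩
  refine forall_congr' fun a => not_congr ?_
  rw [hset a]
  set F : IntermediateField k K :=
    IntermediateField.adjoin k ((Set.range fun y : K => y ^ p) ∪ x '' {b | b ≠ a}) with hF
  constructor
  · -- D x_a in the span ⇒ x_a ∈ F
    intro hmem
    have hker : Submodule.span K (D k K '' (x '' {b | b ≠ a})) ≤
        LinearMap.ker (KaehlerDifferential.map k F K K) := by
      rw [Submodule.span_le]
      rintro _ ⟨_, ⟨b, hb, rfl⟩, rfl⟩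
      rw [SetLike.mem_coe, LinearMap.mem_ker, KaehlerDifferential.map_D]
      have hxb : x b ∈ F := IntermediateField.subset_adjoin _ _ (Or.inr ⟨b, hb, rfl⟩)
      exact Derivation.map_algebraMap (D F K) (⟨x b, hxb⟩ : F)
    have h0 : D F K (x a) = 0 := by
      have := hker hmem
      rwa [LinearMap.mem_ker, KaehlerDifferential.map_D] at this
    have h1 := Groth.Agent.Lib.Helper7.PPow.mem_sup_of_D_eq_zero p F h0
    have hle : Groth.Agent.Lib.Helper7.PPow.pField k K p ≤ F :=
      IntermediateField.adjoin.mono k _ _ Set.subset_union_left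
    rwa [sup_eq_left.2 hle] at h1
  · intro hmem
    rw [hF] at hmem
    suffices h : ∀ z ∈ IntermediateField.adjoin k
        ((Set.range fun y : K => y ^ p) ∪ x '' {b | b ≠ a}),
        D k K z ∈ Submodule.span K (D k K '' (x '' {b | b ≠ a})) from h _ hmem
    intro z hz
    clear hmem
    induction hz using IntermediateField.adjoin_induction with
    | mem z hz =>
      rcases hz with ⟨y, rfl⟩ | hz
      · rw [Groth.Agent.Lib.Helper7.PPow.D_pow_char_eq_zero p y]; exact zero_mem _
      · exact Submodule.subset_span ⟨z, hz, rfl⟩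
    | algebraMap r => rw [Derivation.map_algebraMap]; exact zero_mem _
    | add u v _ _ hu hv => rw [map_add]; exact add_mem hu hv
    | inv u _ hu => rw [Derivation.leibniz_inv]; exact Submodule.smul_mem _ _ hu
    | mul u v _ _ hu hv =>
      rw [Derivation.leibniz]
      exact add_mem (Submodule.smul_mem _ _ hv) (Submodule.smul_mem _ _ hu)


end Groth.Agent.S4521
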