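import Groth.Statements.S4524
import Mathlib
import Groth.Agent.Lib.Helper7SepImperf

set_option autoImplicit false
universe u
open EGA41

namespace Groth.Agent.S4524

/-- Let k be a field of characteristic 0 and K an extension of k. Then Ω_{K/k} = 0 if and only if K is
an algebraic extension of k. -/
theorem result {k K : Type u} [Field k] [CharZero k] [Field K] [Algebra k K] :
    Subsingleton (Ω[K⁄k]) ↔ Algebra.IsAlgebraic k K := by
  constructor
  · intro hsub
    refine ⟨fun x => ?_⟩
    let F : IntermediateField k K := IntermediateField.adjoin k {x}
    haveI : CharZero F := charZero_of_injective_algebraMap (algebraMap k F).injective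
    haveI : Algebra.EssFiniteType k F :=
      IntermediateField.essFiniteType_iff.mpr ⟨{x}, by simp [F]⟩
    have hinj : Function.Injective (KaehlerDifferential.mapBaseChange k F K) :=
      Groth.Agent.Lib.Helper7.ExalLib.injective_mapBaseChange_of_charZero
    have hsubF : Subsingleton (Ω[F⁄k]) := by
      refine ⟨fun a b => ?_⟩
      have h1 : Function.Injective (TensorProduct.mk F K (Ω[F⁄k]) 1) :=
        Module.Flat.tensorProduct_mk_injective (R := F) (S := K) (M := Ω[F⁄k])
      apply h1
      apply hinj
      exact Subsingleton.elim _ _
    haveI : Algebra.FormallyUnramified k F := (Algebra.formallyUnramified_iff k F).2 hsubF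
    haveI : Algebra.IsSeparable k F := Algebra.FormallyUnramified.isSeparable k F
    have hx : IsAlgebraic k (⟨x, IntermediateField.mem_adjoin_simple_self k x⟩ : F) :=
      Algebra.IsAlgebraic.isAlgebraic _
    have := hx.algHom F.val
    simpa using this
  · intro halg
    haveI : Algebra.IsSeparable k K := Algebra.IsAlgebraic.isSeparable_of_perfectField
    haveI : Algebra.FormallyUnramified k K := Algebra.FormallyUnramified.of_isSeparable k K
    exact (Algebra.formallyUnramified_iff k K).1 inferInstance


end Groth.Agent.S4524
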