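import Groth.Statements.S4529
import Mathlib

set_option autoImplicit false
universe u
open EGA41

namespace Groth.Agent.S4529

/-- Let A be a ring, M, N two A-modules with N projective, u : M → N a homomorphism and J an ideal of A;
suppose either (i) J is nilpotent, or (ii) J is contained in the Jacobson radical of A and M is of
finite type. Then u is left invertible if and only if the induced map u₀ : M/JM → N/JN is left
invertible. (A left inverse of u₀ composed with N → N/JN is an A-linear map v : N → M/JM with v ∘ u
the projection, and conversely; the right-hand side is written in that form.) -/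
theorem result {A : Type u} [CommRing A] {M N : Type u} [AddCommGroup M] [Module A M]
    [AddCommGroup N] [Module A N] [Module.Projective A N] (u : M →ₗ[A] N) (J : Ideal A)
    (hJ : IsNilpotent J ∨ (J ≤ (⊥ : Ideal A).jacobson ∧ Module.Finite A M)) :
    (∃ w : N →ₗ[A] M, w ∘ₗ u = LinearMap.id) ↔
      ∃ v : N →ₗ[A] M ⧸ (J • ⊤ : Submodule A M), v ∘ₗ u = (J • ⊤ : Submodule A M).mkQ := by
  constructor
  · rintro ⟨w, hw⟩
    exact ⟨(J • ⊤ : Submodule A M).mkQ ∘ₗ w, by rw [LinearMap.comp_assoc, hw, LinearMap.comp_id]⟩
  · rintro ⟨v, hv⟩
    obtain ⟨w', hw'⟩ := Module.projective_lifting_property (J • ⊤ : Submodule A M).mkQ v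
      (Submodule.mkQ_surjective _)
    have hφ1 : ∀ m, (w' ∘ₗ u) m - m ∈ (J • ⊤ : Submodule A M) := by
      intro m
      rw [← Submodule.Quotient.eq]
      have h1 := LinearMap.congr_fun hv m
      have h2 := LinearMap.congr_fun hw' (u m)
      simp only [LinearMap.comp_apply, Submodule.mkQ_apply] at h1 h2 ⊢
      rw [h2, h1]
    have hbij : Function.Bijective (w' ∘ₗ u) := by
      rcases hJ with hnil | ⟨hjac, hfin⟩
      · obtain ⟨n, hn⟩ := hnil
        have hpow : ∀ (k : ℕ) (m : M), ((w' ∘ₗ u - 1) ^ k) m ∈ (J ^ k • ⊤ : Submodule A M) := by
          intro k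
          induction k with
          | zero =>
            intro m
            rw [pow_zero, Ideal.one_eq_top, Submodule.top_smul]
            trivial
          | succ k ih =>
            intro m
            have hsplit : ((w' ∘ₗ u - 1) ^ (k + 1)) m = ((w' ∘ₗ u - 1) ^ k) ((w' ∘ₗ u - 1) m) := by
              rw [pow_succ (w' ∘ₗ u - 1) k, Module.End.mul_apply]
            rw [hsplit]
            have hm : (w' ∘ₗ u - 1) m ∈ (J • ⊤ : Submodule A M) := by
              simpa using hφ1 m
            refine Submodule.smul_induction_on hm ?_ ?_
            · intro a ha x _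
              rw [map_smul, pow_succ J k, mul_comm, Submodule.mul_smul]
              exact Submodule.smul_mem_smul ha (ih x)
            · intro x y hx hy
              rw [map_add]
              exact add_mem hx hy
        have hnil' : IsNilpotent (w' ∘ₗ u - 1) := by
          refine ⟨n, ?_⟩
          ext m
          have := hpow n m
          rw [hn, Submodule.zero_eq_bot, Submodule.bot_smul, Submodule.mem_bot] at this
          simpa using this
        have hunit : IsUnit (w' ∘ₗ u) := by
          have := hnil'.isUnit_add_one
          simpa using this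
        exact (Module.End.isUnit_iff _).mp hunit
      · have hsurj : Function.Surjective (w' ∘ₗ u) := by
          rw [← LinearMap.range_eq_top]
          apply top_le_iff.mp
          apply Submodule.le_of_le_smul_of_le_jacobson_bot (Module.finite_def.mp hfin) hjac
          intro m _
          rw [Submodule.mem_sup]
          refine ⟨(w' ∘ₗ u) m, ⟨m, rfl⟩, m - (w' ∘ₗ u) m, ?_, by abel⟩
          have := (J • ⊤ : Submodule A M).neg_mem (hφ1 m)
          simpa using this
        exact ⟨OrzechProperty.injective_of_surjective_endomorphism _ hsurj, hsurj⟩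
    refine ⟨(LinearEquiv.ofBijective (w' ∘ₗ u) hbij).symm.toLinearMap ∘ₗ w', ?_⟩
    ext m
    simp only [LinearMap.comp_apply, LinearEquiv.coe_coe, LinearMap.id_apply]
    rw [LinearEquiv.symm_apply_eq]
    rfl

end Groth.Agent.S4529
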