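import Groth.Statements.S4530
import Mathlib
import Groth.Agent.Lib.Helper7LeftInv

set_option autoImplicit false
universe u
open EGA41

namespace Groth.Agent.S4530

open TensorProduct in
/-- Let A be a ring, M an A-module of finite type, N a projective A-module, u : M → N a homomorphism.
For a prime ideal 𝔭 the following are equivalent: (a) u_𝔭 : M_𝔭 → N_𝔭 is left invertible; (b) u ⊗ 1
: M ⊗ k(𝔭) → N ⊗ k(𝔭) is injective; (d) there is f ∉ 𝔭 with u_f : M_f → N_f left invertible.
Moreover the set of such 𝔭 is open in Spec A. (The published statement also has a determinant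
criterion (c); this row omits it.) -/
theorem result {A : Type u} [CommRing A] {M N : Type u} [AddCommGroup M] [Module A M]
    [Module.Finite A M] [AddCommGroup N] [Module A N] [Module.Projective A N] (u : M →ₗ[A] N) :
    (∀ p : PrimeSpectrum A,
      [∃ w : LocalizedModule p.asIdeal.primeCompl N →ₗ[A] LocalizedModule p.asIdeal.primeCompl M,
          w ∘ₗ LocalizedModule.map p.asIdeal.primeCompl u = LinearMap.id,
       Function.Injective (u.lTensor p.asIdeal.ResidueField),
       ∃ f : A, f ∉ p.asIdeal ∧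
          ∃ w : LocalizedModule (Submonoid.powers f) N →ₗ[A] LocalizedModule (Submonoid.powers f) M,
            w ∘ₗ LocalizedModule.map (Submonoid.powers f) u = LinearMap.id].TFAE) ∧
    IsOpen {p : PrimeSpectrum A |
      ∃ w : LocalizedModule p.asIdeal.primeCompl N →ₗ[A] LocalizedModule p.asIdeal.primeCompl M,
        w ∘ₗ LocalizedModule.map p.asIdeal.primeCompl u = LinearMap.id} := by
  classical
  obtain ⟨T, α, β, hαβ⟩ := Groth.Agent.Lib.Helper7.LeftInv.exists_factor_finite_free u
  let u' : M →ₗ[A] (T → A) := α ∘ₗ u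
  have hu : β ∘ₗ u' = u := hαβ
  have key1 : ∀ S : Submonoid A, Groth.Agent.Lib.Helper7.LeftInv.LI S u ↔
      Groth.Agent.Lib.Helper7.LeftInv.LI S u' := fun S =>
    ⟨fun h => Groth.Agent.Lib.Helper7.LeftInv.LI_of_comp S u' β (by rwa [hu]),
      fun h => Groth.Agent.Lib.Helper7.LeftInv.LI_of_comp S u α h⟩
  have key2 : ∀ p : PrimeSpectrum A, Function.Injective (u.lTensor p.asIdeal.ResidueField) ↔
      Function.Injective (u'.lTensor p.asIdeal.ResidueField) := by
    intro p
    constructor
    · intro h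
      have h1 : u.lTensor p.asIdeal.ResidueField =
          β.lTensor p.asIdeal.ResidueField ∘ₗ u'.lTensor p.asIdeal.ResidueField := by
        rw [← LinearMap.lTensor_comp, hu]
      rw [h1] at h
      exact Function.Injective.of_comp h
    · intro h
      have h1 : u'.lTensor p.asIdeal.ResidueField =
          α.lTensor p.asIdeal.ResidueField ∘ₗ u.lTensor p.asIdeal.ResidueField := by
        rw [← LinearMap.lTensor_comp]
      rw [h1] at h
      exact Function.Injective.of_comp h
  have hda : ∀ (p : PrimeSpectrum A) (f : A), f ∉ p.asIdeal →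
      Groth.Agent.Lib.Helper7.LeftInv.LI (Submonoid.powers f) u →
      Groth.Agent.Lib.Helper7.LeftInv.LI p.asIdeal.primeCompl u := fun p f hf h =>
    Groth.Agent.Lib.Helper7.LeftInv.LI_of_le (Submonoid.powers_le.2 hf) u h
  have had : ∀ (p : PrimeSpectrum A), Groth.Agent.Lib.Helper7.LeftInv.LI p.asIdeal.primeCompl u →
      ∃ f : A, f ∉ p.asIdeal ∧ Groth.Agent.Lib.Helper7.LeftInv.LI (Submonoid.powers f) u := by
    intro p h
    obtain ⟨f, hf, hLI⟩ := Groth.Agent.Lib.Helper7.LeftInv.exists_LI_powers_of_LI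
      p.asIdeal.primeCompl u' ((key1 _).1 h)
    exact ⟨f, hf, (key1 _).2 hLI⟩
  refine ⟨fun p => ?_, ?_⟩
  · tfae_have 1 → 2 := fun h =>
      (key2 p).2 ((Groth.Agent.Lib.Helper7.LeftInv.LI_iff_injective p.asIdeal u').1 ((key1 _).1 h))
    tfae_have 2 → 3 := fun h =>
      had p ((key1 _).2 ((Groth.Agent.Lib.Helper7.LeftInv.LI_iff_injective p.asIdeal u').2
        ((key2 p).1 h)))
    tfae_have 3 → 1 := fun ⟨f, hf, h⟩ => hda p f hf h
    tfae_finish
  · rw [isOpen_iff_forall_mem_open]
    intro p hp
    obtain ⟨f, hf, hLI⟩ := had p hp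
    refine ⟨(PrimeSpectrum.basicOpen f : Set (PrimeSpectrum A)), ?_, (PrimeSpectrum.basicOpen f).isOpen, ?_⟩
    · intro q hq
      exact hda q f hq hLI
    · exact hf


end Groth.Agent.S4530
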