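import Groth.Statements.S4531
import Mathlib
-- import your own Groth.Agent.* helpers here

set_option autoImplicit false
universe u
open EGA41

namespace Groth.Agent.S4531.Aux
set_option autoImplicit false
namespace LInv
open TensorProduct

variable {A : Type u} [CommRing A] {M N : Type u} [AddCommGroup M] [Module A M]
  [AddCommGroup N] [Module A N]

theorem reduction [Module.Finite A M] [Module.Projective A N] (u : M →ₗ[A] N) :
    ∃ (ι : Type u) (_ : Fintype ι) (u₀ : M →ₗ[A] (ι → A)) (g : (ι → A) →ₗ[A] N)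
      (h : N →ₗ[A] (ι → A)), g ∘ₗ u₀ = u ∧ h ∘ₗ u = u₀ := by
  classical
  obtain ⟨s, hs⟩ := Module.projective_def'.mp (inferInstance : Module.Projective A N)
  obtain ⟨n, x, hx⟩ := Module.Finite.exists_fin (R := A) (M := M)
  let Sfin : Finset N := Finset.univ.biUnion fun i : Fin n => (s (u (x i))).support
  let ι := ↥Sfin
  let ρ : (N →₀ A) →ₗ[A] (ι → A) := LinearMap.pi fun t => Finsupp.lapply t.1
  let ε : (ι → A) →ₗ[A] (N →₀ A) :=
    Fintype.linearCombination A (fun t : ι => Finsupp.single t.1 (1 : A))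
  have hερ : ∀ F : N →₀ A, F.support ⊆ Sfin → ε (ρ F) = F := by
    intro F hF
    simp only [ε, ρ, Fintype.linearCombination_apply, LinearMap.pi_apply, Finsupp.lapply_apply,
      Finsupp.smul_single, smul_eq_mul, mul_one]
    rw [Finset.sum_coe_sort Sfin (fun t => Finsupp.single t (F t))]
    conv_rhs => rw [← Finsupp.sum_single F]
    rw [Finsupp.sum]
    symm
    apply Finset.sum_subset hF
    intro t _ ht
    rw [Finsupp.notMem_support_iff.mp ht, Finsupp.single_zero]
  have hkey : (ε ∘ₗ ρ ∘ₗ s ∘ₗ u) = s ∘ₗ u := by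
    apply LinearMap.ext_on_range hx
    intro i
    simp only [LinearMap.comp_apply]
    apply hερ
    intro t ht
    exact Finset.mem_biUnion.mpr ⟨i, Finset.mem_univ i, ht⟩
  refine ⟨ι, inferInstance, ρ ∘ₗ s ∘ₗ u, Finsupp.linearCombination A id ∘ₗ ε, ρ ∘ₗ s, ?_, rfl⟩
  apply LinearMap.ext
  intro y
  have h1 := LinearMap.congr_fun hkey y
  simp only [LinearMap.comp_apply] at h1 ⊢
  rw [h1]
  exact LinearMap.congr_fun hs (u y)


lemma exists_common_mul {S : Submonoid A} {κ : Type*} [Fintype κ] (c : κ → S) :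
    ∃ C : S, ∀ i, ∃ d : A, (C : A) = d * c i := by
  classical
  refine ⟨∏ i, c i, fun i => ⟨∏ j ∈ Finset.univ.erase i, (c j : A), ?_⟩⟩
  rw [Submonoid.coe_finsetProd, Finset.prod_erase_mul _ _ (Finset.mem_univ i)]

theorem ff_local [Module.Finite A M] {ι : Type u} [Fintype ι] (u₀ : M →ₗ[A] (ι → A))
    (hloc : ∀ (m : Ideal A) [m.IsMaximal],
      ∃ w : LocalizedModule m.primeCompl (ι → A) →ₗ[A] LocalizedModule m.primeCompl M,
        w ∘ₗ (LocalizedModule.map m.primeCompl u₀).restrictScalars A = LinearMap.id) :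
    ∃ w₀ : (ι → A) →ₗ[A] M, w₀ ∘ₗ u₀ = LinearMap.id := by
  classical
  obtain ⟨n, x, hx⟩ := Module.Finite.exists_fin (R := A) (M := M)
  let 𝔞 : Ideal A :=
    { carrier := {a | ∃ w : (ι → A) →ₗ[A] M, w ∘ₗ u₀ = a • LinearMap.id}
      add_mem' := by
        rintro a b ⟨w₁, h₁⟩ ⟨w₂, h₂⟩
        exact ⟨w₁ + w₂, by rw [LinearMap.add_comp, h₁, h₂, add_smul]⟩
      zero_mem' := ⟨0, by rw [LinearMap.zero_comp, zero_smul]⟩
      smul_mem' := by
        rintro c a ⟨w, h⟩
        exact ⟨c • w, by rw [LinearMap.smul_comp, h, smul_smul, smul_eq_mul]⟩ }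
  have h𝔞 : 𝔞 = ⊤ := by
    by_contra hne
    obtain ⟨m, hm, hle⟩ := Ideal.exists_le_maximal 𝔞 hne
    obtain ⟨W, hW⟩ := hloc m
    let S := m.primeCompl
    let fP := LocalizedModule.mkLinearMap S (ι → A)
    let fM := LocalizedModule.mkLinearMap S M
    have hden : ∀ s : ι, ∃ (y : M) (t : S), t • W (fP (Pi.single s 1)) = fM y := by
      intro s
      obtain ⟨⟨y, t⟩, h⟩ := IsLocalizedModule.surj S fM (W (fP (Pi.single s 1)))
      exact ⟨y, t, h⟩
    choose y t ht using hden
    obtain ⟨T, hT⟩ := exists_common_mul t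
    choose d hd using hT
    let w : (ι → A) →ₗ[A] M := Fintype.linearCombination A (fun s => d s • y s)
    have hw : fM ∘ₗ w = ((T : A) • W) ∘ₗ fP := by
      apply (Pi.basisFun A ι).ext
      intro s
      simp only [LinearMap.comp_apply, Pi.basisFun_apply, w, LinearMap.smul_apply]
      rw [Fintype.linearCombination_apply_single, one_smul, map_smul, ← ht s, hd s, mul_smul]
      rfl
    have hgen : ∀ i : Fin n, ∃ c : S, c • (w (u₀ (x i))) = c • ((T : A) • x i) := by
      intro i
      apply IsLocalizedModule.exists_of_eq (S := S) (f := fM)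
      have h1 := LinearMap.congr_fun hw (u₀ (x i))
      simp only [LinearMap.comp_apply, LinearMap.smul_apply] at h1
      have h3 : (LocalizedModule.map S u₀) (fM (x i)) = fP (u₀ (x i)) := by
        change LocalizedModule.map S u₀ (LocalizedModule.mk (x i) 1) =
          LocalizedModule.mk (u₀ (x i)) 1
        rw [LocalizedModule.map_mk]
      have h2 := LinearMap.congr_fun hW (fM (x i))
      simp only [LinearMap.comp_apply, LinearMap.id_apply, LinearMap.restrictScalars_apply] at h2
      rw [h3] at h2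
      rw [h1, h2, map_smul]
    choose c hc using hgen
    obtain ⟨C, hC⟩ := exists_common_mul c
    choose e he using hC
    have hmem : (C : A) * (T : A) ∈ 𝔞 := by
      refine ⟨(C : A) • w, ?_⟩
      apply LinearMap.ext_on_range hx
      intro i
      simp only [LinearMap.comp_apply, LinearMap.smul_apply, LinearMap.id_apply]
      have := hc i
      rw [Submonoid.smul_def, Submonoid.smul_def] at this
      calc (C : A) • w (u₀ (x i)) = e i • ((c i : A) • w (u₀ (x i))) := by rw [he i, mul_smul]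
        _ = e i • ((c i : A) • ((T : A) • x i)) := by rw [this]
        _ = ((C : A) * T) • x i := by rw [he i, mul_smul, mul_smul]
    have h1 : (C : A) * (T : A) ∈ m := hle hmem
    have h2 : (C : A) * (T : A) ∈ S := S.mul_mem C.2 T.2
    exact h2 h1
  have h1 : (1 : A) ∈ 𝔞 := by rw [h𝔞]; trivial
  obtain ⟨w, hw⟩ := h1
  exact ⟨w, by rw [hw, one_smul]⟩


lemma lTensor_pi_ext {A' : Type u} [CommRing A'] [Algebra A A'] {n : ℕ}
    (y₁ y₂ : A' ⊗[A] (Fin n → M))
    (h : ∀ j, (LinearMap.proj (R := A) (φ := fun _ : Fin n => M) j).lTensor A' y₁ =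
      (LinearMap.proj (R := A) (φ := fun _ : Fin n => M) j).lTensor A' y₂) : y₁ = y₂ := by
  apply (TensorProduct.piRight A A A' (fun _ : Fin n => M)).injective
  have key : ∀ (y : A' ⊗[A] (Fin n → M)) (j : Fin n),
      TensorProduct.piRight A A A' (fun _ : Fin n => M) y j =
        (LinearMap.proj (R := A) (φ := fun _ : Fin n => M) j).lTensor A' y := by
    intro y j
    induction y using TensorProduct.induction_on with
    | zero => simp
    | tmul a f =>
      rw [TensorProduct.piRight_apply, TensorProduct.piRightHom_tmul, LinearMap.lTensor_tmul]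
      rfl
    | add y z hy hz => rw [map_add, map_add, Pi.add_apply, hy, hz]
  funext j
  rw [key, key, h]

lemma lTensor_sum_smul {A' : Type u} [CommRing A'] [Algebra A A'] {P Q : Type u}
    [AddCommGroup P] [Module A P] [AddCommGroup Q] [Module A Q] {κ : Type*} [Fintype κ]
    (c : κ → A) (g : κ → (P →ₗ[A] Q)) (z : A' ⊗[A] P) :
    (∑ s, c s • g s).lTensor A' z = ∑ s, c s • (g s).lTensor A' z := by
  have : (∑ s, c s • g s).lTensor A' = ∑ s, c s • (g s).lTensor A' := by
    rw [← LinearMap.coe_lTensorHom, map_sum]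
    refine Finset.sum_congr rfl fun s _ => ?_
    rw [map_smul]
  rw [this, LinearMap.sum_apply]
  rfl

theorem ff_ff [Module.Finite A M] {ι : Type u} [Fintype ι] (u₀ : M →ₗ[A] (ι → A))
    (A' : Type u) [CommRing A'] [Algebra A A'] [Module.FaithfullyFlat A A']
    (hw' : ∃ w' : A' ⊗[A] (ι → A) →ₗ[A'] A' ⊗[A] M, w' ∘ₗ u₀.baseChange A' = LinearMap.id) :
    ∃ w₀ : (ι → A) →ₗ[A] M, w₀ ∘ₗ u₀ = LinearMap.id := by
  classical
  obtain ⟨w', hw'⟩ := hw'
  obtain ⟨n, x, hx⟩ := Module.Finite.exists_fin (R := A) (M := M)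
  let Γ : (ι → M) →ₗ[A] (Fin n → M) :=
    LinearMap.pi fun i => ∑ s, (u₀ (x i) s) • LinearMap.proj s
  suffices hmem : x ∈ LinearMap.range Γ by
    obtain ⟨mm, hmm⟩ := hmem
    refine ⟨Fintype.linearCombination A mm, ?_⟩
    apply LinearMap.ext_on_range hx
    intro i
    rw [LinearMap.comp_apply, LinearMap.id_apply, Fintype.linearCombination_apply]
    have := congrFun hmm i
    simpa [Γ] using this
  let f : A →ₗ[A] ((Fin n → M) ⧸ LinearMap.range Γ) :=
    (LinearMap.range Γ).mkQ ∘ₗ LinearMap.toSpanSingleton A _ x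
  -- the element z
  let z : A' ⊗[A] (ι → M) :=
    ∑ t, (LinearMap.single A (fun _ : ι => M) t).lTensor A' (w' ((1 : A') ⊗ₜ Pi.single t 1))
  have hprojz : ∀ s, (LinearMap.proj (R := A) (φ := fun _ : ι => M) s).lTensor A' z =
      w' ((1 : A') ⊗ₜ Pi.single s 1) := by
    intro s
    simp only [z, map_sum]
    rw [Finset.sum_eq_single s]
    · rw [← LinearMap.lTensor_comp_apply, LinearMap.proj_comp_single_same, LinearMap.lTensor_id,
        LinearMap.id_apply]
    · intro t _ hts
      rw [← LinearMap.lTensor_comp_apply, LinearMap.proj_comp_single_ne _ _ _ _ (Ne.symm hts),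
        LinearMap.lTensor_zero, LinearMap.zero_apply]
    · intro h; exact absurd (Finset.mem_univ s) h
  have hz : Γ.lTensor A' z = (1 : A') ⊗ₜ[A] x := by
    apply lTensor_pi_ext
    intro j
    rw [← LinearMap.lTensor_comp_apply, LinearMap.lTensor_tmul]
    have hpj : (LinearMap.proj (R := A) (φ := fun _ : Fin n => M) j) ∘ₗ Γ =
        ∑ s, (u₀ (x j) s) • LinearMap.proj s := by
      simp only [Γ, LinearMap.proj_pi]
    rw [hpj, lTensor_sum_smul]
    simp_rw [hprojz]
    have h1 : ∀ s, (u₀ (x j) s) • w' ((1 : A') ⊗ₜ[A] (Pi.single s 1 : ι → A)) =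
        w' ((1 : A') ⊗ₜ[A] ((u₀ (x j) s) • (Pi.single s 1 : ι → A))) := by
      intro s
      rw [TensorProduct.tmul_smul]
      exact ((w'.restrictScalars A).map_smul _ _).symm
    simp_rw [h1]
    rw [← map_sum, ← TensorProduct.tmul_sum]
    have h2 : ∑ s, (u₀ (x j) s) • (Pi.single s 1 : ι → A) = u₀ (x j) := by
      funext t
      simp [Finset.sum_apply, Pi.single_apply]
    rw [h2]
    have := LinearMap.congr_fun hw' ((1 : A') ⊗ₜ[A] x j)
    rw [LinearMap.comp_apply, LinearMap.baseChange_tmul, LinearMap.id_apply] at this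
    exact this
  have hkey : (1 : A') ⊗ₜ[A] ((LinearMap.range Γ).mkQ x) = 0 := by
    have h1 : (1 : A') ⊗ₜ[A] ((LinearMap.range Γ).mkQ x) =
        ((LinearMap.range Γ).mkQ).lTensor A' ((1 : A') ⊗ₜ[A] x) := by
      rw [LinearMap.lTensor_tmul]
    rw [h1, ← hz, ← LinearMap.lTensor_comp_apply]
    have : (LinearMap.range Γ).mkQ ∘ₗ Γ = 0 := by
      apply LinearMap.ext
      intro v
      rw [LinearMap.comp_apply, LinearMap.zero_apply, Submodule.mkQ_apply,
        Submodule.Quotient.mk_eq_zero]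
      exact ⟨v, rfl⟩
    rw [this, LinearMap.lTensor_zero, LinearMap.zero_apply]
  have hf : f = 0 := by
    rw [Module.FaithfullyFlat.zero_iff_lTensor_zero A A' f]
    apply TensorProduct.ext'
    intro a' a
    rw [LinearMap.lTensor_tmul, LinearMap.zero_apply]
    have : f a = a • (LinearMap.range Γ).mkQ x := by
      simp only [f, LinearMap.comp_apply, LinearMap.toSpanSingleton_apply, map_smul]
    rw [this, TensorProduct.tmul_smul, ← mul_one a', ← smul_eq_mul, ← TensorProduct.smul_tmul',
      hkey, smul_zero, smul_zero]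
  have h1 := LinearMap.congr_fun hf 1
  simp only [f, LinearMap.comp_apply, LinearMap.toSpanSingleton_apply, one_smul,
    LinearMap.zero_apply, Submodule.mkQ_apply, Submodule.Quotient.mk_eq_zero] at h1
  exact h1


lemma map_comp_apply' {P Q R' : Type u} [AddCommGroup P] [Module A P] [AddCommGroup Q] [Module A Q]
    [AddCommGroup R'] [Module A R'] (S : Submonoid A) (f : P →ₗ[A] Q) (g : Q →ₗ[A] R')
    (y : LocalizedModule S P) :
    LocalizedModule.map S g (LocalizedModule.map S f y) = LocalizedModule.map S (g ∘ₗ f) y := by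
  induction y using LocalizedModule.induction_on with
  | h a s => rw [LocalizedModule.map_mk, LocalizedModule.map_mk, LocalizedModule.map_mk]; rfl

theorem main [Module.Finite A M] [Module.Projective A N] (u : M →ₗ[A] N) :
    ((∃ w : N →ₗ[A] M, w ∘ₗ u = LinearMap.id) ↔
      ∀ (m : Ideal A) [m.IsMaximal],
        ∃ w : LocalizedModule m.primeCompl N →ₗ[A] LocalizedModule m.primeCompl M,
          w ∘ₗ LocalizedModule.map m.primeCompl u = LinearMap.id) ∧
    ∀ (A' : Type u) [CommRing A'] [Algebra A A'] [Module.FaithfullyFlat A A'],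
      (∃ w : N →ₗ[A] M, w ∘ₗ u = LinearMap.id) ↔
        ∃ w : A' ⊗[A] N →ₗ[A'] A' ⊗[A] M, w ∘ₗ u.baseChange A' = LinearMap.id := by
  obtain ⟨ι, _, u₀, g, h, hg, hh⟩ := reduction u
  refine ⟨⟨?_, ?_⟩, fun A' _ _ _ => ⟨?_, ?_⟩⟩
  · rintro ⟨w, hw⟩ m _
    refine ⟨(LocalizedModule.map m.primeCompl w).restrictScalars A, ?_⟩
    apply LinearMap.ext
    intro y
    simp only [LinearMap.comp_apply, LinearMap.restrictScalars_apply, LinearMap.id_apply]
    rw [map_comp_apply', hw, LocalizedModule.map_id, LinearMap.id_apply]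
  · intro hloc
    have hloc₀ : ∀ (m : Ideal A) [m.IsMaximal],
        ∃ w : LocalizedModule m.primeCompl (ι → A) →ₗ[A] LocalizedModule m.primeCompl M,
          w ∘ₗ (LocalizedModule.map m.primeCompl u₀).restrictScalars A = LinearMap.id := by
      intro m _
      obtain ⟨W, hW⟩ := hloc m
      refine ⟨W ∘ₗ (LocalizedModule.map m.primeCompl g).restrictScalars A, ?_⟩
      apply LinearMap.ext
      intro y
      have := LinearMap.congr_fun hW y
      simp only [LinearMap.comp_apply, LinearMap.restrictScalars_apply, LinearMap.id_apply] at this ⊢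
      rw [map_comp_apply', hg, this]
    obtain ⟨w₀, hw₀⟩ := ff_local u₀ hloc₀
    exact ⟨w₀ ∘ₗ h, by rw [LinearMap.comp_assoc, hh, hw₀]⟩
  · rintro ⟨w, hw⟩
    exact ⟨w.baseChange A', by rw [← LinearMap.baseChange_comp, hw, LinearMap.baseChange_id]⟩
  · rintro ⟨w', hw'⟩
    obtain ⟨w₀, hw₀⟩ := ff_ff u₀ A' ⟨w' ∘ₗ g.baseChange A', by
      rw [LinearMap.comp_assoc, ← LinearMap.baseChange_comp, hg, hw']⟩
    exact ⟨w₀ ∘ₗ h, by rw [LinearMap.comp_assoc, hh, hw₀]⟩

end LInv

end Groth.Agent.S4531.Aux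

namespace Groth.Agent.S4531

open TensorProduct in
/-- Let A be a ring, M an A-module of finite type, N a projective A-module and u : M → N a homomorphism.
(i) u is left invertible if and only if u_𝔪 : M_𝔪 → N_𝔪 is left invertible for every maximal ideal 𝔪
of A. (ii) If A' is an A-algebra which is a faithfully flat A-module, u is left invertible if and
only if u ⊗ 1 : M ⊗_A A' → N ⊗_A A' is left invertible (as an A'-linear map). -/
theorem result {A : Type u} [CommRing A] {M N : Type u} [AddCommGroup M] [Module A M]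
    [Module.Finite A M] [AddCommGroup N] [Module A N] [Module.Projective A N] (u : M →ₗ[A] N) :
    ((∃ w : N →ₗ[A] M, w ∘ₗ u = LinearMap.id) ↔
      ∀ (m : Ideal A) [m.IsMaximal],
        ∃ w : LocalizedModule m.primeCompl N →ₗ[A] LocalizedModule m.primeCompl M,
          w ∘ₗ LocalizedModule.map m.primeCompl u = LinearMap.id) ∧
    ∀ (A' : Type u) [CommRing A'] [Algebra A A'] [Module.FaithfullyFlat A A'],
      (∃ w : N →ₗ[A] M, w ∘ₗ u = LinearMap.id) ↔
        ∃ w : A' ⊗[A] N →ₗ[A'] A' ⊗[A] M, w ∘ₗ u.baseChange A' = LinearMap.id := by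
  exact Aux.LInv.main u

end Groth.Agent.S4531
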