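import Groth.Statements.S4544
import Mathlib
import Groth.Agent.Lib.Helper5FSAdic

set_option autoImplicit false
universe u
open EGA41

namespace Groth.Agent.S4544

open TensorProduct in
/-- Let B (𝔟-adic) be a formally smooth topological A-algebra over A (𝔞-adic), the structure map being
continuous (a power of 𝔞 maps into 𝔟); squares of open ideals of B are then open. For every open
ideal 𝔄 of B (an ideal containing a power of 𝔟), Ω_{B/A} ⊗_B (B/𝔄) = Ω_{B/A}/𝔄Ω_{B/A} is a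
projective (B/𝔄)-module. -/
theorem result {A B : Type u} [CommRing A] [CommRing B] [Algebra A B]
    (𝔞 : Ideal A) (𝔟 : Ideal B) (hAB : ∃ k : ℕ, (𝔞 ^ k).map (algebraMap A B) ≤ 𝔟)
    (h : EGA41.IsFormallySmoothAdic A 𝔞 B 𝔟) (𝔄 : Ideal B) (h𝔄 : ∃ n : ℕ, 𝔟 ^ n ≤ 𝔄) :
    Module.Projective (B ⧸ 𝔄) ((B ⧸ 𝔄) ⊗[B] Ω[B⁄A]) := by
  rw [Module.projective_def']
  let D'' : Derivation A B ((B ⧸ 𝔄) ⊗[B] Ω[B⁄A]) :=
    (TensorProduct.mk B (B ⧸ 𝔄) Ω[B⁄A] 1).compDer (KaehlerDifferential.D A B)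
  have hD'' : ∀ b, D'' b = (1 : B ⧸ 𝔄) ⊗ₜ[B] KaehlerDifferential.D A B b := fun _ => rfl
  obtain ⟨D, hD⟩ := Groth.Agent.Lib.Helper5.exists_derivation_lift 𝔞 𝔟 hAB h 𝔄 h𝔄
    (Finsupp.linearCombination (B ⧸ 𝔄) (id : (B ⧸ 𝔄) ⊗[B] Ω[B⁄A] → (B ⧸ 𝔄) ⊗[B] Ω[B⁄A]))
    (Finsupp.linearCombination_surjective _ Function.surjective_id) D''
  refine ⟨LinearMap.liftBaseChange (B ⧸ 𝔄) D.liftKaehlerDifferential, ?_⟩
  have key : ∀ ω : Ω[B⁄A],
      Finsupp.linearCombination (B ⧸ 𝔄) (id : (B ⧸ 𝔄) ⊗[B] Ω[B⁄A] → (B ⧸ 𝔄) ⊗[B] Ω[B⁄A])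
        (D.liftKaehlerDifferential ω) = (1 : B ⧸ 𝔄) ⊗ₜ[B] ω := by
    intro ω
    have hs : ω ∈ Submodule.span B (Set.range (KaehlerDifferential.D A B)) := by
      rw [KaehlerDifferential.span_range_derivation]; trivial
    induction hs using Submodule.span_induction with
    | mem x hx =>
      obtain ⟨b, rfl⟩ := hx
      rw [Derivation.liftKaehlerDifferential_comp_D, hD, hD'']
    | zero => simp
    | add x y _ _ hx hy => simp only [map_add, hx, hy, TensorProduct.tmul_add]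
    | smul b x _ hx =>
      rw [map_smul, LinearMap.map_smul_of_tower, hx, TensorProduct.tmul_smul]
  ext b
  simpa using key (KaehlerDifferential.D A B b)

end Groth.Agent.S4544
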