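import Groth.Statements.S4547
import Mathlib
-- import your own Groth.Agent.* helpers here

set_option autoImplicit false
universe u
open EGA41

namespace Groth.Agent.S4547.Aux
set_option autoImplicit false
namespace LeftInv
open IsLocalRing TensorProduct Matrix

variable {A : Type u} [CommRing A] [IsLocalRing A] {M N : Type u}
    [AddCommGroup M] [Module A M] [AddCommGroup N] [Module A N] [Module.Projective A N]

/-- the key construction -/
theorem key (u : M →ₗ[A] N) (m : ℕ) (x : Fin m → M)
    (hli : LinearIndependent (ResidueField A) (fun i => (1 : ResidueField A) ⊗ₜ[A] u (x i))) :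
    ∃ π : N →ₗ[A] (Fin m → A), ∀ i, π (u (x i)) = Pi.single i 1 := by
  classical
  set k := ResidueField A
  set v : Fin m → k ⊗[A] N := fun i => (1 : k) ⊗ₜ[A] u (x i) with hv
  -- dual functionals
  have hdual : ∀ j : Fin m, ∃ ℓ : (k ⊗[A] N) →ₗ[k] k, ∀ i, ℓ (v i) = if i = j then 1 else 0 := by
    intro j
    let f : Submodule.span k (Set.range v) →ₗ[k] k :=
      (Finsupp.lapply j) ∘ₗ hli.repr
    obtain ⟨g, hg⟩ := LinearMap.exists_extend f
    refine ⟨g, fun i => ?_⟩
    have hmem : v i ∈ Submodule.span k (Set.range v) := Submodule.subset_span ⟨i, rfl⟩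
    have h1 : g (v i) = f ⟨v i, hmem⟩ := by
      rw [← hg]; rfl
    rw [h1]
    simp only [f, LinearMap.comp_apply, Finsupp.lapply_apply]
    rw [hli.repr_eq_single i ⟨v i, hmem⟩ rfl, Finsupp.single_apply]
  choose ℓ hℓ using hdual
  -- lift to A
  have hlift : ∀ j : Fin m, ∃ L : N →ₗ[A] A, ∀ n, residue A (L n) = ℓ j ((1 : k) ⊗ₜ[A] n) := by
    intro j
    let g : N →ₗ[A] k := (ℓ j).restrictScalars A ∘ₗ (TensorProduct.mk A k N 1)
    obtain ⟨L, hL⟩ := Module.projective_lifting_property (Algebra.linearMap A k) g
      (residue_surjective)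
    refine ⟨L, fun n => ?_⟩
    have := LinearMap.congr_fun hL n
    exact this
  choose L hL using hlift
  let P : Matrix (Fin m) (Fin m) A := Matrix.of fun j i => L j (u (x i))
  have hPres : P.map (residue A) = 1 := by
    ext j i
    simp only [Matrix.map_apply, P, Matrix.of_apply, hL, Matrix.one_apply]
    rw [show (1 : k) ⊗ₜ[A] u (x i) = v i from rfl, hℓ]
    simp [eq_comm]
  have hdet : IsUnit P.det := by
    rw [← residue_ne_zero_iff_isUnit, RingHom.map_det]
    rw [show (residue A).mapMatrix P = P.map (residue A) from rfl, hPres, Matrix.det_one]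
    exact one_ne_zero
  let R := P⁻¹
  have hRP : R * P = 1 := Matrix.nonsing_inv_mul P hdet
  let Lvec : N →ₗ[A] (Fin m → A) := LinearMap.pi L
  let π : N →ₗ[A] (Fin m → A) := (Matrix.mulVecLin R) ∘ₗ Lvec
  refine ⟨π, fun i => ?_⟩
  have h1 : Lvec (u (x i)) = P.col i := by
    funext j; rfl
  change R *ᵥ (Lvec (u (x i))) = _
  rw [h1]
  have : P.col i = P *ᵥ (Pi.single i 1) := by
    rw [Matrix.mulVec_single_one]
  rw [this, Matrix.mulVec_mulVec, hRP, Matrix.one_mulVec]

theorem part_b (u : M →ₗ[A] N) (m : ℕ) (x : Fin m → M)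
    (hspan : Submodule.span A (Set.range x) = ⊤)
    (hli : LinearIndependent (ResidueField A) (fun i => (1 : ResidueField A) ⊗ₜ[A] u (x i))) :
    (∃ b : Module.Basis (Fin m) A M, ∀ i, b i = x i) ∧ (∃ w : N →ₗ[A] M, w ∘ₗ u = LinearMap.id) := by
  classical
  obtain ⟨π, hπ⟩ := key u m x hli
  have hlin : LinearIndependent A x := by
    rw [Fintype.linearIndependent_iff]
    intro c hc i
    have h1 : π (u (∑ j, c j • x j)) = 0 := by rw [hc, map_zero, map_zero]
    rw [map_sum, map_sum] at h1
    simp_rw [map_smul, hπ] at h1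
    have := congrFun h1 i
    simpa [Finset.sum_apply, Pi.single_apply] using this
  refine ⟨⟨Module.Basis.mk hlin (by rw [hspan]), fun i => Module.Basis.mk_apply _ _ i⟩, ?_⟩
  let w : N →ₗ[A] M := (Fintype.linearCombination A x) ∘ₗ π
  refine ⟨w, ?_⟩
  have hwx : ∀ i, w (u (x i)) = x i := by
    intro i
    simp only [w, LinearMap.comp_apply, hπ]
    rw [Fintype.linearCombination_apply_single, one_smul]
  apply LinearMap.ext_on_range hspan
  intro i
  rw [LinearMap.comp_apply, hwx, LinearMap.id_apply]

theorem main [Module.Finite A M] (u : M →ₗ[A] N) :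
    ((∃ w : N →ₗ[A] M, w ∘ₗ u = LinearMap.id) ↔
      ∃ (m : ℕ) (x : Fin m → M), Submodule.span A (Set.range x) = ⊤ ∧
        LinearIndependent (ResidueField A) (fun i => (1 : ResidueField A) ⊗ₜ[A] u (x i))) ∧
    ∀ (m : ℕ) (x : Fin m → M), Submodule.span A (Set.range x) = ⊤ →
      LinearIndependent (ResidueField A) (fun i => (1 : ResidueField A) ⊗ₜ[A] u (x i)) →
        ∃ b : Module.Basis (Fin m) A M, ∀ i, b i = x i := by
  classical
  refine ⟨⟨?_, ?_⟩, fun m x hs hl => (part_b u m x hs hl).1⟩
  · rintro ⟨w, hw⟩
    have : Module.Projective A M := Module.Projective.of_split u w hw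
    have : Module.Free A M := Module.free_of_flat_of_isLocalRing
    let b := Module.finBasis A M
    refine ⟨_, b, b.span_eq, ?_⟩
    let W : ResidueField A ⊗[A] N →ₗ[ResidueField A] ResidueField A ⊗[A] M :=
      w.baseChange (ResidueField A)
    apply LinearIndependent.of_comp W
    have : (W ∘ fun i => (1 : ResidueField A) ⊗ₜ[A] u (b i)) = b.baseChange (ResidueField A) := by
      funext i
      simp only [Function.comp_apply, W, LinearMap.baseChange_tmul, Module.Basis.baseChange_apply]
      congr 1
      exact LinearMap.congr_fun hw (b i)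
    rw [this]
    exact (b.baseChange (ResidueField A)).linearIndependent
  · rintro ⟨m, x, hs, hl⟩
    exact (part_b u m x hs hl).2

end LeftInv

end Groth.Agent.S4547.Aux

namespace Groth.Agent.S4547

open IsLocalRing TensorProduct in
/-- Let A be a local ring with residue field k, M an A-module of finite type, N a projective A-module
and u : M → N a homomorphism. Then u is left invertible if and only if there is a finite system of
generators (x_i) of M such that the elements 1 ⊗ u(x_i) of k ⊗_A N are linearly independent over k;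
and such a system (x_i) is then a basis of M. -/
theorem result {A : Type u} [CommRing A] [IsLocalRing A] {M N : Type u}
    [AddCommGroup M] [Module A M] [Module.Finite A M] [AddCommGroup N] [Module A N] [Module.Projective A N]
    (u : M →ₗ[A] N) :
    ((∃ w : N →ₗ[A] M, w ∘ₗ u = LinearMap.id) ↔
      ∃ (m : ℕ) (x : Fin m → M), Submodule.span A (Set.range x) = ⊤ ∧
        LinearIndependent (ResidueField A) (fun i => (1 : ResidueField A) ⊗ₜ[A] u (x i))) ∧
    ∀ (m : ℕ) (x : Fin m → M), Submodule.span A (Set.range x) = ⊤ →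
      LinearIndependent (ResidueField A) (fun i => (1 : ResidueField A) ⊗ₜ[A] u (x i)) →
        ∃ b : Module.Basis (Fin m) A M, ∀ i, b i = x i := by
  exact Aux.LeftInv.main u

end Groth.Agent.S4547
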