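import Groth.Statements.S4548
import Groth.Agent.Lib.Helper7PsFree
import Groth.Agent.Lib.Helper7PFamily

set_option autoImplicit false
universe u
open EGA41

namespace Groth.Agent.S4548

/-- Let k be a field of characteristic p > 0, A = k[[T_1, …, T_r]] and K its field of fractions. Then
there is a decreasing filtered family (A_α) of Noetherian subrings of A (rendered: a nonempty
family, directed downwards for inclusion) such that A is a free A_α-module of finite type for every
α and, K_α denoting the subfield of K generated by A_α (its field of fractions inside K), ⋂_α K_α =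
K^p. -/
theorem result (p : ℕ) [Fact p.Prime] (k : Type u) [Field k] [CharP k p]
    (r : ℕ) :
    ∃ (ι : Type u) (_ : Nonempty ι) (S : ι → Subring (MvPowerSeries (Fin r) k)),
      (∀ a b : ι, ∃ c, S c ≤ S a ⊓ S b) ∧
      (∀ i, IsNoetherianRing (S i) ∧ Module.Free (S i) (MvPowerSeries (Fin r) k) ∧ Module.Finite (S i) (MvPowerSeries (Fin r) k)) ∧
      ((⨅ i, Subfield.closure (algebraMap (MvPowerSeries (Fin r) k) (FractionRing (MvPowerSeries (Fin r) k)) '' (S i)) :
          Set (FractionRing (MvPowerSeries (Fin r) k)))) =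
        Set.range fun x : FractionRing (MvPowerSeries (Fin r) k) => x ^ p := by
  classical
  obtain ⟨I, F, hF1, hF2, hF3, hF4⟩ := Groth.Agent.Lib.Helper7.PFamily.exists_family k p
  refine ⟨Finset I, ⟨∅⟩, fun S => Groth.Agent.Lib.Helper7.PsFam.Rsub (σ := Fin r) p (F S), ?_, ?_, ?_⟩
  · intro a b
    exact ⟨a ∪ b, le_inf
      (Groth.Agent.Lib.Helper7.PsFam.Rsub_mono (hF2 _ _ Finset.subset_union_left))
      (Groth.Agent.Lib.Helper7.PsFam.Rsub_mono (hF2 _ _ Finset.subset_union_right))⟩
  · intro S
    haveI := hF4 S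
    obtain ⟨h1, h2⟩ := Groth.Agent.Lib.Helper7.PsFree.free_finite_Rsub (σ := Fin r) p (F S)
    exact ⟨Groth.Agent.Lib.Helper7.PsFree.isNoetherianRing_Rsub p r (F S), h1, h2⟩
  · ext z
    have hK : ∀ S : Finset I, Subfield.closure
        (algebraMap (MvPowerSeries (Fin r) k) (FractionRing (MvPowerSeries (Fin r) k)) ''
          (Groth.Agent.Lib.Helper7.PsFam.Rsub (σ := Fin r) p (F S) : Set (MvPowerSeries (Fin r) k))) =
        Groth.Agent.Lib.Helper7.PsFam.Ksub (Fin r) p (FractionRing (MvPowerSeries (Fin r) k)) (F S) :=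
      fun S => rfl
    simp only [Set.iInf_eq_iInter, Set.mem_iInter, SetLike.mem_coe, Set.mem_range]
    constructor
    · intro hz
      exact Groth.Agent.Lib.Helper7.PsFam.exists_pow_eq_of_forall_mem_Ksub p F hF1 hF3 z
        (fun S => by rw [← hK S]; exact hz S)
    · rintro ⟨y, rfl⟩ S
      rw [hK S]
      exact Groth.Agent.Lib.Helper7.PsFam.pow_mem_Ksub p (hF1 S) y

end Groth.Agent.S4548
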