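import Groth.Statements.S4551
import Mathlib
import Groth.Agent.Lib.Helper7PsSep

set_option autoImplicit false
universe u
open EGA41

namespace Groth.Agent.S4551

/-- For every field k (any characteristic) the field of fractions k((T_1, …, T_r)) of the power series
ring k[[T_1, …, T_r]] is a separable extension of k, i.e. it is geometrically reduced over k. -/
theorem result (k : Type u) [Field k] (r : ℕ) :
    Algebra.IsGeometricallyReduced k (FractionRing (MvPowerSeries (Fin r) k)) := by
  exact Groth.Agent.Lib.Helper7.PsSep.isGeometricallyReduced_fractionRing_mvPowerSeries k (Fin r)


end Groth.Agent.S4551
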