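import Groth.Statements.S4559
import Mathlib
import Groth.Agent.Lib.Helper14Unram

set_option autoImplicit false
universe u
open EGA41

namespace Groth.Agent.S4559

open KaehlerDifferential Groth.Agent.Lib.Helper14Unram

lemma adic_subsingleton_iff {R M : Type*} [CommRing R] [AddCommGroup M] [Module R M] (I : Ideal R) :
    Subsingleton (AdicCompletion I M) ↔ (I • ⊤ : Submodule R M) = ⊤ := by
  constructor
  · intro h
    rw [eq_top_iff]
    intro x _
    have h1 := AdicCompletion.eval_of I M 1 x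
    rw [Subsingleton.elim (AdicCompletion.of I M x) 0, map_zero] at h1
    have h2 : x ∈ (I ^ 1 • ⊤ : Submodule R M) := (Submodule.Quotient.mk_eq_zero _).mp h1.symm
    rwa [pow_one] at h2
  · intro h
    have hn : ∀ n : ℕ, (I ^ n • ⊤ : Submodule R M) = ⊤ := by
      intro n
      induction n with
      | zero => rw [pow_zero, Ideal.one_eq_top, Submodule.top_smul]
      | succ n ih => rw [pow_succ, mul_smul, h, ih]
    refine ⟨fun x y => AdicCompletion.ext fun n => ?_⟩
    have : Subsingleton (M ⧸ (I ^ n • ⊤ : Submodule R M)) := by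
      rw [hn n]; infer_instance
    exact Subsingleton.elim _ _


/-- Let A be 𝔞-adic and B a topological A-algebra for the 𝔟-adic topology (a power of 𝔞 maps into 𝔟).
Then B is a formally unramified A-algebra (for every homomorphism E → C of discrete A-algebras with
nilpotent kernel and every continuous u : B → C there is at most one continuous lift B → E; here E
discrete means killed by a power of 𝔞, and one may take C = E/J) if and only if the separated
completion of Ω_{B/A}, i.e. its 𝔟-adic completion, is zero. -/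
theorem result {A B : Type u} [CommRing A] [CommRing B] [Algebra A B]
    (𝔞 : Ideal A) (𝔟 : Ideal B) (hAB : ∃ k : ℕ, (𝔞 ^ k).map (algebraMap A B) ≤ 𝔟) :
    (∀ (E : Type u) [CommRing E] [Algebra A E], (∃ k : ℕ, (𝔞 ^ k).map (algebraMap A E) = ⊥) →
      ∀ J : Ideal E, IsNilpotent J → ∀ v₁ v₂ : B →ₐ[A] E,
        (∃ m : ℕ, ∀ x ∈ 𝔟 ^ m, v₁ x = 0) → (∃ m : ℕ, ∀ x ∈ 𝔟 ^ m, v₂ x = 0) →
        (∀ b : B, Ideal.Quotient.mk J (v₁ b) = Ideal.Quotient.mk J (v₂ b)) → v₁ = v₂) ↔
    Subsingleton (AdicCompletion 𝔟 (Ω[B⁄A])) := by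
  rw [adic_subsingleton_iff]
  constructor
  · intro U
    have hFU : Algebra.FormallyUnramified A (B ⧸ 𝔟 ^ 2) := by
      rw [Algebra.FormallyUnramified.iff_comp_injective]
      intro C _ _ I hI g₁ g₂ hg
      let π : B →ₐ[A] B ⧸ 𝔟 ^ 2 := Ideal.Quotient.mkₐ A (𝔟 ^ 2)
      have hkill : ∀ g : B ⧸ 𝔟 ^ 2 →ₐ[A] C, ∀ x ∈ 𝔟 ^ 2, (g.comp π) x = 0 := by
        intro g x hx
        have : π x = 0 := Ideal.Quotient.eq_zero_iff_mem.mpr hx
        rw [AlgHom.comp_apply, this, map_zero]
      have hk : ∃ k : ℕ, (𝔞 ^ k).map (algebraMap A C) = ⊥ := by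
        obtain ⟨k₀, hk₀⟩ := hAB
        refine ⟨k₀ * 2, ?_⟩
        rw [Ideal.map_eq_bot_iff_le_ker]
        intro a ha
        rw [RingHom.mem_ker]
        have h1 : algebraMap A B a ∈ 𝔟 ^ 2 := by
          have h2 : algebraMap A B a ∈ ((𝔞 ^ k₀).map (algebraMap A B)) ^ 2 := by
            rw [← Ideal.map_pow, ← pow_mul]
            exact Ideal.mem_map_of_mem _ ha
          exact Ideal.pow_right_mono hk₀ 2 h2
        have h3 := hkill g₁ _ h1
        rw [AlgHom.commutes] at h3
        exact h3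
      have := U C hk I ⟨2, hI⟩ (g₁.comp π) (g₂.comp π) ⟨2, hkill g₁⟩ ⟨2, hkill g₂⟩ (fun b => by
        have := AlgHom.congr_fun hg (π b)
        exact this)
      ext x
      obtain ⟨b, rfl⟩ := Ideal.Quotient.mk_surjective x
      exact AlgHom.congr_fun this b
    have : Subsingleton Ω[(B ⧸ 𝔟 ^ 2)⁄A] := hFU.subsingleton_kaehlerDifferential
    have hd : ∀ x ∈ 𝔟 ^ 2, D A B x ∈ (𝔟 • ⊤ : Submodule B Ω[B⁄A]) := by
      intro x hx
      rw [pow_two] at hx
      refine Submodule.mul_induction_on hx ?_ ?_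
      · intro y hy z hz
        rw [Derivation.leibniz]
        exact Submodule.add_mem _ (Submodule.smul_mem_smul hy trivial)
          (Submodule.smul_mem_smul hz trivial)
      · intro y z hy hz
        rw [map_add]; exact Submodule.add_mem _ hy hz
    exact smul_top_eq_top_of_subsingleton_quotient (A := A) (𝔟 ^ 2) 𝔟
      (Ideal.pow_le_self two_ne_zero) hd
  · intro h𝔟 E _ _ _ J hJ v₁ v₂ h1 h2 hv
    exact algHom_ext_of_smul_top_eq_top 𝔟 h𝔟 J hJ v₁ v₂ h1 h2 hv


end Groth.Agent.S4559
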