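import Groth.Statements.S4560
import Mathlib
import Groth.Agent.Lib.Helper14Unram

set_option autoImplicit false
universe u
open EGA41

namespace Groth.Agent.S4560

open KaehlerDifferential Groth.Agent.Lib.Helper14Unram

/-- Let A be a ring, 𝔪 an ideal of A, B an A-algebra; give A the 𝔪-adic topology and B the topology
deduced from it (the 𝔪B-adic topology), and put A₀ = A/𝔪, B₀ = B/𝔪B. Then B is a formally unramified
A-algebra (for these topologies: E discrete means killed by a power of 𝔪, and continuity of maps B →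
E is then automatic) if and only if Ω_{B₀/A₀} = 0, i.e. B₀ is a formally unramified A₀-algebra. -/
theorem result {A B : Type u} [CommRing A] [CommRing B] [Algebra A B] (𝔪 : Ideal A) :
    (∀ (E : Type u) [CommRing E] [Algebra A E], (∃ k : ℕ, (𝔪 ^ k).map (algebraMap A E) = ⊥) →
      ∀ J : Ideal E, IsNilpotent J → ∀ v₁ v₂ : B →ₐ[A] E,
        (∀ b : B, Ideal.Quotient.mk J (v₁ b) = Ideal.Quotient.mk J (v₂ b)) → v₁ = v₂) ↔
    Subsingleton (Ω[B ⧸ 𝔪.map (algebraMap A B)⁄A ⧸ 𝔪]) := by
  constructor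
  · intro U
    suffices h : Algebra.FormallyUnramified (A ⧸ 𝔪) (B ⧸ 𝔪.map (algebraMap A B)) from
      h.subsingleton_kaehlerDifferential
    rw [Algebra.FormallyUnramified.iff_comp_injective]
    intro C _ _ I hI g₁ g₂ hg
    let _ : Algebra A C := ((algebraMap (A ⧸ 𝔪) C).comp (Ideal.Quotient.mk 𝔪)).toAlgebra
    have hA : ∀ a : A, algebraMap A C a = algebraMap (A ⧸ 𝔪) C (Ideal.Quotient.mk 𝔪 a) := fun _ => rfl
    let mkv : (B ⧸ 𝔪.map (algebraMap A B) →ₐ[A ⧸ 𝔪] C) → (B →ₐ[A] C) := fun g =>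
      { toRingHom := g.toRingHom.comp (Ideal.Quotient.mk _)
        commutes' := by
          intro a
          change g (Ideal.Quotient.mk _ (algebraMap A B a)) = _
          rw [hA, ← g.commutes]
          rfl }
    have hk : ∃ k : ℕ, (𝔪 ^ k).map (algebraMap A C) = ⊥ := by
      refine ⟨1, ?_⟩
      rw [pow_one, Ideal.map_eq_bot_iff_le_ker]
      intro a ha
      rw [RingHom.mem_ker, hA, Ideal.Quotient.eq_zero_iff_mem.mpr ha, map_zero]
    have := U C hk I ⟨2, hI⟩ (mkv g₁) (mkv g₂) (fun b => by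
      have := AlgHom.congr_fun hg (Ideal.Quotient.mk _ b)
      exact this)
    ext x
    obtain ⟨b, rfl⟩ := Ideal.Quotient.mk_surjective x
    exact AlgHom.congr_fun this b
  · intro hΩ E _ _ hk J hJ v₁ v₂ hv
    have : Algebra.FormallyUnramified (A ⧸ 𝔪) (B ⧸ 𝔪.map (algebraMap A B)) := ⟨hΩ⟩
    have : Algebra.FormallyUnramified A (A ⧸ 𝔪) :=
      Algebra.FormallyUnramified.of_surjective (Ideal.Quotient.mkₐ A 𝔪) (Ideal.Quotient.mkₐ_surjective A 𝔪)
    have : Algebra.FormallyUnramified A (B ⧸ 𝔪.map (algebraMap A B)) :=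
      Algebra.FormallyUnramified.comp A (A ⧸ 𝔪) _
    have : Subsingleton Ω[(B ⧸ 𝔪.map (algebraMap A B))⁄A] :=
      Algebra.FormallyUnramified.subsingleton_kaehlerDifferential
    set 𝔟 := 𝔪.map (algebraMap A B) with h𝔟def
    have hd : ∀ x ∈ 𝔟, D A B x ∈ (𝔟 • ⊤ : Submodule B Ω[B⁄A]) := by
      intro x hx
      rw [h𝔟def, Ideal.map] at hx
      induction hx using Submodule.span_induction with
      | mem y hy =>
        obtain ⟨m, -, rfl⟩ := hy
        rw [Derivation.map_algebraMap]; exact Submodule.zero_mem _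
      | zero => rw [map_zero]; exact Submodule.zero_mem _
      | add y z _ _ hy hz => rw [map_add]; exact Submodule.add_mem _ hy hz
      | smul b y hy hDy =>
        rw [smul_eq_mul, Derivation.leibniz]
        refine Submodule.add_mem _ (Submodule.smul_mem _ _ hDy) ?_
        exact Submodule.smul_mem_smul (by rw [h𝔟def, Ideal.map]; exact hy) trivial
    have h𝔟 := smul_top_eq_top_of_subsingleton_quotient (A := A) 𝔟 𝔟 le_rfl hd
    obtain ⟨k, hk⟩ := hk
    have hkill : ∀ v : B →ₐ[A] E, ∃ m : ℕ, ∀ x ∈ 𝔟 ^ m, v x = 0 := by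
      intro v
      refine ⟨k, fun x hx => ?_⟩
      have h1 : v x ∈ (𝔟 ^ k).map (v : B →+* E) := Ideal.mem_map_of_mem (v : B →+* E) hx
      rw [h𝔟def, ← Ideal.map_pow, Ideal.map_map] at h1
      have h2 : (v : B →+* E).comp (algebraMap A B) = algebraMap A E := v.comp_algebraMap
      rw [h2, hk] at h1
      exact h1
    exact algHom_ext_of_smul_top_eq_top 𝔟 h𝔟 J hJ v₁ v₂ (hkill v₁) (hkill v₂) hv


end Groth.Agent.S4560
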