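import Groth.Statements.S4563
import Groth.Agent.Lib.Helper28PSN2
-- import your own Groth.Agent.* helpers here

set_option autoImplicit false
universe u
open CAlg

namespace Groth.Agent.S4563

theorem aux {A : Type u} [CommRing A] [IsDomain A]
    [IsNoetherianRing A] [IsIntegrallyClosed A] (hA : CAlg.IsN2 A) (n : ℕ) :
    ∃ (_ : IsDomain (MvPowerSeries (Fin n) A)), IsIntegrallyClosed (MvPowerSeries (Fin n) A) ∧
      CAlg.IsN2 (MvPowerSeries (Fin n) A) := by
  induction n with
  | zero =>
    let e : MvPowerSeries (Fin 0) A ≃+* A := (MvPowerSeries.isEmptyEquiv (Fin 0) A).toRingEquiv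
    have hD : IsDomain (MvPowerSeries (Fin 0) A) := e.toMulEquiv.isDomain
    refine ⟨hD, IsIntegrallyClosed.of_equiv e.symm, ?_⟩
    exact Groth.Agent.Lib.Helper14.isN2_of_ringEquiv e.symm hA
  | succ n ih =>
    obtain ⟨hD, hIC, hN2⟩ := ih
    let e : MvPowerSeries (Fin (n + 1)) A ≃+* PowerSeries (MvPowerSeries (Fin n) A) :=
      (MvPowerSeries.finSuccEquiv A n).toRingEquiv
    have hD' : IsDomain (MvPowerSeries (Fin (n + 1)) A) := e.toMulEquiv.isDomain
    have : IsIntegrallyClosed (PowerSeries (MvPowerSeries (Fin n) A)) :=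
      Groth.Agent.Lib.Helper14.PSNormal.isIntegrallyClosed_powerSeries _
    refine ⟨hD', IsIntegrallyClosed.of_equiv e.symm, ?_⟩
    exact Groth.Agent.Lib.Helper14.isN2_of_ringEquiv e.symm
      (Groth.Agent.Lib.Helper28.PSN2.isN2_powerSeries_of_isIntegrallyClosed _ hN2)

/-- If A is a Noetherian integrally closed Japanese (N-2) domain, then every formal power series ring
A[[T_1, ..., T_r]] is Japanese. (The power series ring is a domain; that instance is taken as a
hypothesis binder.) -/
theorem result {A : Type u} [CommRing A] [IsDomain A]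
    [IsNoetherianRing A] [IsIntegrallyClosed A] (hA : CAlg.IsN2 A) (r : ℕ)
    [IsDomain (MvPowerSeries (Fin r) A)] :
    CAlg.IsN2 (MvPowerSeries (Fin r) A) := by
  obtain ⟨_, _, h⟩ := aux hA r
  exact h

end Groth.Agent.S4563
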