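import Groth.Statements.S4564
import Mathlib
import Groth.Agent.Lib.Helper18ComplProd
import Groth.Agent.Lib.Helper28AUNormal
import Groth.Agent.Lib.Helper28ComplNagata

set_option autoImplicit false
universe u
open CAlg

namespace Groth.Agent.S4564

/-- Let A be a complete Noetherian local domain with fraction field K and K' a finite extension of K.
Then the integral closure of A in K' is a local ring, complete for the adic topology of its maximal
ideal. -/
theorem result {A K' : Type u} [CommRing A]
    [IsDomain A] [IsLocalRing A] [IsNoetherianRing A] [IsAdicComplete (IsLocalRing.maximalIdeal A) A]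
    [Field K'] [Algebra A K'] [Algebra (FractionRing A) K'] [IsScalarTower A (FractionRing A) K']
    [FiniteDimensional (FractionRing A) K'] :
    ∃ _ : IsLocalRing (integralClosure A K'),
      IsAdicComplete (IsLocalRing.maximalIdeal (integralClosure A K')) (integralClosure A K') := by
  classical
  have hNag : CAlg.IsNagata A := Groth.Agent.Lib.Helper28.isNagata_of_isAdicComplete_local A
  have hN2 : CAlg.IsN2 A := Groth.Agent.Lib.Helper28.isN2_of_isNagata_of_isDomain A hNag
  haveI hfin : Module.Finite A (integralClosure A K') := hN2 K' inferInstance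
  haveI : HenselianLocalRing A :=
    { is_henselian := fun f hf a₀ h₁ h₂ =>
        (inferInstance : HenselianRing A (IsLocalRing.maximalIdeal A)).is_henselian f hf a₀ h₁
          (h₂.map (Ideal.Quotient.mk (IsLocalRing.maximalIdeal A))) }
  obtain ⟨ι, hι, Aι, hA, hloc, ⟨Φ⟩⟩ :=
    Groth.Agent.Lib.Helper3.Hensel.exists_pi_isLocalRing_of_finite A (integralClosure A K')
  have hsub : ∀ i j : ι, i = j := by
    intro i j
    by_contra hij
    have h0 : (Pi.single i 1 : ∀ i, Aι i) * Pi.single j 1 = 0 := by
      funext k
      by_cases hk : k = i
      · subst hk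
        simp [Pi.single_eq_of_ne hij]
      · simp [Pi.single_eq_of_ne hk]
    have h1 : Φ.symm (Pi.single i 1) * Φ.symm (Pi.single j 1) = 0 := by
      rw [← map_mul, h0, map_zero]
    have hne : ∀ k : ι, Φ.symm (Pi.single k 1) ≠ 0 := by
      intro k hk
      have h2 : (Pi.single k 1 : ∀ i, Aι i) = 0 := by
        have := congrArg Φ hk
        rwa [Φ.apply_symm_apply, map_zero] at this
      have h3 := congrFun h2 k
      simp at h3
    rcases mul_eq_zero.mp h1 with h | h
    · exact hne i h
    · exact hne j h
  have hne : Nonempty ι := by
    by_contra hemp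
    rw [not_nonempty_iff] at hemp
    have h1 : (1 : integralClosure A K') = 0 := by
      apply Φ.injective
      funext i
      exact (hemp.false i).elim
    exact one_ne_zero h1
  obtain ⟨i₀⟩ := hne
  let f : integralClosure A K' →+* Aι i₀ := (Pi.evalRingHom Aι i₀).comp Φ.toRingHom
  have hf : Function.Bijective f := by
    constructor
    · intro x y hxy
      apply Φ.injective
      funext k
      rw [hsub k i₀]
      exact hxy
    · intro a
      refine ⟨Φ.symm (Pi.single i₀ a), ?_⟩
      show (Φ (Φ.symm (Pi.single i₀ a))) i₀ = a
      rw [Φ.apply_symm_apply, Pi.single_eq_same]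
  haveI : IsLocalRing (integralClosure A K') := (RingEquiv.ofBijective f hf).symm.isLocalRing
  exact ⟨inferInstance,
    (Groth.Agent.Lib.Helper18ComplProd.isAdicComplete_of_finite A (integralClosure A K')).2⟩


end Groth.Agent.S4564
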