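import Groth.Statements.S4565
import Mathlib
import Groth.Agent.Lib.Helper7TensInj
import Groth.Agent.Lib.Helper7QE
open Groth.Agent.Lib.Helper7.TensInj

set_option autoImplicit false
universe u
open TensorProduct
open CAlg

namespace Groth.Agent.S4565

/-- Let A be a Noetherian local domain with fraction field K whose adic completion Â is reduced, R the
total ring of fractions of Â and K' a finite extension of K. If R ⊗_A K' (equal to R ⊗_K K', since K
is a localization of A and the nonzero elements of A are invertible in R) is reduced, then the
integral closure of A in K' is a finitely generated A-module. -/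
theorem result {A K' R : Type u}
    [CommRing A] [IsDomain A] [IsLocalRing A] [IsNoetherianRing A]
    (hred : IsReduced (AdicCompletion (IsLocalRing.maximalIdeal A) A))
    [CommRing R] [Algebra (AdicCompletion (IsLocalRing.maximalIdeal A) A) R]
    [IsFractionRing (AdicCompletion (IsLocalRing.maximalIdeal A) A) R] [Algebra A R]
    [IsScalarTower A (AdicCompletion (IsLocalRing.maximalIdeal A) A) R]
    [Field K'] [Algebra A K'] [Algebra (FractionRing A) K'] [IsScalarTower A (FractionRing A) K']
    [FiniteDimensional (FractionRing A) K'] (h : IsReduced (R ⊗[A] K')) :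
    Module.Finite A (integralClosure A K') := by
  haveI : Module.Flat A K' :=
    haveI : Module.Flat A (FractionRing A) := IsLocalization.flat _ (nonZeroDivisors A)
    Module.Flat.trans A (FractionRing A) K'
  obtain ⟨s, b, hb⟩ := FiniteDimensional.exists_is_basis_integral A (FractionRing A) K'
  let S' : Subalgebra A K' := Algebra.adjoin A (Set.range b)
  haveI hfin : Module.Finite A S' := by
    refine (Module.Finite.iff_fg (N := Subalgebra.toSubmodule S')).mpr ?_
    exact fg_adjoin_of_finite (Set.finite_range b) (by rintro _ ⟨i, rfl⟩; exact hb i)
  haveI hfr : IsFractionRing S' K' := by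
    refine Groth.Agent.Lib.Helper14.isFractionRing_subalgebra_of_span_eq_top A
      (FractionRing A) K' S' ?_
    rw [_root_.eq_top_iff, ← b.span_eq]
    exact Submodule.span_mono Algebra.subset_adjoin
  let g : AdicCompletion (IsLocalRing.maximalIdeal A) A →ₐ[A] R :=
    IsScalarTower.toAlgHom A (AdicCompletion (IsLocalRing.maximalIdeal A) A) R
  have hg : Function.Injective g :=
    IsFractionRing.injective (AdicCompletion (IsLocalRing.maximalIdeal A) A) R
  have hinj : Function.Injective (Algebra.TensorProduct.map S'.val g) :=
    map_injective_of_flat S'.val g Subtype.val_injective hg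
  haveI : IsReduced (K' ⊗[A] R) :=
    isReduced_of_injective (Algebra.TensorProduct.comm A K' R).toAlgHom
      (Algebra.TensorProduct.comm A K' R).injective
  haveI : IsReduced (↥S' ⊗[A] EGA4.Cpl A) :=
    isReduced_of_injective (Algebra.TensorProduct.map S'.val g) hinj
  have hN1 : CAlg.IsN1 S' := Groth.Agent.Lib.Helper7.QE.isN1_of_isReduced_tensor_cpl A S'
  have h1 : Module.Finite S' (integralClosure S' K') :=
    (Groth.Agent.Lib.Helper14.isN1_iff_of_isFractionRing S' K').mp hN1
  exact Groth.Agent.Lib.Helper14.finite_integralClosure_of_finite_tower A S' K' h1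


end Groth.Agent.S4565
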