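import Groth.Statements.S4567
import Groth.Agent.Lib.Helper4Unibranch

set_option autoImplicit false
universe u
open AlgebraicGeometry
open CAlg2

namespace Groth.Agent.S4567

/-- Let A be a domain with integral closure A' (in its fraction field) and f : Spec A' → Spec A the
canonical morphism. Then f is radicial (universally injective) if and only if every local ring A_p
is geometrically unibranch; when this holds f is a homeomorphism. -/
theorem result {A : Type u} [CommRing A] [IsDomain A] :
    (UniversallyInjective (Spec.map (CommRingCat.ofHom (algebraMap A (integralClosure A (FractionRing A))))) ↔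
      ∀ (p : Ideal A) [p.IsPrime], CAlg2.IsGeomUnibranch (Localization.AtPrime p)) ∧
    ((∀ (p : Ideal A) [p.IsPrime], CAlg2.IsGeomUnibranch (Localization.AtPrime p)) →
      IsHomeomorph (PrimeSpectrum.comap (algebraMap A (integralClosure A (FractionRing A))))) := by
  open Groth.Agent.Lib.Helper4.Unibranch in
  have hiff : UniversallyInjective (Spec.map (CommRingCat.ofHom
      (algebraMap A (integralClosure A (FractionRing A))))) ↔
      ∀ (p : Ideal A) [p.IsPrime], CAlg2.IsGeomUnibranch (Localization.AtPrime p) := by
    rw [universallyInjective_specMap_iff, ← ptInj_iff_isGeomUnibranch]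
    rfl
  refine ⟨hiff, fun H => ?_⟩
  haveI : UniversallyInjective (Spec.map (CommRingCat.ofHom
      (algebraMap A (integralClosure A (FractionRing A))))) := hiff.mpr H
  have hint : (algebraMap A (integralClosure A (FractionRing A))).IsIntegral :=
    algebraMap_isIntegral_iff.mpr inferInstance
  rw [isHomeomorph_iff_continuous_isClosedMap_bijective]
  refine ⟨PrimeSpectrum.continuous_comap _,
    PrimeSpectrum.isClosedMap_comap_of_isIntegral _ hint, ?_, ?_⟩
  · exact (Spec.map (CommRingCat.ofHom
      (algebraMap A (integralClosure A (FractionRing A))))).injective
  · exact hint.comap_surjective (FaithfulSMul.algebraMap_injective A _)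

end Groth.Agent.S4567
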