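import Groth.Statements.S4569
import Mathlib

set_option autoImplicit false
universe u
open CAlg

namespace Groth.Agent.S4569

/-- Let A be a ring, x a non-zero-divisor of A with p = xA prime. For every n > 0 the inverse image in A
of x^n A_p is x^n A. -/
theorem result {A : Type u} [CommRing A] (x : A)
    (hx : x ∈ nonZeroDivisors A) [(Ideal.span ({x} : Set A)).IsPrime] (n : ℕ) (hn : 0 < n) :
    Ideal.comap (algebraMap A (Localization.AtPrime (Ideal.span ({x} : Set A))))
      (Ideal.map (algebraMap A (Localization.AtPrime (Ideal.span ({x} : Set A)))) (Ideal.span ({x ^ n} : Set A))) =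
      Ideal.span ({x ^ n} : Set A) := by
  classical
  set P : Ideal A := Ideal.span ({x} : Set A) with hP
  have hPprime : P.IsPrime := inferInstance
  -- key claim
  have key : ∀ (k : ℕ) (s a : A), s ∉ P → s * a ∈ Ideal.span ({x ^ k} : Set A) →
      a ∈ Ideal.span ({x ^ k} : Set A) := by
    intro k
    induction k with
    | zero =>
      intro s a _ _
      rw [pow_zero, Ideal.span_singleton_one]
      trivial
    | succ k ih =>
      intro s a hs hsa
      rw [Ideal.mem_span_singleton'] at hsa
      obtain ⟨c, hc⟩ := hsa
      -- `s * a ∈ P`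
      have h1 : s * a ∈ P := by
        rw [hP, Ideal.mem_span_singleton']
        exact ⟨c * x ^ k, by rw [← hc, pow_succ]; ring⟩
      have ha : a ∈ P := (hPprime.mem_or_mem h1).resolve_left hs
      rw [hP, Ideal.mem_span_singleton'] at ha
      obtain ⟨a', rfl⟩ := ha
      -- cancel `x`
      have h2 : (s * a' - c * x ^ k) * x = 0 := by
        have : s * (a' * x) = c * x ^ (k + 1) := hc.symm
        rw [pow_succ] at this
        linear_combination this
      have h3 : s * a' - c * x ^ k = 0 := (mem_nonZeroDivisors_iff_right.mp hx) _ h2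
      have h4 : a' ∈ Ideal.span ({x ^ k} : Set A) := by
        apply ih s a' hs
        rw [Ideal.mem_span_singleton']
        exact ⟨c, (sub_eq_zero.mp h3).symm⟩
      rw [Ideal.mem_span_singleton'] at h4 ⊢
      obtain ⟨e, he⟩ := h4
      exact ⟨e, by rw [← he, pow_succ]; ring⟩
  apply le_antisymm
  · intro a ha
    rw [Ideal.mem_comap, IsLocalization.mem_map_algebraMap_iff P.primeCompl] at ha
    obtain ⟨⟨⟨y, hy⟩, ⟨s, hs⟩⟩, h⟩ := ha
    simp only at h
    rw [← map_mul] at h
    obtain ⟨⟨t, ht⟩, hts⟩ := (IsLocalization.eq_iff_exists P.primeCompl _).mp h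
    simp only at hts
    -- `t * (a * s) = t * y`
    have h5 : (t * s) * a ∈ Ideal.span ({x ^ n} : Set A) := by
      have : (t * s) * a = t * y := by rw [← hts]; ring
      rw [this]
      exact Ideal.mul_mem_left _ _ hy
    have hts' : t * s ∉ P := by
      intro hmem
      rcases hPprime.mem_or_mem hmem with h | h
      · exact ht h
      · exact hs h
    exact key n (t * s) a hts' h5
  · exact Ideal.le_comap_map

end Groth.Agent.S4569
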