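import Groth.Statements.S4571
import Groth.Agent.Lib.Helper19SymField

set_option autoImplicit false
universe u
open TensorProduct KaehlerDifferential IsLocalRing
open EGA41

namespace Groth.Agent.S4571

/-- For an arbitrary local algebra: let k be a field and A a local k-algebra with maximal ideal m and
residue field K. Then A is formally smooth over k for the m-adic topology if and only if the
canonical maps Sym^n_K(m/m²) → m^n/m^(n+1) are bijective for n ≥ 1 and the canonical map Ω_{k/ℤ} ⊗_k
K → Ω_{A/ℤ} ⊗_A K is injective (absolute differentials, which agree with differentials over the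
prime field). -/
theorem result {k A : Type u} [Field k] [CommRing A]
    [IsLocalRing A] [Algebra k A] :
    CAlgX.IsAdicFormallySmooth k A (maximalIdeal A) ↔
      (PP16.SymGrBijective A (maximalIdeal A) ∧
        Function.Injective ((mapBaseChange ℤ k A).lTensor (ResidueField A))) := by
  constructor
  · intro h
    refine ⟨Groth.Agent.Lib.Helper19.SymFS.symGrBijective_of_isAdicFormallySmooth_field h, ?_⟩
    obtain ⟨ρ, hρ⟩ := Groth.Agent.Lib.Helper19.SymFS.exists_retraction_mapBaseChange
      (Λ := ℤ) (maximalIdeal A) h
    exact Function.LeftInverse.injective hρ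
  · rintro ⟨hsym, hinj⟩
    have hinj' : Function.Injective
        ((mapBaseChange ℤ k A).lTensor (A ⧸ maximalIdeal A)) := hinj
    obtain ⟨ρ, hρ⟩ :=
      Groth.Agent.Lib.Helper19.SymFS.exists_retraction_of_injective_field (Λ := ℤ) hinj'
    refine Groth.Agent.Lib.Helper19.SymFS.isAdicFormallySmooth_field_of_symGr_of_extension hsym
      (fun Y _ _ hY δ hadd hmul => ?_)
    refine Groth.Agent.Lib.Helper19.SymFS.exists_extension_of_retraction (Λ := ℤ)
      (maximalIdeal A) ρ hρ Y hY δ hadd hmul (fun l => ?_)
    letI : Module k Y := Module.compHom Y (algebraMap k A)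
    have hk : ∀ (c : k) (y : Y), c • y = algebraMap k A c • y := fun _ _ => rfl
    rw [eq_intCast]
    exact Groth.Agent.Lib.Helper19.SymFS.leibniz_map_intCast δ hadd
      (fun a a' => by rw [hmul, hk, hk]) l

end Groth.Agent.S4571
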