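import Groth.Statements.S4575
import Mathlib
import Groth.Agent.Lib.Helper5RLR

set_option autoImplicit false
universe u
open IsLocalRing
open EGA41

namespace Groth.Agent.S4575

/-- Let R be a regular local ring with maximal ideal m and n a proper ideal with R/n regular. Then
(n/n²) ⊗_R K → (m/m²) ⊗_R K is injective, K the residue field; stated in the equivalent form n ∩ m²
= m·n (the kernel of n/mn → m/m² is (n ∩ m²)/mn). -/
theorem result {R : Type u} [CommRing R] [IsRegularLocalRing R]
    (n : Ideal R) (hn : n ≠ ⊤) (hreg : IsRegularRing (R ⧸ n)) :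
    n ⊓ maximalIdeal R ^ 2 = maximalIdeal R * n := by
  classical
  have hloc : IsLocalRing (R ⧸ n) := Groth.Agent.Lib.Helper5.isLocalRing_quotient hn
  have hregloc : IsRegularLocalRing (R ⧸ n) :=
    IsRegularLocalRing.of_isRegularRing_of_isLocalRing (R ⧸ n)
  have hnm : n ≤ maximalIdeal R := IsLocalRing.le_maximalIdeal hn
  obtain ⟨r, x, hli, hnx⟩ := Groth.Agent.Lib.Helper5.exists_linearIndependent_span_range_eq n
  apply le_antisymm
  · rintro y ⟨hyn, hy2⟩
    have hyn' : y ∈ Ideal.span (Set.range fun i => (x i : R)) := hnx ▸ hyn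
    obtain ⟨c, hc⟩ := (Ideal.mem_span_range_iff_exists_fun).mp hyn'
    -- the classes
    have hym : y ∈ maximalIdeal R := hnm hyn
    have h1 : (maximalIdeal R).toCotangent ⟨y, hym⟩ = 0 :=
      (Ideal.toCotangent_eq_zero _ _).mpr hy2
    have h2 : (⟨y, hym⟩ : maximalIdeal R) = ∑ i, c i • x i := by
      apply Subtype.ext
      change y = _
      rw [← hc]
      simp [Submodule.coe_sum]
    rw [h2, map_sum] at h1
    have h3 : ∑ i, (IsLocalRing.residue R (c i)) • (maximalIdeal R).toCotangent (x i) = 0 := by
      rw [← h1]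
      refine Finset.sum_congr rfl fun i _ => ?_
      rw [map_smul]
      rfl
    have h4 := (Fintype.linearIndependent_iff.mp hli) _ h3
    have h5 : ∀ i, c i ∈ maximalIdeal R := fun i =>
      (IsLocalRing.residue_eq_zero_iff _).mp (h4 i)
    rw [← hc]
    refine Ideal.sum_mem _ fun i _ => ?_
    refine Ideal.mul_mem_mul (h5 i) ?_
    rw [hnx]
    exact Ideal.subset_span ⟨i, rfl⟩
  · refine le_inf Ideal.mul_le_right ?_
    rw [pow_two]
    exact Ideal.mul_mono_right hnm

end Groth.Agent.S4575
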