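import Groth.Statements.S4586
import Groth.Agent.Lib.Helper5Compl
import Groth.Agent.S3398
import Groth.Agent.S3399
import Groth.Agent.S3402

set_option autoImplicit false
universe u
open AlgebraicGeometry CategoryTheory Topology
open EGA41

namespace Groth.Agent.S4586

/-- Let f : X → Y be surjective and either quasi-compact or locally of finite presentation, E ⊆ Y. Then
E is locally constructible (resp. pro-constructible, resp. ind-constructible) if and only if f⁻¹(E)
is. -/
theorem result {X Y : Scheme.{u}} (f : X ⟶ Y) [Surjective f]
    (hf : QuasiCompact f ∨ LocallyOfFinitePresentation f) (E : Set Y) :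
    (IsLocallyConstructible E ↔ IsLocallyConstructible (f.base ⁻¹' E)) ∧
    (ProCons.IsProConstructible E ↔ ProCons.IsProConstructible (f.base ⁻¹' E)) ∧
    (ProCons.IsIndConstructible E ↔ ProCons.IsIndConstructible (f.base ⁻¹' E)) := by
  have hsurj : Function.Surjective f.base := f.surjective
  have himg : ∀ A : Set Y, f.base '' (f.base ⁻¹' A) = A := fun A =>
    Set.image_preimage_eq A hsurj
  have hpro : ProCons.IsProConstructible E ↔ ProCons.IsProConstructible (f.base ⁻¹' E) := by
    refine ⟨Groth.Agent.Lib.Helper5.isProConstructible_preimage f E, fun h => ?_⟩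
    rcases hf with hqc | hfp
    · rw [← himg E]
      exact Groth.Agent.S3398.result f _ h
    · apply Groth.Agent.Lib.Helper5.isProConstructible_of_compl
      rw [← himg Eᶜ, Set.preimage_compl]
      exact Groth.Agent.S3399.result f _ (Groth.Agent.Lib.Helper5.isIndConstructible_compl h)
  have hind : ProCons.IsIndConstructible E ↔ ProCons.IsIndConstructible (f.base ⁻¹' E) := by
    refine ⟨Groth.Agent.Lib.Helper5.isIndConstructible_preimage f E, fun h => ?_⟩
    rcases hf with hqc | hfp
    · apply Groth.Agent.Lib.Helper5.isIndConstructible_of_compl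
      rw [← himg Eᶜ, Set.preimage_compl]
      exact Groth.Agent.S3398.result f _ (Groth.Agent.Lib.Helper5.isProConstructible_compl h)
    · rw [← himg E]
      exact Groth.Agent.S3399.result f _ h
  refine ⟨?_, hpro, hind⟩
  rw [Groth.Agent.S3402.result Y E, Groth.Agent.S3402.result X (f.base ⁻¹' E), hpro, hind]

end Groth.Agent.S4586
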