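import Groth.Statements.S4590
import Mathlib

set_option autoImplicit false
universe u
open CAlg

namespace Groth.Agent.S4590

open Polynomial

section J
variable {T : Type u} [CommRing T]

/-- `s · (a, s)^N`. -/
def Jid (a s : T) (N : ℕ) : Ideal T := Ideal.span {s} * (Ideal.span {a, s}) ^ N

theorem Jid_map {T' : Type u} [CommRing T'] (f : T →+* T') (a s : T) (N : ℕ) :
    (Jid a s N).map f = Jid (f a) (f s) N := by
  unfold Jid
  rw [Ideal.map_mul, Ideal.map_pow, Ideal.map_span, Ideal.map_span, Set.image_singleton,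
    Set.image_pair]

theorem a_mem (a s : T) : a ∈ Ideal.span {a, s} := Ideal.subset_span (Set.mem_insert _ _)
theorem s_mem (a s : T) : s ∈ Ideal.span {a, s} :=
  Ideal.subset_span (Set.mem_insert_of_mem _ rfl)

theorem Jid_le (a s : T) (N : ℕ) : Jid a s N ≤ (Ideal.span {a, s}) ^ (N + 1) := by
  unfold Jid
  rw [pow_succ']
  exact Ideal.mul_mono_left ((Ideal.span_singleton_le_iff_mem _).2 (s_mem a s))

theorem span_a_mul_le (a s : T) (N : ℕ) :
    Ideal.span {a} * (Ideal.span {a, s}) ^ N ≤ Ideal.span {a ^ (N + 1)} ⊔ Jid a s N := by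
  induction N with
  | zero =>
    rw [pow_zero, Ideal.one_eq_top, Ideal.mul_top, zero_add, pow_one]
    exact le_sup_left
  | succ N ih =>
    rw [pow_succ, ← mul_assoc]
    refine (Ideal.mul_mono_left ih).trans ?_
    rw [Ideal.sup_mul]
    refine sup_le ?_ ?_
    · have h1 : Ideal.span {a, s} = Ideal.span {a} ⊔ Ideal.span {s} := Ideal.span_insert a {s}
      rw [h1, Ideal.mul_sup, Ideal.span_singleton_mul_span_singleton,
        Ideal.span_singleton_mul_span_singleton, ← pow_succ]
      refine sup_le le_sup_left (le_sup_of_le_right ?_)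
      rw [Ideal.span_singleton_le_iff_mem, mul_comm]
      unfold Jid
      refine Ideal.mul_mem_mul (Ideal.mem_span_singleton_self s) ?_
      exact Ideal.pow_mem_pow (a_mem a s) _
    · apply le_sup_of_le_right
      unfold Jid
      rw [mul_assoc, ← pow_succ]

theorem pow_sub_pow_mem (𝔠 : Ideal T) (u v : T) (hu : u ∈ 𝔠) (hv : v ∈ 𝔠) (m : ℕ) :
    u ^ (m + 1) - v ^ (m + 1) ∈ Ideal.span {u - v} * 𝔠 ^ m := by
  induction m with
  | zero =>
    rw [pow_zero, Ideal.one_eq_top, Ideal.mul_top, zero_add, pow_one, pow_one]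
    exact Ideal.mem_span_singleton_self _
  | succ m ih =>
    have e : u ^ (m + 1 + 1) - v ^ (m + 1 + 1) =
        u * (u ^ (m + 1) - v ^ (m + 1)) + (u - v) * v ^ (m + 1) := by ring
    rw [e]
    refine Ideal.add_mem _ ?_ ?_
    · have : Ideal.span {u - v} * 𝔠 ^ (m + 1) = 𝔠 * (Ideal.span {u - v} * 𝔠 ^ m) := by
        rw [pow_succ']; ring
      rw [this]
      exact Ideal.mul_mem_mul hu ih
    · exact Ideal.mul_mem_mul (Ideal.mem_span_singleton_self _) (Ideal.pow_mem_pow hv _)

theorem lift_nil (a s : T) (N : ℕ)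
    (h : Ideal.Quotient.mk (nilradical T) a ^ (N + 1) ∈
      Jid (Ideal.Quotient.mk (nilradical T) a) (Ideal.Quotient.mk (nilradical T) s) N) :
    ∃ N' : ℕ, a ^ (N' + 1) ∈ Jid a s N' := by
  rw [← Jid_map, ← map_pow] at h
  obtain ⟨y, hy, e⟩ := (Ideal.mem_map_iff_of_surjective _ Ideal.Quotient.mk_surjective).1 h
  have hnil : a ^ (N + 1) - y ∈ nilradical T := by
    rw [← Ideal.Quotient.eq, e]
  obtain ⟨m, hm⟩ := (mem_nilradical.1 hnil : IsNilpotent _)
  have hm' : (a ^ (N + 1) - y) ^ (m + 1) = 0 := by rw [pow_succ, hm, zero_mul]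
  set 𝔠 := Ideal.span {a, s} with h𝔠
  have hu : a ^ (N + 1) ∈ 𝔠 ^ (N + 1) := Ideal.pow_mem_pow (a_mem a s) _
  have hy' : y ∈ 𝔠 ^ (N + 1) := Jid_le a s N hy
  have hv : a ^ (N + 1) - y ∈ 𝔠 ^ (N + 1) := Ideal.sub_mem _ hu hy'
  have h1 := pow_sub_pow_mem (𝔠 ^ (N + 1)) (a ^ (N + 1)) (a ^ (N + 1) - y) hu hv m
  rw [hm', sub_zero, sub_sub_cancel] at h1
  refine ⟨N + (N + 1) * m, ?_⟩
  have e1 : a ^ (N + (N + 1) * m + 1) = (a ^ (N + 1)) ^ (m + 1) := by
    rw [← pow_mul]; congr 1; ring
  rw [e1]
  have h2 : Ideal.span {y} * (𝔠 ^ (N + 1)) ^ m ≤ Jid a s (N + (N + 1) * m) := by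
    have : Jid a s (N + (N + 1) * m) = Jid a s N * (𝔠 ^ (N + 1)) ^ m := by
      unfold Jid
      rw [← pow_mul, mul_assoc, ← pow_add]
    rw [this]
    exact Ideal.mul_mono_left ((Ideal.span_singleton_le_iff_mem _).2 hy)
  exact h2 h1

end J

section integ
variable {C R : Type u} [CommRing C] [CommRing R] [Algebra C R]

theorem mem_of_integral (hinj : Function.Injective (algebraMap C R)) (a s : C) (x : R)
    (hx : algebraMap C R s * x = algebraMap C R a) (hint : IsIntegral C x) :
    ∃ N : ℕ, a ^ (N + 1) ∈ Jid a s N := by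
  obtain ⟨P, hP, hPx⟩ := hint
  have h1 : aeval (algebraMap C R s * x) (scaleRoots P s) = 0 :=
    scaleRoots_aeval_eq_zero (by rwa [aeval_def])
  rw [hx, aeval_algebraMap_apply, ← map_zero (algebraMap C R)] at h1
  have h2 : eval a (scaleRoots P s) = 0 := by
    have := hinj h1
    rwa [coe_aeval_eq_eval] at this
  have hQ : (scaleRoots P s).Monic := (monic_scaleRoots_iff s).2 hP
  have hdeg : (scaleRoots P s).natDegree = P.natDegree := natDegree_scaleRoots P s
  rcases Nat.eq_zero_or_pos P.natDegree with h0 | hpos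
  · -- degree zero: the ring is trivial
    have hQ1 : scaleRoots P s = 1 := by
      apply Polynomial.eq_one_of_monic_natDegree_zero hQ
      rw [hdeg, h0]
    rw [hQ1, eval_one] at h2
    refine ⟨0, ?_⟩
    have : a ^ (0 + 1) = 0 := by
      rw [← mul_one (a ^ (0 + 1)), h2, mul_zero]
    rw [this]
    exact Ideal.zero_mem _
  · obtain ⟨N, hN⟩ := Nat.exists_eq_succ_of_ne_zero hpos.ne'
    refine ⟨N, ?_⟩
    rw [eval_eq_sum_range, hdeg, hN, Finset.sum_range_succ] at h2
    have hlead : (scaleRoots P s).coeff (N + 1) = 1 := by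
      have := hQ.coeff_natDegree
      rwa [hdeg, hN] at this
    rw [hlead, one_mul] at h2
    have h3 : a ^ (N + 1) =
        -(Finset.range (N + 1)).sum (fun i => (scaleRoots P s).coeff i * a ^ i) := by
      rw [eq_neg_iff_add_eq_zero, add_comm]
      exact h2
    rw [h3]
    refine (Ideal.neg_mem_iff _).2 (Ideal.sum_mem _ fun i hi => ?_)
    have hi' : i ≤ N := Nat.lt_succ_iff.1 (Finset.mem_range.1 hi)
    rw [coeff_scaleRoots, hN]
    have e1 : N + 1 - i = (N - i) + 1 := by omega
    have e2 : P.coeff i * s ^ (N + 1 - i) * a ^ i = P.coeff i * (s * (s ^ (N - i) * a ^ i)) := by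
      rw [e1, pow_succ]; ring
    rw [e2]
    refine Ideal.mul_mem_left _ _ ?_
    unfold Jid
    refine Ideal.mul_mem_mul (Ideal.mem_span_singleton_self s) ?_
    have e3 : (Ideal.span {a, s}) ^ N = (Ideal.span {a, s}) ^ (N - i) * (Ideal.span {a, s}) ^ i := by
      rw [← pow_add]; congr 1; omega
    rw [e3]
    exact Ideal.mul_mem_mul (Ideal.pow_mem_pow (s_mem a s) _) (Ideal.pow_mem_pow (a_mem a s) _)

end integ

section dom
variable {A : Type u} [CommRing A] [IsDomain A]

theorem integral_of_mem (a s : A) (hs : s ≠ 0) (N : ℕ) (h : a ^ (N + 1) ∈ Jid a s N) :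
    IsIntegral A (algebraMap A (FractionRing A) a / algebraMap A (FractionRing A) s) := by
  set K := FractionRing A
  set 𝔠 := Ideal.span {a, s} with h𝔠
  have hle : Ideal.span {a} * 𝔠 ^ N ≤ Jid a s N :=
    (span_a_mul_le a s N).trans (sup_le ((Ideal.span_singleton_le_iff_mem _).2 h) le_rfl)
  let M : Submodule A K := Submodule.map (Algebra.linearMap A K) (𝔠 ^ N)
  have hs' : algebraMap A K s ≠ 0 := by
    rw [Ne, IsFractionRing.to_map_eq_zero_iff]
    exact hs
  refine isIntegral_of_smul_mem_submodule (A := K) (M := K) M ?_ ?_ _ ?_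
  · intro hM
    have h1 : algebraMap A K (s ^ N) ∈ M := ⟨s ^ N, Ideal.pow_mem_pow (s_mem a s) N, rfl⟩
    rw [hM, Submodule.mem_bot, map_pow] at h1
    exact hs' (eq_zero_of_pow_eq_zero h1)
  · apply Submodule.FG.map
    classical
    have h0 : 𝔠.FG := ⟨{a, s}, by rw [h𝔠]; congr 1; simp⟩
    have : (𝔠 ^ N).FG := Ideal.FG.pow h0
    exact this
  · rintro _ ⟨c, hc, rfl⟩
    have h1 : a * c ∈ Jid a s N := hle (Ideal.mul_mem_mul (Ideal.mem_span_singleton_self a) hc)
    obtain ⟨c', hc', e⟩ := Ideal.mem_span_singleton_mul.1 h1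
    refine ⟨c', hc', ?_⟩
    change algebraMap A K c' = (algebraMap A K a / algebraMap A K s) * algebraMap A K c
    rw [div_mul_eq_mul_div, ← map_mul, ← e, map_mul, mul_div_cancel_left₀ _ hs']

end dom

/-- Let A be a domain with fraction field K, B a faithfully flat A-algebra, C = B_red and R the total
ring of fractions of C. Then A → C is injective with nonzero elements going to non-zero-divisors, so
that K embeds in R, and an element of K is integral over C in R if and only if it is integral over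
A. -/
theorem result {A B : Type u} [CommRing A] [IsDomain A]
    [CommRing B] [Algebra A B] [Module.FaithfullyFlat A B] :
    Function.Injective (algebraMap A (B ⧸ nilradical B)) ∧
    (∀ a : A, a ≠ 0 → algebraMap A (B ⧸ nilradical B) a ∈ nonZeroDivisors (B ⧸ nilradical B)) ∧
    ∀ (R : Type u) [CommRing R] [Algebra (B ⧸ nilradical B) R] [IsFractionRing (B ⧸ nilradical B) R]
      [Algebra A R] [IsScalarTower A (B ⧸ nilradical B) R] [Algebra (FractionRing A) R]
      [IsScalarTower A (FractionRing A) R] (x : FractionRing A),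
      IsIntegral (B ⧸ nilradical B) (algebraMap (FractionRing A) R x) ↔ IsIntegral A x := by
  have hinjAB : Function.Injective (algebraMap A B) := FaithfulSMul.algebraMap_injective A B
  have hmk : ∀ a : A, algebraMap A (B ⧸ nilradical B) a =
      Ideal.Quotient.mk (nilradical B) (algebraMap A B a) := fun a => rfl
  refine ⟨?_, ?_, ?_⟩
  · rw [injective_iff_map_eq_zero]
    intro a ha
    rw [hmk, Ideal.Quotient.eq_zero_iff_mem] at ha
    obtain ⟨n, hn⟩ := (mem_nilradical.1 ha : IsNilpotent _)
    rw [← map_pow, ← map_zero (algebraMap A B)] at hn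
    exact eq_zero_of_pow_eq_zero (hinjAB hn)
  · intro a ha
    rw [mem_nonZeroDivisors_iff_right]
    intro c hc
    obtain ⟨b, rfl⟩ := Ideal.Quotient.mk_surjective c
    rw [hmk, ← map_mul, Ideal.Quotient.eq_zero_iff_mem] at hc
    obtain ⟨n, hn⟩ := (mem_nilradical.1 hc : IsNilpotent _)
    rw [mul_pow, ← map_pow, mul_comm, ← Algebra.smul_def] at hn
    have hreg : IsSMulRegular B (a ^ n) :=
      Module.Flat.isSMulRegular_of_nonZeroDivisors
        (mem_nonZeroDivisors_of_ne_zero (pow_ne_zero n ha))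
    have hb : b ^ n = 0 := hreg (hn.trans (smul_zero _).symm)
    rw [Ideal.Quotient.eq_zero_iff_mem]
    exact mem_nilradical.2 ⟨n, hb⟩
  · intro R _ _ _ _ _ _ _ x
    constructor
    · intro hint
      obtain ⟨a, s, hs, rfl⟩ := IsFractionRing.div_surjective (A := A) x
      have hs0 : s ≠ 0 := nonZeroDivisors.ne_zero hs
      have hx : algebraMap (B ⧸ nilradical B) R (algebraMap A (B ⧸ nilradical B) s) *
          algebraMap (FractionRing A) R
            (algebraMap A (FractionRing A) a / algebraMap A (FractionRing A) s) =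
          algebraMap (B ⧸ nilradical B) R (algebraMap A (B ⧸ nilradical B) a) := by
        rw [← IsScalarTower.algebraMap_apply A (B ⧸ nilradical B) R,
          ← IsScalarTower.algebraMap_apply A (B ⧸ nilradical B) R,
          IsScalarTower.algebraMap_apply A (FractionRing A) R,
          IsScalarTower.algebraMap_apply A (FractionRing A) R, ← map_mul,
          mul_div_cancel₀]
        rw [Ne, IsFractionRing.to_map_eq_zero_iff]
        exact hs0
      obtain ⟨N, hN⟩ := mem_of_integral
        (IsFractionRing.injective (B ⧸ nilradical B) R) _ _ _ hx hint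
      rw [hmk, hmk] at hN
      obtain ⟨N', hN'⟩ := lift_nil _ _ N hN
      rw [← Jid_map, ← map_pow] at hN'
      have h1 : a ^ (N' + 1) ∈ ((Jid a s N').map (algebraMap A B)).comap (algebraMap A B) := hN'
      rw [Ideal.comap_map_eq_self_of_faithfullyFlat] at h1
      exact integral_of_mem a s hs0 N' h1
    · intro hint
      have h1 : IsIntegral A (algebraMap (FractionRing A) R x) :=
        hint.map (IsScalarTower.toAlgHom A (FractionRing A) R)
      exact h1.tower_top

end Groth.Agent.S4590
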