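import Groth.Statements.S4591
import Groth.Agent.Lib.Helper5ProCons

set_option autoImplicit false
universe u
open AlgebraicGeometry
open EGA41

namespace Groth.Agent.S4591

/-- Let X be a quasi-compact scheme, F a pro-constructible subset and (E_i) a family of
ind-constructible subsets covering F. Then some finite subfamily covers F. -/
theorem result (X : Scheme.{u}) [CompactSpace X]
    (F : Set X) (hF : ProCons.IsProConstructible F) {ι : Type u} (E : ι → Set X)
    (hE : ∀ i, ProCons.IsIndConstructible (E i)) (h : F ⊆ ⋃ i, E i) :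
    ∃ J : Finset ι, F ⊆ ⋃ i ∈ J, E i := by
  obtain ⟨I, K, hIK⟩ := Groth.Agent.Lib.Helper5.exists_finset_iInter_subset_iUnion X
    E (fun _ : Unit => F) hE (fun _ => hF) (by
      intro x hx
      exact h (Set.mem_iInter.mp hx ()))
  refine ⟨I, ?_⟩
  intro x hx
  apply hIK
  rw [Set.mem_iInter₂]
  intro _ _
  exact hx

end Groth.Agent.S4591
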