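import Groth.Statements.S4593
import Mathlib

set_option autoImplicit false
universe u
open CategoryTheory CategoryTheory.Limits AlgebraicGeometry
open EGA41

namespace Groth.Agent.S4593

lemma main {I : Type u} [SmallCategory I] [IsFiltered I]
    (B : CommRingCat.{u}) (D : I ⥤ CommRingCat.{u}) (σ : ∀ i : I, B ⟶ D.obj i)
    (hnat : ∀ {i j : I} (f : i ⟶ j), σ i ≫ D.map f = σ j) (c : Cocone D)
    (hc : IsColimit c) (i₀ : I) :
    Set.range (PrimeSpectrum.comap (σ i₀ ≫ c.ι.app i₀).hom) =
      ⋂ i : I, Set.range (PrimeSpectrum.comap (σ i).hom) := by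
  have hstr : ∀ i : I, σ i ≫ c.ι.app i = σ i₀ ≫ c.ι.app i₀ := by
    intro i
    let k := IsFiltered.max i i₀
    have h1 : σ i ≫ c.ι.app i = σ k ≫ c.ι.app k := by
      rw [← c.w (IsFiltered.leftToMax i i₀), ← Category.assoc, hnat]
    have h2 : σ i₀ ≫ c.ι.app i₀ = σ k ≫ c.ι.app k := by
      rw [← c.w (IsFiltered.rightToMax i i₀), ← Category.assoc, hnat]
    rw [h1, h2]
  set φ := σ i₀ ≫ c.ι.app i₀ with hφ
  have hφ' : ∀ (i : I) (b : B), (c.ι.app i).hom ((σ i).hom b) = φ.hom b := by
    intro i b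
    rw [← hstr i]; rfl
  have hD : ∀ {i j : I} (f : i ⟶ j) (b : B), (D.map f).hom ((σ i).hom b) = (σ j).hom b := by
    intro i j f b
    rw [← hnat f]; rfl
  have hι : ∀ {i j : I} (f : i ⟶ j) (y : D.obj i),
      (c.ι.app j).hom ((D.map f).hom y) = (c.ι.app i).hom y := by
    intro i j f y
    rw [← c.w f]; rfl
  have hmap : ∀ {i j : I} (f : i ⟶ j) (p : Ideal B) (y : D.obj i),
      y ∈ p.map (σ i).hom → (D.map f).hom y ∈ p.map (σ j).hom := by
    intro i j f p y hy
    have : (p.map (σ i).hom).map (D.map f).hom = p.map (σ j).hom := by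
      rw [Ideal.map_map, ← CommRingCat.hom_comp, hnat]
    rw [← this]
    exact Ideal.mem_map_of_mem _ hy
  have ht : IsColimit ((forget CommRingCat.{u}).mapCocone c) :=
    isColimitOfPreserves (forget CommRingCat.{u}) hc
  apply Set.Subset.antisymm
  · -- easy inclusion
    intro p hp
    rw [Set.mem_iInter]
    intro i
    obtain ⟨q, rfl⟩ := hp
    refine ⟨PrimeSpectrum.comap (c.ι.app i).hom q, ?_⟩
    have : φ.hom = (c.ι.app i).hom.comp (σ i).hom := by rw [← CommRingCat.hom_comp, hstr i]
    rw [this, PrimeSpectrum.comap_comp_apply]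
  · intro p hp
    rw [Set.mem_iInter] at hp
    rw [PrimeSpectrum.mem_range_comap_iff]
    have hp' : ∀ i : I, (p.asIdeal.map (σ i).hom).comap (σ i).hom = p.asIdeal :=
      fun i => (PrimeSpectrum.mem_range_comap_iff _).mp (hp i)
    apply le_antisymm _ Ideal.le_comap_map
    -- key: every element of `pA` comes from some `pA_j`
    have key : ∀ x ∈ p.asIdeal.map φ.hom, ∃ (j : I) (y : D.obj j),
        y ∈ p.asIdeal.map (σ j).hom ∧ (c.ι.app j).hom y = x := by
      intro x hx
      refine Submodule.span_induction ?_ ?_ ?_ ?_ hx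
      · rintro _ ⟨b, hb, rfl⟩
        exact ⟨i₀, (σ i₀).hom b, Ideal.mem_map_of_mem _ hb, hφ' i₀ b⟩
      · exact ⟨i₀, 0, Ideal.zero_mem _, map_zero _⟩
      · rintro x x' _ _ ⟨j, y, hy, rfl⟩ ⟨j', y', hy', rfl⟩
        refine ⟨IsFiltered.max j j', (D.map (IsFiltered.leftToMax j j')).hom y +
          (D.map (IsFiltered.rightToMax j j')).hom y',
          Ideal.add_mem _ (hmap _ _ _ hy) (hmap _ _ _ hy'), ?_⟩
        rw [map_add, hι, hι]
      · rintro a x _ ⟨j, y, hy, rfl⟩
        obtain ⟨j', a', ha'⟩ := Types.jointly_surjective_of_isColimit ht a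
        have ha'' : (c.ι.app j').hom a' = a := ha'
        refine ⟨IsFiltered.max j' j, (D.map (IsFiltered.leftToMax j' j)).hom a' *
          (D.map (IsFiltered.rightToMax j' j)).hom y,
          Ideal.mul_mem_left _ _ (hmap _ _ _ hy), ?_⟩
        rw [map_mul, hι, hι, ha'', smul_eq_mul]
    intro b hb
    rw [Ideal.mem_comap] at hb
    obtain ⟨j, y, hy, hyb⟩ := key _ hb
    -- equality in the colimit happens at a finite stage
    have h01 : ((forget CommRingCat.{u}).mapCocone c).ι.app j y =
        ((forget CommRingCat.{u}).mapCocone c).ι.app i₀ ((σ i₀).hom b) := by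
      show (c.ι.app j).hom y = (c.ι.app i₀).hom ((σ i₀).hom b)
      rw [hyb, hφ' i₀ b]
    obtain ⟨k, f, g, hfg⟩ := (Types.FilteredColimit.isColimit_eq_iff _ ht).mp h01
    have h1 : (D.map f).hom y = (D.map g).hom ((σ i₀).hom b) := hfg
    rw [hD] at h1
    have h2 : (σ k).hom b ∈ p.asIdeal.map (σ k).hom := by
      rw [← h1]; exact hmap f _ y hy
    rw [← hp' k]
    exact h2


/-- Let B be a ring, (A_i) a filtered system of B-algebras with colimit A. The image of Spec A in Spec B
is the intersection of the images of the Spec A_i. -/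
theorem result {I : Type u} [SmallCategory I] [IsFiltered I]
    (B : CommRingCat.{u}) (D : I ⥤ CommRingCat.{u}) (s : (Functor.const I).obj B ⟶ D) (c : Cocone D)
    (hc : IsColimit c) (i₀ : I) :
    Set.range (Spec.map (s.app i₀ ≫ c.ι.app i₀)).base = ⋂ i : I, Set.range (Spec.map (s.app i)).base := by
  have hnat : ∀ {i j : I} (f : i ⟶ j), (s.app i : B ⟶ D.obj i) ≫ D.map f = s.app j := by
    intro i j f
    have := s.naturality f
    simpa using this.symm
  exact main B D (fun i => s.app i) hnat c hc i₀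

end Groth.Agent.S4593
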