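import Groth.Statements.S4594
import Mathlib
import Groth.Agent.Lib.Helper7ConormalP

set_option autoImplicit false
universe u
open TensorProduct KaehlerDifferential
open EGA41

namespace Groth.Agent.S4594

/-- Let Λ be a ring, A → C a surjection of Λ-algebras with kernel J, C of characteristic p > 0, and π
the class of p·1 in J/J². If C is formally smooth over Λ/pΛ for the discrete topologies, then 0 →
(J/J²)/Cπ → Ω_{A/Λ} ⊗_A C → Ω_{C/Λ} → 0 is exact: the kernel of the conormal map J/J² → Ω_{A/Λ} ⊗_A
C is the span of π, and the base-change map to Ω_{C/Λ} is surjective with kernel the image of J/J². -/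
theorem result {Λ A C : Type u} [CommRing Λ] [CommRing A]
    [CommRing C] [Algebra Λ A] [Algebra A C] [Algebra Λ C] [IsScalarTower Λ A C]
    (hsurj : Function.Surjective (algebraMap A C)) (p : ℕ) [Fact p.Prime] [CharP C p]
    [Algebra (Λ ⧸ Ideal.span {(p : Λ)}) C] [IsScalarTower Λ (Λ ⧸ Ideal.span {(p : Λ)}) C]
    [Algebra.FormallySmooth (Λ ⧸ Ideal.span {(p : Λ)}) C]
    (hp : (p : A) ∈ RingHom.ker (algebraMap A C)) :
    LinearMap.ker (kerCotangentToTensor Λ A C) =
        Submodule.span A {(RingHom.ker (algebraMap A C)).toCotangent ⟨(p : A), hp⟩} ∧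
      LinearMap.range (kerCotangentToTensor Λ A C) = (LinearMap.ker (mapBaseChange Λ A C)).restrictScalars A ∧
      Function.Surjective (mapBaseChange Λ A C) := by
  refine ⟨?_, ?_, KaehlerDifferential.mapBaseChange_surjective Λ A C hsurj⟩
  · apply le_antisymm
    · intro z hz
      obtain ⟨⟨x, hx⟩, rfl⟩ := Ideal.toCotangent_surjective _ z
      rw [LinearMap.mem_ker, KaehlerDifferential.kerCotangentToTensor_toCotangent] at hz
      have hmem := Groth.Agent.Lib.Helper7.ConormalP.main_aux hsurj p hp x hx hz
      obtain ⟨y, hy, w, hw, hyw⟩ := Submodule.mem_sup.mp hmem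
      obtain ⟨a, rfl⟩ := Ideal.mem_span_singleton'.mp hw
      have hyJ : y ∈ RingHom.ker (algebraMap A C) := Ideal.pow_le_self two_ne_zero hy
      have e1 : (⟨x, hx⟩ : RingHom.ker (algebraMap A C)) =
          ⟨y, hyJ⟩ + a • ⟨(p : A), hp⟩ := by
        ext
        simp [← hyw]
      rw [e1, map_add, map_smul]
      have e2 : (RingHom.ker (algebraMap A C)).toCotangent ⟨y, hyJ⟩ = 0 := by
        rw [Ideal.toCotangent_eq_zero]; exact hy
      rw [e2, zero_add]
      exact Submodule.smul_mem _ _ (Submodule.subset_span rfl)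
    · rw [Submodule.span_le, Set.singleton_subset_iff]
      show _ ∈ LinearMap.ker _
      rw [LinearMap.mem_ker, KaehlerDifferential.kerCotangentToTensor_toCotangent]
      rw [Derivation.map_natCast, TensorProduct.tmul_zero]
  · have hex := KaehlerDifferential.exact_kerCotangentToTensor_mapBaseChange Λ A C hsurj
    ext z
    rw [Submodule.restrictScalars_mem, LinearMap.mem_ker, hex z]
    rfl


end Groth.Agent.S4594
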