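import Groth.Statements.S4601
import Mathlib
import Groth.Agent.Lib.Helper7TensInj
open Groth.Agent.Lib.Helper7.TensInj

set_option autoImplicit false
universe u
open TensorProduct
open CAlg

namespace Groth.Agent.S4601

/-- Let A be a domain with fraction field K, B a Noetherian A-algebra which is flat over A, K' an
extension field of K, B₁ = B_red and R its total ring of fractions. For every sub-A-algebra A' of
K', the map (A' ⊗_A B)_red → (K' ⊗_A R)_red is injective, i.e. an element of A' ⊗_A B with nilpotent
image in K' ⊗_A R is nilpotent. -/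
theorem result {A B K' R : Type u} [CommRing A]
    [IsDomain A] [CommRing B] [Algebra A B] [IsNoetherianRing B] [Module.Flat A B]
    [Field K'] [Algebra A K'] [Algebra (FractionRing A) K'] [IsScalarTower A (FractionRing A) K']
    [CommRing R] [Algebra (B ⧸ nilradical B) R] [IsFractionRing (B ⧸ nilradical B) R]
    [Algebra B R] [IsScalarTower B (B ⧸ nilradical B) R] [Algebra A R] [IsScalarTower A B R]
    (A' : Subalgebra A K') (x : ↥A' ⊗[A] B)
    (hx : IsNilpotent (Algebra.TensorProduct.map A'.val (IsScalarTower.toAlgHom A B R) x)) :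
    IsNilpotent x := by
  haveI : Module.Flat A K' :=
    haveI : Module.Flat A (FractionRing A) := IsLocalization.flat _ (nonZeroDivisors A)
    Module.Flat.trans A (FractionRing A) K'
  haveI : IsScalarTower A (B ⧸ nilradical B) R := IsScalarTower.of_algebraMap_eq fun a => by
    rw [IsScalarTower.algebraMap_apply A B R, IsScalarTower.algebraMap_apply B (B ⧸ nilradical B) R]
    rfl
  let g₃ : (B ⧸ nilradical B) →ₐ[A] R := IsScalarTower.toAlgHom A (B ⧸ nilradical B) R
  have hg₃ : Function.Injective g₃ := IsFractionRing.injective (B ⧸ nilradical B) R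
  have hφ₁ : Function.Injective (Algebra.TensorProduct.map A'.val (AlgHom.id A B)) :=
    map_injective_of_flat A'.val (AlgHom.id A B) Subtype.val_injective (fun _ _ h => h)
  have hψ₃ : Function.Injective (Algebra.TensorProduct.map (AlgHom.id A K') g₃) :=
    map_id_injective_of_flat K' g₃ hg₃
  have hcomp : ∀ y : ↥A' ⊗[A] B,
      Algebra.TensorProduct.map A'.val (IsScalarTower.toAlgHom A B R) y =
        Algebra.TensorProduct.map (AlgHom.id A K') g₃
          (Algebra.TensorProduct.map (AlgHom.id A K') (Ideal.Quotient.mkₐ A (nilradical B))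
            (Algebra.TensorProduct.map A'.val (AlgHom.id A B) y)) := by
    intro y
    induction y using TensorProduct.induction_on with
    | zero => simp
    | tmul a b =>
      simp only [Algebra.TensorProduct.map_tmul, AlgHom.coe_id, id_eq]
      congr 1
      show algebraMap B R b = algebraMap (B ⧸ nilradical B) R (Ideal.Quotient.mk _ b)
      rw [IsScalarTower.algebraMap_apply B (B ⧸ nilradical B) R]
      rfl
    | add x y hx hy => simp only [map_add, hx, hy]
  obtain ⟨n, hn⟩ := hx
  rw [← map_pow, hcomp] at hn
  have h1 := hψ₃ (hn.trans (map_zero _).symm)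
  obtain ⟨m, hm⟩ := isNilpotent_of_map_mk_eq_zero K' _ h1
  rw [← map_pow, ← pow_mul] at hm
  exact ⟨n * m, hφ₁ (hm.trans (map_zero _).symm)⟩


end Groth.Agent.S4601
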