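import Groth.Statements.S4603
import Mathlib
import Groth.Agent.Lib.Helper10GenMap
import Groth.Agent.S1894
-- import your own Groth.Agent.* helpers here

set_option autoImplicit false
universe u
open AlgebraicGeometry CategoryTheory
open EGA41

namespace Groth.Agent.S4603

/-- Let f : X → Y be quasi-compact. The following are equivalent: f is dominant; the fibre of f over
every maximal point of Y (a point with no proper generization, i.e. the generic point of an
irreducible component) is nonempty; every maximal point of Y is the image of a maximal point of X. -/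
theorem result {X Y : Scheme.{u}} (f : X ⟶ Y) [QuasiCompact f] :
    [IsDominant f,
     ∀ y : Y, (∀ y' : Y, y' ⤳ y → y' = y) → y ∈ Set.range f.base,
     ∀ y : Y, (∀ y' : Y, y' ⤳ y → y' = y) → ∃ x : X, (∀ x' : X, x' ⤳ x → x' = x) ∧ f.base x = y].TFAE := by
  tfae_have 1 → 2 := by
    intro hdom y hy
    have h1 : y ∈ closure (f '' Set.univ) := by
      rw [Set.image_univ]
      exact hdom.denseRange y
    obtain ⟨c, -, hc⟩ := Groth.Agent.S1894.exists_specializes_of_mem_closure_image f Set.univ
      isClosed_univ y h1
    exact ⟨c, hy _ hc⟩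
  tfae_have 2 → 3 := by
    intro h y hy
    obtain ⟨x₀, hx₀⟩ := h y hy
    obtain ⟨x, hx, hxmax⟩ := Groth.Agent.Lib.Helper10.GenMap.exists_maximal_generization x₀
    refine ⟨x, hxmax, ?_⟩
    have h1 : f.base x ⤳ f.base x₀ := hx.map f.continuous
    rw [hx₀] at h1
    exact hy _ h1
  tfae_have 3 → 1 := by
    intro h
    refine ⟨fun y => ?_⟩
    obtain ⟨η, hη, hηmax⟩ := Groth.Agent.Lib.Helper10.GenMap.exists_maximal_generization y
    obtain ⟨x, -, hx⟩ := h η hηmax
    have h1 : y ∈ closure ({η} : Set Y) := hη.mem_closure
    have h2 : ({η} : Set Y) ⊆ Set.range f.base := Set.singleton_subset_iff.mpr ⟨x, hx⟩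
    exact closure_mono h2 h1
  tfae_finish

end Groth.Agent.S4603
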