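import Groth.Statements.S4622
import Groth.Agent.Lib.Helper2GeomPts
import Groth.Agent.Lib.Helper4UnibranchSch

set_option autoImplicit false
open CategoryTheory AlgebraicGeometry
universe u
open FBase

namespace Groth.Agent.S4622

/-- Let k be a separably closed field, k' an algebraic closure of k and X a scheme over k. Then the
projection X ⊗_k k' → X is a universal homeomorphism. -/
theorem result {k k' : Type u} [Field k] [IsSepClosed k] [Field k'] [Algebra k k']
    [IsAlgClosure k k'] {X : Scheme.{u}} (f : X ⟶ Spec (CommRingCat.of k)) :
    FlatMor.IsUnivHomeo (FBase.bcπ f k') := by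
  haveI : Algebra.IsAlgebraic k k' := IsAlgClosure.isAlgebraic
  haveI : IsPurelyInseparable k k' := inferInstance
  let g := Spec.map (CommRingCat.ofHom (algebraMap k k'))
  haveI : UniversallyInjective g :=
    Groth.Agent.Lib.Helper2.Weight.universallyInjective_SpecMap_of_isPurelyInseparable k k'
  haveI : IsIntegralHom g := by
    rw [IsIntegralHom.SpecMap_iff]
    exact Algebra.IsIntegral.isIntegral (R := k) (A := k')
  haveI : Surjective g := by
    rw [surjective_iff]
    intro y
    refine ⟨IsLocalRing.closedPoint k', Subsingleton.elim _ _⟩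
  have hg : FlatMor.IsUnivHomeo g :=
    Groth.Agent.Lib.Helper4.UnibranchSch.isUnivHomeo_of_isIntegralHom g
  haveI : (FlatMor.IsUnivHomeo.{u}).IsStableUnderBaseChange := by
    unfold FlatMor.IsUnivHomeo
    infer_instance
  exact MorphismProperty.pullback_fst (P := FlatMor.IsUnivHomeo) f g hg

end Groth.Agent.S4622
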