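import Groth.Statements.S4629
import Groth.Agent.Lib.Helper12GeomReduced

set_option autoImplicit false
open CategoryTheory AlgebraicGeometry
universe u
open FBase

namespace Groth.Agent.S4629

open CategoryTheory.Limits in
/-- If X and Y are schemes over a field k which are both geometrically reduced over k, then X ×_k Y is
geometrically reduced over k. -/
theorem result {k : Type u} [Field k] {X Y : Scheme.{u}}
    (f : X ⟶ Spec (CommRingCat.of k)) (g : Y ⟶ Spec (CommRingCat.of k)) [GeometricallyReduced f]
    [GeometricallyReduced g] : GeometricallyReduced (pullback.fst f g ≫ f) := by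
  rw [geometricallyReduced_iff]
  intro K _ y Z fst' snd' hZ
  have hXK : AlgebraicGeometry.IsReduced (pullback f y) :=
    pullback_of_geometrically (GeometricallyReduced.geometrically_isReduced (f := f)) K y
  have h1 : AlgebraicGeometry.IsReduced (pullback g (pullback.fst f y ≫ f)) :=
    Groth.Agent.Lib.Helper12.GR.isReduced_pullback g (pullback.fst f y ≫ f)
  let e : Z ≅ pullback g (pullback.fst f y ≫ f) :=
    hZ.isoPullback ≪≫ (pullbackRightPullbackFstIso f y (pullback.fst f g)).symm ≪≫
      pullbackSymmetry _ _ ≪≫ pullbackRightPullbackFstIso f g (pullback.fst f y) ≪≫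
      pullbackSymmetry _ _
  exact isReduced_of_isOpenImmersion e.hom

end Groth.Agent.S4629
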