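import Groth.Statements.S4632
import Groth.Agent.Lib.Helper2QuasiFlat

set_option autoImplicit false
open CategoryTheory AlgebraicGeometry
universe u
open FDesc

namespace Groth.Agent.S4632

open Groth.Agent.Lib.Helper2 in

open CategoryTheory.Limits in
/-- Let f : X → Y be a quasi-compact dominant morphism and g : Y' → Y a quasi-flat morphism (for
instance a flat one). Then the base change X ×_Y Y' → Y' is dominant. -/
theorem result {X Y Y' : Scheme.{u}} (f : X ⟶ Y) (g : Y' ⟶ Y)
    [QuasiCompact f] [IsDominant f] (hg : FDesc.IsQuasiFlat g) : IsDominant (pullback.snd f g) := by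
  have hgen := QuasiFlat.generalizingMap_of_isQuasiFlat g hg
  have h1 := QuasiFlat.preimage_closure_range_eq g hgen f
  have hd : DenseRange f := IsDominant.denseRange
  refine ⟨?_⟩
  rw [DenseRange, dense_iff_closure_eq, Scheme.Pullback.range_snd]
  change closure (g.base ⁻¹' Set.range f.base) = Set.univ
  rw [← h1]
  have : closure (Set.range f.base) = Set.univ := hd.closure_range
  rw [this, Set.preimage_univ]

end Groth.Agent.S4632
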