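import Groth.Statements.S4635
import Groth.Agent.Lib.Helper6NoEmb4

set_option autoImplicit false
open CategoryTheory AlgebraicGeometry
universe u
open FBase

namespace Groth.Agent.S4635

open CategoryTheory.Limits in
/-- Let X and Y be integral locally Noetherian schemes over a field k such that X ×_k Y is locally
Noetherian. Then the structure sheaf of X ×_k Y has no embedded associated points. -/
theorem result {k : Type u} [Field k] {X Y : Scheme.{u}}
    (f : X ⟶ Spec (CommRingCat.of k)) (g : Y ⟶ Spec (CommRingCat.of k)) [IsIntegral X] [IsIntegral Y]
    [IsLocallyNoetherian X] [IsLocallyNoetherian Y] [IsLocallyNoetherian (pullback f g)] :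
    AssSch.NoEmbedded (Coh.structureModule (pullback f g)) := by
  exact Groth.Agent.Lib.Helper6.NoEmb.noEmbedded_structureModule_prod f g

end Groth.Agent.S4635
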