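import Groth.Statements.S4636
import Mathlib
import Groth.Agent.Lib.Helper2Ass
import Groth.Agent.Lib.Helper2QCoh
import Groth.Agent.Lib.Helper23AssStalk
-- import your own Groth.Agent.* helpers here

set_option autoImplicit false
open CategoryTheory AlgebraicGeometry
universe u
open AssSch

namespace Groth.Agent.S4636


open Groth.Agent.Lib.Helper2.Ass Groth.Agent.Lib.Helper2.QCoh Opposite Groth.Agent.Lib.Helper23.AssStalk

/-- Let X be a locally Noetherian scheme, F a coherent O_X-module and x a point of X. Then x is a
maximal associated point of F (an associated point such that every associated point specialising to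
x equals x) if and only if x is the generic point of an irreducible component of Supp F, i.e. F_x ≠
0 and every point y with F_y ≠ 0 that specialises to x equals x. -/
theorem result {X : Scheme.{u}} [IsLocallyNoetherian X] (F : X.Modules)
    (hF : Coh.IsCoh F) (x : X) :
    (x ∈ AssSch.Ass F ∧ ∀ y ∈ AssSch.Ass F, y ⤳ x → y = x) ↔
      (Nontrivial ↑(F.presheaf.stalk x) ∧ ∀ y : X, Nontrivial ↑(F.presheaf.stalk y) → y ⤳ x → y = x) := by
  have : F.IsQuasicoherent := hF.1
  constructor
  · rintro ⟨hx, hmax⟩
    refine ⟨nontrivial_stalk_of_isAssPoint F x hx, ?_⟩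
    intro y hy hyx
    obtain ⟨z, hz, hzy⟩ := exists_isWeakAssPoint_specializes F y hy
    have hzA : z ∈ AssSch.Ass F := (isAssPoint_iff_isWeakAssPoint F z).2 hz
    have hzx : z = x := hmax z hzA (hzy.trans hyx)
    subst hzx
    exact (hyx.antisymm hzy).eq
  · rintro ⟨hx, hmax⟩
    obtain ⟨z, hz, hzx⟩ := exists_isWeakAssPoint_specializes F x hx
    have hzA : z ∈ AssSch.Ass F := (isAssPoint_iff_isWeakAssPoint F z).2 hz
    have hzx' : z = x := hmax z (nontrivial_stalk_of_isAssPoint F z hzA) hzx
    subst hzx'
    refine ⟨hzA, ?_⟩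
    intro y hy hyx
    exact hmax y (nontrivial_stalk_of_isAssPoint F y hy) hyx

end Groth.Agent.S4636
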