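import Groth.Statements.S4638
import Mathlib
import Groth.Agent.Lib.Helper2Ass
import Groth.Agent.Lib.Helper2QCoh
-- import your own Groth.Agent.* helpers here

set_option autoImplicit false
open CategoryTheory AlgebraicGeometry
universe u
open AssSch

namespace Groth.Agent.S4638


open Groth.Agent.Lib.Helper2.Ass Groth.Agent.Lib.Helper2.QCoh Opposite

/-- Let X be a locally Noetherian scheme, F a quasi-coherent O_X-module and f a global section of O_X.
Then f is F-regular, i.e. multiplication by the germ of f is injective on every stalk of F, if and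
only if every associated point of F lies in the open subset X_f where f does not vanish. -/
theorem result {X : Scheme.{u}} [IsLocallyNoetherian X] (F : X.Modules)
    (hF : Coh.IsQCoh F) (f : Γ(X, ⊤)) :
    (∀ x : X, IsSMulRegular ↑(F.presheaf.stalk x) (X.presheaf.germ ⊤ x trivial f)) ↔
      AssSch.Ass F ⊆ (X.basicOpen f : Set ↥X) := by
  have : F.IsQuasicoherent := hF
  constructor
  · intro hreg x hx
    by_contra hxf
    have hx' : Curv2.IsAssPoint F x := hx
    obtain ⟨hprime, m, hm⟩ := (isAssociatedPrime_iff).1 hx'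
    have hfm : X.presheaf.germ ⊤ x trivial f ∈ IsLocalRing.maximalIdeal (X.presheaf.stalk x) := by
      rw [IsLocalRing.mem_maximalIdeal, mem_nonunits_iff]
      intro hu
      exact hxf ((Scheme.mem_basicOpen_top X f x).2 hu)
    rw [hm, Submodule.mem_colon_singleton, Submodule.mem_bot] at hfm
    have hm0 : m = 0 := hreg x (by show _ • m = _ • (0 : F.presheaf.stalk x); rw [hfm, smul_zero])
    have : (1 : X.presheaf.stalk x) ∈ IsLocalRing.maximalIdeal (X.presheaf.stalk x) := by
      rw [hm, Submodule.mem_colon_singleton, Submodule.mem_bot, hm0, smul_zero]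
    exact (IsLocalRing.maximalIdeal.isMaximal _).ne_top ((Ideal.eq_top_iff_one _).2 this)
  · intro hAss x m₁ m₂ h12
    rw [← sub_eq_zero]
    have h0 : X.presheaf.germ ⊤ x trivial f • (m₁ - m₂) = 0 := by
      rw [smul_sub]; exact sub_eq_zero.2 h12
    generalize m₁ - m₂ = m at h0
    by_contra hm
    obtain ⟨W, hxW, s, rfl⟩ := F.presheaf.exists_germ_eq m
    set fW : Γ(X, W) := X.presheaf.map (homOfLE (le_top : W ≤ ⊤)).op f with hfW
    have hgf : X.presheaf.germ W x hxW fW = X.presheaf.germ ⊤ x trivial f :=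
      TopCat.Presheaf.germ_res_apply X.presheaf (homOfLE (le_top : W ≤ ⊤)) x hxW f
    have h1 : F.presheaf.germ W x hxW (fW • s) = F.presheaf.germ W x hxW 0 := by
      rw [germ_smul, hgf, h0, map_zero]
    obtain ⟨W', hxW', i₁, i₂, hW'⟩ := F.presheaf.germ_eq x hxW hxW _ 0 h1
    rw [map_zero] at hW'
    set s' : Γ(F, W') := F.presheaf.map i₁.op s with hs'
    have hs'0 : s' ≠ 0 := by
      intro h
      apply hm
      rw [← TopCat.Presheaf.germ_res_apply F.presheaf i₁ x hxW' s, ← hs', h, map_zero]
    obtain ⟨y, hyW', hyA, hgy⟩ := exists_isWeakAssPoint_of_ne_zero_open F W' s' hs'0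
    have hyAss : y ∈ AssSch.Ass F := (isAssPoint_iff_isWeakAssPoint F y).2 hyA
    have hyf : IsUnit (X.presheaf.germ ⊤ y trivial f) := (Scheme.mem_basicOpen_top X f y).1 (hAss hyAss)
    apply hgy
    apply germ_smul_eq_zero_of_isUnit hyf
    have hyW : y ∈ W := i₁.le hyW'
    have h2 : F.presheaf.germ W' y hyW' s' = F.presheaf.germ W y hyW s :=
      TopCat.Presheaf.germ_res_apply F.presheaf i₁ y hyW' s
    have hgfy : X.presheaf.germ W y hyW fW = X.presheaf.germ ⊤ y trivial f :=
      TopCat.Presheaf.germ_res_apply X.presheaf (homOfLE (le_top : W ≤ ⊤)) y hyW f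
    rw [h2, ← hgfy, ← germ_smul, ← TopCat.Presheaf.germ_res_apply F.presheaf i₁ y hyW' (fW • s), hW', map_zero]

end Groth.Agent.S4638
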