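import Groth.Statements.S4639
import Groth.Agent.Lib.Helper12EmbeddingDescent
import Groth.Agent.Lib.Helper12UniversallyDescent
import Groth.Agent.Lib.Helper12Descent

set_option autoImplicit false
open CategoryTheory AlgebraicGeometry
universe u
open FDesc

namespace Groth.Agent.S4639

/-- The property of being quasi-compact and universally bicontinuous (every base change is a
homeomorphism onto its image) descends along a surjective, flat and quasi-compact base change. -/
theorem result :
    MorphismProperty.DescendsAlong
      (MorphismProperty.universally (topologically (fun f => Topology.IsEmbedding f)) ⊓ @QuasiCompact : MorphismProperty Scheme.{u})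
      (@Surjective ⊓ @Flat ⊓ @QuasiCompact : MorphismProperty Scheme.{u}) := by
  constructor
  intro A X Y Z fst snd f g h hf hfst
  have hqc : QuasiCompact g :=
    Groth.Agent.Lib.Helper12.descendsAlong_quasiCompact.of_isPullback h hf hfst.2
  refine ⟨?_, hqc⟩
  refine Groth.Agent.Lib.Helper12.universally_of_isPullback
    (P := topologically (fun f => Topology.IsEmbedding f))
    (Q := (@Surjective ⊓ @Flat : MorphismProperty Scheme.{u})) (R := @QuasiCompact)
    ?_ h hf.1 hfst.1 hqc
  intro A X Y Z fst snd f g h hf hfst hg
  have : Flat f := hf.2
  have : Surjective f := hf.1
  have : QuasiCompact g := hg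
  exact Groth.Agent.Lib.Helper12.isEmbedding_of_isPullback h.flip hfst

end Groth.Agent.S4639
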