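import Groth.Statements.S4641
import Mathlib
import Groth.Agent.Lib.Helper2Ass
import Groth.Agent.Lib.Helper2QCoh
import Groth.Agent.Lib.Helper23AssStalk
import Groth.Agent.Lib.Helper23UnitStalk
import Groth.Agent.Lib.Helper23Serre
-- import your own Groth.Agent.* helpers here

set_option autoImplicit false
open CategoryTheory AlgebraicGeometry
universe u
open AssSch

namespace Groth.Agent.S4641


open Groth.Agent.Lib.Helper2.Ass Groth.Agent.Lib.Helper2.QCoh Opposite Groth.Agent.Lib.Helper23.AssStalk
  Groth.Agent.Lib.Helper23.UnitStalk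

/-- If a nonzero element of a flat module over a Noetherian local ring is killed by the maximal ideal, the
maximal ideal is an associated prime of the ring. -/
theorem maximalIdeal_isAssociatedPrime_of_flat {A : Type*} [CommRing A] [IsLocalRing A] [IsNoetherianRing A]
    {N : Type*} [AddCommGroup N] [Module A N] [Module.Flat A N] (n : N) (hn : n ≠ 0)
    (h : ∀ t ∈ IsLocalRing.maximalIdeal A, t • n = 0) :
    IsAssociatedPrime (IsLocalRing.maximalIdeal A) A := by
  have hsub : (IsLocalRing.maximalIdeal A : Set A) ⊆ ⋃ p ∈ associatedPrimes A A, (p : Set A) := by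
    rw [biUnion_associatedPrimes_eq_compl_nonZeroDivisors]
    intro t ht hreg
    have h1 : IsSMulRegular N t := Module.Flat.isSMulRegular_of_nonZeroDivisors hreg
    apply hn
    apply h1
    show t • n = t • (0 : N)
    rw [h t ht, smul_zero]
  have hfin : (associatedPrimes A A).Finite := associatedPrimes.finite A A
  have hsub' : (IsLocalRing.maximalIdeal A : Set A) ⊆ ⋃ p ∈ hfin.toFinset, (p : Set A) := by
    intro t ht
    obtain ⟨p, hp, htp⟩ := Set.mem_iUnion₂.1 (hsub ht)
    exact Set.mem_iUnion₂.2 ⟨p, hfin.mem_toFinset.2 hp, htp⟩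
  obtain ⟨p, hp, hle⟩ := (Ideal.subset_union_prime (s := hfin.toFinset) (f := fun p => p)
    (IsLocalRing.maximalIdeal A) (IsLocalRing.maximalIdeal A)
    (fun p hp _ _ => (hfin.mem_toFinset.1 hp).isPrime)).1 hsub'
  have hp' : IsAssociatedPrime p A := hfin.mem_toFinset.1 hp
  have : IsLocalRing.maximalIdeal A = p :=
    (IsLocalRing.maximalIdeal.isMaximal A).eq_of_le hp'.isPrime.ne_top hle
  rw [this]
  exact hp'

/-- Let f : X → Y be a morphism of locally Noetherian schemes such that Y has no embedded associated
points, and let F be a quasi-coherent O_X-module which is flat over Y. Then for every associated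
point x of F, f(x) is a maximal point of Y (every point of Y specialising to f(x) equals f(x)). (The
published statement assumes only Y locally Noetherian; X is taken locally Noetherian here so that
associated points are those whose maximal ideal is an annihilator.) -/
theorem result {X Y : Scheme.{u}} (f : X ⟶ Y) [IsLocallyNoetherian X]
    [IsLocallyNoetherian Y] (hY : AssSch.NoEmbedded (Coh.structureModule Y)) (F : X.Modules) (hF : Coh.IsQCoh F)
    (hfl : FlatMod.IsFlatOver f F) (x : X) (hx : x ∈ AssSch.Ass F) (y : Y) (hy : y ⤳ f x) : y = f x := by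
  have hx' : Curv2.IsAssPoint F x := hx
  obtain ⟨hprime, n, hn⟩ := (isAssociatedPrime_iff).1 hx'
  have hn0 : n ≠ 0 := by
    intro hn0
    have : (1 : X.presheaf.stalk x) ∈ IsLocalRing.maximalIdeal (X.presheaf.stalk x) := by
      rw [hn, Submodule.mem_colon_singleton, Submodule.mem_bot, hn0, smul_zero]
    exact (IsLocalRing.maximalIdeal.isMaximal _).ne_top ((Ideal.eq_top_iff_one _).2 this)
  -- `f x` is an associated point of `O_Y`
  have hfx : f x ∈ AssSch.Ass (Coh.structureModule Y) := by
    show Curv2.IsAssPoint _ _
    rw [isAssPoint_structureModule_iff]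
    letI := FlatMod.moduleStalkOver f F x
    haveI : Module.Flat (Y.presheaf.stalk (f x)) (F.presheaf.stalk x) := hfl x
    refine maximalIdeal_isAssociatedPrime_of_flat (N := F.presheaf.stalk x) n hn0 ?_
    intro t ht
    show (f.stalkMap x).hom t • n = 0
    have h1 : (f.stalkMap x).hom t ∈ IsLocalRing.maximalIdeal (X.presheaf.stalk x) := by
      rw [IsLocalRing.mem_maximalIdeal, mem_nonunits_iff] at ht ⊢
      intro hu
      exact ht (isUnit_of_map_unit (f.stalkMap x).hom t hu)
    rw [hn, Submodule.mem_colon_singleton, Submodule.mem_bot] at h1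
    exact h1
  -- a generization `y` of `f x` is a specialization of an associated point `z`
  have : (Coh.structureModule Y).IsQuasicoherent :=
    Groth.Agent.Lib.Helper23.Serre.isQuasicoherent_structureModule' Y
  obtain ⟨z, hz, hzy⟩ := exists_isWeakAssPoint_specializes (Coh.structureModule Y) y inferInstance
  have hzA : z ∈ AssSch.Ass (Coh.structureModule Y) :=
    (isAssPoint_iff_isWeakAssPoint (Coh.structureModule Y) z).2 hz
  have hzfx : f x = z := hY (f x) hfx z hzA (hzy.trans hy)
  rw [← hzfx] at hzy
  exact (hy.antisymm hzy).eq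

end Groth.Agent.S4641
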