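import Groth.Statements.S4642
import Groth.Agent.Lib.Helper4ProdDim
open Groth.Agent.Lib.Helper4.ProdDim

set_option autoImplicit false
set_option linter.style.haveILetI false
open CategoryTheory AlgebraicGeometry
universe u
open FBase

namespace Groth.Agent.S4642

/-- Let X be a scheme locally of finite type over a field k and K an extension field of k. Then X ⊗_k K
and X have the same dimension. (Dimension is the Krull dimension of the underlying topological
space, which for schemes locally of finite type over a field agrees with the supremum of the
transcendence degrees of the residue fields at maximal points.) -/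
theorem result {k K : Type u} [Field k] [Field K] [Algebra k K] {X : Scheme.{u}}
    (f : X ⟶ Spec (CommRingCat.of k)) [LocallyOfFiniteType f] :
    topologicalKrullDim ↥(FBase.bc f K) = topologicalKrullDim ↥X := by
  unfold FBase.bc
  have hW : topologicalKrullDim ↥(Limits.pullback f
      (Spec.map (CommRingCat.ofHom (algebraMap k K)))) =
      ⨆ i : X.affineCover.I₀, topologicalKrullDim ↥(Limits.pullback (X.affineCover.f i ≫ f)
        (Spec.map (CommRingCat.ofHom (algebraMap k K)))) :=
    topologicalKrullDim_eq_iSup_openCover _ (Scheme.Pullback.openCoverOfLeft X.affineCover f
      (Spec.map (CommRingCat.ofHom (algebraMap k K))))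
  rw [hW, topologicalKrullDim_eq_iSup_openCover X X.affineCover]
  refine iSup_congr fun i => ?_
  rw [topologicalKrullDim_pullback_of_isAffine k (X.affineCover.X i) (X.affineCover.f i ≫ f) K,
    ringKrullDim_eq_zero_of_field, add_zero]

end Groth.Agent.S4642
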