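import Groth.Statements.S4644
import Groth.Agent.Lib.Helper4VarDim8
open Groth.Agent.Lib.Helper4.VarDim

set_option autoImplicit false
set_option linter.style.haveILetI false
open CategoryTheory AlgebraicGeometry
universe u
open FBase

namespace Groth.Agent.S4644

/-- Let Y be a nonempty scheme locally of finite type over a field k whose irreducible components all
have the same dimension, and let Z be a locally closed subset of Y (the underlying set of a
subscheme). Then Z is nowhere dense in Y if and only if dim Z < dim Y. (For Y empty the left side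
holds and the right side fails, so Y is taken nonempty; dimensions are Krull dimensions of the
underlying spaces.) -/
theorem result {k : Type u} [Field k] {Y : Scheme.{u}} [Nonempty ↥Y]
    (g : Y ⟶ Spec (CommRingCat.of k)) [LocallyOfFiniteType g]
    (heq : ∀ T ∈ irreducibleComponents ↥Y, topologicalKrullDim ↥T = topologicalKrullDim ↥Y)
    (Z : Set ↥Y) (hZ : IsLocallyClosed Z) :
    IsNowhereDense Z ↔ topologicalKrullDim ↥Z < topologicalKrullDim ↥Y := by
  letI : Y.Over (Spec (CommRingCat.of k)) := ⟨g⟩
  haveI : LocallyOfFiniteType (Y ↘ Spec (CommRingCat.of k)) := ‹LocallyOfFiniteType g›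
  haveI : QuasiSober Z := quasiSober_of_isLocallyClosed Z hZ
  -- all maximal points have the same transcendence degree `d = dim Y`
  have hmaxdim : ∀ η : Y, closure ({η} : Set Y) ∈ irreducibleComponents Y →
      topologicalKrullDim Y = ((trdegNat k Y η : ℕ) : WithBot ℕ∞) := by
    intro η hη
    rw [← heq _ hη]
    exact topologicalKrullDim_closure_singleton k Y η
  obtain ⟨y₀⟩ := ‹Nonempty ↥Y›
  obtain ⟨η₀, hη₀, -⟩ := exists_generic_specializes y₀
  have hd := hmaxdim η₀ hη₀
  constructor
  · intro hnd
    have hint : interior (closure Z) = ∅ := hnd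
    have h1 : topologicalKrullDim Z + 1 ≤ topologicalKrullDim Y := by
      refine topologicalKrullDim_add_one_le k Y Z _ fun t ht => ?_
      obtain ⟨η, hη, hηt⟩ := exists_generic_specializes t
      have hmax : ∀ z : Y, z ⤳ η → z = η := fun z hz => eq_of_specializes_generic η z hη hz
      have hne : η ≠ t := by
        rintro rfl
        obtain ⟨N, hηN, hN⟩ := exists_opens_subset_closure k Y η hmax
        have h2 : (N : Set Y) ⊆ closure Z :=
          hN.trans (closure_mono (Set.singleton_subset_iff.mpr ht))
        have h3 : (N : Set Y) ⊆ interior (closure Z) := interior_maximal h2 N.isOpen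
        rw [hint] at h3
        exact h3 hηN
      have h4 : trdegNat k Y t + 1 ≤ trdegNat k Y η := trdegNat_lt_of_specializes k Y η t hηt hne
      refine le_trans ?_ (trdegNat_le_topologicalKrullDim k Y η)
      exact_mod_cast h4
    rw [hd] at h1 ⊢
    generalize topologicalKrullDim Z = a at h1
    induction a using WithBot.recBotCoe with
    | bot => exact WithBot.bot_lt_coe _
    | coe a =>
      induction a using ENat.recTopCoe with
      | top =>
        exfalso
        have : ((⊤ : ℕ∞) : WithBot ℕ∞) + 1 = ((⊤ : ℕ∞) : WithBot ℕ∞) := rfl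
        rw [this] at h1
        have h5 : (⊤ : ℕ∞) ≤ ((trdegNat k Y η₀ : ℕ) : ℕ∞) := by exact_mod_cast h1
        simp at h5
      | coe a =>
        have h5 : a + 1 ≤ trdegNat k Y η₀ := by exact_mod_cast h1
        have h6 : a < trdegNat k Y η₀ := h5
        exact_mod_cast h6
  · intro hlt
    change interior (closure Z) = ∅
    by_contra hne
    obtain ⟨v, hv⟩ := Set.nonempty_iff_ne_empty.mpr hne
    obtain ⟨η, hη, hηv⟩ := exists_generic_specializes v
    have hmax : ∀ z : Y, z ⤳ η → z = η := fun z hz => eq_of_specializes_generic η z hη hz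
    have hηV : η ∈ interior (closure Z) := hηv.mem_open isOpen_interior hv
    have hηcl : η ∈ closure Z := interior_subset hηV
    obtain ⟨N, hηN, hN⟩ := exists_opens_subset_closure k Y η hmax
    obtain ⟨z, hzN, hzZ⟩ := mem_closure_iff.mp hηcl N N.isOpen hηN
    have hηz : η ⤳ z := specializes_iff_mem_closure.mpr (hN hzN)
    obtain ⟨U, C, hU, hC, rfl⟩ := hZ
    have hηZ : η ∈ U ∩ C :=
      ⟨hηz.mem_open hU hzZ.1, (closure_minimal Set.inter_subset_right hC) hηcl⟩
    have h1 := trdegNat_le_topologicalKrullDim_of_isLocallyClosed k Y (U ∩ C)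
      ⟨U, C, hU, hC, rfl⟩ η hηZ
    rw [← hmaxdim η hη] at h1
    exact absurd hlt (not_lt.mpr h1)

end Groth.Agent.S4644
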