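import Groth.Statements.S4647
import Mathlib

set_option autoImplicit false
open CategoryTheory AlgebraicGeometry
universe u
open FDesc

namespace Groth.Agent.S4647

section Algebra
variable {A : Type u} [CommRing A]

/-- the kernel of `A → A_𝔭` is contained in every prime contained in `𝔭`. -/
theorem ker_le_of_le (𝔭 𝔮 : Ideal A) [𝔭.IsPrime] [𝔮.IsPrime] (h : 𝔮 ≤ 𝔭) :
    RingHom.ker (algebraMap A (Localization.AtPrime 𝔭)) ≤ 𝔮 := by
  intro a ha
  rw [RingHom.mem_ker, IsLocalization.map_eq_zero_iff 𝔭.primeCompl] at ha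
  obtain ⟨⟨s, hs⟩, hsa⟩ := ha
  have : s * a ∈ 𝔮 := by rw [hsa]; exact 𝔮.zero_mem
  rcases (‹𝔮.IsPrime›.mem_or_mem this) with h1 | h1
  · exact absurd (h h1) hs
  · exact h1

theorem exists_away_isDomain [TopologicalSpace.NoetherianSpace (PrimeSpectrum A)]
    (hA : ∀ (𝔭 : Ideal A) [𝔭.IsPrime], IsDomain (Localization.AtPrime 𝔭))
    (𝔭 : Ideal A) [𝔭.IsPrime] : ∃ s : A, s ∉ 𝔭 ∧ IsDomain (Localization.Away s) := by
  classical
  have : IsReduced A := by
    apply isReduced_ofLocalizationMaximal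
    intro P hP
    have := hA P
    infer_instance
  have := hA 𝔭
  set 𝔮 := RingHom.ker (algebraMap A (Localization.AtPrime 𝔭)) with h𝔮
  have h𝔮p : 𝔮.IsPrime := RingHom.ker_isPrime _
  have h𝔮𝔭 : 𝔮 ≤ 𝔭 := by
    intro a ha
    by_contra hna
    have hu : IsUnit (algebraMap A (Localization.AtPrime 𝔭) a) :=
      IsLocalization.map_units _ (⟨a, hna⟩ : 𝔭.primeCompl)
    rw [h𝔮, RingHom.mem_ker] at ha
    rw [ha] at hu
    exact not_isUnit_zero hu
  -- finiteness of minimal primes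
  have hfin : (minimalPrimes A).Finite := by
    rw [← PrimeSpectrum.vanishingIdeal_irreducibleComponents]
    exact (TopologicalSpace.NoetherianSpace.finite_irreducibleComponents).image _
  -- other minimal primes are not contained in 𝔭
  have hother : ∀ 𝔯 ∈ minimalPrimes A, 𝔯 ≠ 𝔮 → ¬ 𝔯 ≤ 𝔭 := by
    intro 𝔯 h𝔯 hne hle
    have : 𝔯.IsPrime := h𝔯.1.1
    have h1 : 𝔮 ≤ 𝔯 := ker_le_of_le 𝔭 𝔯 hle
    exact hne (le_antisymm (h𝔯.2 ⟨h𝔮p, bot_le⟩ h1) h1)
  -- choose s
  set F := hfin.toFinset.erase 𝔮 with hF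
  have hprod : ¬ (∏ 𝔯 ∈ F, 𝔯) ≤ 𝔭 := by
    intro hle
    obtain ⟨𝔯, h𝔯F, h𝔯⟩ := (Ideal.IsPrime.prod_le ‹𝔭.IsPrime›).mp hle
    rw [hF, Finset.mem_erase, Set.Finite.mem_toFinset] at h𝔯F
    exact hother 𝔯 h𝔯F.2 h𝔯F.1 h𝔯
  obtain ⟨s, hsF, hs𝔭⟩ := Set.not_subset.mp hprod
  have hsmem : ∀ 𝔯 ∈ minimalPrimes A, 𝔯 ≠ 𝔮 → s ∈ 𝔯 := by
    intro 𝔯 h𝔯 hne
    have h𝔯F : 𝔯 ∈ F := by
      rw [hF, Finset.mem_erase, Set.Finite.mem_toFinset]; exact ⟨hne, h𝔯⟩
    exact Ideal.prod_le_inf.trans (Finset.inf_le h𝔯F) hsF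
  have hs𝔮 : s ∉ 𝔮 := fun h => hs𝔭 (h𝔮𝔭 h)
  -- elements of 𝔮 are killed by s
  have hkill : ∀ a ∈ 𝔮, s * a = 0 := by
    intro a ha
    have hnil : s * a ∈ nilradical A := by
      rw [nilradical_eq_sInf, Ideal.mem_sInf]
      intro P hP
      have : P.IsPrime := hP
      obtain ⟨𝔯, h𝔯, h𝔯P⟩ := Ideal.exists_minimalPrimes_le (I := ⊥) (J := P) bot_le
      by_cases hne : 𝔯 = 𝔮
      · exact h𝔯P (hne ▸ 𝔮.mul_mem_left s ha)
      · exact h𝔯P (𝔯.mul_mem_right a (hsmem 𝔯 h𝔯 hne))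
    exact (nilradical_eq_zero A ▸ hnil : s * a ∈ (0 : Ideal A))
  refine ⟨s, hs𝔭, ?_⟩
  have hu : IsUnit (algebraMap A (Localization.AtPrime 𝔭) s) :=
    IsLocalization.map_units _ (⟨s, hs𝔭⟩ : 𝔭.primeCompl)
  let φ : Localization.Away s →+* Localization.AtPrime 𝔭 := IsLocalization.Away.lift s hu
  have hφ : Function.Injective φ := by
    rw [injective_iff_map_eq_zero]
    intro x hx
    obtain ⟨a, u, rfl⟩ := IsLocalization.exists_mk'_eq (Submonoid.powers s) x
    have h1 : φ (IsLocalization.mk' (Localization.Away s) a u) *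
        algebraMap A (Localization.AtPrime 𝔭) u = algebraMap A (Localization.AtPrime 𝔭) a := by
      have := IsLocalization.mk'_spec (Localization.Away s) a u
      have h2 := congrArg φ this
      rw [map_mul] at h2
      simpa [φ, IsLocalization.Away.lift] using h2
    rw [hx, zero_mul] at h1
    have ha : a ∈ 𝔮 := by rw [h𝔮, RingHom.mem_ker]; exact h1.symm
    rw [IsLocalization.mk'_eq_zero_iff]
    exact ⟨⟨s, Submonoid.mem_powers s⟩, hkill a ha⟩
  exact hφ.isDomain φ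

end Algebra


theorem isDomain_stalk_of_flat_surjective {X Y : Scheme.{u}} (f : X ⟶ Y) [Flat f] [Surjective f]
    (hX : ∀ x : X, IsDomain ↑(X.presheaf.stalk x)) (y : Y) : IsDomain ↑(Y.presheaf.stalk y) := by
  obtain ⟨x, rfl⟩ := f.surjective y
  have hinj : Function.Injective (f.stalkMap x).hom := by
    algebraize [(f.stalkMap x).hom]
    have : Module.FaithfullyFlat (Y.presheaf.stalk (f x)) (X.presheaf.stalk x) :=
      @Module.FaithfullyFlat.of_flat_of_isLocalHom _ _ _ _ _ _ _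
        (Flat.stalkMap f x) (f.toLRSHom.prop x)
    exact ‹RingHom.FaithfullyFlat _›.injective
  have := hX x
  exact hinj.isDomain _


/-- Let f : X → Y be a faithfully flat (flat and surjective) morphism. If all local rings of X are
domains (in particular if X is locally integral) and the underlying space of Y is locally
Noetherian, then Y is locally integral: every point of Y has an open neighbourhood which is an
integral scheme. -/
theorem result {X Y : Scheme.{u}} (f : X ⟶ Y) [Flat f] [Surjective f]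
    (hX : ∀ x : X, IsDomain ↑(X.presheaf.stalk x))
    (hY : ∀ y : Y, ∃ U : Y.Opens, y ∈ U ∧ TopologicalSpace.NoetherianSpace ↥U) (y : Y) :
    ∃ U : Y.Opens, y ∈ U ∧ IsIntegral (U : Scheme.{u}) := by
  have hYd := isDomain_stalk_of_flat_surjective f hX
  obtain ⟨U, hyU, hU⟩ := hY y
  obtain ⟨_, ⟨W, hW : IsAffineOpen W, rfl⟩, hyW, hWU⟩ :=
    Y.isBasis_affineOpens.exists_subset_of_mem_open hyU U.isOpen
  -- Spec Γ(Y, W) is a Noetherian space
  have hWN : TopologicalSpace.NoetherianSpace ↥W :=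
    (Topology.IsEmbedding.inclusion hWU).isInducing.noetherianSpace
  have hWN' : TopologicalSpace.NoetherianSpace ↥(W : Scheme.{u}) := hWN
  have hSpecN : TopologicalSpace.NoetherianSpace (PrimeSpectrum Γ(Y, W)) :=
    (Scheme.homeoOfIso hW.isoSpec).symm.isInducing.noetherianSpace
  -- localizations are domains
  have hA : ∀ (𝔭 : Ideal Γ(Y, W)) [𝔭.IsPrime], IsDomain (Localization.AtPrime 𝔭) := by
    intro 𝔭 h𝔭
    have hmem : hW.fromSpec ⟨𝔭, h𝔭⟩ ∈ W := by
      have : hW.fromSpec ⟨𝔭, h𝔭⟩ ∈ Set.range hW.fromSpec := Set.mem_range_self _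
      rwa [hW.range_fromSpec] at this
    letI := TopCat.Presheaf.algebra_section_stalk Y.presheaf ⟨hW.fromSpec ⟨𝔭, h𝔭⟩, hmem⟩
    have hloc : IsLocalization.AtPrime (Y.presheaf.stalk (hW.fromSpec ⟨𝔭, h𝔭⟩)) 𝔭 :=
      hW.isLocalization_stalk' ⟨𝔭, h𝔭⟩ hmem
    have := hYd (hW.fromSpec ⟨𝔭, h𝔭⟩)
    exact Function.Injective.isDomain (IsLocalization.algEquiv 𝔭.primeCompl (Localization.AtPrime 𝔭)
      (Y.presheaf.stalk (hW.fromSpec ⟨𝔭, h𝔭⟩))).toRingEquiv.toRingHom
      (IsLocalization.algEquiv 𝔭.primeCompl (Localization.AtPrime 𝔭)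
      (Y.presheaf.stalk (hW.fromSpec ⟨𝔭, h𝔭⟩))).injective
  obtain ⟨s, hs, hdom⟩ := exists_away_isDomain hA (hW.primeIdealOf ⟨y, hyW⟩).asIdeal
  refine ⟨Y.basicOpen s, ?_, ?_⟩
  · rw [Scheme.mem_basicOpen _ _ _ hyW]
    letI := TopCat.Presheaf.algebra_section_stalk Y.presheaf ⟨y, hyW⟩
    have hloc := hW.isLocalization_stalk ⟨y, hyW⟩
    exact (IsLocalization.AtPrime.isUnit_to_map_iff _ (hW.primeIdealOf ⟨y, hyW⟩).asIdeal s).mpr hs
  · have hyV : y ∈ Y.basicOpen s := by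
      rw [Scheme.mem_basicOpen _ _ _ hyW]
      letI := TopCat.Presheaf.algebra_section_stalk Y.presheaf ⟨y, hyW⟩
      have hloc := hW.isLocalization_stalk ⟨y, hyW⟩
      exact (IsLocalization.AtPrime.isUnit_to_map_iff _ (hW.primeIdealOf ⟨y, hyW⟩).asIdeal s).mpr hs
    have hV : IsAffineOpen (Y.basicOpen s) := hW.basicOpen s
    have : IsAffine ↑(Y.basicOpen s) := hV
    have : Nonempty ↑(Y.basicOpen s) := ⟨⟨y, hyV⟩⟩
    have hloc : IsLocalization.Away s Γ(Y, Y.basicOpen s) := hW.isLocalization_basicOpen s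
    let e1 : Localization.Away s ≃ₐ[Γ(Y, W)] Γ(Y, Y.basicOpen s) :=
      IsLocalization.algEquiv (Submonoid.powers s) _ _
    have hd1 : IsDomain Γ(Y, Y.basicOpen s) :=
      Function.Injective.isDomain e1.symm.toRingEquiv.toRingHom e1.symm.injective
    have hd2 : IsDomain Γ(↑(Y.basicOpen s), ⊤) :=
      Function.Injective.isDomain (Y.basicOpen s).topIso.commRingCatIsoToRingEquiv.toRingHom
        (Y.basicOpen s).topIso.commRingCatIsoToRingEquiv.injective
    exact isIntegral_of_isAffine_of_isDomain _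

end Groth.Agent.S4647
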