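import Groth.Statements.S4652
import Groth.Agent.Lib.Helper2LocFree

set_option autoImplicit false
open CategoryTheory AlgebraicGeometry
universe u
open FDesc

namespace Groth.Agent.S4652

open Groth.Agent.Lib.Helper2.LocFree in

/-- Let X be a scheme, F a finitely presented O_X-module and x a point of X. Then F_x is a flat module
over the local ring O_{X,x} if and only if x has an open neighbourhood U such that the restriction
of F to U is finite locally free. -/
theorem result {X : Scheme.{u}} (F : X.Modules) (hF : CohB1.IsFP F) (x : X) :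
    FlatMod.IsFlatAt F x ↔ ∃ U : X.Opens, x ∈ U ∧ FlatMod.IsFinLocFree ((Scheme.Modules.pullback U.ι).obj F) := by
  haveI : SheafOfModules.IsFinitePresentation (R := X.ringCatSheaf) F := hF
  haveI : F.IsQuasicoherent := inferInstance
  constructor
  · intro hfl
    obtain ⟨D, m, hxD, ⟨e⟩⟩ := exists_restrict_iso_freeMod_of_isFlatAt F x hfl
    exact ⟨D, hxD, isFinLocFree_of_iso_freeMod _
      (((Scheme.Modules.restrictFunctorIsoPullback D.ι).app F).symm ≪≫ e)⟩
  · rintro ⟨U, hxU, h⟩
    obtain ⟨U', n, hxU', ⟨e⟩⟩ := h ⟨x, hxU⟩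
    let e' : F.restrict (U'.ι ≫ U.ι) ≅ FlatMod.freeMod (U' : Scheme.{u}) n :=
      (Scheme.Modules.restrictFunctorComp U'.ι U.ι).app F ≪≫
        (Scheme.Modules.restrictFunctor U'.ι).mapIso ((Scheme.Modules.restrictFunctorIsoPullback U.ι).app F) ≪≫ e
    exact isFlatAt_of_restrict_iso_freeMod (U'.ι ≫ U.ι) F e' ⟨⟨x, hxU⟩, hxU'⟩

end Groth.Agent.S4652
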