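import Groth.Statements.S4653
-- import your own Groth.Agent.* helpers here
import Mathlib
import Groth.Agent.Lib.Helper26SuppFlat
import Groth.Agent.Lib.Helper26TensStalk
import Groth.Agent.Lib.Helper2FlatOver2
import Groth.Agent.Lib.Helper2FibreCrit2
import Groth.Agent.Lib.Helper2PullbackSec2
import Groth.Agent.Lib.Helper23FinType2

set_option autoImplicit false
open CategoryTheory AlgebraicGeometry
universe u
open FDesc

namespace Groth.Agent.S4653

open TensorProduct Groth.Agent.Lib.Helper2.FlatOver Groth.Agent.Lib.Helper26.SuppFlat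
  Groth.Agent.Lib.Helper26.TensStalk

set_option linter.style.haveILetI false

variable {X Y : Scheme.{u}}

theorem subsingleton_tensor_left {A L N : Type*} [CommRing A] [AddCommGroup L] [Module A L]
    [AddCommGroup N] [Module A N] [Subsingleton L] : Subsingleton (L ⊗[A] N) := ⟨fun a b => by
  have h : ∀ t : L ⊗[A] N, t = 0 := fun t => by
    induction t using TensorProduct.induction_on with
    | zero => rfl
    | tmul l n => rw [Subsingleton.elim l 0, TensorProduct.zero_tmul]
    | add a b ha hb => rw [ha, hb, add_zero]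
  rw [h a, h b]⟩

theorem subsingleton_tensor_right {A L N : Type*} [CommRing A] [AddCommGroup L] [Module A L]
    [AddCommGroup N] [Module A N] [Subsingleton N] : Subsingleton (L ⊗[A] N) := ⟨fun a b => by
  have h : ∀ t : L ⊗[A] N, t = 0 := fun t => by
    induction t using TensorProduct.induction_on with
    | zero => rfl
    | tmul l n => rw [Subsingleton.elim n 0, TensorProduct.tmul_zero]
    | add a b ha hb => rw [ha, hb, add_zero]
  rw [h a, h b]⟩

/-- `Supp (f^*E ⊗ F) = f⁻¹(Supp E) ∩ Supp F` for quasi-coherent modules of finite type. -/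
theorem mem_support_tensor_iff (f : X ⟶ Y) (F : X.Modules) [F.IsQuasicoherent]
    [SheafOfModules.IsFiniteType (R := X.ringCatSheaf) F] (E : Y.Modules) [E.IsQuasicoherent]
    [SheafOfModules.IsFiniteType (R := Y.ringCatSheaf) E] (z : X) :
    z ∈ CohB1.support (CohB1.tensorMod ((Scheme.Modules.pullback f).obj E) F) ↔
      f z ∈ CohB1.support E ∧ z ∈ CohB1.support F := by
  letI aAB : Algebra (Y.presheaf.stalk (f z)) (X.presheaf.stalk z) := (f.stalkMap z).hom.toAlgebra
  letI mAN := FlatMod.moduleStalkOver f F z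
  haveI : IsScalarTower (Y.presheaf.stalk (f z)) (X.presheaf.stalk z) (F.presheaf.stalk z) :=
    IsScalarTower.of_algebraMap_smul (fun _ _ => rfl)
  haveI : IsLocalHom (algebraMap (Y.presheaf.stalk (f z)) (X.presheaf.stalk z)) :=
    show IsLocalHom (f.stalkMap z).hom from inferInstance
  haveI := Groth.Agent.Lib.Helper2.FibreCrit.finite_stalk F z
  haveI := Groth.Agent.Lib.Helper2.FibreCrit.finite_stalk E (f z)
  obtain ⟨e, -⟩ := exists_stalk_tensor_equiv f F E z
  let s : ((CohB1.tensorMod ((Scheme.Modules.pullback f).obj E) F).presheaf.stalk z : Type u) ≃+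
      ((CohB1.tensorMod F ((Scheme.Modules.pullback f).obj E)).presheaf.stalk z : Type u) :=
    ((tensorStalk _ _ z).trans ((TensorProduct.comm _ _ _).trans (tensorStalk _ _ z).symm)).toAddEquiv
  have hiff : Subsingleton ((CohB1.tensorMod ((Scheme.Modules.pullback f).obj E) F).presheaf.stalk z : Type u) ↔
      Subsingleton ((F.presheaf.stalk z : Type u) ⊗[(Y.presheaf.stalk (f z) : Type u)]
        (E.presheaf.stalk (f z) : Type u)) := (s.trans e).toEquiv.subsingleton_congr
  change ¬ Subsingleton _ ↔ ¬ Subsingleton _ ∧ ¬ Subsingleton _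
  rw [hiff]
  constructor
  · intro h
    exact ⟨fun hE => h subsingleton_tensor_right, fun hF => h subsingleton_tensor_left⟩
  · rintro ⟨hE, hF⟩ h
    haveI : Nontrivial (E.presheaf.stalk (f z) : Type u) := not_subsingleton_iff_nontrivial.1 hE
    haveI : Nontrivial (F.presheaf.stalk z : Type u) := not_subsingleton_iff_nontrivial.1 hF
    haveI := nontrivial_tensor_of_local (A := (Y.presheaf.stalk (f z) : Type u))
      (B := (X.presheaf.stalk z : Type u)) (L := (E.presheaf.stalk (f z) : Type u))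
      (N := (F.presheaf.stalk z : Type u))
    exact not_subsingleton _ ((TensorProduct.comm _ _ _).toEquiv.subsingleton_congr.1 h)

/-- the support of the restriction to a fibre is the trace of the support. -/
theorem mem_support_pullback_fiber_iff (f : X ⟶ Y) (F : X.Modules) [F.IsQuasicoherent]
    [SheafOfModules.IsFiniteType (R := X.ringCatSheaf) F] (y : Y) (z' : f.fiber y) :
    z' ∈ CohB1.support ((Scheme.Modules.pullback (f.fiberι y)).obj F) ↔
      f.fiberι y z' ∈ CohB1.support F := by
  letI aAB : Algebra (X.presheaf.stalk ((f.fiberι y) z')) ((f.fiber y).presheaf.stalk z') :=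
    ((f.fiberι y).stalkMap z').hom.toAlgebra
  haveI : IsLocalHom (algebraMap (X.presheaf.stalk ((f.fiberι y) z'))
      ((f.fiber y).presheaf.stalk z')) :=
    show IsLocalHom ((f.fiberι y).stalkMap z').hom from inferInstance
  haveI := Groth.Agent.Lib.Helper2.FibreCrit.finite_stalk F ((f.fiberι y) z')
  obtain ⟨e⟩ := Groth.Agent.Lib.Helper2.PullbackSec.nonempty_stalk_linearEquiv (f.fiberι y) F z'
  change ¬ Subsingleton _ ↔ ¬ Subsingleton _
  rw [← e.toEquiv.subsingleton_congr]
  constructor
  · intro h hF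
    exact h subsingleton_tensor_right
  · intro hF h
    haveI : Nontrivial (F.presheaf.stalk ((f.fiberι y) z') : Type u) :=
      not_subsingleton_iff_nontrivial.1 hF
    haveI := nontrivial_tensor_of_local (A := (X.presheaf.stalk ((f.fiberι y) z') : Type u))
      (B := ((f.fiber y).presheaf.stalk z' : Type u))
      (L := (F.presheaf.stalk ((f.fiberι y) z') : Type u))
      (N := ((f.fiber y).presheaf.stalk z' : Type u))
    exact not_subsingleton _ ((TensorProduct.comm _ _ _).toEquiv.subsingleton_congr.1 h)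

section Dict

theorem primeIdealOf_le_iff {U : X.Opens} (hU : IsAffineOpen U) (x y : X) (hx : x ∈ U)
    (hy : y ∈ U) :
    (hU.primeIdealOf ⟨x, hx⟩).asIdeal ≤ (hU.primeIdealOf ⟨y, hy⟩).asIdeal ↔ x ⤳ y := by
  have h1 : (hU.primeIdealOf ⟨x, hx⟩).asIdeal ≤ (hU.primeIdealOf ⟨y, hy⟩).asIdeal ↔
      hU.primeIdealOf ⟨x, hx⟩ ⤳ hU.primeIdealOf ⟨y, hy⟩ :=
    PrimeSpectrum.le_iff_specializes _ _
  have h2 := hU.fromSpec.isOpenEmbedding.isInducing.specializes_iff
    (x := hU.primeIdealOf ⟨x, hx⟩) (y := hU.primeIdealOf ⟨y, hy⟩)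
  rw [hU.fromSpec_primeIdealOf ⟨x, hx⟩, hU.fromSpec_primeIdealOf ⟨y, hy⟩] at h2
  exact h1.trans h2.symm

theorem primeIdealOf_injective {U : X.Opens} (hU : IsAffineOpen U) (x y : X) (hx : x ∈ U)
    (hy : y ∈ U) (h : hU.primeIdealOf ⟨x, hx⟩ = hU.primeIdealOf ⟨y, hy⟩) : x = y := by
  have := congrArg hU.fromSpec h
  rwa [hU.fromSpec_primeIdealOf ⟨x, hx⟩, hU.fromSpec_primeIdealOf ⟨y, hy⟩] at this

theorem comap_appLE_primeIdealOf (f : X ⟶ Y) {V : Y.Opens} {U : X.Opens} (hV : IsAffineOpen V)
    (hU : IsAffineOpen U) (e : U ≤ f ⁻¹ᵁ V) (x : X) (hx : x ∈ U) :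
    (hU.primeIdealOf ⟨x, hx⟩).asIdeal.comap (f.appLE V U e).hom =
      (hV.primeIdealOf ⟨f x, e hx⟩).asIdeal := by
  ext a
  rw [Ideal.mem_comap]
  have h1 := Groth.Agent.Lib.Helper2.mem_basicOpen_iff_notMem_primeIdealOf hU x hx
    ((f.appLE V U e).hom a)
  have h2 := Groth.Agent.Lib.Helper2.mem_basicOpen_iff_notMem_primeIdealOf hV (f x) (e hx) a
  rw [← not_iff_not, ← h1, ← h2, Scheme.basicOpen_appLE]
  exact ⟨fun h => h.2, fun h => ⟨hx, h⟩⟩

theorem mem_support_iff_primeIdealOf {U : X.Opens} (hU : IsAffineOpen U) (G : X.Modules)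
    [G.IsQuasicoherent] (z : X) (hz : z ∈ U) :
    z ∈ CohB1.support G ↔ hU.primeIdealOf ⟨z, hz⟩ ∈ Module.support Γ(X, U) Γ(G, U) := by
  letI := moduleStalkSections G U z hz
  haveI := isLocalizedModule_germ hU G z hz
  let e := IsLocalizedModule.iso (hU.primeIdealOf ⟨z, hz⟩).asIdeal.primeCompl (germₗ G U z hz)
  rw [Module.mem_support_iff]
  change ¬ Subsingleton _ ↔ _
  rw [not_subsingleton_iff_nontrivial]
  exact e.toEquiv.nontrivial_congr.symm

end Dict

/-- going-down inside the support of a module flat over the base. -/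
theorem exists_generization_in_support (f : X ⟶ Y) (F : X.Modules) [F.IsQuasicoherent]
    [SheafOfModules.IsFiniteType (R := X.ringCatSheaf) F] (x : X)
    (hx : x ∈ CohB1.support F) (hfl : FlatMod.IsFlatOverAt f F x) (w : Y) (hw : w ⤳ f x) :
    ∃ z : X, z ⤳ x ∧ f z = w ∧ z ∈ CohB1.support F := by
  obtain ⟨U, V, hU, hV, hxU, e⟩ := exists_affine_nhds f x
  have hwV : w ∈ V := hw.mem_open V.2 (e hxU)
  letI aRR' : Algebra Γ(Y, V) Γ(X, U) := (f.appLE V U e).hom.toAlgebra
  letI mRM : Module Γ(Y, V) Γ(F, U) := Module.compHom Γ(F, U) (f.appLE V U e).hom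
  haveI : IsScalarTower Γ(Y, V) Γ(X, U) Γ(F, U) :=
    IsScalarTower.of_algebraMap_smul (fun _ _ => rfl)
  haveI : Module.Finite Γ(X, U) Γ(F, U) :=
    Groth.Agent.Lib.Helper23.FinType.finite_of_isFiniteType F hU
  let P' := (hU.primeIdealOf ⟨x, hxU⟩).asIdeal
  letI mS := moduleStalkSections F U x hxU
  haveI := isLocalizedModule_germ hU F x hxU
  let iso := IsLocalizedModule.iso P'.primeCompl (germₗ F U x hxU)
  haveI : Nontrivial (LocalizedModule P'.primeCompl Γ(F, U)) := by
    haveI : Nontrivial (F.presheaf.stalk x : Type u) := not_subsingleton_iff_nontrivial.1 hx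
    exact iso.toEquiv.nontrivial
  haveI : Module.Flat Γ(Y, V) (LocalizedModule P'.primeCompl Γ(F, U)) := by
    have h1 := (isFlatOverAt_iff_flat_base f F hV x (e hxU)).1 hfl
    letI mB := moduleStalkBase f F V x (e hxU)
    let isoR : LocalizedModule P'.primeCompl Γ(F, U) ≃ₗ[Γ(Y, V)] (F.presheaf.stalk x : Type u) :=
      { iso.toAddEquiv with
        map_smul' := fun a t => by
          change iso (a • t) = (f.stalkMap x).hom (Y.presheaf.germ V (f x) (e hxU) a) • iso t
          rw [← algebraMap_smul Γ(X, U) a t, map_smul, stalkMap_germ_eq f e x hxU a]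
          rfl }
    exact Module.Flat.of_linearEquiv isoR
  have hQ : (hV.primeIdealOf ⟨w, hwV⟩).asIdeal ≤ P'.comap (algebraMap Γ(Y, V) Γ(X, U)) := by
    change _ ≤ P'.comap (f.appLE V U e).hom
    rw [comap_appLE_primeIdealOf f hV hU e x hxU]
    exact (primeIdealOf_le_iff hV w (f x) hwV (e hxU)).2 hw
  obtain ⟨Q', hQ'le, hQ'comap, hQ'supp⟩ := exists_prime_support_of_flat (R := Γ(Y, V))
    (R' := Γ(X, U)) (M := Γ(F, U)) P' (hV.primeIdealOf ⟨w, hwV⟩).asIdeal hQ
  have hzU : hU.fromSpec Q' ∈ U := Groth.Agent.Lib.Helper2.QCoh.fromSpec_mem hU Q'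
  have hpz : hU.primeIdealOf ⟨hU.fromSpec Q', hzU⟩ = Q' :=
    Groth.Agent.Lib.Helper2.QCoh.primeIdealOf_fromSpec hU Q'
  refine ⟨hU.fromSpec Q', ?_, ?_, ?_⟩
  · rw [← primeIdealOf_le_iff hU _ x hzU hxU, hpz]
    exact hQ'le
  · apply primeIdealOf_injective hV _ w (e hzU) hwV
    apply PrimeSpectrum.ext
    rw [← comap_appLE_primeIdealOf f hV hU e _ hzU, hpz]
    exact hQ'comap
  · rw [mem_support_iff_primeIdealOf hU F _ hzU, hpz]
    exact hQ'supp

/-- Let f : X → Y be a morphism of schemes, F a quasi-coherent O_X-module of finite type which is flat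
over Y, E a quasi-coherent O_Y-module of finite type, and x a point of X with image y. Then x is a
maximal point of the support of f^*E ⊗ F (a point of the support admitting no proper generization in
it) if and only if y is a maximal point of Supp E and x, viewed in the fibre f⁻¹(y), is a maximal
point of the support of the restriction of F to that fibre. -/
theorem result {X Y : Scheme.{u}} (f : X ⟶ Y) (F : X.Modules) (hF : Coh.IsCoh F)
    (hfl : FlatMod.IsFlatOver f F) (E : Y.Modules) (hE : Coh.IsCoh E) (x : X) :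
    (x ∈ CohB1.support (CohB1.tensorMod ((Scheme.Modules.pullback f).obj E) F) ∧
        ∀ z ∈ CohB1.support (CohB1.tensorMod ((Scheme.Modules.pullback f).obj E) F), z ⤳ x → z = x) ↔
      ((f x ∈ CohB1.support E ∧ ∀ w ∈ CohB1.support E, w ⤳ f x → w = f x) ∧
        (f.asFiber x ∈ CohB1.support ((Scheme.Modules.pullback (f.fiberι (f x))).obj F) ∧
          ∀ z ∈ CohB1.support ((Scheme.Modules.pullback (f.fiberι (f x))).obj F), z ⤳ f.asFiber x → z = f.asFiber x)) := by
  haveI : F.IsQuasicoherent := hF.1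
  haveI : SheafOfModules.IsFiniteType (R := X.ringCatSheaf) F := hF.2
  haveI : E.IsQuasicoherent := hE.1
  haveI : SheafOfModules.IsFiniteType (R := Y.ringCatSheaf) E := hE.2
  have hA := mem_support_tensor_iff f F E
  have hB := mem_support_pullback_fiber_iff f F (f x)
  have hι : f.fiberι (f x) (f.asFiber x) = x := f.fiberι_asFiber x
  have hemb := (f.fiberι (f x)).isEmbedding
  constructor
  · rintro ⟨hxT, hmax⟩
    obtain ⟨hyE, hxF⟩ := (hA x).1 hxT
    refine ⟨⟨hyE, fun w hwE hw => ?_⟩, ⟨?_, fun z' hz' hsp => ?_⟩⟩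
    · obtain ⟨z, hzx, hfz, hzF⟩ := exists_generization_in_support f F x hxF (hfl x) w hw
      have hfzE : f z ∈ CohB1.support E := by
        rw [hfz]
        exact hwE
      have hzT := (hA z).2 ⟨hfzE, hzF⟩
      have h5 := hmax z hzT hzx
      rw [← hfz, h5]
    · rw [hB, hι]
      exact hxF
    · have h1 : f.fiberι (f x) z' ∈ CohB1.support F := (hB z').1 hz'
      have h2 : f (f.fiberι (f x) z') = f x := by
        have h0 : f.fiberι (f x) z' ∈ Set.range (f.fiberι (f x)) := Set.mem_range_self z'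
        rw [f.range_fiberι] at h0
        exact h0
      have h2' : f (f.fiberι (f x) z') ∈ CohB1.support E := by
        rw [h2]
        exact hyE
      have h3 := (hA _).2 ⟨h2', h1⟩
      have h4 : f.fiberι (f x) z' ⤳ x := by
        have h0 := hemb.isInducing.specializes_iff.2 hsp
        rwa [hι] at h0
      have h5 := hmax _ h3 h4
      exact hemb.injective (h5.trans hι.symm)
  · rintro ⟨⟨hyE, hymax⟩, ⟨hxF', hxmax⟩⟩
    have hxF : x ∈ CohB1.support F := by
      rw [hB, hι] at hxF'
      exact hxF'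
    refine ⟨(hA x).2 ⟨hyE, hxF⟩, fun z hzT hzx => ?_⟩
    obtain ⟨hfzE, hzF⟩ := (hA z).1 hzT
    have hfz : f z = f x := hymax _ hfzE (hzx.map f.continuous)
    obtain ⟨z', rfl⟩ : z ∈ Set.range (f.fiberι (f x)) := by
      rw [f.range_fiberι]
      exact hfz
    have h1 := (hB z').2 hzF
    have h2 : z' ⤳ f.asFiber x := hemb.isInducing.specializes_iff.1 (by rw [hι]; exact hzx)
    rw [hxmax z' h1 h2, hι]

end Groth.Agent.S4653
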