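import Groth.Statements.S4657
import Mathlib
import Groth.Agent.S2520
import Groth.Agent.S2509
import Groth.Agent.S4683
import Groth.Agent.Lib.Helper1TQ6
import Groth.Agent.Lib.Helper4DevO
import Groth.Agent.Lib.Helper23AssStalk

set_option autoImplicit false
open CategoryTheory AlgebraicGeometry
universe u
open AssSch

namespace Groth.Agent.S4657

open CategoryTheory CategoryTheory.Limits AlgebraicGeometry TopologicalSpace Opposite
open Groth.Agent.Lib.Helper1.TQ Groth.Agent.Lib.Helper4.Dev Groth.Agent.Lib.Helper4.NormDelta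
  Groth.Agent.Lib.Helper23.StalkLin Groth.Agent.Lib.Helper2.Ass

/-- the length of the stalk of a direct image along an open immersion -/
theorem length_stalk_push_open {X U : Scheme.{u}} (j : U ⟶ X) [IsOpenImmersion j] (N : U.Modules)
    (u : U) :
    Module.length (X.presheaf.stalk (j u))
      (((Scheme.Modules.pushforward j).obj N).presheaf.stalk (j u)) =
    Module.length (U.presheaf.stalk u) (N.presheaf.stalk u) := by
  let φ : X.presheaf.stalk (j u) →+* U.presheaf.stalk u := (j.stalkMap u).hom
  have hφ : Function.Surjective φ :=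
    ((ConcreteCategory.isIso_iff_bijective (j.stalkMap u)).1 inferInstance).2
  letI : Algebra (X.presheaf.stalk (j u)) (U.presheaf.stalk u) := φ.toAlgebra
  letI : Module (X.presheaf.stalk (j u)) (N.presheaf.stalk u) := Module.compHom _ φ
  haveI : IsScalarTower (X.presheaf.stalk (j u)) (U.presheaf.stalk u) (N.presheaf.stalk u) :=
    IsScalarTower.of_algebraMap_smul (fun _ _ => rfl)
  rw [← Module.length_eq_of_surjective (S := X.presheaf.stalk (j u)) (R := U.presheaf.stalk u)
    (M := N.presheaf.stalk u) hφ]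
  have hi : Topology.IsInducing j.base := j.isOpenEmbedding.isInducing
  let l : (((Scheme.Modules.pushforward j).obj N).presheaf.stalk (j u)) →ₗ[X.presheaf.stalk (j u)]
      (N.presheaf.stalk u) :=
    { toFun := fun a => pushStalkMap j u N a
      map_add' := fun a b => map_add (pushStalkMap j u N) a b
      map_smul' := fun r a => by
        rw [RingHom.id_apply]
        exact pushStalkMap_smul j u N r a }
  exact (LinearEquiv.ofBijective l (pushStalkMap_bijective j u hi N)).length_eq

variable {X : Scheme.{u}} [IsLocallyNoetherian X] (U : X.Opens) (F : X.Modules)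

/-- the stalk of `F` at a point of `U` is the stalk of `j_* j^* F` -/
noncomputable def unitEquiv (y : X) (hy : y ∈ U) :
    F.presheaf.stalk y ≃ₗ[X.presheaf.stalk y]
      ((Scheme.Modules.pushforward U.ι).obj (F.restrict U.ι)).presheaf.stalk y :=
  LinearEquiv.ofBijective (stalkLin (Groth.Agent.S2520.unitMap U F) y)
    (Groth.Agent.S2520.unitMap_stalk_bijective U F y hy)

/-- associated points of the restriction -/
theorem isAssPoint_restrict_iff [F.IsQuasicoherent] (u : U) :
    Curv2.IsAssPoint (F.restrict U.ι) u ↔ Curv2.IsAssPoint F (U.ι u) := by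
  haveI hNq : (F.restrict U.ι).IsQuasicoherent :=
    Groth.Agent.Lib.Helper26.Glue.isQuasicoherent_restrict U.ι F
  have h1 := Groth.Agent.S2509.result U (F.restrict U.ι) hNq
  have hyU : (U.ι u : X) ∈ U := u.2
  have h2 : Curv2.IsAssPoint F (U.ι u) ↔
      Curv2.IsAssPoint ((Scheme.Modules.pushforward U.ι).obj (F.restrict U.ι)) (U.ι u) :=
    (unitEquiv U F (U.ι u) hyU).isAssociatedPrime_iff
  rw [h2]
  constructor
  · intro h
    have : (U.ι u : X) ∈ U.ι.base '' AssSch.Ass (F.restrict U.ι) := ⟨u, h, rfl⟩
    rw [← h1] at this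
    exact this
  · intro h
    have : (U.ι u : X) ∈ U.ι.base '' AssSch.Ass (F.restrict U.ι) := by
      rw [← h1]; exact h
    obtain ⟨u', hu', he⟩ := this
    have : u' = u := U.ι.isOpenEmbedding.injective he
    rw [← this]; exact hu'

theorem length_restrict (u : U) :
    Module.length ((↑U : Scheme.{u}).presheaf.stalk u) ((F.restrict U.ι).presheaf.stalk u) =
      Module.length (X.presheaf.stalk (U.ι u)) (F.presheaf.stalk (U.ι u)) := by
  rw [← length_stalk_push_open U.ι (F.restrict U.ι) u]
  exact (unitEquiv U F (U.ι u) u.2).length_eq.symm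


/-- transfer to the pullback -/
noncomputable def pullEquiv (u : U) :
    (F.restrict U.ι).presheaf.stalk u ≃ₗ[(↑U : Scheme.{u}).presheaf.stalk u]
      ((Scheme.Modules.pullback U.ι).obj F).presheaf.stalk u :=
  LinearEquiv.ofBijective (stalkL ((Scheme.Modules.restrictFunctorIsoPullback U.ι).app F).hom u)
    (stalkL_bijective_of_isIso ((Scheme.Modules.restrictFunctorIsoPullback U.ι).app F).hom u)

theorem isAssPoint_pullback_iff [F.IsQuasicoherent] (u : U) :
    Curv2.IsAssPoint ((Scheme.Modules.pullback U.ι).obj F) u ↔ Curv2.IsAssPoint F (U.ι u) :=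
  (pullEquiv U F u).isAssociatedPrime_iff.symm.trans (isAssPoint_restrict_iff U F u)

theorem length_pullback (u : U) :
    Module.length ((↑U : Scheme.{u}).presheaf.stalk u)
        (((Scheme.Modules.pullback U.ι).obj F).presheaf.stalk u) =
      Module.length (X.presheaf.stalk (U.ι u)) (F.presheaf.stalk (U.ι u)) :=
  ((pullEquiv U F u).length_eq).symm.trans (length_restrict U F u)

/-- without embedded points and with `U ∩ Supp F` dense in `Supp F`, all associated points lie in `U` -/
theorem mem_of_dense (hF : Coh.IsCoh F) (hne : AssSch.NoEmbedded F)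
    (hdense : CohB1.support F ⊆ closure ((U : Set ↥X) ∩ CohB1.support F)) (x : X)
    (hx : x ∈ AssSch.Ass F) : x ∈ U := by
  classical
  haveI : F.IsQuasicoherent := hF.1
  obtain ⟨V, hV, hxV, -⟩ := exists_isAffineOpen_mem_and_subset (x := x) (U := ⊤) trivial
  have hfin := Groth.Agent.S4683.finite_ass_inter F hF hV
  let Φ' : Set X := {y | (y ∈ AssSch.Ass F ∧ y ∈ V) ∧ y ≠ x}
  have hΦ' : Φ'.Finite := hfin.subset (fun y hy => hy.1)
  let W : Set X := (V : Set X) ∩ ⋂ y ∈ Φ', (closure {y})ᶜ
  have hWo : IsOpen W :=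
    V.isOpen.inter (hΦ'.isOpen_biInter (fun y _ => isClosed_closure.isOpen_compl))
  have hxW : x ∈ W := by
    refine ⟨hxV, Set.mem_iInter₂.2 fun y hy hxy => ?_⟩
    have hs : y ⤳ x := specializes_iff_mem_closure.2 hxy
    exact hy.2 (hne x hx y hy.1.1 hs).symm
  have hxS : x ∈ CohB1.support F := by
    haveI := Groth.Agent.Lib.Helper23.AssStalk.nontrivial_stalk_of_isAssPoint F x hx
    exact not_subsingleton _
  obtain ⟨z, hzW, hzU, hzS⟩ := mem_closure_iff.1 (hdense hxS) W hWo hxW
  have hnt : Nontrivial (F.presheaf.stalk z) := not_subsingleton_iff_nontrivial.1 hzS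
  obtain ⟨y, hy, hyz⟩ :=
    Groth.Agent.Lib.Helper23.AssStalk.exists_isWeakAssPoint_specializes F z hnt
  have hyA : y ∈ AssSch.Ass F := (isAssPoint_iff_isWeakAssPoint F y).2 hy
  have hyV : y ∈ V := hyz.mem_open V.isOpen hzW.1
  have hyx : y = x := by
    by_contra hne'
    have hyΦ : y ∈ Φ' := ⟨⟨hyA, hyV⟩, hne'⟩
    exact Set.mem_iInter₂.1 hzW.2 y hyΦ (specializes_iff_mem_closure.1 hyz)
  rw [← hyx]
  exact hyz.mem_open U.isOpen hzU


/-- Let X be a locally Noetherian scheme, U an open subset of X and F a coherent O_X-module such that U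
∩ Supp F is dense in Supp F. Then F is a reduced module if and only if its restriction to U is a
reduced module and F has no embedded associated points. -/
theorem result {X : Scheme.{u}} [IsLocallyNoetherian X] (U : X.Opens) (F : X.Modules)
    (hF : Coh.IsCoh F) (hdense : CohB1.support F ⊆ closure ((U : Set ↥X) ∩ CohB1.support F)) :
    AssSch.IsReducedMod F ↔ AssSch.IsReducedMod ((Scheme.Modules.pullback U.ι).obj F) ∧ AssSch.NoEmbedded F := by
  haveI : F.IsQuasicoherent := hF.1
  constructor
  · rintro ⟨hne, hlen⟩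
    refine ⟨⟨?_, ?_⟩, hne⟩
    · intro u hu u' hu' hs
      have h1 := (isAssPoint_pullback_iff U F u).1 hu
      have h2 := (isAssPoint_pullback_iff U F u').1 hu'
      have hs' : (U.ι u' : X) ⤳ U.ι u := hs.map U.ι.continuous
      exact U.ι.isOpenEmbedding.injective (hne _ h1 _ h2 hs')
    · intro u hu
      rw [length_pullback]
      exact hlen _ ((isAssPoint_pullback_iff U F u).1 hu)
  · rintro ⟨⟨hneU, hlenU⟩, hne⟩
    refine ⟨hne, fun x hx => ?_⟩
    have hxU := mem_of_dense U F hF hne hdense x hx
    have h1 := hlenU ⟨x, hxU⟩ ((isAssPoint_pullback_iff U F ⟨x, hxU⟩).2 hx)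
    rw [length_pullback] at h1
    exact h1

end Groth.Agent.S4657
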