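import Groth.Statements.S4658
import Mathlib
import Groth.Agent.Lib.Helper23AssAffine
import Groth.Agent.Lib.Helper4CycLen2
import Groth.Agent.Lib.Helper4DevH
import Groth.Agent.Lib.Helper13QCohIso
import Groth.Agent.Lib.Helper17SpreadD
import Groth.Agent.Lib.Helper23SecTw
import Groth.Agent.Lib.Helper4KFilt
import Groth.Agent.Lib.Helper20StalkExact
import Groth.Agent.Lib.Helper23QCohAbelian
import Groth.Agent.Lib.Helper23FPQuot

set_option autoImplicit false
open CategoryTheory AlgebraicGeometry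
universe u
open AssSch

namespace Groth.Agent.S4658

open TopologicalSpace Opposite CategoryTheory.Limits Groth.Agent.Lib.Helper4.Dev Groth.Agent.Lib.Helper2.Push

variable {X : Scheme.{u}}

/-- the ideal sheaf of the closure of a point -/
noncomputable abbrev Ix (x : X) : X.IdealSheafData :=
  Scheme.IdealSheafData.vanishingIdeal ⟨closure {x}, isClosed_closure⟩

/-- the structure sheaf of the reduced closure of a point -/
noncomputable abbrev OZ (x : X) : X.Modules :=
  (Scheme.Modules.pushforward (Ix x).subschemeι).obj (Coh.structureModule (Ix x).subscheme)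

theorem ideal_eq (x : X) {U : X.Opens} (hU : IsAffineOpen U) (hx : x ∈ U) :
    (Ix x).ideal ⟨U, hU⟩ = (hU.primeIdealOf ⟨x, hx⟩).asIdeal := by
  have h0 : (Ix x).ideal ⟨U, hU⟩ = PrimeSpectrum.vanishingIdeal (hU.fromSpec ⁻¹' (closure {x} : Set X)) :=
    Scheme.IdealSheafData.vanishingIdeal_ideal _ _
  have h1 : hU.fromSpec (hU.primeIdealOf ⟨x, hx⟩) = x := hU.fromSpec_primeIdealOf ⟨x, hx⟩
  refine h0.trans ?_
  ext r
  rw [PrimeSpectrum.mem_vanishingIdeal]
  constructor
  · intro h
    exact h (hU.primeIdealOf ⟨x, hx⟩) (by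
      change hU.fromSpec (hU.primeIdealOf ⟨x, hx⟩) ∈ closure {x}
      rw [h1]
      exact subset_closure rfl)
  · intro hr q hq
    have hq' : hU.fromSpec q ∈ closure {hU.fromSpec (hU.primeIdealOf ⟨x, hx⟩)} := by
      rw [h1]; exact hq
    have h2 : hU.fromSpec (hU.primeIdealOf ⟨x, hx⟩) ⤳ hU.fromSpec q := specializes_iff_mem_closure.2 hq'
    have h3 : hU.primeIdealOf ⟨x, hx⟩ ⤳ q :=
      (hU.fromSpec.isOpenEmbedding.isInducing.specializes_iff).1 h2
    exact (PrimeSpectrum.le_iff_specializes _ _).2 h3 hr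

/-- the section `1` of `O_Z` over an open -/
noncomputable def oneS (x : X) (W : X.Opens) : Γ(OZ x, W) :=
  (1 : Γ((Ix x).subscheme, (Ix x).subschemeι ⁻¹ᵁ W))

theorem smul_oneS (x : X) (W : X.Opens) (r : Γ(X, W)) :
    r • oneS x W = (show Γ(OZ x, W) from (Ix x).subschemeι.app W r) := by
  rw [pushforward_smul]
  change ((Ix x).subschemeι.app W r) * (1 : Γ((Ix x).subscheme, (Ix x).subschemeι ⁻¹ᵁ W)) = _
  rw [mul_one]

theorem exists_smul_oneS (x : X) {W : X.Opens} (hW : IsAffineOpen W) (t : Γ(OZ x, W)) :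
    ∃ r : Γ(X, W), r • oneS x W = t := by
  obtain ⟨r, hr⟩ := (Ix x).subschemeι_app_surjective ⟨W, hW⟩
    (show Γ((Ix x).subscheme, (Ix x).subschemeι ⁻¹ᵁ W) from t)
  exact ⟨r, by rw [smul_oneS]; exact hr⟩

theorem smul_oneS_eq_zero_iff (x : X) {W : X.Opens} (hW : IsAffineOpen W) (hx : x ∈ W) (r : Γ(X, W)) :
    r • oneS x W = 0 ↔ r ∈ (hW.primeIdealOf ⟨x, hx⟩).asIdeal := by
  rw [smul_oneS, ← ideal_eq x hW hx, ← (Ix x).ker_subschemeι_app ⟨W, hW⟩, RingHom.mem_ker]
  rfl

/-- sections of `O_Z` over an affine open containing `x` form the residue ring at the prime of `x` -/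
noncomputable def secEquiv (x : X) {W : X.Opens} (hW : IsAffineOpen W) (hx : x ∈ W) :
    (Γ(X, W) ⧸ (hW.primeIdealOf ⟨x, hx⟩).asIdeal) ≃ₗ[Γ(X, W)] Γ(OZ x, W) :=
  let l : Γ(X, W) →ₗ[Γ(X, W)] Γ(OZ x, W) := LinearMap.toSpanSingleton _ _ (oneS x W)
  have hsurj : Function.Surjective l := fun t => by
    obtain ⟨r, hr⟩ := exists_smul_oneS x hW t
    exact ⟨r, hr⟩
  have hker : LinearMap.ker l = (hW.primeIdealOf ⟨x, hx⟩).asIdeal := by
    ext r
    rw [LinearMap.mem_ker]
    exact smul_oneS_eq_zero_iff x hW hx r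
  (Submodule.quotEquivOfEq _ _ hker.symm).trans (l.quotKerEquivOfSurjective hsurj)

theorem isAssPoint_iff_exists_injective [IsLocallyNoetherian X] (F : X.Modules) [F.IsQuasicoherent] (x : X)
    {W : X.Opens} (hW : IsAffineOpen W) (hx : x ∈ W) :
    Curv2.IsAssPoint F x ↔ ∃ h : Γ(OZ x, W) →ₗ[Γ(X, W)] Γ(F, W), Function.Injective h := by
  haveI : IsNoetherianRing Γ(X, W) := IsLocallyNoetherian.component_noetherian ⟨W, hW⟩
  rw [Groth.Agent.Lib.Helper23.AssAffine.isAssPoint_iff_mem_associatedPrimes hW F x hx,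
    AssociatedPrimes.mem_iff, isAssociatedPrime_iff_exists_injective_linearMap]
  constructor
  · rintro ⟨_, f, hf⟩
    exact ⟨f ∘ₗ (secEquiv x hW hx).symm.toLinearMap, hf.comp (secEquiv x hW hx).symm.injective⟩
  · rintro ⟨h, hh⟩
    exact ⟨(hW.primeIdealOf ⟨x, hx⟩).isPrime,
      h ∘ₗ (secEquiv x hW hx).toLinearMap, hh.comp (secEquiv x hW hx).injective⟩

open Groth.Agent.Lib.Helper20.StalkExact Groth.Agent.Lib.Helper23.QCohLocal in
/-- left exactness of sections -/
theorem exists_app_eq_of_exact' (E : ShortComplex X.Modules) (hE : E.Exact) [Mono E.f] (V : X.Opens)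
    (t : Γ(E.X₂, V)) (ht : Scheme.Modules.Hom.app E.g V t = 0) :
    ∃ r : Γ(E.X₁, V), Scheme.Modules.Hom.app E.f V r = t := by
  haveI : (secF (X := X) V).PreservesZeroMorphisms := ⟨fun _ _ => rfl⟩
  have h1 : (E.map (secF V)).Exact :=
    hE.map_of_mono_of_preservesKernel (secF V) inferInstance inferInstance
  rw [ShortComplex.ab_exact_iff] at h1
  exact h1 t ht

open Groth.Agent.Lib.Helper20.StalkExact Groth.Agent.Lib.Helper23.QCohLocal in
/-- a map of quasi-coherent modules injective on sections over an affine open is injective on sections over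
every smaller open -/
theorem injective_app_of_le {W : X.Opens} (hW : IsAffineOpen W) (H F : X.Modules) [H.IsQuasicoherent]
    [F.IsQuasicoherent] (p : H ⟶ F) (hp : Function.Injective (p.app W)) (V : X.Opens) (hV : V ≤ W) :
    Function.Injective (p.app V) := by
  haveI : (kernel p).IsQuasicoherent := isQuasicoherent_kernel p
  have hK : ∀ k : Γ(kernel p, W), k = 0 := by
    intro k
    apply injective_app_of_mono (kernel.ι p) W
    rw [map_zero]
    apply hp
    rw [map_zero]
    have := congr(Scheme.Modules.Hom.app $(kernel.condition p) W k)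
    rw [Scheme.Modules.Hom.comp_app] at this
    exact this
  -- the kernel has no sections over any open inside `W`
  obtain ⟨Z0, hZ0⟩ := (inferInstance : HasZeroObject X.Modules).zero
  haveI : Z0.IsQuasicoherent := (Groth.Agent.Lib.Helper23.FPQuot.isFP_of_isZero hZ0).1
  let z : kernel p ⟶ Z0 := 0
  haveI := Groth.Agent.Lib.Helper23.FPQuot.subsingleton_of_isZero hZ0 W
  have hzb : Function.Bijective (z.app W) := by
    refine ⟨fun a b _ => by rw [hK a, hK b], fun b => ⟨0, Subsingleton.elim _ _⟩⟩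
  have hKV : ∀ k : Γ(kernel p, V), k = 0 := by
    intro k
    have hb := Groth.Agent.Helper13QCohIso.bijective_app_of_le hW (kernel p) Z0 z hzb V hV
    apply hb.1
    haveI := Groth.Agent.Lib.Helper23.FPQuot.subsingleton_of_isZero hZ0 V
    exact Subsingleton.elim _ _
  rw [injective_iff_map_eq_zero]
  intro m hm
  obtain ⟨k, hk⟩ := exists_app_eq_of_exact' (ShortComplex.mk (kernel.ι p) p (kernel.condition p))
    (ShortComplex.exact_kernel p) V m hm
  rw [← hk, hKV k, map_zero]

theorem isCoh_OZ [IsLocallyNoetherian X] (x : X) : Coh.IsCoh (OZ x) :=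
  isCoh_push_closed _ _ (isCoh_structureModule _)

/-- an injective linear map on sections over an affine open gives a monomorphism over that open -/
theorem exists_mono_of_injective [IsLocallyNoetherian X] (F : X.Modules) [F.IsQuasicoherent] (x : X)
    {W : X.Opens} (hW : IsAffineOpen W) (h : Γ(OZ x, W) →ₗ[Γ(X, W)] Γ(F, W)) (hh : Function.Injective h) :
    ∃ ψ : (Scheme.Modules.restrictFunctor W.ι).obj (OZ x) ⟶ (Scheme.Modules.restrictFunctor W.ι).obj F,
      Mono ψ := by
  haveI : (OZ x).IsQuasicoherent := (isCoh_OZ x).1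
  obtain ⟨H, p₁, p₂, hq, hbij, hcomp, -, -⟩ := exists_graph_of_linear' hW (OZ x) F h
  have hb : ∀ V : X.Opens, V ≤ W → Function.Bijective (p₁.app V) :=
    Groth.Agent.Helper13QCohIso.bijective_app_of_le hW H (OZ x) p₁ hbij
  have hinjW : Function.Injective (p₂.app W) := by
    intro a b hab
    rw [hcomp, hcomp] at hab
    exact hbij.1 (hh hab)
  have hi : ∀ V : X.Opens, V ≤ W → Function.Injective (p₂.app V) :=
    injective_app_of_le hW H F p₂ hinjW
  have hle : ∀ T : (↑W : Scheme.{u}).Opens, W.ι ''ᵁ T ≤ W := fun T => by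
    have := Scheme.Hom.image_le_opensRange W.ι T
    rwa [Scheme.Opens.opensRange_ι] at this
  haveI : IsIso ((Scheme.Modules.restrictFunctor W.ι).map p₁) :=
    Groth.Agent.Lib.Helper17.Spread.isIso_of_bijective_app _ (fun T => hb _ (hle T))
  haveI : Mono ((Scheme.Modules.restrictFunctor W.ι).map p₂) :=
    mono_of_injective_app _ (fun T => hi _ (hle T))
  exact ⟨inv ((Scheme.Modules.restrictFunctor W.ι).map p₁) ≫ (Scheme.Modules.restrictFunctor W.ι).map p₂,
    inferInstance⟩

/-- a monomorphism over an open neighbourhood gives an injective linear map on sections over an affine open -/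
theorem exists_injective_of_mono (F : X.Modules) (x : X) (U : X.Opens) (hx : x ∈ U)
    (ψ : (Scheme.Modules.restrictFunctor U.ι).obj (OZ x) ⟶ (Scheme.Modules.restrictFunctor U.ι).obj F)
    [Mono ψ] :
    ∃ (W : X.Opens) (_ : IsAffineOpen W) (_ : x ∈ W) (h : Γ(OZ x, W) →ₗ[Γ(X, W)] Γ(F, W)),
      Function.Injective h := by
  obtain ⟨V', hV'0, hxV', -⟩ := (Opens.isBasis_iff_nbhd.1 (↑U : Scheme.{u}).isBasis_affineOpens)
    (Opens.mem_top (⟨x, hx⟩ : (↑U : Scheme.{u})))
  have hV' : IsAffineOpen V' := hV'0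
  refine ⟨U.ι ''ᵁ V', hV'.image_of_isOpenImmersion U.ι, ⟨⟨x, hx⟩, hxV', rfl⟩, ?_, ?_⟩
  · let f : Γ((OZ x).restrict U.ι, V') →+ Γ(F.restrict U.ι, V') := (ψ.app V').hom
    exact
      { toFun := fun m => f m
        map_add' := fun a b => map_add f a b
        map_smul' := fun r m => by
          rw [RingHom.id_apply]
          have h1 := Groth.Agent.Lib.Helper23.SecTw.smul_restrict_eq (OZ x) U V' r m
          have h2 := Groth.Agent.Lib.Helper23.SecTw.smul_restrict_eq F U V' r (f m)
          have h3 : f ((show Γ((↑U : Scheme.{u}), V') from r) •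
              (show Γ((OZ x).restrict U.ι, V') from m)) =
              (show Γ((↑U : Scheme.{u}), V') from r) • f m :=
            Scheme.Modules.Hom.app_smul ψ _ _
          exact (congrArg (fun t => f t) h1.symm).trans (h3.trans h2) }
  · exact Groth.Agent.Lib.Helper20.StalkExact.injective_app_of_mono ψ V'

theorem exists_affine_nhd (x : X) : ∃ W : X.Opens, IsAffineOpen W ∧ x ∈ W := by
  obtain ⟨W, hW0, hxW, -⟩ := (Opens.isBasis_iff_nbhd.1 X.isBasis_affineOpens) (Opens.mem_top x)
  exact ⟨W, hW0, hxW⟩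


/-- Let X be a locally Noetherian scheme, F a quasi-coherent O_X-module and x a point of X; let Z be the
reduced closed subscheme of X whose underlying space is the closure of x, and O_Z its structure
sheaf viewed as an O_X-module. Then x is an associated point of F if and only if x has an open
neighbourhood U over which there is a monomorphism of O_U-modules O_Z|_U → F|_U. -/
theorem result {X : Scheme.{u}} [IsLocallyNoetherian X] (F : X.Modules)
    (hF : Coh.IsQCoh F) (x : X) :
    x ∈ AssSch.Ass F ↔ ∃ (U : X.Opens), x ∈ U ∧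
      ∃ φ : (Scheme.Modules.pullback U.ι).obj
              ((Scheme.Modules.pushforward (Scheme.IdealSheafData.vanishingIdeal ⟨closure {x}, isClosed_closure⟩).subschemeι).obj
                (Coh.structureModule (Scheme.IdealSheafData.vanishingIdeal ⟨closure {x}, isClosed_closure⟩).subscheme)) ⟶
            (Scheme.Modules.pullback U.ι).obj F, Mono φ := by
  haveI : F.IsQuasicoherent := hF
  change Curv2.IsAssPoint F x ↔ _
  constructor
  · intro hx
    obtain ⟨W, hW, hxW⟩ := exists_affine_nhd x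
    obtain ⟨h, hh⟩ := (isAssPoint_iff_exists_injective F x hW hxW).1 hx
    obtain ⟨ψ, hψ⟩ := exists_mono_of_injective F x hW h hh
    refine ⟨W, hxW, (Scheme.Modules.restrictFunctorIsoPullback W.ι).inv.app (OZ x) ≫ ψ ≫
      (Scheme.Modules.restrictFunctorIsoPullback W.ι).hom.app F, ?_⟩
    haveI : Mono (ψ ≫ (Scheme.Modules.restrictFunctorIsoPullback W.ι).hom.app F) := mono_comp _ _
    exact mono_comp _ _
  · rintro ⟨U, hxU, φ, hφ⟩
    let ψ : (Scheme.Modules.restrictFunctor U.ι).obj (OZ x) ⟶ (Scheme.Modules.restrictFunctor U.ι).obj F :=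
      (Scheme.Modules.restrictFunctorIsoPullback U.ι).hom.app (OZ x) ≫ φ ≫
        (Scheme.Modules.restrictFunctorIsoPullback U.ι).inv.app F
    haveI : Mono (φ ≫ (Scheme.Modules.restrictFunctorIsoPullback U.ι).inv.app F) := mono_comp _ _
    haveI : Mono ψ := mono_comp _ _
    obtain ⟨W, hW, hxW, h, hh⟩ := exists_injective_of_mono F x U hxU ψ
    exact (isAssPoint_iff_exists_injective F x hW hxW).2 ⟨h, hh⟩

end Groth.Agent.S4658
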