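import Groth.Statements.S4659
import Groth.Agent.Lib.Helper7RedBC3
import Groth.Agent.Lib.Helper14GeomRed

set_option autoImplicit false
set_option linter.style.haveILetI false
open CategoryTheory AlgebraicGeometry
universe u
open FBase

namespace Groth.Agent.S4659

open CategoryTheory.Limits TensorProduct Groth.Agent.Lib.Helper7.RedBC Groth.Agent.Lib.Helper14.GeomRed

theorem isLocallyNoetherian_bc_of_finite {k : Type u} [Field k] {X : Scheme.{u}}
    [IsLocallyNoetherian X] (f : X ⟶ Spec (CommRingCat.of k)) (k' : Type u) [Field k']
    [Algebra k k'] [FiniteDimensional k k'] : IsLocallyNoetherian (FBase.bc f k') := by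
  haveI : LocallyOfFiniteType (Spec.map (CommRingCat.ofHom (algebraMap k k'))) := by
    rw [HasRingHomProperty.Spec_iff (P := @LocallyOfFiniteType)]
    show (algebraMap k k').FiniteType
    rw [RingHom.finiteType_algebraMap]
    infer_instance
  haveI : LocallyOfFiniteType (FBase.bcπ f k') :=
    (inferInstance : LocallyOfFiniteType
      (pullback.fst f (Spec.map (CommRingCat.ofHom (algebraMap k k')))))
  exact LocallyOfFiniteType.isLocallyNoetherian (FBase.bcπ f k')

theorem isReduced_comm {k : Type u} [Field k] (A B : Type u) [CommRing A] [CommRing B]
    [Algebra k A] [Algebra k B] (h : IsReduced (A ⊗[k] B)) : IsReduced (B ⊗[k] A) :=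
  isReduced_of_injective (Algebra.TensorProduct.comm k B A).toRingHom
    (Algebra.TensorProduct.comm k B A).injective

/-- Let X be a locally Noetherian scheme over a field k and F a coherent O_X-module. Then F ⊗_k k' is a
reduced module on X ⊗_k k' for every finite purely inseparable extension k' of k if and only if F
⊗_k K is a reduced module on X ⊗_k K for every extension K of k for which X ⊗_k K is locally
Noetherian. (The published statement takes K finitely generated over k, a hypothesis used only to
make X ⊗_k K locally Noetherian.) -/
theorem result {k : Type u} [Field k] {X : Scheme.{u}} [IsLocallyNoetherian X]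
    (f : X ⟶ Spec (CommRingCat.of k)) (F : X.Modules) (hF : Coh.IsCoh F) :
    (∀ (k' : Type u) [Field k'] [Algebra k k'] [FiniteDimensional k k'] [IsPurelyInseparable k k'],
        AssSch.IsReducedMod ((Scheme.Modules.pullback (FBase.bcπ f k')).obj F)) ↔
      ∀ (K : Type u) [Field K] [Algebra k K] [IsLocallyNoetherian (FBase.bc f K)],
        AssSch.IsReducedMod ((Scheme.Modules.pullback (FBase.bcπ f K)).obj F) := by
  constructor
  · intro h K _ _ _
    rw [isReducedMod_bc_iff f F hF K]
    intro x hx
    haveI := isLocallyNoetherian_bc_of_finite f k
    obtain ⟨h1, h2, -⟩ := (isReducedMod_bc_iff f F hF k).mp (h k) x hx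
    refine ⟨h1, h2, ?_⟩
    letI := resAlg f x
    haveI : Algebra.IsGeometricallyReduced k (X.residueField x) := by
      apply isGeometricallyReduced_of_forall_finite_purelyInseparable
      intro k' _ _ _ _
      haveI := isLocallyNoetherian_bc_of_finite f k'
      exact isReduced_comm _ _ ((isReducedMod_bc_iff f F hF k').mp (h k') x hx).2.2
    exact isReduced_comm _ _ (isReduced_tensor_of_isGeometricallyReduced K)
  · intro h k' _ _ _ _
    haveI := isLocallyNoetherian_bc_of_finite f k'
    exact h k'

end Groth.Agent.S4659
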