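import Groth.Statements.S4660
import Groth.Agent.Lib.Helper7RedBC4
import Groth.Agent.Lib.Helper14GeomIrr

set_option autoImplicit false
set_option linter.style.haveILetI false
open CategoryTheory AlgebraicGeometry
universe u
open FBase

namespace Groth.Agent.S4660

open CategoryTheory.Limits TensorProduct Groth.Agent.Lib.Helper7.RedBC Groth.Agent.Lib.Helper14.GeomIrr

theorem isLocallyNoetherian_bc_of_finite {k : Type u} [Field k] {X : Scheme.{u}}
    [IsLocallyNoetherian X] (f : X ⟶ Spec (CommRingCat.of k)) (k' : Type u) [Field k']
    [Algebra k k'] [FiniteDimensional k k'] : IsLocallyNoetherian (FBase.bc f k') := by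
  haveI : LocallyOfFiniteType (Spec.map (CommRingCat.ofHom (algebraMap k k'))) := by
    rw [HasRingHomProperty.Spec_iff (P := @LocallyOfFiniteType)]
    show (algebraMap k k').FiniteType
    rw [RingHom.finiteType_algebraMap]
    infer_instance
  haveI : LocallyOfFiniteType (FBase.bcπ f k') :=
    (inferInstance : LocallyOfFiniteType
      (pullback.fst f (Spec.map (CommRingCat.ofHom (algebraMap k k')))))
  exact LocallyOfFiniteType.isLocallyNoetherian (FBase.bcπ f k')

theorem isDomain_comm {k : Type u} [Field k] (A B : Type u) [CommRing A] [CommRing B]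
    [Algebra k A] [Algebra k B] (h : IsDomain (A ⊗[k] B)) : IsDomain (B ⊗[k] A) :=
  (Algebra.TensorProduct.comm k B A).toMulEquiv.isDomain

/-- Let X be a locally Noetherian scheme over a field k and F a coherent O_X-module. A coherent module
is called integral when it has exactly one associated point and its stalk at that point has length
one over the local ring. Then F ⊗_k k' is integral on X ⊗_k k' for every finite extension k' of k if
and only if F ⊗_k K is integral on X ⊗_k K for every extension K of k such that X ⊗_k K is locally
Noetherian. (The published statement takes K finitely generated over k, a hypothesis used only to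
make X ⊗_k K locally Noetherian.) -/
theorem result {k : Type u} [Field k] {X : Scheme.{u}} [IsLocallyNoetherian X]
    (f : X ⟶ Spec (CommRingCat.of k)) (F : X.Modules) (hF : Coh.IsCoh F) :
    (∀ (k' : Type u) [Field k'] [Algebra k k'] [FiniteDimensional k k'],
        ∃ x' : ↥(FBase.bc f k'), AssSch.Ass ((Scheme.Modules.pullback (FBase.bcπ f k')).obj F) = {x'} ∧
          Module.length ↑((FBase.bc f k').presheaf.stalk x') ↑(((Scheme.Modules.pullback (FBase.bcπ f k')).obj F).presheaf.stalk x') = 1) ↔
      ∀ (K : Type u) [Field K] [Algebra k K] [IsLocallyNoetherian (FBase.bc f K)],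
        ∃ x' : ↥(FBase.bc f K), AssSch.Ass ((Scheme.Modules.pullback (FBase.bcπ f K)).obj F) = {x'} ∧
          Module.length ↑((FBase.bc f K).presheaf.stalk x') ↑(((Scheme.Modules.pullback (FBase.bcπ f K)).obj F).presheaf.stalk x') = 1 := by
  constructor
  · intro h K _ _ _
    rw [isIntegralMod_bc_iff f F hF K]
    haveI := isLocallyNoetherian_bc_of_finite f k
    obtain ⟨x, hA, hL, -⟩ := (isIntegralMod_bc_iff f F hF k).mp (h k)
    refine ⟨x, hA, hL, ?_⟩
    letI := resAlg f x
    have H : ∀ (k' : Type u) [Field k'] [Algebra k k'] [Module.Finite k k'],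
        IsDomain (k' ⊗[k] X.residueField x) := by
      intro k' _ _ _
      haveI := isLocallyNoetherian_bc_of_finite f k'
      obtain ⟨x₁, hA₁, -, hD₁⟩ := (isIntegralMod_bc_iff f F hF k').mp (h k')
      have hx : x₁ = x := by
        have : x₁ ∈ AssSch.Ass F := by rw [hA₁]; rfl
        rw [hA] at this
        exact this
      subst hx
      exact isDomain_comm _ _ hD₁
    exact isDomain_comm _ _ (isDomain_of_algClosure (isDomain_algClosure H) K)
  · intro h k' _ _ _
    haveI := isLocallyNoetherian_bc_of_finite f k'
    exact h k'

end Groth.Agent.S4660
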