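import Groth.Statements.S4661
import Groth.Agent.Lib.Helper7RedBC5
import Groth.Agent.Lib.Helper7FibreLN
import Groth.Agent.Lib.Helper20FormalPull
import Groth.Agent.Lib.Helper23AmpleFam2
import Groth.Agent.Lib.Helper2PullbackSec3

set_option autoImplicit false
set_option linter.style.haveILetI false
open CategoryTheory AlgebraicGeometry
universe u
open FBase

namespace Groth.Agent.S4661

open CategoryTheory.Limits TensorProduct Groth.Agent.Lib.Helper7.RedBC Groth.Agent.Lib.Helper14.GeomRed
  Groth.Agent.Lib.Helper7.FibreLN

open CategoryTheory.Limits in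

open CategoryTheory.Limits in
/-- Let X and Y be locally Noetherian schemes over a field k such that X ×_k Y is locally Noetherian, F
a coherent O_X-module which is geometrically reduced over k (F ⊗_k k' is a reduced module for every
finite purely inseparable extension k' of k) and G a coherent O_Y-module which is a reduced module.
Then F ⊗_k G, i.e. the tensor product on X ×_k Y of the inverse images of F and G, is a reduced
module. -/
theorem result {k : Type u} [Field k] {X Y : Scheme.{u}}
    [IsLocallyNoetherian X] [IsLocallyNoetherian Y] (f : X ⟶ Spec (CommRingCat.of k)) (g : Y ⟶ Spec (CommRingCat.of k))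
    [IsLocallyNoetherian (pullback f g)] (F : X.Modules) (hF : Coh.IsCoh F) (G : Y.Modules) (hG : Coh.IsCoh G)
    (hFgr : ∀ (k' : Type u) [Field k'] [Algebra k k'] [FiniteDimensional k k'] [IsPurelyInseparable k k'],
      AssSch.IsReducedMod ((Scheme.Modules.pullback (FBase.bcπ f k')).obj F))
    (hGr : AssSch.IsReducedMod G) :
    AssSch.IsReducedMod (CohB1.tensorMod ((Scheme.Modules.pullback (pullback.fst f g)).obj F)
      ((Scheme.Modules.pullback (pullback.snd f g)).obj G)) := by
  haveI : F.IsQuasicoherent := hF.1
  haveI : SheafOfModules.IsFiniteType (R := X.ringCatSheaf) F := hF.2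
  have hcohF : Coh.IsCoh ((Scheme.Modules.pullback (pullback.fst f g)).obj F) :=
    ⟨Groth.Agent.Lib.Helper2.PullbackSec.isQuasicoherent_pullback (pullback.fst f g) F,
      Groth.Agent.Lib.Helper20.FormalPull.isFiniteType_pullback (pullback.fst f g) F⟩
  have hflat : FlatMod.IsFlatOver (pullback.snd f g)
      ((Scheme.Modules.pullback (pullback.fst f g)).obj F) := fun z =>
    Groth.Agent.Lib.Helper2.PullbackSec.isFlatOverAt_pullback_of_isPullback
      (IsPullback.of_hasPullback f g) F z (isFlatOver_of_field f F _)
  rw [isReducedMod_iff_of_iso (Groth.Agent.Lib.Helper23.AmpleFam2.tensorBraid _ _),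
    Groth.Agent.S2546.result (pullback.snd f g) G hG _ hcohF hflat]
  rintro y ⟨hy, -⟩
  refine ⟨fun y' hy' hsp => (hGr.1 y hy y' hy' hsp).symm, hGr.2 y hy, ?_⟩
  refine (isReducedMod_iff_of_iso ((Scheme.Modules.pullbackComp ((pullback.snd f g).fiberι y)
    (pullback.fst f g)).app F)).mpr ?_
  haveI : IsLocallyNoetherian ((pullback.snd f g).fiber y) :=
    isLocallyNoetherian_fiber (pullback.snd f g) y
  letI := resAlg g y
  have h1 : Y.fromSpecResidueField y ≫ g =
      Spec.map (CommRingCat.ofHom (algebraMap k (Y.residueField y))) :=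
    (Spec.map_preimage _).symm
  have hpb : IsPullback ((pullback.snd f g).fiberι y ≫ pullback.fst f g)
      ((pullback.snd f g).fiberToSpecResidueField y) f
      (Spec.map (CommRingCat.ofHom (algebraMap k (Y.residueField y)))) := by
    have hpb0 := (IsPullback.of_hasPullback (pullback.snd f g)
      (Y.fromSpecResidueField y)).paste_horiz (IsPullback.of_hasPullback f g)
    rw [h1] at hpb0
    exact hpb0
  show AssSch.IsReducedMod ((Scheme.Modules.pullback
    ((pullback.snd f g).fiberι y ≫ pullback.fst f g)).obj F)
  rw [isReducedMod_pullback_iff_of_isPullback f F hF (Y.residueField y)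
    ((pullback.snd f g).fiberι y ≫ pullback.fst f g)
    ((pullback.snd f g).fiberToSpecResidueField y) hpb]
  intro x hx
  obtain ⟨h1, h2, h3⟩ := geomReduced_of_forall f F hF hFgr x hx
  letI := resAlg f x
  haveI := h3
  exact ⟨h1, h2, isReduced_comm _ _ (isReduced_tensor_of_isGeometricallyReduced (Y.residueField y))⟩

end Groth.Agent.S4661
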