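import Groth.Statements.S4671
import Groth.Agent.S4670
import Groth.Agent.Lib.Helper7TensS

set_option autoImplicit false
set_option linter.style.haveILetI false
open CategoryTheory AlgebraicGeometry
universe u
open AssSch

namespace Groth.Agent.S4671

open Groth.Agent.Lib.Helper7.TensS Groth.Agent.Lib.Helper7.AssTensorFlatSch
  Groth.Agent.Lib.Helper7.FibreBC

open CategoryTheory.Limits in
/-- Let f : X → S and g : Y → S be morphisms of schemes with X, Y, S and X ×_S Y locally Noetherian, F a
quasi-coherent O_X-module such that f maps every associated point of F to an associated point of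
O_S, and G a quasi-coherent O_Y-module flat over S. If F and G have no embedded associated points,
then F ⊗_S G (the tensor product on X ×_S Y of the pull-backs of F and G along the two projections)
has no embedded associated points. (The published statement assumes only X, S, the fibres of g and
the schemes Spec κ(x) ×_S Spec κ(y) locally Noetherian; this row assumes Y and X ×_S Y locally
Noetherian, which implies all of these, so that associated points are those whose maximal ideal is
the annihilator of an element of the stalk.) -/
theorem result {X Y S : Scheme.{u}} (f : X ⟶ S) (g : Y ⟶ S)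
    [IsLocallyNoetherian X] [IsLocallyNoetherian Y] [IsLocallyNoetherian S] [IsLocallyNoetherian (pullback f g)]
    (F : X.Modules) (hF : Coh.IsQCoh F) (G : Y.Modules) (hG : Coh.IsQCoh G) (hGfl : FlatMod.IsFlatOver g G)
    (hAss : ∀ x ∈ AssSch.Ass F, f x ∈ AssSch.Ass (Coh.structureModule S))
    (hFne : AssSch.NoEmbedded F) (hGne : AssSch.NoEmbedded G) :
    AssSch.NoEmbedded (CohB1.tensorMod ((Scheme.Modules.pullback (pullback.fst f g)).obj F) ((Scheme.Modules.pullback (pullback.snd f g)).obj G)) := by
  haveI : F.IsQuasicoherent := hF
  haveI : G.IsQuasicoherent := hG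
  intro z hz z' hz' hsp
  obtain ⟨hzF, -⟩ := (isAssPoint_tensS_iff f g F G hGfl z).1 hz
  obtain ⟨hz'F, -⟩ := (isAssPoint_tensS_iff f g F G hGfl z').1 hz'
  have hp : pullback.fst f g z' = pullback.fst f g z :=
    (hFne _ hzF _ hz'F (hsp.map (pullback.fst f g).continuous)).symm
  have hq : pullback.snd f g z' = pullback.snd f g z :=
    (hGne _ (Groth.Agent.S4670.result f g F hF G hG hGfl hAss z hz) _
      (Groth.Agent.S4670.result f g F hF G hG hGfl hAss z' hz')
      (hsp.map (pullback.snd f g).continuous)).symm
  exact eq_of_isAssPoint_of_specializes f g F G hGfl z z' hz hz' hsp hp hq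

end Groth.Agent.S4671
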