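import Groth.Statements.S4680
-- import your own Groth.Agent.* helpers here
import Mathlib
import Groth.Agent.Lib.Helper26InjFlatFib
import Groth.Agent.Lib.Helper2PullbackSec3

set_option autoImplicit false
open CategoryTheory AlgebraicGeometry
universe u
open FDesc

namespace Groth.Agent.S4680

open AlgebraicGeometry CategoryTheory Limits IsLocalRing
open Groth.Agent.Lib.Helper2.PullbackSec Groth.Agent.Lib.Helper2.PullbackFlat
  Groth.Agent.Lib.Helper4.NormDelta
  Groth.Agent.Lib.Helper26.StalkBC Groth.Agent.Lib.Helper26.FibInj Groth.Agent.Lib.Helper26.InjFlatFib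
  Groth.Agent.Lib.Helper26.FibFlatSch Groth.Agent.Lib.Helper26.InjLim Groth.Agent.Lib.Helper26.ModLim2

/-- if `𝔪_y F_x = F_x` at the point `x = ι z` of the fibre, the stalk of `ι^*F` at `z` vanishes, and conversely. -/
theorem fibre_stalk_zero_iff {X Y : Scheme.{u}} (f : X ⟶ Y) (F : X.Modules) [F.IsQuasicoherent]
    (s : Y) (z : f.fiber s) :
    letI := FlatMod.moduleStalkOver f F (f.fiberι s z)
    (maximalIdeal (Y.presheaf.stalk (f (f.fiberι s z))) •
        (⊤ : Submodule (Y.presheaf.stalk (f (f.fiberι s z))) (F.presheaf.stalk (f.fiberι s z))) = ⊤) ↔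
      ∀ w : ((Scheme.Modules.pullback (f.fiberι s)).obj F).presheaf.stalk z, w = 0 := by
  letI := FlatMod.moduleStalkOver f F (f.fiberι s z)
  have hs : Function.Surjective ((f.fiberι s).stalkMap z).hom := (f.fiberι s).stalkMap_surjective z
  have hk := ker_stalkMap_fiberι f s z
  constructor
  · intro h w
    obtain ⟨n, rfl⟩ := stalkUnit_surjective_of_surjective (f.fiberι s) F z hs w
    rw [stalkUnit_eq_zero_iff_of_surjective (f.fiberι s) F z hs, hk, mem_smul_top_iff f _ F n, h]
    trivial
  · intro h
    rw [eq_top_iff]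
    intro n _
    have h1 := h (stalkUnit (f.fiberι s) F z n)
    rw [stalkUnit_eq_zero_iff_of_surjective (f.fiberι s) F z hs, hk, mem_smul_top_iff f _ F n] at h1
    exact h1

open CategoryTheory.Limits in
/-- Let f : X → Y and g : Y' → Y be morphisms of schemes, X' = X ×_Y Y' with projections p : X' → X and
f' : X' → Y', and F a quasi-coherent O_X-module which is faithfully flat relative to Y: flat over Y,
and for every point y of Y there is a point x over y with F_x ⊗ κ(y) ≠ 0. Then F' = p^*F is
faithfully flat relative to Y': flat over Y', and for every point y' of Y' there is a point x' of X'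
over y' with F'_{x'} ⊗ κ(y') ≠ 0. -/
theorem result {X Y Y' : Scheme.{u}} (f : X ⟶ Y) (g : Y' ⟶ Y)
    (F : X.Modules) (hF : Coh.IsQCoh F) (hFfl : FlatMod.IsFlatOver f F)
    (hFff : (∀ y : ↥Y, ∃ x : ↥X, f x = y ∧
      letI := FlatMod.moduleStalkOver f F x
      IsLocalRing.maximalIdeal (Y.presheaf.stalk (f x)) • (⊤ : Submodule (Y.presheaf.stalk (f x)) (F.presheaf.stalk x)) ≠ ⊤)) :
    FlatMod.IsFlatOver (pullback.snd f g) ((Scheme.Modules.pullback (pullback.fst f g)).obj F) ∧
      (∀ y' : ↥Y', ∃ x' : ↥(pullback f g), (pullback.snd f g) x' = y' ∧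
      letI := FlatMod.moduleStalkOver (pullback.snd f g) ((Scheme.Modules.pullback (pullback.fst f g)).obj F) x'
      IsLocalRing.maximalIdeal (Y'.presheaf.stalk ((pullback.snd f g) x')) • (⊤ : Submodule (Y'.presheaf.stalk ((pullback.snd f g) x')) (((Scheme.Modules.pullback (pullback.fst f g)).obj F).presheaf.stalk x')) ≠ ⊤) := by
  haveI : F.IsQuasicoherent := hF
  have hsq : IsPullback (pullback.fst f g) (pullback.snd f g) f g := IsPullback.of_hasPullback f g
  haveI hqF' : ((Scheme.Modules.pullback (pullback.fst f g)).obj F).IsQuasicoherent :=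
    isQuasicoherent_pullback _ F
  refine ⟨fun x' => isFlatOverAt_pullback_of_isPullback hsq F x' (hFfl _), fun y' => ?_⟩
  obtain ⟨x, hx, hne⟩ := hFff (g y')
  obtain ⟨z, rfl⟩ : ∃ z : f.fiber (g y'), f.fiberι (g y') z = x := by
    have h : x ∈ Set.range (f.fiberι (g y')) := by
      rw [f.range_fiberι (g y')]
      exact hx
    exact h
  -- a point of the fibre of `f'` over `z`
  have hpb := isPullback_fiberToSpecResidueField_of_isPullback hsq y'
  haveI : Surjective (Spec.map (g.residueFieldMap y')) := inferInstance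
  haveI : Surjective (fibMap hsq y') :=
    MorphismProperty.of_isPullback (P := @Surjective) hpb.flip inferInstance
  obtain ⟨z', rfl⟩ := (fibMap hsq y').surjective z
  refine ⟨(pullback.snd f g).fiberι y' z', map_fiberι (pullback.snd f g) y' z', fun htop => hne ?_⟩
  -- the stalk of the restriction to the fibre of `f'` vanishes
  have h1 := (fibre_stalk_zero_iff (pullback.snd f g) _ y' z').1 htop
  -- hence so does the stalk of the restriction to the fibre of `f`
  rw [fibre_stalk_zero_iff f F (g y') (fibMap hsq y' z')]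
  intro w
  haveI : Flat (fibMap hsq y') := flat_fibMap hsq y'
  haveI : ((Scheme.Modules.pullback (f.fiberι (g y'))).obj F).IsQuasicoherent :=
    isQuasicoherent_pullback _ F
  apply stalkUnit_injective_of_flat (fibMap hsq y') _ z' (Flat.stalkMap (fibMap hsq y') z')
  rw [map_zero]
  let E : (Scheme.Modules.pullback ((pullback.snd f g).fiberι y')).obj
      ((Scheme.Modules.pullback (pullback.fst f g)).obj F) ≅
      (Scheme.Modules.pullback (fibMap hsq y')).obj ((Scheme.Modules.pullback (f.fiberι (g y'))).obj F) :=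
    (compIso ((pullback.snd f g).fiberι y') (pullback.fst f g) _ rfl).app F ≪≫
      ((compIso (fibMap hsq y') (f.fiberι (g y')) _ (fibMap_fiberι hsq y')).app F).symm
  obtain ⟨w₀, hw₀⟩ := (stalkHom_bijective_of_isIso E.hom z').2
    (stalkUnit (fibMap hsq y') ((Scheme.Modules.pullback (f.fiberι (g y'))).obj F) z' w)
  rw [← hw₀, h1 w₀, map_zero]

end Groth.Agent.S4680
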