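import Groth.Statements.S4682
import Mathlib
import Groth.Agent.Lib.Helper11RedCl
import Groth.Agent.Lib.Helper12GeomReduced

set_option autoImplicit false
open CategoryTheory AlgebraicGeometry
universe u
open FBase

namespace Groth.Agent.S4682


/-- Let Y be a scheme over a field K', let K be an extension field of K' which is separable over K'
(Spec K → Spec K' is geometrically reduced), let g : Y ⊗_{K'} K → Y be the projection and T a closed
subset of Y ⊗_{K'} K. Then T is defined over K' as a closed subset, that is T = g⁻¹(T') for some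
closed subset T' of Y, if and only if the reduced closed subscheme of Y ⊗_{K'} K with support T is
defined over K', that is, there is a quasi-coherent ideal sheaf of O_Y whose inverse image in Y
⊗_{K'} K is the vanishing ideal sheaf of T. -/
theorem result {K' K : Type u} [Field K'] [Field K] [Algebra K' K]
    {Y : Scheme.{u}} (fY : Y ⟶ Spec (CommRingCat.of K'))
    [GeometricallyReduced (Spec.map (CommRingCat.ofHom (algebraMap K' K)))]
    (T : TopologicalSpace.Closeds ↥(FBase.bc fY K)) :
    (∃ T' : TopologicalSpace.Closeds ↥Y, (T : Set ↥(FBase.bc fY K)) = ⇑(FBase.bcπ fY K) ⁻¹' (T' : Set ↥Y)) ↔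
      ∃ J : Y.IdealSheafData, J.comap (FBase.bcπ fY K) = Scheme.IdealSheafData.vanishingIdeal T := by
  constructor
  · rintro ⟨T', hT'⟩
    refine ⟨Scheme.IdealSheafData.vanishingIdeal T', ?_⟩
    obtain ⟨J, hJ⟩ : ∃ J, J = Scheme.IdealSheafData.vanishingIdeal T' := ⟨_, rfl⟩
    rw [← hJ]
    haveI : IsReduced J.subscheme := by
      rw [hJ]; exact Groth.Agent.Lib.Helper11RedCl.isReduced_subscheme_vanishingIdeal T'
    have hred1 : IsReduced (Limits.pullback (Spec.map (CommRingCat.ofHom (algebraMap K' K)))
        (J.subschemeι ≫ fY)) :=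
      Groth.Agent.Lib.Helper12.GR.isReduced_pullback _ (J.subschemeι ≫ fY)
    have hred2 : IsReduced (Limits.pullback
        (Limits.pullback.fst fY (Spec.map (CommRingCat.ofHom (algebraMap K' K)))) J.subschemeι) := by
      let e : Limits.pullback
          (Limits.pullback.fst fY (Spec.map (CommRingCat.ofHom (algebraMap K' K)))) J.subschemeι ≅
          Limits.pullback (Spec.map (CommRingCat.ofHom (algebraMap K' K))) (J.subschemeι ≫ fY) :=
        Limits.pullbackSymmetry _ _ ≪≫ Limits.pullbackRightPullbackFstIso fY _ J.subschemeι ≪≫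
          Limits.pullbackSymmetry _ _
      exact isReduced_of_isOpenImmersion e.hom
    change J.comap (Limits.pullback.fst fY (Spec.map (CommRingCat.ofHom (algebraMap K' K)))) = _
    rw [Scheme.IdealSheafData.comap, Groth.Agent.Lib.Helper11RedCl.ker_eq_of_isReduced]
    congr 1
    apply TopologicalSpace.Closeds.ext
    rw [TopologicalSpace.Closeds.coe_closure, Scheme.Pullback.range_fst,
      Scheme.IdealSheafData.range_subschemeι, hJ,
      Scheme.IdealSheafData.coe_support_vanishingIdeal]
    have h2 : (⇑(Limits.pullback.fst fY (Spec.map (CommRingCat.ofHom (algebraMap K' K)))) ⁻¹'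
        (T' : Set ↥Y)) = (T : Set ↥(FBase.bc fY K)) := hT'.symm
    rw [h2]
    exact T.isClosed.closure_eq
  · rintro ⟨J, hJ⟩
    refine ⟨J.support, ?_⟩
    have h1 := congrArg (fun I => (I.support : Set ↥(FBase.bc fY K))) hJ
    simp only [Scheme.IdealSheafData.support_comap,
      Scheme.IdealSheafData.coe_support_vanishingIdeal] at h1
    exact h1.symm

end Groth.Agent.S4682
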