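import Groth.Statements.S4685
import Groth.Agent.Lib.Helper7TensS

set_option autoImplicit false
set_option linter.style.haveILetI false
open CategoryTheory AlgebraicGeometry
universe u
open AssSch

namespace Groth.Agent.S4685

open Groth.Agent.Lib.Helper7.TensS Groth.Agent.Lib.Helper7.AssTensorFlatSch
  Groth.Agent.Lib.Helper7.FibreBC

open CategoryTheory.Limits in
/-- Let f : X → S and g : Y → S be morphisms of schemes with X, Y and X ×_S Y locally Noetherian, F a
quasi-coherent O_X-module without embedded associated points, and G a quasi-coherent O_Y-module,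
flat over S, whose restriction to every fibre g⁻¹(s) has no embedded associated points. Then F ⊗_S G
(the tensor product on X ×_S Y of the pull-backs of F and G along the two projections) has no
embedded associated points. (The published statement assumes only X, the fibres of g and the schemes
Spec κ(x) ×_S Spec κ(y) locally Noetherian; this row assumes Y and X ×_S Y locally Noetherian, which
implies all of these, so that associated points are those whose maximal ideal is the annihilator of
an element of the stalk.) -/
theorem result {X Y S : Scheme.{u}} (f : X ⟶ S) (g : Y ⟶ S)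
    [IsLocallyNoetherian X] [IsLocallyNoetherian Y] [IsLocallyNoetherian (pullback f g)]
    (F : X.Modules) (hF : Coh.IsQCoh F) (G : Y.Modules) (hG : Coh.IsQCoh G) (hGfl : FlatMod.IsFlatOver g G)
    (hFne : AssSch.NoEmbedded F)
    (hGne : ∀ s : ↥S, AssSch.NoEmbedded ((Scheme.Modules.pullback (g.fiberι s)).obj G)) :
    AssSch.NoEmbedded (CohB1.tensorMod ((Scheme.Modules.pullback (pullback.fst f g)).obj F) ((Scheme.Modules.pullback (pullback.snd f g)).obj G)) := by
  haveI : F.IsQuasicoherent := hF
  haveI : G.IsQuasicoherent := hG
  intro z hz z' hz' hsp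
  obtain ⟨hzF, hzG⟩ := (isAssPoint_tensS_iff f g F G hGfl z).1 hz
  obtain ⟨hz'F, hz'G⟩ := (isAssPoint_tensS_iff f g F G hGfl z').1 hz'
  have hp : pullback.fst f g z' = pullback.fst f g z :=
    (hFne _ hzF _ hz'F (hsp.map (pullback.fst f g).continuous)).symm
  have hb := fibAssAt_snd f g G z hzG
  have hb' := fibAssAt_snd f g G z' hz'G
  have hgq : ∀ t : ↑(pullback f g), g (pullback.snd f g t) = f (pullback.fst f g t) := by
    intro t
    rw [← Scheme.Hom.comp_apply, ← Scheme.Hom.comp_apply, pullback.condition]
  have hq : pullback.snd f g z' = pullback.snd f g z := by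
    obtain ⟨y, hy⟩ : pullback.snd f g z ∈ Set.range (g.fiberι (f (pullback.fst f g z))) := by
      rw [Scheme.Hom.range_fiberι]; exact hgq z
    obtain ⟨y', hy'⟩ : pullback.snd f g z' ∈ Set.range (g.fiberι (f (pullback.fst f g z))) := by
      rw [Scheme.Hom.range_fiberι]
      change g (pullback.snd f g z') = f (pullback.fst f g z)
      rw [hgq z', hp]
    have hspy : y' ⤳ y := by
      rw [← (g.fiberι (f (pullback.fst f g z))).isEmbedding.toIsInducing.specializes_iff, hy, hy']
      exact hsp.map (pullback.snd f g).continuous
    have hyA : Curv2.IsAssPoint ((Scheme.Modules.pullback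
        (g.fiberι (f (pullback.fst f g z)))).obj G) y := by
      rw [isAssPoint_fibre_iff, hy]; exact hb
    have hy'A : Curv2.IsAssPoint ((Scheme.Modules.pullback
        (g.fiberι (f (pullback.fst f g z)))).obj G) y' := by
      rw [isAssPoint_fibre_iff, hy']; exact hb'
    have := hGne _ y hyA y' hy'A hspy
    rw [← hy, ← hy', this]
  exact eq_of_isAssPoint_of_specializes f g F G hGfl z z' hz hz' hsp hp hq

end Groth.Agent.S4685
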