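import Groth.Statements.S6263
import Mathlib

set_option autoImplicit false
universe u
open CAlg

namespace Groth.Agent.S6263

open scoped TensorProduct

theorem torsion_free {R : Type*} [CommRing R] (N : Type*) [AddCommGroup N] [Module R N] [Module.Flat R N]
    (p : Ideal R) [p.IsPrime] (t : R) (ht : t ∉ p) (n : N) (h : t • n ∈ p • (⊤ : Submodule R N)) :
    n ∈ p • (⊤ : Submodule R N) := by
  let f : (R ⧸ p) →ₗ[R] (R ⧸ p) := LinearMap.lsmul R (R ⧸ p) t
  have hf : Function.Injective f := by
    rw [← LinearMap.ker_eq_bot, LinearMap.ker_eq_bot']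
    intro a ha
    obtain ⟨a, rfl⟩ := Ideal.Quotient.mk_surjective a
    have h1 : Ideal.Quotient.mk p (t * a) = 0 := by
      simpa [f, Algebra.smul_def] using ha
    rw [Ideal.Quotient.eq_zero_iff_mem] at h1 ⊢
    exact (Ideal.IsPrime.mem_or_mem ‹_› h1).resolve_left ht
  have hinj := Module.Flat.rTensor_preserves_injective_linearMap (M := N) f hf
  let e := TensorProduct.quotTensorEquivQuotSMul N p
  have h1 : e ((f.rTensor N) ((1 : R ⧸ p) ⊗ₜ[R] n)) = 0 := by
    rw [LinearMap.rTensor_tmul]
    have : f 1 = Ideal.Quotient.mk p t := by simp [f, Algebra.smul_def]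
    rw [this, TensorProduct.quotTensorEquivQuotSMul_mk_tmul]
    exact (Submodule.Quotient.mk_eq_zero _).mpr h
  have h2 : (f.rTensor N) ((1 : R ⧸ p) ⊗ₜ[R] n) = 0 := by
    simpa using h1
  have h3 : (1 : R ⧸ p) ⊗ₜ[R] n = 0 := hinj (by rw [h2, map_zero])
  have h4 : e ((1 : R ⧸ p) ⊗ₜ[R] n) = 0 := by rw [h3, map_zero]
  rw [TensorProduct.quotTensorEquivQuotSMul_mk_one_tmul] at h4
  exact (Submodule.Quotient.mk_eq_zero _).mp h4

/-- For a ring map R → S and a finite S-module N which is flat as an R-module, generalizations lift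
along the map from the support of N (a subset of Spec S) to Spec R: if p ≤ p' are primes of R and q'
is a prime of S in the support of N whose inverse image in R is p', then some prime q ≤ q' of S lies
in the support of N and has inverse image p. -/
theorem result {R S : Type u} [CommRing R] [CommRing S] [Algebra R S] (N : Type u) [AddCommGroup N] [Module S N] [Module R N] [IsScalarTower R S N] [Module.Finite S N] [Module.Flat R N] (p p' : Ideal R) [p.IsPrime] [p'.IsPrime] (hle : p ≤ p') (q' : PrimeSpectrum S) (hq' : q' ∈ Module.support S N) (hover : q'.asIdeal.under R = p') : ∃ q : PrimeSpectrum S, q ≤ q' ∧ q ∈ Module.support S N ∧ q.asIdeal.under R = p := by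
  classical
  have hann : Module.annihilator S N ≤ q'.asIdeal := Module.mem_support_iff_of_finite.mp hq'
  let J : Ideal S := Module.annihilator S N ⊔ p.map (algebraMap R S)
  let W : Submonoid S := q'.asIdeal.primeCompl ⊔ Submonoid.map (algebraMap R S) p.primeCompl
  have hpq : p.map (algebraMap R S) ≤ q'.asIdeal := by
    rw [Ideal.map_le_iff_le_comap]
    intro r hr
    have : r ∈ q'.asIdeal.under R := by rw [hover]; exact hle hr
    exact this
  have hdisj : Disjoint (J : Set S) W := by
    rw [Set.disjoint_left]
    intro x hxJ hxW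
    obtain ⟨s, hs, w, hw, rfl⟩ := Submonoid.mem_sup.mp hxW
    obtain ⟨t, ht, rfl⟩ := hw
    obtain ⟨a, ha, b, hb, hab⟩ := Submodule.mem_sup.mp hxJ
    have key : ∀ n : N, t • (s • n) ∈ p • (⊤ : Submodule R N) := by
      intro n
      have h1 : (s * algebraMap R S t) • n = b • n := by
        rw [← hab, add_smul, Module.mem_annihilator.mp ha n, zero_add]
      have h2 : b • n ∈ (p.map (algebraMap R S)) • (⊤ : Submodule S N) :=
        Submodule.smul_mem_smul hb trivial
      have h3 : b • n ∈ ((p.map (algebraMap R S)) • (⊤ : Submodule S N)).restrictScalars R := h2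
      rw [Ideal.smul_restrictScalars, Submodule.restrictScalars_top] at h3
      rw [← h1, mul_comm, mul_smul, algebraMap_smul] at h3
      exact h3
    have key2 : ∀ n : N, s • n ∈ p • (⊤ : Submodule R N) :=
      fun n => torsion_free N p t ht _ (key n)
    have key3 : LinearMap.range (Algebra.lsmul S S N s) ≤ q'.asIdeal • (⊤ : Submodule S N) := by
      rintro _ ⟨n, rfl⟩
      have h4 : (p • (⊤ : Submodule R N)) ≤
          ((q'.asIdeal) • (⊤ : Submodule S N)).restrictScalars R := by
        rw [← Submodule.restrictScalars_top R S N, ← Ideal.smul_restrictScalars]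
        intro y hy
        exact Submodule.smul_mono_left hpq hy
      exact h4 (key2 n)
    obtain ⟨P, hPm, -, hPc, hPe⟩ :=
      LinearMap.exists_monic_and_natDegree_eq_and_coeff_mem_pow_and_aeval_eq_zero S
        (Algebra.lsmul S S N s) q'.asIdeal key3
    have h5 : Polynomial.aeval s P ∈ Module.annihilator S N := by
      rw [Module.mem_annihilator]
      intro n
      have h6 : (Polynomial.aeval (Algebra.lsmul S S N s) P) n = (Polynomial.aeval s P) • n := by
        rw [Polynomial.aeval_algHom_apply]
        rfl
      rw [← h6, hPe]; rfl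
    have h7 : Polynomial.aeval s P ∈ q'.asIdeal := hann h5
    rw [Polynomial.aeval_eq_sum_range, Finset.sum_range_succ, hPm.coeff_natDegree, one_smul] at h7
    have h8 : ∑ i ∈ Finset.range P.natDegree, P.coeff i • s ^ i ∈ q'.asIdeal := by
      refine Ideal.sum_mem _ fun i hi => ?_
      rw [smul_eq_mul]
      refine Ideal.mul_mem_right _ _ ?_
      have hi' : i < P.natDegree := Finset.mem_range.mp hi
      exact Ideal.pow_le_self (by omega) (hPc i)
    have h9 : s ^ P.natDegree ∈ q'.asIdeal := by
      have := Ideal.sub_mem _ h7 h8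
      simpa using this
    exact hs (q'.isPrime.mem_of_pow_mem _ h9)
  obtain ⟨q, hqp, hJq, hqW⟩ := Ideal.exists_le_prime_disjoint J W hdisj
  rw [Set.disjoint_left] at hqW
  refine ⟨⟨q, hqp⟩, ?_, ?_, ?_⟩
  · intro x hx
    by_contra hx'
    exact hqW hx ((le_sup_left : _ ≤ W) hx')
  · exact Module.mem_support_iff_of_finite.mpr (le_sup_left.trans hJq)
  · ext r
    constructor
    · intro hr
      by_contra hr'
      exact hqW hr ((le_sup_right : _ ≤ W) ⟨r, hr', rfl⟩)
    · intro hr
      exact hJq (le_sup_right (α := Ideal S) (Ideal.mem_map_of_mem _ hr))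

end Groth.Agent.S6263
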