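import Groth.Statements.S4693
import Mathlib
import Groth.Agent.S6263

set_option autoImplicit false
universe u
open EGA4

namespace Groth.Agent.S4693

/-- Let A → B be a local homomorphism of Noetherian local rings such that the closed fibre ring B/m_A B
has Krull dimension 0 (that is, m_A B is an ideal of definition of B). Then dim B ≤ dim A. If
moreover some finite B-module which is flat over A has support equal to all of Spec B (for instance
if B is flat over A), then dim B = dim A. -/
theorem result (A B : Type u) [CommRing A] [CommRing B] [IsNoetherianRing A]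
    [IsNoetherianRing B] [IsLocalRing A] [IsLocalRing B] [Algebra A B] [IsLocalHom (algebraMap A B)]
    (h0 : ringKrullDim (EGA4.FibRing A B) = 0) :
    ringKrullDim B ≤ ringKrullDim A ∧
      (∀ (N : Type u) [AddCommGroup N] [Module B N] [Module A N] [IsScalarTower A B N] [Module.Finite B N]
          [Module.Flat A N], Module.support B N = Set.univ → ringKrullDim B = ringKrullDim A) := by
  haveI hlo : (IsLocalRing.maximalIdeal B).LiesOver (IsLocalRing.maximalIdeal A) := by
    refine ⟨?_⟩
    rw [Ideal.under_def]
    have := ((IsLocalRing.local_hom_TFAE (algebraMap A B)).out 0 4).mp ‹_›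
    exact this.symm
  have himg : ((IsLocalRing.maximalIdeal B).map
      (Ideal.Quotient.mk ((IsLocalRing.maximalIdeal A).map (algebraMap A B)))).height = 0 := by
    have hne : ((IsLocalRing.maximalIdeal B).map
      (Ideal.Quotient.mk ((IsLocalRing.maximalIdeal A).map (algebraMap A B)))) ≠ ⊤ := by
      intro htop
      have h1 : (1 : B ⧸ (IsLocalRing.maximalIdeal A).map (algebraMap A B)) ∈
          ((IsLocalRing.maximalIdeal B).map
            (Ideal.Quotient.mk ((IsLocalRing.maximalIdeal A).map (algebraMap A B)))) := by
        rw [htop]; trivial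
      rw [← map_one (Ideal.Quotient.mk _), Ideal.mem_quotient_iff_mem
        (IsLocalRing.map_maximalIdeal_le (algebraMap A B))] at h1
      exact (IsLocalRing.maximalIdeal.isMaximal B).ne_top ((Ideal.eq_top_iff_one _).mpr h1)
    have := Ideal.height_le_ringKrullDim_of_ne_top hne
    have h0' : ringKrullDim (B ⧸ (IsLocalRing.maximalIdeal A).map (algebraMap A B)) = 0 := h0
    rw [h0'] at this
    have h2 : (((IsLocalRing.maximalIdeal B).map
      (Ideal.Quotient.mk ((IsLocalRing.maximalIdeal A).map (algebraMap A B)))).height : WithBot ℕ∞)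
        ≤ ((0 : ℕ∞) : WithBot ℕ∞) := by simpa using this
    exact le_antisymm (WithBot.coe_le_coe.mp h2) bot_le
  have hle : ringKrullDim B ≤ ringKrullDim A := by
    have h1 := Ideal.height_le_height_add_of_liesOver (IsLocalRing.maximalIdeal A)
      (IsLocalRing.maximalIdeal B)
    rw [himg, add_zero] at h1
    rw [← IsLocalRing.maximalIdeal_height_eq_ringKrullDim,
      ← IsLocalRing.maximalIdeal_height_eq_ringKrullDim]
    exact WithBot.coe_le_coe.mpr h1
  refine ⟨hle, ?_⟩
  intro N _ _ _ _ _ _ hsupp
  haveI : Algebra.HasGoingDown A B := by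
    refine ⟨?_⟩
    intro p _ Q _ hlt
    obtain ⟨q, hq1, -, hq3⟩ := Groth.Agent.S6263.result (R := A) (S := B) N p (Q.under A) hlt.le
      ⟨Q, inferInstance⟩ (by rw [hsupp]; trivial) rfl
    exact ⟨q.asIdeal, hq1, q.isPrime, ⟨hq3.symm⟩⟩
  have h1 := Ideal.height_eq_height_add_of_liesOver_of_hasGoingDown (IsLocalRing.maximalIdeal A)
      (IsLocalRing.maximalIdeal B)
  rw [himg, add_zero] at h1
  rw [← IsLocalRing.maximalIdeal_height_eq_ringKrullDim,
    ← IsLocalRing.maximalIdeal_height_eq_ringKrullDim, h1]

end Groth.Agent.S4693
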