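import Groth.Statements.S4696
import Mathlib
import Groth.Agent.Lib.Helper28GeomFibre4
-- import your own Groth.Agent.* helpers here

set_option autoImplicit false
universe u
open EGA4

namespace Groth.Agent.S4696
open Groth.Agent.Lib.Helper28 IsLocalRing TensorProduct

/-- Case of normal morphisms, affine form: let A → B → C be homomorphisms of Noetherian rings. If A → B
and B → C are normal (flat, with geometrically normal fibres) then the composite A → C is normal. -/
theorem result (A B C : Type u) [CommRing A] [CommRing B] [CommRing C] [IsNoetherianRing A]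
    [IsNoetherianRing B] [IsNoetherianRing C] [Algebra A B] [Algebra B C] [Algebra A C] [IsScalarTower A B C]
    (hAB : EGA4.IsNormalHom A B) (hBC : EGA4.IsNormalHom B C) : EGA4.IsNormalHom A C := by
  have hf1 := hAB.1
  have hf2 := hBC.1
  refine ⟨Module.Flat.trans A B C, fun p _ => ?_⟩
  intro k' _ _ hfin
  have : IsNoetherianRing (p.Fiber B) := isNoetherianRing_fiber p
  have : IsNoetherianRing (p.Fiber C) := isNoetherianRing_fiber p
  exact tensor_fiber_comp_of_property A B C p k' (fun R _ => EGA4.IsNormalRing R)
    (fun R S _ _ e h => isNormalRing_of_ringEquiv e h)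
    (fun R' _ _ _ _ _ h => isNormalRing_tensorProduct_of_quasiFinite_of_isGeomNormal hBC.2 h)
    (hAB.2 p k' hfin)

end Groth.Agent.S4696
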