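import Groth.Statements.S4705
import Mathlib
import Groth.Agent.Lib.Helper28GeomFibre3
-- import your own Groth.Agent.* helpers here

set_option autoImplicit false
universe u
open EGA4

namespace Groth.Agent.S4705
open Groth.Agent.Lib.Helper28 IsLocalRing TensorProduct

/-- Let A → A' be a flat local homomorphism of Noetherian local rings all of whose fibre rings k(p) ⊗_A
A' are geometrically reduced over k(p). If the completion map of A' is regular (the formal fibres of
A' are geometrically regular), then the formal fibres of A are geometrically reduced. -/
theorem result (A A' : Type u) [CommRing A] [CommRing A']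
    [IsNoetherianRing A] [IsNoetherianRing A'] [IsLocalRing A] [IsLocalRing A'] [Algebra A A']
    [IsLocalHom (algebraMap A A')] [Module.Flat A A']
    (hf : ∀ (p : Ideal A) [p.IsPrime], Algebra.IsGeometricallyReduced p.ResidueField (p.Fiber A'))
    (hA' : CAlg.IsRegularHom A' (EGA4.Cpl A')) : EGA4.HasGeomReducedFormalFibres A := by
  have hflat' := hA'.1
  intro p _
  apply isGeometricallyReduced_of_forall_finite
  intro k' _ _ hfin
  have := hf p
  have : Algebra.IsAlgebraic p.ResidueField k' := Algebra.IsAlgebraic.of_finite _ _
  have h0 : IsReduced (k' ⊗[p.ResidueField] (p.Fiber A')) := inferInstance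
  exact formalFibre_property_of_flat_local A A' (fun R _ => IsReduced R)
    (fun R S _ _ e h => isReduced_of_injective e.symm e.symm.injective)
    (fun R' _ _ _ _ _ h => isReduced_tensorProduct_of_quasiFinite (fun q _ => (hA'.2 q).2))
    (fun R' T _ _ _ _ _ _ h => isReduced_of_injective (algebraMap R' T)
      (FaithfulSMul.algebraMap_injective R' T))
    p k' h0

end Groth.Agent.S4705
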