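import Groth.Statements.S4706
import Mathlib
import Groth.Agent.Lib.Helper28GeomFibre3
-- import your own Groth.Agent.* helpers here

set_option autoImplicit false
universe u
open EGA4

namespace Groth.Agent.S4706
open Groth.Agent.Lib.Helper28 IsLocalRing TensorProduct

/-- Let A → A' be a local homomorphism of Noetherian local rings which is normal (flat, with
geometrically normal fibres). If the completion map of A' is regular (the formal fibres of A' are
geometrically regular), then the formal fibres of A are geometrically normal. -/
theorem result (A A' : Type u) [CommRing A] [CommRing A']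
    [IsNoetherianRing A] [IsNoetherianRing A'] [IsLocalRing A] [IsLocalRing A'] [Algebra A A']
    [IsLocalHom (algebraMap A A')] (hf : EGA4.IsNormalHom A A') (hA' : CAlg.IsRegularHom A' (EGA4.Cpl A')) :
    EGA4.HasGeomNormalFormalFibres A := by
  have hflat := hf.1
  have hflat' := hA'.1
  intro p _ k' _ _ hfin
  exact formalFibre_property_of_flat_local A A' (fun R _ => EGA4.IsNormalRing R)
    (fun R S _ _ e h => isNormalRing_of_ringEquiv e h)
    (fun R' _ _ _ _ _ h => isNormalRing_tensorProduct_of_quasiFinite (fun q _ => (hA'.2 q).2) h)
    (fun R' T _ _ _ _ _ _ h => isNormalRing_of_faithfullyFlat (A := R') (B := T) h)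
    p k' (hf.2 p k' hfin)

end Groth.Agent.S4706
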