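import Groth.Statements.S4709
import Mathlib
import Groth.Agent.Lib.Helper7NagM
import Groth.Agent.Lib.Helper7QE2
import Groth.Agent.S2657
import Groth.Agent.S12125

set_option autoImplicit false
universe u
open EGA4

namespace Groth.Agent.S4709

/-- Let A be a Noetherian ring such that (i) for every maximal ideal m the formal fibres of A_m are
geometrically reduced, and (ii) the regular locus of every A-algebra of finite type is open (A is
J-2). Then A is universally Japanese. -/
theorem result (A : Type u) [CommRing A] [IsNoetherianRing A]
    (h1 : ∀ (m : Ideal A) [m.IsMaximal], EGA4.HasGeomReducedFormalFibres (Localization.AtPrime m))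
    (h2 : EGA4.IsJ2 A) : CAlg.IsUniversallyJapanese A := by
  have hNag : CAlg.IsNagata A := by
    rw [Groth.Agent.S12125.result A]
    refine ⟨?_, ?_⟩
    · intro m hm P hP
      have h := Groth.Agent.S2657.result (Localization.AtPrime m) (h1 m)
      exact h.2 P
    · intro p hp K' _ _ _ _ _ _ B' hfin hfrac
      haveI := hfin
      letI : Algebra A B' := ((algebraMap (A ⧸ p) B').comp (algebraMap A (A ⧸ p))).toAlgebra
      haveI : IsScalarTower A (A ⧸ p) B' := IsScalarTower.of_algebraMap_eq fun _ => rfl
      haveI : Module.Finite A B' := Module.Finite.trans (A ⧸ p) B'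
      have hopen : IsOpen (EGA4.regLocus B') := h2 B' inferInstance
      exact Groth.Agent.Lib.Helper7.QE.exists_away_isIntegrallyClosed_of_isOpen_reg B' hopen
  exact Groth.Agent.Lib.Helper7.NagM.isUniversallyJapanese_of_isNagata A hNag


end Groth.Agent.S4709
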