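import Groth.Statements.S4711
import Mathlib.Topology.Spectral.Prespectral
import Mathlib.AlgebraicGeometry.Properties
import Mathlib.AlgebraicGeometry.Morphisms.QuasiSeparated

set_option autoImplicit false
universe u
open EGA4

namespace Groth.Agent.S4711

open Topology TopologicalSpace AlgebraicGeometry in
lemma exists_isLocallyClosed_singleton_of_isConstructible {W : Type*} [TopologicalSpace W]
    [T0Space W] [CompactSpace W] [QuasiSeparatedSpace W] [PrespectralSpace W]
    (F : Set W) (hF : IsConstructible F) (hne : F.Nonempty) :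
    ∃ x ∈ F, IsLocallyClosed ({x} : Set W) := by
  have hb := PrespectralSpace.isTopologicalBasis (X := W)
  have : Nonempty {U : Set W | IsOpen U ∧ IsCompact U} := ⟨⟨∅, isOpen_empty, isCompact_empty⟩⟩
  revert hne
  refine IsConstructible.induction_of_isTopologicalBasis
    (P := fun F _ => F.Nonempty → ∃ x ∈ F, IsLocallyClosed ({x} : Set W))
    (fun U : {U : Set W | IsOpen U ∧ IsCompact U} => (U : Set W))
    (by simpa using hb) (fun U => U.2.2) ?_ ?_ F hF
  · intro i s hs hne
    set G : Set W := (i : Set W) \ ⋃ j ∈ s, (j : Set W) with hG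
    have hUo : IsOpen (⋃ j ∈ s, (j : Set W)) := isOpen_biUnion fun j _ => j.2.1
    have hGc : IsCompact G := i.2.2.inter_right hUo.isClosed_compl
    have hGl : IsLocallyClosed G := i.2.1.isLocallyClosed.inter hUo.isClosed_compl.isLocallyClosed
    have : CompactSpace G := isCompact_iff_compactSpace.mp hGc
    obtain ⟨x, -, hx⟩ := IsClosed.exists_closed_singleton (X := G) isClosed_univ
      (by have := hne.to_subtype; exact Set.univ_nonempty)
    refine ⟨x.1, x.2, ?_⟩
    have := hx.isLocallyClosed.image IsInducing.subtypeVal (by simpa using hGl)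
    simpa using this
  · intro s _ t _ hs ht hne
    rcases hne with ⟨x, hx | hx⟩
    · obtain ⟨y, hy, hy'⟩ := hs ⟨x, hx⟩
      exact ⟨y, Or.inl hy, hy'⟩
    · obtain ⟨y, hy, hy'⟩ := ht ⟨x, hx⟩
      exact ⟨y, Or.inr hy, hy'⟩

open AlgebraicGeometry Topology in
/-- In any scheme X, every nonempty locally constructible subset E contains a point x such that the
one-point set {x} is locally closed in X (equivalently x is isolated in its closure). -/
theorem result (X : Scheme.{u}) (E : Set X)
    (hE : Topology.IsLocallyConstructible E) (hne : E.Nonempty) :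
    ∃ x ∈ E, IsLocallyClosed ({x} : Set X) := by
  obtain ⟨x₀, hx₀⟩ := hne
  obtain ⟨W, hW, hxW, -⟩ := exists_isAffineOpen_mem_and_subset (X := X) (U := ⊤) (x := x₀) (by simp)
  have hemb : IsOpenEmbedding (Subtype.val : W → X) := W.2.isOpenEmbedding_subtypeVal
  have hEW : IsLocallyConstructible (Subtype.val ⁻¹' E : Set W) :=
    hE.preimage_of_isOpenEmbedding hemb
  have : CompactSpace W := isCompact_iff_compactSpace.mp hW.isCompact
  have : QuasiSeparatedSpace W :=
    (isQuasiSeparated_iff_quasiSeparatedSpace _ W.2).mp hW.isQuasiSeparated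
  have : PrespectralSpace W := hemb.prespectralSpace
  have hc := hEW.isConstructible
  obtain ⟨x, hxE, hx⟩ := exists_isLocallyClosed_singleton_of_isConstructible _ hc
    ⟨⟨x₀, hxW⟩, hx₀⟩
  refine ⟨x.1, hxE, ?_⟩
  have := hx.image IsInducing.subtypeVal hemb.isOpen_range.isLocallyClosed
  simpa using this

end Groth.Agent.S4711
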