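import Groth.Statements.S4712
import Groth.Agent.Lib.Helper7KL
import Groth.Agent.Lib.Helper7Dim
import Mathlib.RingTheory.Spectrum.Prime.Topology
import Mathlib.AlgebraicGeometry.AffineScheme

set_option autoImplicit false
universe u
open EGA4

namespace Groth.Agent.S4712

/-- In the spectrum of a Noetherian ring, a point lying under a point with locally closed
singleton (and different from it) has no proper specialization. -/
lemma eq_of_specializes_primeSpectrum {A : Type*} [CommRing A] [IsNoetherianRing A]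
    (x y z : PrimeSpectrum A) (hx : IsLocallyClosed ({x} : Set (PrimeSpectrum A)))
    (hxy : x ⤳ y) (hyz : y ⤳ z) (hne : y ≠ x) : y = z := by
  obtain ⟨U, Z, hU, hZ, hUZ⟩ := hx
  have hxUZ : x ∈ U ∩ Z := hUZ ▸ Set.mem_singleton x
  obtain ⟨_, ⟨f, rfl⟩, hxf, hfU⟩ :=
    PrimeSpectrum.isTopologicalBasis_basic_opens.exists_subset_of_mem_open hxUZ.1 hU
  have hf : f ∉ x.asIdeal := hxf
  have hall : ∀ Q : Ideal A, Q.IsPrime → x.asIdeal < Q → f ∈ Q := by
    intro Q hQ hlt
    by_contra hfQ
    let q : PrimeSpectrum A := ⟨Q, hQ⟩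
    have hxq : x ⤳ q := (PrimeSpectrum.le_iff_specializes x q).mp hlt.le
    have hqZ : q ∈ Z := hxq.mem_closed hZ hxUZ.2
    have hqU : q ∈ U := hfU hfQ
    have : q ∈ ({x} : Set (PrimeSpectrum A)) := hUZ ▸ ⟨hqU, hqZ⟩
    rw [Set.mem_singleton_iff] at this
    have : Q = x.asIdeal := congrArg PrimeSpectrum.asIdeal this
    exact absurd hlt (this ▸ lt_irrefl _)
  have hxy' : x.asIdeal ≤ y.asIdeal := (PrimeSpectrum.le_iff_specializes x y).mpr hxy
  have hlt : x.asIdeal < y.asIdeal := lt_of_le_of_ne hxy' fun h => hne (PrimeSpectrum.ext h).symm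
  have hmax : y.asIdeal.IsMaximal :=
    Groth.Agent.Lib.Helper7.isMaximal_of_forall_lt_mem x.asIdeal f hf hall y.asIdeal hlt
  have hyz' : y.asIdeal ≤ z.asIdeal := (PrimeSpectrum.le_iff_specializes y z).mpr hyz
  exact PrimeSpectrum.ext (hmax.eq_of_le z.2.ne_top hyz')

open AlgebraicGeometry in
lemma isClosed_singleton_of_mem_closure (X : Scheme.{u}) [IsLocallyNoetherian X] (x : X)
    (hx : IsLocallyClosed ({x} : Set X)) (y : X) (hy : y ∈ closure ({x} : Set X)) (hne : y ≠ x) :
    IsClosed ({y} : Set X) := by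
  rw [← closure_subset_iff_isClosed]
  intro z hz
  rw [← specializes_iff_mem_closure] at hz hy
  rw [Set.mem_singleton_iff]
  obtain ⟨V, hV, hzV, -⟩ := exists_isAffineOpen_mem_and_subset (X := X) (U := ⊤) (x := z) (by simp)
  have hyV : y ∈ V := hz.mem_open V.2 hzV
  have hxV : x ∈ V := hy.mem_open V.2 hyV
  have : IsNoetherianRing Γ(X, V) := IsLocallyNoetherian.component_noetherian ⟨V, hV⟩
  have hemb : Topology.IsOpenEmbedding hV.fromSpec := hV.fromSpec.isOpenEmbedding
  have hrange : Set.range hV.fromSpec = V := hV.range_fromSpec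
  obtain ⟨x', rfl⟩ : x ∈ Set.range hV.fromSpec := hrange ▸ hxV
  obtain ⟨y', rfl⟩ : y ∈ Set.range hV.fromSpec := hrange ▸ hyV
  obtain ⟨z', rfl⟩ : z ∈ Set.range hV.fromSpec := hrange ▸ hzV
  have hx' : IsLocallyClosed ({x'} : Set (PrimeSpectrum Γ(X, V))) := by
    have := hx.preimage hemb.continuous
    rwa [← Set.image_singleton, Set.preimage_image_eq _ hemb.injective] at this
  have h1 : x' ⤳ y' := hemb.isInducing.specializes_iff.mp hy
  have h2 : y' ⤳ z' := hemb.isInducing.specializes_iff.mp hz
  have h3 : y' ≠ x' := fun h => hne (by rw [h])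
  exact (congrArg _ (eq_of_specializes_primeSpectrum x' y' z' hx' h1 h2 h3)).symm

open AlgebraicGeometry in
/-- Let X be a locally Noetherian scheme and x a point such that {x} is locally closed in X. Then the
closure of {x} has dimension at most 1, and every point of that closure other than x is a closed
point of X. -/
theorem result (X : Scheme.{u}) [IsLocallyNoetherian X] (x : X)
    (hx : IsLocallyClosed ({x} : Set X)) :
    topologicalKrullDim (closure ({x} : Set X)) ≤ 1 ∧
      ∀ y ∈ closure ({x} : Set X), y ≠ x → IsClosed ({y} : Set X) := by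
  have hb := isClosed_singleton_of_mem_closure X x hx
  refine ⟨?_, hb⟩
  have : QuasiSober ↥(closure ({x} : Set X)) :=
    (isClosed_closure.isClosedEmbedding_subtypeVal).quasiSober
  apply Groth.Agent.Lib.Helper7.topologicalKrullDim_le_one_of_forall
  intro y
  by_cases hyx : y.1 = x
  · right
    intro z _
    rw [← Topology.IsInducing.subtypeVal.specializes_iff, hyx]
    exact specializes_iff_mem_closure.mpr z.2
  · left
    intro z hz
    have hz' : y.1 ⤳ z.1 := Topology.IsInducing.subtypeVal.specializes_iff.mpr hz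
    have hcl : IsClosed ({y.1} : Set X) := hb y.1 y.2 hyx
    have : z.1 ∈ ({y.1} : Set X) := hz'.mem_closed hcl rfl
    rw [Set.mem_singleton_iff] at this
    rw [Subtype.ext this]

end Groth.Agent.S4712
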