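import Groth.Statements.S4713
import Groth.Agent.S4712

set_option autoImplicit false
universe u
open EGA4

namespace Groth.Agent.S4713

open AlgebraicGeometry in
/-- In a locally Noetherian scheme X, every nonempty closed subset contains a closed point of X. -/
theorem result (X : Scheme.{u}) [IsLocallyNoetherian X]
    (Z : Set X) (hZ : IsClosed Z) (hne : Z.Nonempty) : ∃ x ∈ Z, IsClosed ({x} : Set X) := by
  obtain ⟨z, hz⟩ := hne
  obtain ⟨V, hV, hzV, -⟩ := exists_isAffineOpen_mem_and_subset (X := X) (U := ⊤) (x := z) (by simp)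
  have : CompactSpace ↥(V : Set X) := isCompact_iff_compactSpace.mp hV.isCompact
  obtain ⟨x, hxZ, hx⟩ := IsClosed.exists_closed_singleton (X := ↥(V : Set X))
    (S := Subtype.val ⁻¹' Z) (hZ.preimage continuous_subtype_val) ⟨⟨z, hzV⟩, hz⟩
  by_cases hcl : IsClosed ({x.1} : Set X)
  · exact ⟨x.1, hxZ, hcl⟩
  · have hlc : IsLocallyClosed ({x.1} : Set X) := by
      have := hx.isLocallyClosed.image Topology.IsInducing.subtypeVal
        (V.2.isOpenEmbedding_subtypeVal.isOpen_range.isLocallyClosed)
      simpa using this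
    have : ∃ y ∈ closure ({x.1} : Set X), y ≠ x.1 := by
      by_contra hcon
      simp only [not_exists, not_and, not_not] at hcon
      apply hcl
      rw [← closure_subset_iff_isClosed]
      intro y hy
      exact hcon y hy
    obtain ⟨y, hy, hyx⟩ := this
    have hxZ' : x.1 ∈ Z := hxZ
    exact ⟨y, closure_minimal (Set.singleton_subset_iff.mpr hxZ') hZ hy,
      (Groth.Agent.S4712.result X x.1 hlc).2 y hy hyx⟩

end Groth.Agent.S4713
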