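import Groth.Statements.S4714
import Groth.Agent.Lib.Helper4VarDim8
open Groth.Agent.Lib.Helper4.VarDim

set_option autoImplicit false
set_option linter.style.haveILetI false
universe u
open EGA4

namespace Groth.Agent.S4714

open AlgebraicGeometry CategoryTheory in
/-- For a section of the structure sheaf: let X be a scheme locally of finite type over a field k and f
a global section of O_X whose zero locus Y is nowhere dense in X. Then dim Y + 1 ≤ dim X. If
moreover some irreducible component of X has dimension equal to dim X and Y meets every such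
component, then dim Y + 1 = dim X. (The published statement is for a section of an invertible sheaf;
the existence of a component of maximal dimension, implicit in the published wording, is made a
hypothesis of the equality clause.) -/
theorem result (k : Type u) [Field k] (X : Scheme.{u}) (p : X ⟶ Spec (CommRingCat.of k))
    [LocallyOfFiniteType p] (f : Γ(X, ⊤)) (hY : interior (X.zeroLocus (U := ⊤) {f}) = ∅) :
    topologicalKrullDim (X.zeroLocus (U := ⊤) {f}) + 1 ≤ topologicalKrullDim X ∧
      ((∃ Z ∈ irreducibleComponents (X : Type u), topologicalKrullDim Z = topologicalKrullDim X) →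
        (∀ Z ∈ irreducibleComponents (X : Type u), topologicalKrullDim Z = topologicalKrullDim X →
          (Z ∩ X.zeroLocus (U := ⊤) {f}).Nonempty) →
        topologicalKrullDim (X.zeroLocus (U := ⊤) {f}) + 1 = topologicalKrullDim X) := by
  letI : X.Over (Spec (CommRingCat.of k)) := ⟨p⟩
  haveI : LocallyOfFiniteType (X ↘ Spec (CommRingCat.of k)) := ‹LocallyOfFiniteType p›
  obtain ⟨Y, hYdef⟩ : ∃ Y : Set X, Y = X.zeroLocus (U := ⊤) {f} := ⟨_, rfl⟩
  rw [← hYdef] at hY ⊢
  have hYclosed : IsClosed Y := by rw [hYdef]; exact X.zeroLocus_isClosed _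
  have hmemY : ∀ x : X, x ∈ Y ↔ x ∉ X.basicOpen f := by
    intro x
    rw [hYdef, Scheme.mem_zeroLocus_iff]
    simp
  haveI : QuasiSober Y := quasiSober_of_isLocallyClosed Y hYclosed.isLocallyClosed
  have hmaxY : ∀ η : X, (∀ y : X, y ⤳ η → y = η) → η ∉ Y := by
    intro η hmax hηY
    obtain ⟨N, hηN, hN⟩ := exists_opens_subset_closure k X η hmax
    have h1 : (N : Set X) ⊆ Y :=
      hN.trans (closure_minimal (Set.singleton_subset_iff.mpr hηY) hYclosed)
    have h2 : (N : Set X) ⊆ interior Y := interior_maximal h1 N.isOpen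
    rw [hY] at h2
    exact h2 hηN
  have part1 : topologicalKrullDim Y + 1 ≤ topologicalKrullDim X := by
    refine topologicalKrullDim_add_one_le k X Y _ fun t ht => ?_
    obtain ⟨η, hmax, hηt⟩ := exists_maximal_specializes X t
    have hne : η ≠ t := fun h => hmaxY η hmax (h ▸ ht)
    have h1 := trdegNat_lt_of_specializes k X η t hηt hne
    refine le_trans ?_ (trdegNat_le_topologicalKrullDim k X η)
    have h2 : trdegNat k X t + 1 ≤ trdegNat k X η := h1
    exact_mod_cast h2
  refine ⟨part1, fun ⟨Z, hZ, hZdim⟩ hall => le_antisymm part1 ?_⟩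
  obtain ⟨y, hyZ, hyY⟩ := hall Z hZ hZdim
  obtain ⟨ξ, hξ⟩ := QuasiSober.sober hZ.1 (isClosed_of_mem_irreducibleComponents Z hZ)
  have hξmax : ∀ z : X, z ⤳ ξ → z = ξ := fun z hz =>
    eq_of_specializes_generic ξ z (by rw [hξ.def]; exact hZ) hz
  have hξY : ξ ∉ Y := hmaxY ξ hξmax
  have hdimZ : topologicalKrullDim Z = ((trdegNat k X ξ : ℕ) : WithBot ℕ∞) := by
    rw [← hξ.def]
    exact topologicalKrullDim_closure_singleton k X ξ
  have hξy : ξ ⤳ y := hξ.specializes hyZ
  obtain ⟨U, hU, hyU, -⟩ := exists_isAffineOpen_mem_and_subset (U := ⊤) (x := y) trivial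
  have hξU : ξ ∈ U := hξy.mem_open U.isOpen hyU
  obtain ⟨g, hg⟩ : ∃ g : Γ(X, U), g = X.presheaf.map (homOfLE (le_top : U ≤ ⊤)).op f := ⟨_, rfl⟩
  have hbo : X.basicOpen g = U ⊓ X.basicOpen f := by
    rw [hg]
    exact Scheme.basicOpen_res X f (homOfLE (le_top : U ≤ ⊤)).op
  have hgy : y ∉ X.basicOpen g := by
    rw [hbo]
    exact fun h => (hmemY y).mp hyY h.2
  have hgξ : ξ ∈ X.basicOpen g := by
    rw [hbo]
    exact ⟨hξU, by_contra fun h => hξY ((hmemY ξ).mpr h)⟩
  obtain ⟨y', hy'U, -, -, hy'g, htr⟩ :=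
    exists_specialization_notMem_basicOpen k X hU ξ y hξU hyU hξy g hgy hgξ
  have hy'Y : y' ∈ Y := (hmemY y').mpr fun h => hy'g (by rw [hbo]; exact ⟨hy'U, h⟩)
  have h1 := trdegNat_le_topologicalKrullDim_of_isLocallyClosed k X Y hYclosed.isLocallyClosed
    y' hy'Y
  rw [← hZdim, hdimZ, htr]
  calc ((trdegNat k X y' + 1 : ℕ) : WithBot ℕ∞)
      = ((trdegNat k X y' : ℕ) : WithBot ℕ∞) + 1 := by push_cast; rfl
    _ ≤ topologicalKrullDim Y + 1 := by gcongr

end Groth.Agent.S4714
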