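import Groth.Statements.S4716
import Groth.Agent.Lib.Helper7Dim

set_option autoImplicit false
universe u
open EGA4

namespace Groth.Agent.S4716

open AlgebraicGeometry CategoryTheory in
/-- Consider locally Noetherian schemes X and Y and a morphism f : X → Y that is surjective and whose
underlying map is either open or closed. Then dim X ≥ dim Y. -/
theorem result {X Y : Scheme.{u}} (f : X ⟶ Y) [IsLocallyNoetherian X]
    [IsLocallyNoetherian Y] (hs : Function.Surjective f.base) (h : IsOpenMap f.base ∨ IsClosedMap f.base) :
    topologicalKrullDim Y ≤ topologicalKrullDim X := by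
  rcases h with h | h
  · refine Groth.Agent.Lib.Helper7.topologicalKrullDim_le_of_generalizingMap f.base hs ?_
    refine Groth.Agent.Lib.Helper7.generalizingMap_of_isOpenMap_of_locally_noetherianSpace
      f.base f.continuous h ?_
    intro x
    obtain ⟨U, hU, hxU, -⟩ := exists_isAffineOpen_mem_and_subset (X := X) (U := ⊤) (x := x) (by simp)
    have : IsNoetherianRing Γ(X, U) := IsLocallyNoetherian.component_noetherian ⟨U, hU⟩
    exact ⟨U, U.2, hxU, noetherianSpace_of_isAffineOpen U hU⟩
  · exact Groth.Agent.Lib.Helper7.topologicalKrullDim_le_of_specializingMap f.base hs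
      h.specializingMap

end Groth.Agent.S4716
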