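import Groth.Statements.S4717
import Groth.Agent.Lib.Helper7Dim

set_option autoImplicit false
universe u
open EGA4

namespace Groth.Agent.S4717

open AlgebraicGeometry CategoryTheory in
/-- Let f : X → Y be a finite morphism of locally Noetherian schemes. Then dim X equals the dimension of
the image f(X); in particular if f is surjective then dim X = dim Y. -/
theorem result {X Y : Scheme.{u}} (f : X ⟶ Y) [IsLocallyNoetherian X] [IsLocallyNoetherian Y]
    [IsFinite f] :
    topologicalKrullDim X = topologicalKrullDim (Set.range f.base) ∧
      (Function.Surjective f.base → topologicalKrullDim X = topologicalKrullDim Y) := by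
  have hclosed : IsClosedMap f.base := f.isClosedMap
  have hfib : ∀ x x' : X, x ⤳ x' → f.base x = f.base x' → x = x' := fun x x' hxx' heq =>
    Groth.Agent.Lib.Helper7.eq_of_specializes_of_isDiscrete
      (f.isDiscrete_preimage_singleton (f.base x)) rfl heq.symm hxx'
  constructor
  · have hrc : IsClosed (Set.range f.base) := hclosed.isClosed_range
    have : QuasiSober ↥(Set.range f.base) := hrc.isClosedEmbedding_subtypeVal.quasiSober
    apply le_antisymm
    · refine Groth.Agent.Lib.Helper7.topologicalKrullDim_le_of_fibres
        (fun x => (⟨f.base x, ⟨x, rfl⟩⟩ : ↥(Set.range f.base)))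
        (f.continuous.subtype_mk _) ?_
      intro x x' hxx' heq
      exact hfib x x' hxx' (congrArg Subtype.val heq)
    · refine Groth.Agent.Lib.Helper7.topologicalKrullDim_le_of_specializingMap
        (fun x => (⟨f.base x, ⟨x, rfl⟩⟩ : ↥(Set.range f.base))) ?_ ?_
      · rintro ⟨_, x, rfl⟩
        exact ⟨x, rfl⟩
      · intro x b' hb'
        have h1 : f.base x ⤳ b'.1 := Topology.IsInducing.subtypeVal.specializes_iff.mpr hb'
        obtain ⟨x', hx', hfx'⟩ := hclosed.specializingMap h1
        exact ⟨x', hx', Subtype.ext hfx'⟩
  · intro hs
    apply le_antisymm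
    · exact Groth.Agent.Lib.Helper7.topologicalKrullDim_le_of_fibres f.base f.continuous hfib
    · exact Groth.Agent.Lib.Helper7.topologicalKrullDim_le_of_specializingMap f.base hs
        hclosed.specializingMap

end Groth.Agent.S4717
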