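import Groth.Statements.S4718
import Groth.Agent.Lib.Helper5FinDimDepth

set_option autoImplicit false
universe u
open EGA4

namespace Groth.Agent.S4718

/-- Let A be a Noetherian local ring, B a Noetherian ring, A → B a ring homomorphism and M a nonzero
B-module which is finite as an A-module. Then M is a Cohen–Macaulay A-module if and only if, for all
primes q of B lying over the maximal ideal of A and belonging to the support of M, the B_q-module
M_q is Cohen–Macaulay and all these modules M_q have the same dimension. -/
theorem result (A B : Type u) [CommRing A] [CommRing B]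
    [IsNoetherianRing A] [IsLocalRing A] [IsNoetherianRing B] [Algebra A B]
    (M : Type u) [AddCommGroup M] [Module B M] [Module A M] [IsScalarTower A B M] [Module.Finite A M]
    [Nontrivial M] :
    LocCoh.IsCohenMacaulayModule A M ↔
      (∀ q ∈ {q : PrimeSpectrum B | q.asIdeal.comap (algebraMap A B) = IsLocalRing.maximalIdeal A ∧
          q ∈ Module.support B M},
        LocCoh.IsCohenMacaulayModule (Localization.AtPrime q.asIdeal) (LocalizedModule q.asIdeal.primeCompl M)) ∧
      (∀ q ∈ {q : PrimeSpectrum B | q.asIdeal.comap (algebraMap A B) = IsLocalRing.maximalIdeal A ∧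
          q ∈ Module.support B M},
        ∀ q' ∈ {q : PrimeSpectrum B | q.asIdeal.comap (algebraMap A B) = IsLocalRing.maximalIdeal A ∧
          q ∈ Module.support B M},
          Module.supportDim (Localization.AtPrime q.asIdeal) (LocalizedModule q.asIdeal.primeCompl M) =
            Module.supportDim (Localization.AtPrime q'.asIdeal) (LocalizedModule q'.asIdeal.primeCompl M)) := by
  classical
  haveI hBfin : Module.Finite B M := Module.Finite.of_restrictScalars_finite A B M
  have hdim := Groth.Agent.Lib.Helper5.FinDimDepth.supportDim_eq_iSup (R := A) (E := B) (N := M)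
  have hdep := Groth.Agent.Lib.Helper5.FinDimDepth.depth_eq_iInf (R := A) (E := B) (N := M)
  have hset : ∀ q : PrimeSpectrum B,
      (q.asIdeal.comap (algebraMap A B) = IsLocalRing.maximalIdeal A ∧
        q ∈ Module.support B M) →
      ((IsLocalRing.maximalIdeal A).map (algebraMap A B) ≤ q.asIdeal ∧
        q ∈ Module.support B M) := by
    rintro q ⟨h1, h2⟩
    exact ⟨Ideal.map_le_iff_le_comap.mpr (le_of_eq h1.symm), h2⟩
  have hset' : ∀ q : PrimeSpectrum B,
      ((IsLocalRing.maximalIdeal A).map (algebraMap A B) ≤ q.asIdeal ∧
        q ∈ Module.support B M) →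
      (q.asIdeal.comap (algebraMap A B) = IsLocalRing.maximalIdeal A ∧
        q ∈ Module.support B M) := by
    rintro q ⟨h1, h2⟩
    refine ⟨le_antisymm (IsLocalRing.le_maximalIdeal ?_) (Ideal.map_le_iff_le_comap.mp h1), h2⟩
    exact (Ideal.comap_isPrime (algebraMap A B) q.asIdeal).ne_top
  have hle : ∀ q : PrimeSpectrum B,
      (q.asIdeal.comap (algebraMap A B) = IsLocalRing.maximalIdeal A ∧
        q ∈ Module.support B M) →
      ((LocCoh.depth (Localization.AtPrime q.asIdeal)
        (LocalizedModule q.asIdeal.primeCompl M) : ℕ∞) : WithBot ℕ∞) ≤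
      Module.supportDim (Localization.AtPrime q.asIdeal)
        (LocalizedModule q.asIdeal.primeCompl M) := by
    intro q hq
    haveI : Nontrivial (LocalizedModule q.asIdeal.primeCompl M) :=
      Module.mem_support_iff.mp hq.2
    haveI : IsNoetherianRing (Localization.AtPrime q.asIdeal) :=
      IsLocalization.isNoetherianRing q.asIdeal.primeCompl _ inferInstance
    exact Groth.Agent.Lib.Helper28.depth_le_supportDim
  have hdimle : ∀ q : PrimeSpectrum B,
      (q.asIdeal.comap (algebraMap A B) = IsLocalRing.maximalIdeal A ∧
        q ∈ Module.support B M) →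
      Module.supportDim (Localization.AtPrime q.asIdeal)
        (LocalizedModule q.asIdeal.primeCompl M) ≤ Module.supportDim A M := by
    intro q hq
    rw [hdim]
    exact le_iSup₂_of_le q (hset q hq) le_rfl
  have hdeple : ∀ q : PrimeSpectrum B,
      (q.asIdeal.comap (algebraMap A B) = IsLocalRing.maximalIdeal A ∧
        q ∈ Module.support B M) →
      LocCoh.depth A M ≤ LocCoh.depth (Localization.AtPrime q.asIdeal)
        (LocalizedModule q.asIdeal.primeCompl M) := by
    intro q hq
    rw [hdep]
    exact iInf₂_le q (hset q hq)
  unfold LocCoh.IsCohenMacaulayModule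
  constructor
  · intro hCM
    have hall : ∀ q : PrimeSpectrum B,
        (q.asIdeal.comap (algebraMap A B) = IsLocalRing.maximalIdeal A ∧
          q ∈ Module.support B M) →
        Module.supportDim (Localization.AtPrime q.asIdeal)
          (LocalizedModule q.asIdeal.primeCompl M) = Module.supportDim A M ∧
        Module.supportDim (Localization.AtPrime q.asIdeal)
          (LocalizedModule q.asIdeal.primeCompl M) =
          ((LocCoh.depth (Localization.AtPrime q.asIdeal)
            (LocalizedModule q.asIdeal.primeCompl M) : ℕ∞) : WithBot ℕ∞) := by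
      intro q hq
      have h1 := hle q hq
      have h2 := hdimle q hq
      have h3 : ((LocCoh.depth A M : ℕ∞) : WithBot ℕ∞) ≤
          ((LocCoh.depth (Localization.AtPrime q.asIdeal)
            (LocalizedModule q.asIdeal.primeCompl M) : ℕ∞) : WithBot ℕ∞) :=
        WithBot.coe_le_coe.mpr (hdeple q hq)
      rw [hCM] at h2 ⊢
      have h4 := le_antisymm h2 (h3.trans h1)
      exact ⟨h4, le_antisymm (h4.le.trans h3) h1⟩
    exact ⟨fun q hq => (hall q hq).2, fun q hq q' hq' => (hall q hq).1.trans (hall q' hq').1.symm⟩
  · rintro ⟨hCMq, heq⟩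
    have hne : Module.supportDim A M ≠ ⊥ := Module.supportDim_ne_bot_of_nontrivial _ _
    obtain ⟨q0, hq0⟩ : ∃ q0 : PrimeSpectrum B,
        (IsLocalRing.maximalIdeal A).map (algebraMap A B) ≤ q0.asIdeal ∧
          q0 ∈ Module.support B M := by
      by_contra hcon
      push Not at hcon
      apply hne
      rw [hdim]
      apply le_antisymm _ bot_le
      exact iSup₂_le fun q hq => absurd hq.2 (hcon q hq.1)
    have hq0' := hset' q0 hq0
    have hd : Module.supportDim A M = Module.supportDim (Localization.AtPrime q0.asIdeal)
        (LocalizedModule q0.asIdeal.primeCompl M) := by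
      apply le_antisymm
      · rw [hdim]
        exact iSup₂_le fun q hq => le_of_eq (heq q (hset' q hq) q0 hq0')
      · exact hdimle q0 hq0'
    have hdp : LocCoh.depth A M = LocCoh.depth (Localization.AtPrime q0.asIdeal)
        (LocalizedModule q0.asIdeal.primeCompl M) := by
      apply le_antisymm (hdeple q0 hq0')
      rw [hdep]
      refine le_iInf₂ fun q hq => ?_
      have h1 := hCMq q (hset' q hq)
      have h2 := hCMq q0 hq0'
      unfold LocCoh.IsCohenMacaulayModule at h1 h2
      have h3 := heq q0 hq0' q (hset' q hq)
      rw [h1, h2] at h3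
      exact le_of_eq (WithBot.coe_injective h3)
    have h2 := hCMq q0 hq0'
    unfold LocCoh.IsCohenMacaulayModule at h2
    rw [hd, hdp, h2]

end Groth.Agent.S4718
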