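import Groth.Statements.S4719
import Groth.Agent.Lib.Helper5FinDimDepth

set_option autoImplicit false
universe u
open EGA4

namespace Groth.Agent.S4719

/-- Let A → B be a homomorphism of Noetherian rings and M a B-module which is finite as an A-module. (i)
If M satisfies (S_k) as an A-module, it satisfies (S_k) as a B-module. (ii) If for every two primes
q, q' of B in the support of M having the same contraction to A the modules M_q and M_{q'} have the
same dimension, then (S_k) for M as a B-module implies (S_k) for M as an A-module. (The published
statement asks the equal-dimension condition for all pairs of primes of B with the same contraction;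
this row asks it only for primes in the support of M, which is all its proof uses.) -/
theorem result (k : ℕ) (A B : Type u) [CommRing A] [CommRing B] [IsNoetherianRing A]
    [IsNoetherianRing B] [Algebra A B] (M : Type u) [AddCommGroup M] [Module B M] [Module A M]
    [IsScalarTower A B M] [Module.Finite A M] :
    (LocCoh.HasSk k A M → LocCoh.HasSk k B M) ∧
      ((∀ q ∈ Module.support B M, ∀ q' ∈ Module.support B M,
          q.asIdeal.comap (algebraMap A B) = q'.asIdeal.comap (algebraMap A B) →
            Module.supportDim (Localization.AtPrime q.asIdeal) (LocalizedModule q.asIdeal.primeCompl M) =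
              Module.supportDim (Localization.AtPrime q'.asIdeal) (LocalizedModule q'.asIdeal.primeCompl M)) →
        LocCoh.HasSk k B M → LocCoh.HasSk k A M) := by
  constructor
  · intro hS q hq
    by_cases hsupp : (⟨q, hq⟩ : PrimeSpectrum B) ∈ Module.support B M
    swap
    · rw [Module.notMem_support_iff] at hsupp
      rw [Groth.Agent.Lib.Helper28.depth_eq_top_of_subsingleton, WithBot.coe_top]
      exact le_top
    obtain ⟨hdim, hdep⟩ :=
      Groth.Agent.Lib.Helper5.FinDimDepth.main A B M (q.comap (algebraMap A B))
    have hmem : (⟨q, hq⟩ : PrimeSpectrum B) ∈ {q' : PrimeSpectrum B |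
        q'.asIdeal.comap (algebraMap A B) = q.comap (algebraMap A B) ∧
          q' ∈ Module.support B M} := ⟨rfl, hsupp⟩
    have h1 := hS (q.comap (algebraMap A B))
    have h2 : Module.supportDim (Localization.AtPrime q) (LocalizedModule q.primeCompl M) ≤
        Module.supportDim (Localization.AtPrime (q.comap (algebraMap A B)))
          (LocalizedModule (q.comap (algebraMap A B)).primeCompl M) := by
      rw [hdim]
      exact le_iSup₂_of_le (⟨q, hq⟩ : PrimeSpectrum B) hmem le_rfl
    have h3 : LocCoh.depth (Localization.AtPrime (q.comap (algebraMap A B)))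
          (LocalizedModule (q.comap (algebraMap A B)).primeCompl M) ≤
        LocCoh.depth (Localization.AtPrime q) (LocalizedModule q.primeCompl M) := by
      rw [hdep]
      exact iInf₂_le (⟨q, hq⟩ : PrimeSpectrum B) hmem
    exact (min_le_min_left _ h2).trans (h1.trans (WithBot.coe_le_coe.mpr h3))
  · intro heq hS p hp
    obtain ⟨hdim, hdep⟩ := Groth.Agent.Lib.Helper5.FinDimDepth.main A B M p
    rw [hdep]
    by_cases hne : ∃ q : PrimeSpectrum B,
        q.asIdeal.comap (algebraMap A B) = p ∧ q ∈ Module.support B M
    · obtain ⟨q0, hq0⟩ := hne
      have hd : Module.supportDim (Localization.AtPrime p) (LocalizedModule p.primeCompl M) =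
          Module.supportDim (Localization.AtPrime q0.asIdeal)
            (LocalizedModule q0.asIdeal.primeCompl M) := by
        rw [hdim]
        apply le_antisymm
        · exact iSup₂_le fun q hq => le_of_eq (heq q hq.2 q0 hq0.2 (hq.1.trans hq0.1.symm))
        · exact le_iSup₂_of_le q0 hq0 le_rfl
      have key : ∀ q : PrimeSpectrum B,
          (q.asIdeal.comap (algebraMap A B) = p ∧ q ∈ Module.support B M) →
          min (k : WithBot ℕ∞) (Module.supportDim (Localization.AtPrime p)
            (LocalizedModule p.primeCompl M)) ≤
          ((LocCoh.depth (Localization.AtPrime q.asIdeal)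
            (LocalizedModule q.asIdeal.primeCompl M) : ℕ∞) : WithBot ℕ∞) := by
        intro q hq
        rw [hd, heq q0 hq0.2 q hq.2 (hq0.1.trans hq.1.symm)]
        exact hS q.asIdeal
      haveI : Nontrivial (LocalizedModule q0.asIdeal.primeCompl M) :=
        Module.mem_support_iff.mp hq0.2
      obtain ⟨d, hdd⟩ : ∃ d : ℕ∞, Module.supportDim (Localization.AtPrime p)
          (LocalizedModule p.primeCompl M) = ↑d := by
        have hne' : Module.supportDim (Localization.AtPrime q0.asIdeal)
            (LocalizedModule q0.asIdeal.primeCompl M) ≠ ⊥ :=
          Module.supportDim_ne_bot_of_nontrivial _ _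
        rw [hd]
        obtain ⟨d, hd'⟩ := WithBot.ne_bot_iff_exists.mp hne'
        exact ⟨d, hd'.symm⟩
      rw [hdd] at key ⊢
      rw [show ((k : ℕ) : WithBot ℕ∞) = (((k : ℕ) : ℕ∞) : WithBot ℕ∞) from rfl,
        ← WithBot.coe_min, WithBot.coe_le_coe]
      refine le_iInf₂ fun q hq => ?_
      have h1 := key q hq
      rwa [show ((k : ℕ) : WithBot ℕ∞) = (((k : ℕ) : ℕ∞) : WithBot ℕ∞) from rfl,
        ← WithBot.coe_min, WithBot.coe_le_coe] at h1
    · push Not at hne
      have h0 : Module.supportDim (Localization.AtPrime p) (LocalizedModule p.primeCompl M) =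
          ⊥ := by
        rw [hdim]
        apply le_antisymm _ bot_le
        exact iSup₂_le fun q hq => absurd hq.2 (hne q hq.1)
      rw [h0, min_bot_right]
      exact bot_le

end Groth.Agent.S4719
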