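import Groth.Statements.S4720
import Groth.Agent.Lib.Helper4TildeCompl3

set_option autoImplicit false
universe u
open EGA4

namespace Groth.Agent.S4720

/-- Let A be a Noetherian ring, Z a subset of Spec A stable under specialization, M an A-module and N a
submodule of M. If M is Z-pure, so is N; conversely, if N and M/N are Z-pure, so is M. -/
theorem result (A : Type u) [CommRing A] [IsNoetherianRing A]
    (Z : Set (PrimeSpectrum A)) (hZ : StableUnderSpecialization Z) (M : Type u) [AddCommGroup M] [Module A M]
    (N : Submodule A M) :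
    (EGA4.IsPureAlong Z M → EGA4.IsPureAlong Z ↥N) ∧
      (EGA4.IsPureAlong Z ↥N → EGA4.IsPureAlong Z (M ⧸ N) → EGA4.IsPureAlong Z M) := by
  rw [Groth.Agent.Lib.Helper4.TC.isPureAlong_iff_radical,
    Groth.Agent.Lib.Helper4.TC.isPureAlong_iff_radical,
    Groth.Agent.Lib.Helper4.TC.isPureAlong_iff_radical]
  have hcolon : ∀ n : N, ((⊥ : Submodule A N).colon {n}) = (⊥ : Submodule A M).colon {(n : M)} := by
    intro n
    ext r
    rw [Submodule.mem_colon_singleton, Submodule.mem_colon_singleton, Submodule.mem_bot,
      Submodule.mem_bot, ← Submodule.coe_smul, Submodule.coe_eq_zero]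
  constructor
  · intro H J hJ n hn
    rw [hcolon] at hn
    exact Subtype.ext (H J hJ n hn)
  · intro HN HQ J hJ m hm
    have h1 : (Submodule.Quotient.mk m : M ⧸ N) = 0 := by
      apply HQ J hJ
      refine hm.trans (Ideal.radical_mono ?_)
      intro r hr
      rw [Submodule.mem_colon_singleton, Submodule.mem_bot] at hr ⊢
      rw [← Submodule.Quotient.mk_smul, hr, Submodule.Quotient.mk_zero]
    rw [Submodule.Quotient.mk_eq_zero] at h1
    have h2 := HN J hJ ⟨m, h1⟩ (by rw [hcolon]; exact hm)
    exact congr_arg Subtype.val h2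

end Groth.Agent.S4720
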