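import Groth.Statements.S4722
import Mathlib

set_option autoImplicit false
universe u
open EGA4

namespace Groth.Agent.S4722


section
variable {A : Type u} [CommRing A] [IsNoetherianRing A]

/-- saturation of a submodule w.r.t. the complement of a prime -/
def sat {Q : Type u} [AddCommGroup Q] [Module A Q] (p : Ideal A) [hp : p.IsPrime]
    (L : Submodule A Q) : Submodule A Q where
  carrier := {m | ∃ s : A, s ∉ p ∧ s • m ∈ L}
  zero_mem' := ⟨1, (Ideal.ne_top_iff_one p).mp hp.ne_top, by simp⟩
  add_mem' := by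
    rintro a b ⟨s, hs, ha⟩ ⟨t, ht, hb⟩
    refine ⟨s * t, fun h => (hp.mem_or_mem h).elim hs ht, ?_⟩
    rw [smul_add]
    refine L.add_mem ?_ ?_
    · rw [mul_comm, mul_smul]; exact L.smul_mem _ ha
    · rw [mul_smul]; exact L.smul_mem _ hb
  smul_mem' := by
    rintro c a ⟨s, hs, ha⟩
    exact ⟨s, hs, by rw [smul_comm]; exact L.smul_mem _ ha⟩

theorem regular_of_ass {Q : Type u} [AddCommGroup Q] [Module A Q] (p : Ideal A)
    (hQ : associatedPrimes A Q ⊆ {p}) (s : A) (hs : s ∉ p) (z : Q) (h : s • z = 0) : z = 0 := by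
  by_contra hz
  have h1 : s ∈ {r : A | ∃ x : Q, x ≠ 0 ∧ r • x = 0} := ⟨z, hz, h⟩
  rw [← biUnion_associatedPrimes_eq_zero_divisors A Q] at h1
  simp only [Set.mem_iUnion] at h1
  obtain ⟨q, hq, hsq⟩ := h1
  have : q = p := hQ hq
  subst this
  exact hs hsq

theorem stepQ {Q : Type u} [AddCommGroup Q] [Module A Q] [Module.Finite A Q] [Nontrivial Q]
    (p : Ideal A) (hQ : associatedPrimes A Q ⊆ {p}) :
    ∃ L : Submodule A Q, L ≠ ⊥ ∧ associatedPrimes A (Q ⧸ L) ⊆ {p} ∧
      ∃ g : L →ₗ[A] A ⧸ p, Function.Injective g := by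
  classical
  obtain ⟨p0, hp0⟩ := associatedPrimes.nonempty A Q
  have hp0' : p0 = p := hQ hp0
  subst hp0'
  obtain ⟨hp, ψ, hψ⟩ := (isAssociatedPrime_iff_exists_injective_linearMap p0 Q).mp hp0
  refine ⟨sat p0 (LinearMap.range ψ), ?_, ?_, ?_⟩
  · intro hbot
    have h1 : ψ 1 ∈ sat p0 (LinearMap.range ψ) :=
      ⟨1, (Ideal.ne_top_iff_one p0).mp hp.ne_top, by simp⟩
    rw [hbot, Submodule.mem_bot] at h1
    have h2 : (1 : A ⧸ p0) = 0 := hψ (by rw [h1, map_zero])
    have : Nontrivial (A ⧸ p0) := Ideal.Quotient.nontrivial_iff.mpr hp.ne_top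
    exact one_ne_zero h2
  · intro q hq
    rw [Set.mem_singleton_iff]
    obtain ⟨hqp, y, hy⟩ := (isAssociatedPrime_iff (I := q) (M := Q ⧸ sat p0 (LinearMap.range ψ))).mp hq
    obtain ⟨y, rfl⟩ := Submodule.Quotient.mk_surjective _ y
    have hmem : ∀ a : A, a ∈ q ↔ a • y ∈ sat p0 (LinearMap.range ψ) := by
      intro a
      rw [hy, Submodule.mem_colon_singleton, Submodule.mem_bot, ← Submodule.Quotient.mk_smul,
        Submodule.Quotient.mk_eq_zero]
    have hy' : y ∉ sat p0 (LinearMap.range ψ) := by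
      intro hy'
      have : (1 : A) ∈ q := by rw [hmem, one_smul]; exact hy'
      exact hqp.ne_top ((Ideal.eq_top_iff_one q).mpr this)
    apply le_antisymm
    · intro a ha
      by_contra hap
      obtain ⟨s, hs, hsa⟩ := (hmem a).mp ha
      apply hy'
      refine ⟨s * a, fun h => (hp.mem_or_mem h).elim hs hap, ?_⟩
      rw [mul_smul]; exact hsa
    · -- p0 ≤ q
      have hann : Module.annihilator A Q ≤ q := by
        intro a ha
        rw [hmem]
        rw [Module.mem_annihilator] at ha
        rw [ha y]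
        exact Submodule.zero_mem _
      obtain ⟨q', hq', hq'le⟩ := Ideal.exists_minimalPrimes_le hann
      have hq'ass : q' ∈ associatedPrimes A Q :=
        Module.associatedPrimes.minimalPrimes_annihilator_subset_associatedPrimes A Q hq'
      have : q' = p0 := hQ hq'ass
      rw [← this]; exact hq'le
  · -- the embedding
    set L := sat p0 (LinearMap.range ψ) with hL
    have hfg : L.FG := IsNoetherian.noetherian L
    obtain ⟨S, hS⟩ := hfg
    have hex : ∀ n : Q, n ∈ L → ∃ s : A, s ∉ p0 ∧ s • n ∈ LinearMap.range ψ := fun n hn => hn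
    choose! f hf using hex
    set s := ∏ n ∈ S, f n with hs
    have hSL : ∀ n ∈ S, n ∈ L := fun n hn => hS ▸ Submodule.subset_span hn
    have hsp : s ∉ p0 := by
      rw [hs, Ideal.IsPrime.prod_mem_iff]
      rintro ⟨n, hn, hfn⟩
      exact (hf n (hSL n hn)).1 hfn
    have hsL : ∀ n ∈ L, s • n ∈ LinearMap.range ψ := by
      intro n hn
      rw [← hS] at hn
      induction hn using Submodule.span_induction with
      | mem x hx =>
        rw [hs, ← Finset.prod_erase_mul S f hx, mul_smul]
        exact Submodule.smul_mem _ _ (hf x (hSL x hx)).2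
      | zero => rw [smul_zero]; exact Submodule.zero_mem _
      | add x y _ _ hx hy => rw [smul_add]; exact Submodule.add_mem _ hx hy
      | smul a x _ hx => rw [smul_comm]; exact Submodule.smul_mem _ _ hx
    let g₀ : L →ₗ[A] LinearMap.range ψ :=
      LinearMap.codRestrict (LinearMap.range ψ) ((LinearMap.lsmul A Q s).comp L.subtype)
        (fun n => hsL n.1 n.2)
    refine ⟨(LinearEquiv.ofInjective ψ hψ).symm.toLinearMap.comp g₀, ?_⟩
    rw [← LinearMap.ker_eq_bot, LinearMap.ker_eq_bot']
    intro n hn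
    have h1 : g₀ n = 0 := by
      have := (LinearEquiv.ofInjective ψ hψ).symm.injective
      apply this
      rw [map_zero]
      exact hn
    have h2 : s • (n : Q) = 0 := by
      have := congrArg Subtype.val h1
      exact this
    exact Subtype.ext (regular_of_ass p0 hQ s hsp _ h2)

theorem stepM {M : Type u} [AddCommGroup M] [Module A M] [Module.Finite A M] (p : Ideal A)
    (K : Submodule A M) (hK : associatedPrimes A (M ⧸ K) ⊆ {p}) (hne : K ≠ ⊤) :
    ∃ K' : Submodule A M, K < K' ∧ associatedPrimes A (M ⧸ K') ⊆ {p} ∧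
      ∃ g : (K' ⧸ Submodule.comap K'.subtype K) →ₗ[A] A ⧸ p, Function.Injective g := by
  haveI : Nontrivial (M ⧸ K) := Submodule.Quotient.nontrivial_iff.mpr hne
  obtain ⟨L, hL, hLass, g, hg⟩ := stepQ (Q := M ⧸ K) p hK
  have hle : K ≤ Submodule.comap K.mkQ L := by
    intro m hm
    show K.mkQ m ∈ L
    rw [Submodule.mkQ_apply, (Submodule.Quotient.mk_eq_zero K).mpr hm]; exact L.zero_mem
  refine ⟨Submodule.comap K.mkQ L, lt_of_le_of_ne hle ?_, ?_, ?_⟩
  · intro heq
    apply hL
    rw [eq_bot_iff]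
    intro z hz
    obtain ⟨m, rfl⟩ := Submodule.Quotient.mk_surjective _ z
    have : m ∈ Submodule.comap K.mkQ L := hz
    rw [← heq] at this
    rw [Submodule.mem_bot, Submodule.Quotient.mk_eq_zero]; exact this
  · have hmap : (Submodule.comap K.mkQ L).map K.mkQ = L :=
      Submodule.map_comap_eq_of_surjective (Submodule.mkQ_surjective K) L
    let e : ((M ⧸ K) ⧸ (Submodule.comap K.mkQ L).map K.mkQ) ≃ₗ[A] M ⧸ (Submodule.comap K.mkQ L) :=
      Submodule.quotientQuotientEquivQuotient K _ hle
    rw [← LinearEquiv.AssociatedPrimes.eq e]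
    rw [LinearEquiv.AssociatedPrimes.eq (Submodule.quotEquivOfEq _ _ hmap)]
    exact hLass
  · let h : (Submodule.comap K.mkQ L) →ₗ[A] L :=
      LinearMap.codRestrict L (K.mkQ.comp (Submodule.comap K.mkQ L).subtype) (fun m => m.2)
    have hker : LinearMap.ker h = Submodule.comap (Submodule.comap K.mkQ L).subtype K := by
      ext m
      rw [LinearMap.mem_ker, Submodule.mem_comap]
      constructor
      · intro hm
        have := congrArg Subtype.val hm
        exact (Submodule.Quotient.mk_eq_zero K).mp this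
      · intro hm
        apply Subtype.ext
        exact (Submodule.Quotient.mk_eq_zero K).mpr hm
    refine ⟨g.comp (Submodule.liftQ _ h hker.ge), ?_⟩
    refine hg.comp ?_
    rw [← LinearMap.ker_eq_bot]
    exact Submodule.ker_liftQ_eq_bot _ _ _ hker.le

end

/-- Let A be a Noetherian ring and M a finite A-module whose set of associated primes is a single prime
p. Then M has a finite decreasing filtration by submodules M = M_0 ⊇ M_1 ⊇ ⋯ ⊇ M_m = 0 such that
each quotient M_h/M_{h+1} is isomorphic to a submodule of A/p (i.e. embeds A-linearly into A/p). -/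
theorem result (A : Type u) [CommRing A] [IsNoetherianRing A]
    (M : Type u) [AddCommGroup M] [Module A M] [Module.Finite A M] (p : Ideal A)
    (hp : associatedPrimes A M = {p}) :
    ∃ (m : ℕ) (F : Fin (m + 1) → Submodule A M), Antitone F ∧ F 0 = ⊤ ∧ F (Fin.last m) = ⊥ ∧
      ∀ i : Fin m, ∃ g : (↥(F i.castSucc) ⧸ Submodule.comap (F i.castSucc).subtype (F i.succ)) →ₗ[A] (A ⧸ p),
        Function.Injective g := by
  classical
  let T := {K : Submodule A M // associatedPrimes A (M ⧸ K) ⊆ {p}}
  have h0 : associatedPrimes A (M ⧸ (⊥ : Submodule A M)) ⊆ {p} := by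
    rw [LinearEquiv.AssociatedPrimes.eq (Submodule.quotEquivOfEqBot (⊥ : Submodule A M) rfl), hp]
  let next : T → T := fun K =>
    if h : K.1 = ⊤ then K else
      ⟨(stepM p K.1 K.2 h).choose, (stepM p K.1 K.2 h).choose_spec.2.1⟩
  have hnext_top : ∀ K : T, K.1 = ⊤ → next K = K := fun K h => by simp [next, h]
  have hnext_ne : ∀ (K : T) (h : K.1 ≠ ⊤), next K =
      ⟨(stepM p K.1 K.2 h).choose, (stepM p K.1 K.2 h).choose_spec.2.1⟩ := fun K h => by
    simp [next, h]
  have hnext_lt : ∀ K : T, K.1 ≠ ⊤ → K.1 < (next K).1 := fun K h => by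
    rw [hnext_ne K h]
    exact (stepM p K.1 K.2 h).choose_spec.1
  have hnext_g : ∀ K : T, ∃ g : ((next K).1 ⧸ Submodule.comap (next K).1.subtype K.1) →ₗ[A] A ⧸ p,
      Function.Injective g := by
    intro K
    by_cases h : K.1 = ⊤
    · rw [hnext_top K h]
      have : Subsingleton (K.1 ⧸ Submodule.comap K.1.subtype K.1) := by
        rw [Submodule.comap_subtype_self]
        exact Submodule.Quotient.subsingleton_iff.mpr rfl
      exact ⟨0, Function.injective_of_subsingleton _⟩
    · rw [hnext_ne K h]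
      exact (stepM p K.1 K.2 h).choose_spec.2.2
  let G : ℕ → T := fun n => Nat.rec (⟨⊥, h0⟩ : T) (fun _ K => next K) n
  have hG0 : (G 0).1 = ⊥ := rfl
  have hGs : ∀ n, G (n + 1) = next (G n) := fun n => rfl
  have hGle : ∀ n, (G n).1 ≤ (G (n + 1)).1 := by
    intro n
    rw [hGs]
    by_cases h : (G n).1 = ⊤
    · rw [hnext_top _ h]
    · exact (hnext_lt _ h).le
  have hmono : Monotone (fun n => (G n).1) := monotone_nat_of_le_succ hGle
  obtain ⟨m, hm⟩ := (monotone_stabilizes_iff_noetherian (R := A) (M := M)).mpr inferInstance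
    ⟨fun n => (G n).1, hmono⟩
  have hm1 : (G m).1 = (G (m + 1)).1 := hm (m + 1) (Nat.le_succ m)
  have hmtop : (G m).1 = ⊤ := by
    by_contra h
    have := hnext_lt _ h
    rw [← hGs, ← hm1] at this
    exact lt_irrefl _ this
  refine ⟨m, fun i => (G (m - (i : ℕ))).1, ?_, ?_, ?_, ?_⟩
  · intro i j hij
    apply hmono
    have : (i : ℕ) ≤ j := hij
    omega
  · simpa using hmtop
  · simp [hG0]
  · intro i
    have e1 : m - ((i.castSucc : Fin (m + 1)) : ℕ) = (m - ((i.succ : Fin (m + 1)) : ℕ)) + 1 := by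
      have := i.2
      simp only [Fin.val_castSucc, Fin.val_succ]
      omega
    show ∃ g : (↥(G (m - ((i.castSucc : Fin (m + 1)) : ℕ))).1 ⧸
      Submodule.comap (G (m - ((i.castSucc : Fin (m + 1)) : ℕ))).1.subtype
        (G (m - ((i.succ : Fin (m + 1)) : ℕ))).1) →ₗ[A] (A ⧸ p), Function.Injective g
    rw [e1, hGs]
    exact hnext_g _

end Groth.Agent.S4722
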