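import Groth.Statements.S4724
-- import your own Groth.Agent.* helpers here

set_option autoImplicit false
universe u
open EGA4

namespace Groth.Agent.S4724

/-- Let (A_i) be a directed system of commutative rings with direct limit A. Then the nilradical of A is
the supremum of the extensions to A of the nilradicals of the A_i; in particular, if every A_i is
reduced then A is reduced. -/
theorem result (ι : Type u) [Preorder ι] [Nonempty ι] [IsDirectedOrder ι] (G : ι → Type u)
    [∀ i, CommRing (G i)] (f : ∀ i j, i ≤ j → G i →+* G j) [DirectedSystem G (fun i j h ↦ f i j h)] :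
    nilradical (Ring.DirectLimit G (fun i j h ↦ f i j h)) =
        ⨆ i, (nilradical (G i)).map (Ring.DirectLimit.of G (fun i j h ↦ f i j h) i) ∧
      ((∀ i, IsReduced (G i)) → IsReduced (Ring.DirectLimit G (fun i j h ↦ f i j h))) := by
  have key : nilradical (Ring.DirectLimit G (fun i j h ↦ f i j h)) =
      ⨆ i, (nilradical (G i)).map (Ring.DirectLimit.of G (fun i j h ↦ f i j h) i) := by
    apply le_antisymm
    · intro z hz
      obtain ⟨i, x, rfl⟩ := Ring.DirectLimit.exists_of z
      rw [mem_nilradical] at hz
      obtain ⟨n, hn⟩ := hz
      rw [← map_pow] at hn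
      obtain ⟨j, hij, hj⟩ := Ring.DirectLimit.of.zero_exact hn
      have hx : f i j hij x ∈ nilradical (G j) := by
        rw [mem_nilradical]
        exact ⟨n, by rw [← map_pow, hj]⟩
      have : Ring.DirectLimit.of G (fun i j h ↦ f i j h) i x =
          Ring.DirectLimit.of G (fun i j h ↦ f i j h) j (f i j hij x) := by
        rw [Ring.DirectLimit.of_f]
      rw [this]
      exact (le_iSup (fun i => (nilradical (G i)).map
        (Ring.DirectLimit.of G (fun i j h ↦ f i j h) i)) j) (Ideal.mem_map_of_mem _ hx)
    · apply iSup_le
      intro i
      rw [Ideal.map_le_iff_le_comap]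
      intro x hx
      rw [Ideal.mem_comap, mem_nilradical]
      rw [mem_nilradical] at hx
      exact hx.map _
  refine ⟨key, fun hred => ?_⟩
  rw [← nilradical_eq_bot_iff, key]
  simp only [iSup_eq_bot]
  intro i
  have := hred i
  rw [nilradical_eq_bot_iff.mpr (hred i), Ideal.map_bot]

end Groth.Agent.S4724
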