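import Groth.Statements.S4726
-- import your own Groth.Agent.* helpers here

set_option autoImplicit false
universe u
open EGA4

namespace Groth.Agent.S4726

open TensorProduct in
lemma aux {R A : Type*} [CommRing R] [CommRing A] [Algebra R A] (n : ℕ)
    (K : Submodule A (Fin n → A)) (S : Set (Fin n → R))
    (hK : K = Submodule.span A ((fun v : Fin n → R => (fun j => algebraMap R A (v j))) '' S)) :
    Nonempty (((Fin n → A) ⧸ K) ≃ₗ[A] A ⊗[R] ((Fin n → R) ⧸ Submodule.span R S)) := by
  classical
  have hmem : ∀ k ∈ Submodule.span R S, (fun j => algebraMap R A (k j)) ∈ K := by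
    intro k hk
    induction hk using Submodule.span_induction with
    | mem x hx =>
      rw [hK]
      exact Submodule.subset_span ⟨x, hx, rfl⟩
    | zero =>
      have : (fun j => algebraMap R A ((0 : Fin n → R) j)) = 0 := by ext j; simp
      rw [this]
      exact K.zero_mem
    | add x y _ _ hx hy =>
      have : (fun j => algebraMap R A ((x + y) j)) =
        (fun j => algebraMap R A (x j)) + (fun j => algebraMap R A (y j)) := by
        ext j; simp
      rw [this]
      exact K.add_mem hx hy
    | smul r x _ hx =>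
      have : (fun j => algebraMap R A ((r • x) j)) =
        (algebraMap R A r) • (fun j => algebraMap R A (x j)) := by
        ext j; simp
      rw [this]
      exact K.smul_mem _ hx
  let ψ : A ⊗[R] (Fin n → R) ≃ₗ[A] (Fin n → A) := TensorProduct.piScalarRight R A A (Fin n)
  let g : A ⊗[R] (Submodule.span R S) →ₗ[A] A ⊗[R] (Fin n → R) :=
    TensorProduct.AlgebraTensorModule.lTensor A A ((Submodule.span R S).subtype.restrictScalars R)
  have key : Submodule.map ψ.toLinearMap (LinearMap.range g) = K := by
    apply le_antisymm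
    · rw [Submodule.map_le_iff_le_comap]
      rintro x ⟨y, rfl⟩
      rw [Submodule.mem_comap]
      induction y using TensorProduct.induction_on with
      | zero => simp
      | add x y hx hy =>
        rw [map_add, map_add]
        exact K.add_mem hx hy
      | tmul a k =>
        have : ψ.toLinearMap (g (a ⊗ₜ k)) = a • (fun j => algebraMap R A (k.1 j)) := by
          ext j
          simp [ψ, g, Algebra.smul_def, mul_comm]
        rw [this]
        exact K.smul_mem _ (hmem k.1 k.2)
    · rw [hK, Submodule.span_le]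
      rintro _ ⟨v, hv, rfl⟩
      refine ⟨(1 : A) ⊗ₜ[R] v, ⟨(1 : A) ⊗ₜ[R] ⟨v, Submodule.subset_span hv⟩, by simp [g]⟩, ?_⟩
      ext j
      simp [ψ, Algebra.smul_def]
  exact ⟨(Submodule.Quotient.equiv (LinearMap.range g) K ψ key).symm ≪≫ₗ
      (TensorProduct.AlgebraTensorModule.tensorQuotientEquiv A R A (Submodule.span R S)).symm⟩

lemma exists_lift_finset {ι : Type*} [Preorder ι] [Nonempty ι] [IsDirectedOrder ι] (G : ι → Type*)
    [∀ i, CommRing (G i)] (f : ∀ i j, i ≤ j → G i →+* G j)
    (T : Finset (Ring.DirectLimit G (fun i j h ↦ f i j h))) :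
    ∃ i, ∀ a ∈ T, ∃ b : G i, Ring.DirectLimit.of G (fun i j h ↦ f i j h) i b = a := by
  classical
  induction T using Finset.induction_on with
  | empty => exact ⟨Classical.arbitrary ι, by simp⟩
  | insert a T _ ih =>
    obtain ⟨i, hi⟩ := ih
    obtain ⟨j, b, hb⟩ := Ring.DirectLimit.exists_of a
    obtain ⟨k, hik, hjk⟩ := exists_ge_ge i j
    refine ⟨k, fun a' ha' => ?_⟩
    rw [Finset.mem_insert] at ha'
    rcases ha' with rfl | ha'
    · exact ⟨f j k hjk b, by rw [Ring.DirectLimit.of_f, hb]⟩
    · obtain ⟨b', hb'⟩ := hi a' ha'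
      exact ⟨f i k hik b', by rw [Ring.DirectLimit.of_f, hb']⟩

open TensorProduct in
/-- Let (A_i) be a directed system of commutative rings with direct limit A and M a finitely presented
A-module. Then there exist an index i and a finitely presented A_i-module M_i such that M is
isomorphic, as an A-module, to A ⊗_{A_i} M_i (A being an A_i-algebra through the canonical map). -/
theorem result (ι : Type u) [Preorder ι] [Nonempty ι] [IsDirectedOrder ι]
    (G : ι → Type u) [∀ i, CommRing (G i)] (f : ∀ i j, i ≤ j → G i →+* G j)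
    [DirectedSystem G (fun i j h ↦ f i j h)] (M : Type u) [AddCommGroup M]
    [Module (Ring.DirectLimit G (fun i j h ↦ f i j h)) M]
    [Module.FinitePresentation (Ring.DirectLimit G (fun i j h ↦ f i j h)) M] :
    ∃ (i : ι) (Mi : Type u) (_ : AddCommGroup Mi) (_ : Module (G i) Mi), Module.FinitePresentation (G i) Mi ∧
      letI : Algebra (G i) (Ring.DirectLimit G (fun i j h ↦ f i j h)) :=
        (Ring.DirectLimit.of G (fun i j h ↦ f i j h) i).toAlgebra
      Nonempty (M ≃ₗ[Ring.DirectLimit G (fun i j h ↦ f i j h)] (Ring.DirectLimit G (fun i j h ↦ f i j h)) ⊗[G i] Mi) := by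
  classical
  obtain ⟨n, K, e, hK⟩ := Module.FinitePresentation.exists_fin
    (Ring.DirectLimit G (fun i j h ↦ f i j h)) M
  obtain ⟨S, hS⟩ := hK
  obtain ⟨i, hi⟩ := exists_lift_finset G f
    (Finset.image (fun p : (Fin n → Ring.DirectLimit G (fun i j h ↦ f i j h)) × Fin n => p.1 p.2)
      (S ×ˢ Finset.univ))
  have hi' : ∀ v ∈ S, ∃ w : Fin n → G i,
      (fun k => Ring.DirectLimit.of G (fun i j h ↦ f i j h) i (w k)) = v := by
    intro v hv
    have : ∀ k : Fin n, ∃ b : G i, Ring.DirectLimit.of G (fun i j h ↦ f i j h) i b = v k := by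
      intro k
      apply hi
      rw [Finset.mem_image]
      exact ⟨(v, k), by simp [hv], rfl⟩
    choose w hw using this
    exact ⟨w, funext hw⟩
  choose! w hw using hi'
  refine ⟨i, (Fin n → G i) ⧸ Submodule.span (G i) (w '' (S : Set _)), inferInstance, inferInstance,
    ?_, ?_⟩
  · refine Module.finitePresentation_of_surjective
      (Submodule.mkQ _) (Submodule.mkQ_surjective _) ?_
    rw [Submodule.ker_mkQ]
    exact ⟨S.image w, by simp⟩
  · let inst : Algebra (G i) (Ring.DirectLimit G (fun i j h ↦ f i j h)) :=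
      (Ring.DirectLimit.of G (fun i j h ↦ f i j h) i).toAlgebra
    obtain ⟨e'⟩ := aux (R := G i) (A := Ring.DirectLimit G (fun i j h ↦ f i j h)) n K
      (w '' (S : Set _)) (by
        rw [← hS, Set.image_image]
        congr 1
        refine (Set.image_id _).symm.trans (Set.image_congr fun v hv => ?_)
        exact (hw v hv).symm)
    exact ⟨e ≪≫ₗ e'⟩

end Groth.Agent.S4726
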