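import Groth.Statements.S4728
import Mathlib
import Groth.Agent.Lib.Helper28FormalFibres
-- import your own Groth.Agent.* helpers here

set_option autoImplicit false
universe u
open EGA4

namespace Groth.Agent.S4728

open Groth.Agent.Lib.Helper28 TensorProduct IsLocalRing

theorem isDomain_of_isNormalRing_of_isLocalRing (R : Type u) [CommRing R] [IsLocalRing R]
    (h : EGA4.IsNormalRing R) : IsDomain R := by
  have h1 := (h (maximalIdeal R)).1
  have hu : (maximalIdeal R).primeCompl ≤ IsUnit.submonoid R := by
    intro x hx
    by_contra hx'
    exact hx ((IsLocalRing.mem_maximalIdeal _).mpr hx')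
  let e : R ≃ₐ[R] Localization.AtPrime (maximalIdeal R) :=
    IsLocalization.atUnits R (maximalIdeal R).primeCompl hu
  exact e.toRingEquiv.injective.isDomain e.toRingEquiv.toRingHom

/-- Let A be a Noetherian local domain of dimension 1 with maximal ideal m, A' a Noetherian local ring
and A → A' a local homomorphism which is normal (flat, with geometrically normal fibres). Then the
ideal m A' of A' is prime and the local ring of A' at m A' has dimension 1. (The remaining clauses
of the published item, describing A' inside its total ring of fractions, are not restated.) -/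
theorem result (A A' : Type u) [CommRing A] [CommRing A']
    [IsNoetherianRing A] [IsNoetherianRing A'] [IsLocalRing A] [IsLocalRing A'] [IsDomain A]
    (hA : ringKrullDim A = 1) [Algebra A A'] [IsLocalHom (algebraMap A A')] (h : EGA4.IsNormalHom A A') :
    ((IsLocalRing.maximalIdeal A).map (algebraMap A A')).IsPrime ∧
      ((IsLocalRing.maximalIdeal A).map (algebraMap A A')).height = 1 := by
  let e : (maximalIdeal A).Fiber A' ≃ₐ[A] A' ⧸ (maximalIdeal A).map (algebraMap A A') :=
    (Algebra.TensorProduct.congr (.symm <| .ofBijective _
      (Ideal.bijective_algebraMap_quotient_residueField (maximalIdeal A))) .refl).trans <|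
    (Algebra.TensorProduct.comm _ _ _).trans
    ((Algebra.TensorProduct.quotIdealMapEquivTensorQuot A' (maximalIdeal A)).symm.restrictScalars _)
  have hF : EGA4.IsNormalRing ((maximalIdeal A).Fiber A') := by
    have h1 := h.2 (maximalIdeal A) (maximalIdeal A).ResidueField (Module.Finite.self _)
    exact isNormalRing_of_ringEquiv (Algebra.TensorProduct.lid _ _).toRingEquiv h1
  have hQ : EGA4.IsNormalRing (A' ⧸ (maximalIdeal A).map (algebraMap A A')) :=
    isNormalRing_of_ringEquiv e.toRingEquiv hF
  have hPle : (maximalIdeal A).map (algebraMap A A') ≤ maximalIdeal A' :=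
    ((local_hom_TFAE (algebraMap A A')).out 0 2 rfl rfl).mp inferInstance
  have hPne : (maximalIdeal A).map (algebraMap A A') ≠ ⊤ :=
    (hPle.trans_lt (inferInstance : (maximalIdeal A').IsMaximal).lt_top).ne
  have hnt : Nontrivial (A' ⧸ (maximalIdeal A).map (algebraMap A A')) :=
    Ideal.Quotient.nontrivial_iff.mpr hPne
  have hloc : IsLocalRing (A' ⧸ (maximalIdeal A).map (algebraMap A A')) :=
    IsLocalRing.of_surjective' (Ideal.Quotient.mk _) Ideal.Quotient.mk_surjective
  have hdom : IsDomain (A' ⧸ (maximalIdeal A).map (algebraMap A A')) :=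
    isDomain_of_isNormalRing_of_isLocalRing _ hQ
  have hPprime : ((maximalIdeal A).map (algebraMap A A')).IsPrime :=
    (Ideal.Quotient.isDomain_iff_prime _).mp hdom
  refine ⟨hPprime, ?_⟩
  have hover : ((maximalIdeal A).map (algebraMap A A')).LiesOver (maximalIdeal A) := by
    constructor
    have h1 : maximalIdeal A ≤ ((maximalIdeal A).map (algebraMap A A')).under A :=
      Ideal.le_comap_map
    have h2 : (((maximalIdeal A).map (algebraMap A A')).under A) ≠ ⊤ :=
      (Ideal.comap_isPrime (algebraMap A A') _).ne_top
    exact ((inferInstance : (maximalIdeal A).IsMaximal).eq_of_le h2 h1)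
  have hflat : Module.Flat A A' := h.1
  have h3 := Ideal.height_eq_height_add_of_liesOver_of_hasGoingDown (maximalIdeal A)
    ((maximalIdeal A).map (algebraMap A A'))
  rw [Ideal.map_quotient_self, Ideal.height_bot, add_zero] at h3
  rw [h3]
  have h4 := IsLocalRing.maximalIdeal_height_eq_ringKrullDim (R := A)
  rw [hA] at h4
  exact_mod_cast h4

end Groth.Agent.S4728
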