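import Groth.Statements.S4729
import Mathlib.RingTheory.Spectrum.Prime.Module

set_option autoImplicit false
universe u
open EGA4

namespace Groth.Agent.S4729

section aux
variable {A : Type u} [CommRing A] {M : Type u} [AddCommGroup M] [Module A M]

/-- `L1`: a point of the support of `M_p` contracts to a point of the support of `M`. -/
lemma comap_mem_support (p : Ideal A) [p.IsPrime]
    (P' : PrimeSpectrum (Localization.AtPrime p))
    (h : P' ∈ Module.support (Localization.AtPrime p) (LocalizedModule p.primeCompl M)) :
    PrimeSpectrum.comap (algebraMap A (Localization.AtPrime p)) P' ∈ Module.support A M := by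
  rw [Module.mem_support_iff'] at h ⊢
  obtain ⟨m, hm⟩ := h
  induction m using LocalizedModule.induction_on with
  | h n s =>
    refine ⟨n, fun a ha han => ?_⟩
    have ha' : algebraMap A (Localization.AtPrime p) a ∉ P'.asIdeal := ha
    apply hm _ ha'
    rw [algebraMap_smul, LocalizedModule.smul'_mk, han, LocalizedModule.zero_mk]

/-- `L2`: a point of the support of `M` contained in `q` extends to a point of the support of
`M_q`. -/
lemma map_mem_support (q : Ideal A) [q.IsPrime] (P : PrimeSpectrum A) (hP : P ∈ Module.support A M)
    (hPq : P.asIdeal ≤ q) (Q' : PrimeSpectrum (Localization.AtPrime q))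
    (hQ' : Q'.asIdeal.comap (algebraMap A (Localization.AtPrime q)) = P.asIdeal) :
    Q' ∈ Module.support (Localization.AtPrime q) (LocalizedModule q.primeCompl M) := by
  rw [Module.mem_support_iff'] at hP ⊢
  obtain ⟨n, hn⟩ := hP
  refine ⟨LocalizedModule.mk n 1, fun r hrQ hr => hrQ ?_⟩
  obtain ⟨a, t, rfl⟩ := IsLocalization.exists_mk'_eq q.primeCompl r
  rw [← Localization.mk_eq_mk', LocalizedModule.mk_smul_mk, ← LocalizedModule.zero_mk (t * 1), LocalizedModule.mk_eq] at hr
  obtain ⟨u, hu⟩ := hr
  simp only [smul_zero] at hu
  have h1 : ((u : A) * ((t * 1 : q.primeCompl) : A) * a) • n = 0 := by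
    rw [mul_smul, mul_smul]
    exact hu
  have h3 : a ∈ P.asIdeal := by
    by_contra ha
    have h2 : (u : A) * ((t * 1 : q.primeCompl) : A) * a ∉ P.asIdeal := by
      intro h
      rcases P.2.mem_or_mem h with h | h
      · rcases P.2.mem_or_mem h with h | h
        · exact absurd (hPq h) u.2
        · exact absurd (hPq h) (t * 1 : q.primeCompl).2
      · exact ha h
    exact hn _ h2 h1
  rw [← hQ', Ideal.mem_comap] at h3
  rw [IsLocalization.mk'_eq_mul_mk'_one]
  exact Ideal.mul_mem_right _ _ h3


end aux

/-- Let A be a commutative ring, M a finite A-module and p ⊆ q prime ideals of A (so that p is a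
generization of q). Then the dimension of the A_p-module M_p is at most the dimension of the
A_q-module M_q. -/
theorem result (A : Type u) [CommRing A] (M : Type u) [AddCommGroup M] [Module A M]
    [Module.Finite A M] (p q : Ideal A) [p.IsPrime] [q.IsPrime] (hpq : p ≤ q) :
    Module.supportDim (Localization.AtPrime p) (LocalizedModule p.primeCompl M) ≤
      Module.supportDim (Localization.AtPrime q) (LocalizedModule q.primeCompl M) := by
  unfold Module.supportDim
  have hle : ∀ P' : PrimeSpectrum (Localization.AtPrime p),
      P'.asIdeal.comap (algebraMap A (Localization.AtPrime p)) ≤ q := by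
    intro P'
    refine le_trans ?_ hpq
    have h1 : P'.asIdeal ≤ IsLocalRing.maximalIdeal (Localization.AtPrime p) :=
      IsLocalRing.le_maximalIdeal P'.2.ne_top
    have h2 := Ideal.comap_mono (f := algebraMap A (Localization.AtPrime p)) h1
    have h3 : (IsLocalRing.maximalIdeal (Localization.AtPrime p)).comap
        (algebraMap A (Localization.AtPrime p)) = p := Localization.AtPrime.under_maximalIdeal
    rwa [h3] at h2
  have hdisj : ∀ P' : PrimeSpectrum (Localization.AtPrime p),
      Disjoint (q.primeCompl : Set A)
        (P'.asIdeal.comap (algebraMap A (Localization.AtPrime p)) : Set A) := by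
    intro P'
    exact Set.disjoint_left.mpr fun x hx hxJ => hx (hle P' hxJ)
  have hcm : ∀ P' : PrimeSpectrum (Localization.AtPrime p),
      ((P'.asIdeal.comap (algebraMap A (Localization.AtPrime p))).map
        (algebraMap A (Localization.AtPrime q))).comap (algebraMap A (Localization.AtPrime q)) =
      P'.asIdeal.comap (algebraMap A (Localization.AtPrime p)) := fun P' =>
    IsLocalization.under_map_of_isPrime_disjoint q.primeCompl (Localization.AtPrime q)
      inferInstance (hdisj P')
  let f : Module.support (Localization.AtPrime p) (LocalizedModule p.primeCompl M) →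
      Module.support (Localization.AtPrime q) (LocalizedModule q.primeCompl M) := fun P' =>
    ⟨⟨(P'.1.asIdeal.comap (algebraMap A (Localization.AtPrime p))).map
        (algebraMap A (Localization.AtPrime q)),
      IsLocalization.isPrime_of_isPrime_disjoint q.primeCompl _ _ inferInstance (hdisj P'.1)⟩,
    map_mem_support q _ (comap_mem_support p P'.1 P'.2) (hle P'.1) _ (hcm P'.1)⟩
  apply Order.krullDim_le_of_strictMono f
  apply strictMono_of_le_iff_le
  intro a b
  constructor
  · intro hab
    have h1 : (a.1.asIdeal.comap (algebraMap A (Localization.AtPrime p))).map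
        (algebraMap A (Localization.AtPrime q)) ≤
        (b.1.asIdeal.comap (algebraMap A (Localization.AtPrime p))).map
        (algebraMap A (Localization.AtPrime q)) :=
      Ideal.map_mono (Ideal.comap_mono hab)
    exact h1
  · intro hab
    have h1 : (a.1.asIdeal.comap (algebraMap A (Localization.AtPrime p))).map
        (algebraMap A (Localization.AtPrime q)) ≤
        (b.1.asIdeal.comap (algebraMap A (Localization.AtPrime p))).map
        (algebraMap A (Localization.AtPrime q)) := hab
    have h2 := Ideal.comap_mono (f := algebraMap A (Localization.AtPrime q)) h1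
    rw [hcm a.1, hcm b.1] at h2
    have h3 := Ideal.map_mono (f := algebraMap A (Localization.AtPrime p)) h2
    rw [IsLocalization.map_comap p.primeCompl, IsLocalization.map_comap p.primeCompl] at h3
    exact h3

end Groth.Agent.S4729
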