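import Groth.Statements.S4730
import Mathlib
import Groth.Agent.S4688

set_option autoImplicit false
universe u
open EGA4

namespace Groth.Agent.S4730

open Polynomial in

open Polynomial in
/-- Let A be a Noetherian ring, p a prime ideal of A and q a prime ideal of the polynomial ring A[T]
lying over p. Then ht(p) + 1 = ht(q) + deg.tr_{κ(p)} κ(q), the transcendence degree being that of
the domain A[T]/q over the domain A/p. -/
theorem result (A : Type u) [CommRing A] [IsNoetherianRing A]
    (p : Ideal A) [p.IsPrime] (q : Ideal A[X]) [q.IsPrime] [q.LiesOver p] :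
    (p.height : Cardinal.{u}) + 1 = (q.height : Cardinal.{u}) + Algebra.trdeg (A ⧸ p) (A[X] ⧸ q) := by
  classical
  obtain ⟨h1, h2⟩ := Groth.Agent.S4688.result A p q
  by_cases hq : q = p.map (Polynomial.C : A →+* A[X])
  · -- trdeg = 1
    have htr : Algebra.trdeg (A ⧸ p) (A[X] ⧸ q) = 1 := by
      subst hq
      let e0 : (A ⧸ p)[X] ≃+* A[X] ⧸ p.map (Polynomial.C : A →+* A[X]) :=
        p.polynomialQuotientEquivQuotientPolynomial
      let e : (A ⧸ p)[X] ≃ₐ[A ⧸ p] A[X] ⧸ p.map (Polynomial.C : A →+* A[X]) :=
        AlgEquiv.ofRingEquiv (f := e0) (by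
          intro x
          obtain ⟨a, rfl⟩ := Ideal.Quotient.mk_surjective x
          rw [Ideal.Quotient.algebraMap_mk_of_liesOver]
          have : algebraMap (A ⧸ p) (A ⧸ p)[X] (Ideal.Quotient.mk p a)
              = (Polynomial.C a).map (Ideal.Quotient.mk p) := by
            rw [Polynomial.map_C]; rfl
          rw [this]
          exact Ideal.polynomialQuotientEquivQuotientPolynomial_map_mk p (Polynomial.C a))
      rw [← e.trdeg_eq]
      exact Polynomial.trdeg_of_isDomain
    rw [htr, hq, h1]
  · have hht := h2 hq
    have halg : Algebra.IsAlgebraic (A ⧸ p) (A[X] ⧸ q) := by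
      -- q ⊋ p[X]
      have hle : p.map (Polynomial.C : A →+* A[X]) ≤ q := by
        rw [Ideal.map_le_iff_le_comap]
        intro a ha
        have : p = q.comap (algebraMap A A[X]) := Ideal.LiesOver.over
        rw [this] at ha
        exact ha
      obtain ⟨f, hfq, hfp⟩ : ∃ f ∈ q, f ∉ p.map (Polynomial.C : A →+* A[X]) := by
        by_contra hcon
        push Not at hcon
        exact hq (le_antisymm hcon hle)
      set x : A[X] ⧸ q := Ideal.Quotient.mk q Polynomial.X with hx
      -- x algebraic
      have hxalg : IsAlgebraic (A ⧸ p) x := by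
        refine ⟨f.map (Ideal.Quotient.mk p), ?_, ?_⟩
        · intro h0
          apply hfp
          rw [Ideal.mem_map_C_iff]
          intro n
          have := congrArg (fun g => g.coeff n) h0
          simp only [Polynomial.coeff_map, Polynomial.coeff_zero] at this
          exact Ideal.Quotient.eq_zero_iff_mem.1 this
        · rw [Polynomial.aeval_def, Polynomial.eval₂_map]
          have hcomp : (algebraMap (A ⧸ p) (A[X] ⧸ q)).comp (Ideal.Quotient.mk p)
              = (Ideal.Quotient.mk q).comp (Polynomial.C : A →+* A[X]) := by
            ext a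
            rfl
          rw [hcomp, hx, ← Polynomial.hom_eval₂, Polynomial.eval₂_C_X]
          exact Ideal.Quotient.eq_zero_iff_mem.2 hfq
      have htop : Subalgebra.algebraicClosure (A ⧸ p) (A[X] ⧸ q) = ⊤ := by
        rw [eq_top_iff]
        intro y _
        obtain ⟨g, rfl⟩ := Ideal.Quotient.mk_surjective y
        clear * - hxalg hx
        induction g using Polynomial.induction_on' with
        | add g1 g2 h1 h2 =>
          rw [map_add]
          exact Subalgebra.add_mem _ h1 h2
        | monomial n a =>
          rw [← Polynomial.C_mul_X_pow_eq_monomial, map_mul, map_pow]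
          apply Subalgebra.mul_mem
          · have : Ideal.Quotient.mk q (Polynomial.C a)
                = algebraMap (A ⧸ p) (A[X] ⧸ q) (Ideal.Quotient.mk p a) := rfl
            rw [this]
            exact Subalgebra.algebraMap_mem _ _
          · exact Subalgebra.pow_mem _ hxalg n
      constructor
      intro y
      have : y ∈ Subalgebra.algebraicClosure (A ⧸ p) (A[X] ⧸ q) := by rw [htop]; trivial
      exact this
    rw [trdeg_eq_zero, add_zero, hht, Cardinal.ofENat_add, Cardinal.ofENat_one]

end Groth.Agent.S4730
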