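import Groth.Statements.S4731
import Mathlib

set_option autoImplicit false
universe u
open EGA4

namespace Groth.Agent.S4731

section Dev
theorem isNoetherian_of_torsion {S : Type*} [CommRing S] (c : Ideal S) [IsNoetherianRing (S ⧸ c)]
    (N : Type*) [AddCommGroup N] [Module S N] [Module.Finite S N]
    (h : Module.IsTorsionBySet S N c) : IsNoetherian S N := by
  letI := h.module
  haveI : IsScalarTower S (S ⧸ c) N := h.isScalarTower
  haveI : Module.Finite (S ⧸ c) N := Module.Finite.of_restrictScalars_finite S (S ⧸ c) N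
  haveI : IsNoetherian (S ⧸ c) N := isNoetherian_of_isNoetherianRing_of_finite _ _
  refine ⟨fun P => ?_⟩
  let P' : Submodule (S ⧸ c) N :=
    { P.toAddSubmonoid with
      smul_mem' := by
        intro r x hx
        obtain ⟨s, rfl⟩ := Ideal.Quotient.mk_surjective r
        exact P.smul_mem s hx }
  have hfg : (P'.restrictScalars S).FG :=
    (IsNoetherian.noetherian P').restrictScalars_of_surjective (R := S)
      (Ideal.Quotient.mk_surjective)
  have : P'.restrictScalars S = P := by
    ext x; rfl
  rwa [this] at hfg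

variable (S R : Type u) [CommRing S] [CommRing R] [Algebra S R]
    [FaithfulSMul S R] [IsNoetherianRing R] [Module.Finite S R] (c : Ideal S)
    (hc : ∀ s : S, s ∈ c ↔ ∀ r : R, ∃ s' : S, algebraMap S R s' = algebraMap S R s * r)

include hc in
theorem mem_c_of_mul {s s' : S} (hs : s ∈ c) (r : R) (h : algebraMap S R s' = algebraMap S R s * r) :
    s' ∈ c := by
  rw [hc]
  intro r'
  obtain ⟨s'', hs''⟩ := (hc s).mp hs (r * r')
  exact ⟨s'', by rw [hs'', h, mul_assoc]⟩

include hc in
theorem fg_of_le [IsNoetherianRing (S ⧸ c)] (𝔞 : Ideal S) (h𝔞 : 𝔞 ≤ c) : 𝔞.FG := by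
  have hinj : Function.Injective (Algebra.linearMap S R) := FaithfulSMul.algebraMap_injective S R
  apply Submodule.fg_of_fg_map_injective (Algebra.linearMap S R) hinj
  set A' : Submodule S R := Submodule.map (Algebra.linearMap S R) 𝔞 with hA'
  let MI : Ideal R := Ideal.map (algebraMap S R) 𝔞
  let KI : Ideal R := MI * Ideal.map (algebraMap S R) c
  let M : Submodule S R := MI.restrictScalars S
  let K : Submodule S R := KI.restrictScalars S
  have hMfg : M.FG := Submodule.FG.restrictScalars (IsNoetherian.noetherian MI)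
  have hKfg : K.FG := Submodule.FG.restrictScalars (IsNoetherian.noetherian KI)
  -- elements of `c R` come from `c`
  have hcR : ∀ n ∈ Ideal.map (algebraMap S R) c, ∃ s ∈ c, algebraMap S R s = n := by
    intro n hn
    refine Submodule.span_induction ?_ ?_ ?_ ?_ hn
    · rintro _ ⟨s, hs, rfl⟩; exact ⟨s, hs, rfl⟩
    · exact ⟨0, c.zero_mem, map_zero _⟩
    · rintro _ _ _ _ ⟨s1, hs1, rfl⟩ ⟨s2, hs2, rfl⟩
      exact ⟨s1 + s2, c.add_mem hs1 hs2, map_add _ _ _⟩
    · rintro r _ _ ⟨s, hs, rfl⟩
      obtain ⟨s', hs'⟩ := (hc s).mp hs r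
      exact ⟨s', mem_c_of_mul S R c hc hs r hs', by rw [hs', smul_eq_mul, mul_comm]⟩
  have hMc : ∀ m ∈ MI, ∀ s ∈ c, m * algebraMap S R s ∈ A' := by
    intro m hm
    refine Submodule.span_induction ?_ ?_ ?_ ?_ hm
    · rintro _ ⟨a, ha, rfl⟩ s _
      exact ⟨a * s, 𝔞.mul_mem_right s ha, by simp⟩
    · intro s _; rw [zero_mul]; exact A'.zero_mem
    · intro x y _ _ hx hy s hs
      rw [add_mul]; exact A'.add_mem (hx s hs) (hy s hs)
    · intro r x _ hx s hs
      obtain ⟨s', hs'⟩ := (hc s).mp hs r
      have hs'c := mem_c_of_mul S R c hc hs r hs'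
      have : r • x * algebraMap S R s = x * algebraMap S R s' := by
        rw [hs', smul_eq_mul]; ring
      rw [this]; exact hx s' hs'c
  have hKA : K ≤ A' := by
    intro x hx
    change x ∈ KI at hx
    refine Submodule.mul_induction_on hx ?_ ?_
    · intro m hm n hn
      obtain ⟨s, hs, rfl⟩ := hcR n hn
      exact hMc m hm s hs
    · intro x y hx hy; exact A'.add_mem hx hy
  have hAM : A' ≤ M := by
    rintro _ ⟨a, ha, rfl⟩
    exact Ideal.mem_map_of_mem _ ha
  -- the quotient map
  let f : R →ₗ[S] R ⧸ K := K.mkQ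
  apply Submodule.fg_of_fg_map_of_fg_inf_ker f
  · -- image is FG by Noetherianity of `M/K`
    let MK : Submodule S (R ⧸ K) := M.map f
    haveI : Module.Finite S MK := Module.Finite.iff_fg.mpr (hMfg.map f)
    have htors : Module.IsTorsionBySet S MK c := by
      rintro ⟨y, m, hm, rfl⟩ ⟨s, hs⟩
      apply Subtype.ext
      show s • f m = 0
      rw [← map_smul]
      apply (Submodule.Quotient.mk_eq_zero K).mpr
      show s • m ∈ KI
      rw [Algebra.smul_def, mul_comm]
      exact Ideal.mul_mem_mul hm (Ideal.mem_map_of_mem _ hs)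
    haveI : IsNoetherian S MK := isNoetherian_of_torsion c MK htors
    exact isNoetherian_submodule.mp this (A'.map f) (Submodule.map_mono hAM)
  · rw [Submodule.ker_mkQ, inf_eq_right.mpr hKA]
    exact hKfg

include hc in
theorem main [IsNoetherianRing (S ⧸ c)] (a : ℕ →o Ideal S) (ha : ∀ n, a n ≤ c) :
    ∃ N : ℕ, ∀ n, N ≤ n → a n = a N := by
  have hle : iSup a ≤ c := iSup_le ha
  have hfg : (iSup a).FG := fg_of_le S R c hc _ hle
  obtain ⟨N, hN⟩ := Submodule.FG.stabilizes_of_iSup_eq hfg a rfl
  refine ⟨N, fun n hn => le_antisymm ?_ (a.monotone hn)⟩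
  rw [← hN]; exact le_iSup a n


end Dev

/-- Let S → R be an injective homomorphism of commutative rings making R a finite S-module, with R
Noetherian; let c be the conductor of S in R, the ideal of those s in S with s R contained in (the
image of) S. If S/c is Noetherian, then every increasing sequence of ideals of S contained in c is
eventually constant. -/
theorem result (S R : Type u) [CommRing S] [CommRing R] [Algebra S R]
    [FaithfulSMul S R] [IsNoetherianRing R] [Module.Finite S R] (c : Ideal S)
    (hc : ∀ s : S, s ∈ c ↔ ∀ r : R, ∃ s' : S, algebraMap S R s' = algebraMap S R s * r)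
    [IsNoetherianRing (S ⧸ c)] (a : ℕ →o Ideal S) (ha : ∀ n, a n ≤ c) :
    ∃ N : ℕ, ∀ n, N ≤ n → a n = a N := by
  exact main S R c hc a ha

end Groth.Agent.S4731
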