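import Groth.Statements.S4732
import Mathlib
-- import your own Groth.Agent.* helpers here

set_option autoImplicit false
universe u
open EGA4

namespace Groth.Agent.S4732

open AlgebraicGeometry CategoryTheory

/-- the local ring of `Spec R` at a point is regular if `R` is a regular ring. -/
theorem isRegularLocalRing_stalk_spec (R : Type u) [CommRing R] [IsRegularRing R]
    (p : ↥(Spec (CommRingCat.of R))) :
    IsRegularLocalRing ((Spec (CommRingCat.of R)).presheaf.stalk p) := by
  let _ : Algebra R ((Spec (CommRingCat.of R)).presheaf.stalk p) := StructureSheaf.stalkAlgebra R p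
  have : IsLocalization.AtPrime ((Spec (CommRingCat.of R)).presheaf.stalk p) p.asIdeal :=
    StructureSheaf.IsLocalization.to_stalk R p
  exact IsRegularLocalRing.of_ringEquiv
    (IsLocalization.algEquiv p.asIdeal.primeCompl (Localization.AtPrime p.asIdeal)
      ((Spec (CommRingCat.of R)).presheaf.stalk p)).toRingEquiv

theorem exists_closedImmersion_affineSpace (k : Type u) [Field k] (B : Type u) [CommRing B]
    (h' : Spec (CommRingCat.of B) ⟶ Spec (CommRingCat.of k)) [hh' : LocallyOfFiniteType h'] :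
    ∃ (n : ℕ) (i : Spec (CommRingCat.of B) ⟶ Spec (CommRingCat.of (MvPolynomial (Fin n) k))),
      IsClosedImmersion i ∧
      i ≫ Spec.map (CommRingCat.ofHom (MvPolynomial.C : k →+* MvPolynomial (Fin n) k)) = h' := by
  let φ : CommRingCat.of k ⟶ CommRingCat.of B := Spec.preimage h'
  have hφ : Spec.map φ = h' := Spec.map_preimage h'
  have hft : φ.hom.FiniteType := by
    rw [← hφ] at hh'
    exact (HasRingHomProperty.Spec_iff (P := @LocallyOfFiniteType)).mp hh'
  let _ : Algebra k B := φ.hom.toAlgebra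
  have hft' : Algebra.FiniteType k B := hft
  obtain ⟨n, ψ, hψ⟩ := Algebra.FiniteType.iff_quotient_mvPolynomial''.mp hft'
  refine ⟨n, Spec.map (CommRingCat.ofHom ψ.toRingHom),
    IsClosedImmersion.spec_of_surjective _ hψ, ?_⟩
  rw [← Spec.map_comp, ← hφ]
  congr 1
  ext a
  change ψ (MvPolynomial.C a) = φ.hom a
  rw [← MvPolynomial.algebraMap_eq, AlgHom.commutes]
  rfl

open AlgebraicGeometry CategoryTheory in
/-- Let k be a field, X a scheme locally of finite type over k and x a point of X. Then there are an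
open neighbourhood U of x, a k-scheme Y all of whose local rings are regular, and an immersion U → Y
compatible with the structure morphisms to Spec k. -/
theorem result (k : Type u) [Field k] {X : Scheme.{u}}
    (f : X ⟶ Spec (CommRingCat.of k)) [LocallyOfFiniteType f] (x : X) :
    ∃ (U : X.Opens) (_ : x ∈ U) (Y : Scheme.{u}) (g : Y ⟶ Spec (CommRingCat.of k)) (i : (U : Scheme.{u}) ⟶ Y),
      IsImmersion i ∧ i ≫ g = U.ι ≫ f ∧ ∀ y : Y, IsRegularLocalRing (Y.presheaf.stalk y) := by
  have key : ∃ U : X.Opens, IsAffineOpen U ∧ x ∈ U := by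
    obtain ⟨_, ⟨U, hU, rfl⟩, hxU, -⟩ :=
      (X.isBasis_affineOpens).exists_subset_of_mem_open (Set.mem_univ x) isOpen_univ
    exact ⟨U, hU, hxU⟩
  obtain ⟨U, hU, hxU⟩ := key
  have hUa : IsAffine (U : Scheme.{u}) := hU
  refine ⟨U, hxU, ?_⟩
  let h' : Spec (CommRingCat.of Γ(U, ⊤)) ⟶ Spec (CommRingCat.of k) :=
    (U : Scheme.{u}).isoSpec.inv ≫ U.ι ≫ f
  have hh' : LocallyOfFiniteType h' := by
    have h0 : LocallyOfFiniteType ((U : Scheme.{u}).isoSpec.inv ≫ U.ι ≫ f) := inferInstance
    exact h0
  obtain ⟨n, i, hi, hig⟩ := exists_closedImmersion_affineSpace k Γ(U, ⊤) h'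
  let j : (U : Scheme.{u}) ⟶ Spec (CommRingCat.of (MvPolynomial (Fin n) k)) :=
    (U : Scheme.{u}).isoSpec.hom ≫ i
  refine ⟨Spec (CommRingCat.of (MvPolynomial (Fin n) k)),
    Spec.map (CommRingCat.ofHom (MvPolynomial.C : k →+* MvPolynomial (Fin n) k)), j, ?_, ?_, ?_⟩
  · have h1 : IsClosedImmersion j :=
      (MorphismProperty.cancel_left_of_respectsIso @IsClosedImmersion _ _).mpr hi
    infer_instance
  · change ((U : Scheme.{u}).isoSpec.hom ≫ i) ≫ _ = _
    rw [Category.assoc, hig]
    exact Iso.hom_inv_id_assoc _ _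
  · intro y
    exact isRegularLocalRing_stalk_spec (MvPolynomial (Fin n) k) y

end Groth.Agent.S4732
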