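import Groth.Statements.S4736
import Mathlib
import Groth.Agent.Lib.Helper28GeomFibre5
-- import your own Groth.Agent.* helpers here

set_option autoImplicit false
universe u
open EGA4

namespace Groth.Agent.S4736
open Groth.Agent.Lib.Helper28 IsLocalRing TensorProduct

/-- Let A → B be a regular homomorphism of Noetherian rings (flat, with geometrically regular fibres)
and S a multiplicative subset of A. Then the induced homomorphism S⁻¹A → S⁻¹B is regular. (S⁻¹A and
S⁻¹B are given here as arbitrary localizations at S and at its image.) -/
theorem result (A B : Type u) [CommRing A] [CommRing B] [IsNoetherianRing A] [IsNoetherianRing B]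
    [Algebra A B] (h : CAlg.IsRegularHom A B) (S : Submonoid A)
    (A' B' : Type u) [CommRing A'] [CommRing B'] [Algebra A A'] [Algebra B B'] [Algebra A' B'] [Algebra A B']
    [IsScalarTower A A' B'] [IsScalarTower A B B'] [IsLocalization S A']
    [IsLocalization (Algebra.algebraMapSubmonoid B S) B'] :
    CAlg.IsRegularHom A' B' := by
  have hflat := h.1
  have hqf := quasiFinite_of_isLocalization' A S A'
  have hN : IsNoetherianRing B' :=
    IsLocalization.isNoetherianRing (Algebra.algebraMapSubmonoid B S) B' inferInstance
  refine ⟨flat_localization_localization A B S A' B', fun P' _ => ⟨isNoetherianRing_fiber P', ?_⟩⟩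
  intro k'' _ _ hfin
  exact tensor_fiber_of_property_of_algEquiv (localizationTensorEquiv A B S A' B')
    (fun T _ => IsRegularRing T) (fun T T' _ _ e h => IsRegularRing.of_ringEquiv (R := T) e)
    (fun p _ k' _ _ hk' => (h.2 p).2 k' hk') P' k''

end Groth.Agent.S4736
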