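import Groth.Statements.S4739
import Mathlib
import Groth.Agent.Lib.Helper28IAdicLocal
-- import your own Groth.Agent.* helpers here

set_option autoImplicit false
universe u
open EGA4

namespace Groth.Agent.S4739
open Groth.Agent.Lib.Helper28 IsLocalRing TensorProduct

open Groth.Agent.Lib.Helper28 TensorProduct IsLocalRing in
/-- Every element of `B ⊗[A] Â` is congruent to an element of `B` modulo `m_B (B ⊗[A] Â)`. -/
theorem exists_sub_mem_map_tensor_cpl (A B : Type u) [CommRing A] [CommRing B] [IsNoetherianRing A]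
    [IsLocalRing A] [IsLocalRing B] [Algebra A B] [IsLocalHom (algebraMap A B)]
    (x : B ⊗[A] EGA4.Cpl A) :
    ∃ b : B, x - algebraMap B (B ⊗[A] EGA4.Cpl A) b ∈
      (maximalIdeal B).map (algebraMap B (B ⊗[A] EGA4.Cpl A)) := by
  induction x using TensorProduct.induction_on with
  | zero => exact ⟨0, by simp⟩
  | add x y hx hy =>
    obtain ⟨b₁, h₁⟩ := hx
    obtain ⟨b₂, h₂⟩ := hy
    refine ⟨b₁ + b₂, ?_⟩
    have : x + y - algebraMap B (B ⊗[A] EGA4.Cpl A) (b₁ + b₂) =
        (x - algebraMap B (B ⊗[A] EGA4.Cpl A) b₁) + (y - algebraMap B (B ⊗[A] EGA4.Cpl A) b₂) := by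
      rw [map_add]; ring
    rw [this]
    exact Ideal.add_mem _ h₁ h₂
  | tmul b α =>
    obtain ⟨a, ha⟩ := exists_sub_mem_map_adicCompletion (maximalIdeal A) α
    refine ⟨a • b, ?_⟩
    have h1 : b ⊗ₜ[A] α - algebraMap B (B ⊗[A] EGA4.Cpl A) (a • b) =
        b ⊗ₜ[A] (α - algebraMap A (EGA4.Cpl A) a) := by
      rw [Algebra.TensorProduct.algebraMap_apply, Algebra.algebraMap_self_apply,
        TensorProduct.tmul_sub, Algebra.algebraMap_eq_smul_one a, TensorProduct.tmul_smul,
        TensorProduct.smul_tmul']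
    rw [h1]
    -- `b ⊗ ε ∈ m_B B'` for `ε ∈ m_A Â`
    have key : ∀ ε ∈ (maximalIdeal A).map (algebraMap A (EGA4.Cpl A)),
        b ⊗ₜ[A] ε ∈ (maximalIdeal B).map (algebraMap B (B ⊗[A] EGA4.Cpl A)) := by
      intro ε hε
      induction hε using Submodule.span_induction with
      | mem ε hε =>
        obtain ⟨m₀, hm₀, rfl⟩ := hε
        have h2 : b ⊗ₜ[A] (algebraMap A (EGA4.Cpl A) m₀) =
            algebraMap B (B ⊗[A] EGA4.Cpl A) (algebraMap A B m₀ * b) := by
          rw [Algebra.TensorProduct.algebraMap_apply, Algebra.algebraMap_self_apply,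
            Algebra.algebraMap_eq_smul_one m₀, TensorProduct.tmul_smul, TensorProduct.smul_tmul',
            Algebra.smul_def, Algebra.algebraMap_eq_smul_one m₀]
        rw [h2]
        refine Ideal.mem_map_of_mem _ (Ideal.mul_mem_right _ _ ?_)
        exact IsLocalRing.map_maximalIdeal_le (algebraMap A B) (Ideal.mem_map_of_mem _ hm₀)
      | zero => rw [TensorProduct.tmul_zero]; exact Ideal.zero_mem _
      | add x y _ _ hx hy => rw [TensorProduct.tmul_add]; exact Ideal.add_mem _ hx hy
      | smul γ x _ hx =>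
        have h3 : b ⊗ₜ[A] (γ • x) = ((1 : B) ⊗ₜ[A] γ) * (b ⊗ₜ[A] x) := by
          rw [Algebra.TensorProduct.tmul_mul_tmul, one_mul, smul_eq_mul]
        rw [h3]
        exact Ideal.mul_mem_left _ _ hx
    exact key _ ha

theorem ring_identity {T : Type u} [CommRing T] (m αs αu c ci : T) (h : ci * αu = 1) :
    αs * αu * (m - c * ci) = (m * αs - c) * αu - c * (αs - αu) := by
  linear_combination (-(c * αs)) * h


open TensorProduct in
/-- Let A → B be a local homomorphism of Noetherian local rings and Â the completion of A, and suppose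
B' = B ⊗_A Â is Noetherian. Then for every prime ideal n' of B' lying over the maximal ideal of B
and containing the image of the maximal ideal of A through Â (that is, lying over the maximal ideal
m_A Â of Â), the completion of B and the completion of the local ring B'_{n'} are isomorphic
(existence of a ring isomorphism only). -/
theorem result (A B : Type u) [CommRing A] [CommRing B] [IsNoetherianRing A]
    [IsNoetherianRing B] [IsLocalRing A] [IsLocalRing B] [Algebra A B] [IsLocalHom (algebraMap A B)]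
    [IsNoetherianRing (B ⊗[A] EGA4.Cpl A)] (n' : Ideal (B ⊗[A] EGA4.Cpl A)) [n'.IsPrime]
    (h1 : n'.comap (algebraMap B (B ⊗[A] EGA4.Cpl A)) = IsLocalRing.maximalIdeal B)
    (h2 : (IsLocalRing.maximalIdeal A).map
        ((Algebra.TensorProduct.includeRight.toRingHom : EGA4.Cpl A →+* B ⊗[A] EGA4.Cpl A).comp
          (algebraMap A (EGA4.Cpl A))) ≤ n') :
    Nonempty (EGA4.Cpl B ≃+* EGA4.Cpl (Localization.AtPrime n')) := by
  have hJle : (maximalIdeal B).map (algebraMap B (B ⊗[A] EGA4.Cpl A)) ≤ n' := by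
    rw [Ideal.map_le_iff_le_comap, h1]
  have hJeq : (maximalIdeal B).map (algebraMap B (B ⊗[A] EGA4.Cpl A)) = n' := by
    apply le_antisymm hJle
    intro x hx
    obtain ⟨b, hb⟩ := exists_sub_mem_map_tensor_cpl A B x
    have hb' : algebraMap B (B ⊗[A] EGA4.Cpl A) b ∈ n' := by
      have := n'.sub_mem hx (hJle hb)
      rwa [sub_sub_cancel] at this
    have hbm : b ∈ maximalIdeal B := by rw [← h1]; exact hb'
    have e : x = (x - algebraMap B (B ⊗[A] EGA4.Cpl A) b) +
        algebraMap B (B ⊗[A] EGA4.Cpl A) b := by ring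
    rw [e]
    exact Ideal.add_mem _ hb (Ideal.mem_map_of_mem _ hbm)
  have hflatT : Module.Flat B (Localization.AtPrime n') :=
    Module.Flat.trans B (B ⊗[A] EGA4.Cpl A) _
  have hmapT : (maximalIdeal B).map (algebraMap B (Localization.AtPrime n')) =
      maximalIdeal (Localization.AtPrime n') := by
    rw [IsScalarTower.algebraMap_eq B (B ⊗[A] EGA4.Cpl A) (Localization.AtPrime n'),
      ← Ideal.map_map, hJeq, Localization.AtPrime.map_eq_maximalIdeal]
  have hloc : IsLocalHom (algebraMap B (Localization.AtPrime n')) :=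
    ((IsLocalRing.local_hom_TFAE _).out 0 2).mpr (le_of_eq hmapT)
  have happ : ∀ t : Localization.AtPrime n', ∃ b : B,
      t - algebraMap B (Localization.AtPrime n') b ∈ maximalIdeal (Localization.AtPrime n') := by
    intro t
    obtain ⟨⟨x, s⟩, rfl⟩ := IsLocalization.mk'_surjective n'.primeCompl t
    obtain ⟨b₁, hb₁⟩ := exists_sub_mem_map_tensor_cpl A B x
    obtain ⟨b₂, hb₂⟩ := exists_sub_mem_map_tensor_cpl A B (s : B ⊗[A] EGA4.Cpl A)
    have hb₂u : IsUnit b₂ := by
      by_contra hnu
      have hmem : b₂ ∈ maximalIdeal B := hnu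
      have h3 : algebraMap B (B ⊗[A] EGA4.Cpl A) b₂ ∈ n' := hJle (Ideal.mem_map_of_mem _ hmem)
      have := n'.add_mem (hJle hb₂) h3
      rw [sub_add_cancel] at this
      exact s.2 this
    obtain ⟨u, rfl⟩ := hb₂u
    refine ⟨b₁ * ↑u⁻¹, ?_⟩
    have hu1 : IsUnit (algebraMap (B ⊗[A] EGA4.Cpl A) (Localization.AtPrime n') s) :=
      IsLocalization.map_units _ s
    have hu2 : IsUnit (algebraMap B (Localization.AtPrime n') (u : B)) :=
      (u.isUnit).map _
    rw [← Ideal.unit_mul_mem_iff_mem _ (hu1.mul hu2)]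
    have e1 : IsLocalization.mk' (Localization.AtPrime n') x s *
        algebraMap (B ⊗[A] EGA4.Cpl A) (Localization.AtPrime n') s =
        algebraMap (B ⊗[A] EGA4.Cpl A) (Localization.AtPrime n') x := IsLocalization.mk'_spec _ x s
    have hci : algebraMap B (Localization.AtPrime n') ((↑u⁻¹ : Bˣ) : B) *
        algebraMap B (Localization.AtPrime n') (u : B) = 1 := by
      rw [← map_mul, Units.inv_mul, map_one]
    have e3 : algebraMap (B ⊗[A] EGA4.Cpl A) (Localization.AtPrime n') s *
        algebraMap B (Localization.AtPrime n') (u : B) *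
        (IsLocalization.mk' (Localization.AtPrime n') x s -
          algebraMap B (Localization.AtPrime n') (b₁ * ↑u⁻¹)) =
        algebraMap (B ⊗[A] EGA4.Cpl A) (Localization.AtPrime n')
          ((x - algebraMap B (B ⊗[A] EGA4.Cpl A) b₁) * algebraMap B (B ⊗[A] EGA4.Cpl A) (u : B) -
            algebraMap B (B ⊗[A] EGA4.Cpl A) b₁ *
              ((s : B ⊗[A] EGA4.Cpl A) - algebraMap B (B ⊗[A] EGA4.Cpl A) (u : B))) := by
      simp only [map_sub, map_mul,
        ← IsScalarTower.algebraMap_apply B (B ⊗[A] EGA4.Cpl A) (Localization.AtPrime n')]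
      rw [← e1]
      exact ring_identity (T := Localization.AtPrime n') _ _ _ _ _ hci
    rw [e3, IsLocalization.AtPrime.to_map_mem_maximal_iff (Localization.AtPrime n') n']
    exact n'.sub_mem (n'.mul_mem_right _ (hJle hb₁)) (n'.mul_mem_left _ (hJle hb₂))
  obtain ⟨e, -⟩ := exists_ringEquiv_adicCompletion_of_flat_of_map_maximalIdeal B
    (Localization.AtPrime n') hmapT happ
  exact ⟨e⟩

end Groth.Agent.S4739
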