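import Groth.Statements.S4742
import Groth.Agent.Lib.Helper28Equidim
-- import your own Groth.Agent.* helpers here

set_option autoImplicit false
universe u
open EGA4

namespace Groth.Agent.S4742
open Groth.Agent.Lib.Helper28

/-- Let A be a Noetherian local ring which is equidimensional and catenary, t an element of A belonging
to a system of parameters (dim A/tA + 1 = dim A), and Z a set of prime ideals of A stable under
specialization. Write X = Spec A, X₀ = V(t), X₁ = X ∖ X₀ and Z₀ = Z ∩ X₀, Z₁ = Z ∩ X₁. Then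
codim(Z₀, X₀) ≤ codim(Z, X) ≤ codim(Z₁, X₁), where each codimension is the infimum of the heights of
the primes concerned, heights for Z₀ being taken in A/tA. -/
theorem result (A : Type u) [CommRing A] [IsNoetherianRing A] [IsLocalRing A]
    (hA : EGA4.IsEquidim A) (hA' : CAlg.IsCatenary A) (t : A)
    (ht : ringKrullDim (A ⧸ Ideal.span {t}) + 1 = ringKrullDim A) (Z : Set (PrimeSpectrum A))
    (hZ : StableUnderSpecialization Z) :
    (⨅ p ∈ {p ∈ Z | t ∈ p.asIdeal}, (p.asIdeal.map (Ideal.Quotient.mk (Ideal.span {t}))).height) ≤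
        ⨅ p ∈ Z, p.asIdeal.height ∧
      (⨅ p ∈ Z, p.asIdeal.height) ≤ ⨅ p ∈ {p ∈ Z | t ∉ p.asIdeal}, p.asIdeal.height := by
  have htm : t ∈ IsLocalRing.maximalIdeal A := by
    by_contra hnot
    have hu : IsUnit t := by
      by_contra h
      exact hnot ((IsLocalRing.mem_maximalIdeal t).mpr h)
    have htop : Ideal.span {t} = ⊤ := Ideal.span_singleton_eq_top.mpr hu
    have hss : Subsingleton (A ⧸ Ideal.span {t}) := by
      rw [htop]; exact Ideal.Quotient.subsingleton_iff.mpr rfl
    rw [ringKrullDim_eq_bot_of_subsingleton] at ht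
    have hnn : 0 ≤ ringKrullDim A := ringKrullDim_nonneg_of_nontrivial
    rw [← ht] at hnn
    simp at hnn
  constructor
  · refine le_iInf₂ (fun p hp => ?_)
    have hpp : p.asIdeal.IsPrime := p.2
    by_cases htp : t ∈ p.asIdeal
    · refine iInf₂_le_of_le p ⟨hp, htp⟩ ?_
      exact le_trans le_self_add (height_map_mk_add_one_le hA hA' t ht p.asIdeal htp)
    · have hne : p.asIdeal ⊔ Ideal.span {t} ≤ IsLocalRing.maximalIdeal A :=
        sup_le (IsLocalRing.le_maximalIdeal hpp.ne_top)
          ((Ideal.span_singleton_le_iff_mem _).mpr htm)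
      obtain ⟨q, hq, hqle⟩ := Ideal.exists_minimalPrimes_le hne
      have hqp : q.IsPrime := hq.1.1
      have hcov := covBy_of_mem_minimalPrimes_sup_span t p.asIdeal htp q hq
      have htq : t ∈ q := hq.1.2 (Ideal.mem_sup_right (Ideal.mem_span_singleton_self t))
      have hqZ : (⟨q, hqp⟩ : PrimeSpectrum A) ∈ Z := by
        apply hZ _ hp
        rw [← PrimeSpectrum.le_iff_specializes]
        exact hcov.lt.le
      refine iInf₂_le_of_le ⟨q, hqp⟩ ⟨hqZ, htq⟩ ?_
      have h1 := height_map_mk_add_one_le hA hA' t ht q htq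
      have h2 := height_eq_add_one_of_covBy_of_isEquidim hA hA' hcov
      change q.height = p.asIdeal.height + 1 at h2
      rw [h2] at h1
      exact (ENat.add_le_add_iff_right ENat.one_ne_top).mp h1
  · refine le_iInf₂ (fun p hp => ?_)
    exact iInf₂_le p hp.1

end Groth.Agent.S4742
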