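import Groth.Statements.S4757
import Mathlib
import Groth.Agent.Lib.Helper28GeomFibre5
-- import your own Groth.Agent.* helpers here

set_option autoImplicit false
universe u
open EGA4

namespace Groth.Agent.S4757
open Groth.Agent.Lib.Helper28 IsLocalRing TensorProduct

/-- Let A → B be a flat homomorphism of Noetherian rings with geometrically reduced fibres and S a
multiplicative subset of A. Then the induced homomorphism S⁻¹A → S⁻¹B (arbitrary localizations at S
and at its image) is flat with geometrically reduced fibres. -/
theorem result (A B : Type u) [CommRing A] [CommRing B] [IsNoetherianRing A]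
    [IsNoetherianRing B] [Algebra A B] [Module.Flat A B]
    (h : ∀ (p : Ideal A) [p.IsPrime], Algebra.IsGeometricallyReduced p.ResidueField (p.Fiber B)) (S : Submonoid A)
    (A' B' : Type u) [CommRing A'] [CommRing B'] [Algebra A A'] [Algebra B B'] [Algebra A' B'] [Algebra A B']
    [IsScalarTower A A' B'] [IsScalarTower A B B'] [IsLocalization S A']
    [IsLocalization (Algebra.algebraMapSubmonoid B S) B'] :
    Module.Flat A' B' ∧ ∀ (p' : Ideal A') [p'.IsPrime], Algebra.IsGeometricallyReduced p'.ResidueField (p'.Fiber B') := by
  have hqf := quasiFinite_of_isLocalization' A S A'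
  refine ⟨flat_localization_localization A B S A' B', fun P' _ => ?_⟩
  apply isGeometricallyReduced_of_forall_finite
  intro k'' _ _ hfin
  exact tensor_fiber_of_property_of_algEquiv (localizationTensorEquiv A B S A' B')
    (fun T _ => IsReduced T) (fun T T' _ _ e h => isReduced_of_injective e.symm e.symm.injective)
    (fun p _ k' _ _ hk' => by
      have := h p
      have : Algebra.IsAlgebraic p.ResidueField k' := Algebra.IsAlgebraic.of_finite _ _
      infer_instance) P' k''

end Groth.Agent.S4757
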