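import Groth.Statements.S4760
import Mathlib.AlgebraicGeometry.Morphisms.FinitePresentation
import Mathlib.AlgebraicGeometry.Morphisms.QuasiSeparated
import Mathlib.AlgebraicGeometry.Properties
import Mathlib.Topology.Spectral.Prespectral

set_option autoImplicit false
universe u
open CategoryTheory AlgebraicGeometry
open Lim8

namespace Groth.Agent.S4760

open Topology TopologicalSpace in
/-- Constructible subsets of a quasi-compact quasi-separated prespectral space are quasi-compact. -/
lemma isCompact_of_isConstructible {W : Type*} [TopologicalSpace W]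
    [CompactSpace W] [QuasiSeparatedSpace W] [PrespectralSpace W]
    (F : Set W) (hF : IsConstructible F) : IsCompact F := by
  have hb := PrespectralSpace.isTopologicalBasis (X := W)
  have : Nonempty {U : Set W | IsOpen U ∧ IsCompact U} := ⟨⟨∅, isOpen_empty, isCompact_empty⟩⟩
  refine IsConstructible.induction_of_isTopologicalBasis
    (P := fun F _ => IsCompact F)
    (fun U : {U : Set W | IsOpen U ∧ IsCompact U} => (U : Set W))
    (by simpa using hb) (fun U => U.2.2) ?_ ?_ F hF
  · intro i s hs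
    have hUo : IsOpen (⋃ j ∈ s, (j : Set W)) := isOpen_biUnion fun j _ => j.2.1
    exact i.2.2.inter_right hUo.isClosed_compl
  · intro s _ t _ hs ht
    exact hs.union ht

/-- Let S = lim S_i be a cofiltered limit of schemes with affine transition maps, some stage S_{i₀}
being quasi-compact and quasi-separated. Then every subset Z of S that is both locally closed and
constructible is the preimage under the projection S ⟶ S_i of a locally closed constructible subset
of S_i, for some index i over i₀. -/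
theorem result {I : Type u} [SmallCategory I] [IsCofiltered I]
    (D : I ⥤ Scheme.{u}) (c : Limits.Cone D) (hc : Limits.IsLimit c)
    [∀ (i j : I) (f : i ⟶ j), IsAffineHom (D.map f)] (i₀ : I)
    [CompactSpace (D.obj i₀)] [QuasiSeparatedSpace (D.obj i₀)] (Z : Set c.pt)
    (hZ : Topology.IsConstructible Z) (hZ' : IsLocallyClosed Z) :
    ∃ (i : I) (_ : i ⟶ i₀) (Zi : Set (D.obj i)),
      Topology.IsConstructible Zi ∧ IsLocallyClosed Zi ∧ (⇑(c.π.app i) ⁻¹' Zi : Set c.pt) = Z := by
  have hπ : IsAffineHom (c.π.app i₀) := isAffineHom_π_app D c hc i₀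
  have : CompactSpace c.pt := QuasiCompact.compactSpace_of_compactSpace (c.π.app i₀)
  have : QuasiSeparatedSpace c.pt := quasiSeparatedSpace_of_quasiSeparated (c.π.app i₀)
  have hcomp : ∀ {i j : I} (a : i ⟶ j), ⇑(D.map a) ∘ ⇑(c.π.app i) = ⇑(c.π.app j) := by
    intro i j a
    ext x
    rw [← c.w a]
    rfl
  have hZc : IsCompact Z := isCompact_of_isConstructible Z hZ
  obtain ⟨U', T, hU', hT, rfl⟩ := hZ'
  obtain ⟨U, hUc, hUo, hZU, hUU'⟩ :=
    PrespectralSpace.exists_isCompact_and_isOpen_between hZc hU' Set.inter_subset_left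
  have hZeq : U' ∩ T = U ∩ T := by
    apply Set.Subset.antisymm
    · exact Set.subset_inter hZU Set.inter_subset_right
    · exact Set.inter_subset_inter_left _ hUU'
  have hWo : IsOpen (U ∩ Tᶜ) := hUo.inter hT.isOpen_compl
  have hWc : IsCompact (U ∩ Tᶜ) := by
    apply isCompact_of_isConstructible
    have h1 : Topology.IsConstructible U := hUc.isConstructible hUo
    have h2 : U ∩ Tᶜ = U \ (U' ∩ T) := by
      rw [hZeq]
      ext x
      simp only [Set.mem_inter_iff, Set.mem_compl_iff, Set.mem_sdiff, not_and]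
      tauto
    rw [h2]
    exact h1.sdiff hZ
  obtain ⟨i, V, hV, hVU⟩ := exists_preimage_eq D c hc ⟨U, hUo⟩ hUc
  obtain ⟨j, V', hV', hVW⟩ := exists_preimage_eq D c hc ⟨U ∩ Tᶜ, hWo⟩ hWc
  let k := IsCofiltered.min (IsCofiltered.min i j) i₀
  let a : k ⟶ i := IsCofiltered.minToLeft _ _ ≫ IsCofiltered.minToLeft _ _
  let b : k ⟶ j := IsCofiltered.minToLeft _ _ ≫ IsCofiltered.minToRight _ _
  let e : k ⟶ i₀ := IsCofiltered.minToRight _ _
  have : CompactSpace (D.obj k) := QuasiCompact.compactSpace_of_compactSpace (D.map e)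
  have : QuasiSeparatedSpace (D.obj k) := quasiSeparatedSpace_of_quasiSeparated (D.map e)
  have hVa_o : IsOpen (⇑(D.map a) ⁻¹' (V : Set (D.obj i))) := V.2.preimage (D.map a).continuous
  have hVb_o : IsOpen (⇑(D.map b) ⁻¹' (V' : Set (D.obj j))) := V'.2.preimage (D.map b).continuous
  have hVa_c : IsCompact (⇑(D.map a) ⁻¹' (V : Set (D.obj i))) :=
    QuasiCompact.isCompact_preimage (f := D.map a) _ V.2 hV
  have hVb_c : IsCompact (⇑(D.map b) ⁻¹' (V' : Set (D.obj j))) :=
    QuasiCompact.isCompact_preimage (f := D.map b) _ V'.2 hV'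
  refine ⟨k, e, ⇑(D.map a) ⁻¹' (V : Set (D.obj i)) \ ⇑(D.map b) ⁻¹' (V' : Set (D.obj j)),
    (hVa_c.isConstructible hVa_o).sdiff (hVb_c.isConstructible hVb_o),
    hVa_o.isLocallyClosed.inter hVb_o.isClosed_compl.isLocallyClosed, ?_⟩
  rw [Set.preimage_sdiff, ← Set.preimage_comp, ← Set.preimage_comp, hcomp, hcomp]
  have h1 : (⇑(c.π.app i) ⁻¹' (V : Set (D.obj i)) : Set c.pt) = U :=
    congrArg (fun W : c.pt.Opens => (W : Set c.pt)) hVU
  have h2 : (⇑(c.π.app j) ⁻¹' (V' : Set (D.obj j)) : Set c.pt) = U ∩ Tᶜ :=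
    congrArg (fun W : c.pt.Opens => (W : Set c.pt)) hVW
  rw [h1, h2, hZeq]
  ext x
  simp only [Set.mem_inter_iff, Set.mem_compl_iff, Set.mem_sdiff, not_and, not_not]
  tauto

end Groth.Agent.S4760
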