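import Groth.Statements.S4761
import Groth.Agent.Lib.Helper7Lim

set_option autoImplicit false
universe u
open CategoryTheory AlgebraicGeometry
open Lim8

namespace Groth.Agent.S4761

/-- Let S = lim S_i be a cofiltered limit of schemes with affine transition maps, let S_{i₁} be a
quasi-compact stage and Z₁ a constructible subset of S_{i₁}. Then the preimage of Z₁ in S is open if
and only if, for some index j over i₁, the preimage of Z₁ in S_j is open. -/
theorem result {I : Type u} [SmallCategory I] [IsCofiltered I]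
    (D : I ⥤ Scheme.{u}) (c : Limits.Cone D) (hc : Limits.IsLimit c)
    [∀ (i j : I) (f : i ⟶ j), IsAffineHom (D.map f)] (i₁ : I)
    [CompactSpace (D.obj i₁)] (Z₁ : Set (D.obj i₁)) (hZ : Topology.IsConstructible Z₁) :
    IsOpen (⇑(c.π.app i₁) ⁻¹' Z₁ : Set c.pt) ↔ ∃ (j : I) (φ : j ⟶ i₁), IsOpen (⇑(D.map φ) ⁻¹' Z₁) := by
  have hcomp : ∀ {i j : I} (a : i ⟶ j) (x : c.pt), D.map a (c.π.app i x) = c.π.app j x := by
    intro i j a x
    rw [← c.w a]
    rfl
  have hmapcomp : ∀ {i j k : I} (a : i ⟶ j) (b : j ⟶ k) (x : D.obj i),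
      D.map (a ≫ b) x = D.map b (D.map a x) := by
    intro i j k a b x
    rw [Functor.map_comp]
    rfl
  constructor
  · intro hopen
    have hπ : IsAffineHom (c.π.app i₁) := Groth.Agent.Lib.Helper7.isAffineHom_π_app' D c hc i₁
    have : CompactSpace c.pt := QuasiCompact.compactSpace_of_compactSpace (c.π.app i₁)
    have hZcons : Topology.IsConstructible (⇑(c.π.app i₁) ⁻¹' Z₁ : Set c.pt) :=
      (c.π.app i₁).isConstructible_preimage hZ
    have hZc : IsCompact (⇑(c.π.app i₁) ⁻¹' Z₁ : Set c.pt) :=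
      Groth.Agent.Lib.Helper7.isCompact_of_isConstructible_of_compactSpace _ hZcons
    have hC : ∃ (j : I) (ψ : j ⟶ i₁) (O : Set (D.obj j)), IsOpen O ∧ O ⊆ ⇑(D.map ψ) ⁻¹' Z₁ ∧
        (⇑(c.π.app i₁) ⁻¹' Z₁ : Set c.pt) ⊆ ⇑(c.π.app j) ⁻¹' O := by
      refine hZc.induction_on (p := fun K => ∃ (j : I) (ψ : j ⟶ i₁) (O : Set (D.obj j)),
        IsOpen O ∧ O ⊆ ⇑(D.map ψ) ⁻¹' Z₁ ∧ K ⊆ ⇑(c.π.app j) ⁻¹' O) ?_ ?_ ?_ ?_
      · exact ⟨i₁, 𝟙 _, ∅, isOpen_empty, Set.empty_subset _, Set.empty_subset _⟩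
      · rintro s t hst ⟨j, ψ, O, hO, hOZ, htO⟩
        exact ⟨j, ψ, O, hO, hOZ, hst.trans htO⟩
      · rintro s t ⟨j₁, ψ₁, O₁, hO₁, hOZ₁, hs⟩ ⟨j₂, ψ₂, O₂, hO₂, hOZ₂, ht⟩
        obtain ⟨j, a, b, hab⟩ := IsCofiltered.cospan ψ₁ ψ₂
        refine ⟨j, a ≫ ψ₁, ⇑(D.map a) ⁻¹' O₁ ∪ ⇑(D.map b) ⁻¹' O₂,
          (hO₁.preimage (D.map a).continuous).union (hO₂.preimage (D.map b).continuous), ?_, ?_⟩
        · rintro x (hx | hx)
          · have := hOZ₁ hx
            rw [Set.mem_preimage] at this ⊢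
            rwa [hmapcomp]
          · have := hOZ₂ hx
            rw [Set.mem_preimage] at this ⊢
            rwa [hab, hmapcomp]
        · rintro x (hx | hx)
          · left
            have := hs hx
            rw [Set.mem_preimage] at this ⊢
            rwa [hcomp]
          · right
            have := ht hx
            rw [Set.mem_preimage] at this ⊢
            rwa [hcomp]
      · intro x hx
        obtain ⟨_, ⟨_, ⟨i, W, hW, rfl⟩, rfl⟩, hxW, hWZ⟩ :=
          (Groth.Agent.Lib.Helper7.isBasis_preimage_isAffineOpen' D c hc).exists_subset_of_mem_open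
            hx hopen
        have hW'c : IsCompact (⇑(D.map (IsCofiltered.minToLeft i i₁)) ⁻¹' (W : Set (D.obj i))) :=
          (hW.preimage (D.map (IsCofiltered.minToLeft i i₁))).isCompact
        have hW'o : IsOpen (⇑(D.map (IsCofiltered.minToLeft i i₁)) ⁻¹' (W : Set (D.obj i))) :=
          W.2.preimage (D.map (IsCofiltered.minToLeft i i₁)).continuous
        obtain ⟨j, φ, hφ⟩ := Groth.Agent.Lib.Helper7.exists_map_preimage_inter_subset D c hc
          (⇑(D.map (IsCofiltered.minToRight i i₁)) ⁻¹' Z₁)ᶜ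
          ((D.map (IsCofiltered.minToRight i i₁)).isConstructible_preimage hZ).compl
          _ hW'o hW'c ∅ isOpen_empty (by
            rintro y ⟨hy1, hy2⟩
            exfalso
            apply hy2
            rw [Set.mem_preimage, hcomp] at hy1
            have : y ∈ (⇑(c.π.app i₁) ⁻¹' Z₁ : Set c.pt) := hWZ hy1
            rw [Set.mem_preimage, hcomp]
            exact this)
        refine ⟨⇑(c.π.app i) ⁻¹' (W : Set (D.obj i)),
          mem_nhdsWithin_of_mem_nhds ((W.2.preimage (c.π.app i).continuous).mem_nhds hxW),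
          j, φ ≫ IsCofiltered.minToRight i i₁,
          ⇑(D.map φ) ⁻¹' (⇑(D.map (IsCofiltered.minToLeft i i₁)) ⁻¹' (W : Set (D.obj i))),
          hW'o.preimage (D.map φ).continuous, ?_, ?_⟩
        · intro y hy
          by_contra hcon
          refine (hφ ⟨hy, ?_⟩ : D.map φ y ∈ (∅ : Set _))
          intro h
          apply hcon
          rw [Set.mem_preimage, hmapcomp]
          exact h
        · intro y hy
          rw [Set.mem_preimage] at hy
          rw [Set.mem_preimage, Set.mem_preimage, Set.mem_preimage, hcomp, hcomp]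
          exact hy
    obtain ⟨j, ψ, O, hO, hOZ, hZO⟩ := hC
    have : CompactSpace (D.obj j) := QuasiCompact.compactSpace_of_compactSpace (D.map ψ)
    obtain ⟨j', φ', h'⟩ := Groth.Agent.Lib.Helper7.exists_map_preimage_inter_subset D c hc
      (⇑(D.map ψ) ⁻¹' Z₁) ((D.map ψ).isConstructible_preimage hZ) Set.univ isOpen_univ
      isCompact_univ O hO (by
        rintro y ⟨-, hy⟩
        apply hZO
        rw [Set.mem_preimage, hcomp] at hy
        exact hy)
    refine ⟨j', φ' ≫ ψ, ?_⟩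
    have heq : ⇑(D.map (φ' ≫ ψ)) ⁻¹' Z₁ = ⇑(D.map φ') ⁻¹' O := by
      ext y
      rw [Set.mem_preimage, Set.mem_preimage, hmapcomp]
      constructor
      · intro hy
        exact h' ⟨Set.mem_univ _, hy⟩
      · intro hy
        exact hOZ hy
    rw [heq]
    exact hO.preimage (D.map φ').continuous
  · rintro ⟨j, φ, hopen⟩
    have : (⇑(c.π.app i₁) ⁻¹' Z₁ : Set c.pt) = ⇑(c.π.app j) ⁻¹' (⇑(D.map φ) ⁻¹' Z₁) := by
      ext y
      rw [Set.mem_preimage, Set.mem_preimage, Set.mem_preimage, hcomp]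
    rw [this]
    exact hopen.preimage (c.π.app j).continuous

end Groth.Agent.S4761
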