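import Groth.Statements.S4762
import Groth.Agent.Lib.Helper7Lim

set_option autoImplicit false
universe u
open CategoryTheory AlgebraicGeometry
open Lim8

namespace Groth.Agent.S4762

/-- Let S = lim S_i be a cofiltered limit of schemes with affine transition maps, let S_{i₁} be a
quasi-compact stage and Z₁ a constructible subset of S_{i₁}. Then the preimage of Z₁ in S is locally
closed if and only if, for some index j over i₁, the preimage of Z₁ in S_j is locally closed. -/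
theorem result {I : Type u} [SmallCategory I] [IsCofiltered I]
    (D : I ⥤ Scheme.{u}) (c : Limits.Cone D) (hc : Limits.IsLimit c)
    [∀ (i j : I) (f : i ⟶ j), IsAffineHom (D.map f)] (i₁ : I)
    [CompactSpace (D.obj i₁)] (Z₁ : Set (D.obj i₁)) (hZ : Topology.IsConstructible Z₁) :
    IsLocallyClosed (⇑(c.π.app i₁) ⁻¹' Z₁ : Set c.pt) ↔
      ∃ (j : I) (φ : j ⟶ i₁), IsLocallyClosed (⇑(D.map φ) ⁻¹' Z₁) := by
  have hcomp : ∀ {i j : I} (a : i ⟶ j) (x : c.pt), D.map a (c.π.app i x) = c.π.app j x := by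
    intro i j a x
    rw [← c.w a]
    rfl
  have hmapcomp : ∀ {i j k : I} (a : i ⟶ j) (b : j ⟶ k) (x : D.obj i),
      D.map (a ≫ b) x = D.map b (D.map a x) := by
    intro i j k a b x
    rw [Functor.map_comp]
    rfl
  constructor
  · intro hlc
    have hπ : IsAffineHom (c.π.app i₁) := Groth.Agent.Lib.Helper7.isAffineHom_π_app' D c hc i₁
    have : CompactSpace c.pt := QuasiCompact.compactSpace_of_compactSpace (c.π.app i₁)
    have hZcons : Topology.IsConstructible (⇑(c.π.app i₁) ⁻¹' Z₁ : Set c.pt) :=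
      (c.π.app i₁).isConstructible_preimage hZ
    have hZc : IsCompact (⇑(c.π.app i₁) ⁻¹' Z₁ : Set c.pt) :=
      Groth.Agent.Lib.Helper7.isCompact_of_isConstructible_of_compactSpace _ hZcons
    obtain ⟨U', T, hU', hT, hZUT⟩ := hlc
    have hZU' : (⇑(c.π.app i₁) ⁻¹' Z₁ : Set c.pt) ⊆ U' := by
      rw [hZUT]; exact Set.inter_subset_left
    obtain ⟨U, hUc, hUo, hZU, hUU'⟩ :=
      PrespectralSpace.exists_isCompact_and_isOpen_between hZc hU' hZU'
    obtain ⟨i, V, hVc, hVU⟩ := exists_preimage_eq D c hc ⟨U, hUo⟩ hUc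
    -- the stage k
    let k := IsCofiltered.min i i₁
    let a : k ⟶ i := IsCofiltered.minToLeft i i₁
    let b : k ⟶ i₁ := IsCofiltered.minToRight i i₁
    have : CompactSpace (D.obj k) := QuasiCompact.compactSpace_of_compactSpace (D.map b)
    let Uk : Set (D.obj k) := ⇑(D.map a) ⁻¹' (V : Set (D.obj i))
    have hUko : IsOpen Uk := V.2.preimage (D.map a).continuous
    have hUkc : IsCompact Uk := QuasiCompact.isCompact_preimage (f := D.map a) _ V.2 hVc
    have hπUk : (⇑(c.π.app k) ⁻¹' Uk : Set c.pt) = U := by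
      have h1 : ((c.π.app i ⁻¹ᵁ V : c.pt.Opens) : Set c.pt) = U := by rw [hVU]; rfl
      rw [← h1]
      ext y
      simp only [Uk, Set.mem_preimage, hcomp]
      rfl
    have hπZ : (⇑(c.π.app k) ⁻¹' (⇑(D.map b) ⁻¹' Z₁) : Set c.pt) = ⇑(c.π.app i₁) ⁻¹' Z₁ := by
      ext y
      simp only [Set.mem_preimage, hcomp]
    have hEcons : Topology.IsConstructible (⇑(D.map b) ⁻¹' Z₁) :=
      (D.map b).isConstructible_preimage hZ
    -- U \ Z is open
    have hopen : IsOpen (⇑(c.π.app k) ⁻¹' (Uk ∩ (⇑(D.map b) ⁻¹' Z₁)ᶜ) : Set c.pt) := by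
      have : (⇑(c.π.app k) ⁻¹' (Uk ∩ (⇑(D.map b) ⁻¹' Z₁)ᶜ) : Set c.pt) = U ∩ Tᶜ := by
        rw [Set.preimage_inter, Set.preimage_compl, hπUk, hπZ, hZUT]
        ext y
        simp only [Set.mem_inter_iff, Set.mem_compl_iff, not_and]
        constructor
        · rintro ⟨h1, h2⟩
          exact ⟨h1, h2 (hUU' h1)⟩
        · rintro ⟨h1, h2⟩
          exact ⟨h1, fun _ => h2⟩
      rw [this]
      exact hUo.inter hT.isOpen_compl
    obtain ⟨j₁, φ₁, h₁⟩ := Groth.Agent.Lib.Helper7.exists_isOpen_map_preimage_inter D c hc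
      (⇑(D.map b) ⁻¹' Z₁)ᶜ hEcons.compl Uk hUko hUkc hopen
    obtain ⟨j₂, φ₂, h₂⟩ := Groth.Agent.Lib.Helper7.exists_map_preimage_inter_subset D c hc
      (⇑(D.map b) ⁻¹' Z₁) hEcons Set.univ isOpen_univ isCompact_univ Uk hUko (by
        rw [Set.univ_inter, hπZ, hπUk]
        exact hZU)
    obtain ⟨j, α, β, hαβ⟩ := IsCofiltered.cospan φ₁ φ₂
    refine ⟨j, (α ≫ φ₁) ≫ b, ?_⟩
    have heq : ⇑(D.map ((α ≫ φ₁) ≫ b)) ⁻¹' Z₁ =
        ⇑(D.map (α ≫ φ₁)) ⁻¹' Uk ∩
          (⇑(D.map α) ⁻¹' (⇑(D.map φ₁) ⁻¹' (Uk ∩ (⇑(D.map b) ⁻¹' Z₁)ᶜ)))ᶜ := by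
      ext y
      simp only [Set.mem_preimage, Set.mem_inter_iff, Set.mem_compl_iff, not_and, not_not]
      rw [hmapcomp (α ≫ φ₁) b, hmapcomp α φ₁]
      constructor
      · intro hy
        refine ⟨?_, fun _ => hy⟩
        have h3 := h₂ (show D.map β y ∈ _ from ⟨Set.mem_univ _, by
          rw [Set.mem_preimage, ← hmapcomp β φ₂, ← hαβ, hmapcomp α φ₁]
          exact hy⟩)
        rw [Set.mem_preimage, ← hmapcomp β φ₂, ← hαβ, hmapcomp α φ₁] at h3
        exact h3
      · rintro ⟨h3, h4⟩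
        exact h4 h3
    rw [heq]
    exact ((hUko.preimage (D.map (α ≫ φ₁)).continuous).isLocallyClosed).inter
      ((h₁.preimage (D.map α).continuous).isClosed_compl.isLocallyClosed)
  · rintro ⟨j, φ, hlc⟩
    have : (⇑(c.π.app i₁) ⁻¹' Z₁ : Set c.pt) = ⇑(c.π.app j) ⁻¹' (⇑(D.map φ) ⁻¹' Z₁) := by
      ext y
      rw [Set.mem_preimage, Set.mem_preimage, Set.mem_preimage, hcomp]
    rw [this]
    exact hlc.preimage (c.π.app j).continuous

end Groth.Agent.S4762
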