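import Groth.Statements.S4763
-- import your own Groth.Agent.* helpers here

set_option autoImplicit false
universe u
open CategoryTheory AlgebraicGeometry
open Lim8

namespace Groth.Agent.S4763

/-- Let S = lim S_i be a cofiltered limit of schemes with affine transition maps and let i be an index.
The canonical projection S ⟶ S_i is dominant if and only if every transition map S_j ⟶ S_i is
dominant. -/
theorem result {I : Type u} [SmallCategory I] [IsCofiltered I]
    (D : I ⥤ Scheme.{u}) (c : Limits.Cone D) (hc : Limits.IsLimit c)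
    [∀ (i j : I) (f : i ⟶ j), IsAffineHom (D.map f)] (i : I) :
    IsDominant (c.π.app i) ↔ ∀ (j : I) (φ : j ⟶ i), IsDominant (D.map φ) := by
  have hcomp : ∀ {i j : I} (a : i ⟶ j) (x : c.pt), D.map a (c.π.app i x) = c.π.app j x := by
    intro i j a x
    rw [← c.w a]
    rfl
  constructor
  · intro hdom j φ
    refine ⟨hdom.denseRange.mono ?_⟩
    rintro _ ⟨x, rfl⟩
    exact ⟨c.π.app j x, hcomp φ x⟩
  · intro hdom
    haveI : ∀ {i j : I} (f : i ⟶ j), IsAffineHom (D.map f) := fun f => inferInstance
    refine ⟨?_⟩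
    rw [DenseRange, dense_iff_inter_open]
    intro U₀ hU₀ ⟨s, hs⟩
    obtain ⟨_, ⟨U, hU : IsAffineOpen U, rfl⟩, hsU, hUU₀⟩ :=
      (D.obj i).isBasis_affineOpens.exists_subset_of_mem_open hs hU₀
    have hne : ∀ j : Over i, Nonempty ((opensDiagram D i U).obj j) := by
      intro j
      obtain ⟨y, hy, ⟨x, rfl⟩⟩ := (dense_iff_inter_open.mp (hdom j.left j.hom).denseRange)
        U U.2 ⟨s, hsU⟩
      exact ⟨⟨x, hy⟩⟩
    have hcpt : ∀ j : Over i, CompactSpace ((opensDiagram D i U).obj j) := by
      intro j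
      have : IsAffine ((opensDiagram D i U).obj j) := hU.preimage (D.map j.hom)
      infer_instance
    obtain ⟨x⟩ := Scheme.nonempty_of_isLimit (opensDiagram D i U) (opensCone D c i U)
      (isLimitOpensCone D c hc i U)
    exact ⟨c.π.app i x.1, hUU₀ x.2, ⟨x.1, rfl⟩⟩

end Groth.Agent.S4763
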