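import Groth.Statements.S4765
import Groth.Agent.Lib.Helper7Lim

set_option autoImplicit false
universe u
open CategoryTheory AlgebraicGeometry
open Lim8

namespace Groth.Agent.S4765

/-- Let S = lim S_i be a cofiltered limit of schemes with affine transition maps and let i be an index
such that the projection S ⟶ S_j is surjective for every j over i. Then the projection S ⟶ S_i is an
open map if and only if every transition map S_j ⟶ S_i is an open map. This is the case of open
morphisms. -/
theorem result {I : Type u} [SmallCategory I] [IsCofiltered I]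
    (D : I ⥤ Scheme.{u}) (c : Limits.Cone D) (hc : Limits.IsLimit c)
    [∀ (i j : I) (f : i ⟶ j), IsAffineHom (D.map f)] (i : I)
    (hs : ∀ (j : I) (φ : j ⟶ i), Surjective (c.π.app j)) :
    IsOpenMap ⇑(c.π.app i) ↔ ∀ (j : I) (φ : j ⟶ i), IsOpenMap ⇑(D.map φ) := by
  have hcomp : ∀ {i j : I} (a : i ⟶ j) (x : c.pt), D.map a (c.π.app i x) = c.π.app j x := by
    intro i j a x
    rw [← c.w a]
    rfl
  constructor
  · intro hopen j φ U hU
    have h1 : ⇑(D.map φ) '' U = ⇑(c.π.app i) '' (⇑(c.π.app j) ⁻¹' U) := by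
      ext y
      constructor
      · rintro ⟨x, hx, rfl⟩
        obtain ⟨z, rfl⟩ := (hs j φ).surj x
        exact ⟨z, hx, (hcomp φ z).symm⟩
      · rintro ⟨z, hz, rfl⟩
        exact ⟨c.π.app j z, hz, hcomp φ z⟩
    rw [h1]
    exact hopen _ (hU.preimage (c.π.app j).continuous)
  · intro hopen
    have hB := Groth.Agent.Lib.Helper7.isBasis_preimage_isAffineOpen' D c hc
    refine hB.isOpenMap_iff.mpr ?_
    rintro _ ⟨_, ⟨j, W, hW, rfl⟩, rfl⟩
    let k := IsCofiltered.min j i
    let a : k ⟶ j := IsCofiltered.minToLeft j i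
    let b : k ⟶ i := IsCofiltered.minToRight j i
    have h1 : ⇑(c.π.app i) '' ((c.π.app j ⁻¹ᵁ W : c.pt.Opens) : Set c.pt) =
        ⇑(D.map b) '' (⇑(D.map a) ⁻¹' (W : Set (D.obj j))) := by
      ext y
      constructor
      · rintro ⟨z, hz, rfl⟩
        refine ⟨c.π.app k z, ?_, hcomp b z⟩
        rw [Set.mem_preimage, hcomp]
        exact hz
      · rintro ⟨x, hx, rfl⟩
        obtain ⟨z, rfl⟩ := (hs k b).surj x
        refine ⟨z, ?_, (hcomp b z).symm⟩
        rw [Set.mem_preimage, hcomp] at hx
        exact hx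
    rw [h1]
    exact hopen k b _ (W.2.preimage (D.map a).continuous)

end Groth.Agent.S4765
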