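import Groth.Statements.S4766
import Mathlib
import Groth.Agent.Lib.Helper22LimBC2

set_option autoImplicit false
universe u
open CategoryTheory AlgebraicGeometry
open Lim8

namespace Groth.Agent.S4766

open CategoryTheory CategoryTheory.Limits AlgebraicGeometry TopologicalSpace
open Groth.Agent.Lib.Helper22.LimBC

lemma isOpenMap_of_comp_surjective {A B C : Scheme.{u}} (p : A ⟶ B) (q : B ⟶ C)
    (hp : Function.Surjective ⇑p) (h : IsOpenMap ⇑(p ≫ q)) : IsOpenMap ⇑q := by
  intro U hU
  have : ⇑q '' U = ⇑(p ≫ q) '' (⇑p ⁻¹' U) := by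
    rw [Scheme.Hom.comp_base, TopCat.coe_comp, Set.image_comp, Set.image_preimage_eq _ hp]
  rw [this]
  exact h _ (hU.preimage p.continuous)

set_option backward.isDefEq.respectTransparency.types false in

/-- Let S = lim S_i be a cofiltered limit of schemes with affine transition maps and let i be an index
such that the projection S ⟶ S_j is surjective for every j over i. Then the projection S ⟶ S_i is
universally open if and only if every transition map S_j ⟶ S_i is universally open. This is the case
of universally open morphisms. -/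
theorem result {I : Type u} [SmallCategory I] [IsCofiltered I]
    (D : I ⥤ Scheme.{u}) (c : Limits.Cone D) (hc : Limits.IsLimit c)
    [∀ (i j : I) (f : i ⟶ j), IsAffineHom (D.map f)] (i : I)
    (hs : ∀ (j : I) (φ : j ⟶ i), Surjective (c.π.app j)) :
    UniversallyOpen (c.π.app i) ↔ ∀ (j : I) (φ : j ⟶ i), UniversallyOpen (D.map φ) := by
  have inst : ∀ {i j : I} (f : i ⟶ j), IsAffineHom (D.map f) := fun f => inferInstance
  constructor
  · intro h j φ
    refine ⟨fun X' Y' i₁ i₂ f' hpb => ?_⟩
    have hsj := hs j φ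
    have hsurj : Surjective (pullback.fst i₁ (c.π.app j)) :=
      MorphismProperty.pullback_fst (P := @Surjective) _ _ hsj
    have hbig : IsPullback (pullback.fst i₁ (c.π.app j) ≫ f') (pullback.snd i₁ (c.π.app j)) i₂
        (c.π.app i) := by
      have := (IsPullback.of_hasPullback i₁ (c.π.app j)).flip.paste_vert hpb.flip
      rw [c.w] at this
      exact this.flip
    have hopen : IsOpenMap ⇑(pullback.fst i₁ (c.π.app j) ≫ f') :=
      h.universally_isOpenMap _ _ _ hbig
    exact isOpenMap_of_comp_surjective _ _ hsurj.surj hopen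
  · intro h
    refine ⟨fun X' Y' i₁ i₂ f' hpb => ?_⟩
    have hbasis := isBasis_preimage_isAffineOpen (bcDiagram D i i₂) (bcCone i hpb)
      (isLimitBcCone i hpb hc)
    show IsOpenMap ⇑f'
    rw [isOpenMap_iff_nhds_le]
    intro x
    rw [Filter.le_map_iff]
    intro s hs'
    obtain ⟨U, hUs, hU, hxU⟩ := mem_nhds_iff.mp hs'
    obtain ⟨_, ⟨j, V, hV, rfl⟩, hxV, hVU⟩ :=
      Opens.isBasis_iff_nbhd.mp hbasis (U := ⟨U, hU⟩) (x := x) hxU
    have hsj : Surjective (c.π.app j.left) := hs j.left j.hom
    have hsurj : Surjective (bcπ i hpb j) :=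
      MorphismProperty.of_isPullback (P := @Surjective) (isPullback_bcπ i hpb j).flip hsj
    have huo : UniversallyOpen (dFst D i i₂ j) := by
      have := h j.left j.hom
      exact MorphismProperty.pullback_fst (P := @UniversallyOpen) i₂ (D.map j.hom) this
    have himg : ⇑f' '' (⇑(bcπ i hpb j) ⁻¹' (V : Set _)) = ⇑(dFst D i i₂ j) '' (V : Set _) := by
      have e : ⇑f' = ⇑(dFst D i i₂ j) ∘ ⇑(bcπ i hpb j) := by
        rw [← TopCat.coe_comp, ← Scheme.Hom.comp_base, bcπ_fst i hpb j]
      rw [e, Set.image_comp, Set.image_preimage_eq _ hsurj.surj]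
    have hsub : ⇑f' '' (⇑(bcπ i hpb j) ⁻¹' (V : Set _)) ⊆ ⇑f' '' s := by
      apply Set.image_mono
      intro z hz
      exact hUs (hVU hz)
    refine Filter.mem_of_superset ?_ hsub
    rw [himg]
    apply IsOpen.mem_nhds
    · exact (dFst D i i₂ j).isOpenMap _ V.isOpen
    · refine ⟨bcπ i hpb j x, hxV, ?_⟩
      rw [← Scheme.Hom.comp_apply, bcπ_fst]

end Groth.Agent.S4766
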