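import Groth.Statements.S4767
import Groth.Agent.Lib.Helper7Lim

set_option autoImplicit false
universe u
open CategoryTheory AlgebraicGeometry
open Lim8

namespace Groth.Agent.S4767

/-- Let S = lim S_i be a cofiltered limit of schemes with affine transition maps, some stage S_{i₀}
being quasi-compact and quasi-separated, and assume that the underlying topological space of S is
Noetherian. If S is not irreducible, then there is an index i over i₀ such that S_j is not
irreducible for every index j over i. -/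
theorem result {I : Type u} [SmallCategory I] [IsCofiltered I]
    (D : I ⥤ Scheme.{u}) (c : Limits.Cone D) (hc : Limits.IsLimit c)
    [∀ (i j : I) (f : i ⟶ j), IsAffineHom (D.map f)] (i₀ : I)
    [CompactSpace (D.obj i₀)] [QuasiSeparatedSpace (D.obj i₀)]
    [TopologicalSpace.NoetherianSpace c.pt] (h : ¬ IrreducibleSpace c.pt) :
    ∃ (i : I) (_ : i ⟶ i₀), ∀ (j : I) (_ : j ⟶ i), ¬ IrreducibleSpace (D.obj j) := by
  have hcomp : ∀ {i j : I} (a : i ⟶ j) (x : c.pt), D.map a (c.π.app i x) = c.π.app j x := by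
    intro i j a x
    rw [← c.w a]
    rfl
  have hinst : ∀ {i j : I} (f : i ⟶ j), IsAffineHom (D.map f) := fun f => inferInstance
  by_cases hne : Nonempty c.pt
  · -- two disjoint nonempty opens
    have hsplit : ∃ U V : Set c.pt, IsOpen U ∧ IsOpen V ∧ U.Nonempty ∧ V.Nonempty ∧
        Disjoint U V := by
      by_contra hcon
      apply h
      refine { toNonempty := hne, isPreirreducible_univ := ?_ }
      intro U V hU hV hUne hVne
      by_contra hne'
      apply hcon
      rw [Set.univ_inter] at hUne hVne hne'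
      refine ⟨U, V, hU, hV, hUne, hVne, ?_⟩
      rw [Set.disjoint_iff_inter_eq_empty]
      exact Set.not_nonempty_iff_eq_empty.mp hne'
    obtain ⟨U, V, hU, hV, ⟨x, hx⟩, ⟨y, hy⟩, hUV⟩ := hsplit
    obtain ⟨U', ⟨hU'o, hU'c⟩, hxU', hU'U⟩ :=
      PrespectralSpace.isTopologicalBasis.exists_subset_of_mem_open hx hU
    obtain ⟨V', ⟨hV'o, hV'c⟩, hyV', hV'V⟩ :=
      PrespectralSpace.isTopologicalBasis.exists_subset_of_mem_open hy hV
    obtain ⟨k, b, Uk, Vk, hUk, hVk, hπU, hπV, hdisj, -⟩ :=
      Groth.Agent.Lib.Helper7.exists_stage_disjoint D c hc i₀ U' V' hU'o hV'o hU'c hV'c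
        (hUV.mono hU'U hV'V)
    refine ⟨k, b, fun j ψ hirr => ?_⟩
    obtain ⟨z, hz1, hz2⟩ := nonempty_preirreducible_inter
      (hUk.preimage (D.map ψ).continuous) (hVk.preimage (D.map ψ).continuous)
      ⟨c.π.app j x, by
        rw [Set.mem_preimage, hcomp]
        rw [← hπU] at hxU'
        exact hxU'⟩
      ⟨c.π.app j y, by
        rw [Set.mem_preimage, hcomp]
        rw [← hπV] at hyV'
        exact hyV'⟩
    exact Set.disjoint_iff.mp hdisj ⟨hz1, hz2⟩
  · -- the limit is empty, so some stage over `i₀` is empty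
    obtain ⟨j, φ, hφ⟩ := exists_map_preimage_le_map_preimage D c hc (i := i₀) (U := ⊤) (V := ⊥)
      isCompact_univ (fun x _ => (hne ⟨x⟩).elim)
    refine ⟨j, φ, fun j' ψ hirr => ?_⟩
    obtain ⟨z⟩ := hirr.toNonempty
    exact hφ (show D.map ψ z ∈ D.map φ ⁻¹ᵁ ⊤ from trivial)

end Groth.Agent.S4767
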