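import Groth.Statements.S4768
import Groth.Agent.Lib.Helper7Lim

set_option autoImplicit false
universe u
open CategoryTheory AlgebraicGeometry
open Lim8

namespace Groth.Agent.S4768

/-- Let S = lim S_i be a cofiltered limit of schemes with affine transition maps, some stage S_{i₀}
being quasi-compact and quasi-separated. If S is not preconnected (that is, S is the disjoint union
of two nonempty open subsets), then there is an index i over i₀ such that S_j is not preconnected
for every index j over i. (The published statement assumes the stage only quasi-compact, which is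
not enough: over the affine space in infinitely many variables with a doubled origin, the closed
subschemes cut out by the first n coordinates form a system with affine transition maps in which
every stage is connected while the limit consists of two disjoint points. The published proof
descends the two pieces of S to quasi-compact open subsets of a stage and needs their intersection
to become empty at a later stage, which uses that quasi-compact open subsets of the stage are
constructible; so the stage is taken quasi-separated here, as in part (i).) -/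
theorem result {I : Type u} [SmallCategory I] [IsCofiltered I]
    (D : I ⥤ Scheme.{u}) (c : Limits.Cone D) (hc : Limits.IsLimit c)
    [∀ (i j : I) (f : i ⟶ j), IsAffineHom (D.map f)] (i₀ : I)
    [CompactSpace (D.obj i₀)] [QuasiSeparatedSpace (D.obj i₀)] (h : ¬ PreconnectedSpace c.pt) :
    ∃ (i : I) (_ : i ⟶ i₀), ∀ (j : I) (_ : j ⟶ i), ¬ PreconnectedSpace (D.obj j) := by
  have hcomp : ∀ {i j : I} (a : i ⟶ j) (x : c.pt), D.map a (c.π.app i x) = c.π.app j x := by
    intro i j a x
    rw [← c.w a]
    rfl
  have hπ : IsAffineHom (c.π.app i₀) := Groth.Agent.Lib.Helper7.isAffineHom_π_app' D c hc i₀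
  have : CompactSpace c.pt := QuasiCompact.compactSpace_of_compactSpace (c.π.app i₀)
  -- split the limit
  have hsplit : ∃ U V : Set c.pt, IsOpen U ∧ IsOpen V ∧ U.Nonempty ∧ V.Nonempty ∧ Disjoint U V ∧
      U ∪ V = Set.univ := by
    by_contra hcon
    apply h
    refine ⟨fun U V hU hV hcov hUne hVne => ?_⟩
    by_contra hne
    apply hcon
    rw [Set.univ_inter] at hUne hVne hne
    refine ⟨U, V, hU, hV, hUne, hVne, ?_, Set.eq_univ_of_univ_subset hcov⟩
    rw [Set.disjoint_iff_inter_eq_empty]
    exact Set.not_nonempty_iff_eq_empty.mp hne
  obtain ⟨U, V, hU, hV, hUne, hVne, hUV, hcov⟩ := hsplit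
  have hUcl : IsClosed U := by
    have : U = Vᶜ := by
      ext x
      constructor
      · intro hx hx'
        exact Set.disjoint_iff.mp hUV ⟨hx, hx'⟩
      · intro hx
        have : x ∈ U ∪ V := hcov ▸ Set.mem_univ x
        exact this.resolve_right hx
    rw [this]
    exact hV.isClosed_compl
  have hVcl : IsClosed V := by
    have : V = Uᶜ := by
      ext x
      constructor
      · intro hx hx'
        exact Set.disjoint_iff.mp hUV ⟨hx', hx⟩
      · intro hx
        have : x ∈ U ∪ V := hcov ▸ Set.mem_univ x
        exact this.resolve_left hx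
    rw [this]
    exact hU.isClosed_compl
  obtain ⟨k, b, Uk, Vk, hUk, hVk, hπU, hπV, hdisj, hcovk⟩ :=
    Groth.Agent.Lib.Helper7.exists_stage_disjoint D c hc i₀ U V hU hV hUcl.isCompact hVcl.isCompact
      hUV
  refine ⟨k, b, fun j ψ hpre => ?_⟩
  obtain ⟨x, hx⟩ := hUne
  obtain ⟨y, hy⟩ := hVne
  have h1 := hpre.isPreconnected_univ (⇑(D.map ψ) ⁻¹' Uk) (⇑(D.map ψ) ⁻¹' Vk)
    (hUk.preimage (D.map ψ).continuous) (hVk.preimage (D.map ψ).continuous) (by
      rw [← Set.preimage_union, hcovk hcov, Set.preimage_univ])
    ⟨c.π.app j x, Set.mem_univ _, by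
      rw [Set.mem_preimage, hcomp]
      rw [← hπU] at hx
      exact hx⟩
    ⟨c.π.app j y, Set.mem_univ _, by
      rw [Set.mem_preimage, hcomp]
      rw [← hπV] at hy
      exact hy⟩
  obtain ⟨z, -, hz1, hz2⟩ := h1
  exact Set.disjoint_iff.mp hdisj ⟨hz1, hz2⟩

end Groth.Agent.S4768
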