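import Groth.Statements.S4769
import Groth.Agent.Lib.Helper7LimComp

set_option autoImplicit false
universe u
open CategoryTheory AlgebraicGeometry
open Lim8

namespace Groth.Agent.S4769

/-- Let S = lim S_i be a cofiltered limit of schemes whose transition maps are affine and dominant, some
stage S_{i₀} being quasi-compact, and assume that the underlying topological space of S is
Noetherian. Then there is an index i over i₀ such that, for every j over i, the map sending an
irreducible component Y of S to the closure of its image under S ⟶ S_j is a bijection from the set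
of irreducible components of S onto the set of irreducible components of S_j. -/
theorem result {I : Type u} [SmallCategory I] [IsCofiltered I]
    (D : I ⥤ Scheme.{u}) (c : Limits.Cone D) (hc : Limits.IsLimit c)
    [∀ (i j : I) (f : i ⟶ j), IsAffineHom (D.map f)] (i₀ : I)
    [CompactSpace (D.obj i₀)] [TopologicalSpace.NoetherianSpace c.pt]
    (hd : ∀ (i j : I) (φ : i ⟶ j), IsDominant (D.map φ)) :
    ∃ (i : I) (_ : i ⟶ i₀), ∀ (j : I) (_ : j ⟶ i),
      Set.BijOn (fun Y : Set c.pt => closure (⇑(c.π.app j) '' (Y : Set c.pt) : Set (D.obj j)))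
        (irreducibleComponents c.pt) (irreducibleComponents (D.obj j)) := by
  have hdom : ∀ j : I, DenseRange ⇑(c.π.app j) := fun j =>
    (Groth.Agent.Lib.Helper7.isDominant_π_app D c hc j (fun j' φ => hd j' j φ)).denseRange
  have hfin : (irreducibleComponents c.pt).Finite :=
    TopologicalSpace.NoetherianSpace.finite_irreducibleComponents
  let T : Set (Set c.pt × Set c.pt) :=
    {p | p.1 ∈ irreducibleComponents c.pt ∧ p.2 ∈ irreducibleComponents c.pt ∧ p.1 ≠ p.2}
  have hT : T.Finite := (hfin.prod hfin).subset (fun p hp => ⟨hp.1, hp.2.1⟩)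
  obtain ⟨k, b, hk⟩ := Groth.Agent.Lib.Helper7.exists_forall_of_finite T hT
    (fun p j => ¬ closure (⇑(c.π.app j) '' p.1) ⊆ closure (⇑(c.π.app j) '' p.2)) (by
      rintro ⟨A, B⟩ ⟨hA, hB, hAB⟩
      refine Groth.Agent.Lib.Helper7.exists_stage_not_closure_subset D c hc A B
        (isClosed_of_mem_irreducibleComponents B hB) (fun hsub => hAB ?_)
      exact hsub.antisymm (hA.2 hB.1 hsub)) i₀
  refine ⟨k, b, fun j φ => ?_⟩
  refine Groth.Agent.Lib.Helper7.bijOn_closure_image_irreducibleComponents _
    (c.π.app j).continuous (hdom j) hfin (fun A hA B hB hsub => ?_)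
  by_contra hAB
  exact hk (A, B) ⟨hA, hB, hAB⟩ j φ hsub

end Groth.Agent.S4769
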