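import Groth.Statements.S4770
import Groth.Agent.Lib.Helper7LimComp

set_option autoImplicit false
universe u
open CategoryTheory AlgebraicGeometry
open Lim8

namespace Groth.Agent.S4770

/-- Let S = lim S_i be a cofiltered limit of schemes whose transition maps are affine and dominant, some
stage S_{i₀} being quasi-compact, and assume that the underlying topological space of S is
Noetherian. Then there is an index i over i₀ such that, for every j over i, the map sending a
connected component C of S to the closure of its image under S ⟶ S_j is a bijection from the set of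
connected components of S onto the set of connected components of S_j. -/
theorem result {I : Type u} [SmallCategory I] [IsCofiltered I]
    (D : I ⥤ Scheme.{u}) (c : Limits.Cone D) (hc : Limits.IsLimit c)
    [∀ (i j : I) (f : i ⟶ j), IsAffineHom (D.map f)] (i₀ : I)
    [CompactSpace (D.obj i₀)] [TopologicalSpace.NoetherianSpace c.pt]
    (hd : ∀ (i j : I) (φ : i ⟶ j), IsDominant (D.map φ)) :
    ∃ (i : I) (_ : i ⟶ i₀), ∀ (j : I) (_ : j ⟶ i),
      Set.BijOn (fun C : Set c.pt => closure (⇑(c.π.app j) '' (C : Set c.pt) : Set (D.obj j)))
        (Set.range (connectedComponent : c.pt → Set c.pt))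
        (Set.range (connectedComponent : D.obj j → Set (D.obj j))) := by
  have hdom : ∀ j : I, DenseRange ⇑(c.π.app j) := fun j =>
    (Groth.Agent.Lib.Helper7.isDominant_π_app D c hc j (fun j' φ => hd j' j φ)).denseRange
  have hfin : (Set.range (connectedComponent : c.pt → Set c.pt)).Finite :=
    Groth.Agent.Lib.Helper7.finite_range_connectedComponent
  obtain ⟨k, b, hk⟩ := Groth.Agent.Lib.Helper7.exists_forall_of_finite
    (Set.range (connectedComponent : c.pt → Set c.pt)) hfin
    (fun C j => IsClopen (closure (⇑(c.π.app j) '' C)) ∧
      ⇑(c.π.app j) ⁻¹' (closure (⇑(c.π.app j) '' C)) = C) (by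
      rintro _ ⟨x, rfl⟩
      exact Groth.Agent.Lib.Helper7.exists_stage_clopen_of_dominant D c hc hdom i₀ _
        (Groth.Agent.Lib.Helper7.isClopen_connectedComponent_of_finite hfin x)) i₀
  refine ⟨k, b, fun j φ => ?_⟩
  exact Groth.Agent.Lib.Helper7.bijOn_closure_image_connectedComponents _
    (c.π.app j).continuous (hdom j) hfin (fun C hC => hk C hC j φ)

end Groth.Agent.S4770
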