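import Groth.Statements.S4771
import Groth.Agent.Lib.Helper7Lim

set_option autoImplicit false
universe u
open CategoryTheory AlgebraicGeometry
open Lim8

namespace Groth.Agent.S4771

/-- Let S = lim S_i be a cofiltered limit of schemes whose transition maps are affine and dominant, some
stage S_{i₀} being quasi-compact, and assume that the underlying topological space of S is
Noetherian. Then S is irreducible if and only if there is an index i over i₀ such that S_j is
irreducible for every j over i. -/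
theorem result {I : Type u} [SmallCategory I] [IsCofiltered I]
    (D : I ⥤ Scheme.{u}) (c : Limits.Cone D) (hc : Limits.IsLimit c)
    [∀ (i j : I) (f : i ⟶ j), IsAffineHom (D.map f)] (i₀ : I)
    [CompactSpace (D.obj i₀)] [TopologicalSpace.NoetherianSpace c.pt]
    (hd : ∀ (i j : I) (φ : i ⟶ j), IsDominant (D.map φ)) :
    IrreducibleSpace c.pt ↔ ∃ (i : I) (_ : i ⟶ i₀), ∀ (j : I) (_ : j ⟶ i), IrreducibleSpace (D.obj j) := by
  have hcomp : ∀ {i j : I} (a : i ⟶ j) (x : c.pt), D.map a (c.π.app i x) = c.π.app j x := by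
    intro i j a x
    rw [← c.w a]
    rfl
  have hdom : ∀ j : I, DenseRange ⇑(c.π.app j) := fun j =>
    (Groth.Agent.Lib.Helper7.isDominant_π_app D c hc j (fun j' φ => hd j' j φ)).denseRange
  constructor
  · intro hirr
    refine ⟨i₀, 𝟙 _, fun j _ => ?_⟩
    have h1 : IsIrreducible (closure (⇑(c.π.app j) '' (Set.univ : Set c.pt))) :=
      ((IrreducibleSpace.isIrreducible_univ c.pt).image _
        (c.π.app j).continuous.continuousOn).closure
    rw [Set.image_univ, (hdom j).closure_range] at h1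
    exact { toNonempty := ⟨h1.1.some⟩, isPreirreducible_univ := h1.2 }
  · rintro ⟨i, a, hirr⟩
    have hne : Nonempty c.pt := by
      have : CompactSpace (D.obj i) := QuasiCompact.compactSpace_of_compactSpace (D.map a)
      exact Groth.Agent.Lib.Helper7.nonempty_pt_of_forall_nonempty D c hc i
        (fun j φ => (hirr j φ).toNonempty)
    refine { toNonempty := hne, isPreirreducible_univ := ?_ }
    rintro U V hU hV ⟨x, -, hx⟩ ⟨y, -, hy⟩
    obtain ⟨_, ⟨_, ⟨i₁, U₁, hU₁, rfl⟩, rfl⟩, hxU₁, hU₁U⟩ :=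
      (Groth.Agent.Lib.Helper7.isBasis_preimage_isAffineOpen' D c hc).exists_subset_of_mem_open
        hx hU
    obtain ⟨_, ⟨_, ⟨i₂, V₂, hV₂, rfl⟩, rfl⟩, hyV₂, hV₂V⟩ :=
      (Groth.Agent.Lib.Helper7.isBasis_preimage_isAffineOpen' D c hc).exists_subset_of_mem_open
        hy hV
    let k₁ := IsCofiltered.min i₁ i₂
    let k := IsCofiltered.min k₁ i
    let a₁ : k ⟶ i₁ := IsCofiltered.minToLeft k₁ i ≫ IsCofiltered.minToLeft i₁ i₂
    let a₂ : k ⟶ i₂ := IsCofiltered.minToLeft k₁ i ≫ IsCofiltered.minToRight i₁ i₂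
    let b : k ⟶ i := IsCofiltered.minToRight k₁ i
    have hk := hirr k b
    obtain ⟨z, hz1, hz2⟩ := nonempty_preirreducible_inter
      (U₁.2.preimage (D.map a₁).continuous) (V₂.2.preimage (D.map a₂).continuous)
      ⟨c.π.app k x, by
        rw [Set.mem_preimage, hcomp]
        exact hxU₁⟩
      ⟨c.π.app k y, by
        rw [Set.mem_preimage, hcomp]
        exact hyV₂⟩
    obtain ⟨_, ⟨hw1, hw2⟩, ⟨w, rfl⟩⟩ := (dense_iff_inter_open.mp (hdom k)) _
      ((U₁.2.preimage (D.map a₁).continuous).inter (V₂.2.preimage (D.map a₂).continuous))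
      ⟨z, hz1, hz2⟩
    rw [Set.mem_preimage, hcomp] at hw1 hw2
    exact ⟨w, Set.mem_univ _, hU₁U hw1, hV₂V hw2⟩

end Groth.Agent.S4771
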