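import Groth.Statements.S4772
import Groth.Agent.Lib.Helper7Lim

set_option autoImplicit false
universe u
open CategoryTheory AlgebraicGeometry
open Lim8

namespace Groth.Agent.S4772

/-- Let S = lim S_i be a cofiltered limit of schemes whose transition maps are affine and dominant, some
stage S_{i₀} being quasi-compact. Then S is connected (in particular nonempty) if and only if there
is an index i over i₀ such that S_j is connected for every j over i. -/
theorem result {I : Type u} [SmallCategory I] [IsCofiltered I]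
    (D : I ⥤ Scheme.{u}) (c : Limits.Cone D) (hc : Limits.IsLimit c)
    [∀ (i j : I) (f : i ⟶ j), IsAffineHom (D.map f)] (i₀ : I)
    [CompactSpace (D.obj i₀)] (hd : ∀ (i j : I) (φ : i ⟶ j), IsDominant (D.map φ)) :
    ConnectedSpace c.pt ↔ ∃ (i : I) (_ : i ⟶ i₀), ∀ (j : I) (_ : j ⟶ i), ConnectedSpace (D.obj j) := by
  have hinst : ∀ {i j : I} (f : i ⟶ j), IsAffineHom (D.map f) := fun f => inferInstance
  have hcomp : ∀ {i j : I} (a : i ⟶ j) (x : c.pt), D.map a (c.π.app i x) = c.π.app j x := by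
    intro i j a x
    rw [← c.w a]
    rfl
  have hdom : ∀ j : I, DenseRange ⇑(c.π.app j) := fun j =>
    (Groth.Agent.Lib.Helper7.isDominant_π_app D c hc j (fun j' φ => hd j' j φ)).denseRange
  constructor
  · intro hconn
    refine ⟨i₀, 𝟙 _, fun j _ => ?_⟩
    have h1 : _root_.IsConnected (closure (⇑(c.π.app j) '' (Set.univ : Set c.pt))) :=
      ((isConnected_univ (α := c.pt)).image _ (c.π.app j).continuous.continuousOn).closure
    rw [Set.image_univ, (hdom j).closure_range] at h1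
    exact connectedSpace_iff_univ.mpr h1
  · rintro ⟨i, a, hconn⟩
    have hic : CompactSpace (D.obj i) := QuasiCompact.compactSpace_of_compactSpace (D.map a)
    have hne : Nonempty c.pt :=
      Groth.Agent.Lib.Helper7.nonempty_pt_of_forall_nonempty D c hc i
        (fun j φ => (hconn j φ).toNonempty)
    have hπ : IsAffineHom (c.π.app i) := Groth.Agent.Lib.Helper7.isAffineHom_π_app' D c hc i
    have : CompactSpace c.pt := QuasiCompact.compactSpace_of_compactSpace (c.π.app i)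
    refine { toNonempty := hne, isPreconnected_univ := ?_ }
    intro U V hU hV hcov hUne hVne
    by_contra hdisj
    rw [Set.univ_inter] at hUne hVne hdisj
    have hUV : U ∩ V = ∅ := Set.not_nonempty_iff_eq_empty.mp hdisj
    have hUcl : IsClosed U := by
      have : U = Vᶜ := by
        ext x
        constructor
        · intro hx hx'
          exact (hUV ▸ (⟨hx, hx'⟩ : x ∈ U ∩ V) : x ∈ (∅ : Set c.pt))
        · intro hx
          exact (hcov (Set.mem_univ x)).resolve_right hx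
      rw [this]
      exact hV.isClosed_compl
    have hVcl : IsClosed V := by
      have : V = Uᶜ := by
        ext x
        constructor
        · intro hx hx'
          exact (hUV ▸ (⟨hx', hx⟩ : x ∈ U ∩ V) : x ∈ (∅ : Set c.pt))
        · intro hx
          exact (hcov (Set.mem_univ x)).resolve_left hx
      rw [this]
      exact hU.isClosed_compl
    obtain ⟨i₁, U₁, hU₁c, hU₁⟩ := exists_preimage_eq D c hc ⟨U, hU⟩ hUcl.isCompact
    obtain ⟨i₂, V₂, hV₂c, hV₂⟩ := exists_preimage_eq D c hc ⟨V, hV⟩ hVcl.isCompact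
    let k₁ := IsCofiltered.min i₁ i₂
    let k := IsCofiltered.min k₁ i
    let a₁ : k ⟶ i₁ := IsCofiltered.minToLeft k₁ i ≫ IsCofiltered.minToLeft i₁ i₂
    let a₂ : k ⟶ i₂ := IsCofiltered.minToLeft k₁ i ≫ IsCofiltered.minToRight i₁ i₂
    let b : k ⟶ i := IsCofiltered.minToRight k₁ i
    have hkc : CompactSpace (D.obj k) := QuasiCompact.compactSpace_of_compactSpace (D.map b)
    let Uk : (D.obj k).Opens := D.map a₁ ⁻¹ᵁ U₁
    let Vk : (D.obj k).Opens := D.map a₂ ⁻¹ᵁ V₂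
    have hπU : c.π.app k ⁻¹ᵁ Uk = ⟨U, hU⟩ := by
      rw [← hU₁, ← Scheme.Hom.comp_preimage, c.w]
    have hπV : c.π.app k ⁻¹ᵁ Vk = ⟨V, hV⟩ := by
      rw [← hV₂, ← Scheme.Hom.comp_preimage, c.w]
    obtain ⟨j, φ, hφ⟩ := exists_map_preimage_le_map_preimage D c hc (U := ⊤) (V := Uk ⊔ Vk)
      isCompact_univ (by
        rw [Scheme.Hom.preimage_sup, hπU, hπV]
        intro x _
        exact hcov (Set.mem_univ x))
    have hπU' : ∀ x : c.pt, c.π.app j x ∈ D.map φ ⁻¹ᵁ Uk ↔ x ∈ U := by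
      intro x
      have : c.π.app j ⁻¹ᵁ (D.map φ ⁻¹ᵁ Uk) = ⟨U, hU⟩ := by
        rw [← hπU, ← Scheme.Hom.comp_preimage, c.w]
      exact (SetLike.ext_iff.mp this x)
    have hπV' : ∀ x : c.pt, c.π.app j x ∈ D.map φ ⁻¹ᵁ Vk ↔ x ∈ V := by
      intro x
      have : c.π.app j ⁻¹ᵁ (D.map φ ⁻¹ᵁ Vk) = ⟨V, hV⟩ := by
        rw [← hπV, ← Scheme.Hom.comp_preimage, c.w]
      exact (SetLike.ext_iff.mp this x)
    have hj := hconn j (φ ≫ b)
    obtain ⟨x, hx⟩ := hUne
    obtain ⟨y, hy⟩ := hVne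
    obtain ⟨z, -, hz1, hz2⟩ := hj.isPreconnected_univ
      ((D.map φ ⁻¹ᵁ Uk : (D.obj j).Opens) : Set (D.obj j))
      ((D.map φ ⁻¹ᵁ Vk : (D.obj j).Opens) : Set (D.obj j))
      (D.map φ ⁻¹ᵁ Uk).2 (D.map φ ⁻¹ᵁ Vk).2
      (fun w _ => hφ (show w ∈ D.map φ ⁻¹ᵁ ⊤ from trivial))
      ⟨c.π.app j x, Set.mem_univ _, (hπU' x).mpr hx⟩
      ⟨c.π.app j y, Set.mem_univ _, (hπV' y).mpr hy⟩
    obtain ⟨_, ⟨hw1, hw2⟩, ⟨w, rfl⟩⟩ := (dense_iff_inter_open.mp (hdom j)) _
      ((D.map φ ⁻¹ᵁ Uk).2.inter (D.map φ ⁻¹ᵁ Vk).2) ⟨z, hz1, hz2⟩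
    exact hdisj ⟨w, (hπU' w).mp hw1, (hπV' w).mp hw2⟩

end Groth.Agent.S4772
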