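import Groth.Statements.S4777
-- import your own Groth.Agent.* helpers here
import Mathlib
import Groth.Agent.Lib.Helper26FPOfHom

set_option autoImplicit false
universe u
open CategoryTheory
open Lim8

namespace Groth.Agent.S4777

open Groth.Agent.Lib.Helper26.FPOfHom Opposite Limits

attribute [local instance] IsFiltered.isConnected

section

variable {R : CommRingCat.{u}} {J : Type u} [Preorder J]
  (A : J ⥤ CommRingCat.{u}) (α : (Functor.const J).obj R ⟶ A)

theorem α_nat {i j : J} (a : i ⟶ j) : α.app i ≫ A.map a = α.app j := by
  have := α.naturality a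
  simp only [Functor.const_obj_obj, Functor.const_obj_map, Category.id_comp] at this
  exact this.symm

theorem α_ι_eq [IsDirected J (· ≤ ·)] (cc : Cocone A) (i j : J) :
    α.app i ≫ cc.ι.app i = α.app j ≫ cc.ι.app j := by
  obtain ⟨k, hik, hjk⟩ := exists_ge_ge i j
  rw [← cc.w (homOfLE hik), ← cc.w (homOfLE hjk), ← Category.assoc, ← Category.assoc,
    α_nat, α_nat]

/-- The system in `Under R`. -/
def Ff : J ⥤ Under R where
  obj j := Under.mk (α.app j)
  map {i j} a := Under.homMk (A.map a) (α_nat A α a)
  map_id j := by
    ext
    simp
  map_comp a b := by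
    ext
    simp

/-- The colimit cocone in `Under R`. -/
def Fcocone [IsDirected J (· ≤ ·)] (cc : Cocone A) (j₀ : J) : Cocone (Ff A α) where
  pt := Under.mk (α.app j₀ ≫ cc.ι.app j₀)
  ι :=
    { app := fun j => Under.homMk (cc.ι.app j) (α_ι_eq A α cc j j₀)
      naturality := fun i j a => by
        apply Under.UnderMorphism.ext
        show A.map a ≫ cc.ι.app j = cc.ι.app i ≫ 𝟙 _
        rw [Category.comp_id, cc.w] }

noncomputable def Fcocone_isColimit [IsDirected J (· ≤ ·)] [Nonempty J] (cc : Cocone A)
    (hcc : IsColimit cc) (j₀ : J) : IsColimit (Fcocone A α cc j₀) := by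
  refine isColimitOfReflects (Under.forget R) ?_
  exact (hcc : IsColimit cc)

end

/-- Let B be an algebra over a commutative ring A. If, for every inductive system (C_λ) of A-algebras
indexed by a nonempty directed preordered set, the canonical map colim Hom_A(B, C_λ) → Hom_A(B,
colim C_λ) is bijective (that is, Hom_A(B, -) preserves the colimit of the system), then B is an
A-algebra of finite presentation. (This is the necessity half of the characterization of algebras of
finite presentation by this property; the converse is standard.) -/
theorem result {A B : CommRingCat.{u}} (f : A ⟶ B)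
    (h : ∀ (J : Type u) [Preorder J] [IsDirected J (· ≤ ·)] [Nonempty J] (F : J ⥤ Under A),
      Limits.PreservesColimit F (coyoneda.obj (Opposite.op (Under.mk f)))) :
    f.hom.FinitePresentation := by
  apply ringHom_finitePresentation_of_fac
  intro J _ _ _ D α cc hcc g j₀ hg
  have hpres := h J (Ff D α)
  obtain ⟨hcolim⟩ := hpres.preserves (Fcocone_isColimit D α cc hcc j₀)
  obtain ⟨j, y, hy⟩ := Types.jointly_surjective_of_isColimit hcolim
    (Under.homMk g hg : Under.mk f ⟶ (Fcocone D α cc j₀).pt)
  exact ⟨j, y.right, Under.w y, congrArg CommaMorphism.right hy⟩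

end Groth.Agent.S4777
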