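import Groth.Statements.S4778
-- import your own Groth.Agent.* helpers here
import Mathlib
import Groth.Agent.Lib.Helper26LfpOfHom

set_option autoImplicit false
universe u
open CategoryTheory AlgebraicGeometry
open Lim8

namespace Groth.Agent.S4778

open Groth.Agent.Lib.Helper26.LfpOfHom Opposite Limits

attribute [local instance] IsCofiltered.isConnected

section

variable {S : Scheme.{u}} {U : S.Opens} (hU : IsAffineOpen U) {J : Type u} [Preorder J]
  (A : J ⥤ CommRingCat.{u}) (α : (Functor.const J).obj Γ(S, U) ⟶ A)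

theorem α_nat {i j : J} (a : i ⟶ j) : α.app i ≫ A.map a = α.app j := by
  have := α.naturality a
  simp only [Functor.const_obj_obj, Functor.const_obj_map, Category.id_comp] at this
  exact this.symm

theorem α_ι_eq [IsDirected J (· ≤ ·)] (cc : Cocone A) (i j : J) :
    α.app i ≫ cc.ι.app i = α.app j ≫ cc.ι.app j := by
  obtain ⟨k, hik, hjk⟩ := exists_ge_ge i j
  rw [← cc.w (homOfLE hik), ← cc.w (homOfLE hjk), ← Category.assoc, ← Category.assoc,
    α_nat, α_nat]

/-- The system of affine `U`-schemes attached to a directed system of `Γ(S, U)`-algebras. -/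
noncomputable def Zf : Jᵒᵖ ⥤ Over (U : Scheme.{u}) where
  obj j := Over.mk (Spec.map (α.app j.unop) ≫ hU.isoSpec.inv)
  map {i j} a := Over.homMk (Spec.map (A.map a.unop)) (by
    show Spec.map (A.map a.unop) ≫ Spec.map (α.app j.unop) ≫ hU.isoSpec.inv =
      Spec.map (α.app i.unop) ≫ hU.isoSpec.inv
    rw [← Spec.map_comp_assoc, α_nat])
  map_id j := by
    ext
    simp
  map_comp a b := by
    ext
    simp

/-- The limit cone. -/
noncomputable def Zcone [IsDirected J (· ≤ ·)] (cc : Cocone A) (j₀ : J) :
    Cone (Zf hU A α ⋙ Over.map U.ι) where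
  pt := Over.mk (Spec.map (cc.ι.app j₀) ≫ Spec.map (α.app j₀) ≫ hU.fromSpec)
  π :=
    { app := fun j => Over.homMk (Spec.map (cc.ι.app j.unop)) (by
        show Spec.map (cc.ι.app j.unop) ≫ (Spec.map (α.app j.unop) ≫ hU.isoSpec.inv) ≫ U.ι =
          Spec.map (cc.ι.app j₀) ≫ Spec.map (α.app j₀) ≫ hU.fromSpec
        rw [Category.assoc, hU.isoSpec_inv_ι, ← Spec.map_comp_assoc, ← Spec.map_comp_assoc,
          α_ι_eq A α cc j.unop j₀])
      naturality := fun i j a => by
        ext
        show 𝟙 _ ≫ Spec.map (cc.ι.app j.unop) = Spec.map (cc.ι.app i.unop) ≫ Spec.map (A.map a.unop)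
        rw [Category.id_comp, ← Spec.map_comp, cc.w] }

noncomputable def Zcone_isLimit [IsDirected J (· ≤ ·)] [Nonempty J] (cc : Cocone A)
    (hcc : IsColimit cc) (j₀ : J) : IsLimit (Zcone hU A α cc j₀) := by
  refine isLimitOfReflects (Over.forget S) ?_
  exact (isLimitOfPreserves Scheme.Spec hcc.op : IsLimit (Scheme.Spec.mapCone cc.op))

end

/-- Let f : X ⟶ S be a morphism of schemes. Suppose that for every affine open U of S and every
projective system (Z_λ) of U-schemes indexed by a nonempty directed preordered set, with every Z_λ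
an affine scheme, the functor Hom_S(-, X) takes the limit of the system to the colimit of the
Hom_S(Z_λ, X) (the canonical map from the colimit is bijective). Then f is locally of finite
presentation. -/
theorem result {X S : Scheme.{u}} (f : X ⟶ S)
    (h : ∀ (U : S.Opens), IsAffineOpen U →
      ∀ (J : Type u) [Preorder J] [IsDirected J (· ≤ ·)] [Nonempty J] (Z : Jᵒᵖ ⥤ Over (U : Scheme.{u})),
      (∀ j, IsAffine (Z.obj j).left) →
      Limits.PreservesColimit (Z ⋙ Over.map U.ι).op (yoneda.obj (Over.mk f))) :
    LocallyOfFinitePresentation f := by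
  apply lfp_of_affHyp
  intro U hU J _ _ _ A α cc hcc g j₀ hg
  have hpres := h U hU J (Zf hU A α) (fun j => by dsimp [Zf]; infer_instance)
  obtain ⟨hcolim⟩ := hpres.preserves (Zcone_isLimit hU A α cc hcc j₀).op
  obtain ⟨j, y, hy⟩ := Types.jointly_surjective_of_isColimit hcolim
    (Over.homMk g hg : (Zcone hU A α cc j₀).pt ⟶ Over.mk f)
  refine ⟨j.unop.unop, y.left, ?_, ?_⟩
  · have := Over.w y
    rw [← hU.isoSpec_inv_ι, ← Category.assoc]
    exact this
  · exact congrArg CommaMorphism.left hy

end Groth.Agent.S4778
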