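import Groth.Statements.S4779
import Mathlib
import Groth.Agent.Lib.Helper22LimBC2

set_option autoImplicit false
universe u
open CategoryTheory AlgebraicGeometry
open Lim8

namespace Groth.Agent.S4779

open CategoryTheory CategoryTheory.Limits AlgebraicGeometry TopologicalSpace
open Groth.Agent.Lib.Helper22.LimBC

/-- Let S = lim S_i be a cofiltered limit of schemes with affine transition maps, let f₀ : X₀ ⟶ Y₀ be a
morphism of schemes over a stage S_{i₀}, and let f : X ⟶ Y be its base change along S ⟶ S_{i₀} (all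
base changes are expressed by pullback squares). If there is an index i over i₀ such that, for every
j over i, the base change f_j : X_j ⟶ Y_j of f₀ along S_j ⟶ S_{i₀} is an open map, then f is an open
map. (The corresponding statement for universally open morphisms follows from this one by base
change.) -/
theorem result {I : Type u} [SmallCategory I] [IsCofiltered I]
    (D : I ⥤ Scheme.{u}) (c : Limits.Cone D) (hc : Limits.IsLimit c)
    [∀ (i j : I) (f : i ⟶ j), IsAffineHom (D.map f)] (i₀ : I)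
    {X₀ Y₀ : Scheme.{u}} (f₀ : X₀ ⟶ Y₀) (g₀ : Y₀ ⟶ D.obj i₀)
    {X Y : Scheme.{u}} (f : X ⟶ Y) (g : Y ⟶ c.pt) (qY : Y ⟶ Y₀) (qX : X ⟶ X₀)
    (hY : IsPullback qY g g₀ (c.π.app i₀)) (hX : IsPullback qX f f₀ qY)
    (h : ∃ (i : I) (φ : i ⟶ i₀), ∀ (j : I) (ψ : j ⟶ i) (Xj Yj : Scheme.{u}) (fj : Xj ⟶ Yj)
      (gj : Yj ⟶ D.obj j) (pY : Yj ⟶ Y₀) (pX : Xj ⟶ X₀),
      IsPullback pY gj g₀ (D.map (ψ ≫ φ)) → IsPullback pX fj f₀ pY → IsOpenMap ⇑fj) :
    IsOpenMap ⇑f := by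
  have inst : ∀ {i j : I} (f : i ⟶ j), IsAffineHom (D.map f) := fun f => inferInstance
  obtain ⟨i, φ, h⟩ := h
  have hXS := hX.paste_vert hY
  have hbasis := isBasis_preimage_isAffineOpen (bcDiagram D i₀ (f₀ ≫ g₀)) (bcCone i₀ hXS)
    (isLimitBcCone i₀ hXS hc)
  rw [isOpenMap_iff_nhds_le]
  intro x
  rw [Filter.le_map_iff]
  intro s hs
  obtain ⟨U, hUs, hU, hxU⟩ := mem_nhds_iff.mp hs
  obtain ⟨_, ⟨j, V, hV, rfl⟩, hxV, hVU⟩ :=
    Opens.isBasis_iff_nbhd.mp hbasis (U := ⟨U, hU⟩) (x := x) hxU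
  -- pass to a common refinement of `j` and `i`
  let k : Over i₀ := IsCofiltered.min j (Over.mk φ)
  let a : k ⟶ j := IsCofiltered.minToLeft j (Over.mk φ)
  let b : k ⟶ Over.mk φ := IsCofiltered.minToRight j (Over.mk φ)
  have e : b.left ≫ φ = k.hom := Over.w b
  have hopen : IsOpenMap ⇑(bcMor D i₀ f₀ g₀ k) := by
    refine h k.left b.left _ _ (bcMor D i₀ f₀ g₀ k) (dSnd D i₀ g₀ k) (dFst D i₀ g₀ k)
      (dFst D i₀ (f₀ ≫ g₀) k) ?_ (isPullback_bcMor D i₀ f₀ g₀ k)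
    rw [e]
    exact isPullback_d D i₀ g₀ k
  have hpb := isPullback_bcπ_bcMor hY hX k
  let V' : ((bcDiagram D i₀ (f₀ ≫ g₀)).obj k).Opens := (bcDiagram D i₀ (f₀ ≫ g₀)).map a ⁻¹ᵁ V
  have hVV' : (bcπ i₀ hXS k) ⁻¹ᵁ V' = (bcπ i₀ hXS j) ⁻¹ᵁ V := by
    show (bcπ i₀ hXS k) ⁻¹ᵁ ((bcDiagram D i₀ (f₀ ≫ g₀)).map a ⁻¹ᵁ V) = _
    rw [← Scheme.Hom.comp_preimage, bcπ_map]
  have himg : ⇑f '' (⇑(bcπ i₀ hXS k) ⁻¹' (V' : Set _)) =
      ⇑(bcπ i₀ hY k) ⁻¹' (⇑(bcMor D i₀ f₀ g₀ k) '' (V' : Set _)) :=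
    Scheme.image_preimage_eq_of_isPullback hpb (V' : Set _)
  have hsub : ⇑f '' (⇑(bcπ i₀ hXS k) ⁻¹' (V' : Set _)) ⊆ ⇑f '' s := by
    apply Set.image_mono
    intro z hz
    apply hUs
    apply hVU
    have : z ∈ (bcπ i₀ hXS k) ⁻¹ᵁ V' := hz
    rw [hVV'] at this
    exact this
  refine Filter.mem_of_superset ?_ hsub
  rw [himg]
  apply IsOpen.mem_nhds
  · exact (hopen _ V'.isOpen).preimage (bcπ i₀ hY k).continuous
  · have hx' : x ∈ (bcπ i₀ hXS k) ⁻¹ᵁ V' := by rw [hVV']; exact hxV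
    refine ⟨bcπ i₀ hXS k x, hx', ?_⟩
    rw [← Scheme.Hom.comp_apply, bcπ_bcMor hY hX k, Scheme.Hom.comp_apply]

end Groth.Agent.S4779
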