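import Groth.Statements.S4782
import Mathlib
import Groth.Agent.Lib.Helper7LimFlat
import Groth.Agent.Lib.Helper7LimComp

set_option autoImplicit false
universe u
open CategoryTheory AlgebraicGeometry
open Lim8

namespace Groth.Agent.S4782

open CategoryTheory CategoryTheory.Limits AlgebraicGeometry TopologicalSpace

lemma isReduced_stalk_of_vanish {X Y : Scheme.{u}} (φ : X ⟶ Y) [IsOpenImmersion φ] (U : Y.Opens)
    (hU : IsAffineOpen U) (G : Set Γ(Y, U)) (hG : Ideal.span G = nilradical Γ(Y, U))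
    (hφ : ∀ n ∈ G, φ.app U n = 0) (x : X) (hx : φ x ∈ U) :
    _root_.IsReduced (X.presheaf.stalk x) := by
  letI := Y.presheaf.algebra_section_stalk ⟨φ x, hx⟩
  haveI := hU.isLocalization_stalk ⟨φ x, hx⟩
  have halg : ∀ a : Γ(Y, U), algebraMap Γ(Y, U) (Y.presheaf.stalk (φ x)) a =
      Y.presheaf.germ U (φ x) hx a := fun a => rfl
  have hker : ∀ a ∈ nilradical Γ(Y, U),
      φ.stalkMap x (Y.presheaf.germ U (φ x) hx a) = 0 := by
    intro a ha
    rw [← hG] at ha
    refine Submodule.span_induction (p := fun a _ =>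
      φ.stalkMap x (Y.presheaf.germ U (φ x) hx a) = 0) ?_ ?_ ?_ ?_ ha
    · intro n hn
      rw [Scheme.Hom.germ_stalkMap_apply, hφ n hn, map_zero]
    · rw [map_zero, map_zero]
    · intro a b _ _ ha hb
      rw [map_add, map_add, ha, hb, add_zero]
    · intro r a _ ha
      rw [smul_eq_mul, map_mul, map_mul, ha, mul_zero]
  have hinj : Function.Injective (φ.stalkMap x) :=
    (ConcreteCategory.bijective_of_isIso (φ.stalkMap x)).1
  have hY : _root_.IsReduced (Y.presheaf.stalk (φ x)) := by
    constructor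
    intro t ht
    obtain ⟨⟨a, s⟩, hts⟩ := IsLocalization.surj (hU.primeIdealOf ⟨φ x, hx⟩).asIdeal.primeCompl t
    obtain ⟨m, hm⟩ := ht
    have h0 : algebraMap Γ(Y, U) (Y.presheaf.stalk (φ x)) (a ^ m) = 0 := by
      rw [map_pow, ← hts, mul_pow, hm, zero_mul]
    obtain ⟨s', hs'⟩ := (IsLocalization.map_eq_zero_iff
      (hU.primeIdealOf ⟨φ x, hx⟩).asIdeal.primeCompl _ _).mp h0
    have hnil : (s' : Γ(Y, U)) * a ∈ nilradical Γ(Y, U) := by
      rw [mem_nilradical]
      refine ⟨m + 1, ?_⟩
      have : ((s' : Γ(Y, U)) * a) ^ (m + 1) = (s' : Γ(Y, U)) ^ m * a * ((s' : Γ(Y, U)) * a ^ m) := by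
        ring
      rw [this, hs', mul_zero]
    have h1 : algebraMap Γ(Y, U) (Y.presheaf.stalk (φ x)) ((s' : Γ(Y, U)) * a) = 0 := by
      apply hinj
      rw [halg, hker _ hnil, map_zero]
    rw [map_mul] at h1
    have hu : IsUnit (algebraMap Γ(Y, U) (Y.presheaf.stalk (φ x)) s') :=
      IsLocalization.map_units _ s'
    have h2 : algebraMap Γ(Y, U) (Y.presheaf.stalk (φ x)) a = 0 := (hu.mul_right_eq_zero).mp h1
    have h3 : t * algebraMap Γ(Y, U) (Y.presheaf.stalk (φ x)) s = 0 := by
      rw [hts]; exact h2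
    exact ((IsLocalization.map_units (Y.presheaf.stalk (φ x)) s).mul_left_eq_zero).mp h3
  exact isReduced_of_injective (inv (φ.stalkMap x)).hom
    (ConcreteCategory.bijective_of_isIso (inv (φ.stalkMap x))).1

lemma app_eq_zero_of_comp {X Y Z : Scheme.{u}} (f : X ⟶ Y) (g : Y ⟶ Z) (h : X ⟶ Z)
    (w : f ≫ g = h) (U : Z.Opens) (n : Γ(Z, U)) (hn : g.app U n = 0) : h.app U n = 0 := by
  subst w
  show f.app (g ⁻¹ᵁ U) (g.app U n) = 0
  rw [hn, map_zero]

/-- Let S = lim S_i be a cofiltered limit of schemes whose transition maps are open immersions (in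
particular affine), and let S_{i₀} be a quasi-compact stage whose nilradical is an ideal of finite
type, i.e. for every affine open U of S_{i₀} the nilradical of Γ(S_{i₀}, U) is finitely generated
(automatic when S_{i₀} is Noetherian). Then S is reduced if and only if there is an index i over i₀
such that S_j is reduced for every j over i. -/
theorem result {I : Type u} [SmallCategory I] [IsCofiltered I]
    (D : I ⥤ Scheme.{u}) (c : Limits.Cone D) (hc : Limits.IsLimit c)
    [∀ (i j : I) (f : i ⟶ j), IsAffineHom (D.map f)] (i₀ : I)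
    [CompactSpace (D.obj i₀)] (hoi : ∀ (i j : I) (φ : i ⟶ j), IsOpenImmersion (D.map φ))
    (hN : ∀ U : (D.obj i₀).affineOpens, (nilradical Γ(D.obj i₀, U)).FG) :
    IsReduced c.pt ↔ ∃ (i : I) (_ : i ⟶ i₀), ∀ (j : I) (_ : j ⟶ i), IsReduced (D.obj j) := by
  have inst : ∀ {i j : I} (f : i ⟶ j), IsAffineHom (D.map f) := fun f => inferInstance
  constructor
  · intro hred
    have key : ∃ k : Over i₀, ∀ (j : Over i₀) (_ : j ⟶ k) (x : D.obj j.left),
        D.map j.hom x ∈ (Set.univ : Set (D.obj i₀)) →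
          _root_.IsReduced ((D.obj j.left).presheaf.stalk x) := by
      refine isCompact_univ.induction_on (p := fun K => ∃ k : Over i₀,
        ∀ (j : Over i₀) (_ : j ⟶ k) (x : D.obj j.left), D.map j.hom x ∈ K →
          _root_.IsReduced ((D.obj j.left).presheaf.stalk x)) ?_ ?_ ?_ ?_
      · exact ⟨Over.mk (𝟙 i₀), fun j _ x hx => hx.elim⟩
      · rintro s s' hss' ⟨k, hk⟩
        exact ⟨k, fun j g x hx => hk j g x (hss' hx)⟩
      · rintro s s' ⟨k₁, h₁⟩ ⟨k₂, h₂⟩
        refine ⟨IsCofiltered.min k₁ k₂, fun j g x hx => ?_⟩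
        rcases hx with hx | hx
        · exact h₁ j (g ≫ IsCofiltered.minToLeft k₁ k₂) x hx
        · exact h₂ j (g ≫ IsCofiltered.minToRight k₁ k₂) x hx
      · intro y _
        obtain ⟨_, ⟨U, hU : IsAffineOpen U, rfl⟩, hyU, -⟩ :=
          (D.obj i₀).isBasis_affineOpens.exists_subset_of_mem_open (Set.mem_univ y) isOpen_univ
        refine ⟨U, mem_nhdsWithin_of_mem_nhds (U.isOpen.mem_nhds hyU), ?_⟩
        obtain ⟨G, hG⟩ := hN ⟨U, hU⟩
        have hQ : ∀ n ∈ (G : Set Γ(D.obj i₀, U)), ∃ k : Over i₀, ∀ (j : Over i₀) (_ : j ⟶ k),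
            (D.map j.hom).app U n = 0 := by
          intro n hn
          have hnil : IsNilpotent n := by
            have : n ∈ nilradical Γ(D.obj i₀, U) := hG ▸ Ideal.subset_span hn
            exact mem_nilradical.mp this
          have h0 : (c.π.app i₀).app U n = 0 := by
            have hr : _root_.IsReduced Γ(c.pt, c.π.app i₀ ⁻¹ᵁ U) := inferInstance
            exact hr.eq_zero _ (hnil.map ((c.π.app i₀).app U).hom)
          obtain ⟨j, f, hf⟩ := exists_app_map_eq_zero_of_isLimit D c hc hU.isCompact n h0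
          refine ⟨Over.mk f, fun j' g => ?_⟩
          have hw : D.map g.left ≫ D.map f = D.map j'.hom := by
            rw [← D.map_comp]
            exact congrArg D.map (Over.w g)
          exact app_eq_zero_of_comp _ _ _ hw U n hf
        obtain ⟨k, _, hk⟩ := Groth.Agent.Lib.Helper7.exists_forall_of_finite
          (G : Set Γ(D.obj i₀, U)) G.finite_toSet
          (fun n (j : Over i₀) => (D.map j.hom).app U n = 0) hQ (Over.mk (𝟙 i₀))
        refine ⟨k, fun j g x hx => ?_⟩
        have : IsOpenImmersion (D.map j.hom) := hoi _ _ _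
        exact isReduced_stalk_of_vanish (D.map j.hom) U hU (G : Set _) hG
          (fun n hn => hk n hn j g) x hx
    obtain ⟨k, hk⟩ := key
    refine ⟨k.left, k.hom, fun j g => ?_⟩
    have hk' : IsReduced (D.obj k.left) := by
      have : ∀ x, _root_.IsReduced ((D.obj k.left).presheaf.stalk x) :=
        fun x => hk k (𝟙 k) x trivial
      exact isReduced_of_isReduced_stalk _
    have := hoi _ _ g
    exact isReduced_of_isOpenImmersion (D.map g)
  · rintro ⟨i, φ, h⟩
    by_contra hnr
    obtain ⟨i', hi'⟩ := Groth.Agent.Lib.Helper7.exists_forall_not_isReduced D c hc hnr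
    exact hi' (IsCofiltered.min i i') (IsCofiltered.minToRight i i')
      (h _ (IsCofiltered.minToLeft i i'))

end Groth.Agent.S4782
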