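import Groth.Statements.S5106
import Mathlib
import Groth.Agent.S2152

set_option autoImplicit false
universe u
open CategoryTheory CategoryTheory.Limits AlgebraicGeometry TopologicalSpace
open Lim8

namespace Groth.Agent.S5106

open CategoryTheory CategoryTheory.Limits AlgebraicGeometry TopologicalSpace

/-- every point of a quasi-sober T0 space is a specialization of a maximal point. -/
lemma exists_maximal_generization {X : Type*} [TopologicalSpace X] [QuasiSober X] [T0Space X]
    (x : X) : ∃ η : X, (∀ z : X, z ⤳ η → z = η) ∧ η ⤳ x := by
  obtain ⟨η, hη⟩ := QuasiSober.sober (isIrreducible_irreducibleComponent (x := x))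
    isClosed_irreducibleComponent
  refine ⟨η, ?_, ?_⟩
  · intro z hz
    have hsub : irreducibleComponent x ⊆ closure {z} := by
      rw [← hη.def]
      exact (specializes_iff_closure_subset.mp hz)
    have hirr : IsPreirreducible (closure ({z} : Set X)) :=
      (isIrreducible_singleton.closure).isPreirreducible
    have heq := eq_irreducibleComponent hirr hsub
    have hz' : IsGenericPoint z (irreducibleComponent x) := heq
    exact hz'.eq hη
  · rw [specializes_iff_mem_closure, hη.def]
    exact mem_irreducibleComponent

/-- Let (S_i) be a cofiltered system of schemes with affine transition morphisms and S its limit.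
Suppose that every S_i has only finitely many maximal points (points with no proper generization,
i.e. generic points of irreducible components) and that the transition morphisms send maximal points
to maximal points. Then the set of maximal points of S is the limit of the sets of maximal points of
the S_i: a point of S is maximal if and only if its image in every S_i is a maximal point of S_i. -/
theorem result {I : Type u} [SmallCategory I] [IsCofiltered I]
    (D : I ⥤ Scheme.{u}) (c : Limits.Cone D) (hc : Limits.IsLimit c)
    [∀ (i j : I) (g : i ⟶ j), IsAffineHom (D.map g)]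
    (hfin : ∀ i : I, {s : ↥(D.obj i) | ∀ z : ↥(D.obj i), z ⤳ s → z = s}.Finite)
    (hsys : ∀ (i j : I) (g : i ⟶ j) (s : ↥(D.obj i)), (∀ z : ↥(D.obj i), z ⤳ s → z = s) →
      ∀ z : ↥(D.obj j), z ⤳ D.map g s → z = D.map g s)
    (s : ↥c.pt) :
    (∀ z : ↥c.pt, z ⤳ s → z = s) ↔ ∀ (i : I) (z : ↥(D.obj i)), z ⤳ c.π.app i s → z = c.π.app i s := by
  have inst : ∀ {i j : I} (f : i ⟶ j), IsAffineHom (D.map f) := fun f => inferInstance
  constructor
  · intro hmax i₁
    let F : I ⥤ Type u :=
      { obj := fun j => {η : D.obj j // (∀ z : D.obj j, z ⤳ η → z = η) ∧ η ⤳ c.π.app j s}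
        map := fun {j k} g => TypeCat.ofHom (fun η => ⟨D.map g η.1, hsys j k g η.1 η.2.1, by
          have := η.2.2.map (D.map g).continuous
          have e : D.map g (c.π.app j s) = c.π.app k s := by
            rw [← c.w g]; rfl
          rw [e] at this
          exact this⟩)
        map_id := fun j => by
          ext η
          show D.map (𝟙 j) η.1 = η.1
          rw [D.map_id]; rfl
        map_comp := fun {j k l} g g' => by
          ext η
          show D.map (g ≫ g') η.1 = D.map g' (D.map g η.1)
          rw [D.map_comp]; rfl }
    have hF1 : ∀ j, Finite (F.obj j) := fun j =>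
      Set.finite_coe_iff.mpr ((hfin j).subset (fun η h => h.1))
    have hF2 : ∀ j, Nonempty (F.obj j) := fun j => by
      obtain ⟨η, h1, h2⟩ := exists_maximal_generization (c.π.app j s)
      exact ⟨⟨η, h1, h2⟩⟩
    obtain ⟨u, hu⟩ := nonempty_sections_of_finite_cofiltered_system F
    obtain ⟨η, hη⟩ := Groth.Agent.S2152.exists_point D c hc (fun j => (u j).1)
      (fun {j k} f => congrArg Subtype.val (hu f))
    have hηs : η ⤳ s := by
      rw [specializes_iff_forall_open]
      intro O hO hsO
      have hB := isBasis_preimage_isAffineOpen D c hc
      rw [Opens.isBasis_iff_nbhd] at hB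
      obtain ⟨_, ⟨j, V, -, rfl⟩, hsV, hVO⟩ := hB (U := ⟨O, hO⟩) (x := s) hsO
      apply hVO
      show c.π.app j η ∈ V
      rw [hη j]
      exact (u j).2.2.mem_open V.isOpen hsV
    have := hmax η hηs
    subst this
    rw [hη i₁]
    exact (u i₁).2.1
  · intro h z hz
    apply Groth.Agent.S2152.point_ext D c hc
    intro i
    exact h i _ (hz.map (c.π.app i).continuous)

end Groth.Agent.S5106
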