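import Groth.Statements.S4783
import Mathlib
import Groth.Agent.S4782
import Groth.Agent.S5106
import Groth.Agent.Lib.Helper7Lim
import Groth.Agent.Lib.Helper7LimComp

set_option autoImplicit false
universe u
open CategoryTheory AlgebraicGeometry
open Lim8

namespace Groth.Agent.S4783

open CategoryTheory CategoryTheory.Limits AlgebraicGeometry TopologicalSpace
open Groth.Agent.S5106 (exists_maximal_generization)

lemma finite_maximal_points {X : Type*} [TopologicalSpace X] [NoetherianSpace X] [QuasiSober X]
    [T0Space X] : {s : X | ∀ z : X, z ⤳ s → z = s}.Finite := by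
  have hfin : (irreducibleComponents X).Finite := NoetherianSpace.finite_irreducibleComponents
  refine Set.Finite.of_finite_image (f := fun η : X => closure ({η} : Set X))
    (hfin.subset ?_) ?_
  · rintro _ ⟨η, hη, rfl⟩
    show Maximal IsIrreducible (closure ({η} : Set X))
    refine ⟨isIrreducible_singleton.closure, fun t ht hsub => ?_⟩
    obtain ⟨ζ, hζ⟩ := QuasiSober.sober ht.closure isClosed_closure
    have hηt : η ∈ closure t := subset_closure (hsub (subset_closure rfl))
    have hζη : ζ ⤳ η := by
      rw [specializes_iff_mem_closure, hζ.def]; exact hηt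
    have := hη ζ hζη
    subst this
    rw [hζ.def]
    exact subset_closure
  · intro a _ b _ hab
    exact (inseparable_iff_closure_eq.mpr hab).eq

lemma map_π_apply' {I : Type u} [SmallCategory I] (D : I ⥤ Scheme.{u}) (c : Limits.Cone D)
    {i j : I} (a : i ⟶ j) (x : c.pt) : D.map a (c.π.app i x) = c.π.app j x := by
  rw [← c.w a]
  rfl

lemma map_comp_apply' {I : Type u} [SmallCategory I] (D : I ⥤ Scheme.{u})
    {i j k : I} (a : i ⟶ j) (b : j ⟶ k) (x : D.obj i) :
    D.map (a ≫ b) x = D.map b (D.map a x) := by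
  rw [Functor.map_comp]
  rfl

/-- a quasi-sober space in which some point specializes to every point is irreducible. -/
lemma irreducibleSpace_of_forall_specializes {X : Type*} [TopologicalSpace X] (ξ : X)
    (h : ∀ x : X, ξ ⤳ x) : IrreducibleSpace X := by
  have : PreirreducibleSpace X := by
    constructor
    rintro u v hu hv ⟨x, -, hx⟩ ⟨y, -, hy⟩
    exact ⟨ξ, trivial, (h x).mem_open hu hx, (h y).mem_open hv hy⟩
  exact { toNonempty := ⟨ξ⟩ }

/-- Let S = lim S_i be a cofiltered limit of schemes whose transition maps are open immersions (in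
particular affine), and let S_{i₀} be a Noetherian stage. Then S is integral if and only if there is
an index i over i₀ such that S_j is integral for every j over i. -/
theorem result {I : Type u} [SmallCategory I] [IsCofiltered I]
    (D : I ⥤ Scheme.{u}) (c : Limits.Cone D) (hc : Limits.IsLimit c)
    [∀ (i j : I) (f : i ⟶ j), IsAffineHom (D.map f)] (i₀ : I)
    [IsNoetherian (D.obj i₀)] (hoi : ∀ (i j : I) (φ : i ⟶ j), IsOpenImmersion (D.map φ)) :
    IsIntegral c.pt ↔ ∃ (i : I) (_ : i ⟶ i₀), ∀ (j : I) (_ : j ⟶ i), IsIntegral (D.obj j) := by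
  have inst : ∀ {i j : I} (f : i ⟶ j), IsAffineHom (D.map f) := fun f => inferInstance
  have hN : ∀ U : (D.obj i₀).affineOpens, (nilradical Γ(D.obj i₀, U)).FG := fun U => by
    have : IsNoetherianRing Γ(D.obj i₀, U) := IsLocallyNoetherian.component_noetherian U
    exact IsNoetherian.noetherian _
  have h4782 := Groth.Agent.S4782.result D c hc i₀ hoi hN
  constructor
  · intro hint
    have hred : IsReduced c.pt := inferInstance
    obtain ⟨i₁, φ₁, h₁⟩ := h4782.mp hred
    have hirr : IrreducibleSpace c.pt := inferInstance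
    let ξ : c.pt := genericPoint c.pt
    let ξ₀ : D.obj i₀ := c.π.app i₀ ξ
    have hξ₀max : ∀ z : D.obj i₀, z ⤳ ξ₀ → z = ξ₀ := by
      intro z hz
      have H : ∀ (j : I) (g : j ⟶ i₀), ∃ x : D.obj j, D.map g x = z := by
        intro j g
        have := hoi _ _ g
        have hopen : IsOpen (Set.range (D.map g)) := (D.map g).isOpenEmbedding.isOpen_range
        exact hz.mem_open hopen ⟨c.π.app j ξ, map_π_apply' D c g ξ⟩
      obtain ⟨z', hz'⟩ := Groth.Agent.Lib.Helper7.exists_π_app_eq D c hc z H
      have h1 : ξ ⤳ z' := genericPoint_specializes z'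
      have h2 : ξ₀ ⤳ z := by
        have := h1.map (c.π.app i₀).continuous
        rw [hz'] at this
        exact this
      exact (hz.antisymm h2).eq
    let M' : Set (D.obj i₀) := {η | (∀ z : D.obj i₀, z ⤳ η → z = η) ∧ η ≠ ξ₀}
    have hM' : M'.Finite := finite_maximal_points.subset (fun η h => h.1)
    have hQ : ∀ η ∈ M', ∃ k : Over i₀, ∀ (j : Over i₀) (_ : j ⟶ k),
        η ∉ Set.range (D.map j.hom) := by
      intro η hη
      have hnot : ¬ ∀ (j : I) (g : j ⟶ i₀), ∃ x : D.obj j, D.map g x = η := by
        intro H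
        obtain ⟨z', hz'⟩ := Groth.Agent.Lib.Helper7.exists_π_app_eq D c hc η H
        have h1 : ξ ⤳ z' := genericPoint_specializes z'
        have h2 : ξ₀ ⤳ η := by
          have := h1.map (c.π.app i₀).continuous
          rw [hz'] at this
          exact this
        exact hη.2 (hη.1 ξ₀ h2).symm
      push Not at hnot
      obtain ⟨j, g, hg⟩ := hnot
      refine ⟨Over.mk g, fun j' f => ?_⟩
      rintro ⟨x, hx⟩
      have hw : j'.hom = f.left ≫ g := (Over.w f).symm
      rw [hw, map_comp_apply'] at hx
      exact hg _ hx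
    obtain ⟨k₁, b, hk₁⟩ := Groth.Agent.Lib.Helper7.exists_forall_of_finite M' hM'
      (fun η (j : Over i₀) => η ∉ Set.range (D.map j.hom)) hQ (Over.mk φ₁)
    refine ⟨k₁.left, k₁.hom, fun j ψ => ?_⟩
    have hredj : IsReduced (D.obj j) := h₁ j (ψ ≫ b.left)
    let jO : Over i₀ := Over.mk (ψ ≫ k₁.hom)
    let gO : jO ⟶ k₁ := Over.homMk ψ rfl
    have hιo := hoi _ _ (ψ ≫ k₁.hom)
    let ξj : D.obj j := c.π.app j ξ
    have hξj : D.map (ψ ≫ k₁.hom) ξj = ξ₀ := map_π_apply' D c _ ξ
    have hspec : ∀ x : D.obj j, ξj ⤳ x := by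
      intro x
      obtain ⟨η, hη1, hη2⟩ := exists_maximal_generization (D.map (ψ ≫ k₁.hom) x)
      have hopen : IsOpen (Set.range (D.map (ψ ≫ k₁.hom))) :=
        (D.map (ψ ≫ k₁.hom)).isOpenEmbedding.isOpen_range
      have hηr : η ∈ Set.range (D.map (ψ ≫ k₁.hom)) := hη2.mem_open hopen ⟨x, rfl⟩
      have hηeq : η = ξ₀ := by
        by_contra hne
        exact hk₁ η ⟨hη1, hne⟩ jO gO hηr
      rw [hηeq, ← hξj] at hη2
      exact ((D.map (ψ ≫ k₁.hom)).isOpenEmbedding.isInducing.specializes_iff).mp hη2
    have hirrj : IrreducibleSpace (D.obj j) := irreducibleSpace_of_forall_specializes ξj hspec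
    exact isIntegral_of_irreducibleSpace_of_isReduced _
  · rintro ⟨i, φ, h⟩
    have hredS : IsReduced c.pt := h4782.mpr ⟨i, φ, fun j g => by
      have := h j g
      infer_instance⟩
    have hi : IsIntegral (D.obj i) := h i (𝟙 i)
    let ξi : D.obj i := genericPoint (D.obj i)
    have hξi : ∀ W : Set (D.obj i), IsOpen W → W.Nonempty → ξi ∈ W := by
      intro W hW hne
      rw [(genericPoint_spec (α := D.obj i)).mem_open_set_iff hW, Set.univ_inter]
      exact hne
    have H : ∀ (j : I) (g : j ⟶ i), ∃ x : D.obj j, D.map g x = ξi := by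
      intro j g
      have := hoi _ _ g
      have : IsIntegral (D.obj j) := h j g
      have hne : Nonempty (D.obj j) := inferInstance
      exact hξi _ (D.map g).isOpenEmbedding.isOpen_range (Set.range_nonempty _)
    obtain ⟨ξ, hξ⟩ := Groth.Agent.Lib.Helper7.exists_π_app_eq D c hc ξi H
    have key : ∀ (k : I) (g : k ⟶ i) (W : Set (D.obj k)), IsOpen W → W.Nonempty →
        c.π.app k ξ ∈ W := by
      intro k g W hW hne
      have := hoi _ _ g
      have hopen : IsOpen (⇑(D.map g) '' W) := (D.map g).isOpenEmbedding.isOpenMap W hW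
      obtain ⟨w, hw, hwξ⟩ := hξi _ hopen (hne.image _)
      rw [← hξ, ← map_π_apply' D c g ξ] at hwξ
      have := (D.map g).isOpenEmbedding.injective hwξ
      rw [← this]
      exact hw
    have hspec : ∀ x : c.pt, ξ ⤳ x := by
      intro x
      rw [specializes_iff_forall_open]
      intro O hO hxO
      have hB := isBasis_preimage_isAffineOpen D c hc
      rw [Opens.isBasis_iff_nbhd] at hB
      obtain ⟨_, ⟨j, V, -, rfl⟩, hxV, hVO⟩ := hB (U := ⟨O, hO⟩) (x := x) hxO
      apply hVO
      show c.π.app j ξ ∈ V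
      let k := IsCofiltered.min j i
      let a : k ⟶ j := IsCofiltered.minToLeft j i
      let g : k ⟶ i := IsCofiltered.minToRight j i
      have hW : c.π.app k ξ ∈ (⇑(D.map a) ⁻¹' (V : Set (D.obj j))) := by
        refine key k g _ (V.isOpen.preimage (D.map a).continuous) ⟨c.π.app k x, ?_⟩
        show D.map a (c.π.app k x) ∈ V
        rw [map_π_apply']
        exact hxV
      have : D.map a (c.π.app k ξ) ∈ V := hW
      rw [map_π_apply'] at this
      exact this
    have hirrS : IrreducibleSpace c.pt := irreducibleSpace_of_forall_specializes ξ hspec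
    exact isIntegral_of_irreducibleSpace_of_isReduced _

end Groth.Agent.S4783
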