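import Groth.Statements.S4785
import Mathlib
import Groth.Agent.S2152
import Groth.Agent.S18744
import Groth.Agent.Lib.Helper7LimFlat

set_option autoImplicit false
universe u
open CategoryTheory AlgebraicGeometry
open Lim8

namespace Groth.Agent.S4785

open CategoryTheory CategoryTheory.Limits AlgebraicGeometry TopologicalSpace

lemma map_π_apply' {I : Type u} [SmallCategory I] (D : I ⥤ Scheme.{u}) (c : Limits.Cone D)
    {i j : I} (a : i ⟶ j) (x : c.pt) : D.map a (c.π.app i x) = c.π.app j x := by
  rw [← c.w a]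
  rfl

lemma mem_range_stalkMap_of_comp {X Y Z : Scheme.{u}} (p : X ⟶ Y) (q : Y ⟶ Z) (r : X ⟶ Z)
    (e : p ≫ q = r) (x : X) [IsIso (q.stalkMap (p x))] (τ : X.presheaf.stalk x)
    (hτ : τ ∈ Set.range (p.stalkMap x)) : τ ∈ Set.range (r.stalkMap x) := by
  subst e
  obtain ⟨σ, rfl⟩ := hτ
  obtain ⟨ρ, rfl⟩ := (ConcreteCategory.bijective_of_isIso (q.stalkMap (p x))).2 σ
  refine ⟨ρ, ?_⟩
  rw [Scheme.Hom.stalkMap_comp]
  rfl

lemma germ_appLE {X Y : Scheme.{u}} (f : X ⟶ Y) (U : Y.Opens) (V : X.Opens) (e : V ≤ f ⁻¹ᵁ U)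
    (x : X) (hx : x ∈ V) (a : Γ(Y, U)) :
    X.presheaf.germ V x hx (f.appLE U V e a) =
      f.stalkMap x (Y.presheaf.germ U (f x) (show f x ∈ U from e hx) a) := by
  have h1 := Scheme.Hom.germ_stalkMap_apply f U x (show f x ∈ U from e hx) a
  rw [h1]
  have : f.appLE U V e = f.app U ≫ X.presheaf.map (homOfLE e).op := rfl
  rw [this, CommRingCat.comp_apply, TopCat.Presheaf.germ_res_apply]

set_option backward.isDefEq.respectTransparency.types false in
lemma stalkMap_injective_of_flat {X Y : Scheme.{u}} (f : X ⟶ Y) [Flat f] (x : X) :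
    Function.Injective (f.stalkMap x) := by
  algebraize [(f.stalkMap x).hom]
  have : Module.FaithfullyFlat (Y.presheaf.stalk (f x)) (X.presheaf.stalk x) :=
    @Module.FaithfullyFlat.of_flat_of_isLocalHom _ _ _ _ _ _ _
      (Flat.stalkMap f x) (f.toLRSHom.prop x)
  exact ‹RingHom.FaithfullyFlat _›.injective

/-- Let S = lim S_i be a cofiltered limit of schemes whose transition maps are open immersions, so that
each S_j with j over i is an open subscheme of S_i. Then, for every index i, the projection S ⟶ S_i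
is a topological embedding and every stalk map O_{S_i, π(s)} ⟶ O_{S, s} is an isomorphism; that is,
S is the subspace ⋂_j S_j of S_i with the induced structure sheaf. -/
theorem result {I : Type u} [SmallCategory I] [IsCofiltered I]
    (D : I ⥤ Scheme.{u}) (c : Limits.Cone D) (hc : Limits.IsLimit c)
    [∀ (i j : I) (f : i ⟶ j), IsAffineHom (D.map f)]
    (hoi : ∀ (i j : I) (φ : i ⟶ j), IsOpenImmersion (D.map φ)) (i : I) :
    Topology.IsEmbedding ⇑(c.π.app i) ∧ ∀ s : c.pt, IsIso ((c.π.app i).stalkMap s) := by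
  have inst : ∀ {i j : I} (f : i ⟶ j), IsAffineHom (D.map f) := fun f => inferInstance
  have hB := isBasis_preimage_isAffineOpen D c hc
  rw [Opens.isBasis_iff_nbhd] at hB
  have hinj : Function.Injective ⇑(c.π.app i) := by
    intro x y hxy
    apply Groth.Agent.S2152.point_ext D c hc
    intro j
    let k := IsCofiltered.min j i
    let a : k ⟶ j := IsCofiltered.minToLeft j i
    let g : k ⟶ i := IsCofiltered.minToRight j i
    have := hoi _ _ g
    have hk : c.π.app k x = c.π.app k y := by
      apply (D.map g).isOpenEmbedding.injective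
      rw [map_π_apply', map_π_apply', hxy]
    rw [← map_π_apply' D c a x, ← map_π_apply' D c a y, hk]
  constructor
  · refine ⟨Topology.isInducing_iff_nhds.mpr (fun x => le_antisymm ?_ ?_), hinj⟩
    · exact (c.π.app i).continuous.continuousAt.tendsto.le_comap
    · intro O hO
      rw [Filter.mem_comap]
      obtain ⟨O', hO'O, hO'open, hxO'⟩ := mem_nhds_iff.mp hO
      obtain ⟨_, ⟨j, V, hV, rfl⟩, hxV, hVO'⟩ := hB (U := ⟨O', hO'open⟩) (x := x) hxO'
      let k := IsCofiltered.min j i
      let a : k ⟶ j := IsCofiltered.minToLeft j i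
      let g : k ⟶ i := IsCofiltered.minToRight j i
      have := hoi _ _ g
      have hWo : IsOpen (⇑(D.map g) '' (⇑(D.map a) ⁻¹' (V : Set (D.obj j)))) :=
        (D.map g).isOpenEmbedding.isOpenMap _ (V.isOpen.preimage (D.map a).continuous)
      refine ⟨_, hWo.mem_nhds ⟨c.π.app k x, ?_, map_π_apply' D c g x⟩, ?_⟩
      · show D.map a (c.π.app k x) ∈ V
        rw [map_π_apply']; exact hxV
      · rintro y ⟨w, hw, hwy⟩
        apply hO'O
        apply hVO'
        show c.π.app j y ∈ V
        rw [← map_π_apply' D c g y] at hwy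
        have := (D.map g).isOpenEmbedding.injective hwy
        rw [← map_π_apply' D c a y, ← this]
        exact hw
  · intro s
    have hflat : Flat (c.π.app i) := Groth.Agent.Lib.Helper7.flat_π_app D c hc i (fun j φ => by
      have := hoi _ _ φ
      infer_instance)
    have hinjs := stalkMap_injective_of_flat (c.π.app i) s
    have hsurj : Function.Surjective ((c.π.app i).stalkMap s) := by
      intro τ
      let D' := Over.forget i ⋙ D
      let c' := c.whisker (Over.forget i)
      have hc' : IsLimit c' := (Functor.Initial.isLimitWhiskerEquiv (Over.forget i) c).symm hc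
      have inst' : ∀ {a b : Over i} (f : a ⟶ b), IsAffineHom (D'.map f) :=
        fun f => inferInstanceAs (IsAffineHom (D.map f.left))
      have hB' := isBasis_preimage_isAffineOpen D' c' hc'
      rw [Opens.isBasis_iff_nbhd] at hB'
      obtain ⟨U₀, hsU₀, t, rfl⟩ := TopCat.Presheaf.germ_exist c.pt.presheaf (x := s) τ
      obtain ⟨_, ⟨j, V, hV, rfl⟩, hsV, hVU₀⟩ := hB' (U := U₀) (x := s) hsU₀
      let t' : Γ(c.pt, c'.π.app j ⁻¹ᵁ V) := c.pt.presheaf.map (homOfLE hVU₀).op t
      have ht' : c.pt.presheaf.germ (c'.π.app j ⁻¹ᵁ V) s hsV t' =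
          c.pt.presheaf.germ U₀ s hsU₀ t := TopCat.Presheaf.germ_res_apply _ _ _ _ _
      obtain ⟨k, f, tk, htk⟩ := Groth.Agent.S18744.exists_appLE_eq D' c' hc' j V hV t'
      have h1 : c.pt.presheaf.germ U₀ s hsU₀ t ∈ Set.range ((c.π.app k.left).stalkMap s) := by
        rw [← ht', htk]
        exact ⟨_, (germ_appLE (c.π.app k.left) _ _ _ s hsV tk).symm⟩
      have := hoi _ _ k.hom
      exact mem_range_stalkMap_of_comp (c.π.app k.left) (D.map k.hom) (c.π.app i) (c.w k.hom) s _ h1
    exact (ConcreteCategory.isIso_iff_bijective _).mpr ⟨hinjs, hsurj⟩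

end Groth.Agent.S4785
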