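import Groth.Statements.S4786
-- import your own Groth.Agent.* helpers here
import Mathlib
import Groth.Agent.S4787
import Groth.Agent.S4764
import Groth.Agent.Lib.Helper5Closure

set_option autoImplicit false
universe u
open CategoryTheory AlgebraicGeometry
open Lim8

namespace Groth.Agent.S4786

open Limits Topology

/-- a constructible set is ind-constructible. -/
theorem isIndConstructible_of_isConstructible {X : Type*} [TopologicalSpace X] {E : Set X}
    (hE : IsConstructible E) : ProCons.IsIndConstructible E := by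
  intro x
  refine ⟨Set.univ, isOpen_univ, trivial, {(Subtype.val ⁻¹' E : Set ↥(Set.univ : Set X))}, ?_, ?_⟩
  · intro T hT
    rw [Set.mem_singleton_iff] at hT
    rw [hT]
    exact (hE.isLocallyConstructible).preimage_of_isOpenEmbedding isOpen_univ.isOpenEmbedding_subtypeVal
  · rw [Set.sUnion_singleton]

/-- for a flat morphism and a pro-constructible set, the preimage of the closure lies in the
closure of the preimage. -/
theorem preimage_closure_subset_of_flat {X Y : Scheme.{u}} (f : X ⟶ Y) [Flat f] (Z : Set Y)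
    (hZ : ProCons.IsProConstructible Z) :
    (⇑f ⁻¹' closure Z : Set X) ⊆ closure (⇑f ⁻¹' Z) := by
  intro x hx
  obtain ⟨z, hzZ, hz⟩ := Groth.Agent.Lib.Helper5.exists_specializes_of_mem_closure Y Z hZ (f x) hx
  obtain ⟨x', hx', hfx'⟩ := Flat.generalizingMap f hz
  have : x' ∈ (⇑f ⁻¹' Z : Set X) := by
    show f x' ∈ Z
    rw [hfx']
    exact hzZ
  exact closure_mono (Set.singleton_subset_iff.2 this) (specializes_iff_mem_closure.1 hx')

/-- Let S = lim S_i be a cofiltered limit of schemes whose transition maps are affine and flat, let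
S_{i₁} be a quasi-compact stage, and let Z' and Z'' be pro-constructible subsets of S_{i₁} such that
the closure of Z' is constructible. Then the preimage of Z'' in S is contained in the closure of the
preimage of Z' in S if and only if there is an index j over i₁ such that the preimage of Z'' in S_j
is contained in the closure of the preimage of Z' in S_j. -/
theorem result {I : Type u} [SmallCategory I] [IsCofiltered I]
    (D : I ⥤ Scheme.{u}) (c : Limits.Cone D) (hc : Limits.IsLimit c)
    [∀ (i j : I) (f : i ⟶ j), IsAffineHom (D.map f)] (i₁ : I) [CompactSpace (D.obj i₁)]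
    (hfl : ∀ (i j : I) (φ : i ⟶ j), Flat (D.map φ))
    (Z' Z'' : Set (D.obj i₁)) (hZ' : ProCons.IsProConstructible Z') (hZ'' : ProCons.IsProConstructible Z'')
    (hcl : Topology.IsConstructible (closure Z')) :
    (⇑(c.π.app i₁) ⁻¹' Z'' : Set c.pt) ⊆ closure (⇑(c.π.app i₁) ⁻¹' Z' : Set c.pt) ↔
      ∃ (j : I) (φ : j ⟶ i₁), ⇑(D.map φ) ⁻¹' Z'' ⊆ closure (⇑(D.map φ) ⁻¹' Z') := by
  constructor
  · intro h
    -- the system over `i₁`
    let D' : Over i₁ ⥤ Scheme.{u} := Over.forget i₁ ⋙ D
    let c' : Cone D' := c.whisker (Over.forget i₁)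
    have hc' : IsLimit c' := (Functor.Initial.isLimitWhiskerEquiv (Over.forget i₁) c).symm hc
    haveI : ∀ (i j : Over i₁) (f : i ⟶ j), IsAffineHom (D'.map f) := fun i j f => by
      show IsAffineHom (D.map f.left)
      infer_instance
    haveI : CompactSpace (D'.obj (Over.mk (𝟙 i₁))) := by
      show CompactSpace (D.obj i₁)
      infer_instance
    let E : ∀ j : Over i₁, Set (D'.obj j) := fun j => (⇑(D.map j.hom) ⁻¹' Z'' : Set (D.obj j.left))
    let F : ∀ j : Over i₁, Set (D'.obj j) := fun j =>
      (⇑(D.map j.hom) ⁻¹' closure Z' : Set (D.obj j.left))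
    have hcomp : ∀ (i j : Over i₁) (φ : i ⟶ j) (x : D.obj i.left),
        (D.map j.hom) ((D.map φ.left) x) = (D.map i.hom) x := by
      intro i j φ x
      have h1 : D.map φ.left ≫ D.map j.hom = D.map i.hom := by
        rw [← D.map_comp, Over.w]
      rw [← h1]
      rfl
    have key := (Groth.Agent.S4787.result D' c' hc' (Over.mk (𝟙 i₁)) E F
      (fun j => Groth.Agent.Lib.Helper5.isProConstructible_preimage (D.map j.hom) Z'' hZ'')
      (fun j => Groth.Agent.Lib.Helper5.isIndConstructible_preimage (D.map j.hom) _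
        (isIndConstructible_of_isConstructible hcl))
      (fun i j φ x hx => by
        have e : (D.map j.hom) ((D.map φ.left) x) = (D.map i.hom) x := hcomp i j φ x
        show (D.map j.hom) ((D.map φ.left) x) ∈ Z''
        exact Set.mem_of_eq_of_mem e hx)
      (fun i j φ x hx => by
        have e : (D.map j.hom) ((D.map φ.left) x) = (D.map i.hom) x := hcomp i j φ x
        show (D.map i.hom) x ∈ closure Z'
        exact Set.mem_of_eq_of_mem e.symm hx)).1 ?_
    · obtain ⟨j, -, hj⟩ := key
      refine ⟨j.left, j.hom, ?_⟩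
      haveI := hfl _ _ j.hom
      exact (hj j (𝟙 j)).trans (preimage_closure_subset_of_flat (D.map j.hom) Z' hZ')
    · intro x hx
      rw [Set.mem_iInter] at hx
      have hx1 := hx (Over.mk (𝟙 i₁))
      rw [Set.mem_iUnion]
      refine ⟨Over.mk (𝟙 i₁), ?_⟩
      have hx2 : x ∈ (⇑(c.π.app i₁) ⁻¹' Z'' : Set c.pt) := by
        have : (D.map (𝟙 i₁)) ((c.π.app i₁) x) ∈ Z'' := hx1
        rw [D.map_id] at this
        exact this
      have hx3 := h hx2
      have hx4 : (c.π.app i₁) x ∈ closure Z' :=
        (closure_mono (Set.image_preimage_subset _ _))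
          (image_closure_subset_closure_image (c.π.app i₁).continuous ⟨x, hx3, rfl⟩)
      show (D.map (𝟙 i₁)) ((c.π.app i₁) x) ∈ closure Z'
      rw [D.map_id]
      exact hx4
  · rintro ⟨j, φ, hj⟩
    haveI : Flat (c.π.app j) := Groth.Agent.S4764.result D c hc j (fun k ψ => hfl _ _ ψ)
    have hπ : ∀ x : c.pt, (D.map φ) ((c.π.app j) x) = (c.π.app i₁) x := by
      intro x
      rw [← c.w φ]
      rfl
    intro x hx
    have h1 : (c.π.app j) x ∈ (⇑(D.map φ) ⁻¹' Z'' : Set (D.obj j)) := by
      show (D.map φ) ((c.π.app j) x) ∈ Z''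
      rw [hπ]
      exact hx
    have h2 := preimage_closure_subset_of_flat (c.π.app j) _
      (Groth.Agent.Lib.Helper5.isProConstructible_preimage (D.map φ) Z' hZ') (hj h1)
    refine closure_mono ?_ h2
    intro y hy
    show (c.π.app i₁) y ∈ Z'
    rw [← hπ]
    exact hy

end Groth.Agent.S4786
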