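import Groth.Statements.S4790
-- import your own Groth.Agent.* helpers here
import Mathlib
import Groth.Agent.Lib.Helper26HomLimD

set_option autoImplicit false
universe u
open CategoryTheory AlgebraicGeometry
open Lim8

namespace Groth.Agent.S4790

open Groth.Agent.Lib.Helper26.ModLim2 Groth.Agent.Lib.Helper26.HomLimD

/-- Let S = lim S_i be a cofiltered limit of schemes with affine transition maps and S_{i₀} a
quasi-compact quasi-separated stage; let F₀ and G₀ be quasi-coherent O-modules of finite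
presentation on S_{i₀}. Then the pullbacks of F₀ and G₀ along S ⟶ S_{i₀} are isomorphic if and only
if, for some index j over i₀, their pullbacks along S_j ⟶ S_{i₀} are isomorphic. -/
theorem result {I : Type u} [SmallCategory I] [IsCofiltered I]
    (D : I ⥤ Scheme.{u}) (c : Limits.Cone D) (hc : Limits.IsLimit c)
    [∀ (i j : I) (f : i ⟶ j), IsAffineHom (D.map f)] (i₀ : I) [CompactSpace (D.obj i₀)]
    [QuasiSeparatedSpace (D.obj i₀)] (F₀ G₀ : (D.obj i₀).Modules)
    [Coh.IsQCoh F₀] (hF₀fp : CohB1.IsFP F₀)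
    [Coh.IsQCoh G₀] (hG₀fp : CohB1.IsFP G₀) :
    Nonempty ((Scheme.Modules.pullback (c.π.app i₀)).obj F₀ ≅ (Scheme.Modules.pullback (c.π.app i₀)).obj G₀) ↔
      ∃ (j : I) (φ : j ⟶ i₀),
        Nonempty ((Scheme.Modules.pullback (D.map φ)).obj F₀ ≅ (Scheme.Modules.pullback (D.map φ)).obj G₀) := by
  constructor
  · rintro ⟨θ⟩
    obtain ⟨j, a, ha⟩ := exists_hom_pullback_eq D c hc i₀ G₀ F₀ hF₀fp θ.hom
    have hiso : IsIso ((Scheme.Modules.pullback (c.π.app j.left)).map a) := by
      have e : (Scheme.Modules.pullback (c.π.app j.left)).map a =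
          (compIso (c.π.app j.left) (D.map j.hom) (c.π.app i₀) (c.w j.hom)).hom.app F₀ ≫ θ.hom ≫
            (compIso (c.π.app j.left) (D.map j.hom) (c.π.app i₀) (c.w j.hom)).inv.app G₀ := by
        rw [← ha]
        simp
      rw [e]
      infer_instance
    haveI := compactSpace_of_hom D i₀ j.hom
    haveI : ((Scheme.Modules.pullback (D.map j.hom)).obj F₀).IsQuasicoherent :=
      Groth.Agent.Lib.Helper20.PullbackAff.isQuasicoherent_pullback _ _
    haveI : ((Scheme.Modules.pullback (D.map j.hom)).obj G₀).IsQuasicoherent :=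
      Groth.Agent.Lib.Helper20.PullbackAff.isQuasicoherent_pullback _ _
    obtain ⟨j', φ', hφ'⟩ := exists_isIso_pullback_map D c hc j.left
      (Groth.Agent.Helper18Strict.isFT_of_isFP _
        (Groth.Agent.Helper18Strict.isFP_pullback (D.map j.hom) F₀ hF₀fp))
      (Groth.Agent.Helper18Strict.isFP_pullback (D.map j.hom) G₀ hG₀fp) a hiso
    refine ⟨j', φ' ≫ j.hom, ⟨?_⟩⟩
    exact ((compIso (D.map φ') (D.map j.hom) (D.map (φ' ≫ j.hom)) (D.map_comp _ _).symm).app F₀).symm ≪≫
      asIso ((Scheme.Modules.pullback (D.map φ')).map a) ≪≫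
      (compIso (D.map φ') (D.map j.hom) (D.map (φ' ≫ j.hom)) (D.map_comp _ _).symm).app G₀
  · rintro ⟨j, φ, ⟨θ⟩⟩
    exact ⟨((compIso (c.π.app j) (D.map φ) (c.π.app i₀) (c.w φ)).app F₀).symm ≪≫
      (Scheme.Modules.pullback (c.π.app j)).mapIso θ ≪≫
      (compIso (c.π.app j) (D.map φ) (c.π.app i₀) (c.w φ)).app G₀⟩

end Groth.Agent.S4790
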