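import Groth.Statements.S4793
-- import your own Groth.Agent.* helpers here
import Mathlib
import Groth.Agent.Lib.Helper18Epi1

set_option autoImplicit false
universe u
open CategoryTheory AlgebraicGeometry
open Lim8

namespace Groth.Agent.S4793

open Limits

/-- closed-set compactness for a limit with only one quasi-compact stage -/
theorem exists_preimage_eq_top {I : Type u} [SmallCategory I] [IsCofiltered I]
    (D : I ⥤ Scheme.{u}) (c : Limits.Cone D) (hc : Limits.IsLimit c)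
    [∀ (i j : I) (f : i ⟶ j), IsAffineHom (D.map f)] (i₀ : I) [CompactSpace (D.obj i₀)]
    (U : (D.obj i₀).Opens) (hU : c.π.app i₀ ⁻¹ᵁ U = ⊤) :
    ∃ (j : I) (φ : j ⟶ i₀), D.map φ ⁻¹ᵁ U = ⊤ := by
  have i1 : ∀ (j k : Over i₀) (f : j ⟶ k), IsAffineHom ((Over.forget i₀ ⋙ D).map f) :=
    fun j k f => (inferInstance : IsAffineHom (D.map f.left))
  have i0 : ∀ j : Over i₀, ∃ φ : D.obj j.left ⟶ D.obj i₀, IsAffineHom φ := fun j =>
    ⟨D.map j.hom, inferInstance⟩
  have i2 : ∀ j : Over i₀, CompactSpace ((Over.forget i₀ ⋙ D).obj j) := fun j => by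
    obtain ⟨φ, hφ⟩ := i0 j
    show CompactSpace (D.obj j.left)
    exact QuasiCompact.compactSpace_of_compactSpace φ
  have hc' : IsLimit (c.whisker (Over.forget i₀)) :=
    (Functor.Initial.isLimitWhiskerEquiv (Over.forget i₀) c).symm hc
  obtain ⟨j, fj, hj⟩ := exists_map_eq_top (Over.forget i₀ ⋙ D) (c.whisker (Over.forget i₀)) hc'
    (i := Over.mk (𝟙 i₀)) U hU
  exact ⟨j.left, fj.left, hj⟩

/-- Let S = lim S_i be a cofiltered limit of schemes with affine transition maps and S_{i₀} a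
quasi-compact stage; let F₀ be a quasi-coherent O-module and G₀ a quasi-coherent O-module of finite
type on S_{i₀}, and f₀ : F₀ ⟶ G₀ a homomorphism. Then the pullback of f₀ along S ⟶ S_{i₀} is
surjective (an epimorphism of O_S-modules) if and only if, for some index j over i₀, the pullback of
f₀ along S_j ⟶ S_{i₀} is surjective. -/
theorem result {I : Type u} [SmallCategory I] [IsCofiltered I]
    (D : I ⥤ Scheme.{u}) (c : Limits.Cone D) (hc : Limits.IsLimit c)
    [∀ (i j : I) (f : i ⟶ j), IsAffineHom (D.map f)] (i₀ : I) [CompactSpace (D.obj i₀)]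
    {F₀ G₀ : (D.obj i₀).Modules} [Coh.IsQCoh F₀]
    [Coh.IsQCoh G₀] (hG₀ft : CohB1.IsFT G₀) (f₀ : F₀ ⟶ G₀) :
    Epi ((Scheme.Modules.pullback (c.π.app i₀)).map f₀) ↔
      ∃ (j : I) (φ : j ⟶ i₀), Epi ((Scheme.Modules.pullback (D.map φ)).map f₀) := by
  obtain ⟨U, hU⟩ := Groth.Agent.Helper18Epi.main_S10844 hG₀ft f₀
  constructor
  · intro h
    have h1 := (hU _ (c.π.app i₀)).2 h
    have h2 : c.π.app i₀ ⁻¹ᵁ U = ⊤ := by
      ext x
      simp only [TopologicalSpace.Opens.map_coe, Set.mem_preimage, SetLike.mem_coe,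
        TopologicalSpace.Opens.coe_top, Set.mem_univ, iff_true]
      exact h1 ⟨x, rfl⟩
    obtain ⟨j, φ, hj⟩ := exists_preimage_eq_top D c hc i₀ U h2
    refine ⟨j, φ, (hU _ (D.map φ)).1 ?_⟩
    rintro _ ⟨x, rfl⟩
    have : x ∈ D.map φ ⁻¹ᵁ U := by rw [hj]; trivial
    exact this
  · rintro ⟨j, φ, h⟩
    have h1 := (hU _ (D.map φ)).2 h
    refine (hU _ _).1 ?_
    rintro _ ⟨x, rfl⟩
    have : (c.π.app i₀).base x = (D.map φ).base ((c.π.app j).base x) := by
      rw [← c.w φ]; rfl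
    rw [this]
    exact h1 ⟨_, rfl⟩

end Groth.Agent.S4793
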