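import Groth.Statements.S4795
-- import your own Groth.Agent.* helpers here
import Mathlib
import Groth.Agent.Lib.Helper26LimIso

set_option autoImplicit false
universe u
open CategoryTheory AlgebraicGeometry
open Lim8

namespace Groth.Agent.S4795

open Limits Groth.Agent.Lib.Helper26.LimDescend Groth.Agent.Lib.Helper22.LimBC
  Groth.Agent.Lib.Helper26.LimIso

/-- An isomorphism over a stage induces an isomorphism of the base changes to the limit. -/
theorem exists_iso_of_stage {S Sj Xj Yj X Y : Scheme.{u}} {π : S ⟶ Sj} {aj : Xj ⟶ Sj}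
    {bj : Yj ⟶ Sj} {a : X ⟶ S} {b : Y ⟶ S} {rX : X ⟶ Xj} {rY : Y ⟶ Yj}
    (hX : IsPullback rX a aj π) (hY : IsPullback rY b bj π) (ej : Xj ≅ Yj)
    (hej : ej.hom ≫ bj = aj) : ∃ e : X ≅ Y, e.hom ≫ b = a := by
  have hej' : ej.inv ≫ aj = bj := by rw [← hej, Iso.inv_hom_id_assoc]
  refine ⟨⟨hY.lift (rX ≫ ej.hom) a (by rw [Category.assoc, hej, hX.w]),
    hX.lift (rY ≫ ej.inv) b (by rw [Category.assoc, hej', hY.w]), ?_, ?_⟩, hY.lift_snd _ _ _⟩
  · apply hX.hom_ext
    · rw [Category.assoc, hX.lift_fst, hY.lift_fst_assoc, Category.assoc, Iso.hom_inv_id,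
        Category.comp_id, Category.id_comp]
    · rw [Category.assoc, hX.lift_snd, hY.lift_snd, Category.id_comp]
  · apply hY.hom_ext
    · rw [Category.assoc, hY.lift_fst, hX.lift_fst_assoc, Category.assoc, Iso.inv_hom_id,
        Category.comp_id, Category.id_comp]
    · rw [Category.assoc, hY.lift_snd, hX.lift_snd, Category.id_comp]

/-- Let S = lim S_i be a cofiltered limit of schemes with affine transition maps and S_{i₀} a
quasi-compact quasi-separated stage; let X₀ and Y₀ be schemes of finite presentation over S_{i₀},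
and let X, Y be their base changes along S ⟶ S_{i₀} (base changes are expressed by pullback
squares). Then X and Y are isomorphic over S if and only if, for some index j over i₀, the base
changes X_j and Y_j of X₀ and Y₀ along S_j ⟶ S_{i₀} are isomorphic over S_j. -/
theorem result {I : Type u} [SmallCategory I] [IsCofiltered I]
    (D : I ⥤ Scheme.{u}) (c : Limits.Cone D) (hc : Limits.IsLimit c)
    [∀ (i j : I) (f : i ⟶ j), IsAffineHom (D.map f)] (i₀ : I)
    [CompactSpace (D.obj i₀)] [QuasiSeparatedSpace (D.obj i₀)]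
    {X₀ Y₀ : Scheme.{u}} (a₀ : X₀ ⟶ D.obj i₀) (b₀ : Y₀ ⟶ D.obj i₀)
    [LocallyOfFinitePresentation a₀] [QuasiCompact a₀] [QuasiSeparated a₀]
    [LocallyOfFinitePresentation b₀] [QuasiCompact b₀] [QuasiSeparated b₀]
    {X Y : Scheme.{u}} (a : X ⟶ c.pt) (b : Y ⟶ c.pt) (qX : X ⟶ X₀) (qY : Y ⟶ Y₀)
    (hX : IsPullback qX a a₀ (c.π.app i₀)) (hY : IsPullback qY b b₀ (c.π.app i₀)) :
    (∃ e : X ≅ Y, e.hom ≫ b = a) ↔
      ∃ (j : I) (φ : j ⟶ i₀) (Xj Yj : Scheme.{u}) (aj : Xj ⟶ D.obj j) (bj : Yj ⟶ D.obj j)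
        (pX : Xj ⟶ X₀) (pY : Yj ⟶ Y₀), IsPullback pX aj a₀ (D.map φ) ∧ IsPullback pY bj b₀ (D.map φ) ∧
        ∃ e : Xj ≅ Yj, e.hom ≫ bj = aj := by
  have inst : ∀ {i j : I} (f : i ⟶ j), IsAffineHom (D.map f) := fun f => inferInstance
  constructor
  · rintro ⟨e, he⟩
    obtain ⟨k, ek, hiso, hek, -⟩ := exists_iso_stage D hc i₀ a₀ b₀ hX hY e.hom he
    exact ⟨k.left, k.hom, _, _, dSnd D i₀ a₀ k, dSnd D i₀ b₀ k, dFst D i₀ a₀ k, dFst D i₀ b₀ k,
      isPullback_d D i₀ a₀ k, isPullback_d D i₀ b₀ k, asIso ek, hek⟩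
  · rintro ⟨j, φ, Xj, Yj, aj, bj, pX, pY, hpX, hpY, ej, hej⟩
    have hXj : IsPullback (hpX.lift qX (a ≫ c.π.app j) (by rw [Category.assoc, c.w, hX.w]))
        a aj (c.π.app j) := by
      refine IsPullback.of_right ?_ (hpX.lift_snd _ _ _) hpX
      rw [hpX.lift_fst, c.w]
      exact hX
    have hYj : IsPullback (hpY.lift qY (b ≫ c.π.app j) (by rw [Category.assoc, c.w, hY.w]))
        b bj (c.π.app j) := by
      refine IsPullback.of_right ?_ (hpY.lift_snd _ _ _) hpY
      rw [hpY.lift_fst, c.w]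
      exact hY
    exact exists_iso_of_stage hXj hYj ej hej

end Groth.Agent.S4795
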