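import Groth.Statements.S4796
import Mathlib
import Groth.Agent.Lib.Helper13ConsExL
-- import your own Groth.Agent.* helpers here

set_option autoImplicit false
universe u
open TensorProduct
open Cons9

namespace Groth.Agent.S4796

/-- Let R be a commutative ring, B an R-algebra of finite presentation, F, G, H three B-modules of
finite presentation and u : F → G, v : G → H homomorphisms of B-modules. Then the set of prime
ideals p of R for which the sequence of fibres κ(p) ⊗_R F → κ(p) ⊗_R G → κ(p) ⊗_R H is exact is a
constructible subset of Spec R. Affine form: S = Spec R, X = Spec B with B a finitely presented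
R-algebra, the modules finitely presented B-modules, and the fibre of a module M at a prime p taken
as κ(p) ⊗_R M; the published statement, for a morphism of finite presentation and quasi-coherent
modules of finite presentation, is local on S and on X and reduces to this one. -/
theorem result {R B : Type u} [CommRing R] [CommRing B] [Algebra R B] [Algebra.FinitePresentation R B]
    {F G H : Type u} [AddCommGroup F] [Module B F] [Module R F] [IsScalarTower R B F] [Module.FinitePresentation B F]
    [AddCommGroup G] [Module B G] [Module R G] [IsScalarTower R B G] [Module.FinitePresentation B G]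
    [AddCommGroup H] [Module B H] [Module R H] [IsScalarTower R B H] [Module.FinitePresentation B H]
    (u : F →ₗ[B] G) (v : G →ₗ[B] H) :
    Topology.IsConstructible {p : PrimeSpectrum R |
      Function.Exact ((u.restrictScalars R).baseChange p.asIdeal.ResidueField) ((v.restrictScalars R).baseChange p.asIdeal.ResidueField)} := by
  classical
  obtain ⟨n, f, hf, hker⟩ := Algebra.FinitePresentation.out (R := R) (A := B)
  letI : Algebra (MvPolynomial (Fin n) R) B := f.toRingHom.toAlgebra
  haveI : IsScalarTower R (MvPolynomial (Fin n) R) B :=
    .of_algebraMap_eq' f.comp_algebraMap.symm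
  haveI : Module.FinitePresentation (MvPolynomial (Fin n) R) B :=
    Module.finitePresentation_of_surjective (Algebra.linearMap (MvPolynomial (Fin n) R) B) hf
      hker
  letI mF : Module (MvPolynomial (Fin n) R) F := Module.compHom F f.toRingHom
  haveI tF : IsScalarTower (MvPolynomial (Fin n) R) B F :=
    ⟨fun p s m => by
      change (f p * s) • m = f p • (s • m)
      rw [mul_smul]⟩
  haveI tF' : IsScalarTower R (MvPolynomial (Fin n) R) F :=
    ⟨fun r p m => by
      change f (r • p) • m = r • (f p • m)
      rw [map_smul, smul_assoc]⟩
  haveI : Module.FinitePresentation (MvPolynomial (Fin n) R) F :=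
    Module.FinitePresentation.trans (MvPolynomial (Fin n) R) F B
  letI mG : Module (MvPolynomial (Fin n) R) G := Module.compHom G f.toRingHom
  haveI tG : IsScalarTower (MvPolynomial (Fin n) R) B G :=
    ⟨fun p s m => by
      change (f p * s) • m = f p • (s • m)
      rw [mul_smul]⟩
  haveI tG' : IsScalarTower R (MvPolynomial (Fin n) R) G :=
    ⟨fun r p m => by
      change f (r • p) • m = r • (f p • m)
      rw [map_smul, smul_assoc]⟩
  haveI : Module.FinitePresentation (MvPolynomial (Fin n) R) G :=
    Module.FinitePresentation.trans (MvPolynomial (Fin n) R) G B
  letI mH : Module (MvPolynomial (Fin n) R) H := Module.compHom H f.toRingHom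
  haveI tH : IsScalarTower (MvPolynomial (Fin n) R) B H :=
    ⟨fun p s m => by
      change (f p * s) • m = f p • (s • m)
      rw [mul_smul]⟩
  haveI tH' : IsScalarTower R (MvPolynomial (Fin n) R) H :=
    ⟨fun r p m => by
      change f (r • p) • m = r • (f p • m)
      rw [map_smul, smul_assoc]⟩
  haveI : Module.FinitePresentation (MvPolynomial (Fin n) R) H :=
    Module.FinitePresentation.trans (MvPolynomial (Fin n) R) H B
  exact Groth.Agent.Helper13ConsEx.isConstructible_poly
    (u.restrictScalars (MvPolynomial (Fin n) R)) (v.restrictScalars (MvPolynomial (Fin n) R))

end Groth.Agent.S4796
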