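import Groth.Statements.S4797
-- import your own Groth.Agent.* helpers here
import Mathlib
import Groth.Agent.Lib.Helper26ModLim

set_option autoImplicit false
universe u
open CategoryTheory AlgebraicGeometry
open Lim8

namespace Groth.Agent.S4797

open Limits

instance pullback_additive {X Y : Scheme.{u}} (f : X ⟶ Y) : (Scheme.Modules.pullback f).Additive :=
  (Scheme.Modules.pullbackPushforwardAdjunction f).left_adjoint_additive

/-- if two morphisms agree after pullback along `g`, they agree after pullback along `f ≫ g`. -/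
theorem pullback_map_eq_of_comp {X Y Z : Scheme.{u}} (f : X ⟶ Y) (g : Y ⟶ Z) (p : X ⟶ Z)
    (e : f ≫ g = p) {F G : Z.Modules} (a b : F ⟶ G)
    (h : (Scheme.Modules.pullback g).map a = (Scheme.Modules.pullback g).map b) :
    (Scheme.Modules.pullback p).map a = (Scheme.Modules.pullback p).map b := by
  subst e
  have h1 := (Scheme.Modules.pullbackComp f g).hom.naturality a
  have h2 := (Scheme.Modules.pullbackComp f g).hom.naturality b
  rw [← cancel_epi ((Scheme.Modules.pullbackComp f g).hom.app F), ← h1, ← h2]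
  simp only [Functor.comp_map, h]

/-- Let S = lim S_i be a cofiltered limit of schemes with affine transition maps and S_{i₀} a
quasi-compact stage; let F₀ be a quasi-coherent O-module of finite type and G₀ a quasi-coherent
O-module on S_{i₀}, and φ₀, ψ₀ : F₀ ⟶ G₀ two homomorphisms. Then the pullbacks of φ₀ and ψ₀ along S
⟶ S_{i₀} are equal if and only if, for some index j over i₀, their pullbacks along S_j ⟶ S_{i₀} are
equal. This is the injectivity of the canonical map colim Hom(F_λ, G_λ) → Hom(F, G). -/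
theorem result {I : Type u} [SmallCategory I] [IsCofiltered I]
    (D : I ⥤ Scheme.{u}) (c : Limits.Cone D) (hc : Limits.IsLimit c)
    [∀ (i j : I) (f : i ⟶ j), IsAffineHom (D.map f)] (i₀ : I) [CompactSpace (D.obj i₀)]
    {F₀ G₀ : (D.obj i₀).Modules} [Coh.IsQCoh F₀] (hF₀ft : CohB1.IsFT F₀) [Coh.IsQCoh G₀]
    (φ₀ ψ₀ : F₀ ⟶ G₀) :
    (Scheme.Modules.pullback (c.π.app i₀)).map φ₀ = (Scheme.Modules.pullback (c.π.app i₀)).map ψ₀ ↔
      ∃ (j : I) (φ : j ⟶ i₀),
        (Scheme.Modules.pullback (D.map φ)).map φ₀ = (Scheme.Modules.pullback (D.map φ)).map ψ₀ := by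
  constructor
  · intro h
    have h0 : (Scheme.Modules.pullback (c.π.app i₀)).map (φ₀ - ψ₀) = 0 := by
      rw [Functor.map_sub, h, sub_self]
    obtain ⟨j, φ, hj⟩ := Groth.Agent.Lib.Helper26.ModLim.exists_pullback_map_eq_zero D c hc i₀
      hF₀ft (φ₀ - ψ₀) h0
    refine ⟨j, φ, ?_⟩
    rw [Functor.map_sub, sub_eq_zero] at hj
    exact hj
  · rintro ⟨j, φ, h⟩
    exact pullback_map_eq_of_comp (c.π.app j) (D.map φ) (c.π.app i₀) (c.w φ) φ₀ ψ₀ h

end Groth.Agent.S4797
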