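import Groth.Statements.S4800
-- import your own Groth.Agent.* helpers here
import Mathlib
import Groth.Agent.Lib.Helper26LimFP4
import Groth.Agent.Lib.Helper2Constr
import Groth.Agent.Lib.Helper2QuasiFlat
import Groth.Agent.Lib.Helper7LimFlat

set_option autoImplicit false
universe u
open CategoryTheory AlgebraicGeometry
open Lim8

namespace Groth.Agent.S4800

open Limits Groth.Agent.Lib.Helper22.LimBC Groth.Agent.Lib.Helper26.LimFP Topology

/-- Let S = lim S_i be a cofiltered limit of schemes whose transition maps are affine and flat, and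
S_{i₀} a quasi-compact stage; let X₀ ⟶ S_{i₀} be quasi-compact, Y₀ ⟶ S_{i₀} quasi-compact and
quasi-separated, and f₀ : X₀ ⟶ Y₀ a morphism over S_{i₀} such that the closure of its image f₀(X₀)
is a constructible subset of Y₀. Let f : X ⟶ Y be the base change of f₀ along S ⟶ S_{i₀} (base
changes are expressed by pullback squares). Then f is dominant if and only if, for some index j over
i₀ and the base change f_j : X_j ⟶ Y_j of f₀ along S_j ⟶ S_{i₀}, f_j is dominant. (The published
statement asks instead that the image f₀(X₀) itself be constructible, which is not enough: let R be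
the ring of locally constant functions from the Cantor set to a field, take for stages the spectra
of the rings of locally constant functions on the clopen neighbourhoods of a point p, so that the
limit is the spectrum of the residue field at p, and take Y₀ = Spec R[t]/(m_p t) and X₀ its basic
open subset where t is invertible; the image of X₀ is constructible, the limit morphism is the
inclusion of the punctured affine line into the affine line, which is dominant, and no stage
morphism is dominant. The published proof applies the criterion for a preimage to lie in the closure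
of the preimage of a pro-constructible subset along a flat limit, whose hypothesis is that the
closure of that subset is constructible; the image f₀(X₀) is pro-constructible because f₀ is
quasi-compact, so constructibility of its closure is the hypothesis taken here.) -/
theorem result {I : Type u} [SmallCategory I] [IsCofiltered I]
    (D : I ⥤ Scheme.{u}) (c : Limits.Cone D) (hc : Limits.IsLimit c)
    [∀ (i j : I) (f : i ⟶ j), IsAffineHom (D.map f)] (i₀ : I) [CompactSpace (D.obj i₀)]
    (hfl : ∀ (i j : I) (φ : i ⟶ j), Flat (D.map φ))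
    {X₀ Y₀ : Scheme.{u}} (f₀ : X₀ ⟶ Y₀) (g₀ : Y₀ ⟶ D.obj i₀)
    [QuasiCompact (f₀ ≫ g₀)] [QuasiCompact g₀] [QuasiSeparated g₀]
    (hcl : Topology.IsConstructible (closure (Set.range ⇑f₀)))
    {X Y : Scheme.{u}} (f : X ⟶ Y) (g : Y ⟶ c.pt) (qY : Y ⟶ Y₀) (qX : X ⟶ X₀)
    (hY : IsPullback qY g g₀ (c.π.app i₀)) (hX : IsPullback qX f f₀ qY) :
    IsDominant f ↔ ∃ (j : I) (φ : j ⟶ i₀) (Xj Yj : Scheme.{u}) (fj : Xj ⟶ Yj) (gj : Yj ⟶ D.obj j)
      (pY : Yj ⟶ Y₀) (pX : Xj ⟶ X₀), IsPullback pY gj g₀ (D.map φ) ∧ IsPullback pX fj f₀ pY ∧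
      IsDominant fj := by
  have inst : ∀ {i j : I} (f : i ⟶ j), IsAffineHom (D.map f) := fun f => inferInstance
  have hf₀qc : QuasiCompact f₀ := QuasiCompact.of_comp f₀ g₀
  constructor
  · intro hdom
    let U₀ : Y₀.Opens := ⟨(closure (Set.range f₀))ᶜ, isClosed_closure.isOpen_compl⟩
    have hU₀r : IsRetrocompact (U₀ : Set Y₀) :=
      Groth.Agent.Lib.Helper2.Constr.isRetrocompact_of_isConstructible
        (isConstructible_compl.mpr hcl)
    have : QuasiCompact U₀.ι := quasiCompact_iff_isSpectralMap.mpr
      (IsRetrocompact_iff_isSpectralMap_subtypeVal.mp hU₀r)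
    have : CompactSpace Y₀ := QuasiCompact.compactSpace_of_compactSpace g₀
    have : CompactSpace U₀ := QuasiCompact.compactSpace_of_compactSpace U₀.ι
    have hP : IsPullback (pullback.fst (U₀.ι ≫ g₀) (c.π.app i₀)) (pullback.snd _ _)
        (U₀.ι ≫ g₀) (c.π.app i₀) := IsPullback.of_hasPullback _ _
    have hempty : IsEmpty ↥(pullback (U₀.ι ≫ g₀) (c.π.app i₀)) := by
      constructor
      intro p
      let y : Y := (hY.lift (pullback.fst _ _ ≫ U₀.ι) (pullback.snd _ _)
        (by rw [Category.assoc]; exact pullback.condition)) p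
      have hy : qY y = U₀.ι (pullback.fst (U₀.ι ≫ g₀) (c.π.app i₀) p) := by
        rw [← Scheme.Hom.comp_apply, ← Scheme.Hom.comp_apply, hY.lift_fst]
      have hsub : closure (Set.range f) ⊆ qY ⁻¹' closure (Set.range f₀) := by
        apply closure_minimal _ (isClosed_closure.preimage qY.continuous)
        rintro _ ⟨x, rfl⟩
        apply subset_closure
        exact ⟨qX x, by rw [← Scheme.Hom.comp_apply, hX.w, Scheme.Hom.comp_apply]⟩
      have h2 : y ∈ closure (Set.range f) := f.denseRange y
      have h3 := hsub h2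
      have h4 : U₀.ι (pullback.fst (U₀.ι ≫ g₀) (c.π.app i₀) p) ∈ (U₀ : Set Y₀) :=
        (pullback.fst (U₀.ι ≫ g₀) (c.π.app i₀) p).2
      exact h4 (hy ▸ h3)
    obtain ⟨j, hj⟩ : ∃ j : Over i₀, IsEmpty ((bcDiagram D i₀ (U₀.ι ≫ g₀)).obj j) := by
      by_contra hne
      push Not at hne
      have : ∀ j, Nonempty ((bcDiagram D i₀ (U₀.ι ≫ g₀)).obj j) := hne
      have := Scheme.nonempty_of_isLimit (bcDiagram D i₀ (U₀.ι ≫ g₀)) (bcCone i₀ hP)
        (isLimitBcCone i₀ hP hc)
      exact (not_isEmpty_iff.mpr this) hempty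
    refine ⟨j.left, j.hom, pullback f₀ (pullback.fst g₀ (D.map j.hom)), pullback g₀ (D.map j.hom),
      pullback.snd _ _, pullback.snd _ _, pullback.fst _ _, pullback.fst _ _,
      IsPullback.of_hasPullback _ _, IsPullback.of_hasPullback _ _, ?_⟩
    have hflat : Flat (pullback.fst g₀ (D.map j.hom)) :=
      MorphismProperty.of_isPullback (IsPullback.of_hasPullback g₀ (D.map j.hom)).flip (hfl _ _ _)
    have key := Groth.Agent.Lib.Helper2.QuasiFlat.preimage_closure_range_eq
      (pullback.fst g₀ (D.map j.hom)) (Flat.generalizingMap _) f₀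
    have hr : Set.range (pullback.snd f₀ (pullback.fst g₀ (D.map j.hom))) =
        (pullback.fst g₀ (D.map j.hom)) ⁻¹' Set.range f₀ :=
      range_of_isPullback (IsPullback.of_hasPullback _ _)
    have hj' : IsEmpty ↥(pullback (U₀.ι ≫ g₀) (D.map j.hom)) := hj
    rw [Scheme.isEmpty_pullback_iff, Set.disjoint_left] at hj'
    constructor
    rw [DenseRange, dense_iff_closure_eq, hr]
    refine Eq.trans key.symm ?_
    rw [Set.eq_univ_iff_forall]
    intro y
    by_contra hy
    have hy' : (pullback.fst g₀ (D.map j.hom)) y ∈ (U₀ : Set Y₀) := hy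
    apply hj' (a := g₀ ((pullback.fst g₀ (D.map j.hom)) y))
    · exact ⟨⟨_, hy'⟩, rfl⟩
    · exact ⟨pullback.snd g₀ (D.map j.hom) y, by
        rw [← Scheme.Hom.comp_apply, ← Scheme.Hom.comp_apply, pullback.condition]⟩
  · rintro ⟨j, φ, Xj, Yj, fj, gj, pY, pX, hpY, hpX, hdomj⟩
    let vY : Y ⟶ Yj := hpY.lift qY (g ≫ c.π.app j) (by rw [hY.w, Category.assoc, c.w])
    have hvY1 : vY ≫ pY = qY := hpY.lift_fst _ _ _
    have hvY2 : vY ≫ gj = g ≫ c.π.app j := hpY.lift_snd _ _ _
    have sqY : IsPullback vY g gj (c.π.app j) := by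
      apply IsPullback.of_right _ hvY2 hpY
      rw [hvY1, c.w]; exact hY
    have hflatπ : Flat (c.π.app j) :=
      Groth.Agent.Lib.Helper7.flat_π_app D c hc j (fun k ψ => hfl _ _ ψ)
    have hflat : Flat vY := MorphismProperty.of_isPullback sqY.flip hflatπ
    let vX : X ⟶ Xj := hpX.lift qX (f ≫ vY) (by rw [hX.w, Category.assoc, hvY1])
    have hvX1 : vX ≫ pX = qX := hpX.lift_fst _ _ _
    have hvX2 : vX ≫ fj = f ≫ vY := hpX.lift_snd _ _ _
    have sqX : IsPullback vX f fj vY := by
      apply IsPullback.of_right _ hvX2 hpX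
      rw [hvX1, hvY1]; exact hX
    have : QuasiCompact fj := MorphismProperty.of_isPullback hpX hf₀qc
    have key := Groth.Agent.Lib.Helper2.QuasiFlat.preimage_closure_range_eq vY
      (Flat.generalizingMap vY) fj
    have hr : Set.range f = vY ⁻¹' Set.range fj := range_of_isPullback sqX
    constructor
    rw [DenseRange, dense_iff_closure_eq, hr]
    refine Eq.trans key.symm ?_
    rw [fj.denseRange.closure_eq, Set.preimage_univ]

end Groth.Agent.S4800
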