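import Groth.Statements.S4803
import Groth.Agent.Lib.Helper3IndCons
import Groth.Agent.Lib.Helper12QuasiAffineLocal
import Groth.Agent.S2592
import Groth.Agent.S2339
import Groth.Agent.S1127
import Mathlib

set_option autoImplicit false
open CategoryTheory AlgebraicGeometry
universe u
open Cons9

namespace Groth.Agent.S4803

/-- quasi-affine morphisms as a morphism property. -/
abbrev QA : MorphismProperty Scheme.{u} := fun _ _ f => Mor2.IsQuasiAffine f

instance : (QA.{u}).RespectsIso := by
  apply MorphismProperty.RespectsIso.mk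
  · intro X' X Y e f hf
    refine ⟨?_, fun V hV => ?_⟩
    · haveI := hf.1
      infer_instance
    · haveI := hf.2 V hV
      have hr : IsAffineHom (e.hom ∣_ (f ⁻¹ᵁ V)) :=
        IsZariskiLocalAtTarget.restrict (P := @IsAffineHom) inferInstance _
      have key : Scheme.IsQuasiAffine (e.hom ⁻¹ᵁ (f ⁻¹ᵁ V) : Scheme.{u}) :=
        @Scheme.IsQuasiAffine.of_isAffineHom _ _ (e.hom ∣_ (f ⁻¹ᵁ V)) hr _
      exact key
  · intro X Y Y' e f hf
    refine ⟨?_, fun V hV => ?_⟩
    · haveI := hf.1
      infer_instance
    · exact hf.2 (e.hom ⁻¹ᵁ V) (hV.preimage_of_isIso e.hom)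

instance : (QA.{u}).IsStableUnderBaseChange := by
  apply MorphismProperty.IsStableUnderBaseChange.mk'
  intro X Y S f g _ hg
  have h1 : QA (Limits.pullback.snd g f) := Groth.Agent.S2339.result g hg f
  have h2 : Limits.pullback.fst f g = (Limits.pullbackSymmetry f g).hom ≫ Limits.pullback.snd g f := by
    simp
  rw [h2]
  exact (MorphismProperty.cancel_left_of_respectsIso QA _ _).mpr h1

theorem limDescends_QA : Groth.Agent.Lib.Helper3.IndCons.LimDescends QA.{u} := by
  intro I _ _ D c hc _ i₀ _ _ X₀ Y₀ f₀ g₀ _ _ _ _ _ _ X Y f g qY qX hY hX hf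
  exact Groth.Agent.S2592.result D c hc i₀ f₀ g₀ f g qY qX hY hX hf

open CategoryTheory.Limits in

open CategoryTheory.Limits in
/-- Let g : Y ⟶ S and f : X ⟶ Y be such that X and Y are of finite presentation over S (locally of
finite presentation, quasi-compact and quasi-separated). For each point s of S let f_s be the
induced morphism from the fibre of f ≫ g over s to the fibre of g over s. Then the set of s for
which f_s is a quasi-affine morphism is ind-constructible in S. -/
theorem result {X Y S : Scheme.{u}} (f : X ⟶ Y) (g : Y ⟶ S)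
    [LocallyOfFinitePresentation g] [QuasiCompact g] [QuasiSeparated g]
    [LocallyOfFinitePresentation (f ≫ g)] [QuasiCompact (f ≫ g)] [QuasiSeparated (f ≫ g)] :
    ProCons.IsIndConstructible {s : S |
      MoreMor.IsQuasiAffineHom (pullback.lift (pullback.fst (f ≫ g) (S.fromSpecResidueField s) ≫ f) (pullback.snd (f ≫ g) (S.fromSpecResidueField s))
          ((Category.assoc _ _ _).trans pullback.condition) :
        pullback (f ≫ g) (S.fromSpecResidueField s) ⟶ pullback g (S.fromSpecResidueField s))} := by
  haveI : (QA.{u}).DescendsAlong (@Surjective ⊓ @Flat ⊓ @QuasiCompact) :=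
    Groth.Agent.S1127.result.{u}
  exact Groth.Agent.Lib.Helper3.IndCons.isIndConstructible_setOf_baseMap
    QA.{u} limDescends_QA f g

end Groth.Agent.S4803
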