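import Groth.Statements.S4804
import Mathlib
import Groth.Agent.Lib.Helper22LimSep

set_option autoImplicit false
universe u
open CategoryTheory AlgebraicGeometry
open Lim8

namespace Groth.Agent.S4804

open CategoryTheory CategoryTheory.Limits AlgebraicGeometry TopologicalSpace
open Groth.Agent.Lib.Helper22.LimBC Groth.Agent.Lib.Helper22.LimSep

set_option backward.isDefEq.respectTransparency.types false in

/-- Let S = lim S_i be a cofiltered limit of schemes with affine transition maps, let f₀ : X₀ ⟶ Y₀ be a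
morphism of schemes over a stage S_{i₀}, with Y₀ quasi-compact and f₀ of finite type and
quasi-separated, and let f : X ⟶ Y be the base change of f₀ along S ⟶ S_{i₀} (base changes are
expressed by pullback squares). Then f is separated if and only if, for some index j over i₀, the
base change f_j : X_j ⟶ Y_j of f₀ along S_j ⟶ S_{i₀} is separated. -/
theorem result {I : Type u} [SmallCategory I] [IsCofiltered I]
    (D : I ⥤ Scheme.{u}) (c : Limits.Cone D) (hc : Limits.IsLimit c)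
    [∀ (i j : I) (f : i ⟶ j), IsAffineHom (D.map f)] (i₀ : I)
    {X₀ Y₀ : Scheme.{u}} (f₀ : X₀ ⟶ Y₀) (g₀ : Y₀ ⟶ D.obj i₀) [CompactSpace Y₀]
    [LocallyOfFiniteType f₀] [QuasiCompact f₀] [QuasiSeparated f₀]
    {X Y : Scheme.{u}} (f : X ⟶ Y) (g : Y ⟶ c.pt) (qY : Y ⟶ Y₀) (qX : X ⟶ X₀)
    (hY : IsPullback qY g g₀ (c.π.app i₀)) (hX : IsPullback qX f f₀ qY) :
    IsSeparated f ↔
      ∃ (j : I) (φ : j ⟶ i₀) (Xj Yj : Scheme.{u}) (fj : Xj ⟶ Yj) (gj : Yj ⟶ D.obj j) (pY : Yj ⟶ Y₀)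
        (pX : Xj ⟶ X₀), IsPullback pY gj g₀ (D.map φ) ∧ IsPullback pX fj f₀ pY ∧ IsSeparated fj := by
  constructor
  · intro hsep
    have hcX : CompactSpace X₀ := QuasiCompact.compactSpace_of_compactSpace f₀
    have hqc' : QuasiCompact (pullback.fst f₀ f₀) :=
      MorphismProperty.pullback_fst (P := @QuasiCompact) f₀ f₀ inferInstance
    have hcp : CompactSpace ↥(pullback f₀ f₀) :=
      QuasiCompact.compactSpace_of_compactSpace (pullback.fst f₀ f₀)
    have hdq : QuasiCompact (pullback.diagonal f₀) := inferInstance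
    obtain ⟨k, hk⟩ := exists_isSeparated_bcMor D c hc i₀ f₀ g₀ hY hX
    exact ⟨k.left, k.hom, _, _, bcMor D i₀ f₀ g₀ k, dSnd D i₀ g₀ k, dFst D i₀ g₀ k,
      dFst D i₀ (f₀ ≫ g₀) k, isPullback_d D i₀ g₀ k, isPullback_bcMor D i₀ f₀ g₀ k, hk⟩
  · rintro ⟨j, φ, Xj, Yj, fj, gj, pY, pX, hYj, hXj, hsep⟩
    have hw : qY ≫ g₀ = (g ≫ c.π.app j) ≫ D.map φ := by
      rw [Category.assoc, c.w, hY.w]
    let u : Y ⟶ Yj := hYj.lift qY (g ≫ c.π.app j) hw
    have hu : u ≫ pY = qY := hYj.lift_fst _ _ _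
    have hw' : qX ≫ f₀ = (f ≫ u) ≫ pY := by
      rw [Category.assoc, hu, hX.w]
    let v : X ⟶ Xj := hXj.lift qX (f ≫ u) hw'
    have hv : v ≫ pX = qX := hXj.lift_fst _ _ _
    have hv' : v ≫ fj = f ≫ u := hXj.lift_snd _ _ _
    have s : IsPullback (v ≫ pX) f f₀ (u ≫ pY) := by
      rw [hv, hu]; exact hX
    have hpb : IsPullback v f fj u := IsPullback.of_right s hv' hXj
    exact MorphismProperty.of_isPullback (P := @IsSeparated) hpb hsep

end Groth.Agent.S4804
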