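import Groth.Statements.S4807
import Groth.Agent.Lib.Helper22ZmtFinE

set_option autoImplicit false
universe u
open CategoryTheory AlgebraicGeometry
open Lim8

namespace Groth.Agent.S4807

/-- Let Y be a quasi-compact quasi-separated scheme and f : X ⟶ Y a separated morphism of finite type.
Let X' be the relative normalization of Y in X, the spectrum of the integral closure of O_Y in
f_*O_X, with its canonical morphism g : X ⟶ X'. Then f admits a factorization X ⟶ Y' ⟶ Y into an
immersion followed by a finite morphism if and only if g is an immersion. -/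
theorem result {X Y : Scheme.{u}} (f : X ⟶ Y)
    [CompactSpace Y] [QuasiSeparatedSpace Y] [IsSeparated f] [LocallyOfFiniteType f] [QuasiCompact f] :
    (∃ (Y' : Scheme.{u}) (f' : X ⟶ Y') (u : Y' ⟶ Y), IsImmersion f' ∧ IsFinite u ∧ f' ≫ u = f) ↔
      IsImmersion f.toNormalization := by
  constructor
  · rintro ⟨Y', f', u, hf', hu, hfac⟩
    haveI := hu
    haveI : IsImmersion (f.toNormalization ≫ f.normalizationDesc f' u hfac.symm) := by
      rw [Scheme.Hom.toNormalization_normalizationDesc]; exact hf'
    exact IsImmersion.of_comp f.toNormalization (f.normalizationDesc f' u hfac.symm)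
  · intro hν
    haveI := hν
    let ν := f.toNormalization
    haveI : QuasiCompact (ν.toImage ≫ ν.imageι) := by
      rw [Scheme.Hom.toImage_imageι]; infer_instance
    haveI : QuasiCompact ν.toImage := QuasiCompact.of_comp ν.toImage ν.imageι
    let π' := ν.imageι ≫ f.fromNormalization
    have hfac : ν.toImage ≫ π' = f := by
      simp only [π', ν]
      rw [← Category.assoc, Scheme.Hom.toImage_imageι, f.toNormalization_fromNormalization]
    haveI : LocallyOfFiniteType (ν.toImage ≫ π') := by rw [hfac]; infer_instance
    obtain ⟨T, τ, p, hfin, h, hoi, hqc⟩ :=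
      Groth.Agent.Lib.Helper22.ZmtFin.exists_finite_factorization ν.toImage π'
    haveI := hoi
    exact ⟨T, ν.toImage ≫ τ, p, inferInstance, hfin, by rw [Category.assoc, h, hfac]⟩

end Groth.Agent.S4807
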