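import Groth.Statements.S5094
import Mathlib

set_option autoImplicit false
universe u
open CategoryTheory CategoryTheory.Limits AlgebraicGeometry TopologicalSpace
open Lim8

namespace Groth.Agent.S5094


/-- An element of `Ox` integral over `Oy` lies in the image, when `Oy` is integrally closed with
fraction field `K'`, `Ox ↪ KX`, and `K' ≃ KX` compatibly. -/
lemma mem_range_of_isIntegralElem {Oy Ox K' KX : Type*} [CommRing Oy] [CommRing Ox] [CommRing K']
    [CommRing KX] [IsDomain Oy] [IsIntegrallyClosed Oy] [Algebra Oy K'] [IsFractionRing Oy K']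
    (φ : Oy →+* Ox) (ιx : Ox →+* KX) (hιx : Function.Injective ιx) (κ : K' →+* KX)
    (hκ : Function.Bijective κ) (hsq : ιx.comp φ = κ.comp (algebraMap Oy K'))
    (z : Ox) (hz : φ.IsIntegralElem z) : z ∈ φ.range := by
  obtain ⟨p, hp, hpz⟩ := hz
  let e := RingEquiv.ofBijective κ hκ
  let w : K' := e.symm (ιx z)
  have hw : κ w = ιx z := e.apply_symm_apply _
  have h1 : Polynomial.eval₂ (algebraMap Oy K') w p = 0 := by
    apply hκ.1
    rw [Polynomial.hom_eval₂, ← hsq, hw, map_zero, ← Polynomial.hom_eval₂, hpz, map_zero]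
  have h2 : IsIntegral Oy w := ⟨p, hp, h1⟩
  obtain ⟨c, hc⟩ := IsIntegrallyClosed.algebraMap_eq_of_integral h2
  refine ⟨c, hιx ?_⟩
  have : ιx (φ c) = κ (algebraMap Oy K' c) := congrArg (fun g => g c) hsq
  rw [this, hc, hw]

lemma isIntegralElem_map {R S Oy Ox : Type*} [CommRing R] [CommRing S] [CommRing Oy] [CommRing Ox]
    (α : R →+* S) (gR : R →+* Oy) (gS : S →+* Ox) (φ : Oy →+* Ox)
    (hcomm : gS.comp α = φ.comp gR) (s : S) (hs : α.IsIntegralElem s) :
    φ.IsIntegralElem (gS s) := by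
  obtain ⟨p, hp, hps⟩ := hs
  refine ⟨p.map gR, hp.map gR, ?_⟩
  rw [Polynomial.eval₂_map, ← hcomm, ← Polynomial.hom_eval₂, hps, map_zero]

lemma surjective_of_zmp {R S Oy Ox K' KX : Type*} [CommRing R] [CommRing S] [CommRing Oy]
    [CommRing Ox] [CommRing K']
    [CommRing KX] [IsDomain Oy] [IsIntegrallyClosed Oy] [Algebra Oy K'] [IsFractionRing Oy K']
    (φ : Oy →+* Ox) [IsLocalHom φ] (ιx : Ox →+* KX) (hιx : Function.Injective ιx) (κ : K' →+* KX)
    (hκ : Function.Bijective κ) (hsq : ιx.comp φ = κ.comp (algebraMap Oy K'))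
    (α : R →+* S) (gR : R →+* Oy) (gS : S →+* Ox) (hcomm : gS.comp α = φ.comp gR)
    (q : Ideal S) (hloc1 : ∀ s : S, s ∉ q → IsUnit (gS s))
    (hloc2 : ∀ b : Ox, ∃ a s : S, s ∉ q ∧ b * gS s = gS a)
    (hzmp : ∃ r ∉ q, α.IsIntegralElem r ∧ ∀ a, ∃ m : ℕ, α.IsIntegralElem (r ^ m * a)) :
    Function.Surjective φ := by
  obtain ⟨r, hrq, hr, hra⟩ := hzmp
  have key : ∀ z : Ox, φ.IsIntegralElem z → z ∈ φ.range :=
    mem_range_of_isIntegralElem φ ιx hιx κ hκ hsq
  obtain ⟨cr, hcr⟩ := key _ (isIntegralElem_map α gR gS φ hcomm r hr)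
  have hcru : IsUnit cr := by
    apply isUnit_of_map_unit φ
    rw [hcr]; exact hloc1 r hrq
  -- every `gS a` is in the range
  have h1 : ∀ a : S, gS a ∈ φ.range := by
    intro a
    obtain ⟨m, hm⟩ := hra a
    obtain ⟨c, hc⟩ := key _ (isIntegralElem_map α gR gS φ hcomm _ hm)
    obtain ⟨u, hu⟩ := hcru
    refine ⟨c * ((u⁻¹ : Oyˣ) : Oy) ^ m, ?_⟩
    rw [map_mul, hc, map_mul, map_pow, map_pow]
    have h2 : gS r * φ ((u⁻¹ : Oyˣ) : Oy) = 1 := by
      rw [← hcr, ← hu, ← map_mul, Units.mul_inv, map_one]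
    calc gS r ^ m * gS a * φ ((u⁻¹ : Oyˣ) : Oy) ^ m
        = (gS r * φ ((u⁻¹ : Oyˣ) : Oy)) ^ m * gS a := by ring
      _ = gS a := by rw [h2, one_pow, one_mul]
  intro b
  obtain ⟨a, s, hs, hb⟩ := hloc2 b
  obtain ⟨ca, hca⟩ := h1 a
  obtain ⟨cs, hcs⟩ := h1 s
  have hcsu : IsUnit cs := by
    apply isUnit_of_map_unit φ
    rw [hcs]; exact hloc1 s hs
  obtain ⟨v, hv⟩ := hcsu
  refine ⟨ca * ((v⁻¹ : Oyˣ) : Oy), ?_⟩
  have h3 : gS s * φ ((v⁻¹ : Oyˣ) : Oy) = 1 := by
    rw [← hcs, ← hv, ← map_mul, Units.mul_inv, map_one]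
  rw [map_mul, hca, ← hb]
  calc b * gS s * φ ((v⁻¹ : Oyˣ) : Oy) = b * (gS s * φ ((v⁻¹ : Oyˣ) : Oy)) := by ring
    _ = b := by rw [h3, mul_one]


lemma isFractionRing_of_eq (Y : Scheme.{u}) [IsIntegral Y] (y ξ : Y) (hξ : ξ = genericPoint Y)
    (h : ξ ⤳ y) :
    letI := (Y.presheaf.stalkSpecializes h).hom.toAlgebra
    IsFractionRing (Y.presheaf.stalk y) (Y.presheaf.stalk ξ) := by
  subst hξ
  exact (inferInstance : IsFractionRing (Y.presheaf.stalk y) Y.functionField)

set_option maxHeartbeats 1000000 in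
lemma isIso_stalkMap {X Y : Scheme.{u}} [IsIntegral X] [IsIntegral Y] (f : X ⟶ Y)
    [LocallyOfFiniteType f]
    (hgen : f (genericPoint X) = genericPoint Y) (hbir : IsIso (f.stalkMap (genericPoint X)))
    (x : X) (hy : IsIntegrallyClosed (Y.presheaf.stalk (f x))) (hqf : f.QuasiFiniteAt x) :
    IsIso (f.stalkMap x) := by
  obtain ⟨_, ⟨U, hU, rfl⟩, hxU, -⟩ := Y.isBasis_affineOpens.exists_subset_of_mem_open
    (Set.mem_univ (f x)) isOpen_univ
  obtain ⟨_, ⟨V, hV, rfl⟩, hxV, hVU : V ≤ f ⁻¹ᵁ U⟩ :=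
    X.isBasis_affineOpens.exists_subset_of_mem_open hxU (f ⁻¹ᵁ U).2
  have hft : (f.appLE U V hVU).hom.FiniteType := f.finiteType_appLE hU hV hVU
  have hqf' := hqf.quasiFiniteAt hV hU hVU hxV
  algebraize [(f.appLE U V hVU).hom]
  have hqf'' : Algebra.QuasiFiniteAt Γ(Y, U) (hV.primeIdealOf ⟨x, hxV⟩).asIdeal := hqf'
  have hzmp := Algebra.zariskisMainProperty_iff.mp
    (Algebra.ZariskisMainProperty.of_finiteType (R := Γ(Y, U)) (hV.primeIdealOf ⟨x, hxV⟩).asIdeal)
  have hspec : genericPoint X ⤳ x := genericPoint_specializes x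
  have hspec' : f (genericPoint X) ⤳ f x := hspec.map f.continuous
  letI := (Y.presheaf.stalkSpecializes hspec').hom.toAlgebra
  have hfrac : IsFractionRing (Y.presheaf.stalk (f x)) (Y.presheaf.stalk (f (genericPoint X))) :=
    isFractionRing_of_eq Y (f x) _ hgen hspec'
  have hκ : Function.Bijective (f.stalkMap (genericPoint X)).hom :=
    (ConcreteCategory.isIso_iff_bijective _).mp hbir
  have hιx : Function.Injective (X.presheaf.stalkSpecializes hspec).hom :=
    IsFractionRing.injective (X.presheaf.stalk x) X.functionField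
  have hsq : (X.presheaf.stalkSpecializes hspec).hom.comp (f.stalkMap x).hom =
      (f.stalkMap (genericPoint X)).hom.comp
        (algebraMap (Y.presheaf.stalk (f x)) (Y.presheaf.stalk (f (genericPoint X)))) := by
    have := f.stalkSpecializes_stalkMap _ _ hspec
    exact (congrArg CommRingCat.Hom.hom this).symm
  have hcomm : (X.presheaf.germ V x hxV).hom.comp (f.appLE U V hVU).hom =
      (f.stalkMap x).hom.comp (Y.presheaf.germ U (f x) hxU).hom := by
    rw [← CommRingCat.hom_comp, ← CommRingCat.hom_comp, f.germ_stalkMap,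
      ← X.presheaf.germ_res (homOfLE hVU) _ hxV, Scheme.Hom.app_eq_appLE,
      Scheme.Hom.appLE_map_assoc]
  have hloc := hV.isLocalization_stalk ⟨x, hxV⟩
  let _ := X.presheaf.algebra_section_stalk (U := V) ⟨x, hxV⟩
  have hloc1 : ∀ s : Γ(X, V), s ∉ (hV.primeIdealOf ⟨x, hxV⟩).asIdeal →
      IsUnit ((X.presheaf.germ V x hxV).hom s) := fun s hs =>
    IsLocalization.map_units (M := (hV.primeIdealOf ⟨x, hxV⟩).asIdeal.primeCompl)
      (X.presheaf.stalk x) ⟨s, hs⟩
  have hloc2 : ∀ b : X.presheaf.stalk x, ∃ a s : Γ(X, V),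
      s ∉ (hV.primeIdealOf ⟨x, hxV⟩).asIdeal ∧
        b * (X.presheaf.germ V x hxV).hom s = (X.presheaf.germ V x hxV).hom a := fun b => by
    obtain ⟨⟨a, s⟩, h⟩ := IsLocalization.surj
      (hV.primeIdealOf ⟨x, hxV⟩).asIdeal.primeCompl b
    exact ⟨a, s.1, s.2, h⟩
  have hsurj : Function.Surjective (f.stalkMap x).hom :=
    surjective_of_zmp (f.stalkMap x).hom (X.presheaf.stalkSpecializes hspec).hom hιx
      (f.stalkMap (genericPoint X)).hom hκ hsq (f.appLE U V hVU).hom
      (Y.presheaf.germ U (f x) hxU).hom (X.presheaf.germ V x hxV).hom hcomm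
      (hV.primeIdealOf ⟨x, hxV⟩).asIdeal hloc1 hloc2 hzmp
  have hinj : Function.Injective (f.stalkMap x).hom := by
    have h1 : Function.Injective ((X.presheaf.stalkSpecializes hspec).hom.comp
        (f.stalkMap x).hom) := by
      rw [hsq]
      exact hκ.1.comp (IsFractionRing.injective _ _)
    exact Function.Injective.of_comp h1
  exact (ConcreteCategory.isIso_iff_bijective _).mpr ⟨hinj, hsurj⟩


lemma quasiFiniteAt_of_isOpen_singleton {X Y : Scheme.{u}} (f : X ⟶ Y) [LocallyOfFiniteType f]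
    (y : Y) (x : f.fiber y) (hx : IsOpen ({x} : Set (f.fiber y))) :
    ∃ x₀ : X, f x₀ = y ∧ f.QuasiFiniteAt x₀ := by
  obtain ⟨⟨x₀, hx₀⟩, hz⟩ : ∃ z : f ⁻¹' {y}, z = f.fiberHomeo y x := ⟨_, rfl⟩
  have hx₀' : f x₀ = y := hx₀
  subst hx₀'
  refine ⟨x₀, rfl, ?_⟩
  rw [Scheme.Hom.quasiFiniteAt_iff_isOpen_singleton_asFiber]
  have : f.asFiber x₀ = x := by
    rw [Scheme.Hom.asFiber]
    have : (⟨x₀, rfl⟩ : f ⁻¹' {f x₀}) = f.fiberHomeo (f x₀) x := hz
    rw [this]; exact (f.fiberHomeo _).symm_apply_apply x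
  rwa [this]

/-- Stalk iso at `x` gives a local section through `x`, which is an isomorphism onto `f⁻¹(V)`. -/
lemma exists_isIso_restrict {X Y : Scheme.{u}} [IsIntegral X] [IsIntegral Y] (f : X ⟶ Y)
    [IsSeparated f] [LocallyOfFiniteType f]
    (hgen : f (genericPoint X) = genericPoint Y) (x : X) (hiso : IsIso (f.stalkMap x)) :
    ∃ U : Y.Opens, f x ∈ U ∧ IsIso (f ∣_ U) := by
  let ψ := inv (f.stalkMap x)
  let σ₀ : Spec (Y.presheaf.stalk (f x)) ⟶ X := Spec.map ψ ≫ X.fromSpecStalk x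
  have hσ₀ : σ₀ ≫ f = Y.fromSpecStalk (f x) ≫ 𝟙 Y := by
    rw [Category.comp_id, Category.assoc, ← Scheme.SpecMap_stalkMap_fromSpecStalk,
      ← Spec.map_comp_assoc, IsIso.hom_inv_id, Spec.map_id, Category.id_comp]
  obtain ⟨V, hyV, s, hs1, hs2⟩ := spread_out_of_isGermInjective' (𝟙 Y) f σ₀ hσ₀
  rw [Category.comp_id] at hs2
  refine ⟨V, hyV, ?_⟩
  -- the section lands in `f ⁻¹ᵁ V`
  let s' : V.toScheme ⟶ (f ⁻¹ᵁ V).toScheme := IsOpenImmersion.lift (f ⁻¹ᵁ V).ι s (by
    rintro _ ⟨v, rfl⟩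
    simp only [Scheme.Opens.range_ι, TopologicalSpace.Opens.map_coe, Set.mem_preimage,
      SetLike.mem_coe]
    have : f (s v) = V.ι v := congr($(hs2) v)
    rw [this]; exact v.2)
  have hs' : s' ≫ (f ⁻¹ᵁ V).ι = s := IsOpenImmersion.lift_fac _ _ _
  have hsec : s' ≫ (f ∣_ V) = 𝟙 _ := by
    rw [← cancel_mono V.ι, Category.assoc, morphismRestrict_ι, ← Category.assoc, hs', hs2,
      Category.id_comp]
  have hcl : IsClosedImmersion s' := by
    have : IsClosedImmersion (s' ≫ (f ∣_ V)) := by rw [hsec]; infer_instance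
    exact IsClosedImmersion.of_comp s' (f ∣_ V)
  -- `s` maps `f x` to `x`
  have hsy : s ⟨f x, hyV⟩ = x := by
    have h1 : σ₀ (IsLocalRing.closedPoint _) = x := by
      change X.fromSpecStalk x (Spec.map ψ (IsLocalRing.closedPoint _)) = x
      have : IsLocalHom ψ.hom := isLocalHom_of_isIso ψ
      have h0 : Spec.map ψ (IsLocalRing.closedPoint _) = IsLocalRing.closedPoint _ :=
        IsLocalRing.comap_closedPoint ψ.hom
      rw [h0, Scheme.fromSpecStalk_closedPoint]
    have h2 : (V.fromSpecStalkOfMem (f x) hyV) (IsLocalRing.closedPoint _) = ⟨f x, hyV⟩ := by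
      apply Subtype.ext
      have := congr($(V.fromSpecStalkOfMem_ι (f x) hyV) (IsLocalRing.closedPoint _))
      rw [Scheme.fromSpecStalk_closedPoint] at this
      exact this
    calc s ⟨f x, hyV⟩ = s ((V.fromSpecStalkOfMem (f x) hyV) (IsLocalRing.closedPoint _)) := by
          rw [h2]
      _ = (V.fromSpecStalkOfMem (f x) hyV ≫ s) (IsLocalRing.closedPoint _) := rfl
      _ = σ₀ (IsLocalRing.closedPoint _) := by rw [hs1]
      _ = x := h1
  -- the generic point of `Y` lies in `V`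
  have hηV : genericPoint Y ∈ V :=
    ((genericPoint_spec Y).mem_open_set_iff V.isOpen).mpr ⟨f x, trivial, hyV⟩
  have hspecV : (⟨genericPoint Y, hηV⟩ : V) ⤳ ⟨f x, hyV⟩ := by
    rw [subtype_specializes_iff]
    exact genericPoint_specializes _
  have ha1 : s ⟨genericPoint Y, hηV⟩ ⤳ x := hsy ▸ hspecV.map s.continuous
  have ha2 : f (s ⟨genericPoint Y, hηV⟩) = f (genericPoint X) := by
    rw [hgen]
    exact congr($(hs2) ⟨genericPoint Y, hηV⟩)
  -- injectivity of `f` on generizations of `x`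
  have hinj : ∀ a b : X, a ⤳ x → b ⤳ x → f a = f b → a = b := by
    intro a b ha hb hab
    have hra : a ∈ Set.range (X.fromSpecStalk x) := by rw [Scheme.range_fromSpecStalk]; exact ha
    have hrb : b ∈ Set.range (X.fromSpecStalk x) := by rw [Scheme.range_fromSpecStalk]; exact hb
    obtain ⟨p, rfl⟩ := hra
    obtain ⟨p', rfl⟩ := hrb
    have h1 : ∀ t, f (X.fromSpecStalk x t) = Y.fromSpecStalk (f x) (Spec.map (f.stalkMap x) t) :=
      fun t => by
        rw [← Scheme.Hom.comp_apply, ← Scheme.Hom.comp_apply,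
          Scheme.SpecMap_stalkMap_fromSpecStalk]
    rw [h1, h1] at hab
    have h2 := (Y.fromSpecStalk (f x)).isEmbedding.injective hab
    have h3 : Function.Injective (Spec.map (f.stalkMap x)) := by
      intro t t' htt'
      have h4 : Spec.map (f.stalkMap x) ≫ Spec.map ψ = 𝟙 _ := by
        rw [← Spec.map_comp, IsIso.inv_hom_id, Spec.map_id]
      have h5 := congrArg (Spec.map ψ) htt'
      rw [← Scheme.Hom.comp_apply, ← Scheme.Hom.comp_apply, h4] at h5
      exact h5
    rw [h3 h2]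
  have hη : s ⟨genericPoint Y, hηV⟩ = genericPoint X :=
    hinj _ _ ha1 (genericPoint_specializes x) ha2
  -- surjectivity of `s'`
  have hsurj : Surjective s' := by
    refine ⟨fun w => ?_⟩
    have hclosed : IsClosed (Set.range s') := s'.isClosedEmbedding.isClosed_range
    have hmem : s' ⟨genericPoint Y, hηV⟩ ∈ Set.range s' := ⟨_, rfl⟩
    have hsp : s' ⟨genericPoint Y, hηV⟩ ⤳ w := by
      rw [← (f ⁻¹ᵁ V).ι.isOpenEmbedding.isInducing.specializes_iff]
      have : (f ⁻¹ᵁ V).ι (s' ⟨genericPoint Y, hηV⟩) = genericPoint X := by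
        rw [← hη, ← hs']; rfl
      rw [this]
      exact genericPoint_specializes _
    exact hsp.mem_closed hclosed hmem
  have : Nonempty (f ⁻¹ᵁ V) := ⟨⟨x, hyV⟩⟩
  have hiso : IsIso s' := isIso_of_isClosedImmersion_of_surjective s'
  have : f ∣_ V = inv s' := by
    rw [← cancel_epi s', hsec, IsIso.hom_inv_id]
  rw [this]; infer_instance




/-- Let X and Y be integral schemes and f : X → Y a separated morphism, locally of finite type and
birational (f sends the generic point of X to the generic point of Y and its stalk map there, the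
induced homomorphism of function fields, is an isomorphism). Let y be a normal point of Y (the local
ring O_{Y,y} is integrally closed) and suppose that some point of the fibre f⁻¹(y) is isolated in
that fibre. Then y has an open neighbourhood U such that the restriction f⁻¹(U) → U of f is an
isomorphism. -/
theorem result {X Y : Scheme.{u}} [IsIntegral X]
    [IsIntegral Y] (f : X ⟶ Y) [IsSeparated f] [LocallyOfFiniteType f]
    (hgen : f (genericPoint X) = genericPoint Y) (hbir : IsIso (f.stalkMap (genericPoint X)))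
    (y : ↥Y) (hy : IsIntegrallyClosed ↑(Y.presheaf.stalk y))
    (x : ↥(f.fiber y)) (hx : IsOpen ({x} : Set ↥(f.fiber y))) :
    ∃ U : Y.Opens, y ∈ U ∧ IsIso (f ∣_ U) := by
  obtain ⟨x₀, rfl, hqf⟩ := quasiFiniteAt_of_isOpen_singleton f y x hx
  exact exists_isIso_restrict f hgen x₀ (isIso_stalkMap f hgen hbir x₀ hy hqf)

end Groth.Agent.S5094
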