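import Groth.Statements.S4808
import Mathlib
import Groth.Agent.S5094

set_option autoImplicit false
universe u
open CategoryTheory AlgebraicGeometry
open Lim8

namespace Groth.Agent.S4808




/-- Let Y' and Y be integral schemes, Y normal (every local ring of Y is integrally closed), and u : Y'
⟶ Y a finite morphism which is birational: u maps the generic point of Y' to the generic point of Y
and the stalk map of u at the generic point of Y', which is the induced homomorphism of function
fields, is an isomorphism. Then u is an isomorphism. -/
theorem result {Y' Y : Scheme.{u}} [IsIntegral Y'] [IsIntegral Y]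
    (hN : ∀ y : Y, IsIntegrallyClosed (Y.presheaf.stalk y)) (u : Y' ⟶ Y) [IsFinite u]
    (hgen : u (genericPoint Y') = genericPoint Y)
    (hbir : IsIso (u.stalkMap (genericPoint Y'))) : IsIso u := by
  have hsurj : Function.Surjective u := by
    have hcl : IsClosed (Set.range u) := u.isClosedMap.isClosed_range
    have hmem : genericPoint Y ∈ Set.range u := ⟨_, hgen⟩
    intro y
    exact (genericPoint_specializes y).mem_closed hcl hmem
  have hloc : ∀ y : Y, ∃ U : Y.Opens, y ∈ U ∧ IsIso (u ∣_ U) := by
    intro y
    obtain ⟨x, rfl⟩ := hsurj y
    exact S5094.exists_isIso_restrict u hgen x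
      (S5094.isIso_stalkMap u hgen hbir x (hN _) (u.quasiFiniteAt x))
  choose U hyU hU using hloc
  have hcover : iSup U = ⊤ := by
    rw [eq_top_iff]
    intro y _
    exact TopologicalSpace.Opens.mem_iSup.mpr ⟨y, hyU y⟩
  exact (IsZariskiLocalAtTarget.iff_of_iSup_eq_top (P := MorphismProperty.isomorphisms Scheme)
    U hcover).mpr hU

end Groth.Agent.S4808
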