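import Groth.Statements.S4814
-- import your own Groth.Agent.* helpers here
import Mathlib
import Groth.Agent.Lib.Helper26ModDescD

set_option autoImplicit false
universe u
open CategoryTheory AlgebraicGeometry
open Lim8

namespace Groth.Agent.S4814

set_option linter.style.haveILetI false

open Groth.Agent.Lib.Helper26.ModLim2 Groth.Agent.Lib.Helper26.PbCalc Groth.Agent.Lib.Helper26.HomLimD
  Groth.Agent.Lib.Helper26.ModDesc Scheme.Modules

section later
variable {P L J I : Scheme.{u}} (pl : P ⟶ L) (t : L ⟶ J) (pj : P ⟶ J) (s : J ⟶ I) (pi : P ⟶ I) (r : L ⟶ I)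
  (e₁ : pl ≫ t = pj) (e₂ : t ≫ s = r) (e₃ : pj ≫ s = pi) (e₄ : pl ≫ r = pi)

include e₁ in
theorem later_inv (M : I.Modules) :
    (compIso pl r pi e₄).inv.app M ≫ (pullback pl).map ((compIso t s r e₂).inv.app M) ≫
      (compIso pl t pj e₁).hom.app ((pullback s).obj M) = (compIso pj s pi e₃).inv.app M := by
  have hM := compIso_assoc pl t s pj r pi e₁ e₂ e₃ e₄ M
  rw [← cancel_mono ((compIso pj s pi e₃).hom.app M)]
  simp only [Category.assoc]
  rw [hM, ← Functor.map_comp_assoc, Iso.inv_hom_id_app]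
  simp

include e₁ in
/-- transporting a quotient datum to a later stage -/
theorem quot_later (F₀ : I.Modules) (Gj : J.Modules) (G : P.Modules) (q : (pullback s).obj F₀ ⟶ Gj)
    (e : (pullback pj).obj Gj ≅ G) (p : (pullback pi).obj F₀ ⟶ G)
    (h : (compIso pj s pi e₃).inv.app F₀ ≫ (pullback pj).map q ≫ e.hom = p) :
    (compIso pl r pi e₄).inv.app F₀ ≫
      (pullback pl).map ((compIso t s r e₂).inv.app F₀ ≫ (pullback t).map q) ≫
        ((compIso pl t pj e₁).app Gj ≪≫ e).hom = p := by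
  have nat := compIso_sq pl t pj e₁ q
  rw [Functor.map_comp, Iso.trans_hom, Iso.app_hom, Category.assoc, reassoc_of% nat, ← h,
    ← later_inv pl t pj s pi r e₁ e₂ e₃ e₄ F₀]
  simp only [Category.assoc]

end later

/-- Let S = lim S_i be a cofiltered limit of schemes with affine transition maps and S_{i₀} a
quasi-compact quasi-separated stage; let F₀ be a quasi-coherent O-module of finite presentation on
S_{i₀}, F its pullback to S, and p : F ⟶ G a surjective homomorphism onto a quasi-coherent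
O_S-module of finite presentation. Then for some index j over i₀ there are a quasi-coherent O-module
of finite presentation G_j on S_j and a surjective homomorphism p_j : F_j ⟶ G_j from the pullback
F_j of F₀, together with an isomorphism from the pullback of G_j to S onto G which carries the
pullback of p_j (transported along the canonical identification of the pullback of F_j with F) to p.
Every quotient of finite presentation of F thus comes from a quotient of finite presentation of some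
F_j. -/
theorem result {I : Type u} [SmallCategory I] [IsCofiltered I]
    (D : I ⥤ Scheme.{u}) (c : Limits.Cone D) (hc : Limits.IsLimit c)
    [∀ (i j : I) (f : i ⟶ j), IsAffineHom (D.map f)] (i₀ : I)
    [CompactSpace (D.obj i₀)] [QuasiSeparatedSpace (D.obj i₀)]
    (F₀ : (D.obj i₀).Modules) [Coh.IsQCoh F₀] (hF₀ : CohB1.IsFP F₀)
    {G : c.pt.Modules} [Coh.IsQCoh G] (hG : CohB1.IsFP G) (p : (Scheme.Modules.pullback (c.π.app i₀)).obj F₀ ⟶ G) [Epi p] :
    ∃ (j : I) (φ : j ⟶ i₀) (Gj : (D.obj j).Modules) (_ : Coh.IsQCoh Gj) (pj : (Scheme.Modules.pullback (D.map φ)).obj F₀ ⟶ Gj)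
      (e : (Scheme.Modules.pullback (c.π.app j)).obj Gj ≅ G),
      CohB1.IsFP Gj ∧ Epi pj ∧
        ((Scheme.Modules.pullbackComp (c.π.app j) (D.map φ) ≪≫ Scheme.Modules.pullbackCongr (c.w φ)).app F₀).inv ≫
          (Scheme.Modules.pullback (c.π.app j)).map pj ≫ e.hom = p := by
  -- step 1: descend `G`
  obtain ⟨j₁, φ₁, G₁, hG₁q, hG₁fp, ⟨e₁⟩⟩ := exists_module_descend D c hc i₀ G hG
  haveI := hG₁q
  haveI : CompactSpace (D.obj j₁) := compactSpace_of_hom D i₀ φ₁
  haveI : QuasiSeparatedSpace (D.obj j₁) := quasiSeparatedSpace_of_quasiSeparated (D.map φ₁)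
  let F₁ : (D.obj j₁).Modules := (pullback (D.map φ₁)).obj F₀
  haveI hF₁q : F₁.IsQuasicoherent := Groth.Agent.Lib.Helper2.PullbackSec.isQuasicoherent_pullback _ _
  have hF₁fp : CohB1.IsFP F₁ := Groth.Agent.Helper18Strict.isFP_pullback (D.map φ₁) F₀ hF₀
  let κ₁ := compIso (leg D c j₁) (D.map φ₁) (leg D c i₀) (leg_w D c φ₁)
  -- step 2: descend the morphism
  obtain ⟨j₂, h₂, hh₂⟩ := exists_hom_pullback_eq D c hc j₁ G₁ F₁ hF₁fp (κ₁.hom.app F₀ ≫ p ≫ e₁.inv)
  let κ₂ := compIso (leg D c j₂.left) (D.map j₂.hom) (leg D c j₁) (leg_w D c j₂.hom)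
  have hh₂' : κ₂.inv.app F₁ ≫ (pullback (leg D c j₂.left)).map h₂ ≫ κ₂.hom.app G₁ =
      κ₁.hom.app F₀ ≫ p ≫ e₁.inv := hh₂
  -- the datum at stage `j₂`
  let τ₂ := compIso (D.map j₂.hom) (D.map φ₁) (D.map (j₂.hom ≫ φ₁)) (D.map_comp _ _).symm
  let p₂ : (pullback (D.map (j₂.hom ≫ φ₁))).obj F₀ ⟶ (pullback (D.map j₂.hom)).obj G₁ := τ₂.inv.app F₀ ≫ h₂
  let e₂ : (pullback (leg D c j₂.left)).obj ((pullback (D.map j₂.hom)).obj G₁) ≅ G := κ₂.app G₁ ≪≫ e₁
  let κ₂' := compIso (leg D c j₂.left) (D.map (j₂.hom ≫ φ₁)) (leg D c i₀) (leg_w D c (j₂.hom ≫ φ₁))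
  have hp₂ : κ₂'.inv.app F₀ ≫ (pullback (leg D c j₂.left)).map p₂ ≫ e₂.hom = p := by
    have h3 : (pullback (leg D c j₂.left)).map h₂ ≫ κ₂.hom.app G₁ =
        κ₂.hom.app F₁ ≫ κ₁.hom.app F₀ ≫ p ≫ e₁.inv := by
      rw [← hh₂', Iso.hom_inv_id_app_assoc]
    have h4 := later_inv (leg D c j₂.left) (D.map j₂.hom) (leg D c j₁) (D.map φ₁) (leg D c i₀)
      (D.map (j₂.hom ≫ φ₁)) (leg_w D c j₂.hom) (D.map_comp _ _).symm (leg_w D c φ₁)
      (leg_w D c (j₂.hom ≫ φ₁)) F₀
    simp only [p₂, e₂, Functor.map_comp, Iso.trans_hom, Iso.app_hom, Category.assoc]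
    rw [reassoc_of% h3, Iso.inv_hom_id, Category.comp_id, reassoc_of% h4, Iso.inv_hom_id_app_assoc]
  -- step 3: epimorphism at a stage
  haveI : CompactSpace (D.obj j₂.left) := compactSpace_of_hom D j₁ j₂.hom
  haveI hG₂q : ((pullback (D.map j₂.hom)).obj G₁).IsQuasicoherent :=
    Groth.Agent.Lib.Helper2.PullbackSec.isQuasicoherent_pullback _ _
  haveI hF₂q : ((pullback (D.map (j₂.hom ≫ φ₁))).obj F₀).IsQuasicoherent :=
    Groth.Agent.Lib.Helper2.PullbackSec.isQuasicoherent_pullback _ _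
  have hG₂fp : CohB1.IsFP ((pullback (D.map j₂.hom)).obj G₁) :=
    Groth.Agent.Helper18Strict.isFP_pullback (D.map j₂.hom) G₁ hG₁fp
  have hepi : Epi ((pullback (c.π.app j₂.left)).map p₂) := by
    have : (pullback (leg D c j₂.left)).map p₂ = κ₂'.hom.app F₀ ≫ p ≫ e₂.inv := by
      rw [← hp₂]
      simp
    change Epi ((pullback (leg D c j₂.left)).map p₂)
    rw [this]
    infer_instance
  obtain ⟨j₃, φ₃, hj₃⟩ := exists_epi_pullback_map D c hc j₂.left
    (Groth.Agent.Helper18Strict.isFT_of_isFP _ hG₂fp) p₂ hepi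
  -- step 4: the datum at stage `j₃`
  let τ₃ := compIso (D.map φ₃) (D.map (j₂.hom ≫ φ₁)) (D.map (φ₃ ≫ j₂.hom ≫ φ₁)) (D.map_comp _ _).symm
  have hfin := quot_later (leg D c j₃) (D.map φ₃) (leg D c j₂.left) (D.map (j₂.hom ≫ φ₁)) (leg D c i₀)
    (D.map (φ₃ ≫ j₂.hom ≫ φ₁)) (leg_w D c φ₃) (D.map_comp _ _).symm (leg_w D c (j₂.hom ≫ φ₁))
    (leg_w D c (φ₃ ≫ j₂.hom ≫ φ₁)) F₀ _ G p₂ e₂ p hp₂
  refine ⟨j₃, φ₃ ≫ j₂.hom ≫ φ₁, (pullback (D.map φ₃)).obj ((pullback (D.map j₂.hom)).obj G₁),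
    Groth.Agent.Lib.Helper2.PullbackSec.isQuasicoherent_pullback _ _,
    τ₃.inv.app F₀ ≫ (pullback (D.map φ₃)).map p₂,
    (compIso (leg D c j₃) (D.map φ₃) (leg D c j₂.left) (leg_w D c φ₃)).app _ ≪≫ e₂,
    Groth.Agent.Helper18Strict.isFP_pullback (D.map φ₃) _ hG₂fp, ?_, hfin⟩
  haveI := hj₃
  infer_instance

end Groth.Agent.S4814
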