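import Groth.Statements.S4815
-- import your own Groth.Agent.* helpers here
import Mathlib
import Groth.Agent.Lib.Helper26LimCover2

set_option autoImplicit false
universe u
open CategoryTheory AlgebraicGeometry
open Lim8

namespace Groth.Agent.S4815

open Limits Groth.Agent.Lib.Helper26.LimCover

/-- Let S = lim S_i be a cofiltered limit of schemes with affine transition maps and S_{i₀} a
quasi-compact quasi-separated stage. Then every subscheme of finite presentation of S, that is every
immersion ι : Z ⟶ S which is locally of finite presentation and quasi-compact, is the base change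
along S ⟶ S_j of an immersion of finite presentation Z_j ⟶ S_j, for some index j over i₀ (the base
change is expressed by a pullback square). -/
theorem result {I : Type u} [SmallCategory I] [IsCofiltered I]
    (D : I ⥤ Scheme.{u}) (c : Limits.Cone D) (hc : Limits.IsLimit c)
    [∀ (i j : I) (f : i ⟶ j), IsAffineHom (D.map f)] (i₀ : I)
    [CompactSpace (D.obj i₀)] [QuasiSeparatedSpace (D.obj i₀)]
    {Z : Scheme.{u}} (ι : Z ⟶ c.pt) [IsImmersion ι] [LocallyOfFinitePresentation ι] [QuasiCompact ι] :
    ∃ (j : I) (_ : j ⟶ i₀) (Zj : Scheme.{u}) (ιj : Zj ⟶ D.obj j) (q : Z ⟶ Zj),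
      IsImmersion ιj ∧ LocallyOfFinitePresentation ιj ∧ QuasiCompact ιj ∧ IsPullback q ι ιj (c.π.app j) := by
  have i1 : ∀ (j k : Over i₀) (f : j ⟶ k), IsAffineHom ((Over.forget i₀ ⋙ D).map f) :=
    fun j k f => (inferInstance : IsAffineHom (D.map f.left))
  have i0 : ∀ j : Over i₀, ∃ φ : D.obj j.left ⟶ D.obj i₀, IsAffineHom φ := fun j =>
    ⟨D.map j.hom, inferInstance⟩
  have i2 : ∀ j : Over i₀, CompactSpace ((Over.forget i₀ ⋙ D).obj j) := fun j => by
    obtain ⟨φ, hφ⟩ := i0 j
    show CompactSpace (D.obj j.left)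
    exact QuasiCompact.compactSpace_of_compactSpace φ
  have i3 : ∀ j : Over i₀, QuasiSeparatedSpace ((Over.forget i₀ ⋙ D).obj j) := fun j => by
    obtain ⟨φ, hφ⟩ := i0 j
    show QuasiSeparatedSpace (D.obj j.left)
    exact quasiSeparatedSpace_of_quasiSeparated φ
  have hc' : IsLimit (c.whisker (Over.forget i₀)) :=
    (Functor.Initial.isLimitWhiskerEquiv (Over.forget i₀) c).symm hc
  obtain ⟨i, Zi, ιi, q, h1, h2, h3, h4, pb⟩ :=
    modelDescent_of_qcqsDescent qcqsDescent_isImmersion (Over.forget i₀ ⋙ D)
      (c.whisker (Over.forget i₀)) hc' ι (inferInstance : IsImmersion ι)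
  exact ⟨i.left, i.hom, Zi, ιi, q, h4, h1, h2, pb⟩

end Groth.Agent.S4815
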