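import Groth.Statements.S4816
import Mathlib
import Groth.Agent.S4817

set_option autoImplicit false
universe u
open CategoryTheory AlgebraicGeometry
open Lim8

namespace Groth.Agent.S4816

open CategoryTheory CategoryTheory.Limits AlgebraicGeometry TopologicalSpace
open Groth.Agent.Lib.Helper22.LimBC Groth.Agent.Lib.Helper22.LimOpenImm

/-- a map `γ : T ⟶ S` factors through a monomorphism `ι₂ : Z₂ ⟶ S` iff the base change of `ι₂`
along `γ` is an isomorphism. -/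
lemma fac_iff_isIso {T S Z₂ : Scheme.{u}} (ι₂ : Z₂ ⟶ S) [Mono ι₂] (γ : T ⟶ S) :
    (∃ u : T ⟶ Z₂, u ≫ ι₂ = γ) ↔ IsIso (pullback.snd ι₂ γ) := by
  constructor
  · rintro ⟨u, hu⟩
    have hw : u ≫ ι₂ = 𝟙 T ≫ γ := by rw [hu, Category.id_comp]
    let s : T ⟶ pullback ι₂ γ := pullback.lift u (𝟙 T) hw
    have hs : s ≫ pullback.snd ι₂ γ = 𝟙 T := pullback.lift_snd _ _ _
    have hmono : Mono (pullback.snd ι₂ γ) := inferInstance
    have hs' : pullback.snd ι₂ γ ≫ s = 𝟙 _ := by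
      rw [← cancel_mono (pullback.snd ι₂ γ), Category.assoc, hs, Category.comp_id,
        Category.id_comp]
    exact ⟨s, hs', hs⟩
  · intro h
    refine ⟨inv (pullback.snd ι₂ γ) ≫ pullback.fst ι₂ γ, ?_⟩
    rw [Category.assoc, pullback.condition, IsIso.inv_hom_id_assoc]

/-- transitivity of base change, for `IsIso`. -/
lemma isIso_snd_snd_iff {T S Z₂ B : Scheme.{u}} (ι₂ : Z₂ ⟶ S) (β : B ⟶ S) (m : T ⟶ B) :
    IsIso (pullback.snd (pullback.snd ι₂ β) m) ↔ IsIso (pullback.snd ι₂ (m ≫ β)) := by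
  have he := pullbackLeftPullbackSndIso_hom_snd ι₂ β m
  constructor
  · intro h
    have : pullback.snd ι₂ (m ≫ β) =
        (pullbackLeftPullbackSndIso ι₂ β m).inv ≫ pullback.snd (pullback.snd ι₂ β) m := by
      rw [← he, Iso.inv_hom_id_assoc]
    rw [this]
    infer_instance
  · intro h
    rw [← he]
    infer_instance

lemma exists_hom_iff {T S Z₁ Z₂ : Scheme.{u}} (ι₁ : Z₁ ⟶ S) (ι₂ : Z₂ ⟶ S) (g : T ⟶ S) :
    (∃ k : pullback ι₁ g ⟶ pullback ι₂ g, k ≫ pullback.snd ι₂ g = pullback.snd ι₁ g) ↔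
      ∃ u : pullback ι₁ g ⟶ Z₂, u ≫ ι₂ = pullback.snd ι₁ g ≫ g := by
  constructor
  · rintro ⟨k, hk⟩
    refine ⟨k ≫ pullback.fst ι₂ g, ?_⟩
    rw [Category.assoc, pullback.condition, ← Category.assoc, hk]
  · rintro ⟨u, hu⟩
    exact ⟨pullback.lift u (pullback.snd ι₁ g) hu, pullback.lift_snd _ _ _⟩

set_option backward.isDefEq.respectTransparency.types false in

open CategoryTheory.Limits in
/-- Let S = lim S_i be a cofiltered limit of schemes with affine transition maps and S_{i₀} a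
quasi-compact stage; let ι₁ : Z₁ ⟶ S_{i₀} and ι₂ : Z₂ ⟶ S_{i₀} be two subschemes of finite
presentation of S_{i₀} (immersions which are locally of finite presentation and quasi-compact), with
base changes Z₁ ×_{S_{i₀}} T ⟶ T to T = S and to T = S_j. Then Z₁ ×_{S_{i₀}} S is a subscheme of Z₂
×_{S_{i₀}} S (its immersion into S factors through that of Z₂ ×_{S_{i₀}} S) if and only if, for some
index j over i₀, Z₁ ×_{S_{i₀}} S_j is a subscheme of Z₂ ×_{S_{i₀}} S_j. -/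
theorem result {I : Type u} [SmallCategory I] [IsCofiltered I]
    (D : I ⥤ Scheme.{u}) (c : Limits.Cone D) (hc : Limits.IsLimit c)
    [∀ (i j : I) (f : i ⟶ j), IsAffineHom (D.map f)] (i₀ : I) [CompactSpace (D.obj i₀)]
    {Z₁ Z₂ : Scheme.{u}} (ι₁ : Z₁ ⟶ D.obj i₀) (ι₂ : Z₂ ⟶ D.obj i₀)
    [IsImmersion ι₁] [LocallyOfFinitePresentation ι₁] [QuasiCompact ι₁]
    [IsImmersion ι₂] [LocallyOfFinitePresentation ι₂] [QuasiCompact ι₂] :
    (∃ k : pullback ι₁ (c.π.app i₀) ⟶ pullback ι₂ (c.π.app i₀),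
        k ≫ pullback.snd ι₂ (c.π.app i₀) = pullback.snd ι₁ (c.π.app i₀)) ↔
      ∃ (j : I) (φ : j ⟶ i₀) (k : pullback ι₁ (D.map φ) ⟶ pullback ι₂ (D.map φ)),
        k ≫ pullback.snd ι₂ (D.map φ) = pullback.snd ι₁ (D.map φ) := by
  have inst : ∀ {i j : I} (f : i ⟶ j), IsAffineHom (D.map f) := fun f => inferInstance
  have hP₁ := IsPullback.of_hasPullback ι₁ (c.π.app i₀)
  constructor
  · intro hk
    have hfacS := (exists_hom_iff ι₁ ι₂ (c.π.app i₀)).mp hk
    have hisoS : IsIso (pullback.snd ι₂ (pullback.snd ι₁ (c.π.app i₀) ≫ c.π.app i₀)) :=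
      (fac_iff_isIso ι₂ _).mp hfacS
    let D' := bcDiagram D i₀ ι₁
    let c' := bcCone i₀ hP₁
    have hc' : IsLimit c' := isLimitBcCone i₀ hP₁ hc
    have hZ₁ : CompactSpace Z₁ := QuasiCompact.compactSpace_of_compactSpace ι₁
    let i₀' : Over i₀ := Over.mk (𝟙 i₀)
    let β : D'.obj i₀' ⟶ D.obj i₀ := dFst D i₀ ι₁ i₀' ≫ ι₁
    let ι₀' : pullback ι₂ β ⟶ D'.obj i₀' := pullback.snd ι₂ β
    have hi1 : IsImmersion ι₀' := MorphismProperty.pullback_snd (P := @IsImmersion) ι₂ β inferInstance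
    have hi2 : LocallyOfFinitePresentation ι₀' :=
      MorphismProperty.pullback_snd (P := @LocallyOfFinitePresentation) ι₂ β inferInstance
    have hi3 : QuasiCompact ι₀' := MorphismProperty.pullback_snd (P := @QuasiCompact) ι₂ β inferInstance
    have hβS : bcπ i₀ hP₁ i₀' ≫ β = pullback.snd ι₁ (c.π.app i₀) ≫ c.π.app i₀ := by
      show bcπ i₀ hP₁ i₀' ≫ dFst D i₀ ι₁ i₀' ≫ ι₁ = _
      rw [bcπ_fst_assoc]
      exact pullback.condition
    have h1 : IsIso (pullback.snd ι₀' (c'.π.app i₀')) := by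
      show IsIso (pullback.snd (pullback.snd ι₂ β) (bcπ i₀ hP₁ i₀'))
      rw [isIso_snd_snd_iff, hβS]
      exact hisoS
    have h2 : IsOpenImmersion (pullback.snd ι₀' (c'.π.app i₀')) := inferInstance
    obtain ⟨j', φ', hj'⟩ := (Groth.Agent.S4817.result D' c' hc' i₀' ι₀').mp h2
    have hV : c'.π.app j' ⁻¹ᵁ (pullback.snd ι₀' (D'.map φ')).opensRange = ⊤ := by
      rw [eq_top_iff]
      intro x _
      show c'.π.app j' x ∈ Set.range (pullback.snd ι₀' (D'.map φ'))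
      rw [Scheme.Pullback.range_snd]
      show D'.map φ' (c'.π.app j' x) ∈ Set.range ι₀'
      obtain ⟨w, hw⟩ := (ConcreteCategory.bijective_of_isIso
        (pullback.snd ι₀' (c'.π.app i₀')).base).2 x
      refine ⟨pullback.fst ι₀' (c'.π.app i₀') w, ?_⟩
      rw [← Scheme.Hom.comp_apply, pullback.condition, Scheme.Hom.comp_apply]
      have hw' : pullback.snd ι₀' (c'.π.app i₀') w = x := hw
      rw [hw', ← c'.w φ']
      rfl
    obtain ⟨j'', f, hf⟩ := exists_map_eq_top D' c' hc' _ hV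
    have h3 : IsOpenImmersion (pullback.snd ι₀' (D'.map (f ≫ φ'))) := by
      rw [D'.map_comp]
      exact Groth.Agent.S4817.isOpenImmersion_snd_comp ι₀' (D'.map φ') (D'.map f) hj'
    have h4 : (pullback.snd ι₀' (D'.map (f ≫ φ'))).opensRange = ⊤ := by
      rw [eq_top_iff]
      intro x _
      show x ∈ Set.range (pullback.snd ι₀' (D'.map (f ≫ φ')))
      rw [Scheme.Pullback.range_snd]
      have hx : x ∈ D'.map f ⁻¹ᵁ (pullback.snd ι₀' (D'.map φ')).opensRange := by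
        rw [hf]; trivial
      have hx' : D'.map f x ∈ Set.range (pullback.snd ι₀' (D'.map φ')) := hx
      rw [Scheme.Pullback.range_snd] at hx'
      show D'.map (f ≫ φ') x ∈ Set.range ι₀'
      rw [D'.map_comp]
      exact hx'
    have h5 : IsIso (pullback.snd ι₀' (D'.map (f ≫ φ'))) :=
      isIso_of_isOpenImmersion_of_opensRange_eq_top _ h4
    have h6 : IsIso (pullback.snd ι₂ (D'.map (f ≫ φ') ≫ β)) :=
      (isIso_snd_snd_iff ι₂ β (D'.map (f ≫ φ'))).mp h5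
    have hmβ : D'.map (f ≫ φ') ≫ β =
        pullback.snd ι₁ (D.map j''.hom) ≫ D.map j''.hom := by
      show D'.map (f ≫ φ') ≫ dFst D i₀ ι₁ i₀' ≫ ι₁ = _
      rw [map_dFst_assoc]
      exact pullback.condition
    rw [hmβ] at h6
    exact ⟨j''.left, j''.hom, (exists_hom_iff ι₁ ι₂ (D.map j''.hom)).mpr
      ((fac_iff_isIso ι₂ _).mpr h6)⟩
  · rintro ⟨j, φ, hk⟩
    obtain ⟨u, hu⟩ := (exists_hom_iff ι₁ ι₂ (D.map φ)).mp hk
    apply (exists_hom_iff ι₁ ι₂ (c.π.app i₀)).mpr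
    have h1 : bcπ i₀ hP₁ (Over.mk φ) ≫ pullback.snd ι₁ (D.map φ) =
        pullback.snd ι₁ (c.π.app i₀) ≫ c.π.app j := bcπ_snd i₀ hP₁ (Over.mk φ)
    let q : pullback ι₁ (c.π.app i₀) ⟶ pullback ι₁ (D.map φ) := bcπ i₀ hP₁ (Over.mk φ)
    have h1' : q ≫ pullback.snd ι₁ (D.map φ) =
        pullback.snd ι₁ (c.π.app i₀) ≫ c.π.app j := h1
    refine ⟨q ≫ u, ?_⟩
    calc (q ≫ u) ≫ ι₂ = q ≫ (pullback.snd ι₁ (D.map φ) ≫ D.map φ) := by
          rw [Category.assoc, hu]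
      _ = (pullback.snd ι₁ (c.π.app i₀) ≫ c.π.app j) ≫ D.map φ := by
          rw [← Category.assoc, h1']
      _ = _ := by rw [Category.assoc, c.w]

end Groth.Agent.S4816
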