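import Groth.Statements.S5893
import Mathlib
import Groth.Agent.Lib.Helper2PairCons4
import Groth.Agent.Lib.Helper2PairCons5
import Groth.Agent.S5895
import Groth.Agent.S5896

set_option autoImplicit false
universe u
open CategoryTheory AlgebraicGeometry
open ConsPropPair

namespace Groth.Agent.S5893

theorem limDescends_iso :
    Groth.Agent.Lib.Helper3.IndCons.LimDescends (MorphismProperty.isomorphisms Scheme.{u}) := by
  rw [isomorphisms_eq_isOpenImmersion_inf_surjective]
  exact Groth.Agent.Lib.Helper2.PairCons5.limDescends_inf _ _
    Groth.Agent.S5895.limDescends_isOpenImmersion Groth.Agent.S5896.limDescends_surjective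

/-- Case of the property of being an isomorphism: let P(X, Y, k) be the relation between a field k and
two algebraic k-schemes X, Y: there are an extension field k′ of k (a one-point integral scheme T′
over T = Spec k) and a k′-morphism g : X_(k′) ⟶ Y_(k′) between the base changes (cartesian squares
over T′ ⟶ T) which is an isomorphism (so that P says: X and Y are geometrically isomorphic). Then P
is an ind-constructible property of pairs of algebraic schemes. -/
theorem result :
    ConsPropPair.IsIndConsPair
      (fun X Y T gX gY => ∃ (T' X' Y' : Scheme.{u}) (h : T' ⟶ T) (gX' : X' ⟶ T') (gY' : Y' ⟶ T')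
        (eX : X' ⟶ X) (eY : Y' ⟶ Y), IsIntegral T' ∧ Subsingleton ↥T' ∧
          IsPullback eX gX' gX h ∧ IsPullback eY gY' gY h ∧
            ∃ g : X' ⟶ Y', g ≫ gY' = gX' ∧ IsIso g) := by
  exact Groth.Agent.Lib.Helper2.PairCons4.isIndConsPair_pairProp (MorphismProperty.isomorphisms Scheme.{u})
    limDescends_iso

end Groth.Agent.S5893
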