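import Groth.Statements.S4839
-- import your own Groth.Agent.* helpers here
import Mathlib
import Groth.Agent.Lib.Helper2PairCons
import Groth.Agent.Lib.Helper2PairCons2
import Groth.Agent.Lib.Helper2PairCons3
import Groth.Agent.S5893

set_option autoImplicit false
open CategoryTheory AlgebraicGeometry
universe u
open Cons9

namespace Groth.Agent.S4839

open CategoryTheory.Limits Groth.Agent.Lib.Helper2.PairCons Groth.Agent.Lib.Helper2.PairCons2
  Groth.Agent.Lib.Helper2.PairCons3

/-- a maximal quotient of a f.g. subalgebra of `K`, with the needed data. -/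
theorem exists_finite_quotient {k K : Type u} [Field k] [Field K] [Algebra k K]
    (A : Subalgebra k K) (hA : A.FG) :
    ∃ (k' : Type u) (_ : Field k') (_ : Algebra k k') (_ : Module.Finite k k')
      (ψ : A →ₐ[k] k'), True := by
  haveI : Algebra.FiniteType k A := (Subalgebra.fg_iff_finiteType _).mp hA
  obtain ⟨m, hm⟩ := Ideal.exists_maximal A
  letI := Ideal.Quotient.field m
  haveI : Algebra.FiniteType k (A ⧸ m) :=
    Algebra.FiniteType.of_surjective (Ideal.Quotient.mkₐ k m) (Ideal.Quotient.mkₐ_surjective k m)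
  haveI := finite_of_finite_type_of_isJacobsonRing k (A ⧸ m)
  exact ⟨A ⧸ m, inferInstance, inferInstance, inferInstance, Ideal.Quotient.mkₐ k m, trivial⟩

open CategoryTheory.Limits in
/-- Let k be a field and X, Y two schemes of finite type over k. If for some field extension K of k
there is a K-isomorphism X ⊗_k K ≅ Y ⊗_k K (X and Y are geometrically isomorphic), then there are a
finite extension k' of k and a k'-isomorphism X ⊗_k k' ≅ Y ⊗_k k'. This is the case of the property
of being an isomorphism (base changes are the chosen fibre products with Spec of the extension). -/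
theorem result {k : Type u} [Field k] {X Y : Scheme.{u}}
    (p : X ⟶ Spec (CommRingCat.of k)) (q : Y ⟶ Spec (CommRingCat.of k))
    [LocallyOfFiniteType p] [QuasiCompact p] [LocallyOfFiniteType q] [QuasiCompact q]
    (K : Type u) [Field K] [Algebra k K]
    (e : pullback p (Spec.map (CommRingCat.ofHom (algebraMap k K))) ≅ pullback q (Spec.map (CommRingCat.ofHom (algebraMap k K))))
    (he : e.hom ≫ pullback.snd q (Spec.map (CommRingCat.ofHom (algebraMap k K))) = pullback.snd p (Spec.map (CommRingCat.ofHom (algebraMap k K)))) :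
    ∃ (k' : Type u) (_ : Field k') (_ : Algebra k k') (_ : Module.Finite k k')
      (e' : pullback p (Spec.map (CommRingCat.ofHom (algebraMap k k'))) ≅ pullback q (Spec.map (CommRingCat.ofHom (algebraMap k k')))),
      e'.hom ≫ pullback.snd q (Spec.map (CommRingCat.ofHom (algebraMap k k'))) = pullback.snd p (Spec.map (CommRingCat.ofHom (algebraMap k k'))) := by
  classical
  let D := specDiagram k K
  let c : Cone D := specCone k K
  have hc : IsLimit c := specIsLimit k K
  let i₀ : (FGSub k K)ᵒᵖ := Opposite.op ⟨⊥, Subalgebra.fg_bot⟩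
  let τ : ∀ j, D.obj j ⟶ Spec (CommRingCat.of k) := fun j => toBase k K j
  have hτ : ∀ j, c.π.app j ≫ τ j = Spec.map (CommRingCat.ofHom (algebraMap k K)) :=
    fun j => π_toBase k K j
  have hτmap : ∀ {i j} (f : i ⟶ j), D.map f ≫ τ j = τ i := fun f => map_toBase k K f
  haveI : IsLocallyNoetherian X := LocallyOfFiniteType.isLocallyNoetherian p
  haveI : IsLocallyNoetherian Y := LocallyOfFiniteType.isLocallyNoetherian q
  obtain ⟨qX, hX0⟩ := exists_isPullback_of_comp (IsPullback.of_hasPullback p (τ i₀))
    (IsPullback.of_hasPullback p (Spec.map (CommRingCat.ofHom (algebraMap k K)))) (c.π.app i₀) (hτ i₀)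
  obtain ⟨qY, hY0⟩ := exists_isPullback_of_comp (IsPullback.of_hasPullback q (τ i₀))
    (IsPullback.of_hasPullback q (Spec.map (CommRingCat.ofHom (algebraMap k K)))) (c.π.app i₀) (hτ i₀)
  obtain ⟨i, φ', Xi, Yi, xi, yi, pX, pY, hXi, hYi, gi, hgi, hQgi⟩ :=
    exists_stage_hom (MorphismProperty.isomorphisms Scheme.{u}) Groth.Agent.S5893.limDescends_iso
      D c hc i₀ (pullback.snd p (τ i₀)) (pullback.snd q (τ i₀))
      qX (pullback.snd p _) hX0 qY (pullback.snd q _) hY0 e.hom he
      (inferInstance : IsIso e.hom)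
  haveI : IsIso gi := hQgi
  have hXi' : IsPullback (pX ≫ pullback.fst p (τ i₀)) xi p (τ i) := by
    have := hXi.paste_horiz (IsPullback.of_hasPullback p (τ i₀))
    rwa [hτmap] at this
  have hYi' : IsPullback (pY ≫ pullback.fst q (τ i₀)) yi q (τ i) := by
    have := hYi.paste_horiz (IsPullback.of_hasPullback q (τ i₀))
    rwa [hτmap] at this
  obtain ⟨k', hk'1, hk'2, hk'3, ψ, -⟩ := exists_finite_quotient i.unop.1 i.unop.2
  letI := hk'1
  letI := hk'2
  haveI := hk'3
  refine ⟨k', hk'1, hk'2, hk'3, ?_⟩
  let ψs : Spec (CommRingCat.of k') ⟶ D.obj i := Spec.map (CommRingCat.ofHom ψ.toRingHom)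
  have hψ : ψs ≫ τ i = Spec.map (CommRingCat.ofHom (algebraMap k k')) := by
    have h1 : CommRingCat.ofHom (algebraMap k i.unop.1) ≫ CommRingCat.ofHom ψ.toRingHom =
        CommRingCat.ofHom (algebraMap k k') := by
      ext x
      exact ψ.commutes x
    rw [← h1, Spec.map_comp]
    rfl
  obtain ⟨aX, haX⟩ := exists_isPullback_of_comp hXi'
    (IsPullback.of_hasPullback p (Spec.map (CommRingCat.ofHom (algebraMap k k')))) ψs hψ
  obtain ⟨aY, haY⟩ := exists_isPullback_of_comp hYi'
    (IsPullback.of_hasPullback q (Spec.map (CommRingCat.ofHom (algebraMap k k')))) ψs hψ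
  have hsq : IsPullback gi xi yi (𝟙 _) := IsPullback.of_horiz_isIso ⟨by rw [hgi, Category.comp_id]⟩
  have haX' : IsPullback (aX ≫ gi) (pullback.snd p (Spec.map (CommRingCat.ofHom (algebraMap k k'))))
      yi ψs := by
    have := haX.paste_horiz hsq
    rwa [Category.comp_id] at this
  exact ⟨haX'.isoIsPullback _ _ haY, IsPullback.isoIsPullback_hom_snd _ _ haX' haY⟩

end Groth.Agent.S4839
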