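import Groth.Statements.S4823
-- import your own Groth.Agent.* helpers here
import Mathlib
import Groth.Agent.Lib.Helper2PairCons2
import Groth.Agent.Lib.Helper22LimBC
import Groth.Agent.Lib.Helper26ModDescB
import Groth.Agent.S4839

set_option autoImplicit false
open CategoryTheory AlgebraicGeometry
universe u
open Cons9

namespace Groth.Agent.S4823

set_option linter.style.haveILetI false

open CategoryTheory.Limits Groth.Agent.Lib.Helper2.PairCons2 Groth.Agent.Lib.Helper22.LimBC
  Groth.Agent.Lib.Helper26.ModLim2 Groth.Agent.Lib.Helper26.ModDesc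

/-- base change of an isomorphism of pulled back modules. -/
theorem iso_baseChange {X T Y Z : Scheme.{u}} (p : X ⟶ T) (t : Y ⟶ T) (s : Z ⟶ Y) (pk : Z ⟶ T)
    (h : s ≫ t = pk) (F G : X.Modules)
    (ψ : (Scheme.Modules.pullback (pullback.fst p t)).obj F ≅
      (Scheme.Modules.pullback (pullback.fst p t)).obj G) :
    Nonempty ((Scheme.Modules.pullback (pullback.fst p pk)).obj F ≅
      (Scheme.Modules.pullback (pullback.fst p pk)).obj G) := by
  let a : pullback p pk ⟶ pullback p t :=
    pullback.lift (pullback.fst p pk) (pullback.snd p pk ≫ s) (by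
      rw [pullback.condition, Category.assoc, h])
  have ha : a ≫ pullback.fst p t = pullback.fst p pk := pullback.lift_fst _ _ _
  let κ := compIso a (pullback.fst p t) (pullback.fst p pk) ha
  exact ⟨(κ.app F).symm ≪≫ (Scheme.Modules.pullback a).mapIso ψ ≪≫ κ.app G⟩

section sys
variable {I : Type u} [SmallCategory I] [IsCofiltered I] (D : I ⥤ Scheme.{u}) (c : Cone D)
  (hc : IsLimit c) [∀ (i j : I) (f : i ⟶ j), IsAffineHom (D.map f)] (i₀ : I)
  [CompactSpace (D.obj i₀)] [QuasiSeparatedSpace (D.obj i₀)]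
  {T : Scheme.{u}} (τ : ∀ j, D.obj j ⟶ T) (hτmap : ∀ {i j : I} (f : i ⟶ j), D.map f ≫ τ j = τ i)
  [IsAffineHom (τ i₀)]
  {X : Scheme.{u}} (p : X ⟶ T) [CompactSpace X] [QuasiSeparatedSpace X]
  (pΩ : c.pt ⟶ T) (hτ : ∀ j, c.π.app j ≫ τ j = pΩ)

omit [CompactSpace (D.obj i₀)] [QuasiSeparatedSpace (D.obj i₀)] in
include hc hτmap hτ i₀ in
/-- an isomorphism of f.p. modules over `X ×_T lim S_i` descends to `X ×_T S_j`. -/
theorem exists_stage_iso (F G : X.Modules) [F.IsQuasicoherent] [G.IsQuasicoherent]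
    (hF : SheafOfModules.IsFinitePresentation (R := X.ringCatSheaf) F)
    (hG : SheafOfModules.IsFinitePresentation (R := X.ringCatSheaf) G)
    (e : (Scheme.Modules.pullback (pullback.fst p pΩ)).obj F ≅
      (Scheme.Modules.pullback (pullback.fst p pΩ)).obj G) :
    ∃ j : I, Nonempty ((Scheme.Modules.pullback (pullback.fst p (τ j))).obj F ≅
      (Scheme.Modules.pullback (pullback.fst p (τ j))).obj G) := by
  haveI hD : ∀ {i j : I} (φ : i ⟶ j), IsAffineHom (D.map φ) := fun φ => inferInstance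
  let x₀ := pullback.snd p (τ i₀)
  haveI : IsAffineHom (pullback.fst p (τ i₀)) :=
    MorphismProperty.of_isPullback (P := @IsAffineHom) (IsPullback.of_hasPullback p (τ i₀)).flip
      inferInstance
  haveI : CompactSpace ↥(pullback p (τ i₀) : Scheme.{u}) :=
    QuasiCompact.compactSpace_of_compactSpace (pullback.fst p (τ i₀))
  haveI : QuasiSeparatedSpace ↥(pullback p (τ i₀) : Scheme.{u}) :=
    quasiSeparatedSpace_of_quasiSeparated (pullback.fst p (τ i₀))
  let qX : pullback p pΩ ⟶ pullback p (τ i₀) :=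
    pullback.lift (pullback.fst p pΩ) (pullback.snd p pΩ ≫ c.π.app i₀)
      (by rw [pullback.condition, Category.assoc, hτ])
  have hX0 : IsPullback qX (pullback.snd p pΩ) x₀ (c.π.app i₀) := by
    refine IsPullback.of_right ?_ (pullback.lift_snd _ _ _) (IsPullback.of_hasPullback p (τ i₀))
    rw [pullback.lift_fst, hτ]
    exact IsPullback.of_hasPullback p pΩ
  -- the system over `X`
  let D' := bcDiagram D i₀ x₀
  let c' : Cone D' := bcCone (D := D) (c := c) i₀ hX0
  have hc' : IsLimit c' := isLimitBcCone i₀ hX0 hc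
  let j₀ : Over i₀ := Over.mk (𝟙 i₀)
  let r₀ : D'.obj j₀ ⟶ X := dFst D i₀ x₀ j₀ ≫ pullback.fst p (τ i₀)
  let M₀ : (D'.obj j₀).Modules := (Scheme.Modules.pullback r₀).obj F
  let N₀ : (D'.obj j₀).Modules := (Scheme.Modules.pullback r₀).obj G
  haveI hM₀q : M₀.IsQuasicoherent := Groth.Agent.Lib.Helper2.PullbackSec.isQuasicoherent_pullback _ _
  haveI hN₀q : N₀.IsQuasicoherent := Groth.Agent.Lib.Helper2.PullbackSec.isQuasicoherent_pullback _ _
  have hM₀ : SheafOfModules.IsFinitePresentation (R := (D'.obj j₀).ringCatSheaf) M₀ :=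
    Groth.Agent.Helper18Strict.isFP_pullback r₀ F hF
  have hN₀ : SheafOfModules.IsFinitePresentation (R := (D'.obj j₀).ringCatSheaf) N₀ :=
    Groth.Agent.Helper18Strict.isFP_pullback r₀ G hG
  have hr : c'.π.app j₀ ≫ r₀ = pullback.fst p pΩ := by
    change bcπ i₀ hX0 j₀ ≫ dFst D i₀ x₀ j₀ ≫ pullback.fst p (τ i₀) = _
    rw [bcπ_fst_assoc]
    exact pullback.lift_fst _ _ _
  let κ := compIso (c'.π.app j₀) r₀ (pullback.fst p pΩ) hr
  let h : (Scheme.Modules.pullback (c'.π.app j₀)).obj M₀ ≅ (Scheme.Modules.pullback (c'.π.app j₀)).obj N₀ :=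
    κ.app F ≪≫ e ≪≫ (κ.app G).symm
  obtain ⟨j, ψ, -⟩ := exists_iso_pullback_eq D' c' hc' j₀ M₀ N₀ hM₀ hN₀ h
  let jl : Over i₀ := j.left
  refine ⟨jl.left, ?_⟩
  let a : pullback p (τ jl.left) ⟶ pullback p (τ i₀) :=
    pullback.lift (pullback.fst p (τ jl.left)) (pullback.snd p (τ jl.left) ≫ D.map jl.hom) (by
      rw [pullback.condition, Category.assoc, hτmap])
  let aX : pullback p (τ jl.left) ⟶ D'.obj jl := dLift jl a (pullback.snd p (τ jl.left)) (by
    change a ≫ pullback.snd p (τ i₀) = _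
    rw [pullback.lift_snd])
  have haX : aX ≫ D'.map j.hom ≫ r₀ = pullback.fst p (τ jl.left) := by
    change aX ≫ D'.map j.hom ≫ dFst D i₀ x₀ j₀ ≫ pullback.fst p (τ i₀) = _
    rw [map_dFst_assoc, dLift_fst_assoc]
    exact pullback.lift_fst _ _ _
  let κ' := compIso aX (D'.map j.hom ≫ r₀) (pullback.fst p (τ jl.left)) haX
  let κ'' := compIso (D'.map j.hom) r₀ (D'.map j.hom ≫ r₀) rfl
  exact ⟨(κ'.app F).symm ≪≫ (Scheme.Modules.pullback aX).mapIso ((κ''.app F).symm ≪≫ ψ ≪≫ κ''.app G) ≪≫
    κ'.app G⟩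

end sys

open CategoryTheory.Limits in
/-- Let k be a field, Ω an algebraically closed extension field of k, X a scheme of finite type over k
and F, G two coherent O_X-modules (quasi-coherent of finite presentation). If the pullbacks of F and
G to X ⊗_k Ω are isomorphic, then there is a finite extension k' of k such that the pullbacks of F
and G to X ⊗_k k' are already isomorphic (base changes are the chosen fibre products with Spec of
the extension, and the modules are pulled back along the first projection). -/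
theorem result {k : Type u} [Field k] {X : Scheme.{u}}
    (p : X ⟶ Spec (CommRingCat.of k)) [LocallyOfFiniteType p] [QuasiCompact p]
    (F G : X.Modules) [Coh.IsQCoh F] [Coh.IsQCoh G] (hF : CohB1.IsFP F) (hG : CohB1.IsFP G)
    (Ω : Type u) [Field Ω] [Algebra k Ω] [IsAlgClosed Ω]
    (e : (Scheme.Modules.pullback (pullback.fst p (Spec.map (CommRingCat.ofHom (algebraMap k Ω))))).obj F ≅
      (Scheme.Modules.pullback (pullback.fst p (Spec.map (CommRingCat.ofHom (algebraMap k Ω))))).obj G) :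
    ∃ (k' : Type u) (_ : Field k') (_ : Algebra k k') (_ : Module.Finite k k'),
      Nonempty ((Scheme.Modules.pullback (pullback.fst p (Spec.map (CommRingCat.ofHom (algebraMap k k'))))).obj F ≅
        (Scheme.Modules.pullback (pullback.fst p (Spec.map (CommRingCat.ofHom (algebraMap k k'))))).obj G) := by
  classical
  haveI : IsLocallyNoetherian X := LocallyOfFiniteType.isLocallyNoetherian p
  haveI : CompactSpace X := QuasiCompact.compactSpace_of_compactSpace p
  let i₀ : (FGSub k Ω)ᵒᵖ := Opposite.op ⟨⊥, Subalgebra.fg_bot⟩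
  haveI : IsAffineHom (toBase k Ω i₀) := by
    change IsAffineHom (Spec.map _)
    infer_instance
  obtain ⟨j, ⟨ψ⟩⟩ := exists_stage_iso (specDiagram k Ω) (specCone k Ω) (specIsLimit k Ω) i₀
    (toBase k Ω) (fun f => map_toBase k Ω f) p (Spec.map (CommRingCat.ofHom (algebraMap k Ω)))
    (fun j => π_toBase k Ω j) F G hF hG e
  obtain ⟨k', hk'1, hk'2, hk'3, ψk, -⟩ :=
    Groth.Agent.S4839.exists_finite_quotient j.unop.1 j.unop.2
  letI := hk'1
  letI := hk'2
  haveI := hk'3
  refine ⟨k', hk'1, hk'2, hk'3, ?_⟩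
  refine iso_baseChange p (toBase k Ω j) (Spec.map (CommRingCat.ofHom ψk.toRingHom))
    (Spec.map (CommRingCat.ofHom (algebraMap k k'))) ?_ F G ψ
  have h1 : CommRingCat.ofHom (algebraMap k j.unop.1) ≫ CommRingCat.ofHom ψk.toRingHom =
      CommRingCat.ofHom (algebraMap k k') := by
    ext x
    exact ψk.commutes x
  rw [← h1, Spec.map_comp]
  rfl

end Groth.Agent.S4823
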