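import Groth.Statements.S4824
import Mathlib
import Groth.Agent.Lib.Helper6SepCl2

set_option autoImplicit false
open CategoryTheory AlgebraicGeometry
universe u
open Cons9

namespace Groth.Agent.S4824
open CategoryTheory AlgebraicGeometry TensorProduct

/-- R3: geometric integrality of `Spec A → Spec k` in terms of tensor products. -/
lemma geomIntegral_iff (k A : Type u) [Field k] [CommRing A] [Algebra k A] :
    GeometricallyIntegral (Spec.map (CommRingCat.ofHom (algebraMap k A))) ↔
      ∀ (K : Type u) [Field K] [Algebra k K], IsDomain (A ⊗[k] K) := by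
  have hpb : ∀ (K : Type u) [Field K] [Algebra k K], IsPullback
      (Spec.map (CommRingCat.ofHom (S := A ⊗[k] K) Algebra.TensorProduct.includeLeftRingHom))
      (Spec.map (CommRingCat.ofHom (S := A ⊗[k] K) Algebra.TensorProduct.includeRight.toRingHom))
      (Spec.map (CommRingCat.ofHom (algebraMap k A)))
      (Spec.map (CommRingCat.ofHom (algebraMap k K))) := fun K _ _ =>
    isPullback_SpecMap_of_isPushout _ _ _ _ (CommRingCat.isPushout_tensorProduct k A K)
  constructor
  · intro h K _ _
    have := h.geometrically_isIntegral _ _ _ (hpb K)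
    exact (affine_isIntegral_iff _).mp this
  · intro h
    rw [geometricallyIntegral_iff, geometrically_iff_of_commRing]
    intro K _ _ Y fst snd hY
    have : IsDomain (A ⊗[k] K) := h K
    have : IsIntegral (Spec (CommRingCat.of (A ⊗[k] K))) := inferInstance
    exact IsIntegral.of_isIso ((hpb K).isoIsPullback _ _ hY).hom


section Alg
variable {k : Type u} [Field k] {n : ℕ}

/-- R1: `(k[T]/(F)) ⊗_k K ≃ K[T]/(F_K)`. -/
noncomputable def tensorQuotEquiv (K : Type u) [Field K] [Algebra k K]
    (F : MvPolynomial (Fin n) k) :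
    (MvPolynomial (Fin n) k ⧸ Ideal.span ({F} : Set (MvPolynomial (Fin n) k))) ⊗[k] K ≃+*
      (MvPolynomial (Fin n) K ⧸
        Ideal.span ({MvPolynomial.map (algebraMap k K) F} : Set (MvPolynomial (Fin n) K))) :=
  (Algebra.TensorProduct.comm k _ K).toRingEquiv.trans <|
  (Algebra.TensorProduct.tensorQuotientEquiv (R := k) K (MvPolynomial (Fin n) k) K
      (Ideal.span {F})).toRingEquiv.trans
    (Ideal.quotientEquiv _ _ (MvPolynomial.algebraTensorAlgEquiv k K).toRingEquiv (by
      rw [Ideal.map_span, Ideal.map_span, Set.image_singleton, Set.image_singleton]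
      simp [MvPolynomial.algebraTensorAlgEquiv_tmul]))

/-- R2 -/
lemma irreducible_iff_isDomain (K : Type u) [Field K] (G : MvPolynomial (Fin n) K) (hG : G ≠ 0) :
    Irreducible G ↔
      IsDomain (MvPolynomial (Fin n) K ⧸ Ideal.span ({G} : Set (MvPolynomial (Fin n) K))) := by
  rw [Ideal.Quotient.isDomain_iff_prime, Ideal.span_singleton_prime hG, irreducible_iff_prime]

end Alg


lemma isUnit_of_isUnit_map {K L : Type*} [Field K] [Field L] (φ : K →+* L) {σ : Type*}
    (P : MvPolynomial σ K) (h : IsUnit (MvPolynomial.map φ P)) : IsUnit P := by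
  rw [MvPolynomial.isUnit_iff] at h ⊢
  simp only [MvPolynomial.coeff_map] at h
  refine ⟨?_, fun i hi => ?_⟩
  · have h1 := h.1
    rw [isUnit_iff_ne_zero] at h1 ⊢
    intro h0
    apply h1
    rw [h0, map_zero]
  · have h2 := h.2 i hi
    rw [isNilpotent_iff_eq_zero] at h2 ⊢
    exact (map_eq_zero φ).mp h2

lemma irreducible_of_map {K L : Type*} [Field K] [Field L] (φ : K →+* L) {σ : Type*}
    (P : MvPolynomial σ K) (h : Irreducible (MvPolynomial.map φ P)) : Irreducible P := by
  refine ⟨fun hu => h.not_isUnit (hu.map (MvPolynomial.map φ)), fun a b hab => ?_⟩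
  have := h.isUnit_or_isUnit (a := MvPolynomial.map φ a) (b := MvPolynomial.map φ b)
    (by rw [hab, map_mul])
  exact this.imp (isUnit_of_isUnit_map φ a) (isUnit_of_isUnit_map φ b)

lemma exists_compositum (k K Ω : Type u) [Field k] [Field K] [Field Ω] [Algebra k K]
    [Algebra k Ω] :
    ∃ (L : Type u) (_ : Field L) (φ : K →+* L) (ψ : Ω →+* L),
      φ.comp (algebraMap k K) = ψ.comp (algebraMap k Ω) := by
  obtain ⟨m, hm⟩ := Ideal.exists_maximal (K ⊗[k] Ω)
  letI := Ideal.Quotient.field m
  refine ⟨(K ⊗[k] Ω) ⧸ m, inferInstance,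
    (Ideal.Quotient.mk m).comp Algebra.TensorProduct.includeLeftRingHom,
    (Ideal.Quotient.mk m).comp Algebra.TensorProduct.includeRight.toRingHom, ?_⟩
  ext x
  simp only [RingHom.coe_comp, Function.comp_apply]
  congr 1
  simp [Algebra.TensorProduct.includeLeftRingHom, Algebra.algebraMap_eq_smul_one]



/-- Let k be a field, Ω an algebraically closed extension of k and F a non-constant polynomial in k[T_1,
…, T_n]. The following are equivalent: (a) the k-scheme Spec(k[T_1, …, T_n]/(F)) is geometrically
integral; (b) for every extension field K of k the image of F in K[T_1, …, T_n] is irreducible; (c)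
the image of F in Ω[T_1, …, T_n] is irreducible. (Such an F is called geometrically irreducible.) -/
theorem result {k : Type u} [Field k] (Ω : Type u) [Field Ω] [Algebra k Ω]
    [IsAlgClosed Ω] {n : ℕ} (F : MvPolynomial (Fin n) k) (hF : 0 < F.totalDegree) :
    List.TFAE [
      GeometricallyIntegral (Spec.map (CommRingCat.ofHom
        (algebraMap k (MvPolynomial (Fin n) k ⧸ Ideal.span ({F} : Set (MvPolynomial (Fin n) k)))))),
      ∀ (K : Type u) [Field K] [Algebra k K], Irreducible (MvPolynomial.map (algebraMap k K) F),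
      Irreducible (MvPolynomial.map (algebraMap k Ω) F)] := by
  have hF0 : F ≠ 0 := by
    rintro rfl
    simp at hF
  have hne : ∀ (K : Type u) [Field K] (φ : k →+* K), MvPolynomial.map φ F ≠ 0 := by
    intro K _ φ h
    apply hF0
    exact MvPolynomial.map_injective φ φ.injective (by rw [h, map_zero])
  have hab : GeometricallyIntegral (Spec.map (CommRingCat.ofHom
        (algebraMap k (MvPolynomial (Fin n) k ⧸ Ideal.span ({F} : Set (MvPolynomial (Fin n) k))))))
      ↔ ∀ (K : Type u) [Field K] [Algebra k K],
        Irreducible (MvPolynomial.map (algebraMap k K) F) := by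
    rw [geomIntegral_iff]
    refine forall_congr' fun K => forall_congr' fun _ => forall_congr' fun _ => ?_
    rw [irreducible_iff_isDomain K _ (hne K _)]
    exact ⟨fun h => Function.Injective.isDomain (tensorQuotEquiv K F).symm
        (tensorQuotEquiv K F).symm.injective,
      fun h => Function.Injective.isDomain (tensorQuotEquiv K F)
        (tensorQuotEquiv K F).injective⟩
  tfae_have 1 ↔ 2 := hab
  tfae_have 2 → 3 := fun h => h Ω
  tfae_have 3 → 2 := by
    intro hc K _ _
    obtain ⟨L, _, φ, ψ, hcomm⟩ := exists_compositum k K Ω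
    letI : Algebra Ω L := ψ.toAlgebra
    set FΩ := MvPolynomial.map (algebraMap k Ω) F with hFΩ
    have hΩdom : IsDomain (MvPolynomial (Fin n) Ω ⧸
        Ideal.span ({FΩ} : Set (MvPolynomial (Fin n) Ω))) :=
      (irreducible_iff_isDomain Ω FΩ (hne Ω _)).mp hc
    letI : (Spec (CommRingCat.of (MvPolynomial (Fin n) Ω ⧸
        Ideal.span ({FΩ} : Set (MvPolynomial (Fin n) Ω))))).Over (Spec (CommRingCat.of Ω)) :=
      ⟨Spec.map (CommRingCat.ofHom (algebraMap Ω _))⟩
    have hgi := Groth.Agent.Lib.Helper6.SepCl.geometricallyIntegral_of_isAlgClosed Ω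
      (Spec (CommRingCat.of (MvPolynomial (Fin n) Ω ⧸
        Ideal.span ({FΩ} : Set (MvPolynomial (Fin n) Ω)))))
    have hdomL := (geomIntegral_iff Ω _).mp hgi L
    have hdomL' : IsDomain (MvPolynomial (Fin n) L ⧸
        Ideal.span ({MvPolynomial.map (algebraMap Ω L) FΩ} : Set (MvPolynomial (Fin n) L))) :=
      Function.Injective.isDomain (tensorQuotEquiv L FΩ).symm
        (tensorQuotEquiv L FΩ).symm.injective
    have hne' : MvPolynomial.map (algebraMap Ω L) FΩ ≠ 0 := by
      rw [hFΩ, MvPolynomial.map_map]
      exact hne L _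
    have hirrL : Irreducible (MvPolynomial.map (algebraMap Ω L) FΩ) :=
      (irreducible_iff_isDomain L _ hne').mpr hdomL'
    have heq : MvPolynomial.map (algebraMap Ω L) FΩ =
        MvPolynomial.map φ (MvPolynomial.map (algebraMap k K) F) := by
      rw [hFΩ, MvPolynomial.map_map, MvPolynomial.map_map, hcomm]
      rfl
    exact irreducible_of_map φ _ (heq ▸ hirrL)
  tfae_finish

end Groth.Agent.S4824
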