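import Groth.Statements.S4825
-- import your own Groth.Agent.* helpers here
import Mathlib
import Groth.Agent.Lib.Helper26StalkLim
import Groth.Agent.Lib.Helper22ZmtQcqs
import Groth.Agent.S0385

set_option autoImplicit false
open CategoryTheory AlgebraicGeometry
universe u
open Lim8

namespace Groth.Agent.S4825

open Limits Opposite Groth.Agent.Lib.Helper26.StalkLim Groth.Agent.Lib.Helper2.LimLoc
  Groth.Agent.Lib.Helper22ZmtQcqs

theorem isPullback_congr_right {C : Type*} [Category C] {P X Y Z : C} {fst : P ⟶ X}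
    {snd : P ⟶ Y} {f : X ⟶ Z} {g g' : Y ⟶ Z} (h : g = g') (H : IsPullback fst snd f g) :
    IsPullback fst snd f g' := h ▸ H

set_option backward.isDefEq.respectTransparency.types false in
/-- separatedness and local quasi-finiteness over the local scheme spread to a neighbourhood. -/
theorem exists_nhd {X Y : Scheme.{u}} (f : X ⟶ Y) [IsNoetherian Y] [LocallyOfFiniteType f]
    [QuasiCompact f] (y : Y) (hsep : IsSeparated (pullback.snd f (Y.fromSpecStalk y)))
    (hlqf : LocallyQuasiFinite (pullback.snd f (Y.fromSpecStalk y))) :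
    ∃ (V : Scheme.{u}) (ι : V ⟶ Y), IsOpenImmersion ι ∧ y ∈ Set.range ι ∧
      IsSeparated (pullback.snd f ι) ∧ LocallyQuasiFinite (pullback.snd f ι) := by
  have inst : ∀ (i j : (AffNhd y)ᵒᵖ) (φ : i ⟶ j), IsAffineHom ((specDiagram y).map φ) :=
    fun _ _ φ => inferInstance
  obtain ⟨a⟩ := (inferInstance : Nonempty (AffNhd y))
  have e : (specCone y).π.app (op a) ≫ toX y (op a) = Y.fromSpecStalk y := π_toX y (op a)
  have hcond : pullback.fst f (Y.fromSpecStalk y) ≫ f =
      (pullback.snd f (Y.fromSpecStalk y) ≫ (specCone y).π.app (op a)) ≫ toX y (op a) :=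
    pullback.condition.trans ((congrArg (fun t => pullback.snd f (Y.fromSpecStalk y) ≫ t)
      e.symm).trans (Category.assoc _ _ _).symm)
  obtain ⟨qX, hq1, hq2⟩ : ∃ qX : pullback f (Y.fromSpecStalk y) ⟶ pullback f (toX y (op a)),
      qX ≫ pullback.fst f (toX y (op a)) = pullback.fst f (Y.fromSpecStalk y) ∧
      qX ≫ pullback.snd f (toX y (op a)) =
        pullback.snd f (Y.fromSpecStalk y) ≫ (specCone y).π.app (op a) :=
    ⟨pullback.lift _ _ hcond, pullback.lift_fst _ _ _, pullback.lift_snd _ _ _⟩
  have hX : IsPullback qX (pullback.snd f (Y.fromSpecStalk y)) (pullback.snd f (toX y (op a)))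
      ((specCone y).π.app (op a)) := by
    refine IsPullback.of_right ?_ hq2 (IsPullback.of_hasPullback f (toX y (op a)))
    rw [hq1]
    exact isPullback_congr_right e.symm (IsPullback.of_hasPullback f (Y.fromSpecStalk y))
  have hY : IsPullback ((specCone y).π.app (op a)) (𝟙 (specCone y).pt)
      (𝟙 ((specDiagram y).obj (op a))) ((specCone y).π.app (op a)) := IsPullback.id_vert _
  haveI : IsLocallyNoetherian ((specDiagram y).obj (op a)) :=
    isLocallyNoetherian_of_isOpenImmersion (toX y (op a))
  haveI : IsLocallyNoetherian (Limits.pullback f (toX y (op a)) : Scheme.{u}) :=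
    LocallyOfFiniteType.isLocallyNoetherian (pullback.snd f (toX y (op a)))
  haveI : CompactSpace ↥(Limits.pullback f (toX y (op a)) : Scheme.{u}) :=
    QuasiCompact.compactSpace_of_compactSpace (pullback.snd f (toX y (op a)))
  haveI : LocallyOfFinitePresentation (pullback.snd f (toX y (op a))) :=
    LocallyOfFinitePresentation.iff_locallyOfFiniteType.mpr inferInstance
  have H : QcqsDescent.{u} (@IsSeparated ⊓ @LocallyQuasiFinite) :=
    qcqsDescent_inf' _ _ qcqsDescent_isSeparated qcqsDescent_locallyQuasiFinite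
  obtain ⟨i, φ, Xi, Yi, fi, gi, pY, pX, h1, h2, h3⟩ := H (specDiagram y) (specCone y)
    (specIsLimit y) (op a) (pullback.snd f (toX y (op a))) (𝟙 _)
    (pullback.snd f (Y.fromSpecStalk y)) (𝟙 _) ((specCone y).π.app (op a)) qX hY hX ⟨hsep, hlqf⟩
  haveI : IsIso gi := h1.isIso_snd_of_isIso
  have hpY : pY = gi ≫ (specDiagram y).map φ := by
    have := h1.w
    rwa [Category.comp_id] at this
  have hι : pY ≫ toX y (op a) = gi ≫ toX y i := by
    rw [hpY, Category.assoc, map_toX]
  have sq : IsPullback (pX ≫ pullback.fst f (toX y (op a))) fi f (pY ≫ toX y (op a)) :=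
    h2.paste_horiz (IsPullback.of_hasPullback f (toX y (op a)))
  refine ⟨Yi, pY ≫ toX y (op a), ?_, ?_, ?_, ?_⟩
  · rw [hι]; infer_instance
  · have hr : Set.range (gi ≫ toX y i) = Set.range (toX y i) := by
      rw [Scheme.Hom.comp_base, TopCat.coe_comp]
      exact Function.Surjective.range_comp gi.surjective _
    rw [hι, hr, range_toX]
    exact i.unop.mem
  · exact (MorphismProperty.cancel_left_of_respectsIso @IsSeparated sq.isoPullback.hom
      (pullback.snd f _)).mp (by rw [sq.isoPullback_hom_snd]; exact h3.1)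
  · exact (MorphismProperty.cancel_left_of_respectsIso @LocallyQuasiFinite sq.isoPullback.hom
      (pullback.snd f _)).mp (by rw [sq.isoPullback_hom_snd]; exact h3.2)

set_option backward.isDefEq.respectTransparency.types false in

open CategoryTheory.Limits in
/-- Let Y be a Noetherian scheme and f : X ⟶ Y a morphism of finite type. Then f admits a factorization
into an immersion followed by a finite morphism if and only if, for every point y of Y, the base
change X ×_Y Spec O_{Y,y} ⟶ Spec O_{Y,y} of f to the local scheme of Y at y admits such a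
factorization. (Pointwise criterion for pseudo-finite morphisms.) -/
theorem result {X Y : Scheme.{u}} (f : X ⟶ Y) [IsNoetherian Y]
    [LocallyOfFiniteType f] [QuasiCompact f] :
    (∃ (Y' : Scheme.{u}) (f' : X ⟶ Y') (u : Y' ⟶ Y), IsImmersion f' ∧ IsFinite u ∧ f' ≫ u = f) ↔
      ∀ y : Y, ∃ (Z : Scheme.{u}) (g : pullback f (Y.fromSpecStalk y) ⟶ Z) (u : Z ⟶ Spec (Y.presheaf.stalk y)),
        IsImmersion g ∧ IsFinite u ∧ g ≫ u = pullback.snd f (Y.fromSpecStalk y) := by
  constructor
  · rintro ⟨Y', f', u, hf', hu, hfac⟩ y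
    have hw : (pullback.fst f (Y.fromSpecStalk y) ≫ f') ≫ u =
        pullback.snd f (Y.fromSpecStalk y) ≫ Y.fromSpecStalk y := by
      rw [Category.assoc, hfac, pullback.condition]
    obtain ⟨g, hg1, hg2⟩ : ∃ g : pullback f (Y.fromSpecStalk y) ⟶ pullback u (Y.fromSpecStalk y),
        g ≫ pullback.fst u (Y.fromSpecStalk y) = pullback.fst f (Y.fromSpecStalk y) ≫ f' ∧
        g ≫ pullback.snd u (Y.fromSpecStalk y) = pullback.snd f (Y.fromSpecStalk y) :=
      ⟨pullback.lift _ _ hw, pullback.lift_fst _ _ _, pullback.lift_snd _ _ _⟩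
    have hpb : IsPullback (pullback.fst f (Y.fromSpecStalk y)) g f'
        (pullback.fst u (Y.fromSpecStalk y)) := by
      have hbig : IsPullback (pullback.fst f (Y.fromSpecStalk y))
          (g ≫ pullback.snd u (Y.fromSpecStalk y)) (f' ≫ u) (Y.fromSpecStalk y) := by
        rw [hg2, hfac]; exact IsPullback.of_hasPullback f (Y.fromSpecStalk y)
      exact IsPullback.of_bot hbig hg1.symm (IsPullback.of_hasPullback u (Y.fromSpecStalk y))
    refine ⟨pullback u (Y.fromSpecStalk y), g, pullback.snd u (Y.fromSpecStalk y), ?_, ?_, hg2⟩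
    · exact MorphismProperty.of_isPullback (P := @IsImmersion) hpb hf'
    · haveI := hu; infer_instance
  · intro h
    have hloc : ∀ y : Y, ∃ (V : Scheme.{u}) (ι : V ⟶ Y), IsOpenImmersion ι ∧ y ∈ Set.range ι ∧
        IsSeparated (pullback.snd f ι) ∧ LocallyQuasiFinite (pullback.snd f ι) := by
      intro y
      obtain ⟨Z, g, u, hg, hu, hfac⟩ := h y
      haveI := hg; haveI := hu
      refine exists_nhd f y ?_ ?_
      · rw [← hfac]; infer_instance
      · rw [← hfac]; infer_instance
    choose V ι hι hmem hsep hlqf using hloc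
    haveI := hι
    let 𝒰 : Y.OpenCover :=
      { I₀ := Y, X := V, f := ι
        mem₀ := by
          rw [Scheme.presieve₀_mem_precoverage_iff]
          exact ⟨fun x => ⟨x, hmem x⟩, fun y => hι y⟩ }
    haveI : IsSeparated f :=
      IsZariskiLocalAtTarget.of_openCover (P := @IsSeparated) 𝒰 (fun y => hsep y)
    haveI : LocallyQuasiFinite f :=
      IsZariskiLocalAtTarget.of_openCover (P := @LocallyQuasiFinite) 𝒰 (fun y => hlqf y)
    obtain ⟨T, j, π, hj, -, hπ, hfac⟩ := Groth.Agent.S0385.result f
    exact ⟨T, j, π, inferInstance, hπ, hfac⟩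

end Groth.Agent.S4825
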