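import Groth.Statements.S4826
import Groth.Agent.Lib.Helper3GUConsC
import Mathlib

set_option autoImplicit false
set_option linter.style.haveILetI false
open CategoryTheory AlgebraicGeometry
universe u
open Cons9

namespace Groth.Agent.S4826

/-- Let X be a locally Noetherian scheme whose reduction has a normalization finite over X: for every
affine open U of X, the integral closure of Γ(U)_red in its total ring of fractions is a finite
module over Γ(U)_red. Then the set of points x of X at which X is geometrically unibranch (the local
ring O_{X,x} is geometrically unibranch) is locally constructible in X. -/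
theorem result (X : Scheme.{u}) [IsLocallyNoetherian X]
    (hfin : ∀ U : X.affineOpens, Module.Finite (CAlg2.red Γ(X, U.1)) (CAlg2.normRed Γ(X, U.1))) :
    Topology.IsLocallyConstructible {x : X | CAlg2.IsGeomUnibranch (X.presheaf.stalk x)} := by
  apply Groth.Agent.Lib.Helper3.GUConsC.isLocallyConstructible_of_forall_openImmersion
  intro x
  obtain ⟨V, hxV⟩ : ∃ V : X.affineOpens, x ∈ V.1 := by
    have h : x ∈ (⨆ V : X.affineOpens, (V : X.Opens)) := by
      rw [iSup_affineOpens_eq_top X]; trivial
    obtain ⟨V, hV⟩ := TopologicalSpace.Opens.mem_iSup.mp h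
    exact ⟨V, hV⟩
  refine ⟨Spec Γ(X, V.1), V.2.fromSpec, inferInstance, ?_, ?_⟩
  · rw [V.2.range_fromSpec]
    exact hxV
  · haveI : IsNoetherianRing Γ(X, V.1) := IsLocallyNoetherian.component_noetherian V
    convert Groth.Agent.Lib.Helper3.GUConsC.isLocallyConstructible_gu_spec Γ(X, V.1) (hfin V)
      using 1
    ext z
    simp only [Set.mem_preimage, Set.mem_ofPred_eq]
    let e := (asIso (V.2.fromSpec.stalkMap z)).commRingCatIsoToRingEquiv
    exact ⟨Groth.Agent.Lib.Helper4.Unibranch.isGeomUnibranch_of_ringEquiv e,
      Groth.Agent.Lib.Helper4.Unibranch.isGeomUnibranch_of_ringEquiv e.symm⟩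

end Groth.Agent.S4826
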