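import Groth.Statements.S4833
-- import your own Groth.Agent.* helpers here
import Mathlib
import Groth.Agent.Lib.Helper26RelFibFlat
import Groth.Agent.Lib.Helper2PairCons4
import Groth.Agent.Lib.Helper2Constr
import Groth.Agent.S4863
import Groth.Agent.S4799
import Groth.Agent.Lib.Helper18Strict6

set_option autoImplicit false
open CategoryTheory AlgebraicGeometry
universe u
open Cons9

namespace Groth.Agent.S4833

open Groth.Agent.Lib.Helper26.RelFibFlat Groth.Agent.Lib.Helper26.FibFlatSch in
theorem aux {X Y S : Scheme.{u}} [IsIntegral S] [IsNoetherian S]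
    (g : X ⟶ Y) (h : Y ⟶ S) [LocallyOfFiniteType h] [QuasiCompact h]
    [LocallyOfFiniteType (g ≫ h)] [QuasiCompact (g ≫ h)]
    (F : X.Modules) [Coh.IsQCoh F] (hF : CohB1.IsFP F)
    (hη : ¬ FlatMod.IsFlatOver (fibMap g h (genericPoint S))
      ((Scheme.Modules.pullback ((g ≫ h).fiberι (genericPoint S))).obj F)) :
    ∃ U : S.Opens, genericPoint S ∈ U ∧ ∀ s ∈ U, ¬ FlatMod.IsFlatOver (fibMap g h s)
      ((Scheme.Modules.pullback ((g ≫ h).fiberι s)).obj F) := by
  haveI : IsLocallyNoetherian Y := LocallyOfFiniteType.isLocallyNoetherian h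
  haveI : IsLocallyNoetherian X := LocallyOfFiniteType.isLocallyNoetherian (g ≫ h)
  haveI : LocallyOfFiniteType g := locallyOfFiniteType_of_comp g h
  haveI : LocallyOfFinitePresentation g := LocallyOfFinitePresentation.iff_locallyOfFiniteType.2 ‹_›
  haveI : LocallyOfFinitePresentation (g ≫ h) :=
    LocallyOfFinitePresentation.iff_locallyOfFiniteType.2 ‹_›
  haveI : CompactSpace X := QuasiCompact.compactSpace_of_compactSpace (g ≫ h)
  haveI : IsNoetherian X := {}
  haveI : SheafOfModules.IsFinitePresentation (R := X.ringCatSheaf) F := hF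
  haveI : SheafOfModules.IsFiniteType (R := X.ringCatSheaf) F :=
    Groth.Agent.Helper18Strict.isFT_of_isFP F hF
  -- the flat locus of `F` relative to `g`
  have hW : IsOpen {x : X | FlatMod.IsFlatOverAt g F x} := Groth.Agent.S4863.result g F hF
  -- generic flatness over `S`
  obtain ⟨U₁, hU₁ne, hU₁⟩ := Groth.Agent.S4799.result (g ≫ h) F hF
  -- a flat stalk gives flat fibre stalk
  have key : ∀ (s : S) (z : (g ≫ h).fiber s),
      FlatMod.IsFlatOverAt (g ≫ h) F ((g ≫ h).fiberι s z) →
      FlatMod.IsFlatOverAt (fibMap g h s) ((Scheme.Modules.pullback ((g ≫ h).fiberι s)).obj F) z →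
      FlatMod.IsFlatOverAt g F ((g ≫ h).fiberι s z) := by
    intro s z h1 h2
    by_cases hnt : Nontrivial ↑(F.presheaf.stalk ((g ≫ h).fiberι s z))
    · exact ((Groth.Agent.Lib.Helper2.FibreCrit.fibre_criterion_modules g h F _ hnt).1
        ⟨h1, (isFlatOverAt_fibMap_iff g h F s z).1 h2⟩).2
    · rw [not_nontrivial_iff_subsingleton] at hnt
      unfold FlatMod.IsFlatOverAt
      letI := FlatMod.moduleStalkOver g F ((g ≫ h).fiberι s z)
      haveI := hnt
      infer_instance
  -- the non-flat locus and its image
  have hE : Topology.IsConstructible ((g ≫ h) '' {x : X | FlatMod.IsFlatOverAt g F x}ᶜ) :=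
    (g ≫ h).isConstructible_image
      (Groth.Agent.Lib.Helper2.Constr.isConstructible_of_isClosed hW.isClosed_compl)
  -- the generic point is in the image
  have hηE : genericPoint S ∈ (g ≫ h) '' {x : X | FlatMod.IsFlatOverAt g F x}ᶜ := by
    by_contra hcon
    apply hη
    intro z
    have hx : (g ≫ h) ((g ≫ h).fiberι (genericPoint S) z) = genericPoint S :=
      map_fiberι (g ≫ h) (genericPoint S) z
    have hxW : FlatMod.IsFlatOverAt g F ((g ≫ h).fiberι (genericPoint S) z) := by
      by_contra hxW
      exact hcon ⟨_, hxW, hx⟩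
    refine (isFlatOverAt_fibMap_iff g h F (genericPoint S) z).2 ?_
    by_cases hnt : Nontrivial ↑(F.presheaf.stalk ((g ≫ h).fiberι (genericPoint S) z))
    · refine ((Groth.Agent.Lib.Helper2.FibreCrit.fibre_criterion_modules g h F _ hnt).2
        ⟨?_, hxW⟩).2
      -- the local ring of `S` at the generic point is a field
      have hfield : IsField ↑(S.presheaf.stalk
          (h (g ((g ≫ h).fiberι (genericPoint S) z)))) := by
        have e : h (g ((g ≫ h).fiberι (genericPoint S) z)) = genericPoint S := hx
        rw [e]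
        exact Field.toIsField S.functionField
      letI := hfield.toField
      letI : Algebra ↑(S.presheaf.stalk (h (g ((g ≫ h).fiberι (genericPoint S) z))))
          ↑(Y.presheaf.stalk (g ((g ≫ h).fiberι (genericPoint S) z))) :=
        (h.stalkMap (g ((g ≫ h).fiberι (genericPoint S) z))).hom.toAlgebra
      change Module.Flat _ _
      infer_instance
    · rw [not_nontrivial_iff_subsingleton] at hnt
      letI := FlatMod.moduleStalkOver g F ((g ≫ h).fiberι (genericPoint S) z)
      haveI := hnt
      infer_instance
  have hint := Groth.Agent.Lib.Helper2.PairCons4.genericPoint_mem_interior _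
    hE.isLocallyConstructible hηE
  have hηU₁ : genericPoint S ∈ U₁ := by
    obtain ⟨a, ha⟩ := hU₁ne
    exact ((genericPoint_spec S).specializes (Set.mem_univ a)).mem_open
      U₁.2 ha
  refine ⟨U₁ ⊓ ⟨interior _, isOpen_interior⟩, ⟨hηU₁, hint⟩, ?_⟩
  rintro s ⟨hs1, hs2⟩ hfl
  obtain ⟨x, hxW, hxs⟩ := interior_subset hs2
  have hx' : x ∈ Set.range ((g ≫ h).fiberι s) := by
    rw [(g ≫ h).range_fiberι s]; exact hxs
  obtain ⟨z, rfl⟩ := hx'
  exact hxW (key s z (hU₁ _ (by rw [← hxs] at hs1; exact hs1)) (hfl z))

open CategoryTheory.Limits in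
/-- Let S be an integral Noetherian scheme with generic point η, let g : X ⟶ Y be an S-morphism between
schemes of finite type over S (structure morphisms h : Y ⟶ S and g ≫ h), and let F be a coherent
O_X-module. For s in S write g_s : X_s ⟶ Y_s for the morphism induced on the fibres over s and F_s
for the pullback of F to X_s. If F_η is not flat relative to g_η (not flat over O_{Y_η, g_η(x)} at
some point x of X_η), then there is an open neighbourhood U of η such that for every s in U the
module F_s is not flat relative to g_s. -/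
theorem result {X Y S : Scheme.{u}} [IsIntegral S] [IsNoetherian S]
    (g : X ⟶ Y) (h : Y ⟶ S) [LocallyOfFiniteType h] [QuasiCompact h]
    [LocallyOfFiniteType (g ≫ h)] [QuasiCompact (g ≫ h)]
    (F : X.Modules) [Coh.IsQCoh F] (hF : CohB1.IsFP F)
    (hη : ¬ FlatMod.IsFlatOver
      (pullback.lift (pullback.fst (g ≫ h) (S.fromSpecResidueField (genericPoint S)) ≫ g)
          (pullback.snd (g ≫ h) (S.fromSpecResidueField (genericPoint S)))
          ((Category.assoc _ _ _).trans pullback.condition) :
        pullback (g ≫ h) (S.fromSpecResidueField (genericPoint S)) ⟶ pullback h (S.fromSpecResidueField (genericPoint S)))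
      ((Scheme.Modules.pullback (pullback.fst (g ≫ h) (S.fromSpecResidueField (genericPoint S)))).obj F)) :
    ∃ U : S.Opens, genericPoint S ∈ U ∧ ∀ s ∈ U, ¬ FlatMod.IsFlatOver
      (pullback.lift (pullback.fst (g ≫ h) (S.fromSpecResidueField s) ≫ g) (pullback.snd (g ≫ h) (S.fromSpecResidueField s))
          ((Category.assoc _ _ _).trans pullback.condition) :
        pullback (g ≫ h) (S.fromSpecResidueField s) ⟶ pullback h (S.fromSpecResidueField s))
      ((Scheme.Modules.pullback (pullback.fst (g ≫ h) (S.fromSpecResidueField s))).obj F) := by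
  exact aux g h F hF hη

end Groth.Agent.S4833
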