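import Groth.Statements.S4834
import Mathlib

set_option autoImplicit false
open CategoryTheory CategoryTheory.Limits
universe u
open Lim8

namespace Groth.Agent.S4834

lemma key {A : Type u} [CommRing A] (M : ModuleCat.{u} A)
    {J : Type u} [Preorder J] [IsDirected J (· ≤ ·)] [Nonempty J]
    (N : J ⥤ ModuleCat.{u} A) (j j' : J) (y : M ⟶ N.obj j) (y' : M ⟶ N.obj j')
    (hab : y ≫ colimit.ι N j = y' ≫ colimit.ι N j') (S : Finset M) :
    ∃ (k : J) (f : j ⟶ k) (g : j' ⟶ k), ∀ m ∈ S, N.map f (y m) = N.map g (y' m) := by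
  classical
  induction S using Finset.induction_on with
  | empty =>
    obtain ⟨k, hk1, hk2⟩ := directed_of (· ≤ ·) j j'
    exact ⟨k, homOfLE hk1, homOfLE hk2, by simp⟩
  | insert m S hm ih =>
    obtain ⟨k1, f1, g1, h1⟩ := ih
    have hm' : colimit.ι N j (y m) = colimit.ι N j' (y' m) := by
      have := ConcreteCategory.congr_hom hab m
      simpa using this
    obtain ⟨k2, f2, g2, h2⟩ := Concrete.colimit_exists_of_rep_eq N (y m) (y' m) hm'
    obtain ⟨k, hk1, hk2⟩ := directed_of (· ≤ ·) k1 k2
    refine ⟨k, f1 ≫ homOfLE hk1, g1 ≫ homOfLE hk1, ?_⟩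
    intro x hx
    rw [Finset.mem_insert] at hx
    rcases hx with rfl | hx
    · have e1 : f1 ≫ homOfLE hk1 = f2 ≫ homOfLE hk2 := Subsingleton.elim _ _
      have e2 : g1 ≫ homOfLE hk1 = g2 ≫ homOfLE hk2 := Subsingleton.elim _ _
      rw [e1, e2, N.map_comp, N.map_comp, ModuleCat.comp_apply, ModuleCat.comp_apply, h2]
    · rw [N.map_comp, N.map_comp, ModuleCat.comp_apply, ModuleCat.comp_apply, h1 x hx]


lemma post_ι {A : Type u} [CommRing A] (M : ModuleCat.{u} A)
    {J : Type u} [Preorder J] [IsDirected J (· ≤ ·)] [Nonempty J]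
    (N : J ⥤ ModuleCat.{u} A) (i : J) (z : (N ⋙ coyoneda.obj (Opposite.op M)).obj i) :
    colimit.post N (coyoneda.obj (Opposite.op M))
        (colimit.ι (N ⋙ coyoneda.obj (Opposite.op M)) i z) =
      (show M ⟶ N.obj i from z) ≫ colimit.ι N i := by
  have := ConcreteCategory.congr_hom (colimit.ι_post N (coyoneda.obj (Opposite.op M)) i) z
  rw [ConcreteCategory.comp_apply] at this
  rw [this]
  rfl

/-- Let A be a commutative ring, M an A-module of finite type and (N_λ) an inductive system of A-modules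
indexed by a nonempty directed preordered set. Then the canonical map colim_λ Hom_A(M, N_λ) →
Hom_A(M, colim_λ N_λ), sending a compatible system of homomorphisms to its inductive limit, is
injective. This is the finite type case, in the form its proof gives. -/
theorem result {A : Type u} [CommRing A] (M : ModuleCat.{u} A)
    [Module.Finite A M] {J : Type u} [Preorder J] [IsDirected J (· ≤ ·)] [Nonempty J]
    (N : J ⥤ ModuleCat.{u} A) :
    Function.Injective (colimit.post N (coyoneda.obj (Opposite.op M))) := by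
  intro a b hab
  obtain ⟨j, y, rfl⟩ := Types.jointly_surjective' a
  obtain ⟨j', y', rfl⟩ := Types.jointly_surjective' b
  rw [post_ι, post_ι] at hab
  obtain ⟨S, hS⟩ := (Module.Finite.fg_top : (⊤ : Submodule A M).FG)
  obtain ⟨k, f, g, hk⟩ := key M N j j' y y' hab S
  rw [Types.FilteredColimit.colimit_eq_iff]
  refine ⟨k, f, g, ?_⟩
  show (show M ⟶ N.obj j from y) ≫ N.map f = (show M ⟶ N.obj j' from y') ≫ N.map g
  apply ModuleCat.hom_ext
  apply LinearMap.ext_on hS
  intro m hm
  exact hk m hm

end Groth.Agent.S4834
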