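import Groth.Statements.S4835
import Mathlib
import Groth.Agent.S4834

set_option autoImplicit false
open CategoryTheory CategoryTheory.Limits
universe u
open Lim8

namespace Groth.Agent.S4835

section aux
variable {A : Type u} [CommRing A] {J : Type u} [Preorder J] [IsDirected J (· ≤ ·)] [Nonempty J]
  (N : J ⥤ ModuleCat.{u} A)

lemma La {ι : Type*} (x : ι → (colimit N : ModuleCat.{u} A)) (S : Finset ι) :
    ∃ k : J, ∀ i ∈ S, ∃ z : N.obj k, colimit.ι N k z = x i := by
  classical
  induction S using Finset.induction_on with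
  | empty => exact ⟨Classical.arbitrary J, by simp⟩
  | insert a S ha ih =>
    obtain ⟨k1, h1⟩ := ih
    obtain ⟨k2, z2, hz2⟩ := Concrete.colimit_exists_rep N (x a)
    obtain ⟨k, hk1, hk2⟩ := directed_of (· ≤ ·) k1 k2
    refine ⟨k, fun i hi => ?_⟩
    rw [Finset.mem_insert] at hi
    rcases hi with rfl | hi
    · refine ⟨N.map (homOfLE hk2) z2, ?_⟩
      rw [← hz2, ← ModuleCat.comp_apply, colimit.w]
    · obtain ⟨z, hz⟩ := h1 i hi
      refine ⟨N.map (homOfLE hk1) z, ?_⟩
      rw [← hz, ← ModuleCat.comp_apply, colimit.w]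

lemma Lb {ι : Type*} (k : J) (w : ι → N.obj k) (hw : ∀ l, colimit.ι N k (w l) = 0) (S : Finset ι) :
    ∃ (k' : J) (h : k ⟶ k'), ∀ l ∈ S, N.map h (w l) = 0 := by
  classical
  induction S using Finset.induction_on with
  | empty => exact ⟨k, 𝟙 k, by simp⟩
  | insert a S ha ih =>
    obtain ⟨k1, h1, hh1⟩ := ih
    have h0 : colimit.ι N k (w a) = colimit.ι N k (0 : N.obj k) := by rw [hw a, map_zero]
    obtain ⟨k2, f2, g2, hfg⟩ := Concrete.colimit_exists_of_rep_eq N (w a) (0 : N.obj k) h0
    rw [map_zero] at hfg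
    obtain ⟨k', hk1, hk2⟩ := directed_of (· ≤ ·) k1 k2
    refine ⟨k', h1 ≫ homOfLE hk1, fun l hl => ?_⟩
    rw [Finset.mem_insert] at hl
    rcases hl with rfl | hl
    · have e1 : h1 ≫ homOfLE hk1 = f2 ≫ homOfLE hk2 := Subsingleton.elim _ _
      rw [e1, N.map_comp, ModuleCat.comp_apply, hfg, map_zero]
    · rw [N.map_comp, ModuleCat.comp_apply, hh1 l hl, map_zero]


lemma surj (M : ModuleCat.{u} A) [Module.FinitePresentation A M] (φ : M ⟶ colimit N) :
    ∃ (k : J) (ψ : M ⟶ N.obj k), ψ ≫ colimit.ι N k = φ := by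
  obtain ⟨n, m, f, g, hf, hfg⟩ := Module.FinitePresentation.exists_fin' A M
  -- step 1
  obtain ⟨k, hk⟩ := La N (fun i : Fin n => φ (f (Pi.single i 1))) Finset.univ
  choose z hz using fun i => hk i (Finset.mem_univ i)
  let ψ0 : (Fin n → A) →ₗ[A] N.obj k := (Pi.basisFun A (Fin n)).constr A z
  have hψ0 : ∀ v, colimit.ι N k (ψ0 v) = φ (f v) := by
    intro v
    have : (colimit.ι N k).hom ∘ₗ ψ0 = φ.hom ∘ₗ f := by
      apply (Pi.basisFun A (Fin n)).ext
      intro i
      simp only [LinearMap.coe_comp, Function.comp_apply, ψ0, Module.Basis.constr_basis]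
      rw [Pi.basisFun_apply]
      exact hz i
    exact LinearMap.congr_fun this v
  -- step 2
  have hw : ∀ l : Fin m, colimit.ι N k (ψ0 (g (Pi.single l 1))) = 0 := by
    intro l
    rw [hψ0, hfg.apply_apply_eq_zero, map_zero]
  obtain ⟨k', h, hk'⟩ := Lb N k (fun l : Fin m => ψ0 (g (Pi.single l 1))) hw Finset.univ
  let ψ1 : (Fin n → A) →ₗ[A] N.obj k' := (N.map h).hom ∘ₗ ψ0
  have hψ1g : ψ1 ∘ₗ g = 0 := by
    apply (Pi.basisFun A (Fin m)).ext
    intro l
    simp only [LinearMap.coe_comp, Function.comp_apply, ψ1, LinearMap.zero_apply]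
    rw [Pi.basisFun_apply]
    exact hk' l (Finset.mem_univ l)
  have hker : LinearMap.ker f ≤ LinearMap.ker ψ1 := by
    intro v hv
    obtain ⟨u, rfl⟩ := (hfg v).1 hv
    exact LinearMap.congr_fun hψ1g u
  let ψ2 : M →ₗ[A] N.obj k' :=
    ((LinearMap.ker f).liftQ ψ1 hker) ∘ₗ (LinearMap.quotKerEquivOfSurjective f hf).symm.toLinearMap
  have hψ2 : ∀ v, ψ2 (f v) = ψ1 v := by
    intro v
    have : (LinearMap.quotKerEquivOfSurjective f hf).symm (f v) = Submodule.Quotient.mk v := by
      rw [LinearEquiv.symm_apply_eq]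
      rfl
    simp only [ψ2, LinearMap.coe_comp, LinearEquiv.coe_coe, Function.comp_apply, this]
    rfl
  refine ⟨k', ModuleCat.ofHom ψ2, ?_⟩
  apply ModuleCat.hom_ext
  apply LinearMap.ext
  intro x
  obtain ⟨v, rfl⟩ := hf x
  show colimit.ι N k' (ψ2 (f v)) = φ (f v)
  rw [hψ2, ← hψ0]
  show colimit.ι N k' (N.map h (ψ0 v)) = _
  rw [← ModuleCat.comp_apply, colimit.w]


end aux

/-- Let A be a commutative ring, M an A-module of finite presentation and (N_λ) an inductive system of
A-modules indexed by a nonempty directed preordered set. Then the canonical map colim_λ Hom_A(M,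
N_λ) → Hom_A(M, colim_λ N_λ), sending a compatible system of homomorphisms to its inductive limit,
is bijective. This is the form established in the source's proof (finite presentation case). -/
theorem result {A : Type u} [CommRing A] (M : ModuleCat.{u} A)
    [Module.FinitePresentation A M] {J : Type u} [Preorder J] [IsDirected J (· ≤ ·)] [Nonempty J]
    (N : J ⥤ ModuleCat.{u} A) :
    Function.Bijective (colimit.post N (coyoneda.obj (Opposite.op M))) := by
  refine ⟨Groth.Agent.S4834.result M N, fun φ => ?_⟩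
  obtain ⟨k, ψ, hψ⟩ := surj N M φ
  refine ⟨colimit.ι (N ⋙ coyoneda.obj (Opposite.op M)) k ψ, ?_⟩
  rw [Groth.Agent.S4834.post_ι]
  exact hψ

end Groth.Agent.S4835
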