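import Groth.Statements.S4841
import Groth.Agent.Lib.Helper7LimComp
import Groth.Agent.S4769

set_option autoImplicit false
universe u
open CategoryTheory AlgebraicGeometry
open Lim8

namespace Groth.Agent.S4841

/-- Let S = lim S_i be a cofiltered limit of schemes whose transition maps are affine and topological
embeddings (homeomorphisms onto subspaces), some stage S_{i₀} having Noetherian underlying space,
and assume that the underlying space of S is Noetherian. Then there is an index i over i₀ such that,
for every j over i, the map sending an irreducible component Y of S to the closure of its image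
under S ⟶ S_j is a bijection from the set of irreducible components of S onto the set of irreducible
components of S_j. -/
theorem result {I : Type u} [SmallCategory I] [IsCofiltered I]
    (D : I ⥤ Scheme.{u}) (c : Limits.Cone D) (hc : Limits.IsLimit c)
    [∀ (i j : I) (f : i ⟶ j), IsAffineHom (D.map f)] (i₀ : I)
    [TopologicalSpace.NoetherianSpace (D.obj i₀)] [TopologicalSpace.NoetherianSpace c.pt]
    (he : ∀ (i j : I) (φ : i ⟶ j), Topology.IsEmbedding ⇑(D.map φ)) :
    ∃ (i : I) (_ : i ⟶ i₀), ∀ (j : I) (_ : j ⟶ i),
      Set.BijOn (fun Y : Set c.pt => closure (⇑(c.π.app j) '' (Y : Set c.pt) : Set (D.obj j)))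
        (irreducibleComponents c.pt) (irreducibleComponents (D.obj j)) := by
  obtain ⟨j₀, ψ₀, hdense⟩ :=
    Groth.Agent.Lib.Helper7.exists_stage_forall_denseRange_of_isEmbedding D i₀ he
  have hN : TopologicalSpace.NoetherianSpace (D.obj j₀) :=
    (he _ _ ψ₀).isInducing.noetherianSpace
  -- the system over `j₀`
  let D' : Over j₀ ⥤ Scheme.{u} := Over.forget j₀ ⋙ D
  let c' : Limits.Cone D' := c.whisker (Over.forget j₀)
  have hc' : Limits.IsLimit c' := (Functor.Initial.isLimitWhiskerEquiv (Over.forget j₀) c).symm hc
  have haff : ∀ (i j : Over j₀) (f : i ⟶ j), IsAffineHom (D'.map f) := fun i j f => by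
    dsimp [D']; infer_instance
  have hcpt : CompactSpace (D'.obj (Over.mk (𝟙 j₀))) :=
    @TopologicalSpace.NoetherianSpace.compactSpace _ _ hN
  have hNpt : TopologicalSpace.NoetherianSpace c'.pt :=
    inferInstanceAs (TopologicalSpace.NoetherianSpace c.pt)
  have hd : ∀ (i j : Over j₀) (φ : i ⟶ j), IsDominant (D'.map φ) := fun i j φ =>
    ⟨hdense j.left i.left j.hom φ.left⟩
  obtain ⟨i', a', h'⟩ := Groth.Agent.S4769.result D' c' hc' (Over.mk (𝟙 j₀)) hd
  refine ⟨i'.left, i'.hom ≫ ψ₀, fun j φ => ?_⟩
  exact h' (Over.mk (φ ≫ i'.hom)) (Over.homMk φ)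

end Groth.Agent.S4841
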