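import Groth.Statements.S4845
-- import your own Groth.Agent.* helpers here
import Mathlib
import Groth.Agent.S4846
import Groth.Agent.Lib.Helper26RelAmpleBC
import Groth.Agent.Lib.Helper3ResFieldLim
import Groth.Agent.Lib.Helper3BaseMap

set_option autoImplicit false
open CategoryTheory AlgebraicGeometry
universe u
open Cons9

namespace Groth.Agent.S4845

open Groth.Agent.Lib.Helper3.ResFieldColim Groth.Agent.Lib.Helper3.ResFieldLim
  Groth.Agent.Lib.Helper3.BaseMap Groth.Agent.Lib.Helper26.RelAmpleBC Groth.Agent.Lib.Helper26.ModLim2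
  Groth.Agent.Lib.Helper23.PB CategoryTheory.Limits Topology

set_option linter.style.haveILetI false

/-- residue field maps of morphisms surjective on stalks are isomorphisms -/
theorem isIso_residueFieldMap {X Y : Scheme.{u}} (f : X ⟶ Y) [SurjectiveOnStalks f] (x : X) :
    IsIso (f.residueFieldMap x) := by
  have hsurj : Function.Surjective (f.residueFieldMap x).hom := by
    have h1 := Scheme.residue_residueFieldMap f x
    have h2 : Function.Surjective (f.stalkMap x ≫ X.residue x).hom := by
      rw [CommRingCat.hom_comp]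
      exact (X.residue_surjective x).comp (f.stalkMap_surjective x)
    rw [← h1, CommRingCat.hom_comp, RingHom.coe_comp] at h2
    exact Function.Surjective.of_comp h2
  have hinj : Function.Injective (f.residueFieldMap x).hom := RingHom.injective _
  exact (ConcreteCategory.isIso_iff_bijective _).2 ⟨hinj, hsurj⟩

variable {X Y S : Scheme.{u}} (f : X ⟶ Y) (g : Y ⟶ S) (L : X.Modules)

/-- the fibrewise property -/
def PA {T : Scheme.{u}} (a : T ⟶ S) : Prop :=
  RelAmple.IsRelAmple (baseMap f g a) ((Scheme.Modules.pullback (pullback.fst (f ≫ g) a)).obj L)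

theorem PA_congr {T : Scheme.{u}} {a a' : T ⟶ S} (e : a = a') (h : PA f g L a) : PA f g L a' := by
  subst e; exact h

theorem PA_congr_point {x y : S} (e : x = y) (h : PA f g L (S.fromSpecResidueField x)) :
    PA f g L (S.fromSpecResidueField y) := by
  subst e; exact h

section
variable [QuasiCompact f] [QuasiSeparated f] (hL : PicF.IsInvertible L)
include hL

theorem PA_of_comp {T T' : Scheme.{u}} (a : T ⟶ S) (b : T' ⟶ T) [IsAffineHom b] (h : PA f g L a) :
    PA f g L (b ≫ a) := by
  haveI : IsAffineHom (baseMapY g a b) :=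
    MorphismProperty.of_isPullback (P := @IsAffineHom) (isPullback_baseMapY g a b).flip inferInstance
  haveI : QuasiCompact (baseMap f g a) :=
    MorphismProperty.of_isPullback (P := @QuasiCompact) (isPullback_baseMap f g a) inferInstance
  haveI : QuasiSeparated (baseMap f g a) :=
    MorphismProperty.of_isPullback (P := @QuasiSeparated) (isPullback_baseMap f g a) inferInstance
  have h1 := isRelAmple_of_isPullback (isPullback_baseMap_comp f g a b) _
    (isInvertible_pullback (pullback.fst (f ≫ g) a) L hL) h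
  exact isRelAmple_of_iso _ ((compIso (baseMapY (f ≫ g) a b) (pullback.fst (f ≫ g) a) _
    (baseMapY_fst (f ≫ g) a b)).app L) h1

theorem PA_of_isPullback {T XT YT : Scheme.{u}} (a : T ⟶ S) {pY : YT ⟶ Y} {gT : YT ⟶ T}
    {pX : XT ⟶ X} {fT : XT ⟶ YT} (hY : IsPullback pY gT g a) (hX : IsPullback pX fT f pY)
    (h : RelAmple.IsRelAmple fT ((Scheme.Modules.pullback pX).obj L)) : PA f g L a := by
  have hXa : IsPullback pX (fT ≫ gT) (f ≫ g) a := hX.paste_vert hY
  have key : hXa.isoPullback.hom ≫ baseMap f g a = fT ≫ hY.isoPullback.hom := by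
    apply pullback.hom_ext
    · simp [hX.w]
    · simp
  have key' : hXa.isoPullback.inv ≫ fT = baseMap f g a ≫ hY.isoPullback.inv := by
    rw [Iso.inv_comp_eq, ← Category.assoc, key, Category.assoc, Iso.hom_inv_id, Category.comp_id]
  have sq : IsPullback hXa.isoPullback.inv (baseMap f g a) fT hY.isoPullback.inv :=
    IsPullback.of_horiz_isIso ⟨key'⟩
  haveI : QuasiCompact fT := MorphismProperty.of_isPullback (P := @QuasiCompact) hX inferInstance
  haveI : QuasiSeparated fT := MorphismProperty.of_isPullback (P := @QuasiSeparated) hX inferInstance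
  have h1 := isRelAmple_of_isPullback sq _ (isInvertible_pullback pX L hL) h
  exact isRelAmple_of_iso _ ((compIso hXa.isoPullback.inv pX _ hXa.isoPullback_inv_fst).app L) h1

end

section Key
variable [LocallyOfFinitePresentation g] [QuasiCompact g] [QuasiSeparated g]
  [LocallyOfFinitePresentation (f ≫ g)] [QuasiCompact (f ≫ g)] [QuasiSeparated (f ≫ g)]
  (hL : PicF.IsInvertible L)
include hL

theorem exists_stage {U : S.Opens} (hU : IsAffineOpen U) (s : S) (hs : s ∈ U)
    (h : PA f g L (S.fromSpecResidueField s)) :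
    ∃ j : Idx (ev s hs), PA f g L (toS hU s hs j) := by
  haveI : QuasiCompact f := QuasiCompact.of_comp f g
  haveI : QuasiSeparated f := QuasiSeparated.of_comp f g
  let j₀ : Idx (ev s hs) := ⟨⊥, Submodule.fg_bot, bot_le, 1, by rw [map_one]; exact one_ne_zero⟩
  let a₀ := toS hU s hs j₀
  let π := (c s hs).π.app (Opposite.op j₀)
  have hπ : π ≫ a₀ = S.fromSpecResidueField s := π_toS hU s hs j₀
  haveI : LocallyOfFinitePresentation (baseMap f g a₀ ≫ pullback.snd g a₀) := by
    rw [baseMap_snd]; infer_instance
  haveI : QuasiCompact (baseMap f g a₀ ≫ pullback.snd g a₀) := by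
    rw [baseMap_snd]; infer_instance
  haveI : QuasiSeparated (baseMap f g a₀ ≫ pullback.snd g a₀) := by
    rw [baseMap_snd]; infer_instance
  have hL₀ : PicF.IsInvertible ((Scheme.Modules.pullback (pullback.fst (f ≫ g) a₀)).obj L) :=
    isInvertible_pullback _ L hL
  have h0 : PA f g L (π ≫ a₀) := PA_congr f g L hπ.symm h
  have h0' : RelAmple.IsRelAmple (baseMap f g (π ≫ a₀))
      ((Scheme.Modules.pullback (baseMapY (f ≫ g) a₀ π)).obj
        ((Scheme.Modules.pullback (pullback.fst (f ≫ g) a₀)).obj L)) :=
    isRelAmple_of_iso _ ((compIso (baseMapY (f ≫ g) a₀ π) (pullback.fst (f ≫ g) a₀) _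
      (baseMapY_fst (f ≫ g) a₀ π)).app L).symm h0
  obtain ⟨i, φ', Xi, Yi, fi, gi, pY, pX, h1, h2, h3⟩ :=
    (Groth.Agent.S4846.result (D s hs) (c s hs) (hc hU s hs)
      (Opposite.op j₀) (baseMap f g a₀) (pullback.snd g a₀) _ hL₀ (baseMap f g (π ≫ a₀))
      (pullback.snd g (π ≫ a₀)) (baseMapY g a₀ π) (baseMapY (f ≫ g) a₀ π)
      (isPullback_baseMapY g a₀ π) (isPullback_baseMap_comp f g a₀ π)).1 h0'
  obtain ⟨j, rfl⟩ : ∃ j, i = Opposite.op j := ⟨i.unop, rfl⟩
  refine ⟨j, ?_⟩
  have hY' := h1.paste_horiz (IsPullback.of_hasPullback g a₀)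
  have hX' := h2.paste_horiz (isPullback_baseMap f g a₀)
  have h3' : RelAmple.IsRelAmple fi
      ((Scheme.Modules.pullback (pX ≫ pullback.fst (f ≫ g) a₀)).obj L) :=
    isRelAmple_of_iso _ ((compIso pX (pullback.fst (f ≫ g) a₀) _ rfl).app L) h3
  have h4 := PA_of_isPullback f g L hL _ hY' hX' h3'
  have hle : j₀ ≤ j := leOfHom φ'.unop
  have h5 : (D s hs).map φ' ≫ a₀ = toS hU s hs j := by
    have : φ' = (homOfLE hle).op := by
      apply Quiver.Hom.unop_inj
      exact Subsingleton.elim _ _
    rw [this]
    exact map_toS hU s hs hle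
  exact PA_congr f g L h5 h4

instance surjectiveOnStalks_toS {U : S.Opens} (hU : IsAffineOpen U) (s : S) (hs : s ∈ U)
    (j : Idx (ev s hs)) : SurjectiveOnStalks (toS hU s hs j) := by
  rw [toS_eq]
  have h1 : SurjectiveOnStalks (Spec.map (CommRingCat.ofHom (toA j))) := by
    rw [HasRingHomProperty.Spec_iff (P := @SurjectiveOnStalks)]
    exact (RingHom.surjectiveOnStalks_of_surjective Ideal.Quotient.mk_surjective).comp
      (RingHom.surjectiveOnStalks_of_isLocalization (Submonoid.powers j.h) _)
  exact @SurjectiveOnStalks.comp (Spec (CommRingCat.of (A j))) _ _ _ _ h1 inferInstance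

theorem exists_locallyConstructible_nhd {U : S.Opens} (hU : IsAffineOpen U) (s : S) (hs : s ∈ U)
    (h : PA f g L (S.fromSpecResidueField s)) :
    ∃ T : Set (U : Scheme.{u}), IsLocallyConstructible T ∧ (⟨s, hs⟩ : U) ∈ T ∧
      ∀ u ∈ T, PA f g L (S.fromSpecResidueField u.1) := by
  haveI : QuasiCompact f := QuasiCompact.of_comp f g
  haveI : QuasiSeparated f := QuasiSeparated.of_comp f g
  obtain ⟨j, hj⟩ := exists_stage f g L hL hU s hs h
  haveI : IsAffine (U : Scheme.{u}) := hU
  refine ⟨Set.range (toU hU s hs j), ?_, ?_, ?_⟩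
  · rw [← Set.image_univ]
    exact (toU hU s hs j).isLocallyConstructible_image IsLocallyConstructible.univ
  · haveI : Nonempty (c s hs).pt :=
      inferInstanceAs (Nonempty (PrimeSpectrum (S.residueField s)))
    let pt : (c s hs).pt := Classical.arbitrary _
    refine ⟨(c s hs).π.app (Opposite.op j) pt, ?_⟩
    apply Subtype.ext
    have h1 : (toS hU s hs j) ((c s hs).π.app (Opposite.op j) pt) = s := by
      rw [← Scheme.Hom.comp_apply, π_toS]
      exact Scheme.fromSpecResidueField_apply _ _
    exact h1
  · rintro _ ⟨t, rfl⟩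
    have h1 : PA f g L (((D s hs).obj (Opposite.op j)).fromSpecResidueField t ≫ toS hU s hs j) :=
      PA_of_comp f g L hL _ _ hj
    rw [← Scheme.Hom.SpecMap_residueFieldMap_fromSpecResidueField] at h1
    haveI : IsIso ((toS hU s hs j).residueFieldMap t) := isIso_residueFieldMap _ t
    have h2 := PA_of_comp f g L hL _ (inv (Spec.map ((toS hU s hs j).residueFieldMap t))) h1
    rw [IsIso.inv_hom_id_assoc] at h2
    exact h2

end Key

open CategoryTheory.Limits in
/-- Let g : Y ⟶ S and f : X ⟶ Y be such that X and Y are of finite presentation over S (locally of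
finite presentation, quasi-compact and quasi-separated), and let L be an invertible O_X-module. For
each point s of S let f_s : X_s ⟶ Y_s be the morphism induced on the fibres over s and L_s the
pullback of L to X_s. Then the set of s for which L_s is ample relative to f_s is ind-constructible
in S. This is the case of relative ampleness (the very ample case is not stated here). -/
theorem result {X Y S : Scheme.{u}} (f : X ⟶ Y) (g : Y ⟶ S)
    [LocallyOfFinitePresentation g] [QuasiCompact g] [QuasiSeparated g]
    [LocallyOfFinitePresentation (f ≫ g)] [QuasiCompact (f ≫ g)] [QuasiSeparated (f ≫ g)]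
    (L : X.Modules) (hL : PicF.IsInvertible L) :
    ProCons.IsIndConstructible {s : S |
      RelAmple.IsRelAmple
        (pullback.lift (pullback.fst (f ≫ g) (S.fromSpecResidueField s) ≫ f) (pullback.snd (f ≫ g) (S.fromSpecResidueField s))
          ((Category.assoc _ _ _).trans pullback.condition) :
        pullback (f ≫ g) (S.fromSpecResidueField s) ⟶ pullback g (S.fromSpecResidueField s))
        ((Scheme.Modules.pullback (pullback.fst (f ≫ g) (S.fromSpecResidueField s))).obj L)} := by
  intro x
  obtain ⟨_, ⟨U : S.Opens, hU, rfl⟩, hxU, -⟩ := S.isBasis_affineOpens.exists_subset_of_mem_open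
    (Set.mem_univ x) isOpen_univ
  refine ⟨U, U.2, hxU, {T : Set ↥U | IsLocallyConstructible T ∧
    ∀ u ∈ T, PA f g L (S.fromSpecResidueField u.1)}, fun T hT => hT.1, ?_⟩
  ext u
  constructor
  · intro hu
    obtain ⟨T, h1, h2, h3⟩ := exists_locallyConstructible_nhd f g L hL hU u.1 u.2 hu
    exact ⟨T, ⟨h1, h3⟩, h2⟩
  · rintro ⟨T, ⟨-, hT⟩, huT⟩
    exact hT u huT

end Groth.Agent.S4845
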