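import Groth.Statements.S4844
-- import your own Groth.Agent.* helpers here
import Mathlib
import Groth.Agent.Lib.Helper26QProjLim
import Groth.Agent.Lib.Helper3ResFieldLim
import Groth.Agent.Lib.Helper3BaseMap
import Groth.Agent.S4845

set_option autoImplicit false
open CategoryTheory AlgebraicGeometry
universe u
open Cons9

namespace Groth.Agent.S4844

set_option linter.unusedSectionVars false

open Groth.Agent.Lib.Helper3.ResFieldColim Groth.Agent.Lib.Helper3.ResFieldLim
  Groth.Agent.Lib.Helper3.BaseMap Groth.Agent.Lib.Helper26.RelAmpleBC Groth.Agent.Lib.Helper26.ModLim2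
  Groth.Agent.Lib.Helper23.SecTw CategoryTheory.Limits Topology

set_option linter.style.haveILetI false

variable {X Y S : Scheme.{u}} (f : X ⟶ Y) (g : Y ⟶ S)

/-- the fibrewise property -/
def PQ {T : Scheme.{u}} (a : T ⟶ S) : Prop := RelProj.IsQuasiProjective (baseMap f g a)

theorem PQ_congr {T : Scheme.{u}} {a a' : T ⟶ S} (e : a = a') (h : PQ f g a) : PQ f g a' := by
  subst e; exact h

section
variable [QuasiCompact f] [QuasiSeparated f]

theorem PQ_of_comp {T T' : Scheme.{u}} (a : T ⟶ S) (b : T' ⟶ T) [IsAffineHom b] (h : PQ f g a) :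
    PQ f g (b ≫ a) := by
  haveI : IsAffineHom (baseMapY g a b) :=
    MorphismProperty.of_isPullback (P := @IsAffineHom) (isPullback_baseMapY g a b).flip inferInstance
  haveI : QuasiCompact (baseMap f g a) :=
    MorphismProperty.of_isPullback (P := @QuasiCompact) (isPullback_baseMap f g a) inferInstance
  haveI : QuasiSeparated (baseMap f g a) :=
    MorphismProperty.of_isPullback (P := @QuasiSeparated) (isPullback_baseMap f g a) inferInstance
  obtain ⟨h1, h2, L, hL⟩ := h
  exact ⟨MorphismProperty.of_isPullback (P := @LocallyOfFiniteType) (isPullback_baseMap_comp f g a b) h1,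
    MorphismProperty.of_isPullback (P := @QuasiCompact) (isPullback_baseMap_comp f g a b) h2, _,
    isRelAmple_of_isPullback (isPullback_baseMap_comp f g a b) L (isInvertible_of_isRelAmple _ L hL) hL⟩

theorem PQ_of_isPullback {T XT YT : Scheme.{u}} (a : T ⟶ S) {pY : YT ⟶ Y} {gT : YT ⟶ T}
    {pX : XT ⟶ X} {fT : XT ⟶ YT} (hY : IsPullback pY gT g a) (hX : IsPullback pX fT f pY)
    (h : RelProj.IsQuasiProjective fT) : PQ f g a := by
  have hXa : IsPullback pX (fT ≫ gT) (f ≫ g) a := hX.paste_vert hY
  have key : hXa.isoPullback.hom ≫ baseMap f g a = fT ≫ hY.isoPullback.hom := by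
    apply pullback.hom_ext
    · simp [hX.w]
    · simp
  have key' : hXa.isoPullback.inv ≫ fT = baseMap f g a ≫ hY.isoPullback.inv := by
    rw [Iso.inv_comp_eq, ← Category.assoc, key, Category.assoc, Iso.hom_inv_id, Category.comp_id]
  have sq : IsPullback hXa.isoPullback.inv (baseMap f g a) fT hY.isoPullback.inv :=
    IsPullback.of_horiz_isIso ⟨key'⟩
  haveI : QuasiCompact fT := MorphismProperty.of_isPullback (P := @QuasiCompact) hX inferInstance
  haveI : QuasiSeparated fT := MorphismProperty.of_isPullback (P := @QuasiSeparated) hX inferInstance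
  obtain ⟨h1, h2, L, hL⟩ := h
  exact ⟨MorphismProperty.of_isPullback (P := @LocallyOfFiniteType) sq h1,
    MorphismProperty.of_isPullback (P := @QuasiCompact) sq h2, _,
    isRelAmple_of_isPullback sq L (isInvertible_of_isRelAmple _ L hL) hL⟩

end

section Key
variable [LocallyOfFinitePresentation g] [QuasiCompact g] [QuasiSeparated g]
  [LocallyOfFinitePresentation (f ≫ g)] [QuasiCompact (f ≫ g)] [QuasiSeparated (f ≫ g)]

theorem exists_stage {U : S.Opens} (hU : IsAffineOpen U) (s : S) (hs : s ∈ U)
    (h : PQ f g (S.fromSpecResidueField s)) :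
    ∃ j : Idx (ev s hs), PQ f g (toS hU s hs j) := by
  haveI : QuasiCompact f := QuasiCompact.of_comp f g
  haveI : QuasiSeparated f := QuasiSeparated.of_comp f g
  haveI : LocallyOfFiniteType f := locallyOfFiniteType_of_comp f g
  let j₀ : Idx (ev s hs) := ⟨⊥, Submodule.fg_bot, bot_le, 1, by rw [map_one]; exact one_ne_zero⟩
  let a₀ := toS hU s hs j₀
  let π := (c s hs).π.app (Opposite.op j₀)
  have hπ : π ≫ a₀ = S.fromSpecResidueField s := π_toS hU s hs j₀
  haveI : LocallyOfFinitePresentation (baseMap f g a₀ ≫ pullback.snd g a₀) := by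
    rw [baseMap_snd]; infer_instance
  haveI : QuasiCompact (baseMap f g a₀ ≫ pullback.snd g a₀) := by
    rw [baseMap_snd]; infer_instance
  haveI : QuasiSeparated (baseMap f g a₀ ≫ pullback.snd g a₀) := by
    rw [baseMap_snd]; infer_instance
  have h0 : PQ f g (π ≫ a₀) := PQ_congr f g hπ.symm h
  obtain ⟨-, -, L, hL⟩ := h0
  obtain ⟨i, φ', Xi, Yi, fi, gi, pY, pX, h1, h2, Li, h3⟩ :=
    Groth.Agent.Lib.Helper26.QProjLim.exists_stage_isRelAmple (D s hs) (c s hs) (hc hU s hs)
      (Opposite.op j₀) (baseMap f g a₀) (pullback.snd g a₀) (baseMap f g (π ≫ a₀))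
      (pullback.snd g (π ≫ a₀)) (baseMapY g a₀ π) (baseMapY (f ≫ g) a₀ π)
      (isPullback_baseMapY g a₀ π) (isPullback_baseMap_comp f g a₀ π) L hL
  obtain ⟨j, rfl⟩ : ∃ j, i = Opposite.op j := ⟨i.unop, rfl⟩
  refine ⟨j, ?_⟩
  have hY' := h1.paste_horiz (IsPullback.of_hasPullback g a₀)
  have hX' := h2.paste_horiz (isPullback_baseMap f g a₀)
  have hfi : RelProj.IsQuasiProjective fi :=
    ⟨MorphismProperty.of_isPullback (P := @LocallyOfFiniteType) hX' inferInstance,
      MorphismProperty.of_isPullback (P := @QuasiCompact) hX' inferInstance, Li, h3⟩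
  have h4 := PQ_of_isPullback f g _ hY' hX' hfi
  have hle : j₀ ≤ j := leOfHom φ'.unop
  have h5 : (D s hs).map φ' ≫ a₀ = toS hU s hs j := by
    have : φ' = (homOfLE hle).op := by
      apply Quiver.Hom.unop_inj
      exact Subsingleton.elim _ _
    rw [this]
    exact map_toS hU s hs hle
  exact PQ_congr f g h5 h4

theorem exists_locallyConstructible_nhd {U : S.Opens} (hU : IsAffineOpen U) (s : S) (hs : s ∈ U)
    (h : PQ f g (S.fromSpecResidueField s)) :
    ∃ T : Set (U : Scheme.{u}), IsLocallyConstructible T ∧ (⟨s, hs⟩ : U) ∈ T ∧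
      ∀ u ∈ T, PQ f g (S.fromSpecResidueField u.1) := by
  haveI : QuasiCompact f := QuasiCompact.of_comp f g
  haveI : QuasiSeparated f := QuasiSeparated.of_comp f g
  obtain ⟨j, hj⟩ := exists_stage f g hU s hs h
  haveI : IsAffine (U : Scheme.{u}) := hU
  refine ⟨Set.range (toU hU s hs j), ?_, ?_, ?_⟩
  · rw [← Set.image_univ]
    exact (toU hU s hs j).isLocallyConstructible_image IsLocallyConstructible.univ
  · haveI : Nonempty (c s hs).pt :=
      inferInstanceAs (Nonempty (PrimeSpectrum (S.residueField s)))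
    let pt : (c s hs).pt := Classical.arbitrary _
    refine ⟨(c s hs).π.app (Opposite.op j) pt, ?_⟩
    apply Subtype.ext
    have h1 : (toS hU s hs j) ((c s hs).π.app (Opposite.op j) pt) = s := by
      rw [← Scheme.Hom.comp_apply, π_toS]
      exact Scheme.fromSpecResidueField_apply _ _
    exact h1
  · rintro _ ⟨t, rfl⟩
    have h1 : PQ f g (((D s hs).obj (Opposite.op j)).fromSpecResidueField t ≫ toS hU s hs j) :=
      PQ_of_comp f g _ _ hj
    rw [← Scheme.Hom.SpecMap_residueFieldMap_fromSpecResidueField] at h1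
    haveI : IsIso ((toS hU s hs j).residueFieldMap t) := Groth.Agent.S4845.isIso_residueFieldMap _ t
    have h2 := PQ_of_comp f g _ (inv (Spec.map ((toS hU s hs j).residueFieldMap t))) h1
    rw [IsIso.inv_hom_id_assoc] at h2
    exact h2

end Key

open CategoryTheory.Limits in
/-- Let g : Y ⟶ S and f : X ⟶ Y be such that X and Y are of finite presentation over S (locally of
finite presentation, quasi-compact and quasi-separated). For each point s of S let f_s : X_s ⟶ Y_s
be the morphism induced on the fibres over s. Then the set of s for which f_s is quasi-projective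
(of finite type, with an invertible O_{X_s}-module ample relative to f_s) is ind-constructible in S. -/
theorem result {X Y S : Scheme.{u}} (f : X ⟶ Y) (g : Y ⟶ S)
    [LocallyOfFinitePresentation g] [QuasiCompact g] [QuasiSeparated g]
    [LocallyOfFinitePresentation (f ≫ g)] [QuasiCompact (f ≫ g)] [QuasiSeparated (f ≫ g)] :
    ProCons.IsIndConstructible {s : S |
      RelProj.IsQuasiProjective
        (pullback.lift (pullback.fst (f ≫ g) (S.fromSpecResidueField s) ≫ f) (pullback.snd (f ≫ g) (S.fromSpecResidueField s))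
          ((Category.assoc _ _ _).trans pullback.condition) :
        pullback (f ≫ g) (S.fromSpecResidueField s) ⟶ pullback g (S.fromSpecResidueField s))} := by
  intro x
  obtain ⟨_, ⟨U : S.Opens, hU, rfl⟩, hxU, -⟩ := S.isBasis_affineOpens.exists_subset_of_mem_open
    (Set.mem_univ x) isOpen_univ
  refine ⟨U, U.2, hxU, {T : Set ↥U | IsLocallyConstructible T ∧
    ∀ u ∈ T, PQ f g (S.fromSpecResidueField u.1)}, fun T hT => hT.1, ?_⟩
  ext u
  constructor
  · intro hu
    obtain ⟨T, h1, h2, h3⟩ := exists_locallyConstructible_nhd f g hU u.1 u.2 hu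
    exact ⟨T, ⟨h1, h3⟩, h2⟩
  · rintro ⟨T, ⟨-, hT⟩, huT⟩
    exact hT u huT

end Groth.Agent.S4844
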