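import Groth.Statements.S4843
import Mathlib
import Groth.Agent.S4844
import Groth.Agent.S2577
import Groth.Agent.S4418
import Groth.Agent.S12416

set_option autoImplicit false
open CategoryTheory AlgebraicGeometry
universe u
open Cons9

namespace Groth.Agent.S4843

/-- ind-constructible ∩ locally constructible is ind-constructible -/
theorem isIndConstructible_inter {X : Type*} [TopologicalSpace X] {E F : Set X}
    (hE : ProCons.IsIndConstructible E) (hF : Topology.IsLocallyConstructible F) :
    ProCons.IsIndConstructible (E ∩ F) := by
  intro x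
  obtain ⟨U, hU, hxU, S, hS, hES⟩ := hE x
  have hF' : Topology.IsLocallyConstructible (Subtype.val ⁻¹' F : Set ↥U) :=
    hF.preimage_of_isOpenEmbedding hU.isOpenEmbedding_subtypeVal
  refine ⟨U, hU, hxU, (fun T => T ∩ (Subtype.val ⁻¹' F : Set ↥U)) '' S, ?_, ?_⟩
  · rintro _ ⟨T, hT, rfl⟩
    exact (hS T hT).inter hF'
  · rw [Set.preimage_inter, hES]
    ext y
    simp only [Set.mem_inter_iff, Set.mem_sUnion, Set.mem_image, Set.mem_preimage]
    constructor
    · rintro ⟨⟨T, hT, hyT⟩, hyF⟩
      exact ⟨_, ⟨T, hT, rfl⟩, hyT, hyF⟩
    · rintro ⟨_, ⟨T, hT, rfl⟩, hyT, hyF⟩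
      exact ⟨⟨T, hT, hyT⟩, hyF⟩

open CategoryTheory.Limits in
/-- Let g : Y ⟶ S and f : X ⟶ Y be such that X and Y are of finite presentation over S (locally of
finite presentation, quasi-compact and quasi-separated). For each point s of S let f_s : X_s ⟶ Y_s
be the morphism induced on the fibres over s. Then the set of s for which f_s is projective (X_s is
isomorphic over Y_s to the homogeneous spectrum of a quasi-coherent graded O_{Y_s}-algebra generated
by its degree-one part, which is of finite type) is ind-constructible in S. -/
theorem result {X Y S : Scheme.{u}} (f : X ⟶ Y) (g : Y ⟶ S)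
    [LocallyOfFinitePresentation g] [QuasiCompact g] [QuasiSeparated g]
    [LocallyOfFinitePresentation (f ≫ g)] [QuasiCompact (f ≫ g)] [QuasiSeparated (f ≫ g)] :
    ProCons.IsIndConstructible {s : S |
      RelProj.IsProjective
        (pullback.lift (pullback.fst (f ≫ g) (S.fromSpecResidueField s) ≫ f) (pullback.snd (f ≫ g) (S.fromSpecResidueField s))
          ((Category.assoc _ _ _).trans pullback.condition) :
        pullback (f ≫ g) (S.fromSpecResidueField s) ⟶ pullback g (S.fromSpecResidueField s))} := by
  have h1 := Groth.Agent.S4844.result f g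
  have h2 := Groth.Agent.S2577.result f g
  have key := isIndConstructible_inter h1 h2
  convert key using 1
  ext s
  simp only [Set.mem_setOf_eq, Set.mem_inter_iff]
  haveI : CompactSpace ↥(pullback g (S.fromSpecResidueField s)) :=
    QuasiCompact.compactSpace_of_compactSpace (pullback.snd g (S.fromSpecResidueField s))
  haveI : QuasiSeparatedSpace ↥(pullback g (S.fromSpecResidueField s)) :=
    quasiSeparatedSpace_of_quasiSeparated (pullback.snd g (S.fromSpecResidueField s))
  constructor
  · intro h
    exact Groth.Agent.S4418.result _ h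
  · rintro ⟨hq, hp⟩
    haveI := hp
    exact Groth.Agent.S12416.result _ hq

end Groth.Agent.S4843
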