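import Groth.Statements.S4849
-- import your own Groth.Agent.* helpers here
import Mathlib
import Groth.Agent.Lib.Helper26FlatLimC
import Groth.Agent.Lib.Helper22LimBC
import Groth.Agent.Lib.Helper6LfpComp

set_option autoImplicit false
universe u
open CategoryTheory AlgebraicGeometry
open EGA43

namespace Groth.Agent.S4849

open Limits Groth.Agent.Lib.Helper22.LimBC Groth.Agent.Lib.Helper26.FlatLim

/-- Let S be the limit of a cofiltered system (S_i) of schemes with affine transition morphisms, S_{i₀}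
a quasi-compact stage, f₀ : X₀ ⟶ Y₀ an S_{i₀}-morphism between schemes of finite presentation over
S_{i₀}, and F₀ a quasi-coherent O_{X₀}-module of finite presentation. Let f : X ⟶ Y and F be
obtained by base change to S. Then F is f-flat if and only if there are an index i over i₀ and base
changes f_i : X_i ⟶ Y_i, F_i of f₀, F₀ to S_i with F_i f_i-flat. (Base changes are expressed by
pullback squares; the stage S_{i₀} is only assumed quasi-compact.) -/
theorem result {I : Type u} [SmallCategory I] [IsCofiltered I]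
    (D : I ⥤ Scheme.{u}) (c : Limits.Cone D) (hc : Limits.IsLimit c)
    [∀ (i j : I) (φ : i ⟶ j), IsAffineHom (D.map φ)] (i₀ : I) [CompactSpace (D.obj i₀)]
    {X₀ Y₀ : Scheme.{u}} (f₀ : X₀ ⟶ Y₀) (g₀ : Y₀ ⟶ D.obj i₀)
    [LocallyOfFinitePresentation g₀] [QuasiCompact g₀] [QuasiSeparated g₀]
    [LocallyOfFinitePresentation (f₀ ≫ g₀)] [QuasiCompact (f₀ ≫ g₀)] [QuasiSeparated (f₀ ≫ g₀)]
    (F₀ : X₀.Modules) [Coh.IsQCoh F₀] (hF₀ : CohB1.IsFP F₀)
    {X Y : Scheme.{u}} (f : X ⟶ Y) (g : Y ⟶ c.pt) (qY : Y ⟶ Y₀) (qX : X ⟶ X₀)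
    (hY : IsPullback qY g g₀ (c.π.app i₀)) (hX : IsPullback qX f f₀ qY) :
    FlatMod.IsFlatOver f ((Scheme.Modules.pullback qX).obj F₀) ↔
      ∃ (i : I) (φ : i ⟶ i₀) (Xi Yi : Scheme.{u}) (fi : Xi ⟶ Yi) (gi : Yi ⟶ D.obj i)
        (pY : Yi ⟶ Y₀) (pX : Xi ⟶ X₀),
        IsPullback pY gi g₀ (D.map φ) ∧ IsPullback pX fi f₀ pY ∧
          FlatMod.IsFlatOver fi ((Scheme.Modules.pullback pX).obj F₀) := by
  haveI hD : ∀ {i j : I} (φ : i ⟶ j), IsAffineHom (D.map φ) := fun φ => inferInstance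
  haveI : F₀.IsQuasicoherent := ‹Coh.IsQCoh F₀›
  haveI : SheafOfModules.IsFinitePresentation (R := X₀.ringCatSheaf) F₀ := hF₀
  constructor
  · intro H
    haveI : CompactSpace X₀ := QuasiCompact.compactSpace_of_compactSpace (f₀ ≫ g₀)
    haveI : LocallyOfFinitePresentation f₀ :=
      Groth.Agent.Lib.Helper6.locallyOfFinitePresentation_of_comp (g := g₀) inferInstance inferInstance
    let j₀ : Over i₀ := Over.mk (𝟙 i₀)
    have hc' : IsLimit (bcCone i₀ hY) := isLimitBcCone i₀ hY hc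
    haveI : IsIso (dFst D i₀ g₀ j₀) := by
      unfold dFst bcFst
      have : IsIso (D.map j₀.hom) := by
        show IsIso (D.map (𝟙 i₀))
        infer_instance
      exact pullback_fst_iso_of_right_iso _ _
    let f₀' : X₀ ⟶ (bcDiagram D i₀ g₀).obj j₀ := f₀ ≫ inv (dFst D i₀ g₀ j₀)
    have hP' : IsPullback qX f f₀' ((bcCone i₀ hY).π.app j₀) := by
      refine IsPullback.of_iso hX (Iso.refl _) (Iso.refl _) (Iso.refl _) (asIso (dFst D i₀ g₀ j₀)).symm
        (by simp) (by simp) (by simp [f₀']) ?_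
      simp only [Iso.symm_hom, asIso_inv, Iso.refl_hom, Category.id_comp, bcCone_π_app,
        IsIso.comp_inv_eq]
      exact (bcπ_fst i₀ hY j₀).symm
    obtain ⟨j, hj⟩ := exists_stage_isFlatOver (bcDiagram D i₀ g₀) (bcCone i₀ hY) hc' j₀ f₀' F₀ hP' H
    refine ⟨j.left.left, j.left.hom, pullback f₀ (dFst D i₀ g₀ j.left), (bcDiagram D i₀ g₀).obj j.left,
      pullback.snd _ _, dSnd D i₀ g₀ j.left, dFst D i₀ g₀ j.left, pullback.fst _ _,
      isPullback_d D i₀ g₀ j.left, IsPullback.of_hasPullback _ _, ?_⟩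
    refine hj j (𝟙 j) _ _ ?_
    refine IsPullback.of_iso (IsPullback.of_hasPullback f₀ (dFst D i₀ g₀ j.left))
      (Iso.refl _) (Iso.refl _) (Iso.refl _) (asIso (dFst D i₀ g₀ j₀)).symm
        (by simp) (by simp) (by simp [f₀']) ?_
    simp only [Iso.symm_hom, asIso_inv, Iso.refl_hom, Category.id_comp, IsIso.comp_inv_eq]
    exact (map_dFst D i₀ g₀ j.hom).symm
  · rintro ⟨i, φ, Xi, Yi, fi, gi, pY, pX, h1, h2, Hfl⟩ x
    let vY : Y ⟶ Yi := h1.lift qY (g ≫ c.π.app i) (by rw [hY.w, Category.assoc, c.w])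
    have hvY : vY ≫ pY = qY := h1.lift_fst _ _ _
    let vX : X ⟶ Xi := h2.lift qX (f ≫ vY) (by rw [hX.w, Category.assoc, hvY])
    have hvX : vX ≫ pX = qX := h2.lift_fst _ _ _
    have hv : vX ≫ fi = f ≫ vY := h2.lift_snd _ _ _
    exact isFlatOverAt_of_stage hX h2 hvX hvY hv F₀ x (Hfl (vX x))

end Groth.Agent.S4849
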