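import Groth.Statements.S4850
-- import your own Groth.Agent.* helpers here
import Mathlib
import Groth.Agent.Lib.Helper26FibInjChart

set_option autoImplicit false
universe u
open EGA43

namespace Groth.Agent.S4850

open AlgebraicGeometry CategoryTheory Limits
open Groth.Agent.Lib.Helper2.PullbackSec Groth.Agent.Lib.Helper4.NormDelta
  Groth.Agent.Lib.Helper26.FibInj Groth.Agent.Lib.Helper26.InjFlatFib
  Groth.Agent.Lib.Helper26.FibInjLim Groth.Agent.Lib.Helper26.FibInjChart
  Groth.Agent.Lib.Helper2.FlatOver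

/-- the implication from the fibre, through an affine chart and Noetherian descent. -/
theorem of_fibInjAt {X Y : Scheme.{u}} (f : X ⟶ Y) [LocallyOfFinitePresentation f]
    (F F' : X.Modules) [F.IsQuasicoherent] [F'.IsQuasicoherent]
    (hF : SheafOfModules.IsFinitePresentation (R := X.ringCatSheaf) F)
    (hF' : SheafOfModules.IsFinitePresentation (R := X.ringCatSheaf) F') (u : F' ⟶ F) (x : X)
    (hflat : FlatMod.IsFlatOverAt f F x) (H : FibInjAt f u x) :
    Function.Injective (stalkHom u x) ∧ FlatMod.IsFlatOverAt f (cokernel u) x := by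
  obtain ⟨U, V, hU, hV, hxU, hUV⟩ := exists_affine_nhds f x
  let f₁ : (U : Scheme.{u}) ⟶ Spec (CommRingCat.of Γ(Y, V)) := f.resLE V U hUV ≫ hV.isoSpec.hom
  have hcomm : f₁ ≫ hV.fromSpec = U.ι ≫ f := by
    simp only [f₁, Category.assoc, IsAffineOpen.isoSpec_hom_fromSpec, Scheme.Hom.resLE_comp_ι]
  let x₁ : (U : Scheme.{u}) := ⟨x, hxU⟩
  have hx₁ : U.ι x₁ = x := rfl
  haveI : IsAffine (U : Scheme.{u}) := hU
  haveI : LocallyOfFinitePresentation (f.resLE V U hUV) := inferInstance
  haveI : LocallyOfFinitePresentation f₁ := inferInstance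
  have hj : Function.Bijective (U.ι.stalkMap x₁).hom :=
    ConcreteCategory.bijective_of_isIso (U.ι.stalkMap x₁)
  have hι : Function.Bijective (hV.fromSpec.stalkMap (f₁ x₁)).hom :=
    ConcreteCategory.bijective_of_isIso (hV.fromSpec.stalkMap (f₁ x₁))
  haveI : ((Scheme.Modules.pullback U.ι).obj F').IsQuasicoherent := isQuasicoherent_pullback _ F'
  haveI : ((Scheme.Modules.pullback U.ι).obj F).IsQuasicoherent := isQuasicoherent_pullback _ F
  have T1 := isFlatOverAt_chart U.ι hV.fromSpec f₁ f hcomm x₁ hj hι F hflat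
  have T2 := fibInjAt_chart U.ι hV.fromSpec f₁ f hcomm x₁ hj hι u H
  obtain ⟨r1, r2⟩ := injective_and_flat_of_fibInjAt_affine f₁ _ _
    (Groth.Agent.Helper18Strict.isFP_pullback U.ι F' hF')
    (Groth.Agent.Helper18Strict.isFP_pullback U.ι F hF) ((Scheme.Modules.pullback U.ι).map u) x₁ T1 T2
  exact of_chart U.ι hV.fromSpec f₁ f hcomm x₁ hj hι hF' hF u r1 r2

open AlgebraicGeometry CategoryTheory Limits in
/-- Equivalence of a: and b)): let f : X ⟶ Y be locally of finite presentation, F and F' quasi-coherent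
O_X-modules of finite presentation, u : F' ⟶ F a homomorphism and x a point with y = f x, such that
F is f-flat at x. Then the stalk map u_x is injective and Coker u is f-flat at x, if and only if u_x
induces an injective map F'_x / m_y F'_x → F_x / m_y F_x. The second condition is written out: an
element of F'_x whose image under u_x lies in m_y F_x already lies in m_y F'_x. (The vanishing of
the stalk (Ker u)_x is expressed as injectivity of u_x.) -/
theorem result {X Y : Scheme.{u}} (f : X ⟶ Y)
    [LocallyOfFinitePresentation f] (F F' : X.Modules) [Coh.IsQCoh F] [Coh.IsQCoh F']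
    (hF : CohB1.IsFP F) (hF' : CohB1.IsFP F') (u : F' ⟶ F) (x : X) (hflat : FlatMod.IsFlatOverAt f F x) :
    letI J : Ideal ↑(X.presheaf.stalk x) :=
      Ideal.map (f.stalkMap x).hom (IsLocalRing.maximalIdeal ↑(Y.presheaf.stalk (f x)))
    letI ux := (TopCat.Presheaf.stalkFunctor Ab x).map (Scheme.Modules.Hom.mapPresheaf u)
    (Function.Injective ux ∧ FlatMod.IsFlatOverAt f (cokernel u) x) ↔
      ∀ m : ↑(F'.presheaf.stalk x),
        ux m ∈ (J • (⊤ : Submodule ↑(X.presheaf.stalk x) ↑(F.presheaf.stalk x))) →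
          m ∈ (J • (⊤ : Submodule ↑(X.presheaf.stalk x) ↑(F'.presheaf.stalk x))) := by
  haveI : F.IsQuasicoherent := ‹Coh.IsQCoh F›
  haveI : F'.IsQuasicoherent := ‹Coh.IsQCoh F'›
  have hFP : SheafOfModules.IsFinitePresentation (R := X.ringCatSheaf) F := hF
  have hFP' : SheafOfModules.IsFinitePresentation (R := X.ringCatSheaf) F' := hF'
  constructor
  · rintro ⟨hinj, hfl⟩
    exact fibInjAt_of_injective_of_flat f hFP hFP' u x hinj hfl
  · intro H
    exact of_fibInjAt f F F' hFP hFP' u x hflat H

end Groth.Agent.S4850
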