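import Groth.Statements.S4856
-- import your own Groth.Agent.* helpers here
import Mathlib
import Groth.Agent.Lib.Helper26ArtFlat
import Groth.Agent.Lib.Helper2PullbackSec3
import Groth.Agent.Lib.Helper23FinType2
import Groth.Agent.Lib.Helper26ArtFlatGeom

set_option autoImplicit false
universe u
open CategoryTheory AlgebraicGeometry
open EGA43

namespace Groth.Agent.S4856

set_option linter.style.haveILetI false

open Groth.Agent.Lib.Helper2.FlatOver Groth.Agent.Lib.Helper2.PullbackSec
  Groth.Agent.Lib.Helper2.QCoh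
  Groth.Agent.Lib.Helper26.ArtFlat Groth.Agent.Lib.Helper23.FinType
  Groth.Agent.Lib.Helper26.ArtFlatGeom

open CategoryTheory.Limits in
/-- Let A be an Artinian local ring, f : X ⟶ Spec A locally of finite type, F a coherent O_X-module and
x a point of X. Let (u_i : A → A_i) be a family of ring homomorphisms into local rings such that an
element of A killed by every u_i is zero. If, for every i, the pullback of F to X_i = X ×_{Spec A}
Spec A_i is flat over Spec A_i at every point of X_i whose images are x in X and the closed point in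
Spec A_i, then F is f-flat at x. -/
theorem result {A : Type u} [CommRing A]
    [IsArtinianRing A] [IsLocalRing A] {X : Scheme.{u}} (f : X ⟶ Spec (CommRingCat.of A))
    [LocallyOfFiniteType f] (F : X.Modules) (hF : Coh.IsCoh F) (x : X)
    {ι : Type u} (A' : ι → Type u) [∀ i, CommRing (A' i)] [∀ i, IsLocalRing (A' i)] (u : ∀ i, A →+* A' i)
    (hu : ∀ a : A, (∀ i, u i a = 0) → a = 0)
    (hflat : ∀ (i : ι) (x' : ↥(pullback f (Spec.map (CommRingCat.ofHom (u i))))),
      pullback.fst f (Spec.map (CommRingCat.ofHom (u i))) x' = x →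
      pullback.snd f (Spec.map (CommRingCat.ofHom (u i))) x' = IsLocalRing.closedPoint (A' i) →
      FlatMod.IsFlatOverAt (pullback.snd f (Spec.map (CommRingCat.ofHom (u i))))
        ((Scheme.Modules.pullback (pullback.fst f (Spec.map (CommRingCat.ofHom (u i))))).obj F) x') :
    FlatMod.IsFlatOverAt f F x := by
  classical
  haveI : F.IsQuasicoherent := hF.1
  haveI : SheafOfModules.IsFiniteType (R := X.ringCatSheaf) F := hF.2
  have hS : IsAffineOpen (⊤ : (Spec (CommRingCat.of A)).Opens) := isAffineOpen_top _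
  let eA : Γ(Spec (CommRingCat.of A), ⊤) ≃+* A :=
    (Scheme.ΓSpecIso (CommRingCat.of A)).commRingCatIsoToRingEquiv
  haveI : IsLocalRing Γ(Spec (CommRingCat.of A), ⊤) := eA.symm.isLocalRing
  haveI : IsArtinianRing Γ(Spec (CommRingCat.of A), ⊤) := eA.symm.isArtinianRing
  have hnil : IsNilpotent (IsLocalRing.maximalIdeal Γ(Spec (CommRingCat.of A), ⊤)) :=
    isNilpotent_maximalIdeal
  haveI : IsLocallyNoetherian X := LocallyOfFiniteType.isLocallyNoetherian f
  obtain ⟨U, hU, hxU⟩ : ∃ U : X.Opens, IsAffineOpen U ∧ x ∈ U := by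
    obtain ⟨W, hW⟩ := (X.isBasis_affineOpens).exists_subset_of_mem_open
      (Set.mem_univ x) isOpen_univ
    obtain ⟨⟨U, hU, rfl⟩, hxU, -⟩ := hW
    exact ⟨U, hU, hxU⟩
  have eU : U ≤ f ⁻¹ᵁ ⊤ := le_top
  rw [isFlatOverAt_iff_flat_base f F hS x (eU hxU)]
  letI aAB : Algebra Γ(Spec (CommRingCat.of A), ⊤) Γ(X, U) := (f.appLE ⊤ U eU).hom.toAlgebra
  letI mAM : Module Γ(Spec (CommRingCat.of A), ⊤) Γ(F, U) :=
    Module.compHom Γ(F, U) (f.appLE ⊤ U eU).hom
  haveI tABM : IsScalarTower Γ(Spec (CommRingCat.of A), ⊤) Γ(X, U) Γ(F, U) :=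
    IsScalarTower.of_algebraMap_smul (fun _ _ => rfl)
  haveI : IsNoetherianRing Γ(X, U) := IsLocallyNoetherian.component_noetherian ⟨U, hU⟩
  haveI : Module.Finite Γ(X, U) Γ(F, U) := finite_of_isFiniteType F hU
  haveI hpp : (hU.primeIdealOf ⟨x, hxU⟩).asIdeal.IsPrime := (hU.primeIdealOf ⟨x, hxU⟩).isPrime
  letI mBst := moduleStalkSections F U x hxU
  letI mAst := moduleStalkBase f F ⊤ x (eU hxU)
  haveI tst : IsScalarTower Γ(Spec (CommRingCat.of A), ⊤) Γ(X, U) (F.presheaf.stalk x) := by
    refine ⟨fun a b y => ?_⟩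
    change X.presheaf.germ U x hxU ((f.appLE ⊤ U eU).hom a * b) • y =
      (f.stalkMap x).hom ((Spec (CommRingCat.of A)).presheaf.germ ⊤ (f.base x) (eU hxU) a) •
        (X.presheaf.germ U x hxU b • y)
    rw [map_mul, mul_smul, stalkMap_germ_eq f eU x hxU a]
  haveI loc := isLocalizedModule_germ hU F x hxU
  let e : LocalizedModule (hU.primeIdealOf ⟨x, hxU⟩).asIdeal.primeCompl Γ(F, U) ≃ₗ[Γ(X, U)]
      F.presheaf.stalk x :=
    IsLocalizedModule.iso (hU.primeIdealOf ⟨x, hxU⟩).asIdeal.primeCompl (germₗ F U x hxU)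
  suffices hfl : Module.Flat Γ(Spec (CommRingCat.of A), ⊤)
      (LocalizedModule (hU.primeIdealOf ⟨x, hxU⟩).asIdeal.primeCompl Γ(F, U)) from
    Module.Flat.of_linearEquiv (e.symm.restrictScalars Γ(Spec (CommRingCat.of A), ⊤))
  refine flat_localizedModule_of_relations (hU.primeIdealOf ⟨x, hxU⟩).asIdeal Γ(F, U) hnil ?_
  intro ι' m hm a ha
  -- it suffices to see that every coefficient dies in every member of the family
  suffices key : ∀ (i : ι) (j : ι'),
      ((Spec.map (CommRingCat.ofHom (u i))).appLE ⊤ ⊤ le_top).hom (a j) = 0 by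
    ext j
    rw [Finsupp.zero_apply]
    have h1 : eA (a j) = 0 := by
      refine hu _ fun i => ?_
      have h2 := key i j
      have h3 := Scheme.ΓSpecIso_naturality (CommRingCat.ofHom (u i))
      have h4 := congrArg (fun φ => φ.hom (a j)) h3
      simp only [CommRingCat.hom_comp, RingHom.coe_comp, Function.comp_apply,
        CommRingCat.hom_ofHom] at h4
      have h5 : ((Spec.map (CommRingCat.ofHom (u i))).appTop).hom (a j) =
          ((Spec.map (CommRingCat.ofHom (u i))).appLE ⊤ ⊤ le_top).hom (a j) := by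
        rw [Scheme.Hom.appTop, Scheme.Hom.app_eq_appLE]
        rfl
      rw [h5, h2, map_zero] at h4
      exact h4.symm
    exact eA.injective (h1.trans (map_zero eA).symm)
  intro i j
  have hS' : IsAffineOpen (⊤ : (Spec (CommRingCat.of (A' i))).Opens) := isAffineOpen_top _
  let eA' : Γ(Spec (CommRingCat.of (A' i)), ⊤) ≃+* A' i :=
    (Scheme.ΓSpecIso (CommRingCat.of (A' i))).commRingCatIsoToRingEquiv
  haveI : IsLocalRing Γ(Spec (CommRingCat.of (A' i)), ⊤) := eA'.symm.isLocalRing
  refine relation_killed (IsPullback.of_hasPullback f (Spec.map (CommRingCat.ofHom (u i))))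
    hS hS' hnil F hU x hxU ?_ m hm a ha j
  intro x' h1 h2
  refine hflat i x' h1 ?_
  have h3 := hS'.fromSpec_primeIdealOf
    ⟨(pullback.snd f (Spec.map (CommRingCat.ofHom (u i)))).base x', trivial⟩
  rw [h2] at h3
  change _ = (pullback.snd f (Spec.map (CommRingCat.ofHom (u i)))) x' at h3
  rw [← h3, IsAffineOpen.fromSpec_top, Scheme.isoSpec_Spec_inv]
  haveI : IsLocalHom (Scheme.ΓSpecIso (CommRingCat.of (A' i))).inv.hom :=
    isLocalHom_of_isIso _
  exact IsLocalRing.comap_closedPoint (Scheme.ΓSpecIso (CommRingCat.of (A' i))).inv.hom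

end Groth.Agent.S4856
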