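import Groth.Statements.S4857
-- import your own Groth.Agent.* helpers here
import Mathlib
import Groth.Agent.Lib.Helper26ArtFlatGeom2
import Groth.Agent.Lib.Helper26FlatLimC
import Groth.Agent.Lib.Helper2FFComp
import Groth.Agent.Lib.Helper20FormalPull

set_option autoImplicit false
universe u
open CategoryTheory AlgebraicGeometry
open EGA43

namespace Groth.Agent.S4857

set_option linter.style.haveILetI false

open Groth.Agent.Lib.Helper2.FlatOver Groth.Agent.Lib.Helper2.PullbackSec
  Groth.Agent.Lib.Helper26.ArtFlatGeom Groth.Agent.Lib.Helper26.FlatLim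
  Groth.Agent.Lib.Helper2.FFComp Groth.Agent.Lib.Helper20.FormalPull

/-- `Spec O_{Y,y} ⟶ Y` is flat. -/
theorem flat_fromSpecStalk (Y : Scheme.{u}) (y : Y) : Flat (Y.fromSpecStalk y) := by
  obtain ⟨U, hU, hyU⟩ : ∃ U : Y.Opens, IsAffineOpen U ∧ y ∈ U := by
    obtain ⟨W, hW⟩ := (Y.isBasis_affineOpens).exists_subset_of_mem_open
      (Set.mem_univ y) isOpen_univ
    obtain ⟨⟨U, hU, rfl⟩, hyU, -⟩ := hW
    exact ⟨U, hU, hyU⟩
  rw [← hU.fromSpecStalk_eq_fromSpecStalk hyU]
  unfold IsAffineOpen.fromSpecStalk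
  haveI : Flat (Spec.map (Y.presheaf.germ U y hyU)) := by
    rw [HasRingHomProperty.Spec_iff (P := @Flat)]
    letI : Algebra Γ(Y, U) (Y.presheaf.stalk y) := (Y.presheaf.germ U y hyU).hom.toAlgebra
    haveI := hU.isLocalization_stalk ⟨y, hyU⟩
    exact IsLocalization.flat (Y.presheaf.stalk y) (hU.primeIdealOf ⟨y, hyU⟩).asIdeal.primeCompl
  infer_instance

open CategoryTheory.Limits in
/-- Let Y be a locally Noetherian scheme, f : X ⟶ Y locally of finite type, F a coherent O_X-module and
x a point of X with y = f x. Let (φ_i : O_{Y,y} → A_i) be a family of local homomorphisms into local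
rings such that, for every N, some finite intersection of the ideals φ_i⁻¹(m_{A_i}^n) is contained
in m_y^N. Let Y_i = Spec A_i ⟶ Y be the induced Y-schemes and X_i = X ×_Y Y_i. If for every i the
pullback of F to X_i is flat over Y_i at every point of X_i lying over x and over the closed point
of Y_i, then F is f-flat at x. -/
theorem result {X Y : Scheme.{u}} [IsLocallyNoetherian Y]
    (f : X ⟶ Y) [LocallyOfFiniteType f] (F : X.Modules) (hF : Coh.IsCoh F) (x : X)
    {ι : Type u} (A : ι → Type u) [∀ i, CommRing (A i)] [∀ i, IsLocalRing (A i)]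
    (φ : ∀ i, (Y.presheaf.stalk (f x) : Type u) →+* A i) [∀ i, IsLocalHom (φ i)]
    (htop : ∀ N : ℕ, ∃ s : Finset (ι × ℕ),
      ⨅ p ∈ s, Ideal.comap (φ p.1) (IsLocalRing.maximalIdeal (A p.1) ^ p.2) ≤
        IsLocalRing.maximalIdeal ↑(Y.presheaf.stalk (f x)) ^ N) :
    letI g : ∀ i, Spec (CommRingCat.of (A i)) ⟶ Y :=
      fun i => Spec.map (CommRingCat.ofHom (φ i)) ≫ Y.fromSpecStalk (f x)
    (∀ (i : ι) (x' : ↥(pullback f (g i))), pullback.fst f (g i) x' = x →
      pullback.snd f (g i) x' = IsLocalRing.closedPoint (A i) →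
      FlatMod.IsFlatOverAt (pullback.snd f (g i)) ((Scheme.Modules.pullback (pullback.fst f (g i))).obj F) x') →
    FlatMod.IsFlatOverAt f F x := by
  intro hflat
  haveI : F.IsQuasicoherent := hF.1
  haveI : SheafOfModules.IsFiniteType (R := X.ringCatSheaf) F := hF.2
  haveI : Flat (Y.fromSpecStalk (f x)) := flat_fromSpecStalk Y (f x)
  obtain ⟨x₁, hx₁, hx₁'⟩ := Scheme.Pullback.exists_preimage_pullback (f := f)
    (g := Y.fromSpecStalk (f x)) x (IsLocalRing.closedPoint ↑(Y.presheaf.stalk (f x)))
    (Scheme.fromSpecStalk_closedPoint).symm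
  haveI : ((Scheme.Modules.pullback (pullback.fst f (Y.fromSpecStalk (f x)))).obj F).IsQuasicoherent :=
    isQuasicoherent_pullback _ F
  haveI : SheafOfModules.IsFiniteType (R := (pullback f (Y.fromSpecStalk (f x))).ringCatSheaf)
      ((Scheme.Modules.pullback (pullback.fst f (Y.fromSpecStalk (f x)))).obj F) :=
    isFiniteType_pullback _ F
  have key : FlatMod.IsFlatOverAt (pullback.snd f (Y.fromSpecStalk (f x)))
      ((Scheme.Modules.pullback (pullback.fst f (Y.fromSpecStalk (f x)))).obj F) x₁ := by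
    refine @isFlatOverAt_of_adic_family_local (↑(Y.presheaf.stalk (f x)))
      (inferInstance : CommRing ↑(Y.presheaf.stalk (f x))) inferInstance inferInstance _
      (pullback.snd f (Y.fromSpecStalk (f x))) inferInstance _ inferInstance inferInstance
      x₁ hx₁' _ A inferInstance inferInstance φ inferInstance htop ?_
    intro i w hw1 hw2
    have hcond : (pullback.fst (pullback.snd f (Y.fromSpecStalk (f x)))
          (Spec.map (CommRingCat.ofHom (φ i))) ≫ pullback.fst f (Y.fromSpecStalk (f x))) ≫ f =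
        pullback.snd (pullback.snd f (Y.fromSpecStalk (f x))) (Spec.map (CommRingCat.ofHom (φ i))) ≫
          (Spec.map (CommRingCat.ofHom (φ i)) ≫ Y.fromSpecStalk (f x)) := by
      rw [Category.assoc, pullback.condition, ← Category.assoc, pullback.condition, Category.assoc]
      rfl
    let vX : pullback (pullback.snd f (Y.fromSpecStalk (f x))) (Spec.map (CommRingCat.ofHom (φ i))) ⟶
        pullback f (Spec.map (CommRingCat.ofHom (φ i)) ≫ Y.fromSpecStalk (f x)) :=
      pullback.lift _ _ hcond
    have hvX : vX ≫ pullback.fst f (Spec.map (CommRingCat.ofHom (φ i)) ≫ Y.fromSpecStalk (f x)) =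
        pullback.fst (pullback.snd f (Y.fromSpecStalk (f x))) (Spec.map (CommRingCat.ofHom (φ i))) ≫
          pullback.fst f (Y.fromSpecStalk (f x)) := pullback.lift_fst _ _ _
    have hvs : vX ≫ pullback.snd f (Spec.map (CommRingCat.ofHom (φ i)) ≫ Y.fromSpecStalk (f x)) =
        pullback.snd (pullback.snd f (Y.fromSpecStalk (f x))) (Spec.map (CommRingCat.ofHom (φ i))) :=
      pullback.lift_snd _ _ _
    have hX := IsPullback.paste_horiz
      (IsPullback.of_hasPullback (pullback.snd f (Y.fromSpecStalk (f x)))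
        (Spec.map (CommRingCat.ofHom (φ i))))
      (IsPullback.of_hasPullback f (Y.fromSpecStalk (f x)))
    have e1 : (pullback.fst f (Spec.map (CommRingCat.ofHom (φ i)) ≫ Y.fromSpecStalk (f x)))
        (vX w) = x := by
      have h : (pullback.fst f (Spec.map (CommRingCat.ofHom (φ i)) ≫ Y.fromSpecStalk (f x)))
          (vX w) = (pullback.fst f (Y.fromSpecStalk (f x)))
            ((pullback.fst (pullback.snd f (Y.fromSpecStalk (f x)))
              (Spec.map (CommRingCat.ofHom (φ i)))) w) :=
        congrArg (fun ψ : _ ⟶ X => ψ w) hvX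
      exact h.trans ((congrArg (pullback.fst f (Y.fromSpecStalk (f x))) hw1).trans hx₁)
    have e2 : (pullback.snd f (Spec.map (CommRingCat.ofHom (φ i)) ≫ Y.fromSpecStalk (f x)))
        (vX w) = IsLocalRing.closedPoint (A i) := by
      have h : (pullback.snd f (Spec.map (CommRingCat.ofHom (φ i)) ≫ Y.fromSpecStalk (f x)))
          (vX w) = (pullback.snd (pullback.snd f (Y.fromSpecStalk (f x)))
              (Spec.map (CommRingCat.ofHom (φ i)))) w :=
        congrArg (fun ψ : _ ⟶ Spec (CommRingCat.of (A i)) => ψ w) hvs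
      exact h.trans hw2
    have hfl := hflat i (vX w) e1 e2
    have h3 := isFlatOverAt_of_stage hX
      (IsPullback.of_hasPullback f (Spec.map (CommRingCat.ofHom (φ i)) ≫ Y.fromSpecStalk (f x)))
      hvX (Category.id_comp _) (by rw [hvs, Category.comp_id]) F w hfl
    exact isFlatOverAt_of_iso _ ((Scheme.Modules.pullbackComp _ _).app F).symm w h3
  have h1 := isFlatOverAt_comp (pullback.snd f (Y.fromSpecStalk (f x))) (Y.fromSpecStalk (f x)) _ x₁
    (Flat.stalkMap _ _) key
  rw [← pullback.condition] at h1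
  have h2 := (isFlatOverAt_pullback_iff (pullback.fst f (Y.fromSpecStalk (f x))) f F x₁
    (Flat.stalkMap _ x₁)).2 h1
  have h3 : (pullback.fst f (Y.fromSpecStalk (f x))).base x₁ = x := hx₁
  rw [h3] at h2
  exact h2

end Groth.Agent.S4857
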