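import Groth.Statements.S4858
-- import your own Groth.Agent.* helpers here

set_option autoImplicit false
universe u
open EGA43

namespace Groth.Agent.S4858

/-- Conditions a), a′), c), c′) (very dense subsets): for a subset X₀ of a topological space X the
following are equivalent: every nonempty locally closed subset of X meets X₀; every closed subset Z
of X equals the closure of Z ∩ X₀; the map U ↦ U ∩ X₀ is injective on open subsets of X; the map F ↦
F ∩ X₀ is injective on closed subsets of X. -/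
theorem result {X : Type u} [TopologicalSpace X] (X₀ : Set X) :
    [∀ Z : Set X, IsLocallyClosed Z → Z.Nonempty → (Z ∩ X₀).Nonempty,
      ∀ Z : Set X, IsClosed Z → closure (Z ∩ X₀) = Z,
      ∀ U V : Set X, IsOpen U → IsOpen V → U ∩ X₀ = V ∩ X₀ → U = V,
      ∀ F F' : Set X, IsClosed F → IsClosed F' → F ∩ X₀ = F' ∩ X₀ → F = F'].TFAE := by
  tfae_have 1 → 2 := by
    intro h Z hZ
    refine Set.Subset.antisymm (closure_minimal Set.inter_subset_left hZ) ?_
    intro x hx
    by_contra hxc
    have hlc : IsLocallyClosed (Z ∩ (closure (Z ∩ X₀))ᶜ) :=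
      hZ.isLocallyClosed.inter isClosed_closure.isOpen_compl.isLocallyClosed
    obtain ⟨y, ⟨hyZ, hyc⟩, hy0⟩ := h _ hlc ⟨x, hx, hxc⟩
    exact hyc (subset_closure ⟨hyZ, hy0⟩)
  tfae_have 2 → 4 := by
    intro h F F' hF hF' heq
    rw [← h F hF, ← h F' hF', heq]
  tfae_have 4 → 3 := by
    intro h U V hU hV heq
    have : Uᶜ = Vᶜ := by
      refine h _ _ hU.isClosed_compl hV.isClosed_compl ?_
      ext x
      constructor
      · rintro ⟨hx, hx0⟩
        refine ⟨fun hxV => hx ?_, hx0⟩
        have : x ∈ V ∩ X₀ := ⟨hxV, hx0⟩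
        rw [← heq] at this
        exact this.1
      · rintro ⟨hx, hx0⟩
        refine ⟨fun hxU => hx ?_, hx0⟩
        have : x ∈ U ∩ X₀ := ⟨hxU, hx0⟩
        rw [heq] at this
        exact this.1
    exact compl_injective this
  tfae_have 3 → 1 := by
    rintro h Z ⟨U, F, hU, hF, rfl⟩ ⟨x, hxU, hxF⟩
    by_contra hne
    rw [Set.not_nonempty_iff_eq_empty] at hne
    have : U ∩ Fᶜ = U := by
      refine h _ _ (hU.inter hF.isOpen_compl) hU ?_
      ext y
      constructor
      · rintro ⟨⟨hyU, -⟩, hy0⟩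
        exact ⟨hyU, hy0⟩
      · rintro ⟨hyU, hy0⟩
        refine ⟨⟨hyU, fun hyF => ?_⟩, hy0⟩
        have : y ∈ (U ∩ F) ∩ X₀ := ⟨⟨hyU, hyF⟩, hy0⟩
        rw [hne] at this
        exact this
    have hx : x ∈ U ∩ Fᶜ := by
      rw [this]
      exact hxU
    exact hx.2 hxF
  tfae_finish

end Groth.Agent.S4858
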