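import Groth.Statements.S4859
-- import your own Groth.Agent.* helpers here

set_option autoImplicit false
universe u
open EGA43

namespace Groth.Agent.S4859

/-- Conditions a), a′), b) (quasi-homeomorphisms): for a continuous map f : X₀ → X the following are
equivalent: taking preimages is a bijection from the open subsets of X onto the open subsets of X₀;
taking preimages is a bijection from the closed subsets of X onto the closed subsets of X₀; the
topology of X₀ is induced from X through f and the image f(X₀) is very dense in X, in the sense that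
two open subsets of X with the same trace on f(X₀) coincide. -/
theorem result {X₀ X : Type u} [TopologicalSpace X₀] [TopologicalSpace X]
    (f : X₀ → X) (hf : Continuous f) :
    [Function.Bijective (fun U : TopologicalSpace.Opens X =>
        (⟨f ⁻¹' (U : Set X), U.isOpen.preimage hf⟩ : TopologicalSpace.Opens X₀)),
      Function.Bijective (fun F : TopologicalSpace.Closeds X =>
        (⟨f ⁻¹' (F : Set X), F.isClosed.preimage hf⟩ : TopologicalSpace.Closeds X₀)),
      Topology.IsInducing f ∧
        ∀ U V : Set X, IsOpen U → IsOpen V → U ∩ Set.range f = V ∩ Set.range f → U = V].TFAE := by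
  have key : ∀ U V : Set X, f ⁻¹' U = f ⁻¹' V ↔ U ∩ Set.range f = V ∩ Set.range f := by
    intro U V
    constructor
    · intro h
      ext y
      constructor
      · rintro ⟨hy, x, rfl⟩
        exact ⟨(Set.ext_iff.mp h x).mp hy, x, rfl⟩
      · rintro ⟨hy, x, rfl⟩
        exact ⟨(Set.ext_iff.mp h x).mpr hy, x, rfl⟩
    · intro h
      ext x
      constructor
      · intro hx
        have : f x ∈ U ∩ Set.range f := ⟨hx, x, rfl⟩
        rw [h] at this
        exact this.1
      · intro hx
        have : f x ∈ V ∩ Set.range f := ⟨hx, x, rfl⟩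
        rw [← h] at this
        exact this.1
  tfae_have 1 → 3 := by
    rintro ⟨hinj, hsurj⟩
    refine ⟨⟨?_⟩, fun U V hU hV h => ?_⟩
    · refine le_antisymm hf.le_induced ?_
      intro W hW
      obtain ⟨U, hU⟩ := hsurj ⟨W, hW⟩
      rw [isOpen_induced_iff]
      exact ⟨U, U.isOpen, congrArg (fun O : TopologicalSpace.Opens X₀ => (O : Set X₀)) hU⟩
    · have := @hinj ⟨U, hU⟩ ⟨V, hV⟩ (by
        apply TopologicalSpace.Opens.ext
        exact (key U V).mpr h)
      exact congrArg (fun O : TopologicalSpace.Opens X => (O : Set X)) this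
  tfae_have 3 → 1 := by
    rintro ⟨hind, hvd⟩
    refine ⟨fun U V h => ?_, fun W => ?_⟩
    · apply TopologicalSpace.Opens.ext
      refine hvd _ _ U.isOpen V.isOpen ((key _ _).mp ?_)
      exact congrArg (fun O : TopologicalSpace.Opens X₀ => (O : Set X₀)) h
    · obtain ⟨U, hU, hUW⟩ := hind.isOpen_iff.mp W.isOpen
      exact ⟨⟨U, hU⟩, TopologicalSpace.Opens.ext hUW⟩
  tfae_have 2 → 3 := by
    rintro ⟨hinj, hsurj⟩
    refine ⟨⟨?_⟩, fun U V hU hV h => ?_⟩
    · refine le_antisymm hf.le_induced ?_
      intro W hW
      obtain ⟨F, hF⟩ := hsurj ⟨Wᶜ, isClosed_compl_iff.mpr hW⟩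
      rw [isOpen_induced_iff]
      refine ⟨(F : Set X)ᶜ, F.isClosed.isOpen_compl, ?_⟩
      have := congrArg (fun O : TopologicalSpace.Closeds X₀ => (O : Set X₀)) hF
      simp only at this
      rw [Set.preimage_compl]
      exact compl_eq_comm.mp this.symm
    · have := @hinj ⟨Uᶜ, hU.isClosed_compl⟩ ⟨Vᶜ, hV.isClosed_compl⟩ (by
        apply TopologicalSpace.Closeds.ext
        show f ⁻¹' Uᶜ = f ⁻¹' Vᶜ
        rw [Set.preimage_compl, Set.preimage_compl, (key U V).mpr h])
      have h2 : Uᶜ = Vᶜ := congrArg (fun O : TopologicalSpace.Closeds X => (O : Set X)) this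
      exact compl_injective h2
  tfae_have 3 → 2 := by
    rintro ⟨hind, hvd⟩
    refine ⟨fun F F' h => ?_, fun G => ?_⟩
    · apply TopologicalSpace.Closeds.ext
      have h1 : f ⁻¹' (F : Set X) = f ⁻¹' (F' : Set X) :=
        congrArg (fun O : TopologicalSpace.Closeds X₀ => (O : Set X₀)) h
      have h2 : (F : Set X)ᶜ = (F' : Set X)ᶜ := by
        refine hvd _ _ F.isClosed.isOpen_compl F'.isClosed.isOpen_compl ((key _ _).mp ?_)
        rw [Set.preimage_compl, Set.preimage_compl, h1]
      exact compl_injective h2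
    · obtain ⟨U, hU, hUG⟩ := hind.isOpen_iff.mp G.isClosed.isOpen_compl
      refine ⟨⟨Uᶜ, hU.isClosed_compl⟩, TopologicalSpace.Closeds.ext ?_⟩
      show f ⁻¹' Uᶜ = (G : Set X₀)
      rw [Set.preimage_compl, hUG, compl_compl]
  tfae_finish

end Groth.Agent.S4859
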