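import Groth.Statements.S4862
import Groth.Agent.Lib.Helper7Gold
import Mathlib.RingTheory.Localization.InvSubmonoid

set_option autoImplicit false
universe u
open EGA43

namespace Groth.Agent.S4862

/-- For a commutative ring A the following are equivalent: a) A is a Jacobson ring; b) for every prime
ideal p of A which is not maximal and every nonzero f of B = A/p, the localization B_f is not a
field; b′) every finitely generated A-algebra which is a field is a finite A-module. -/
theorem result (A : Type u) [CommRing A] :
    [IsJacobsonRing A,
      ∀ (p : Ideal A) [p.IsPrime], ¬ p.IsMaximal → ∀ f : A ⧸ p, f ≠ 0 → ¬ IsField (Localization.Away f),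
      ∀ (K : Type u) [Field K] [Algebra A K], Algebra.FiniteType A K → Module.Finite A K].TFAE := by
  tfae_have 1 → 3 := by
    intro hJ K _ _ hft
    exact finite_of_finite_type_of_isJacobsonRing A K
  tfae_have 3 → 2 := by
    intro h p hp hpmax f hf hfield
    apply hpmax
    let _ := hfield.toField
    have hle : Submonoid.powers f ≤ nonZeroDivisors (A ⧸ p) :=
      Submonoid.powers_le.mpr (mem_nonZeroDivisors_of_ne_zero hf)
    have hinj : Function.Injective (algebraMap (A ⧸ p) (Localization.Away f)) :=
      IsLocalization.injective _ hle
    have hft1 : Algebra.FiniteType (A ⧸ p) (Localization.Away f) :=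
      IsLocalization.finiteType_of_monoid_fg (Submonoid.powers f) _
    have hft2 : Algebra.FiniteType A (A ⧸ p) :=
      Algebra.FiniteType.of_surjective (Algebra.ofId A (A ⧸ p)) Ideal.Quotient.mk_surjective
    have hft : Algebra.FiniteType A (Localization.Away f) := hft2.trans hft1
    have hfin : Module.Finite A (Localization.Away f) := h _ hft
    have hfin' : Module.Finite (A ⧸ p) (Localization.Away f) :=
      Module.Finite.of_restrictScalars_finite A _ _
    have hint : Algebra.IsIntegral (A ⧸ p) (Localization.Away f) := inferInstance
    exact Ideal.Quotient.maximal_of_isField p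
      (isField_of_isIntegral_of_isField hinj hfield)
  tfae_have 2 → 1 := by
    intro h
    rw [isJacobsonRing_iff_prime_eq]
    intro P hP
    refine le_antisymm ?_ Ideal.le_jacobson
    intro f hfJ
    by_contra hfP
    -- a prime `q ⊇ P` maximal among those avoiding `f`
    have hdisj : Disjoint (Submonoid.powers f : Set A) (P : Set A) := by
      rw [Set.disjoint_left]
      rintro _ ⟨n, rfl⟩ hn
      exact hfP (hP.mem_of_pow_mem n hn)
    have hP' : (P.map (algebraMap A (Localization.Away f))).IsPrime :=
      IsLocalization.isPrime_of_isPrime_disjoint (Submonoid.powers f) _ P hP hdisj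
    obtain ⟨M, hM, hPM⟩ := Ideal.exists_le_maximal _ hP'.ne_top
    have hMp : M.IsPrime := hM.isPrime
    let q : Ideal A := M.comap (algebraMap A (Localization.Away f))
    have hq : q.IsPrime := Ideal.comap_isPrime _ _
    have hPq : P ≤ q := Ideal.map_le_iff_le_comap.mp hPM
    have hfq : f ∉ q := by
      intro hfq
      exact hM.ne_top (Ideal.eq_top_of_isUnit_mem _ hfq
        (IsLocalization.map_units (Localization.Away f) ⟨f, Submonoid.mem_powers f⟩))
    have hmapq : q.map (algebraMap A (Localization.Away f)) = M :=
      IsLocalization.map_under (Submonoid.powers f) (Localization.Away f) M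
    have hstar : ∀ q₁ : Ideal A, q₁.IsPrime → q < q₁ → f ∈ q₁ := by
      intro q₁ hq₁ hlt
      by_contra hfq₁
      have hdisj₁ : Disjoint (Submonoid.powers f : Set A) (q₁ : Set A) := by
        rw [Set.disjoint_left]
        rintro _ ⟨n, rfl⟩ hn
        exact hfq₁ (hq₁.mem_of_pow_mem n hn)
      have hq₁' : (q₁.map (algebraMap A (Localization.Away f))).IsPrime :=
        IsLocalization.isPrime_of_isPrime_disjoint (Submonoid.powers f) _ q₁ hq₁ hdisj₁
      have hle : M ≤ q₁.map (algebraMap A (Localization.Away f)) := by
        rw [← hmapq]
        exact Ideal.map_mono hlt.le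
      have heq : M = q₁.map (algebraMap A (Localization.Away f)) :=
        hM.eq_of_le hq₁'.ne_top hle
      have : q = q₁ := by
        have := IsLocalization.under_map_of_isPrime_disjoint (Submonoid.powers f)
          (Localization.Away f) hq₁ hdisj₁
        rw [← heq] at this
        exact this
      exact hlt.ne this
    have hqnmax : ¬ q.IsMaximal := by
      intro hqmax
      apply hfq
      have : P.jacobson ≤ q := sInf_le ⟨hPq, hqmax⟩
      exact this hfJ
    have hf' : Ideal.Quotient.mk q f ≠ 0 := by
      rwa [Ne, Ideal.Quotient.eq_zero_iff_mem]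
    refine h q hqnmax (Ideal.Quotient.mk q f) hf' ?_
    refine (Groth.Agent.Lib.Helper7.isField_away_iff _ hf').mpr ?_
    intro Q' hQ' hQ'ne
    have hsurj : Function.Surjective (Ideal.Quotient.mk q) := Ideal.Quotient.mk_surjective
    have hle : q ≤ Q'.comap (Ideal.Quotient.mk q) := by
      intro a ha
      rw [Ideal.mem_comap, Ideal.Quotient.eq_zero_iff_mem.mpr ha]
      exact zero_mem _
    have hne : q ≠ Q'.comap (Ideal.Quotient.mk q) := by
      intro heq
      apply hQ'ne
      rw [← Ideal.map_comap_of_surjective _ hsurj Q', ← heq, Ideal.map_quotient_self]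
    exact hstar _ (Ideal.comap_isPrime _ _) (lt_of_le_of_ne hle hne)
  tfae_finish

end Groth.Agent.S4862
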