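import Groth.Statements.S4866
import Mathlib
import Groth.Agent.S4850
import Groth.Agent.S4851
import Groth.Agent.Lib.Helper2FlatOpen
import Groth.Agent.Lib.Helper23FPQuot
import Groth.Agent.Lib.Helper23FinPres
import Groth.Agent.Lib.Helper26InjFlatFib
import Groth.Agent.Lib.Helper18Strict6
import Groth.Prelude.Def_TwSh

set_option autoImplicit false
set_option linter.style.haveILetI false
universe u
open EGA43

namespace Groth.Agent.S4866

open AlgebraicGeometry CategoryTheory Limits IsLocalRing
open Groth.Agent.Lib.Helper4.NormDelta Groth.Agent.Lib.Helper26.FibInj Groth.Agent.Lib.Helper26.InjFlatFib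


section Alg

variable {R : Type*} [CommRing R] {M N : Type*} [AddCommGroup M] [Module R M] [AddCommGroup N] [Module R N]

/-- quotient comparison -/
theorem nonempty_quotSMulTop_equiv (J : Ideal R) (r : R) (π : M →ₗ[R] N) (hπ : Function.Surjective π)
    (hker : ∀ m : M, π m = 0 ↔ ∃ m' : M, r • m' = m) :
    Nonempty (QuotSMulTop r (M ⧸ (J • (⊤ : Submodule R M))) ≃ₗ[R] (N ⧸ (J • (⊤ : Submodule R N)))) := by
  let φ : M →ₗ[R] (N ⧸ (J • (⊤ : Submodule R N))) := (Submodule.mkQ _).comp π
  let ψ : M →ₗ[R] QuotSMulTop r (M ⧸ (J • (⊤ : Submodule R M))) :=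
    (Submodule.mkQ _).comp (Submodule.mkQ _)
  have hφ : Function.Surjective φ := (Submodule.mkQ_surjective _).comp hπ
  have hψ : Function.Surjective ψ := (Submodule.mkQ_surjective _).comp (Submodule.mkQ_surjective _)
  have hk : LinearMap.ker ψ = LinearMap.ker φ := by
    ext m
    simp only [LinearMap.mem_ker, φ, ψ, LinearMap.comp_apply, Submodule.mkQ_apply,
      Submodule.Quotient.mk_eq_zero]
    constructor
    · intro h
      rw [Submodule.mem_smul_pointwise_iff_exists] at h
      obtain ⟨y, -, hy⟩ := h
      obtain ⟨m', rfl⟩ := Submodule.mkQ_surjective _ y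
      have h1 : m - r • m' ∈ J • (⊤ : Submodule R M) := by
        rw [← Submodule.Quotient.mk_eq_zero, Submodule.Quotient.mk_sub, Submodule.Quotient.mk_smul]
        rw [sub_eq_zero]
        exact hy.symm
      have h2 : π m = π (m - r • m') := by
        rw [map_sub, (hker (r • m')).2 ⟨m', rfl⟩, sub_zero]
      rw [h2]
      have : Submodule.map π (J • (⊤ : Submodule R M)) ≤ J • (⊤ : Submodule R N) := by
        rw [Submodule.map_smul'']
        exact Submodule.smul_mono le_rfl le_top
      exact this ⟨_, h1, rfl⟩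
    · intro h
      have h3 : J • (⊤ : Submodule R N) = Submodule.map π (J • (⊤ : Submodule R M)) := by
        rw [Submodule.map_smul'', Submodule.map_top, LinearMap.range_eq_top.2 hπ]
      rw [h3] at h
      obtain ⟨m₁, hm₁, hm₁'⟩ := h
      have h4 : π (m - m₁) = 0 := by rw [map_sub, hm₁', sub_self]
      obtain ⟨m', hm'⟩ := (hker _).1 h4
      rw [Submodule.mem_smul_pointwise_iff_exists]
      refine ⟨Submodule.Quotient.mk m', trivial, ?_⟩
      rw [← Submodule.Quotient.mk_smul, hm', Submodule.Quotient.mk_sub, sub_eq_self,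
        Submodule.Quotient.mk_eq_zero]
      exact hm₁
  exact ⟨(LinearMap.quotKerEquivOfSurjective ψ hψ).symm ≪≫ₗ
    (Submodule.quotEquivOfEq _ _ hk) ≪≫ₗ LinearMap.quotKerEquivOfSurjective φ hφ⟩

theorem isSMulRegular_quot_iff (P : Submodule R M) (r : R) :
    IsSMulRegular (M ⧸ P) r ↔ ∀ m : M, r • m ∈ P → m ∈ P := by
  rw [isSMulRegular_iff_right_eq_zero_of_smul]
  constructor
  · intro h m hm
    have := h (Submodule.Quotient.mk m) (by rw [← Submodule.Quotient.mk_smul, Submodule.Quotient.mk_eq_zero]; exact hm)
    rwa [Submodule.Quotient.mk_eq_zero] at this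
  · intro h y hy
    obtain ⟨m, rfl⟩ := Submodule.mkQ_surjective _ y
    rw [Submodule.mkQ_apply, ← Submodule.Quotient.mk_smul, Submodule.Quotient.mk_eq_zero] at hy
    rw [Submodule.mkQ_apply, Submodule.Quotient.mk_eq_zero]
    exact h m hy

end Alg

variable {X Y : Scheme.{u}}

theorem stalkHom_scalarEnd (F : X.Modules) (g : Γ(X, ⊤)) (x : X) (m : F.presheaf.stalk x) :
    stalkHom (TwSh.scalarEnd F g) x m = (X.presheaf.germ ⊤ x trivial g) • m := by
  obtain ⟨V, hxV, t, rfl⟩ := F.presheaf.exists_germ_eq m
  rw [stalkHom_germ]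
  have h1 : Scheme.Modules.Hom.app (TwSh.scalarEnd F g) V t = TwSh.resTop X V g • t := rfl
  rw [h1, Groth.Agent.Lib.Helper2.QCoh.germ_smul]
  congr 1
  exact TopCat.Presheaf.germ_res_apply X.presheaf (homOfLE le_top) x hxV g

/-- the fibre submodule `𝔪_y F_x`. -/
noncomputable abbrev fibSub (f : X ⟶ Y) (F : X.Modules) (x : X) :
    Submodule (X.presheaf.stalk x) (F.presheaf.stalk x) :=
  (Ideal.map (f.stalkMap x).hom (maximalIdeal (Y.presheaf.stalk (f x)))) • ⊤

theorem key (f : X ⟶ Y) [LocallyOfFinitePresentation f] (gs : List Γ(X, ⊤)) :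
    ∀ (F : X.Modules) [F.IsQuasicoherent]
      (_ : SheafOfModules.IsFinitePresentation (R := X.ringCatSheaf) F),
      IsOpen {x : X | FlatMod.IsFlatOverAt f F x ∧
        RingTheory.Sequence.IsWeaklyRegular (F.presheaf.stalk x ⧸ fibSub f F x)
          (gs.map fun g => (X.presheaf.germ ⊤ x trivial) g)} := by
  induction gs with
  | nil =>
    intro F _ hF
    haveI := hF
    have h := Groth.Agent.Lib.Helper2.FinPres.isOpen_setOf_isFlatOverAt f F
    have e : {x : X | FlatMod.IsFlatOverAt f F x ∧
        RingTheory.Sequence.IsWeaklyRegular (F.presheaf.stalk x ⧸ fibSub f F x)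
          (([] : List Γ(X, ⊤)).map fun g => (X.presheaf.germ ⊤ x trivial) g)} =
        {x : X | FlatMod.IsFlatOverAt f F x} := by
      ext x
      simp only [Set.mem_ofPred_eq, List.map_nil, and_iff_left_iff_imp]
      intro _
      exact RingTheory.Sequence.IsWeaklyRegular.nil _ _
    rw [e]
    exact h
  | cons g gs ih =>
    intro F _ hF
    haveI := hF
    let v : F ⟶ F := TwSh.scalarEnd F g
    haveI : SheafOfModules.IsFiniteType (R := X.ringCatSheaf) F :=
      Groth.Agent.Helper18Strict.isFT_of_isFP F hF
    obtain ⟨hCq, hCfp⟩ := Groth.Agent.Lib.Helper23.FPQuot.isFP_cokernel v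
    haveI := hCq
    have h1 := Groth.Agent.Lib.Helper2.FinPres.isOpen_setOf_isFlatOverAt f F
    have h2 := Groth.Agent.S4851.result f F F hF hF v
    have h3 := ih (cokernel v) hCfp
    have e : {x : X | FlatMod.IsFlatOverAt f F x ∧
        RingTheory.Sequence.IsWeaklyRegular (F.presheaf.stalk x ⧸ fibSub f F x)
          ((g :: gs).map fun g => (X.presheaf.germ ⊤ x trivial) g)} =
        ({x : X | FlatMod.IsFlatOverAt f F x} ∩
          {x : X | Function.Injective ((TopCat.Presheaf.stalkFunctor Ab x).map
              (Scheme.Modules.Hom.mapPresheaf v)) ∧ FlatMod.IsFlatOverAt f (cokernel v) x}) ∩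
          {x : X | FlatMod.IsFlatOverAt f (cokernel v) x ∧
            RingTheory.Sequence.IsWeaklyRegular
              ((cokernel v).presheaf.stalk x ⧸ fibSub f (cokernel v) x)
              (gs.map fun g => (X.presheaf.germ ⊤ x trivial) g)} := by
      ext x
      simp only [Set.mem_ofPred_eq, Set.mem_inter_iff, List.map_cons,
        RingTheory.Sequence.isWeaklyRegular_cons_iff]
      -- the comparison of quotients
      obtain ⟨hsurj, hex⟩ := stalk_exact_cokernel hF hF v x
      obtain ⟨eq⟩ := nonempty_quotSMulTop_equiv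
        (Ideal.map (f.stalkMap x).hom (maximalIdeal (Y.presheaf.stalk (f x))))
        ((X.presheaf.germ ⊤ x trivial) g) (stalkLin (cokernel.π v) x) hsurj
        (fun m => by
          rw [show stalkLin (cokernel.π v) x m = stalkHom (cokernel.π v) x m from rfl, hex m]
          constructor
          · rintro ⟨m', hm'⟩
            exact ⟨m', by rw [← hm', stalkHom_scalarEnd]⟩
          · rintro ⟨m', hm'⟩
            exact ⟨m', by rw [← hm', stalkHom_scalarEnd]⟩)
      have hB := eq.isWeaklyRegular_congr (gs.map fun g => (X.presheaf.germ ⊤ x trivial) g)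
      have hA : ∀ hfl : FlatMod.IsFlatOverAt f F x,
          (IsSMulRegular (F.presheaf.stalk x ⧸ fibSub f F x) ((X.presheaf.germ ⊤ x trivial) g) ↔
          (Function.Injective ((TopCat.Presheaf.stalkFunctor Ab x).map
              (Scheme.Modules.Hom.mapPresheaf v)) ∧ FlatMod.IsFlatOverAt f (cokernel v) x)) := by
        intro hfl
        rw [Groth.Agent.S4850.result f F F hF hF v x hfl, isSMulRegular_quot_iff]
        constructor
        · intro h m hm
          apply h m
          have := stalkHom_scalarEnd F g x m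
          rw [← this]
          exact hm
        · intro h m hm
          apply h m
          have := stalkHom_scalarEnd F g x m
          change stalkHom v x m ∈ _
          rw [this]
          exact hm
      constructor
      · rintro ⟨hfl, hreg, hwr⟩
        have := (hA hfl).1 hreg
        exact ⟨⟨hfl, this⟩, this.2, hB.1 hwr⟩
      · rintro ⟨⟨hfl, hinj⟩, -, hwr⟩
        exact ⟨hfl, (hA hfl).2 hinj, hB.2 hwr⟩
    rw [e]
    exact (h1.inter h2).inter h3


open AlgebraicGeometry CategoryTheory Limits in
/-- Let Y be a locally Noetherian scheme, f : X ⟶ Y locally of finite type, F a coherent f-flat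
O_X-module and g₁, …, gₙ sections of O_X over X. Then the set of points x of X, with y = f x, such
that the germs (gᵢ)_x form a weakly regular sequence on the fibre module F_x / m_y F_x (each gᵢ is a
non-zero-divisor on the quotient by the preceding ones; the quotient by all of them may be zero) is
open in X. -/
theorem result {X Y : Scheme.{u}} [IsLocallyNoetherian Y] (f : X ⟶ Y)
    [LocallyOfFiniteType f] (F : X.Modules) (hF : Coh.IsCoh F) (hflat : FlatMod.IsFlatOver f F)
    (n : ℕ) (g : Fin n → Γ(X, ⊤)) :
    IsOpen {x : X |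
      RingTheory.Sequence.IsWeaklyRegular
        (↑(F.presheaf.stalk x) ⧸ (Ideal.map (f.stalkMap x).hom (IsLocalRing.maximalIdeal ↑(Y.presheaf.stalk (f x))) •
          (⊤ : Submodule ↑(X.presheaf.stalk x) ↑(F.presheaf.stalk x))))
        (List.ofFn fun i => (X.presheaf.germ ⊤ x trivial) (g i))} := by
  haveI : IsLocallyNoetherian X := LocallyOfFiniteType.isLocallyNoetherian f
  haveI : LocallyOfFinitePresentation f := inferInstance
  haveI : F.IsQuasicoherent := hF.1
  haveI : SheafOfModules.IsFiniteType (R := X.ringCatSheaf) F := hF.2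
  have hFP : SheafOfModules.IsFinitePresentation (R := X.ringCatSheaf) F :=
    Groth.Agent.Lib.Helper23.FinType.isFinitePresentation_of_isFiniteType F
  have h := key f (List.ofFn g) F hFP
  have e : {x : X | FlatMod.IsFlatOverAt f F x ∧
      RingTheory.Sequence.IsWeaklyRegular (F.presheaf.stalk x ⧸ fibSub f F x)
        ((List.ofFn g).map fun g => (X.presheaf.germ ⊤ x trivial) g)} =
      {x : X |
      RingTheory.Sequence.IsWeaklyRegular
        (↑(F.presheaf.stalk x) ⧸ (Ideal.map (f.stalkMap x).hom (IsLocalRing.maximalIdeal ↑(Y.presheaf.stalk (f x))) •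
          (⊤ : Submodule ↑(X.presheaf.stalk x) ↑(F.presheaf.stalk x))))
        (List.ofFn fun i => (X.presheaf.germ ⊤ x trivial) (g i))} := by
    ext x
    simp only [Set.mem_ofPred_eq, List.map_ofFn]
    constructor
    · rintro ⟨-, h⟩
      exact h
    · intro h
      exact ⟨hflat x, h⟩
  rw [← e]
  exact h

end Groth.Agent.S4866
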