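import Groth.Statements.S4867
-- import your own Groth.Agent.* helpers here
import Mathlib
import Groth.Agent.Lib.Helper26FlatLimD
import Groth.Agent.Lib.Helper26LocusMod
import Groth.Agent.Lib.Helper22LimBC
import Groth.Agent.Lib.Helper26FGZ
import Groth.Agent.S0591

set_option autoImplicit false
universe u
open CategoryTheory AlgebraicGeometry
open EGA43

namespace Groth.Agent.S4867

open AlgebraicGeometry CategoryTheory Limits
open Groth.Agent.Lib.Helper26.FGZ Groth.Agent.Lib.Helper22.LimBC Groth.Agent.Lib.Helper26.FlatLim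
  Groth.Agent.Lib.Helper26.ModDesc Groth.Agent.Lib.Helper26.LocusMod

/-- the common construction: a stage `k` over the stage `j` to which the module descends. -/
theorem stage_data {A : Type u} [CommRing A] {X : Scheme.{u}}
    (f : X ⟶ Spec (CommRingCat.of A)) [h1 : LocallyOfFinitePresentation f] [h2 : QuasiCompact f]
    [h3 : QuasiSeparated f]
    (F : X.Modules) [hq : F.IsQuasicoherent] (hF : SheafOfModules.IsFinitePresentation (R := X.ringCatSheaf) F) :
    ∃ (j₀ : (FGSub A)ᵒᵖ) (X₁ : Scheme.{u}) (f₁ : X₁ ⟶ (specDiagram A).obj j₀) (q₁ : X ⟶ X₁)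
      (F₁ : X₁.Modules), LocallyOfFinitePresentation f₁ ∧ QuasiCompact f₁ ∧ QuasiSeparated f₁ ∧
      F₁.IsQuasicoherent ∧ SheafOfModules.IsFinitePresentation (R := X₁.ringCatSheaf) F₁ ∧
      IsPullback q₁ f f₁ ((specCone A).π.app j₀) ∧
      Nonempty ((Scheme.Modules.pullback q₁).obj F₁ ≅ F) := by
  obtain ⟨i, Xi, ui, qX, a1, a2, a3, hX⟩ :=
    @Groth.Agent.S0591.result _ _ _ (specDiagram A) (specCone A) (specIsLimit A) _ _ _ X f h1 h2 h3
  haveI : CompactSpace Xi := QuasiCompact.compactSpace_of_compactSpace ui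
  haveI : QuasiSeparatedSpace Xi := quasiSeparatedSpace_of_quasiSeparated ui
  haveI hD : ∀ {i j : (FGSub A)ᵒᵖ} (φ : i ⟶ j), IsAffineHom ((specDiagram A).map φ) :=
    fun φ => inferInstance
  obtain ⟨j, Fj, hFjq, hFjfp, ⟨e⟩⟩ := desc_of_compact_quasiSeparated (bcDiagram (specDiagram A) i ui)
    (bcCone i hX) (isLimitBcCone i hX (specIsLimit A)) (Over.mk (𝟙 i)) F hq hF
  have hsq := isPullback_bcπ (D := specDiagram A) (c := specCone A) i hX j
  refine ⟨j.left, _, dSnd (specDiagram A) i ui j, bcπ i hX j, Fj,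
    MorphismProperty.of_isPullback (P := @LocallyOfFinitePresentation)
      (isPullback_d (specDiagram A) i ui j) a1,
    MorphismProperty.of_isPullback (P := @QuasiCompact) (isPullback_d (specDiagram A) i ui j) a2,
    MorphismProperty.of_isPullback (P := @QuasiSeparated) (isPullback_d (specDiagram A) i ui j) a3,
    hFjq, hFjfp, hsq, ⟨e⟩⟩

/-- passing from the stage `j₀` to a later stage `k`. -/
theorem finish {I : Type u} [SmallCategory I] (D : I ⥤ Scheme.{u}) (c : Cone D) {X : Scheme.{u}}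
    (f : X ⟶ c.pt) (F : X.Modules) {j₀ : I} {X₁ : Scheme.{u}}
    (f₁ : X₁ ⟶ D.obj j₀) (q₁ : X ⟶ X₁) (F₁ : X₁.Modules)
    (hsq : IsPullback q₁ f f₁ (c.π.app j₀))
    (e : (Scheme.Modules.pullback q₁).obj F₁ ≅ F) (k : Over j₀) :
    ∃ v : X ⟶ pullback f₁ (D.map k.hom),
      v ≫ pullback.fst f₁ (D.map k.hom) = q₁ ∧
      v ≫ pullback.snd f₁ (D.map k.hom) = f ≫ c.π.app k.left ∧
      IsPullback v f (pullback.snd f₁ (D.map k.hom)) (c.π.app k.left) ∧
      Nonempty ((Scheme.Modules.pullback v).obj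
        ((Scheme.Modules.pullback (pullback.fst f₁ (D.map k.hom))).obj F₁) ≅ F) := by
  have hw : c.π.app k.left ≫ D.map k.hom = c.π.app j₀ := c.w k.hom
  let v : X ⟶ pullback f₁ (D.map k.hom) :=
    pullback.lift q₁ (f ≫ c.π.app k.left) (by rw [hsq.w, Category.assoc, hw])
  have hv1 : v ≫ pullback.fst f₁ (D.map k.hom) = q₁ := pullback.lift_fst _ _ _
  have hv2 : v ≫ pullback.snd f₁ (D.map k.hom) = f ≫ c.π.app k.left :=
    pullback.lift_snd _ _ _
  refine ⟨v, hv1, hv2, ?_, ⟨?_⟩⟩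
  · refine IsPullback.of_right ?_ hv2 (IsPullback.of_hasPullback f₁ (D.map k.hom))
    rw [hv1, hw]
    exact hsq
  · exact (Scheme.Modules.pullbackComp v (pullback.fst f₁ (D.map k.hom))).app F₁ ≪≫
      (Scheme.Modules.pullbackCongr hv1).app F₁ ≪≫ e

/-- Let A be a commutative ring, f : X ⟶ Spec A a morphism of finite presentation, F a quasi-coherent
O_X-module of finite presentation and x a point of X. If F is f-flat at x, then there are a finitely
generated subring A₀ of A, a morphism of finite type f₀ : X₀ ⟶ Spec A₀, a coherent O_{X₀}-module F₀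
and a cartesian square q : X ⟶ X₀ over Spec A ⟶ Spec A₀ together with an isomorphism q^*F₀ ≅ F, such
that F₀ is f₀-flat at q x; and if F is f-flat, F₀ can be chosen f₀-flat. -/
theorem result {A : Type u} [CommRing A] {X : Scheme.{u}}
    (f : X ⟶ Spec (CommRingCat.of A)) [LocallyOfFinitePresentation f] [QuasiCompact f] [QuasiSeparated f]
    (F : X.Modules) [Coh.IsQCoh F] (hF : CohB1.IsFP F) (x : X) :
    (FlatMod.IsFlatOverAt f F x →
      ∃ (A₀ : Subalgebra ℤ A) (_ : A₀.FG) (X₀ : Scheme.{u}) (f₀ : X₀ ⟶ Spec (CommRingCat.of ↥A₀))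
        (_ : LocallyOfFiniteType f₀) (_ : QuasiCompact f₀) (F₀ : X₀.Modules) (_ : Coh.IsCoh F₀) (q : X ⟶ X₀)
        (_ : IsPullback q f f₀ (Spec.map (CommRingCat.ofHom A₀.val.toRingHom)))
        (_ : (Scheme.Modules.pullback q).obj F₀ ≅ F),
        FlatMod.IsFlatOverAt f₀ F₀ (q x)) ∧
    (FlatMod.IsFlatOver f F →
      ∃ (A₀ : Subalgebra ℤ A) (_ : A₀.FG) (X₀ : Scheme.{u}) (f₀ : X₀ ⟶ Spec (CommRingCat.of ↥A₀))
        (_ : LocallyOfFiniteType f₀) (_ : QuasiCompact f₀) (F₀ : X₀.Modules) (_ : Coh.IsCoh F₀) (q : X ⟶ X₀)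
        (_ : IsPullback q f f₀ (Spec.map (CommRingCat.ofHom A₀.val.toRingHom)))
        (_ : (Scheme.Modules.pullback q).obj F₀ ≅ F),
        FlatMod.IsFlatOver f₀ F₀) := by
  haveI hq : F.IsQuasicoherent := ‹Coh.IsQCoh F›
  have hFP : SheafOfModules.IsFinitePresentation (R := X.ringCatSheaf) F := hF
  obtain ⟨j₀, X₁, f₁, q₁, F₁, b1, b2, b3, hF₁q, hF₁fp, hsq, ⟨e⟩⟩ := stage_data f F hFP
  haveI := b1
  haveI := b2
  haveI := b3
  haveI := hF₁q
  haveI hD : ∀ {i j : (FGSub A)ᵒᵖ} (φ : i ⟶ j), IsAffineHom ((specDiagram A).map φ) :=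
    fun φ => inferInstance
  -- the common conclusion from a stage `k`
  have key : ∀ (k : Over j₀) (v : X ⟶ pullback f₁ ((specDiagram A).map k.hom)),
      IsPullback v f (pullback.snd f₁ ((specDiagram A).map k.hom)) ((specCone A).π.app k.left) →
      ((Scheme.Modules.pullback v).obj
        ((Scheme.Modules.pullback (pullback.fst f₁ ((specDiagram A).map k.hom))).obj F₁) ≅ F) →
      ∀ (Q : ∀ (A₀ : Subalgebra ℤ A) (X₀ : Scheme.{u}) (f₀ : X₀ ⟶ Spec (CommRingCat.of ↥A₀))
        (F₀ : X₀.Modules) (q : X ⟶ X₀), Prop),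
      Q k.left.unop.1 (pullback f₁ ((specDiagram A).map k.hom))
        (pullback.snd f₁ ((specDiagram A).map k.hom))
        ((Scheme.Modules.pullback (pullback.fst f₁ ((specDiagram A).map k.hom))).obj F₁) v →
      ∃ (A₀ : Subalgebra ℤ A) (_ : A₀.FG) (X₀ : Scheme.{u}) (f₀ : X₀ ⟶ Spec (CommRingCat.of ↥A₀))
        (_ : LocallyOfFiniteType f₀) (_ : QuasiCompact f₀) (F₀ : X₀.Modules) (_ : Coh.IsCoh F₀) (q : X ⟶ X₀)
        (_ : IsPullback q f f₀ (Spec.map (CommRingCat.ofHom A₀.val.toRingHom)))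
        (_ : (Scheme.Modules.pullback q).obj F₀ ≅ F), Q A₀ X₀ f₀ F₀ q := by
    intro k v hpb e' Q hQ
    haveI : LocallyOfFinitePresentation (pullback.snd f₁ ((specDiagram A).map k.hom)) :=
      MorphismProperty.of_isPullback (P := @LocallyOfFinitePresentation)
        (IsPullback.of_hasPullback f₁ ((specDiagram A).map k.hom)) b1
    have hft : LocallyOfFiniteType (pullback.snd f₁ ((specDiagram A).map k.hom)) := inferInstance
    have hqc : QuasiCompact (pullback.snd f₁ ((specDiagram A).map k.hom)) :=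
      MorphismProperty.of_isPullback (P := @QuasiCompact)
        (IsPullback.of_hasPullback f₁ ((specDiagram A).map k.hom)) b2
    exact ⟨k.left.unop.1, k.left.unop.2, pullback f₁ ((specDiagram A).map k.hom),
      pullback.snd f₁ ((specDiagram A).map k.hom), hft, hqc,
      (Scheme.Modules.pullback (pullback.fst f₁ ((specDiagram A).map k.hom))).obj F₁,
      isCoh_pullback_of_isFP _ F₁ hF₁fp, v, hpb, e', hQ⟩
  constructor
  · intro H
    have H' : FlatMod.IsFlatOverAt f ((Scheme.Modules.pullback q₁).obj F₁) x :=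
      isFlatOverAt_of_iso f e.symm x H
    obtain ⟨k, hk⟩ := exists_stage_isFlatOverAt (specDiagram A) (specCone A) (specIsLimit A) j₀ f₁ F₁
      (hF₀ := hF₁fp) (hP := hsq) x H'
    obtain ⟨v, hv1, hv2, hpb, ⟨e'⟩⟩ := finish (specDiagram A) (specCone A) f F f₁ q₁ F₁ hsq e k
    refine key k v hpb e' (fun A₀ X₀ f₀ F₀ q => FlatMod.IsFlatOverAt f₀ F₀ (q x)) ?_
    exact hk k (𝟙 k) (pullback.fst f₁ ((specDiagram A).map k.hom))
      (pullback.snd f₁ ((specDiagram A).map k.hom))
      (IsPullback.of_hasPullback f₁ ((specDiagram A).map k.hom)) v hv1 hv2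
  · intro H
    have H' : FlatMod.IsFlatOver f ((Scheme.Modules.pullback q₁).obj F₁) :=
      isFlatOver_of_iso f e.symm H
    haveI : CompactSpace X₁ := QuasiCompact.compactSpace_of_compactSpace f₁
    haveI := hF₁fp
    obtain ⟨k, hk⟩ := exists_stage_isFlatOver (specDiagram A) (specCone A) (specIsLimit A) j₀ f₁ F₁
      (hP := hsq) H'
    obtain ⟨v, hv1, hv2, hpb, ⟨e'⟩⟩ := finish (specDiagram A) (specCone A) f F f₁ q₁ F₁ hsq e k
    refine key k v hpb e' (fun A₀ X₀ f₀ F₀ q => FlatMod.IsFlatOver f₀ F₀) ?_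
    exact hk k (𝟙 k) (pullback.fst f₁ ((specDiagram A).map k.hom))
      (pullback.snd f₁ ((specDiagram A).map k.hom))
      (IsPullback.of_hasPullback f₁ ((specDiagram A).map k.hom))

end Groth.Agent.S4867
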