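import Groth.Statements.S4876
import Groth.Agent.Lib.Helper4UnivSchDomE

set_option autoImplicit false
universe u
open CategoryTheory AlgebraicGeometry
open EGA43

namespace Groth.Agent.S4876

/-- Let p : X ⟶ S be a morphism with X locally Noetherian and (f_i : Z_i ⟶ X) a family of morphisms with
every Z_i flat over S. Then the family (f_i) is universally schematically dominant relative to S,
i.e. for every base change S' ⟶ S the family Z_i ×_S S' ⟶ X ×_S S' is schematically dominant, if and
only if for every point s of S the family of fibres (Z_i)_s ⟶ X_s is schematically dominant.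
(Schematically dominant: a section of the structure sheaf over an open whose pullback along every
member vanishes is zero.) -/
theorem result {X S : Scheme.{u}} [IsLocallyNoetherian X]
    (p : X ⟶ S) {ι : Type u} (Z : ι → Scheme.{u}) (f : ∀ i, Z i ⟶ X) [∀ i, Flat (f i ≫ p)] :
    (∀ (S' : Scheme.{u}) (g : S' ⟶ S),
      (∀ (V : (Limits.pullback p g).Opens) (t : Γ(Limits.pullback p g, V)), (∀ i, (Limits.pullback.map (f i ≫ p) g p g (f i) (𝟙 S') (𝟙 S) (Category.comp_id _) ((Category.comp_id _).trans (Category.id_comp _).symm)).app V t = 0) → t = 0)) ↔
    ∀ s : S, (∀ (V : (p.fiber s).Opens) (t : Γ(p.fiber s, V)), (∀ i, (MoreMor.fiberMap (f i) p s).app V t = 0) → t = 0) := by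
  constructor
  · -- universal ⟹ fibrewise: specialise to `S' = Spec κ(s)`
    intro H s V t ht
    refine H (Spec (S.residueField s)) (S.fromSpecResidueField s) V t (fun i => ?_)
    have e : Limits.pullback.map (f i ≫ p) (S.fromSpecResidueField s) p
        (S.fromSpecResidueField s) (f i) (𝟙 _) (𝟙 S) (Category.comp_id _)
        ((Category.comp_id _).trans (Category.id_comp _).symm) =
        MoreMor.fiberMap (f i) p s := by
      apply Limits.pullback.hom_ext
      · exact (Limits.pullback.lift_fst _ _ _).trans (Limits.pullback.lift_fst _ _ _).symm
      · exact ((Limits.pullback.lift_snd _ _ _).trans (Category.comp_id _)).trans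
          (Limits.pullback.lift_snd _ _ _).symm
    rw [e]
    exact ht i
  · -- fibrewise ⟹ universal
    intro H S' g V t ht
    refine Groth.Agent.Lib.Helper4.UnivSchDom.univ_schematicallyDominant_of_fibres p Z f
      (fun s V t ht => H s V t (fun i => ?_)) g V t ht
    have e : Limits.pullback.map (f i ≫ p) (S.fromSpecResidueField s) p
        (S.fromSpecResidueField s) (f i) (𝟙 _) (𝟙 S) (Category.comp_id _)
        ((Category.comp_id _).trans (Category.id_comp _).symm) =
        MoreMor.fiberMap (f i) p s := by
      apply Limits.pullback.hom_ext
      · exact (Limits.pullback.lift_fst _ _ _).trans (Limits.pullback.lift_fst _ _ _).symm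
      · exact ((Limits.pullback.lift_snd _ _ _).trans (Category.comp_id _)).trans
          (Limits.pullback.lift_snd _ _ _).symm
    rw [← e]
    exact ht i

end Groth.Agent.S4876
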