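import Groth.Statements.S4878
-- import your own Groth.Agent.* helpers here

set_option autoImplicit false
universe u
open TensorProduct
open EGA43

namespace Groth.Agent.S4878

/-- Let A be a commutative ring, (u_i : M → M_i) a family of A-linear maps whose kernels have zero
intersection, and N a projective A-module. Then the kernels of the maps u_i ⊗ 1 : M ⊗_A N → M_i ⊗_A
N have zero intersection. -/
theorem result {A : Type u} [CommRing A]
    {M : Type u} [AddCommGroup M] [Module A M] {ι : Type u} (M' : ι → Type u)
    [∀ i, AddCommGroup (M' i)] [∀ i, Module A (M' i)] (u : ∀ i, M →ₗ[A] M' i)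
    (hu : ⨅ i, LinearMap.ker (u i) = ⊥)
    (N : Type u) [AddCommGroup N] [Module A N] [Module.Projective A N] :
    ⨅ i, LinearMap.ker ((u i).rTensor N) = ⊥ := by
  classical
  obtain ⟨s, hs⟩ := (Module.projective_def' (R := A) (P := N)).mp inferInstance
  rw [eq_bot_iff]
  intro z hz
  rw [Submodule.mem_iInf] at hz
  rw [Submodule.mem_bot]
  -- coordinate maps
  let e : ∀ (P : Type u) [AddCommGroup P] [Module A P], N → (P ⊗[A] (N →₀ A)) →ₗ[A] P :=
    fun P _ _ n => (Finsupp.lapply n) ∘ₗ
      (TensorProduct.finsuppScalarRight A A P N).toLinearMap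
  have he : ∀ i n (w : M ⊗[A] (N →₀ A)),
      u i (e M n w) = e (M' i) n ((u i).rTensor (N →₀ A) w) := by
    intro i n w
    induction w using TensorProduct.induction_on with
    | zero => simp
    | tmul m f =>
      simp only [e, LinearMap.coe_comp, LinearEquiv.coe_coe, Function.comp_apply,
        Finsupp.lapply_apply, LinearMap.rTensor_tmul,
        TensorProduct.finsuppScalarRight_apply_tmul_apply, map_smul]
    | add a b ha hb => simp only [map_add, ha, hb]
  have hw : (s.lTensor M) z = 0 := by
    apply (TensorProduct.finsuppScalarRight A A M N).injective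
    rw [map_zero]
    ext n
    have h1 : e M n ((s.lTensor M) z) ∈ ⨅ i, LinearMap.ker (u i) := by
      rw [Submodule.mem_iInf]
      intro i
      rw [LinearMap.mem_ker, he]
      have h2 : (u i).rTensor (N →₀ A) ((s.lTensor M) z) =
          (s.lTensor (M' i)) ((u i).rTensor N z) := by
        rw [← LinearMap.comp_apply, ← LinearMap.comp_apply, LinearMap.rTensor_comp_lTensor,
          LinearMap.lTensor_comp_rTensor]
      rw [h2, LinearMap.mem_ker.mp (hz i), map_zero, map_zero]
    rw [hu, Submodule.mem_bot] at h1
    exact h1
  have hz' : z = ((Finsupp.linearCombination A id).lTensor M) ((s.lTensor M) z) := by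
    rw [← LinearMap.comp_apply, ← LinearMap.lTensor_comp, hs, LinearMap.lTensor_id,
      LinearMap.id_apply]
  rw [hz', hw, map_zero]

end Groth.Agent.S4878
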