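import Groth.Statements.S4881
import Groth.Agent.Lib.Helper7TopDim

set_option autoImplicit false
universe u
open CategoryTheory AlgebraicGeometry
open EGA43

namespace Groth.Agent.S4881


open TopologicalSpace in
/-- In a Noetherian space, a point whose closure is an irreducible component lies in every
dense open subset. -/
lemma mem_of_dense_of_noetherian {X : Type*} [TopologicalSpace X] [NoetherianSpace X] (ξ : X)
    (hξ : closure {ξ} ∈ irreducibleComponents X) (D : Set X) (hD : IsOpen D) (hd : Dense D) :
    ξ ∈ D := by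
  have hfin : (irreducibleComponents X).Finite := NoetherianSpace.finite_irreducibleComponents
  have hcl := closure_sUnion_irreducibleComponents_sdiff_singleton hfin _ hξ
  have hopen : IsOpen (⋃₀ (irreducibleComponents X \ {closure {ξ}}))ᶜ := by
    rw [Set.sUnion_eq_biUnion, isOpen_compl_iff]
    exact hfin.sdiff.isClosed_biUnion fun W hW ↦ isClosed_of_mem_irreducibleComponents W hW.1
  have hne : ((⋃₀ (irreducibleComponents X \ {closure {ξ}}))ᶜ).Nonempty := by
    rw [← closure_nonempty_iff, hcl]
    exact ⟨ξ, subset_closure rfl⟩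
  obtain ⟨w, hwW, hwD⟩ := hd.inter_open_nonempty _ hopen hne
  have hw : w ∈ closure {ξ} := by
    rw [← hcl]; exact subset_closure hwW
  exact (specializes_iff_mem_closure.mpr hw).mem_open hD hwD

/-- The generic point of an irreducible component of a locally Noetherian scheme lies in every
dense open subset. -/
lemma mem_of_dense (X : Scheme.{u}) [IsLocallyNoetherian X] (ξ : X)
    (hξ : closure {ξ} ∈ irreducibleComponents (X : Type u)) (U : Set X) (hU : IsOpen U)
    (hd : Dense U) : ξ ∈ U := by
  obtain ⟨_, ⟨V, hV : IsAffineOpen V, rfl⟩, hξV, -⟩ :=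
    (X.isBasis_affineOpens).exists_subset_of_mem_open (Set.mem_univ ξ) isOpen_univ
  have : IsNoetherianRing Γ(X, V) := IsLocallyNoetherian.component_noetherian ⟨V, hV⟩
  have : TopologicalSpace.NoetherianSpace V := noetherianSpace_of_isAffineOpen V hV
  have hemb : Topology.IsOpenEmbedding (Subtype.val : V → X) := V.2.isOpenEmbedding_subtypeVal
  have h1 : (Subtype.val : V → X) ⁻¹' closure {ξ} ∈ irreducibleComponents V :=
    preimage_mem_irreducibleComponents hξ hemb ⟨ξ, subset_closure rfl, ⟨⟨ξ, hξV⟩, rfl⟩⟩
  have h2 : (Subtype.val : V → X) ⁻¹' closure {ξ} = closure {(⟨ξ, hξV⟩ : V)} := by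
    rw [hemb.isInducing.closure_eq_preimage_closure_image, Set.image_singleton]
  rw [h2] at h1
  exact @mem_of_dense_of_noetherian V _ this (⟨ξ, hξV⟩ : V) h1 ((Subtype.val : V → X) ⁻¹' U)
    (hU.preimage continuous_subtype_val) (hd.preimage hemb.isOpenMap)



/-- Let X be a locally Noetherian scheme which is Jacobson, whose local rings are universally catenary,
and whose irreducible components X' are equidimensional in the sense that for every closed point x
of X' the dimension of X' equals the dimension of the set of generizations of x in X'. Then for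
every dense open subset U of X, dim U = dim X. -/
theorem result (X : Scheme.{u}) [IsLocallyNoetherian X] [JacobsonSpace X]
    (h2 : ∀ x : X, CAlg.IsUniversallyCatenary (X.presheaf.stalk x))
    (h3 : ∀ X' ∈ irreducibleComponents (X : Type u), ∀ x ∈ X', IsClosed ({x} : Set X) →
      topologicalKrullDim (↥X' : Type u) = topologicalKrullDim ↥{t : X | t ∈ X' ∧ t ⤳ x})
    (U : Set X) (hU : IsOpen U) (hd : Dense U) :
    topologicalKrullDim ↥U = topologicalKrullDim X := by
  apply le_antisymm (topologicalKrullDim_subspace_le X U)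
  rw [topologicalKrullDim, Order.krullDim]
  refine iSup_le fun p => ?_
  obtain ⟨X', hX', hsub⟩ := exists_mem_irreducibleComponents_subset_of_isIrreducible
    (p.last : Set X) p.last.isIrreducible
  have hX'cl : IsClosed X' := isClosed_of_mem_irreducibleComponents X' hX'
  obtain ⟨ξ, hξ⟩ := QuasiSober.sober hX'.1 hX'cl
  have hξU : ξ ∈ U := mem_of_dense X ξ (by rw [hξ.def]; exact hX') U hU hd
  obtain ⟨x, ⟨hxX', hxU⟩, hxc⟩ := nonempty_inter_closedPoints (Z := X' ∩ U)
    ⟨ξ, hξ.mem, hξU⟩ (hX'cl.isLocallyClosed.inter hU.isLocallyClosed)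
  have h1 : (p.length : WithBot ℕ∞) ≤ topologicalKrullDim ↥X' :=
    Groth.Agent.Lib.Helper7.TopDim.length_le_of_forall_subset X' p
      (fun j => Set.Subset.trans
        (show (p j : Set X) ⊆ (p.last : Set X) from p.strictMono.monotone (Fin.le_last j)) hsub)
  rw [h3 X' hX' x hxX' hxc] at h1
  refine h1.trans ?_
  have hGU : {t : X | t ∈ X' ∧ t ⤳ x} ⊆ U := fun t ht => ht.2.mem_open hU hxU
  exact (Topology.IsEmbedding.inclusion hGU).isInducing.topologicalKrullDim_le

end Groth.Agent.S4881
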