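import Groth.Statements.S4882
-- import your own Groth.Agent.* helpers here

set_option autoImplicit false
universe u
open EGA43

namespace Groth.Agent.S4882

/-- Let X be a Jacobson space and Z a locally quasi-constructible subset of X, i.e. every point of X has
an open neighbourhood U such that U ∩ Z is a finite union of locally closed subsets of X. Then the
subspace Z is a Jacobson space, and a point of Z is closed in Z if and only if it is closed in X. -/
theorem result {X : Type u} [TopologicalSpace X] [JacobsonSpace X]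
    (Z : Set X)
    (hZ : ∀ x : X, ∃ U : Set X, IsOpen U ∧ x ∈ U ∧
      ∃ T : Set (Set X), T.Finite ∧ (∀ t ∈ T, IsLocallyClosed t) ∧ U ∩ Z = ⋃₀ T) :
    JacobsonSpace ↥Z ∧ ∀ z : ↥Z, IsClosed ({z} : Set ↥Z) ↔ IsClosed ({(z : X)} : Set X) := by
  have hclosed : ∀ z : ↥Z, IsClosed ({z} : Set ↥Z) → IsClosed ({(z : X)} : Set X) := by
    intro z hz
    obtain ⟨F, hF, hFz⟩ := Topology.IsInducing.subtypeVal.isClosed_iff.mp hz
    obtain ⟨U, hU, hzU, T, hT, hTlc, hUZ⟩ := hZ z
    have hzUZ : (z : X) ∈ U ∩ Z := ⟨hzU, z.2⟩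
    rw [hUZ] at hzUZ
    obtain ⟨t, ht, hzt⟩ := hzUZ
    have hzF : (z : X) ∈ F := by
      have : z ∈ Subtype.val ⁻¹' F := by rw [hFz]; exact Set.mem_singleton z
      exact this
    have heq : ({(z : X)} : Set X) = t ∩ F := by
      ext y
      constructor
      · rintro rfl
        exact ⟨hzt, hzF⟩
      · rintro ⟨hyt, hyF⟩
        have hyUZ : y ∈ U ∩ Z := by
          rw [hUZ]
          exact ⟨t, ht, hyt⟩
        have : (⟨y, hyUZ.2⟩ : ↥Z) ∈ Subtype.val ⁻¹' F := hyF
        rw [hFz, Set.mem_singleton_iff] at this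
        exact congrArg Subtype.val this
    apply isClosed_singleton_of_isLocallyClosed_singleton
    rw [heq]
    exact (hTlc t ht).inter hF.isLocallyClosed
  refine ⟨?_, fun z => ⟨hclosed z, fun h => ?_⟩⟩
  · rw [jacobsonSpace_iff_locallyClosed]
    intro W hW hWlc
    obtain ⟨L, hL, hLW⟩ := Topology.IsInducing.subtypeVal.isLocallyClosed_iff.mp hWlc
    obtain ⟨w, hw⟩ := hW
    obtain ⟨U, hU, hwU, T, hT, hTlc, hUZ⟩ := hZ w
    have hwUZ : (w : X) ∈ U ∩ Z := ⟨hwU, w.2⟩
    rw [hUZ] at hwUZ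
    obtain ⟨t, ht, hwt⟩ := hwUZ
    have hwL : (w : X) ∈ L := by
      have : w ∈ Subtype.val ⁻¹' L := by rw [hLW]; exact hw
      exact this
    obtain ⟨y, ⟨hyt, hyL⟩, hycl⟩ := nonempty_inter_closedPoints (Z := t ∩ L)
      ⟨w, hwt, hwL⟩ ((hTlc t ht).inter hL)
    have hyUZ : y ∈ U ∩ Z := by
      rw [hUZ]
      exact ⟨t, ht, hyt⟩
    refine ⟨⟨y, hyUZ.2⟩, ?_, ?_⟩
    · rw [← hLW]
      exact hyL
    · have hycl' : IsClosed ({y} : Set X) := hycl
      have : ({(⟨y, hyUZ.2⟩ : ↥Z)} : Set ↥Z) = Subtype.val ⁻¹' ({y} : Set X) := by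
        ext v
        simp only [Set.mem_singleton_iff, Set.mem_preimage]
        exact ⟨fun h => congrArg Subtype.val h, fun h => Subtype.ext h⟩
      show IsClosed ({(⟨y, hyUZ.2⟩ : ↥Z)} : Set ↥Z)
      rw [this]
      exact hycl'.preimage continuous_subtype_val
  · have : ({z} : Set ↥Z) = Subtype.val ⁻¹' ({(z : X)} : Set X) := by
      ext v
      simp only [Set.mem_singleton_iff, Set.mem_preimage]
      exact ⟨fun h => congrArg Subtype.val h, fun h => Subtype.ext h⟩
    rw [this]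
    exact h.preimage continuous_subtype_val

end Groth.Agent.S4882
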