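import Groth.Statements.S4883
import Groth.Agent.S4712

set_option autoImplicit false
universe u
open CategoryTheory AlgebraicGeometry
open EGA43

namespace Groth.Agent.S4883

/-- Let X be a Noetherian scheme. Then the set of points x of X whose closure is finite is very dense in
X: every nonempty locally closed subset of X contains a point with finite closure. -/
theorem result (X : Scheme.{u}) [IsNoetherian X]
    (Z : Set X) (hZ : IsLocallyClosed Z) (hne : Z.Nonempty) :
    ∃ x ∈ Z, (closure ({x} : Set X)).Finite := by
  have hNS : TopologicalSpace.NoetherianSpace X := inferInstance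
  have hCZ : CompactSpace ↥Z := inferInstance
  have hNZ : Nonempty ↥Z := hne.to_subtype
  obtain ⟨z, -, hz⟩ := IsClosed.exists_closed_singleton
    (isClosed_univ : IsClosed (Set.univ : Set ↥Z)) Set.univ_nonempty
  refine ⟨z.1, z.2, ?_⟩
  have hlc : IsLocallyClosed ({z.1} : Set X) := by
    have := hz.isLocallyClosed.image Topology.IsInducing.subtypeVal (by simpa using hZ)
    simpa using this
  obtain ⟨-, hcl⟩ := Groth.Agent.S4712.result X z.1 hlc
  have hF : IsClosed (closure ({z.1} : Set X) \ {z.1}) := by
    have := hlc.isOpen_coborder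
    rw [coborder] at this
    exact isOpen_compl_iff.mp this
  obtain ⟨S, hSf, hSc, hSi, hSU⟩ :=
    TopologicalSpace.NoetherianSpace.exists_finite_set_isClosed_irreducible hF
  have hfin : (closure ({z.1} : Set X) \ {z.1}).Finite := by
    rw [hSU]
    refine hSf.sUnion ?_
    intro t ht
    have htF : t ⊆ closure ({z.1} : Set X) \ {z.1} := hSU ▸ Set.subset_sUnion_of_mem ht
    obtain ⟨ξ, hξ⟩ := QuasiSober.sober (hSi t ht) (hSc t ht)
    have hξt : ξ ∈ t := hξ.mem
    have hξcl : IsClosed ({ξ} : Set X) := hcl ξ (htF hξt).1 (htF hξt).2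
    have : t = {ξ} := by rw [← hξ.def, hξcl.closure_eq]
    rw [this]
    exact Set.finite_singleton ξ
  refine (hfin.insert z.1).subset ?_
  intro y hy
  by_cases hyz : y = z.1
  · exact Set.mem_insert_iff.mpr (Or.inl hyz)
  · exact Set.mem_insert_iff.mpr (Or.inr ⟨hy, hyz⟩)

end Groth.Agent.S4883
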