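import Groth.Statements.S4885
import Mathlib
import Mathlib.Tactic

set_option autoImplicit false
universe u
open EGA43

namespace Groth.Agent.S4885

/-- Every finite algebra A' over a commutative ring A is a directed colimit (filtered inductive limit)
of A-algebras which are finite and of finite presentation over A. -/
theorem result (A A' : Type u) [CommRing A] [CommRing A']
    [Algebra A A'] [Module.Finite A A'] :
    ∃ (ι : Type u) (_ : Preorder ι) (G : ι → Type u) (_ : ∀ i, CommRing (G i)) (_ : ∀ i, Algebra A (G i))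
      (g : ∀ i j, i ≤ j → G i →ₐ[A] G j) (_ : ∀ i, Algebra (G i) A') (_ : ∀ i, IsScalarTower A (G i) A'),
      FlatCA.IsDirectedColimitRing G (fun i j h => (g i j h).toRingHom) A' ∧
        ∀ i, Module.Finite A (G i) ∧ Algebra.FinitePresentation A (G i) := by
  classical
  obtain ⟨n, s, hs⟩ := Module.Finite.exists_fin (R := A) (M := A')
  have hint : ∀ i, IsIntegral A (s i) := fun i => Algebra.IsIntegral.isIntegral (s i)
  choose p hpm hp0 using hint
  let φ : MvPolynomial (Fin n) A →ₐ[A] A' := MvPolynomial.aeval s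
  have hφX : ∀ i, φ (MvPolynomial.X i) = s i := fun i => MvPolynomial.aeval_X s i
  have hφsurj : Function.Surjective φ := by
    intro a
    have ha : a ∈ Submodule.span A (Set.range s) := by rw [hs]; trivial
    induction ha using Submodule.span_induction with
    | mem x hx =>
      obtain ⟨i, rfl⟩ := hx
      exact ⟨MvPolynomial.X i, hφX i⟩
    | zero => exact ⟨0, map_zero _⟩
    | add x y _ _ hx hy =>
      obtain ⟨x', rfl⟩ := hx
      obtain ⟨y', rfl⟩ := hy
      exact ⟨x' + y', map_add _ _ _⟩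
    | smul c x _ hx =>
      obtain ⟨x', rfl⟩ := hx
      exact ⟨c • x', map_smul _ _ _⟩
  let I : Ideal (MvPolynomial (Fin n) A) := RingHom.ker φ.toRingHom
  let rel : Fin n → MvPolynomial (Fin n) A := fun i => Polynomial.aeval (MvPolynomial.X i) (p i)
  let I₀ : Ideal (MvPolynomial (Fin n) A) := Ideal.span (Set.range rel)
  have hI₀fg : I₀.FG := Submodule.fg_span (Set.finite_range rel)
  have hI₀I : I₀ ≤ I := by
    rw [Ideal.span_le]
    rintro _ ⟨i, rfl⟩
    rw [SetLike.mem_coe, RingHom.mem_ker]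
    show φ (Polynomial.aeval (MvPolynomial.X i) (p i)) = 0
    rw [← Polynomial.aeval_algHom_apply, hφX]
    exact hp0 i
  let ι : Type u := {J : Ideal (MvPolynomial (Fin n) A) // J.FG ∧ I₀ ≤ J ∧ J ≤ I}
  let G : ι → Type u := fun J => MvPolynomial (Fin n) A ⧸ J.1
  let g : ∀ i j : ι, i ≤ j → G i →ₐ[A] G j := fun i j h => Ideal.Quotient.factorₐ A h
  have hlift : ∀ J : ι, ∀ a ∈ J.1, φ.toRingHom a = 0 := fun J a ha => J.2.2.2 ha
  let alg : ∀ J : ι, Algebra (G J) A' := fun J =>
    (Ideal.Quotient.lift J.1 φ.toRingHom (hlift J)).toAlgebra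
  have halg : ∀ (J : ι) (q : MvPolynomial (Fin n) A),
      @algebraMap (G J) A' _ _ (alg J) (Ideal.Quotient.mk J.1 q) = φ q := by
    intro J q
    rfl
  refine ⟨ι, inferInstance, G, fun _ => inferInstance, fun _ => inferInstance, g, alg, ?_, ?_, ?_⟩
  · intro J
    letI := alg J
    refine IsScalarTower.of_algebraMap_eq (fun a => ?_)
    have h1 : algebraMap A (G J) a = Ideal.Quotient.mk J.1 (MvPolynomial.C a) := rfl
    rw [h1, halg J, ← MvPolynomial.algebraMap_eq, AlgHom.commutes]
  · refine ⟨?_, ?_, ?_, ?_, ?_, ?_, ?_⟩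
    · refine ⟨fun J J' => ⟨⟨J.1 ⊔ J'.1, Submodule.FG.sup J.2.1 J'.2.1, le_sup_of_le_left J.2.2.1,
        sup_le J.2.2.2 J'.2.2.2⟩, ?_, ?_⟩⟩
      · exact (le_sup_left : J.1 ≤ J.1 ⊔ J'.1)
      · exact (le_sup_right : J'.1 ≤ J.1 ⊔ J'.1)
    · exact ⟨⟨I₀, hI₀fg, le_rfl, hI₀I⟩⟩
    · intro J
      exact Ideal.Quotient.ringHom_ext (RingHom.ext fun q => rfl)
    · intro i j k hij hjk
      exact Ideal.Quotient.ringHom_ext (RingHom.ext fun q => rfl)
    · intro i j h
      exact Ideal.Quotient.ringHom_ext (RingHom.ext fun q => rfl)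
    · intro a
      obtain ⟨q, rfl⟩ := hφsurj a
      exact ⟨⟨I₀, hI₀fg, le_rfl, hI₀I⟩, Ideal.Quotient.mk I₀ q, rfl⟩
    · intro J x hx
      obtain ⟨q, rfl⟩ := Ideal.Quotient.mk_surjective x
      have hq : q ∈ I := by
        rw [RingHom.mem_ker]
        exact hx
      refine ⟨⟨J.1 ⊔ Ideal.span {q}, Submodule.FG.sup J.2.1 (Submodule.fg_span (Set.finite_singleton q)),
        le_sup_of_le_left J.2.2.1, sup_le J.2.2.2 ?_⟩, ?_, ?_⟩
      · rw [Ideal.span_le, Set.singleton_subset_iff]
        exact hq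
      · exact (le_sup_left : J.1 ≤ J.1 ⊔ Ideal.span {q})
      · show Ideal.Quotient.mk (J.1 ⊔ Ideal.span {q}) q = 0
        rw [Ideal.Quotient.eq_zero_iff_mem]
        exact Ideal.mem_sup_right (Ideal.subset_span rfl)
  · intro J
    constructor
    · -- finite
      have hadj : Algebra.adjoin A (Set.range fun i : Fin n =>
          (Ideal.Quotient.mk J.1 (MvPolynomial.X i) : G J)) = ⊤ := by
        have h1 : (Set.range fun i : Fin n => (Ideal.Quotient.mk J.1 (MvPolynomial.X i) : G J)) =
            (Ideal.Quotient.mkₐ A J.1) '' (Set.range (MvPolynomial.X : Fin n → MvPolynomial (Fin n) A)) := by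
          rw [← Set.range_comp]
          rfl
        rw [h1, Algebra.adjoin_image, MvPolynomial.adjoin_range_X, Algebra.map_top,
          AlgHom.range_eq_top]
        exact Ideal.Quotient.mkₐ_surjective A J.1
      have hfg := fg_adjoin_of_finite (R := A)
        (Set.finite_range fun i : Fin n => (Ideal.Quotient.mk J.1 (MvPolynomial.X i) : G J)) (by
          rintro _ ⟨i, rfl⟩
          refine ⟨p i, hpm i, ?_⟩
          have h2 : Polynomial.aeval (Ideal.Quotient.mkₐ A J.1 (MvPolynomial.X i)) (p i) =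
              Ideal.Quotient.mkₐ A J.1 (Polynomial.aeval (MvPolynomial.X i) (p i)) :=
            Polynomial.aeval_algHom_apply _ _ _
          show Polynomial.aeval (Ideal.Quotient.mkₐ A J.1 (MvPolynomial.X i)) (p i) = 0
          rw [h2]
          show Ideal.Quotient.mk J.1 (rel i) = 0
          rw [Ideal.Quotient.eq_zero_iff_mem]
          exact J.2.2.1 (Ideal.subset_span ⟨i, rfl⟩))
      rw [hadj, Algebra.top_toSubmodule] at hfg
      exact Module.finite_def.mpr hfg
    · exact Algebra.FinitePresentation.quotient J.2.1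

end Groth.Agent.S4885
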