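import Groth.Statements.S9612
import Mathlib.RingTheory.PrincipalIdealDomain
import Mathlib.RingTheory.Jacobson.Ideal
-- import your own Groth.Agent.* helpers here

set_option autoImplicit false
universe u
open CAlg

namespace Groth.Agent.S9612

theorem isJacobsonRing_int : IsJacobsonRing ℤ := by
  rw [isJacobsonRing_iff_prime_eq]
  intro P hP
  by_cases hbot : P = ⊥
  · subst hbot
    rw [eq_bot_iff]
    intro x hx
    rw [Ideal.mem_jacobson_bot] at hx
    have h1 := hx x
    rw [Int.isUnit_iff] at h1
    have hx2 : 0 ≤ x * x := mul_self_nonneg x
    rcases h1 with h1 | h1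
    · have : x * x = 0 := by omega
      have : x = 0 := by simpa using this
      simp [this]
    · omega
  · haveI : P.IsMaximal := IsPrime.to_maximal_ideal hbot
    exact Ideal.jacobson_eq_self_of_isMaximal


/-- A finite type ℤ-algebra is a Jacobson ring. -/
theorem result {S : Type u} [CommRing S] [Algebra.FiniteType ℤ S] :
    IsJacobsonRing S := by
  haveI := isJacobsonRing_int
  exact isJacobsonRing_of_finiteType (A := ℤ)

end Groth.Agent.S9612
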